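import Mathlib

set_option autoImplicit false

namespace Cfsg.Agent.Lib.Helper4

open Matrix

variable {F : Type*} [Field F]

theorem det_surjective_GL (n : ℕ) (hn : 0 < n) :
    Function.Surjective (Matrix.GeneralLinearGroup.det : GL (Fin n) F →* Fˣ) := by
  intro u
  have : NeZero n := ⟨hn.ne'⟩
  refine ⟨Matrix.GeneralLinearGroup.mkOfDetNeZero
    (Matrix.diagonal (fun i : Fin n => if i = 0 then (u : F) else 1)) ?_, ?_⟩
  · rw [Matrix.det_diagonal, Finset.prod_ite_eq' Finset.univ (0 : Fin n) (fun _ => (u : F))]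
    simp
  · apply Units.ext
    rw [Matrix.GeneralLinearGroup.val_det_apply]
    change Matrix.det (Matrix.diagonal (fun i : Fin n => if i = 0 then (u : F) else 1)) = u
    rw [Matrix.det_diagonal, Finset.prod_ite_eq' Finset.univ (0 : Fin n) (fun _ => (u : F))]
    simp

theorem ker_det_eq_range_toGL (n : ℕ) :
    (Matrix.GeneralLinearGroup.det : GL (Fin n) F →* Fˣ).ker =
      (Matrix.SpecialLinearGroup.toGL : Matrix.SpecialLinearGroup (Fin n) F →* GL (Fin n) F).range := by
  ext g
  rw [MonoidHom.mem_ker, MonoidHom.mem_range]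
  constructor
  · intro h
    have h1 : (g : Matrix (Fin n) (Fin n) F).det = 1 := by
      have := congrArg Units.val h
      simpa using this
    exact ⟨⟨g, h1⟩, Units.ext rfl⟩
  · rintro ⟨s, rfl⟩
    apply Units.ext
    rw [Matrix.GeneralLinearGroup.val_det_apply]
    exact s.2

theorem card_SL_mul [Fintype F] (n : ℕ) (hn : 0 < n) :
    Nat.card (Matrix.SpecialLinearGroup (Fin n) F) * (Fintype.card F - 1) =
      Nat.card (GL (Fin n) F) := by
  have h1 := Subgroup.card_mul_index (Matrix.GeneralLinearGroup.det : GL (Fin n) F →* Fˣ).ker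
  rw [Subgroup.index_ker, ker_det_eq_range_toGL] at h1
  have h2 : Nat.card (Matrix.SpecialLinearGroup.toGL : Matrix.SpecialLinearGroup (Fin n) F →* GL (Fin n) F).range
      = Nat.card (Matrix.SpecialLinearGroup (Fin n) F) :=
    (Nat.card_congr (MonoidHom.ofInjective Matrix.SpecialLinearGroup.toGL_injective).toEquiv).symm
  have h3 : Nat.card (Matrix.GeneralLinearGroup.det : GL (Fin n) F →* Fˣ).range = Fintype.card F - 1 := by
    rw [MonoidHom.range_eq_top.mpr (det_surjective_GL n hn), Subgroup.card_top, Nat.card_units]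
    rw [Nat.card_eq_fintype_card]
  rw [h2, h3] at h1
  exact h1

theorem card_GL2 [Fintype F] :
    Nat.card (GL (Fin 2) F) = (Fintype.card F ^ 2 - 1) * (Fintype.card F ^ 2 - Fintype.card F) := by
  rw [Matrix.card_GL_field, Fin.prod_univ_two]
  simp

theorem card_SL2 [Fintype F] :
    Nat.card (Matrix.SpecialLinearGroup (Fin 2) F) = Fintype.card F * (Fintype.card F ^ 2 - 1) := by
  have h := card_SL_mul (F := F) 2 (by norm_num)
  rw [card_GL2] at h
  have hq : 1 < Fintype.card F := Fintype.one_lt_card
  have h2 : Fintype.card F ^ 2 - Fintype.card F = Fintype.card F * (Fintype.card F - 1) := by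
    rw [Nat.mul_sub, mul_one, pow_two]
  rw [h2] at h
  have h3 : 0 < Fintype.card F - 1 := by omega
  apply Nat.eq_of_mul_eq_mul_right h3
  rw [h]; ring

end Cfsg.Agent.Lib.Helper4
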