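import Mathlib

set_option autoImplicit false

namespace Cfsg.Agent.Lib.Helper4

open scoped Nat

variable {G : Type*} [Group G] [Finite G] [IsSimpleGroup G]

omit [Finite G] in
/-- the coset action of a simple group on the cosets of a proper subgroup is faithful -/
theorem toPermHom_quotient_injective (H : Subgroup G) (hH : H ≠ ⊤) :
    Function.Injective (MulAction.toPermHom G (G ⧸ H)) := by
  rw [← MonoidHom.ker_eq_bot_iff, ← Subgroup.normalCore_eq_ker]
  rcases (H.normalCore_normal).eq_bot_or_eq_top with h | h
  · exact h
  · exfalso
    apply hH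
    rw [eq_top_iff, ← h]
    exact Subgroup.normalCore_le H

/-- In a finite simple group, the order divides `k!` for `k` the index of a proper subgroup. -/
theorem card_dvd_factorial_index (H : Subgroup G) (hH : H ≠ ⊤) :
    Nat.card G ∣ (H.index)! := by
  classical
  have hinj := toPermHom_quotient_injective H hH
  have h1 : Nat.card G = Nat.card (MulAction.toPermHom G (G ⧸ H)).range :=
    Nat.card_congr (MonoidHom.ofInjective hinj).toEquiv
  rw [h1]
  have h2 := Subgroup.card_subgroup_dvd_card (MulAction.toPermHom G (G ⧸ H)).range
  rwa [Nat.card_perm] at h2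

/-- A finite simple group with a subgroup of index `n`, of order `n!/2`, is alternating. -/
theorem iso_alternating_of_index (H : Subgroup G) (n : ℕ) (hn : H.index = n)
    (hcard : 2 * Nat.card G = n !) (hn2 : 2 ≤ n) :
    Nonempty (G ≃* alternatingGroup (Fin n)) := by
  classical
  have hH : H ≠ ⊤ := by
    intro h
    rw [h, Subgroup.index_top] at hn
    omega
  have hinj := toPermHom_quotient_injective H hH
  have hfin : Nat.card (G ⧸ H) = n := hn
  have : Finite (G ⧸ H) := inferInstance
  let e : (G ⧸ H) ≃ Fin n := Finite.equivFinOfCardEq hfin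
  let ψ : G →* Equiv.Perm (Fin n) := e.permCongrHom.toMonoidHom.comp (MulAction.toPermHom G (G ⧸ H))
  have hψ : Function.Injective ψ := fun a b hab => hinj (e.permCongrHom.injective hab)
  have hrange : Nat.card ψ.range = Nat.card G :=
    (Nat.card_congr (MonoidHom.ofInjective hψ).toEquiv).symm
  have hidx : ψ.range.index = 2 := by
    have h1 := ψ.range.card_mul_index
    rw [hrange, Nat.card_perm, Nat.card_fin, ← hcard, mul_comm] at h1
    have hpos : 0 < Nat.card G := Nat.card_pos
    exact Nat.eq_of_mul_eq_mul_right hpos h1
  have halt : ψ.range = alternatingGroup (Fin n) :=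
    Equiv.Perm.eq_alternatingGroup_of_index_eq_two hidx
  exact ⟨(MonoidHom.ofInjective hψ).trans (MulEquiv.subgroupCongr halt)⟩

end Cfsg.Agent.Lib.Helper4
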