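import Mathlib
import Cfsg.Agent.Lib.Helper4.SimpleSmall

set_option autoImplicit false

namespace Cfsg.Agent.Lib.Helper4

open scoped Nat

theorem sylow_card_of_eq {G : Type*} [Group G] [Finite G] (p k m : ℕ) [hp : Fact p.Prime]
    (hG : Nat.card G = p ^ k * m) (hm : ¬ p ∣ m) (P : Sylow p G) : Nat.card P = p ^ k := by
  rw [Sylow.card_eq_multiplicity, hG]
  have hm0 : m ≠ 0 := by
    rintro rfl
    exact hm (dvd_zero p)
  rw [Nat.factorization_mul (pow_ne_zero k hp.out.ne_zero) hm0]
  simp [hp.out.factorization_pow, Nat.factorization_eq_zero_of_not_dvd hm]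

theorem card_subtype_ne_one {H : Type*} [Group H] [Finite H] :
    Nat.card {x : H // x ≠ 1} = Nat.card H - 1 := by
  classical
  have := Fintype.ofFinite H
  rw [Nat.card_eq_fintype_card, Nat.card_eq_fintype_card, Fintype.card_subtype_compl,
    Fintype.card_subtype_eq]

/-- nonidentity elements of Sylow `p`-subgroups, under trivial pairwise intersections -/
theorem card_union_sylow_le {G : Type*} [Group G] [Finite G] (p : ℕ) [Fact p.Prime]
    (hTI : ∀ P Q : Sylow p G, P ≠ Q → (P : Subgroup G) ⊓ Q = ⊥) (c : ℕ)
    (hc : ∀ P : Sylow p G, Nat.card P = c) :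
    Nat.card (Sylow p G) * (c - 1) =
      Nat.card {x : G // x ≠ 1 ∧ ∃ P : Sylow p G, x ∈ P} := by
  classical
  have := Fintype.ofFinite (Sylow p G)
  let β : Sylow p G → Type _ := fun P => {x : (P : Subgroup G) // x ≠ 1}
  have h1 : Nat.card (Sigma β) = Nat.card (Sylow p G) * (c - 1) := by
    rw [Nat.card_sigma]
    have : ∀ P : Sylow p G, Nat.card (β P) = c - 1 := fun P => by
      rw [card_subtype_ne_one, hc P]
    simp only [this, Finset.sum_const, Finset.card_univ, smul_eq_mul, Nat.card_eq_fintype_card]
  rw [← h1]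
  let f : Sigma β → {x : G // x ≠ 1 ∧ ∃ P : Sylow p G, x ∈ P} := fun s =>
    ⟨s.2.1.1, fun h => s.2.2 (Subtype.ext h), s.1, s.2.1.2⟩
  apply Nat.card_congr
  apply Equiv.ofBijective f
  constructor
  · rintro ⟨P, ⟨x, hxP⟩, hx⟩ ⟨Q, ⟨y, hyQ⟩, hy⟩ hxy
    have hxy' : x = y := congrArg Subtype.val hxy
    subst hxy'
    have hPQ : P = Q := by
      by_contra hne
      have := hTI P Q hne
      have hmem : x ∈ (P : Subgroup G) ⊓ Q := ⟨hxP, hyQ⟩
      rw [this, Subgroup.mem_bot] at hmem
      exact hx (Subtype.ext hmem)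
    subst hPQ
    rfl
  · rintro ⟨x, hx1, P, hxP⟩
    exact ⟨⟨P, ⟨x, hxP⟩, fun h => hx1 (congrArg Subtype.val h)⟩, rfl⟩

theorem sylow_TI_of_card_prime {G : Type*} [Group G] [Finite G] (p : ℕ) [hp : Fact p.Prime]
    (hc : ∀ P : Sylow p G, Nat.card P = p) (P Q : Sylow p G) (hPQ : P ≠ Q) :
    (P : Subgroup G) ⊓ Q = ⊥ := by
  by_contra hne
  have h1 : Nat.card ((P : Subgroup G) ⊓ Q : Subgroup G) ∣ p := by
    have := Subgroup.card_dvd_of_le (inf_le_left : (P : Subgroup G) ⊓ Q ≤ P)
    rwa [hc P] at this
  rcases (Nat.dvd_prime hp.out).mp h1 with h | h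
  · exact hne (Subgroup.eq_bot_of_card_eq _ h)
  · have hP : (P : Subgroup G) ⊓ Q = P :=
      Subgroup.eq_of_le_of_card_ge inf_le_left (by rw [h, hc P])
    have hQ : (P : Subgroup G) ⊓ Q = Q :=
      Subgroup.eq_of_le_of_card_ge inf_le_right (by rw [h, hc Q])
    exact hPQ (Sylow.ext (hP.symm.trans hQ))

section sixty

variable {G : Type*} [Group G] [Finite G] [IsSimpleGroup G]

theorem five_le_index (h : Nat.card G = 60) (H : Subgroup G) (hH : H ≠ ⊤) : 5 ≤ H.index := by
  have h1 := card_dvd_factorial_index H hH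
  rw [h] at h1
  have h0 : H.index ≠ 0 := Subgroup.index_ne_zero_of_finite
  by_contra hlt
  push Not at hlt
  interval_cases hk : H.index
  · exact h0 rfl
  all_goals (revert h1; decide)

omit [Finite G] in
theorem sylow_not_normal (h : Nat.card G = 60) (p : ℕ) [Fact p.Prime] (P : Sylow p G)
    (c : ℕ) (hc : Nat.card P = c) (h1 : c ≠ 1) (h60 : c ≠ 60) :
    Subgroup.normalizer ((P : Subgroup G) : Set G) ≠ ⊤ := by
  intro htop
  have hn : (P : Subgroup G).Normal := Subgroup.normalizer_eq_top_iff.mp htop
  rcases hn.eq_bot_or_eq_top with hb | ht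
  · apply h1
    rw [← hc, hb]
    exact Subgroup.card_bot
  · apply h60
    rw [← hc, ht, Subgroup.card_top, h]

end sixty

section sixty2

variable {G : Type*} [Group G] [Finite G] [IsSimpleGroup G]

theorem exists_index_five (h : Nat.card G = 60) : ∃ H : Subgroup G, H.index = 5 := by
  classical
  have : Fact (Nat.Prime 2) := ⟨Nat.prime_two⟩
  have : Fact (Nat.Prime 5) := ⟨by norm_num⟩
  have hc2 : ∀ P : Sylow 2 G, Nat.card P = 4 := fun P => by
    have := sylow_card_of_eq 2 2 15 (by rw [h]; norm_num) (by norm_num) P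
    simpa using this
  have hc5 : ∀ P : Sylow 5 G, Nat.card P = 5 := fun P => by
    have := sylow_card_of_eq 5 1 12 (by rw [h]; norm_num) (by norm_num) P
    simpa using this
  by_contra hno
  push Not at hno
  -- n₂ = 15
  have hn2 : Nat.card (Sylow 2 G) = 15 := by
    let P : Sylow 2 G := default
    have hidx : (P : Subgroup G).index = 15 := by
      have := (P : Subgroup G).card_mul_index
      rw [hc2 P, h] at this
      omega
    have h1 : Nat.card (Sylow 2 G) = (Subgroup.normalizer ((P : Subgroup G) : Set G)).index :=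
      P.card_eq_index_normalizer
    have hNtop := sylow_not_normal h 2 P 4 (hc2 P) (by norm_num) (by norm_num)
    have h5 := five_le_index h _ hNtop
    have hdvd : Nat.card (Sylow 2 G) ∣ 15 := hidx ▸ P.card_dvd_index
    have hne5 := hno (Subgroup.normalizer ((P : Subgroup G) : Set G))
    rw [← h1] at h5 hne5
    have hmem : Nat.card (Sylow 2 G) ∈ Nat.divisors 15 := Nat.mem_divisors.mpr ⟨hdvd, by norm_num⟩
    have hdiv : Nat.divisors 15 = {1, 3, 5, 15} := by decide
    rw [hdiv] at hmem
    simp only [Finset.mem_insert, Finset.mem_singleton] at hmem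
    omega
  -- n₅ ≥ 6
  have hn5 : 6 ≤ Nat.card (Sylow 5 G) := by
    let R : Sylow 5 G := default
    have h1 : Nat.card (Sylow 5 G) = (Subgroup.normalizer ((R : Subgroup G) : Set G)).index :=
      R.card_eq_index_normalizer
    have hNtop := sylow_not_normal h 5 R 5 (hc5 R) (by norm_num) (by norm_num)
    have h5 := five_le_index h _ hNtop
    have hne5 := hno (Subgroup.normalizer ((R : Subgroup G) : Set G))
    rw [← h1] at h5 hne5
    omega
  by_cases hTI : ∀ P Q : Sylow 2 G, P ≠ Q → (P : Subgroup G) ⊓ Q = ⊥
  · -- counting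
    have hA := card_union_sylow_le 2 hTI 4 hc2
    have hB := card_union_sylow_le 5 (sylow_TI_of_card_prime 5 hc5) 5 hc5
    rw [hn2] at hA
    let A := {x : G // x ≠ 1 ∧ ∃ P : Sylow 2 G, x ∈ P}
    let B := {x : G // x ≠ 1 ∧ ∃ P : Sylow 5 G, x ∈ P}
    let f : A ⊕ B → G := Sum.elim (fun a => a.1) (fun b => b.1)
    have hf : Function.Injective f := by
      have key : ∀ (a : A) (b : B), a.1 ≠ b.1 := by
        rintro ⟨x, hx1, P, hxP⟩ ⟨y, hy1, R, hyR⟩ hxy
        change x = y at hxy
        subst hxy
        have h4 : x ^ 4 = 1 := by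
          have := pow_card_eq_one' (G := (P : Subgroup G)) (x := ⟨x, hxP⟩)
          rw [hc2 P] at this
          exact congrArg Subtype.val this
        have h5 : x ^ 5 = 1 := by
          have := pow_card_eq_one' (G := (R : Subgroup G)) (x := ⟨x, hyR⟩)
          rw [hc5 R] at this
          exact congrArg Subtype.val this
        apply hx1
        calc x = x ^ 5 * (x ^ 4)⁻¹ := by group
          _ = 1 := by rw [h4, h5]; simp
      rintro (a | b) (a' | b') hab
      · exact congrArg Sum.inl (Subtype.ext hab)
      · exact absurd hab (key a b')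
      · exact absurd hab.symm (key a' b)
      · exact congrArg Sum.inr (Subtype.ext hab)
    have hle := Nat.card_le_card_of_injective f hf
    rw [Nat.card_sum, h] at hle
    change Nat.card A + Nat.card B ≤ 60 at hle
    have hB' : 6 * (5 - 1) ≤ Nat.card B := by
      rw [← hB]
      exact Nat.mul_le_mul_right _ hn5
    have hA' : 15 * (4 - 1) = Nat.card A := hA
    omega
  · push Not at hTI
    obtain ⟨P, Q, hPQ, hne⟩ := hTI
    obtain ⟨t, ht, ht1⟩ : ∃ t ∈ (P : Subgroup G) ⊓ Q, t ≠ 1 := by
      by_contra hcon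
      push Not at hcon
      exact hne ((Subgroup.eq_bot_iff_forall _).mpr hcon)
    let C := Subgroup.centralizer ({t} : Set G)
    have hPC : (P : Subgroup G) ≤ C := by
      intro x hx
      rw [Subgroup.mem_centralizer_iff]
      intro y hy
      rw [Set.mem_singleton_iff] at hy
      subst hy
      have hcomm : IsMulCommutative (P : Subgroup G) :=
        IsPGroup.isMulCommutative_of_card_eq_prime_sq (p := 2) (by rw [hc2 P]; norm_num)
      have := hcomm.is_comm.comm (⟨y, ht.1⟩ : (P : Subgroup G)) ⟨x, hx⟩
      exact congrArg Subtype.val this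
    have hQC : (Q : Subgroup G) ≤ C := by
      intro x hx
      rw [Subgroup.mem_centralizer_iff]
      intro y hy
      rw [Set.mem_singleton_iff] at hy
      subst hy
      have hcomm : IsMulCommutative (Q : Subgroup G) :=
        IsPGroup.isMulCommutative_of_card_eq_prime_sq (p := 2) (by rw [hc2 Q]; norm_num)
      have := hcomm.is_comm.comm (⟨y, ht.2⟩ : (Q : Subgroup G)) ⟨x, hx⟩
      exact congrArg Subtype.val this
    -- card C
    have h4C : 4 ∣ Nat.card C := by
      have := Subgroup.card_dvd_of_le hPC
      rwa [hc2 P] at this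
    have hCne : Nat.card C ≠ 4 := by
      intro h4
      have hP : (P : Subgroup G) = C := Subgroup.eq_of_le_of_card_ge hPC (by rw [h4, hc2 P])
      have hQ : (Q : Subgroup G) = C := Subgroup.eq_of_le_of_card_ge hQC (by rw [h4, hc2 Q])
      exact hPQ (Sylow.ext (hP.trans hQ.symm))
    have hCidx := C.card_mul_index
    rw [h] at hCidx
    by_cases hCtop : C = ⊤
    · -- t central
      have htc : t ∈ Subgroup.center G := by
        rw [Subgroup.mem_center_iff]
        intro g
        have : g ∈ C := by rw [hCtop]; trivial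
        rw [Subgroup.mem_centralizer_iff] at this
        exact (this t rfl).symm
      rcases (inferInstance : (Subgroup.center G).Normal).eq_bot_or_eq_top with hb | htop
      · rw [hb, Subgroup.mem_bot] at htc
        exact ht1 htc
      · -- G commutative, P normal
        have hN : (P : Subgroup G).Normal := by
          constructor
          intro n hn g
          have hg : g ∈ Subgroup.center G := by rw [htop]; trivial
          rw [Subgroup.mem_center_iff] at hg
          rw [← hg n, mul_inv_cancel_right]
          exact hn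
        have := sylow_not_normal h 2 P 4 (hc2 P) (by norm_num) (by norm_num)
        exact this (Subgroup.normalizer_eq_top_iff.mpr hN)
    · have h5 := five_le_index h C hCtop
      have hne5 := hno C
      have hpos : 0 < Nat.card C := Nat.card_pos
      obtain ⟨k, hk⟩ := h4C
      rw [hk] at hCidx hCne
      have hk1 : k ≠ 1 := fun h1 => hCne (by rw [h1])
      have hk0 : k ≠ 0 := by
        rintro rfl
        simp at hCidx
      -- 4 * k * index = 60, index ≥ 5, index ≠ 5, k ≥ 2
      have : k * C.index = 15 := by nlinarith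
      have hk' : k ∣ 15 := Dvd.intro _ this
      have hmem : k ∈ Nat.divisors 15 := Nat.mem_divisors.mpr ⟨hk', by norm_num⟩
      have hdiv : Nat.divisors 15 = {1, 3, 5, 15} := by decide
      rw [hdiv] at hmem
      simp only [Finset.mem_insert, Finset.mem_singleton] at hmem
      rcases hmem with rfl | rfl | rfl | rfl
      · exact hk1 rfl
      · omega
      · omega
      · omega

end sixty2

theorem simple_sixty_iso {G : Type*} [Group G] [Finite G] [IsSimpleGroup G]
    (h : Nat.card G = 60) : Nonempty (G ≃* alternatingGroup (Fin 5)) := by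
  obtain ⟨H, hH⟩ := exists_index_five h
  exact iso_alternating_of_index H 5 hH (by rw [h]; decide) (by norm_num)

end Cfsg.Agent.Lib.Helper4
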