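import Mathlib
import Cfsg.Agent.Lib.Helper1.AODefs

/-!
# S3406 (ii-b) farm: general pieces G1, G2, G10, G3, G5a
-/

set_option autoImplicit false

open Cfsg.Agent.Lib.Helper1.AO
open scoped Pointwise

universe u

namespace Cfsg.Agent.Lib.Helper4.AO

variable {G : Type u} [Group G] [Finite G]

-- G1
theorem cz_eq (h : AT G) {x y : G} (hxy : orderOf x = orderOf y) : cz x = cz y := by
  obtain ⟨α, rfl⟩ := h x y hxy
  unfold cz
  apply Nat.card_congr
  refine (α.toEquiv).subtypeEquiv ?_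
  intro c
  rw [Subgroup.mem_centralizer_singleton_iff, Subgroup.mem_centralizer_singleton_iff]
  constructor
  · intro hc
    show α c * α x = α x * α c
    rw [← map_mul, ← map_mul, hc]
  · intro hc
    apply α.injective
    rw [map_mul, map_mul]
    exact hc

-- G2
theorem com_eq (h : AT G) (m : ℕ) {x y : G} (hxy : orderOf x = orderOf y) : com m x = com m y := by
  obtain ⟨α, rfl⟩ := h x y hxy
  unfold com
  apply Nat.card_congr
  refine (α.toEquiv).subtypeEquiv ?_
  intro c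
  show orderOf c = m ∧ c * x = x * c ↔ orderOf (α c) = m ∧ α c * α x = α x * α c
  rw [MulEquiv.orderOf_eq]
  constructor
  · rintro ⟨h1, hc⟩
    refine ⟨h1, ?_⟩
    rw [← map_mul, ← map_mul, hc]
  · rintro ⟨h1, hc⟩
    refine ⟨h1, ?_⟩
    apply α.injective
    rw [map_mul, map_mul]
    exact hc

-- G10
theorem sylow_map_aut {l : ℕ} [Fact l.Prime] (L : Sylow l G) (α : MulAut G) :
    ∃ g : G, (L : Subgroup G).map α.toMonoidHom = (L : Subgroup G).map (MulAut.conj g).toMonoidHom := by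
  obtain ⟨g, hg⟩ := MulAction.exists_smul_eq G L (α • L)
  refine ⟨g, ?_⟩
  have h1 : ((g • L : Sylow l G) : Subgroup G) = MulAut.conj g • (L : Subgroup G) :=
    Sylow.coe_subgroup_smul
  have h2 : ((α • L : Sylow l G) : Subgroup G) = α • (L : Subgroup G) := rfl
  have h3 : ((g • L : Sylow l G) : Subgroup G) = ((α • L : Sylow l G) : Subgroup G) := by rw [hg]
  rw [h1, h2] at h3
  have h4 : ∀ β : MulAut G, β • (L : Subgroup G) = (L : Subgroup G).map β.toMonoidHom := by
    intro β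
    rfl
  rw [h4, h4] at h3
  exact h3.symm

-- G3
theorem kap_eq (h : AT G) {l : ℕ} [Fact l.Prime] (L : Sylow l G) {x y : G}
    (hxy : orderOf x = orderOf y) : kap (L : Subgroup G) x = kap (L : Subgroup G) y := by
  obtain ⟨α, rfl⟩ := h x y hxy
  obtain ⟨g, hg⟩ := sylow_map_aut L α
  have hmem : ∀ z : G, z ∈ (L : Subgroup G) ↔ g⁻¹ * α z * g ∈ (L : Subgroup G) := by
    intro z
    constructor
    · intro hz
      have h1 : α z ∈ (L : Subgroup G).map α.toMonoidHom := ⟨z, hz, rfl⟩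
      rw [hg] at h1
      obtain ⟨w, hw, hwz⟩ := h1
      have : α z = g * w * g⁻¹ := by rw [← hwz]; rfl
      rw [this]
      have : g⁻¹ * (g * w * g⁻¹) * g = w := by group
      rw [this]; exact hw
    · intro hz
      have h1 : α z ∈ (L : Subgroup G).map (MulAut.conj g).toMonoidHom := by
        refine ⟨g⁻¹ * α z * g, hz, ?_⟩
        show g * (g⁻¹ * α z * g) * g⁻¹ = α z
        group
      rw [← hg] at h1
      obtain ⟨w, hw, hwz⟩ := h1
      have : w = z := α.injective hwz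
      rw [← this]; exact hw
  unfold kap
  apply Nat.card_congr
  refine ((α.toEquiv).trans (MulAut.conj g⁻¹).toEquiv).subtypeEquiv ?_
  intro z
  show z ∈ (L : Subgroup G) ∧ IsConj x z ↔
    g⁻¹ * α z * g⁻¹⁻¹ ∈ (L : Subgroup G) ∧ IsConj (α x) (g⁻¹ * α z * g⁻¹⁻¹)
  rw [inv_inv, ← hmem z]
  refine and_congr_right (fun _ => ?_)
  rw [isConj_iff, isConj_iff]
  constructor
  · rintro ⟨c, hc⟩
    refine ⟨g⁻¹ * α c, ?_⟩
    rw [← hc]
    simp only [map_mul, map_inv, mul_inv_rev, inv_inv]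
    group
  · rintro ⟨c, hc⟩
    refine ⟨α.symm (g * c), ?_⟩
    apply α.injective
    simp only [map_mul, map_inv, MulEquiv.apply_symm_apply]
    have : α z = g * (g⁻¹ * α z * g) * g⁻¹ := by group
    rw [this, ← hc]
    group

-- G5a
theorem one_le_kap {l : ℕ} [Fact l.Prime] (L : Sylow l G) (x₀ : G) (hx₀ : orderOf x₀ = l) :
    1 ≤ kap (L : Subgroup G) x₀ := by
  have hP : IsPGroup l (Subgroup.zpowers x₀) := by
    apply IsPGroup.of_card (n := 1)
    rw [Nat.card_zpowers, hx₀, pow_one]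
  obtain ⟨Q, hQ⟩ := hP.exists_le_sylow
  obtain ⟨g, hg⟩ := MulAction.exists_smul_eq G Q L
  have hx₀Q : x₀ ∈ (Q : Subgroup G) := hQ (Subgroup.mem_zpowers x₀)
  have hmem : g * x₀ * g⁻¹ ∈ (L : Subgroup G) := by
    rw [← hg, Sylow.coe_subgroup_smul]
    exact ⟨x₀, hx₀Q, rfl⟩
  unfold kap
  have : Nonempty {z : G // z ∈ (L : Subgroup G) ∧ IsConj x₀ z} :=
    ⟨⟨g * x₀ * g⁻¹, hmem, isConj_iff.mpr ⟨g, rfl⟩⟩⟩
  exact Nat.card_pos

end Cfsg.Agent.Lib.Helper4.AO
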