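import Mathlib
import Cfsg.Agent.Lib.Helper1.AODefs
import Cfsg.Agent.Lib.Helper4.AOG1

/-!
# S3406 odd farm: pieces O1, O5, O6, O7
-/

set_option autoImplicit false

open Cfsg.Agent.Lib.Helper1.AO

universe u

namespace Cfsg.Agent.Lib.Helper4.AO

variable {G : Type u} [Group G] [Finite G] {p q r : ℕ}

theorem oo_pow_eq_one {l s k : ℕ} (hl : l.Prime) (hs : s.Prime) {x : G} (h1 : orderOf x = s)
    (h2 : orderOf x = l ^ k) : x ^ l = 1 := by
  have hk : k ≠ 0 := by
    rintro rfl
    rw [pow_zero] at h2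
    rw [h2] at h1
    exact hs.one_lt.ne h1
  have hdvd : l ∣ s := by
    rw [← h1, h2]
    exact dvd_pow_self l hk
  have : l = s := (Nat.prime_dvd_prime_iff_eq hl hs).mp hdvd
  rw [this, ← h1]
  exact pow_orderOf_eq_one x

-- O1
theorem odd_exp (H : OddPQ G p q r) {l : ℕ} [Fact l.Prime] (hl : l = p ∨ l = q ∨ l = r)
    (L : Sylow l G) : ∀ x ∈ (L : Subgroup G), x ^ l = 1 := by
  intro x hx
  have hlp : l.Prime := Fact.out
  obtain ⟨k, hk⟩ := (IsPGroup.iff_orderOf.mp L.2) ⟨x, hx⟩
  rw [Subgroup.orderOf_mk] at hk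
  rcases H.spec x with h1 | h1 | h1 | h1 | h1
  · rw [orderOf_eq_one_iff] at h1
    rw [h1, one_pow]
  · exact oo_pow_eq_one hlp H.hp h1 hk
  · exact oo_pow_eq_one hlp H.hq h1 hk
  · exact oo_pow_eq_one hlp H.hr h1 hk
  · exfalso
    rw [hk] at h1
    have hpl : p ∣ l ^ k := by rw [h1]; exact dvd_mul_right p q
    have hql : q ∣ l ^ k := by rw [h1]; exact dvd_mul_left q p
    have h2 : p = l := (Nat.prime_dvd_prime_iff_eq H.hp hlp).mp (H.hp.dvd_of_dvd_pow hpl)
    have h3 : q = l := (Nat.prime_dvd_prime_iff_eq H.hq hlp).mp (H.hq.dvd_of_dvd_pow hql)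
    exact H.hpq (h2.trans h3.symm)

theorem oo_arith {p q r : ℕ} (hp : p.Prime) (hq : q.Prime) (hr : r.Prime) (hpq : p ≠ q)
    (hpr : p ≠ r) (hqr : q ≠ r) (s : ℕ) (hs : s = p ∨ s = q) :
    ¬ (r * s = 1 ∨ r * s = p ∨ r * s = q ∨ r * s = r ∨ r * s = p * q) := by
  have hp2 := hp.two_le
  have hq2 := hq.two_le
  have hr2 := hr.two_le
  rcases hs with rfl | rfl
  · rintro (h | h | h | h | h)
    · nlinarith
    · nlinarith
    · exact hpq ((Nat.prime_dvd_prime_iff_eq hp hq).mp (Dvd.intro_left r h))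
    · nlinarith
    · have : r * s = q * s := by rw [h, mul_comm]
      exact hqr (Nat.eq_of_mul_eq_mul_right hp.pos this).symm
  · rintro (h | h | h | h | h)
    · nlinarith
    · exact hpq ((Nat.prime_dvd_prime_iff_eq hq hp).mp (Dvd.intro_left r h)).symm
    · nlinarith
    · nlinarith
    · exact hpr (Nat.eq_of_mul_eq_mul_right hq.pos h).symm

-- O6
theorem odd_comm (H : OddPQ G p q r) (x : G) (hx : orderOf x = p ∨ orderOf x = q) (c : G)
    (hc : c * x = x * c) : orderOf c ∣ p * q := by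
  rcases H.spec c with h1 | h1 | h1 | h1 | h1
  · rw [h1]; exact one_dvd _
  · rw [h1]; exact dvd_mul_right p q
  · rw [h1]; exact dvd_mul_left q p
  · exfalso
    have hcop : (orderOf c).Coprime (orderOf x) := by
      rw [h1]
      rcases hx with hx | hx
      · rw [hx]; exact (Nat.coprime_primes H.hr H.hp).mpr (Ne.symm H.hpr)
      · rw [hx]; exact (Nat.coprime_primes H.hr H.hq).mpr (Ne.symm H.hqr)
    have hord : orderOf (c * x) = r * orderOf x := by
      rw [(show Commute c x from hc).orderOf_mul_eq_mul_orderOf_of_coprime hcop, h1]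
    have := H.spec (c * x)
    rw [hord] at this
    exact oo_arith H.hp H.hq H.hr H.hpq H.hpr H.hqr (orderOf x) hx this
  · rw [h1]

-- O7
theorem odd_one_le_com (H : OddPQ G p q r) :
    (∀ x : G, orderOf x = p → 1 ≤ com q x) ∧ (∀ y : G, orderOf y = q → 1 ≤ com p y) := by
  obtain ⟨w, hw⟩ := H.ex
  have hpq0 : p * q ≠ 0 := Nat.mul_ne_zero H.hp.ne_zero H.hq.ne_zero
  have h1 : orderOf (w ^ q) = p := by
    have := orderOf_pow_orderOf_div (x := w) (n := p) (by rw [hw]; exact hpq0)
      (by rw [hw]; exact dvd_mul_right p q)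
    rwa [hw, Nat.mul_div_cancel_left q H.hp.pos] at this
  have h2 : orderOf (w ^ p) = q := by
    have := orderOf_pow_orderOf_div (x := w) (n := q) (by rw [hw]; exact hpq0)
      (by rw [hw]; exact dvd_mul_left q p)
    rwa [hw, Nat.mul_div_cancel p H.hq.pos] at this
  have hcomm : w ^ p * w ^ q = w ^ q * w ^ p := by
    rw [← pow_add, ← pow_add, add_comm]
  constructor
  · intro x hx
    rw [com_eq H.aut q (hx.trans h1.symm)]
    unfold com
    have : Nonempty {y : G // orderOf y = q ∧ y * w ^ q = w ^ q * y} := ⟨⟨w ^ p, h2, hcomm⟩⟩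
    exact Nat.card_pos
  · intro y hy
    rw [com_eq H.aut p (hy.trans h2.symm)]
    unfold com
    have : Nonempty {y : G // orderOf y = p ∧ y * w ^ p = w ^ p * y} := ⟨⟨w ^ q, h1, hcomm.symm⟩⟩
    exact Nat.card_pos

-- O5
theorem odd_class_eq (H : OddPQ G p q r) :
    Nat.card G = 1 + cnt G p + cnt G q + cnt G r + cnt G (p * q) := by
  classical
  haveI : Fintype G := Fintype.ofFinite G
  have hp2 := H.hp.two_le
  have hq2 := H.hq.two_le
  have hr2 := H.hr.two_le
  have hcnt : ∀ m : ℕ, cnt G m = (Finset.univ.filter (fun x : G => orderOf x = m)).card := by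
    intro m
    unfold cnt
    rw [Nat.card_eq_fintype_card, Fintype.card_subtype]
  have hcnt1 : cnt G 1 = 1 := by
    rw [hcnt 1]
    have : Finset.univ.filter (fun x : G => orderOf x = 1) = {1} := by
      ext x
      simp [orderOf_eq_one_iff]
    rw [this, Finset.card_singleton]
  have hpq1 : p * q ≠ 1 := by nlinarith
  have hpqp : p * q ≠ p := by nlinarith
  have hpqq : p * q ≠ q := by nlinarith
  have hpqr : p * q ≠ r := by
    intro h
    exact H.hpr ((Nat.prime_dvd_prime_iff_eq H.hp H.hr).mp (Dvd.intro q h))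
  have hmem : ∀ x ∈ (Finset.univ : Finset G), orderOf x ∈ ({1, p, q, r, p * q} : Finset ℕ) := by
    intro x _
    simp only [Finset.mem_insert, Finset.mem_singleton]
    exact H.spec x
  have := Finset.card_eq_sum_card_fiberwise hmem
  rw [Nat.card_eq_fintype_card, ← Finset.card_univ, this]
  rw [Finset.sum_insert, Finset.sum_insert, Finset.sum_insert, Finset.sum_insert,
    Finset.sum_singleton, ← hcnt, ← hcnt, ← hcnt, ← hcnt, ← hcnt, hcnt1]
  · ring
  · simp only [Finset.mem_singleton]; exact fun h => hpqr h.symm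
  · simp only [Finset.mem_insert, Finset.mem_singleton]
    rintro (h | h)
    · exact H.hqr h
    · exact hpqq h.symm
  · simp only [Finset.mem_insert, Finset.mem_singleton]
    rintro (h | h | h)
    · exact H.hpq h
    · exact H.hpr h
    · exact hpqp h.symm
  · simp only [Finset.mem_insert, Finset.mem_singleton]
    rintro (h | h | h | h)
    · omega
    · omega
    · omega
    · exact hpq1 h.symm

end Cfsg.Agent.Lib.Helper4.AO
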