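import Mathlib
import Cfsg.Agent.Lib.Helper1.AODefs
import Cfsg.Agent.Lib.Helper4.AOG1

/-!
# S3406 (ii-b) farm: general piece G4 (class counting)
-/

set_option autoImplicit false

open Cfsg.Agent.Lib.Helper1.AO
open scoped Pointwise

universe u

namespace Cfsg.Agent.Lib.Helper4.AO

variable {G : Type u} [Group G] [Finite G]

theorem g4_class_card (z : G) : Nat.card {y : G // IsConj y z} * cz z = Nat.card G := by
  have e := MulAction.orbitProdStabilizerEquivGroup (ConjAct G) z
  have h1 : Nat.card (MulAction.orbit (ConjAct G) z) *
      Nat.card (MulAction.stabilizer (ConjAct G) z) = Nat.card (ConjAct G) := by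
    rw [← Nat.card_prod]; exact Nat.card_congr e
  have h2 : Nat.card (MulAction.orbit (ConjAct G) z) = Nat.card {y : G // IsConj y z} := by
    apply Nat.card_congr
    exact Equiv.subtypeEquivRight (fun y => ConjAct.mem_orbit_conjAct)
  have h3 : Nat.card (ConjAct G) = Nat.card G := rfl
  unfold cz
  rw [Subgroup.nat_card_centralizer_nat_card_stabilizer, ← h2, h1, h3]

theorem g4_orderOf_of_isConj {y z : G} (h : IsConj y z) : orderOf y = orderOf z := by
  obtain ⟨c, hc⟩ := isConj_iff.mp h
  rw [← hc]
  exact (MulEquiv.orderOf_eq (MulAut.conj c) y).symm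

-- G4
theorem count_class (h : AT G) {l : ℕ} [Fact l.Prime] (L : Sylow l G)
    (hexp : ∀ x ∈ (L : Subgroup G), x ^ l = 1) (x₀ : G) (hx₀ : orderOf x₀ = l) :
    cnt G l * kap (L : Subgroup G) x₀ * cz x₀ = (Nat.card (L : Subgroup G) - 1) * Nat.card G := by
  classical
  haveI : Fintype G := Fintype.ofFinite G
  have hl : l.Prime := Fact.out
  set s : Finset G := Finset.univ.filter (fun y => orderOf y = l) with hs
  set t : Finset G := Finset.univ.filter (fun z => z ∈ (L : Subgroup G)) with ht
  have hdc := Finset.sum_card_bipartiteAbove_eq_sum_card_bipartiteBelow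
    (fun y z : G => IsConj y z) (s := s) (t := t)
  have hL : ∑ y ∈ s, (t.bipartiteAbove (fun y z : G => IsConj y z) y).card =
      cnt G l * kap (L : Subgroup G) x₀ := by
    have hy : ∀ y ∈ s, (t.bipartiteAbove (fun y z : G => IsConj y z) y).card =
        kap (L : Subgroup G) x₀ := by
      intro y hy
      have hy' : orderOf y = l := (Finset.mem_filter.mp hy).2
      rw [kap_eq h L (hx₀.trans hy'.symm)]
      unfold kap
      rw [Nat.card_eq_fintype_card, Fintype.card_subtype]
      congr 1
      ext z
      simp [Finset.bipartiteAbove, ht]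
    rw [Finset.sum_congr rfl hy, Finset.sum_const, smul_eq_mul]
    congr 1
    unfold cnt
    rw [Nat.card_eq_fintype_card, Fintype.card_subtype]
  have hR : (∑ z ∈ t, (s.bipartiteBelow (fun y z : G => IsConj y z) z).card) * cz x₀ =
      (Nat.card (L : Subgroup G) - 1) * Nat.card G := by
    rw [Finset.sum_mul]
    have hz : ∀ z ∈ t, (s.bipartiteBelow (fun y z : G => IsConj y z) z).card * cz x₀ =
        if z = 1 then 0 else Nat.card G := by
      intro z hz
      have hzL : z ∈ (L : Subgroup G) := (Finset.mem_filter.mp hz).2
      split_ifs with hz1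
      · subst hz1
        have hempty : s.bipartiteBelow (fun y z : G => IsConj y z) 1 = ∅ := by
          ext y
          simp only [Finset.bipartiteBelow, Finset.mem_filter, hs, Finset.mem_univ, true_and,
            Finset.notMem_empty, iff_false]
          rintro ⟨hy, hconj⟩
          rw [isConj_one_left] at hconj
          rw [hconj, orderOf_one] at hy
          exact hl.one_lt.ne hy
        rw [hempty]; simp
      · have hzord : orderOf z = l := orderOf_eq_prime (hexp z hzL) hz1
        have hcz : cz z = cz x₀ := cz_eq h (hzord.trans hx₀.symm)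
        rw [← hcz, ← g4_class_card z]
        congr 1
        rw [Nat.card_eq_fintype_card, Fintype.card_subtype]
        congr 1
        ext y
        simp only [Finset.bipartiteBelow, Finset.mem_filter, hs, Finset.mem_univ, true_and]
        constructor
        · exact fun hy => hy.2
        · intro hy
          exact ⟨(g4_orderOf_of_isConj hy).trans hzord, hy⟩
    rw [Finset.sum_congr rfl hz, Finset.sum_ite, Finset.sum_const_zero, zero_add,
      Finset.sum_const, smul_eq_mul]
    congr 1
    have h1t : (1 : G) ∈ t := by
      rw [ht, Finset.mem_filter]; exact ⟨Finset.mem_univ _, Subgroup.one_mem _⟩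
    have htc : t.card = Nat.card (L : Subgroup G) := by
      rw [Nat.card_eq_fintype_card, Fintype.card_subtype]
    rw [Finset.filter_ne' t 1, Finset.card_erase_of_mem h1t, htc]
  rw [← hL, hdc, hR]

end Cfsg.Agent.Lib.Helper4.AO
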