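import Mathlib
import Cfsg.Agent.Lib.Helper1.AODefs
import Cfsg.Agent.Lib.Helper4.AOG1
import Cfsg.Agent.Lib.Helper4.AOG4
import Cfsg.Agent.Lib.Helper4.AOO1
import Cfsg.Agent.Lib.Helper6.AOG5

/-!
# S3406 odd farm: pieces O3, O4, O2
-/

set_option autoImplicit false

open Cfsg.Agent.Lib.Helper1.AO
open scoped Pointwise

universe u

namespace Cfsg.Agent.Lib.Helper4.AO

variable {G : Type u} [Group G] [Finite G] {p q r : ℕ}

/-- a nontrivial central element of a nontrivial Sylow subgroup. -/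
theorem oo_exists_central {l : ℕ} [Fact l.Prime] (L : Sylow l G) (hL : (L : Subgroup G) ≠ ⊥) :
    ∃ z ∈ (L : Subgroup G), z ≠ 1 ∧ ∀ u ∈ (L : Subgroup G), u * z = z * u := by
  haveI : Nontrivial (L : Subgroup G) := (Subgroup.nontrivial_iff_ne_bot _).mpr hL
  haveI := L.2.center_nontrivial
  obtain ⟨z', hz'⟩ := exists_ne (1 : Subgroup.center (L : Subgroup G))
  refine ⟨((z' : (L : Subgroup G)) : G), (z' : (L : Subgroup G)).2, ?_, ?_⟩
  · intro h
    apply hz'
    apply Subtype.ext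
    apply Subtype.ext
    exact h
  · intro u hu
    have := (Subgroup.mem_center_iff.mp z'.2) ⟨u, hu⟩
    exact congrArg (fun w : (L : Subgroup G) => (w : G)) this

-- O3
theorem odd_central (H : OddPQ G p q r) {l : ℕ} [Fact l.Prime] (hl : l = p ∨ l = q ∨ l = r)
    (x : G) (hx : orderOf x = l) :
    ∃ L : Sylow l G, x ∈ (L : Subgroup G) ∧ ∀ u ∈ (L : Subgroup G), u * x = x * u := by
  have hlp : l.Prime := Fact.out
  obtain ⟨L0⟩ : Nonempty (Sylow l G) := inferInstance
  have hdvd : l ∣ Nat.card G := hx ▸ orderOf_dvd_natCard x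
  have hL0 : (L0 : Subgroup G) ≠ ⊥ := L0.ne_bot_of_dvd_card hdvd
  obtain ⟨z, hzL, hz1, hzc⟩ := oo_exists_central L0 hL0
  have hzo : orderOf z = l := orderOf_eq_prime (odd_exp H hl L0 z hzL) hz1
  obtain ⟨α, hα⟩ := H.aut z x (hzo.trans hx.symm)
  obtain ⟨g, hg⟩ := sylow_map_aut L0 α
  have hcoe : ((g • L0 : Sylow l G) : Subgroup G) = (L0 : Subgroup G).map α.toMonoidHom := by
    rw [hg, Sylow.coe_subgroup_smul]
    rfl
  refine ⟨g • L0, ?_, ?_⟩
  · rw [hcoe]
    exact ⟨z, hzL, hα⟩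
  · intro u hu
    rw [hcoe] at hu
    obtain ⟨u0, hu0, rfl⟩ := hu
    rw [← hα]
    show α u0 * α z = α z * α u0
    rw [← map_mul, ← map_mul, hzc u0 hu0]

theorem oo_comm_r (H : OddPQ G p q r) (y : G) (hy : orderOf y = r) (c : G)
    (hc : c * y = y * c) : orderOf c = 1 ∨ orderOf c = r := by
  have hrpq : ¬ r ∣ p * q := by
    intro h
    rcases (Nat.Prime.dvd_mul H.hr).mp h with h | h
    · exact H.hpr ((Nat.prime_dvd_prime_iff_eq H.hr H.hp).mp h).symm
    · exact H.hqr ((Nat.prime_dvd_prime_iff_eq H.hr H.hq).mp h).symm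
  rcases H.spec c with h1 | h1 | h1 | h1 | h1
  · exact Or.inl h1
  · exfalso
    have := odd_comm H c (Or.inl h1) y hc.symm
    rw [hy] at this
    exact hrpq this
  · exfalso
    have := odd_comm H c (Or.inr h1) y hc.symm
    rw [hy] at this
    exact hrpq this
  · exact Or.inr h1
  · exfalso
    have hpq0 : p * q ≠ 0 := Nat.mul_ne_zero H.hp.ne_zero H.hq.ne_zero
    have h2 : orderOf (c ^ q) = p := by
      have := orderOf_pow_orderOf_div (x := c) (n := p) (by rw [h1]; exact hpq0)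
        (by rw [h1]; exact dvd_mul_right p q)
      rwa [h1, Nat.mul_div_cancel_left q H.hp.pos] at this
    have hc' : y * c ^ q = c ^ q * y := ((show Commute c y from hc).pow_left q).eq.symm
    have := odd_comm H (c ^ q) (Or.inl h2) y hc'
    rw [hy] at this
    exact hrpq this

-- O4
theorem odd_cz_r (H : OddPQ G p q r) [Fact r.Prime] (R : Sylow r G) (y : G) (hy : orderOf y = r) :
    cz y = Nat.card (R : Subgroup G) := by
  have hdvd : r ∣ Nat.card G := hy ▸ orderOf_dvd_natCard y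
  have hR : (R : Subgroup G) ≠ ⊥ := R.ne_bot_of_dvd_card hdvd
  obtain ⟨z, hzR, hz1, hzc⟩ := oo_exists_central R hR
  have hzo : orderOf z = r :=
    orderOf_eq_prime (odd_exp H (Or.inr (Or.inr rfl)) R z hzR) hz1
  have hPG : IsPGroup r (Subgroup.centralizer ({z} : Set G)) := by
    intro c
    have hcz : (c : G) * z = z * (c : G) := Subgroup.mem_centralizer_singleton_iff.mp c.2
    rcases oo_comm_r H z hzo c hcz with h1 | h1
    · refine ⟨0, ?_⟩
      rw [pow_zero, pow_one]
      apply Subtype.ext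
      exact orderOf_eq_one_iff.mp h1
    · refine ⟨1, ?_⟩
      rw [pow_one]
      apply Subtype.ext
      have := pow_orderOf_eq_one (c : G)
      rw [h1] at this
      exact this
  have hle : (R : Subgroup G) ≤ Subgroup.centralizer ({z} : Set G) := by
    intro u hu
    exact Subgroup.mem_centralizer_singleton_iff.mpr (hzc u hu)
  have heq : Subgroup.centralizer ({z} : Set G) = (R : Subgroup G) := R.is_maximal' hPG hle
  rw [cz_eq H.aut (hy.trans hzo.symm)]
  unfold cz
  rw [heq]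

-- O2
theorem odd_count (H : OddPQ G p q r) {l : ℕ} [Fact l.Prime] (hl : l = p ∨ l = q ∨ l = r)
    (L : Sylow l G) (x₀ : G) (hx₀ : orderOf x₀ = l) :
    cnt G l * kap (L : Subgroup G) x₀ * cz x₀ = (Nat.card (L : Subgroup G) - 1) * Nat.card G ∧
      3 ≤ kap (L : Subgroup G) x₀ :=
  ⟨count_class H.aut L (odd_exp H hl L) x₀ hx₀,
    Cfsg.Agent.Lib.Helper6.AO.three_le_kap_of_odd H.simple H.nonab H.aut H.odd L (odd_exp H hl L)
      x₀ hx₀⟩

end Cfsg.Agent.Lib.Helper4.AO
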