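import Mathlib
import Cfsg.Agent.Lib.Helper1.AODefs
import Cfsg.Agent.Lib.Helper3.AOL1a
import Cfsg.Agent.Lib.Helper6.AOL1c
import Cfsg.Agent.S0126

/-!
# S3406 odd farm: piece L1 (`stab_trivial`)
-/

set_option autoImplicit false

open Cfsg.Agent.Lib.Helper1.AO

universe u

namespace Cfsg.Agent.Lib.Helper4.AO

theorem l1_exists_orderOf {H : Type*} [Group H] [Finite H] [Nontrivial H] {l : ℕ} [Fact l.Prime]
    (hH : IsPGroup l H) : ∃ x : H, orderOf x = l := by
  obtain ⟨n, hn⟩ := hH.exists_card_eq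
  have hn0 : n ≠ 0 := by
    rintro rfl
    rw [pow_zero] at hn
    have := Finite.one_lt_card (α := H)
    omega
  exact exists_prime_orderOf_dvd_card' l (hn ▸ dvd_pow_self l hn0)

theorem l1_mem_zpowers {C : Type*} [Group C] [Finite C] [IsCyclic C] {l : ℕ} (hl : l.Prime)
    (a b : C) (ha : orderOf a = l) (hb : b ^ l = 1) : b ∈ Subgroup.zpowers a := by
  classical
  haveI := Fintype.ofFinite C
  have h1 := IsCyclic.card_pow_eq_one_le (α := C) hl.pos
  have hsub : (Finset.univ.filter (fun x : C => x ∈ Subgroup.zpowers a)) ⊆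
      Finset.univ.filter (fun x : C => x ^ l = 1) := by
    intro x hx
    simp only [Finset.mem_filter, Finset.mem_univ, true_and] at hx ⊢
    obtain ⟨n, rfl⟩ := hx
    rw [← zpow_natCast, ← zpow_mul, mul_comm, zpow_mul, zpow_natCast, ← ha, pow_orderOf_eq_one,
      one_zpow]
  have hcard : (Finset.univ.filter (fun x : C => x ∈ Subgroup.zpowers a)).card = l := by
    rw [← Fintype.card_subtype, ← Nat.card_eq_fintype_card, Nat.card_zpowers, ha]
  have heq := Finset.eq_of_subset_of_card_le hsub (by rw [hcard]; exact h1)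
  have : b ∈ Finset.univ.filter (fun x : C => x ^ l = 1) := by simp [hb]
  rw [← heq] at this
  simpa using this

-- L1
theorem stab_trivial {V : Type u} [CommGroup V] [Finite V] {l : ℕ} [Fact l.Prime] (hl2 : l ≠ 2)
    (L : Subgroup (MulAut V)) (hL : IsPGroup l L) (hVl : (Nat.card V).Coprime l) (k : ℕ)
    (hk : ∀ v : V, v ≠ 1 → Nat.card {φ : MulAut V // φ ∈ L ∧ φ v = v} = k)
    (hV : ∃ v : V, v ≠ 1) : k = 1 := by
  have hlp : l.Prime := Fact.out
  obtain ⟨v, hv⟩ := hV
  -- it suffices that the stabilizer of `v` in `L` is trivial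
  have hsuff : (∀ φ : MulAut V, φ ∈ L → φ v = v → φ = 1) → k = 1 := by
    intro hS
    rw [← hk v hv]
    haveI : Unique {φ : MulAut V // φ ∈ L ∧ φ v = v} :=
      ⟨⟨⟨1, L.one_mem, rfl⟩⟩, fun φ => Subtype.ext (hS φ.1 φ.2.1 φ.2.2)⟩
    exact Nat.card_unique
  by_cases hLbot : L = ⊥
  · apply hsuff
    intro φ hφL _
    rw [hLbot, Subgroup.mem_bot] at hφL
    exact hφL
  · haveI : Nontrivial L := (Subgroup.nontrivial_iff_ne_bot _).mpr hLbot
    haveI := hL.center_nontrivial
    have hZ : IsPGroup l (Subgroup.center L) := hL.to_subgroup _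
    obtain ⟨z', hz'⟩ := l1_exists_orderOf hZ
    have hzL : ((z' : L) : MulAut V) ∈ L := (z' : L).2
    have hzo : orderOf ((z' : L) : MulAut V) = l := by
      rw [Subgroup.orderOf_coe, Subgroup.orderOf_coe, hz']
    have hzc : ∀ φ ∈ L, φ * ((z' : L) : MulAut V) = ((z' : L) : MulAut V) * φ := by
      intro φ hφ
      have := (Subgroup.mem_center_iff.mp z'.2) ⟨φ, hφ⟩
      exact congrArg (fun w : L => (w : MulAut V)) this
    have hfix := Cfsg.Agent.Lib.Helper3.AO.stab_central L hVl k hk _ hzL hzc hzo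
    by_cases hcyc : IsCyclic L
    · apply hsuff
      intro φ hφL hφv
      by_contra hφ1
      -- the stabilizer of `v` inside `L`
      let S : Subgroup L :=
        { carrier := {ψ | (ψ : MulAut V) v = v}
          mul_mem' := by
            intro a b ha hb
            show ((a * b : L) : MulAut V) v = v
            rw [Subgroup.coe_mul, MulAut.mul_apply, hb, ha]
          one_mem' := rfl
          inv_mem' := by
            intro a ha
            show ((a⁻¹ : L) : MulAut V) v = v
            rw [Subgroup.coe_inv]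
            have : ((a : MulAut V))⁻¹ ((a : MulAut V) v) = v := by
              rw [← MulAut.mul_apply, inv_mul_cancel, MulAut.one_apply]
            rwa [ha] at this }
      haveI : Nontrivial S := by
        refine ⟨⟨⟨⟨φ, hφL⟩, hφv⟩, 1, ?_⟩⟩
        intro h
        apply hφ1
        have := congrArg (fun w : S => ((w : L) : MulAut V)) h
        exact this
      have hSp : IsPGroup l S := hL.to_subgroup _
      obtain ⟨ψ, hψ⟩ := l1_exists_orderOf hSp
      have hψo : orderOf (ψ : L) = l := by rw [Subgroup.orderOf_coe, hψ]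
      have hz'o : ((z' : L)) ^ l = 1 := by
        have := pow_orderOf_eq_one (z' : L)
        rwa [Subgroup.orderOf_coe, hz'] at this
      have hmem := l1_mem_zpowers hlp (ψ : L) (z' : L) hψo hz'o
      have hle : Subgroup.zpowers (ψ : L) ≤ S := Subgroup.zpowers_le.mpr ψ.2
      have hzS : (z' : L) ∈ S := hle hmem
      exact hfix v hv hzS
    · obtain ⟨A, hAn, ⟨hAc, hAe⟩, hAcard⟩ := Cfsg.Agent.S0126.result hl2 hL hcyc
      refine Cfsg.Agent.Lib.Helper6.AO.stab_noncyclic hl2 L hL hVl k hk ⟨v, hv⟩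
        (A.map L.subtype) ?_ ?_ ?_ ?_ ?_
      · exact Subgroup.map_subtype_le A
      · rintro φ hφ b ⟨a, ha, rfl⟩
        refine ⟨⟨φ, hφ⟩ * a * ⟨φ, hφ⟩⁻¹, hAn.conj_mem a ha ⟨φ, hφ⟩, ?_⟩
        simp
      · rintro a ⟨a', ha', rfl⟩ b ⟨b', hb', rfl⟩
        have := hAc.is_comm.comm ⟨a', ha'⟩ ⟨b', hb'⟩
        have h2 := congrArg (fun w : A => ((w : L) : MulAut V)) this
        simpa using h2
      · rintro b ⟨a, ha, rfl⟩
        have := hAe a ha
        have h2 := congrArg (fun w : L => (w : MulAut V)) this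
        simpa using h2
      · rw [Subgroup.card_map_of_injective L.subtype_injective, hAcard]

end Cfsg.Agent.Lib.Helper4.AO
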