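import Mathlib
import Cfsg.Agent.Lib.Helper1.AODefs
import Cfsg.Agent.Lib.Helper4.AOL1

/-!
# S3406 odd farm: piece L2 (equal stabilizers inside `G`)
-/

set_option autoImplicit false

open Cfsg.Agent.Lib.Helper1.AO

universe u

namespace Cfsg.Agent.Lib.Helper4.AO

/-- abstract form: a `l`-group `Q` acting on an abelian `l'`-group `V` with all point stabilizers of
nonidentity elements of the same order acts semiregularly modulo the kernel. -/
theorem l2_aux {Q : Type u} [Group Q] [Finite Q] {V : Type u} [CommGroup V] [Finite V] {l : ℕ}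
    [Fact l.Prime] (hl2 : l ≠ 2) (hQ : IsPGroup l Q) (ρ : Q →* MulAut V)
    (hVl : (Nat.card V).Coprime l) (k : ℕ)
    (hk : ∀ v : V, v ≠ 1 → Nat.card {w : Q // ρ w v = v} = k) :
    ∀ v : V, v ≠ 1 → ∀ w : Q, ρ w v = v → ρ w = 1 := by
  intro v hv1 w hwv
  -- the stabilizer subgroup of `v` in `Q`
  have key : ∀ v : V, v ≠ 1 →
      Nat.card ρ.ker * Nat.card {φ : MulAut V // φ ∈ ρ.range ∧ φ v = v} = k ∧
      (Nat.card {φ : MulAut V // φ ∈ ρ.range ∧ φ v = v} = 1 →
        ∀ w : Q, ρ w v = v → ρ w = 1) := by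
    intro v hv1
    let C : Subgroup Q :=
      { carrier := {w | ρ w v = v}
        mul_mem' := by
          intro a b ha hb
          show ρ (a * b) v = v
          rw [map_mul, MulAut.mul_apply, hb, ha]
        one_mem' := by
          show ρ 1 v = v
          rw [map_one, MulAut.one_apply]
        inv_mem' := by
          intro a ha
          show ρ a⁻¹ v = v
          rw [map_inv]
          have : (ρ a)⁻¹ (ρ a v) = v := by
            rw [← MulAut.mul_apply, inv_mul_cancel, MulAut.one_apply]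
          rwa [ha] at this }
    have hCcard : Nat.card C = k := by
      rw [← hk v hv1]
      rfl
    have hkerC : ρ.ker ≤ C := by
      intro a ha
      show ρ a v = v
      rw [MonoidHom.mem_ker.mp ha, MulAut.one_apply]
    let ρv : C →* MulAut V := ρ.comp C.subtype
    have h1 := Subgroup.card_mul_index ρv.ker
    rw [Subgroup.index_ker] at h1
    have hker : Nat.card ρv.ker = Nat.card ρ.ker := by
      have : ρv.ker = ρ.ker.subgroupOf C := by
        ext a
        simp [ρv, MonoidHom.mem_ker, Subgroup.mem_subgroupOf]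
      rw [this]
      exact Nat.card_congr (Subgroup.subgroupOfEquivOfLe hkerC).toEquiv
    have hrange : Nat.card ρv.range = Nat.card {φ : MulAut V // φ ∈ ρ.range ∧ φ v = v} := by
      apply Nat.card_congr
      refine Equiv.subtypeEquivRight ?_
      intro φ
      constructor
      · rintro ⟨a, rfl⟩
        exact ⟨⟨(a : Q), rfl⟩, a.2⟩
      · rintro ⟨⟨a, rfl⟩, ha⟩
        exact ⟨⟨a, ha⟩, rfl⟩
    constructor
    · rw [← hker, ← hrange, h1, hCcard]
    · intro hone w hw
      have hCk : Nat.card C = Nat.card ρ.ker := by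
        rw [← h1, hker, hrange, hone, mul_one]
      have heq : ρ.ker = C := Subgroup.eq_of_le_of_card_ge hkerC (le_of_eq hCk)
      have : w ∈ ρ.ker := by rw [heq]; exact hw
      exact MonoidHom.mem_ker.mp this
  -- apply the stabilizer lemma to `L = range ρ`
  have hc : 0 < Nat.card ρ.ker := Nat.card_pos
  have hL : IsPGroup l ρ.range := hQ.of_surjective ρ.rangeRestrict ρ.rangeRestrict_surjective
  have hk' : ∀ v : V, v ≠ 1 →
      Nat.card {φ : MulAut V // φ ∈ ρ.range ∧ φ v = v} = k / Nat.card ρ.ker := by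
    intro v hv1
    have := (key v hv1).1
    rw [← this, Nat.mul_div_cancel_left _ hc]
  have hone := stab_trivial hl2 ρ.range hL hVl (k / Nat.card ρ.ker) hk' ⟨v, hv1⟩
  exact (key v hv1).2 ((hk' v hv1).trans hone) w hwv

open scoped IsMulCommutative in
-- L2 (the lemma on equal stabilizers, inside `G`)
theorem stab_eq_ker {G : Type u} [Group G] [Finite G] {l : ℕ} [Fact l.Prime] (hl2 : l ≠ 2) (Q V : Subgroup G) (hQ : IsPGroup l Q)
    (hVab : ∀ a ∈ V, ∀ b ∈ V, a * b = b * a) (hVl : (Nat.card V).Coprime l)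
    (hnorm : ∀ w ∈ Q, ∀ v ∈ V, w * v * w⁻¹ ∈ V) (k : ℕ)
    (hk : ∀ v ∈ V, v ≠ 1 → Nat.card {w : G // w ∈ Q ∧ w * v = v * w} = k) :
    ∀ v ∈ V, v ≠ 1 → ∀ w ∈ Q, w * v = v * w → ∀ v' ∈ V, w * v' = v' * w := by
  intro v hvV hv1 w hwQ hwv v' hv'V
  haveI : IsMulCommutative ↥V :=
    IsMulCommutative.of_comm (fun a b => Subtype.ext (hVab a a.2 b b.2))
  have hnorm' : ∀ w ∈ Q, ∀ v ∈ V, w⁻¹ * v * w ∈ V := by
    intro w hw v hv
    have := hnorm w⁻¹ (Q.inv_mem hw) v hv
    rwa [inv_inv] at this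
  let ρ : ↥Q →* MulAut ↥V :=
    { toFun := fun w =>
        { toFun := fun x => ⟨(w : G) * x * (w : G)⁻¹, hnorm w w.2 x x.2⟩
          invFun := fun x => ⟨(w : G)⁻¹ * x * (w : G), hnorm' w w.2 x x.2⟩
          left_inv := fun x => Subtype.ext (by
            show (w : G)⁻¹ * ((w : G) * x * (w : G)⁻¹) * (w : G) = x
            group)
          right_inv := fun x => Subtype.ext (by
            show (w : G) * ((w : G)⁻¹ * x * (w : G)) * (w : G)⁻¹ = x
            group)
          map_mul' := fun x y => Subtype.ext (by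
            show (w : G) * ((x : G) * (y : G)) * (w : G)⁻¹ =
              ((w : G) * x * (w : G)⁻¹) * ((w : G) * y * (w : G)⁻¹)
            group) }
      map_one' := by
        ext x
        show ((1 : ↥Q) : G) * x * ((1 : ↥Q) : G)⁻¹ = x
        simp
      map_mul' := fun a b => by
        ext x
        show ((a * b : ↥Q) : G) * x * ((a * b : ↥Q) : G)⁻¹ =
          (a : G) * ((b : G) * x * (b : G)⁻¹) * (a : G)⁻¹
        rw [Subgroup.coe_mul]
        group }
  have hρ : ∀ (w : ↥Q) (x : ↥V), ((ρ w x : ↥V) : G) = (w : G) * x * (w : G)⁻¹ := fun _ _ => rfl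
  have hkk : ∀ x : ↥V, x ≠ 1 → Nat.card {w : ↥Q // ρ w x = x} = k := by
    intro x hx
    rw [← hk x x.2 (fun h => hx (Subtype.ext h))]
    apply Nat.card_congr
    exact
      { toFun := fun w => ⟨(w.1 : G), w.1.2, by
          have := congrArg Subtype.val w.2
          rw [hρ] at this
          exact mul_inv_eq_iff_eq_mul.mp this⟩
        invFun := fun w => ⟨⟨w.1, w.2.1⟩, Subtype.ext (by
          rw [hρ]
          exact mul_inv_eq_iff_eq_mul.mpr w.2.2)⟩
        left_inv := fun w => rfl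
        right_inv := fun w => rfl }
  have h1 := l2_aux hl2 hQ ρ hVl k hkk ⟨v, hvV⟩ (fun h => hv1 (congrArg Subtype.val h))
    ⟨w, hwQ⟩ (Subtype.ext (by rw [hρ]; exact mul_inv_eq_iff_eq_mul.mpr hwv))
  have h2 : ((ρ ⟨w, hwQ⟩ ⟨v', hv'V⟩ : ↥V) : G) = v' := by
    rw [h1]; rfl
  rw [hρ] at h2
  exact mul_inv_eq_iff_eq_mul.mp h2

end Cfsg.Agent.Lib.Helper4.AO
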