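import Mathlib

/-! Largest abelian subgroups of symmetric groups. -/

namespace Cfsg.Agent.Lib.Helper4.AbSym

/-- The maximal product function. -/
def gmax : ℕ → ℕ
  | 0 => 1
  | 1 => 1
  | 2 => 2
  | 3 => 3
  | 4 => 4
  | (n + 5) => 3 * gmax (n + 2)

theorem gmax_add_five (n : ℕ) : gmax (n + 5) = 3 * gmax (n + 2) := by
  rw [gmax]

theorem gmax_pos (n : ℕ) : 0 < gmax n := by
  induction n using Nat.strong_induction_on with
  | _ n ih =>
    match n with
    | 0 => simp [gmax]
    | 1 => simp [gmax]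
    | 2 => simp [gmax]
    | 3 => simp [gmax]
    | 4 => simp [gmax]
    | (n + 5) =>
      rw [gmax_add_five]
      have := ih (n + 2) (by omega)
      omega

theorem three_mul_le (n : ℕ) : 3 * gmax n ≤ gmax (n + 3) := by
  match n with
  | 0 => simp [gmax]
  | 1 => simp [gmax]
  | (n + 2) => rw [show n + 2 + 3 = n + 5 by ring, gmax_add_five]

theorem gmax_mono_succ (n : ℕ) : gmax n ≤ gmax (n + 1) := by
  induction n using Nat.strong_induction_on with
  | _ n ih =>
    match n with
    | 0 => simp [gmax]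
    | 1 => simp [gmax]
    | 2 => simp [gmax]
    | 3 => simp [gmax]
    | 4 => simp [gmax]
    | (n + 5) =>
      rw [show n + 5 + 1 = (n + 1) + 5 by ring, gmax_add_five, gmax_add_five]
      have := ih (n + 2) (by omega)
      rw [show n + 2 + 1 = n + 1 + 2 by ring] at this
      omega

theorem two_mul_le (n : ℕ) : 2 * gmax n ≤ gmax (n + 2) := by
  induction n using Nat.strong_induction_on with
  | _ n ih =>
    match n with
    | 0 => simp [gmax]
    | 1 => simp [gmax]
    | 2 => simp [gmax]
    | 3 => simp [gmax]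
    | 4 => simp [gmax]
    | (n + 5) =>
      rw [show n + 5 + 2 = (n + 2) + 5 by ring, gmax_add_five, gmax_add_five]
      have := ih (n + 2) (by omega)
      omega

theorem mul_gmax_le (m : ℕ) : ∀ n : ℕ, 1 ≤ m → m * gmax n ≤ gmax (n + m) := by
  induction m using Nat.strong_induction_on with
  | _ m ih =>
    intro n hm
    match m, hm with
    | 1, _ => simpa using gmax_mono_succ n
    | 2, _ => exact two_mul_le n
    | 3, _ => exact three_mul_le n
    | 4, _ =>
      have h1 := two_mul_le n
      have h2 := two_mul_le (n + 2)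
      rw [show n + 2 + 2 = n + 4 by ring] at h2
      omega
    | (m + 5), _ =>
      have h1 := ih (m + 2) (by omega) n (by omega)
      have h2 := three_mul_le (n + (m + 2))
      rw [show n + (m + 2) + 3 = n + (m + 5) by ring] at h2
      have h3 : (m + 5) * gmax n ≤ 3 * ((m + 2) * gmax n) := by
        have := gmax_pos n
        nlinarith
      omega

theorem gmax_three_mul (k : ℕ) : gmax (3 * k) = 3 ^ k := by
  induction k with
  | zero => simp [gmax]
  | succ k ih =>
    match k, ih with
    | 0, _ => simp [gmax]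
    | (k + 1), ih =>
      rw [show 3 * (k + 1 + 1) = (3 * k + 1) + 5 by ring, gmax_add_five,
        show 3 * k + 1 + 2 = 3 * (k + 1) by ring, ih]
      ring

theorem gmax_three_mul_add_one (k : ℕ) : gmax (3 * (k + 1) + 1) = 4 * 3 ^ k := by
  induction k with
  | zero => simp [gmax]
  | succ k ih =>
    rw [show 3 * (k + 1 + 1) + 1 = (3 * k + 2) + 5 by ring, gmax_add_five,
      show 3 * k + 2 + 2 = 3 * (k + 1) + 1 by ring, ih]
    ring

theorem gmax_three_mul_add_two (k : ℕ) : gmax (3 * k + 2) = 2 * 3 ^ k := by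
  induction k with
  | zero => simp [gmax]
  | succ k ih =>
    rw [show 3 * (k + 1) + 2 = 3 * k + 5 by ring, gmax_add_five, ih]
    ring

open Equiv

/-- Upper bound. -/
theorem card_le {α : Type*} [Fintype α] [DecidableEq α] :
    ∀ (n : ℕ) (T : Finset α) (A : Subgroup (Perm α)), T.card = n →
      (∀ a ∈ A, ∀ b ∈ A, a * b = b * a) → (∀ a ∈ A, ∀ y, y ∉ T → a y = y) →
      Nat.card A ≤ gmax n := by
  intro n
  induction n using Nat.strong_induction_on with
  | _ n ih =>
    intro T A hT hcomm hsupp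
    rcases T.eq_empty_or_nonempty with hTe | ⟨x, hx⟩
    · have hA : A = ⊥ := by
        rw [eq_bot_iff]
        intro a ha
        rw [Subgroup.mem_bot]
        ext y
        simpa using hsupp a ha y (by simp [hTe])
      subst hA
      have := gmax_pos n
      simp only [Subgroup.card_bot]
      omega
    · classical
      -- stabilizer as a subgroup of Perm α
      let S : Subgroup (Perm α) := (MulAction.stabilizer A x).map A.subtype
      have hSmem : ∀ b, b ∈ S ↔ b ∈ A ∧ b x = x := by
        intro b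
        constructor
        · rintro ⟨⟨c, hc⟩, hcs, rfl⟩
          refine ⟨hc, ?_⟩
          have := MulAction.mem_stabilizer_iff.mp hcs
          exact this
        · rintro ⟨hb, hbx⟩
          exact ⟨⟨b, hb⟩, MulAction.mem_stabilizer_iff.mpr hbx, rfl⟩
      have hScard : Nat.card S = Nat.card (MulAction.stabilizer A x) :=
        Subgroup.card_map_of_injective A.subtype_injective
      have horb : Nat.card (MulAction.orbit A x) * Nat.card (MulAction.stabilizer A x)
          = Nat.card A := by
        rw [← Nat.card_prod]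
        exact Nat.card_congr (MulAction.orbitProdStabilizerEquivGroup A x)
      -- the orbit as a finset
      let O : Finset α := (MulAction.orbit A x).toFinset
      have hOmem : ∀ y, y ∈ O ↔ ∃ a ∈ A, a x = y := by
        intro y
        simp only [O, Set.mem_toFinset, MulAction.mem_orbit_iff]
        constructor
        · rintro ⟨⟨a, ha⟩, rfl⟩
          exact ⟨a, ha, rfl⟩
        · rintro ⟨a, ha, rfl⟩
          exact ⟨⟨a, ha⟩, rfl⟩
      have hOT : O ⊆ T := by
        intro y hy
        obtain ⟨a, ha, rfl⟩ := (hOmem y).mp hy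
        by_contra hnot
        have h1 := hsupp a ha (a x) hnot
        have h2 : a x = x := a.injective h1
        rw [h2] at hnot
        exact hnot hx
      have hOcard : O.card = Nat.card (MulAction.orbit A x) := by
        simp only [O, Set.toFinset_card, Nat.card_eq_fintype_card]
      have hxO : x ∈ O := (hOmem x).mpr ⟨1, A.one_mem, rfl⟩
      have hOpos : 1 ≤ O.card := Finset.card_pos.mpr ⟨x, hxO⟩
      have hOle : O.card ≤ n := hT ▸ Finset.card_le_card hOT
      have hT' : (T \ O).card = n - O.card := by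
        rw [Finset.card_sdiff_of_subset hOT, hT]
      have hS := ih (n - O.card) (by omega) (T \ O) S hT'
        (fun a ha b hb => hcomm a ((hSmem a).mp ha).1 b ((hSmem b).mp hb).1)
        (by
          intro b hb y hy
          obtain ⟨hbA, hbx⟩ := (hSmem b).mp hb
          by_cases hyT : y ∈ T
          · have hyO : y ∈ O := by
              by_contra hyO
              exact hy (Finset.mem_sdiff.mpr ⟨hyT, hyO⟩)
            obtain ⟨a, ha, rfl⟩ := (hOmem y).mp hyO
            have := hcomm b hbA a ha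
            have h2 := congrArg (fun f : Perm α => f x) this
            simp only [Perm.mul_apply] at h2
            rw [h2, hbx]
          · exact hsupp b hbA y hyT)
      rw [← horb, ← hScard, ← hOcard]
      calc O.card * Nat.card S ≤ O.card * gmax (n - O.card) := Nat.mul_le_mul_left _ hS
        _ ≤ gmax (n - O.card + O.card) := mul_gmax_le _ _ hOpos
        _ = gmax n := by rw [Nat.sub_add_cancel hOle]

theorem card_le_univ {α : Type*} [Fintype α] [DecidableEq α] (A : Subgroup (Perm α))
    (hA : IsMulCommutative A) : Nat.card A ≤ gmax (Fintype.card α) := by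
  refine card_le (Fintype.card α) Finset.univ A Finset.card_univ ?_ ?_
  · intro a ha b hb
    exact congrArg Subtype.val (hA.is_comm.comm ⟨a, ha⟩ ⟨b, hb⟩)
  · intro a _ y hy
    exact absurd (Finset.mem_univ y) hy

/-- Existence of an abelian subgroup of given order. -/
def HasAb (α : Type*) (c : ℕ) : Prop :=
  ∃ A : Subgroup (Perm α), IsMulCommutative A ∧ Nat.card A = c

theorem hasAb_congr {α β : Type*} (e : α ≃ β) {c : ℕ} (h : HasAb α c) : HasAb β c := by
  obtain ⟨A, hA, hc⟩ := h
  refine ⟨A.map e.permCongrHom.toMonoidHom, ?_, ?_⟩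
  · refine ⟨⟨?_⟩⟩
    rintro ⟨_, a, ha, rfl⟩ ⟨_, b, hb, rfl⟩
    apply Subtype.ext
    simp only [Subgroup.coe_mul]
    rw [← map_mul, ← map_mul]
    congr 1
    exact congrArg Subtype.val (hA.is_comm.comm ⟨a, ha⟩ ⟨b, hb⟩)
  · rw [Subgroup.card_map_of_injective e.permCongrHom.injective, hc]

theorem hasAb_sum {α β : Type*} {a b : ℕ} (hα : HasAb α a) (hβ : HasAb β b) :
    HasAb (α ⊕ β) (a * b) := by
  obtain ⟨A, hA, ha⟩ := hα
  obtain ⟨B, hB, hb⟩ := hβ
  refine ⟨(A.prod B).map (Perm.sumCongrHom α β), ?_, ?_⟩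
  · refine ⟨⟨?_⟩⟩
    rintro ⟨_, ⟨a1, b1⟩, h1, rfl⟩ ⟨_, ⟨a2, b2⟩, h2, rfl⟩
    apply Subtype.ext
    simp only [Subgroup.coe_mul]
    rw [← map_mul, ← map_mul]
    congr 1
    rw [SetLike.mem_coe, Subgroup.mem_prod] at h1 h2
    have e1 := congrArg Subtype.val (hA.is_comm.comm ⟨a1, h1.1⟩ ⟨a2, h2.1⟩)
    have e2 := congrArg Subtype.val (hB.is_comm.comm ⟨b1, h1.2⟩ ⟨b2, h2.2⟩)
    exact Prod.ext e1 e2
  · rw [Subgroup.card_map_of_injective Perm.sumCongrHom_injective]
    rw [Nat.card_congr (Subgroup.prodEquiv A B).toEquiv, Nat.card_prod, ha, hb]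

theorem hasAb_rotate (n : ℕ) : HasAb (Fin (n + 2)) (n + 2) := by
  refine ⟨Subgroup.zpowers (finRotate (n + 2)), ?_, ?_⟩
  · infer_instance
  · rw [Nat.card_zpowers, Equiv.Perm.IsCycle.orderOf isCycle_finRotate, support_finRotate,
      Finset.card_univ, Fintype.card_fin]

theorem hasAb_zero : HasAb (Fin 0) 1 :=
  ⟨⊥, inferInstance, Subgroup.card_bot⟩

theorem hasAb_three_mul (k : ℕ) : HasAb (Fin (3 * k)) (3 ^ k) := by
  induction k with
  | zero => simpa using hasAb_zero
  | succ k ih =>
    have := hasAb_sum ih (hasAb_rotate 1)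
    have h2 := hasAb_congr finSumFinEquiv this
    rw [show 3 * (k + 1) = 3 * k + (1 + 2) by ring, pow_succ]
    exact h2

theorem hasAb_three_mul_add_two (k : ℕ) : HasAb (Fin (3 * k + 2)) (2 * 3 ^ k) := by
  have := hasAb_sum (hasAb_three_mul k) (hasAb_rotate 0)
  have h2 := hasAb_congr finSumFinEquiv this
  rw [mul_comm (3 ^ k)] at h2
  exact h2

theorem hasAb_three_mul_add_one (k : ℕ) (hk : 1 ≤ k) :
    HasAb (Fin (3 * k + 1)) (4 * 3 ^ (k - 1)) := by
  obtain ⟨j, rfl⟩ : ∃ j, k = j + 1 := ⟨k - 1, by omega⟩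
  have := hasAb_sum (hasAb_three_mul j) (hasAb_rotate 2)
  have h2 := hasAb_congr finSumFinEquiv this
  rw [show 3 * (j + 1) + 1 = 3 * j + (2 + 2) by ring, Nat.add_sub_cancel]
  rw [mul_comm (3 ^ j)] at h2
  exact h2

theorem main (k : ℕ) (hk : 1 ≤ k) :
    IsGreatest {c : ℕ | ∃ A : Subgroup (Equiv.Perm (Fin (3 * k))),
      IsMulCommutative A ∧ Nat.card A = c} (3 ^ k) ∧
    IsGreatest {c : ℕ | ∃ A : Subgroup (Equiv.Perm (Fin (3 * k + 1))),
      IsMulCommutative A ∧ Nat.card A = c} (4 * 3 ^ (k - 1)) ∧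
    IsGreatest {c : ℕ | ∃ A : Subgroup (Equiv.Perm (Fin (3 * k + 2))),
      IsMulCommutative A ∧ Nat.card A = c} (2 * 3 ^ k) := by
  refine ⟨⟨hasAb_three_mul k, ?_⟩, ⟨hasAb_three_mul_add_one k hk, ?_⟩,
    ⟨hasAb_three_mul_add_two k, ?_⟩⟩
  · rintro c ⟨A, hA, rfl⟩
    have := card_le_univ A hA
    rwa [Fintype.card_fin, gmax_three_mul] at this
  · rintro c ⟨A, hA, rfl⟩
    have := card_le_univ A hA
    obtain ⟨j, rfl⟩ : ∃ j, k = j + 1 := ⟨k - 1, by omega⟩
    rwa [Fintype.card_fin, gmax_three_mul_add_one] at this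
  · rintro c ⟨A, hA, rfl⟩
    have := card_le_univ A hA
    rwa [Fintype.card_fin, gmax_three_mul_add_two] at this

end Cfsg.Agent.Lib.Helper4.AbSym
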