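import Mathlib
import Cfsg.Agent.Lib.Helper4.AbSym

/-! Largest abelian subgroups of alternating groups. -/

namespace Cfsg.Agent.Lib.Helper4.AbAlt

open Cfsg.Agent.Lib.Helper4.AbSym

/-- The bound for alternating groups. -/
def emax : ℕ → ℕ
  | 0 => 1
  | 1 => 1
  | 2 => 1
  | 3 => 3
  | 4 => 4
  | 5 => 5
  | 6 => 9
  | 7 => 12
  | 8 => 16
  | (n + 9) => 3 * emax (n + 6)

theorem emax_add_nine (n : ℕ) : emax (n + 9) = 3 * emax (n + 6) := by
  rw [emax]

theorem gmax_add_nine (n : ℕ) : gmax (n + 9) = 3 * gmax (n + 6) := by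
  rw [show n + 9 = (n + 4) + 5 by ring, gmax_add_five]

theorem emax_pos (n : ℕ) : 0 < emax n := by
  induction n using Nat.strong_induction_on with
  | _ n ih =>
    match n with
    | 0 => simp [emax]
    | 1 => simp [emax]
    | 2 => simp [emax]
    | 3 => simp [emax]
    | 4 => simp [emax]
    | 5 => simp [emax]
    | 6 => simp [emax]
    | 7 => simp [emax]
    | 8 => simp [emax]
    | (n + 9) =>
      rw [emax_add_nine]
      have := ih (n + 6) (by omega)
      omega

theorem e_three_mul_le (n : ℕ) : 3 * emax n ≤ emax (n + 3) := by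
  match n with
  | 0 => simp [emax]
  | 1 => simp [emax]
  | 2 => simp [emax]
  | 3 => simp [emax]
  | 4 => simp [emax]
  | 5 => simp [emax]
  | (n + 6) => rw [show n + 6 + 3 = n + 9 by ring, emax_add_nine]

theorem emax_mono_succ (n : ℕ) : emax n ≤ emax (n + 1) := by
  induction n using Nat.strong_induction_on with
  | _ n ih =>
    match n with
    | 0 => simp [emax]
    | 1 => simp [emax]
    | 2 => simp [emax]
    | 3 => simp [emax]
    | 4 => simp [emax]
    | 5 => simp [emax]
    | 6 => simp [emax]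
    | 7 => simp [emax]
    | 8 => simp [emax]
    | (n + 9) =>
      rw [show n + 9 + 1 = (n + 1) + 9 by ring, emax_add_nine, emax_add_nine]
      have := ih (n + 6) (by omega)
      rw [show n + 6 + 1 = n + 1 + 6 by ring] at this
      omega

theorem e_four_mul_le (n : ℕ) : 4 * emax n ≤ emax (n + 4) := by
  induction n using Nat.strong_induction_on with
  | _ n ih =>
    match n with
    | 0 => simp [emax]
    | 1 => simp [emax]
    | 2 => simp [emax]
    | 3 => simp [emax]
    | 4 => simp [emax]
    | 5 => simp [emax]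
    | 6 => simp [emax]
    | 7 => simp [emax]
    | 8 => simp [emax]
    | (n + 9) =>
      rw [show n + 9 + 4 = (n + 4) + 9 by ring, emax_add_nine, emax_add_nine]
      have := ih (n + 6) (by omega)
      rw [show n + 6 + 4 = n + 4 + 6 by ring] at this
      omega

theorem e_five_mul_le (n : ℕ) : 5 * emax n ≤ emax (n + 5) := by
  induction n using Nat.strong_induction_on with
  | _ n ih =>
    match n with
    | 0 => simp [emax]
    | 1 => simp [emax]
    | 2 => simp [emax]
    | 3 => simp [emax]
    | 4 => simp [emax]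
    | 5 => simp [emax]
    | 6 => simp [emax]
    | 7 => simp [emax]
    | 8 => simp [emax]
    | (n + 9) =>
      rw [show n + 9 + 5 = (n + 5) + 9 by ring, emax_add_nine, emax_add_nine]
      have := ih (n + 6) (by omega)
      rw [show n + 6 + 5 = n + 5 + 6 by ring] at this
      omega

theorem mul_emax_le (m : ℕ) : ∀ n : ℕ, 1 ≤ m → m ≠ 2 → m * emax n ≤ emax (n + m) := by
  induction m using Nat.strong_induction_on with
  | _ m ih =>
    intro n hm hm2
    match m, hm, hm2 with
    | 1, _, _ => simpa using emax_mono_succ n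
    | 3, _, _ => exact e_three_mul_le n
    | 4, _, _ => exact e_four_mul_le n
    | 5, _, _ => exact e_five_mul_le n
    | (m + 6), _, _ =>
      have h1 := ih (m + 3) (by omega) n (by omega) (by omega)
      have h2 := e_three_mul_le (n + (m + 3))
      rw [show n + (m + 3) + 3 = n + (m + 6) by ring] at h2
      have h3 : (m + 6) * emax n ≤ 3 * ((m + 3) * emax n) := by
        have := emax_pos n
        nlinarith
      omega

theorem gmax_le_emax (n : ℕ) : gmax n ≤ emax (n + 2) := by
  induction n using Nat.strong_induction_on with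
  | _ n ih =>
    match n with
    | 0 => simp [emax, gmax]
    | 1 => simp [emax, gmax]
    | 2 => simp [emax, gmax]
    | 3 => simp [emax, gmax]
    | 4 => simp [emax, gmax]
    | 5 => simp [emax, gmax]
    | 6 => simp [emax, gmax]
    | 7 => simp [emax, gmax]
    | 8 => simp [emax, gmax]
    | (n + 9) =>
      rw [show n + 9 + 2 = (n + 2) + 9 by ring, emax_add_nine, gmax_add_nine]
      have := ih (n + 6) (by omega)
      rw [show n + 6 + 2 = n + 2 + 6 by ring] at this
      omega

theorem emax_three_mul (k : ℕ) : emax (3 * k) = 3 ^ k := by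
  induction k using Nat.strong_induction_on with
  | _ k ih =>
    match k with
    | 0 => simp [emax]
    | 1 => simp [emax]
    | 2 => simp [emax]
    | (k + 3) =>
      rw [show 3 * (k + 3) = 3 * k + 9 by ring, emax_add_nine,
        show 3 * k + 6 = 3 * (k + 2) by ring, ih (k + 2) (by omega)]
      ring

theorem emax_three_mul_add_one (k : ℕ) : emax (3 * (k + 1) + 1) = 4 * 3 ^ k := by
  induction k using Nat.strong_induction_on with
  | _ k ih =>
    match k with
    | 0 => simp [emax]
    | 1 => simp [emax]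
    | (k + 2) =>
      rw [show 3 * (k + 2 + 1) + 1 = (3 * k + 1) + 9 by ring, emax_add_nine,
        show 3 * k + 1 + 6 = 3 * (k + 1 + 1) + 1 by ring, ih (k + 1) (by omega)]
      ring

theorem emax_three_mul_add_two (k : ℕ) : emax (3 * (k + 2) + 2) = 16 * 3 ^ k := by
  induction k with
  | zero => simp [emax]
  | succ k ih =>
    rw [show 3 * (k + 1 + 2) + 2 = (3 * k + 2) + 9 by ring, emax_add_nine,
      show 3 * k + 2 + 6 = 3 * (k + 2) + 2 by ring, ih]
    ring

open Equiv

/-- The faithful-action trick for an orbit of size two. -/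
theorem card_le_of_orbit_two {α : Type*} [Fintype α] [DecidableEq α]
    (n : ℕ) (T : Finset α) (A : Subgroup (Perm α)) (hT : T.card = n)
    (hcomm : ∀ a ∈ A, ∀ b ∈ A, a * b = b * a) (hsupp : ∀ a ∈ A, ∀ y, y ∉ T → a y = y)
    (heven : ∀ a ∈ A, Perm.sign a = 1)
    (x y : α) (hxy : x ≠ y) (hx : x ∈ T) (hy : y ∈ T)
    (hO : ∀ a ∈ A, (a x = x ∧ a y = y) ∨ (a x = y ∧ a y = x)) :
    Nat.card A ≤ gmax (n - 2) := by
  classical
  let s : Perm α := swap x y
  have hss : s * s = 1 := swap_mul_self x y
  have hsx : s x = y := swap_apply_left x y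
  have hsy : s y = x := swap_apply_right x y
  have hscomm : ∀ a ∈ A, a * s = s * a := by
    intro a ha
    have h1 : swap (a x) (a y) = a * swap x y * a⁻¹ := Equiv.swap_apply_apply a x y
    have h2 : swap (a x) (a y) = s := by
      rcases hO a ha with ⟨h1, h2⟩ | ⟨h1, h2⟩
      · rw [h1, h2]
      · rw [h1, h2, swap_comm]
    rw [h2] at h1
    calc a * s = (a * swap x y * a⁻¹) * a := by
          change a * swap x y = _
          group
      _ = s * a := by rw [← h1]
  let ε : Perm α → Perm α := fun a => if a x = x then 1 else s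
  have hε : ∀ a, ε a = 1 ∨ ε a = s := by
    intro a
    by_cases h : a x = x
    · left; simp [ε, h]
    · right; simp [ε, h]
  have hεcomm : ∀ a, ∀ b ∈ A, ε a * b = b * ε a := by
    intro a b hb
    rcases hε a with h | h <;> rw [h]
    · simp
    · exact (hscomm b hb).symm
  have hεmul : ∀ a ∈ A, ∀ b ∈ A, ε (a * b) = ε a * ε b := by
    intro a ha b hb
    rcases hO a ha with ⟨ha1, ha2⟩ | ⟨ha1, ha2⟩ <;> rcases hO b hb with ⟨hb1, hb2⟩ | ⟨hb1, hb2⟩
    · have : (a * b) x = x := by rw [Perm.mul_apply, hb1, ha1]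
      simp [ε, this, ha1, hb1]
    · have : (a * b) x = y := by rw [Perm.mul_apply, hb1, ha2]
      simp [ε, this, ha1, hb1, hxy.symm]
    · have : (a * b) x = y := by rw [Perm.mul_apply, hb1, ha1]
      simp [ε, this, ha1, hb1, hxy.symm]
    · have : (a * b) x = x := by rw [Perm.mul_apply, hb1, ha2]
      simp [ε, this, ha1, hb1, hxy.symm, hss]
  let φ : A →* Perm α := MonoidHom.mk' (fun a => (a : Perm α) * ε a) (by
    intro a b
    simp only [Subgroup.coe_mul]
    rw [hεmul a a.2 b b.2]
    calc (a : Perm α) * b * (ε a * ε b) = a * (b * ε a) * ε b := by group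
      _ = a * (ε a * b) * ε b := by rw [hεcomm a b b.2]
      _ = a * ε a * (b * ε b) := by group)
  have hφ : ∀ a : A, φ a = (a : Perm α) * ε a := fun a => rfl
  have hinj : Function.Injective φ := by
    rw [injective_iff_map_eq_one]
    intro a ha
    rw [hφ] at ha
    rcases hε a with h | h
    · rw [h, mul_one] at ha
      exact Subtype.ext ha
    · exfalso
      rw [h] at ha
      have h1 : (a : Perm α) = s := by
        calc (a : Perm α) = a * s * s := by rw [mul_assoc, hss, mul_one]
          _ = s := by rw [ha, one_mul]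
      have h2 := heven a a.2
      rw [h1, Perm.sign_swap hxy] at h2
      exact absurd h2 (by decide)
  have hcard : Nat.card φ.range = Nat.card A :=
    (Nat.card_congr (MonoidHom.ofInjective hinj).toEquiv).symm
  have hTO : (T \ {x, y}).card = n - 2 := by
    rw [Finset.card_sdiff_of_subset, hT, Finset.card_pair hxy]
    intro z hz
    simp only [Finset.mem_insert, Finset.mem_singleton] at hz
    rcases hz with rfl | rfl
    · exact hx
    · exact hy
  have key := card_le (n - 2) (T \ {x, y}) φ.range hTO ?_ ?_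
  · rw [hcard] at key
    exact key
  · rintro _ ⟨a, rfl⟩ _ ⟨b, rfl⟩
    rw [← map_mul, ← map_mul]
    congr 1
    exact Subtype.ext (hcomm a a.2 b b.2)
  · rintro _ ⟨a, rfl⟩ z hz
    rw [hφ, Perm.mul_apply]
    by_cases hzx : z = x
    · subst hzx
      rcases hO a a.2 with ⟨h1, h2⟩ | ⟨h1, h2⟩
      · simp [ε, h1]
      · simp [ε, h1, hxy.symm, hsx, h2]
    · by_cases hzy : z = y
      · subst hzy
        rcases hO a a.2 with ⟨h1, h2⟩ | ⟨h1, h2⟩
        · simp [ε, h1, h2]
        · simp [ε, h1, hxy.symm, hsy]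
      · have hzT : z ∉ T := by
          intro hzT
          exact hz (Finset.mem_sdiff.mpr ⟨hzT, by simp [hzx, hzy]⟩)
        have hsz : s z = z := swap_apply_of_ne_of_ne hzx hzy
        rcases hε a with h | h <;> rw [h]
        · simpa using hsupp a a.2 z hzT
        · rw [hsz]
          exact hsupp a a.2 z hzT

/-- Upper bound for even abelian groups. -/
theorem card_le_alt {α : Type*} [Fintype α] [DecidableEq α] :
    ∀ (n : ℕ) (T : Finset α) (A : Subgroup (Perm α)), T.card = n →
      (∀ a ∈ A, ∀ b ∈ A, a * b = b * a) → (∀ a ∈ A, ∀ y, y ∉ T → a y = y) →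
      (∀ a ∈ A, Perm.sign a = 1) →
      Nat.card A ≤ emax n := by
  intro n
  induction n using Nat.strong_induction_on with
  | _ n ih =>
    intro T A hT hcomm hsupp heven
    rcases T.eq_empty_or_nonempty with hTe | ⟨x, hx⟩
    · have hA : A = ⊥ := by
        rw [eq_bot_iff]
        intro a ha
        rw [Subgroup.mem_bot]
        ext y
        simpa using hsupp a ha y (by simp [hTe])
      subst hA
      have := emax_pos n
      simp only [Subgroup.card_bot]
      omega
    · classical
      let S : Subgroup (Perm α) := (MulAction.stabilizer A x).map A.subtype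
      have hSmem : ∀ b, b ∈ S ↔ b ∈ A ∧ b x = x := by
        intro b
        constructor
        · rintro ⟨⟨c, hc⟩, hcs, rfl⟩
          refine ⟨hc, ?_⟩
          have := MulAction.mem_stabilizer_iff.mp hcs
          exact this
        · rintro ⟨hb, hbx⟩
          exact ⟨⟨b, hb⟩, MulAction.mem_stabilizer_iff.mpr hbx, rfl⟩
      have hScard : Nat.card S = Nat.card (MulAction.stabilizer A x) :=
        Subgroup.card_map_of_injective A.subtype_injective
      have horb : Nat.card (MulAction.orbit A x) * Nat.card (MulAction.stabilizer A x)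
          = Nat.card A := by
        rw [← Nat.card_prod]
        exact Nat.card_congr (MulAction.orbitProdStabilizerEquivGroup A x)
      let O : Finset α := (MulAction.orbit A x).toFinset
      have hOmem : ∀ y, y ∈ O ↔ ∃ a ∈ A, a x = y := by
        intro y
        simp only [O, Set.mem_toFinset, MulAction.mem_orbit_iff]
        constructor
        · rintro ⟨⟨a, ha⟩, rfl⟩
          exact ⟨a, ha, rfl⟩
        · rintro ⟨a, ha, rfl⟩
          exact ⟨⟨a, ha⟩, rfl⟩
      have hOT : O ⊆ T := by
        intro y hy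
        obtain ⟨a, ha, rfl⟩ := (hOmem y).mp hy
        by_contra hnot
        have h1 := hsupp a ha (a x) hnot
        have h2 : a x = x := a.injective h1
        rw [h2] at hnot
        exact hnot hx
      have hOcard : O.card = Nat.card (MulAction.orbit A x) := by
        simp only [O, Set.toFinset_card, Nat.card_eq_fintype_card]
      have hxO : x ∈ O := (hOmem x).mpr ⟨1, A.one_mem, rfl⟩
      have hOpos : 1 ≤ O.card := Finset.card_pos.mpr ⟨x, hxO⟩
      have hOle : O.card ≤ n := hT ▸ Finset.card_le_card hOT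
      by_cases hO2 : O.card = 2
      · -- the orbit has size two
        have hex : ∃ y, y ≠ x ∧ y ∈ O := by
          have : 1 < O.card := by omega
          obtain ⟨y, hy, hyx⟩ := Finset.exists_mem_ne this x
          exact ⟨y, hyx, hy⟩
        obtain ⟨y, hyx, hyO⟩ := hex
        have hOeq : O = {x, y} := by
          symm
          apply Finset.eq_of_subset_of_card_le
          · intro z hz
            simp only [Finset.mem_insert, Finset.mem_singleton] at hz
            rcases hz with rfl | rfl
            · exact hxO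
            · exact hyO
          · rw [hO2, Finset.card_pair hyx.symm]
        have hclosed : ∀ a ∈ A, ∀ z ∈ O, a z ∈ O := by
          intro a ha z hz
          obtain ⟨b, hb, rfl⟩ := (hOmem z).mp hz
          exact (hOmem _).mpr ⟨a * b, A.mul_mem ha hb, rfl⟩
        have hcases : ∀ a ∈ A, (a x = x ∧ a y = y) ∨ (a x = y ∧ a y = x) := by
          intro a ha
          have h1 := hclosed a ha x hxO
          have h2 := hclosed a ha y hyO
          rw [hOeq] at h1 h2
          simp only [Finset.mem_insert, Finset.mem_singleton] at h1 h2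
          have hne : a x ≠ a y := fun h => hyx (a.injective h).symm
          rcases h1 with h1 | h1 <;> rcases h2 with h2 | h2
          · exact absurd (h1.trans h2.symm) hne
          · exact Or.inl ⟨h1, h2⟩
          · exact Or.inr ⟨h1, h2⟩
          · exact absurd (h1.trans h2.symm) hne
        have h1 := card_le_of_orbit_two n T A hT hcomm hsupp heven x y hyx.symm hx (hOT hyO) hcases
        have hn2 : 2 ≤ n := by omega
        have h2 := gmax_le_emax (n - 2)
        rw [Nat.sub_add_cancel hn2] at h2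
        omega
      · have hT' : (T \ O).card = n - O.card := by
          rw [Finset.card_sdiff_of_subset hOT, hT]
        have hS := ih (n - O.card) (by omega) (T \ O) S hT'
          (fun a ha b hb => hcomm a ((hSmem a).mp ha).1 b ((hSmem b).mp hb).1)
          (by
            intro b hb y hy
            obtain ⟨hbA, hbx⟩ := (hSmem b).mp hb
            by_cases hyT : y ∈ T
            · have hyO : y ∈ O := by
                by_contra hyO
                exact hy (Finset.mem_sdiff.mpr ⟨hyT, hyO⟩)
              obtain ⟨a, ha, rfl⟩ := (hOmem y).mp hyO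
              have := hcomm b hbA a ha
              have h2 := congrArg (fun f : Perm α => f x) this
              simp only [Perm.mul_apply] at h2
              rw [h2, hbx]
            · exact hsupp b hbA y hyT)
          (fun a ha => heven a ((hSmem a).mp ha).1)
        rw [← horb, ← hScard, ← hOcard]
        calc O.card * Nat.card S ≤ O.card * emax (n - O.card) := Nat.mul_le_mul_left _ hS
          _ ≤ emax (n - O.card + O.card) := mul_emax_le _ _ hOpos hO2
          _ = emax n := by rw [Nat.sub_add_cancel hOle]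

theorem card_le_alt_univ {α : Type*} [Fintype α] [DecidableEq α]
    (A : Subgroup (alternatingGroup α))
    (hA : IsMulCommutative A) : Nat.card A ≤ emax (Fintype.card α) := by
  have h1 : Nat.card (A.map (alternatingGroup α).subtype) = Nat.card A :=
    Subgroup.card_map_of_injective (alternatingGroup α).subtype_injective
  rw [← h1]
  refine card_le_alt (Fintype.card α) Finset.univ _ Finset.card_univ ?_ ?_ ?_
  · rintro _ ⟨a, ha, rfl⟩ _ ⟨b, hb, rfl⟩
    rw [← map_mul, ← map_mul]
    congr 1
    exact congrArg Subtype.val (hA.is_comm.comm ⟨a, ha⟩ ⟨b, hb⟩)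
  · intro a _ y hy
    exact absurd (Finset.mem_univ y) hy
  · rintro _ ⟨a, _, rfl⟩
    exact Equiv.Perm.mem_alternatingGroup.mp a.2

/-- Existence of an even abelian subgroup of given order. -/
def HasAbAlt (α : Type*) [Fintype α] [DecidableEq α] (c : ℕ) : Prop :=
  ∃ A : Subgroup (Perm α), IsMulCommutative A ∧ (∀ a ∈ A, Perm.sign a = 1) ∧ Nat.card A = c

theorem hasAbAlt_congr {α β : Type*} [Fintype α] [DecidableEq α] [Fintype β] [DecidableEq β]
    (e : α ≃ β) {c : ℕ} (h : HasAbAlt α c) : HasAbAlt β c := by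
  obtain ⟨A, hA, hev, hc⟩ := h
  refine ⟨A.map e.permCongrHom.toMonoidHom, ?_, ?_, ?_⟩
  · refine ⟨⟨?_⟩⟩
    rintro ⟨_, a, ha, rfl⟩ ⟨_, b, hb, rfl⟩
    apply Subtype.ext
    simp only [Subgroup.coe_mul]
    rw [← map_mul, ← map_mul]
    congr 1
    exact congrArg Subtype.val (hA.is_comm.comm ⟨a, ha⟩ ⟨b, hb⟩)
  · rintro _ ⟨a, ha, rfl⟩
    have : e.permCongrHom.toMonoidHom a = e.permCongr a := rfl
    rw [this, Perm.sign_permCongr]
    exact hev a ha
  · rw [Subgroup.card_map_of_injective e.permCongrHom.injective, hc]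

theorem hasAbAlt_sum {α β : Type*} [Fintype α] [DecidableEq α] [Fintype β] [DecidableEq β]
    {a b : ℕ} (hα : HasAbAlt α a) (hβ : HasAbAlt β b) :
    HasAbAlt (α ⊕ β) (a * b) := by
  obtain ⟨A, hA, hAe, ha⟩ := hα
  obtain ⟨B, hB, hBe, hb⟩ := hβ
  refine ⟨(A.prod B).map (Perm.sumCongrHom α β), ?_, ?_, ?_⟩
  · refine ⟨⟨?_⟩⟩
    rintro ⟨_, ⟨a1, b1⟩, h1, rfl⟩ ⟨_, ⟨a2, b2⟩, h2, rfl⟩
    apply Subtype.ext
    simp only [Subgroup.coe_mul]
    rw [← map_mul, ← map_mul]
    congr 1
    rw [SetLike.mem_coe, Subgroup.mem_prod] at h1 h2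
    have e1 := congrArg Subtype.val (hA.is_comm.comm ⟨a1, h1.1⟩ ⟨a2, h2.1⟩)
    have e2 := congrArg Subtype.val (hB.is_comm.comm ⟨b1, h1.2⟩ ⟨b2, h2.2⟩)
    exact Prod.ext e1 e2
  · rintro _ ⟨⟨a1, b1⟩, h1, rfl⟩
    rw [SetLike.mem_coe, Subgroup.mem_prod] at h1
    have : Perm.sumCongrHom α β (a1, b1) = sumCongr a1 b1 := rfl
    rw [this, Perm.sign_sumCongr, hAe a1 h1.1, hBe b1 h1.2, one_mul]
  · rw [Subgroup.card_map_of_injective Perm.sumCongrHom_injective]
    rw [Nat.card_congr (Subgroup.prodEquiv A B).toEquiv, Nat.card_prod, ha, hb]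

theorem hasAbAlt_zero : HasAbAlt (Fin 0) 1 :=
  ⟨⊥, inferInstance, by
    intro a ha
    rw [Subgroup.mem_bot] at ha
    rw [ha, map_one], Subgroup.card_bot⟩

theorem hasAbAlt_three : HasAbAlt (Fin 3) 3 := by
  refine ⟨Subgroup.zpowers (finRotate 3), inferInstance, ?_, ?_⟩
  · rintro _ ⟨k, rfl⟩
    rw [map_zpow, sign_finRotate]
    simp
  · rw [Nat.card_zpowers, Equiv.Perm.IsCycle.orderOf (isCycle_finRotate (n := 1)),
      support_finRotate, Finset.card_univ, Fintype.card_fin]

def va : Perm (Fin 4) := swap 0 1 * swap 2 3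
def vb : Perm (Fin 4) := swap 0 2 * swap 1 3

def V4 : Subgroup (Perm (Fin 4)) where
  carrier := {σ | σ = 1 ∨ σ = va ∨ σ = vb ∨ σ = va * vb}
  one_mem' := Or.inl rfl
  mul_mem' := by
    rintro a b (rfl | rfl | rfl | rfl) (rfl | rfl | rfl | rfl) <;>
      simp only [Set.mem_ofPred_eq] <;> decide
  inv_mem' := by
    rintro a (rfl | rfl | rfl | rfl) <;> simp only [Set.mem_ofPred_eq] <;> decide

instance : DecidablePred (· ∈ V4) := fun σ => by
  change Decidable (σ = 1 ∨ σ = va ∨ σ = vb ∨ σ = va * vb)
  infer_instance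

theorem V4_card : Nat.card V4 = 4 := by
  rw [Nat.card_eq_fintype_card]
  decide

theorem V4_comm : ∀ a ∈ V4, ∀ b ∈ V4, a * b = b * a := by
  rintro a (rfl | rfl | rfl | rfl) b (rfl | rfl | rfl | rfl) <;> decide

theorem V4_even : ∀ a ∈ V4, Perm.sign a = 1 := by
  rintro a (rfl | rfl | rfl | rfl) <;> decide

theorem hasAbAlt_four : HasAbAlt (Fin 4) 4 :=
  ⟨V4, ⟨⟨fun a b => Subtype.ext (V4_comm a.1 a.2 b.1 b.2)⟩⟩, V4_even, V4_card⟩

theorem hasAbAlt_three_mul (k : ℕ) : HasAbAlt (Fin (3 * k)) (3 ^ k) := by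
  induction k with
  | zero => simpa using hasAbAlt_zero
  | succ k ih =>
    have := hasAbAlt_sum ih hasAbAlt_three
    have h2 := hasAbAlt_congr finSumFinEquiv this
    rw [show 3 * (k + 1) = 3 * k + 3 by ring, pow_succ]
    exact h2

theorem hasAbAlt_three_mul_add_one (k : ℕ) :
    HasAbAlt (Fin (3 * (k + 1) + 1)) (4 * 3 ^ k) := by
  have := hasAbAlt_sum (hasAbAlt_three_mul k) hasAbAlt_four
  have h2 := hasAbAlt_congr finSumFinEquiv this
  rw [show 3 * (k + 1) + 1 = 3 * k + 4 by ring]
  rw [mul_comm (3 ^ k)] at h2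
  exact h2

theorem hasAbAlt_three_mul_add_two (k : ℕ) :
    HasAbAlt (Fin (3 * (k + 2) + 2)) (16 * 3 ^ k) := by
  have := hasAbAlt_sum (hasAbAlt_sum (hasAbAlt_three_mul k) hasAbAlt_four) hasAbAlt_four
  have h2 := hasAbAlt_congr (Equiv.trans (Equiv.sumCongr finSumFinEquiv (Equiv.refl _))
    finSumFinEquiv) this
  rw [show 3 * (k + 2) + 2 = 3 * k + 4 + 4 by ring]
  rw [show 3 ^ k * 4 * 4 = 16 * 3 ^ k by ring] at h2
  exact h2

theorem exists_of_hasAbAlt {α : Type*} [Fintype α] [DecidableEq α] {c : ℕ}
    (h : HasAbAlt α c) :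
    ∃ A : Subgroup (alternatingGroup α), IsMulCommutative A ∧ Nat.card A = c := by
  obtain ⟨B, hB, hev, hc⟩ := h
  have hle : B ≤ alternatingGroup α := fun b hb => Equiv.Perm.mem_alternatingGroup.mpr (hev b hb)
  refine ⟨B.subgroupOf (alternatingGroup α), ?_, ?_⟩
  · refine ⟨⟨?_⟩⟩
    rintro ⟨a, ha⟩ ⟨b, hb⟩
    apply Subtype.ext
    apply Subtype.ext
    simp only [Subgroup.coe_mul]
    rw [Subgroup.mem_subgroupOf] at ha hb
    exact congrArg Subtype.val (hB.is_comm.comm ⟨a.1, ha⟩ ⟨b.1, hb⟩)
  · rw [Nat.card_congr (Subgroup.subgroupOfEquivOfLe hle).toEquiv, hc]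

theorem main (k : ℕ) (hk : 2 ≤ k) :
    IsGreatest {c : ℕ | ∃ A : Subgroup (alternatingGroup (Fin (3 * k))),
      IsMulCommutative A ∧ Nat.card A = c} (3 ^ k) ∧
    IsGreatest {c : ℕ | ∃ A : Subgroup (alternatingGroup (Fin (3 * k + 1))),
      IsMulCommutative A ∧ Nat.card A = c} (4 * 3 ^ (k - 1)) ∧
    IsGreatest {c : ℕ | ∃ A : Subgroup (alternatingGroup (Fin (3 * k + 2))),
      IsMulCommutative A ∧ Nat.card A = c} (16 * 3 ^ (k - 2)) := by
  obtain ⟨j, rfl⟩ : ∃ j, k = j + 2 := ⟨k - 2, by omega⟩
  refine ⟨⟨exists_of_hasAbAlt (hasAbAlt_three_mul _), ?_⟩,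
    ⟨?_, ?_⟩, ⟨?_, ?_⟩⟩
  · rintro c ⟨A, hA, rfl⟩
    have := card_le_alt_univ A hA
    rwa [Fintype.card_fin, emax_three_mul] at this
  · have := exists_of_hasAbAlt (hasAbAlt_three_mul_add_one (j + 1))
    simpa using this
  · rintro c ⟨A, hA, rfl⟩
    have := card_le_alt_univ A hA
    have h2 := emax_three_mul_add_one (j + 1)
    rw [show 3 * (j + 1 + 1) + 1 = 3 * (j + 2) + 1 by ring] at h2
    rw [Fintype.card_fin, h2] at this
    simpa using this
  · have := exists_of_hasAbAlt (hasAbAlt_three_mul_add_two j)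
    simpa using this
  · rintro c ⟨A, hA, rfl⟩
    have := card_le_alt_univ A hA
    rw [Fintype.card_fin, emax_three_mul_add_two] at this
    simpa using this

end Cfsg.Agent.Lib.Helper4.AbAlt
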