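import Mathlib

set_option autoImplicit false

namespace Cfsg.Agent.Lib.Helper4

open Matrix
open scoped LinearAlgebra.Projectivization MatrixGroups

variable {F : Type*} [Field F]

/-- the cross product (2×2 determinant) of two plane vectors -/
def cross (x y : Fin 2 → F) : F := x 0 * y 1 - x 1 * y 0

theorem cross_identity (u v w : Fin 2 → F) :
    cross u v • w = cross w v • u + cross u w • v := by
  funext i
  fin_cases i <;> simp [cross] <;> ring

theorem mk_eq_mk_iff_cross (x y : Fin 2 → F) (hx : x ≠ 0) (hy : y ≠ 0) :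
    Projectivization.mk F x hx = Projectivization.mk F y hy ↔ cross x y = 0 := by
  rw [Projectivization.mk_eq_mk_iff']
  constructor
  · rintro ⟨a, ha⟩
    rw [← ha]
    simp [cross]; ring
  · intro hc
    have hx' : x 0 ≠ 0 ∨ x 1 ≠ 0 := by
      by_contra hcon
      push Not at hcon
      apply hx
      funext i; fin_cases i
      · exact hcon.1
      · exact hcon.2
    have hy' : y 0 ≠ 0 ∨ y 1 ≠ 0 := by
      by_contra hcon
      push Not at hcon
      apply hy
      funext i; fin_cases i
      · exact hcon.1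
      · exact hcon.2
    unfold cross at hc
    rcases hy' with h0 | h1
    · refine ⟨x 0 / y 0, ?_⟩
      funext i; fin_cases i
      · simp; field_simp
      · simp; field_simp; linear_combination hc
    · refine ⟨x 1 / y 1, ?_⟩
      funext i; fin_cases i
      · simp; field_simp; linear_combination (-1 : F) * hc
      · simp; field_simp


/-- frame matrix for a triple of vectors -/
def frameMat (u v w : Fin 2 → F) : Matrix (Fin 2) (Fin 2) F :=
  !![cross w v * u 0, cross u w * v 0; cross w v * u 1, cross u w * v 1]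

theorem frameMat_det (u v w : Fin 2 → F) :
    (frameMat u v w).det = cross w v * cross u w * cross u v := by
  rw [frameMat, Matrix.det_fin_two_of]; simp only [cross]; ring

theorem frameMat_e1 (u v w : Fin 2 → F) : frameMat u v w *ᵥ ![1, 0] = cross w v • u := by
  funext i; fin_cases i <;> simp [frameMat, Matrix.mulVec, dotProduct, Fin.sum_univ_two]

theorem frameMat_e2 (u v w : Fin 2 → F) : frameMat u v w *ᵥ ![0, 1] = cross u w • v := by
  funext i; fin_cases i <;> simp [frameMat, Matrix.mulVec, dotProduct, Fin.sum_univ_two]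

theorem frameMat_e12 (u v w : Fin 2 → F) : frameMat u v w *ᵥ ![1, 1] = cross u v • w := by
  rw [cross_identity]
  funext i; fin_cases i <;> simp [frameMat, Matrix.mulVec, dotProduct, Fin.sum_univ_two]

theorem e1_ne : (![1, 0] : Fin 2 → F) ≠ 0 := fun h => by simpa using congrFun h 0
theorem e2_ne : (![0, 1] : Fin 2 → F) ≠ 0 := fun h => by simpa using congrFun h 1
theorem e12_ne : (![1, 1] : Fin 2 → F) ≠ 0 := fun h => by simpa using congrFun h 0

/-- the standard frame `∞, 0, 1` -/
noncomputable def stdPt (F : Type*) [Field F] : Fin 3 → ℙ F (Fin 2 → F) :=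
  ![Projectivization.mk F ![1, 0] e1_ne, Projectivization.mk F ![0, 1] e2_ne,
    Projectivization.mk F ![1, 1] e12_ne]

theorem mk_smul_eq (c : F) (_hc : c ≠ 0) (u : Fin 2 → F) (hu : u ≠ 0) (h : c • u ≠ 0) :
    Projectivization.mk F (c • u) h = Projectivization.mk F u hu := by
  rw [Projectivization.mk_eq_mk_iff']
  exact ⟨c, rfl⟩

theorem exists_frame (x : Fin 3 → ℙ F (Fin 2 → F)) (hx : Function.Injective x) :
    ∃ g : GL (Fin 2) F, ∀ i, (Matrix.ProjGenLinGroup.mk g : PGL(Fin 2, F)) • stdPt F i = x i := by
  set u := (x 0).rep with hu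
  set v := (x 1).rep with hv
  set w := (x 2).rep with hw
  have hu0 : u ≠ 0 := (x 0).rep_nonzero
  have hv0 : v ≠ 0 := (x 1).rep_nonzero
  have hw0 : w ≠ 0 := (x 2).rep_nonzero
  have hxu : Projectivization.mk F u hu0 = x 0 := Projectivization.mk_rep _
  have hxv : Projectivization.mk F v hv0 = x 1 := Projectivization.mk_rep _
  have hxw : Projectivization.mk F w hw0 = x 2 := Projectivization.mk_rep _
  have huv : cross u v ≠ 0 := by
    rw [Ne, ← mk_eq_mk_iff_cross u v hu0 hv0, hxu, hxv]
    exact fun h => by simpa using hx h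
  have hwv : cross w v ≠ 0 := by
    rw [Ne, ← mk_eq_mk_iff_cross w v hw0 hv0, hxw, hxv]
    exact fun h => by simpa using hx h
  have huw : cross u w ≠ 0 := by
    rw [Ne, ← mk_eq_mk_iff_cross u w hu0 hw0, hxu, hxw]
    exact fun h => by simpa using hx h
  have hdet : (frameMat u v w).det ≠ 0 := by
    rw [frameMat_det]
    exact mul_ne_zero (mul_ne_zero hwv huw) huv
  refine ⟨Matrix.GeneralLinearGroup.mkOfDetNeZero _ hdet, ?_⟩
  intro i
  fin_cases i
  · change (Matrix.ProjGenLinGroup.mk _ : PGL(Fin 2, F)) • Projectivization.mk F ![1, 0] e1_ne = x 0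
    rw [Projectivization.PGL.mk_smul_mk, ← hxu]
    have : (Matrix.GeneralLinearGroup.mkOfDetNeZero _ hdet : GL (Fin 2) F) • (![1, 0] : Fin 2 → F)
        = cross w v • u := frameMat_e1 u v w
    simp only [this]
    exact mk_smul_eq _ hwv u hu0 _
  · change (Matrix.ProjGenLinGroup.mk _ : PGL(Fin 2, F)) • Projectivization.mk F ![0, 1] e2_ne = x 1
    rw [Projectivization.PGL.mk_smul_mk, ← hxv]
    have : (Matrix.GeneralLinearGroup.mkOfDetNeZero _ hdet : GL (Fin 2) F) • (![0, 1] : Fin 2 → F)
        = cross u w • v := frameMat_e2 u v w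
    simp only [this]
    exact mk_smul_eq _ huw v hv0 _
  · change (Matrix.ProjGenLinGroup.mk _ : PGL(Fin 2, F)) • Projectivization.mk F ![1, 1] e12_ne = x 2
    rw [Projectivization.PGL.mk_smul_mk, ← hxw]
    have : (Matrix.GeneralLinearGroup.mkOfDetNeZero _ hdet : GL (Fin 2) F) • (![1, 1] : Fin 2 → F)
        = cross u v • w := frameMat_e12 u v w
    simp only [this]
    exact mk_smul_eq _ huv w hw0 _

theorem pgl_three_transitive :
    MulAction.IsMultiplyPretransitive (Matrix.ProjGenLinGroup (Fin 2) F) (ℙ F (Fin 2 → F)) 3 := by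
  refine ⟨fun x y => ?_⟩
  obtain ⟨g, hg⟩ := exists_frame (F := F) x x.injective
  obtain ⟨h, hh⟩ := exists_frame (F := F) y y.injective
  refine ⟨Matrix.ProjGenLinGroup.mk h * (Matrix.ProjGenLinGroup.mk g)⁻¹, ?_⟩
  ext i
  rw [Function.Embedding.smul_apply, ← hg i, mul_smul, inv_smul_smul, hh i]

/-- a matrix fixing three distinct points of the projective line is scalar -/
theorem scalar_of_fix_three (A : GL (Fin 2) F) (u v w : Fin 2 → F)
    (huv : cross u v ≠ 0) (hwv : cross w v ≠ 0) (huw : cross u w ≠ 0)
    (lam mu nu : F) (hu : (A : Matrix (Fin 2) (Fin 2) F) *ᵥ u = lam • u)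
    (hv : (A : Matrix (Fin 2) (Fin 2) F) *ᵥ v = mu • v)
    (hw : (A : Matrix (Fin 2) (Fin 2) F) *ᵥ w = nu • w) :
    (A : Matrix (Fin 2) (Fin 2) F) = Matrix.scalar (Fin 2) lam := by
  -- compare the two expansions of `A (cross u v • w)`
  have h1 : (A : Matrix (Fin 2) (Fin 2) F) *ᵥ (cross u v • w) =
      (cross w v * lam) • u + (cross u w * mu) • v := by
    rw [cross_identity, Matrix.mulVec_add, Matrix.mulVec_smul, Matrix.mulVec_smul, hu, hv,
      smul_smul, smul_smul]
  have h2 : (A : Matrix (Fin 2) (Fin 2) F) *ᵥ (cross u v • w) =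
      (cross w v * nu) • u + (cross u w * nu) • v := by
    rw [Matrix.mulVec_smul, hw, smul_comm, cross_identity, smul_add, smul_smul, smul_smul,
      mul_comm nu, mul_comm nu]
  have h3 : (cross w v * (lam - nu)) • u + (cross u w * (mu - nu)) • v = 0 := by
    have := h1.symm.trans h2
    rw [mul_sub, mul_sub, sub_smul, sub_smul]
    rw [← sub_eq_zero] at this
    rw [← this]; abel
  have e0 := congrFun h3 0
  have e1 := congrFun h3 1
  simp only [Pi.add_apply, Pi.smul_apply, smul_eq_mul, Pi.zero_apply] at e0 e1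
  have hl : cross w v * (lam - nu) = 0 := by
    have : (cross w v * (lam - nu)) * cross u v = 0 := by
      unfold cross at *
      linear_combination (v 1) * e0 - (v 0) * e1
    rcases mul_eq_zero.mp this with h | h
    · exact h
    · exact absurd h huv
  have hm : cross u w * (mu - nu) = 0 := by
    have : (cross u w * (mu - nu)) * cross u v = 0 := by
      unfold cross at *
      linear_combination (u 0) * e1 - (u 1) * e0
    rcases mul_eq_zero.mp this with h | h
    · exact h
    · exact absurd h huv
  have hln : lam = nu := by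
    rcases mul_eq_zero.mp hl with h | h
    · exact absurd h hwv
    · linear_combination h
  have hmn : mu = nu := by
    rcases mul_eq_zero.mp hm with h | h
    · exact absurd h huw
    · linear_combination h
  rw [hmn, ← hln] at hv
  -- now `A u = lam u`, `A v = lam v`
  have a0 := congrFun hu 0
  have a1 := congrFun hu 1
  have b0 := congrFun hv 0
  have b1 := congrFun hv 1
  simp only [Matrix.mulVec, dotProduct, Fin.sum_univ_two, Pi.smul_apply, smul_eq_mul] at a0 a1 b0 b1
  have hc : cross u v ≠ 0 := huv
  unfold cross at hc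
  ext i j
  fin_cases i <;> fin_cases j
  · simp
    have : ((A : Matrix (Fin 2) (Fin 2) F) 0 0 - lam) * (u 0 * v 1 - u 1 * v 0) = 0 := by
      linear_combination (v 1) * a0 - (u 1) * b0
    rcases mul_eq_zero.mp this with h | h
    · linear_combination h
    · exact absurd h hc
  · simp
    have : ((A : Matrix (Fin 2) (Fin 2) F) 0 1) * (u 0 * v 1 - u 1 * v 0) = 0 := by
      linear_combination (u 0) * b0 - (v 0) * a0
    rcases mul_eq_zero.mp this with h | h
    · exact h
    · exact absurd h hc
  · simp
    have : ((A : Matrix (Fin 2) (Fin 2) F) 1 0) * (u 0 * v 1 - u 1 * v 0) = 0 := by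
      linear_combination (v 1) * a1 - (u 1) * b1
    rcases mul_eq_zero.mp this with h | h
    · exact h
    · exact absurd h hc
  · simp
    have : ((A : Matrix (Fin 2) (Fin 2) F) 1 1 - lam) * (u 0 * v 1 - u 1 * v 0) = 0 := by
      linear_combination (u 0) * b1 - (v 0) * a1
    rcases mul_eq_zero.mp this with h | h
    · linear_combination h
    · exact absurd h hc

theorem pgl_sharp (g : Matrix.ProjGenLinGroup (Fin 2) F) (a b c : ℙ F (Fin 2 → F))
    (hab : a ≠ b) (hac : a ≠ c) (hbc : b ≠ c) (ha : g • a = a) (hb : g • b = b) (hc : g • c = c) :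
    g = 1 := by
  induction g using Matrix.ProjGenLinGroup.induction_on with | mk A =>
  induction a using Projectivization.ind with | _ u hu =>
  induction b using Projectivization.ind with | _ v hv =>
  induction c using Projectivization.ind with | _ w hw =>
  rw [Projectivization.PGL.mk_smul_mk, Projectivization.mk_eq_mk_iff'] at ha hb hc
  obtain ⟨lam, hlam⟩ := ha
  obtain ⟨mu, hmu⟩ := hb
  obtain ⟨nu, hnu⟩ := hc
  have huv : cross u v ≠ 0 := by
    rw [Ne, ← mk_eq_mk_iff_cross u v hu hv]; exact hab
  have huw : cross u w ≠ 0 := by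
    rw [Ne, ← mk_eq_mk_iff_cross u w hu hw]; exact hac
  have hwv : cross w v ≠ 0 := by
    rw [Ne, ← mk_eq_mk_iff_cross w v hw hv]; exact fun h => hbc h.symm
  have hs := scalar_of_fix_three A u v w huv hwv huw lam mu nu hlam.symm hmu.symm hnu.symm
  rw [Matrix.ProjGenLinGroup.mk_eq_one,
    Matrix.GeneralLinearGroup.mem_center_iff_val_mem_range_scalar]
  exact ⟨lam, hs.symm⟩

end Cfsg.Agent.Lib.Helper4
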