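import Cfsg.Agent.Lib.Helper4.HP2
import Cfsg.Agent.Lib.Helper1.ThreeSubgroups
import Cfsg.Agent.Lib.Helper1.Reg2

/-! Lower central series filtration; groups of class `< p` are regular. -/
set_option autoImplicit false
universe u
open scoped commutatorElement

namespace Cfsg.Agent.Lib.Helper4.HP

theorem lcs_comm_top (X : Type u) [Group X] : ∀ n m : ℕ,
    ⁅(⊤ : Subgroup X).lowerCentralSeries m, (⊤ : Subgroup X).lowerCentralSeries n⁆ ≤
      (⊤ : Subgroup X).lowerCentralSeries (m + n + 1) := by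
  intro n
  induction n with
  | zero => intro m; exact le_of_eq rfl
  | succ n ih =>
    intro m
    rw [Subgroup.lowerCentralSeries_succ, Subgroup.commutator_comm]
    apply Cfsg.Agent.Lib.Helper1.commutator_commutator_le_of_rotate_normal _ ⊤
      ((⊤ : Subgroup X).lowerCentralSeries m) ((⊤ : Subgroup X).lowerCentralSeries n)
    · rw [Subgroup.commutator_comm ⊤, ← Subgroup.lowerCentralSeries_succ]
      have := ih (m + 1)
      rwa [show m + 1 + n + 1 = m + (n + 1) + 1 by omega] at this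
    · have := Subgroup.commutator_mono (ih m) (le_refl (⊤ : Subgroup X))
      rwa [← Subgroup.lowerCentralSeries_succ] at this

variable {G : Type u} [Group G]

theorem lcs_comm (H : Subgroup G) (m n : ℕ) :
    ⁅H.lowerCentralSeries m, H.lowerCentralSeries n⁆ ≤ H.lowerCentralSeries (m + n + 1) := by
  rw [← Subgroup.top_subtype_lowerCentralSeries H m, ← Subgroup.top_subtype_lowerCentralSeries H n,
    ← Subgroup.top_subtype_lowerCentralSeries H (m + n + 1), ← Subgroup.map_commutator]
  exact Subgroup.map_mono (lcs_comm_top H n m)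

/-- the filtration `H, H, γ₂(H), γ₃(H), …`. -/
def lcsF (H : Subgroup G) : ℕ → Subgroup G
  | 0 => H
  | i + 1 => H.lowerCentralSeries i

theorem lcsF_filt (H : Subgroup G) : Filt (lcsF H) := by
  constructor
  · apply antitone_nat_of_succ_le
    intro n
    cases n with
    | zero => exact le_refl _
    | succ n => exact H.lowerCentralSeries_antitone (Nat.le_succ n)
  · intro i j
    cases i with
    | zero =>
      cases j with
      | zero => exact Subgroup.commutator_le_self H
      | succ j =>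
        rw [zero_add]
        show ⁅H, H.lowerCentralSeries j⁆ ≤ H.lowerCentralSeries j
        rw [Subgroup.commutator_comm, ← Subgroup.lowerCentralSeries_succ]
        exact H.lowerCentralSeries_antitone (Nat.le_succ j)
    | succ i =>
      cases j with
      | zero =>
        show ⁅H.lowerCentralSeries i, H⁆ ≤ H.lowerCentralSeries i
        rw [← Subgroup.lowerCentralSeries_succ]
        exact H.lowerCentralSeries_antitone (Nat.le_succ i)
      | succ j =>
        rw [show i + 1 + (j + 1) = (i + j + 1) + 1 by omega]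
        exact lcs_comm H i j

theorem tay_mem_powerClosure (p : ℕ) [hp : Fact p.Prime] (L : Subgroup G) (c : ℕ → G)
    (h0 : c 0 = 1) (hc : ∀ j, 1 ≤ j → c j ∈ L) :
    ∀ k, k ≤ p → tay c k p ∈ Cfsg.powerClosure p 1 L := by
  intro k
  induction k with
  | zero => intro _; exact one_mem _
  | succ k ih =>
    intro hk
    rw [tay]
    refine mul_mem (ih (Nat.le_of_succ_le hk)) ?_
    rcases Nat.eq_zero_or_pos k with h | h
    · subst h; rw [h0, one_pow]; exact one_mem _
    · obtain ⟨t, ht⟩ := Nat.Prime.dvd_choose_self hp.out (Nat.ne_of_gt h) hk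
      rw [ht, pow_mul']
      exact Subgroup.subset_closure ⟨c k ^ t, pow_mem (hc k h) t, by rw [pow_one]⟩

theorem lcs_top_of_commutator_eq_top (h : ⁅(⊤ : Subgroup G), (⊤ : Subgroup G)⁆ = ⊤) (n : ℕ) :
    (⊤ : Subgroup G).lowerCentralSeries n = ⊤ := by
  induction n with
  | zero => rfl
  | succ n ih => rw [Subgroup.lowerCentralSeries_succ, ih, h]

theorem class_lt_aux (p : ℕ) [hp : Fact p.Prime] : ∀ (m : ℕ) (G : Type u) [Group G] [Finite G],
    Nat.card G = m → IsPGroup p G → (⊤ : Subgroup G).lowerCentralSeries (p - 1) = ⊥ →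
    Cfsg.IsRegularPGroup p G := by
  intro m
  induction m using Nat.strong_induction_on with
  | _ m ih =>
  intro G _ _ hcard hG hcl
  apply Cfsg.Agent.Lib.Helper1.Reg.regular_of_WR hG
  intro a b
  by_cases htriv : Subsingleton G
  · refine ⟨1, one_mem _, ?_⟩
    rw [Subsingleton.elim a 1, Subsingleton.elim b 1]; simp
  obtain ⟨H, hH⟩ : ∃ H : Subgroup G, H = Subgroup.closure ({a, b} : Set G) := ⟨_, rfl⟩
  rw [← hH]
  have haH : a ∈ H := hH ▸ Subgroup.subset_closure (by simp)
  have hbH : b ∈ H := hH ▸ Subgroup.subset_closure (by simp)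
  obtain ⟨K, hK⟩ : ∃ K, p = K + 2 := ⟨p - 2, by have := hp.out.two_le; omega⟩
  have hbot : lcsF H (K + 2) = ⊥ := by
    show H.lowerCentralSeries (K + 1) = ⊥
    rw [eq_bot_iff, ← hcl, hK]
    exact Subgroup.lowerCentralSeries_mono (K + 1) le_top
  obtain ⟨c, hc, hc0, hc1, hHP⟩ := hall_petrescu (lcsF_filt H) K hbot a b haH hbH
  have hcL : ∀ j, 1 ≤ j → c j ∈ ⁅H, H⁆ := by
    intro j hj
    rcases Nat.lt_or_ge j 2 with h | h
    · have : j = 1 := by omega
      subst this; rw [hc1]; exact one_mem _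
    · obtain ⟨j', rfl⟩ : ∃ j', j = j' + 2 := ⟨j - 2, by omega⟩
      have h1 : c (j' + 2) ∈ H.lowerCentralSeries (j' + 1) := hc (j' + 2)
      have h2 := H.lowerCentralSeries_antitone (show 1 ≤ j' + 1 by omega) h1
      exact h2
  have hW : tay c (K + 2) p ∈ Cfsg.powerClosure p 1 ⁅H, H⁆ :=
    tay_mem_powerClosure p _ c hc0 hcL (K + 2) (le_of_eq hK.symm)
  have hne : (⁅H, H⁆ : Subgroup G) ≠ ⊤ := by
    intro h
    have h1 : ⁅(⊤ : Subgroup G), (⊤ : Subgroup G)⁆ = ⊤ :=
      top_le_iff.mp (by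
        have h3 : (⁅H, H⁆ : Subgroup G) ≤ ⁅(⊤ : Subgroup G), (⊤ : Subgroup G)⁆ :=
          Subgroup.commutator_mono le_top le_top
        rwa [h] at h3)
    have h2 := lcs_top_of_commutator_eq_top h1 (p - 1)
    rw [hcl] at h2
    exact htriv (Subgroup.subsingleton_iff.mp (subsingleton_of_bot_eq_top h2))
  have hlt : Nat.card (⁅H, H⁆ : Subgroup G) < m :=
    hcard ▸ Cfsg.Agent.Lib.Helper1.Reg.card_lt_of_ne_top _ hne
  have hcl' : (⊤ : Subgroup (⁅H, H⁆ : Subgroup G)).lowerCentralSeries (p - 1) = ⊥ := by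
    have h1 := Subgroup.top_subtype_lowerCentralSeries (⁅H, H⁆ : Subgroup G) (p - 1)
    have h2 : (⁅H, H⁆ : Subgroup G).lowerCentralSeries (p - 1) = ⊥ := by
      rw [eq_bot_iff, ← hcl]
      exact Subgroup.lowerCentralSeries_mono (p - 1) le_top
    rw [h2] at h1
    exact (Subgroup.map_eq_bot_iff_of_injective _ (Subgroup.subtype_injective _)).mp h1
  have hreg : Cfsg.IsRegularPGroup p (⁅H, H⁆ : Subgroup G) :=
    ih _ hlt (⁅H, H⁆ : Subgroup G) rfl (hG.to_subgroup _) hcl'
  obtain ⟨d, hd, hdW⟩ := Cfsg.Agent.Lib.Helper1.Reg.exists_pow_of_mem_powerClosure ⁅H, H⁆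
    (Cfsg.Agent.Lib.Helper1.Reg.powClosed hreg) 1 _ (inv_mem hW)
  refine ⟨d, hd, ?_⟩
  have := hHP p
  rw [pow_one] at hdW
  rw [← hdW, this]
  group

/-- A finite `p`-group of class less than `p` is regular. -/
theorem regular_of_class_lt {G : Type u} [Group G] [Finite G] {p : ℕ} [Fact p.Prime]
    (hG : IsPGroup p G) (hcl : (⊤ : Subgroup G).lowerCentralSeries (p - 1) = ⊥) :
    Cfsg.IsRegularPGroup p G :=
  class_lt_aux p _ G rfl hG hcl

end Cfsg.Agent.Lib.Helper4.HP
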