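import Mathlib

set_option autoImplicit false

/-!
Abstract combinatorics of a group generated by involutions with an exchange property
(used for the Weyl group of a (B,N)-pair).
-/

namespace Cfsg.Agent.Lib.Helper4.BNAbstract

variable {W : Type*} [Group W]

/-- all letters of the list lie in `S` -/
def IsWord (S : Set W) (l : List W) : Prop := ∀ x ∈ l, x ∈ S

lemma isWord_nil (S : Set W) : IsWord S [] := by intro x hx; simp at hx

lemma isWord_cons {S : Set W} {x : W} {l : List W} : IsWord S (x :: l) ↔ x ∈ S ∧ IsWord S l := by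
  unfold IsWord
  simp

lemma isWord_append {S : Set W} {l1 l2 : List W} :
    IsWord S (l1 ++ l2) ↔ IsWord S l1 ∧ IsWord S l2 := by
  unfold IsWord
  constructor
  · intro h
    exact ⟨fun x hx => h x (List.mem_append_left _ hx), fun x hx => h x (List.mem_append_right _ hx)⟩
  · rintro ⟨h1, h2⟩ x hx
    rcases List.mem_append.1 hx with h | h
    · exact h1 x h
    · exact h2 x h

lemma IsWord.mono {S K : Set W} (h : K ⊆ S) {l : List W} (hl : IsWord K l) : IsWord S l :=
  fun x hx => h (hl x hx)

/-- reduced word -/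
def IsRed (S : Set W) (l : List W) : Prop :=
  IsWord S l ∧ ∀ l', IsWord S l' → l'.prod = l.prod → l.length ≤ l'.length

/-- `S` is a generating set of involutions -/
structure GenInv (S : Set W) : Prop where
  sq : ∀ s ∈ S, s * s = 1
  gen : Subgroup.closure S = ⊤

lemma inv_eq_self {S : Set W} (hsq : ∀ s ∈ S, s * s = 1) {s : W} (hs : s ∈ S) : s⁻¹ = s :=
  inv_eq_of_mul_eq_one_right (hsq s hs)

lemma prod_reverse_of_word {S : Set W} (hsq : ∀ s ∈ S, s * s = 1) {l : List W} (hl : IsWord S l) :
    l.reverse.prod = (l.prod)⁻¹ := by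
  induction l with
  | nil => simp
  | cons x l ih =>
    rw [isWord_cons] at hl
    rw [List.reverse_cons, List.prod_append, ih hl.2, List.prod_cons, List.prod_cons, List.prod_nil,
      mul_one, mul_inv_rev, inv_eq_self hsq hl.1]

lemma isWord_reverse {S : Set W} {l : List W} (hl : IsWord S l) : IsWord S l.reverse := by
  intro x hx
  exact hl x (List.mem_reverse.1 hx)

/-- elements of the closure of a set of involutions are words -/
lemma exists_word_of_mem_closure {K : Set W} (hsq : ∀ s ∈ K, s * s = 1) {w : W}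
    (hw : w ∈ Subgroup.closure K) : ∃ l, IsWord K l ∧ l.prod = w := by
  induction hw using Subgroup.closure_induction with
  | mem x hx => exact ⟨[x], by intro y hy; simp at hy; rw [hy]; exact hx, by simp⟩
  | one => exact ⟨[], isWord_nil K, rfl⟩
  | mul x y _ _ hx hy =>
    obtain ⟨l1, h1, rfl⟩ := hx
    obtain ⟨l2, h2, rfl⟩ := hy
    exact ⟨l1 ++ l2, isWord_append.2 ⟨h1, h2⟩, List.prod_append⟩
  | inv x _ hx =>
    obtain ⟨l, h, rfl⟩ := hx
    exact ⟨l.reverse, isWord_reverse h, prod_reverse_of_word hsq h⟩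

lemma prod_mem_closure {K : Set W} {l : List W} (hl : IsWord K l) : l.prod ∈ Subgroup.closure K := by
  apply Subgroup.list_prod_mem
  intro x hx
  exact Subgroup.subset_closure (hl x hx)

lemma exists_word {S : Set W} (h : GenInv S) (w : W) : ∃ l, IsWord S l ∧ l.prod = w :=
  exists_word_of_mem_closure h.sq (by rw [h.gen]; trivial)

/-- the length function -/
noncomputable def len (S : Set W) (w : W) : ℕ :=
  sInf {k | ∃ l, IsWord S l ∧ l.prod = w ∧ l.length = k}

lemma len_le {S : Set W} {l : List W} (hl : IsWord S l) : len S l.prod ≤ l.length :=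
  Nat.sInf_le ⟨l, hl, rfl, rfl⟩

lemma exists_len {S : Set W} (h : GenInv S) (w : W) :
    ∃ l, IsWord S l ∧ l.prod = w ∧ l.length = len S w := by
  have hne : {k | ∃ l, IsWord S l ∧ l.prod = w ∧ l.length = k}.Nonempty := by
    obtain ⟨l, hl, hw⟩ := exists_word h w
    exact ⟨l.length, l, hl, hw, rfl⟩
  exact Nat.sInf_mem hne

lemma isRed_iff {S : Set W} (h : GenInv S) {l : List W} :
    IsRed S l ↔ IsWord S l ∧ l.length = len S l.prod := by
  constructor
  · rintro ⟨h1, h2⟩
    refine ⟨h1, le_antisymm ?_ (len_le h1)⟩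
    obtain ⟨l', hl', hp, hlen⟩ := exists_len h l.prod
    rw [← hlen]
    exact h2 l' hl' hp
  · rintro ⟨h1, h2⟩
    refine ⟨h1, fun l' hl' hp => ?_⟩
    rw [h2, ← hp]
    exact len_le hl'

lemma exists_red {S : Set W} (h : GenInv S) (w : W) : ∃ l, IsRed S l ∧ l.prod = w := by
  obtain ⟨l, hl, hp, hlen⟩ := exists_len h w
  exact ⟨l, (isRed_iff h).2 ⟨hl, by rw [hp]; exact hlen⟩, hp⟩

lemma IsRed.length_eq {S : Set W} (h : GenInv S) {l : List W} (hl : IsRed S l) :
    l.length = len S l.prod := ((isRed_iff h).1 hl).2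

lemma len_one (S : Set W) : len S (1 : W) = 0 := by
  have := len_le (isWord_nil S)
  simpa using this

lemma len_eq_zero {S : Set W} (h : GenInv S) {w : W} : len S w = 0 ↔ w = 1 := by
  constructor
  · intro h0
    obtain ⟨l, _, hp, hlen⟩ := exists_len h w
    rw [h0, List.length_eq_zero_iff] at hlen
    rw [← hp, hlen]; rfl
  · rintro rfl; exact len_one S

lemma len_mul_le {S : Set W} (h : GenInv S) {s : W} (hs : s ∈ S) (w : W) :
    len S (s * w) ≤ len S w + 1 := by
  obtain ⟨l, hl, hp, hlen⟩ := exists_len h w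
  have : IsWord S (s :: l) := isWord_cons.2 ⟨hs, hl⟩
  have h2 := len_le this
  rw [List.prod_cons, hp, List.length_cons, hlen] at h2
  exact h2

lemma len_le_mul {S : Set W} (h : GenInv S) {s : W} (hs : s ∈ S) (w : W) :
    len S w ≤ len S (s * w) + 1 := by
  have := len_mul_le h hs (s * w)
  rwa [← mul_assoc, h.sq s hs, one_mul] at this

lemma len_mul_right_le {S : Set W} (h : GenInv S) {s : W} (hs : s ∈ S) (w : W) :
    len S (w * s) ≤ len S w + 1 := by
  obtain ⟨l, hl, hp, hlen⟩ := exists_len h w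
  have : IsWord S (l ++ [s]) := isWord_append.2 ⟨hl, by intro x hx; simp at hx; rw [hx]; exact hs⟩
  have h2 := len_le this
  rw [List.prod_append, hp, List.prod_singleton, List.length_append, hlen] at h2
  exact h2

lemma len_of_mem {S : Set W} (h : GenInv S) {s : W} (hs : s ∈ S) (hs1 : s ≠ 1) : len S s = 1 := by
  have h1 : len S s ≤ 1 := by
    have := len_mul_le h hs 1
    rwa [mul_one, len_one] at this
  have h2 : len S s ≠ 0 := fun h0 => hs1 ((len_eq_zero h).1 h0)
  omega

lemma IsRed.append_left {S : Set W} {l1 l2 : List W} (hl : IsRed S (l1 ++ l2)) : IsRed S l1 := by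
  refine ⟨(isWord_append.1 hl.1).1, fun l' hl' hp => ?_⟩
  have := hl.2 (l' ++ l2) (isWord_append.2 ⟨hl', (isWord_append.1 hl.1).2⟩)
    (by rw [List.prod_append, List.prod_append, hp])
  simp only [List.length_append] at this
  omega

lemma IsRed.append_right {S : Set W} {l1 l2 : List W} (hl : IsRed S (l1 ++ l2)) : IsRed S l2 := by
  refine ⟨(isWord_append.1 hl.1).2, fun l' hl' hp => ?_⟩
  have := hl.2 (l1 ++ l') (isWord_append.2 ⟨(isWord_append.1 hl.1).1, hl'⟩)
    (by rw [List.prod_append, List.prod_append, hp])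
  simp only [List.length_append] at this
  omega

lemma IsRed.tail {S : Set W} {x : W} {l : List W} (hl : IsRed S (x :: l)) : IsRed S l :=
  IsRed.append_right (l1 := [x]) hl

/-- a word of length `len` of its product is reduced -/
lemma isRed_of_length_le {S : Set W} (h : GenInv S) {l : List W} (hl : IsWord S l)
    (hlen : l.length ≤ len S l.prod) : IsRed S l :=
  (isRed_iff h).2 ⟨hl, le_antisymm hlen (len_le hl)⟩

/-- the family of `P_s` -/
structure PFam (S : Set W) (Ps : W → Set W) : Prop where
  hA : ∀ s ∈ S, (1 : W) ∈ Ps s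
  hB : ∀ s ∈ S, ∀ w, w ∈ Ps s → s * w ∉ Ps s
  hC : ∀ s ∈ S, ∀ s' ∈ S, ∀ w, w ∈ Ps s → w * s' ∉ Ps s → s * w = w * s'

lemma PFam.split {S : Set W} {Ps : W → Set W} (hP : PFam S Ps) {s : W} (hs : s ∈ S) :
    ∀ l : List W, IsWord S l → l.prod ∉ Ps s →
      ∃ l1 x l2, l = l1 ++ x :: l2 ∧ s * l1.prod = l1.prod * x := by
  intro l
  induction l using List.reverseRecOn with
  | nil =>
    intro _ h
    exact absurd (hP.hA s hs) (by simpa using h)
  | append_singleton l x ih =>
    intro hl hnot
    rw [isWord_append] at hl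
    by_cases hmem : l.prod ∈ Ps s
    · refine ⟨l, x, [], rfl, ?_⟩
      apply hP.hC s hs x (hl.2 x (by simp)) l.prod hmem
      rwa [List.prod_append, List.prod_singleton] at hnot
    · obtain ⟨l1, y, l2, hl12, heq⟩ := ih hl.1 hmem
      refine ⟨l1, y, l2 ++ [x], ?_, heq⟩
      rw [hl12]; simp

lemma prod_delete {S : Set W} (hsq : ∀ s ∈ S, s * s = 1) {s x : W} {l1 l2 : List W}
    (hx : x ∈ S) (heq : s * l1.prod = l1.prod * x) :
    s * (l1 ++ x :: l2).prod = (l1 ++ l2).prod := by
  rw [List.prod_append, List.prod_cons, List.prod_append, ← mul_assoc, heq, ← mul_assoc,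
    mul_assoc l1.prod x x, hsq x hx, mul_one]

lemma PFam.len_lt {S : Set W} {Ps : W → Set W} (h : GenInv S) (hP : PFam S Ps) {s : W} (hs : s ∈ S)
    {w : W} (hw : w ∉ Ps s) : len S (s * w) < len S w := by
  obtain ⟨l, hl, hp, hlen⟩ := exists_len h w
  obtain ⟨l1, x, l2, hl12, heq⟩ := hP.split hs l hl (by rw [hp]; exact hw)
  have hx : x ∈ S := hl x (by rw [hl12]; simp)
  have h1 : s * w = (l1 ++ l2).prod := by
    rw [← hp, hl12]; exact prod_delete h.sq hx heq
  have h2 : IsWord S (l1 ++ l2) := by
    rw [hl12] at hl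
    rw [isWord_append] at hl ⊢
    exact ⟨hl.1, (isWord_cons.1 hl.2).2⟩
  have h3 := len_le h2
  rw [← h1] at h3
  rw [hl12] at hlen
  simp only [List.length_append, List.length_cons] at hlen h3
  omega

lemma PFam.lt_len {S : Set W} {Ps : W → Set W} (h : GenInv S) (hP : PFam S Ps) {s : W} (hs : s ∈ S)
    {w : W} (hw : w ∈ Ps s) : len S w < len S (s * w) := by
  have := hP.len_lt h hs (hP.hB s hs w hw)
  rwa [← mul_assoc, h.sq s hs, one_mul] at this

lemma PFam.mem_iff {S : Set W} {Ps : W → Set W} (h : GenInv S) (hP : PFam S Ps) {s : W} (hs : s ∈ S)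
    {w : W} : w ∈ Ps s ↔ len S w < len S (s * w) := by
  constructor
  · exact hP.lt_len h hs
  · intro hlt
    by_contra hw
    have := hP.len_lt h hs hw
    omega

/-- the exchange property -/
def Exchange (S : Set W) : Prop :=
  ∀ s ∈ S, ∀ l, IsRed S l → len S (s * l.prod) ≤ l.length →
    ∃ l1 x l2, l = l1 ++ x :: l2 ∧ s * l1.prod = l1.prod * x

lemma PFam.exchange {S : Set W} {Ps : W → Set W} (h : GenInv S) (hP : PFam S Ps) : Exchange S := by
  intro s hs l hl hlen
  apply hP.split hs l hl.1
  intro hmem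
  have := hP.lt_len h hs hmem
  rw [← hl.length_eq h] at this
  omega

lemma Exchange.len_lt {S : Set W} (h : GenInv S) (hE : Exchange S) {s : W} (hs : s ∈ S) {w : W}
    (hle : len S (s * w) ≤ len S w) : len S (s * w) < len S w := by
  obtain ⟨l, hl, hp⟩ := exists_red h w
  have hlen := hl.length_eq h
  rw [hp] at hlen
  obtain ⟨l1, x, l2, hl12, heq⟩ := hE s hs l hl (by rw [hp, hlen]; exact hle)
  have hx : x ∈ S := hl.1 x (by rw [hl12]; simp)
  have h1 : s * w = (l1 ++ l2).prod := by
    rw [← hp, hl12]; exact prod_delete h.sq hx heq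
  have h2 : IsWord S (l1 ++ l2) := by
    have := hl.1
    rw [hl12] at this
    rw [isWord_append] at this ⊢
    exact ⟨this.1, (isWord_cons.1 this.2).2⟩
  have h3 := len_le h2
  rw [← h1] at h3
  rw [hl12] at hlen
  simp only [List.length_append, List.length_cons] at hlen h3
  omega

lemma Exchange.len_cases {S : Set W} (h : GenInv S) (hE : Exchange S) {s : W} (hs : s ∈ S) (w : W) :
    len S (s * w) = len S w + 1 ∨ len S (s * w) + 1 = len S w := by
  have h1 := len_mul_le h hs w
  have h2 := len_le_mul h hs w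
  by_cases hle : len S (s * w) ≤ len S w
  · have := hE.len_lt h hs hle
    right; omega
  · left; omega

/-- a `K`-word of minimal length among `K`-words is reduced -/
lemma isRed_of_minimal {S K : Set W} (h : GenInv S) (hE : Exchange S) (hK : K ⊆ S) :
    ∀ l : List W, IsWord K l → (∀ l', IsWord K l' → l'.prod = l.prod → l.length ≤ l'.length) →
      IsRed S l := by
  intro l
  induction l with
  | nil =>
    intro _ _
    exact ⟨isWord_nil S, fun l' _ _ => by simp⟩
  | cons k l ih =>
    intro hl hmin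
    rw [isWord_cons] at hl
    have hminl : ∀ l', IsWord K l' → l'.prod = l.prod → l.length ≤ l'.length := by
      intro l' hl' hp
      have := hmin (k :: l') (isWord_cons.2 ⟨hl.1, hl'⟩) (by rw [List.prod_cons, List.prod_cons, hp])
      simpa using this
    have hred : IsRed S l := ih hl.2 hminl
    have hkS : k ∈ S := hK hl.1
    apply isRed_of_length_le h (isWord_cons.2 ⟨hkS, hl.2.mono hK⟩)
    by_contra hlt
    push Not at hlt
    rw [List.prod_cons, List.length_cons] at hlt
    obtain ⟨l1, x, l2, hl12, heq⟩ := hE k hkS l hred (by omega)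
    have hxK : x ∈ K := hl.2 x (by rw [hl12]; simp)
    have h1 : (k :: l).prod = (l1 ++ l2).prod := by
      rw [List.prod_cons, hl12]; exact prod_delete h.sq (hK hxK) heq
    have h2 : IsWord K (l1 ++ l2) := by
      have := hl.2
      rw [hl12] at this
      rw [isWord_append] at this ⊢
      exact ⟨this.1, (isWord_cons.1 this.2).2⟩
    have := hmin (l1 ++ l2) h2 h1.symm
    rw [hl12] at this
    simp only [List.length_append, List.length_cons] at this
    omega

/-- every element of `closure K` has a reduced word with letters in `K` -/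
lemma exists_red_word_in {S K : Set W} (h : GenInv S) (hE : Exchange S) (hK : K ⊆ S) {w : W}
    (hw : w ∈ Subgroup.closure K) : ∃ l, IsWord K l ∧ IsRed S l ∧ l.prod = w := by
  classical
  have hex : ∃ n, ∃ l, IsWord K l ∧ l.prod = w ∧ l.length = n := by
    obtain ⟨l, hl, hp⟩ := exists_word_of_mem_closure (fun s hs => h.sq s (hK hs)) hw
    exact ⟨l.length, l, hl, hp, rfl⟩
  obtain ⟨l, hl, hp, hlen⟩ := Nat.find_spec hex
  refine ⟨l, hl, ?_, hp⟩
  apply isRed_of_minimal h hE hK l hl
  intro l' hl' hp'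
  rw [hlen]
  exact Nat.find_min' hex ⟨l', hl', by rw [hp', hp], rfl⟩

/-- `S ∩ closure K = K` -/
lemma mem_of_mem_closure {S K : Set W} (h : GenInv S) (hE : Exchange S) (hK : K ⊆ S) {s : W}
    (hs : s ∈ S) (hs1 : s ≠ 1) (hsK : s ∈ Subgroup.closure K) : s ∈ K := by
  obtain ⟨l, hl, hred, hp⟩ := exists_red_word_in h hE hK hsK
  have hlen := hred.length_eq h
  rw [hp, len_of_mem h hs hs1] at hlen
  match l, hlen with
  | [x], _ =>
    rw [List.prod_singleton] at hp
    rw [← hp]
    exact hl x (by simp)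

end Cfsg.Agent.Lib.Helper4.BNAbstract
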