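import Mathlib
import Cfsg.Prelude.Def_LieExceptional
import Cfsg.Agent.Lib.Helper4.BNAbstract
import Cfsg.Agent.S0308

set_option autoImplicit false

/-!
Theory of (B,N)-pairs: Bruhat decomposition, the exchange property of the Weyl group,
parabolic subgroups.
-/

namespace Cfsg.Agent.Lib.Helper4.BNPair

open Cfsg Cfsg.Agent.Lib.Helper4.BNAbstract

variable {G : Type*} [Group G] (P : BNPair G)

/-- `C n = B n B` -/
def C (n : G) : Set G := DoubleCoset.doubleCoset n (P.B : Set G) P.B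

variable {P}

lemma mem_C {n g : G} : g ∈ C P n ↔ ∃ b ∈ P.B, ∃ b' ∈ P.B, g = b * n * b' := by
  unfold C; rw [DoubleCoset.mem_doubleCoset]; simp only [SetLike.mem_coe]

lemma self_mem_C (n : G) : n ∈ C P n := mem_C.2 ⟨1, one_mem _, 1, one_mem _, by group⟩

lemma C_eq_of_mem {n g : G} (h : g ∈ C P n) : C P g = C P n :=
  DoubleCoset.doubleCoset_eq_of_mem h

lemma mul_mem_C {n g b b' : G} (hb : b ∈ P.B) (hb' : b' ∈ P.B) (hg : g ∈ C P n) :
    b * g * b' ∈ C P n := by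
  rw [mem_C] at hg ⊢
  obtain ⟨c, hc, c', hc', rfl⟩ := hg
  exact ⟨b * c, mul_mem hb hc, c' * b', mul_mem hc' hb', by group⟩

lemma C_eq_of_inter {n n' g : G} (h : g ∈ C P n) (h' : g ∈ C P n') : C P n = C P n' := by
  rw [← C_eq_of_mem h, ← C_eq_of_mem h']

lemma inv_mem_C {n g : G} (h : g ∈ C P n) : g⁻¹ ∈ C P n⁻¹ := by
  rw [mem_C] at h ⊢
  obtain ⟨c, hc, c', hc', rfl⟩ := h
  exact ⟨c'⁻¹, inv_mem hc', c⁻¹, inv_mem hc, by group⟩

lemma C_of_mem_B {t : G} (ht : t ∈ P.B) : C P t = (P.B : Set G) := by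
  ext g
  rw [mem_C]
  constructor
  · rintro ⟨b, hb, b', hb', rfl⟩
    exact mul_mem (mul_mem hb ht) hb'
  · intro hg
    exact ⟨g * t⁻¹, mul_mem hg (inv_mem ht), 1, one_mem _, by group⟩

lemma C_one : C P 1 = (P.B : Set G) := C_of_mem_B (one_mem _)

lemma C_mul_right {n t : G} (ht : t ∈ P.B) : C P (n * t) = C P n := by
  apply C_eq_of_mem
  exact mem_C.2 ⟨1, one_mem _, t, ht, by group⟩

lemma C_mul_left {n t : G} (ht : t ∈ P.B) : C P (t * n) = C P n := by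
  apply C_eq_of_mem
  exact mem_C.2 ⟨t, ht, 1, one_mem _, by group⟩

lemma S_mem_N {s : G} (hs : s ∈ P.S) : s ∈ P.N := P.subset hs

lemma inv_eq_mul_sq (s : G) : s⁻¹ = s * (s * s)⁻¹ := by group

lemma C_inv_S {s : G} (hs : s ∈ P.S) : C P s⁻¹ = C P s := by
  rw [inv_eq_mul_sq s]
  exact C_mul_right (inv_mem (P.sq_mem s hs))

/-- left form of the double coset axiom -/
lemma T3 {s n g g' : G} (hs : s ∈ P.S) (hn : n ∈ P.N) (hg : g ∈ C P s) (hg' : g' ∈ C P n) :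
    g * g' ∈ C P (s * n) ∨ g * g' ∈ C P n := by
  rw [mem_C] at hg hg'
  obtain ⟨b1, hb1, b2, hb2, rfl⟩ := hg
  obtain ⟨b3, hb3, b4, hb4, rfl⟩ := hg'
  have h := P.mul_mem_union s hs n hn (b2 * b3) (mul_mem hb2 hb3)
  have e : b1 * s * b2 * (b3 * n * b4) = b1 * (s * (b2 * b3) * n) * b4 := by group
  rw [e]
  rcases h with h | h
  · left; exact mul_mem_C hb1 hb4 h
  · right; exact mul_mem_C hb1 hb4 h

/-- right form of the double coset axiom -/
lemma T3r {s n g g' : G} (hs : s ∈ P.S) (hn : n ∈ P.N) (hg : g ∈ C P n) (hg' : g' ∈ C P s) :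
    g * g' ∈ C P (n * s) ∨ g * g' ∈ C P n := by
  have h1 : g'⁻¹ ∈ C P s := by rw [← C_inv_S hs]; exact inv_mem_C hg'
  have h2 : g⁻¹ ∈ C P n⁻¹ := inv_mem_C hg
  have e : g * g' = (g'⁻¹ * g⁻¹)⁻¹ := by group
  rcases T3 hs (inv_mem hn) h1 h2 with h | h
  · left
    have := inv_mem_C h
    rw [← e] at this
    have e2 : (s * n⁻¹)⁻¹ = n * s * (s * s)⁻¹ := by group
    rw [e2, C_mul_right (inv_mem (P.sq_mem s hs))] at this
    exact this
  · right
    have := inv_mem_C h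
    rwa [← e, inv_inv] at this

lemma exists_not_mem_B {s : G} (hs : s ∈ P.S) : ∃ b ∈ P.B, s * b * s ∉ P.B := by
  by_contra hcon
  push Not at hcon
  apply P.conj_ne s hs
  ext g
  constructor
  · rintro ⟨b, hb, rfl⟩
    exact hcon b hb
  · intro hg
    have hss := P.sq_mem s hs
    refine ⟨(s * s)⁻¹ * (s * g * s) * (s * s)⁻¹, ?_, ?_⟩
    · exact mul_mem (mul_mem (inv_mem hss) (hcon g hg)) (inv_mem hss)
    · show s * ((s * s)⁻¹ * (s * g * s) * (s * s)⁻¹) * s = g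
      group

lemma S_not_mem_B {s : G} (hs : s ∈ P.S) : s ∉ P.B := by
  intro h
  obtain ⟨b, hb, hnot⟩ := exists_not_mem_B hs
  exact hnot (mul_mem (mul_mem h hb) h)

lemma exists_mul_mem_C {s : G} (hs : s ∈ P.S) : ∃ g ∈ C P s, ∃ g' ∈ C P s, g * g' ∈ C P s := by
  obtain ⟨b, hb, hnot⟩ := exists_not_mem_B hs
  have h := P.mul_mem_union s hs s (S_mem_N hs) b hb
  refine ⟨s * b, mem_C.2 ⟨1, one_mem _, b, hb, by group⟩, s, self_mem_C s, ?_⟩
  rcases h with h | h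
  · exfalso
    apply hnot
    have : C P (s * s) = (P.B : Set G) := C_of_mem_B (P.sq_mem s hs)
    have h' : s * b * s ∈ C P (s * s) := h
    rw [this] at h'
    exact h'
  · exact h

/-! ### The Weyl group -/

variable (P)

/-- `B ∩ N` as a subgroup of `N` -/
abbrev T' : Subgroup P.N := (P.B ⊓ P.N).subgroupOf P.N

instance T'_normal : (T' P).Normal := by
  constructor
  intro t ht n
  rw [Subgroup.mem_subgroupOf] at ht ⊢
  refine ⟨?_, ?_⟩
  · exact P.conj_mem n.1 n.2 t.1 ht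
  · exact (n * t * n⁻¹).2

/-- the Weyl group -/
abbrev W := P.N ⧸ T' P

open Classical in
/-- the projection, extended by `1` outside `N` -/
noncomputable def π (g : G) : W P := if h : g ∈ P.N then (QuotientGroup.mk ⟨g, h⟩ : W P) else 1

variable {P}

lemma π_of_mem {g : G} (h : g ∈ P.N) : π P g = (QuotientGroup.mk ⟨g, h⟩ : W P) := by
  unfold π; rw [dif_pos h]

lemma π_mul {g g' : G} (hg : g ∈ P.N) (hg' : g' ∈ P.N) : π P (g * g') = π P g * π P g' := by
  rw [π_of_mem hg, π_of_mem hg', π_of_mem (mul_mem hg hg')]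
  rfl

lemma π_one : π P 1 = 1 := by
  rw [π_of_mem (one_mem _)]; rfl

lemma π_inv {g : G} (hg : g ∈ P.N) : π P g⁻¹ = (π P g)⁻¹ := by
  rw [π_of_mem hg, π_of_mem (P.N.inv_mem hg)]
  rfl

lemma π_eq_iff {g g' : G} (hg : g ∈ P.N) (hg' : g' ∈ P.N) : π P g = π P g' ↔ g⁻¹ * g' ∈ P.B := by
  rw [π_of_mem hg, π_of_mem hg', QuotientGroup.eq, Subgroup.mem_subgroupOf]
  constructor
  · intro h; exact h.1
  · intro h; exact ⟨h, P.N.mul_mem (P.N.inv_mem hg) hg'⟩

lemma π_eq_one_iff {g : G} (hg : g ∈ P.N) : π P g = 1 ↔ g ∈ P.B := by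
  rw [← π_one, π_eq_iff hg (one_mem _), mul_one, inv_mem_iff]

lemma π_surj (w : W P) : ∃ n ∈ P.N, π P n = w := by
  obtain ⟨n, rfl⟩ := QuotientGroup.mk_surjective w
  exact ⟨n.1, n.2, π_of_mem n.2⟩

lemma π_prod {l : List G} (hl : ∀ x ∈ l, x ∈ P.N) : π P l.prod = (l.map (π P)).prod := by
  induction l with
  | nil => simp [π_one]
  | cons x l ih =>
    have hx : x ∈ P.N := hl x (by simp)
    have hl' : ∀ y ∈ l, y ∈ P.N := fun y hy => hl y (by simp [hy])
    rw [List.prod_cons, π_mul hx (Subgroup.list_prod_mem _ hl'), ih hl', List.map_cons, List.prod_cons]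

lemma C_eq_of_π_eq {n n' : G} (hn : n ∈ P.N) (hn' : n' ∈ P.N) (h : π P n = π P n') :
    C P n = C P n' := by
  rw [π_eq_iff hn hn'] at h
  have : n' = n * (n⁻¹ * n') := by group
  rw [this, C_mul_right h]

variable (P)

/-- the double coset attached to an element of the Weyl group -/
def Cw (w : W P) : Set G := {g | ∃ n ∈ P.N, π P n = w ∧ g ∈ C P n}

variable {P}

lemma Cw_π {n : G} (hn : n ∈ P.N) : Cw P (π P n) = C P n := by
  ext g
  constructor
  · rintro ⟨n', hn', h, hg⟩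
    rw [← C_eq_of_π_eq hn' hn h]; exact hg
  · intro hg
    exact ⟨n, hn, rfl, hg⟩

lemma mem_Cw_π {n : G} (hn : n ∈ P.N) : n ∈ Cw P (π P n) := by
  rw [Cw_π hn]; exact self_mem_C n

lemma Cw_one : Cw P 1 = (P.B : Set G) := by
  rw [← π_one, Cw_π (one_mem _), C_one]

lemma Cw_closed {w : W P} {g b b' : G} (hb : b ∈ P.B) (hb' : b' ∈ P.B) (hg : g ∈ Cw P w) :
    b * g * b' ∈ Cw P w := by
  obtain ⟨n, hn, rfl⟩ := π_surj w
  rw [Cw_π hn] at hg ⊢
  exact mul_mem_C hb hb' hg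

lemma Cw_closed_left {w : W P} {g b : G} (hb : b ∈ P.B) (hg : g ∈ Cw P w) : b * g ∈ Cw P w := by
  have := Cw_closed hb (one_mem _) hg
  rwa [mul_one] at this

lemma Cw_closed_right {w : W P} {g b : G} (hb : b ∈ P.B) (hg : g ∈ Cw P w) : g * b ∈ Cw P w := by
  have := Cw_closed (one_mem _) hb hg
  rwa [one_mul] at this

lemma Cw_inv {w : W P} {g : G} (hg : g ∈ Cw P w) : g⁻¹ ∈ Cw P w⁻¹ := by
  obtain ⟨n, hn, rfl⟩ := π_surj w
  rw [Cw_π hn] at hg
  rw [← π_inv hn, Cw_π (inv_mem hn)]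
  exact inv_mem_C hg

lemma exists_B_of_mem_Cw {w : W P} {g g' : G} (hg : g ∈ Cw P w) (hg' : g' ∈ Cw P w) :
    ∃ b ∈ P.B, ∃ b' ∈ P.B, g' = b * g * b' := by
  obtain ⟨n, hn, rfl⟩ := π_surj w
  rw [Cw_π hn] at hg hg'
  have : g' ∈ C P g := by rw [C_eq_of_mem hg]; exact hg'
  exact mem_C.1 this

lemma exists_Cw (g : G) : ∃ w : W P, g ∈ Cw P w := by
  obtain ⟨n, hn, hg⟩ := Cfsg.Agent.S0308.result P g
  exact ⟨π P n, by rw [Cw_π hn]; exact hg⟩

variable (P)

/-- the distinguished generators of the Weyl group -/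
def SW : Set (W P) := π P '' P.S

variable {P}

lemma π_mem_SW {s : G} (hs : s ∈ P.S) : π P s ∈ SW P := ⟨s, hs, rfl⟩

lemma π_S_ne_one {s : G} (hs : s ∈ P.S) : π P s ≠ 1 := by
  rw [Ne, π_eq_one_iff (S_mem_N hs)]
  exact S_not_mem_B hs

lemma π_S_sq {s : G} (hs : s ∈ P.S) : π P s * π P s = 1 := by
  rw [← π_mul (S_mem_N hs) (S_mem_N hs), π_eq_one_iff (mul_mem (S_mem_N hs) (S_mem_N hs))]
  exact P.sq_mem s hs

lemma π_S_inj {s s' : G} (hs : s ∈ P.S) (hs' : s' ∈ P.S) (h : π P s = π P s') : s = s' := by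
  rw [π_eq_iff (S_mem_N hs) (S_mem_N hs')] at h
  exact P.inj s hs s' hs' h

lemma genInv : GenInv (SW P) where
  sq := by
    rintro _ ⟨s, hs, rfl⟩
    exact π_S_sq hs
  gen := by
    rw [eq_top_iff]
    intro w _
    obtain ⟨n, hn, rfl⟩ := π_surj w
    -- the subgroup of `G` of elements of `N` mapping into the closure
    let H : Subgroup G :=
      { carrier := {n | n ∈ P.N ∧ π P n ∈ Subgroup.closure (SW P)}
        one_mem' := ⟨one_mem _, by rw [π_one]; exact one_mem _⟩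
        mul_mem' := by
          rintro a b ⟨ha, ha'⟩ ⟨hb, hb'⟩
          exact ⟨mul_mem ha hb, by rw [π_mul ha hb]; exact mul_mem ha' hb'⟩
        inv_mem' := by
          rintro a ⟨ha, ha'⟩
          exact ⟨inv_mem ha, by rw [π_inv ha]; exact inv_mem ha'⟩ }
    have h1 : Subgroup.closure P.S ≤ H := by
      rw [Subgroup.closure_le]
      intro s hs
      exact ⟨S_mem_N hs, Subgroup.subset_closure (π_mem_SW hs)⟩
    have h2 : P.B ⊓ P.N ≤ H := by
      intro t ht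
      refine ⟨ht.2, ?_⟩
      rw [(π_eq_one_iff ht.2).2 ht.1]
      exact one_mem _
    have h3 : P.N ≤ H := by
      rw [← P.closure_sup]
      exact sup_le h1 h2
    exact (h3 hn).2

lemma T3w {s w : W P} {g g' : G} (hs : s ∈ SW P) (hg : g ∈ Cw P s) (hg' : g' ∈ Cw P w) :
    g * g' ∈ Cw P (s * w) ∨ g * g' ∈ Cw P w := by
  obtain ⟨s0, hs0, rfl⟩ := hs
  obtain ⟨n, hn, rfl⟩ := π_surj w
  rw [Cw_π (S_mem_N hs0)] at hg
  rw [Cw_π hn] at hg' ⊢
  rw [← π_mul (S_mem_N hs0) hn, Cw_π (mul_mem (S_mem_N hs0) hn)]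
  exact T3 hs0 hn hg hg'

lemma T3wr {s w : W P} {g g' : G} (hs : s ∈ SW P) (hg : g ∈ Cw P w) (hg' : g' ∈ Cw P s) :
    g * g' ∈ Cw P (w * s) ∨ g * g' ∈ Cw P w := by
  obtain ⟨s0, hs0, rfl⟩ := hs
  obtain ⟨n, hn, rfl⟩ := π_surj w
  rw [Cw_π (S_mem_N hs0)] at hg'
  rw [Cw_π hn] at hg ⊢
  rw [← π_mul hn (S_mem_N hs0), Cw_π (mul_mem hn (S_mem_N hs0))]
  exact T3r hs0 hn hg hg'

lemma exists_mul_mem_Cw {s : W P} (hs : s ∈ SW P) :
    ∃ g ∈ Cw P s, ∃ g' ∈ Cw P s, g * g' ∈ Cw P s := by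
  obtain ⟨s0, hs0, rfl⟩ := hs
  rw [Cw_π (S_mem_N hs0)]
  exact exists_mul_mem_C hs0

lemma Cw_nonempty (w : W P) : ∃ g, g ∈ Cw P w := by
  obtain ⟨n, hn, rfl⟩ := π_surj w
  exact ⟨n, mem_Cw_π hn⟩

/-- an element of `C(w w')` is a product of elements of `C(w)` and `C(w')` -/
lemma exists_mul_of_mem_Cw_mul {w w' : W P} {g : G} (hg : g ∈ Cw P (w * w')) :
    ∃ x ∈ Cw P w, ∃ y ∈ Cw P w', g = x * y := by
  obtain ⟨n, hn, rfl⟩ := π_surj w
  obtain ⟨n', hn', rfl⟩ := π_surj w'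
  rw [← π_mul hn hn', Cw_π (mul_mem hn hn'), mem_C] at hg
  obtain ⟨b, hb, b', hb', rfl⟩ := hg
  refine ⟨b * n, Cw_closed_left hb (mem_Cw_π hn), n' * b', Cw_closed_right hb' (mem_Cw_π hn'), ?_⟩
  group

/-! ### Bruhat uniqueness -/

lemma bruhat_aux : ∀ k : ℕ, ∀ w w' : W P, len (SW P) w ≤ k → len (SW P) w ≤ len (SW P) w' →
    (∃ g, g ∈ Cw P w ∧ g ∈ Cw P w') → w = w' := by
  intro k
  induction k with
  | zero =>
    intro w w' hk _ hg
    have hw : w = 1 := (len_eq_zero genInv).1 (by omega)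
    subst hw
    obtain ⟨g, hg1, hg2⟩ := hg
    rw [Cw_one] at hg1
    obtain ⟨n', hn', rfl⟩ := π_surj w'
    rw [Cw_π hn', mem_C] at hg2
    obtain ⟨b, hb, b', hb', rfl⟩ := hg2
    symm
    rw [π_eq_one_iff hn']
    have : n' = b⁻¹ * (b * n' * b') * b'⁻¹ := by group
    rw [this]
    exact mul_mem (mul_mem (inv_mem hb) hg1) (inv_mem hb')
  | succ k ih =>
    intro w w' hk hle hg
    by_cases hk' : len (SW P) w ≤ k
    · exact ih w w' hk' hle hg
    have hlen : len (SW P) w = k + 1 := by omega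
    obtain ⟨l, hl, hp, hll⟩ := exists_len genInv w
    rw [hlen] at hll
    match l, hll with
    | x :: l'', hll =>
      rw [isWord_cons] at hl
      set w'' := l''.prod with hw''
      have hlen'' : len (SW P) w'' ≤ k := by
        have : len (SW P) w'' ≤ l''.length := len_le hl.2
        simp only [List.length_cons] at hll
        omega
      rw [List.prod_cons] at hp
      have hxx : x * x = 1 := genInv.sq x hl.1
      have hw''eq : w'' = x * w := by rw [← hp, ← mul_assoc, hxx, one_mul]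
      obtain ⟨g, hg1, hg2⟩ := hg
      -- an element of C(w'') inside C(x) C(w')
      obtain ⟨y, hy, z, hz, hyz⟩ : ∃ y ∈ Cw P x, ∃ z ∈ Cw P w, ∃ n'' ∈ Cw P w'', n'' = y * z := by
        obtain ⟨n'', hn''⟩ := Cw_nonempty w''
        have : n'' ∈ Cw P (x * w) := by rw [← hw''eq]; exact hn''
        obtain ⟨y, hy, z, hz, h⟩ := exists_mul_of_mem_Cw_mul this
        exact ⟨y, hy, z, hz, n'', hn'', h⟩
      obtain ⟨n'', hn'', hn''eq⟩ := hyz
      obtain ⟨b, hb, b', hb', hzg⟩ := exists_B_of_mem_Cw hg1 hz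
      -- z = b g b' ∈ C(w')
      have hz' : z ∈ Cw P w' := by rw [hzg]; exact Cw_closed hb hb' hg2
      rcases T3w hl.1 hy hz' with h | h
      · -- n'' ∈ C(x w')
        rw [← hn''eq] at h
        have h1 : len (SW P) w'' ≤ len (SW P) (x * w') := by
          have := len_le_mul genInv hl.1 w'
          omega
        have := ih w'' (x * w') hlen'' h1 ⟨n'', hn'', h⟩
        rw [← hp, ← hw'', this, ← mul_assoc, hxx, one_mul]
      · rw [← hn''eq] at h
        have h1 : len (SW P) w'' ≤ len (SW P) w' := by omega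
        have := ih w'' w' hlen'' h1 ⟨n'', hn'', h⟩
        rw [← this] at hle
        omega

/-- Bruhat decomposition, uniqueness -/
lemma Cw_inj {w w' : W P} {g : G} (hg : g ∈ Cw P w) (hg' : g ∈ Cw P w') : w = w' := by
  rcases le_total (len (SW P) w) (len (SW P) w') with h | h
  · exact bruhat_aux _ w w' le_rfl h ⟨g, hg, hg'⟩
  · exact (bruhat_aux _ w' w le_rfl h ⟨g, hg', hg⟩).symm

/-! ### The sets `P_s` -/

variable (P)

/-- `P_s = {w | C(s) C(w) = C(s w)}` -/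
def Ps (s : W P) : Set (W P) := {w | ∀ g ∈ Cw P s, ∀ g' ∈ Cw P w, g * g' ∈ Cw P (s * w)}

variable {P}

lemma SW_ne_one {s : W P} (hs : s ∈ SW P) : s ≠ 1 := by
  obtain ⟨s0, hs0, rfl⟩ := hs
  exact π_S_ne_one hs0

/-- if `w ∉ P_s` then `C(w) ⊆ C(s) C(w)` -/
lemma exists_of_not_mem_Ps {s w : W P} (hs : s ∈ SW P) (hw : w ∉ Ps P s) :
    ∃ g ∈ Cw P s, ∃ g' ∈ Cw P w, g * g' ∈ Cw P w := by
  unfold Ps at hw
  simp only [Set.mem_ofPred_eq, not_forall] at hw
  obtain ⟨g, hg, g', hg', hnot⟩ := hw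
  refine ⟨g, hg, g', hg', ?_⟩
  rcases T3w hs hg hg' with h | h
  · exact absurd h hnot
  · exact h

lemma pFam : PFam (SW P) (Ps P) where
  hA := by
    intro s _ g hg g' hg'
    rw [Cw_one] at hg'
    rw [mul_one]
    exact Cw_closed_right hg' hg
  hB := by
    intro s hs w hw hsw
    obtain ⟨g1, hg1, g2, hg2, hg12⟩ := exists_mul_mem_Cw hs
    obtain ⟨g', hg'⟩ := Cw_nonempty w
    have h1 : g2 * g' ∈ Cw P (s * w) := hw g2 hg2 g' hg'
    have h2 : g1 * (g2 * g') ∈ Cw P (s * (s * w)) := hsw g1 hg1 _ h1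
    have h3 : g1 * g2 * g' ∈ Cw P (s * w) := hw _ hg12 g' hg'
    rw [← mul_assoc, genInv.sq s hs, one_mul, ← mul_assoc] at h2
    have := Cw_inj h2 h3
    have h4 : s = 1 := by
      have h5 : w * w⁻¹ = s * w * w⁻¹ := by rw [← this]
      rw [mul_inv_cancel, mul_assoc, mul_inv_cancel, mul_one] at h5
      exact h5.symm
    exact SW_ne_one hs h4
  hC := by
    intro s hs s' hs' w hw hws'
    obtain ⟨g, hg, h, hh, hgh⟩ := exists_of_not_mem_Ps hs hws'
    obtain ⟨x, hx, y, hy, rfl⟩ := exists_mul_of_mem_Cw_mul hh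
    have h1 : g * x ∈ Cw P (s * w) := hw g hg x hx
    rw [← mul_assoc] at hgh
    rcases T3wr hs' h1 hy with h2 | h2
    · have := Cw_inj hgh h2
      -- w s' = s w s'
      exfalso
      have h4 : s = 1 := by
        have h5 : w * s' * (w * s')⁻¹ = s * w * s' * (w * s')⁻¹ := by rw [← this]
        rw [mul_inv_cancel, mul_assoc s w s', mul_assoc, mul_inv_cancel, mul_one] at h5
        exact h5.symm
      exact SW_ne_one hs h4
    · exact (Cw_inj hgh h2).symm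

lemma exchange : Exchange (SW P) := pFam.exchange genInv

lemma mem_Ps_iff {s w : W P} (hs : s ∈ SW P) :
    w ∈ Ps P s ↔ len (SW P) w < len (SW P) (s * w) := pFam.mem_iff genInv hs

end Cfsg.Agent.Lib.Helper4.BNPair
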