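import Mathlib
import Cfsg.Agent.Lib.Helper4.BNPair

set_option autoImplicit false

/-!
Parabolic subgroups of a (B,N)-pair.
-/

namespace Cfsg.Agent.Lib.Helper4.BNPair

open Cfsg Cfsg.Agent.Lib.Helper4.BNAbstract

variable {G : Type*} [Group G] {P : BNPair G}

lemma closure_le_N {J : Set G} (hJ : J ⊆ P.S) : Subgroup.closure J ≤ P.N := by
  rw [Subgroup.closure_le]
  exact fun s hs => S_mem_N (hJ hs)

lemma B_le_parabolic (J : Set G) : P.B ≤ P.parabolic J := le_sup_left

lemma closure_le_parabolic (J : Set G) : Subgroup.closure J ≤ P.parabolic J := le_sup_right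

lemma parabolic_mono {J K : Set G} (h : J ⊆ K) : P.parabolic J ≤ P.parabolic K :=
  sup_le_sup_left (Subgroup.closure_mono h) _

lemma C_subset_parabolic {J : Set G} {n : G} (hn : n ∈ Subgroup.closure J) {g : G} (hg : g ∈ C P n) :
    g ∈ P.parabolic J := by
  rw [mem_C] at hg
  obtain ⟨b, hb, b', hb', rfl⟩ := hg
  exact mul_mem (mul_mem (B_le_parabolic J hb) (closure_le_parabolic J hn)) (B_le_parabolic J hb')

/-- the union of the double cosets `B n B`, `n ∈ ⟨J⟩` -/
def bjb (P : BNPair G) (J : Set G) : Set G := {g | ∃ n ∈ Subgroup.closure J, g ∈ C P n}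

/-- the stabiliser of `bjb` under left multiplication -/
def stabJ (P : BNPair G) (J : Set G) : Subgroup G where
  carrier := {g | (∀ x ∈ bjb P J, g * x ∈ bjb P J) ∧ (∀ x ∈ bjb P J, g⁻¹ * x ∈ bjb P J)}
  one_mem' := by
    constructor <;> intro x hx <;> simpa using hx
  mul_mem' := by
    rintro a b ⟨ha1, ha2⟩ ⟨hb1, hb2⟩
    constructor
    · intro x hx
      rw [mul_assoc]
      exact ha1 _ (hb1 _ hx)
    · intro x hx
      rw [mul_inv_rev, mul_assoc]
      exact hb2 _ (ha2 _ hx)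
  inv_mem' := by
    rintro a ⟨ha1, ha2⟩
    refine ⟨ha2, ?_⟩
    intro x hx
    rw [inv_inv]
    exact ha1 x hx

lemma B_le_stabJ (J : Set G) : P.B ≤ stabJ P J := by
  have key : ∀ b ∈ P.B, ∀ x ∈ bjb P J, b * x ∈ bjb P J := by
    rintro b hb x ⟨n, hn, hx⟩
    refine ⟨n, hn, ?_⟩
    have := mul_mem_C hb (one_mem _) hx
    rwa [mul_one] at this
  intro b hb
  exact ⟨key b hb, key b⁻¹ (inv_mem hb)⟩

lemma J_sub_stabJ {J : Set G} (hJ : J ⊆ P.S) : J ⊆ (stabJ P J : Set G) := by
  have key : ∀ s ∈ J, ∀ x ∈ bjb P J, s * x ∈ bjb P J := by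
    rintro s hs x ⟨n, hn, hx⟩
    rcases T3 (hJ hs) (closure_le_N hJ hn) (self_mem_C s) hx with h | h
    · exact ⟨s * n, mul_mem (Subgroup.subset_closure hs) hn, h⟩
    · exact ⟨n, hn, h⟩
  intro s hs
  refine ⟨key s hs, ?_⟩
  intro x hx
  have h1 : s⁻¹ = (s * s)⁻¹ * s := by group
  rw [h1, mul_assoc]
  exact (B_le_stabJ J (inv_mem (P.sq_mem s (hJ hs)))).1 _ (key s hs x hx)

/-- `P_J = B ⟨J⟩ B` -/
lemma mem_parabolic_iff {J : Set G} (hJ : J ⊆ P.S) (g : G) :
    g ∈ P.parabolic J ↔ ∃ n ∈ Subgroup.closure J, g ∈ C P n := by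
  constructor
  · intro hg
    have hle : P.parabolic J ≤ stabJ P J := by
      unfold BNPair.parabolic
      exact sup_le (B_le_stabJ J) ((Subgroup.closure_le _).2 (J_sub_stabJ hJ))
    have h1 : (1 : G) ∈ bjb P J := ⟨1, one_mem _, by rw [C_one]; exact one_mem _⟩
    have := (hle hg).1 1 h1
    rwa [mul_one] at this
  · rintro ⟨n, hn, hg⟩
    exact C_subset_parabolic hn hg

/-- lifting a word of the Weyl group to a word in `S` -/
lemma exists_lift_word {J : Set G} : ∀ l : List (W P), IsWord (π P '' J) l →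
    ∃ l0 : List G, (∀ s ∈ l0, s ∈ J) ∧ l0.map (π P) = l := by
  intro l
  induction l with
  | nil => intro _; exact ⟨[], by simp, rfl⟩
  | cons x l ih =>
    intro hl
    rw [isWord_cons] at hl
    obtain ⟨l0, h0, h1⟩ := ih hl.2
    obtain ⟨s, hs, rfl⟩ := hl.1
    refine ⟨s :: l0, ?_, by rw [List.map_cons, h1]⟩
    intro y hy
    rcases List.mem_cons.1 hy with rfl | hy
    · exact hs
    · exact h0 y hy

lemma mem_map_conj {H : Subgroup G} {n x : G} :
    x ∈ H.map (MulAut.conj n).toMonoidHom ↔ n⁻¹ * x * n ∈ H := by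
  constructor
  · rintro ⟨y, hy, rfl⟩
    have : n⁻¹ * (MulAut.conj n).toMonoidHom y * n = y := by
      show n⁻¹ * (n * y * n⁻¹) * n = y
      group
    rw [this]; exact hy
  · intro h
    refine ⟨n⁻¹ * x * n, h, ?_⟩
    show n * (n⁻¹ * x * n) * n⁻¹ = x
    group

/-- the subgroup `⟨B, n B n⁻¹⟩` -/
def HB (P : BNPair G) (n : G) : Subgroup G := P.B ⊔ P.B.map (MulAut.conj n).toMonoidHom

lemma B_le_HB (n : G) : P.B ≤ HB P n := le_sup_left

lemma conj_mem_HB {n b : G} (hb : b ∈ P.B) : n * b * n⁻¹ ∈ HB P n := by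
  apply (le_sup_right : P.B.map (MulAut.conj n).toMonoidHom ≤ HB P n)
  rw [mem_map_conj]
  have : n⁻¹ * (n * b * n⁻¹) * n = b := by group
  rw [this]; exact hb

lemma HB_le_of_mem {n s : G} (hs : s ∈ HB P n) : HB P (s⁻¹ * n) ≤ HB P n := by
  unfold HB
  apply sup_le (B_le_HB n)
  intro x hx
  rw [mem_map_conj] at hx
  have e : x = s⁻¹ * (n * ((s⁻¹ * n)⁻¹ * x * (s⁻¹ * n)) * n⁻¹) * s := by group
  rw [e]
  exact mul_mem (mul_mem (inv_mem hs) (conj_mem_HB hx)) hs

/-- letters of a reduced word of `π n` have their representatives in `⟨B, n B n⁻¹⟩` -/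
lemma letters_mem : ∀ l : List (W P), IsRed (SW P) l → ∀ n ∈ P.N, π P n = l.prod →
    ∀ s ∈ P.S, π P s ∈ l → s ∈ HB P n := by
  intro l
  induction l with
  | nil => intro _ n _ _ s _ hs; simp at hs
  | cons x l ih =>
    intro hred n hn hπ s hs hsl
    have hx : x ∈ SW P := hred.1 x (by simp)
    -- the first letter
    have first : ∀ s1 ∈ P.S, π P s1 = x → s1 ∈ HB P n := by
      intro s1 hs1 hs1x
      have hnot : (x :: l).prod ∉ Ps P x := by
        rw [mem_Ps_iff hx, List.prod_cons, ← mul_assoc, genInv.sq x hx, one_mul]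
        have h1 := len_le hred.tail.1
        have h2 := hred.length_eq genInv
        rw [List.prod_cons, List.length_cons] at h2
        omega
      obtain ⟨g, hg, g', hg', hgg'⟩ := exists_of_not_mem_Ps hx hnot
      rw [← hπ, Cw_π hn, mem_C] at hg' hgg'
      obtain ⟨b1, hb1, b2, hb2, rfl⟩ := hg'
      obtain ⟨b3, hb3, b4, hb4, h34⟩ := hgg'
      have hgH : g ∈ HB P n := by
        have e : g = b3 * (n * (b4 * b2⁻¹) * n⁻¹) * b1⁻¹ := by
          have : g = (g * (b1 * n * b2)) * (b1 * n * b2)⁻¹ := by group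
          rw [this, h34]; group
        rw [e]
        exact mul_mem (mul_mem (B_le_HB n hb3) (conj_mem_HB (mul_mem hb4 (inv_mem hb2))))
          (B_le_HB n (inv_mem hb1))
      rw [← hs1x, Cw_π (S_mem_N hs1), mem_C] at hg
      obtain ⟨c1, hc1, c2, hc2, rfl⟩ := hg
      have e : s1 = c1⁻¹ * (c1 * s1 * c2) * c2⁻¹ := by group
      rw [e]
      exact mul_mem (mul_mem (B_le_HB n (inv_mem hc1)) hgH) (B_le_HB n (inv_mem hc2))
    rcases List.mem_cons.1 hsl with h | h
    · exact first s hs h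
    · obtain ⟨s1, hs1, hs1x⟩ := hx
      have hs1H := first s1 hs1 hs1x
      have hn'' : s1⁻¹ * n ∈ P.N := mul_mem (inv_mem (S_mem_N hs1)) hn
      have hπ'' : π P (s1⁻¹ * n) = l.prod := by
        rw [π_mul (inv_mem (S_mem_N hs1)) hn, π_inv (S_mem_N hs1), hs1x, hπ, List.prod_cons,
          inv_mul_cancel_left]
      exact HB_le_of_mem hs1H (ih hred.tail _ hn'' hπ'' s hs h)

lemma HB_le_sup_closure (n : G) : HB P n ≤ P.B ⊔ Subgroup.closure {n} := by
  unfold HB
  apply sup_le le_sup_left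
  intro x hx
  rw [mem_map_conj] at hx
  have e : x = n * (n⁻¹ * x * n) * n⁻¹ := by group
  have hn : n ∈ P.B ⊔ Subgroup.closure {n} :=
    (le_sup_right : Subgroup.closure {n} ≤ _) (Subgroup.subset_closure rfl)
  rw [e]
  exact mul_mem (mul_mem hn ((le_sup_left : P.B ≤ _) hx)) (inv_mem hn)

/-- every `n ∈ N` is a product of representatives of the letters of a reduced word, times
an element of `B` -/
lemma exists_word_rep {n : G} (hn : n ∈ P.N) {J : Set G} (hJ : J ⊆ P.S) {l : List (W P)}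
    (hl : IsWord (π P '' J) l) (hπ : π P n = l.prod) :
    ∃ l0 : List G, (∀ s ∈ l0, s ∈ J) ∧ l0.map (π P) = l ∧ l0.prod⁻¹ * n ∈ P.B := by
  obtain ⟨l0, h0, h1⟩ := exists_lift_word l hl
  refine ⟨l0, h0, h1, ?_⟩
  have hN : ∀ x ∈ l0, x ∈ P.N := fun x hx => S_mem_N (hJ (h0 x hx))
  have : π P l0.prod = π P n := by rw [π_prod hN, h1, hπ]
  rwa [π_eq_iff (Subgroup.list_prod_mem _ hN) hn] at this

lemma SW_eq : SW P = π P '' P.S := rfl

/-- `n ∈ ⟨B, n B n⁻¹⟩` -/
lemma mem_HB_self {n : G} (hn : n ∈ P.N) : n ∈ HB P n := by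
  obtain ⟨l, hl, hp⟩ := exists_red genInv (π P n)
  obtain ⟨l0, h0, h1, h2⟩ := exists_word_rep hn subset_rfl hl.1 hp.symm
  have h3 : l0.prod ∈ HB P n := by
    apply Subgroup.list_prod_mem
    intro s hs
    apply letters_mem l hl n hn hp.symm s (h0 s hs)
    rw [← h1]
    exact List.mem_map_of_mem hs
  have h4 : l0.prod * (l0.prod⁻¹ * n) ∈ HB P n := mul_mem h3 (B_le_HB n h2)
  rwa [mul_inv_cancel_left] at h4

/-- `⟨B, n⟩ = ⟨B, n B n⁻¹⟩` -/
lemma sup_closure_eq_HB {n : G} (hn : n ∈ P.N) : P.B ⊔ Subgroup.closure {n} = HB P n := by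
  apply le_antisymm
  · apply sup_le (B_le_HB n)
    rw [Subgroup.closure_le]
    intro x hx
    rw [Set.mem_singleton_iff] at hx
    rw [hx]
    exact mem_HB_self hn
  · exact HB_le_sup_closure n

/-- if `g⁻¹ B g ≤ P_J` then `g ∈ P_J` -/
lemma mem_parabolic_of_conj {J : Set G} (g : G)
    (h : ∀ c ∈ P.B, g⁻¹ * c * g ∈ P.parabolic J) : g ∈ P.parabolic J := by
  obtain ⟨n, hn, hg⟩ := Cfsg.Agent.S0308.result P g
  rw [DoubleCoset.mem_doubleCoset] at hg
  obtain ⟨b, hb, b', hb', rfl⟩ := hg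
  have hb : b ∈ P.B := hb
  have hb' : b' ∈ P.B := hb'
  have key : ∀ c ∈ P.B, n⁻¹ * c * n ∈ P.parabolic J := by
    intro c hc
    have h1 := h (b * c * b⁻¹) (mul_mem (mul_mem hb hc) (inv_mem hb))
    have e : n⁻¹ * c * n = b' * ((b * n * b')⁻¹ * (b * c * b⁻¹) * (b * n * b')) * b'⁻¹ := by group
    rw [e]
    exact mul_mem (mul_mem (B_le_parabolic J hb') h1) (inv_mem (B_le_parabolic J hb'))
  have h2 : HB P n⁻¹ ≤ P.parabolic J := by
    unfold HB
    apply sup_le (B_le_parabolic J)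
    intro x hx
    rw [mem_map_conj, inv_inv] at hx
    have e : x = n⁻¹ * (n * x * n⁻¹) * n := by group
    rw [e]
    exact key _ hx
  have h3 : n⁻¹ ∈ P.parabolic J := h2 (mem_HB_self (inv_mem hn))
  have h4 : n ∈ P.parabolic J := by
    have := inv_mem h3
    rwa [inv_inv] at this
  exact mul_mem (mul_mem (B_le_parabolic J hb) h4) (B_le_parabolic J hb')

/-- every subgroup containing `B` is parabolic -/
lemma eq_parabolic_of_le {M : Subgroup G} (hM : P.B ≤ M) :
    M = P.parabolic {s | s ∈ P.S ∧ s ∈ M} := by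
  set J : Set G := {s | s ∈ P.S ∧ s ∈ M} with hJ
  have hJS : J ⊆ P.S := fun s hs => hs.1
  apply le_antisymm
  · intro g hg
    obtain ⟨n, hn, hgn⟩ := Cfsg.Agent.S0308.result P g
    rw [DoubleCoset.mem_doubleCoset] at hgn
    obtain ⟨b, hb, b', hb', rfl⟩ := hgn
    have hb : b ∈ P.B := hb
    have hb' : b' ∈ P.B := hb'
    have hnM : n ∈ M := by
      have e : n = b⁻¹ * (b * n * b') * b'⁻¹ := by group
      rw [e]
      exact mul_mem (mul_mem (inv_mem (hM hb)) hg) (inv_mem (hM hb'))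
    have hHM : HB P n ≤ M := by
      rw [← sup_closure_eq_HB hn]
      apply sup_le hM
      rw [Subgroup.closure_le]
      intro x hx
      rw [Set.mem_singleton_iff] at hx
      rw [hx]; exact hnM
    obtain ⟨l, hl, hp⟩ := exists_red genInv (π P n)
    obtain ⟨l0, h0, h1, h2⟩ := exists_word_rep hn subset_rfl hl.1 hp.symm
    have h3 : l0.prod ∈ Subgroup.closure J := by
      apply Subgroup.list_prod_mem
      intro s hs
      apply Subgroup.subset_closure
      refine ⟨h0 s hs, hHM ?_⟩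
      apply letters_mem l hl n hn hp.symm s (h0 s hs)
      rw [← h1]
      exact List.mem_map_of_mem hs
    have e : n = l0.prod * (l0.prod⁻¹ * n) := by group
    have hnJ : n ∈ P.parabolic J := by
      rw [e]
      exact mul_mem (closure_le_parabolic J h3) (B_le_parabolic J h2)
    exact mul_mem (mul_mem (B_le_parabolic J hb) hnJ) (B_le_parabolic J hb')
  · unfold BNPair.parabolic
    apply sup_le hM
    rw [Subgroup.closure_le]
    exact fun s hs => hs.2

lemma π_mem_closure_image {J : Set G} (hJ : J ⊆ P.S) {n : G} (hn : n ∈ Subgroup.closure J) :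
    π P n ∈ Subgroup.closure (π P '' J) := by
  induction hn using Subgroup.closure_induction with
  | mem x hx => exact Subgroup.subset_closure ⟨x, hx, rfl⟩
  | one => rw [π_one]; exact one_mem _
  | mul x y hx hy ihx ihy =>
    rw [π_mul (closure_le_N hJ hx) (closure_le_N hJ hy)]
    exact mul_mem ihx ihy
  | inv x hx ih =>
    rw [π_inv (closure_le_N hJ hx)]
    exact inv_mem ih

lemma exists_rep_in_closure {J : Set G} (hJ : J ⊆ P.S) {w : W P}
    (hw : w ∈ Subgroup.closure (π P '' J)) : ∃ m ∈ Subgroup.closure J, π P m = w := by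
  induction hw using Subgroup.closure_induction with
  | mem x hx =>
    obtain ⟨s, hs, rfl⟩ := hx
    exact ⟨s, Subgroup.subset_closure hs, rfl⟩
  | one => exact ⟨1, one_mem _, π_one⟩
  | mul x y _ _ ihx ihy =>
    obtain ⟨m, hm, rfl⟩ := ihx
    obtain ⟨m', hm', rfl⟩ := ihy
    exact ⟨m * m', mul_mem hm hm', π_mul (closure_le_N hJ hm) (closure_le_N hJ hm')⟩
  | inv x _ ih =>
    obtain ⟨m, hm, rfl⟩ := ih
    exact ⟨m⁻¹, inv_mem hm, π_inv (closure_le_N hJ hm)⟩

lemma image_subset_SW {J : Set G} (hJ : J ⊆ P.S) : π P '' J ⊆ SW P :=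
  Set.image_mono hJ

/-- `S ∩ W_K = K` -/
lemma mem_of_π_mem_closure {K : Set G} (hK : K ⊆ P.S) {s : G} (hs : s ∈ P.S)
    (h : π P s ∈ Subgroup.closure (π P '' K)) : s ∈ K := by
  have := mem_of_mem_closure genInv exchange (image_subset_SW hK) (π_mem_SW hs) (π_S_ne_one hs) h
  obtain ⟨k, hk, hks⟩ := this
  rw [← π_S_inj (hK hk) hs hks]
  exact hk

/-- if `s ∈ S` lies in `P_K` then `s ∈ K` -/
lemma mem_of_mem_parabolic {K : Set G} (hK : K ⊆ P.S) {s : G} (hs : s ∈ P.S)
    (h : s ∈ P.parabolic K) : s ∈ K := by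
  rw [mem_parabolic_iff hK] at h
  obtain ⟨n, hn, hsn⟩ := h
  have hnN := closure_le_N hK hn
  have h1 : s ∈ Cw P (π P n) := by rw [Cw_π hnN]; exact hsn
  have h2 : s ∈ Cw P (π P s) := mem_Cw_π (S_mem_N hs)
  have h3 := Cw_inj h2 h1
  apply mem_of_π_mem_closure hK hs
  rw [h3]
  exact π_mem_closure_image hK hn

lemma subset_of_parabolic_le {J K : Set G} (hJ : J ⊆ P.S) (hK : K ⊆ P.S)
    (h : P.parabolic J ≤ P.parabolic K) : J ⊆ K := by
  intro s hs
  exact mem_of_mem_parabolic hK (hJ hs) (h (closure_le_parabolic J (Subgroup.subset_closure hs)))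

lemma parabolic_injective {J K : Set G} (hJ : J ⊆ P.S) (hK : K ⊆ P.S)
    (h : P.parabolic J = P.parabolic K) : J = K :=
  Set.Subset.antisymm (subset_of_parabolic_le hJ hK h.le) (subset_of_parabolic_le hK hJ h.ge)

/-- the subgroup generated by `B` and `n` is the parabolic of the letters of a reduced word -/
lemma sup_closure_eq_parabolic {n : G} (hn : n ∈ P.N) {l : List (W P)} (hl : IsRed (SW P) l)
    (hp : π P n = l.prod) :
    P.B ⊔ Subgroup.closure {n} = P.parabolic {s | s ∈ P.S ∧ π P s ∈ l} := by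
  set J : Set G := {s | s ∈ P.S ∧ π P s ∈ l} with hJ
  apply le_antisymm
  · apply sup_le (B_le_parabolic J)
    rw [Subgroup.closure_le]
    intro x hx
    rw [Set.mem_singleton_iff] at hx
    subst hx
    obtain ⟨l0, h0, h1, h2⟩ := exists_word_rep hn subset_rfl hl.1 hp
    have h3 : l0.prod ∈ Subgroup.closure J := by
      apply Subgroup.list_prod_mem
      intro s hs
      apply Subgroup.subset_closure
      refine ⟨h0 s hs, ?_⟩
      rw [← h1]
      exact List.mem_map_of_mem hs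
    have e : x = l0.prod * (l0.prod⁻¹ * x) := by group
    rw [SetLike.mem_coe, e]
    exact mul_mem (closure_le_parabolic J h3) (B_le_parabolic J h2)
  · unfold BNPair.parabolic
    apply sup_le le_sup_left
    rw [Subgroup.closure_le]
    intro s hs
    rw [sup_closure_eq_HB hn]
    exact letters_mem l hl n hn hp s hs.1 hs.2

/-- two reduced words of the same element have the same letters -/
lemma letters_eq {l l' : List (W P)} (hl : IsRed (SW P) l) (hl' : IsRed (SW P) l')
    (hp : l.prod = l'.prod) {x : W P} (hx : x ∈ l) : x ∈ l' := by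
  obtain ⟨n, hn, hπ⟩ := π_surj l.prod
  have h1 := sup_closure_eq_parabolic hn hl hπ
  have h2 := sup_closure_eq_parabolic hn hl' (hπ.trans hp)
  have h3 := parabolic_injective (fun s hs => hs.1) (fun s hs => hs.1) (h1.symm.trans h2)
  obtain ⟨s, hs, rfl⟩ := hl.1 x hx
  have : s ∈ {s | s ∈ P.S ∧ π P s ∈ l} := ⟨hs, hx⟩
  rw [h3] at this
  exact this.2

/-- `P_J ∩ P_K = P_{J ∩ K}` -/
lemma parabolic_inf {J K : Set G} (hJ : J ⊆ P.S) (hK : K ⊆ P.S) :
    P.parabolic J ⊓ P.parabolic K = P.parabolic (J ∩ K) := by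
  apply le_antisymm
  · intro g hg
    have hgJ : g ∈ P.parabolic J := hg.1
    have hgK : g ∈ P.parabolic K := hg.2
    rw [mem_parabolic_iff hJ] at hgJ
    rw [mem_parabolic_iff hK] at hgK
    obtain ⟨n, hn, hgn⟩ := hgJ
    obtain ⟨n', hn', hgn'⟩ := hgK
    have hnN := closure_le_N hJ hn
    have hnN' := closure_le_N hK hn'
    have hww : π P n = π P n' := by
      apply Cw_inj (g := g)
      · rw [Cw_π hnN]; exact hgn
      · rw [Cw_π hnN']; exact hgn'
    have hwJ := π_mem_closure_image hJ hn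
    have hwK := π_mem_closure_image hK hn'
    obtain ⟨l, hlJ, hlred, hlp⟩ := exists_red_word_in genInv exchange (image_subset_SW hJ) hwJ
    obtain ⟨l', hlK, hlred', hlp'⟩ := exists_red_word_in genInv exchange (image_subset_SW hK) hwK
    have hlJK : IsWord (π P '' (J ∩ K)) l := by
      intro x hx
      have hx' : x ∈ l' := letters_eq hlred hlred' (by rw [hlp, hlp', hww]) hx
      obtain ⟨j, hj, hjx⟩ := hlJ x hx
      obtain ⟨k, hk, hkx⟩ := hlK x hx'
      have : j = k := π_S_inj (hJ hj) (hK hk) (hjx.trans hkx.symm)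
      exact ⟨j, ⟨hj, this ▸ hk⟩, hjx⟩
    have hw : π P n ∈ Subgroup.closure (π P '' (J ∩ K)) := by
      rw [← hlp]
      exact prod_mem_closure hlJK
    have hJK : J ∩ K ⊆ P.S := fun s hs => hJ hs.1
    obtain ⟨m, hm, hmπ⟩ := exists_rep_in_closure hJK hw
    rw [mem_parabolic_iff hJK]
    refine ⟨m, hm, ?_⟩
    rw [C_eq_of_π_eq (closure_le_N hJK hm) hnN hmπ]
    exact hgn
  · exact le_inf (parabolic_mono Set.inter_subset_left) (parabolic_mono Set.inter_subset_right)

end Cfsg.Agent.Lib.Helper4.BNPair
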