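import Mathlib
import Cfsg.Agent.Lib.Helper4.BNPair2

set_option autoImplicit false
set_option linter.unusedVariables false
set_option linter.style.longLine false

/-!
S2156 farm, unit B1, abstract part: an automorphism of a group with a (B,N)-pair that preserves
`B` maps every minimal parabolic subgroup onto a minimal parabolic subgroup.
-/

namespace Cfsg.Agent.Lib.Helper4.AutB1

open Cfsg Cfsg.Agent.Lib.Helper4.BNPair

section abstract

variable {G : Type*} [Group G]

theorem h4_not_mem_B {P : BNPair G} {s : G} (hs : s ∈ P.S) : s ∉ P.B := by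
  intro h
  have h1 : s ∈ P.parabolic (∅ : Set G) := B_le_parabolic ∅ h
  exact absurd (mem_of_mem_parabolic (Set.empty_subset _) hs h1) (Set.notMem_empty s)

theorem h4_parabolic_empty (P : BNPair G) : P.parabolic (∅ : Set G) = P.B := by
  unfold BNPair.parabolic
  rw [Subgroup.closure_empty, sup_bot_eq]

theorem h4_map_symm_map (θ : G ≃* G) (M : Subgroup G) :
    (M.map θ.toMonoidHom).map θ.symm.toMonoidHom = M := by
  rw [Subgroup.map_map]
  have h : θ.symm.toMonoidHom.comp θ.toMonoidHom = MonoidHom.id G := by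
    ext x
    simp
  rw [h, Subgroup.map_id]

theorem h4_map_map_symm (θ : G ≃* G) (M : Subgroup G) :
    (M.map θ.symm.toMonoidHom).map θ.toMonoidHom = M := by
  rw [Subgroup.map_map]
  have h : θ.toMonoidHom.comp θ.symm.toMonoidHom = MonoidHom.id G := by
    ext x
    simp
  rw [h, Subgroup.map_id]

theorem h4_map_inj (θ : G ≃* G) {M M' : Subgroup G}
    (h : M.map θ.toMonoidHom = M'.map θ.toMonoidHom) : M = M' := by
  rw [← h4_map_symm_map θ M, h, h4_map_symm_map]

theorem h4_self_mem_parabolic (P : BNPair G) (s : G) : s ∈ P.parabolic {s} :=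
  closure_le_parabolic _ (Subgroup.subset_closure (Set.mem_singleton s))

/-- an automorphism fixing `B` maps a minimal parabolic onto a minimal parabolic -/
theorem h4_exists_singleton (P : BNPair G) (θ : G ≃* G)
    (hB : P.B.map θ.toMonoidHom = P.B) (s : G) (hs : s ∈ P.S) :
    ∃ s' ∈ P.S, (P.parabolic {s}).map θ.toMonoidHom = P.parabolic {s'} := by
  obtain ⟨M, hM⟩ : ∃ M : Subgroup G, M = (P.parabolic {s}).map θ.toMonoidHom := ⟨_, rfl⟩
  have hB' : P.B.map θ.symm.toMonoidHom = P.B := by
    conv_lhs => rw [← hB]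
    exact h4_map_symm_map θ P.B
  have hBM : P.B ≤ M := by
    rw [hM, ← hB]
    exact Subgroup.map_mono (B_le_parabolic _)
  have h1 := eq_parabolic_of_le hBM
  have hne : ∃ t, t ∈ P.S ∧ t ∈ M := by
    by_contra hcon
    have hJ : {t | t ∈ P.S ∧ t ∈ M} = (∅ : Set G) := by
      ext t
      simp only [Set.mem_ofPred_eq, Set.mem_empty_iff_false, iff_false]
      exact fun h => hcon ⟨t, h⟩
    rw [hJ, h4_parabolic_empty] at h1
    have h2 : P.parabolic {s} = P.B := by
      apply h4_map_inj θ
      rw [← hM, h1, hB]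
    have h3 : s ∈ P.B := by
      rw [← h2]
      exact h4_self_mem_parabolic P s
    exact h4_not_mem_B hs h3
  obtain ⟨s', hs'S, hs'M⟩ := hne
  refine ⟨s', hs'S, ?_⟩
  have h3 : P.parabolic {s'} ≤ M := by
    unfold BNPair.parabolic
    apply sup_le hBM
    rw [Subgroup.closure_le]
    intro x hx
    rw [Set.mem_singleton_iff] at hx
    rw [hx]
    exact hs'M
  obtain ⟨M', hM'⟩ : ∃ M' : Subgroup G, M' = (P.parabolic {s'}).map θ.symm.toMonoidHom :=
    ⟨_, rfl⟩
  have hBM' : P.B ≤ M' := by
    rw [hM', ← hB']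
    exact Subgroup.map_mono (B_le_parabolic _)
  have hM's : M' ≤ P.parabolic {s} := by
    have h5 : M.map θ.symm.toMonoidHom = P.parabolic {s} := by
      rw [hM]
      exact h4_map_symm_map θ _
    rw [hM', ← h5]
    exact Subgroup.map_mono h3
  have h4 := eq_parabolic_of_le hBM'
  obtain ⟨J', hJ'⟩ : ∃ J' : Set G, J' = {t | t ∈ P.S ∧ t ∈ M'} := ⟨_, rfl⟩
  rw [← hJ'] at h4
  have hJ'S : J' ⊆ P.S := by
    intro t ht
    rw [hJ'] at ht
    exact ht.1
  have hJ's : J' ⊆ {s} := by
    apply subset_of_parabolic_le hJ'S (Set.singleton_subset_iff.2 hs)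
    rw [← h4]
    exact hM's
  have hJ'ne : J'.Nonempty := by
    by_contra hcon
    rw [Set.not_nonempty_iff_eq_empty] at hcon
    rw [hcon, h4_parabolic_empty] at h4
    have h5 : P.parabolic {s'} = P.B := by
      apply h4_map_inj θ.symm
      rw [← hM', h4, hB']
    have h6 : s' ∈ P.B := by
      rw [← h5]
      exact h4_self_mem_parabolic P s'
    exact h4_not_mem_B hs'S h6
  have hJ'eq : J' = {s} := by
    obtain ⟨t, ht⟩ := hJ'ne
    have hts := hJ's ht
    rw [Set.mem_singleton_iff] at hts
    rw [hts] at ht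
    exact Set.Subset.antisymm hJ's (Set.singleton_subset_iff.2 ht)
  rw [hJ'eq] at h4
  rw [← h4, hM']
  exact h4_map_map_symm θ _

end abstract

end Cfsg.Agent.Lib.Helper4.AutB1
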