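import Mathlib
import Cfsg.Agent.Lib.Helper1.AutDefs
import Cfsg.Agent.Lib.Helper5.ChevBNPair
import Cfsg.Agent.Lib.Helper4.BNPair2
import Cfsg.Agent.Lib.Helper4.AutB1a

set_option autoImplicit false
set_option linter.unusedVariables false
set_option linter.style.longLine false

/-!
S2156 farm, unit B1: an automorphism of a Chevalley group preserving `B` permutes the minimal
parabolic subgroups.
-/

namespace Cfsg.Agent.Lib.Helper4.AutB1

open Cfsg Cfsg.Lie Cfsg.Agent.Lib.Helper5.ChevStruct Cfsg.Agent.Lib.Helper5.ChevSym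
  Cfsg.Agent.Lib.Helper1.ChevAut Cfsg.Agent.Lib.Helper4.BNPair



variable {F : Type*} [Field F]

/-- the representative `n_i` of a fundamental reflection as an element of the group -/
def h4_sG (D : ChevalleyDatum) (hD : D ∈ Seven) (F : Type*) [Field F] (i : Fin D.rank) :
    ↥(D.group F) :=
  ⟨nGL D hD i, monomial_le_group D hD (nGL_mem D hD i i.2)⟩

theorem h4_sG_mem_S (D : ChevalleyDatum) (hD : D ∈ Seven) (i : Fin D.rank) :
    h4_sG D hD F i ∈ (chevBNPair D hD F).S := by
  rw [chevBNPair_S]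
  exact ⟨i, i.2, nGL_val D hD i⟩

theorem h4_S_eq (D : ChevalleyDatum) (hD : D ∈ Seven) (n : ↥(D.group F))
    (hn : n ∈ (chevBNPair D hD F).S) : ∃ i : Fin D.rank, n = h4_sG D hD F i := by
  rw [chevBNPair_S] at hn
  obtain ⟨i, hi, hn⟩ := hn
  refine ⟨⟨i, hi⟩, Subtype.ext (Units.ext ?_)⟩
  rw [hn]
  exact (nGL_val D hD i).symm

theorem h4_sG_injective (D : ChevalleyDatum) (hD : D ∈ Seven) :
    Function.Injective (h4_sG D hD F) := by
  intro i j h
  have h1 : (nGL D hD i : GL D.Idx F) = nGL D hD j := congrArg Subtype.val h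
  have h2 : ((nGL D hD i)⁻¹ * nGL D hD j : GL D.Idx F) ∈ D.borelSubgroup F := by
    rw [h1, inv_mul_cancel]
    exact one_mem _
  exact Fin.ext (nGL_inj D hD i j i.2 j.2 h2)

theorem h4_parabolic_subgroupOf (D : ChevalleyDatum) (hD : D ∈ Seven) (i : Fin D.rank) :
    (D.parabolicSubgroup F {(i : ℕ)}).subgroupOf (D.group F)
      = (chevBNPair D hD F).parabolic {h4_sG D hD F i} := by
  unfold ChevalleyDatum.parabolicSubgroup BNPair.parabolic
  have hT : {g : GL D.Idx F | ∃ j ∈ ({(i : ℕ)} : Set ℕ), j < D.rank ∧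
      (g : Matrix D.Idx D.Idx F) = D.nMat F (D.simple j) 1} = {nGL D hD i} := by
    ext g
    constructor
    · rintro ⟨j, hj, hjr, hg⟩
      rw [Set.mem_singleton_iff] at hj
      subst hj
      exact Units.ext (by rw [hg, nGL_val])
    · intro hg
      rw [Set.mem_singleton_iff] at hg
      rw [hg]
      exact ⟨i, rfl, i.2, nGL_val D hD i⟩
  rw [hT]
  have hcl : Subgroup.closure ({nGL D hD i} : Set (GL D.Idx F)) ≤ D.group F := by
    rw [Subgroup.closure_le]
    intro x hx
    rw [Set.mem_singleton_iff.1 hx]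
    exact (h4_sG D hD F i).2
  rw [Subgroup.subgroupOf_sup (borel_le_group D hD) hcl]
  have h5 : Subgroup.closure ({nGL D hD i} : Set (GL D.Idx F))
      = (Subgroup.closure ({h4_sG D hD F i} : Set ↥(D.group F))).map (D.group F).subtype := by
    rw [MonoidHom.map_closure, Set.image_singleton]
    rfl
  have h6 : (Subgroup.closure ({nGL D hD i} : Set (GL D.Idx F))).subgroupOf (D.group F)
      = Subgroup.closure ({h4_sG D hD F i} : Set ↥(D.group F)) := by
    rw [h5]
    unfold Subgroup.subgroupOf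
    exact Subgroup.comap_map_eq_self_of_injective (Subgroup.subtype_injective _) _
  rw [h6]
  rfl

/-- **B1** `θ(B) = B → θ` permutes the minimal parabolics. -/
theorem exists_perm_parabolic (D : ChevalleyDatum) (hD : D ∈ Seven)
    (θ : ↥(D.group F) ≃* ↥(D.group F))
    (hB : Maps D θ (D.borelSubgroup F) (D.borelSubgroup F)) :
    ∃ ρ : Equiv.Perm (Fin D.rank), ∀ i : Fin D.rank,
      Maps D θ (D.parabolicSubgroup F {(i : ℕ)}) (D.parabolicSubgroup F {((ρ i : Fin D.rank) : ℕ)}) := by
  classical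
  obtain ⟨P, hP⟩ : ∃ P : BNPair ↥(D.group F), P = chevBNPair D hD F := ⟨_, rfl⟩
  have hPB : ∀ x : ↥(D.group F), x ∈ P.B ↔ (x : GL D.Idx F) ∈ D.borelSubgroup F := by
    intro x
    rw [hP]
    exact Iff.rfl
  have hBmap : P.B.map θ.toMonoidHom = P.B := by
    ext g
    rw [Subgroup.mem_map]
    constructor
    · rintro ⟨x, hx, rfl⟩
      rw [hPB] at hx ⊢
      exact (hB x).2 hx
    · intro hg
      refine ⟨θ.symm g, ?_, ?_⟩
      · rw [hPB] at hg ⊢
        apply (hB (θ.symm g)).1
        rw [MulEquiv.apply_symm_apply]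
        exact hg
      · exact MulEquiv.apply_symm_apply θ g
  have key : ∀ i : Fin D.rank, ∃ j : Fin D.rank,
      (P.parabolic {h4_sG D hD F i}).map θ.toMonoidHom = P.parabolic {h4_sG D hD F j} := by
    intro i
    have hi : h4_sG D hD F i ∈ P.S := by
      rw [hP]
      exact h4_sG_mem_S D hD i
    obtain ⟨s', hs', h⟩ := h4_exists_singleton P θ hBmap _ hi
    rw [hP] at hs'
    obtain ⟨j, hj⟩ := h4_S_eq D hD s' hs'
    rw [hj] at h
    exact ⟨j, h⟩
  choose σ hσ using key
  have hmemS : ∀ i : Fin D.rank, h4_sG D hD F i ∈ P.S := by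
    intro i
    rw [hP]
    exact h4_sG_mem_S D hD i
  have hinj : Function.Injective σ := by
    intro i j hij
    have h1 : (P.parabolic {h4_sG D hD F i}).map θ.toMonoidHom
        = (P.parabolic {h4_sG D hD F j}).map θ.toMonoidHom := by
      rw [hσ i, hσ j, hij]
    have h2 := h4_map_inj θ h1
    have h3 := parabolic_injective (P := P) (Set.singleton_subset_iff.2 (hmemS i))
      (Set.singleton_subset_iff.2 (hmemS j)) h2
    exact h4_sG_injective D hD (Set.singleton_injective h3)
  have hbij : Function.Bijective σ := Finite.injective_iff_bijective.1 hinj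
  refine ⟨Equiv.ofBijective σ hbij, ?_⟩
  intro i g
  rw [Equiv.ofBijective_apply]
  have e1 : ∀ (k : Fin D.rank) (x : ↥(D.group F)),
      (x : GL D.Idx F) ∈ D.parabolicSubgroup F {(k : ℕ)} ↔ x ∈ P.parabolic {h4_sG D hD F k} := by
    intro k x
    rw [hP, ← h4_parabolic_subgroupOf D hD k]
    exact Subgroup.mem_subgroupOf.symm
  rw [e1, e1, ← hσ i]
  constructor
  · rintro ⟨x, hx, hxg⟩
    have h7 : x = g := θ.injective hxg
    rw [← h7]
    exact hx
  · intro hg
    exact ⟨g, hg, rfl⟩

end Cfsg.Agent.Lib.Helper4.AutB1
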