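import Cfsg.Agent.Lib.Helper1.Reg3
import Cfsg.Agent.Lib.Helper3.RegularP

/-! In a regular `p`-group `|G : ℧₁(G)| = |Ω₁(G)|`. -/
set_option autoImplicit false
universe u
open scoped commutatorElement

namespace Cfsg.Agent.Lib.Helper4.RegOmega

open Cfsg.Agent.Lib.Helper1 Cfsg.Agent.Lib.Helper3

theorem mem_omegaOne_top {X : Type u} [Group X] [Finite X] {p : ℕ} [Fact p.Prime]
    (hX : Cfsg.IsRegularPGroup p X) (x : X) :
    x ∈ Cfsg.omegaOne p (⊤ : Subgroup X) ↔ x ^ p = 1 := by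
  constructor
  · intro hx
    apply Reg.pow_eq_one_of_mem_closure_regular hX
    unfold Cfsg.omegaOne at hx
    refine Subgroup.closure_mono ?_ hx
    rintro y ⟨_, hy⟩
    exact hy
  · intro hx
    exact Subgroup.subset_closure ⟨Subgroup.mem_top x, hx⟩

theorem mem_powerClosure_top {X : Type u} [Group X] [Finite X] {p : ℕ} [Fact p.Prime]
    (hX : Cfsg.IsRegularPGroup p X) (y : X) :
    y ∈ Cfsg.powerClosure p 1 (⊤ : Subgroup X) ↔ ∃ x : X, y = x ^ p := by
  constructor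
  · intro hy
    obtain ⟨x, _, hx⟩ := Reg.exists_pow_of_mem_powerClosure_regular hX ⊤ 1 y hy
    exact ⟨x, by rw [hx, pow_one]⟩
  · rintro ⟨x, rfl⟩
    exact Subgroup.subset_closure ⟨x, Subgroup.mem_top x, by rw [pow_one]⟩

theorem card_eq_top {X : Type u} [Group X] [Finite X] {p : ℕ} [Fact p.Prime]
    (hX : Cfsg.IsRegularPGroup p X) :
    Nat.card X = Nat.card (Cfsg.powerClosure p 1 (⊤ : Subgroup X)) *
      Nat.card (Cfsg.omegaOne p (⊤ : Subgroup X)) := by
  obtain ⟨Ω, hΩ⟩ : ∃ Ω, Ω = Cfsg.omegaOne p (⊤ : Subgroup X) := ⟨_, rfl⟩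
  obtain ⟨M, hM⟩ : ∃ M, M = Cfsg.powerClosure p 1 (⊤ : Subgroup X) := ⟨_, rfl⟩
  rw [← hΩ, ← hM]
  have hmemΩ : ∀ x, x ∈ Ω ↔ x ^ p = 1 := fun x => hΩ ▸ mem_omegaOne_top hX x
  have hmemM : ∀ y, y ∈ M ↔ ∃ x : X, y = x ^ p := fun y => hM ▸ mem_powerClosure_top hX y
  have hrel : ∀ a b : X, a⁻¹ * b ∈ Ω ↔ a ^ p = b ^ p := by
    intro a b
    rw [hmemΩ]
    have h1 := regular_pow_eq_iff hX a⁻¹ b⁻¹ 1
    rw [pow_one, inv_inv] at h1
    rw [← h1, inv_pow, inv_pow, inv_inj]
  have hcard : Nat.card (X ⧸ Ω) = Nat.card M := by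
    apply Nat.card_congr
    refine Equiv.ofBijective (fun q => Quotient.liftOn' q
      (fun x => (⟨x ^ p, (hmemM _).mpr ⟨x, rfl⟩⟩ : M)) ?_) ⟨?_, ?_⟩
    · intro a b hab
      rw [QuotientGroup.leftRel_apply] at hab
      exact Subtype.ext ((hrel a b).mp hab)
    · intro q₁ q₂
      induction q₁ using Quotient.inductionOn' with | _ a => ?_
      induction q₂ using Quotient.inductionOn' with | _ b => ?_
      intro h
      simp only [Quotient.liftOn'_mk''] at h
      have h2 : a ^ p = b ^ p := congrArg Subtype.val h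
      exact Quotient.sound' ((QuotientGroup.leftRel_apply).mpr ((hrel a b).mpr h2))
    · rintro ⟨y, hy⟩
      obtain ⟨x, rfl⟩ := (hmemM y).mp hy
      exact ⟨Quotient.mk'' x, rfl⟩
  rw [Subgroup.card_eq_card_quotient_mul_card_subgroup Ω, hcard]

theorem map_subtype_top' {X : Type u} [Group X] (L : Subgroup X) :
    (⊤ : Subgroup L).map L.subtype = L := by
  rw [← MonoidHom.range_eq_map, Subgroup.range_subtype]

theorem omegaOne_map_subtype {X : Type u} [Group X] (p : ℕ) (L : Subgroup X) :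
    (Cfsg.omegaOne p (⊤ : Subgroup L)).map L.subtype = Cfsg.omegaOne p L := by
  unfold Cfsg.omegaOne
  rw [MonoidHom.map_closure]
  congr 1
  ext y
  constructor
  · rintro ⟨x, ⟨_, hx⟩, rfl⟩
    refine ⟨x.2, ?_⟩
    have := congrArg Subtype.val hx
    simpa using this
  · rintro ⟨hy, hyp⟩
    exact ⟨⟨y, hy⟩, ⟨Subgroup.mem_top _, Subtype.ext (by simpa using hyp)⟩, rfl⟩

theorem powerClosure_map_subtype {X : Type u} [Group X] (p n : ℕ) (L : Subgroup X) :
    (Cfsg.powerClosure p n (⊤ : Subgroup L)).map L.subtype = Cfsg.powerClosure p n L := by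
  rw [powerClosure_map, map_subtype_top']

/-- relative form: `|L| = |℧₁(L)| · |Ω₁(L)|` for a regular subgroup `L`. -/
theorem card_eq {X : Type u} [Group X] [Finite X] {p : ℕ} [Fact p.Prime] (L : Subgroup X)
    (hL : Cfsg.IsRegularPGroup p L) :
    Nat.card L = Nat.card (Cfsg.powerClosure p 1 L) * Nat.card (Cfsg.omegaOne p L) := by
  have h2 : Nat.card (Cfsg.powerClosure p 1 L) =
      Nat.card (Cfsg.powerClosure p 1 (⊤ : Subgroup L)) := by
    rw [← powerClosure_map_subtype p 1 L,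
      Subgroup.card_map_of_injective (Subgroup.subtype_injective L)]
  have h3 : Nat.card (Cfsg.omegaOne p L) = Nat.card (Cfsg.omegaOne p (⊤ : Subgroup L)) := by
    rw [← omegaOne_map_subtype p L,
      Subgroup.card_map_of_injective (Subgroup.subtype_injective L)]
  rw [h2, h3]
  exact card_eq_top hL

/-- elements of `Ω₁(L)` have order dividing `p` for regular `L`. -/
theorem pow_eq_one_of_mem_omegaOne {X : Type u} [Group X] [Finite X] {p : ℕ} [Fact p.Prime]
    (L : Subgroup X) (hL : Cfsg.IsRegularPGroup p L) (x : X) (hx : x ∈ Cfsg.omegaOne p L) :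
    x ∈ L ∧ x ^ p = 1 := by
  have := Reg.pow_eq_one_of_mem_closure_sub L hL 1 {x : X | x ∈ L ∧ x ^ p = 1}
    (fun z hz => hz.1) (fun z hz => by rw [pow_one]; exact hz.2) x hx
  rwa [pow_one] at this

theorem index_eq_top {X : Type u} [Group X] [Finite X] {p : ℕ} [Fact p.Prime]
    (hX : Cfsg.IsRegularPGroup p X) :
    (Cfsg.powerClosure p 1 (⊤ : Subgroup X)).index =
      Nat.card (Cfsg.omegaOne p (⊤ : Subgroup X)) := by
  have h1 := card_eq_top hX
  have h2 := Subgroup.index_mul_card (Cfsg.powerClosure p 1 (⊤ : Subgroup X))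
  rw [h1, mul_comm] at h2
  exact Nat.eq_of_mul_eq_mul_left Nat.card_pos h2

end Cfsg.Agent.Lib.Helper4.RegOmega
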