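import Cfsg.Agent.Lib.Helper4.HP4
import Cfsg.Agent.Lib.Helper4.RegOmega

/-! P. Hall's regularity criterion: a finite `p`-group in which every subgroup of exponent
dividing `p` has order at most `p ^ (p - 2)` is regular. -/
set_option autoImplicit false
universe u
open scoped commutatorElement

namespace Cfsg.Agent.Lib.Helper4.HallReg

open Cfsg.Agent.Lib.Helper1 Cfsg.Agent.Lib.Helper3 Cfsg.Agent.Lib.Helper4.HP
open Cfsg.Agent.Lib.Helper4.RegOmega

section chain

variable {X : Type u} [Group X]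

/-- commutator with the whole group. -/
def cT (A : Subgroup X) : Subgroup X := ⁅A, (⊤ : Subgroup X)⁆

theorem cT_mono : Monotone (cT (X := X)) := fun _ _ h => Subgroup.commutator_mono h le_rfl

theorem cT_normal (A : Subgroup X) [A.Normal] : (cT A).Normal := by
  unfold cT; infer_instance

theorem cT_le (A : Subgroup X) [A.Normal] : cT A ≤ A := Subgroup.commutator_le_left A ⊤

theorem cT_iter_normal (j : ℕ) (A : Subgroup X) (hA : A.Normal) : (cT^[j] A).Normal := by
  induction j generalizing A with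
  | zero => exact hA
  | succ j ih =>
    rw [Function.iterate_succ_apply]
    exact ih _ (cT_normal A)

theorem cT_iter_le (j : ℕ) (A : Subgroup X) (hA : A.Normal) : cT^[j] A ≤ A := by
  induction j generalizing A with
  | zero => exact le_rfl
  | succ j ih =>
    rw [Function.iterate_succ_apply]
    exact (ih _ (cT_normal A)).trans (cT_le A)

theorem commutator_sup_le (A N : Subgroup X) [N.Normal] :
    ⁅A ⊔ N, (⊤ : Subgroup X)⁆ ≤ ⁅A, (⊤ : Subgroup X)⁆ ⊔ N := by
  rw [Subgroup.commutator_le]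
  intro g hg h _
  have hg' : g ∈ ((A ⊔ N : Subgroup X) : Set X) := hg
  rw [Subgroup.mul_normal] at hg'
  obtain ⟨a, ha, n, hn, rfl⟩ := Set.mem_mul.mp hg'
  have e : ⁅a * n, h⁆ = (a * ⁅n, h⁆ * a⁻¹) * ⁅a, h⁆ := by
    simp only [commutatorElement_def]; group
  rw [e]
  refine mul_mem (Subgroup.mem_sup_right ?_) (Subgroup.mem_sup_left
    (Subgroup.commutator_mem_commutator ha (Subgroup.mem_top h)))
  apply Subgroup.Normal.conj_mem inferInstance
  rw [commutatorElement_def]
  have : n * h * n⁻¹ * h⁻¹ = n * (h * n⁻¹ * h⁻¹) := by group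
  rw [this]
  exact mul_mem hn (Subgroup.Normal.conj_mem inferInstance _ (inv_mem hn) h)

theorem le_of_le_cT_sup [Group.IsNilpotent X] (K N : Subgroup X) [N.Normal]
    (h : K ≤ cT K ⊔ N) : K ≤ N := by
  have key : ∀ n : ℕ, K ≤ (⊤ : Subgroup X).lowerCentralSeries n ⊔ N := by
    intro n
    induction n with
    | zero => simp
    | succ n ih =>
      refine h.trans (sup_le ?_ le_sup_right)
      refine (cT_mono ih).trans ?_
      unfold cT
      refine (commutator_sup_le _ N).trans ?_
      rw [Subgroup.lowerCentralSeries_succ]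
  obtain ⟨n, hn⟩ := (Subgroup.nilpotent_iff_lowerCentralSeries (G := X)).mp inferInstance
  have := key n
  rwa [hn, bot_sup_eq] at this

theorem chain [Finite X] {p : ℕ} [hp : Fact p.Prime] (hX : IsPGroup p X) (N : Subgroup X)
    [N.Normal] : ∀ (j : ℕ) (K : Subgroup X), K.Normal → N ≤ K →
      Nat.card K ≤ p ^ j * Nat.card N → cT^[j] K ≤ N := by
  haveI : Group.IsNilpotent X := hX.isNilpotent
  intro j
  induction j with
  | zero =>
    intro K _ hNK hc
    have : N = K := Subgroup.eq_of_le_of_card_ge hNK (by simpa using hc)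
    rw [Function.iterate_zero, id, this]
  | succ j ih =>
    intro K hK hNK hc
    by_cases hKN : K ≤ N
    · exact (cT_iter_le _ K hK).trans hKN
    · haveI := hK
      haveI := cT_normal K
      obtain ⟨M, hM⟩ : ∃ M, M = cT K ⊔ N := ⟨_, rfl⟩
      have hMn : M.Normal := by rw [hM]; infer_instance
      have hNM : N ≤ M := hM ▸ le_sup_right
      have hMK : M ≤ K := hM ▸ sup_le (cT_le K) hNK
      have hne : M ≠ K := by
        intro h
        apply hKN
        apply le_of_le_cT_sup K N
        rw [← hM, h]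
      have hlt : Nat.card M < Nat.card K := by
        refine lt_of_le_of_ne (Subgroup.card_le_of_le hMK) ?_
        intro h
        exact hne (Subgroup.eq_of_le_of_card_ge hMK h.ge)
      obtain ⟨a, ha⟩ := IsPGroup.iff_card.mp (hX.to_subgroup K)
      obtain ⟨b, hb⟩ := IsPGroup.iff_card.mp (hX.to_subgroup M)
      have hba : b < a := by
        rw [ha, hb] at hlt
        exact (Nat.pow_lt_pow_iff_right hp.out.one_lt).mp hlt
      have hle : Nat.card M * p ≤ Nat.card K := by
        rw [ha, hb, ← pow_succ]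
        exact Nat.pow_le_pow_right hp.out.pos hba
      have hc' : Nat.card M ≤ p ^ j * Nat.card N := by
        have h1 : Nat.card M * p ≤ (p ^ j * Nat.card N) * p := by
          calc Nat.card M * p ≤ Nat.card K := hle
            _ ≤ p ^ (j + 1) * Nat.card N := hc
            _ = (p ^ j * Nat.card N) * p := by ring
        exact Nat.le_of_mul_le_mul_right h1 hp.out.pos
      have h2 := ih M hMn hNM hc'
      rw [Function.iterate_succ_apply]
      refine le_trans ?_ h2
      exact (cT_mono.iterate j) (hM ▸ le_sup_left)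

theorem cT_iter_lcs (i j : ℕ) :
    cT^[j] ((⊤ : Subgroup X).lowerCentralSeries i) = (⊤ : Subgroup X).lowerCentralSeries (i + j) := by
  induction j generalizing i with
  | zero => rfl
  | succ j ih =>
    rw [Function.iterate_succ_apply]
    have : cT ((⊤ : Subgroup X).lowerCentralSeries i) =
        (⊤ : Subgroup X).lowerCentralSeries (i + 1) := rfl
    rw [this, ih (i + 1)]
    congr 1
    omega

end chain

section rel

variable {G : Type u} [Group G] [Finite G] {p : ℕ} [hp : Fact p.Prime]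

theorem lcs_le_powerClosure (hG : IsPGroup p G) (H : Subgroup G) (j : ℕ)
    (hcard : Nat.card (⁅H, H⁆ : Subgroup G) ≤ p ^ j * Nat.card (Cfsg.powerClosure p 1 ⁅H, H⁆)) :
    H.lowerCentralSeries (1 + j) ≤ Cfsg.powerClosure p 1 ⁅H, H⁆ := by
  obtain ⟨K, hK⟩ : ∃ K : Subgroup H, K = (⊤ : Subgroup H).lowerCentralSeries 1 := ⟨_, rfl⟩
  haveI hKn : K.Normal := by rw [hK]; infer_instance
  haveI hNn : (Cfsg.powerClosure p 1 K).Normal := Reg.powerClosure_normal p 1 K
  have hmapK : K.map H.subtype = ⁅H, H⁆ := by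
    rw [hK, Subgroup.top_subtype_lowerCentralSeries]; rfl
  have hmapN : (Cfsg.powerClosure p 1 K).map H.subtype = Cfsg.powerClosure p 1 ⁅H, H⁆ := by
    rw [powerClosure_map, hmapK]
  have hNK : Cfsg.powerClosure p 1 K ≤ K := by
    unfold Cfsg.powerClosure
    rw [Subgroup.closure_le]
    rintro y ⟨x, hx, rfl⟩
    exact pow_mem hx _
  have hc : Nat.card K ≤ p ^ j * Nat.card (Cfsg.powerClosure p 1 K) := by
    rw [← Subgroup.card_map_of_injective (Subgroup.subtype_injective H) (K := K),
      ← Subgroup.card_map_of_injective (Subgroup.subtype_injective H)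
        (K := Cfsg.powerClosure p 1 K), hmapK, hmapN]
    exact hcard
  have h1 := chain (hG.to_subgroup H) (Cfsg.powerClosure p 1 K) j K hKn hNK hc
  rw [hK, cT_iter_lcs, ← hK] at h1
  rw [← Subgroup.top_subtype_lowerCentralSeries, ← hmapN]
  exact Subgroup.map_mono h1

/-- the hypothesis of Hall's criterion. -/
def SmallExp (p k : ℕ) (G : Type u) [Group G] : Prop :=
  ∀ E : Subgroup G, (∀ x ∈ E, x ^ p = 1) → Nat.card E ≤ p ^ k

omit [Finite G] hp in
theorem SmallExp.subgroup {k : ℕ} (h : SmallExp p k G) (L : Subgroup G) : SmallExp p k L := by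
  intro E hE
  rw [← Subgroup.card_map_of_injective (Subgroup.subtype_injective L)]
  apply h
  rintro _ ⟨x, hx, rfl⟩
  have := hE x hx
  simpa using congrArg Subtype.val this

theorem hall_aux (p : ℕ) [hp : Fact p.Prime] : ∀ (m : ℕ) (G : Type u) [Group G] [Finite G],
    Nat.card G = m → IsPGroup p G → SmallExp p (p - 2) G → Cfsg.IsRegularPGroup p G := by
  intro m
  induction m using Nat.strong_induction_on with
  | _ m ih =>
  intro G _ _ hcard hG hsm
  by_cases hcomm : ∀ x y : G, x * y = y * x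
  · exact isRegularPGroup_of_comm hG hcomm
  apply Reg.regular_of_WR hG
  intro a b
  obtain ⟨H, hH⟩ : ∃ H : Subgroup G, H = Subgroup.closure ({a, b} : Set G) := ⟨_, rfl⟩
  rw [← hH]
  have haH : a ∈ H := hH ▸ Subgroup.subset_closure (by simp)
  have hbH : b ∈ H := hH ▸ Subgroup.subset_closure (by simp)
  have hne : (⁅H, H⁆ : Subgroup G) ≠ ⊤ := commutator_closure_ne_top hG hcomm H
  have hlt : Nat.card (⁅H, H⁆ : Subgroup G) < m :=
    hcard ▸ Reg.card_lt_of_ne_top _ hne
  have hreg : Cfsg.IsRegularPGroup p (⁅H, H⁆ : Subgroup G) :=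
    ih _ hlt (⁅H, H⁆ : Subgroup G) rfl (hG.to_subgroup _) (hsm.subgroup _)
  have hp2 : p = (p - 2) + 2 := by have := hp.out.two_le; omega
  -- counting
  have hcount : Nat.card (⁅H, H⁆ : Subgroup G) ≤
      p ^ (p - 2) * Nat.card (Cfsg.powerClosure p 1 ⁅H, H⁆) := by
    rw [card_eq ⁅H, H⁆ hreg, mul_comm]
    exact Nat.mul_le_mul_right _
      (hsm _ (fun x hx => (pow_eq_one_of_mem_omegaOne ⁅H, H⁆ hreg x hx).2))
  have hlcs := lcs_le_powerClosure hG H (p - 2) hcount
  obtain ⟨c, hc, hc0, hc1, hHP⟩ := hall_petrescu_p H p hp.out.one_le a b haH hbH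
  have hcL : ∀ j, 1 ≤ j → c j ∈ ⁅H, H⁆ := by
    intro j hj
    rcases Nat.lt_or_ge j 2 with h | h
    · have : j = 1 := by omega
      subst this; rw [hc1]; exact one_mem _
    · obtain ⟨j', rfl⟩ : ∃ j', j = j' + 2 := ⟨j - 2, by omega⟩
      have h1 : c (j' + 2) ∈ H.lowerCentralSeries (j' + 1) := hc (j' + 2)
      have h2 := H.lowerCentralSeries_antitone (show 1 ≤ j' + 1 by omega) h1
      exact h2
  have hW1 : tay c p p ∈ Cfsg.powerClosure p 1 ⁅H, H⁆ :=
    tay_mem_powerClosure p _ c hc0 hcL p le_rfl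
  have hW2 : c p ∈ Cfsg.powerClosure p 1 ⁅H, H⁆ := by
    apply hlcs
    have h1 : c ((p - 2) + 2) ∈ H.lowerCentralSeries ((p - 2) + 1) := hc ((p - 2) + 2)
    rw [← hp2] at h1
    rwa [show 1 + (p - 2) = (p - 2) + 1 by omega]
  have hW : tay c p p * c p ∈ Cfsg.powerClosure p 1 ⁅H, H⁆ := mul_mem hW1 hW2
  obtain ⟨d, hd, hdW⟩ := Reg.exists_pow_of_mem_powerClosure ⁅H, H⁆
    (Reg.powClosed hreg) 1 _ (inv_mem hW)
  refine ⟨d, hd, ?_⟩
  rw [pow_one] at hdW
  rw [← hdW, hHP]
  group

/-- **P. Hall's criterion.** -/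
theorem regular_of_smallExp {G : Type u} [Group G] [Finite G] {p : ℕ} [Fact p.Prime]
    (hG : IsPGroup p G) (h : SmallExp p (p - 2) G) : Cfsg.IsRegularPGroup p G :=
  hall_aux p _ G rfl hG h

end rel

end Cfsg.Agent.Lib.Helper4.HallReg
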