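import Mathlib

/-!
# Sylow 2-subgroups of symmetric groups lying in a unique maximal subgroup (part 1)

General lemmas on coatoms, Sylow conjugates, and the case of the symmetric group of
degree `2 ^ k + 1`.
-/

namespace Cfsg.Agent.Lib.Helper4.SylTwoMax1

open Equiv Equiv.Perm MulAction
open scoped Pointwise

/-- Two proper subgroups containing `R` that generate everything: no unique coatom above `R`. -/
theorem not_unique_coatom {G : Type*} [Group G] [Finite G] (R H₁ H₂ : Subgroup G)
    (h1 : R ≤ H₁) (h2 : R ≤ H₂) (n1 : H₁ ≠ ⊤) (n2 : H₂ ≠ ⊤) (hsup : H₁ ⊔ H₂ = ⊤) :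
    ¬ ∃! M : Subgroup G, IsCoatom M ∧ R ≤ M := by
  rintro ⟨M, ⟨hM, -⟩, huniq⟩
  obtain ⟨M₁, hM₁, h1M⟩ := (eq_top_or_exists_le_coatom H₁).resolve_left n1
  obtain ⟨M₂, hM₂, h2M⟩ := (eq_top_or_exists_le_coatom H₂).resolve_left n2
  have e1 := huniq M₁ ⟨hM₁, h1.trans h1M⟩
  have e2 := huniq M₂ ⟨hM₂, h2.trans h2M⟩
  have : H₁ ⊔ H₂ ≤ M := sup_le (e1 ▸ h1M) (e2 ▸ h2M)
  rw [hsup] at this
  exact hM.1 (top_le_iff.mp this)

/-- Two distinct coatoms containing `R`. -/
theorem not_unique_coatom' {G : Type*} [Group G] (R M₁ M₂ : Subgroup G)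
    (h1 : R ≤ M₁) (h2 : R ≤ M₂) (c1 : IsCoatom M₁) (c2 : IsCoatom M₂) (hne : M₁ ≠ M₂) :
    ¬ ∃! M : Subgroup G, IsCoatom M ∧ R ≤ M := by
  rintro ⟨M, -, huniq⟩
  exact hne ((huniq M₁ ⟨c1, h1⟩).trans (huniq M₂ ⟨c2, h2⟩).symm)

/-- Every `p`-subgroup has a conjugate inside a given Sylow `p`-subgroup. -/
theorem exists_conj_le_sylow {G : Type*} [Group G] [Finite G] {p : ℕ} [Fact p.Prime]
    (R : Sylow p G) (T : Subgroup G) (hT : IsPGroup p T) :
    ∃ g : G, ∀ t ∈ T, g * t * g⁻¹ ∈ R := by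
  obtain ⟨Q, hQ⟩ := hT.exists_le_sylow
  obtain ⟨g, hg⟩ := MulAction.exists_smul_eq G Q R
  refine ⟨g, fun t ht => ?_⟩
  have h1 : (R : Subgroup G) = MulAut.conj g • (Q : Subgroup G) := by
    rw [← hg, Sylow.coe_subgroup_smul]
  change g * t * g⁻¹ ∈ (R : Subgroup G)
  rw [h1, Subgroup.mem_pointwise_smul_iff_inv_smul_mem]
  have : (MulAut.conj g)⁻¹ • (g * t * g⁻¹) = t := by
    rw [← map_inv]
    simp [MulAut.smul_def, MulAut.conj_apply, mul_assoc]
  rw [this]
  exact hQ ht

variable {α : Type*} [Fintype α] [DecidableEq α]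

/-- `R` fixes `x` and is transitive on the other points. -/
def PointedTrans (R : Subgroup (Perm α)) (x : α) : Prop :=
  (∀ r ∈ R, r x = x) ∧ ∀ y z : α, y ≠ x → z ≠ x → ∃ r ∈ R, r y = z

/-- A subgroup containing a pointed-transitive subgroup and moving the point is 2-transitive. -/
theorem two_trans_of_pointedTrans {R M : Subgroup (Perm α)} {x : α} (hR : PointedTrans R x)
    (hRM : R ≤ M) (hM : ∃ g ∈ M, g x ≠ x) : IsMultiplyPretransitive M α 2 := by
  obtain ⟨g₀, hg₀, hg₀x⟩ := hM
  -- every point can be moved to `x`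
  have tr : ∀ a : α, ∃ g ∈ M, g a = x := by
    intro a
    by_cases ha : a = x
    · exact ⟨1, M.one_mem, by simp [ha]⟩
    · obtain ⟨r, hr, hra⟩ := hR.2 a (g₀ x) ha hg₀x
      refine ⟨g₀⁻¹ * r, M.mul_mem (M.inv_mem hg₀) (hRM hr), ?_⟩
      simp [hra]
  rw [is_two_pretransitive_iff]
  intro a b c d hab hcd
  obtain ⟨g₁, hg₁, h1⟩ := tr a
  obtain ⟨g₂, hg₂, h2⟩ := tr c
  have hb : g₁ b ≠ x := by
    intro h
    apply hab
    apply g₁.injective
    rw [h1, h]
  have hd : g₂ d ≠ x := by
    intro h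
    apply hcd
    apply g₂.injective
    rw [h2, h]
  obtain ⟨r, hr, hrb⟩ := hR.2 _ _ hb hd
  refine ⟨⟨g₂⁻¹ * r * g₁, M.mul_mem (M.mul_mem (M.inv_mem hg₂) (hRM hr)) hg₁⟩, ?_, ?_⟩
  · change (g₂⁻¹ * r * g₁) a = c
    simp only [Perm.coe_mul, Function.comp_apply, h1, hR.1 r hr]
    rw [← h2]
    simp
  · change (g₂⁻¹ * r * g₁) b = d
    simp only [Perm.coe_mul, Function.comp_apply, hrb]
    simp

/-- A coatom of `Perm α` containing a pointed-transitive subgroup and a swap is the point
stabilizer. -/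
theorem coatom_eq_stabilizer_perm {R M : Subgroup (Perm α)} {x : α} (hR : PointedTrans R x)
    (hRM : R ≤ M) (hM : IsCoatom M) (hsw : ∃ g ∈ R, IsSwap g) :
    M = stabilizer (Perm α) x := by
  by_cases hfix : ∀ g ∈ M, g x = x
  · have hle : M ≤ stabilizer (Perm α) x := fun g hg => by
      rw [mem_stabilizer_iff]
      exact hfix g hg
    by_contra hne
    have hlt : M < stabilizer (Perm α) x := lt_of_le_of_ne hle hne
    have htop := hM.2 _ hlt
    -- the stabilizer is not everything since some element of `R` is a swap... use `hR`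
    obtain ⟨g, hg, a, b, hab, rfl⟩ := hsw
    -- pick a point different from `x` and a permutation moving `x` to it
    have hx : a ≠ x ∨ b ≠ x := by
      by_contra h
      push Not at h
      exact hab (h.1.trans h.2.symm)
    rcases hx with h | h
    · have : swap x a ∈ stabilizer (Perm α) x := by rw [htop]; trivial
      rw [mem_stabilizer_iff] at this
      simp at this
      exact h this
    · have : swap x b ∈ stabilizer (Perm α) x := by rw [htop]; trivial
      rw [mem_stabilizer_iff] at this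
      simp at this
      exact h this
  · exfalso
    push Not at hfix
    have h2 := two_trans_of_pointedTrans hR hRM hfix
    have hprim : IsPreprimitive M α := isPreprimitive_of_is_two_pretransitive h2
    obtain ⟨g, hg, hsw⟩ := hsw
    exact hM.1 (subgroup_eq_top_of_isPreprimitive_of_isSwap_mem hprim g hsw (hRM hg))

/-- A Sylow 2-subgroup of a symmetric group of degree at least 2 contains a swap. -/
theorem sylow_contains_swap (hα : 2 ≤ Fintype.card α) (R : Sylow 2 (Perm α)) :
    ∃ g ∈ (R : Subgroup (Perm α)), IsSwap g := by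
  obtain ⟨a, b, hab⟩ := Fintype.exists_pair_of_one_lt_card (α := α) (by omega)
  have hsw : IsSwap (swap a b) := ⟨a, b, hab, rfl⟩
  have hT : IsPGroup 2 (Subgroup.zpowers (swap a b)) := by
    apply IsPGroup.of_card (n := 1)
    rw [Nat.card_zpowers, hsw.orderOf, pow_one]
  obtain ⟨g, hg⟩ := exists_conj_le_sylow R _ hT
  refine ⟨g * swap a b * g⁻¹, hg _ (Subgroup.mem_zpowers _), g a, g b, ?_, ?_⟩
  · exact fun h => hab (g.injective h)
  · rw [swap_apply_apply]

/-- A Sylow 2-subgroup of a symmetric group of degree `2 ^ k + 1` fixes a point and is transitive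
on the remaining points. -/
theorem sylow_pointedTrans {k : ℕ} (hk : 1 ≤ k) (hα : Fintype.card α = 2 ^ k + 1)
    (R : Sylow 2 (Perm α)) : ∃ x, PointedTrans (R : Subgroup (Perm α)) x := by
  -- a fixed point
  have hnd : ¬ 2 ∣ Nat.card α := by
    rw [Nat.card_eq_fintype_card, hα]
    have : 2 ∣ 2 ^ k := dvd_pow_self 2 (by omega)
    omega
  obtain ⟨x, hx⟩ := R.isPGroup'.nonempty_fixed_point_of_prime_not_dvd_card α hnd
  have hfix : ∀ r ∈ (R : Subgroup (Perm α)), r x = x := fun r hr => hx ⟨r, hr⟩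
  refine ⟨x, hfix, ?_⟩
  -- a cycle of length `2 ^ k`
  have hpos : 2 ≤ 2 ^ k := by
    calc 2 = 2 ^ 1 := by norm_num
      _ ≤ 2 ^ k := Nat.pow_le_pow_right (by norm_num) hk
  set l : List α := (Finset.univ.erase x).toList with hl
  have hlen : l.length = 2 ^ k := by
    rw [hl, Finset.length_toList, Finset.card_erase_of_mem (Finset.mem_univ x), Finset.card_univ, hα]
    simp
  have hnd' : l.Nodup := Finset.nodup_toList _
  have hcyc : l.formPerm.IsCycle := List.isCycle_formPerm hnd' (by omega)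
  have hsupp : l.formPerm.support = Finset.univ.erase x := by
    rw [List.support_formPerm_of_nodup l hnd', hl, Finset.toList_toFinset]
    intro y hy
    have : l.length = 1 := by rw [hy]; rfl
    omega
  have hord : orderOf l.formPerm = 2 ^ k := by
    rw [hcyc.orderOf, hsupp, Finset.card_erase_of_mem (Finset.mem_univ x), Finset.card_univ, hα]
    simp
  have hT : IsPGroup 2 (Subgroup.zpowers l.formPerm) := by
    apply IsPGroup.of_card (n := k)
    rw [Nat.card_zpowers, hord]
  obtain ⟨g, hg⟩ := exists_conj_le_sylow R _ hT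
  set σ : Perm α := g * l.formPerm * g⁻¹ with hσ
  have hσR : σ ∈ (R : Subgroup (Perm α)) := hg _ (Subgroup.mem_zpowers _)
  have hσc : σ.IsCycle := hcyc.conj
  have hσcard : σ.support.card = 2 ^ k := by
    rw [hσ, card_support_conj, hsupp, Finset.card_erase_of_mem (Finset.mem_univ x),
      Finset.card_univ, hα]
    simp
  have hσx : σ x = x := hfix σ hσR
  have hσsupp : σ.support = Finset.univ.erase x := by
    apply Finset.eq_of_subset_of_card_le
    · intro y hy
      rw [Finset.mem_erase]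
      refine ⟨?_, Finset.mem_univ y⟩
      rintro rfl
      exact (mem_support.mp hy) hσx
    · rw [hσcard, Finset.card_erase_of_mem (Finset.mem_univ x), Finset.card_univ, hα]
      simp
  intro y z hy hz
  have hy' : σ y ≠ y := by
    rw [← mem_support, hσsupp]
    simp [hy]
  have hz' : σ z ≠ z := by
    rw [← mem_support, hσsupp]
    simp [hz]
  obtain ⟨i, hi⟩ := hσc.exists_zpow_eq hy' hz'
  exact ⟨σ ^ i, Subgroup.zpow_mem _ hσR i, hi⟩

/-- **Symmetric group, degree `2 ^ k + 1`**: a Sylow 2-subgroup lies in exactly one maximal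
subgroup. -/
theorem unique_coatom_perm {k : ℕ} (hk : 1 ≤ k) (hα : Fintype.card α = 2 ^ k + 1)
    (R : Sylow 2 (Perm α)) :
    ∃! M : Subgroup (Perm α), IsCoatom M ∧ (R : Subgroup (Perm α)) ≤ M := by
  obtain ⟨x, hx⟩ := sylow_pointedTrans hk hα R
  have h2 : 2 ≤ 2 ^ k := by
    calc 2 = 2 ^ 1 := by norm_num
      _ ≤ 2 ^ k := Nat.pow_le_pow_right (by norm_num) hk
  have hsw := sylow_contains_swap (by omega) R
  refine ⟨stabilizer (Perm α) x, ⟨?_, ?_⟩, ?_⟩
  · rw [← stabilizer_singleton]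
    apply Equiv.Perm.isCoatom_stabilizer
    · exact Set.singleton_nonempty x
    · obtain ⟨y, hy⟩ := Fintype.exists_ne_of_one_lt_card (α := α) (by omega) x
      exact ⟨y, by simpa using hy⟩
    · rw [Nat.card_eq_fintype_card, hα, Set.ncard_singleton]
      omega
  · intro r hr
    rw [mem_stabilizer_iff]
    exact hx.1 r hr
  · rintro M ⟨hM, hRM⟩
    exact coatom_eq_stabilizer_perm hx hRM hM hsw

end Cfsg.Agent.Lib.Helper4.SylTwoMax1
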