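import Cfsg.Agent.Lib.Helper4.HallReg
import Cfsg.Agent.Lib.Helper2.PGroupNormal
import Cfsg.Agent.Lib.Helper1.RegularPGroup
import Cfsg.Prelude.Def_Transfer

/-! Applications of Hall's regularity criterion: `p`-groups of small rank, `p > 3`. -/
set_option autoImplicit false
universe u
open scoped commutatorElement

namespace Cfsg.Agent.Lib.Helper4.HallReg

open Cfsg.Agent.Lib.Helper1 Cfsg.Agent.Lib.Helper3 Cfsg.Agent.Lib.Helper4.RegOmega

theorem comm_sup_zpowers' {G : Type u} [Group G] {A : Subgroup G} (hA : IsMulCommutative A) {x : G}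
    (hx : x ∈ Subgroup.centralizer (A : Set G)) :
    IsMulCommutative (A ⊔ Subgroup.zpowers x : Subgroup G) := by
  have hcl : A ⊔ Subgroup.zpowers x = Subgroup.closure ((A : Set G) ∪ {x}) := by
    rw [Subgroup.closure_union, Subgroup.closure_eq, Subgroup.zpowers_eq_closure]
  rw [hcl]
  apply Subgroup.isMulCommutative_closure
  have hAc : ∀ a ∈ A, ∀ b ∈ A, a * b = b * a := fun a ha b hb =>
    congrArg Subtype.val (mul_comm' (⟨a, ha⟩ : A) ⟨b, hb⟩)
  rintro a (ha | ha) b (hb | hb)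
  · exact hAc a ha b hb
  · rw [Set.mem_singleton_iff] at hb
    rw [hb]
    exact Subgroup.mem_centralizer_iff.mp hx a ha
  · rw [Set.mem_singleton_iff] at ha
    rw [ha]
    exact (Subgroup.mem_centralizer_iff.mp hx b hb).symm
  · rw [Set.mem_singleton_iff] at ha hb
    rw [ha, hb]

/-- a finite group of exponent `p` and order at least `p ^ 4` has an abelian subgroup of order
greater than `p ^ 2`. -/
theorem exists_comm_of_card_ge {E : Type u} [Group E] [Finite E] {p : ℕ} [hp : Fact p.Prime]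
    (hE : IsPGroup p E) (hcard : p ^ 4 ≤ Nat.card E) :
    ∃ A : Subgroup E, IsMulCommutative A ∧ p ^ 2 < Nat.card A := by
  have hdvd : p ^ 2 ∣ Nat.card (⊤ : Subgroup E) := by
    rw [Subgroup.card_top]
    obtain ⟨n, hn⟩ := IsPGroup.iff_card.mp hE
    rw [hn] at hcard ⊢
    have : 4 ≤ n := (Nat.pow_le_pow_iff_right hp.out.one_lt).mp hcard
    exact pow_dvd_pow p (by omega)
  obtain ⟨N, -, hNn, hNc⟩ := Cfsg.Agent.Lib.Helper2.exists_normal_le_card_eq_pow hE ⊤ hdvd
  haveI := hNn
  have hidx := Cfsg.Agent.Lib.Helper2.index_centralizer_dvd_prime hE N hNc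
  obtain ⟨C, hC⟩ : ∃ C, C = Subgroup.centralizer (N : Set E) := ⟨_, rfl⟩
  rw [← hC] at hidx
  have hCcard : p ^ 3 ≤ Nat.card C := by
    have h1 := Subgroup.index_mul_card C
    have h2 : C.index ≤ p := Nat.le_of_dvd hp.out.pos hidx
    have h3 : p ^ 4 ≤ p * Nat.card C := by
      calc p ^ 4 ≤ Nat.card E := hcard
        _ = C.index * Nat.card C := h1.symm
        _ ≤ p * Nat.card C := Nat.mul_le_mul_right _ h2
    have h4 : p * p ^ 3 ≤ p * Nat.card C := by
      calc p * p ^ 3 = p ^ 4 := by ring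
        _ ≤ _ := h3
    exact Nat.le_of_mul_le_mul_left h4 hp.out.pos
  have hNcomm : IsMulCommutative N := by
    have : IsPGroup p N := hE.to_subgroup N
    exact IsPGroup.isMulCommutative_of_card_eq_prime_sq hNc
  obtain ⟨x, hxC, hxN⟩ : ∃ x, x ∈ C ∧ x ∉ N := by
    by_contra h
    push Not at h
    have hle : C ≤ N := fun x hx => h x hx
    have h1 := Subgroup.card_le_of_le hle
    rw [hNc] at h1
    have h2 : p ^ 2 < p ^ 3 := Nat.pow_lt_pow_right hp.out.one_lt (by norm_num)
    omega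
  refine ⟨N ⊔ Subgroup.zpowers x, comm_sup_zpowers' hNcomm (hC ▸ hxC), ?_⟩
  rw [← hNc]
  refine lt_of_le_of_ne (Subgroup.card_le_of_le le_sup_left) ?_
  intro h
  have := Subgroup.eq_of_le_of_card_ge (le_sup_left : N ≤ N ⊔ Subgroup.zpowers x) h.ge
  apply hxN
  rw [this]
  exact Subgroup.mem_sup_right (Subgroup.mem_zpowers x)

/-- rank at most two gives `SmallExp p 3`. -/
theorem smallExp_three_of_rank {R : Type u} [Group R] [Finite R] {p : ℕ} [hp : Fact p.Prime]
    (hR : IsPGroup p R)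
    (hrk : ∀ E : Subgroup R, Cfsg.IsElementaryAbelian p E → Nat.card E ≤ p ^ 2) :
    SmallExp p 3 R := by
  intro E hE
  by_contra hlt
  push Not at hlt
  have hEp : IsPGroup p E := hR.to_subgroup E
  have h4 : p ^ 4 ≤ Nat.card E := by
    obtain ⟨n, hn⟩ := IsPGroup.iff_card.mp hEp
    rw [hn] at hlt ⊢
    have : 3 < n := (Nat.pow_lt_pow_iff_right hp.out.one_lt).mp hlt
    exact Nat.pow_le_pow_right hp.out.pos this
  obtain ⟨A, hA, hAc⟩ := exists_comm_of_card_ge hEp h4
  have h1 := hrk (A.map E.subtype) ⟨inferInstance, ?_⟩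
  · rw [Subgroup.card_map_of_injective (Subgroup.subtype_injective E)] at h1
    omega
  · rintro _ ⟨a, -, rfl⟩
    exact hE _ a.2

theorem SmallExp.mono {G : Type u} [Group G] {p k l : ℕ} (hp : 0 < p) (hkl : k ≤ l)
    (h : SmallExp p k G) : SmallExp p l G :=
  fun E hE => (h E hE).trans (Nat.pow_le_pow_right hp hkl)

/-- For `p > 3`, a `p`-group of rank at most two is regular. -/
theorem regular_of_rank {R : Type u} [Group R] [Finite R] {p : ℕ} [hp : Fact p.Prime] (hp3 : 3 < p)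
    (hR : IsPGroup p R)
    (hrk : ∀ E : Subgroup R, Cfsg.IsElementaryAbelian p E → Nat.card E ≤ p ^ 2) :
    Cfsg.IsRegularPGroup p R := by
  apply regular_of_smallExp hR
  refine (smallExp_three_of_rank hR hrk).mono hp.out.pos ?_
  have : p ≠ 4 := by
    rintro rfl
    exact absurd hp.out (by decide)
  omega

/-- For `p > 3`, a `p`-group with `|Ω₁| ≤ p²` is regular. -/
theorem regular_of_omega {R : Type u} [Group R] [Finite R] {p : ℕ} [hp : Fact p.Prime]
    (hp3 : 3 < p) (hR : IsPGroup p R)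
    (hO : Nat.card (Cfsg.omegaOne p (⊤ : Subgroup R)) ≤ p ^ 2) :
    Cfsg.IsRegularPGroup p R := by
  apply regular_of_rank hp3 hR
  intro E hE
  refine le_trans (Subgroup.card_le_of_le ?_) hO
  intro x hx
  exact Subgroup.subset_closure ⟨Subgroup.mem_top x, hE.2 x hx⟩

/-- `|Ω₁| ≤ p²` passes to quotients for `p > 3`. -/
theorem omega_quotient {R : Type u} [Group R] [Finite R] {p : ℕ} [hp : Fact p.Prime]
    (hp3 : 3 < p) (hR : IsPGroup p R)
    (hO : Nat.card (Cfsg.omegaOne p (⊤ : Subgroup R)) ≤ p ^ 2) (T : Subgroup R) [T.Normal] :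
    Nat.card (Cfsg.omegaOne p (⊤ : Subgroup (R ⧸ T))) ≤ p ^ 2 := by
  have hreg := regular_of_omega hp3 hR hO
  have hregQ : Cfsg.IsRegularPGroup p (R ⧸ T) := isRegularPGroup_quotient hreg T
  rw [← index_eq_top hregQ]
  rw [← index_eq_top hreg] at hO
  have h1 : Cfsg.powerClosure p 1 (⊤ : Subgroup (R ⧸ T)) =
      (Cfsg.powerClosure p 1 (⊤ : Subgroup R)).map (QuotientGroup.mk' T) := by
    rw [powerClosure_map, Subgroup.map_top_of_surjective _ (QuotientGroup.mk'_surjective T)]
  rw [h1]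
  have h2 := Subgroup.index_map_dvd (Cfsg.powerClosure p 1 (⊤ : Subgroup R))
    (QuotientGroup.mk'_surjective T)
  have h3 : (Cfsg.powerClosure p 1 (⊤ : Subgroup R)).index ≠ 0 := Subgroup.index_ne_zero_of_finite
  exact (Nat.le_of_dvd (Nat.pos_of_ne_zero h3) h2).trans hO

end Cfsg.Agent.Lib.Helper4.HallReg
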