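import Cfsg.Agent.Lib.Helper4.Metacyc2
import Cfsg.Agent.Lib.Helper4.HallRegApp
import Cfsg.Agent.Lib.Helper1.FrattiniP

/-! Huppert's criterion: for `p` odd, a finite `p`-group with `|G : ℧₁(G)| ≤ p²` is metacyclic. -/
set_option autoImplicit false
universe u
open scoped commutatorElement

namespace Cfsg.Agent.Lib.Helper4.Metacyc

open Cfsg.Agent.Lib.Helper1 Cfsg.Agent.Lib.Helper3

variable {G : Type u} [Group G] [Finite G] {p : ℕ} [hp : Fact p.Prime]

theorem card_mul_le_of_lt (hG : IsPGroup p G) {A B : Subgroup G} (hAB : A < B) :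
    Nat.card A * p ≤ Nat.card B := by
  have hlt : Nat.card A < Nat.card B := by
    refine lt_of_le_of_ne (Subgroup.card_le_of_le hAB.le) ?_
    intro h
    exact hAB.ne (Subgroup.eq_of_le_of_card_ge hAB.le h.ge)
  obtain ⟨a, ha⟩ := IsPGroup.iff_card.mp (hG.to_subgroup A)
  obtain ⟨b, hb⟩ := IsPGroup.iff_card.mp (hG.to_subgroup B)
  rw [ha, hb] at hlt ⊢
  have hab : a < b := (Nat.pow_lt_pow_iff_right hp.out.one_lt).mp hlt
  rw [← pow_succ]
  exact Nat.pow_le_pow_right hp.out.pos hab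

/-- a non-Frattini element is part of a generating pair when `|G : Φ(G)| ≤ p²`. -/
theorem two_gen (hG : IsPGroup p G) (hΦ : Nat.card G ≤ p ^ 2 * Nat.card (frattini G)) (w : G)
    (hw : w ∉ frattini G) : ∃ y : G, Subgroup.closure ({w, y} : Set G) = ⊤ := by
  obtain ⟨M1, hM1⟩ : ∃ M1, M1 = Subgroup.zpowers w ⊔ frattini G := ⟨_, rfl⟩
  have h1 : frattini G < M1 := by
    refine lt_of_le_of_ne (hM1 ▸ le_sup_right) ?_
    intro h
    apply hw
    rw [h, hM1]
    exact Subgroup.mem_sup_left (Subgroup.mem_zpowers w)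
  have hc1 := card_mul_le_of_lt hG h1
  by_cases htop : M1 = ⊤
  · refine ⟨w, ?_⟩
    have : Subgroup.zpowers w = ⊤ := frattini_nongenerating (hM1 ▸ htop)
    rw [← this, Subgroup.zpowers_eq_closure]
    congr 1
    simp
  · obtain ⟨y, hy⟩ : ∃ y, y ∉ M1 := by
      by_contra h
      push Not at h
      exact htop (eq_top_iff.mpr fun x _ => h x)
    refine ⟨y, ?_⟩
    obtain ⟨M2, hM2⟩ : ∃ M2, M2 = Subgroup.closure ({w, y} : Set G) ⊔ frattini G := ⟨_, rfl⟩
    have h2 : M1 < M2 := by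
      refine lt_of_le_of_ne ?_ ?_
      · rw [hM1, hM2]
        refine sup_le_sup_right ?_ _
        rw [Subgroup.zpowers_le]
        exact Subgroup.subset_closure (by simp)
      · intro h
        apply hy
        rw [h, hM2]
        exact Subgroup.mem_sup_left (Subgroup.subset_closure (by simp))
    have hc2 := card_mul_le_of_lt hG h2
    have h3 : Nat.card G ≤ Nat.card M2 := by
      calc Nat.card G ≤ p ^ 2 * Nat.card (frattini G) := hΦ
        _ = (Nat.card (frattini G) * p) * p := by ring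
        _ ≤ Nat.card M1 * p := Nat.mul_le_mul_right _ hc1
        _ ≤ Nat.card M2 := hc2
    have h4 : M2 = ⊤ := by
      rw [← Subgroup.card_eq_iff_eq_top]
      exact le_antisymm (Subgroup.card_le_card_group M2) h3
    exact frattini_nongenerating (hM2 ▸ h4)

theorem gen_of_closure (w y : G) (hn : (Subgroup.zpowers w).Normal)
    (h : Subgroup.closure ({w, y} : Set G) = ⊤) : Gen w y := by
  intro g
  have h1 : Subgroup.zpowers w ⊔ Subgroup.zpowers y = ⊤ := by
    rw [eq_top_iff, ← h, Subgroup.closure_le]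
    rintro x (rfl | rfl)
    · exact Subgroup.mem_sup_left (Subgroup.mem_zpowers _)
    · exact Subgroup.mem_sup_right (Subgroup.mem_zpowers _)
  have h2 : g ∈ ((Subgroup.zpowers w ⊔ Subgroup.zpowers y : Subgroup G) : Set G) := by
    rw [h1]; exact Set.mem_univ g
  rw [Subgroup.normal_mul] at h2
  obtain ⟨x, hx, x', hx', rfl⟩ := Set.mem_mul.mp h2
  obtain ⟨i, rfl⟩ := Subgroup.mem_zpowers_iff.mp hx
  obtain ⟨j, rfl⟩ := Subgroup.mem_zpowers_iff.mp hx'
  exact ⟨i, j, rfl⟩

theorem isMulCommutative_of_card_le_sq {Q : Type u} [Group Q] [Finite Q] (hQ : IsPGroup p Q)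
    (h : Nat.card Q ≤ p ^ 2) : IsMulCommutative Q := by
  obtain ⟨k, hk⟩ := IsPGroup.iff_card.mp hQ
  have hk2 : k ≤ 2 := by
    rw [hk] at h
    exact (Nat.pow_le_pow_iff_right hp.out.one_lt).mp h
  interval_cases k
  · have : Subsingleton Q := by
      rw [← Finite.card_le_one_iff_subsingleton, hk]; simp
    exact ⟨⟨fun a b => Subsingleton.elim _ _⟩⟩
  · have : IsCyclic Q := isCyclic_of_prime_card (p := p) (by rw [hk]; simp)
    exact IsCyclic.isMulCommutative
  · exact IsPGroup.isMulCommutative_of_card_eq_prime_sq hk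

/-- the reduced case: class at most two with derived subgroup of exponent `p`. -/
theorem reduced (hp2 : p ≠ 2) (hG : IsPGroup p G) (hN0 : N0 p G = ⊥)
    (hidx : (Cfsg.powerClosure p 1 (⊤ : Subgroup G)).index ≤ p ^ 2) : Cfsg.IsMetacyclic G := by
  have hcl : ⁅commutator G, (⊤ : Subgroup G)⁆ = ⊥ := by
    rw [eq_bot_iff, ← hN0]; exact le_sup_right
  have hexp0 : Cfsg.powerClosure p 1 (commutator G) = ⊥ := by
    rw [eq_bot_iff, ← hN0]; exact le_sup_left
  have hexp : ∀ x ∈ commutator G, x ^ p = 1 := by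
    intro x hx
    have := Reg.pow_eq_one_of_powerClosure_eq_bot p 1 hexp0 x hx
    rwa [pow_one] at this
  have hpow : ∀ x y : G, (x * y) ^ p = x ^ p * y ^ p :=
    Reg.s0123 hG (Or.inl ⟨hp2, hcl⟩) (fun x hx => Subgroup.subset_closure (hexp x hx))
  obtain ⟨M, hMdef⟩ : ∃ M, M = Cfsg.powerClosure p 1 (⊤ : Subgroup G) := ⟨_, rfl⟩
  rw [← hMdef] at hidx
  haveI hMn : M.Normal := hMdef ▸ Reg.powerClosure_normal p 1 ⊤
  have hpowM : ∀ x : G, x ^ p ∈ M := fun x =>
    hMdef ▸ Subgroup.subset_closure ⟨x, Subgroup.mem_top x, by rw [pow_one]⟩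
  have hM : ∀ y ∈ M, ∃ x : G, y = x ^ p := by
    intro y hy
    rw [hMdef] at hy
    unfold Cfsg.powerClosure at hy
    induction hy using Subgroup.closure_induction with
    | mem y hy =>
      obtain ⟨x, -, rfl⟩ := hy
      exact ⟨x, by rw [pow_one]⟩
    | one => exact ⟨1, by rw [one_pow]⟩
    | mul y₁ y₂ _ _ h₁ h₂ =>
      obtain ⟨x₁, rfl⟩ := h₁
      obtain ⟨x₂, rfl⟩ := h₂
      exact ⟨x₁ * x₂, (hpow x₁ x₂).symm⟩
    | inv y _ h =>
      obtain ⟨x, rfl⟩ := h
      exact ⟨x⁻¹, by rw [inv_pow]⟩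
  have hGM : commutator G ≤ M := by
    rw [← Subgroup.Normal.quotient_commutative_iff_commutator_le]
    exact isMulCommutative_of_card_le_sq (hG.to_quotient M) hidx
  have hΦM : frattini G ≤ M := frattini_le_of_elementary_quotient p M hGM hpowM
  have hMΦ : M ≤ frattini G := by
    intro y hy
    obtain ⟨x, rfl⟩ := hM y hy
    exact pow_prime_mem_frattini_of_isPGroup p hG x
  have hΦ : Nat.card G ≤ p ^ 2 * Nat.card (frattini G) := by
    rw [← Subgroup.index_mul_card M]
    exact Nat.mul_le_mul hidx (Subgroup.card_le_of_le hMΦ)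
  -- trivial group
  by_cases hΦtop : frattini G = ⊤
  · have h1 : (⊥ : Subgroup G) = ⊤ := frattini_nongenerating (by rw [hΦtop, bot_sup_eq])
    apply isMetacyclic_of_gen 1 1
    · intro g
      have : g ∈ (⊥ : Subgroup G) := h1 ▸ Subgroup.mem_top g
      rw [Subgroup.mem_bot] at this
      exact ⟨0, 0, by simp [this]⟩
    · rw [Subgroup.zpowers_one_eq_bot]; infer_instance
  -- find `w`
  have key : ∃ w : G, w ∉ frattini G ∧ commutator G ≤ Subgroup.zpowers w := by
    obtain ⟨a₀, ha₀⟩ : ∃ a₀, a₀ ∉ frattini G := by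
      by_contra h
      push Not at h
      exact hΦtop (eq_top_iff.mpr fun x _ => h x)
    by_cases hab : commutator G = ⊥
    · exact ⟨a₀, ha₀, hab ▸ bot_le⟩
    obtain ⟨b₀, hb₀⟩ := two_gen hG hΦ a₀ ha₀
    obtain ⟨c, hc⟩ : ∃ c, c = ⁅a₀, b₀⁆ := ⟨_, rfl⟩
    have hcG : c ∈ commutator G := by
      rw [hc, commutator_def]
      exact Subgroup.commutator_mem_commutator (Subgroup.mem_top _) (Subgroup.mem_top _)
    have hccent : c ∈ Subgroup.center G := by
      rw [Subgroup.mem_center_iff]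
      intro g
      exact (Reg.commute_of_mem_of_commutator_eq_bot hcl hcG g).symm.eq
    haveI hCn : (Subgroup.zpowers c).Normal :=
      Cfsg.Agent.Lib.Helper2.zpowers_normal_of_mem_center hccent
    have hGC : commutator G ≤ Subgroup.zpowers c := by
      rw [commutator_def, ← hb₀]
      apply commutator_closure_le _ (Subgroup.zpowers c)
      · intro g _ x hx
        exact hCn.conj_mem x hx g
      · intro s hs t ht
        rcases hs with rfl | rfl <;> rcases ht with rfl | rfl
        · rw [commutatorElement_self]; exact one_mem _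
        · rw [← hc]; exact Subgroup.mem_zpowers c
        · rw [← commutatorElement_inv, ← hc]; exact inv_mem (Subgroup.mem_zpowers c)
        · rw [commutatorElement_self]; exact one_mem _
    have hc1 : c ≠ 1 := by
      rintro rfl
      apply hab
      rw [eq_bot_iff]
      refine hGC.trans ?_
      rw [Subgroup.zpowers_one_eq_bot]
    -- maximal order
    haveI : Nonempty {w : G // c ∈ Subgroup.zpowers w} := ⟨⟨c, Subgroup.mem_zpowers c⟩⟩
    obtain ⟨⟨w, hwc⟩, hwmax⟩ := Finite.exists_max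
      (fun w : {w : G // c ∈ Subgroup.zpowers w} => orderOf (w : G))
    refine ⟨w, ?_, hGC.trans (by rw [Subgroup.zpowers_le]; exact hwc)⟩
    intro hwΦ
    obtain ⟨v, rfl⟩ := hM w (hΦM hwΦ)
    have hvc : c ∈ Subgroup.zpowers v :=
      (Subgroup.zpowers_le.mpr (pow_mem (Subgroup.mem_zpowers v) p)) hwc
    have h1 := hwmax ⟨v, hvc⟩
    simp only at h1
    have hv1 : v ≠ 1 := by
      rintro rfl
      rw [Subgroup.zpowers_one_eq_bot, Subgroup.mem_bot] at hvc
      exact hc1 hvc
    obtain ⟨e, he⟩ := (IsPGroup.iff_orderOf.mp hG) v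
    have he0 : e ≠ 0 := by
      rintro rfl
      rw [pow_zero, orderOf_eq_one_iff] at he
      exact hv1 he
    have hdvd : p ∣ orderOf v := by
      rw [he]; exact dvd_pow_self p he0
    have h2 := orderOf_pow_of_dvd hp.out.ne_zero hdvd
    rw [h2] at h1
    have h3 : orderOf v / p < orderOf v :=
      Nat.div_lt_self (orderOf_pos v) hp.out.one_lt
    omega
  obtain ⟨w, hw, hGw⟩ := key
  have hwn : (Subgroup.zpowers w).Normal := normal_of_commutator_le hGw
  obtain ⟨y, hy⟩ := two_gen hG hΦ w hw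
  exact isMetacyclic_of_gen w y (gen_of_closure w y hwn hy) hwn

theorem huppert_aux (p : ℕ) [hp : Fact p.Prime] (hp2 : p ≠ 2) : ∀ (m : ℕ) (G : Type u) [Group G]
    [Finite G], Nat.card G = m → IsPGroup p G →
    (Cfsg.powerClosure p 1 (⊤ : Subgroup G)).index ≤ p ^ 2 → Cfsg.IsMetacyclic G := by
  intro m
  induction m using Nat.strong_induction_on with
  | _ m ih =>
  intro G _ _ hcard hG hidx
  by_cases hN0 : N0 p G = ⊥
  · exact reduced hp2 hG hN0 hidx
  obtain ⟨z, hzN, hzc, hzo⟩ := Cfsg.Agent.Lib.Helper2.exists_central_orderOf_eq_prime hG (N0 p G) hN0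
  haveI hZn : (Subgroup.zpowers z).Normal :=
    Cfsg.Agent.Lib.Helper2.zpowers_normal_of_mem_center hzc
  have hlt : Nat.card (G ⧸ Subgroup.zpowers z) < m := by
    have h1 := Subgroup.card_eq_card_quotient_mul_card_subgroup (Subgroup.zpowers z)
    rw [Nat.card_zpowers, hzo, hcard] at h1
    rw [h1]
    have : 0 < Nat.card (G ⧸ Subgroup.zpowers z) := Nat.card_pos
    have := hp.out.one_lt
    nlinarith
  have hidx' : (Cfsg.powerClosure p 1 (⊤ : Subgroup (G ⧸ Subgroup.zpowers z))).index ≤ p ^ 2 := by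
    have h1 : Cfsg.powerClosure p 1 (⊤ : Subgroup (G ⧸ Subgroup.zpowers z)) =
        (Cfsg.powerClosure p 1 (⊤ : Subgroup G)).map (QuotientGroup.mk' (Subgroup.zpowers z)) := by
      rw [powerClosure_map, Subgroup.map_top_of_surjective _ (QuotientGroup.mk'_surjective _)]
    rw [h1]
    have h2 := Subgroup.index_map_dvd (Cfsg.powerClosure p 1 (⊤ : Subgroup G))
      (QuotientGroup.mk'_surjective (Subgroup.zpowers z))
    have h3 : (Cfsg.powerClosure p 1 (⊤ : Subgroup G)).index ≠ 0 := Subgroup.index_ne_zero_of_finite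
    exact (Nat.le_of_dvd (Nat.pos_of_ne_zero h3) h2).trans hidx
  have hQ := ih _ hlt (G ⧸ Subgroup.zpowers z) rfl (hG.to_quotient _) hidx'
  exact core hG z hzc hzo hzN hQ

/-- **Huppert's criterion.** -/
theorem huppert (hp2 : p ≠ 2) (hG : IsPGroup p G)
    (hidx : (Cfsg.powerClosure p 1 (⊤ : Subgroup G)).index ≤ p ^ 2) : Cfsg.IsMetacyclic G :=
  huppert_aux p hp2 _ G rfl hG hidx

/-- For `p > 3`, `|Ω₁(R)| ≤ p²` forces `R` metacyclic. -/
theorem metacyclic_of_omega (hp3 : 3 < p) (hG : IsPGroup p G)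
    (hO : Nat.card (Cfsg.omegaOne p (⊤ : Subgroup G)) ≤ p ^ 2) : Cfsg.IsMetacyclic G := by
  have hreg := Cfsg.Agent.Lib.Helper4.HallReg.regular_of_omega hp3 hG hO
  rw [← Cfsg.Agent.Lib.Helper4.RegOmega.index_eq_top hreg] at hO
  exact huppert (by omega) hG hO

end Cfsg.Agent.Lib.Helper4.Metacyc
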