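import Mathlib

set_option autoImplicit false

namespace Cfsg.Agent.Lib.Helper4

theorem card_carrier_eq_index {G : Type*} [Group G] (g : G) :
    Nat.card (ConjClasses.mk g).carrier = (Subgroup.centralizer ({g} : Set G)).index := by
  rw [← ConjAct.orbit_eq_carrier_conjClasses, Nat.card_coe_set_eq, ← MulAction.index_stabilizer,
    ConjAct.stabilizer_eq_centralizer]
  rfl

theorem card_carrier_mul_card_centralizer {G : Type*} [Group G] (g : G) :
    Nat.card (ConjClasses.mk g).carrier * Nat.card (Subgroup.centralizer ({g} : Set G)) =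
      Nat.card G := by
  rw [card_carrier_eq_index, mul_comm, Subgroup.card_mul_index]

/-- conjugate elements have centralizers of equal cardinality -/
theorem card_centralizer_eq_of_isConj {G : Type*} [Group G] {g h : G} (hgh : IsConj g h) :
    Nat.card (Subgroup.centralizer ({g} : Set G)) = Nat.card (Subgroup.centralizer ({h} : Set G)) := by
  obtain ⟨c, hc⟩ := isConj_iff.mp hgh
  subst hc
  refine Nat.card_congr ⟨fun x => ⟨c * x * c⁻¹, ?_⟩, fun y => ⟨c⁻¹ * y * c, ?_⟩, ?_, ?_⟩
  · have hx := x.2
    rw [Subgroup.mem_centralizer_singleton_iff] at hx ⊢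
    calc c * ↑x * c⁻¹ * (c * g * c⁻¹) = c * (↑x * g) * c⁻¹ := by group
      _ = c * (g * ↑x) * c⁻¹ := by rw [hx]
      _ = c * g * c⁻¹ * (c * ↑x * c⁻¹) := by group
  · have hy := y.2
    rw [Subgroup.mem_centralizer_singleton_iff] at hy ⊢
    calc c⁻¹ * ↑y * c * g = c⁻¹ * (↑y * (c * g * c⁻¹)) * c := by group
      _ = c⁻¹ * ((c * g * c⁻¹) * ↑y) * c := by rw [hy]
      _ = g * (c⁻¹ * ↑y * c) := by group
  · intro x; ext; simp only []; group
  · intro y; ext; simp only []; group

end Cfsg.Agent.Lib.Helper4
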