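import Mathlib
import Cfsg.Agent.Lib.Helper1.FrattiniP
import Cfsg.Agent.Lib.Helper1.PNilpotentLocal

/-!
A `p'`-automorphism of a finite `p`-group that fixes every element of order dividing `p`
(dividing `4` when `p = 2`) is trivial.
-/

set_option autoImplicit false

namespace Cfsg.Agent.Lib.Helper4.Huppert

universe u

open Cfsg.Agent.Lib.Helper1

section basic

variable {Q : Type u} [Group Q]

theorem iterate_mul_pow (φ : Q →* Q) (u c : Q) (h1 : φ u = u * c) (h2 : φ c = c) (k : ℕ) :
    φ^[k] u = u * c ^ k := by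
  induction k with
  | zero => simp
  | succ k ih =>
    rw [Function.iterate_succ_apply', ih, map_mul, map_pow, h1, h2, pow_succ', mul_assoc]

theorem eq_one_of_fix {p : ℕ} (hQ : IsPGroup p Q) (φ : Q →* Q) (m : ℕ)
    (hm : ∀ x, φ^[m] x = x) (hmp : m.Coprime p) (u c : Q) (h1 : φ u = u * c) (h2 : φ c = c) :
    c = 1 := by
  have h3 := iterate_mul_pow φ u c h1 h2 m
  rw [hm] at h3
  have h4 : c ^ m = 1 := by
    have : u * 1 = u * c ^ m := by rw [mul_one]; exact h3
    exact (mul_left_cancel this).symm
  obtain ⟨j, hj⟩ := hQ c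
  have h5 : orderOf c ∣ Nat.gcd m (p ^ j) :=
    Nat.dvd_gcd (orderOf_dvd_of_pow_eq_one h4) (orderOf_dvd_of_pow_eq_one hj)
  have h6 : Nat.gcd m (p ^ j) = 1 := Nat.Coprime.pow_right j hmp
  rw [h6, Nat.dvd_one, orderOf_eq_one_iff] at h5
  exact h5

theorem pow_mul_central (u v c : Q) (hc : ∀ x, c * x = x * c) (h : v * u = u * v * c) (n : ℕ) :
    v ^ n * u = u * v ^ n * c ^ n := by
  induction n with
  | zero => simp
  | succ n ih =>
    have hcv : c * v ^ n = v ^ n * c := hc _
    calc v ^ (n + 1) * u = v * (v ^ n * u) := by rw [pow_succ', mul_assoc]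
      _ = v * (u * v ^ n * c ^ n) := by rw [ih]
      _ = (v * u) * v ^ n * c ^ n := by simp only [mul_assoc]
      _ = (u * v * c) * v ^ n * c ^ n := by rw [h]
      _ = u * v * (c * v ^ n) * c ^ n := by simp only [mul_assoc]
      _ = u * v * (v ^ n * c) * c ^ n := by rw [hcv]
      _ = u * (v * v ^ n) * (c * c ^ n) := by simp only [mul_assoc]
      _ = u * v ^ (n + 1) * c ^ (n + 1) := by rw [← pow_succ', ← pow_succ']

theorem mul_pow_class2 (u v c : Q) (hc : ∀ x, c * x = x * c) (h : v * u = u * v * c) (n : ℕ) :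
    (u * v) ^ n = u ^ n * v ^ n * c ^ (n * (n - 1) / 2) := by
  induction n with
  | zero => simp
  | succ n ih =>
    have hcT : ∀ x, c ^ (n * (n - 1) / 2) * x = x * c ^ (n * (n - 1) / 2) := by
      intro x
      have : Commute c x := hc x
      exact (this.pow_left _).eq
    have hcn : c ^ n * v = v * c ^ n := by
      have : Commute c v := hc v
      exact (this.pow_left _).eq
    have hP1 := pow_mul_central u v c hc h n
    calc (u * v) ^ (n + 1) = (u * v) ^ n * (u * v) := pow_succ _ _
      _ = u ^ n * v ^ n * c ^ (n * (n - 1) / 2) * (u * v) := by rw [ih]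
      _ = u ^ n * v ^ n * (c ^ (n * (n - 1) / 2) * (u * v)) := by simp only [mul_assoc]
      _ = u ^ n * v ^ n * ((u * v) * c ^ (n * (n - 1) / 2)) := by rw [hcT]
      _ = u ^ n * (v ^ n * u) * v * c ^ (n * (n - 1) / 2) := by simp only [mul_assoc]
      _ = u ^ n * (u * v ^ n * c ^ n) * v * c ^ (n * (n - 1) / 2) := by rw [hP1]
      _ = u ^ n * u * v ^ n * (c ^ n * v) * c ^ (n * (n - 1) / 2) := by simp only [mul_assoc]
      _ = u ^ n * u * v ^ n * (v * c ^ n) * c ^ (n * (n - 1) / 2) := by rw [hcn]
      _ = (u ^ n * u) * (v ^ n * v) * (c ^ n * c ^ (n * (n - 1) / 2)) := by simp only [mul_assoc]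
      _ = u ^ (n + 1) * v ^ (n + 1) * c ^ ((n + 1) * (n + 1 - 1) / 2) := by
        rw [Nat.triangle_succ, pow_succ u, pow_succ v, pow_add c (n * (n - 1) / 2) n]
        congr 1
        exact ((Commute.refl c).pow_pow _ _).eq

theorem frattini_ne_top' [Finite Q] [Nontrivial Q] : frattini Q ≠ ⊤ := by
  intro h
  obtain ⟨M, hM⟩ : ∃ M : Subgroup Q, IsCoatom M := by
    rcases eq_top_or_exists_le_coatom (⊥ : Subgroup Q) with h' | ⟨M, hM, -⟩
    · exact absurd h' bot_ne_top
    · exact ⟨M, hM⟩
  have := frattini_le_coatom hM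
  rw [h, top_le_iff] at this
  exact hM.1 this

end basic

/-- Huppert: a `p'`-automorphism fixing `Ω₁` (`Ω₂` for `p = 2`) pointwise is trivial. -/
theorem fix_all : ∀ (n : ℕ) (Q : Type u) [Group Q] [Finite Q] (p : ℕ) [Fact p.Prime],
    IsPGroup p Q → Nat.card Q = n → ∀ (φ : Q →* Q) (m : ℕ), (∀ x, φ^[m] x = x) → m.Coprime p →
    (∀ a : Q, (a ^ p = 1 ∨ (p = 2 ∧ a ^ 4 = 1)) → φ a = a) → ∀ a : Q, φ a = a := by
  intro n
  induction n using Nat.strong_induction_on with
  | _ n ih =>
  intro Q _ _ p hpF hQ hn φ m hm hmp hΩ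
  have hpP : p.Prime := hpF.out
  -- restriction principle
  have restr : ∀ M : Subgroup Q, M ≠ ⊤ → (∀ x ∈ M, φ x ∈ M) → ∀ x ∈ M, φ x = x := by
    intro M hM hinv x hx
    let ψ : M →* M :=
      { toFun := fun y => ⟨φ (y : Q), hinv y y.2⟩
        map_one' := Subtype.ext (map_one φ)
        map_mul' := fun a b => Subtype.ext (map_mul φ (a : Q) (b : Q)) }
    have hψ : ∀ (k : ℕ) (y : M), ((ψ^[k] y : M) : Q) = φ^[k] y := by
      intro k
      induction k with
      | zero => intro y; rfl
      | succ k ihk =>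
        intro y
        rw [Function.iterate_succ_apply', Function.iterate_succ_apply', ← ihk]
        rfl
    have hcard : Nat.card M < n := by
      rw [← hn]
      exact lt_of_le_of_ne (Subgroup.card_le_card_group M)
        (fun h => hM ((Subgroup.card_eq_iff_eq_top M).mp h))
    have := ih (Nat.card M) hcard M p (hQ.to_subgroup M) rfl ψ m
      (fun y => Subtype.ext (by rw [hψ]; exact hm y)) hmp
      (fun a ha => Subtype.ext (hΩ a (by
        rcases ha with ha | ⟨h2, ha⟩
        · left
          have := congrArg Subtype.val ha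
          simpa using this
        · right
          refine ⟨h2, ?_⟩
          have := congrArg Subtype.val ha
          simpa using this))) ⟨x, hx⟩
    exact congrArg Subtype.val this
  intro u
  set c := u⁻¹ * φ u with hc
  have h1 : φ u = u * c := by rw [hc]; group
  suffices hfix : φ c = c by
    have := eq_one_of_fix hQ φ m hm hmp u c h1 hfix
    rw [h1, this, mul_one]
  let D : Subgroup Q := Subgroup.closure {x | ∃ w, x = w⁻¹ * φ w}
  have hDinv : ∀ x ∈ D, φ x ∈ D := by
    intro x hx
    induction hx using Subgroup.closure_induction with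
    | mem x hx =>
      obtain ⟨w, rfl⟩ := hx
      apply Subgroup.subset_closure
      exact ⟨φ w, by rw [map_mul, map_inv]⟩
    | one => rw [map_one]; exact D.one_mem
    | mul x y _ _ hx hy => rw [map_mul]; exact D.mul_mem hx hy
    | inv x _ hx => rw [map_inv]; exact D.inv_mem hx
  have hcD : c ∈ D := Subgroup.subset_closure ⟨u, rfl⟩
  by_cases hD : D = ⊤
  swap
  · exact restr D hD hDinv c hcD
  by_cases hsub : Subsingleton Q
  · exact Subsingleton.elim _ _
  rw [not_subsingleton_iff_nontrivial] at hsub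
  set M := frattini Q with hM
  have hMtop : M ≠ ⊤ := frattini_ne_top'
  have hm1 : 0 < m := by
    rcases Nat.eq_zero_or_pos m with h | h
    · subst h
      rw [Nat.coprime_zero_left] at hmp
      exact absurd hmp hpP.one_lt.ne'
    · exact h
  have hbij : Function.Bijective φ := by
    rw [Function.bijective_iff_has_inverse]
    refine ⟨φ^[m - 1], ?_, ?_⟩
    · intro x
      rw [← Function.iterate_succ_apply, Nat.succ_eq_add_one, Nat.sub_add_cancel hm1]
      exact hm x
    · intro x
      have := Function.iterate_succ_apply' φ (m - 1) x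
      rw [Nat.succ_eq_add_one, Nat.sub_add_cancel hm1] at this
      rw [← this]
      exact hm x
  let e : Q ≃* Q := MulEquiv.ofBijective φ hbij
  have hMinv : ∀ x ∈ M, φ x ∈ M := by
    intro x hx
    have hchar : M.Characteristic := by rw [hM]; infer_instance
    have := hchar.fixed e
    rw [← this] at hx
    exact hx
  have hMfix := restr M hMtop hMinv
  have hMn : M.Normal := by rw [hM]; infer_instance
  have hMcen : ∀ z ∈ M, ∀ x, z * x = x * z := by
    intro z hz x
    have hgen : D ≤ Subgroup.centralizer {z} := by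
      rw [Subgroup.closure_le]
      rintro _ ⟨w, rfl⟩
      rw [SetLike.mem_coe, Subgroup.mem_centralizer_iff]
      intro y hy
      rw [Set.mem_singleton_iff] at hy
      subst hy
      have h2 : φ (w * y * w⁻¹) = w * y * w⁻¹ := hMfix _ (hMn.conj_mem y hz w)
      rw [map_mul, map_mul, map_inv, hMfix y hz] at h2
      calc y * (w⁻¹ * φ w) = w⁻¹ * (w * y * w⁻¹) * φ w := by group
        _ = w⁻¹ * (φ w * y * (φ w)⁻¹) * φ w := by rw [h2]
        _ = w⁻¹ * φ w * y := by group
    have hx : x ∈ Subgroup.centralizer {z} := hgen (by rw [hD]; trivial)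
    rw [Subgroup.mem_centralizer_iff] at hx
    exact hx z rfl
  -- the exponent
  set ee : ℕ := if p = 2 then 4 else p with hee
  have hTe : ∀ cc : Q, cc ^ p = 1 → cc ^ (ee * (ee - 1) / 2) = 1 := by
    intro cc hcc
    by_cases hp2 : p = 2
    · subst hp2
      rw [hee, if_pos rfl]
      show cc ^ 6 = 1
      rw [show 6 = 2 * 3 from rfl, pow_mul, hcc, one_pow]
    · rw [hee, if_neg hp2]
      obtain ⟨k, hk⟩ := hpP.odd_of_ne_two hp2
      have : p * (p - 1) / 2 = p * k := by
        rw [hk]
        have : (2 * k + 1) * (2 * k + 1 - 1) = (2 * k + 1) * k * 2 := by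
          rw [Nat.add_sub_cancel]; ring
        rw [this, Nat.mul_div_cancel _ (by norm_num : 0 < 2)]
      rw [this, pow_mul, hcc, one_pow]
  have hpowM : ∀ a : Q, a ^ p ∈ M := fun a => pow_prime_mem_frattini_of_isPGroup p hQ a
  have heM : ∀ a : Q, a ^ ee ∈ M := by
    intro a
    by_cases hp2 : p = 2
    · rw [hee, if_pos hp2]
      have h2 := hpowM a
      rw [hp2] at h2
      have : a ^ 4 = a ^ 2 * a ^ 2 := by rw [← pow_add]
      rw [this]
      exact M.mul_mem h2 h2
    · rw [hee, if_neg hp2]; exact hpowM a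
  have hmulpow : ∀ a b : Q, (a * b) ^ ee = a ^ ee * b ^ ee := by
    intro a b
    set cc := b⁻¹ * a⁻¹ * b * a with hcc
    have hccM : cc ∈ M := by
      apply commutator_le_frattini_of_isPGroup p hQ
      rw [commutator_def]
      have := Subgroup.commutator_mem_commutator (Subgroup.mem_top b⁻¹) (Subgroup.mem_top a⁻¹)
      rw [commutatorElement_def, inv_inv, inv_inv] at this
      exact this
    have hcen : ∀ x, cc * x = x * cc := hMcen cc hccM
    have hba : b * a = a * b * cc := by rw [hcc]; group
    have hccp : cc ^ p = 1 := by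
      have h2 := pow_mul_central a b cc hcen hba p
      rw [hMcen _ (hpowM b) a] at h2
      have : a * b ^ p * 1 = a * b ^ p * cc ^ p := by rw [mul_one]; exact h2
      exact (mul_left_cancel this).symm
    rw [mul_pow_class2 a b cc hcen hba ee, hTe cc hccp, mul_one]
  -- conclusion
  have h3 : (φ u) ^ ee = u ^ ee := by rw [← map_pow]; exact hMfix _ (heM u)
  rw [h1, hmulpow] at h3
  have h4 : c ^ ee = 1 := by
    have : u ^ ee * c ^ ee = u ^ ee * 1 := by rw [mul_one]; exact h3
    exact mul_left_cancel this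
  apply hΩ
  by_cases hp2 : p = 2
  · right
    refine ⟨hp2, ?_⟩
    rw [hee, if_pos hp2] at h4
    exact h4
  · left
    rw [hee, if_neg hp2] at h4
    exact h4

/-- ambient version: a `p'`-element normalizing a `p`-subgroup and centralizing its elements of
order dividing `p` (or `4`) centralizes it -/
theorem centralizes_of_omega {G : Type u} [Group G] [Finite G] {p : ℕ} [Fact p.Prime]
    (Q : Subgroup G) (hQ : IsPGroup p Q) (g : G) (hg : g ∈ Subgroup.normalizer (Q : Set G))
    (hgo : (orderOf g).Coprime p)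
    (hΩ : ∀ a ∈ Q, (a ^ p = 1 ∨ (p = 2 ∧ a ^ 4 = 1)) → g * a = a * g) :
    g ∈ Subgroup.centralizer (Q : Set G) := by
  have hconj : ∀ y ∈ Q, g * y * g⁻¹ ∈ Q := fun y hy => (Subgroup.mem_normalizer_iff.mp hg y).mp hy
  let φ : Q →* Q :=
    { toFun := fun y => ⟨g * (y : G) * g⁻¹, hconj y y.2⟩
      map_one' := Subtype.ext (by simp)
      map_mul' := fun a b => Subtype.ext (by
        show g * ((a : G) * (b : G)) * g⁻¹ = g * (a : G) * g⁻¹ * (g * (b : G) * g⁻¹)
        group) }
  have hφ : ∀ (k : ℕ) (y : Q), ((φ^[k] y : Q) : G) = g ^ k * (y : G) * (g ^ k)⁻¹ := by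
    intro k
    induction k with
    | zero => intro y; simp
    | succ k ih =>
      intro y
      rw [Function.iterate_succ_apply']
      show g * ((φ^[k] y : Q) : G) * g⁻¹ = _
      rw [ih, pow_succ']
      group
  have key := fix_all (Nat.card Q) Q p hQ rfl φ (orderOf g)
    (fun y => Subtype.ext (by rw [hφ, pow_orderOf_eq_one]; simp)) hgo
    (fun a ha => Subtype.ext (by
      show g * (a : G) * g⁻¹ = a
      have h1 : (a : G) ^ p = 1 ∨ (p = 2 ∧ (a : G) ^ 4 = 1) := by
        rcases ha with ha | ⟨h2, ha⟩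
        · left
          have := congrArg Subtype.val ha
          simpa using this
        · right
          refine ⟨h2, ?_⟩
          have := congrArg Subtype.val ha
          simpa using this
      rw [hΩ a a.2 h1]; group))
  rw [Subgroup.mem_centralizer_iff]
  intro h hh
  have := congrArg Subtype.val (key ⟨h, hh⟩)
  have h2 : g * h * g⁻¹ = h := this
  calc h * g = (g * h * g⁻¹) * g := by rw [h2]
    _ = g * h := by group

theorem hasNormalPComplement_of_omega {G : Type u} [Group G] [Finite G] {p : ℕ} [Fact p.Prime]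
    (h : ∀ Q : Subgroup G, IsPGroup p Q → ∀ g ∈ Subgroup.normalizer (Q : Set G),
      (orderOf g).Coprime p → ∀ a ∈ Q, (a ^ p = 1 ∨ (p = 2 ∧ a ^ 4 = 1)) → g * a = a * g) :
    Cfsg.HasNormalPComplement p G := by
  rw [hasNormalPComplement_iff_frobeniusCondition]
  intro Q hQ g hg hgo
  exact centralizes_of_omega Q hQ g hg hgo (h Q hQ g hg hgo)

end Cfsg.Agent.Lib.Helper4.Huppert
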