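import Mathlib
import Cfsg.Agent.Lib.Helper1.BrandtDefs

set_option autoImplicit false

namespace Cfsg.Agent.Lib.Helper1.Brandt

/-- BR5b: a "local" `e`-part of the centre has no idempotents besides `0` and `e`. -/
theorem idem_of_local {K : Type*} {R : Type*} [Field K] [Ring R] [Algebra K R] (e : R)
    (he : e * e = e)
    (hloc : ∀ z ∈ centerPart K e, ∃ c : K, (z - c • e) * (z - c • e) = 0) :
    ∀ f ∈ centerPart K e, f * f = f → f = 0 ∨ f = e := by
  intro f hf hff
  obtain ⟨hfc, hfe⟩ := hf
  have hef : e * f = f := by rw [hfc e]; exact hfe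
  obtain ⟨c, hc⟩ := hloc f ⟨hfc, hfe⟩
  have key : (f - c • e) * (f - c • e) = (1 - 2 * c) • f + (c * c) • e := by
    have h0 : (f - c • e) * (f - c • e) =
        f * f - c • (f * e) - c • (e * f) + (c * c) • (e * e) := by
      simp only [sub_mul, mul_sub, mul_smul_comm, smul_mul_assoc, smul_sub, smul_smul]
      module
    rw [h0, hff, hfe, hef, he]
    module
  rw [key] at hc
  have h2 : ((1 - c) * (1 - c)) • f = 0 := by
    have h3 := congrArg (· * f) hc
    simp only [add_mul, smul_mul_assoc, hff, hef, zero_mul] at h3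
    rw [← h3]
    module
  by_cases h1 : 1 - c = 0
  · right
    have hc1 : c = 1 := by linear_combination -h1
    rw [hc1] at hc
    have h4 : e - f = 0 := by
      rw [← hc]
      module
    exact (sub_eq_zero.mp h4).symm
  · left
    have hne : (1 - c) * (1 - c) ≠ 0 := mul_ne_zero h1 h1
    rw [← inv_smul_smul₀ hne f, h2, smul_zero]

end Cfsg.Agent.Lib.Helper1.Brandt
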