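import Mathlib
import Cfsg.Agent.Lib.Helper4.SLCard

set_option autoImplicit false

namespace Cfsg.Agent.Lib.Helper4

open Matrix

variable {F : Type*} [Field F] [Fintype F]

theorem card_rootsOfUnity_field (k : ℕ) :
    Nat.card (rootsOfUnity k F) = Nat.gcd (Fintype.card F - 1) k := by
  have h1 : rootsOfUnity k F = (powMonoidHom k : Fˣ →* Fˣ).ker := by
    ext x
    rw [mem_rootsOfUnity, MonoidHom.mem_ker, powMonoidHom_apply]
  rw [h1, IsCyclic.card_powMonoidHom_ker, Nat.card_units, Nat.card_eq_fintype_card]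

theorem card_center_SL (n : ℕ) (hn : 1 ≤ n) :
    Nat.card (Subgroup.center (Matrix.SpecialLinearGroup (Fin n) F)) =
      Nat.gcd n (Fintype.card F - 1) := by
  rw [Nat.card_congr (Matrix.SpecialLinearGroup.center_equiv_rootsOfUnity
    (n := Fin n) (R := F)).toEquiv, card_rootsOfUnity_field, Fintype.card_fin,
    max_eq_left hn, Nat.gcd_comm]

theorem card_PSL_mul (n : ℕ) (hn : 1 ≤ n) :
    Nat.gcd n (Fintype.card F - 1) * Nat.card (Matrix.ProjectiveSpecialLinearGroup (Fin n) F) =
      Nat.card (Matrix.SpecialLinearGroup (Fin n) F) := by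
  rw [← card_center_SL n hn, mul_comm]
  exact (Subgroup.card_eq_card_quotient_mul_card_subgroup
    (Subgroup.center (Matrix.SpecialLinearGroup (Fin n) F))).symm

end Cfsg.Agent.Lib.Helper4
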