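import Mathlib
import Cfsg.Agent.Lib.Helper6.PU0

set_option autoImplicit false

/-! # S2770 unit U-LIFT, from the conclusion `ker φ ⊓ S = O_p(G)` of U-STRUCT -/

namespace Cfsg.Agent.Lib.Helper4.PU2770L

open Cfsg.Agent.Lib.Helper6.PU
open scoped Pointwise

variable {G : Type*} [Group G] [Finite G] {p : ℕ} [Fact p.Prime]

/-- lifting an element of `N_P(φ(S))` to `N_G(S)` up to an element of `φ(S)` -/
theorem exists_lift_normalizer (S : Sylow p G) {P : Type*} [Group P] (φ : G →* P)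
    (hφ : Function.Surjective φ) (hbar : P)
    (hh : hbar ∈ Subgroup.normalizer (((S : Subgroup G).map φ : Subgroup P) : Set P)) :
    ∃ h ∈ Subgroup.normalizer ((S : Subgroup G) : Set G),
      ∃ u ∈ (S : Subgroup G).map φ, φ h = u * hbar := by
  obtain ⟨g, hg⟩ := hφ hbar
  set L : Subgroup G := ((S : Subgroup G).map φ).comap φ with hL
  have hSL : (S : Subgroup G) ≤ L := Subgroup.le_comap_map _ _
  have hn := Subgroup.mem_normalizer_iff.mp hh
  -- the conjugate `g • S` lies in `L`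
  have hP1 : ((g • S : Sylow p G) : Subgroup G) ≤ L := by
    intro x hx
    rw [Sylow.coe_subgroup_smul, Subgroup.mem_pointwise_smul_iff_inv_smul_mem, MulAut.smul_def,
      ← map_inv, MulAut.conj_apply, inv_inv] at hx
    rw [hL, Subgroup.mem_comap]
    have h1 : φ (g⁻¹ * x * g) ∈ (S : Subgroup G).map φ := Subgroup.mem_map_of_mem _ hx
    have h2 := (hn _).mp h1
    rw [map_mul, map_mul, map_inv, hg] at h2
    rwa [show hbar * (hbar⁻¹ * φ x * hbar) * hbar⁻¹ = φ x by group] at h2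
  obtain ⟨k, hk⟩ := MulAction.exists_smul_eq L ((g • S : Sylow p G).subtype hP1) (S.subtype hSL)
  rw [Sylow.smul_subtype] at hk
  have hk' : k • (g • S) = S := Sylow.subtype_injective hk
  have hk'' : ((k : G) * g) • S = S := by
    rw [mul_smul]; exact hk'
  refine ⟨(k : G) * g, Sylow.smul_eq_iff_mem_normalizer.mp hk'', φ (k : G), ?_, ?_⟩
  · have : (k : G) ∈ ((S : Subgroup G).map φ).comap φ := k.2
    exact Subgroup.mem_comap.mp this
  · rw [map_mul, hg]

/-- U-LIFT from `ker φ ⊓ S = O_p(G)` -/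
theorem lift_irred_of {n : ℕ} (S : Sylow p G) (M : Subgroup G) {P : Type*} [Group P] (φ : G →* P)
    (hs : Setup p n S M φ) (hKS : φ.ker ⊓ (S : Subgroup G) = Cfsg.pCore p G) :
    ∃ h ∈ Subgroup.normalizer ((S : Subgroup G) : Set G), ∀ B : Subgroup G,
      Cfsg.pCore p G ≤ B → B ≤ (S : Subgroup G) → (∀ b ∈ B, h * b * h⁻¹ ∈ B) →
      B = Cfsg.pCore p G ∨ B = (S : Subgroup G) := by
  set U : Sylow p P := S.mapSurjective hs.surj with hU
  have hUc : (U : Subgroup P) = (S : Subgroup G).map φ := Sylow.coe_mapSurjective hs.surj S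
  obtain ⟨hbar, hbn, hirr⟩ := hs.psl.irred U
  rw [hUc] at hbn
  obtain ⟨h, hhn, u, hu, hφh⟩ := exists_lift_normalizer S φ hs.surj hbar hbn
  have hcomm := hs.psl.comm U
  refine ⟨h, hhn, fun B hQB hBS hinv => ?_⟩
  have hBU : B.map φ ≤ (U : Subgroup P) := by
    rw [hUc]; exact Subgroup.map_mono hBS
  have hbinv : ∀ b ∈ B.map φ, hbar * b * hbar⁻¹ ∈ B.map φ := by
    rintro _ ⟨b, hb, rfl⟩
    have h1 : φ (h * b * h⁻¹) ∈ B.map φ := Subgroup.mem_map_of_mem _ (hinv b hb)
    rw [map_mul, map_mul, map_inv, hφh] at h1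
    -- `x := hbar φb hbar⁻¹` lies in `U`, and `u x u⁻¹ = x`
    have hx : hbar * φ b * hbar⁻¹ ∈ (U : Subgroup P) := by
      rw [hUc]
      exact (Subgroup.mem_normalizer_iff.mp hbn _).mp (Subgroup.mem_map_of_mem _ (hBS hb))
    have hu' : u ∈ (U : Subgroup P) := by rw [hUc]; exact hu
    have h2 : u * hbar * φ b * (u * hbar)⁻¹ = hbar * φ b * hbar⁻¹ := by
      have := hcomm u hu' _ hx
      calc u * hbar * φ b * (u * hbar)⁻¹ = u * (hbar * φ b * hbar⁻¹) * u⁻¹ := by group
        _ = (hbar * φ b * hbar⁻¹) * u * u⁻¹ := by rw [this]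
        _ = hbar * φ b * hbar⁻¹ := by group
    rwa [h2] at h1
  rcases hirr (B.map φ) hBU hbinv with h3 | h3
  · left
    apply le_antisymm _ hQB
    rw [← hKS]
    intro b hb
    refine Subgroup.mem_inf.mpr ⟨?_, hBS hb⟩
    rw [MonoidHom.mem_ker]
    have : φ b ∈ B.map φ := Subgroup.mem_map_of_mem _ hb
    rw [h3, Subgroup.mem_bot] at this
    exact this
  · right
    apply le_antisymm hBS
    intro s hs'
    have : φ s ∈ B.map φ := by
      rw [h3, hUc]; exact Subgroup.mem_map_of_mem _ hs'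
    obtain ⟨b, hb, hbs⟩ := this
    have h4 : b⁻¹ * s ∈ φ.ker ⊓ (S : Subgroup G) := by
      refine Subgroup.mem_inf.mpr ⟨?_, (S : Subgroup G).mul_mem ((S : Subgroup G).inv_mem (hBS hb)) hs'⟩
      rw [MonoidHom.mem_ker, map_mul, map_inv, hbs]; group
    rw [hKS] at h4
    have := B.mul_mem hb (hQB h4)
    rwa [show b * (b⁻¹ * s) = s by group] at this

end Cfsg.Agent.Lib.Helper4.PU2770L
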