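import Mathlib

/-!
# S3396, piece N: norm lemmas

* `N1`: a Frobenius group `⟨z⟩ ⋊ ⟨y⟩` of order `rs` acting on an abelian `r'`-group with `z`
  fixed-point-free: `y` has a nontrivial fixed point.
* `N2`: a noncyclic group of order `s²` acting coprimely on an abelian group has a nonidentity
  element with a nontrivial fixed point.
-/

namespace Cfsg.Agent.Lib.Helper4.CP

open scoped IsMulCommutative

section abs

variable {K V : Type*} [Group K] [Finite K] [Group V] [IsMulCommutative V] [Finite V]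

/-- the "norm" along the powers of `k` -/
noncomputable def nrm (ρ : K →* MulAut V) (k : K) (n : ℕ) (v : V) : V :=
  ∏ i ∈ Finset.range n, ρ (k ^ i) v

theorem rho_nrm (ρ : K →* MulAut V) (k : K) (n : ℕ) (hk : k ^ n = 1) (v : V) :
    ρ k (nrm ρ k n v) = nrm ρ k n v := by
  unfold nrm
  rw [map_prod]
  have h1 : ∀ i ∈ Finset.range n, ρ k (ρ (k ^ i) v) = ρ (k ^ (i + 1)) v := by
    intro i _
    rw [← MulAut.mul_apply, ← map_mul, ← pow_succ']
  rw [Finset.prod_congr rfl h1]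
  have h2 := Finset.prod_range_succ' (fun i => ρ (k ^ i) v) n
  have h3 := Finset.prod_range_succ (fun i => ρ (k ^ i) v) n
  rw [h2] at h3
  simp only [hk, pow_zero] at h3
  exact mul_right_cancel h3

theorem nrm_eq_one (ρ : K →* MulAut V) (k : K) (n : ℕ) (hk : k ^ n = 1)
    (hfpf : ∀ v : V, ρ k v = v → v = 1) (v : V) : nrm ρ k n v = 1 :=
  hfpf _ (rho_nrm ρ k n hk v)

/-- the product over the cyclic group generated by `g` is `g`-fixed -/
theorem rho_prod_zpowers (ρ : K →* MulAut V) (g : K) [Fintype (Subgroup.zpowers g)] (u : V) :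
    ρ g (∏ c : Subgroup.zpowers g, ρ (c : K) u) = ∏ c : Subgroup.zpowers g, ρ (c : K) u := by
  rw [map_prod]
  have h1 : ∀ c : Subgroup.zpowers g, ρ g (ρ (c : K) u) =
      ρ ((Equiv.mulLeft (⟨g, Subgroup.mem_zpowers g⟩ : Subgroup.zpowers g) c :
        Subgroup.zpowers g) : K) u := by
    intro c
    rw [← MulAut.mul_apply, ← map_mul]
    rfl
  rw [Finset.prod_congr rfl (fun c _ => h1 c)]
  exact Equiv.prod_comp (Equiv.mulLeft (⟨g, Subgroup.mem_zpowers g⟩ : Subgroup.zpowers g))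
    (fun c : Subgroup.zpowers g => ρ (c : K) u)

theorem prod_zpowers_eq_one (ρ : K →* MulAut V) (g : K) [Fintype (Subgroup.zpowers g)]
    (hfpf : ∀ v : V, ρ g v = v → v = 1) (u : V) :
    ∏ c : Subgroup.zpowers g, ρ (c : K) u = 1 :=
  hfpf _ (rho_prod_zpowers ρ g u)

theorem eq_one_of_pow_eq_one_of_coprime {n : ℕ} (hcop : (Nat.card V).Coprime n) (v : V)
    (hv : v ^ n = 1) : v = 1 := by
  have h1 : orderOf v ∣ n := orderOf_dvd_of_pow_eq_one hv
  have h2 : orderOf v ∣ Nat.card V := orderOf_dvd_natCard v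
  have h3 : orderOf v ∣ 1 := by
    have := Nat.dvd_gcd h2 h1
    rwa [hcop] at this
  exact orderOf_eq_one_iff.1 (Nat.dvd_one.1 h3)

/-- if `t` normalizes `⟨z⟩` and centralizes no nonidentity element of it then the product of the
conjugates of `t` under `⟨z⟩` acts as the norm of `⟨z⟩`, which is trivial if `z` is fpf -/
theorem prod_conj_eq_one (ρ : K →* MulAut V) (z t : K) [Fintype (Subgroup.zpowers z)]
    (hnorm : ∀ c ∈ Subgroup.zpowers z, t * c * t⁻¹ ∈ Subgroup.zpowers z)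
    (hfree : ∀ c ∈ Subgroup.zpowers z, c * t = t * c → c = 1)
    (hfpf : ∀ v : V, ρ z v = v → v = 1) (v : V) :
    ∏ c : Subgroup.zpowers z, ρ ((c : K) * t * (c : K)⁻¹) v = 1 := by
  classical
  let φ : Subgroup.zpowers z → Subgroup.zpowers z := fun c =>
    ⟨(c : K) * (t * (c : K)⁻¹ * t⁻¹), Subgroup.mul_mem _ c.2
      (hnorm _ (Subgroup.inv_mem _ c.2))⟩
  have hφinj : Function.Injective φ := by
    intro c c' h
    have h1 : (c : K) * (t * (c : K)⁻¹ * t⁻¹) = (c' : K) * (t * (c' : K)⁻¹ * t⁻¹) :=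
      congrArg Subtype.val h
    have h2 : ((c' : K)⁻¹ * c) * t = t * ((c' : K)⁻¹ * c) := by
      calc ((c' : K)⁻¹ * c) * t = (c' : K)⁻¹ * ((c : K) * (t * (c : K)⁻¹ * t⁻¹)) * t * c := by
            group
        _ = (c' : K)⁻¹ * ((c' : K) * (t * (c' : K)⁻¹ * t⁻¹)) * t * c := by rw [h1]
        _ = t * ((c' : K)⁻¹ * c) := by group
    have h3 := hfree _ (Subgroup.mul_mem _ (Subgroup.inv_mem _ c'.2) c.2) h2
    rw [inv_mul_eq_one] at h3
    exact Subtype.ext h3.symm
  have hφbij : Function.Bijective φ := Finite.injective_iff_bijective.1 hφinj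
  have h1 : ∀ c : Subgroup.zpowers z, ρ ((c : K) * t * (c : K)⁻¹) v =
      ρ ((Equiv.ofBijective φ hφbij c : Subgroup.zpowers z) : K) (ρ t v) := by
    intro c
    rw [← MulAut.mul_apply, ← map_mul]
    congr 2
    show (c : K) * t * (c : K)⁻¹ = (c : K) * (t * (c : K)⁻¹ * t⁻¹) * t
    group
  rw [Finset.prod_congr rfl (fun c _ => h1 c)]
  rw [Equiv.prod_comp (Equiv.ofBijective φ hφbij)
    (fun c : Subgroup.zpowers z => ρ (c : K) (ρ t v))]
  exact prod_zpowers_eq_one ρ z hfpf _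

theorem mem_zpowers_of_prime {g c : K} {r : ℕ} (hr : r.Prime) (hg : orderOf g = r)
    (hc : c ∈ Subgroup.zpowers g) (hc1 : c ≠ 1) : g ∈ Subgroup.zpowers c := by
  have hle : Subgroup.zpowers c ≤ Subgroup.zpowers g := by rwa [Subgroup.zpowers_le]
  have h1 : orderOf c ∣ r := by rw [← hg]; exact orderOf_dvd_of_mem_zpowers hc
  have h2 : orderOf c = r := by
    rcases (Nat.dvd_prime hr).1 h1 with h | h
    · exact absurd (orderOf_eq_one_iff.1 h) hc1
    · exact h
  have h3 : Subgroup.zpowers c = Subgroup.zpowers g := by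
    apply Subgroup.eq_of_le_of_card_ge hle
    rw [Nat.card_zpowers, Nat.card_zpowers, h2, hg]
  rw [h3]; exact Subgroup.mem_zpowers g

theorem N1_abs (ρ : K →* MulAut V) (hV : ∃ v : V, v ≠ 1) (z y : K) (r s : ℕ) (hr : r.Prime)
    (hs : s.Prime) (hz : orderOf z = r) (hy : orderOf y = s)
    (hnorm : y * z * y⁻¹ ∈ Subgroup.zpowers z) (hnc : y * z * y⁻¹ ≠ z)
    (hcop : (Nat.card V).Coprime r) (hfpf : ∀ v : V, ρ z v = v → v = 1) :
    ∃ v : V, v ≠ 1 ∧ ρ y v = v := by
  classical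
  by_contra hcon
  push Not at hcon
  have hyfpf : ∀ v : V, ρ y v = v → v = 1 := fun v hv => by
    by_contra h
    exact hcon v h hv
  haveI : Fintype (Subgroup.zpowers z) := Fintype.ofFinite _
  have hynorm : ∀ c ∈ Subgroup.zpowers z, y * c * y⁻¹ ∈ Subgroup.zpowers z := by
    intro c hc
    obtain ⟨n, rfl⟩ := Subgroup.mem_zpowers_iff.1 hc
    have : y * z ^ n * y⁻¹ = (y * z * y⁻¹) ^ n := by rw [conj_zpow]
    rw [this]; exact Subgroup.zpow_mem _ hnorm n
  have hypow_norm : ∀ l : ℕ, ∀ c ∈ Subgroup.zpowers z,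
      y ^ l * c * (y ^ l)⁻¹ ∈ Subgroup.zpowers z := by
    intro l
    induction l with
    | zero => intro c hc; simpa using hc
    | succ l ih =>
      intro c hc
      have := hynorm _ (ih c hc)
      have e : y ^ (l + 1) * c * (y ^ (l + 1))⁻¹ = y * (y ^ l * c * (y ^ l)⁻¹) * y⁻¹ := by
        rw [pow_succ']; group
      rw [e]; exact this
  have hfree : ∀ l : ℕ, 0 < l → l < s → ∀ c ∈ Subgroup.zpowers z,
      c * y ^ l = y ^ l * c → c = 1 := by
    intro l hl0 hls c hc hcomm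
    by_contra hc1
    have hzc : z ∈ Subgroup.zpowers c := mem_zpowers_of_prime hr hz hc hc1
    have hyl1 : y ^ l ≠ 1 := pow_ne_one_of_lt_orderOf hl0.ne' (by rw [hy]; exact hls)
    have hyl : y ∈ Subgroup.zpowers (y ^ l) :=
      mem_zpowers_of_prime hs hy (Subgroup.pow_mem _ (Subgroup.mem_zpowers y) l) hyl1
    apply hnc
    obtain ⟨n, hn⟩ := Subgroup.mem_zpowers_iff.1 hzc
    obtain ⟨m, hm⟩ := Subgroup.mem_zpowers_iff.1 hyl
    have hcomm' : Commute (y ^ l) c := hcomm.symm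
    have hyz : Commute y z := by
      rw [← hn, ← hm]
      exact (hcomm'.zpow_left m).zpow_right n
    rw [hyz.eq, mul_inv_cancel_right]
  have hall : ∀ v : V, v ^ r = 1 := by
    intro v
    have hS1 : ∏ c : Subgroup.zpowers z, ∏ l ∈ Finset.range s,
        ρ (((c : K) * y * (c : K)⁻¹) ^ l) v = 1 := by
      apply Finset.prod_eq_one
      intro c _
      apply nrm_eq_one ρ ((c : K) * y * (c : K)⁻¹) s
      · rw [conj_pow, ← hy, pow_orderOf_eq_one, mul_one, mul_inv_cancel]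
      · intro w hw
        have h1 : ρ y (ρ (c : K)⁻¹ w) = ρ (c : K)⁻¹ w := by
          conv_rhs => rw [← hw]
          simp only [← MulAut.mul_apply, ← map_mul]
          congr 2
          group
        have h2 := hyfpf _ h1
        have h3 : ρ (c : K) (ρ (c : K)⁻¹ w) = w := by
          rw [← MulAut.mul_apply, ← map_mul, mul_inv_cancel, map_one, MulAut.one_apply]
        rw [← h3, h2, map_one]
    rw [Finset.prod_comm, Finset.prod_eq_single 0] at hS1
    · simp only [pow_zero, map_one, MulAut.one_apply, Finset.prod_const, Finset.card_univ] at hS1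
      rwa [← Nat.card_eq_fintype_card, Nat.card_zpowers, hz] at hS1
    · intro l hl hl0
      have : ∀ c : Subgroup.zpowers z, ρ (((c : K) * y * (c : K)⁻¹) ^ l) v =
          ρ ((c : K) * y ^ l * (c : K)⁻¹) v := by
        intro c; rw [conj_pow]
      rw [Finset.prod_congr rfl (fun c _ => this c)]
      exact prod_conj_eq_one ρ z (y ^ l) (hypow_norm l)
        (hfree l (Nat.pos_of_ne_zero hl0) (Finset.mem_range.1 hl)) hfpf v
    · intro h0
      exact absurd (Finset.mem_range.2 hs.pos) h0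
  obtain ⟨v, hv⟩ := hV
  exact hv (eq_one_of_pow_eq_one_of_coprime hcop v (hall v))

theorem N2_abs (ρ : K →* MulAut V) (hV : ∃ v : V, v ≠ 1) (a b : K) (s : ℕ) (hs : s.Prime)
    (ha : orderOf a = s) (hb : orderOf b = s) (hab : a * b = b * a)
    (hb' : b ∉ Subgroup.zpowers a) (hcop : (Nat.card V).Coprime s) :
    ∃ c ∈ Subgroup.closure ({a, b} : Set K), c ≠ 1 ∧ ∃ v : V, v ≠ 1 ∧ ρ c v = v := by
  classical
  by_contra hcon
  push Not at hcon
  have hfpf : ∀ c ∈ Subgroup.closure ({a, b} : Set K), c ≠ 1 → ∀ v : V, ρ c v = v → v = 1 := by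
    intro c hc hc1 v hv
    by_contra h
    exact hcon c hc hc1 v h hv
  haveI : Fintype (Subgroup.zpowers b) := Fintype.ofFinite _
  have haA : a ∈ Subgroup.closure ({a, b} : Set K) := Subgroup.subset_closure (by simp)
  have hbA : b ∈ Subgroup.closure ({a, b} : Set K) := Subgroup.subset_closure (by simp)
  have hdA : ∀ d ∈ Subgroup.zpowers b, d ∈ Subgroup.closure ({a, b} : Set K) :=
    fun d hd => (Subgroup.zpowers_le.2 hbA) hd
  have ha1 : a ≠ 1 := by
    intro h1
    rw [h1, orderOf_one] at ha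
    exact hs.one_lt.ne ha
  have hb1 : b ≠ 1 := by
    intro h1
    rw [h1, orderOf_one] at hb
    exact hs.one_lt.ne hb
  have had1 : ∀ d ∈ Subgroup.zpowers b, a * d ≠ 1 := by
    intro d hd h
    have haz : a ∈ Subgroup.zpowers b := by
      rw [eq_inv_of_mul_eq_one_left h]; exact Subgroup.inv_mem _ hd
    exact hb' (mem_zpowers_of_prime hs hb haz ha1)
  have hcommd : ∀ d ∈ Subgroup.zpowers b, Commute a d := by
    intro d hd
    obtain ⟨n, rfl⟩ := Subgroup.mem_zpowers_iff.1 hd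
    exact (show Commute a b from hab).zpow_right n
  have hds : ∀ d ∈ Subgroup.zpowers b, d ^ s = 1 := by
    intro d hd
    have := orderOf_dvd_of_mem_zpowers hd
    rw [hb] at this
    exact orderOf_dvd_iff_pow_eq_one.1 this
  have hall : ∀ v : V, v ^ s = 1 := by
    intro v
    have hS1 : ∏ d : Subgroup.zpowers b, ∏ i ∈ Finset.range s,
        ρ ((a * (d : K)) ^ i) v = 1 := by
      apply Finset.prod_eq_one
      intro d _
      apply nrm_eq_one ρ (a * (d : K)) s
      · rw [(hcommd d d.2).mul_pow, ← ha, pow_orderOf_eq_one, one_mul, ha, hds d d.2]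
      · exact hfpf (a * d) (Subgroup.mul_mem _ haA (hdA d d.2)) (had1 d d.2)
    rw [Finset.prod_comm, Finset.prod_eq_single 0] at hS1
    · simp only [pow_zero, map_one, MulAut.one_apply, Finset.prod_const, Finset.card_univ] at hS1
      rwa [← Nat.card_eq_fintype_card, Nat.card_zpowers, hb] at hS1
    · intro i hi hi0
      have hcopi : (Nat.card (Subgroup.zpowers b)).Coprime i := by
        rw [Nat.card_zpowers, hb]
        exact (Nat.Prime.coprime_iff_not_dvd hs).2
          (Nat.not_dvd_of_pos_of_lt (Nat.pos_of_ne_zero hi0) (Finset.mem_range.1 hi))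
      have h1 : ∀ d : Subgroup.zpowers b, ρ ((a * (d : K)) ^ i) v =
          ρ (a ^ i) (ρ ((powCoprime hcopi d : Subgroup.zpowers b) : K) v) := by
        intro d
        rw [(hcommd d d.2).mul_pow, map_mul, MulAut.mul_apply]
        rfl
      rw [Finset.prod_congr rfl (fun d _ => h1 d), ← map_prod,
        Equiv.prod_comp (powCoprime hcopi) (fun d : Subgroup.zpowers b => ρ (d : K) v),
        prod_zpowers_eq_one ρ b (hfpf b hbA hb1) v, map_one]
    · intro h0
      exact absurd (Finset.mem_range.2 hs.pos) h0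
  obtain ⟨v, hv⟩ := hV
  exact hv (eq_one_of_pow_eq_one_of_coprime hcop v (hall v))

end abs

section concrete

variable {G : Type*} [Group G] [Finite G]

theorem mem_normalizer_of_conj_mem (W : Subgroup G) (g : G) (hg : ∀ w ∈ W, g * w * g⁻¹ ∈ W) :
    g ∈ Subgroup.normalizer (W : Set G) := by
  have hpow : ∀ n : ℕ, ∀ w ∈ W, g ^ n * w * (g ^ n)⁻¹ ∈ W := by
    intro n
    induction n with
    | zero => intro w hw; simpa using hw
    | succ n ih =>
      intro w hw
      have := hg _ (ih w hw)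
      have e : g ^ (n + 1) * w * (g ^ (n + 1))⁻¹ = g * (g ^ n * w * (g ^ n)⁻¹) * g⁻¹ := by
        rw [pow_succ']; group
      rw [e]; exact this
  have hinv : ∀ w ∈ W, g⁻¹ * w * g ∈ W := by
    intro w hw
    have h1 : g⁻¹ = g ^ (orderOf g - 1) := by
      apply inv_eq_of_mul_eq_one_right
      rw [← pow_succ', Nat.sub_add_cancel (orderOf_pos g), pow_orderOf_eq_one]
    have := hpow (orderOf g - 1) w hw
    rw [← h1, inv_inv] at this
    exact this
  rw [Subgroup.mem_normalizer_iff]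
  intro h
  constructor
  · exact hg h
  · intro hh
    have := hinv _ hh
    have e : g⁻¹ * (g * h * g⁻¹) * g = h := by group
    rwa [e] at this

theorem N1 (W : Subgroup G) (hWab : ∀ a ∈ W, ∀ b ∈ W, a*b = b*a) (hW1 : W ≠ ⊥) (z y : G)
    (r s : ℕ) (hr : r.Prime) (hs : s.Prime) (hz : orderOf z = r) (hy : orderOf y = s)
    (hzW : ∀ w ∈ W, z*w*z⁻¹ ∈ W) (hyW : ∀ w ∈ W, y*w*y⁻¹ ∈ W)
    (hnorm : y*z*y⁻¹ ∈ Subgroup.zpowers z) (hnc : y*z*y⁻¹ ≠ z)
    (hcop : (Nat.card W).Coprime r) (hfpf : ∀ w ∈ W, z*w*z⁻¹ = w → w = 1) :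
    ∃ w ∈ W, w ≠ 1 ∧ y*w*y⁻¹ = w := by
  haveI : IsMulCommutative W := ⟨⟨fun a b => Subtype.ext (hWab a a.2 b b.2)⟩⟩
  have hzN := mem_normalizer_of_conj_mem W z hzW
  have hyN := mem_normalizer_of_conj_mem W y hyW
  have hV : ∃ v : W, v ≠ 1 := (Subgroup.ne_bot_iff_exists_ne_one).1 hW1
  have hρ : ∀ (k : Subgroup.normalizer (W : Set G)) (v : W),
      ((W.normalizerMonoidHom k v : W) : G) = k * v * (k : G)⁻¹ := fun k v => rfl
  have h1 : orderOf (⟨z, hzN⟩ : Subgroup.normalizer (W : Set G)) = r := by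
    rw [← hz]; exact Subgroup.orderOf_mk z hzN
  have h2 : orderOf (⟨y, hyN⟩ : Subgroup.normalizer (W : Set G)) = s := by
    rw [← hy]; exact Subgroup.orderOf_mk y hyN
  have h3 : (⟨y, hyN⟩ : Subgroup.normalizer (W : Set G)) * ⟨z, hzN⟩ * ⟨y, hyN⟩⁻¹ ∈
      Subgroup.zpowers (⟨z, hzN⟩ : Subgroup.normalizer (W : Set G)) := by
    obtain ⟨n, hn⟩ := Subgroup.mem_zpowers_iff.1 hnorm
    refine Subgroup.mem_zpowers_iff.2 ⟨n, Subtype.ext ?_⟩
    simpa using hn
  have h4 : (⟨y, hyN⟩ : Subgroup.normalizer (W : Set G)) * ⟨z, hzN⟩ * ⟨y, hyN⟩⁻¹ ≠ ⟨z, hzN⟩ := by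
    intro h
    apply hnc
    have := congrArg Subtype.val h
    simpa using this
  have h5 : ∀ v : W, W.normalizerMonoidHom ⟨z, hzN⟩ v = v → v = 1 := by
    intro v hv
    have := congrArg Subtype.val hv
    rw [hρ] at this
    exact Subtype.ext (hfpf v v.2 this)
  obtain ⟨v, hv1, hv⟩ := N1_abs (W.normalizerMonoidHom) hV ⟨z, hzN⟩ ⟨y, hyN⟩ r s hr hs h1 h2 h3 h4
    hcop h5
  refine ⟨v, v.2, fun h => hv1 (Subtype.ext h), ?_⟩
  have := congrArg Subtype.val hv
  rwa [hρ] at this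

theorem N2 (W : Subgroup G) (hWab : ∀ a ∈ W, ∀ b ∈ W, a*b = b*a) (hW1 : W ≠ ⊥) (a b : G)
    (s : ℕ) (hs : s.Prime) (ha : orderOf a = s) (hb : orderOf b = s) (hab : a*b = b*a)
    (hb' : b ∉ Subgroup.zpowers a) (haW : ∀ w ∈ W, a*w*a⁻¹ ∈ W) (hbW : ∀ w ∈ W, b*w*b⁻¹ ∈ W)
    (hcop : (Nat.card W).Coprime s) :
    ∃ c ∈ Subgroup.closure ({a, b} : Set G), c ≠ 1 ∧ ∃ w ∈ W, w ≠ 1 ∧ c*w*c⁻¹ = w := by
  haveI : IsMulCommutative W := ⟨⟨fun a b => Subtype.ext (hWab a a.2 b b.2)⟩⟩
  have haN := mem_normalizer_of_conj_mem W a haW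
  have hbN := mem_normalizer_of_conj_mem W b hbW
  have hV : ∃ v : W, v ≠ 1 := (Subgroup.ne_bot_iff_exists_ne_one).1 hW1
  have hρ : ∀ (k : Subgroup.normalizer (W : Set G)) (v : W),
      ((W.normalizerMonoidHom k v : W) : G) = k * v * (k : G)⁻¹ := fun k v => rfl
  have h1 : orderOf (⟨a, haN⟩ : Subgroup.normalizer (W : Set G)) = s := by
    rw [← ha]; exact Subgroup.orderOf_mk a haN
  have h2 : orderOf (⟨b, hbN⟩ : Subgroup.normalizer (W : Set G)) = s := by
    rw [← hb]; exact Subgroup.orderOf_mk b hbN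
  have h3 : (⟨a, haN⟩ : Subgroup.normalizer (W : Set G)) * ⟨b, hbN⟩ = ⟨b, hbN⟩ * ⟨a, haN⟩ :=
    Subtype.ext hab
  have h4 : (⟨b, hbN⟩ : Subgroup.normalizer (W : Set G)) ∉
      Subgroup.zpowers (⟨a, haN⟩ : Subgroup.normalizer (W : Set G)) := by
    intro h
    apply hb'
    obtain ⟨n, hn⟩ := Subgroup.mem_zpowers_iff.1 h
    refine Subgroup.mem_zpowers_iff.2 ⟨n, ?_⟩
    have := congrArg Subtype.val hn
    simpa using this
  obtain ⟨c, hc, hc1, v, hv1, hv⟩ := N2_abs (W.normalizerMonoidHom) hV ⟨a, haN⟩ ⟨b, hbN⟩ s hs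
    h1 h2 h3 h4 hcop
  refine ⟨(c : G), ?_, fun h => hc1 (Subtype.ext h), v, v.2, fun h => hv1 (Subtype.ext h), ?_⟩
  · have hmap : (Subgroup.closure ({⟨a, haN⟩, ⟨b, hbN⟩} :
        Set (Subgroup.normalizer (W : Set G)))).map (Subgroup.normalizer (W : Set G)).subtype =
        Subgroup.closure ({a, b} : Set G) := by
      rw [MonoidHom.map_closure]
      congr 1
      simp [Set.image_insert_eq]
    rw [← hmap]
    exact Subgroup.mem_map_of_mem _ hc
  · have := congrArg Subtype.val hv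
    rwa [hρ] at this

end concrete

end Cfsg.Agent.Lib.Helper4.CP
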