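import Mathlib

set_option autoImplicit false

namespace Cfsg.Agent.Lib.Helper4

open scoped ComplexConjugate

variable {F : Type*} [Field F] [Fintype F]

theorem card_mulChar : Nat.card (MulChar F ℂ) = Fintype.card F - 1 := by
  classical
  rw [MulChar.card_eq_card_units_of_hasEnoughRootsOfUnity F ℂ, Nat.card_eq_fintype_card,
    Fintype.card_units]

/-- dual orthogonality: sum over all multiplicative characters -/
theorem sum_mulChar_apply [Fintype (MulChar F ℂ)] [DecidableEq F] (a : F) :
    ∑ χ : MulChar F ℂ, χ a = if a = 1 then ((Fintype.card F : ℂ) - 1) else 0 := by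
  split_ifs with ha
  · subst ha
    simp only [map_one, Finset.sum_const, Finset.card_univ, nsmul_eq_mul, mul_one]
    rw [← Nat.card_eq_fintype_card, card_mulChar, Nat.cast_sub Fintype.card_pos, Nat.cast_one]
  · obtain ⟨χ, hχ⟩ := MulChar.exists_apply_ne_one_of_hasEnoughRootsOfUnity F ℂ ha
    refine eq_zero_of_mul_eq_self_left hχ ?_
    simp only [Finset.mul_sum, ← MulChar.mul_apply]
    exact Fintype.sum_bijective _ (Group.mulLeft_bijective χ) _ _ fun χ' ↦ rfl

/-- dual orthogonality, second form -/
theorem sum_mulChar_mul_conj [Fintype (MulChar F ℂ)] [DecidableEq F] (a b : Fˣ) :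
    ∑ χ : MulChar F ℂ, χ (a : F) * conj (χ (b : F)) =
      if a = b then ((Fintype.card F : ℂ) - 1) else 0 := by
  have : ∀ χ : MulChar F ℂ, χ (a : F) * conj (χ (b : F)) = χ ((a * b⁻¹ : Fˣ) : F) := by
    intro χ
    have h1 : conj (χ (b : F)) = χ⁻¹ (b : F) := MulChar.star_apply' χ (b : F)
    rw [h1, MulChar.inv_apply', Units.val_mul, map_mul, Units.val_inv_eq_inv_val]
  simp_rw [this]
  rw [sum_mulChar_apply]
  by_cases h : a = b
  · rw [if_pos h, if_pos]
    rw [h, mul_inv_cancel, Units.val_one]
  · rw [if_neg h, if_neg]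
    intro h'
    apply h
    have : a * b⁻¹ = 1 := Units.ext (by rw [h', Units.val_one])
    exact mul_inv_eq_one.mp this

end Cfsg.Agent.Lib.Helper4
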