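import Mathlib
import Cfsg.Agent.Lib.Helper6.Regular

set_option autoImplicit false

namespace Cfsg.Agent.Lib.Helper4

open Cfsg.Agent.Lib.Helper6

variable {G : Type*} [Group G]

/-- the degree of an irreducible character, as a natural number -/
noncomputable def degN (ψ : Cfsg.IrrCharacter G) : ℕ :=
  Classical.choose (IsCharacter.apply_one_eq_natCast (IsIrrCharacter.isCharacter ψ.2))

theorem degN_spec (ψ : Cfsg.IrrCharacter G) : (ψ : G → ℂ) 1 = (degN ψ : ℂ) :=
  Classical.choose_spec (IsCharacter.apply_one_eq_natCast (IsIrrCharacter.isCharacter ψ.2))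

theorem degN_eq_iff (ψ : Cfsg.IrrCharacter G) (d : ℕ) :
    degN ψ = d ↔ (ψ : G → ℂ) 1 = (d : ℂ) := by
  rw [degN_spec]
  exact Nat.cast_inj.symm

theorem card_degN (d : ℕ) :
    Nat.card {ψ : Cfsg.IrrCharacter G // degN ψ = d} =
      Nat.card {ψ : Cfsg.IrrCharacter G // (ψ : G → ℂ) 1 = (d : ℂ)} :=
  Nat.card_congr (Equiv.subtypeEquivRight (fun ψ => degN_eq_iff ψ d))

variable [Fintype G] [Fintype (Cfsg.IrrCharacter G)]

theorem sum_degN_sq : ∑ ψ : Cfsg.IrrCharacter G, degN ψ ^ 2 = Nat.card G := by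
  have h := sum_sq_degree (G := G)
  have h2 : ((∑ ψ : Cfsg.IrrCharacter G, degN ψ ^ 2 : ℕ) : ℂ) = (Nat.card G : ℂ) := by
    rw [← h]
    push_cast
    apply Finset.sum_congr rfl
    intro ψ _
    rw [degN_spec]
  exact_mod_cast h2

/-- counting irreducible characters and the sum of squares of degrees, sorted by degree -/
theorem by_degree (D : Finset ℕ) (h : ∀ ψ : Cfsg.IrrCharacter G, degN ψ ∈ D) :
    Nat.card (Cfsg.IrrCharacter G) =
      ∑ d ∈ D, Nat.card {ψ : Cfsg.IrrCharacter G // (ψ : G → ℂ) 1 = (d : ℂ)} ∧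
    Nat.card G =
      ∑ d ∈ D, Nat.card {ψ : Cfsg.IrrCharacter G // (ψ : G → ℂ) 1 = (d : ℂ)} * d ^ 2 := by
  classical
  have hmaps : ((Finset.univ : Finset (Cfsg.IrrCharacter G)) : Set _).MapsTo degN D :=
    fun ψ _ => h ψ
  have hcard : ∀ d : ℕ, (Finset.univ.filter (fun ψ : Cfsg.IrrCharacter G => degN ψ = d)).card =
      Nat.card {ψ : Cfsg.IrrCharacter G // (ψ : G → ℂ) 1 = (d : ℂ)} := by
    intro d
    rw [← card_degN, Nat.card_eq_fintype_card, Fintype.card_subtype]
  constructor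
  · rw [Nat.card_eq_fintype_card, ← Finset.card_univ, Finset.card_eq_sum_card_fiberwise hmaps]
    apply Finset.sum_congr rfl
    intro d _
    exact hcard d
  · rw [← sum_degN_sq, ← Finset.sum_fiberwise_of_maps_to (fun ψ _ => h ψ)]
    apply Finset.sum_congr rfl
    intro d _
    rw [← hcard d, Finset.card_eq_sum_ones, Finset.sum_mul]
    apply Finset.sum_congr rfl
    intro ψ hψ
    rw [(Finset.mem_filter.mp hψ).2, one_mul]

end Cfsg.Agent.Lib.Helper4
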