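import Mathlib
import Cfsg.Prelude.Def_DegreeGraph
import Cfsg.Agent.Lib.Helper4.DegCount
import Cfsg.Agent.Lib.Helper6.QuotChar
import Cfsg.Agent.Lib.Helper3.CharQuot

/-!
# Character degree sets: transport along isomorphisms and quotients
-/

set_option autoImplicit false

namespace Cfsg.Agent.Lib.Helper4

open Cfsg.Agent.Lib.Helper6

universe u v

theorem charDegree_eq_of_apply_one {G : Type u} [Group G] {χ : G → ℂ} {d : ℕ} (h : χ 1 = (d : ℂ)) :
    Cfsg.charDegree χ = d := by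
  unfold Cfsg.charDegree
  rw [h]
  simp

theorem charDegree_eq_degN {G : Type u} [Group G] (ψ : Cfsg.IrrCharacter G) :
    Cfsg.charDegree (ψ : G → ℂ) = degN ψ :=
  charDegree_eq_of_apply_one (degN_spec ψ)

theorem apply_one_eq_charDegree {G : Type u} [Group G] (ψ : Cfsg.IrrCharacter G) :
    (ψ : G → ℂ) 1 = (Cfsg.charDegree (ψ : G → ℂ) : ℂ) := by
  rw [charDegree_eq_degN, degN_spec]

theorem mem_charDegrees_iff {G : Type u} [Group G] (d : ℕ) :
    d ∈ Cfsg.charDegrees G ↔ ∃ χ : G → ℂ, Cfsg.IsIrrCharacter G χ ∧ χ 1 = (d : ℂ) := by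
  constructor
  · rintro ⟨ψ, rfl⟩
    exact ⟨ψ.1, ψ.2, apply_one_eq_charDegree ψ⟩
  · rintro ⟨χ, hχ, h⟩
    exact ⟨⟨χ, hχ⟩, charDegree_eq_of_apply_one h⟩

theorem charDegrees_subset_of_mulEquiv {G : Type u} {H : Type v} [Group G] [Group H] [Finite G]
    [Finite H] (e : G ≃* H) : Cfsg.charDegrees H ⊆ Cfsg.charDegrees G := by
  intro d hd
  rw [mem_charDegrees_iff] at hd ⊢
  obtain ⟨χ, hχ, h⟩ := hd
  refine ⟨fun g => χ (e g), IsIrrCharacter.comp_mulEquiv e hχ, ?_⟩
  simp only [map_one, h]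

theorem charDegrees_congr {G : Type u} {H : Type v} [Group G] [Group H] [Finite G]
    [Finite H] (e : G ≃* H) : Cfsg.charDegrees G = Cfsg.charDegrees H :=
  Set.Subset.antisymm (charDegrees_subset_of_mulEquiv e.symm) (charDegrees_subset_of_mulEquiv e)

theorem degreePrimes_congr {G : Type u} {H : Type v} [Group G] [Group H] [Finite G]
    [Finite H] (e : G ≃* H) : Cfsg.degreePrimes G = Cfsg.degreePrimes H := by
  unfold Cfsg.degreePrimes
  rw [charDegrees_congr e]

theorem degreeGraph_adj_congr {G : Type u} {H : Type v} [Group G] [Group H] [Finite G]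
    [Finite H] (e : G ≃* H) (r s : ℕ) :
    (Cfsg.degreeGraph G).Adj r s ↔ (Cfsg.degreeGraph H).Adj r s := by
  unfold Cfsg.degreeGraph
  simp only
  rw [charDegrees_congr e]

/-- Degrees of a quotient are degrees of the group. -/
theorem charDegrees_quotient_subset {G : Type u} [Group G] [Finite G] (N : Subgroup G) [N.Normal] :
    Cfsg.charDegrees (G ⧸ N) ⊆ Cfsg.charDegrees G := by
  have : Fintype G := Fintype.ofFinite G
  intro d hd
  rw [mem_charDegrees_iff] at hd ⊢
  obtain ⟨β, hβ, h⟩ := hd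
  refine ⟨fun g => β (QuotientGroup.mk g), IsIrrCharacter.comp_mk N hβ, ?_⟩
  simp only [QuotientGroup.mk_one, h]

/-- A degree of a character trivial on `N` is a degree of the quotient. -/
theorem mem_charDegrees_quotient {G : Type u} [Group G] [Finite G] (N : Subgroup G) [N.Normal]
    {χ : G → ℂ} (hχ : Cfsg.IsIrrCharacter G χ) (hker : ∀ x ∈ N, χ x = χ 1) {d : ℕ}
    (hd : χ 1 = (d : ℂ)) : d ∈ Cfsg.charDegrees (G ⧸ N) := by
  obtain ⟨β, hβ, rfl⟩ := Cfsg.Agent.Lib.Helper3.CharQuot.exists_irr_quot N hχ hker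
  rw [mem_charDegrees_iff]
  exact ⟨β, hβ, by simpa using hd⟩

end Cfsg.Agent.Lib.Helper4
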