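import Mathlib
import Cfsg.Agent.Lib.Helper6.Clifford
import Cfsg.Agent.Lib.Helper6.Constituent
import Cfsg.Agent.Lib.Helper6.Auto
import Cfsg.Agent.S0146

set_option autoImplicit false

namespace Cfsg.Agent.Lib.Helper4

open Cfsg.Agent.Lib.Helper6
open scoped ComplexConjugate

variable {G : Type*} [Group G] [Fintype G]

/-- every irreducible character of a subgroup lies under an irreducible character of the group -/
theorem exists_irr_over (H : Subgroup G) [Fintype H] {ψ : H → ℂ}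
    (hψ : Cfsg.IsIrrCharacter H ψ) :
    ∃ χ : G → ℂ, Cfsg.IsIrrCharacter G χ ∧ Cfsg.classInner ψ (fun h : H => χ h) ≠ 0 := by
  have hInd : Cfsg.IsCharacter G (Cfsg.indFun H ψ) :=
    IsCharacter.indFun H (IsIrrCharacter.isCharacter hψ)
  have h1 : Cfsg.indFun H ψ 1 ≠ 0 := by
    rw [indFun_one]
    apply mul_ne_zero
    · exact_mod_cast (Subgroup.index_ne_zero_of_finite (H := H))
    · exact IsIrrCharacter.apply_one_ne_zero hψ
  obtain ⟨χ, hχ⟩ := IsCharacter.exists_constituent hInd h1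
  refine ⟨χ.1, χ.2, ?_⟩
  rwa [Cfsg.Agent.S0146.result H ψ _ (IsIrrCharacter.isClassFunction χ.2)] at hχ

/-- a character of norm 2 is the sum of two distinct irreducible characters -/
theorem exists_eq_add_of_norm_two {ψ : G → ℂ} (hψ : Cfsg.IsCharacter G ψ)
    (h : Cfsg.classInner ψ ψ = 2) :
    ∃ ψ₁ ψ₂ : G → ℂ, Cfsg.IsIrrCharacter G ψ₁ ∧ Cfsg.IsIrrCharacter G ψ₂ ∧ ψ₁ ≠ ψ₂ ∧
      ψ = ψ₁ + ψ₂ := by
  have hne : ∃ χ : Cfsg.IrrCharacter G, Cfsg.classInner ψ (χ : G → ℂ) ≠ 0 := by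
    by_contra hcon
    push Not at hcon
    have := eq_zero_of_classInner_irr_eq_zero ψ (IsCharacter.isClassFunction hψ) hcon
    rw [this, classInner_zero_left] at h
    norm_num at h
  obtain ⟨ψ₁, h1⟩ := hne
  obtain ⟨B, hB, hsum⟩ := IsCharacter.exists_eq_add_of_constituent hψ ψ₁.2 h1
  obtain ⟨m, hm⟩ := IsCharacter.classInner_irr_nat hB ψ₁.2
  obtain ⟨k, hk⟩ := IsCharacter.classInner_nat hB hB
  have hm' : Cfsg.classInner (ψ₁ : G → ℂ) B = m := by
    rw [← classInner_conj_symm, hm, Complex.conj_natCast]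
  have hnorm : (1 : ℂ) + m + m + k = 2 := by
    rw [← h, hsum, classInner_add_left, classInner_add_right, classInner_add_right, hm, hm', hk,
      classInner_isIrrCharacter ψ₁.2 ψ₁.2, if_pos rfl]
    ring
  have hnat : 1 + m + m + k = 2 := by exact_mod_cast hnorm
  have hm0 : m = 0 := by omega
  have hk1 : k = 1 := by omega
  have hBirr : Cfsg.IsIrrCharacter G B := by
    apply isIrrCharacter_of_classInner_self_eq_one hB
    rw [hk, hk1, Nat.cast_one]
  refine ⟨ψ₁.1, B, ψ₁.2, hBirr, ?_, hsum⟩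
  intro heq
  rw [← heq, classInner_isIrrCharacter ψ₁.2 ψ₁.2, if_pos rfl, hm0] at hm
  norm_num at hm

/-- Clifford's theorem when the restriction has norm two: the two constituents are conjugate -/
theorem clifford_two (N : Subgroup G) [Fintype N] (hN : N.Normal) {χ : G → ℂ}
    (hχ : Cfsg.IsIrrCharacter G χ)
    (h2 : Cfsg.classInner (fun n : N => χ n) (fun n : N => χ n) = 2) :
    ∃ ψ₁ ψ₂ : N → ℂ, Cfsg.IsIrrCharacter N ψ₁ ∧ Cfsg.IsIrrCharacter N ψ₂ ∧ ψ₁ ≠ ψ₂ ∧
      (fun n : N => χ n) = ψ₁ + ψ₂ ∧ ∃ x : G, ψ₂ = conjFun N hN ψ₁ x := by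
  have hres : Cfsg.IsCharacter N (fun n : N => χ n) :=
    IsCharacter.restrict N (IsIrrCharacter.isCharacter hχ)
  obtain ⟨ψ₁, ψ₂, hψ₁, hψ₂, hne, hsum⟩ := exists_eq_add_of_norm_two hres h2
  refine ⟨ψ₁, ψ₂, hψ₁, hψ₂, hne, hsum, ?_⟩
  have h12 : Cfsg.classInner ψ₁ ψ₂ = 0 := by
    rw [classInner_isIrrCharacter hψ₁ hψ₂, if_neg hne]
  have h21 : Cfsg.classInner ψ₂ ψ₁ = 0 := by
    rw [classInner_isIrrCharacter hψ₂ hψ₁, if_neg (Ne.symm hne)]
  -- `χ` is a constituent of `Ind ψ₁`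
  have hInd : Cfsg.IsCharacter G (Cfsg.indFun N ψ₁) :=
    IsCharacter.indFun N (IsIrrCharacter.isCharacter hψ₁)
  have hfr : Cfsg.classInner (Cfsg.indFun N ψ₁) χ = 1 := by
    rw [Cfsg.Agent.S0146.result N ψ₁ _ (IsIrrCharacter.isClassFunction hχ), hsum,
      classInner_add_right, h12, classInner_isIrrCharacter hψ₁ hψ₁, if_pos rfl, add_zero]
  obtain ⟨C, hC, hIndEq⟩ := IsCharacter.exists_eq_add_of_constituent hInd hχ
    (by rw [hfr]; exact one_ne_zero)
  have hCres : Cfsg.IsCharacter N (fun n : N => C n) := IsCharacter.restrict N hC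
  obtain ⟨m, hm⟩ := IsCharacter.classInner_irr_nat hCres hψ₂
  have hval : Cfsg.classInner (fun n : N => Cfsg.indFun N ψ₁ n) ψ₂ = 1 + m := by
    have : (fun n : N => Cfsg.indFun N ψ₁ n) = (fun n : N => χ n) + (fun n : N => C n) := by
      funext n
      rw [hIndEq]
      rfl
    rw [this, classInner_add_left, hm, hsum, classInner_add_left, h12,
      classInner_isIrrCharacter hψ₂ hψ₂, if_pos rfl, zero_add]
  rw [classInner_indFun_restrict_left N hN] at hval
  have hex : ∃ x : G, Cfsg.classInner (conjFun N hN ψ₁ x) ψ₂ ≠ 0 := by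
    by_contra hcon
    push Not at hcon
    rw [Finset.sum_eq_zero (fun x _ => hcon x), mul_zero] at hval
    have : (0 : ℂ) ≠ 1 + m := by
      have : (1 + m : ℕ) ≠ 0 := by omega
      exact_mod_cast this.symm
    exact this hval
  obtain ⟨x, hx⟩ := hex
  refine ⟨x, ?_⟩
  have hirr := IsIrrCharacter.conjFun N hN hψ₁ x
  rw [classInner_isIrrCharacter hirr hψ₂] at hx
  by_contra hne'
  rw [if_neg (Ne.symm hne')] at hx
  exact hx rfl

omit [Fintype G] in
/-- restriction with norm one is irreducible -/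
theorem isIrr_restrict_of_norm_one (N : Subgroup G) [Fintype N] {χ : G → ℂ}
    (hχ : Cfsg.IsIrrCharacter G χ)
    (h1 : Cfsg.classInner (fun n : N => χ n) (fun n : N => χ n) = 1) :
    Cfsg.IsIrrCharacter N (fun n : N => χ n) :=
  isIrrCharacter_of_classInner_self_eq_one
    (IsCharacter.restrict N (IsIrrCharacter.isCharacter hχ)) h1

end Cfsg.Agent.Lib.Helper4
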