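import Mathlib

set_option autoImplicit false

namespace Cfsg.Agent.Lib.Helper4

open Matrix

variable {F : Type*} [Field F]

/-- companion matrix of `X^2 - t X + d` -/
def comp2 (t d : F) : Matrix (Fin 2) (Fin 2) F := !![0, -d; 1, t]

/-- a 2x2 matrix is scalar -/
def IsScalar2 (M : Matrix (Fin 2) (Fin 2) F) : Prop := M 0 1 = 0 ∧ M 1 0 = 0 ∧ M 0 0 = M 1 1

omit [Field F] in
theorem eta2 (M : Matrix (Fin 2) (Fin 2) F) : M = !![M 0 0, M 0 1; M 1 0, M 1 1] := by
  ext i j; fin_cases i <;> fin_cases j <;> rfl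

theorem exists_cyclic (M : Matrix (Fin 2) (Fin 2) F) (h : ¬ IsScalar2 M) :
    ∃ P : Matrix (Fin 2) (Fin 2) F, P.det ≠ 0 ∧ M * P = P * comp2 M.trace M.det := by
  rw [eta2 M] at h ⊢
  set a := M 0 0
  set b := M 0 1
  set c := M 1 0
  set d := M 1 1
  by_cases hc : c = 0
  · by_cases hb : b = 0
    · -- diagonal, a ≠ d
      have had : a ≠ d := by
        intro had
        apply h
        exact ⟨by simpa using hb, by simpa using hc, by simpa using had⟩
      refine ⟨!![1, a + b; 1, c + d], ?_, ?_⟩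
      · rw [det_fin_two_of, hc, hb]
        intro h0
        apply had
        linear_combination -h0
      · ext i j
        fin_cases i <;> fin_cases j <;>
          simp [comp2, Matrix.mul_apply, Fin.sum_univ_two, det_fin_two_of, trace_fin_two_of] <;> ring
    · refine ⟨!![0, b; 1, d], ?_, ?_⟩
      · rw [det_fin_two_of]
        simpa using hb
      · ext i j
        fin_cases i <;> fin_cases j <;>
          simp [comp2, Matrix.mul_apply, Fin.sum_univ_two, det_fin_two_of, trace_fin_two_of] <;> ring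
  · refine ⟨!![1, a; 0, c], ?_, ?_⟩
    · rw [det_fin_two_of]
      simpa using hc
    · ext i j
      fin_cases i <;> fin_cases j <;>
        simp [comp2, Matrix.mul_apply, Fin.sum_univ_two, det_fin_two_of, trace_fin_two_of] <;> ring


/-- two non-scalar elements of `GL₂` with equal trace and determinant are conjugate -/
theorem gl2_isConj_of_trace_det (g h : GL (Fin 2) F)
    (hg : ¬ IsScalar2 (g : Matrix (Fin 2) (Fin 2) F)) (hh : ¬ IsScalar2 (h : Matrix (Fin 2) (Fin 2) F))
    (ht : (g : Matrix (Fin 2) (Fin 2) F).trace = (h : Matrix (Fin 2) (Fin 2) F).trace)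
    (hd : (g : Matrix (Fin 2) (Fin 2) F).det = (h : Matrix (Fin 2) (Fin 2) F).det) : IsConj g h := by
  obtain ⟨P, hP, hgP⟩ := exists_cyclic _ hg
  obtain ⟨Q, hQ, hhQ⟩ := exists_cyclic _ hh
  rw [← ht, ← hd] at hhQ
  set Pu : GL (Fin 2) F := Matrix.GeneralLinearGroup.mkOfDetNeZero P hP with hPu
  set Qu : GL (Fin 2) F := Matrix.GeneralLinearGroup.mkOfDetNeZero Q hQ with hQu
  have e1 : ((Pu⁻¹ * g * Pu : GL (Fin 2) F) : Matrix (Fin 2) (Fin 2) F) =
      comp2 (g : Matrix (Fin 2) (Fin 2) F).trace (g : Matrix (Fin 2) (Fin 2) F).det := by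
    have : ((g * Pu : GL (Fin 2) F) : Matrix (Fin 2) (Fin 2) F) =
        ((Pu : GL (Fin 2) F) : Matrix (Fin 2) (Fin 2) F) * comp2 (g : Matrix (Fin 2) (Fin 2) F).trace (g : Matrix (Fin 2) (Fin 2) F).det := hgP
    rw [mul_assoc, Units.val_mul, this, ← mul_assoc, ← Units.val_mul, inv_mul_cancel]
    simp
  have e2 : ((Qu⁻¹ * h * Qu : GL (Fin 2) F) : Matrix (Fin 2) (Fin 2) F) =
      comp2 (g : Matrix (Fin 2) (Fin 2) F).trace (g : Matrix (Fin 2) (Fin 2) F).det := by
    have : ((h * Qu : GL (Fin 2) F) : Matrix (Fin 2) (Fin 2) F) =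
        ((Qu : GL (Fin 2) F) : Matrix (Fin 2) (Fin 2) F) * comp2 (g : Matrix (Fin 2) (Fin 2) F).trace (g : Matrix (Fin 2) (Fin 2) F).det := hhQ
    rw [mul_assoc, Units.val_mul, this, ← mul_assoc, ← Units.val_mul, inv_mul_cancel]
    simp
  have e3 : Pu⁻¹ * g * Pu = Qu⁻¹ * h * Qu := Units.ext (e1.trans e2.symm)
  rw [isConj_iff]
  refine ⟨Qu * Pu⁻¹, ?_⟩
  have : h = Qu * (Qu⁻¹ * h * Qu) * Qu⁻¹ := by group
  rw [this, ← e3]
  group


theorem eq_one_of_pow_char_eq_one (p : ℕ) [Fact p.Prime] [CharP F p] (x : F) (hx : x ^ p = 1) :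
    x = 1 := by
  have h : (x - 1) ^ p = 0 := by rw [sub_pow_char, hx, one_pow, sub_self]
  exact sub_eq_zero.mp (pow_eq_zero_iff (Fact.out : p.Prime).ne_zero |>.mp h)

theorem isScalar2_iff (M : Matrix (Fin 2) (Fin 2) F) :
    IsScalar2 M ↔ M = (M 0 0) • (1 : Matrix (Fin 2) (Fin 2) F) := by
  constructor
  · rintro ⟨h1, h2, h3⟩
    ext i j
    fin_cases i <;> fin_cases j <;> simp [h1, h2, h3]
  · intro h
    refine ⟨?_, ?_, ?_⟩
    · rw [h]; simp
    · rw [h]; simp
    · have := congrFun (congrFun h 1) 1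
      simpa using this.symm

/-- a matrix with `M ^ p = 1` in characteristic `p` has trace `2`, determinant `1`,
and is the identity if scalar. -/
theorem trace_det_of_pow_char_eq_one (p : ℕ) [Fact p.Prime] [CharP F p]
    (M : Matrix (Fin 2) (Fin 2) F) (h : M ^ p = 1) :
    M.trace = 2 ∧ M.det = 1 ∧ (IsScalar2 M → M = 1) := by
  have hN : (M - 1) ^ p = 0 := by
    rw [sub_pow_char_of_commute _ (Commute.one_right M), h, one_pow, sub_self]
  have hnil : IsNilpotent (M - 1) := ⟨p, hN⟩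
  have htr : (M - 1).trace = 0 := (Matrix.isNilpotent_trace_of_isNilpotent hnil).eq_zero
  refine ⟨?_, ?_, ?_⟩
  · rw [Matrix.trace_sub, Matrix.trace_one, Fintype.card_fin] at htr
    have := sub_eq_zero.mp htr
    rw [this]; norm_num
  · apply eq_one_of_pow_char_eq_one p
    rw [← Matrix.det_pow, h, Matrix.det_one]
  · intro hs
    rw [isScalar2_iff] at hs
    have h1 : (M 0 0) ^ p = 1 := by
      have := congrArg (fun A : Matrix (Fin 2) (Fin 2) F => A 0 0) h
      rw [hs] at this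
      simp only [smul_pow, one_pow] at this
      simpa using this
    rw [hs, eq_one_of_pow_char_eq_one p _ h1, one_smul]

end Cfsg.Agent.Lib.Helper4
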