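import Mathlib
import Cfsg.Agent.Lib.Helper4.GL2

set_option autoImplicit false

namespace Cfsg.Agent.Lib.Helper4

open Matrix

variable {F : Type*} [Field F]

/-- determinant of a `GL₂` element as a unit -/
noncomputable def detU (g : GL (Fin 2) F) : Fˣ := Matrix.GeneralLinearGroup.det g

theorem detU_val (g : GL (Fin 2) F) : (detU g : F) = (g : Matrix (Fin 2) (Fin 2) F).det := rfl

theorem isScalar2_conj (g c : GL (Fin 2) F) (h : IsScalar2 (g : Matrix (Fin 2) (Fin 2) F)) :
    c * g * c⁻¹ = g := by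
  rw [isScalar2_iff] at h
  have hcomm : c * g = g * c := by
    apply Units.ext
    rw [Units.val_mul, Units.val_mul, h]
    simp
  rw [hcomm]; group

theorem isScalar2_of_isConj {g h : GL (Fin 2) F} (hc : IsConj g h)
    (hg : IsScalar2 (g : Matrix (Fin 2) (Fin 2) F)) : g = h := by
  obtain ⟨c, hc⟩ := isConj_iff.mp hc
  rw [isScalar2_conj g c hg] at hc
  exact hc

theorem trace_conj (g c : GL (Fin 2) F) :
    ((c * g * c⁻¹ : GL (Fin 2) F) : Matrix (Fin 2) (Fin 2) F).trace =
      (g : Matrix (Fin 2) (Fin 2) F).trace := by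
  rw [Units.val_mul, Units.val_mul, Matrix.trace_mul_comm, ← mul_assoc, ← Units.val_mul,
    inv_mul_cancel, Units.val_one, one_mul]

/-- classifying invariant on `GL₂` -/
noncomputable def gl2Inv (g : GL (Fin 2) F) : Fˣ ⊕ (F × Fˣ) := by
  classical
  exact if h : IsScalar2 (g : Matrix (Fin 2) (Fin 2) F) then
    Sum.inl (Units.mk0 ((g : Matrix (Fin 2) (Fin 2) F) 0 0) (by
      intro h0
      have hdet : (g : Matrix (Fin 2) (Fin 2) F).det ≠ 0 :=
        ((Matrix.isUnit_iff_isUnit_det _).mp g.isUnit).ne_zero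
      apply hdet
      rw [Matrix.det_fin_two, h.1, ← h.2.2, h0]; ring))
  else Sum.inr ((g : Matrix (Fin 2) (Fin 2) F).trace, detU g)

theorem gl2Inv_conj (g c : GL (Fin 2) F) : gl2Inv (c * g * c⁻¹) = gl2Inv g := by
  classical
  by_cases h : IsScalar2 (g : Matrix (Fin 2) (Fin 2) F)
  · rw [isScalar2_conj g c h]
  · have h' : ¬ IsScalar2 ((c * g * c⁻¹ : GL (Fin 2) F) : Matrix (Fin 2) (Fin 2) F) := by
      intro hs
      apply h
      have := isScalar2_conj (c * g * c⁻¹) c⁻¹ hs
      have e : c⁻¹ * (c * g * c⁻¹) * c⁻¹⁻¹ = g := by group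
      rw [e] at this
      rw [this]; exact hs
    unfold gl2Inv
    rw [dif_neg h, dif_neg h']
    congr 1
    refine Prod.ext (trace_conj g c) ?_
    simp [detU]

theorem gl2Inv_eq_iff (g h : GL (Fin 2) F) : gl2Inv g = gl2Inv h ↔ IsConj g h := by
  classical
  constructor
  · intro e
    unfold gl2Inv at e
    by_cases hg : IsScalar2 (g : Matrix (Fin 2) (Fin 2) F)
    · rw [dif_pos hg] at e
      by_cases hh : IsScalar2 (h : Matrix (Fin 2) (Fin 2) F)
      · rw [dif_pos hh] at e
        have e' : (g : Matrix (Fin 2) (Fin 2) F) 0 0 = (h : Matrix (Fin 2) (Fin 2) F) 0 0 := by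
          have := Sum.inl.inj e
          exact congrArg Units.val this
        have : g = h := by
          apply Units.ext
          rw [(isScalar2_iff _).mp hg, (isScalar2_iff _).mp hh, e']
        rw [this]
      · rw [dif_neg hh] at e; exact absurd e (by simp)
    · rw [dif_neg hg] at e
      by_cases hh : IsScalar2 (h : Matrix (Fin 2) (Fin 2) F)
      · rw [dif_pos hh] at e; exact absurd e (by simp)
      · rw [dif_neg hh] at e
        have e' := Sum.inr.inj e
        have e1 : (g : Matrix (Fin 2) (Fin 2) F).trace = (h : Matrix (Fin 2) (Fin 2) F).trace :=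
          congrArg Prod.fst e'
        have e2 : (g : Matrix (Fin 2) (Fin 2) F).det = (h : Matrix (Fin 2) (Fin 2) F).det :=
          congrArg (fun p : F × Fˣ => (p.2 : F)) e'
        exact gl2_isConj_of_trace_det g h hg hh e1 e2
  · intro hc
    obtain ⟨c, rfl⟩ := isConj_iff.mp hc
    exact (gl2Inv_conj g c).symm

theorem gl2Inv_surjective : Function.Surjective (gl2Inv : GL (Fin 2) F → Fˣ ⊕ (F × Fˣ)) := by
  classical
  rintro (a | ⟨t, d⟩)
  · refine ⟨Matrix.GeneralLinearGroup.mkOfDetNeZero !![(a : F), 0; 0, (a : F)] (by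
      rw [Matrix.det_fin_two_of]; simp), ?_⟩
    unfold gl2Inv
    rw [dif_pos]
    · congr 1
      apply Units.ext
      rfl
    · exact ⟨rfl, rfl, rfl⟩
  · refine ⟨Matrix.GeneralLinearGroup.mkOfDetNeZero (comp2 t (d : F)) (by
      rw [comp2, Matrix.det_fin_two_of]; simp), ?_⟩
    unfold gl2Inv
    rw [dif_neg]
    · congr 1
      refine Prod.ext ?_ ?_
      · change (comp2 t (d : F)).trace = t
        rw [comp2, Matrix.trace_fin_two_of]; ring
      · apply Units.ext
        change (comp2 t (d : F)).det = d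
        rw [comp2, Matrix.det_fin_two_of]; ring
    · intro hs
      have := hs.2.1
      change (comp2 t (d : F)) 1 0 = 0 at this
      simp [comp2] at this

/-- the conjugacy classes of `GL₂(F)` are parametrized by `Fˣ ⊕ (F × Fˣ)` -/
noncomputable def gl2ClassesEquiv : ConjClasses (GL (Fin 2) F) ≃ Fˣ ⊕ (F × Fˣ) :=
  Equiv.ofBijective
    (Quotient.lift gl2Inv (fun g h (hgh : IsConj g h) => (gl2Inv_eq_iff g h).mpr hgh))
    ⟨by
      rintro ⟨g⟩ ⟨h⟩ e
      exact Quotient.sound ((gl2Inv_eq_iff g h).mp e),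
     by
      intro x
      obtain ⟨g, hg⟩ := gl2Inv_surjective x
      exact ⟨Quotient.mk _ g, hg⟩⟩

end Cfsg.Agent.Lib.Helper4
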