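import Mathlib
import Cfsg.Agent.Lib.Helper6.Norm
import Cfsg.Agent.Lib.Helper6.CharOps

set_option autoImplicit false

namespace Cfsg.Agent.Lib.Helper4

open Cfsg.Agent.Lib.Helper6
open scoped ComplexConjugate

variable {G : Type*} [Group G] [Fintype G]

/-- If `ψ` is a character of norm 2 containing the irreducible `lam` with multiplicity one,
then `ψ - lam` is irreducible. -/
theorem isIrr_sub_of_inner {ψ lam : G → ℂ} (hψ : Cfsg.IsCharacter G ψ)
    (hlam : Cfsg.IsIrrCharacter G lam) (h1 : Cfsg.classInner ψ lam = 1)
    (h2 : Cfsg.classInner ψ ψ = 2) : Cfsg.IsIrrCharacter G (ψ - lam) := by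
  classical
  have hchar : Cfsg.IsCharacter G (ψ - lam) := by
    apply isCharacter_of_classInner_nat _
      (isClassFunction_sub (IsCharacter.isClassFunction hψ) (IsIrrCharacter.isClassFunction hlam))
    intro χ
    rw [classInner_sub_left, classInner_isIrrCharacter hlam χ.2]
    by_cases h : lam = (χ : G → ℂ)
    · rw [if_pos h, ← h, h1]
      exact ⟨0, by simp⟩
    · rw [if_neg h, sub_zero]
      exact IsCharacter.classInner_irr_nat hψ χ.2
  apply isIrrCharacter_of_classInner_self_eq_one hchar
  have h3 : Cfsg.classInner lam ψ = 1 := by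
    rw [← classInner_conj_symm, h1, map_one]
  have h4 : Cfsg.classInner lam lam = 1 := by
    rw [classInner_isIrrCharacter hlam hlam, if_pos rfl]
  rw [classInner_sub_left, classInner_sub_right, classInner_sub_right, h1, h2, h3, h4]
  norm_num

end Cfsg.Agent.Lib.Helper4
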