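import Mathlib
import Cfsg.Prelude.Def_Characters
import Cfsg.Agent.Lib.Helper6.IndFun

set_option autoImplicit false

namespace Cfsg.Agent.Lib.Helper4

open Cfsg.Agent.Lib.Helper6

variable {G : Type*} [Group G]

/-- if `r : ι → G` induces a bijection `ι → G ⧸ H` then `(i, h) ↦ r i * h` is a bijection. -/
theorem bijective_mul_of_bijective_coset (H : Subgroup G) {ι : Type*} (r : ι → G)
    (hr : Function.Bijective (fun i => (r i : G ⧸ H))) :
    Function.Bijective (fun p : ι × H => r p.1 * (p.2 : G)) := by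
  constructor
  · rintro ⟨i, h⟩ ⟨j, h'⟩ hij
    simp only at hij
    have h1 : (r i : G ⧸ H) = (r j : G ⧸ H) := by
      rw [QuotientGroup.eq]
      have : (r i)⁻¹ * r j = (h : G) * (h' : G)⁻¹ := by
        rw [eq_mul_inv_iff_mul_eq, mul_assoc, ← hij, inv_mul_cancel_left]
      rw [this]
      exact H.mul_mem h.2 (H.inv_mem h'.2)
    have h2 : i = j := hr.1 h1
    subst h2
    have h3 : (h : G) = h' := mul_left_cancel hij
    rw [Subtype.ext h3]
  · intro x
    obtain ⟨i, hi⟩ := hr.2 (x : G ⧸ H)
    simp only at hi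
    rw [QuotientGroup.eq] at hi
    exact ⟨(i, ⟨_, hi⟩), by simp⟩

/-- `extendByZero` of a class function on `H` is invariant under conjugation by `H`. -/
theorem extendByZero_conj (H : Subgroup G) (θ : H → ℂ)
    (hθ : ∀ h y : H, θ (h⁻¹ * y * h) = θ y) (h : H) (y : G) :
    Cfsg.extendByZero H θ ((h : G)⁻¹ * y * h) = Cfsg.extendByZero H θ y := by
  by_cases hy : y ∈ H
  · have : (h : G)⁻¹ * y * h = ((h⁻¹ * ⟨y, hy⟩ * h : H) : G) := rfl
    rw [this, extendByZero_coe, hθ, extendByZero_of_mem H θ hy]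
  · rw [extendByZero_of_not_mem H θ hy, extendByZero_of_not_mem]
    intro hy'
    apply hy
    have : y = (h : G) * ((h : G)⁻¹ * y * h) * (h : G)⁻¹ := by group
    rw [this]
    exact H.mul_mem (H.mul_mem h.2 hy') (H.inv_mem h.2)

/-- induced function computed through a system of coset representatives -/
theorem indFun_eq_sum_reps [Fintype G] (H : Subgroup G) (θ : H → ℂ)
    (hθ : ∀ h y : H, θ (h⁻¹ * y * h) = θ y)
    {ι : Type*} [Fintype ι] (r : ι → G)
    (hr : Function.Bijective (fun i => (r i : G ⧸ H))) (g : G) :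
    Cfsg.indFun H θ g = ∑ i, Cfsg.extendByZero H θ ((r i)⁻¹ * g * r i) := by
  classical
  have : Fintype H := Fintype.ofFinite H
  unfold Cfsg.indFun
  have hbij := bijective_mul_of_bijective_coset H r hr
  rw [← (Equiv.ofBijective _ hbij).sum_comp, Fintype.sum_prod_type]
  simp only [Equiv.ofBijective_apply]
  have : ∀ (i : ι) (h : H), Cfsg.extendByZero H θ ((r i * (h : G))⁻¹ * g * (r i * (h : G))) =
      Cfsg.extendByZero H θ ((r i)⁻¹ * g * r i) := by
    intro i h
    rw [← extendByZero_conj H θ hθ h ((r i)⁻¹ * g * r i)]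
    congr 1
    group
  simp only [this, Finset.sum_const, Finset.card_univ, nsmul_eq_mul]
  rw [← Finset.mul_sum, ← mul_assoc, Nat.card_eq_fintype_card,
    inv_mul_cancel₀, one_mul]
  have := card_ne_zero_complex H
  rwa [Nat.card_eq_fintype_card] at this

end Cfsg.Agent.Lib.Helper4
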