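import Mathlib
import Cfsg.Agent.S2308
import Cfsg.Agent.Lib.Helper4.IndCoset

set_option autoImplicit false

namespace Cfsg.Agent.Lib.Helper4

open Cfsg.Agent.Lib.Helper6 Matrix Cfsg.Agent.S2308
open scoped MatrixGroups

variable {F : Type*} [Field F]

/-- the element `[[a, u], [0, d]]` of `GL₂` -/
noncomputable def mkGL (a d : Fˣ) (u : F) : GL (Fin 2) F :=
  Matrix.GeneralLinearGroup.mkOfDetNeZero !![(a : F), u; 0, (d : F)] (by simp [Matrix.det_fin_two_of])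

theorem mkGL_coe (a d : Fˣ) (u : F) :
    (mkGL a d u : Matrix (Fin 2) (Fin 2) F) = !![(a : F), u; 0, (d : F)] := rfl

theorem mkGL_mem (a d : Fˣ) (u : F) : mkGL a d u ∈ Cfsg.upperTriangularGL 2 F := by
  rw [mem_B_iff]; simp [mkGL_coe]

/-- the element `[[a, u], [0, d]]` of the Borel subgroup of `GL₂` -/
noncomputable def mkGB (a d : Fˣ) (u : F) : Cfsg.upperTriangularGL 2 F := ⟨mkGL a d u, mkGL_mem a d u⟩

theorem mkGB_coe (a d : Fˣ) (u : F) : ((mkGB a d u : Cfsg.upperTriangularGL 2 F) : GL (Fin 2) F) = mkGL a d u := rfl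

theorem gl2_ext_iff (x y : GL (Fin 2) F) :
    x = y ↔ (x : Matrix (Fin 2) (Fin 2) F) 0 0 = (y : Matrix (Fin 2) (Fin 2) F) 0 0 ∧
      (x : Matrix (Fin 2) (Fin 2) F) 0 1 = (y : Matrix (Fin 2) (Fin 2) F) 0 1 ∧
      (x : Matrix (Fin 2) (Fin 2) F) 1 0 = (y : Matrix (Fin 2) (Fin 2) F) 1 0 ∧
      (x : Matrix (Fin 2) (Fin 2) F) 1 1 = (y : Matrix (Fin 2) (Fin 2) F) 1 1 := by
  constructor
  · rintro rfl; exact ⟨rfl, rfl, rfl, rfl⟩
  · rintro ⟨h1, h2, h3, h4⟩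
    apply Units.ext
    ext i j
    fin_cases i <;> fin_cases j <;> assumption

theorem mkGL_injective (a a' d d' : Fˣ) (u u' : F) (h : mkGL a d u = mkGL a' d' u') :
    a = a' ∧ d = d' ∧ u = u' := by
  rw [gl2_ext_iff] at h
  simp only [mkGL_coe, Matrix.of_apply, Matrix.cons_val', Matrix.cons_val_zero, Matrix.cons_val_one,
    Matrix.cons_val_fin_one] at h
  exact ⟨Units.ext h.1, Units.ext h.2.2.2, h.2.1⟩

theorem exists_mkGL (g : GL (Fin 2) F) (hg : g ∈ Cfsg.upperTriangularGL 2 F) :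
    ∃ (a d : Fˣ) (u : F), g = mkGL a d u := by
  rw [mem_B_iff] at hg
  have hdet : (g : Matrix (Fin 2) (Fin 2) F).det ≠ 0 :=
    ((Matrix.isUnit_iff_isUnit_det _).mp g.isUnit).ne_zero
  rw [Matrix.det_fin_two, hg, mul_zero, sub_zero] at hdet
  have h00 : (g : Matrix (Fin 2) (Fin 2) F) 0 0 ≠ 0 := left_ne_zero_of_mul hdet
  have h11 : (g : Matrix (Fin 2) (Fin 2) F) 1 1 ≠ 0 := right_ne_zero_of_mul hdet
  refine ⟨Units.mk0 _ h00, Units.mk0 _ h11, (g : Matrix (Fin 2) (Fin 2) F) 0 1, ?_⟩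
  rw [gl2_ext_iff]
  simp only [mkGL_coe, Matrix.of_apply, Matrix.cons_val', Matrix.cons_val_zero, Matrix.cons_val_one,
    Matrix.cons_val_fin_one, Units.val_mk0]
  exact ⟨trivial, trivial, hg, trivial⟩

/-- `B ≃ Fˣ × Fˣ × F` -/
noncomputable def mkGBEquiv : Fˣ × Fˣ × F ≃ Cfsg.upperTriangularGL 2 F :=
  Equiv.ofBijective (fun p => mkGB p.1 p.2.1 p.2.2) (by
    constructor
    · rintro ⟨a, d, u⟩ ⟨a', d', u'⟩ h
      obtain ⟨h1, h2, h3⟩ := mkGL_injective _ _ _ _ _ _ (congrArg Subtype.val h)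
      simp only at h1 h2 h3
      rw [h1, h2, h3]
    · rintro ⟨b, hb⟩
      obtain ⟨a, d, u, rfl⟩ := exists_mkGL b hb
      exact ⟨(a, d, u), rfl⟩)

theorem mkGBEquiv_apply (p : Fˣ × Fˣ × F) : mkGBEquiv p = mkGB p.1 p.2.1 p.2.2 := rfl

theorem card_borelGL2 [Fintype F] :
    Nat.card (Cfsg.upperTriangularGL 2 F) = (Fintype.card F - 1) * ((Fintype.card F - 1) * Fintype.card F) := by
  classical
  rw [← Nat.card_congr mkGBEquiv, Nat.card_prod, Nat.card_prod, Nat.card_eq_fintype_card,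
    Nat.card_eq_fintype_card, Fintype.card_units]

theorem borelGL_mul_apply_zero (x y : GL (Fin 2) F) (hy : y ∈ Cfsg.upperTriangularGL 2 F) :
    ((x * y : GL (Fin 2) F) : Matrix (Fin 2) (Fin 2) F) 0 0 =
      (x : Matrix (Fin 2) (Fin 2) F) 0 0 * (y : Matrix (Fin 2) (Fin 2) F) 0 0 := by
  rw [mem_B_iff] at hy
  rw [Matrix.GeneralLinearGroup.coe_mul, Matrix.mul_apply, Fin.sum_univ_two, hy, mul_zero, add_zero]

theorem borelGL_mul_apply_one (x y : GL (Fin 2) F) (hx : x ∈ Cfsg.upperTriangularGL 2 F) :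
    ((x * y : GL (Fin 2) F) : Matrix (Fin 2) (Fin 2) F) 1 1 =
      (x : Matrix (Fin 2) (Fin 2) F) 1 1 * (y : Matrix (Fin 2) (Fin 2) F) 1 1 := by
  rw [mem_B_iff] at hx
  rw [Matrix.GeneralLinearGroup.coe_mul, Matrix.mul_apply, Fin.sum_univ_two, hx, zero_mul, zero_add]

/-- the `(0,0)` entry as a monoid homomorphism on the Borel subgroup -/
def entryHom0 : Cfsg.upperTriangularGL 2 F →* F where
  toFun b := ((b : GL (Fin 2) F) : Matrix (Fin 2) (Fin 2) F) 0 0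
  map_one' := by simp
  map_mul' x y := borelGL_mul_apply_zero x.1 y.1 y.2

/-- the `(1,1)` entry as a monoid homomorphism on the Borel subgroup -/
def entryHom1 : Cfsg.upperTriangularGL 2 F →* F where
  toFun b := ((b : GL (Fin 2) F) : Matrix (Fin 2) (Fin 2) F) 1 1
  map_one' := by simp
  map_mul' x y := borelGL_mul_apply_one x.1 y.1 x.2

/-- the linear character `b ↦ α (b₀₀) β (b₁₁)` of the Borel subgroup -/
noncomputable def borelGLChar (α β : MulChar F ℂ) : Cfsg.upperTriangularGL 2 F →* ℂˣ :=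
  (α.toUnitHom.comp entryHom0.toHomUnits) * (β.toUnitHom.comp entryHom1.toHomUnits)

theorem borelGLChar_apply (α β : MulChar F ℂ) (b : Cfsg.upperTriangularGL 2 F) :
    ((borelGLChar α β b : ℂˣ) : ℂ) =
      α (((b : GL (Fin 2) F) : Matrix (Fin 2) (Fin 2) F) 0 0) *
      β (((b : GL (Fin 2) F) : Matrix (Fin 2) (Fin 2) F) 1 1) := by
  unfold borelGLChar
  rw [MonoidHom.mul_apply, Units.val_mul, MonoidHom.comp_apply, MonoidHom.comp_apply,
    MulChar.coe_toUnitHom, MulChar.coe_toUnitHom, MonoidHom.coe_toHomUnits, MonoidHom.coe_toHomUnits]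
  rfl

/-- `b ↦ α (b₀₀) β (b₁₁)` is a class function on `B` -/
theorem borelGLChar_conj (α β : MulChar F ℂ) (h y : Cfsg.upperTriangularGL 2 F) :
    α ((((h⁻¹ * y * h : Cfsg.upperTriangularGL 2 F) : GL (Fin 2) F) : Matrix (Fin 2) (Fin 2) F) 0 0) *
      β ((((h⁻¹ * y * h : Cfsg.upperTriangularGL 2 F) : GL (Fin 2) F) : Matrix (Fin 2) (Fin 2) F) 1 1) =
    α (((y : GL (Fin 2) F) : Matrix (Fin 2) (Fin 2) F) 0 0) *
      β (((y : GL (Fin 2) F) : Matrix (Fin 2) (Fin 2) F) 1 1) := by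
  rw [← borelGLChar_apply, ← borelGLChar_apply, map_mul, map_mul, map_inv]
  congr 1
  rw [mul_comm, ← mul_assoc, mul_inv_cancel, one_mul]

end Cfsg.Agent.Lib.Helper4
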