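import Mathlib
import Cfsg.Agent.Lib.Helper4.GL2Borel

set_option autoImplicit false

namespace Cfsg.Agent.Lib.Helper4

open Cfsg.Agent.Lib.Helper6 Matrix Cfsg.Agent.S2308
open scoped MatrixGroups

variable {F : Type*} [Field F]

theorem rep_some_inv (c : F) : (rep (some c) : GL (Fin 2) F)⁻¹ = rep (some (-c)) := by
  apply inv_eq_of_mul_eq_one_right
  rw [gl2_ext_iff]
  simp [Matrix.GeneralLinearGroup.coe_mul, rep_some, Matrix.mul_apply, Fin.sum_univ_two]

theorem rep_none_inv : (rep (none : Option F) : GL (Fin 2) F)⁻¹ = rep none := by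
  apply inv_eq_of_mul_eq_one_right
  rw [gl2_ext_iff]
  simp [Matrix.GeneralLinearGroup.coe_mul, rep_none, Matrix.mul_apply, Fin.sum_univ_two]

theorem rep_conj_some (g : GL (Fin 2) F) (c : F) :
    (((rep (some c))⁻¹ * g * rep (some c) : GL (Fin 2) F) : Matrix (Fin 2) (Fin 2) F) 1 0 =
      (g : Matrix (Fin 2) (Fin 2) F) 1 0 + (g : Matrix (Fin 2) (Fin 2) F) 1 1 * c
        - c * ((g : Matrix (Fin 2) (Fin 2) F) 0 0 + (g : Matrix (Fin 2) (Fin 2) F) 0 1 * c) ∧
    (((rep (some c))⁻¹ * g * rep (some c) : GL (Fin 2) F) : Matrix (Fin 2) (Fin 2) F) 0 0 =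
      (g : Matrix (Fin 2) (Fin 2) F) 0 0 + (g : Matrix (Fin 2) (Fin 2) F) 0 1 * c ∧
    (((rep (some c))⁻¹ * g * rep (some c) : GL (Fin 2) F) : Matrix (Fin 2) (Fin 2) F) 1 1 =
      (g : Matrix (Fin 2) (Fin 2) F) 1 1 - c * (g : Matrix (Fin 2) (Fin 2) F) 0 1 := by
  rw [rep_some_inv, Matrix.GeneralLinearGroup.coe_mul, Matrix.GeneralLinearGroup.coe_mul, rep_some,
    rep_some]
  simp only [Matrix.mul_apply, Fin.sum_univ_two, Matrix.of_apply, Matrix.cons_val_zero,
    Matrix.cons_val_one, Matrix.cons_val', Matrix.cons_val_fin_one]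
  refine ⟨by ring, by ring, by ring⟩

theorem rep_conj_none (g : GL (Fin 2) F) :
    (((rep (none : Option F))⁻¹ * g * rep none : GL (Fin 2) F) : Matrix (Fin 2) (Fin 2) F) 1 0 =
      (g : Matrix (Fin 2) (Fin 2) F) 0 1 ∧
    (((rep (none : Option F))⁻¹ * g * rep none : GL (Fin 2) F) : Matrix (Fin 2) (Fin 2) F) 0 0 =
      (g : Matrix (Fin 2) (Fin 2) F) 1 1 ∧
    (((rep (none : Option F))⁻¹ * g * rep none : GL (Fin 2) F) : Matrix (Fin 2) (Fin 2) F) 1 1 =
      (g : Matrix (Fin 2) (Fin 2) F) 0 0 := by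
  rw [rep_none_inv, Matrix.GeneralLinearGroup.coe_mul, Matrix.GeneralLinearGroup.coe_mul, rep_none]
  simp only [Matrix.mul_apply, Fin.sum_univ_two, Matrix.of_apply, Matrix.cons_val_zero,
    Matrix.cons_val_one, Matrix.cons_val', Matrix.cons_val_fin_one]
  refine ⟨by ring, by ring, by ring⟩

/-- the value at `g` of the function induced from `b ↦ f b₀₀ * f' b₁₁` on the Borel subgroup of `GL₂`
(for multiplicative characters) -/
theorem indFun_borelGL2_apply [Fintype F] [DecidableEq F] [Fintype (GL (Fin 2) F)]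
    (α β : MulChar F ℂ) (g : GL (Fin 2) F) :
    Cfsg.indFun (Cfsg.upperTriangularGL 2 F)
      (fun b => α (((b : GL (Fin 2) F) : Matrix (Fin 2) (Fin 2) F) 0 0) *
        β (((b : GL (Fin 2) F) : Matrix (Fin 2) (Fin 2) F) 1 1)) g =
      (if (g : Matrix (Fin 2) (Fin 2) F) 0 1 = 0 then
        α ((g : Matrix (Fin 2) (Fin 2) F) 1 1) * β ((g : Matrix (Fin 2) (Fin 2) F) 0 0) else 0) +
      ∑ c : F, if (g : Matrix (Fin 2) (Fin 2) F) 1 0 + (g : Matrix (Fin 2) (Fin 2) F) 1 1 * c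
          - c * ((g : Matrix (Fin 2) (Fin 2) F) 0 0 + (g : Matrix (Fin 2) (Fin 2) F) 0 1 * c) = 0
        then α ((g : Matrix (Fin 2) (Fin 2) F) 0 0 + (g : Matrix (Fin 2) (Fin 2) F) 0 1 * c) *
          β ((g : Matrix (Fin 2) (Fin 2) F) 1 1 - c * (g : Matrix (Fin 2) (Fin 2) F) 0 1) else 0 := by
  rw [indFun_eq_sum_reps (Cfsg.upperTriangularGL 2 F) _ _ rep rep_bijective g, Fintype.sum_option]
  · congr 1
    · obtain ⟨h1, h2, h3⟩ := rep_conj_none g
      by_cases h : (g : Matrix (Fin 2) (Fin 2) F) 0 1 = 0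
      · rw [if_pos h, extendByZero_of_mem]
        · simp only
          rw [h2, h3]
        · rw [mem_B_iff, h1, h]
      · rw [if_neg h, extendByZero_of_not_mem]
        rw [mem_B_iff, h1]
        exact h
    · apply Finset.sum_congr rfl
      intro c _
      obtain ⟨h1, h2, h3⟩ := rep_conj_some g c
      by_cases h : (g : Matrix (Fin 2) (Fin 2) F) 1 0 + (g : Matrix (Fin 2) (Fin 2) F) 1 1 * c
          - c * ((g : Matrix (Fin 2) (Fin 2) F) 0 0 + (g : Matrix (Fin 2) (Fin 2) F) 0 1 * c) = 0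
      · rw [if_pos h, extendByZero_of_mem]
        · simp only
          rw [h2, h3]
        · rw [mem_B_iff, h1, h]
      · rw [if_neg h, extendByZero_of_not_mem]
        rw [mem_B_iff, h1]
        exact h
  · intro h y
    exact borelGLChar_conj α β h y

end Cfsg.Agent.Lib.Helper4
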