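import Mathlib

set_option autoImplicit false

namespace Cfsg.Agent.Lib.Helper4

open scoped ComplexConjugate

variable {F : Type*} [Field F] [Fintype F]

/-- sum of a multiplicative character over the units -/
theorem sum_units_mulChar [DecidableEq F] (χ : MulChar F ℂ) [Decidable (χ = 1)] :
    ∑ a : Fˣ, χ (a : F) = if χ = 1 then ((Fintype.card F : ℂ) - 1) else 0 := by
  have h1 : ∑ a : Fˣ, χ (a : F) = ∑ x : F, χ x := by
    have h0 : ∑ a : Fˣ, χ (a : F) =
        ∑ x ∈ Finset.univ.map ⟨Units.val, Units.val_injective⟩, χ x := by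
      rw [Finset.sum_map]; rfl
    rw [h0]
    apply Finset.sum_subset (Finset.subset_univ _)
    intro x _ hx
    apply χ.map_nonunit
    intro hu
    apply hx
    rw [Finset.mem_map]
    exact ⟨hu.unit, Finset.mem_univ _, rfl⟩
  rw [h1]
  split_ifs with h
  · rw [h, MulChar.sum_one_eq_card_units, Fintype.card_units, Nat.cast_sub Fintype.card_pos,
      Nat.cast_one]
  · exact MulChar.sum_eq_zero_of_ne_one h

theorem mulChar_conj (χ : MulChar F ℂ) (a : F) : conj (χ a) = χ⁻¹ a :=
  MulChar.star_apply' χ a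

theorem sum_units_mulChar_mul_conj [DecidableEq F] (α β : MulChar F ℂ) [Decidable (α = β)] :
    ∑ a : Fˣ, α (a : F) * conj (β (a : F)) = if α = β then ((Fintype.card F : ℂ) - 1) else 0 := by
  classical
  have : ∀ a : Fˣ, α (a : F) * conj (β (a : F)) = (α * β⁻¹) (a : F) := by
    intro a
    rw [mulChar_conj, MulChar.mul_apply]
  simp_rw [this]
  rw [sum_units_mulChar]
  have : α * β⁻¹ = 1 ↔ α = β := mul_inv_eq_one
  by_cases h : α = β
  · rw [if_pos h, if_pos (this.mpr h)]
  · rw [if_neg h, if_neg (fun h' => h (this.mp h'))]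

theorem sum_units_mulChar_mul_conj_inv [DecidableEq F] (α β : MulChar F ℂ) [Decidable (α = β⁻¹)] :
    ∑ a : Fˣ, α (a : F) * conj (β ((a⁻¹ : Fˣ) : F)) =
      if α = β⁻¹ then ((Fintype.card F : ℂ) - 1) else 0 := by
  classical
  have : ∀ a : Fˣ, α (a : F) * conj (β ((a⁻¹ : Fˣ) : F)) = (α * β) (a : F) := by
    intro a
    rw [mulChar_conj, MulChar.mul_apply, MulChar.inv_apply', Units.val_inv_eq_inv_val, inv_inv]
  simp_rw [this]
  rw [sum_units_mulChar]
  have : α * β = 1 ↔ α = β⁻¹ := mul_eq_one_iff_eq_inv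
  by_cases h : α = β⁻¹
  · rw [if_pos h, if_pos (this.mpr h)]
  · rw [if_neg h, if_neg (fun h' => h (this.mp h'))]

end Cfsg.Agent.Lib.Helper4
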