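import Mathlib
import Cfsg.Agent.S0146
import Cfsg.Agent.Lib.Helper6.IndFunTI
import Cfsg.Agent.Lib.Helper4.GL2Ind
import Cfsg.Agent.Lib.Helper4.MulCharSum

set_option autoImplicit false

namespace Cfsg.Agent.Lib.Helper4

open Cfsg.Agent.Lib.Helper6 Matrix Cfsg.Agent.S2308
open scoped ComplexConjugate MatrixGroups

variable {F : Type*} [Field F]

/-- the principal series function `R(α, β)` of `GL₂` -/
noncomputable abbrev psGL2 [Fintype (GL (Fin 2) F)] (α β : MulChar F ℂ) : GL (Fin 2) F → ℂ :=
  Cfsg.indFun (Cfsg.upperTriangularGL 2 F)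
    (fun b => α (((b : GL (Fin 2) F) : Matrix (Fin 2) (Fin 2) F) 0 0) *
      β (((b : GL (Fin 2) F) : Matrix (Fin 2) (Fin 2) F) 1 1))

theorem psGL2_mkGL [Fintype F] [DecidableEq F] [Fintype (GL (Fin 2) F)]
    (α β : MulChar F ℂ) (a d : Fˣ) (u : F) :
    psGL2 α β (mkGL a d u) = (if u = 0 then α (d : F) * β (a : F) else 0) +
      ∑ c : F, if (d : F) * c - c * ((a : F) + u * c) = 0
        then α ((a : F) + u * c) * β ((d : F) - c * u) else 0 := by
  unfold psGL2
  rw [indFun_borelGL2_apply]
  simp [mkGL_coe]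

theorem sum_sum_cond_GL [Fintype F] [DecidableEq F] (h : F → F → ℂ) (a d : Fˣ) :
    ∑ u : F, ∑ c : F,
      (if (d : F) * c - c * ((a : F) + u * c) = 0 then h ((a : F) + u * c) ((d : F) - c * u) else 0) =
    (Fintype.card F : ℂ) * h (a : F) (d : F) + ((Fintype.card F : ℂ) - 1) * h (d : F) (a : F) := by
  rw [Finset.sum_comm]
  rw [← Finset.add_sum_erase Finset.univ _ (Finset.mem_univ (0 : F))]
  congr 1
  · simp
  · have : ∀ c ∈ Finset.univ.erase (0 : F), ∑ u : F,
        (if (d : F) * c - c * ((a : F) + u * c) = 0 then h ((a : F) + u * c) ((d : F) - c * u) else 0) =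
        h (d : F) (a : F) := by
      intro c hc
      have hc0 : c ≠ 0 := Finset.ne_of_mem_erase hc
      rw [Finset.sum_eq_single (((d : F) - (a : F)) / c)]
      · rw [if_pos]
        · congr 1
          · field_simp
            ring
          · field_simp
            ring
        · field_simp
          ring
      · intro u _ hu
        rw [if_neg]
        intro hcond
        apply hu
        have : c * ((d : F) - (a : F) - u * c) = 0 := by linear_combination hcond
        rcases mul_eq_zero.mp this with h' | h'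
        · exact absurd h' hc0
        · field_simp
          linear_combination -h'
      · intro h'; exact absurd (Finset.mem_univ _) h'
    rw [Finset.sum_congr rfl this, Finset.sum_const, Finset.card_erase_of_mem (Finset.mem_univ _),
      Finset.card_univ, nsmul_eq_mul, Nat.cast_sub Fintype.card_pos, Nat.cast_one]

theorem ite_arith (q : ℂ) (hq : q - 1 ≠ 0) (hq' : q ≠ 0) (P1 P2 P3 P4 : Prop)
    [Decidable P1] [Decidable P2] [Decidable P3] [Decidable P4]
    [Decidable (P1 ∧ P2)] [Decidable (P3 ∧ P4)] :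
    ((q - 1) * ((q - 1) * q))⁻¹ * (q * ((if P1 then q - 1 else 0) * (if P2 then q - 1 else 0)) +
      q * ((if P3 then q - 1 else 0) * (if P4 then q - 1 else 0))) =
    (if P1 ∧ P2 then 1 else 0) + (if P3 ∧ P4 then 1 else 0) := by
  by_cases h1 : P1 <;> by_cases h2 : P2 <;> by_cases h3 : P3 <;> by_cases h4 : P4 <;>
    simp only [h1, h2, h3, h4, and_self, and_true, and_false, false_and, true_and, if_true, if_false,
      mul_zero, zero_mul, add_zero, zero_add] <;>
    field_simp <;> ring

theorem classInner_psGL2 [Fintype F] [DecidableEq F] [Fintype (GL (Fin 2) F)]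
    (α β α' β' : MulChar F ℂ) [Decidable (α = α' ∧ β = β')] [Decidable (α = β' ∧ β = α')] :
    Cfsg.classInner (psGL2 α β) (psGL2 α' β') =
      (if α = α' ∧ β = β' then 1 else 0) + (if α = β' ∧ β = α' then 1 else 0) := by
  classical
  have : Fintype (Cfsg.upperTriangularGL 2 F) := Fintype.ofFinite _
  unfold psGL2
  rw [Cfsg.Agent.S0146.result (Cfsg.upperTriangularGL 2 F) _ _ (indFun_isClassFunction _ _)]
  unfold Cfsg.classInner
  rw [← mkGBEquiv.sum_comp, Fintype.sum_prod_type]
  simp only [Fintype.sum_prod_type]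
  have h1 : ∀ (a d : Fˣ) (u : F),
      α ((((mkGBEquiv (a, d, u) : Cfsg.upperTriangularGL 2 F) : GL (Fin 2) F) :
        Matrix (Fin 2) (Fin 2) F) 0 0) *
      β ((((mkGBEquiv (a, d, u) : Cfsg.upperTriangularGL 2 F) : GL (Fin 2) F) :
        Matrix (Fin 2) (Fin 2) F) 1 1) = α (a : F) * β (d : F) := by
    intro a d u
    rw [mkGBEquiv_apply, mkGB_coe, mkGL_coe]
    simp
  have h2 : ∀ (a d : Fˣ) (u : F),
      Cfsg.indFun (Cfsg.upperTriangularGL 2 F)
        (fun b => α' (((b : GL (Fin 2) F) : Matrix (Fin 2) (Fin 2) F) 0 0) *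
          β' (((b : GL (Fin 2) F) : Matrix (Fin 2) (Fin 2) F) 1 1))
        ((mkGBEquiv (a, d, u) : Cfsg.upperTriangularGL 2 F) : GL (Fin 2) F) =
      (if u = 0 then α' (d : F) * β' (a : F) else 0) +
      ∑ c : F, if (d : F) * c - c * ((a : F) + u * c) = 0
        then α' ((a : F) + u * c) * β' ((d : F) - c * u) else 0 := by
    intro a d u
    exact psGL2_mkGL α' β' a d u
  have h3 : ∀ a d : Fˣ, (∑ u : F, if u = 0 then conj (α' (d : F) * β' (a : F)) else 0) =
      conj (α' (d : F) * β' (a : F)) := by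
    intro a d
    rw [Finset.sum_ite_eq' Finset.univ (0 : F)]
    simp
  have hA : ∀ a d : Fˣ, ∑ u : F,
      (α ((((mkGBEquiv (a, d, u) : Cfsg.upperTriangularGL 2 F) : GL (Fin 2) F) :
        Matrix (Fin 2) (Fin 2) F) 0 0) *
      β ((((mkGBEquiv (a, d, u) : Cfsg.upperTriangularGL 2 F) : GL (Fin 2) F) :
        Matrix (Fin 2) (Fin 2) F) 1 1)) *
      conj (Cfsg.indFun (Cfsg.upperTriangularGL 2 F)
        (fun b => α' (((b : GL (Fin 2) F) : Matrix (Fin 2) (Fin 2) F) 0 0) *
          β' (((b : GL (Fin 2) F) : Matrix (Fin 2) (Fin 2) F) 1 1))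
        ((mkGBEquiv (a, d, u) : Cfsg.upperTriangularGL 2 F) : GL (Fin 2) F)) =
      (α (a : F) * β (d : F)) * (conj (α' (d : F) * β' (a : F)) +
        ((Fintype.card F : ℂ) * conj (α' (a : F) * β' (d : F)) +
        ((Fintype.card F : ℂ) - 1) * conj (α' (d : F) * β' (a : F)))) := by
    intro a d
    simp only [h1, h2]
    rw [← Finset.mul_sum]
    congr 1
    simp only [map_add, map_sum, apply_ite conj, map_zero]
    rw [Finset.sum_add_distrib, h3, sum_sum_cond_GL (fun x y => conj (α' x * β' y))]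
  simp only [hA]
  have hq : ((Fintype.card F : ℂ) - 1) ≠ 0 := by
    have h1 : 1 < Fintype.card F := Fintype.one_lt_card
    intro h
    rw [sub_eq_zero] at h
    have : Fintype.card F = 1 := by exact_mod_cast h
    omega
  have hq' : (Fintype.card F : ℂ) ≠ 0 := by
    have h1 : 0 < Fintype.card F := Fintype.card_pos
    exact_mod_cast h1.ne'
  have h6 : ∑ a : Fˣ, ∑ d : Fˣ, (α (a : F) * β (d : F)) * (conj (α' (d : F) * β' (a : F)) +
        ((Fintype.card F : ℂ) * conj (α' (a : F) * β' (d : F)) +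
        ((Fintype.card F : ℂ) - 1) * conj (α' (d : F) * β' (a : F)))) =
      (Fintype.card F : ℂ) * ((∑ a : Fˣ, α (a : F) * conj (α' (a : F))) *
        (∑ d : Fˣ, β (d : F) * conj (β' (d : F)))) +
      (Fintype.card F : ℂ) * ((∑ a : Fˣ, α (a : F) * conj (β' (a : F))) *
        (∑ d : Fˣ, β (d : F) * conj (α' (d : F)))) := by
    rw [Finset.sum_mul_sum, Finset.sum_mul_sum, Finset.mul_sum, Finset.mul_sum,
      ← Finset.sum_add_distrib]
    apply Finset.sum_congr rfl
    intro a _
    rw [Finset.mul_sum, Finset.mul_sum, ← Finset.sum_add_distrib]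
    apply Finset.sum_congr rfl
    intro d _
    simp only [map_mul]
    ring
  rw [h6, sum_units_mulChar_mul_conj α α', sum_units_mulChar_mul_conj β β',
    sum_units_mulChar_mul_conj α β', sum_units_mulChar_mul_conj β α',
    card_borelGL2, Nat.cast_mul, Nat.cast_mul, Nat.cast_sub Fintype.card_pos, Nat.cast_one]
  exact ite_arith _ hq hq' _ _ _ _

end Cfsg.Agent.Lib.Helper4
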