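import Mathlib
import Cfsg.Agent.Lib.Helper4.GL2IndInner
import Cfsg.Agent.Lib.Helper4.CharAux
import Cfsg.Agent.S2304

set_option autoImplicit false

namespace Cfsg.Agent.Lib.Helper4

open Cfsg.Agent.Lib.Helper6 Matrix Cfsg.Agent.S2308
open scoped ComplexConjugate MatrixGroups

variable {F : Type*} [Field F]

/-- the linear character `α ∘ det` of `GL₂` as a homomorphism -/
noncomputable def lamHom (α : MulChar F ℂ) : GL (Fin 2) F →* ℂˣ :=
  α.toUnitHom.comp Matrix.GeneralLinearGroup.det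

/-- the linear character `α ∘ det` of `GL₂` -/
noncomputable def lamGL2 (α : MulChar F ℂ) : GL (Fin 2) F → ℂ :=
  fun g => α ((g : Matrix (Fin 2) (Fin 2) F).det)

theorem lamHom_apply (α : MulChar F ℂ) (g : GL (Fin 2) F) :
    ((lamHom α g : ℂˣ) : ℂ) = lamGL2 α g := by
  unfold lamHom lamGL2
  rw [MonoidHom.comp_apply, MulChar.coe_toUnitHom, Matrix.GeneralLinearGroup.val_det_apply]

theorem isIrr_lamGL2 (α : MulChar F ℂ) : Cfsg.IsIrrCharacter (GL (Fin 2) F) (lamGL2 α) := by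
  have h := isIrrCharacter_of_hom (lamHom α)
  have h2 : (fun g => ((lamHom α g : ℂˣ) : ℂ)) = lamGL2 α := by
    funext g
    exact lamHom_apply α g
  rwa [h2] at h

theorem lamGL2_one (α : MulChar F ℂ) : lamGL2 α 1 = 1 := by
  unfold lamGL2
  simp

theorem lamGL2_borel (α : MulChar F ℂ) (b : Cfsg.upperTriangularGL 2 F) :
    lamGL2 α (b : GL (Fin 2) F) =
      α (((b : GL (Fin 2) F) : Matrix (Fin 2) (Fin 2) F) 0 0) *
      α (((b : GL (Fin 2) F) : Matrix (Fin 2) (Fin 2) F) 1 1) := by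
  unfold lamGL2
  have hb := (mem_B_iff b.1).mp b.2
  rw [Matrix.det_fin_two, hb, mul_zero, sub_zero, map_mul]

theorem isIrr_borelGLChar (α β : MulChar F ℂ) :
    Cfsg.IsIrrCharacter (Cfsg.upperTriangularGL 2 F)
      (fun b => α (((b : GL (Fin 2) F) : Matrix (Fin 2) (Fin 2) F) 0 0) *
        β (((b : GL (Fin 2) F) : Matrix (Fin 2) (Fin 2) F) 1 1)) := by
  have h := isIrrCharacter_of_hom (borelGLChar α β)
  have h2 : (fun b => ((borelGLChar α β b : ℂˣ) : ℂ)) =
      (fun b : Cfsg.upperTriangularGL 2 F => α (((b : GL (Fin 2) F) : Matrix (Fin 2) (Fin 2) F) 0 0) *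
        β (((b : GL (Fin 2) F) : Matrix (Fin 2) (Fin 2) F) 1 1)) := by
    funext b
    exact borelGLChar_apply α β b
  rwa [h2] at h

/-- `⟨R(α, β), λ_γ⟩ = [α = γ ∧ β = γ]` -/
theorem classInner_psGL2_lam [Fintype F] [DecidableEq F] [Fintype (GL (Fin 2) F)]
    (α β γ : MulChar F ℂ) [Decidable (α = γ ∧ β = γ)] :
    Cfsg.classInner (psGL2 α β) (lamGL2 γ) = if α = γ ∧ β = γ then 1 else 0 := by
  classical
  have : Fintype (Cfsg.upperTriangularGL 2 F) := Fintype.ofFinite _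
  unfold psGL2
  rw [Cfsg.Agent.S0146.result (Cfsg.upperTriangularGL 2 F) _ _
    (IsIrrCharacter.isClassFunction (isIrr_lamGL2 γ))]
  have h1 : (fun h : Cfsg.upperTriangularGL 2 F => lamGL2 γ (h : GL (Fin 2) F)) =
      (fun b : Cfsg.upperTriangularGL 2 F => γ (((b : GL (Fin 2) F) : Matrix (Fin 2) (Fin 2) F) 0 0) *
        γ (((b : GL (Fin 2) F) : Matrix (Fin 2) (Fin 2) F) 1 1)) := by
    funext b
    exact lamGL2_borel γ b
  rw [h1, classInner_isIrrCharacter (isIrr_borelGLChar α β) (isIrr_borelGLChar γ γ)]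
  have hiff : ((fun b : Cfsg.upperTriangularGL 2 F =>
        α (((b : GL (Fin 2) F) : Matrix (Fin 2) (Fin 2) F) 0 0) *
        β (((b : GL (Fin 2) F) : Matrix (Fin 2) (Fin 2) F) 1 1)) =
      (fun b : Cfsg.upperTriangularGL 2 F => γ (((b : GL (Fin 2) F) : Matrix (Fin 2) (Fin 2) F) 0 0) *
        γ (((b : GL (Fin 2) F) : Matrix (Fin 2) (Fin 2) F) 1 1))) ↔ (α = γ ∧ β = γ) := by
    constructor
    · intro h
      constructor
      · ext a
        have := congrFun h (mkGB a 1 0)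
        simpa [mkGB_coe, mkGL_coe] using this
      · ext a
        have := congrFun h (mkGB 1 a 0)
        simpa [mkGB_coe, mkGL_coe] using this
    · rintro ⟨rfl, rfl⟩
      rfl
  by_cases h : α = γ ∧ β = γ
  · rw [if_pos h, if_pos (hiff.mpr h)]
  · rw [if_neg h, if_neg (fun h' => h (hiff.mp h'))]

/-- the Steinberg character twisted by `α` -/
noncomputable def stGL2 [Fintype (GL (Fin 2) F)] (α : MulChar F ℂ) : GL (Fin 2) F → ℂ :=
  psGL2 α α - lamGL2 α

theorem isIrr_stGL2 [Fintype F] [DecidableEq F] [Fintype (GL (Fin 2) F)] (α : MulChar F ℂ) :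
    Cfsg.IsIrrCharacter (GL (Fin 2) F) (stGL2 α) := by
  classical
  unfold stGL2
  apply isIrr_sub_of_inner
  · exact IsCharacter.indFun _ (Cfsg.Agent.S2304.isCharacter_borelGLChar α α)
  · exact isIrr_lamGL2 α
  · rw [classInner_psGL2_lam, if_pos ⟨rfl, rfl⟩]
  · rw [classInner_psGL2, if_pos ⟨rfl, rfl⟩]
    norm_num

theorem psGL2_one [Fintype F] [DecidableEq F] [Fintype (GL (Fin 2) F)] (α β : MulChar F ℂ) :
    psGL2 α β 1 = (Fintype.card F : ℂ) + 1 := by
  unfold psGL2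
  rw [indFun_borelGL2_apply]
  simp
  ring

theorem stGL2_one [Fintype F] [DecidableEq F] [Fintype (GL (Fin 2) F)] (α : MulChar F ℂ) :
    stGL2 α 1 = (Fintype.card F : ℂ) := by
  unfold stGL2
  rw [Pi.sub_apply, psGL2_one, lamGL2_one]
  ring

end Cfsg.Agent.Lib.Helper4
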