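import Mathlib
import Cfsg.Agent.Lib.Helper4.GL2Steinberg
import Cfsg.Agent.Lib.Helper4.MulCharDual

set_option autoImplicit false

namespace Cfsg.Agent.Lib.Helper4

open Cfsg.Agent.Lib.Helper6 Matrix Cfsg.Agent.S2308
open scoped ComplexConjugate MatrixGroups

variable {F : Type*} [Field F]

/-- Fourier inversion on `Fˣ` -/
theorem fourier_inv [Fintype F] [DecidableEq F] (g : Fˣ → ℂ)
    (h : ∀ α : MulChar F ℂ, ∑ a : Fˣ, α (a : F) * g a = 0) (a₀ : Fˣ) : g a₀ = 0 := by
  have : Fintype (MulChar F ℂ) := Fintype.ofFinite _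
  have h1 : ∑ α : MulChar F ℂ, conj (α (a₀ : F)) * ∑ a : Fˣ, α (a : F) * g a = 0 := by
    apply Finset.sum_eq_zero
    intro α _
    rw [h α, mul_zero]
  simp only [Finset.mul_sum] at h1
  rw [Finset.sum_comm] at h1
  have h2 : ∀ a : Fˣ, ∑ α : MulChar F ℂ, conj (α (a₀ : F)) * (α (a : F) * g a) =
      (if a = a₀ then ((Fintype.card F : ℂ) - 1) else 0) * g a := by
    intro a
    rw [← sum_mulChar_mul_conj a a₀, Finset.sum_mul]
    apply Finset.sum_congr rfl
    intro α _
    ring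
  simp only [h2] at h1
  rw [Finset.sum_eq_single a₀] at h1
  · rw [if_pos rfl] at h1
    have hq : ((Fintype.card F : ℂ) - 1) ≠ 0 := by
      have h1 : 1 < Fintype.card F := Fintype.one_lt_card
      intro h
      rw [sub_eq_zero] at h
      have : Fintype.card F = 1 := by exact_mod_cast h
      omega
    rcases mul_eq_zero.mp h1 with h | h
    · exact absurd h hq
    · exact h
  · intro a _ ha
    rw [if_neg ha, zero_mul]
  · intro h; exact absurd (Finset.mem_univ _) h

/-- `χ` is orthogonal to all principal series of `GL₂` -/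
def NonPS [Fintype (GL (Fin 2) F)] (χ : GL (Fin 2) F → ℂ) : Prop :=
  ∀ α β : MulChar F ℂ, Cfsg.classInner (psGL2 α β) χ = 0

theorem sum_coset_eq_zero [Fintype F] [DecidableEq F] [Fintype (GL (Fin 2) F)]
    (χ : GL (Fin 2) F → ℂ) (hχ : Cfsg.IsClassFunction (GL (Fin 2) F) χ) (h : NonPS χ) (a₀ d₀ : Fˣ) :
    ∑ u : F, χ (mkGL a₀ d₀ u) = 0 := by
  classical
  have : Fintype (Cfsg.upperTriangularGL 2 F) := Fintype.ofFinite _
  have key : ∀ α β : MulChar F ℂ,
      ∑ a : Fˣ, α (a : F) * ∑ d : Fˣ, β (d : F) * ∑ u : F, conj (χ (mkGL a d u)) = 0 := by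
    intro α β
    have h1 := h α β
    unfold psGL2 at h1
    rw [Cfsg.Agent.S0146.result (Cfsg.upperTriangularGL 2 F) _ _ hχ] at h1
    unfold Cfsg.classInner at h1
    rw [← mkGBEquiv.sum_comp, Fintype.sum_prod_type] at h1
    simp only [Fintype.sum_prod_type] at h1
    have hB : (Nat.card (Cfsg.upperTriangularGL 2 F) : ℂ) ≠ 0 := card_ne_zero_complex _
    rcases mul_eq_zero.mp h1 with h2 | h2
    · exact absurd (inv_eq_zero.mp h2) hB
    · rw [← h2]
      apply Finset.sum_congr rfl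
      intro a _
      rw [Finset.mul_sum]
      apply Finset.sum_congr rfl
      intro d _
      rw [Finset.mul_sum, Finset.mul_sum]
      apply Finset.sum_congr rfl
      intro u _
      rw [mkGBEquiv_apply, mkGB_coe, mkGL_coe]
      simp
      ring
  have h2 : ∀ (β : MulChar F ℂ) (a : Fˣ),
      ∑ d : Fˣ, β (d : F) * ∑ u : F, conj (χ (mkGL a d u)) = 0 := by
    intro β a
    exact fourier_inv (fun a => ∑ d : Fˣ, β (d : F) * ∑ u : F, conj (χ (mkGL a d u)))
      (fun α => key α β) a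
  have h3 : ∑ u : F, conj (χ (mkGL a₀ d₀ u)) = 0 :=
    fourier_inv (fun d => ∑ u : F, conj (χ (mkGL a₀ d u))) (fun β => h2 β a₀) d₀
  have h4 := congrArg conj h3
  rw [map_sum, map_zero] at h4
  simpa using h4

end Cfsg.Agent.Lib.Helper4
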