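import Mathlib
import Cfsg.Agent.Lib.Helper4.GL2Cusp
import Cfsg.Agent.Lib.Helper6.Regular
import Cfsg.Agent.Lib.Helper6.Constituent

set_option autoImplicit false

namespace Cfsg.Agent.Lib.Helper4

open Cfsg.Agent.Lib.Helper6 Matrix Cfsg.Agent.S2308
open scoped ComplexConjugate MatrixGroups

variable {F : Type*} [Field F]

theorem dvd_of_isIntegral (n m : ℕ) (hm : 0 < m) (x : ℂ) (hx : IsIntegral ℤ x)
    (h : (n : ℂ) + (m : ℂ) * x = 0) : ∃ k : ℤ, x = k ∧ (n : ℤ) + m * k = 0 := by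
  have hm' : (m : ℂ) ≠ 0 := by exact_mod_cast hm.ne'
  have hx' : x = ((-(n : ℚ) / (m : ℚ) : ℚ) : ℂ) := by
    push_cast
    field_simp
    linear_combination h
  rw [hx'] at hx
  have h2 : IsIntegral ℤ (-(n : ℚ) / (m : ℚ) : ℚ) :=
    (isIntegral_algebraMap_iff (A := ℚ) (B := ℂ) (R := ℤ) (x := (-(n : ℚ) / (m : ℚ) : ℚ))
      (algebraMap ℚ ℂ).injective).mp hx
  obtain ⟨k, hk⟩ := IsIntegrallyClosed.isIntegral_iff.mp h2
  refine ⟨k, ?_, ?_⟩
  · rw [hx', ← hk]; simp
  · have hm'' : (m : ℚ) ≠ 0 := by exact_mod_cast hm.ne'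
    have : (k : ℚ) = -(n : ℚ) / (m : ℚ) := by rw [← hk]; simp
    have h3 : ((n : ℤ) + m * k : ℚ) = 0 := by
      rw [this]; field_simp; simp
    exact_mod_cast h3

theorem mkGL_mul (a a' d d' : Fˣ) (u u' : F) :
    mkGL a d u * mkGL a' d' u' = mkGL (a * a') (d * d') ((a : F) * u' + u * (d' : F)) := by
  rw [gl2_ext_iff]
  simp only [Matrix.GeneralLinearGroup.coe_mul, mkGL_coe, Matrix.mul_apply, Fin.sum_univ_two,
    Matrix.of_apply, Matrix.cons_val', Matrix.cons_val_zero, Matrix.cons_val_one,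
    Matrix.cons_val_fin_one]
  refine ⟨?_, ?_, ?_, ?_⟩
  · push_cast; simp
  · simp
  · simp
  · push_cast; simp

theorem mkGL_one : mkGL (1 : Fˣ) 1 0 = 1 := by
  rw [gl2_ext_iff]
  simp [mkGL_coe]

theorem classFunction_eq_of_semiconj {G : Type*} [Group G] (χ : G → ℂ)
    (hχ : Cfsg.IsClassFunction G χ) (h g g' : G) (hc : h * g = g' * h) : χ g' = χ g := by
  have : g' = h * g * h⁻¹ := by rw [hc, mul_inv_cancel_right]
  rw [this, hχ]

/-- a class function is constant on `t U` for `t` regular diagonal -/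
theorem classFunction_mkGL_of_ne (χ : GL (Fin 2) F → ℂ) (hχ : Cfsg.IsClassFunction (GL (Fin 2) F) χ)
    (a d : Fˣ) (had : a ≠ d) (u : F) : χ (mkGL a d u) = χ (mkGL a d 0) := by
  have hne : (d : F) - (a : F) ≠ 0 := by
    intro h
    apply had
    exact Units.ext (sub_eq_zero.mp h).symm
  apply classFunction_eq_of_semiconj χ hχ (mkGL 1 1 (u / ((d : F) - (a : F))))
  rw [mkGL_mul, mkGL_mul]
  congr 1
  · rw [mul_comm]
  · rw [mul_comm]
  · simp only [Units.val_one, mul_zero, zero_add]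
    field_simp
    ring

/-- a class function is constant on the non-identity elements of `U` -/
theorem classFunction_mkGL_unip (χ : GL (Fin 2) F → ℂ) (hχ : Cfsg.IsClassFunction (GL (Fin 2) F) χ)
    (u : F) (hu : u ≠ 0) : χ (mkGL 1 1 u) = χ (mkGL 1 1 1) := by
  apply classFunction_eq_of_semiconj χ hχ (mkGL (Units.mk0 u hu) 1 0)
  rw [mkGL_mul, mkGL_mul]
  congr 1
  · rw [mul_comm]
  · simp

theorem nonPS_diag_eq_zero [Fintype F] [DecidableEq F] [Fintype (GL (Fin 2) F)]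
    (χ : GL (Fin 2) F → ℂ) (hχ : Cfsg.IsClassFunction (GL (Fin 2) F) χ) (h : NonPS χ)
    (a d : Fˣ) (had : a ≠ d) : χ (mkGL a d 0) = 0 := by
  have h1 := sum_coset_eq_zero χ hχ h a d
  simp only [classFunction_mkGL_of_ne χ hχ a d had, Finset.sum_const, Finset.card_univ,
    nsmul_eq_mul] at h1
  have hq' : (Fintype.card F : ℂ) ≠ 0 := by
    have h1 : 0 < Fintype.card F := Fintype.card_pos
    exact_mod_cast h1.ne'
  rcases mul_eq_zero.mp h1 with h2 | h2
  · exact absurd h2 hq'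
  · exact h2

theorem nonPS_unip [Fintype F] [DecidableEq F] [Fintype (GL (Fin 2) F)]
    (χ : GL (Fin 2) F → ℂ) (hχ : Cfsg.IsClassFunction (GL (Fin 2) F) χ) (h : NonPS χ) :
    χ 1 + ((Fintype.card F : ℂ) - 1) * χ (mkGL 1 1 1) = 0 := by
  have h1 := sum_coset_eq_zero χ hχ h 1 1
  rw [← Finset.add_sum_erase Finset.univ _ (Finset.mem_univ (0 : F)), mkGL_one] at h1
  have : ∀ u ∈ Finset.univ.erase (0 : F), χ (mkGL 1 1 u) = χ (mkGL 1 1 1) := by
    intro u hu
    exact classFunction_mkGL_unip χ hχ u (Finset.ne_of_mem_erase hu)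
  rw [Finset.sum_congr rfl this, Finset.sum_const, Finset.card_erase_of_mem (Finset.mem_univ _),
    Finset.card_univ, nsmul_eq_mul, Nat.cast_sub Fintype.card_pos, Nat.cast_one] at h1
  exact h1

/-- the degree of a cuspidal character is a positive multiple of `q - 1` and its value at
the transvection is minus that multiple -/
theorem nonPS_degree [Fintype F] [DecidableEq F] [Fintype (GL (Fin 2) F)]
    (χ : GL (Fin 2) F → ℂ) (hχ : Cfsg.IsIrrCharacter (GL (Fin 2) F) χ) (h : NonPS χ) :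
    ∃ m : ℕ, 0 < m ∧ χ 1 = (m : ℂ) * ((Fintype.card F : ℂ) - 1) ∧ χ (mkGL 1 1 1) = -(m : ℂ) := by
  have h1 := nonPS_unip χ (IsIrrCharacter.isClassFunction hχ) h
  obtain ⟨n, hn⟩ := IsCharacter.apply_one_eq_natCast (IsIrrCharacter.isCharacter hχ)
  have hn0 : n ≠ 0 := by
    rintro rfl
    exact IsIrrCharacter.apply_one_ne_zero hχ (by rw [hn]; simp)
  have hint : IsIntegral ℤ (χ (mkGL 1 1 1)) := by
    obtain ⟨k, ρ, -, rfl⟩ := hχ
    exact isIntegral_character ρ _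
  have hq : 0 < Fintype.card F - 1 := by
    have := Fintype.one_lt_card (α := F)
    omega
  rw [hn] at h1
  have h1' : (n : ℂ) + ((Fintype.card F - 1 : ℕ) : ℂ) * χ (mkGL 1 1 1) = 0 := by
    rw [Nat.cast_sub Fintype.card_pos, Nat.cast_one]
    exact h1
  obtain ⟨k, hk, hk2⟩ := dvd_of_isIntegral n (Fintype.card F - 1) hq _ hint h1'
  have hk0 : k < 0 := by
    by_contra hk0
    rw [not_lt] at hk0
    have : (0 : ℤ) ≤ ((Fintype.card F - 1 : ℕ) : ℤ) * k := mul_nonneg (by positivity) hk0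
    have hn' : (0 : ℤ) < (n : ℤ) := by exact_mod_cast Nat.pos_of_ne_zero hn0
    omega
  refine ⟨(-k).toNat, ?_, ?_, ?_⟩
  · omega
  · rw [hn]
    have h3 : ((-k).toNat : ℤ) = -k := Int.toNat_of_nonneg (by omega)
    have h4 : (n : ℤ) = ((-k).toNat : ℤ) * ((Fintype.card F - 1 : ℕ) : ℤ) := by
      rw [h3]; linarith
    have h5 : (n : ℂ) = (((-k).toNat : ℤ) : ℂ) * (((Fintype.card F - 1 : ℕ) : ℤ) : ℂ) := by
      exact_mod_cast h4
    rw [h5]
    push_cast
    rw [Nat.cast_sub Fintype.card_pos, Nat.cast_one]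
  · rw [hk]
    have h3 : ((-k).toNat : ℤ) = -k := Int.toNat_of_nonneg (by omega)
    have : (((-k).toNat : ℤ) : ℂ) = ((-k : ℤ) : ℂ) := by rw [h3]
    push_cast at this
    rw [this]
    ring

end Cfsg.Agent.Lib.Helper4
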