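import Mathlib
import Cfsg.Agent.Lib.Helper4.GL2Cusp2
import Cfsg.Agent.Lib.Helper4.GL2Classes
import Cfsg.Agent.Lib.Helper4.SLCard
import Cfsg.Agent.Lib.Helper6.ClassCount
import Cfsg.Agent.S2305

set_option autoImplicit false

namespace Cfsg.Agent.Lib.Helper4

open Cfsg.Agent.Lib.Helper6 Matrix Cfsg.Agent.S2308
open scoped ComplexConjugate MatrixGroups

variable {F : Type*} [Field F]

section cases

variable [Fintype F] [DecidableEq F] [Fintype (GL (Fin 2) F)]

theorem psGL2_self_eq (α : MulChar F ℂ) : psGL2 α α = stGL2 α + lamGL2 α := by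
  unfold stGL2
  rw [sub_add_cancel]

/-- every irreducible character of `GL₂(q)` is linear, Steinberg, principal series or cuspidal -/
theorem irr_cases (χ : GL (Fin 2) F → ℂ) (hχ : Cfsg.IsIrrCharacter (GL (Fin 2) F) χ) :
    (∃ α : MulChar F ℂ, χ = lamGL2 α) ∨ (∃ α : MulChar F ℂ, χ = stGL2 α) ∨
    (∃ α β : MulChar F ℂ, α ≠ β ∧ χ = psGL2 α β) ∨ NonPS χ := by
  classical
  by_cases h : NonPS χ
  · exact Or.inr (Or.inr (Or.inr h))
  · unfold NonPS at h
    push Not at h
    obtain ⟨α, β, hαβ⟩ := h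
    by_cases hab : α = β
    · subst hab
      rw [psGL2_self_eq, classInner_add_left, classInner_isIrrCharacter (isIrr_stGL2 α) hχ,
        classInner_isIrrCharacter (isIrr_lamGL2 α) hχ] at hαβ
      by_cases h1 : stGL2 α = χ
      · exact Or.inr (Or.inl ⟨α, h1.symm⟩)
      · by_cases h2 : lamGL2 α = χ
        · exact Or.inl ⟨α, h2.symm⟩
        · rw [if_neg h1, if_neg h2, add_zero] at hαβ
          exact absurd rfl hαβ
    · rw [classInner_isIrrCharacter (Cfsg.Agent.S2304.isIrr_psGL2 α β hab) hχ] at hαβ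
      by_cases h1 : psGL2 α β = χ
      · exact Or.inr (Or.inr (Or.inl ⟨α, β, hab, h1.symm⟩))
      · rw [if_neg h1] at hαβ
        exact absurd rfl hαβ

theorem not_nonPS_lam (α : MulChar F ℂ) : ¬ NonPS (lamGL2 α) := by
  classical
  intro h
  have := h α α
  rw [classInner_psGL2_lam, if_pos ⟨rfl, rfl⟩] at this
  exact one_ne_zero this

theorem classInner_psGL2_st (α β γ : MulChar F ℂ) [Decidable (α = γ ∧ β = γ)]
    [Decidable (α = β ∧ β = α)] :
    Cfsg.classInner (psGL2 α β) (stGL2 γ) =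
      (if α = γ ∧ β = γ then 1 else 0) := by
  classical
  unfold stGL2
  rw [classInner_sub_right, classInner_psGL2, classInner_psGL2_lam]
  by_cases h : α = γ ∧ β = γ
  · simp only [if_pos h]
    have h' : α = γ ∧ β = γ := h
    norm_num
  · simp only [if_neg h]
    norm_num

theorem not_nonPS_st (α : MulChar F ℂ) : ¬ NonPS (stGL2 α) := by
  classical
  intro h
  have := h α α
  rw [classInner_psGL2_st, if_pos ⟨rfl, rfl⟩] at this
  exact one_ne_zero this

theorem not_nonPS_ps (α β : MulChar F ℂ) : ¬ NonPS (psGL2 α β) := by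
  classical
  intro h
  have := h α β
  rw [classInner_psGL2, if_pos ⟨rfl, rfl⟩] at this
  by_cases h' : α = β ∧ β = α
  · rw [if_pos h'] at this
    norm_num at this
  · rw [if_neg h'] at this
    norm_num at this

end cases

section known

variable [Fintype F] [DecidableEq F] [Fintype (GL (Fin 2) F)]

/-- principal series attached to an unordered pair -/
noncomputable def psSym (z : Sym2 (MulChar F ℂ)) : GL (Fin 2) F → ℂ :=
  Sym2.lift ⟨fun α β => psGL2 α β, fun α β => Cfsg.Agent.S2305.psGL2_swap α β⟩ z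

theorem psSym_mk (α β : MulChar F ℂ) : psSym s(α, β) = psGL2 α β := rfl

theorem isIrr_psSym (z : Sym2 (MulChar F ℂ)) (hz : ¬ z.IsDiag) :
    Cfsg.IsIrrCharacter (GL (Fin 2) F) (psSym z) := by
  induction z using Sym2.ind with
  | _ α β =>
    rw [Sym2.mk_isDiag_iff] at hz
    exact Cfsg.Agent.S2304.isIrr_psGL2 α β hz

theorem psSym_one (z : Sym2 (MulChar F ℂ)) : psSym z 1 = (Fintype.card F : ℂ) + 1 := by
  induction z using Sym2.ind with
  | _ α β => exact psGL2_one α β

theorem psGL2_eq_iff (α β α' β' : MulChar F ℂ) :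
    psGL2 α β = psGL2 α' β' ↔ (α = α' ∧ β = β') ∨ (α = β' ∧ β = α') := by
  classical
  constructor
  · intro h
    have h1 : Cfsg.classInner (psGL2 α β) (psGL2 α' β') = Cfsg.classInner (psGL2 α β) (psGL2 α β) := by
      rw [← h]
    have h2 : Cfsg.classInner (psGL2 α β) (psGL2 α β) =
        1 + (if α = β ∧ β = α then 1 else 0) := by
      rw [classInner_psGL2, if_pos ⟨rfl, rfl⟩]
    rw [h2, classInner_psGL2] at h1
    by_contra hcon
    rw [not_or] at hcon
    rw [if_neg hcon.1, if_neg hcon.2] at h1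
    by_cases hab : α = β ∧ β = α
    · rw [if_pos hab] at h1
      norm_num at h1
    · rw [if_neg hab] at h1
      norm_num at h1
  · rintro (⟨rfl, rfl⟩ | ⟨rfl, rfl⟩)
    · rfl
    · exact Cfsg.Agent.S2305.psGL2_swap α β

theorem psSym_injective (z z' : Sym2 (MulChar F ℂ)) (h : psSym z = psSym z') : z = z' := by
  induction z using Sym2.ind with
  | _ α β =>
    induction z' using Sym2.ind with
    | _ α' β' =>
      rw [psSym_mk, psSym_mk] at h
      have := (psGL2_eq_iff α β α' β').mp h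
      rw [Sym2.eq_iff]
      exact this

theorem lamGL2_injective (α β : MulChar F ℂ) (h : lamGL2 α = lamGL2 β) : α = β := by
  ext a
  have := congrFun h (mkGL a 1 0)
  unfold lamGL2 at this
  simpa [mkGL_coe, Matrix.det_fin_two_of] using this

theorem card_ne_one : (Fintype.card F : ℂ) ≠ 1 := by
  have h1 : 1 < Fintype.card F := Fintype.one_lt_card
  intro h
  have : Fintype.card F = 1 := by exact_mod_cast h
  omega

theorem lam_ne_st (α β : MulChar F ℂ) : lamGL2 α ≠ stGL2 β := by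
  intro h
  have := congrFun h 1
  rw [lamGL2_one, stGL2_one] at this
  exact card_ne_one this.symm

theorem stGL2_injective (α β : MulChar F ℂ) (h : stGL2 α = stGL2 β) : α = β := by
  classical
  by_contra hne
  have h1 := classInner_psGL2_st α α β
  rw [if_neg (fun h' => hne h'.1), psGL2_self_eq, classInner_add_left,
    classInner_isIrrCharacter (isIrr_stGL2 α) (isIrr_stGL2 β),
    classInner_isIrrCharacter (isIrr_lamGL2 α) (isIrr_stGL2 β), if_pos h,
    if_neg (lam_ne_st α β)] at h1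
  norm_num at h1

/-- the index type of the known (non-cuspidal) irreducible characters -/
abbrev KnownIdx (F : Type*) [Field F] :=
  MulChar F ℂ ⊕ MulChar F ℂ ⊕ {z : Sym2 (MulChar F ℂ) // ¬ z.IsDiag}

/-- the known irreducible characters -/
noncomputable def knownIrr : KnownIdx F → Cfsg.IrrCharacter (GL (Fin 2) F)
  | Sum.inl α => ⟨lamGL2 α, isIrr_lamGL2 α⟩
  | Sum.inr (Sum.inl α) => ⟨stGL2 α, isIrr_stGL2 α⟩
  | Sum.inr (Sum.inr z) => ⟨psSym z.1, isIrr_psSym z.1 z.2⟩

/-- the degrees of the known irreducible characters -/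
def knownDeg (F : Type*) [Field F] [Fintype F] : KnownIdx F → ℕ
  | Sum.inl _ => 1
  | Sum.inr (Sum.inl _) => Fintype.card F
  | Sum.inr (Sum.inr _) => Fintype.card F + 1

theorem knownIrr_one (k : KnownIdx F) :
    (knownIrr k : GL (Fin 2) F → ℂ) 1 = (knownDeg F k : ℂ) := by
  rcases k with α | α | z
  · simp [knownIrr, knownDeg, lamGL2_one]
  · simp [knownIrr, knownDeg, stGL2_one]
  · simp [knownIrr, knownDeg, psSym_one]

theorem knownIrr_injective : Function.Injective (knownIrr : KnownIdx F → _) := by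
  intro k k' h
  have hd : (knownDeg F k : ℂ) = knownDeg F k' := by
    rw [← knownIrr_one, ← knownIrr_one, h]
  have hd' : knownDeg F k = knownDeg F k' := by exact_mod_cast hd
  have hq : 1 < Fintype.card F := Fintype.one_lt_card
  have h' := congrArg Subtype.val h
  rcases k with α | α | z <;> rcases k' with α' | α' | z' <;> simp only [knownDeg] at hd' <;>
    simp only [knownIrr] at h'
  · rw [lamGL2_injective α α' h']
  · omega
  · omega
  · omega
  · rw [stGL2_injective α α' h']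
  · omega
  · omega
  · omega
  · have := psSym_injective z.1 z'.1 h'
    rw [Subtype.ext this]

theorem not_nonPS_known (k : KnownIdx F) : ¬ NonPS (knownIrr k : GL (Fin 2) F → ℂ) := by
  rcases k with α | α | z
  · exact not_nonPS_lam α
  · exact not_nonPS_st α
  · obtain ⟨z, hz⟩ := z
    induction z using Sym2.ind with
    | _ α β => exact not_nonPS_ps α β

theorem nonPS_iff_not_known (χ : Cfsg.IrrCharacter (GL (Fin 2) F)) :
    NonPS (χ : GL (Fin 2) F → ℂ) ↔ χ ∉ Set.range (knownIrr : KnownIdx F → _) := by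
  constructor
  · rintro h ⟨k, rfl⟩
    exact not_nonPS_known k h
  · intro h
    rcases irr_cases χ.1 χ.2 with ⟨α, h1⟩ | ⟨α, h1⟩ | ⟨α, β, hab, h1⟩ | h1
    · exfalso; apply h
      exact ⟨Sum.inl α, Subtype.ext h1.symm⟩
    · exfalso; apply h
      exact ⟨Sum.inr (Sum.inl α), Subtype.ext h1.symm⟩
    · exfalso; apply h
      refine ⟨Sum.inr (Sum.inr ⟨s(α, β), ?_⟩), Subtype.ext h1.symm⟩
      rw [Sym2.mk_isDiag_iff]
      exact hab
    · exact h1

end known

section count

theorem arith_aux (j X S C : ℕ) (hA : X + 2*(j+1) + C = (j+1)*(j+3))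
    (hB : S + (j+1) + (j+1)*(j+2)^2 + C*(j+3)^2 = (j^2+4*j+3)*(j^2+3*j+2))
    (hC : 2*C = (j+1)*j) : S = X*(j+1)^2 ∧ 2*X = (j+2)*(j+1) := by
  zify at *
  constructor
  · linear_combination hB - ((j:ℤ)+1)^2 * hA - 2*((j:ℤ)+2) * hC
  · linear_combination 2*hA - hC

theorem two_mul_choose_two (j : ℕ) : 2 * (j+1).choose 2 = (j+1) * j := by
  rw [Nat.choose_two_right, Nat.add_sub_cancel]
  have : 2 ∣ (j + 1) * j := by
    have := Nat.even_mul_succ_self j
    rw [mul_comm]
    exact this.two_dvd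
  omega

variable [Fintype F] [DecidableEq F] [Fintype (GL (Fin 2) F)]

theorem card_irr_GL2 : Nat.card (Cfsg.IrrCharacter (GL (Fin 2) F)) =
    (Fintype.card F - 1) + Fintype.card F * (Fintype.card F - 1) := by
  classical
  rw [card_irrCharacter, Nat.card_congr gl2ClassesEquiv, Nat.card_sum, Nat.card_prod,
    Nat.card_eq_fintype_card, Nat.card_eq_fintype_card, Fintype.card_units]

/-- the cuspidal characters of `GL₂(q)`: degree, value at the transvection, and their number -/
theorem cusp_main :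
    (∀ χ : Cfsg.IrrCharacter (GL (Fin 2) F), NonPS (χ : GL (Fin 2) F → ℂ) →
      (χ : GL (Fin 2) F → ℂ) 1 = (Fintype.card F : ℂ) - 1 ∧
      (χ : GL (Fin 2) F → ℂ) (mkGL 1 1 1) = -1) ∧
    2 * Nat.card {χ : Cfsg.IrrCharacter (GL (Fin 2) F) // NonPS (χ : GL (Fin 2) F → ℂ)} =
      Fintype.card F * (Fintype.card F - 1) := by
  classical
  have instM : Fintype (MulChar F ℂ) := Fintype.ofFinite _
  have instI : Fintype (Cfsg.IrrCharacter (GL (Fin 2) F)) := Fintype.ofFinite _
  obtain ⟨j, hj⟩ : ∃ j, Fintype.card F = j + 2 :=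
    ⟨Fintype.card F - 2, by have := Fintype.one_lt_card (α := F); omega⟩
  have hd : ∀ χ : Cfsg.IrrCharacter (GL (Fin 2) F),
      (χ : GL (Fin 2) F → ℂ) 1 = (Cfsg.charDegree (χ : GL (Fin 2) F → ℂ) : ℂ) :=
    fun χ => IsCharacter.apply_one_eq_charDegree (IsIrrCharacter.isCharacter χ.2)
  have hsum : ∑ χ : Cfsg.IrrCharacter (GL (Fin 2) F),
      Cfsg.charDegree (χ : GL (Fin 2) F → ℂ) ^ 2 = Nat.card (GL (Fin 2) F) := by
    have := sum_sq_degree (G := GL (Fin 2) F)
    simp only [hd] at this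
    exact_mod_cast this
  set Rg : Finset (Cfsg.IrrCharacter (GL (Fin 2) F)) :=
    Finset.univ.map ⟨knownIrr, knownIrr_injective⟩ with hRg
  have hmemRg : ∀ χ, χ ∈ Rgᶜ ↔ NonPS (χ : GL (Fin 2) F → ℂ) := by
    intro χ
    rw [nonPS_iff_not_known, Finset.mem_compl, hRg, Finset.mem_map]
    simp [Set.mem_range]
  have hA : Rgᶜ.card + Rg.card = Fintype.card (Cfsg.IrrCharacter (GL (Fin 2) F)) := by
    rw [add_comm]; exact Finset.card_add_card_compl Rg
  have hRgcard : Rg.card = Fintype.card (KnownIdx F) := by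
    rw [hRg, Finset.card_map, Finset.card_univ]
  have hM : Fintype.card (MulChar F ℂ) = j + 1 := by
    rw [← Nat.card_eq_fintype_card, card_mulChar, hj]; rfl
  have hK : Fintype.card (KnownIdx F) = (j+1) + ((j+1) + (j+1).choose 2) := by
    rw [Fintype.card_sum, Fintype.card_sum, Sym2.card_subtype_not_diag, hM]
  have hB : ∑ χ ∈ Rgᶜ, Cfsg.charDegree (χ : GL (Fin 2) F → ℂ) ^ 2 +
      ∑ χ ∈ Rg, Cfsg.charDegree (χ : GL (Fin 2) F → ℂ) ^ 2 = Nat.card (GL (Fin 2) F) := by
    rw [add_comm, Finset.sum_add_sum_compl, hsum]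
  have hdk : ∀ k : KnownIdx F,
      Cfsg.charDegree ((knownIrr k : Cfsg.IrrCharacter (GL (Fin 2) F)) : GL (Fin 2) F → ℂ) =
        knownDeg F k := by
    intro k
    have := hd (knownIrr k)
    rw [knownIrr_one] at this
    exact_mod_cast this.symm
  have hRgsum : ∑ χ ∈ Rg, Cfsg.charDegree (χ : GL (Fin 2) F → ℂ) ^ 2 =
      (j+1) + (j+1)*(j+2)^2 + (j+1).choose 2 * (j+3)^2 := by
    rw [hRg, Finset.sum_map]
    simp only [Function.Embedding.coeFn_mk, hdk]
    rw [Fintype.sum_sum_type, Fintype.sum_sum_type]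
    simp only [knownDeg, Finset.sum_const, Finset.card_univ, hM, smul_eq_mul, one_pow, mul_one,
      Sym2.card_subtype_not_diag, hj]
    ring
  have hG : Nat.card (GL (Fin 2) F) = (j^2+4*j+3)*(j^2+3*j+2) := by
    rw [card_GL2, hj]
    have e1 : (j + 2) ^ 2 - 1 = j^2+4*j+3 := by
      have : (j + 2) ^ 2 = j^2+4*j+3 + 1 := by ring
      omega
    have e2 : (j + 2) ^ 2 - (j + 2) = j^2+3*j+2 := by
      have : (j + 2) ^ 2 = j^2+3*j+2 + (j + 2) := by ring
      omega
    rw [e1, e2]
  have hIrr : Fintype.card (Cfsg.IrrCharacter (GL (Fin 2) F)) = (j+1)*(j+3) := by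
    rw [← Nat.card_eq_fintype_card, card_irr_GL2, hj]
    have : j + 2 - 1 = j + 1 := by omega
    rw [this]; ring
  obtain ⟨hS, hX⟩ := arith_aux j Rgᶜ.card
    (∑ χ ∈ Rgᶜ, Cfsg.charDegree (χ : GL (Fin 2) F → ℂ) ^ 2) ((j+1).choose 2)
    (by rw [hIrr, hRgcard, hK] at hA; omega)
    (by rw [hRgsum, hG] at hB; omega)
    (two_mul_choose_two j)
  have hq1 : (Fintype.card F : ℂ) - 1 = ((j + 1 : ℕ) : ℂ) := by
    rw [hj]; push_cast; ring
  -- each cuspidal degree is at least `j + 1`
  have hle : ∀ χ ∈ Rgᶜ, (j+1)^2 ≤ Cfsg.charDegree (χ : GL (Fin 2) F → ℂ) ^ 2 := by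
    intro χ hχ
    obtain ⟨m, hm0, hm1, -⟩ := nonPS_degree χ.1 χ.2 ((hmemRg χ).mp hχ)
    rw [hd χ, hq1] at hm1
    have : Cfsg.charDegree (χ : GL (Fin 2) F → ℂ) = m * (j+1) := by exact_mod_cast hm1
    rw [this]
    apply Nat.pow_le_pow_left
    nlinarith
  have heq : ∀ χ ∈ Rgᶜ, (j+1)^2 = Cfsg.charDegree (χ : GL (Fin 2) F → ℂ) ^ 2 := by
    apply (Finset.sum_eq_sum_iff_of_le hle).mp
    rw [Finset.sum_const, smul_eq_mul, hS]
  constructor
  · intro χ hχ
    have hχ' := (hmemRg χ).mpr hχ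
    obtain ⟨m, hm0, hm1, hm2⟩ := nonPS_degree χ.1 χ.2 hχ
    have h1 := heq χ hχ'
    have h2 : Cfsg.charDegree (χ : GL (Fin 2) F → ℂ) = j + 1 := by
      have := Nat.pow_left_injective (n := 2) (by norm_num) h1
      exact this.symm
    have hm1' := hm1
    rw [hd χ, hq1, h2] at hm1'
    have h3 : j + 1 = m * (j + 1) := by exact_mod_cast hm1'
    have hm : m = 1 := by
      have : 1 * (j + 1) = m * (j + 1) := by rw [one_mul]; exact h3
      exact (Nat.eq_of_mul_eq_mul_right (by omega) this).symm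
    rw [hm] at hm1 hm2
    constructor
    · rw [hm1]; push_cast; ring
    · rw [hm2]; push_cast; ring
  · have : Nat.card {χ : Cfsg.IrrCharacter (GL (Fin 2) F) // NonPS (χ : GL (Fin 2) F → ℂ)} =
        Rgᶜ.card := by
      rw [Nat.card_eq_fintype_card, Fintype.card_subtype]
      congr 1
      ext χ
      rw [Finset.mem_filter, hmemRg]
      simp
    rw [this, hX, hj]
    have : j + 2 - 1 = j + 1 := by omega
    rw [this]

end count

end Cfsg.Agent.Lib.Helper4
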