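import Mathlib
import Cfsg.Agent.Lib.Helper4.GL2Table

set_option autoImplicit false

namespace Cfsg.Agent.Lib.Helper4

open Cfsg.Agent.Lib.Helper6 Matrix Cfsg.Agent.S2308
open scoped ComplexConjugate MatrixGroups

variable {F : Type*} [Field F] [Fintype F] [DecidableEq F] [Fintype (GL (Fin 2) F)]

theorem psGL2_unip (α β : MulChar F ℂ) : psGL2 α β (mkGL 1 1 1) = 1 := by
  rw [psGL2_mkGL, if_neg one_ne_zero, zero_add, Finset.sum_eq_single (0 : F)]
  · simp
  · intro c _ hc
    rw [if_neg]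
    intro h
    apply hc
    have : c * c = 0 := by
      simp only [Units.val_one, one_mul] at h
      linear_combination -h
    exact mul_self_eq_zero.mp this
  · intro h; exact absurd (Finset.mem_univ _) h

theorem psGL2_diag (α β : MulChar F ℂ) (a d : Fˣ) (had : a ≠ d) :
    psGL2 α β (mkGL a d 0) = α (d : F) * β (a : F) + α (a : F) * β (d : F) := by
  rw [psGL2_mkGL, if_pos rfl, Finset.sum_eq_single (0 : F)]
  · simp
  · intro c _ hc
    rw [if_neg]
    intro h
    apply hc
    have hne : (d : F) - (a : F) ≠ 0 := by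
      intro h'
      apply had
      exact Units.ext (sub_eq_zero.mp h').symm
    have : c * ((d : F) - (a : F)) = 0 := by linear_combination h
    rcases mul_eq_zero.mp this with h' | h'
    · exact h'
    · exact absurd h' hne
  · intro h; exact absurd (Finset.mem_univ _) h

theorem psGL2_elliptic (α β : MulChar F ℂ) (g : GL (Fin 2) F)
    (h : ∀ (c : F) (v : Fin 2 → F), v ≠ 0 → (g : Matrix (Fin 2) (Fin 2) F).mulVec v ≠ c • v) :
    psGL2 α β g = 0 := by
  unfold psGL2
  rw [indFun_borelGL2_apply, if_neg, zero_add]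
  · apply Finset.sum_eq_zero
    intro c _
    rw [if_neg]
    intro ho
    apply h ((g : Matrix (Fin 2) (Fin 2) F) 0 0 + (g : Matrix (Fin 2) (Fin 2) F) 0 1 * c) ![1, c]
    · intro h0
      have := congrFun h0 0
      simp at this
    · ext i
      fin_cases i
      · simp [Matrix.mulVec, dotProduct, Fin.sum_univ_two]
      · simp [Matrix.mulVec, dotProduct, Fin.sum_univ_two]
        linear_combination ho
  · intro ho
    apply h ((g : Matrix (Fin 2) (Fin 2) F) 1 1) ![0, 1]
    · intro h0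
      have := congrFun h0 1
      simp at this
    · ext i
      fin_cases i <;> simp [Matrix.mulVec, dotProduct, Fin.sum_univ_two, ho]

omit [Fintype F] [DecidableEq F] [Fintype (GL (Fin 2) F)] in
theorem lamGL2_mkGL (α : MulChar F ℂ) (a d : Fˣ) (u : F) :
    lamGL2 α (mkGL a d u) = α (a : F) * α (d : F) := by
  unfold lamGL2
  rw [mkGL_coe, Matrix.det_fin_two_of, mul_zero, sub_zero, map_mul]

theorem stGL2_unip (α : MulChar F ℂ) : stGL2 α (mkGL 1 1 1) = 0 := by
  unfold stGL2
  rw [Pi.sub_apply, psGL2_unip, lamGL2_mkGL]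
  simp

theorem stGL2_diag (α : MulChar F ℂ) (a d : Fˣ) (had : a ≠ d) :
    stGL2 α (mkGL a d 0) = α (a : F) * α (d : F) := by
  unfold stGL2
  rw [Pi.sub_apply, psGL2_diag α α a d had, lamGL2_mkGL]
  ring

theorem stGL2_elliptic (α : MulChar F ℂ) (g : GL (Fin 2) F)
    (h : ∀ (c : F) (v : Fin 2 → F), v ≠ 0 → (g : Matrix (Fin 2) (Fin 2) F).mulVec v ≠ c • v) :
    stGL2 α g = - lamGL2 α g := by
  unfold stGL2
  rw [Pi.sub_apply, psGL2_elliptic α α g h, zero_sub]

omit [Fintype F] [DecidableEq F] [Fintype (GL (Fin 2) F)] in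
/-- a diagonal element of `GL₂` as `mkGL` -/
theorem eq_mkGL_of_diag (g : GL (Fin 2) F) (h01 : (g : Matrix (Fin 2) (Fin 2) F) 0 1 = 0)
    (h10 : (g : Matrix (Fin 2) (Fin 2) F) 1 0 = 0) :
    ∃ a d : Fˣ, g = mkGL a d 0 ∧ (a : F) = (g : Matrix (Fin 2) (Fin 2) F) 0 0 ∧
      (d : F) = (g : Matrix (Fin 2) (Fin 2) F) 1 1 := by
  have hmem : g ∈ Cfsg.upperTriangularGL 2 F := (mem_B_iff g).mpr h10
  obtain ⟨a, d, u, hg⟩ := exists_mkGL g hmem
  have hu : u = 0 := by
    rw [hg, mkGL_coe] at h01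
    simpa using h01
  subst hu
  refine ⟨a, d, hg, ?_, ?_⟩
  · rw [hg, mkGL_coe]; simp
  · rw [hg, mkGL_coe]; simp

end Cfsg.Agent.Lib.Helper4
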