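import Mathlib
import Cfsg.Agent.Lib.Helper4.GL2Values
import Cfsg.Agent.Lib.Helper6.Clifford
import Cfsg.Agent.Lib.Helper6.Auto

set_option autoImplicit false

namespace Cfsg.Agent.Lib.Helper4

open Cfsg.Agent.Lib.Helper6 Matrix Cfsg.Agent.S2308
open scoped ComplexConjugate MatrixGroups

variable {F : Type*} [Field F]

/-- the kernel of the determinant, as a subgroup of `GL₂` -/
abbrev detKer (F : Type*) [Field F] : Subgroup (GL (Fin 2) F) :=
  (Matrix.GeneralLinearGroup.det : GL (Fin 2) F →* Fˣ).ker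

theorem mem_detKer_iff (g : GL (Fin 2) F) :
    g ∈ detKer F ↔ (g : Matrix (Fin 2) (Fin 2) F).det = 1 := by
  rw [MonoidHom.mem_ker]
  constructor
  · intro h
    have := congrArg Units.val h
    simpa using this
  · intro h
    apply Units.ext
    rw [Matrix.GeneralLinearGroup.val_det_apply, h, Units.val_one]

theorem detKer_normal : (detKer F).Normal := MonoidHom.normal_ker _

/-- `SL₂ ≃* ker det` -/
noncomputable def slEquiv : Matrix.SpecialLinearGroup (Fin 2) F ≃* detKer F :=
  (MonoidHom.ofInjective Matrix.SpecialLinearGroup.toGL_injective).trans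
    (MulEquiv.subgroupCongr (ker_det_eq_range_toGL 2).symm)

theorem slEquiv_coe (s : Matrix.SpecialLinearGroup (Fin 2) F) :
    ((slEquiv s : detKer F) : GL (Fin 2) F) = Matrix.SpecialLinearGroup.toGL s := rfl

theorem card_GL2_eq [Fintype F] :
    Nat.card (GL (Fin 2) F) = Nat.card (detKer F) * (Fintype.card F - 1) := by
  classical
  have h1 := Subgroup.card_mul_index (detKer F)
  rw [Subgroup.index_ker, MonoidHom.range_eq_top.mpr (det_surjective_GL 2 (by norm_num))] at h1
  rw [← h1]
  congr 1
  rw [Nat.card_congr Subgroup.topEquiv.toEquiv, Nat.card_eq_fintype_card, Fintype.card_units]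

theorem sum_lamGL2 [Fintype F] [DecidableEq F] [Fintype (MulChar F ℂ)] (g : GL (Fin 2) F)
    [Decidable (g ∈ detKer F)] :
    ∑ α : MulChar F ℂ, lamGL2 α g = if g ∈ detKer F then ((Fintype.card F : ℂ) - 1) else 0 := by
  unfold lamGL2
  rw [sum_mulChar_apply]
  by_cases h : g ∈ detKer F
  · rw [if_pos h, if_pos ((mem_detKer_iff g).mp h)]
  · rw [if_neg h, if_neg (fun h' => h ((mem_detKer_iff g).mpr h'))]

/-- the inner product of restrictions to `ker det` -/
theorem resN_inner [Fintype F] [DecidableEq F] [Fintype (GL (Fin 2) F)] [Fintype (detKer F)]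
    [Fintype (MulChar F ℂ)] (χ ψ : GL (Fin 2) F → ℂ) :
    Cfsg.classInner (fun n : detKer F => χ n) (fun n : detKer F => ψ n) =
      ∑ α : MulChar F ℂ, Cfsg.classInner (lamGL2 α * χ) ψ := by
  classical
  unfold Cfsg.classInner
  rw [← Finset.mul_sum, Finset.sum_comm]
  have h1 : ∀ g : GL (Fin 2) F, ∑ α : MulChar F ℂ, (lamGL2 α * χ) g * conj (ψ g) =
      (if g ∈ detKer F then ((Fintype.card F : ℂ) - 1) else 0) * (χ g * conj (ψ g)) := by
    intro g
    rw [← sum_lamGL2 g, Finset.sum_mul]
    apply Finset.sum_congr rfl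
    intro α _
    rw [Pi.mul_apply]; ring
  simp only [h1]
  have h2 : ∑ g : GL (Fin 2) F, (if g ∈ detKer F then ((Fintype.card F : ℂ) - 1) else 0) *
      (χ g * conj (ψ g)) =
      ((Fintype.card F : ℂ) - 1) * ∑ n : detKer F, χ n * conj (ψ n) := by
    have := sum_extendByZero_mul (detKer F) (fun _ => ((Fintype.card F : ℂ) - 1))
      (fun g => χ g * conj (ψ g))
    rw [← Finset.mul_sum] at this
    rw [← this]
    apply Finset.sum_congr rfl
    intro g _
    by_cases hg : g ∈ detKer F
    · rw [if_pos hg, extendByZero_of_mem _ _ hg]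
    · rw [if_neg hg, extendByZero_of_not_mem _ _ hg]
  rw [h2, card_GL2_eq, Nat.cast_mul, Nat.cast_sub Fintype.card_pos, Nat.cast_one]
  have hN : (Nat.card (detKer F) : ℂ) ≠ 0 := card_ne_zero_complex _
  have hq : ((Fintype.card F : ℂ) - 1) ≠ 0 := by
    have h1 : 1 < Fintype.card F := Fintype.one_lt_card
    intro h
    rw [sub_eq_zero] at h
    have : Fintype.card F = 1 := by exact_mod_cast h
    omega
  field_simp

end Cfsg.Agent.Lib.Helper4
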