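import Mathlib
import Cfsg.Agent.Lib.Helper4.SL2Res
import Cfsg.Agent.Lib.Helper4.GL2Table
import Cfsg.Agent.Lib.Helper4.CliffordTwo

set_option autoImplicit false

namespace Cfsg.Agent.Lib.Helper4

open Cfsg.Agent.Lib.Helper6 Matrix Cfsg.Agent.S2308
open scoped ComplexConjugate MatrixGroups

section general

variable {G : Type*} [Group G] [Fintype G]

/-- the projection formula: a class function times an induced function -/
theorem mul_indFun (H : Subgroup G) (θ : H → ℂ) (f : G → ℂ) (hf : Cfsg.IsClassFunction G f) :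
    f * Cfsg.indFun H θ = Cfsg.indFun H (fun h : H => f h * θ h) := by
  funext g
  unfold Cfsg.indFun
  rw [Pi.mul_apply, mul_left_comm, Finset.mul_sum]
  congr 1
  apply Finset.sum_congr rfl
  intro x _
  have hfx : f (x⁻¹ * g * x) = f g := by
    have := hf g x⁻¹
    rwa [inv_inv] at this
  by_cases hm : x⁻¹ * g * x ∈ H
  · rw [extendByZero_of_mem _ _ hm, extendByZero_of_mem _ _ hm]
    simp only
    rw [hfx]
  · rw [extendByZero_of_not_mem _ _ hm, extendByZero_of_not_mem _ _ hm, mul_zero]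

theorem classInner_mul_left (f φ ψ : G → ℂ) :
    Cfsg.classInner (f * φ) ψ = Cfsg.classInner φ ((fun g => conj (f g)) * ψ) := by
  unfold Cfsg.classInner
  congr 1
  apply Finset.sum_congr rfl
  intro g _
  rw [Pi.mul_apply, Pi.mul_apply, map_mul, Complex.conj_conj]
  ring

end general

variable {F : Type*} [Field F]

theorem lamGL2_mul (α β : MulChar F ℂ) : lamGL2 α * lamGL2 β = lamGL2 (α * β) := by
  funext g
  unfold lamGL2
  rw [Pi.mul_apply, MulChar.mul_apply]

theorem lamGL2_one_char : lamGL2 (1 : MulChar F ℂ) = fun _ => 1 := by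
  funext g
  unfold lamGL2
  have hdet : IsUnit (g : Matrix (Fin 2) (Fin 2) F).det :=
    (Matrix.isUnit_iff_isUnit_det _).mp g.isUnit
  rw [MulChar.one_apply hdet]

theorem lamGL2_conj [Fintype F] (α : MulChar F ℂ) :
    (fun g => conj (lamGL2 α g)) = lamGL2 α⁻¹ := by
  funext g
  unfold lamGL2
  rw [mulChar_conj]

theorem lamGL2_detKer (α : MulChar F ℂ) (n : detKer F) : lamGL2 α (n : GL (Fin 2) F) = 1 := by
  unfold lamGL2
  rw [(mem_detKer_iff _).mp n.2, map_one]

theorem lam_mul_one_char (χ : GL (Fin 2) F → ℂ) : lamGL2 (1 : MulChar F ℂ) * χ = χ := by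
  rw [lamGL2_one_char]
  funext g
  rw [Pi.mul_apply, one_mul]

theorem lam_mul_lam_mul (α β : MulChar F ℂ) (χ : GL (Fin 2) F → ℂ) :
    lamGL2 α * (lamGL2 β * χ) = lamGL2 (α * β) * χ := by
  rw [← mul_assoc, lamGL2_mul]

section twist

variable [Fintype F] [DecidableEq F] [Fintype (GL (Fin 2) F)]

omit [Fintype F] [DecidableEq F] in
theorem lam_mul_ps (α β γ : MulChar F ℂ) : lamGL2 α * psGL2 β γ = psGL2 (α * β) (α * γ) := by
  unfold psGL2
  rw [mul_indFun _ _ _ (IsIrrCharacter.isClassFunction (isIrr_lamGL2 α))]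
  congr 1
  funext b
  rw [lamGL2_borel, MulChar.mul_apply, MulChar.mul_apply]
  ring

omit [Fintype F] [DecidableEq F] in
theorem lam_mul_st (α β : MulChar F ℂ) : lamGL2 α * stGL2 β = stGL2 (α * β) := by
  unfold stGL2
  rw [mul_sub, lam_mul_ps, lamGL2_mul]

omit [DecidableEq F] in
theorem classInner_twist (α : MulChar F ℂ) (φ ψ : GL (Fin 2) F → ℂ) :
    Cfsg.classInner (lamGL2 α * φ) (lamGL2 α * ψ) = Cfsg.classInner φ ψ := by
  rw [classInner_mul_left, lamGL2_conj, lam_mul_lam_mul, inv_mul_cancel, lam_mul_one_char]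

omit [DecidableEq F] in
theorem isIrr_twist (α : MulChar F ℂ) {χ : GL (Fin 2) F → ℂ}
    (hχ : Cfsg.IsIrrCharacter (GL (Fin 2) F) χ) :
    Cfsg.IsIrrCharacter (GL (Fin 2) F) (lamGL2 α * χ) := by
  apply isIrrCharacter_of_classInner_self_eq_one
  · exact IsCharacter.mul (IsIrrCharacter.isCharacter (isIrr_lamGL2 α))
      (IsIrrCharacter.isCharacter hχ)
  · rw [classInner_twist, classInner_isIrrCharacter hχ hχ, if_pos rfl]

omit [DecidableEq F] in
theorem nonPS_twist (α : MulChar F ℂ) {χ : GL (Fin 2) F → ℂ} (h : NonPS χ) :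
    NonPS (lamGL2 α * χ) := by
  intro β γ
  have h1 := classInner_twist α⁻¹ (psGL2 β γ) (lamGL2 α * χ)
  rw [lam_mul_lam_mul, inv_mul_cancel, lam_mul_one_char, lam_mul_ps] at h1
  rw [← h1]
  exact h _ _

end twist

end Cfsg.Agent.Lib.Helper4
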