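import Mathlib
import Cfsg.Agent.Lib.Helper4.GL2Twist
import Cfsg.Agent.Lib.Helper6.CenterIndex

set_option autoImplicit false

namespace Cfsg.Agent.Lib.Helper4

open Cfsg.Agent.Lib.Helper6 Matrix Cfsg.Agent.S2308
open scoped ComplexConjugate MatrixGroups

section general

variable {G : Type*} [Group G] [Finite G]

/-- an irreducible character does not vanish on the centre -/
theorem apply_center_ne_zero {χ : G → ℂ} (hχ : Cfsg.IsIrrCharacter G χ) {z : G}
    (hz : z ∈ Subgroup.center G) : χ z ≠ 0 := by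
  have : Fintype G := Fintype.ofFinite G
  have h1 := IsIrrCharacter.apply_one_ne_zero hχ
  obtain ⟨n, ρ, hρ, rfl⟩ := hχ
  obtain ⟨c, hc, hcc⟩ := exists_scalar_of_mem_center ρ hz
  have hc0 : c ≠ 0 := by
    rintro rfl
    simp at hcc
  have h2 : ρ.character z = c * ρ.character 1 := by
    unfold Representation.character
    rw [hc, map_smul, smul_eq_mul, map_one]
    rfl
  rw [h2]
  exact mul_ne_zero hc0 h1

end general

variable {F : Type*} [Field F]

theorem mkGL_scalar_mem_center (c : Fˣ) : mkGL c c 0 ∈ Subgroup.center (GL (Fin 2) F) := by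
  rw [Subgroup.mem_center_iff]
  intro g
  rw [gl2_ext_iff]
  simp only [Matrix.GeneralLinearGroup.coe_mul, mkGL_coe, Matrix.mul_apply, Fin.sum_univ_two,
    Matrix.of_apply, Matrix.cons_val', Matrix.cons_val_zero, Matrix.cons_val_one,
    Matrix.cons_val_fin_one]
  refine ⟨?_, ?_, ?_, ?_⟩ <;> ring

section stab

variable [Fintype F] [DecidableEq F] [Fintype (GL (Fin 2) F)]

omit [DecidableEq F] [Fintype (GL (Fin 2) F)] in
/-- a twist fixing an irreducible character has square one -/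
theorem twist_stab_sq {χ : GL (Fin 2) F → ℂ} (hχ : Cfsg.IsIrrCharacter (GL (Fin 2) F) χ)
    (α : MulChar F ℂ) (h : lamGL2 α * χ = χ) : α ^ 2 = 1 := by
  ext c
  have hz := apply_center_ne_zero hχ (mkGL_scalar_mem_center c)
  have h1 := congrFun h (mkGL c c 0)
  rw [Pi.mul_apply, lamGL2_mkGL] at h1
  have h2 : α (c : F) * α (c : F) = 1 := by
    have : (α (c : F) * α (c : F) - 1) * χ (mkGL c c 0) = 0 := by
      rw [sub_mul, h1, one_mul, sub_self]
    rcases mul_eq_zero.mp this with h3 | h3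
    · exact sub_eq_zero.mp h3
    · exact absurd h3 hz
  rw [MulChar.pow_apply_coe, MulChar.one_apply_coe, sq, h2]

end stab

/-- a quadratic character is determined by being nontrivial -/
theorem mulChar_sq_unique [Fintype F] [DecidableEq F] (α β : MulChar F ℂ) (hα : α ^ 2 = 1)
    (hβ : β ^ 2 = 1) (hα1 : α ≠ 1) (hβ1 : β ≠ 1) : α = β := by
  obtain ⟨g, hg⟩ := (inferInstance : IsCyclic Fˣ).exists_generator
  have key : ∀ γ : MulChar F ℂ, γ ^ 2 = 1 → γ ≠ 1 → γ (g : F) = -1 := by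
    intro γ hγ hγ1
    have h1 : γ (g : F) ^ 2 = 1 := by
      rw [← MulChar.pow_apply_coe, hγ, MulChar.one_apply_coe]
    rw [sq] at h1
    rcases mul_self_eq_one_iff.mp h1 with h2 | h2
    · exfalso
      apply hγ1
      rw [MulChar.eq_iff hg, h2, MulChar.one_apply_coe]
    · exact h2
  rw [MulChar.eq_iff hg, key α hα hα1, key β hβ hβ1]

section struc

variable [Fintype F] [DecidableEq F] [Fintype (GL (Fin 2) F)] [Fintype (detKer F)]
  [Fintype (MulChar F ℂ)]

/-- the inner product of restrictions of irreducible characters counts twists -/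
theorem resN_inner_irr {χ ψ : GL (Fin 2) F → ℂ} (hχ : Cfsg.IsIrrCharacter (GL (Fin 2) F) χ)
    (hψ : Cfsg.IsIrrCharacter (GL (Fin 2) F) ψ)
    [DecidablePred (fun α : MulChar F ℂ => lamGL2 α * χ = ψ)] :
    Cfsg.classInner (fun n : detKer F => χ n) (fun n : detKer F => ψ n) =
      ((Finset.univ.filter (fun α : MulChar F ℂ => lamGL2 α * χ = ψ)).card : ℂ) := by
  rw [resN_inner]
  simp_rw [classInner_isIrrCharacter (isIrr_twist _ hχ) hψ]
  rw [Finset.card_filter, Nat.cast_sum]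
  apply Finset.sum_congr rfl
  intro α _
  split_ifs <;> simp

/-- restriction of an irreducible character of `GL₂` to `ker det`: irreducible, or the sum of
two distinct conjugate irreducible characters -/
theorem resN_cases {χ : GL (Fin 2) F → ℂ} (hχ : Cfsg.IsIrrCharacter (GL (Fin 2) F) χ) :
    (Cfsg.IsIrrCharacter (detKer F) (fun n : detKer F => χ n) ∧
      ∀ α : MulChar F ℂ, lamGL2 α * χ = χ → α = 1) ∨
    (∃ α₀ : MulChar F ℂ, α₀ ≠ 1 ∧ α₀ ^ 2 = 1 ∧ lamGL2 α₀ * χ = χ ∧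
      ∃ ψ₁ ψ₂ : detKer F → ℂ, Cfsg.IsIrrCharacter (detKer F) ψ₁ ∧
        Cfsg.IsIrrCharacter (detKer F) ψ₂ ∧ ψ₁ ≠ ψ₂ ∧ (fun n : detKer F => χ n) = ψ₁ + ψ₂ ∧
        ∃ x : GL (Fin 2) F, ψ₂ = conjFun (detKer F) detKer_normal ψ₁ x) := by
  classical
  by_cases h : ∀ α : MulChar F ℂ, lamGL2 α * χ = χ → α = 1
  · left
    refine ⟨?_, h⟩
    apply isIrr_restrict_of_norm_one _ hχ
    rw [resN_inner_irr hχ hχ]
    have : Finset.univ.filter (fun α : MulChar F ℂ => lamGL2 α * χ = χ) = {1} := by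
      ext α
      simp only [Finset.mem_filter, Finset.mem_univ, true_and, Finset.mem_singleton]
      constructor
      · exact h α
      · rintro rfl
        exact lam_mul_one_char χ
    rw [this, Finset.card_singleton, Nat.cast_one]
  · right
    push Not at h
    obtain ⟨α₀, hα₀, hne⟩ := h
    have hsq := twist_stab_sq hχ α₀ hα₀
    refine ⟨α₀, hne, hsq, hα₀, ?_⟩
    apply clifford_two _ detKer_normal hχ
    rw [resN_inner_irr hχ hχ]
    have : Finset.univ.filter (fun α : MulChar F ℂ => lamGL2 α * χ = χ) = {1, α₀} := by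
      ext α
      simp only [Finset.mem_filter, Finset.mem_univ, true_and, Finset.mem_insert,
        Finset.mem_singleton]
      constructor
      · intro hα
        by_cases h1 : α = 1
        · exact Or.inl h1
        · exact Or.inr (mulChar_sq_unique α α₀ (twist_stab_sq hχ α hα) hsq h1 hne)
      · rintro (rfl | rfl)
        · exact lam_mul_one_char χ
        · exact hα₀
    rw [this, Finset.card_pair (Ne.symm hne)]
    norm_num

end struc

section transport

variable [Fintype F] [DecidableEq F]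

/-- restriction to `SL₂` of a function on `GL₂` -/
def resSL (χ : GL (Fin 2) F → ℂ) : Matrix.SpecialLinearGroup (Fin 2) F → ℂ :=
  fun s => χ (Matrix.SpecialLinearGroup.toGL s)

omit [Fintype F] [DecidableEq F] in
theorem resSL_apply (χ : GL (Fin 2) F → ℂ) (s : Matrix.SpecialLinearGroup (Fin 2) F) :
    resSL χ s = χ (Matrix.SpecialLinearGroup.toGL s) := rfl

omit [Fintype F] [DecidableEq F] in
theorem resSL_eq_comp (χ : GL (Fin 2) F → ℂ) :
    resSL χ = fun s => (fun n : detKer F => χ n) (slEquiv s) := rfl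

omit [Fintype F] [DecidableEq F] in
theorem resSL_one (χ : GL (Fin 2) F → ℂ) : resSL χ 1 = χ 1 := by
  rw [resSL_apply, map_one]

omit [Fintype F] [DecidableEq F] in
theorem resSL_lam_mul (α : MulChar F ℂ) (χ : GL (Fin 2) F → ℂ) :
    resSL (lamGL2 α * χ) = resSL χ := by
  funext s
  rw [resSL_apply, resSL_apply, Pi.mul_apply]
  have := lamGL2_detKer α (slEquiv s)
  rw [slEquiv_coe] at this
  rw [this, one_mul]

/-- `ψ'` is the conjugate of `ψ` under some element of `GL₂` -/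
def GLConj (ψ ψ' : Matrix.SpecialLinearGroup (Fin 2) F → ℂ) : Prop :=
  ∃ x : GL (Fin 2) F, ∀ g h : Matrix.SpecialLinearGroup (Fin 2) F,
    Matrix.SpecialLinearGroup.toGL h = x * Matrix.SpecialLinearGroup.toGL g * x⁻¹ → ψ' h = ψ g

omit [Fintype F] [DecidableEq F] in
theorem GLConj.apply_one {ψ ψ' : Matrix.SpecialLinearGroup (Fin 2) F → ℂ} (h : GLConj ψ ψ') :
    ψ' 1 = ψ 1 := by
  obtain ⟨x, hx⟩ := h
  apply hx
  simp

omit [Fintype F] [DecidableEq F] in
theorem glConj_of_conjFun (ψ₁ ψ₂ : detKer F → ℂ) (x : GL (Fin 2) F)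
    (h : ψ₂ = conjFun (detKer F) detKer_normal ψ₁ x) :
    GLConj (fun s => ψ₁ (slEquiv s)) (fun s => ψ₂ (slEquiv s)) ∧
    GLConj (fun s => ψ₂ (slEquiv s)) (fun s => ψ₁ (slEquiv s)) := by
  constructor
  · refine ⟨x⁻¹, ?_⟩
    intro g k hk
    simp only
    rw [h, conjFun_apply]
    congr 1
    apply Subtype.ext
    simp only [slEquiv_coe]
    rw [hk]
    group
  · refine ⟨x, ?_⟩
    intro g k hk
    simp only
    rw [h, conjFun_apply]
    congr 1
    apply Subtype.ext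
    simp only [slEquiv_coe]
    rw [hk]

/-- restriction of an irreducible character of `GL₂` to `SL₂` -/
theorem resSL_cases [Fintype (GL (Fin 2) F)] {χ : GL (Fin 2) F → ℂ}
    (hχ : Cfsg.IsIrrCharacter (GL (Fin 2) F) χ) :
    (Cfsg.IsIrrCharacter (Matrix.SpecialLinearGroup (Fin 2) F) (resSL χ) ∧
      ∀ α : MulChar F ℂ, lamGL2 α * χ = χ → α = 1) ∨
    (∃ α₀ : MulChar F ℂ, α₀ ≠ 1 ∧ α₀ ^ 2 = 1 ∧ lamGL2 α₀ * χ = χ ∧
      ∃ ψ₁ ψ₂ : Matrix.SpecialLinearGroup (Fin 2) F → ℂ,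
        Cfsg.IsIrrCharacter (Matrix.SpecialLinearGroup (Fin 2) F) ψ₁ ∧
        Cfsg.IsIrrCharacter (Matrix.SpecialLinearGroup (Fin 2) F) ψ₂ ∧ ψ₁ ≠ ψ₂ ∧
        resSL χ = ψ₁ + ψ₂ ∧ GLConj ψ₁ ψ₂ ∧ GLConj ψ₂ ψ₁) := by
  classical
  have : Fintype (detKer F) := Fintype.ofFinite _
  have : Fintype (MulChar F ℂ) := Fintype.ofFinite _
  rcases resN_cases hχ with ⟨h1, h2⟩ | ⟨α₀, h1, h2, h3, ψ₁, ψ₂, hψ₁, hψ₂, hne, hsum, x, hx⟩
  · left
    refine ⟨?_, h2⟩
    rw [resSL_eq_comp]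
    exact IsIrrCharacter.comp_mulEquiv slEquiv h1
  · right
    refine ⟨α₀, h1, h2, h3, fun s => ψ₁ (slEquiv s), fun s => ψ₂ (slEquiv s),
      IsIrrCharacter.comp_mulEquiv slEquiv hψ₁, IsIrrCharacter.comp_mulEquiv slEquiv hψ₂, ?_, ?_,
      glConj_of_conjFun ψ₁ ψ₂ x hx⟩
    · intro heq
      apply hne
      funext n
      have := congrFun heq (slEquiv.symm n)
      simpa using this
    · funext s
      rw [resSL_eq_comp, hsum]
      rfl

/-- every irreducible character of `SL₂` comes from `GL₂` -/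
theorem sl2_irr_cases [Fintype (GL (Fin 2) F)] (ψ : Matrix.SpecialLinearGroup (Fin 2) F → ℂ)
    (hψ : Cfsg.IsIrrCharacter (Matrix.SpecialLinearGroup (Fin 2) F) ψ) :
    ∃ χ : GL (Fin 2) F → ℂ, Cfsg.IsIrrCharacter (GL (Fin 2) F) χ ∧
    ((ψ = resSL χ ∧ ∀ α : MulChar F ℂ, lamGL2 α * χ = χ → α = 1) ∨
    (∃ α₀ : MulChar F ℂ, α₀ ≠ 1 ∧ α₀ ^ 2 = 1 ∧ lamGL2 α₀ * χ = χ ∧
      ∃ ψ' : Matrix.SpecialLinearGroup (Fin 2) F → ℂ,
        Cfsg.IsIrrCharacter (Matrix.SpecialLinearGroup (Fin 2) F) ψ' ∧ ψ ≠ ψ' ∧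
        resSL χ = ψ + ψ' ∧ GLConj ψ ψ' ∧ GLConj ψ' ψ)) := by
  classical
  have : Fintype (detKer F) := Fintype.ofFinite _
  have : Fintype (Matrix.SpecialLinearGroup (Fin 2) F) := Fintype.ofFinite _
  have hψN : Cfsg.IsIrrCharacter (detKer F) (fun n => ψ (slEquiv.symm n)) :=
    IsIrrCharacter.comp_mulEquiv slEquiv.symm hψ
  obtain ⟨χ, hχ, hne⟩ := exists_irr_over (detKer F) hψN
  refine ⟨χ, hχ, ?_⟩
  have hinner : Cfsg.classInner ψ (resSL χ) ≠ 0 := by
    have := classInner_comp_mulEquiv (slEquiv (F := F)) (fun n => ψ (slEquiv.symm n))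
      (fun n : detKer F => χ n)
    rw [← this] at hne
    simpa [resSL_eq_comp] using hne
  rcases resSL_cases hχ with ⟨h1, h2⟩ | ⟨α₀, h1, h2, h3, ψ₁, ψ₂, hψ₁, hψ₂, hne12, hsum, hc1, hc2⟩
  · left
    refine ⟨?_, h2⟩
    rw [classInner_isIrrCharacter hψ h1] at hinner
    by_contra hcon
    rw [if_neg hcon] at hinner
    exact hinner rfl
  · right
    refine ⟨α₀, h1, h2, h3, ?_⟩
    rw [hsum, classInner_add_right, classInner_isIrrCharacter hψ hψ₁,
      classInner_isIrrCharacter hψ hψ₂] at hinner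
    by_cases e1 : ψ = ψ₁
    · subst e1
      exact ⟨ψ₂, hψ₂, hne12, hsum, hc1, hc2⟩
    · by_cases e2 : ψ = ψ₂
      · subst e2
        refine ⟨ψ₁, hψ₁, Ne.symm hne12, ?_, hc2, hc1⟩
        rw [hsum, add_comm]
      · rw [if_neg e1, if_neg e2, add_zero] at hinner
        exact absurd rfl hinner

end transport

end Cfsg.Agent.Lib.Helper4
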