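import Mathlib
import Cfsg.Agent.Lib.Helper4.SL2Irr

set_option autoImplicit false

namespace Cfsg.Agent.Lib.Helper4

open Cfsg.Agent.Lib.Helper6 Matrix Cfsg.Agent.S2308
open scoped ComplexConjugate MatrixGroups

variable {F : Type*} [Field F] [Fintype F] [DecidableEq F] [Fintype (GL (Fin 2) F)]

omit [Fintype F] [DecidableEq F] [Fintype (GL (Fin 2) F)] in
theorem resSL_lam (α : MulChar F ℂ) : resSL (lamGL2 α) = fun _ => 1 := by
  funext s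
  rw [resSL_apply]
  have := lamGL2_detKer α (slEquiv s)
  rwa [slEquiv_coe] at this

omit [Fintype F] [DecidableEq F] in
theorem resSL_st (α : MulChar F ℂ) : resSL (stGL2 α) = resSL (stGL2 1) := by
  have : stGL2 α = lamGL2 α * stGL2 1 := by rw [lam_mul_st, mul_one]
  rw [this, resSL_lam_mul]

omit [Fintype F] [DecidableEq F] in
theorem resSL_ps (β γ : MulChar F ℂ) : resSL (psGL2 β γ) = resSL (psGL2 1 (β⁻¹ * γ)) := by
  have : psGL2 1 (β⁻¹ * γ) = lamGL2 β⁻¹ * psGL2 β γ := by rw [lam_mul_ps, inv_mul_cancel]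
  rw [this, resSL_lam_mul]

/-- the classification of the irreducible characters of `SL₂(q)` by type -/
theorem sl2_irr_types (ψ : Matrix.SpecialLinearGroup (Fin 2) F → ℂ)
    (hψ : Cfsg.IsIrrCharacter (Matrix.SpecialLinearGroup (Fin 2) F) ψ) :
    (ψ = fun _ => 1) ∨ (ψ = resSL (stGL2 1)) ∨
    (∃ δ : MulChar F ℂ, δ ^ 2 ≠ 1 ∧ ψ = resSL (psGL2 1 δ)) ∨
    (∃ χ : GL (Fin 2) F → ℂ, Cfsg.IsIrrCharacter (GL (Fin 2) F) χ ∧ NonPS χ ∧ ψ = resSL χ) ∨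
    (∃ (α₀ : MulChar F ℂ) (ψ' : Matrix.SpecialLinearGroup (Fin 2) F → ℂ), α₀ ≠ 1 ∧ α₀ ^ 2 = 1 ∧
      Cfsg.IsIrrCharacter (Matrix.SpecialLinearGroup (Fin 2) F) ψ' ∧ ψ ≠ ψ' ∧
      resSL (psGL2 1 α₀) = ψ + ψ' ∧ GLConj ψ ψ' ∧ GLConj ψ' ψ) ∨
    (∃ (χ : GL (Fin 2) F → ℂ) (α₀ : MulChar F ℂ) (ψ' : Matrix.SpecialLinearGroup (Fin 2) F → ℂ),
      Cfsg.IsIrrCharacter (GL (Fin 2) F) χ ∧ NonPS χ ∧ α₀ ≠ 1 ∧ α₀ ^ 2 = 1 ∧ lamGL2 α₀ * χ = χ ∧
      Cfsg.IsIrrCharacter (Matrix.SpecialLinearGroup (Fin 2) F) ψ' ∧ ψ ≠ ψ' ∧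
      resSL χ = ψ + ψ' ∧ GLConj ψ ψ' ∧ GLConj ψ' ψ) := by
  obtain ⟨χ, hχ, hcases⟩ := sl2_irr_cases ψ hψ
  rcases hcases with ⟨h1, hstab⟩ | ⟨α₀, hα1, hαsq, hαχ, ψ', hψ', hne, hsum, hc1, hc2⟩
  · rcases irr_cases χ hχ with ⟨α, rfl⟩ | ⟨α, rfl⟩ | ⟨β, γ, hβγ, rfl⟩ | hns
    · left
      rw [h1, resSL_lam]
    · right; left
      rw [h1, resSL_st]
    · right; right; left
      refine ⟨β⁻¹ * γ, ?_, ?_⟩
      · intro hsq
        have hγ : γ = β * (β⁻¹ * γ) := (mul_inv_cancel_left β γ).symm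
        have h2 : lamGL2 (β⁻¹ * γ) * psGL2 β γ = psGL2 β γ := by
          generalize β⁻¹ * γ = δ at hsq hγ
          subst hγ
          rw [lam_mul_ps, Cfsg.Agent.S2305.psGL2_swap]
          congr 1
          · rw [mul_left_comm, ← sq, hsq, mul_one]
          · rw [mul_comm]
        have h3 := hstab _ h2
        apply hβγ
        rw [hγ, h3, mul_one]
      · rw [h1, resSL_ps]
    · right; right; right; left
      exact ⟨χ, hχ, hns, h1⟩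
  · rcases irr_cases χ hχ with ⟨α, rfl⟩ | ⟨α, rfl⟩ | ⟨β, γ, hβγ, rfl⟩ | hns
    · exfalso
      rw [lamGL2_mul] at hαχ
      have := lamGL2_injective _ _ hαχ
      apply hα1
      exact mul_eq_right.mp this
    · exfalso
      rw [lam_mul_st] at hαχ
      have := stGL2_injective _ _ hαχ
      apply hα1
      exact mul_eq_right.mp this
    · right; right; right; right; left
      refine ⟨α₀, ψ', hα1, hαsq, hψ', hne, ?_, hc1, hc2⟩
      rw [lam_mul_ps, psGL2_eq_iff] at hαχ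
      rcases hαχ with ⟨h2, -⟩ | ⟨h2, -⟩
      · exact absurd (mul_eq_right.mp h2) hα1
      · rw [← hsum, resSL_ps β γ, ← h2, mul_comm α₀ β, inv_mul_cancel_left]
    · right; right; right; right; right
      exact ⟨χ, α₀, ψ', hχ, hns, hα1, hαsq, hαχ, hψ', hne, hsum, hc1, hc2⟩

end Cfsg.Agent.Lib.Helper4
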