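import Mathlib
import Cfsg.Agent.Lib.Helper4.SL2Types

set_option autoImplicit false

namespace Cfsg.Agent.Lib.Helper4

open Cfsg.Agent.Lib.Helper6 Matrix Cfsg.Agent.S2308
open scoped ComplexConjugate MatrixGroups

variable {F : Type*} [Field F]

/-- a diagonal element of `SL₂` as an element `mkGL a d 0` -/
theorem toGL_eq_mkGL_of_diag (g : Matrix.SpecialLinearGroup (Fin 2) F)
    (h01 : (g : Matrix (Fin 2) (Fin 2) F) 0 1 = 0) (h10 : (g : Matrix (Fin 2) (Fin 2) F) 1 0 = 0) :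
    ∃ a d : Fˣ, Matrix.SpecialLinearGroup.toGL g = mkGL a d 0 ∧
      (a : F) = (g : Matrix (Fin 2) (Fin 2) F) 0 0 ∧ (d : F) = (g : Matrix (Fin 2) (Fin 2) F) 1 1 ∧
      a * d = 1 := by
  obtain ⟨a, d, h1, h2, h3⟩ := eq_mkGL_of_diag (Matrix.SpecialLinearGroup.toGL g) h01 h10
  refine ⟨a, d, h1, h2, h3, ?_⟩
  apply Units.ext
  have hdet := g.2
  rw [Matrix.det_fin_two, h01, zero_mul, sub_zero] at hdet
  rw [Units.val_mul, Units.val_one, h2, h3]
  exact hdet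

/-- an upper triangular element of `SL₂` as an element `mkGL a d u` -/
theorem toGL_eq_mkGL_of_upper (g : Matrix.SpecialLinearGroup (Fin 2) F)
    (h10 : (g : Matrix (Fin 2) (Fin 2) F) 1 0 = 0) :
    ∃ a d : Fˣ, Matrix.SpecialLinearGroup.toGL g =
        mkGL a d ((g : Matrix (Fin 2) (Fin 2) F) 0 1) ∧
      (a : F) = (g : Matrix (Fin 2) (Fin 2) F) 0 0 ∧ (d : F) = (g : Matrix (Fin 2) (Fin 2) F) 1 1 := by
  have hmem : Matrix.SpecialLinearGroup.toGL g ∈ Cfsg.upperTriangularGL 2 F :=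
    (mem_B_iff _).mpr h10
  obtain ⟨a, d, u, hg⟩ := exists_mkGL _ hmem
  have h := (gl2_ext_iff _ _).mp hg
  simp only [mkGL_coe, Matrix.of_apply, Matrix.cons_val', Matrix.cons_val_zero, Matrix.cons_val_one,
    Matrix.cons_val_fin_one, Matrix.SpecialLinearGroup.coe_GL_coe_matrix] at h
  refine ⟨a, d, ?_, h.1.symm, h.2.2.2.symm⟩
  rw [hg, h.2.1]

section values

variable [Fintype F] [DecidableEq F] [Fintype (GL (Fin 2) F)]

theorem psGL2_scalar_unip (α β : MulChar F ℂ) (a : Fˣ) (u : F) (hu : u ≠ 0) :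
    psGL2 α β (mkGL a a u) = α (a : F) * β (a : F) := by
  rw [psGL2_mkGL, if_neg hu, zero_add, Finset.sum_eq_single (0 : F)]
  · simp
  · intro c _ hc
    rw [if_neg]
    intro h
    apply hc
    have h2 : u * (c * c) = 0 := by linear_combination -h
    rcases mul_eq_zero.mp h2 with h3 | h3
    · exact absurd h3 hu
    · exact mul_self_eq_zero.mp h3
  · intro h
    exact absurd (Finset.mem_univ _) h

theorem stGL2_scalar_unip (α : MulChar F ℂ) (a : Fˣ) (u : F) (hu : u ≠ 0) :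
    stGL2 α (mkGL a a u) = 0 := by
  unfold stGL2
  rw [Pi.sub_apply, psGL2_scalar_unip α α a u hu, lamGL2_mkGL, sub_self]

omit [Fintype F] [DecidableEq F] [Fintype (GL (Fin 2) F)] in
theorem one_mulChar_unit (a : Fˣ) : (1 : MulChar F ℂ) (a : F) = 1 := MulChar.one_apply_coe a

/-- values of the Steinberg character of `SL₂` -/
theorem resSL_st_diag (g : Matrix.SpecialLinearGroup (Fin 2) F)
    (h01 : (g : Matrix (Fin 2) (Fin 2) F) 0 1 = 0) (h10 : (g : Matrix (Fin 2) (Fin 2) F) 1 0 = 0)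
    (hsq : (g : Matrix (Fin 2) (Fin 2) F) 0 0 ^ 2 ≠ 1) : resSL (stGL2 (1 : MulChar F ℂ)) g = 1 := by
  obtain ⟨a, d, hg, ha, hd, had⟩ := toGL_eq_mkGL_of_diag g h01 h10
  have hne : a ≠ d := by
    rintro rfl
    apply hsq
    rw [← ha, sq, ← Units.val_mul, had, Units.val_one]
  rw [resSL_apply, hg, stGL2_diag _ a d hne, one_mulChar_unit, one_mulChar_unit, one_mul]

theorem resSL_st_elliptic (g : Matrix.SpecialLinearGroup (Fin 2) F)
    (h : ∀ (c : F) (v : Fin 2 → F), v ≠ 0 → (g : Matrix (Fin 2) (Fin 2) F).mulVec v ≠ c • v) :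
    resSL (stGL2 (1 : MulChar F ℂ)) g = -1 := by
  rw [resSL_apply, stGL2_elliptic _ _ h, lamGL2_one_char]

theorem resSL_st_unip (g : Matrix.SpecialLinearGroup (Fin 2) F)
    (h10 : (g : Matrix (Fin 2) (Fin 2) F) 1 0 = 0)
    (heq : (g : Matrix (Fin 2) (Fin 2) F) 0 0 = (g : Matrix (Fin 2) (Fin 2) F) 1 1)
    (h01 : (g : Matrix (Fin 2) (Fin 2) F) 0 1 ≠ 0) : resSL (stGL2 (1 : MulChar F ℂ)) g = 0 := by
  obtain ⟨a, d, hg, ha, hd⟩ := toGL_eq_mkGL_of_upper g h10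
  have : a = d := Units.ext (by rw [ha, hd, heq])
  subst this
  rw [resSL_apply, hg, stGL2_scalar_unip _ _ _ h01]

/-- degree and transvection value of a cuspidal character -/
theorem nonPS_values {χ : GL (Fin 2) F → ℂ} (hχ : Cfsg.IsIrrCharacter (GL (Fin 2) F) χ)
    (h : NonPS χ) : χ 1 = (Fintype.card F : ℂ) - 1 ∧ χ (mkGL 1 1 1) = -1 :=
  (cusp_main (F := F)).1 ⟨χ, hχ⟩ h

omit [Fintype F] [DecidableEq F] [Fintype (GL (Fin 2) F)] in
theorem half_degree {χ : GL (Fin 2) F → ℂ} {ψ ψ' : Matrix.SpecialLinearGroup (Fin 2) F → ℂ}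
    (hsum : resSL χ = ψ + ψ') (hc : GLConj ψ ψ') : 2 * ψ 1 = χ 1 := by
  have h1 := congrFun hsum 1
  rw [resSL_one, Pi.add_apply, hc.apply_one] at h1
  rw [h1, two_mul]

omit [Fintype F] [DecidableEq F] [Fintype (GL (Fin 2) F)] in
theorem toGL_transvection (u : Matrix.SpecialLinearGroup (Fin 2) F)
    (hu : (u : Matrix (Fin 2) (Fin 2) F) = !![1, 1; 0, 1]) :
    Matrix.SpecialLinearGroup.toGL u = mkGL 1 1 1 := by
  rw [gl2_ext_iff]
  simp [mkGL_coe, hu]

end values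

end Cfsg.Agent.Lib.Helper4
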