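import Mathlib
import Cfsg.Agent.Lib.Helper4.SL2Values

set_option autoImplicit false

namespace Cfsg.Agent.Lib.Helper4

open Cfsg.Agent.Lib.Helper6 Matrix Cfsg.Agent.S2308
open scoped ComplexConjugate MatrixGroups

/-- counting with fibres of size two -/
theorem card_eq_two_mul_of_fibers {A B : Type*} [Fintype A] [Fintype B] [DecidableEq A]
    [DecidableEq B] (f : A → B) (hf : Function.Surjective f) (σ : A → A) (hσ : ∀ a, σ a ≠ a)
    (h : ∀ a a', f a = f a' ↔ a' = a ∨ a' = σ a) : Fintype.card A = 2 * Fintype.card B := by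
  rw [← Finset.card_univ, Finset.card_eq_sum_card_fiberwise (f := f) (t := Finset.univ)
    (fun _ _ => Finset.mem_univ _)]
  have h2 : ∀ b ∈ (Finset.univ : Finset B), (Finset.univ.filter (fun a => f a = b)).card = 2 := by
    intro b _
    obtain ⟨a, rfl⟩ := hf b
    have : Finset.univ.filter (fun a' => f a' = f a) = {a, σ a} := by
      ext a'
      simp only [Finset.mem_filter, Finset.mem_univ, true_and, Finset.mem_insert,
        Finset.mem_singleton]
      rw [eq_comm, h a a']
    rw [this, Finset.card_pair (hσ a).symm]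
  rw [Finset.sum_congr rfl h2, Finset.sum_const, Finset.card_univ, smul_eq_mul, mul_comm]

variable {F : Type*} [Field F] [Fintype F]

theorem exists_quadratic_mulChar (hodd : Odd (Fintype.card F)) :
    ∃ α₀ : MulChar F ℂ, α₀ ≠ 1 ∧ α₀ ^ 2 = 1 := by
  have hdvd : 2 ∣ Nat.card (MulChar F ℂ) := by
    rw [card_mulChar]
    obtain ⟨k, hk⟩ := hodd
    rw [hk]
    exact ⟨k, by omega⟩
  have : Fact (Nat.Prime 2) := ⟨Nat.prime_two⟩
  obtain ⟨α₀, hα₀⟩ := exists_prime_orderOf_dvd_card' 2 hdvd
  refine ⟨α₀, ?_, ?_⟩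
  · rintro rfl
    rw [orderOf_one] at hα₀
    norm_num at hα₀
  · rw [← hα₀]
    exact pow_orderOf_eq_one α₀

theorem mulChar_eq_one_of_sq_of_even (heven : Even (Fintype.card F)) (α : MulChar F ℂ)
    (h : α ^ 2 = 1) : α = 1 := by
  have h1 : orderOf α ∣ 2 := orderOf_dvd_of_pow_eq_one h
  have h2 : orderOf α ∣ Nat.card (MulChar F ℂ) := orderOf_dvd_natCard α
  rw [card_mulChar] at h2
  have hq : 1 < Fintype.card F := Fintype.one_lt_card
  obtain ⟨k, hk⟩ := heven
  have h3 : orderOf α ∣ Nat.gcd 2 (Fintype.card F - 1) := Nat.dvd_gcd h1 h2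
  have h4 : Nat.gcd 2 (Fintype.card F - 1) = 1 := by
    have : Fintype.card F - 1 = 2 * (k - 1) + 1 := by omega
    rw [this]
    simp
  rw [h4, Nat.dvd_one] at h3
  exact orderOf_eq_one_iff.mp h3

/-- the number of multiplicative characters with nontrivial square, `q` odd -/
theorem card_mulChar_sq_ne_one_odd (hodd : Odd (Fintype.card F)) :
    Nat.card {δ : MulChar F ℂ // δ ^ 2 ≠ 1} = Fintype.card F - 3 := by
  classical
  have : Fintype (MulChar F ℂ) := Fintype.ofFinite _
  obtain ⟨α₀, hα1, hαsq⟩ := exists_quadratic_mulChar hodd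
  rw [Nat.card_eq_fintype_card, Fintype.card_subtype_compl, ← Nat.card_eq_fintype_card,
    card_mulChar]
  have : Fintype.card {δ : MulChar F ℂ // δ ^ 2 = 1} = 2 := by
    rw [Fintype.card_subtype]
    have : Finset.univ.filter (fun δ : MulChar F ℂ => δ ^ 2 = 1) = {1, α₀} := by
      ext δ
      simp only [Finset.mem_filter, Finset.mem_univ, true_and, Finset.mem_insert,
        Finset.mem_singleton]
      constructor
      · intro hδ
        by_cases h1 : δ = 1
        · exact Or.inl h1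
        · exact Or.inr (mulChar_sq_unique δ α₀ hδ hαsq h1 hα1)
      · rintro (rfl | rfl)
        · exact one_pow 2
        · exact hαsq
    rw [this, Finset.card_pair (Ne.symm hα1)]
  rw [this]
  omega

/-- the number of multiplicative characters with nontrivial square, `q` even -/
theorem card_mulChar_sq_ne_one_even (heven : Even (Fintype.card F)) :
    Nat.card {δ : MulChar F ℂ // δ ^ 2 ≠ 1} = Fintype.card F - 2 := by
  classical
  have : Fintype (MulChar F ℂ) := Fintype.ofFinite _
  rw [Nat.card_eq_fintype_card, Fintype.card_subtype_compl, ← Nat.card_eq_fintype_card,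
    card_mulChar]
  have : Fintype.card {δ : MulChar F ℂ // δ ^ 2 = 1} = 1 := by
    rw [Fintype.card_subtype]
    have : Finset.univ.filter (fun δ : MulChar F ℂ => δ ^ 2 = 1) = {1} := by
      ext δ
      simp only [Finset.mem_filter, Finset.mem_univ, true_and, Finset.mem_singleton]
      constructor
      · exact mulChar_eq_one_of_sq_of_even heven δ
      · rintro rfl
        exact one_pow 2
    rw [this, Finset.card_singleton]
  rw [this]
  omega

section ps

variable [DecidableEq F] [Fintype (GL (Fin 2) F)]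

/-- the principal series of `SL₂` attached to a character of non-trivial square is irreducible -/
theorem isIrr_resSL_ps (δ : MulChar F ℂ) (hδ : δ ^ 2 ≠ 1) :
    Cfsg.IsIrrCharacter (Matrix.SpecialLinearGroup (Fin 2) F) (resSL (psGL2 1 δ)) := by
  have hne : (1 : MulChar F ℂ) ≠ δ := by
    rintro rfl
    exact hδ (one_pow 2)
  rcases resSL_cases (Cfsg.Agent.S2304.isIrr_psGL2 1 δ hne) with ⟨h, -⟩ | ⟨α₀, h1, -, h3, -⟩
  · exact h
  · exfalso
    rw [lam_mul_ps, psGL2_eq_iff] at h3
    rcases h3 with ⟨h4, -⟩ | ⟨h4, h5⟩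
    · exact h1 (by simpa using h4)
    · rw [mul_one] at h4
      apply hδ
      rw [sq, ← h5, h4]

theorem resSL_ps_one (α β : MulChar F ℂ) :
    resSL (psGL2 α β) 1 = (Fintype.card F : ℂ) + 1 := by
  rw [resSL_one, psGL2_one]

theorem resSL_ps_inv (δ : MulChar F ℂ) : resSL (psGL2 1 δ⁻¹) = resSL (psGL2 1 δ) := by
  conv_rhs => rw [Cfsg.Agent.S2305.psGL2_swap 1 δ, resSL_ps δ 1, mul_one]

theorem resSL_ps_eq_iff (δ δ' : MulChar F ℂ) (hδ : δ ^ 2 ≠ 1) (hδ' : δ' ^ 2 ≠ 1) :
    resSL (psGL2 1 δ) = resSL (psGL2 1 δ') ↔ δ' = δ ∨ δ' = δ⁻¹ := by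
  classical
  have : Fintype (detKer F) := Fintype.ofFinite _
  have : Fintype (MulChar F ℂ) := Fintype.ofFinite _
  have : Fintype (Matrix.SpecialLinearGroup (Fin 2) F) := Fintype.ofFinite _
  constructor
  · intro heq
    have hne : (1 : MulChar F ℂ) ≠ δ := by
      rintro rfl
      exact hδ (one_pow 2)
    have hne' : (1 : MulChar F ℂ) ≠ δ' := by
      rintro rfl
      exact hδ' (one_pow 2)
    have h1 := resN_inner_irr (Cfsg.Agent.S2304.isIrr_psGL2 1 δ hne)
      (Cfsg.Agent.S2304.isIrr_psGL2 1 δ' hne')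
    have h2 := classInner_comp_mulEquiv (slEquiv (F := F)) (fun n : detKer F => psGL2 1 δ n)
      (fun n : detKer F => psGL2 1 δ' n)
    rw [h1] at h2
    have h3 : Cfsg.classInner (resSL (psGL2 1 δ)) (resSL (psGL2 1 δ')) = 1 := by
      rw [← heq, classInner_isIrrCharacter (isIrr_resSL_ps δ hδ) (isIrr_resSL_ps δ hδ), if_pos rfl]
    rw [resSL_eq_comp, resSL_eq_comp, h2] at h3
    have h4 : (Finset.univ.filter (fun α : MulChar F ℂ => lamGL2 α * psGL2 1 δ = psGL2 1 δ')).card
        ≠ 0 := by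
      intro h0
      rw [h0] at h3
      norm_num at h3
    obtain ⟨α, hα⟩ := Finset.card_pos.mp (Nat.pos_of_ne_zero h4)
    simp only [Finset.mem_filter, Finset.mem_univ, true_and] at hα
    rw [lam_mul_ps, psGL2_eq_iff, mul_one] at hα
    rcases hα with ⟨h5, h6⟩ | ⟨h5, h6⟩
    · left
      rw [← h6, h5, one_mul]
    · right
      rw [← h5]
      exact eq_inv_of_mul_eq_one_left h6
  · rintro (rfl | rfl)
    · rfl
    · exact (resSL_ps_inv δ).symm

/-- the irreducible characters of `SL₂(q)` of degree `q + 1` -/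
theorem card_deg_succ [Fintype (Cfsg.IrrCharacter (Matrix.SpecialLinearGroup (Fin 2) F))] :
    Nat.card {δ : MulChar F ℂ // δ ^ 2 ≠ 1} =
      2 * Nat.card {ψ : Cfsg.IrrCharacter (Matrix.SpecialLinearGroup (Fin 2) F) //
        (ψ : Matrix.SpecialLinearGroup (Fin 2) F → ℂ) 1 = (Fintype.card F : ℂ) + 1} := by
  classical
  have : Fintype (MulChar F ℂ) := Fintype.ofFinite _
  rw [Nat.card_eq_fintype_card, Nat.card_eq_fintype_card]
  apply card_eq_two_mul_of_fibers
    (fun δ : {δ : MulChar F ℂ // δ ^ 2 ≠ 1} =>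
      (⟨⟨resSL (psGL2 1 δ.1), isIrr_resSL_ps δ.1 δ.2⟩, resSL_ps_one 1 δ.1⟩ :
        {ψ : Cfsg.IrrCharacter (Matrix.SpecialLinearGroup (Fin 2) F) //
        (ψ : Matrix.SpecialLinearGroup (Fin 2) F → ℂ) 1 = (Fintype.card F : ℂ) + 1}))
    ?_ (fun δ => ⟨δ.1⁻¹, by rw [inv_pow]; intro h; exact δ.2 (inv_eq_one.mp h)⟩) ?_ ?_
  · rintro ⟨⟨ψ, hψ⟩, hdeg⟩
    simp only at hdeg
    have hq1 : (Fintype.card F : ℂ) ≠ 1 := card_ne_one
    rcases sl2_irr_types ψ hψ with h | h | ⟨δ, hδ, h⟩ | ⟨χ', hχ', hns, h⟩ |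
      ⟨α₀, ψ', -, -, -, -, hsum, hc, -⟩ | ⟨χ', α₀, ψ', hχ', hns, -, -, -, -, -, hsum, hc, -⟩
    · exfalso
      rw [h] at hdeg
      have h3 : ((Fintype.card F : ℕ) : ℂ) = ((0 : ℕ) : ℂ) := by
        push_cast; linear_combination -hdeg
      have : Fintype.card F = 0 := by exact_mod_cast h3
      exact Fintype.card_ne_zero this
    · exfalso
      rw [h, resSL_one, stGL2_one] at hdeg
      have : (1 : ℂ) = 0 := by linear_combination -hdeg
      exact one_ne_zero this
    · refine ⟨⟨δ, hδ⟩, ?_⟩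
      apply Subtype.ext
      apply Subtype.ext
      exact h.symm
    · exfalso
      rw [h, resSL_one, (nonPS_values hχ' hns).1] at hdeg
      have : (2 : ℂ) = 0 := by linear_combination -hdeg
      norm_num at this
    · exfalso
      have h2 := half_degree hsum hc
      rw [psGL2_one, hdeg] at h2
      have h3 : ((Fintype.card F + 1 : ℕ) : ℂ) = 0 := by
        push_cast; linear_combination h2
      have : Fintype.card F + 1 = 0 := by exact_mod_cast h3
      omega
    · exfalso
      have h2 := half_degree hsum hc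
      rw [(nonPS_values hχ' hns).1, hdeg] at h2
      have h3 : ((Fintype.card F + 3 : ℕ) : ℂ) = 0 := by
        push_cast; linear_combination h2
      have : Fintype.card F + 3 = 0 := by exact_mod_cast h3
      omega
  · rintro ⟨δ, hδ⟩ h
    apply hδ
    have := congrArg Subtype.val h
    simp only at this
    rw [sq]
    nth_rewrite 1 [← this]
    exact inv_mul_cancel δ
  · rintro ⟨δ, hδ⟩ ⟨δ', hδ'⟩
    simp only [Subtype.mk.injEq]
    exact resSL_ps_eq_iff δ δ' hδ hδ'

end ps

end Cfsg.Agent.Lib.Helper4
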