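import Mathlib
import Cfsg.Agent.Lib.Helper4.SL2Count
import Cfsg.Agent.Lib.Helper4.DegCount

set_option autoImplicit false

namespace Cfsg.Agent.Lib.Helper4

open Cfsg.Agent.Lib.Helper6 Matrix Cfsg.Agent.S2308
open scoped ComplexConjugate MatrixGroups

variable {F : Type*} [Field F] [Fintype F] [DecidableEq F] [Fintype (GL (Fin 2) F)]

/-- the types of irreducible characters of `SL₂(q)`, with their degrees as natural numbers -/
theorem sl2_types_degN (ψ : Cfsg.IrrCharacter (Matrix.SpecialLinearGroup (Fin 2) F)) :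
    ((ψ : Matrix.SpecialLinearGroup (Fin 2) F → ℂ) = (fun _ => 1) ∧ degN ψ = 1) ∨
    ((ψ : Matrix.SpecialLinearGroup (Fin 2) F → ℂ) = resSL (stGL2 1) ∧
      degN ψ = Fintype.card F) ∨
    (∃ δ : MulChar F ℂ, δ ^ 2 ≠ 1 ∧ (ψ : Matrix.SpecialLinearGroup (Fin 2) F → ℂ) =
      resSL (psGL2 1 δ) ∧ degN ψ = Fintype.card F + 1) ∨
    (∃ χ : GL (Fin 2) F → ℂ, Cfsg.IsIrrCharacter (GL (Fin 2) F) χ ∧ NonPS χ ∧
      (ψ : Matrix.SpecialLinearGroup (Fin 2) F → ℂ) = resSL χ ∧ degN ψ = Fintype.card F - 1) ∨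
    (∃ (α₀ : MulChar F ℂ) (ψ' : Matrix.SpecialLinearGroup (Fin 2) F → ℂ), α₀ ≠ 1 ∧ α₀ ^ 2 = 1 ∧
      Cfsg.IsIrrCharacter (Matrix.SpecialLinearGroup (Fin 2) F) ψ' ∧
      (ψ : Matrix.SpecialLinearGroup (Fin 2) F → ℂ) ≠ ψ' ∧
      resSL (psGL2 1 α₀) = (ψ : Matrix.SpecialLinearGroup (Fin 2) F → ℂ) + ψ' ∧
      GLConj (ψ : Matrix.SpecialLinearGroup (Fin 2) F → ℂ) ψ' ∧
      GLConj ψ' (ψ : Matrix.SpecialLinearGroup (Fin 2) F → ℂ) ∧
      2 * degN ψ = Fintype.card F + 1) ∨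
    (∃ (χ : GL (Fin 2) F → ℂ) (α₀ : MulChar F ℂ)
      (ψ' : Matrix.SpecialLinearGroup (Fin 2) F → ℂ),
      Cfsg.IsIrrCharacter (GL (Fin 2) F) χ ∧ NonPS χ ∧ α₀ ≠ 1 ∧ α₀ ^ 2 = 1 ∧ lamGL2 α₀ * χ = χ ∧
      Cfsg.IsIrrCharacter (Matrix.SpecialLinearGroup (Fin 2) F) ψ' ∧
      (ψ : Matrix.SpecialLinearGroup (Fin 2) F → ℂ) ≠ ψ' ∧
      resSL χ = (ψ : Matrix.SpecialLinearGroup (Fin 2) F → ℂ) + ψ' ∧
      GLConj (ψ : Matrix.SpecialLinearGroup (Fin 2) F → ℂ) ψ' ∧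
      GLConj ψ' (ψ : Matrix.SpecialLinearGroup (Fin 2) F → ℂ) ∧
      2 * degN ψ = Fintype.card F - 1) := by
  have hq : 1 ≤ Fintype.card F := Fintype.card_pos
  have hspec := degN_spec ψ
  rcases sl2_irr_types ψ.1 ψ.2 with h | h | ⟨δ, hδ, h⟩ | ⟨χ', hχ', hns, h⟩ |
    ⟨α₀, ψ', h1, h2, h3, h4, hsum, hc, hc'⟩ |
    ⟨χ', α₀, ψ', hχ', hns, h1, h2, h3, h4, h5, hsum, hc, hc'⟩
  · left
    refine ⟨h, ?_⟩
    rw [degN_eq_iff, h, Nat.cast_one]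
  · right; left
    refine ⟨h, ?_⟩
    rw [degN_eq_iff, h, resSL_one, stGL2_one]
  · right; right; left
    refine ⟨δ, hδ, h, ?_⟩
    rw [degN_eq_iff, h, resSL_ps_one, Nat.cast_add, Nat.cast_one]
  · right; right; right; left
    refine ⟨χ', hχ', hns, h, ?_⟩
    rw [degN_eq_iff, h, resSL_one, (nonPS_values hχ' hns).1, Nat.cast_sub hq, Nat.cast_one]
  · right; right; right; right; left
    refine ⟨α₀, ψ', h1, h2, h3, h4, hsum, hc, hc', ?_⟩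
    have h6 := half_degree hsum hc
    rw [psGL2_one, hspec] at h6
    exact_mod_cast h6
  · right; right; right; right; right
    refine ⟨χ', α₀, ψ', hχ', hns, h1, h2, h3, h4, h5, hsum, hc, hc', ?_⟩
    have h6 := half_degree hsum hc
    rw [(nonPS_values hχ' hns).1, hspec] at h6
    have h7 : ((2 * degN ψ : ℕ) : ℂ) = ((Fintype.card F - 1 : ℕ) : ℂ) := by
      rw [Nat.cast_sub hq]
      push_cast
      exact h6
    exact_mod_cast h7

/-- the Steinberg character of `SL₂` is irreducible -/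
theorem isIrr_resSL_st :
    Cfsg.IsIrrCharacter (Matrix.SpecialLinearGroup (Fin 2) F) (resSL (stGL2 (1 : MulChar F ℂ))) := by
  rcases resSL_cases (isIrr_stGL2 (1 : MulChar F ℂ)) with ⟨h, -⟩ | ⟨α₀, h1, -, h3, -⟩
  · exact h
  · exfalso
    rw [lam_mul_st] at h3
    exact h1 (by simpa using stGL2_injective _ _ h3)

end Cfsg.Agent.Lib.Helper4
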