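import Mathlib
import Cfsg.Agent.Lib.Helper4.GL2

set_option autoImplicit false

namespace Cfsg.Agent.Lib.Helper4

open Matrix

variable {F : Type*} [Field F]

/-- upper unitriangular element of `SL₂` -/
def upperU (b : F) : Matrix.SpecialLinearGroup (Fin 2) F :=
  ⟨!![1, b; 0, 1], by simp [Matrix.det_fin_two_of]⟩

theorem upperU_coe (b : F) : (upperU b : Matrix (Fin 2) (Fin 2) F) = !![1, b; 0, 1] := rfl

theorem sl2_isConj_of_semiconj (g h : Matrix.SpecialLinearGroup (Fin 2) F)
    (X : Matrix (Fin 2) (Fin 2) F) (hd : X.det = 1)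
    (hX : X * (g : Matrix (Fin 2) (Fin 2) F) = (h : Matrix (Fin 2) (Fin 2) F) * X) : IsConj g h := by
  rw [isConj_iff]
  let Y : Matrix.SpecialLinearGroup (Fin 2) F := ⟨X, hd⟩
  refine ⟨Y, ?_⟩
  rw [mul_inv_eq_iff_eq_mul]
  apply Subtype.ext
  exact hX

/-- if every element of `F` is a square then `GL₂`-conjugate elements of `SL₂` are `SL₂`-conjugate -/
theorem sl2_isConj_of_gl_isConj_of_sq (hsq : ∀ x : F, IsSquare x)
    (g h : Matrix.SpecialLinearGroup (Fin 2) F)
    (hc : IsConj (Matrix.SpecialLinearGroup.toGL g) (Matrix.SpecialLinearGroup.toGL h)) :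
    IsConj g h := by
  obtain ⟨c, hc⟩ := isConj_iff.mp hc
  rw [mul_inv_eq_iff_eq_mul] at hc
  have hc' : (c : Matrix (Fin 2) (Fin 2) F) * (g : Matrix (Fin 2) (Fin 2) F) =
      (h : Matrix (Fin 2) (Fin 2) F) * (c : Matrix (Fin 2) (Fin 2) F) := congrArg Units.val hc
  have hdet : (c : Matrix (Fin 2) (Fin 2) F).det ≠ 0 := by
    have := (Matrix.isUnit_iff_isUnit_det _).mp c.isUnit
    exact this.ne_zero
  obtain ⟨a, ha⟩ := hsq ((c : Matrix (Fin 2) (Fin 2) F).det)⁻¹
  apply sl2_isConj_of_semiconj g h (a • (c : Matrix (Fin 2) (Fin 2) F))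
  · rw [Matrix.det_smul, Fintype.card_fin, pow_two, ← ha, inv_mul_cancel₀ hdet]
  · rw [Matrix.smul_mul, Matrix.mul_smul, hc']


theorem sl2_ext_iff (x y : Matrix.SpecialLinearGroup (Fin 2) F) :
    x = y ↔ x 0 0 = y 0 0 ∧ x 0 1 = y 0 1 ∧ x 1 0 = y 1 0 ∧ x 1 1 = y 1 1 := by
  constructor
  · rintro rfl; exact ⟨rfl, rfl, rfl, rfl⟩
  · rintro ⟨h1, h2, h3, h4⟩
    apply Matrix.SpecialLinearGroup.ext
    intro i j
    fin_cases i <;> fin_cases j <;> assumption

theorem sl2_det (x : Matrix.SpecialLinearGroup (Fin 2) F) :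
    x 0 0 * x 1 1 - x 0 1 * x 1 0 = 1 := by
  have := x.2
  rw [Matrix.det_fin_two] at this
  exact this

theorem mem_centralizer_upperU_iff (b : F) (hb : b ≠ 0) (x : Matrix.SpecialLinearGroup (Fin 2) F) :
    x ∈ Subgroup.centralizer ({upperU b} : Set (Matrix.SpecialLinearGroup (Fin 2) F)) ↔
      x 1 0 = 0 ∧ x 0 0 = x 1 1 := by
  rw [Subgroup.mem_centralizer_singleton_iff, sl2_ext_iff]
  simp only [Matrix.SpecialLinearGroup.coe_mul, upperU_coe, Matrix.mul_apply, Fin.sum_univ_two,
    Matrix.of_apply, Matrix.cons_val', Matrix.cons_val_zero, Matrix.cons_val_one,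
    Matrix.cons_val_fin_one]
  constructor
  · rintro ⟨h1, h2, h3, h4⟩
    have h10 : x 1 0 = 0 := by
      have : b * x 1 0 = 0 := by linear_combination -h1
      rcases mul_eq_zero.mp this with h | h
      · exact absurd h hb
      · exact h
    refine ⟨h10, ?_⟩
    have : b * (x 0 0 - x 1 1) = 0 := by linear_combination h2
    rcases mul_eq_zero.mp this with h | h
    · exact absurd h hb
    · exact sub_eq_zero.mp h
  · rintro ⟨h1, h2⟩
    refine ⟨?_, ?_, ?_, ?_⟩
    · rw [h1]; ring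
    · rw [h2]; ring
    · rw [h1]; ring
    · rw [h1]; ring

/-- upper triangular element with equal diagonal entries -/
def upperT (a β : F) (h : a ^ 2 = 1) : Matrix.SpecialLinearGroup (Fin 2) F :=
  ⟨!![a, β; 0, a], by rw [Matrix.det_fin_two_of]; linear_combination h⟩

/-- the centralizer of a nontrivial upper unitriangular element, as a type equivalence -/
noncomputable def centralizerUpperUEquiv (b : F) (hb : b ≠ 0) :
    Subgroup.centralizer ({upperU b} : Set (Matrix.SpecialLinearGroup (Fin 2) F)) ≃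
      {a : F // a ^ 2 = 1} × F where
  toFun x := ⟨⟨(x : Matrix.SpecialLinearGroup (Fin 2) F) 0 0, by
    have h := (mem_centralizer_upperU_iff b hb x).mp x.2
    have hd := sl2_det (x : Matrix.SpecialLinearGroup (Fin 2) F)
    rw [h.1, ← h.2] at hd
    linear_combination hd⟩, (x : Matrix.SpecialLinearGroup (Fin 2) F) 0 1⟩
  invFun y := ⟨upperT y.1 y.2 y.1.2, by
    rw [mem_centralizer_upperU_iff b hb]
    constructor <;> rfl⟩
  left_inv x := by
    have h := (mem_centralizer_upperU_iff b hb x).mp x.2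
    apply Subtype.ext
    rw [sl2_ext_iff]
    refine ⟨rfl, rfl, ?_, ?_⟩
    · exact h.1.symm
    · exact h.2
  right_inv y := by
    rfl

theorem card_centralizer_upperU [Fintype F] (b : F) (hb : b ≠ 0) :
    Nat.card (Subgroup.centralizer ({upperU b} : Set (Matrix.SpecialLinearGroup (Fin 2) F))) =
      Nat.card {a : F // a ^ 2 = 1} * Fintype.card F := by
  rw [Nat.card_congr (centralizerUpperUEquiv b hb), Nat.card_prod, Nat.card_eq_fintype_card (α := F)]

end Cfsg.Agent.Lib.Helper4
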