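import Mathlib
import Cfsg.Agent.Lib.Helper4.GL2
import Cfsg.Agent.Lib.Helper4.SL2

set_option autoImplicit false

namespace Cfsg.Agent.Lib.Helper4

open Matrix

variable {F : Type*} [Field F]

theorem det_smul_one_add_smul (M : Matrix (Fin 2) (Fin 2) F) (α β : F) :
    (α • (1 : Matrix (Fin 2) (Fin 2) F) + β • M).det = α ^ 2 + α * β * M.trace + β ^ 2 * M.det := by
  rw [Matrix.det_fin_two, Matrix.det_fin_two, Matrix.trace_fin_two]
  simp only [Matrix.add_apply, Matrix.smul_apply, Matrix.one_apply_eq, smul_eq_mul, mul_one,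
    Matrix.one_apply_ne (show (1 : Fin 2) ≠ 0 by decide),
    Matrix.one_apply_ne (show (0 : Fin 2) ≠ 1 by decide), mul_zero, zero_add]
  ring

/-- `GL₂`-conjugate elements of `SL₂` are `SL₂`-conjugate as soon as the determinant is surjective
on the obvious part of the centralizer -/
theorem sl2_isConj_of_gl_isConj_of_det_surj (g h : Matrix.SpecialLinearGroup (Fin 2) F)
    (hc : IsConj (Matrix.SpecialLinearGroup.toGL g) (Matrix.SpecialLinearGroup.toGL h))
    (hdet : ∀ d : F, d ≠ 0 → ∃ α β : F,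
      (α • (1 : Matrix (Fin 2) (Fin 2) F) + β • (g : Matrix (Fin 2) (Fin 2) F)).det = d) :
    IsConj g h := by
  obtain ⟨c, hc⟩ := isConj_iff.mp hc
  rw [mul_inv_eq_iff_eq_mul] at hc
  have hc' : (c : Matrix (Fin 2) (Fin 2) F) * (g : Matrix (Fin 2) (Fin 2) F) =
      (h : Matrix (Fin 2) (Fin 2) F) * (c : Matrix (Fin 2) (Fin 2) F) := congrArg Units.val hc
  have hdetc : (c : Matrix (Fin 2) (Fin 2) F).det ≠ 0 :=
    ((Matrix.isUnit_iff_isUnit_det _).mp c.isUnit).ne_zero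
  obtain ⟨α, β, hαβ⟩ := hdet ((c : Matrix (Fin 2) (Fin 2) F).det)⁻¹ (inv_ne_zero hdetc)
  set Z : Matrix (Fin 2) (Fin 2) F := α • (1 : Matrix (Fin 2) (Fin 2) F) + β • (g : Matrix (Fin 2) (Fin 2) F) with hZ
  have hZg : Z * (g : Matrix (Fin 2) (Fin 2) F) = (g : Matrix (Fin 2) (Fin 2) F) * Z := by
    rw [hZ, Matrix.add_mul, Matrix.mul_add, Matrix.smul_mul, Matrix.smul_mul, Matrix.mul_smul,
      Matrix.mul_smul, Matrix.one_mul, Matrix.mul_one]
  apply sl2_isConj_of_semiconj g h ((c : Matrix (Fin 2) (Fin 2) F) * Z)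
  · rw [Matrix.det_mul, hαβ, mul_inv_cancel₀ hdetc]
  · rw [Matrix.mul_assoc, hZg, ← Matrix.mul_assoc, hc', Matrix.mul_assoc]

/-- companion element of `SL₂` with trace `t` -/
def compSL (t : F) : Matrix.SpecialLinearGroup (Fin 2) F :=
  ⟨comp2 t 1, by rw [comp2, Matrix.det_fin_two_of]; ring⟩

theorem compSL_coe (t : F) : (compSL t : Matrix (Fin 2) (Fin 2) F) = !![0, -1; 1, t] := rfl

theorem compSL_trace (t : F) : (compSL t : Matrix (Fin 2) (Fin 2) F).trace = t := by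
  rw [compSL_coe, Matrix.trace_fin_two_of]; ring

theorem compSL_not_scalar (t : F) : ¬ IsScalar2 (compSL t : Matrix (Fin 2) (Fin 2) F) := by
  intro hs
  have := hs.2.1
  rw [compSL_coe] at this
  simp at this

theorem sl2_trace_conj (g c : Matrix.SpecialLinearGroup (Fin 2) F) :
    ((c * g * c⁻¹ : Matrix.SpecialLinearGroup (Fin 2) F) : Matrix (Fin 2) (Fin 2) F).trace =
      (g : Matrix (Fin 2) (Fin 2) F).trace := by
  have h1 : (c * g * c⁻¹ : Matrix.SpecialLinearGroup (Fin 2) F) * c = c * g := by group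
  have h2 : ((c * g * c⁻¹ : Matrix.SpecialLinearGroup (Fin 2) F) : Matrix (Fin 2) (Fin 2) F) *
      (c : Matrix (Fin 2) (Fin 2) F) = (c : Matrix (Fin 2) (Fin 2) F) * (g : Matrix (Fin 2) (Fin 2) F) := by
    rw [← Matrix.SpecialLinearGroup.coe_mul, h1, Matrix.SpecialLinearGroup.coe_mul]
  have h3 : ((c⁻¹ : Matrix.SpecialLinearGroup (Fin 2) F) : Matrix (Fin 2) (Fin 2) F) *
      (c : Matrix (Fin 2) (Fin 2) F) = 1 := by
    rw [← Matrix.SpecialLinearGroup.coe_mul, inv_mul_cancel, Matrix.SpecialLinearGroup.coe_one]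
  calc ((c * g * c⁻¹ : Matrix.SpecialLinearGroup (Fin 2) F) : Matrix (Fin 2) (Fin 2) F).trace
      = (((c * g * c⁻¹ : Matrix.SpecialLinearGroup (Fin 2) F) : Matrix (Fin 2) (Fin 2) F) *
          ((c : Matrix (Fin 2) (Fin 2) F) * ((c⁻¹ : Matrix.SpecialLinearGroup (Fin 2) F) : Matrix (Fin 2) (Fin 2) F))).trace := by
        rw [← Matrix.SpecialLinearGroup.coe_mul c, mul_inv_cancel, Matrix.SpecialLinearGroup.coe_one,
          Matrix.mul_one]
    _ = ((c : Matrix (Fin 2) (Fin 2) F) * (g : Matrix (Fin 2) (Fin 2) F) *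
          ((c⁻¹ : Matrix.SpecialLinearGroup (Fin 2) F) : Matrix (Fin 2) (Fin 2) F)).trace := by
        rw [← Matrix.mul_assoc, h2]
    _ = (g : Matrix (Fin 2) (Fin 2) F).trace := by
        rw [Matrix.trace_mul_comm, ← Matrix.mul_assoc, h3, Matrix.one_mul]

theorem sl2_trace_eq_of_isConj {g h : Matrix.SpecialLinearGroup (Fin 2) F} (hc : IsConj g h) :
    (g : Matrix (Fin 2) (Fin 2) F).trace = (h : Matrix (Fin 2) (Fin 2) F).trace := by
  obtain ⟨c, rfl⟩ := isConj_iff.mp hc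
  exact (sl2_trace_conj g c).symm

/-- `GL₂`-conjugacy of non-scalar elements of `SL₂` with the same trace -/
theorem toGL_isConj_of_trace_eq (g h : Matrix.SpecialLinearGroup (Fin 2) F)
    (hg : ¬ IsScalar2 (g : Matrix (Fin 2) (Fin 2) F)) (hh : ¬ IsScalar2 (h : Matrix (Fin 2) (Fin 2) F))
    (ht : (g : Matrix (Fin 2) (Fin 2) F).trace = (h : Matrix (Fin 2) (Fin 2) F).trace) :
    IsConj (Matrix.SpecialLinearGroup.toGL g) (Matrix.SpecialLinearGroup.toGL h) := by
  apply gl2_isConj_of_trace_det _ _ hg hh ht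
  change (g : Matrix (Fin 2) (Fin 2) F).det = (h : Matrix (Fin 2) (Fin 2) F).det
  rw [g.2, h.2]

end Cfsg.Agent.Lib.Helper4
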