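import Mathlib
import Cfsg.Agent.Lib.Helper4.GL2

set_option autoImplicit false

namespace Cfsg.Agent.Lib.Helper4

open Matrix

variable {F : Type*} [Field F]

theorem gl2_of_orderOf_eq_char (p : ℕ) [Fact p.Prime] [CharP F p]
    (g : Matrix.GeneralLinearGroup (Fin 2) F) (hg : orderOf g = p) :
    ¬ IsScalar2 (g : Matrix (Fin 2) (Fin 2) F) ∧ (g : Matrix (Fin 2) (Fin 2) F).trace = 2 ∧
      (g : Matrix (Fin 2) (Fin 2) F).det = 1 := by
  have hpp : p.Prime := Fact.out
  have h1 : (g : Matrix (Fin 2) (Fin 2) F) ^ p = 1 := by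
    rw [← Units.val_pow_eq_pow_val, ← hg, pow_orderOf_eq_one]; rfl
  obtain ⟨ht, hd, hs⟩ := trace_det_of_pow_char_eq_one p _ h1
  refine ⟨?_, ht, hd⟩
  intro hsc
  have : g = 1 := Units.ext (hs hsc)
  rw [this, orderOf_one] at hg
  exact hpp.one_lt.ne hg

/-- in characteristic `p`, all elements of order `p` of `GL₂` are conjugate -/
theorem gl2_isConj_of_orderOf_eq_char (p : ℕ) [Fact p.Prime] [CharP F p]
    (g h : Matrix.GeneralLinearGroup (Fin 2) F)
    (hg : orderOf g = p) (hh : orderOf h = p) : IsConj g h := by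
  obtain ⟨a1, a2, a3⟩ := gl2_of_orderOf_eq_char p g hg
  obtain ⟨b1, b2, b3⟩ := gl2_of_orderOf_eq_char p h hh
  exact gl2_isConj_of_trace_det g h a1 b1 (a2.trans b2.symm) (a3.trans b3.symm)

end Cfsg.Agent.Lib.Helper4
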