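import Mathlib
import Cfsg.Agent.Lib.Helper4.GL2Unip
import Cfsg.Agent.Lib.Helper4.SL2

set_option autoImplicit false

namespace Cfsg.Agent.Lib.Helper4

open Matrix

variable {F : Type*} [Field F]

theorem upperU_mul (b c : F) : upperU b * upperU c = upperU (b + c) := by
  rw [sl2_ext_iff]
  simp only [Matrix.SpecialLinearGroup.coe_mul, upperU_coe, Matrix.mul_apply, Fin.sum_univ_two,
    Matrix.of_apply, Matrix.cons_val', Matrix.cons_val_zero, Matrix.cons_val_one,
    Matrix.cons_val_fin_one]
  refine ⟨by ring, by ring, by ring, by ring⟩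

theorem upperU_zero : upperU (0 : F) = 1 := by
  rw [sl2_ext_iff]
  simp [upperU_coe]

theorem upperU_pow (b : F) (n : ℕ) : upperU b ^ n = upperU (n * b) := by
  induction n with
  | zero => simp [upperU_zero]
  | succ n ih => rw [pow_succ, ih, upperU_mul]; congr 1; push_cast; ring

theorem upperU_injective : Function.Injective (upperU : F → Matrix.SpecialLinearGroup (Fin 2) F) := by
  intro b c h
  have := ((sl2_ext_iff _ _).mp h).2.1
  simpa [upperU_coe] using this

theorem orderOf_upperU (p : ℕ) [Fact p.Prime] [CharP F p] (b : F) (hb : b ≠ 0) :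
    orderOf (upperU b) = p := by
  apply orderOf_eq_prime
  · rw [upperU_pow, CharP.cast_eq_zero, zero_mul, upperU_zero]
  · intro h
    rw [← upperU_zero] at h
    exact hb (upperU_injective h)

theorem eq_upperU_of_entries (g : Matrix.SpecialLinearGroup (Fin 2) F)
    (h00 : g 0 0 = 1) (h11 : g 1 1 = 1) (h10 : g 1 0 = 0) : g = upperU (g 0 1) := by
  rw [sl2_ext_iff]
  exact ⟨h00, rfl, h10, h11⟩

/-- conjugacy of upper unitriangular elements in `SL₂` -/
theorem upperU_isConj_iff (b b' : F) (hb : b ≠ 0) (hb' : b' ≠ 0) :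
    IsConj (upperU b) (upperU b') ↔ IsSquare (b * b') := by
  constructor
  · intro h
    obtain ⟨x, hx⟩ := isConj_iff.mp h
    rw [mul_inv_eq_iff_eq_mul, sl2_ext_iff] at hx
    simp only [Matrix.SpecialLinearGroup.coe_mul, upperU_coe, Matrix.mul_apply, Fin.sum_univ_two,
      Matrix.of_apply, Matrix.cons_val', Matrix.cons_val_zero, Matrix.cons_val_one,
      Matrix.cons_val_fin_one] at hx
    obtain ⟨h1, h2, h3, h4⟩ := hx
    have hγ : x 1 0 = 0 := by
      have : b' * x 1 0 = 0 := by linear_combination -h1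
      rcases mul_eq_zero.mp this with h | h
      · exact absurd h hb'
      · exact h
    have hd := sl2_det x
    rw [hγ] at hd
    refine ⟨x 0 0 * b, ?_⟩
    have e : x 0 0 * b = b' * x 1 1 := by linear_combination h2
    calc b * b' = b * b' * (x 0 0 * x 1 1 - x 0 1 * 0) := by rw [hd, mul_one]
      _ = (x 0 0 * b) * (b' * x 1 1) := by ring
      _ = x 0 0 * b * (x 0 0 * b) := by rw [← e]
  · rintro ⟨s, hs⟩
    have hs0 : s ≠ 0 := by
      rintro rfl
      rw [mul_zero] at hs
      exact (mul_ne_zero hb hb') hs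
    apply sl2_isConj_of_semiconj _ _ !![s / b, 0; 0, b / s]
    · rw [Matrix.det_fin_two_of]
      field_simp
      simp
    · rw [upperU_coe, upperU_coe]
      ext i j
      fin_cases i <;> fin_cases j <;> simp [Matrix.mul_apply, Fin.sum_univ_two]
      field_simp
      linear_combination -hs

/-- every element of order `p` of `SL₂` in characteristic `p` is conjugate to some `upperU b` -/
theorem exists_isConj_upperU (p : ℕ) [Fact p.Prime] [CharP F p]
    (g : Matrix.SpecialLinearGroup (Fin 2) F) (hg : orderOf g = p) :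
    ∃ b : F, b ≠ 0 ∧ IsConj g (upperU b) := by
  have h1 : IsConj (Matrix.SpecialLinearGroup.toGL g) (Matrix.SpecialLinearGroup.toGL (upperU (1 : F))) := by
    apply gl2_isConj_of_orderOf_eq_char p
    · rw [orderOf_injective _ Matrix.SpecialLinearGroup.toGL_injective, hg]
    · rw [orderOf_injective _ Matrix.SpecialLinearGroup.toGL_injective,
        orderOf_upperU p 1 one_ne_zero]
  obtain ⟨c, hc⟩ := isConj_iff.mp h1
  rw [mul_inv_eq_iff_eq_mul] at hc
  have hc' : (c : Matrix (Fin 2) (Fin 2) F) * (g : Matrix (Fin 2) (Fin 2) F) =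
      (upperU (1 : F) : Matrix (Fin 2) (Fin 2) F) * (c : Matrix (Fin 2) (Fin 2) F) :=
    congrArg Units.val hc
  have hdet : (c : Matrix (Fin 2) (Fin 2) F).det ≠ 0 := by
    have := (Matrix.isUnit_iff_isUnit_det _).mp c.isUnit
    exact this.ne_zero
  set d := (c : Matrix (Fin 2) (Fin 2) F).det with hd
  refine ⟨d⁻¹, inv_ne_zero hdet, ?_⟩
  apply sl2_isConj_of_semiconj g (upperU d⁻¹) (!![d⁻¹, 0; 0, 1] * (c : Matrix (Fin 2) (Fin 2) F))
  · rw [Matrix.det_mul, Matrix.det_fin_two_of, ← hd]
    field_simp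
    simp
  · rw [Matrix.mul_assoc, hc', ← Matrix.mul_assoc, ← Matrix.mul_assoc]
    congr 1
    rw [upperU_coe, upperU_coe]
    ext i j
    fin_cases i <;> fin_cases j <;> simp [Matrix.mul_apply, Fin.sum_univ_two]

end Cfsg.Agent.Lib.Helper4
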