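import Mathlib
import Cfsg.Agent.Lib.Helper4.DegSet
import Cfsg.Agent.Lib.Helper4.SL2Deg
import Cfsg.Agent.Lib.Helper4.SL2Values
import Cfsg.Agent.S2299
import Cfsg.Agent.S2300

/-!
# Character degrees of `SL₂(q)` and `PSL₂(q)`
-/

set_option autoImplicit false
set_option linter.unusedSimpArgs false
set_option linter.unusedVariables false
set_option linter.style.haveILetI false

namespace Cfsg.Agent.Lib.Helper4

open Cfsg.Agent.Lib.Helper6 Matrix Cfsg.Agent.S2308
open scoped ComplexConjugate MatrixGroups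

variable {F : Type*} [Field F] [Fintype F]

/-- the possible degrees of irreducible characters of `SL₂(q)` -/
theorem sl2_degree_cases {d : ℕ}
    (hd : d ∈ Cfsg.charDegrees (Matrix.SpecialLinearGroup (Fin 2) F)) :
    d = 1 ∨ d = Fintype.card F ∨ d = Fintype.card F + 1 ∨ d = Fintype.card F - 1 ∨
      2 * d = Fintype.card F + 1 ∨ 2 * d = Fintype.card F - 1 := by
  classical
  have instG : Fintype (GL (Fin 2) F) := Fintype.ofFinite _
  obtain ⟨ψ, rfl⟩ := hd
  rw [charDegree_eq_degN]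
  rcases sl2_types_degN ψ with ⟨-, h⟩ | ⟨-, h⟩ | ⟨δ, -, -, h⟩ | ⟨χ', -, -, -, h⟩ |
    ⟨α₀, ψ', -, -, -, -, -, -, -, h⟩ | ⟨χ', α₀, ψ', -, -, -, -, -, -, -, -, -, -, h⟩
  · exact Or.inl h
  · exact Or.inr (Or.inl h)
  · exact Or.inr (Or.inr (Or.inl h))
  · exact Or.inr (Or.inr (Or.inr (Or.inl h)))
  · exact Or.inr (Or.inr (Or.inr (Or.inr (Or.inl h))))
  · exact Or.inr (Or.inr (Or.inr (Or.inr (Or.inr h))))

/-- value of the principal series at a scalar matrix -/
theorem psGL2_scalar [DecidableEq F] [Fintype (GL (Fin 2) F)] (α β : MulChar F ℂ) (a : Fˣ) :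
    psGL2 α β (mkGL a a 0) = ((Fintype.card F : ℂ) + 1) * (α (a : F) * β (a : F)) := by
  rw [psGL2_mkGL, if_pos rfl]
  have : ∀ c : F, (if (a : F) * c - c * ((a : F) + 0 * c) = 0
      then α ((a : F) + 0 * c) * β ((a : F) - c * 0) else 0) = α (a : F) * β (a : F) := by
    intro c
    rw [if_pos (by ring)]
    simp
  rw [Finset.sum_congr rfl (fun c _ => this c), Finset.sum_const, Finset.card_univ, nsmul_eq_mul]
  ring

theorem stGL2_scalar [DecidableEq F] [Fintype (GL (Fin 2) F)] (α : MulChar F ℂ) (a : Fˣ) :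
    stGL2 α (mkGL a a 0) = (Fintype.card F : ℂ) * (α (a : F) * α (a : F)) := by
  unfold stGL2
  rw [Pi.sub_apply, psGL2_scalar, lamGL2_mkGL]
  ring

/-- central elements of `SL₂` are scalar -/
theorem toGL_center {z : Matrix.SpecialLinearGroup (Fin 2) F}
    (hz : z ∈ Subgroup.center (Matrix.SpecialLinearGroup (Fin 2) F)) :
    ∃ a : Fˣ, (a : F) * (a : F) = 1 ∧ Matrix.SpecialLinearGroup.toGL z = mkGL a a 0 := by
  rw [Matrix.SpecialLinearGroup.mem_center_iff] at hz
  obtain ⟨r, hr, hz⟩ := hz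
  have hr2 : r * r = 1 := by
    rw [Fintype.card_fin] at hr
    rw [← sq]; exact hr
  refine ⟨Units.mkOfMulEqOne r r hr2, hr2, ?_⟩
  rw [gl2_ext_iff]
  have hz' : (z : Matrix (Fin 2) (Fin 2) F) = Matrix.scalar (Fin 2) r := hz.symm
  simp [mkGL_coe, hz']

theorem resSL_st_center [DecidableEq F] [Fintype (GL (Fin 2) F)]
    {z : Matrix.SpecialLinearGroup (Fin 2) F}
    (hz : z ∈ Subgroup.center (Matrix.SpecialLinearGroup (Fin 2) F)) :
    resSL (stGL2 (1 : MulChar F ℂ)) z = resSL (stGL2 (1 : MulChar F ℂ)) 1 := by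
  obtain ⟨a, ha, hza⟩ := toGL_center hz
  rw [resSL_apply, hza, stGL2_scalar, resSL_one, stGL2_one, one_mulChar_unit]
  ring

theorem resSL_ps_center [DecidableEq F] [Fintype (GL (Fin 2) F)] (δ : MulChar F ℂ)
    {z : Matrix.SpecialLinearGroup (Fin 2) F} {a : Fˣ}
    (hza : Matrix.SpecialLinearGroup.toGL z = mkGL a a 0) :
    resSL (psGL2 1 δ) z = ((Fintype.card F : ℂ) + 1) * δ (a : F) := by
  rw [resSL_apply, hza, psGL2_scalar, one_mulChar_unit, one_mul]

/-- `q` is a character degree of `PSL₂(q)`. -/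
theorem card_mem_charDegrees_PSL2 :
    Fintype.card F ∈ Cfsg.charDegrees (Matrix.ProjectiveSpecialLinearGroup (Fin 2) F) := by
  classical
  have instG : Fintype (GL (Fin 2) F) := Fintype.ofFinite _
  exact mem_charDegrees_quotient (Subgroup.center (Matrix.SpecialLinearGroup (Fin 2) F))
    (isIrr_resSL_st (F := F)) (fun x hx => resSL_st_center hx) (by rw [resSL_one, stGL2_one])

theorem charDegrees_PSL2_subset :
    Cfsg.charDegrees (Matrix.ProjectiveSpecialLinearGroup (Fin 2) F) ⊆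
      Cfsg.charDegrees (Matrix.SpecialLinearGroup (Fin 2) F) :=
  charDegrees_quotient_subset _

/-- the Steinberg character is the only irreducible character of degree `q` of `SL₂(q)` -/
theorem sl2_eq_st_of_degree [DecidableEq F] [Fintype (GL (Fin 2) F)] (hq : 2 ≤ Fintype.card F)
    (ψ : Cfsg.IrrCharacter (Matrix.SpecialLinearGroup (Fin 2) F))
    (h : (ψ : Matrix.SpecialLinearGroup (Fin 2) F → ℂ) 1 = (Fintype.card F : ℂ)) :
    (ψ : Matrix.SpecialLinearGroup (Fin 2) F → ℂ) = resSL (stGL2 1) := by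
  have hd : degN ψ = Fintype.card F := (degN_eq_iff ψ _).mpr h
  rcases sl2_types_degN ψ with ⟨-, h⟩ | ⟨h, -⟩ | ⟨δ, -, -, h⟩ | ⟨χ', -, -, -, h⟩ |
    ⟨α₀, ψ', -, -, -, -, -, -, -, h⟩ | ⟨χ', α₀, ψ', -, -, -, -, -, -, -, -, -, -, h⟩
  · omega
  · exact h
  · omega
  · omega
  · omega
  · omega

/-- characters of a quotient are determined by their inflations -/
theorem eq_of_comp_mk_eq {G : Type*} [Group G] (N : Subgroup G) [N.Normal] {β β' : G ⧸ N → ℂ}
    (h : (fun g : G => β (QuotientGroup.mk g)) = fun g : G => β' (QuotientGroup.mk g)) : β = β' := by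
  funext x
  obtain ⟨g, rfl⟩ := QuotientGroup.mk_surjective x
  exact congrFun h g

/-- `PSL₂(q)` has a unique irreducible character of degree `q`. -/
theorem psl2_degree_card_unique (hq : 2 ≤ Fintype.card F)
    (χ χ' : Cfsg.IrrCharacter (Matrix.ProjectiveSpecialLinearGroup (Fin 2) F))
    (h : Cfsg.charDegree (χ : Matrix.ProjectiveSpecialLinearGroup (Fin 2) F → ℂ) = Fintype.card F)
    (h' : Cfsg.charDegree (χ' : Matrix.ProjectiveSpecialLinearGroup (Fin 2) F → ℂ) = Fintype.card F) :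
    χ = χ' := by
  classical
  have instG : Fintype (GL (Fin 2) F) := Fintype.ofFinite _
  have instS : Fintype (Matrix.SpecialLinearGroup (Fin 2) F) := Fintype.ofFinite _
  let N := Subgroup.center (Matrix.SpecialLinearGroup (Fin 2) F)
  have h1 := sl2_eq_st_of_degree hq ⟨_, IsIrrCharacter.comp_mk N χ.2⟩
    (by
      show (χ : Matrix.ProjectiveSpecialLinearGroup (Fin 2) F → ℂ) (QuotientGroup.mk 1) = _
      rw [QuotientGroup.mk_one, apply_one_eq_charDegree, h])
  have h2 := sl2_eq_st_of_degree hq ⟨_, IsIrrCharacter.comp_mk N χ'.2⟩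
    (by
      show (χ' : Matrix.ProjectiveSpecialLinearGroup (Fin 2) F → ℂ) (QuotientGroup.mk 1) = _
      rw [QuotientGroup.mk_one, apply_one_eq_charDegree, h'])
  apply Subtype.ext
  apply eq_of_comp_mk_eq N
  exact h1.trans h2.symm

end Cfsg.Agent.Lib.Helper4
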