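import Mathlib
import Cfsg.Agent.Lib.Helper4.PSL2Deg

/-!
# The character degree graph of `SL₂(q)` and `PSL₂(q)`: arithmetic part
-/

set_option autoImplicit false
set_option linter.unusedSimpArgs false
set_option linter.unusedVariables false
set_option linter.style.haveILetI false

namespace Cfsg.Agent.Lib.Helper4

universe u

theorem q_mul_eq (q : ℕ) (hq : 1 ≤ q) : q * (q ^ 2 - 1) = q * ((q - 1) * (q + 1)) := by
  congr 1
  obtain ⟨k, rfl⟩ := Nat.exists_eq_add_of_le hq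
  have : (1 + k) ^ 2 - 1 = (1 + k - 1) * (1 + k + 1) := by
    rw [Nat.add_sub_cancel_left]
    have : (1 + k) ^ 2 = k * (1 + k + 1) + 1 := by ring
    rw [this, Nat.add_sub_cancel]
  exact this

theorem sq_sub_one_eq (q : ℕ) (hq : 1 ≤ q) : q ^ 2 - 1 = (q - 1) * (q + 1) := by
  obtain ⟨k, rfl⟩ := Nat.exists_eq_add_of_le hq
  rw [Nat.add_sub_cancel_left]
  have : (1 + k) ^ 2 = k * (1 + k + 1) + 1 := by ring
  rw [this, Nat.add_sub_cancel]

/-- vertex set of the degree graph, from the degree set -/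
theorem degreePrimes_eq_of_degrees {S : Type u} [Group S] (q : ℕ) (hq : 1 ≤ q)
    (H1 : ∀ d ∈ Cfsg.charDegrees S, d = 1 ∨ d = q ∨ d = q + 1 ∨ d = q - 1 ∨
      2 * d = q + 1 ∨ 2 * d = q - 1)
    (Hq : q ∈ Cfsg.charDegrees S) (Hp : q + 1 ∈ Cfsg.charDegrees S)
    (Hm : q - 1 ∈ Cfsg.charDegrees S) :
    Cfsg.degreePrimes S = {r : ℕ | r.Prime ∧ r ∣ q * (q ^ 2 - 1)} := by
  ext r
  simp only [Cfsg.degreePrimes, Set.mem_ofPred_eq]
  rw [q_mul_eq q hq]
  constructor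
  · rintro ⟨hr, d, hd, hrd⟩
    refine ⟨hr, ?_⟩
    rcases H1 d hd with h | h | h | h | h | h
    · rw [h] at hrd
      exact absurd (Nat.dvd_one.mp hrd) hr.one_lt.ne'
    · rw [h] at hrd; exact Dvd.dvd.mul_right hrd _
    · rw [h] at hrd
      exact Dvd.dvd.mul_left (Dvd.dvd.mul_left hrd _) _
    · rw [h] at hrd
      exact Dvd.dvd.mul_left (Dvd.dvd.mul_right hrd _) _
    · have : r ∣ q + 1 := by rw [← h]; exact Dvd.dvd.mul_left hrd 2
      exact Dvd.dvd.mul_left (Dvd.dvd.mul_left this _) _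
    · have : r ∣ q - 1 := by rw [← h]; exact Dvd.dvd.mul_left hrd 2
      exact Dvd.dvd.mul_left (Dvd.dvd.mul_right this _) _
  · rintro ⟨hr, hrd⟩
    refine ⟨hr, ?_⟩
    rcases (hr.dvd_mul).mp hrd with h | h
    · exact ⟨q, Hq, h⟩
    · rcases (hr.dvd_mul).mp h with h | h
      · exact ⟨q - 1, Hm, h⟩
      · exact ⟨q + 1, Hp, h⟩

theorem mul_dvd_of_primes {r s n : ℕ} (hr : r.Prime) (hs : s.Prime) (hrs : r ≠ s)
    (h1 : r ∣ n) (h2 : s ∣ n) : r * s ∣ n :=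
  Nat.Coprime.mul_dvd_of_dvd_of_dvd ((Nat.coprime_primes hr hs).mpr hrs) h1 h2

theorem not_mul_dvd_prime_pow {r s t n : ℕ} (hr : r.Prime) (hs : s.Prime) (ht : t.Prime)
    (hrs : r ≠ s) (h : r * s ∣ t ^ n) : False := by
  have h1 : r ∣ t ^ n := Dvd.dvd.trans (Dvd.intro _ rfl) h
  have h2 : s ∣ t ^ n := Dvd.dvd.trans (Dvd.intro_left _ rfl) h
  have h3 := (Nat.prime_dvd_prime_iff_eq hr ht).mp (hr.dvd_of_dvd_pow h1)
  have h4 := (Nat.prime_dvd_prime_iff_eq hs ht).mp (hs.dvd_of_dvd_pow h2)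
  exact hrs (h3.trans h4.symm)

/-- adjacency in the degree graph, even characteristic -/
theorem adj_iff_even {S : Type u} [Group S] (q n : ℕ) (hqn : q = 2 ^ n)
    (H1 : ∀ d ∈ Cfsg.charDegrees S, d = 1 ∨ d = q ∨ d = q + 1 ∨ d = q - 1)
    (Hp : q + 1 ∈ Cfsg.charDegrees S) (Hm : q - 1 ∈ Cfsg.charDegrees S) (r s : ℕ) :
    (Cfsg.degreeGraph S).Adj r s ↔ (r ≠ s ∧ r.Prime ∧ s.Prime ∧
      ((r ∣ q + 1 ∧ s ∣ q + 1) ∨ (r ∣ q - 1 ∧ s ∣ q - 1))) := by
  simp only [Cfsg.degreeGraph]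
  constructor
  · rintro ⟨hrs, hr, hs, d, hd, hrsd⟩
    refine ⟨hrs, hr, hs, ?_⟩
    have h1 : r ∣ d := Dvd.dvd.trans (Dvd.intro _ rfl) hrsd
    have h2 : s ∣ d := Dvd.dvd.trans (Dvd.intro_left _ rfl) hrsd
    rcases H1 d hd with h | h | h | h
    · rw [h] at h1
      exact absurd (Nat.dvd_one.mp h1) hr.one_lt.ne'
    · exfalso
      rw [h, hqn] at hrsd
      exact not_mul_dvd_prime_pow hr hs Nat.prime_two hrs hrsd
    · left; rw [h] at h1 h2; exact ⟨h1, h2⟩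
    · right; rw [h] at h1 h2; exact ⟨h1, h2⟩
  · rintro ⟨hrs, hr, hs, ⟨h1, h2⟩ | ⟨h1, h2⟩⟩
    · exact ⟨hrs, hr, hs, q + 1, Hp, mul_dvd_of_primes hr hs hrs h1 h2⟩
    · exact ⟨hrs, hr, hs, q - 1, Hm, mul_dvd_of_primes hr hs hrs h1 h2⟩

section even

open Cfsg.Agent.Lib.Helper6 Matrix Cfsg.Agent.S2308
open scoped MatrixGroups

variable {F : Type*} [Field F] [Fintype F]

theorem exists_of_card_pos {α : Type*} {P : α → Prop} (h : 1 ≤ Nat.card {x : α // P x}) :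
    ∃ x, P x := by
  have : Nonempty {x : α // P x} := by
    by_contra hne
    rw [not_nonempty_iff] at hne
    rw [Nat.card_of_isEmpty] at h
    omega
  obtain ⟨x, hx⟩ := this
  exact ⟨x, hx⟩

theorem even_card_of_charP [CharP F 2] : Even (Fintype.card F) := by
  rw [Nat.even_iff]
  exact FiniteField.even_card_iff_char_two.mp (ringChar.eq F 2)

theorem sl2_even_degree_cases [CharP F 2] {d : ℕ}
    (hd : d ∈ Cfsg.charDegrees (Matrix.SpecialLinearGroup (Fin 2) F)) :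
    d = 1 ∨ d = Fintype.card F ∨ d = Fintype.card F + 1 ∨ d = Fintype.card F - 1 := by
  obtain ⟨k, hk⟩ := even_card_of_charP (F := F)
  have hq1 : 1 ≤ Fintype.card F := Fintype.card_pos
  rcases sl2_degree_cases hd with h | h | h | h | h | h
  · exact Or.inl h
  · exact Or.inr (Or.inl h)
  · exact Or.inr (Or.inr (Or.inl h))
  · exact Or.inr (Or.inr (Or.inr h))
  · omega
  · omega

theorem sl2_even_mem [CharP F 2] (hq : 4 ≤ Fintype.card F) :
    Fintype.card F ∈ Cfsg.charDegrees (Matrix.SpecialLinearGroup (Fin 2) F) ∧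
    Fintype.card F + 1 ∈ Cfsg.charDegrees (Matrix.SpecialLinearGroup (Fin 2) F) ∧
    Fintype.card F - 1 ∈ Cfsg.charDegrees (Matrix.SpecialLinearGroup (Fin 2) F) := by
  obtain ⟨-, h2, h3, h4⟩ := (Cfsg.Agent.S2300.result (F := F)).2 hq
  have hq1 : 1 ≤ Fintype.card F := by omega
  refine ⟨?_, ?_, ?_⟩
  · obtain ⟨ψ, hψ⟩ := exists_of_card_pos (by rw [h2])
    exact (mem_charDegrees_iff _).mpr ⟨ψ.1, ψ.2, hψ⟩
  · obtain ⟨ψ, hψ⟩ := exists_of_card_pos (by rw [h3]; omega)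
    exact (mem_charDegrees_iff _).mpr ⟨ψ.1, ψ.2, by rw [hψ]; push_cast; ring⟩
  · obtain ⟨ψ, hψ⟩ := exists_of_card_pos (by rw [h4]; omega)
    exact (mem_charDegrees_iff _).mpr ⟨ψ.1, ψ.2, by rw [hψ, Nat.cast_sub hq1]; push_cast; ring⟩

/-- In characteristic 2 the centre of `SL₂` is trivial. -/
theorem center_SL2_eq_bot [CharP F 2] :
    Subgroup.center (Matrix.SpecialLinearGroup (Fin 2) F) = ⊥ := by
  rw [Subgroup.eq_bot_iff_forall]
  intro z hz
  rw [Matrix.SpecialLinearGroup.mem_center_iff] at hz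
  obtain ⟨r, hr, hz⟩ := hz
  rw [Fintype.card_fin] at hr
  have h2 : (2 : F) = 0 := by
    have := CharP.cast_eq_zero F 2
    exact_mod_cast this
  have hr1 : r = 1 := by
    have : (r - 1) ^ 2 = 0 := by
      have : (r - 1) ^ 2 = r ^ 2 - 2 * r + 1 := by ring
      rw [this, hr, h2, zero_mul, sub_zero]
      have : (1 : F) + 1 = 2 := by norm_num
      rw [this, h2]
    have := pow_eq_zero_iff (two_ne_zero) |>.mp this
    exact sub_eq_zero.mp this
  apply Subtype.ext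
  rw [← hz, hr1]
  simp

theorem charDegrees_PSL2_even [CharP F 2] :
    Cfsg.charDegrees (Matrix.ProjectiveSpecialLinearGroup (Fin 2) F) =
      Cfsg.charDegrees (Matrix.SpecialLinearGroup (Fin 2) F) := by
  apply Set.Subset.antisymm charDegrees_PSL2_subset
  intro d hd
  rw [mem_charDegrees_iff] at hd
  obtain ⟨χ, hχ, h⟩ := hd
  refine mem_charDegrees_quotient _ hχ ?_ h
  intro x hx
  rw [center_SL2_eq_bot, Subgroup.mem_bot] at hx
  rw [hx]

end even

end Cfsg.Agent.Lib.Helper4
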