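import Mathlib
import Cfsg.Agent.Lib.Helper4.PSL2Graph
import Cfsg.Agent.Lib.Helper4.SLCard
import Cfsg.Agent.Lib.Helper4.MulCharDual

/-!
# Character degrees of `PSL₂(q)`, `q` odd: existence of the degrees `q + 1` and `q - 1`
-/

set_option autoImplicit false
set_option linter.unusedSimpArgs false
set_option linter.unusedVariables false
set_option linter.style.haveILetI false

namespace Cfsg.Agent.Lib.Helper4

open Cfsg.Agent.Lib.Helper6 Matrix Cfsg.Agent.S2308
open scoped ComplexConjugate MatrixGroups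

section general

variable {G : Type*} [Group G] [Finite G]

/-- Counting irreducible characters of a quotient by degree: at most as many as for the group. -/
theorem card_irr_quot_le (N : Subgroup G) [N.Normal] (P : ℂ → Prop) :
    Nat.card {β : Cfsg.IrrCharacter (G ⧸ N) // P ((β : G ⧸ N → ℂ) 1)} ≤
      Nat.card {ψ : Cfsg.IrrCharacter G // P ((ψ : G → ℂ) 1) ∧ ∀ x ∈ N, (ψ : G → ℂ) x = (ψ : G → ℂ) 1} := by
  have : Fintype G := Fintype.ofFinite G
  apply Nat.card_le_card_of_injective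
    (fun β : {β : Cfsg.IrrCharacter (G ⧸ N) // P ((β : G ⧸ N → ℂ) 1)} =>
      (⟨⟨fun g => (β.1 : G ⧸ N → ℂ) (QuotientGroup.mk g), IsIrrCharacter.comp_mk N β.1.2⟩, by
        constructor
        · show P ((β.1 : G ⧸ N → ℂ) (QuotientGroup.mk 1))
          rw [QuotientGroup.mk_one]; exact β.2
        · intro x hx
          show (β.1 : G ⧸ N → ℂ) (QuotientGroup.mk x) = (β.1 : G ⧸ N → ℂ) (QuotientGroup.mk 1)
          rw [(QuotientGroup.eq_one_iff x).mpr hx, QuotientGroup.mk_one]⟩ :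
        {ψ : Cfsg.IrrCharacter G // P ((ψ : G → ℂ) 1) ∧
          ∀ x ∈ N, (ψ : G → ℂ) x = (ψ : G → ℂ) 1}))
  intro β β' h
  apply Subtype.ext
  apply Subtype.ext
  apply eq_of_comp_mk_eq N
  have := congrArg (fun ψ : {ψ : Cfsg.IrrCharacter G // P ((ψ : G → ℂ) 1) ∧
      ∀ x ∈ N, (ψ : G → ℂ) x = (ψ : G → ℂ) 1} => (ψ.1 : G → ℂ)) h
  exact this

theorem card_subtype_le_of_imp {α : Type*} [Finite α] {P Q : α → Prop} (h : ∀ a, P a → Q a) :
    Nat.card {a // P a} ≤ Nat.card {a // Q a} :=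
  Nat.card_le_card_of_injective (fun a : {a // P a} => (⟨a.1, h a.1 a.2⟩ : {a // Q a}))
    (fun a b hab => Subtype.ext (by
      have := congrArg (fun x : {a // Q a} => x.1) hab
      exact this))

end general

section mulchar

variable {F : Type*} [Field F] [Fintype F]

theorem neg_one_ne_one_of_odd (hodd : Odd (Fintype.card F)) : (-1 : F) ≠ 1 := by
  intro h
  have h2 : (2 : F) = 0 := by
    have : (1 : F) + 1 = 0 := by nth_rewrite 1 [← h]; ring
    rw [← this]; norm_num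
  have hchar : ringChar F = 2 := by
    have h3 : ((2 : ℕ) : F) = 0 := by exact_mod_cast h2
    have h4 := (ringChar.spec F 2).mp h3
    have h5 : ringChar F ≠ 1 := by
      intro h1
      haveI := ringChar.charP F
      rw [h1] at this
      exact CharP.false_of_nontrivial_of_char_one (R := F)
    rcases (Nat.dvd_prime Nat.prime_two).mp h4 with h6 | h6
    · exact absurd h6 h5
    · exact h6
  have := FiniteField.even_card_iff_char_two.mp hchar
  rw [Nat.odd_iff] at hodd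
  omega

/-- the subgroup of multiplicative characters trivial at `-1` -/
def evenChars (F : Type*) [Field F] [Fintype F] : Subgroup (MulChar F ℂ) where
  carrier := {δ | δ (-1 : F) = 1}
  one_mem' := by
    show (1 : MulChar F ℂ) (-1 : F) = 1
    exact MulChar.one_apply (isUnit_one.neg)
  mul_mem' := by
    intro a b ha hb
    show (a * b) (-1 : F) = 1
    rw [MulChar.mul_apply, ha, hb, one_mul]
  inv_mem' := by
    intro a ha
    show a⁻¹ (-1 : F) = 1
    rw [MulChar.inv_apply, Ring.inverse_eq_inv', inv_neg, inv_one]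
    exact ha

theorem mem_evenChars (δ : MulChar F ℂ) : δ ∈ evenChars F ↔ δ (-1 : F) = 1 := Iff.rfl

theorem two_mul_card_evenChars_le (hodd : Odd (Fintype.card F)) :
    2 * Nat.card (evenChars F) ≤ Fintype.card F - 1 := by
  obtain ⟨γ, hγ⟩ := MulChar.exists_apply_ne_one_of_hasEnoughRootsOfUnity F ℂ
    (neg_one_ne_one_of_odd hodd)
  have hne : evenChars F ≠ ⊤ := by
    intro h
    have : γ ∈ evenChars F := by rw [h]; trivial
    exact hγ this
  have h1 := Subgroup.card_mul_index (evenChars F)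
  rw [card_mulChar] at h1
  have h2 : (evenChars F).index ≠ 1 := fun h => hne (Subgroup.index_eq_one.mp h)
  have h3 : (evenChars F).index ≠ 0 := Subgroup.index_ne_zero_of_finite
  have h4 : 2 ≤ (evenChars F).index := by omega
  calc 2 * Nat.card (evenChars F) = Nat.card (evenChars F) * 2 := by ring
    _ ≤ Nat.card (evenChars F) * (evenChars F).index := Nat.mul_le_mul_left _ h4
    _ = Fintype.card F - 1 := h1

theorem exists_even_char (hodd : Odd (Fintype.card F)) (hq : 7 ≤ Fintype.card F) :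
    ∃ δ : MulChar F ℂ, δ ^ 2 ≠ 1 ∧ δ (-1 : F) = 1 := by
  have hn : Fintype.card F - 1 ≠ 0 := by omega
  obtain ⟨γ, hγ⟩ := MulChar.exists_mulChar_orderOf F (dvd_refl (Fintype.card F - 1))
    (Complex.isPrimitiveRoot_exp _ hn)
  refine ⟨γ ^ 2, ?_, ?_⟩
  · intro h
    rw [← pow_mul] at h
    have := orderOf_dvd_of_pow_eq_one h
    rw [hγ] at this
    have := Nat.le_of_dvd (by norm_num) this
    omega
  · rw [MulChar.pow_apply' _ (by norm_num), ← map_pow]
    simp

end mulchar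

section psl

variable {F : Type*} [Field F] [Fintype F]

/-- central elements of `SL₂` are `±1` -/
theorem center_scalar_cases {z : Matrix.SpecialLinearGroup (Fin 2) F}
    (hz : z ∈ Subgroup.center (Matrix.SpecialLinearGroup (Fin 2) F)) :
    ∃ a : Fˣ, ((a : F) = 1 ∨ (a : F) = -1) ∧ Matrix.SpecialLinearGroup.toGL z = mkGL a a 0 := by
  obtain ⟨a, ha, hza⟩ := toGL_center hz
  refine ⟨a, ?_, hza⟩
  have : ((a : F) - 1) * ((a : F) + 1) = 0 := by linear_combination ha
  rcases mul_eq_zero.mp this with h | h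
  · left; exact sub_eq_zero.mp h
  · right; exact eq_neg_of_add_eq_zero_left h

/-- the element `-1` of `SL₂` -/
def negOneSL (F : Type*) [Field F] : Matrix.SpecialLinearGroup (Fin 2) F :=
  ⟨Matrix.scalar (Fin 2) (-1 : F), by simp [Matrix.det_fin_two]⟩

theorem negOneSL_mem_center :
    negOneSL F ∈ Subgroup.center (Matrix.SpecialLinearGroup (Fin 2) F) := by
  rw [Matrix.SpecialLinearGroup.mem_center_iff]
  exact ⟨-1, by simp, rfl⟩

theorem toGL_negOneSL : Matrix.SpecialLinearGroup.toGL (negOneSL F) = mkGL (-1) (-1) 0 := by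
  rw [gl2_ext_iff]
  have h : ((negOneSL F : Matrix.SpecialLinearGroup (Fin 2) F) : Matrix (Fin 2) (Fin 2) F) =
      Matrix.scalar (Fin 2) (-1 : F) := rfl
  simp [mkGL_coe, h]

theorem resSL_ps_even_center [DecidableEq F] [Fintype (GL (Fin 2) F)] {δ : MulChar F ℂ}
    (hδ : δ (-1 : F) = 1) {z : Matrix.SpecialLinearGroup (Fin 2) F}
    (hz : z ∈ Subgroup.center (Matrix.SpecialLinearGroup (Fin 2) F)) :
    resSL (psGL2 1 δ) z = resSL (psGL2 1 δ) 1 := by
  obtain ⟨a, ha, hza⟩ := center_scalar_cases hz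
  rw [resSL_ps_center δ hza, resSL_ps_one]
  rcases ha with h | h
  · rw [h, map_one, mul_one]
  · rw [h, hδ, mul_one]

/-- `q + 1` is a character degree of `PSL₂(q)` for odd `q ≥ 7`. -/
theorem succ_mem_charDegrees_PSL2 (hodd : Odd (Fintype.card F)) (hq : 7 ≤ Fintype.card F) :
    Fintype.card F + 1 ∈ Cfsg.charDegrees (Matrix.ProjectiveSpecialLinearGroup (Fin 2) F) := by
  classical
  have instG : Fintype (GL (Fin 2) F) := Fintype.ofFinite _
  obtain ⟨δ, hδ2, hδ⟩ := exists_even_char hodd hq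
  exact mem_charDegrees_quotient (Subgroup.center (Matrix.SpecialLinearGroup (Fin 2) F))
    (isIrr_resSL_ps δ hδ2) (fun x hx => resSL_ps_even_center hδ hx)
    (by rw [resSL_ps_one]; push_cast; ring)

/-- an irreducible character of degree `q + 1` is a principal series character -/
theorem sl2_ps_of_degree [DecidableEq F] [Fintype (GL (Fin 2) F)]
    (ψ : Cfsg.IrrCharacter (Matrix.SpecialLinearGroup (Fin 2) F))
    (h : (ψ : Matrix.SpecialLinearGroup (Fin 2) F → ℂ) 1 = (Fintype.card F : ℂ) + 1) :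
    ∃ δ : MulChar F ℂ, δ ^ 2 ≠ 1 ∧
      (ψ : Matrix.SpecialLinearGroup (Fin 2) F → ℂ) = resSL (psGL2 1 δ) := by
  have hq1 : 2 ≤ Fintype.card F := Fintype.one_lt_card
  have hd : degN ψ = Fintype.card F + 1 := by
    rw [degN_eq_iff, h]; push_cast; ring
  rcases sl2_types_degN ψ with ⟨-, h⟩ | ⟨-, h⟩ | ⟨δ, hδ, h, -⟩ | ⟨χ', -, -, -, h⟩ |
    ⟨α₀, ψ', -, -, -, -, -, -, -, h⟩ | ⟨χ', α₀, ψ', -, -, -, -, -, -, -, -, -, -, h⟩
  · omega
  · omega
  · exact ⟨δ, hδ, h⟩
  · omega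
  · omega
  · omega

end psl

section count

variable {F : Type*} [Field F] [Fintype F]

/-- principal series characters trivial on the centre, counted by even characters -/
theorem card_even_ps [DecidableEq F] [Fintype (GL (Fin 2) F)] :
    Nat.card {δ : MulChar F ℂ // δ ^ 2 ≠ 1 ∧ δ (-1 : F) = 1} =
      2 * Nat.card {ψ : Cfsg.IrrCharacter (Matrix.SpecialLinearGroup (Fin 2) F) //
        (ψ : Matrix.SpecialLinearGroup (Fin 2) F → ℂ) 1 = (Fintype.card F : ℂ) + 1 ∧
        ∀ x ∈ Subgroup.center (Matrix.SpecialLinearGroup (Fin 2) F),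
          (ψ : Matrix.SpecialLinearGroup (Fin 2) F → ℂ) x =
            (ψ : Matrix.SpecialLinearGroup (Fin 2) F → ℂ) 1} := by
  classical
  have : Fintype (MulChar F ℂ) := Fintype.ofFinite _
  have : Fintype (Cfsg.IrrCharacter (Matrix.SpecialLinearGroup (Fin 2) F)) := Fintype.ofFinite _
  rw [Nat.card_eq_fintype_card, Nat.card_eq_fintype_card]
  apply card_eq_two_mul_of_fibers
    (fun δ : {δ : MulChar F ℂ // δ ^ 2 ≠ 1 ∧ δ (-1 : F) = 1} =>
      (⟨⟨resSL (psGL2 1 δ.1), isIrr_resSL_ps δ.1 δ.2.1⟩, resSL_ps_one 1 δ.1,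
        fun x hx => resSL_ps_even_center δ.2.2 hx⟩ :
        {ψ : Cfsg.IrrCharacter (Matrix.SpecialLinearGroup (Fin 2) F) //
        (ψ : Matrix.SpecialLinearGroup (Fin 2) F → ℂ) 1 = (Fintype.card F : ℂ) + 1 ∧
        ∀ x ∈ Subgroup.center (Matrix.SpecialLinearGroup (Fin 2) F),
          (ψ : Matrix.SpecialLinearGroup (Fin 2) F → ℂ) x =
            (ψ : Matrix.SpecialLinearGroup (Fin 2) F → ℂ) 1}))
    ?_ (fun δ => ⟨δ.1⁻¹, by rw [inv_pow]; intro h; exact δ.2.1 (inv_eq_one.mp h),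
      (evenChars F).inv_mem δ.2.2⟩) ?_ ?_
  · rintro ⟨ψ, hdeg, hker⟩
    obtain ⟨δ, hδ, h⟩ := sl2_ps_of_degree ψ hdeg
    have h1 := hker _ (negOneSL_mem_center (F := F))
    rw [h, resSL_ps_center δ toGL_negOneSL, resSL_ps_one] at h1
    have hq0 : (Fintype.card F : ℂ) + 1 ≠ 0 := by
      have : ((Fintype.card F + 1 : ℕ) : ℂ) ≠ 0 := Nat.cast_ne_zero.mpr (by omega)
      exact_mod_cast this
    have h2 : δ (-1 : F) = 1 := by
      have h3 : δ ((-1 : Fˣ) : F) = 1 := by
        have : ((Fintype.card F : ℂ) + 1) * δ ((-1 : Fˣ) : F) = ((Fintype.card F : ℂ) + 1) * 1 := by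
          rw [h1, mul_one]
        exact mul_left_cancel₀ hq0 this
      simpa using h3
    refine ⟨⟨δ, hδ, h2⟩, ?_⟩
    apply Subtype.ext
    apply Subtype.ext
    exact h.symm
  · rintro ⟨δ, hδ, hδ1⟩ h
    apply hδ
    have := congrArg Subtype.val h
    simp only at this
    rw [sq]
    nth_rewrite 1 [← this]
    exact inv_mul_cancel δ
  · rintro ⟨δ, hδ, hδ1⟩ ⟨δ', hδ', hδ1'⟩
    simp only [Subtype.mk.injEq]
    exact resSL_ps_eq_iff δ δ' hδ hδ'

/-- the bound on the number of principal series characters of `PSL₂(q)` -/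
theorem four_mul_card_even_ps_le [DecidableEq F] [Fintype (GL (Fin 2) F)]
    (hodd : Odd (Fintype.card F)) :
    4 * Nat.card {ψ : Cfsg.IrrCharacter (Matrix.SpecialLinearGroup (Fin 2) F) //
        (ψ : Matrix.SpecialLinearGroup (Fin 2) F → ℂ) 1 = (Fintype.card F : ℂ) + 1 ∧
        ∀ x ∈ Subgroup.center (Matrix.SpecialLinearGroup (Fin 2) F),
          (ψ : Matrix.SpecialLinearGroup (Fin 2) F → ℂ) x =
            (ψ : Matrix.SpecialLinearGroup (Fin 2) F → ℂ) 1} + 2 ≤ Fintype.card F - 1 := by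
  classical
  have h1 := card_even_ps (F := F)
  have h2 := two_mul_card_evenChars_le hodd
  -- `S₊` injects into the non-identity elements of `evenChars`
  have h3 : Nat.card {δ : MulChar F ℂ // δ ^ 2 ≠ 1 ∧ δ (-1 : F) = 1} + 1 ≤
      Nat.card (evenChars F) := by
    have : Fintype (MulChar F ℂ) := Fintype.ofFinite _
    have hle : Nat.card {δ : MulChar F ℂ // δ ^ 2 ≠ 1 ∧ δ (-1 : F) = 1} ≤
        Nat.card {δ : evenChars F // δ ≠ 1} := by
      apply Nat.card_le_card_of_injective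
        (fun δ : {δ : MulChar F ℂ // δ ^ 2 ≠ 1 ∧ δ (-1 : F) = 1} =>
          (⟨⟨δ.1, δ.2.2⟩, by
            intro h
            apply δ.2.1
            have : δ.1 = 1 := congrArg Subtype.val h
            rw [this, one_pow]⟩ : {δ : evenChars F // δ ≠ 1}))
      intro a b hab
      apply Subtype.ext
      have := congrArg (fun x : {δ : evenChars F // δ ≠ 1} => (x.1 : MulChar F ℂ)) hab
      exact this
    have hcompl : Nat.card {δ : evenChars F // δ ≠ 1} + 1 = Nat.card (evenChars F) := by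
      have : Fintype (evenChars F) := Fintype.ofFinite _
      rw [Nat.card_eq_fintype_card, Nat.card_eq_fintype_card,
        Fintype.card_subtype_compl (fun δ : evenChars F => δ = 1), Fintype.card_subtype_eq]
      have : 1 ≤ Fintype.card (evenChars F) := Fintype.card_pos
      omega
    omega
  omega

end count

section final


theorem arith_psl (k c n1 nq np nh nl : ℕ) (hk : 3 ≤ k)
    (hc : (2 * k + 1) * ((2 * k + 1) ^ 2 - 1) ≤ 2 * c)
    (hE : c = n1 * 1 ^ 2 + (nq * (2 * k + 1) ^ 2 + (np * (2 * k + 1 + 1) ^ 2 +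
      (nh * (k + 1) ^ 2 + nl * k ^ 2))))
    (h1 : n1 ≤ 1) (hq : nq ≤ 1) (hp : 4 * np + 2 ≤ 2 * k + 1 - 1) (hh : nh ≤ 2) (hl : nl ≤ 2) :
    False := by
  obtain ⟨j, rfl⟩ : ∃ j, k = j + 3 := ⟨k - 3, by omega⟩
  have hsq : (2 * (j + 3) + 1) ^ 2 - 1 = 4 * (j + 3) ^ 2 + 4 * (j + 3) := by
    apply Nat.sub_eq_of_eq_add
    ring
  rw [hsq] at hc
  have hp' : 2 * np ≤ j + 2 := by omega
  have A : n1 * 1 ^ 2 ≤ 1 := by simpa using h1
  have B : nq * (2 * (j + 3) + 1) ^ 2 ≤ 1 * (2 * (j + 3) + 1) ^ 2 := Nat.mul_le_mul_right _ hq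
  have C : 2 * np * (2 * (j + 3) + 1 + 1) ^ 2 ≤ (j + 2) * (2 * (j + 3) + 1 + 1) ^ 2 :=
    Nat.mul_le_mul_right _ hp'
  have D : nh * (j + 3 + 1) ^ 2 ≤ 2 * (j + 3 + 1) ^ 2 := Nat.mul_le_mul_right _ hh
  have E : nl * (j + 3) ^ 2 ≤ 2 * (j + 3) ^ 2 := Nat.mul_le_mul_right _ hl
  have h2c : 2 * c ≤ 2 + 2 * (2 * (j + 3) + 1) ^ 2 + (j + 2) * (2 * (j + 3) + 1 + 1) ^ 2 +
      4 * (j + 3 + 1) ^ 2 + 4 * (j + 3) ^ 2 := by
    rw [hE]
    nlinarith [A, B, C, D, E]
  have hfin := hc.trans h2c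
  ring_nf at hfin
  nlinarith [Nat.zero_le (j ^ 3), Nat.zero_le (j ^ 2), Nat.zero_le j]

variable {F : Type*} [Field F] [Fintype F]

theorem card_center_SL2_le : Nat.card (Subgroup.center (Matrix.SpecialLinearGroup (Fin 2) F)) ≤ 2 := by
  rw [Nat.card_congr (Matrix.SpecialLinearGroup.center_equiv_rootsOfUnity' (n := Fin 2) (R := F) 0).toEquiv]
  have := card_rootsOfUnity (R := F) (k := Fintype.card (Fin 2))
  simpa using this

/-- `q - 1` is a character degree of `PSL₂(q)` for odd `q ≥ 7`. -/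
theorem pred_mem_charDegrees_PSL2 (hodd : Odd (Fintype.card F)) (hq : 7 ≤ Fintype.card F) :
    Fintype.card F - 1 ∈ Cfsg.charDegrees (Matrix.ProjectiveSpecialLinearGroup (Fin 2) F) := by
  classical
  by_contra hno
  have instG : Fintype (GL (Fin 2) F) := Fintype.ofFinite _
  have instS : Fintype (Matrix.SpecialLinearGroup (Fin 2) F) := Fintype.ofFinite _
  have instP : Fintype (Matrix.ProjectiveSpecialLinearGroup (Fin 2) F) := Fintype.ofFinite _
  have instI : Fintype (Cfsg.IrrCharacter (Matrix.ProjectiveSpecialLinearGroup (Fin 2) F)) :=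
    Fintype.ofFinite _
  have hq1 : 1 ≤ Fintype.card F := Fintype.card_pos
  have hodd' := hodd
  obtain ⟨k, hk⟩ := hodd
  have hk3 : 3 ≤ k := by omega
  have hD : ∀ β : Cfsg.IrrCharacter (Matrix.ProjectiveSpecialLinearGroup (Fin 2) F),
      degN β ∈ ({1, Fintype.card F, Fintype.card F + 1, (Fintype.card F + 1) / 2,
        (Fintype.card F - 1) / 2} : Finset ℕ) := by
    intro β
    have hmem : Cfsg.charDegree (β : Matrix.ProjectiveSpecialLinearGroup (Fin 2) F → ℂ) ∈
        Cfsg.charDegrees (Matrix.ProjectiveSpecialLinearGroup (Fin 2) F) := ⟨β, rfl⟩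
    have hmem' := charDegrees_PSL2_subset hmem
    rw [charDegree_eq_degN] at hmem hmem'
    simp only [Finset.mem_insert, Finset.mem_singleton]
    rcases sl2_degree_cases hmem' with h | h | h | h | h | h
    · exact Or.inl h
    · exact Or.inr (Or.inl h)
    · exact Or.inr (Or.inr (Or.inl h))
    · exact absurd (h ▸ hmem) hno
    · right; right; right; left; omega
    · right; right; right; right; omega
  obtain ⟨-, hE2⟩ := by_degree _ hD
  rw [Finset.sum_insert (by simp; omega), Finset.sum_insert (by simp; omega),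
    Finset.sum_insert (by simp; omega), Finset.sum_insert (by simp; omega),
    Finset.sum_singleton] at hE2
  have hS := (Cfsg.Agent.S2299.result (F := F) hodd').2 (by omega)
  obtain ⟨hN1, hNq, -, -, hNh, hNl⟩ := hS
  let N := Subgroup.center (Matrix.SpecialLinearGroup (Fin 2) F)
  -- bounds
  have b1 : Nat.card {β : Cfsg.IrrCharacter (Matrix.ProjectiveSpecialLinearGroup (Fin 2) F) //
      (β : Matrix.ProjectiveSpecialLinearGroup (Fin 2) F → ℂ) 1 = ((1 : ℕ) : ℂ)} ≤ 1 := by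
    refine (card_irr_quot_le N (fun c => c = ((1 : ℕ) : ℂ))).trans ?_
    exact (card_subtype_le_of_imp (fun ψ h => by rw [h.1]; simp)).trans_eq hN1
  have bq : Nat.card {β : Cfsg.IrrCharacter (Matrix.ProjectiveSpecialLinearGroup (Fin 2) F) //
      (β : Matrix.ProjectiveSpecialLinearGroup (Fin 2) F → ℂ) 1 = ((Fintype.card F : ℕ) : ℂ)} ≤ 1 := by
    refine (card_irr_quot_le N (fun c => c = ((Fintype.card F : ℕ) : ℂ))).trans ?_
    exact (card_subtype_le_of_imp (fun ψ h => h.1)).trans_eq hNq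
  have bh : Nat.card {β : Cfsg.IrrCharacter (Matrix.ProjectiveSpecialLinearGroup (Fin 2) F) //
      (β : Matrix.ProjectiveSpecialLinearGroup (Fin 2) F → ℂ) 1 =
        (((Fintype.card F + 1) / 2 : ℕ) : ℂ)} ≤ 2 := by
    refine (card_irr_quot_le N (fun c => c = (((Fintype.card F + 1) / 2 : ℕ) : ℂ))).trans ?_
    exact (card_subtype_le_of_imp (fun ψ h => h.1)).trans_eq hNh
  have bl : Nat.card {β : Cfsg.IrrCharacter (Matrix.ProjectiveSpecialLinearGroup (Fin 2) F) //
      (β : Matrix.ProjectiveSpecialLinearGroup (Fin 2) F → ℂ) 1 =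
        (((Fintype.card F - 1) / 2 : ℕ) : ℂ)} ≤ 2 := by
    refine (card_irr_quot_le N (fun c => c = (((Fintype.card F - 1) / 2 : ℕ) : ℂ))).trans ?_
    exact (card_subtype_le_of_imp (fun ψ h => h.1)).trans_eq hNl
  have bp : 4 * Nat.card {β : Cfsg.IrrCharacter (Matrix.ProjectiveSpecialLinearGroup (Fin 2) F) //
      (β : Matrix.ProjectiveSpecialLinearGroup (Fin 2) F → ℂ) 1 =
        ((Fintype.card F + 1 : ℕ) : ℂ)} + 2 ≤ Fintype.card F - 1 := by
    refine le_trans ?_ (four_mul_card_even_ps_le hodd')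
    have : Nat.card {β : Cfsg.IrrCharacter (Matrix.ProjectiveSpecialLinearGroup (Fin 2) F) //
        (β : Matrix.ProjectiveSpecialLinearGroup (Fin 2) F → ℂ) 1 =
          ((Fintype.card F + 1 : ℕ) : ℂ)} ≤
        Nat.card {ψ : Cfsg.IrrCharacter (Matrix.SpecialLinearGroup (Fin 2) F) //
          (ψ : Matrix.SpecialLinearGroup (Fin 2) F → ℂ) 1 = (Fintype.card F : ℂ) + 1 ∧
          ∀ x ∈ Subgroup.center (Matrix.SpecialLinearGroup (Fin 2) F),
            (ψ : Matrix.SpecialLinearGroup (Fin 2) F → ℂ) x =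
              (ψ : Matrix.SpecialLinearGroup (Fin 2) F → ℂ) 1} :=
      (card_irr_quot_le N (fun c => c = ((Fintype.card F + 1 : ℕ) : ℂ))).trans
      (card_subtype_le_of_imp (Q := fun ψ : Cfsg.IrrCharacter (Matrix.SpecialLinearGroup (Fin 2) F) =>
        (ψ : Matrix.SpecialLinearGroup (Fin 2) F → ℂ) 1 = (Fintype.card F : ℂ) + 1 ∧
        ∀ x ∈ Subgroup.center (Matrix.SpecialLinearGroup (Fin 2) F),
          (ψ : Matrix.SpecialLinearGroup (Fin 2) F → ℂ) x =
            (ψ : Matrix.SpecialLinearGroup (Fin 2) F → ℂ) 1)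
        (fun ψ h => ⟨by rw [h.1]; push_cast; ring, h.2⟩))
    omega
  -- the order
  have hcard : Fintype.card F * (Fintype.card F ^ 2 - 1) ≤
      2 * Nat.card (Matrix.ProjectiveSpecialLinearGroup (Fin 2) F) := by
    rw [← card_SL2, Subgroup.card_eq_card_quotient_mul_card_subgroup N, mul_comm]
    exact Nat.mul_le_mul_right _ card_center_SL2_le
  have e1 : (Fintype.card F + 1) / 2 = k + 1 := by omega
  have e2 : (Fintype.card F - 1) / 2 = k := by omega
  rw [e1, e2] at hE2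
  rw [e1] at bh
  rw [e2] at bl
  rw [hk] at hE2 hcard bq bp
  exact arith_psl k _ _ _ _ _ _ hk3 hcard hE2 b1 bq bp bh bl

end final

section oddgraph

universe u

/-- adjacency in the degree graph, odd characteristic -/
theorem adj_iff_odd {S : Type u} [Group S] (q t n : ℕ) (ht : t.Prime) (hqn : q = t ^ n)
    (hodd : Odd q) (hq1 : 1 ≤ q)
    (H1 : ∀ d ∈ Cfsg.charDegrees S, d = 1 ∨ d = q ∨ d = q + 1 ∨ d = q - 1 ∨
      2 * d = q + 1 ∨ 2 * d = q - 1)
    (Hp : q + 1 ∈ Cfsg.charDegrees S) (Hm : q - 1 ∈ Cfsg.charDegrees S) (r s : ℕ) :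
    (Cfsg.degreeGraph S).Adj r s ↔ (r ≠ s ∧ r.Prime ∧ s.Prime ∧ r ∣ q ^ 2 - 1 ∧ s ∣ q ^ 2 - 1 ∧
      (r = 2 ∨ s = 2 ∨ (r ∣ q + 1 ∧ s ∣ q + 1) ∨ (r ∣ q - 1 ∧ s ∣ q - 1))) := by
  simp only [Cfsg.degreeGraph]
  rw [sq_sub_one_eq q hq1]
  obtain ⟨k, hk⟩ := hodd
  have h2p : 2 ∣ q + 1 := ⟨k + 1, by omega⟩
  have h2m : 2 ∣ q - 1 := ⟨k, by omega⟩
  constructor
  · rintro ⟨hrs, hr, hs, d, hd, hrsd⟩
    have h1 : r ∣ d := Dvd.dvd.trans (Dvd.intro _ rfl) hrsd
    have h2 : s ∣ d := Dvd.dvd.trans (Dvd.intro_left _ rfl) hrsd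
    have key : (r ∣ q + 1 ∧ s ∣ q + 1) ∨ (r ∣ q - 1 ∧ s ∣ q - 1) := by
      rcases H1 d hd with h | h | h | h | h | h
      · rw [h] at h1
        exact absurd (Nat.dvd_one.mp h1) hr.one_lt.ne'
      · exfalso
        rw [h, hqn] at hrsd
        exact not_mul_dvd_prime_pow hr hs ht hrs hrsd
      · left; rw [h] at h1 h2; exact ⟨h1, h2⟩
      · right; rw [h] at h1 h2; exact ⟨h1, h2⟩
      · left
        have hd2 : d ∣ q + 1 := ⟨2, by omega⟩
        exact ⟨h1.trans hd2, h2.trans hd2⟩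
      · right
        have hd2 : d ∣ q - 1 := ⟨2, by omega⟩
        exact ⟨h1.trans hd2, h2.trans hd2⟩
    refine ⟨hrs, hr, hs, ?_, ?_, Or.inr (Or.inr key)⟩
    · rcases key with ⟨h, -⟩ | ⟨h, -⟩
      · exact Dvd.dvd.mul_left h _
      · exact Dvd.dvd.mul_right h _
    · rcases key with ⟨-, h⟩ | ⟨-, h⟩
      · exact Dvd.dvd.mul_left h _
      · exact Dvd.dvd.mul_right h _
  · rintro ⟨hrs, hr, hs, hr1, hs1, hcase⟩
    have key : (r ∣ q + 1 ∧ s ∣ q + 1) ∨ (r ∣ q - 1 ∧ s ∣ q - 1) := by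
      rcases hcase with h | h | h | h
      · subst h
        rcases (hs.dvd_mul).mp hs1 with h' | h'
        · exact Or.inr ⟨h2m, h'⟩
        · exact Or.inl ⟨h2p, h'⟩
      · subst h
        rcases (hr.dvd_mul).mp hr1 with h' | h'
        · exact Or.inr ⟨h', h2m⟩
        · exact Or.inl ⟨h', h2p⟩
      · exact Or.inl h
      · exact Or.inr h
    rcases key with ⟨h1, h2⟩ | ⟨h1, h2⟩
    · exact ⟨hrs, hr, hs, q + 1, Hp, mul_dvd_of_primes hr hs hrs h1 h2⟩
    · exact ⟨hrs, hr, hs, q - 1, Hm, mul_dvd_of_primes hr hs hrs h1 h2⟩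

variable {F : Type*} [Field F] [Fintype F]

theorem sl2_odd_mem (hodd : Odd (Fintype.card F)) (hq : 5 ≤ Fintype.card F) :
    Fintype.card F ∈ Cfsg.charDegrees (Matrix.SpecialLinearGroup (Fin 2) F) ∧
    Fintype.card F + 1 ∈ Cfsg.charDegrees (Matrix.SpecialLinearGroup (Fin 2) F) ∧
    Fintype.card F - 1 ∈ Cfsg.charDegrees (Matrix.SpecialLinearGroup (Fin 2) F) := by
  obtain ⟨-, h2, h3, h4, -, -⟩ := (Cfsg.Agent.S2299.result (F := F) hodd).2 hq
  have hq1 : 1 ≤ Fintype.card F := by omega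
  obtain ⟨k, hk⟩ := hodd
  refine ⟨?_, ?_, ?_⟩
  · obtain ⟨ψ, hψ⟩ := exists_of_card_pos (by rw [h2])
    exact (mem_charDegrees_iff _).mpr ⟨ψ.1, ψ.2, hψ⟩
  · obtain ⟨ψ, hψ⟩ := exists_of_card_pos (by rw [h3]; omega)
    exact (mem_charDegrees_iff _).mpr ⟨ψ.1, ψ.2, by rw [hψ]; push_cast; ring⟩
  · obtain ⟨ψ, hψ⟩ := exists_of_card_pos (by rw [h4]; omega)
    exact (mem_charDegrees_iff _).mpr ⟨ψ.1, ψ.2, by rw [hψ, Nat.cast_sub hq1]; push_cast; ring⟩

end oddgraph

end Cfsg.Agent.Lib.Helper4
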