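import Mathlib
import Cfsg.Agent.Lib.Helper4.ConjClass

set_option autoImplicit false

namespace Cfsg.Agent.Lib.Helper4.QuotCenter

open Cfsg.Agent.Lib.Helper4

variable {G : Type*} [Group G]

theorem card_isConj_eq_index (g : G) :
    Nat.card {h : G // IsConj g h} = (Subgroup.centralizer ({g} : Set G)).index := by
  rw [← card_carrier_eq_index]
  apply Nat.card_congr
  refine Equiv.subtypeEquivRight (fun h => ?_)
  rw [ConjClasses.mem_carrier_iff_mk_eq, ConjClasses.mk_eq_mk_iff_isConj]
  exact isConj_comm

theorem ncard_isConj_eq_index (g : G) :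
    {h : G | IsConj g h}.ncard = (Subgroup.centralizer ({g} : Set G)).index := by
  rw [← card_isConj_eq_index, ← Nat.card_coe_set_eq]
  rfl

theorem eq_one_or_eq_of_card_two (Z : Subgroup G) (hcard : Nat.card Z = 2) (z : G) (hz : z ∈ Z)
    (hz1 : z ≠ 1) (w : G) (hw : w ∈ Z) : w = 1 ∨ w = z := by
  by_contra hno
  push Not at hno
  obtain ⟨y, _, hy⟩ := (Nat.card_eq_two_iff' (1 : Z)).1 hcard
  have h1 := hy ⟨z, hz⟩ (by intro h; exact hz1 (congrArg Subtype.val h))
  have h2 := hy ⟨w, hw⟩ (by intro h; exact hno.1 (congrArg Subtype.val h))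
  apply hno.2
  have := h2.trans h1.symm
  exact congrArg Subtype.val this

theorem conj_central {z : G} (hzc : ∀ y : G, z * y = y * z) (c g : G) :
    c * (z * g) * c⁻¹ = z * (c * g * c⁻¹) := by
  calc c * (z * g) * c⁻¹ = (c * z) * g * c⁻¹ := by group
    _ = (z * c) * g * c⁻¹ := by rw [hzc c]
    _ = z * (c * g * c⁻¹) := by group

theorem isConj_mk_iff (z : G) (hz : z ∈ Subgroup.center G)
    (hcard : Nat.card (Subgroup.center G) = 2) (hz1 : z ≠ 1) (g x : G) :
    IsConj (QuotientGroup.mk g : G ⧸ Subgroup.center G) (QuotientGroup.mk x) ↔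
      IsConj g x ∨ IsConj (z * g) x := by
  have hzc : ∀ y : G, z * y = y * z := fun y => ((Subgroup.mem_center_iff.1 hz) y).symm
  constructor
  · intro h
    obtain ⟨c, hc⟩ := isConj_iff.1 h
    obtain ⟨c, rfl⟩ := QuotientGroup.mk_surjective c
    rw [← QuotientGroup.mk_inv, ← QuotientGroup.mk_mul, ← QuotientGroup.mk_mul,
      QuotientGroup.eq] at hc
    rcases eq_one_or_eq_of_card_two _ hcard z hz hz1 _ hc with h1 | h1
    · left
      rw [isConj_iff]
      refine ⟨c, ?_⟩
      have : x = c * g * c⁻¹ := by
        have := congrArg (fun y => c * g * c⁻¹ * y) h1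
        simpa [mul_assoc] using this
      exact this.symm
    · right
      rw [isConj_iff]
      refine ⟨c, ?_⟩
      have h2 : x = c * g * c⁻¹ * z := by
        have := congrArg (fun y => c * g * c⁻¹ * y) h1
        simpa [mul_assoc] using this
      rw [h2, conj_central hzc, hzc]
  · rintro (h | h)
    · obtain ⟨c, rfl⟩ := isConj_iff.1 h
      rw [isConj_iff]
      exact ⟨QuotientGroup.mk c, rfl⟩
    · obtain ⟨c, rfl⟩ := isConj_iff.1 h
      rw [isConj_iff]
      refine ⟨QuotientGroup.mk c, ?_⟩
      rw [← QuotientGroup.mk_inv, ← QuotientGroup.mk_mul, ← QuotientGroup.mk_mul,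
        QuotientGroup.eq]
      have : (c * g * c⁻¹)⁻¹ * (c * (z * g) * c⁻¹) = z := by
        rw [conj_central hzc, hzc]; group
      rw [this]
      exact hz

theorem index_quot [Finite G] (z : G) (hz : z ∈ Subgroup.center G)
    (hcard : Nat.card (Subgroup.center G) = 2) (hz1 : z ≠ 1) (g : G) :
    (¬ IsConj g (z * g) →
      (Subgroup.centralizer ({(QuotientGroup.mk g : G ⧸ Subgroup.center G)} :
        Set (G ⧸ Subgroup.center G))).index = (Subgroup.centralizer ({g} : Set G)).index) ∧
    (IsConj g (z * g) →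
      2 * (Subgroup.centralizer ({(QuotientGroup.mk g : G ⧸ Subgroup.center G)} :
        Set (G ⧸ Subgroup.center G))).index = (Subgroup.centralizer ({g} : Set G)).index) := by
  have hzc : ∀ y : G, z * y = y * z := fun y => ((Subgroup.mem_center_iff.1 hz) y).symm
  set t : Set (G ⧸ Subgroup.center G) :=
    {y | IsConj (QuotientGroup.mk g : G ⧸ Subgroup.center G) y} with ht
  have h1 := QuotientGroup.card_preimage_mk (Subgroup.center G) t
  rw [hcard, Nat.card_coe_set_eq, Nat.card_coe_set_eq, ncard_isConj_eq_index] at h1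
  have hpre : (QuotientGroup.mk ⁻¹' t : Set G) = {x | IsConj g x} ∪ {x | IsConj (z * g) x} := by
    ext x
    simp only [Set.mem_preimage, Set.mem_union, Set.mem_setOf_eq, ht]
    exact isConj_mk_iff z hz hcard hz1 g x
  rw [hpre] at h1
  constructor
  · intro hnc
    have hdisj : Disjoint {x | IsConj g x} {x | IsConj (z * g) x} := by
      rw [Set.disjoint_left]
      intro x hx hx'
      exact hnc (hx.trans hx'.symm)
    have himg : {x | IsConj (z * g) x} = (fun x => z * x) '' {x | IsConj g x} := by
      ext x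
      simp only [Set.mem_setOf_eq, Set.mem_image]
      constructor
      · intro hx
        refine ⟨z⁻¹ * x, ?_, by group⟩
        obtain ⟨c, rfl⟩ := isConj_iff.1 hx
        rw [isConj_iff]
        refine ⟨c, ?_⟩
        rw [conj_central hzc]; group
      · rintro ⟨y, hy, rfl⟩
        obtain ⟨c, rfl⟩ := isConj_iff.1 hy
        rw [isConj_iff]
        refine ⟨c, ?_⟩
        exact conj_central hzc c g
    rw [Set.ncard_union_eq hdisj (Set.toFinite _) (Set.toFinite _), himg,
      Set.ncard_image_of_injective _ (mul_right_injective z), ncard_isConj_eq_index] at h1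
    omega
  · intro hc
    have : {x | IsConj g x} ∪ {x | IsConj (z * g) x} = {x | IsConj g x} := by
      ext x
      simp only [Set.mem_union, Set.mem_setOf_eq]
      constructor
      · rintro (h | h)
        · exact h
        · exact hc.trans h
      · exact fun h => Or.inl h
    rw [this, ncard_isConj_eq_index] at h1
    omega

end Cfsg.Agent.Lib.Helper4.QuotCenter
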