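import Mathlib
import Cfsg.Agent.Lib.Helper4.SL2Classes
import Cfsg.Agent.Lib.Helper4.ConjClass
import Cfsg.Agent.Lib.Helper5.OrthCard

set_option autoImplicit false

namespace Cfsg.Agent.Lib.Helper4.SL2Tr

open Matrix Cfsg.Agent.Lib.Helper4

variable {F : Type*} [Field F] [Fintype F] [DecidableEq F]

/-- number of roots of `x² - t x + 1` -/
noncomputable def R (t : F) : ℕ := Nat.card {a : F // a * (t - a) = 1}

/-- elements of trace `t` as triples -/
def trEquiv (t : F) :
    {g : Matrix.SpecialLinearGroup (Fin 2) F // (g : Matrix (Fin 2) (Fin 2) F).trace = t} ≃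
      {x : F × (F × F) // x.2.1 * x.2.2 = x.1 * (t - x.1) - 1} where
  toFun g := ⟨(g.1 0 0, (g.1 0 1, g.1 1 0)), by
    have h1 := sl2_det g.1
    have h2 := g.2
    rw [Matrix.trace_fin_two] at h2
    have h3 : g.1 1 1 = t - g.1 0 0 := by linear_combination h2
    simp only
    rw [← h3]
    linear_combination -h1⟩
  invFun x := ⟨⟨!![x.1.1, x.1.2.1; x.1.2.2, t - x.1.1], by
    rw [Matrix.det_fin_two_of]
    have := x.2
    linear_combination -this⟩, by
    simp [Matrix.trace_fin_two_of]⟩
  left_inv g := by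
    apply Subtype.ext
    rw [sl2_ext_iff]
    refine ⟨rfl, rfl, rfl, ?_⟩
    have h2 := g.2
    rw [Matrix.trace_fin_two] at h2
    change t - g.1 0 0 = g.1 1 1
    linear_combination -h2
  right_inv x := by
    apply Subtype.ext
    rfl

theorem card_trace (t : F) :
    Nat.card {g : Matrix.SpecialLinearGroup (Fin 2) F // (g : Matrix (Fin 2) (Fin 2) F).trace = t}
      = Fintype.card F * (Fintype.card F - 1) + Fintype.card F * R t := by
  rw [Nat.card_congr (trEquiv t),
    Nat.card_congr (Equiv.subtypeProdEquivSigmaSubtype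
      (fun (a : F) (p : F × F) => p.1 * p.2 = a * (t - a) - 1)), Nat.card_sigma]
  simp only [Cfsg.Agent.Lib.Helper5.OrthCard.card_mul_eq]
  rw [Finset.sum_add_distrib, Finset.sum_const, Finset.card_univ, smul_eq_mul, ← Finset.sum_filter,
    Finset.sum_const, smul_eq_mul, mul_comm _ (Fintype.card F)]
  congr 2
  rw [R, Nat.card_eq_fintype_card, Fintype.card_subtype]
  congr 1
  ext a
  simp only [Finset.mem_filter, Finset.mem_univ, true_and]
  constructor
  · intro h; exact sub_eq_zero.1 h
  · intro h; exact sub_eq_zero.2 h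

end Cfsg.Agent.Lib.Helper4.SL2Tr
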