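import Mathlib
import Cfsg.Agent.Lib.Helper4.SL2Tr1
import Cfsg.Agent.Lib.Helper4.PSL2Graph

set_option autoImplicit false

namespace Cfsg.Agent.Lib.Helper4.SL2Tr

open Matrix Cfsg.Agent.Lib.Helper4

section General

variable {F : Type*} [Field F] [Fintype F] [DecidableEq F]

theorem card_conj_eq (g : Matrix.SpecialLinearGroup (Fin 2) F) :
    (Subgroup.centralizer ({g} : Set (Matrix.SpecialLinearGroup (Fin 2) F))).index
      = Nat.card {h : Matrix.SpecialLinearGroup (Fin 2) F // IsConj g h} := by
  rw [← card_carrier_eq_index]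
  apply Nat.card_congr
  refine Equiv.subtypeEquivRight (fun h => ?_)
  rw [ConjClasses.mem_carrier_iff_mk_eq, ConjClasses.mk_eq_mk_iff_isConj]
  exact isConj_comm

theorem R_eq_zero (t : F) (h : ∀ a : F, a * (t - a) ≠ 1) : R t = 0 := by
  rw [R]
  haveI : IsEmpty {a : F // a * (t - a) = 1} := ⟨fun a => h a.1 a.2⟩
  exact Nat.card_of_isEmpty

theorem R_eq_two (t r : F) (hr : r * (t - r) = 1) (hne : r ≠ t - r) : R t = 2 := by
  rw [R, Nat.card_eq_fintype_card, Fintype.card_subtype]
  have : (Finset.univ.filter fun a : F => a * (t - a) = 1) = {r, t - r} := by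
    ext a
    simp only [Finset.mem_filter, Finset.mem_univ, true_and, Finset.mem_insert,
      Finset.mem_singleton]
    constructor
    · intro ha
      have h1 : (a - r) * (a - (t - r)) = 0 := by linear_combination hr - ha
      rcases mul_eq_zero.1 h1 with h2 | h2
      · left; exact sub_eq_zero.1 h2
      · right; exact sub_eq_zero.1 h2
    · rintro (rfl | rfl)
      · exact hr
      · linear_combination hr
  rw [this, Finset.card_pair hne]

theorem R_eq_one (t r : F) (hr : r * (t - r) = 1) (he : r = t - r) : R t = 1 := by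
  rw [R, Nat.card_eq_fintype_card, Fintype.card_subtype]
  have : (Finset.univ.filter fun a : F => a * (t - a) = 1) = {r} := by
    ext a
    simp only [Finset.mem_filter, Finset.mem_univ, true_and, Finset.mem_singleton]
    constructor
    · intro ha
      have h1 : (a - r) * (a - (t - r)) = 0 := by linear_combination hr - ha
      rcases mul_eq_zero.1 h1 with h2 | h2
      · exact sub_eq_zero.1 h2
      · rw [he]; exact sub_eq_zero.1 h2
    · rintro rfl
      exact hr
  rw [this, Finset.card_singleton]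

end General

section CharTwo

variable {F : Type*} [Field F] [Fintype F] [DecidableEq F] [CharP F 2]

theorem two_eq_zero' : (2 : F) = 0 := by
  have := CharP.cast_eq_zero F 2
  exact_mod_cast this

theorem neg_eq_self (a : F) : -a = a := by
  have h : (2 : F) = 0 := two_eq_zero'
  linear_combination -a * h

theorem isSquare_all (x : F) : IsSquare x :=
  FiniteField.isSquare_of_char_two ((ringChar.eq F 2).symm ▸ rfl) x

theorem eq_one_of_isScalar2 (g : Matrix.SpecialLinearGroup (Fin 2) F)
    (h : IsScalar2 (g : Matrix (Fin 2) (Fin 2) F)) : g = 1 := by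
  obtain ⟨h1, h2, h3⟩ := h
  have hd := sl2_det g
  have h1' : g 0 1 = 0 := h1
  have h2' : g 1 0 = 0 := h2
  have h3' : g 0 0 = g 1 1 := h3
  rw [h1', h2', ← h3'] at hd
  have h4 : (g 0 0 - 1) ^ 2 = 0 := by
    have h : (2 : F) = 0 := two_eq_zero'
    linear_combination hd + (1 - g 0 0) * h
  have h5 : g 0 0 = 1 := sub_eq_zero.1 (pow_eq_zero_iff (two_ne_zero) |>.1 h4)
  rw [sl2_ext_iff]
  refine ⟨?_, ?_, ?_, ?_⟩
  · rw [h5]; rfl
  · rw [h1']; rfl
  · rw [h2']; rfl
  · rw [← h3', h5]; rfl

theorem not_isScalar2_of_ne_one (g : Matrix.SpecialLinearGroup (Fin 2) F) (h : g ≠ 1) :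
    ¬ IsScalar2 (g : Matrix (Fin 2) (Fin 2) F) := fun hs => h (eq_one_of_isScalar2 g hs)

theorem trace_one : ((1 : Matrix.SpecialLinearGroup (Fin 2) F) : Matrix (Fin 2) (Fin 2) F).trace = 0 := by
  rw [Matrix.SpecialLinearGroup.coe_one, Matrix.trace_fin_two, Matrix.one_apply_eq,
    Matrix.one_apply_eq]
  have h : (2 : F) = 0 := two_eq_zero'
  linear_combination h

theorem isConj_iff_trace (g h : Matrix.SpecialLinearGroup (Fin 2) F) (hg : g ≠ 1) :
    IsConj g h ↔ h ≠ 1 ∧ (h : Matrix (Fin 2) (Fin 2) F).trace = (g : Matrix (Fin 2) (Fin 2) F).trace := by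
  constructor
  · intro hc
    refine ⟨?_, (sl2_trace_eq_of_isConj hc).symm⟩
    rintro rfl
    exact hg (isConj_one_left.1 hc)
  · rintro ⟨hh, ht⟩
    exact sl2_isConj_of_gl_isConj_of_sq isSquare_all g h
      (toGL_isConj_of_trace_eq g h (not_isScalar2_of_ne_one g hg) (not_isScalar2_of_ne_one h hh)
        ht.symm)

theorem index_of_trace_ne_zero (g : Matrix.SpecialLinearGroup (Fin 2) F)
    (ht : (g : Matrix (Fin 2) (Fin 2) F).trace ≠ 0) :
    (Subgroup.centralizer ({g} : Set (Matrix.SpecialLinearGroup (Fin 2) F))).index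
      = Fintype.card F * (Fintype.card F - 1)
        + Fintype.card F * R ((g : Matrix (Fin 2) (Fin 2) F).trace) := by
  have hg : g ≠ 1 := by
    rintro rfl
    exact ht trace_one
  rw [card_conj_eq, ← card_trace]
  apply Nat.card_congr
  refine Equiv.subtypeEquivRight (fun h => ?_)
  rw [isConj_iff_trace g h hg]
  constructor
  · exact fun h1 => h1.2
  · intro h1
    refine ⟨?_, h1⟩
    rintro rfl
    rw [trace_one] at h1
    exact ht h1.symm

theorem R_zero : R (0 : F) = 1 := by
  apply R_eq_one 0 1
  · have := neg_eq_self (1 : F)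
    linear_combination this
  · have := neg_eq_self (1 : F)
    linear_combination -this

theorem index_of_trace_zero (g : Matrix.SpecialLinearGroup (Fin 2) F) (hg : g ≠ 1)
    (ht : (g : Matrix (Fin 2) (Fin 2) F).trace = 0) :
    (Subgroup.centralizer ({g} : Set (Matrix.SpecialLinearGroup (Fin 2) F))).index
      = Fintype.card F ^ 2 - 1 := by
  have h1 := card_trace (0 : F)
  rw [R_zero, mul_one] at h1
  have hq : 1 ≤ Fintype.card F := Fintype.card_pos
  have h2 : Fintype.card F * (Fintype.card F - 1) + Fintype.card F = Fintype.card F ^ 2 := by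
    obtain ⟨k, hk⟩ : ∃ k, Fintype.card F = k + 1 := ⟨Fintype.card F - 1, by omega⟩
    rw [hk]; simp only [Nat.add_sub_cancel]; ring
  rw [h2] at h1
  rw [card_conj_eq, ← h1]
  -- {h // IsConj g h} = {h // tr h = 0} minus the identity
  have e : {h : Matrix.SpecialLinearGroup (Fin 2) F // IsConj g h} ≃
      {x : {h : Matrix.SpecialLinearGroup (Fin 2) F // (h : Matrix (Fin 2) (Fin 2) F).trace = 0}
        // x ≠ ⟨1, trace_one⟩} :=
    { toFun := fun h => ⟨⟨h.1, by
          have := ((isConj_iff_trace g h.1 hg).1 h.2).2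
          rw [this, ht]⟩, by
          intro h0
          have := congrArg Subtype.val h0
          exact ((isConj_iff_trace g h.1 hg).1 h.2).1 this⟩
      invFun := fun x => ⟨x.1.1, (isConj_iff_trace g x.1.1 hg).2 ⟨fun h0 => x.2 (Subtype.ext h0),
        by rw [x.1.2, ht]⟩⟩
      left_inv := fun h => rfl
      right_inv := fun x => rfl }
  rw [Nat.card_congr e]
  classical
  rw [Nat.card_eq_fintype_card, Fintype.card_subtype_compl, Fintype.card_subtype_eq,
    ← Nat.card_eq_fintype_card]

end CharTwo

end Cfsg.Agent.Lib.Helper4.SL2Tr
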