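import Mathlib
import Cfsg.Agent.Lib.Helper4.SL2Tr2
import Cfsg.Agent.Lib.Helper4.PSL2Odd
import Cfsg.Agent.Lib.Helper4.SLCard
import Cfsg.Agent.Lib.Helper4.QuotCenter

set_option autoImplicit false

namespace Cfsg.Agent.Lib.Helper4.SL2Tr

open Matrix Cfsg.Agent.Lib.Helper4

section Odd

variable {F : Type*} [Field F] [Fintype F] [DecidableEq F]

theorem two_ne_zero_of_odd (hodd : Odd (Fintype.card F)) : (2 : F) ≠ 0 := by
  intro h
  apply neg_one_ne_one_of_odd hodd
  linear_combination -h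

theorem four_ne_zero_of_odd (hodd : Odd (Fintype.card F)) : (4 : F) ≠ 0 := by
  have := two_ne_zero_of_odd hodd
  have h4 : (4 : F) = 2 * 2 := by norm_num
  rw [h4]
  exact mul_ne_zero this this

theorem negOneSL_coe : ((negOneSL F : Matrix.SpecialLinearGroup (Fin 2) F) : Matrix (Fin 2) (Fin 2) F)
    = !![-1, 0; 0, -1] := by
  change Matrix.scalar (Fin 2) (-1 : F) = _
  ext i j
  fin_cases i <;> fin_cases j <;> simp

theorem negOneSL_ne_one (hodd : Odd (Fintype.card F)) : negOneSL F ≠ 1 := by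
  intro h
  have := congrArg (fun x : Matrix.SpecialLinearGroup (Fin 2) F => (x : Matrix (Fin 2) (Fin 2) F) 0 0) h
  simp only [negOneSL_coe, Matrix.SpecialLinearGroup.coe_one] at this
  simp at this
  exact neg_one_ne_one_of_odd hodd this

theorem card_center_SL2 (hodd : Odd (Fintype.card F)) :
    Nat.card (Subgroup.center (Matrix.SpecialLinearGroup (Fin 2) F)) = 2 := by
  apply le_antisymm card_center_SL2_le
  have h1 : (⟨1, Subgroup.one_mem _⟩ : Subgroup.center (Matrix.SpecialLinearGroup (Fin 2) F))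
      ≠ ⟨negOneSL F, negOneSL_mem_center⟩ := by
    intro h
    exact negOneSL_ne_one hodd (congrArg Subtype.val h).symm
  rw [Nat.card_eq_fintype_card]
  exact Fintype.one_lt_card_iff.2 ⟨_, _, h1⟩

theorem neg_mul_coe (g : Matrix.SpecialLinearGroup (Fin 2) F) :
    ((negOneSL F * g : Matrix.SpecialLinearGroup (Fin 2) F) : Matrix (Fin 2) (Fin 2) F)
      = -(g : Matrix (Fin 2) (Fin 2) F) := by
  rw [Matrix.SpecialLinearGroup.coe_mul, negOneSL_coe]
  ext i j
  fin_cases i <;> fin_cases j <;> simp [Matrix.mul_apply, Fin.sum_univ_two]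

theorem trace_neg_mul (g : Matrix.SpecialLinearGroup (Fin 2) F) :
    ((negOneSL F * g : Matrix.SpecialLinearGroup (Fin 2) F) : Matrix (Fin 2) (Fin 2) F).trace
      = -(g : Matrix (Fin 2) (Fin 2) F).trace := by
  rw [neg_mul_coe, Matrix.trace_neg]

theorem isScalar2_neg_mul (g : Matrix.SpecialLinearGroup (Fin 2) F) :
    IsScalar2 ((negOneSL F * g : Matrix.SpecialLinearGroup (Fin 2) F) : Matrix (Fin 2) (Fin 2) F)
      ↔ IsScalar2 (g : Matrix (Fin 2) (Fin 2) F) := by
  rw [neg_mul_coe]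
  unfold IsScalar2
  simp only [Matrix.neg_apply, neg_eq_zero, neg_inj]

/-- scalar elements of `SL₂` are `±1`, so have trace `±2` -/
theorem trace_sq_of_isScalar2 (g : Matrix.SpecialLinearGroup (Fin 2) F)
    (h : IsScalar2 (g : Matrix (Fin 2) (Fin 2) F)) :
    (g : Matrix (Fin 2) (Fin 2) F).trace ^ 2 = 4 := by
  obtain ⟨h1, h2, h3⟩ := h
  have hd := sl2_det g
  have h1' : g 0 1 = 0 := h1
  have h2' : g 1 0 = 0 := h2
  have h3' : g 0 0 = g 1 1 := h3
  rw [Matrix.trace_fin_two]
  change (g 0 0 + g 1 1) ^ 2 = 4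
  rw [h1', h2', ← h3'] at hd
  rw [← h3']
  linear_combination 4 * hd

theorem eq_one_or_neg_of_isScalar2 (g : Matrix.SpecialLinearGroup (Fin 2) F)
    (h : IsScalar2 (g : Matrix (Fin 2) (Fin 2) F)) : g = 1 ∨ g = negOneSL F := by
  obtain ⟨h1, h2, h3⟩ := h
  have hd := sl2_det g
  have h1' : g 0 1 = 0 := h1
  have h2' : g 1 0 = 0 := h2
  have h3' : g 0 0 = g 1 1 := h3
  rw [h1', h2', ← h3'] at hd
  have h4 : (g 0 0 - 1) * (g 0 0 + 1) = 0 := by linear_combination hd
  rcases mul_eq_zero.1 h4 with h5 | h5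
  · left
    have h6 : g 0 0 = 1 := sub_eq_zero.1 h5
    rw [sl2_ext_iff]
    refine ⟨?_, ?_, ?_, ?_⟩
    · rw [h6]; rfl
    · rw [h1']; rfl
    · rw [h2']; rfl
    · rw [← h3', h6]; rfl
  · right
    have h6 : g 0 0 = -1 := eq_neg_of_add_eq_zero_left h5
    rw [sl2_ext_iff]
    have hc := negOneSL_coe (F := F)
    have e00 : (negOneSL F) 0 0 = (-1 : F) := by
      change ((negOneSL F : Matrix.SpecialLinearGroup (Fin 2) F) : Matrix (Fin 2) (Fin 2) F) 0 0 = _
      rw [hc]; rfl
    have e01 : (negOneSL F) 0 1 = (0 : F) := by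
      change ((negOneSL F : Matrix.SpecialLinearGroup (Fin 2) F) : Matrix (Fin 2) (Fin 2) F) 0 1 = _
      rw [hc]; rfl
    have e10 : (negOneSL F) 1 0 = (0 : F) := by
      change ((negOneSL F : Matrix.SpecialLinearGroup (Fin 2) F) : Matrix (Fin 2) (Fin 2) F) 1 0 = _
      rw [hc]; rfl
    have e11 : (negOneSL F) 1 1 = (-1 : F) := by
      change ((negOneSL F : Matrix.SpecialLinearGroup (Fin 2) F) : Matrix (Fin 2) (Fin 2) F) 1 1 = _
      rw [hc]; rfl
    refine ⟨?_, ?_, ?_, ?_⟩
    · rw [h6, e00]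
    · rw [h1', e01]
    · rw [h2', e10]
    · rw [← h3', h6, e11]

/-- universality of the norm form -/
theorem exists_norm_form (hodd : Odd (Fintype.card F)) (t : F) (ht : t ^ 2 ≠ 4) (d : F) :
    ∃ α β : F, α ^ 2 + α * β * t + β ^ 2 = d := by
  have h2 := two_ne_zero_of_odd hodd
  have h4 := four_ne_zero_of_odd hodd
  set c : F := 1 - t ^ 2 / 4 with hc
  have hc0 : c ≠ 0 := by
    intro h
    apply ht
    have : t ^ 2 / 4 = 1 := by linear_combination -h
    field_simp at this
    linear_combination this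
  have hdeg1 : (Polynomial.X ^ 2 : Polynomial F).degree = 2 := by
    rw [Polynomial.degree_X_pow]; rfl
  have hdeg2 : (Polynomial.C c * Polynomial.X ^ 2 - Polynomial.C d : Polynomial F).degree = 2 := by
    rw [Polynomial.degree_sub_C (by rw [Polynomial.degree_C_mul_X_pow 2 hc0]; norm_num),
      Polynomial.degree_C_mul_X_pow 2 hc0]
    rfl
  obtain ⟨u, b, hub⟩ := FiniteField.exists_root_sum_quadratic hdeg1 hdeg2
    (Nat.odd_iff.1 hodd)
  simp only [Polynomial.eval_pow, Polynomial.eval_X, Polynomial.eval_sub, Polynomial.eval_mul,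
    Polynomial.eval_C] at hub
  refine ⟨u - b * t / 2, b, ?_⟩
  have : c = 1 - t ^ 2 / 4 := hc
  rw [this] at hub
  field_simp
  field_simp at hub
  linear_combination hub

theorem isConj_iff_trace_odd (hodd : Odd (Fintype.card F))
    (g x : Matrix.SpecialLinearGroup (Fin 2) F)
    (hg : ¬ IsScalar2 (g : Matrix (Fin 2) (Fin 2) F))
    (ht : (g : Matrix (Fin 2) (Fin 2) F).trace ^ 2 ≠ 4) :
    IsConj g x ↔ (x : Matrix (Fin 2) (Fin 2) F).trace = (g : Matrix (Fin 2) (Fin 2) F).trace := by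
  constructor
  · intro hc
    exact (sl2_trace_eq_of_isConj hc).symm
  · intro hx
    have hxs : ¬ IsScalar2 (x : Matrix (Fin 2) (Fin 2) F) := by
      intro h
      apply ht
      rw [← hx]
      exact trace_sq_of_isScalar2 x h
    apply sl2_isConj_of_gl_isConj_of_det_surj g x (toGL_isConj_of_trace_eq g x hg hxs hx.symm)
    intro d _
    obtain ⟨α, β, h⟩ := exists_norm_form hodd _ ht d
    refine ⟨α, β, ?_⟩
    rw [det_smul_one_add_smul, g.2]
    linear_combination h

theorem index_of_trace_sq_ne_four (hodd : Odd (Fintype.card F))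
    (g : Matrix.SpecialLinearGroup (Fin 2) F)
    (hg : ¬ IsScalar2 (g : Matrix (Fin 2) (Fin 2) F))
    (ht : (g : Matrix (Fin 2) (Fin 2) F).trace ^ 2 ≠ 4) :
    (Subgroup.centralizer ({g} : Set (Matrix.SpecialLinearGroup (Fin 2) F))).index
      = Fintype.card F * (Fintype.card F - 1)
        + Fintype.card F * R ((g : Matrix (Fin 2) (Fin 2) F).trace) := by
  rw [card_conj_eq, ← card_trace]
  apply Nat.card_congr
  exact Equiv.subtypeEquivRight (fun h => isConj_iff_trace_odd hodd g h hg ht)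

theorem isConj_neg_iff (hodd : Odd (Fintype.card F)) (g : Matrix.SpecialLinearGroup (Fin 2) F)
    (hg : ¬ IsScalar2 (g : Matrix (Fin 2) (Fin 2) F)) :
    IsConj g (negOneSL F * g) ↔ (g : Matrix (Fin 2) (Fin 2) F).trace = 0 := by
  constructor
  · intro h
    have h1 := sl2_trace_eq_of_isConj h
    rw [trace_neg_mul] at h1
    have h2 := two_ne_zero_of_odd hodd
    have : 2 * (g : Matrix (Fin 2) (Fin 2) F).trace = 0 := by linear_combination h1
    rcases mul_eq_zero.1 this with h3 | h3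
    · exact absurd h3 h2
    · exact h3
  · intro h
    rw [isConj_iff_trace_odd hodd g _ hg (by rw [h]; intro h0; exact four_ne_zero_of_odd hodd (by linear_combination -h0)),
      trace_neg_mul, h, neg_zero]

end Odd

end Cfsg.Agent.Lib.Helper4.SL2Tr
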