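import Mathlib
import Cfsg.Agent.Lib.Helper4.SL2Odd1

set_option autoImplicit false

namespace Cfsg.Agent.Lib.Helper4.SL2Tr

open Matrix Cfsg.Agent.Lib.Helper4

section Conj

variable {F : Type*} [Field F]

/-- conjugation of `SL₂` by an element of `GL₂` -/
noncomputable def conjSL (c : GL (Fin 2) F) (x : Matrix.SpecialLinearGroup (Fin 2) F) :
    Matrix.SpecialLinearGroup (Fin 2) F :=
  ⟨(c : Matrix (Fin 2) (Fin 2) F) * (x : Matrix (Fin 2) (Fin 2) F) *
      ((c⁻¹ : GL (Fin 2) F) : Matrix (Fin 2) (Fin 2) F), by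
    rw [Matrix.det_mul, Matrix.det_mul, x.2, mul_one, ← Matrix.det_mul, ← Units.val_mul,
      mul_inv_cancel, Units.val_one, Matrix.det_one]⟩

theorem conjSL_coe (c : GL (Fin 2) F) (x : Matrix.SpecialLinearGroup (Fin 2) F) :
    (conjSL c x : Matrix (Fin 2) (Fin 2) F) = (c : Matrix (Fin 2) (Fin 2) F) *
      (x : Matrix (Fin 2) (Fin 2) F) * ((c⁻¹ : GL (Fin 2) F) : Matrix (Fin 2) (Fin 2) F) := rfl

theorem conjSL_mul (c : GL (Fin 2) F) (x y : Matrix.SpecialLinearGroup (Fin 2) F) :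
    conjSL c (x * y) = conjSL c x * conjSL c y := by
  apply Subtype.ext
  rw [Matrix.SpecialLinearGroup.coe_mul, conjSL_coe, conjSL_coe, conjSL_coe,
    Matrix.SpecialLinearGroup.coe_mul]
  have h : ((c⁻¹ : GL (Fin 2) F) : Matrix (Fin 2) (Fin 2) F) * (c : Matrix (Fin 2) (Fin 2) F) = 1 := by
    rw [← Units.val_mul, inv_mul_cancel, Units.val_one]
  calc (c : Matrix (Fin 2) (Fin 2) F) * ((x : Matrix (Fin 2) (Fin 2) F) * (y : Matrix (Fin 2) (Fin 2) F)) *
        ((c⁻¹ : GL (Fin 2) F) : Matrix (Fin 2) (Fin 2) F)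
      = (c : Matrix (Fin 2) (Fin 2) F) * (x : Matrix (Fin 2) (Fin 2) F) * 1 *
        (y : Matrix (Fin 2) (Fin 2) F) * ((c⁻¹ : GL (Fin 2) F) : Matrix (Fin 2) (Fin 2) F) := by
        rw [Matrix.mul_one]; simp only [Matrix.mul_assoc]
    _ = _ := by rw [← h]; simp only [Matrix.mul_assoc]

theorem conjSL_inv_conjSL (c : GL (Fin 2) F) (x : Matrix.SpecialLinearGroup (Fin 2) F) :
    conjSL c⁻¹ (conjSL c x) = x := by
  apply Subtype.ext
  rw [conjSL_coe, conjSL_coe, inv_inv]
  have h : ((c⁻¹ : GL (Fin 2) F) : Matrix (Fin 2) (Fin 2) F) * (c : Matrix (Fin 2) (Fin 2) F) = 1 := by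
    rw [← Units.val_mul, inv_mul_cancel, Units.val_one]
  calc ((c⁻¹ : GL (Fin 2) F) : Matrix (Fin 2) (Fin 2) F) * ((c : Matrix (Fin 2) (Fin 2) F) *
        (x : Matrix (Fin 2) (Fin 2) F) * ((c⁻¹ : GL (Fin 2) F) : Matrix (Fin 2) (Fin 2) F)) *
        (c : Matrix (Fin 2) (Fin 2) F)
      = (((c⁻¹ : GL (Fin 2) F) : Matrix (Fin 2) (Fin 2) F) * (c : Matrix (Fin 2) (Fin 2) F)) *
        (x : Matrix (Fin 2) (Fin 2) F) * (((c⁻¹ : GL (Fin 2) F) : Matrix (Fin 2) (Fin 2) F) *
        (c : Matrix (Fin 2) (Fin 2) F)) := by simp only [Matrix.mul_assoc]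
    _ = _ := by rw [h, Matrix.one_mul, Matrix.mul_one]

theorem conjSL_conjSL_inv (c : GL (Fin 2) F) (x : Matrix.SpecialLinearGroup (Fin 2) F) :
    conjSL c (conjSL c⁻¹ x) = x := by
  have := conjSL_inv_conjSL c⁻¹ x
  rwa [inv_inv] at this

theorem card_centralizer_eq_of_gl_isConj [Fintype F] (g h : Matrix.SpecialLinearGroup (Fin 2) F)
    (hc : IsConj (Matrix.SpecialLinearGroup.toGL g) (Matrix.SpecialLinearGroup.toGL h)) :
    Nat.card (Subgroup.centralizer ({g} : Set (Matrix.SpecialLinearGroup (Fin 2) F)))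
      = Nat.card (Subgroup.centralizer ({h} : Set (Matrix.SpecialLinearGroup (Fin 2) F))) := by
  obtain ⟨c, hc⟩ := isConj_iff.1 hc
  have hgh : conjSL c g = h := by
    apply Subtype.ext
    rw [conjSL_coe]
    have := congrArg (fun z : GL (Fin 2) F => (z : Matrix (Fin 2) (Fin 2) F)) hc
    simpa using this
  have hgh' : conjSL c⁻¹ h = g := by rw [← hgh, conjSL_inv_conjSL]
  apply Nat.card_congr
  refine ⟨fun x => ⟨conjSL c x.1, ?_⟩, fun y => ⟨conjSL c⁻¹ y.1, ?_⟩, ?_, ?_⟩
  · have hx := x.2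
    rw [Subgroup.mem_centralizer_singleton_iff] at hx ⊢
    rw [← hgh, ← conjSL_mul, ← conjSL_mul, hx]
  · have hy := y.2
    rw [Subgroup.mem_centralizer_singleton_iff] at hy ⊢
    rw [← hgh', ← conjSL_mul, ← conjSL_mul, hy]
  · intro x
    apply Subtype.ext
    exact conjSL_inv_conjSL c x.1
  · intro y
    apply Subtype.ext
    exact conjSL_conjSL_inv c y.1

end Conj

section Odd

variable {F : Type*} [Field F] [Fintype F] [DecidableEq F]

theorem upperU_not_scalar : ¬ IsScalar2 ((upperU (1 : F)) : Matrix (Fin 2) (Fin 2) F) := by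
  intro h
  have := h.1
  rw [upperU_coe] at this
  simp at this

theorem upperU_trace : ((upperU (1 : F)) : Matrix (Fin 2) (Fin 2) F).trace = 2 := by
  rw [upperU_coe, Matrix.trace_fin_two_of]
  norm_num

theorem card_sq_eq_one (hodd : Odd (Fintype.card F)) : Nat.card {a : F // a ^ 2 = 1} = 2 := by
  rw [Nat.card_eq_fintype_card, Fintype.card_subtype]
  have : (Finset.univ.filter fun a : F => a ^ 2 = 1) = {1, -1} := by
    ext a
    simp only [Finset.mem_filter, Finset.mem_univ, true_and, Finset.mem_insert,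
      Finset.mem_singleton]
    constructor
    · intro h
      have h4 : (a - 1) * (a + 1) = 0 := by linear_combination h
      rcases mul_eq_zero.1 h4 with h5 | h5
      · left; exact sub_eq_zero.1 h5
      · right; exact eq_neg_of_add_eq_zero_left h5
    · rintro (rfl | rfl) <;> ring
  rw [this, Finset.card_pair]
  exact (neg_one_ne_one_of_odd hodd).symm

theorem index_of_trace_two (hodd : Odd (Fintype.card F))
    (g : Matrix.SpecialLinearGroup (Fin 2) F)
    (hg : ¬ IsScalar2 (g : Matrix (Fin 2) (Fin 2) F))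
    (ht : (g : Matrix (Fin 2) (Fin 2) F).trace = 2) :
    (Subgroup.centralizer ({g} : Set (Matrix.SpecialLinearGroup (Fin 2) F))).index
      = (Fintype.card F ^ 2 - 1) / 2 := by
  have h1 := card_centralizer_eq_of_gl_isConj g (upperU 1)
    (toGL_isConj_of_trace_eq g (upperU 1) hg upperU_not_scalar (by rw [ht, upperU_trace]))
  rw [card_centralizer_upperU (1 : F) one_ne_zero, card_sq_eq_one hodd] at h1
  have h2 := Subgroup.card_mul_index
    (Subgroup.centralizer ({g} : Set (Matrix.SpecialLinearGroup (Fin 2) F)))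
  rw [h1, card_SL2] at h2
  have hq : 0 < Fintype.card F := Fintype.card_pos
  have h3 : 2 * (Subgroup.centralizer ({g} : Set (Matrix.SpecialLinearGroup (Fin 2) F))).index
      = Fintype.card F ^ 2 - 1 := by
    apply Nat.eq_of_mul_eq_mul_left hq
    rw [← h2]; ring
  omega

theorem index_of_trace_neg_two (hodd : Odd (Fintype.card F))
    (g : Matrix.SpecialLinearGroup (Fin 2) F)
    (hg : ¬ IsScalar2 (g : Matrix (Fin 2) (Fin 2) F))
    (ht : (g : Matrix (Fin 2) (Fin 2) F).trace = -2) :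
    (Subgroup.centralizer ({g} : Set (Matrix.SpecialLinearGroup (Fin 2) F))).index
      = (Fintype.card F ^ 2 - 1) / 2 := by
  have h1 := index_of_trace_two hodd (negOneSL F * g) (by rw [isScalar2_neg_mul]; exact hg)
    (by rw [trace_neg_mul, ht, neg_neg])
  rw [← h1]
  congr 1
  ext x
  rw [Subgroup.mem_centralizer_singleton_iff, Subgroup.mem_centralizer_singleton_iff]
  have hz : ∀ y : Matrix.SpecialLinearGroup (Fin 2) F, negOneSL F * y = y * negOneSL F :=
    fun y => ((Subgroup.mem_center_iff.1 negOneSL_mem_center) y).symm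
  constructor
  · intro h
    rw [← mul_assoc, ← hz x, mul_assoc, h, mul_assoc]
  · intro h
    have h2 : negOneSL F * (x * g) = negOneSL F * (g * x) := by
      rw [← mul_assoc, hz x, mul_assoc, h, mul_assoc]
    exact mul_left_cancel h2

end Odd

end Cfsg.Agent.Lib.Helper4.SL2Tr
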