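import Mathlib
import Cfsg.Agent.Lib.Helper4.SL2Odd2

set_option autoImplicit false

namespace Cfsg.Agent.Lib.Helper4.SL2Tr

open Matrix Cfsg.Agent.Lib.Helper4

section Odd

variable {F : Type*} [Field F] [Fintype F] [DecidableEq F]

theorem R_cases_odd (hodd : Odd (Fintype.card F)) (t : F) (ht : t ^ 2 ≠ 4) :
    R t = 0 ∨ R t = 2 := by
  by_cases h : ∃ r : F, r * (t - r) = 1
  · obtain ⟨r, hr⟩ := h
    right
    apply R_eq_two t r hr
    intro he
    apply ht
    have h1 : t = 2 * r := by linear_combination -he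
    have h2 : r * r = 1 := by rw [← he] at hr; exact hr
    rw [h1]
    linear_combination 4 * h2
  · left
    push Not at h
    exact R_eq_zero t h

theorem R_zero_of_one_mod_four (hodd : Odd (Fintype.card F)) (h : Fintype.card F % 4 = 1) :
    R (0 : F) = 2 := by
  have hsq : IsSquare (-1 : F) := by
    rw [FiniteField.isSquare_neg_one_iff]; omega
  obtain ⟨i, hi⟩ := hsq
  apply R_eq_two 0 i
  · linear_combination hi
  · intro he
    have h2 := two_ne_zero_of_odd hodd
    have : 2 * i = 0 := by linear_combination he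
    rcases mul_eq_zero.1 this with h3 | h3
    · exact h2 h3
    · rw [h3] at hi
      simp at hi

theorem R_zero_of_three_mod_four (h : Fintype.card F % 4 = 3) : R (0 : F) = 0 := by
  apply R_eq_zero
  intro a ha
  have hsq : IsSquare (-1 : F) := ⟨a, by linear_combination ha⟩
  rw [FiniteField.isSquare_neg_one_iff] at hsq
  exact hsq h

/-- a generator of the multiplicative group, as an element of the field -/
theorem exists_gen (h7 : 7 ≤ Fintype.card F) :
    ∃ ζ : F, ζ ≠ 0 ∧ ζ ≠ 1 ∧ ζ ^ 2 ≠ 1 ∧ ζ ^ 3 ≠ 1 ∧ ζ ^ 4 ≠ 1 := by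
  obtain ⟨u, hu⟩ := IsCyclic.exists_generator (α := Fˣ)
  have hord : orderOf u = Fintype.card F - 1 := by
    rw [orderOf_eq_card_of_forall_mem_zpowers hu, Nat.card_eq_fintype_card, Fintype.card_units]
  have hpow : ∀ k : ℕ, 0 < k → k < 6 → (u : F) ^ k ≠ 1 := by
    intro k hk0 hk6 h
    have h1 : u ^ k = 1 := by
      apply Units.ext
      rw [Units.val_pow_eq_pow_val, h, Units.val_one]
    have h2 := orderOf_dvd_of_pow_eq_one h1
    have h3 := Nat.le_of_dvd hk0 h2
    rw [hord] at h3
    omega
  refine ⟨u, u.ne_zero, ?_, hpow 2 (by norm_num) (by norm_num), hpow 3 (by norm_num) (by norm_num),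
    hpow 4 (by norm_num) (by norm_num)⟩
  have := hpow 1 (by norm_num) (by norm_num)
  rwa [pow_one] at this

theorem exists_split_odd (hodd : Odd (Fintype.card F)) (h7 : 7 ≤ Fintype.card F) :
    ∃ t : F, t ≠ 0 ∧ t ^ 2 ≠ 4 ∧ R t = 2 := by
  obtain ⟨ζ, h0, h1, h2, h3, h4⟩ := exists_gen h7
  have hne : ζ ≠ ζ⁻¹ := by
    intro h
    apply h2
    have := congrArg (fun x => x * ζ) h
    simp only [inv_mul_cancel₀ h0] at this
    rw [pow_two]; exact this
  have ht0 : ζ + ζ⁻¹ ≠ 0 := by
    intro h
    apply h4
    have h5 : ζ ^ 2 = -1 := by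
      have := congrArg (fun x => x * ζ) h
      simp only [add_mul, inv_mul_cancel₀ h0, zero_mul] at this
      linear_combination this
    have : ζ ^ 4 = (ζ ^ 2) ^ 2 := by ring
    rw [this, h5]; ring
  have ht4 : (ζ + ζ⁻¹) ^ 2 ≠ 4 := by
    intro h
    apply hne
    have h5 : (ζ - ζ⁻¹) ^ 2 = 0 := by
      have h6 : ζ * ζ⁻¹ = 1 := mul_inv_cancel₀ h0
      linear_combination h - 4 * h6
    exact sub_eq_zero.1 (pow_eq_zero_iff two_ne_zero |>.1 h5)
  refine ⟨ζ + ζ⁻¹, ht0, ht4, ?_⟩
  apply R_eq_two _ ζ
  · have h6 : ζ * ζ⁻¹ = 1 := mul_inv_cancel₀ h0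
    linear_combination h6
  · intro h
    apply hne
    linear_combination h

theorem exists_nonsplit_odd (hodd : Odd (Fintype.card F)) (h7 : 7 ≤ Fintype.card F) :
    ∃ t : F, t ≠ 0 ∧ t ^ 2 ≠ 4 ∧ R t = 0 := by
  obtain ⟨ζ, h0, h1, h2, h3, h4⟩ := exists_gen h7
  set φ : F → F := fun a => a + a⁻¹ with hφ
  set A : Finset F := ((Finset.univ.erase (0 : F)).erase ζ⁻¹).erase (ζ ^ 2)⁻¹ with hA
  have hAcard : A.card = Fintype.card F - 3 := by
    rw [hA, Finset.card_erase_of_mem, Finset.card_erase_of_mem, Finset.card_erase_of_mem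
      (Finset.mem_univ _), Finset.card_univ]
    · omega
    · exact Finset.mem_erase.2 ⟨inv_ne_zero h0, Finset.mem_univ _⟩
    · refine Finset.mem_erase.2 ⟨?_, Finset.mem_erase.2 ⟨inv_ne_zero (pow_ne_zero 2 h0),
        Finset.mem_univ _⟩⟩
      intro h
      apply h1
      have h5' : ζ ^ 2 = ζ := inv_injective h
      have h5 : ζ * ζ = ζ * 1 := by rw [mul_one, ← pow_two]; exact h5'
      exact mul_left_cancel₀ h0 h5
  -- every t with a root lies in φ '' A
  have hsub : ∀ t : F, (∃ a : F, a * (t - a) = 1) → t ∈ A.image φ := by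
    rintro t ⟨a, ha⟩
    have ha0 : a ≠ 0 := by
      rintro rfl
      rw [zero_mul] at ha
      exact zero_ne_one ha
    have hta : t = a + a⁻¹ := by
      have : t - a = a⁻¹ := eq_inv_of_mul_eq_one_right ha
      rw [← this]; ring
    rw [Finset.mem_image]
    by_cases hc1 : a = ζ⁻¹
    · refine ⟨ζ, ?_, ?_⟩
      · simp only [hA, Finset.mem_erase, Finset.mem_univ, and_true, ne_eq]
        refine ⟨?_, ?_, h0⟩
        · intro h
          apply h3
          have := congrArg (fun x => x * ζ ^ 2) h
          simp only [inv_mul_cancel₀ (pow_ne_zero 2 h0)] at this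
          rw [← this]; ring
        · intro h
          apply h2
          have := congrArg (fun x => x * ζ) h
          simp only [inv_mul_cancel₀ h0] at this
          rw [← this]; ring
      · rw [hta, hc1, hφ]
        simp only [inv_inv]
        ring
    · by_cases hc2 : a = (ζ ^ 2)⁻¹
      · refine ⟨ζ ^ 2, ?_, ?_⟩
        · simp only [hA, Finset.mem_erase, Finset.mem_univ, and_true, ne_eq]
          refine ⟨?_, ?_, pow_ne_zero 2 h0⟩
          · intro h
            apply h4
            have := congrArg (fun x => x * ζ ^ 2) h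
            simp only [inv_mul_cancel₀ (pow_ne_zero 2 h0)] at this
            rw [← this]; ring
          · intro h
            apply h3
            have := congrArg (fun x => x * ζ) h
            simp only [inv_mul_cancel₀ h0] at this
            rw [← this]; ring
        · rw [hta, hc2, hφ]
          simp only [inv_inv]
          ring
      · refine ⟨a, ?_, hta.symm⟩
        simp only [hA, Finset.mem_erase, Finset.mem_univ, and_true, ne_eq]
        exact ⟨hc2, hc1, ha0⟩
  -- counting
  by_contra hno
  push Not at hno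
  have hall : (Finset.univ : Finset F) ⊆ insert 0 (A.image φ) := by
    intro t _
    by_cases ht0 : t = 0
    · simp [ht0]
    · rw [Finset.mem_insert]
      right
      apply hsub
      by_contra hroot
      push Not at hroot
      have hR : R t = 0 := R_eq_zero t hroot
      by_cases ht4 : t ^ 2 = 4
      · -- then t = ±2 has a root
        have h5 : (t - 2) * (t + 2) = 0 := by linear_combination ht4
        rcases mul_eq_zero.1 h5 with h6 | h6
        · have : t = 2 := sub_eq_zero.1 h6
          exact hroot 1 (by rw [this]; ring)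
        · have : t = -2 := eq_neg_of_add_eq_zero_left h6
          exact hroot (-1) (by rw [this]; ring)
      · exact hno t ht0 ht4 hR
  have h5 := Finset.card_le_card hall
  have h6 := Finset.card_insert_le (0 : F) (A.image φ)
  have h8 := Finset.card_image_le (s := A) (f := φ)
  rw [Finset.card_univ] at h5
  omega

end Odd

end Cfsg.Agent.Lib.Helper4.SL2Tr
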