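import Mathlib
import Cfsg.Agent.Lib.Helper4.SL2Odd3

set_option autoImplicit false

namespace Cfsg.Agent.Lib.Helper4.SL2Tr

open Matrix Cfsg.Agent.Lib.Helper4

section Odd

variable {F : Type*} [Field F] [Fintype F] [DecidableEq F]

local notation "PSL2" => Matrix.ProjectiveSpecialLinearGroup (Fin 2) F
local notation "SL2" => Matrix.SpecialLinearGroup (Fin 2) F

/-- the index of the centraliser of the image in `PSL₂` -/
noncomputable def idxP (g : SL2) : ℕ :=
  (Subgroup.centralizer ({(QuotientGroup.mk g : PSL2)} : Set PSL2)).index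

theorem idxP_of_scalar (g : SL2) (hg : IsScalar2 (g : Matrix (Fin 2) (Fin 2) F)) : idxP g = 1 := by
  have h1 : (QuotientGroup.mk g : PSL2) = 1 := by
    rw [QuotientGroup.eq_one_iff]
    rcases eq_one_or_neg_of_isScalar2 g hg with h | h
    · rw [h]; exact Subgroup.one_mem _
    · rw [h]; exact negOneSL_mem_center
  rw [idxP, h1, Subgroup.index_eq_one]
  ext x
  simp [Subgroup.mem_centralizer_iff]

theorem idxP_cases (hodd : Odd (Fintype.card F)) (g : SL2)
    (hg : ¬ IsScalar2 (g : Matrix (Fin 2) (Fin 2) F)) :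
    ((g : Matrix (Fin 2) (Fin 2) F).trace ^ 2 = 4 → idxP g = (Fintype.card F ^ 2 - 1) / 2) ∧
    ((g : Matrix (Fin 2) (Fin 2) F).trace = 0 →
      2 * idxP g = Fintype.card F * (Fintype.card F - 1) + Fintype.card F * R (0 : F)) ∧
    ((g : Matrix (Fin 2) (Fin 2) F).trace ^ 2 ≠ 4 → (g : Matrix (Fin 2) (Fin 2) F).trace ≠ 0 →
      idxP g = Fintype.card F * (Fintype.card F - 1)
        + Fintype.card F * R ((g : Matrix (Fin 2) (Fin 2) F).trace)) := by
  have hq := QuotCenter.index_quot (negOneSL F) negOneSL_mem_center (card_center_SL2 hodd)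
    (negOneSL_ne_one hodd) g
  have h2 := two_ne_zero_of_odd hodd
  have h4 := four_ne_zero_of_odd hodd
  refine ⟨?_, ?_, ?_⟩
  · intro ht
    have hne : ¬ IsConj g (negOneSL F * g) := by
      rw [isConj_neg_iff hodd g hg]
      intro h0
      rw [h0] at ht
      apply h4
      linear_combination -ht
    rw [idxP, hq.1 hne]
    have h5 : ((g : Matrix (Fin 2) (Fin 2) F).trace - 2) * ((g : Matrix (Fin 2) (Fin 2) F).trace + 2) = 0 := by
      linear_combination ht
    rcases mul_eq_zero.1 h5 with h6 | h6
    · exact index_of_trace_two hodd g hg (sub_eq_zero.1 h6)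
    · exact index_of_trace_neg_two hodd g hg (eq_neg_of_add_eq_zero_left h6)
  · intro ht
    have hc : IsConj g (negOneSL F * g) := (isConj_neg_iff hodd g hg).2 ht
    rw [idxP, hq.2 hc, index_of_trace_sq_ne_four hodd g hg, ht]
    rw [ht]
    intro h0
    apply h4
    linear_combination -h0
  · intro ht4 ht0
    have hne : ¬ IsConj g (negOneSL F * g) := by
      rw [isConj_neg_iff hodd g hg]
      exact ht0
    rw [idxP, hq.1 hne, index_of_trace_sq_ne_four hodd g hg ht4]

theorem range_idx (hodd : Odd (Fintype.card F)) (h7 : 7 ≤ Fintype.card F) :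
    Set.range (fun x : PSL2 => (Subgroup.centralizer ({x} : Set PSL2)).index) =
      {1, (Fintype.card F ^ 2 - 1) / 2,
        (Fintype.card F * (Fintype.card F - 1) + Fintype.card F * R (0 : F)) / 2,
        Fintype.card F * (Fintype.card F - 1), Fintype.card F * (Fintype.card F + 1)} := by
  have hq : 1 ≤ Fintype.card F := by omega
  have harith : Fintype.card F * (Fintype.card F - 1) + Fintype.card F * 2
      = Fintype.card F * (Fintype.card F + 1) := by
    obtain ⟨k, hk⟩ : ∃ k, Fintype.card F = k + 1 := ⟨Fintype.card F - 1, by omega⟩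
    rw [hk]; simp only [Nat.add_sub_cancel]; ring
  have h2 := two_ne_zero_of_odd hodd
  have h4 := four_ne_zero_of_odd hodd
  ext m
  simp only [Set.mem_range, Set.mem_insert_iff, Set.mem_singleton_iff]
  constructor
  · rintro ⟨x, rfl⟩
    obtain ⟨g, rfl⟩ := QuotientGroup.mk_surjective x
    change idxP g = _ ∨ idxP g = _ ∨ idxP g = _ ∨ idxP g = _ ∨ idxP g = _
    by_cases hg : IsScalar2 (g : Matrix (Fin 2) (Fin 2) F)
    · left; exact idxP_of_scalar g hg
    · obtain ⟨c1, c2, c3⟩ := idxP_cases hodd g hg
      by_cases ht4 : (g : Matrix (Fin 2) (Fin 2) F).trace ^ 2 = 4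
      · right; left; exact c1 ht4
      · by_cases ht0 : (g : Matrix (Fin 2) (Fin 2) F).trace = 0
        · right; right; left
          have := c2 ht0
          omega
        · rw [c3 ht4 ht0]
          rcases R_cases_odd hodd _ ht4 with h | h
          · right; right; right; left
            rw [h, mul_zero, add_zero]
          · right; right; right; right
            rw [h, harith]
  · have key : ∀ t : F, ∃ g : SL2, ¬ IsScalar2 (g : Matrix (Fin 2) (Fin 2) F) ∧
        (g : Matrix (Fin 2) (Fin 2) F).trace = t :=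
      fun t => ⟨compSL t, compSL_not_scalar t, compSL_trace t⟩
    rintro (rfl | rfl | rfl | rfl | rfl)
    · exact ⟨QuotientGroup.mk 1, idxP_of_scalar 1 (by
        rw [Matrix.SpecialLinearGroup.coe_one]
        refine ⟨?_, ?_, ?_⟩ <;> simp)⟩
    · obtain ⟨g, hg, ht⟩ := key 2
      refine ⟨QuotientGroup.mk g, ?_⟩
      exact (idxP_cases hodd g hg).1 (by rw [ht]; norm_num)
    · obtain ⟨g, hg, ht⟩ := key 0
      refine ⟨QuotientGroup.mk g, ?_⟩
      have := (idxP_cases hodd g hg).2.1 ht
      change idxP g = _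
      omega
    · obtain ⟨t, ht0, ht4, hR⟩ := exists_nonsplit_odd hodd h7
      obtain ⟨g, hg, ht⟩ := key t
      refine ⟨QuotientGroup.mk g, ?_⟩
      have := (idxP_cases hodd g hg).2.2 (by rw [ht]; exact ht4) (by rw [ht]; exact ht0)
      rw [ht, hR, mul_zero, add_zero] at this
      exact this
    · obtain ⟨t, ht0, ht4, hR⟩ := exists_split_odd hodd h7
      obtain ⟨g, hg, ht⟩ := key t
      refine ⟨QuotientGroup.mk g, ?_⟩
      have := (idxP_cases hodd g hg).2.2 (by rw [ht]; exact ht4) (by rw [ht]; exact ht0)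
      rw [ht, hR, harith] at this
      exact this

end Odd

theorem main_odd {F : Type*} [Field F] [Fintype F]
    (hodd : ¬ 2 ∣ Fintype.card F) (h7 : 7 ≤ Fintype.card F) :
    (Fintype.card F % 4 = 1 →
      Set.range (fun g : (Matrix.ProjectiveSpecialLinearGroup (Fin 2) F) => (Subgroup.centralizer ({g} : Set (Matrix.ProjectiveSpecialLinearGroup (Fin 2) F))).index) =
        {1, (Fintype.card F ^ 2 - 1) / 2, Fintype.card F * (Fintype.card F + 1) / 2,
          Fintype.card F * (Fintype.card F - 1), Fintype.card F * (Fintype.card F + 1)}) ∧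
    (Fintype.card F % 4 = 3 →
      Set.range (fun g : (Matrix.ProjectiveSpecialLinearGroup (Fin 2) F) => (Subgroup.centralizer ({g} : Set (Matrix.ProjectiveSpecialLinearGroup (Fin 2) F))).index) =
        {1, (Fintype.card F ^ 2 - 1) / 2, Fintype.card F * (Fintype.card F - 1) / 2,
          Fintype.card F * (Fintype.card F + 1), Fintype.card F * (Fintype.card F - 1)}) := by
  classical
  have hodd' : Odd (Fintype.card F) := by
    rw [Nat.odd_iff]
    omega
  have hq : 1 ≤ Fintype.card F := by omega
  have harith : Fintype.card F * (Fintype.card F - 1) + Fintype.card F * 2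
      = Fintype.card F * (Fintype.card F + 1) := by
    obtain ⟨k, hk⟩ : ∃ k, Fintype.card F = k + 1 := ⟨Fintype.card F - 1, by omega⟩
    rw [hk]; simp only [Nat.add_sub_cancel]; ring
  constructor
  · intro h1
    rw [range_idx hodd' h7, R_zero_of_one_mod_four hodd' h1, harith]
  · intro h3
    rw [range_idx hodd' h7, R_zero_of_three_mod_four h3, mul_zero, add_zero]
    ext m
    simp only [Set.mem_insert_iff, Set.mem_singleton_iff]
    tauto

end Cfsg.Agent.Lib.Helper4.SL2Tr
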