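import Mathlib
import Cfsg.Agent.Lib.Helper4.SL2Odd4

set_option autoImplicit false

namespace Cfsg.Agent.Lib.Helper4.SL2Ord

open Matrix Cfsg.Agent.Lib.Helper4 Cfsg.Agent.Lib.Helper4.SL2Tr

section General

variable {F : Type*} [Field F] [Fintype F] [DecidableEq F]

local notation "SL2" => Matrix.SpecialLinearGroup (Fin 2) F

/-- Cayley–Hamilton in `SL₂` -/
theorem cayley (g : SL2) :
    (g : Matrix (Fin 2) (Fin 2) F) * (g : Matrix (Fin 2) (Fin 2) F)
      = (g : Matrix (Fin 2) (Fin 2) F).trace • (g : Matrix (Fin 2) (Fin 2) F) - 1 := by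
  have hd := sl2_det g
  rw [Matrix.trace_fin_two]
  ext i j
  fin_cases i <;> fin_cases j
  · simp only [Matrix.mul_apply, Fin.sum_univ_two, Matrix.sub_apply, Matrix.smul_apply,
      smul_eq_mul, Fin.zero_eta, Fin.isValue, Matrix.one_apply_eq]
    linear_combination -hd
  · simp only [Matrix.mul_apply, Fin.sum_univ_two, Matrix.sub_apply, Matrix.smul_apply,
      smul_eq_mul, Fin.zero_eta, Fin.mk_one, Fin.isValue, ne_eq, zero_ne_one, not_false_eq_true,
      Matrix.one_apply_ne, sub_zero]
    ring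
  · simp only [Matrix.mul_apply, Fin.sum_univ_two, Matrix.sub_apply, Matrix.smul_apply,
      smul_eq_mul, Fin.zero_eta, Fin.mk_one, Fin.isValue, ne_eq, one_ne_zero, not_false_eq_true,
      Matrix.one_apply_ne, sub_zero]
    ring
  · simp only [Matrix.mul_apply, Fin.sum_univ_two, Matrix.sub_apply, Matrix.smul_apply,
      smul_eq_mul, Fin.mk_one, Fin.isValue, Matrix.one_apply_eq]
    linear_combination -hd

theorem pow_card_centralizer (g : SL2) :
    g ^ Nat.card (Subgroup.centralizer ({g} : Set SL2)) = 1 := by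
  have hmem : g ∈ Subgroup.centralizer ({g} : Set SL2) := by
    rw [Subgroup.mem_centralizer_iff]
    intro h hh
    rw [Set.mem_singleton_iff.1 hh]
  have := pow_card_eq_one' (G := Subgroup.centralizer ({g} : Set SL2)) (x := ⟨g, hmem⟩)
  have h2 := congrArg Subtype.val this
  rw [Subgroup.coe_pow] at h2
  exact h2

theorem card_centralizer_of_R_two (g : SL2)
    (h : (Subgroup.centralizer ({g} : Set SL2)).index
      = Fintype.card F * (Fintype.card F - 1) + Fintype.card F * 2) :
    Nat.card (Subgroup.centralizer ({g} : Set SL2)) = Fintype.card F - 1 := by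
  have h1 := Subgroup.card_mul_index (Subgroup.centralizer ({g} : Set SL2))
  rw [h, card_SL2] at h1
  have hq : 1 ≤ Fintype.card F := Fintype.card_pos
  obtain ⟨k, hk⟩ : ∃ k, Fintype.card F = k + 1 := ⟨Fintype.card F - 1, by omega⟩
  rw [hk] at h1 ⊢
  simp only [Nat.add_sub_cancel] at h1 ⊢
  have h2 : (k + 1) ^ 2 - 1 = k * (k + 2) := by
    have : (k + 1) ^ 2 = k * (k + 2) + 1 := by ring
    omega
  rw [h2] at h1
  have h3 : Nat.card (Subgroup.centralizer ({g} : Set SL2)) * ((k + 1) * (k + 2))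
      = k * ((k + 1) * (k + 2)) := by
    linear_combination h1
  exact Nat.eq_of_mul_eq_mul_right (by positivity) h3

theorem card_centralizer_of_R_zero (g : SL2)
    (h : (Subgroup.centralizer ({g} : Set SL2)).index
      = Fintype.card F * (Fintype.card F - 1) + Fintype.card F * 0) :
    Nat.card (Subgroup.centralizer ({g} : Set SL2)) = Fintype.card F + 1 := by
  have h1 := Subgroup.card_mul_index (Subgroup.centralizer ({g} : Set SL2))
  rw [h, card_SL2] at h1
  have hq : 2 ≤ Fintype.card F := Fintype.one_lt_card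
  obtain ⟨k, hk⟩ : ∃ k, Fintype.card F = k + 2 := ⟨Fintype.card F - 2, by omega⟩
  rw [hk] at h1 ⊢
  have e1 : k + 2 - 1 = k + 1 := by omega
  rw [e1] at h1
  have h2 : (k + 2) ^ 2 - 1 = (k + 1) * (k + 3) := by
    have : (k + 2) ^ 2 = (k + 1) * (k + 3) + 1 := by ring
    omega
  rw [h2] at h1
  have h3 : Nat.card (Subgroup.centralizer ({g} : Set SL2)) * ((k + 2) * (k + 1))
      = (k + 2 + 1) * ((k + 2) * (k + 1)) := by
    linear_combination h1
  exact Nat.eq_of_mul_eq_mul_right (by positivity) h3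

/-- an involution of `SL₂` in odd characteristic is `±1` -/
theorem eq_one_or_neg_of_sq (hodd : Odd (Fintype.card F)) (y : SL2) (hy : y ^ 2 = 1) :
    y = 1 ∨ y = negOneSL F := by
  apply eq_one_or_neg_of_isScalar2
  have h2 := two_ne_zero_of_odd hodd
  have hc := cayley y
  have hy' : (y : Matrix (Fin 2) (Fin 2) F) * (y : Matrix (Fin 2) (Fin 2) F) = 1 := by
    have := congrArg (fun x : SL2 => (x : Matrix (Fin 2) (Fin 2) F)) hy
    simpa [pow_two] using this
  rw [hy'] at hc
  -- 2 = t • y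
  have h01 := congrFun (congrFun hc 0) 1
  have h10 := congrFun (congrFun hc 1) 0
  have h00 := congrFun (congrFun hc 0) 0
  have h11 := congrFun (congrFun hc 1) 1
  simp only [Matrix.sub_apply, Matrix.smul_apply, smul_eq_mul, Matrix.one_apply_eq,
    ne_eq, zero_ne_one, one_ne_zero, not_false_eq_true, Matrix.one_apply_ne, sub_zero]
    at h01 h10 h00 h11
  have ht : (y : Matrix (Fin 2) (Fin 2) F).trace ≠ 0 := by
    intro h0
    rw [h0] at h00
    apply h2
    linear_combination h00
  refine ⟨?_, ?_, ?_⟩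
  · rcases mul_eq_zero.1 h01.symm with h | h
    · exact absurd h ht
    · exact h
  · rcases mul_eq_zero.1 h10.symm with h | h
    · exact absurd h ht
    · exact h
  · apply mul_left_cancel₀ ht
    linear_combination h11 - h00

theorem mem_center_of_isScalar2 (g : SL2) (h : IsScalar2 (g : Matrix (Fin 2) (Fin 2) F)) :
    g ∈ Subgroup.center SL2 := by
  rcases eq_one_or_neg_of_isScalar2 g h with h | h
  · rw [h]; exact Subgroup.one_mem _
  · rw [h]; exact negOneSL_mem_center

/-- parabolic elements: `g ^ p` is scalar. -/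
theorem pow_char_isScalar2 (p : ℕ) [Fact p.Prime] [CharP F p] (g : SL2) (ε : F)
    (hε : ε ^ 2 = 1) (ht : (g : Matrix (Fin 2) (Fin 2) F).trace = 2 * ε) :
    IsScalar2 ((g ^ p : SL2) : Matrix (Fin 2) (Fin 2) F) := by
  have hc := cayley g
  rw [ht] at hc
  set A : Matrix (Fin 2) (Fin 2) F := (g : Matrix (Fin 2) (Fin 2) F) with hA
  set N : Matrix (Fin 2) (Fin 2) F := A - ε • 1 with hN
  have hN2 : N * N = 0 := by
    rw [hN, sub_mul, mul_sub, mul_sub, hc]
    simp only [Matrix.smul_mul, Matrix.mul_smul, Matrix.one_mul, Matrix.mul_one, smul_smul]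
    rw [← pow_two, hε, one_smul, two_mul, add_smul]
    abel
  have hcomm : Commute (ε • (1 : Matrix (Fin 2) (Fin 2) F)) N := by
    rw [Commute, SemiconjBy]
    simp only [Matrix.smul_mul, Matrix.mul_smul, Matrix.one_mul, Matrix.mul_one]
  have hsum : A = ε • (1 : Matrix (Fin 2) (Fin 2) F) + N := by rw [hN]; abel
  haveI : CharP (Matrix (Fin 2) (Fin 2) F) p := inferInstance
  have hp2 : 2 ≤ p := (Fact.out : p.Prime).two_le
  have hNp : N ^ p = 0 := by
    obtain ⟨k, hk⟩ : ∃ k, p = 2 + k := ⟨p - 2, by omega⟩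
    rw [hk, pow_add, pow_two, hN2, zero_mul]
  have hpow : A ^ p = (ε ^ p) • (1 : Matrix (Fin 2) (Fin 2) F) := by
    rw [hsum, add_pow_char_of_commute p hcomm, hNp, add_zero, smul_pow, one_pow]
  rw [Matrix.SpecialLinearGroup.coe_pow, ← hA, hpow]
  refine ⟨?_, ?_, ?_⟩ <;> simp

end General

end Cfsg.Agent.Lib.Helper4.SL2Ord
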