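import Mathlib
import Cfsg.Agent.Lib.Helper4.SL2Tr2

set_option autoImplicit false

namespace Cfsg.Agent.Lib.Helper4.SL2Tr

open Matrix Cfsg.Agent.Lib.Helper4

section CharTwo

variable {F : Type*} [Field F] [Fintype F] [DecidableEq F] [CharP F 2]

theorem R_cases (t : F) (ht : t ≠ 0) : R t = 0 ∨ R t = 2 := by
  by_cases h : ∃ r : F, r * (t - r) = 1
  · obtain ⟨r, hr⟩ := h
    right
    apply R_eq_two t r hr
    intro he
    apply ht
    have h2 : (2 : F) = 0 := two_eq_zero'
    linear_combination -he + r * h2
  · left
    push Not at h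
    exact R_eq_zero t h

theorem exists_split (h4 : 4 ≤ Fintype.card F) : ∃ t : F, t ≠ 0 ∧ R t = 2 := by
  -- an element r ∉ {0, 1}
  have : ∃ r : F, r ≠ 0 ∧ r ≠ 1 := by
    by_contra hno
    push Not at hno
    have : (Finset.univ : Finset F) ⊆ {0, 1} := by
      intro r _
      by_cases h0 : r = 0
      · simp [h0]
      · simp [hno r h0]
    have h1 := Finset.card_le_card this
    rw [Finset.card_univ] at h1
    have h2 : ({0, 1} : Finset F).card ≤ 2 := Finset.card_le_two
    omega
  obtain ⟨r, hr0, hr1⟩ := this
  have hne : r + r⁻¹ ≠ 0 := by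
    intro h
    have h2 : (2 : F) = 0 := two_eq_zero'
    have h3 : (r - 1) ^ 2 = 0 := by
      have : r * (r + r⁻¹) = r ^ 2 + 1 := by field_simp
      rw [h, mul_zero] at this
      linear_combination -this - r * h2 
    exact hr1 (sub_eq_zero.1 (pow_eq_zero_iff two_ne_zero |>.1 h3))
  refine ⟨r + r⁻¹, hne, ?_⟩
  rcases R_cases (r + r⁻¹) hne with h | h
  · exfalso
    have : R (r + r⁻¹) ≠ 0 := by
      rw [R]
      haveI : Nonempty {a : F // a * (r + r⁻¹ - a) = 1} := ⟨⟨r, by field_simp; ring⟩⟩
      exact Nat.card_pos.ne'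
    exact this h
  · exact h

theorem exists_nonsplit : ∃ t : F, t ≠ 0 ∧ R t = 0 := by
  by_contra hno
  push Not at hno
  have hroot : ∀ t : F, t ≠ 0 → ∃ a : F, a * (t - a) = 1 := by
    intro t ht
    by_contra h
    push Not at h
    exact hno t ht (R_eq_zero t h)
  have h2 : (2 : F) = 0 := two_eq_zero'
  have hsub : (Finset.univ.erase (0 : F)) ⊆
      (((Finset.univ.erase (0 : F)).erase 1).image fun a => a + a⁻¹) := by
    intro t ht
    have ht0 : t ≠ 0 := Finset.ne_of_mem_erase ht
    obtain ⟨a, ha⟩ := hroot t ht0
    have ha0 : a ≠ 0 := by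
      rintro rfl
      rw [zero_mul] at ha
      exact zero_ne_one ha
    have ha1 : a ≠ 1 := by
      rintro rfl
      apply ht0
      linear_combination ha + h2
    rw [Finset.mem_image]
    refine ⟨a, ?_, ?_⟩
    · simp [ha0, ha1]
    · have : t - a = a⁻¹ := eq_inv_of_mul_eq_one_right ha
      rw [← this]; ring
  have h3 := Finset.card_le_card hsub
  have h4 := Finset.card_image_le (s := (Finset.univ.erase (0 : F)).erase 1)
    (f := fun a : F => a + a⁻¹)
  rw [Finset.card_erase_of_mem (Finset.mem_univ _), Finset.card_univ] at h3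
  rw [Finset.card_erase_of_mem (by simp), Finset.card_erase_of_mem (Finset.mem_univ _),
    Finset.card_univ] at h4
  have hq : 2 ≤ Fintype.card F := Fintype.one_lt_card
  omega

theorem range_index_SL2 (h4 : 4 ≤ Fintype.card F) :
    Set.range (fun g : Matrix.SpecialLinearGroup (Fin 2) F =>
        (Subgroup.centralizer ({g} : Set (Matrix.SpecialLinearGroup (Fin 2) F))).index) =
      {1, Fintype.card F * (Fintype.card F - 1), Fintype.card F ^ 2 - 1,
        Fintype.card F * (Fintype.card F + 1)} := by
  have hq : 1 ≤ Fintype.card F := by omega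
  have harith : Fintype.card F * (Fintype.card F - 1) + Fintype.card F * 2
      = Fintype.card F * (Fintype.card F + 1) := by
    obtain ⟨k, hk⟩ : ∃ k, Fintype.card F = k + 1 := ⟨Fintype.card F - 1, by omega⟩
    rw [hk]; simp only [Nat.add_sub_cancel]; ring
  ext m
  simp only [Set.mem_range, Set.mem_insert_iff, Set.mem_singleton_iff]
  constructor
  · rintro ⟨g, rfl⟩
    by_cases hg : g = 1
    · left
      subst hg
      rw [Subgroup.index_eq_one]
      ext x
      simp [Subgroup.mem_centralizer_iff]
    · by_cases ht : (g : Matrix (Fin 2) (Fin 2) F).trace = 0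
      · right; right; left
        exact index_of_trace_zero g hg ht
      · rw [index_of_trace_ne_zero g ht]
        rcases R_cases _ ht with h | h
        · right; left
          rw [h, mul_zero, add_zero]
        · right; right; right
          rw [h, harith]
  · rintro (rfl | rfl | rfl | rfl)
    · refine ⟨1, ?_⟩
      rw [Subgroup.index_eq_one]
      ext x
      simp [Subgroup.mem_centralizer_iff]
    · obtain ⟨t, ht, hR⟩ := exists_nonsplit (F := F)
      refine ⟨compSL t, ?_⟩
      have h1 := index_of_trace_ne_zero (compSL t) (by rw [compSL_trace]; exact ht)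
      rw [compSL_trace, hR, mul_zero, add_zero] at h1
      exact h1
    · refine ⟨compSL 0, ?_⟩
      apply index_of_trace_zero
      · intro h
        have := compSL_not_scalar (0 : F)
        rw [h] at this
        apply this
        refine ⟨?_, ?_, ?_⟩ <;> simp
      · exact compSL_trace 0
    · obtain ⟨t, ht, hR⟩ := exists_split h4
      refine ⟨compSL t, ?_⟩
      have h1 := index_of_trace_ne_zero (compSL t) (by rw [compSL_trace]; exact ht)
      rw [compSL_trace, hR, harith] at h1
      exact h1

end CharTwo

end Cfsg.Agent.Lib.Helper4.SL2Tr
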