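import Mathlib
import Cfsg.Agent.Lib.Helper4.SL2Tr3

set_option autoImplicit false

namespace Cfsg.Agent.Lib.Helper4.SL2Tr

open Matrix Cfsg.Agent.Lib.Helper4

theorem index_centralizer_mulEquiv {G H : Type*} [Group G] [Group H] (e : G ≃* H) (g : G) :
    (Subgroup.centralizer ({e g} : Set H)).index = (Subgroup.centralizer ({g} : Set G)).index := by
  have : Subgroup.centralizer ({e g} : Set H)
      = (Subgroup.centralizer ({g} : Set G)).map e.toMonoidHom := by
    ext y
    rw [Subgroup.mem_map]
    simp only [Subgroup.mem_centralizer_iff, Set.mem_singleton_iff, forall_eq]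
    constructor
    · intro hy
      refine ⟨e.symm y, ?_, by simp⟩
      apply e.injective
      simp [hy]
    · rintro ⟨x, hx, rfl⟩
      change e g * e x = e x * e g
      rw [← map_mul, ← map_mul, hx]
  rw [this]
  exact Subgroup.index_map_of_bijective e.bijective _

theorem charP_two_of_dvd {F : Type*} [Field F] [Fintype F] (h2 : 2 ∣ Fintype.card F) :
    CharP F 2 := by
  obtain ⟨p, hp⟩ := CharP.exists F
  haveI := hp
  haveI : Fact p.Prime := ⟨CharP.char_is_prime F p⟩
  obtain ⟨n, hpn, hcard⟩ := FiniteField.card F p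
  rw [hcard] at h2
  have h3 : 2 ∣ p := Nat.Prime.dvd_of_dvd_pow Nat.prime_two h2
  have h4 : p = 2 := ((Nat.prime_dvd_prime_iff_eq Nat.prime_two hpn).1 h3).symm
  subst h4
  exact hp

theorem range_index_PSL2 {F : Type*} [Field F] [Fintype F]
    (h2 : 2 ∣ Fintype.card F) (h4 : 4 ≤ Fintype.card F) :
    Set.range (fun g : (Matrix.ProjectiveSpecialLinearGroup (Fin 2) F) =>
      (Subgroup.centralizer ({g} : Set (Matrix.ProjectiveSpecialLinearGroup (Fin 2) F))).index) =
      {1, Fintype.card F * (Fintype.card F - 1), Fintype.card F ^ 2 - 1,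
        Fintype.card F * (Fintype.card F + 1)} := by
  classical
  haveI := charP_two_of_dvd h2
  have hcenter := Cfsg.Agent.Lib.Helper4.center_SL2_eq_bot (F := F)
  have hbij : Function.Bijective (QuotientGroup.mk' (Subgroup.center (Matrix.SpecialLinearGroup (Fin 2) F))) := by
    refine ⟨?_, QuotientGroup.mk'_surjective _⟩
    rw [← MonoidHom.ker_eq_bot_iff, QuotientGroup.ker_mk', hcenter]
  let e : Matrix.SpecialLinearGroup (Fin 2) F ≃* Matrix.ProjectiveSpecialLinearGroup (Fin 2) F :=
    MulEquiv.ofBijective _ hbij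
  rw [← range_index_SL2 h4]
  have : (fun g : Matrix.SpecialLinearGroup (Fin 2) F =>
        (Subgroup.centralizer ({g} : Set (Matrix.SpecialLinearGroup (Fin 2) F))).index)
      = (fun g : (Matrix.ProjectiveSpecialLinearGroup (Fin 2) F) =>
      (Subgroup.centralizer ({g} : Set (Matrix.ProjectiveSpecialLinearGroup (Fin 2) F))).index) ∘ e := by
    funext g
    exact (index_centralizer_mulEquiv e g).symm
  rw [this, e.surjective.range_comp]

end Cfsg.Agent.Lib.Helper4.SL2Tr
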