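import Mathlib
import Cfsg.Agent.Lib.Helper4.SL2Ord1
import Cfsg.Agent.Lib.Helper4.SL2Tr4

set_option autoImplicit false

namespace Cfsg.Agent.Lib.Helper4.SL2Ord

open Matrix Cfsg.Agent.Lib.Helper4 Cfsg.Agent.Lib.Helper4.SL2Tr

section Even

variable {F : Type*} [Field F] [Fintype F] [DecidableEq F] [CharP F 2]

local notation "SL2" => Matrix.SpecialLinearGroup (Fin 2) F

theorem order_cases_even (g : SL2) :
    g ^ 2 = 1 ∨ g ^ (Fintype.card F - 1) = 1 ∨ g ^ (Fintype.card F + 1) = 1 := by
  by_cases hg : g = 1
  · left; rw [hg, one_pow]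
  by_cases ht : (g : Matrix (Fin 2) (Fin 2) F).trace = 0
  · left
    have hc := cayley g
    rw [ht, zero_smul, zero_sub] at hc
    apply Subtype.ext
    rw [pow_two, Matrix.SpecialLinearGroup.coe_mul, hc, Matrix.SpecialLinearGroup.coe_one]
    have h2 : (2 : F) = 0 := two_eq_zero'
    ext i j
    rw [Matrix.neg_apply]
    linear_combination (-(1 : Matrix (Fin 2) (Fin 2) F) i j) * h2
  · right
    have hidx := index_of_trace_ne_zero g ht
    rcases R_cases _ ht with hR | hR
    · right
      rw [hR] at hidx
      rw [← card_centralizer_of_R_zero g hidx]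
      exact pow_card_centralizer g
    · left
      rw [hR] at hidx
      rw [← card_centralizer_of_R_two g hidx]
      exact pow_card_centralizer g

end Even

section Odd

variable {F : Type*} [Field F] [Fintype F] [DecidableEq F]

local notation "SL2" => Matrix.SpecialLinearGroup (Fin 2) F

theorem order_cases_odd (hodd : Odd (Fintype.card F)) (p : ℕ) [Fact p.Prime] [CharP F p] (g : SL2) :
    g ^ p ∈ Subgroup.center SL2 ∨ g ^ (Fintype.card F - 1) = 1 ∨ g ^ (Fintype.card F + 1) = 1 := by
  by_cases hg : IsScalar2 (g : Matrix (Fin 2) (Fin 2) F)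
  · left
    exact Subgroup.pow_mem _ (mem_center_of_isScalar2 g hg) p
  have h2 := two_ne_zero_of_odd hodd
  by_cases ht : (g : Matrix (Fin 2) (Fin 2) F).trace ^ 2 = 4
  · left
    apply mem_center_of_isScalar2
    apply pow_char_isScalar2 p g ((g : Matrix (Fin 2) (Fin 2) F).trace / 2)
    · field_simp
      linear_combination ht
    · field_simp
  · right
    have hidx := index_of_trace_sq_ne_four hodd g hg ht
    rcases R_cases_odd hodd _ ht with hR | hR
    · right
      rw [hR] at hidx
      rw [← card_centralizer_of_R_zero g hidx]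
      exact pow_card_centralizer g
    · left
      rw [hR] at hidx
      rw [← card_centralizer_of_R_two g hidx]
      exact pow_card_centralizer g

end Odd

end Cfsg.Agent.Lib.Helper4.SL2Ord
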