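import Mathlib
import Cfsg.Agent.Lib.Helper4.SL2Ord2

set_option autoImplicit false

namespace Cfsg.Agent.Lib.Helper4.SL2Ord

open Matrix Cfsg.Agent.Lib.Helper4 Cfsg.Agent.Lib.Helper4.SL2Tr

section General

variable {F : Type*} [Field F] [Fintype F] [DecidableEq F]

local notation "SL2" => Matrix.SpecialLinearGroup (Fin 2) F

/-- the diagonal torus -/
def diagSL (a : Fˣ) : SL2 :=
  ⟨!![(a : F), 0; 0, ((a⁻¹ : Fˣ) : F)], by simp [Matrix.det_fin_two_of]⟩

theorem diagSL_coe (a : Fˣ) :
    (diagSL a : Matrix (Fin 2) (Fin 2) F) = !![(a : F), 0; 0, ((a⁻¹ : Fˣ) : F)] := rfl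

theorem diagSL_mul (a b : Fˣ) : diagSL a * diagSL b = diagSL (a * b) := by
  apply Subtype.ext
  rw [Matrix.SpecialLinearGroup.coe_mul, diagSL_coe, diagSL_coe, diagSL_coe]
  ext i j
  fin_cases i <;> fin_cases j <;> simp [Matrix.mul_apply, Fin.sum_univ_two, mul_comm]

theorem diagSL_one : diagSL (1 : Fˣ) = 1 := by
  apply Subtype.ext
  rw [diagSL_coe, Matrix.SpecialLinearGroup.coe_one]
  ext i j
  fin_cases i <;> fin_cases j <;> simp

/-- the diagonal torus as a homomorphism -/
def diagHom : Fˣ →* SL2 where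
  toFun := diagSL
  map_one' := diagSL_one
  map_mul' a b := (diagSL_mul a b).symm

theorem diagHom_injective : Function.Injective (diagHom : Fˣ →* SL2) := by
  intro a b h
  have h1 : (diagSL a : Matrix (Fin 2) (Fin 2) F) 0 0 = (diagSL b : Matrix (Fin 2) (Fin 2) F) 0 0 := by
    have : diagSL a = diagSL b := h
    rw [this]
  rw [diagSL_coe, diagSL_coe] at h1
  apply Units.ext
  simpa using h1

theorem exists_orderOf_card_sub_one : ∃ g : SL2, orderOf g = Fintype.card F - 1 := by
  obtain ⟨u, hu⟩ := IsCyclic.exists_generator (α := Fˣ)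
  have hord : orderOf u = Fintype.card F - 1 := by
    rw [orderOf_eq_card_of_forall_mem_zpowers hu, Nat.card_eq_fintype_card, Fintype.card_units]
  exact ⟨diagHom u, by rw [orderOf_injective diagHom diagHom_injective, hord]⟩

theorem exists_orderOf_card_add_one (p : ℕ) [Fact p.Prime] [CharP F p] :
    ∃ g : SL2, orderOf g = Fintype.card F + 1 := by
  set q := Fintype.card F with hq
  have hq2 : 2 ≤ q := Fintype.one_lt_card
  let L := FiniteField.Extension F p 2
  have hfr : Module.finrank F L = 2 := FiniteField.finrank_extension F p 2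
  have hcL : Nat.card L = q ^ 2 := by
    rw [FiniteField.natCard_extension F p 2, Nat.card_eq_fintype_card]
  haveI : Finite L := Nat.finite_of_card_ne_zero (by rw [hcL]; positivity)
  let b : Module.Basis (Fin 2) F L := Module.finBasisOfFinrankEq F L hfr
  let φ : L →ₐ[F] Matrix (Fin 2) (Fin 2) F := Algebra.leftMulMatrix b
  have hφ : Function.Injective φ := Algebra.leftMulMatrix_injective b
  obtain ⟨θ, hθ⟩ := IsCyclic.exists_ofOrder_eq_natCard (α := Lˣ)
  have hcardU : Nat.card Lˣ = q ^ 2 - 1 := by rw [Nat.card_units, hcL]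
  obtain ⟨k, hk⟩ : ∃ k, q = k + 2 := ⟨q - 2, by omega⟩
  have hfac : q ^ 2 - 1 = (q - 1) * (q + 1) := by
    rw [hk]
    have : (k + 2) ^ 2 = (k + 2 - 1) * (k + 2 + 1) + 1 := by
      have e : k + 2 - 1 = k + 1 := by omega
      rw [e]; ring
    omega
  have hω : orderOf (θ ^ (q - 1)) = q + 1 := by
    rw [orderOf_pow_of_dvd (by omega) (by rw [hθ, hcardU, hfac]; exact dvd_mul_right _ _), hθ,
      hcardU, hfac]
    exact Nat.mul_div_cancel_left _ (by omega)
  have hdet : (φ ((θ ^ (q - 1) : Lˣ) : L)).det = 1 := by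
    change (Algebra.leftMulMatrix b ((θ ^ (q - 1) : Lˣ) : L)).det = 1
    rw [← Algebra.norm_eq_matrix_det b, Units.val_pow_eq_pow_val, map_pow]
    apply FiniteField.pow_card_sub_one_eq_one
    rw [Algebra.norm_ne_zero_iff]
    exact θ.ne_zero
  let g0 : SL2 := ⟨φ ((θ ^ (q - 1) : Lˣ) : L), hdet⟩
  have hg0 : (g0 : Matrix (Fin 2) (Fin 2) F) = φ ((θ ^ (q - 1) : Lˣ) : L) := rfl
  refine ⟨g0, ?_⟩
  rw [← hω]
  apply orderOf_eq_orderOf_iff.2
  intro n
  constructor
  · intro h
    have h1 := congrArg (fun x : SL2 => (x : Matrix (Fin 2) (Fin 2) F)) h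
    simp only [Matrix.SpecialLinearGroup.coe_pow, Matrix.SpecialLinearGroup.coe_one] at h1
    rw [hg0, ← map_pow, ← map_one φ] at h1
    have h2 := hφ h1
    apply Units.ext
    rw [Units.val_pow_eq_pow_val, h2, Units.val_one]
  · intro h
    apply Subtype.ext
    rw [Matrix.SpecialLinearGroup.coe_pow, Matrix.SpecialLinearGroup.coe_one, hg0]
    rw [← map_pow, ← Units.val_pow_eq_pow_val, h, Units.val_one, map_one]

end General

end Cfsg.Agent.Lib.Helper4.SL2Ord
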