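import Mathlib
import Cfsg.Agent.Lib.Helper4.SL2Ord3

set_option autoImplicit false

namespace Cfsg.Agent.Lib.Helper4.SL2Ord

open Matrix Cfsg.Agent.Lib.Helper4 Cfsg.Agent.Lib.Helper4.SL2Tr

theorem exists_orderOf_of_dvd {G : Type*} [Group G] (x : G) (N m : ℕ) (hN : orderOf x = N)
    (hN0 : N ≠ 0) (hm : m ∣ N) : ∃ y : G, orderOf y = m := by
  obtain ⟨c, rfl⟩ := hm
  have hc : c ≠ 0 := by rintro rfl; exact hN0 (mul_zero _)
  refine ⟨x ^ c, ?_⟩
  rw [orderOf_pow_of_dvd hc (by rw [hN]; exact dvd_mul_left _ _), hN]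
  exact Nat.mul_div_cancel _ (Nat.pos_of_ne_zero hc)

section General

variable {F : Type*} [Field F] [Fintype F] [DecidableEq F]

local notation "SL2" => Matrix.SpecialLinearGroup (Fin 2) F
local notation "PSL2" => Matrix.ProjectiveSpecialLinearGroup (Fin 2) F

theorem mk_pow_eq_one_iff (g : SL2) (k : ℕ) :
    (QuotientGroup.mk g : PSL2) ^ k = 1 ↔ g ^ k ∈ Subgroup.center SL2 := by
  rw [← QuotientGroup.mk_pow, QuotientGroup.eq_one_iff]

theorem upperU_mem_center_iff (b : F) : upperU b ∈ Subgroup.center SL2 ↔ b = 0 := by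
  constructor
  · intro h
    rw [Matrix.SpecialLinearGroup.mem_center_iff] at h
    obtain ⟨r, _, hr⟩ := h
    have h1 := congrFun (congrFun hr 0) 1
    rw [upperU_coe] at h1
    simpa using h1.symm
  · rintro rfl
    rw [upperU_zero]
    exact Subgroup.one_mem _

theorem orderOf_mk_upperU (p : ℕ) [Fact p.Prime] [CharP F p] :
    orderOf (QuotientGroup.mk (upperU (1 : F)) : PSL2) = p := by
  have key : ∀ n : ℕ, (QuotientGroup.mk (upperU (1 : F)) : PSL2) ^ n = 1 ↔ p ∣ n := by
    intro n
    rw [mk_pow_eq_one_iff, upperU_pow, upperU_mem_center_iff, mul_one, CharP.cast_eq_zero_iff F p]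
  apply Nat.dvd_antisymm
  · exact orderOf_dvd_of_pow_eq_one ((key p).2 dvd_rfl)
  · exact (key _).1 (pow_orderOf_eq_one _)

theorem orderOf_mk_even [CharP F 2] (g : SL2) :
    orderOf (QuotientGroup.mk g : PSL2) = orderOf g := by
  apply orderOf_eq_orderOf_iff.2
  intro n
  rw [mk_pow_eq_one_iff, center_SL2_eq_bot, Subgroup.mem_bot]

theorem mem_center_iff_sq (hodd : Odd (Fintype.card F)) (y : SL2) :
    y ∈ Subgroup.center SL2 ↔ y ^ 2 = 1 := by
  constructor
  · intro hy
    have := pow_card_eq_one' (G := Subgroup.center SL2) (x := ⟨y, hy⟩)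
    rw [card_center_SL2 hodd] at this
    have h2 := congrArg Subtype.val this
    rw [Subgroup.coe_pow] at h2
    exact h2
  · intro hy
    rcases eq_one_or_neg_of_sq hodd y hy with h | h
    · rw [h]; exact Subgroup.one_mem _
    · rw [h]; exact negOneSL_mem_center

theorem orderOf_mk_odd (hodd : Odd (Fintype.card F)) (g : SL2) (N : ℕ) (hN : orderOf g = 2 * N) :
    orderOf (QuotientGroup.mk g : PSL2) = N := by
  apply Nat.dvd_antisymm
  · apply orderOf_dvd_of_pow_eq_one
    rw [mk_pow_eq_one_iff, mem_center_iff_sq hodd, ← pow_mul, mul_comm, ← hN]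
    exact pow_orderOf_eq_one g
  · have h1 := pow_orderOf_eq_one (QuotientGroup.mk g : PSL2)
    rw [mk_pow_eq_one_iff, mem_center_iff_sq hodd, ← pow_mul, mul_comm] at h1
    have h2 := orderOf_dvd_of_pow_eq_one h1
    rw [hN] at h2
    exact Nat.dvd_of_mul_dvd_mul_left (by norm_num) h2

end General

theorem spectrum_even {F : Type*} [Field F] [Fintype F] (p : ℕ) [Fact p.Prime] [hpF : CharP F p]
    (h2 : 2 ∣ Fintype.card F) :
    Set.range (orderOf : Matrix.ProjectiveSpecialLinearGroup (Fin 2) F → ℕ) =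
      {m : ℕ | m ∣ p ∨ m ∣ (Fintype.card F - 1) / Nat.gcd 2 (Fintype.card F - 1) ∨
        m ∣ (Fintype.card F + 1) / Nat.gcd 2 (Fintype.card F - 1)} := by
  classical
  haveI h2' : CharP F 2 := charP_two_of_dvd h2
  have hp : p = 2 := CharP.eq F hpF h2'
  subst hp
  have hq2 : 2 ≤ Fintype.card F := Fintype.one_lt_card
  have hgcd : Nat.gcd 2 (Fintype.card F - 1) = 1 := by
    have : ¬ 2 ∣ Fintype.card F - 1 := by omega
    exact (Nat.Prime.coprime_iff_not_dvd Nat.prime_two).2 this
  rw [hgcd, Nat.div_one, Nat.div_one]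
  ext m
  simp only [Set.mem_range, Set.mem_setOf_eq]
  constructor
  · rintro ⟨x, rfl⟩
    obtain ⟨g, rfl⟩ := QuotientGroup.mk_surjective x
    rw [orderOf_mk_even]
    rcases order_cases_even g with h | h | h
    · left; exact orderOf_dvd_of_pow_eq_one h
    · right; left; exact orderOf_dvd_of_pow_eq_one h
    · right; right; exact orderOf_dvd_of_pow_eq_one h
  · rintro (h | h | h)
    · exact exists_orderOf_of_dvd _ 2 m (orderOf_mk_upperU 2) (by norm_num) h
    · obtain ⟨g, hg⟩ := exists_orderOf_card_sub_one (F := F)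
      exact exists_orderOf_of_dvd (QuotientGroup.mk g) _ m (by rw [orderOf_mk_even, hg]) (by omega) h
    · obtain ⟨g, hg⟩ := exists_orderOf_card_add_one (F := F) 2
      exact exists_orderOf_of_dvd (QuotientGroup.mk g) _ m (by rw [orderOf_mk_even, hg]) (by omega) h

theorem spectrum_odd {F : Type*} [Field F] [Fintype F] (p : ℕ) [Fact p.Prime] [CharP F p]
    (h2 : ¬ 2 ∣ Fintype.card F) (h3 : 3 ≤ Fintype.card F) :
    Set.range (orderOf : Matrix.ProjectiveSpecialLinearGroup (Fin 2) F → ℕ) =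
      {m : ℕ | m ∣ p ∨ m ∣ (Fintype.card F - 1) / Nat.gcd 2 (Fintype.card F - 1) ∨
        m ∣ (Fintype.card F + 1) / Nat.gcd 2 (Fintype.card F - 1)} := by
  classical
  have hodd : Odd (Fintype.card F) := by rw [Nat.odd_iff]; omega
  have hgcd : Nat.gcd 2 (Fintype.card F - 1) = 2 := by
    apply Nat.gcd_eq_left
    omega
  rw [hgcd]
  have e1 : Fintype.card F - 1 = 2 * ((Fintype.card F - 1) / 2) := by omega
  have e2 : Fintype.card F + 1 = 2 * ((Fintype.card F + 1) / 2) := by omega
  ext m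
  simp only [Set.mem_range, Set.mem_setOf_eq]
  constructor
  · rintro ⟨x, rfl⟩
    obtain ⟨g, rfl⟩ := QuotientGroup.mk_surjective x
    rcases order_cases_odd hodd p g with h | h | h
    · left
      apply orderOf_dvd_of_pow_eq_one
      rw [mk_pow_eq_one_iff]
      exact h
    · right; left
      apply orderOf_dvd_of_pow_eq_one
      rw [mk_pow_eq_one_iff, mem_center_iff_sq hodd, ← pow_mul, mul_comm, ← e1]
      exact h
    · right; right
      apply orderOf_dvd_of_pow_eq_one
      rw [mk_pow_eq_one_iff, mem_center_iff_sq hodd, ← pow_mul, mul_comm, ← e2]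
      exact h
  · rintro (h | h | h)
    · exact exists_orderOf_of_dvd _ p m (orderOf_mk_upperU p) (Fact.out : p.Prime).ne_zero h
    · obtain ⟨g, hg⟩ := exists_orderOf_card_sub_one (F := F)
      exact exists_orderOf_of_dvd (QuotientGroup.mk g) _ m
        (orderOf_mk_odd hodd g _ (by rw [hg]; exact e1)) (by omega) h
    · obtain ⟨g, hg⟩ := exists_orderOf_card_add_one (F := F) p
      exact exists_orderOf_of_dvd (QuotientGroup.mk g) _ m
        (orderOf_mk_odd hodd g _ (by rw [hg]; exact e2)) (by omega) h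

end Cfsg.Agent.Lib.Helper4.SL2Ord
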