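import Mathlib
import Cfsg.Agent.Lib.Helper4.SL2Ord4
import Cfsg.Agent.Lib.Helper4.SLCard

set_option autoImplicit false

namespace Cfsg.Agent.Lib.Helper4.GL52

open Matrix

variable {F : Type*} [Field F] [Fintype F]

theorem charP_two_of_card {n : ℕ} (hn : n ≠ 0) (hF : Fintype.card F = 2 ^ n) : CharP F 2 := by
  obtain ⟨p, hp⟩ := CharP.exists F
  haveI := hp
  obtain ⟨k, hpp, hk⟩ := FiniteField.card F p
  have : p ∣ 2 ^ n := by
    rw [← hF, hk]
    exact dvd_pow_self p k.ne_zero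
  have h2 := (Nat.prime_dvd_prime_iff_eq hpp Nat.prime_two).1 (hpp.dvd_of_dvd_pow this)
  subst h2
  exact hp

/-- In a field with 8 elements there is a root of `X³ + X + 1`. -/
theorem exists_root (hF : Fintype.card F = 8) : ∃ t : F, t ^ 3 = t + 1 := by
  classical
  haveI : CharP F 2 := charP_two_of_card (n := 3) (by norm_num) (by rw [hF]; norm_num)
  have h2 : (2 : F) = 0 := by
    have := CharP.cast_eq_zero F 2
    exact_mod_cast this
  -- an element different from 0 and 1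
  have : ∃ x : F, x ≠ 0 ∧ x ≠ 1 := by
    by_contra hall
    push Not at hall
    have hsub : (Finset.univ : Finset F) ⊆ {0, 1} := by
      intro x _
      by_cases hx : x = 0
      · simp [hx]
      · simp [hall x hx]
    have := Finset.card_le_card hsub
    rw [Finset.card_univ, hF] at this
    have h2' : ({0, 1} : Finset F).card ≤ 2 := Finset.card_le_two
    omega
  obtain ⟨x, hx0, hx1⟩ := this
  have hx7 : x ^ 7 = 1 := by
    have := FiniteField.pow_card_sub_one_eq_one x hx0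
    rw [hF] at this
    exact this
  have hprod : (x ^ 3 + x + 1) * (x ^ 3 + x ^ 2 + 1) = 0 := by
    have h1 : (x - 1) * ((x ^ 3 + x + 1) * (x ^ 3 + x ^ 2 + 1)) = 0 := by
      linear_combination hx7 + (x ^ 4 - x ^ 3) * h2
    rcases mul_eq_zero.1 h1 with h | h
    · exact absurd (sub_eq_zero.1 h) hx1
    · exact h
  rcases mul_eq_zero.1 hprod with h | h
  · exact ⟨x, by linear_combination h - (x + 1) * h2⟩
  · refine ⟨x⁻¹, ?_⟩
    have hxi : x * x⁻¹ = 1 := mul_inv_cancel₀ hx0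
    -- x⁻¹ ^ 3 + x⁻¹ + 1 = x⁻³ (1 + x² + x³)
    have : x⁻¹ ^ 3 - x⁻¹ - 1 = x⁻¹ ^ 3 * (x ^ 3 + x ^ 2 + 1) - 2 * x⁻¹ - 2
        + (x⁻¹ - x⁻¹ ^ 3 * x ^ 2 * x⁻¹ ⁻¹ * 0) * 0 + (1 - x⁻¹ ^ 3 * x ^ 3) + (x⁻¹ - x⁻¹ ^ 3 * x ^ 2) := by
      ring
    have e1 : x⁻¹ ^ 3 * x ^ 3 = 1 := by rw [← mul_pow, mul_comm, hxi, one_pow]
    have e2 : x⁻¹ ^ 3 * x ^ 2 = x⁻¹ := by
      have : x⁻¹ ^ 3 * x ^ 2 = x⁻¹ * (x * x⁻¹) ^ 2 := by ring
      rw [this, hxi, one_pow, mul_one]
    have h3 : x⁻¹ ^ 3 - x⁻¹ - 1 = 0 := by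
      rw [this, h, e1, e2, h2]; ring
    linear_combination h3

variable [DecidableEq F]

/-- The element of order 9. -/
def nineElt [CharP F 2] (t : F) : Matrix.SpecialLinearGroup (Fin 2) F :=
  ⟨!![0, 1; 1, t], by
    have h2 : (2 : F) = 0 := by
      have := CharP.cast_eq_zero F 2
      exact_mod_cast this
    rw [Matrix.det_fin_two_of]; linear_combination (-1 : F) * h2⟩

theorem nineElt_pow_three [CharP F 2] (t : F) (ht : t ^ 3 = t + 1) :
    ((nineElt t ^ 3 : Matrix.SpecialLinearGroup (Fin 2) F) : Matrix (Fin 2) (Fin 2) F) =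
      !![t, 1 + t ^ 2; 1 + t ^ 2, 1 + t] := by
  have h2 : (2 : F) = 0 := by
    have := CharP.cast_eq_zero F 2
    exact_mod_cast this
  rw [Matrix.SpecialLinearGroup.coe_pow]
  show (!![0, 1; 1, t] : Matrix (Fin 2) (Fin 2) F) ^ 3 = _
  rw [pow_succ, pow_two]
  simp only [Matrix.mul_fin_two, Matrix.of_apply, Matrix.cons_val', Matrix.cons_val_zero,
    Matrix.cons_val_one]
  ext i j
  fin_cases i <;> fin_cases j <;> simp
  · ring
  · ring
  · linear_combination ((1)) * ht + ((1)*t) * h2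

theorem nineElt_pow_nine [CharP F 2] (t : F) (ht : t ^ 3 = t + 1) :
    nineElt t ^ 9 = 1 := by
  have h2 : (2 : F) = 0 := by
    have := CharP.cast_eq_zero F 2
    exact_mod_cast this
  apply Subtype.ext
  have : nineElt t ^ 9 = (nineElt t ^ 3) ^ 3 := by rw [← pow_mul]
  rw [this, Matrix.SpecialLinearGroup.coe_pow, nineElt_pow_three t ht, pow_succ, pow_two]
  simp only [Matrix.mul_fin_two]
  rw [Matrix.SpecialLinearGroup.coe_one]
  ext i j
  fin_cases i <;> fin_cases j <;> simp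
  · linear_combination ((10) + (1)*t + (3)*t^2) * ht + ((5) + (7)*t + (3)*t^2) * h2
  · linear_combination ((4) + (7)*t + (1)*t^3) * ht + ((3) + (7)*t + (7)*t^2) * h2
  · linear_combination ((4) + (7)*t + (1)*t^3) * ht + ((3) + (7)*t + (7)*t^2) * h2
  · linear_combination ((10) + (2)*t + (3)*t^2) * ht + ((6) + (9)*t + (6)*t^2) * h2

theorem exists_order_nine (hF : Fintype.card F = 8) :
    ∃ x : Matrix.ProjectiveSpecialLinearGroup (Fin 2) F, orderOf x = 9 := by
  haveI : CharP F 2 := charP_two_of_card (n := 3) (by norm_num) (by rw [hF]; norm_num)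
  have h2 : (2 : F) = 0 := by
    have := CharP.cast_eq_zero F 2
    exact_mod_cast this
  obtain ⟨t, ht⟩ := exists_root hF
  refine ⟨QuotientGroup.mk (nineElt t), ?_⟩
  rw [SL2Ord.orderOf_mk_even]
  have h9 := nineElt_pow_nine t ht
  have h3 : nineElt t ^ 3 ≠ 1 := by
    intro h
    have h' := congrArg (fun g : Matrix.SpecialLinearGroup (Fin 2) F =>
      (g : Matrix (Fin 2) (Fin 2) F) 0 0) h
    simp only [nineElt_pow_three t ht, Matrix.SpecialLinearGroup.coe_one] at h'
    have ht1 : t = 1 := by simpa using h'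
    rw [ht1] at ht
    have : (1 : F) = 0 := by linear_combination ht + h2
    exact one_ne_zero this
  have := orderOf_eq_prime_pow (p := 3) (n := 1) (x := nineElt t) (by simpa using h3)
    (by simpa using h9)
  simpa using this

end Cfsg.Agent.Lib.Helper4.GL52
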