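import Mathlib
import Cfsg.Agent.Lib.Helper4.SL2Ord4

set_option autoImplicit false

namespace Cfsg.Agent.Lib.Helper4.SL2Cov

open Matrix Cfsg.Agent.Lib.Helper4 Cfsg.Agent.Lib.Helper4.SL2Tr Cfsg.Agent.Lib.Helper4.SL2Ord

section General

variable {F : Type*} [Field F]

local notation "SL2" => Matrix.SpecialLinearGroup (Fin 2) F

theorem conjSL_trace (c : GL (Fin 2) F) (x : SL2) :
    (conjSL c x : Matrix (Fin 2) (Fin 2) F).trace = (x : Matrix (Fin 2) (Fin 2) F).trace := by
  rw [conjSL_coe, Matrix.trace_mul_comm, ← Matrix.mul_assoc, ← Units.val_mul, inv_mul_cancel,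
    Units.val_one, Matrix.one_mul]

/-- the matrix `[[a, b], [c, d]]` of determinant one -/
def mk2 (a b c d : F) (h : a * d - b * c = 1) : SL2 :=
  ⟨!![a, b; c, d], by rw [Matrix.det_fin_two_of]; exact h⟩

theorem mk2_coe (a b c d : F) (h : a * d - b * c = 1) :
    (mk2 a b c d h : Matrix (Fin 2) (Fin 2) F) = !![a, b; c, d] := rfl

theorem mk2_trace (a b c d : F) (h : a * d - b * c = 1) :
    (mk2 a b c d h : Matrix (Fin 2) (Fin 2) F).trace = a + d := by
  rw [mk2_coe, Matrix.trace_fin_two_of]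

theorem mk2_inv_coe (a b c d : F) (h : a * d - b * c = 1) :
    ((mk2 a b c d h)⁻¹ : SL2) = mk2 d (-b) (-c) a (by linear_combination h) := by
  apply Subtype.ext
  rw [Matrix.SpecialLinearGroup.coe_inv, mk2_coe, mk2_coe, Matrix.adjugate_fin_two_of]

/-- a solution of the conic gives a factorisation with prescribed traces -/
theorem exists_factor (g' : SL2) (hg' : ¬ IsScalar2 (g' : Matrix (Fin 2) (Fin 2) F))
    (s s' a b : F)
    (h : a ^ 2 + b ^ 2 - (g' : Matrix (Fin 2) (Fin 2) F).trace * a * b - s * a + s' * b + 1 = 0) :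
    ∃ A B : SL2, (A : Matrix (Fin 2) (Fin 2) F).trace = s ∧
      (B : Matrix (Fin 2) (Fin 2) F).trace = s' ∧ A * B = g' := by
  set t' := (g' : Matrix (Fin 2) (Fin 2) F).trace with ht'
  have hconj := toGL_isConj_of_trace_eq (compSL t') g' (compSL_not_scalar t') hg' (compSL_trace t')
  obtain ⟨P, hP⟩ := isConj_iff.1 hconj
  have hPg : conjSL P (compSL t') = g' := by
    apply Subtype.ext
    rw [conjSL_coe]
    have := congrArg (fun z : GL (Fin 2) F => (z : Matrix (Fin 2) (Fin 2) F)) hP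
    simpa using this
  have hdet : a * (s - a) - b * (s' + b - a * t') = 1 := by linear_combination -h
  set A₀ : SL2 := mk2 a b (s' + b - a * t') (s - a) hdet with hA₀
  set B₀ : SL2 := A₀⁻¹ * compSL t' with hB₀
  refine ⟨conjSL P A₀, conjSL P B₀, ?_, ?_, ?_⟩
  · rw [conjSL_trace, hA₀, mk2_trace]; ring
  · rw [conjSL_trace, hB₀, hA₀, mk2_inv_coe, Matrix.SpecialLinearGroup.coe_mul, mk2_coe, compSL_coe,
      Matrix.trace_fin_two]
    simp only [Matrix.mul_apply, Fin.sum_univ_two, Matrix.of_apply, Matrix.cons_val', Matrix.cons_val_zero,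
      Matrix.cons_val_one, Matrix.cons_val_fin_one]
    ring
  · rw [← conjSL_mul, hB₀, mul_inv_cancel_left, hPg]

end General

end Cfsg.Agent.Lib.Helper4.SL2Cov
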