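import Mathlib
import Cfsg.Agent.Lib.Helper4.SL2Cov1

set_option autoImplicit false

namespace Cfsg.Agent.Lib.Helper4.SL2Cov

open Matrix Cfsg.Agent.Lib.Helper4 Cfsg.Agent.Lib.Helper4.SL2Tr Cfsg.Agent.Lib.Helper4.SL2Ord

section Even

variable {F : Type*} [Field F] [Fintype F] [DecidableEq F] [CharP F 2]

local notation "SL2" => Matrix.SpecialLinearGroup (Fin 2) F
local notation "PSL2" => Matrix.ProjectiveSpecialLinearGroup (Fin 2) F

theorem sq_eq_one_of_trace_zero (g : SL2) (ht : (g : Matrix (Fin 2) (Fin 2) F).trace = 0) :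
    g ^ 2 = 1 := by
  have hc := cayley g
  rw [ht, zero_smul, zero_sub] at hc
  apply Subtype.ext
  rw [pow_two, Matrix.SpecialLinearGroup.coe_mul, hc, Matrix.SpecialLinearGroup.coe_one]
  have h2 : (2 : F) = 0 := two_eq_zero'
  ext i j
  rw [Matrix.neg_apply]
  linear_combination (-(1 : Matrix (Fin 2) (Fin 2) F) i j) * h2

theorem split_of_order (g : SL2) (h2 : g ^ 2 ≠ 1) (hq : g ^ (Fintype.card F + 1) ≠ 1) :
    (g : Matrix (Fin 2) (Fin 2) F).trace ≠ 0 ∧
      ∃ r : F, r * ((g : Matrix (Fin 2) (Fin 2) F).trace - r) = 1 := by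
  have ht : (g : Matrix (Fin 2) (Fin 2) F).trace ≠ 0 := fun h => h2 (sq_eq_one_of_trace_zero g h)
  refine ⟨ht, ?_⟩
  have hidx := index_of_trace_ne_zero g ht
  rcases R_cases _ ht with hR | hR
  · exfalso
    apply hq
    rw [hR] at hidx
    rw [← card_centralizer_of_R_zero g hidx]
    exact pow_card_centralizer g
  · by_contra hne
    push Not at hne
    rw [R_eq_zero _ hne] at hR
    omega

theorem cover_even (g : SL2) (h2 : g ^ 2 ≠ 1) (hq : g ^ (Fintype.card F + 1) ≠ 1)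
    (g' : SL2) (hg' : g' ≠ 1) :
    ∃ u v : SL2, g' = (u * g * u⁻¹) * (v * g * v⁻¹) := by
  obtain ⟨ht, r, hr⟩ := split_of_order g h2 hq
  have hg1 : g ≠ 1 := by rintro rfl; exact h2 (one_pow 2)
  obtain ⟨A, B, hA, hB, hAB⟩ := exists_factor g' (not_isScalar2_of_ne_one g' hg')
    (g : Matrix (Fin 2) (Fin 2) F).trace (g : Matrix (Fin 2) (Fin 2) F).trace r 0
    (by linear_combination -hr)
  have hne : ∀ X : SL2, (X : Matrix (Fin 2) (Fin 2) F).trace = (g : Matrix (Fin 2) (Fin 2) F).trace →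
      IsConj g X := by
    intro X hX
    rw [isConj_iff_trace g X hg1]
    refine ⟨?_, hX⟩
    rintro rfl
    rw [SL2Tr.trace_one] at hX
    exact ht hX.symm
  obtain ⟨u, hu⟩ := isConj_iff.1 (hne A hA)
  obtain ⟨v, hv⟩ := isConj_iff.1 (hne B hB)
  exact ⟨u, v, by rw [hu, hv, hAB]⟩

theorem cover_even_PSL (x : PSL2) (hx2 : 2 < orderOf x) (hxq : ¬ orderOf x ∣ Fintype.card F + 1)
    (y : PSL2) (hy : y ≠ 1) : ∃ u v : PSL2, y = (u * x * u⁻¹) * (v * x * v⁻¹) := by
  obtain ⟨g, rfl⟩ := QuotientGroup.mk_surjective x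
  obtain ⟨g', rfl⟩ := QuotientGroup.mk_surjective y
  rw [orderOf_mk_even] at hx2 hxq
  have h2 : g ^ 2 ≠ 1 := by
    intro h
    have := Nat.le_of_dvd (by norm_num) (orderOf_dvd_of_pow_eq_one h)
    omega
  have hq : g ^ (Fintype.card F + 1) ≠ 1 := fun h => hxq (orderOf_dvd_of_pow_eq_one h)
  have hg' : g' ≠ 1 := by rintro rfl; exact hy rfl
  obtain ⟨u, v, huv⟩ := cover_even g h2 hq g' hg'
  refine ⟨QuotientGroup.mk u, QuotientGroup.mk v, ?_⟩
  rw [huv]
  rfl

end Even

section Odd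

variable {F : Type*} [Field F] [Fintype F] [DecidableEq F]

local notation "SL2" => Matrix.SpecialLinearGroup (Fin 2) F
local notation "PSL2" => Matrix.ProjectiveSpecialLinearGroup (Fin 2) F

theorem conic_odd (hodd : Odd (Fintype.card F)) (s t' : F) (hs : s ≠ 0) :
    ∃ s' a b : F, (s' = s ∨ s' = -s) ∧
      a ^ 2 + b ^ 2 - t' * a * b - s * a + s' * b + 1 = 0 := by
  have h2 := two_ne_zero_of_odd hodd
  have h4 := four_ne_zero_of_odd hodd
  by_cases ht : t' ^ 2 = 4
  · have h5 : (t' - 2) * (t' + 2) = 0 := by linear_combination ht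
    rcases mul_eq_zero.1 h5 with h6 | h6
    · have e : t' = 2 := sub_eq_zero.1 h6
      refine ⟨-s, 1 / (2 * s), 1 / (2 * s), Or.inr rfl, ?_⟩
      rw [e]
      field_simp
      ring
    · have e : t' = -2 := eq_neg_of_add_eq_zero_left h6
      refine ⟨s, 1 / (2 * s), -(1 / (2 * s)), Or.inl rfl, ?_⟩
      rw [e]
      field_simp
      ring
  · set τ : F := t' / 2 with hτ
    have hτ' : t' = 2 * τ := by rw [hτ]; field_simp
    have hc0 : 1 - τ ^ 2 ≠ 0 := by
      intro h
      apply ht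
      rw [hτ']
      linear_combination -4 * h
    have hdeg1 : (Polynomial.X ^ 2 - Polynomial.C s * Polynomial.X + Polynomial.C 1 :
        Polynomial F).degree = 2 := by
      compute_degree!
    have hdeg2 : (Polynomial.C (1 - τ ^ 2) * Polynomial.X ^ 2
        + Polynomial.C (s * (1 - τ)) * Polynomial.X : Polynomial F).degree = 2 := by
      compute_degree!
    obtain ⟨u, b, hub⟩ := FiniteField.exists_root_sum_quadratic hdeg1 hdeg2 (Nat.odd_iff.1 hodd)
    simp only [Polynomial.eval_pow, Polynomial.eval_X, Polynomial.eval_sub, Polynomial.eval_mul,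
      Polynomial.eval_C, Polynomial.eval_add] at hub
    refine ⟨s, u + τ * b, b, Or.inl rfl, ?_⟩
    rw [hτ']
    linear_combination hub

end Odd

end Cfsg.Agent.Lib.Helper4.SL2Cov
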