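import Mathlib
import Cfsg.Agent.Lib.Helper4.SL2Cov2

set_option autoImplicit false

namespace Cfsg.Agent.Lib.Helper4.SL2Cov

open Matrix Cfsg.Agent.Lib.Helper4 Cfsg.Agent.Lib.Helper4.SL2Tr Cfsg.Agent.Lib.Helper4.SL2Ord

section Odd

variable {F : Type*} [Field F] [Fintype F] [DecidableEq F]

local notation "SL2" => Matrix.SpecialLinearGroup (Fin 2) F
local notation "PSL2" => Matrix.ProjectiveSpecialLinearGroup (Fin 2) F

theorem negOneSL_mul_self : negOneSL F * negOneSL F = 1 := by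
  apply Subtype.ext
  rw [neg_mul_coe, negOneSL_coe, Matrix.SpecialLinearGroup.coe_one]
  ext i j
  fin_cases i <;> fin_cases j <;> simp

theorem mk_negOneSL : (QuotientGroup.mk (negOneSL F) : PSL2) = 1 := by
  rw [QuotientGroup.eq_one_iff]
  exact negOneSL_mem_center

theorem cover_odd (hodd : Odd (Fintype.card F)) (g : SL2)
    (hg : ¬ IsScalar2 (g : Matrix (Fin 2) (Fin 2) F))
    (hs0 : (g : Matrix (Fin 2) (Fin 2) F).trace ≠ 0)
    (hs4 : (g : Matrix (Fin 2) (Fin 2) F).trace ^ 2 ≠ 4)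
    (g' : SL2) (hg' : ¬ IsScalar2 (g' : Matrix (Fin 2) (Fin 2) F)) :
    ∃ u v : SL2, g' = (u * g * u⁻¹) * (v * g * v⁻¹) ∨
      g' = (u * g * u⁻¹) * (negOneSL F * (v * g * v⁻¹)) := by
  obtain ⟨s', a, b, hs', hconic⟩ := conic_odd hodd (g : Matrix (Fin 2) (Fin 2) F).trace
    (g' : Matrix (Fin 2) (Fin 2) F).trace hs0
  obtain ⟨A, B, hA, hB, hAB⟩ := exists_factor g' hg' _ s' a b hconic
  obtain ⟨u, hu⟩ := isConj_iff.1 ((isConj_iff_trace_odd hodd g A hg hs4).2 hA)
  rcases hs' with h | h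
  · rw [h] at hB
    obtain ⟨v, hv⟩ := isConj_iff.1 ((isConj_iff_trace_odd hodd g B hg hs4).2 hB)
    exact ⟨u, v, Or.inl (by rw [hu, hv, hAB])⟩
  · have hB' : ((negOneSL F * B : SL2) : Matrix (Fin 2) (Fin 2) F).trace
        = (g : Matrix (Fin 2) (Fin 2) F).trace := by
      rw [trace_neg_mul, hB, h, neg_neg]
    obtain ⟨v, hv⟩ := isConj_iff.1 ((isConj_iff_trace_odd hodd g _ hg hs4).2 hB')
    refine ⟨u, v, Or.inr ?_⟩
    rw [hu, hv, ← mul_assoc (negOneSL F), negOneSL_mul_self, one_mul, hAB]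

theorem cover_odd_PSL (hodd : Odd (Fintype.card F)) (p : ℕ) [Fact p.Prime] [CharP F p]
    (x : PSL2) (hx2 : 2 < orderOf x) (hxp : ¬ p ∣ orderOf x)
    (y : PSL2) (hy : y ≠ 1) : ∃ u v : PSL2, y = (u * x * u⁻¹) * (v * x * v⁻¹) := by
  obtain ⟨g, rfl⟩ := QuotientGroup.mk_surjective x
  obtain ⟨g', rfl⟩ := QuotientGroup.mk_surjective y
  have h2 := two_ne_zero_of_odd hodd
  have hg : ¬ IsScalar2 (g : Matrix (Fin 2) (Fin 2) F) := by
    intro h
    have h1 : (QuotientGroup.mk g : PSL2) = 1 := by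
      rw [QuotientGroup.eq_one_iff]
      exact mem_center_of_isScalar2 g h
    rw [h1, orderOf_one] at hx2
    omega
  have hg' : ¬ IsScalar2 (g' : Matrix (Fin 2) (Fin 2) F) := by
    intro h
    apply hy
    rw [QuotientGroup.eq_one_iff]
    exact mem_center_of_isScalar2 g' h
  have hs0 : (g : Matrix (Fin 2) (Fin 2) F).trace ≠ 0 := by
    intro h0
    have hc := cayley g
    rw [h0, zero_smul, zero_sub] at hc
    have h1 : (QuotientGroup.mk g : PSL2) ^ 2 = 1 := by
      rw [mk_pow_eq_one_iff]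
      apply mem_center_of_isScalar2
      rw [pow_two, Matrix.SpecialLinearGroup.coe_mul, hc]
      refine ⟨?_, ?_, ?_⟩ <;> simp
    have := Nat.le_of_dvd (by norm_num) (orderOf_dvd_of_pow_eq_one h1)
    omega
  have hs4 : (g : Matrix (Fin 2) (Fin 2) F).trace ^ 2 ≠ 4 := by
    intro h4
    have h1 : (QuotientGroup.mk g : PSL2) ^ p = 1 := by
      rw [mk_pow_eq_one_iff]
      apply mem_center_of_isScalar2
      apply pow_char_isScalar2 p g ((g : Matrix (Fin 2) (Fin 2) F).trace / 2)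
      · field_simp
        linear_combination h4
      · field_simp
    have h3 := orderOf_dvd_of_pow_eq_one h1
    rcases (Nat.dvd_prime (Fact.out : p.Prime)).1 h3 with h5 | h5
    · omega
    · exact hxp (by rw [h5])
  obtain ⟨u, v, huv⟩ := cover_odd hodd g hg hs0 hs4 g' hg'
  refine ⟨QuotientGroup.mk u, QuotientGroup.mk v, ?_⟩
  rcases huv with h | h
  · rw [h]; rfl
  · rw [h]
    have : (QuotientGroup.mk ((u * g * u⁻¹) * (negOneSL F * (v * g * v⁻¹))) : PSL2)
        = QuotientGroup.mk (u * g * u⁻¹) * (QuotientGroup.mk (negOneSL F) *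
          QuotientGroup.mk (v * g * v⁻¹)) := rfl
    rw [this, mk_negOneSL, one_mul]
    rfl

end Odd

end Cfsg.Agent.Lib.Helper4.SL2Cov
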