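import Mathlib
import Cfsg.Agent.Lib.Helper4.SL2Cov3

set_option autoImplicit false

namespace Cfsg.Agent.Lib.Helper4.SL2AH

open Matrix Cfsg.Agent.Lib.Helper4 Cfsg.Agent.Lib.Helper4.SL2Tr Cfsg.Agent.Lib.Helper4.SL2Ord
  Cfsg.Agent.Lib.Helper4.SL2Cov

section General

variable {F : Type*} [Field F]

local notation "SL2" => Matrix.SpecialLinearGroup (Fin 2) F
local notation "PSL2" => Matrix.ProjectiveSpecialLinearGroup (Fin 2) F

theorem eq_mk2 (g : SL2) : g = mk2 (g 0 0) (g 0 1) (g 1 0) (g 1 1) (sl2_det g) := by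
  apply Subtype.ext
  rw [mk2_coe]
  exact Matrix.eta_fin_two _

theorem mk2_mul (a b c d a' b' c' d' : F) (h h') :
    mk2 a b c d h * mk2 a' b' c' d' h' = mk2 (a * a' + b * c') (a * b' + b * d') (c * a' + d * c')
      (c * b' + d * d') (by linear_combination (a' * d' - b' * c') * h + h') := by
  apply Subtype.ext
  rw [Matrix.SpecialLinearGroup.coe_mul, mk2_coe, mk2_coe, mk2_coe]
  ext i j
  fin_cases i <;> fin_cases j <;> simp [Matrix.mul_apply, Fin.sum_univ_two]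

/-- every non-scalar element has a conjugate with non-zero lower-left entry -/
theorem exists_conj_10 (g : SL2) (hg : ¬ IsScalar2 (g : Matrix (Fin 2) (Fin 2) F)) :
    ∃ h : SL2, (h * g * h⁻¹) 1 0 ≠ 0 := by
  by_cases h10 : g 1 0 = 0
  · by_cases h01 : g 0 1 = 0
    · -- diagonal, conjugate by a lower unitriangular matrix
      have hne : g 0 0 ≠ g 1 1 := fun h => hg ⟨h01, h10, h⟩
      refine ⟨mk2 1 0 1 1 (by ring), ?_⟩
      rw [mk2_inv_coe]
      conv_lhs => rw [eq_mk2 g]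
      rw [mk2_mul, mk2_mul]
      change ((mk2 _ _ _ _ _ : SL2) : Matrix (Fin 2) (Fin 2) F) 1 0 ≠ 0
      rw [mk2_coe]
      simp only [Matrix.of_apply, Matrix.cons_val', Matrix.cons_val_zero, Matrix.cons_val_one,
        Matrix.cons_val_fin_one]
      intro h
      apply hne
      rw [h10, h01] at h
      linear_combination h
    · refine ⟨mk2 0 1 (-1) 0 (by ring), ?_⟩
      rw [mk2_inv_coe]
      conv_lhs => rw [eq_mk2 g]
      rw [mk2_mul, mk2_mul]
      change ((mk2 _ _ _ _ _ : SL2) : Matrix (Fin 2) (Fin 2) F) 1 0 ≠ 0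
      rw [mk2_coe]
      simp only [Matrix.of_apply, Matrix.cons_val', Matrix.cons_val_zero, Matrix.cons_val_one,
        Matrix.cons_val_fin_one]
      intro h
      apply h01
      linear_combination -h
  · exact ⟨1, by simpa using h10⟩

theorem upperU_eq_mk2 (x : F) : upperU x = mk2 1 x 0 1 (by ring) := rfl

/-- the trace of `u(x) G₁ u(x)⁻¹ G₂` is a quadratic polynomial in `x` -/
theorem trace_formula (G₁ G₂ : SL2) (x : F) :
    ((upperU x * G₁ * (upperU x)⁻¹ * G₂ : SL2) : Matrix (Fin 2) (Fin 2) F).trace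
      = (-(G₁ 1 0 * G₂ 1 0)) * x ^ 2
        + (G₁ 1 0 * G₂ 0 0 + (G₁ 1 1 - G₁ 0 0) * G₂ 1 0 - G₁ 1 0 * G₂ 1 1) * x
        + (G₁ 0 0 * G₂ 0 0 + G₁ 0 1 * G₂ 1 0 + G₁ 1 0 * G₂ 0 1 + G₁ 1 1 * G₂ 1 1) := by
  rw [upperU_eq_mk2, mk2_inv_coe]
  conv_lhs => rw [eq_mk2 G₁, eq_mk2 G₂]
  rw [mk2_mul, mk2_mul, mk2_mul, mk2_trace]
  ring

theorem trace_sq_of_isConj_mk (A B : SL2)
    (h : IsConj (QuotientGroup.mk A : PSL2) (QuotientGroup.mk B : PSL2)) :
    (A : Matrix (Fin 2) (Fin 2) F).trace ^ 2 = (B : Matrix (Fin 2) (Fin 2) F).trace ^ 2 := by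
  obtain ⟨u, hu⟩ := isConj_iff.1 h
  obtain ⟨k, rfl⟩ := QuotientGroup.mk_surjective u
  have h1 : (QuotientGroup.mk (k * A * k⁻¹) : PSL2) = QuotientGroup.mk B := hu
  rw [QuotientGroup.eq] at h1
  rw [Matrix.SpecialLinearGroup.mem_center_iff] at h1
  obtain ⟨r, hr, hrz⟩ := h1
  simp only [Fintype.card_fin] at hr
  have h2 : (B : Matrix (Fin 2) (Fin 2) F) = ((k * A * k⁻¹ : SL2) : Matrix (Fin 2) (Fin 2) F) *
      Matrix.scalar (Fin 2) r := by
    rw [hrz, ← Matrix.SpecialLinearGroup.coe_mul, mul_inv_cancel_left]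
  have h3 : (B : Matrix (Fin 2) (Fin 2) F).trace = r * (A : Matrix (Fin 2) (Fin 2) F).trace := by
    rw [h2, ← sl2_trace_conj A k]
    set M := ((k * A * k⁻¹ : SL2) : Matrix (Fin 2) (Fin 2) F)
    rw [Matrix.trace_fin_two, Matrix.trace_fin_two]
    simp [Matrix.mul_apply, Matrix.scalar_apply, Matrix.diagonal_apply]
    ring
  rw [h3, mul_pow, hr, one_mul]

end General

section Finite

variable {F : Type*} [Field F] [Fintype F] [DecidableEq F]

local notation "SL2" => Matrix.SpecialLinearGroup (Fin 2) F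
local notation "PSL2" => Matrix.ProjectiveSpecialLinearGroup (Fin 2) F

theorem exists_sq_ne (A B C₀ : F) (hA : A ≠ 0) (h4 : 4 ≤ Fintype.card F) :
    ∃ x₁ x₂ : F, (A * x₁ ^ 2 + B * x₁ + C₀) ^ 2 ≠ (A * x₂ ^ 2 + B * x₂ + C₀) ^ 2 := by
  by_contra hcon
  push Not at hcon
  by_cases h5 : 5 ≤ Fintype.card F
  · set P : Polynomial F := (Polynomial.C A * Polynomial.X ^ 2 + Polynomial.C B * Polynomial.X
      + Polynomial.C C₀) ^ 2 - Polynomial.C (C₀ ^ 2) with hP
    have hdeg : P.natDegree = 4 := by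
      rw [hP]
      compute_degree!
    have hP0 : P = 0 := by
      apply Polynomial.eq_zero_of_degree_lt_of_eval_finset_eq_zero Finset.univ
      · rw [Finset.card_univ]
        apply lt_of_le_of_lt Polynomial.degree_le_natDegree
        rw [hdeg]
        exact_mod_cast h5
      · intro x _
        rw [hP]
        simp only [Polynomial.eval_pow, Polynomial.eval_X, Polynomial.eval_sub, Polynomial.eval_mul,
          Polynomial.eval_C, Polynomial.eval_add]
        have := hcon x 0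
        simp only [ne_eq, OfNat.ofNat_ne_zero, not_false_eq_true, zero_pow, mul_zero, add_zero,
          zero_add] at this
        rw [this, sub_self]
    rw [hP0, Polynomial.natDegree_zero] at hdeg
    omega
  · have hq : Fintype.card F = 4 := by omega
    haveI : CharP F 2 := charP_two_of_dvd (by rw [hq]; norm_num)
    have h2 : (2 : F) = 0 := two_eq_zero'
    set P : Polynomial F := Polynomial.C A * Polynomial.X ^ 2 + Polynomial.C B * Polynomial.X with hP
    have hdeg : P.natDegree = 2 := by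
      rw [hP]
      compute_degree!
    have hP0 : P = 0 := by
      apply Polynomial.eq_zero_of_degree_lt_of_eval_finset_eq_zero Finset.univ
      · rw [Finset.card_univ]
        apply lt_of_le_of_lt Polynomial.degree_le_natDegree
        rw [hdeg, hq]
        norm_num
      · intro x _
        rw [hP]
        simp only [Polynomial.eval_pow, Polynomial.eval_X, Polynomial.eval_mul,
          Polynomial.eval_C, Polynomial.eval_add]
        have := hcon x 0
        simp only [ne_eq, OfNat.ofNat_ne_zero, not_false_eq_true, zero_pow, mul_zero, add_zero,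
          zero_add] at this
        have h3 : (A * x ^ 2 + B * x) ^ 2 = 0 := by
          linear_combination this - (A * x ^ 2 + B * x) * C₀ * h2
        exact pow_eq_zero_iff (two_ne_zero) |>.1 h3
    rw [hP0, Polynomial.natDegree_zero] at hdeg
    omega

theorem not_isScalar2_of_mk_ne_one (g : SL2) (h : (QuotientGroup.mk g : PSL2) ≠ 1) :
    ¬ IsScalar2 (g : Matrix (Fin 2) (Fin 2) F) := by
  intro hs
  apply h
  rw [QuotientGroup.eq_one_iff]
  by_cases h2 : (2 : F) = 0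
  · -- characteristic two: scalar means identity
    obtain ⟨h1, h2', h3⟩ := hs
    have hd := sl2_det g
    have h1' : g 0 1 = 0 := h1
    have h2'' : g 1 0 = 0 := h2'
    have h3' : g 0 0 = g 1 1 := h3
    rw [h1', h2'', ← h3'] at hd
    have h4 : (g 0 0 - 1) ^ 2 = 0 := by linear_combination hd + (1 - g 0 0) * h2
    have h5 : g 0 0 = 1 := sub_eq_zero.1 (pow_eq_zero_iff (two_ne_zero) |>.1 h4)
    have : g = 1 := by
      rw [sl2_ext_iff]
      refine ⟨?_, ?_, ?_, ?_⟩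
      · rw [h5]; rfl
      · rw [h1']; rfl
      · rw [h2'']; rfl
      · rw [← h3', h5]; rfl
    rw [this]
    exact Subgroup.one_mem _
  · exact mem_center_of_isScalar2 g hs

theorem arad_herzog (h4 : 4 ≤ Fintype.card F) (a b : PSL2) (ha : a ≠ 1) (hb : b ≠ 1) (c : PSL2) :
    {g : PSL2 | ∃ u v : PSL2, g = (u * a * u⁻¹) * (v * b * v⁻¹)} ≠ {g | IsConj c g} := by
  intro heq
  obtain ⟨g₁, rfl⟩ := QuotientGroup.mk_surjective a
  obtain ⟨g₂, rfl⟩ := QuotientGroup.mk_surjective b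
  obtain ⟨k₁, hk₁⟩ := exists_conj_10 g₁ (not_isScalar2_of_mk_ne_one g₁ ha)
  obtain ⟨k₂, hk₂⟩ := exists_conj_10 g₂ (not_isScalar2_of_mk_ne_one g₂ hb)
  set G₁ := k₁ * g₁ * k₁⁻¹ with hG₁
  set G₂ := k₂ * g₂ * k₂⁻¹ with hG₂
  obtain ⟨x₁, x₂, hx⟩ := exists_sq_ne (-(G₁ 1 0 * G₂ 1 0))
    (G₁ 1 0 * G₂ 0 0 + (G₁ 1 1 - G₁ 0 0) * G₂ 1 0 - G₁ 1 0 * G₂ 1 1)
    (G₁ 0 0 * G₂ 0 0 + G₁ 0 1 * G₂ 1 0 + G₁ 1 0 * G₂ 0 1 + G₁ 1 1 * G₂ 1 1)
    (neg_ne_zero.2 (mul_ne_zero hk₁ hk₂)) h4
  rw [← trace_formula, ← trace_formula] at hx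
  have hmem : ∀ x : F, (QuotientGroup.mk (upperU x * G₁ * (upperU x)⁻¹ * G₂) : PSL2) ∈
      {g : PSL2 | ∃ u v : PSL2, g = (u * (QuotientGroup.mk g₁) * u⁻¹) *
        (v * (QuotientGroup.mk g₂) * v⁻¹)} := by
    intro x
    refine ⟨QuotientGroup.mk (upperU x * k₁), QuotientGroup.mk k₂, ?_⟩
    have : upperU x * G₁ * (upperU x)⁻¹ * G₂
        = ((upperU x * k₁) * g₁ * (upperU x * k₁)⁻¹) * (k₂ * g₂ * k₂⁻¹) := by
      rw [hG₁, hG₂]; group
    rw [this]
    rfl
  have h1 := hmem x₁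
  have h2 := hmem x₂
  rw [heq] at h1 h2
  have h3 : IsConj (QuotientGroup.mk (upperU x₁ * G₁ * (upperU x₁)⁻¹ * G₂) : PSL2)
      (QuotientGroup.mk (upperU x₂ * G₁ * (upperU x₂)⁻¹ * G₂) : PSL2) :=
    (IsConj.symm h1).trans h2
  exact hx (trace_sq_of_isConj_mk _ _ h3)

end Finite

end Cfsg.Agent.Lib.Helper4.SL2AH
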