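import Mathlib
import Cfsg.Prelude.Def_ParabolicCharacters
import Cfsg.Agent.Lib.Helper4.SL2

set_option autoImplicit false

namespace Cfsg.Agent.Lib.Helper4

open Matrix

variable {F : Type*} [Field F]

/-- the Borel subgroup of `SL₂` -/
abbrev borelSL2 (F : Type*) [Field F] : Subgroup (Matrix.SpecialLinearGroup (Fin 2) F) :=
  (Cfsg.upperTriangularGL 2 F).comap Matrix.SpecialLinearGroup.toGL

theorem mem_upperTriangularGL_two_iff (g : Matrix.GeneralLinearGroup (Fin 2) F) :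
    g ∈ Cfsg.upperTriangularGL 2 F ↔ (g : Matrix (Fin 2) (Fin 2) F) 1 0 = 0 := by
  change (g : Matrix (Fin 2) (Fin 2) F).BlockTriangular id ↔ _
  constructor
  · intro h
    exact h (by decide)
  · intro h i j hij
    fin_cases i <;> fin_cases j <;> simp at hij ⊢
    exact h

theorem mem_borelSL2_iff (g : Matrix.SpecialLinearGroup (Fin 2) F) :
    g ∈ borelSL2 F ↔ (g : Matrix (Fin 2) (Fin 2) F) 1 0 = 0 := by
  rw [Subgroup.mem_comap, mem_upperTriangularGL_two_iff]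
  rfl

/-- the element `[[a, b], [0, a⁻¹]]` of `SL₂` -/
def mkSL (a : Fˣ) (b : F) : Matrix.SpecialLinearGroup (Fin 2) F :=
  ⟨!![(a : F), b; 0, ((a⁻¹ : Fˣ) : F)], by simp [Matrix.det_fin_two_of]⟩

theorem mkSL_coe (a : Fˣ) (b : F) :
    (mkSL a b : Matrix (Fin 2) (Fin 2) F) = !![(a : F), b; 0, ((a⁻¹ : Fˣ) : F)] := rfl

theorem mkSL_mem (a : Fˣ) (b : F) : mkSL a b ∈ borelSL2 F := by
  rw [mem_borelSL2_iff]; simp [mkSL_coe]

/-- the element `[[a, b], [0, a⁻¹]]` of the Borel subgroup -/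
def mkB (a : Fˣ) (b : F) : borelSL2 F := ⟨mkSL a b, mkSL_mem a b⟩

theorem mkB_coe (a : Fˣ) (b : F) : ((mkB a b : borelSL2 F) : Matrix.SpecialLinearGroup (Fin 2) F) = mkSL a b := rfl

theorem mkSL_mul (a a' : Fˣ) (b b' : F) :
    mkSL a b * mkSL a' b' = mkSL (a * a') ((a : F) * b' + b * ((a'⁻¹ : Fˣ) : F)) := by
  rw [sl2_ext_iff]
  simp only [Matrix.SpecialLinearGroup.coe_mul, mkSL_coe, Matrix.mul_apply, Fin.sum_univ_two,
    Matrix.of_apply, Matrix.cons_val', Matrix.cons_val_zero, Matrix.cons_val_one,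
    Matrix.cons_val_fin_one]
  refine ⟨?_, ?_, ?_, ?_⟩
  · push_cast; simp
  · simp
  · simp
  · rw [mul_inv, Units.val_mul]; simp

theorem mkB_mul (a a' : Fˣ) (b b' : F) :
    mkB a b * mkB a' b' = mkB (a * a') ((a : F) * b' + b * ((a'⁻¹ : Fˣ) : F)) :=
  Subtype.ext (mkSL_mul a a' b b')

theorem mkSL_injective (a a' : Fˣ) (b b' : F) (h : mkSL a b = mkSL a' b') : a = a' ∧ b = b' := by
  rw [sl2_ext_iff] at h
  simp only [mkSL_coe, Matrix.of_apply, Matrix.cons_val', Matrix.cons_val_zero, Matrix.cons_val_one,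
    Matrix.cons_val_fin_one] at h
  exact ⟨Units.ext h.1, h.2.1⟩

theorem mkB_injective (a a' : Fˣ) (b b' : F) (h : mkB a b = mkB a' b') : a = a' ∧ b = b' :=
  mkSL_injective a a' b b' (congrArg Subtype.val h)

theorem exists_mkSL (g : Matrix.SpecialLinearGroup (Fin 2) F) (hg : g ∈ borelSL2 F) :
    ∃ (a : Fˣ) (b : F), g = mkSL a b := by
  rw [mem_borelSL2_iff] at hg
  have hd := sl2_det g
  rw [hg, mul_zero, sub_zero] at hd
  refine ⟨Units.mkOfMulEqOne _ _ hd, g 0 1, ?_⟩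
  rw [sl2_ext_iff]
  simp only [mkSL_coe, Matrix.of_apply, Matrix.cons_val', Matrix.cons_val_zero, Matrix.cons_val_one,
    Matrix.cons_val_fin_one]
  refine ⟨?_, ?_, hg, ?_⟩
  · simp
  · trivial
  · simp
    exact eq_inv_of_mul_eq_one_right hd

theorem exists_mkB (g : borelSL2 F) : ∃ (a : Fˣ) (b : F), g = mkB a b := by
  obtain ⟨a, b, h⟩ := exists_mkSL g.1 g.2
  exact ⟨a, b, Subtype.ext h⟩

end Cfsg.Agent.Lib.Helper4
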