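import Mathlib

set_option autoImplicit false

namespace Cfsg.Agent.Lib.Helper4

open scoped ComplexConjugate

variable {F : Type*} [Field F] [Fintype F] [DecidableEq F]

/-- the complex-valued quadratic character -/
noncomputable def quadC (F : Type*) [Field F] [Fintype F] [DecidableEq F] : MulChar F ℂ :=
  (quadraticChar F).ringHomComp (Int.castRingHom ℂ)

theorem quadC_apply (b : F) : quadC F b = ((quadraticChar F b : ℤ) : ℂ) := rfl

theorem quadC_isQuadratic : (quadC F).IsQuadratic :=
  (quadraticChar_isQuadratic F).comp _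

theorem quadC_ne_one (hchar : ringChar F ≠ 2) : quadC F ≠ 1 := by
  obtain ⟨a, ha⟩ := quadraticChar_exists_neg_one' hchar
  intro h
  have h1 := quadC_apply (a : F)
  rw [h, MulChar.one_apply_coe, ha] at h1
  norm_num at h1

/-- a function on `F` that is invariant under multiplication by squares is an affine function of
the quadratic character away from `0` -/
theorem eq_of_sq_invariant (f : F → ℂ)
    (hsq : ∀ (a : Fˣ) (b : F), f ((a : F) ^ 2 * b) = f b) (ν : Fˣ)
    (hν : quadraticChar F (ν : F) = -1) (b : F) (hb : b ≠ 0) :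
    f b = (f 1 + f ν) / 2 + quadC F b * ((f 1 - f ν) / 2) := by
  rw [quadC_apply]
  rcases quadraticChar_dichotomy hb with h | h
  · rw [h]
    obtain ⟨c, hc⟩ := (quadraticChar_one_iff_isSquare hb).mp h
    have hc0 : c ≠ 0 := by
      rintro rfl
      rw [mul_zero] at hc
      exact hb hc
    have := hsq (Units.mk0 c hc0) 1
    rw [Units.val_mk0, mul_one, sq, ← hc] at this
    rw [this]
    push_cast
    ring
  · rw [h]
    have hνinv : quadraticChar F ((ν : F)⁻¹) = -1 := by
      have h1 : quadraticChar F (ν : F) * quadraticChar F ((ν : F)⁻¹) = 1 := by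
        rw [← map_mul, mul_inv_cancel₀ ν.ne_zero, map_one]
      rw [hν] at h1
      linarith
    have h2 : quadraticChar F (b * (ν : F)⁻¹) = 1 := by
      rw [map_mul, h, hνinv]
      norm_num
    have hne : b * (ν : F)⁻¹ ≠ 0 := mul_ne_zero hb (inv_ne_zero ν.ne_zero)
    obtain ⟨c, hc⟩ := (quadraticChar_one_iff_isSquare hne).mp h2
    have hc0 : c ≠ 0 := by
      rintro rfl
      rw [mul_zero] at hc
      exact hne hc
    have := hsq (Units.mk0 c hc0) ν
    rw [Units.val_mk0, sq, ← hc, inv_mul_cancel_right₀ ν.ne_zero] at this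
    rw [this]
    push_cast
    ring

/-- the key computation: a "half" of a function on `F` with natural Fourier coefficients -/
theorem gauss_half (hchar : ringChar F ≠ 2) (f : F → ℂ) (D ε : ℂ)
    (h0 : f 0 = D / 2)
    (hsq : ∀ (a : Fˣ) (b : F), f ((a : F) ^ 2 * b) = f b)
    (hsum : ∑ b, f b = (D + ((Fintype.card F : ℂ) - 1) * ε) / 2)
    (hDε : D - ε = Fintype.card F)
    (hnat : ∀ e : AddChar F ℂ, ∃ m : ℕ, (Fintype.card F : ℂ)⁻¹ * ∑ b, f b * e b = m) :
    (2 * f 1 - ε) ^ 2 = quadC F (-1) * Fintype.card F := by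
  obtain ⟨ν, hν⟩ := quadraticChar_exists_neg_one' hchar
  set σ : ℂ := f 1 + f ν with hσ
  set d : ℂ := f 1 - f ν with hd
  have hq0 : (Fintype.card F : ℂ) ≠ 0 := by
    have : 0 < Fintype.card F := Fintype.card_pos
    exact_mod_cast this.ne'
  have hq1 : (Fintype.card F : ℂ) - 1 ≠ 0 := by
    have h1 : 1 < Fintype.card F := Fintype.one_lt_card
    intro h
    rw [sub_eq_zero] at h
    have : Fintype.card F = 1 := by exact_mod_cast h
    omega
  -- the shape of `f`
  have hf : ∀ b : F, f b = σ / 2 + quadC F b * (d / 2) + if b = 0 then (D - σ) / 2 else 0 := by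
    intro b
    by_cases hb : b = 0
    · rw [if_pos hb, hb, MulChar.map_zero, h0]
      ring
    · rw [if_neg hb, add_zero]
      exact eq_of_sq_invariant f hsq ν hν b hb
  -- sums against additive characters
  have hsumE : ∀ e : AddChar F ℂ, ∑ b, f b * e b =
      σ / 2 * ∑ b, e b + d / 2 * gaussSum (quadC F) e + (D - σ) / 2 := by
    intro e
    have h1 : ∀ b : F, f b * e b = σ / 2 * e b + d / 2 * (quadC F b * e b) +
        if b = 0 then (D - σ) / 2 else 0 := by
      intro b
      rw [hf b]
      by_cases hb : b = 0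
      · rw [if_pos hb, hb, AddChar.map_zero_eq_one]
        ring
      · rw [if_neg hb]
        ring
    simp_rw [h1]
    rw [Finset.sum_add_distrib, Finset.sum_add_distrib, ← Finset.mul_sum, ← Finset.mul_sum,
      Finset.sum_ite_eq' Finset.univ (0 : F), if_pos (Finset.mem_univ _)]
    rfl
  -- `σ = ε`
  have hσε : σ = ε := by
    have h1 := hsumE 1
    have h2 : gaussSum (quadC F) (1 : AddChar F ℂ) = 0 := by
      unfold gaussSum
      simp only [AddChar.one_apply, mul_one]
      exact MulChar.sum_eq_zero_of_ne_one (quadC_ne_one hchar)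
    simp only [AddChar.one_apply, mul_one, Finset.sum_const, Finset.card_univ, nsmul_eq_mul] at h1
    rw [h2, hsum] at h1
    have h3 : (σ - ε) * ((Fintype.card F : ℂ) - 1) = 0 := by linear_combination -2 * h1
    rcases mul_eq_zero.mp h3 with h4 | h4
    · exact sub_eq_zero.mp h4
    · exact absurd h4 hq1
  -- a primitive additive character
  obtain ⟨e₀, he₀⟩ := (AddChar.exists_apply_ne_zero (α := F) (a := 1)).mpr one_ne_zero
  have hprim : e₀.IsPrimitive := by
    apply AddChar.IsPrimitive.of_ne_one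
    intro h
    apply he₀
    rw [h, AddChar.one_apply]
  set G : ℂ := gaussSum (quadC F) e₀ with hG
  have hG2 : G ^ 2 = quadC F (-1) * Fintype.card F :=
    gaussSum_sq (quadC_ne_one hchar) quadC_isQuadratic hprim
  -- the Fourier coefficients at the shifts
  have hcoef : ∀ x : Fˣ, (Fintype.card F : ℂ)⁻¹ * ∑ b, f b * (e₀.mulShift (x : F)) b =
      1 / 2 + d * quadC F x * G / (2 * Fintype.card F) := by
    intro x
    rw [hsumE, gaussSum_mulShift_eq, quadC_isQuadratic.inv,
      AddChar.sum_eq_zero_of_ne_one (hprim x.ne_zero), hσε, hDε, ← hG]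
    field_simp
    ring
  obtain ⟨m₁, hm₁⟩ := hnat (e₀.mulShift ((1 : Fˣ) : F))
  obtain ⟨m₂, hm₂⟩ := hnat (e₀.mulShift (ν : F))
  rw [hcoef] at hm₁ hm₂
  have hν' : quadC F (ν : F) = -1 := by
    rw [quadC_apply, hν]
    norm_num
  rw [Units.val_one, map_one] at hm₁
  rw [hν'] at hm₂
  have hm12 : m₁ + m₂ = 1 := by
    have : ((m₁ + m₂ : ℕ) : ℂ) = 1 := by
      push_cast
      rw [← hm₁, ← hm₂]
      ring
    exact_mod_cast this
  have hdG : (d * G) ^ 2 = (Fintype.card F : ℂ) ^ 2 := by
    have h1 : d * G = (2 * (m₁ : ℂ) - 1) * Fintype.card F := by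
      rw [← hm₁]
      field_simp
      ring
    rw [h1]
    have h2 : m₁ = 0 ∨ m₁ = 1 := by omega
    rcases h2 with h2 | h2 <;> rw [h2] <;> push_cast <;> ring
  have hd' : 2 * f 1 - ε = d := by
    rw [← hσε, hσ, hd]
    ring
  rw [hd']
  have hχ2 : quadC F (-1) ^ 2 = 1 := by
    rw [quadC_apply]
    have := quadraticChar_sq_one (F := F) (a := -1) (neg_ne_zero.mpr one_ne_zero)
    exact_mod_cast this
  have h5 : d ^ 2 * (quadC F (-1) * Fintype.card F) = (Fintype.card F : ℂ) ^ 2 := by
    rw [← hG2, ← mul_pow, hdG]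
  have h6 : d ^ 2 * quadC F (-1) = Fintype.card F := by
    have : (d ^ 2 * quadC F (-1) - Fintype.card F) * (Fintype.card F : ℂ) = 0 := by
      linear_combination h5
    rcases mul_eq_zero.mp this with h7 | h7
    · exact sub_eq_zero.mp h7
    · exact absurd h7 hq0
  calc d ^ 2 = d ^ 2 * quadC F (-1) ^ 2 := by rw [hχ2, mul_one]
    _ = (d ^ 2 * quadC F (-1)) * quadC F (-1) := by ring
    _ = quadC F (-1) * Fintype.card F := by rw [h6]; ring

theorem quadC_neg_one (hchar : ringChar F ≠ 2) :
    quadC F (-1) = (-1 : ℂ) ^ ((Fintype.card F - 1) / 2) := by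
  rw [quadC_apply, quadraticChar_neg_one hchar,
    ZMod.χ₄_eq_neg_one_pow (FiniteField.odd_card_of_char_ne_two hchar)]
  have hodd := FiniteField.odd_card_of_char_ne_two hchar
  have : Fintype.card F / 2 = (Fintype.card F - 1) / 2 := by omega
  rw [this]
  push_cast
  rfl

end Cfsg.Agent.Lib.Helper4
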