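import Mathlib
import Cfsg.Agent.Lib.Helper4.IndCoset
import Cfsg.Agent.Lib.Helper4.SL2Borel

set_option autoImplicit false

namespace Cfsg.Agent.Lib.Helper4

open Cfsg.Agent.Lib.Helper6 Matrix

variable {F : Type*} [Field F]

theorem sl2_inv_mul_mem_borel_iff (x y : Matrix.SpecialLinearGroup (Fin 2) F) :
    x⁻¹ * y ∈ borelSL2 F ↔ x 0 0 * y 1 0 - x 1 0 * y 0 0 = 0 := by
  rw [mem_borelSL2_iff, Matrix.SpecialLinearGroup.coe_mul, Matrix.SpecialLinearGroup.coe_inv,
    Matrix.adjugate_fin_two]
  simp only [Matrix.mul_apply, Fin.sum_univ_two, Matrix.of_apply, Matrix.cons_val_zero,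
    Matrix.cons_val_one]
  constructor
  · intro h; linear_combination h
  · intro h; linear_combination h

/-- coset representatives of `SL₂ / B`: `some c ↦ [[1,0],[c,1]]`, `none ↦ [[0,-1],[1,0]]` -/
def repSL : Option F → Matrix.SpecialLinearGroup (Fin 2) F
  | some c => ⟨!![1, 0; c, 1], by simp [Matrix.det_fin_two]⟩
  | none => ⟨!![0, -1; 1, 0], by simp [Matrix.det_fin_two]⟩

theorem repSL_some (c : F) : (repSL (some c) : Matrix (Fin 2) (Fin 2) F) = !![1, 0; c, 1] := rfl
theorem repSL_none : (repSL (none : Option F) : Matrix (Fin 2) (Fin 2) F) = !![0, -1; 1, 0] := rfl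

theorem repSL_bijective :
    Function.Bijective (fun o : Option F =>
      (repSL o : Matrix.SpecialLinearGroup (Fin 2) F ⧸ borelSL2 F)) := by
  constructor
  · intro o o' h
    simp only at h
    rw [QuotientGroup.eq, sl2_inv_mul_mem_borel_iff] at h
    rcases o with _ | c <;> rcases o' with _ | c'
    · rfl
    · simp [repSL_some, repSL_none] at h
    · simp [repSL_some, repSL_none] at h
    · simp [repSL_some] at h
      congr 1
      linear_combination -h
  · intro z
    induction z using QuotientGroup.induction_on with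
    | H x =>
      by_cases h0 : (x : Matrix (Fin 2) (Fin 2) F) 0 0 = 0
      · refine ⟨none, ?_⟩
        simp only
        rw [QuotientGroup.eq, sl2_inv_mul_mem_borel_iff]
        simp [repSL_none, h0]
      · refine ⟨some ((x : Matrix (Fin 2) (Fin 2) F) 1 0 / (x : Matrix (Fin 2) (Fin 2) F) 0 0), ?_⟩
        simp only
        rw [QuotientGroup.eq, sl2_inv_mul_mem_borel_iff]
        simp [repSL_some]
        field_simp
        ring

/-- the conjugate `(repSL o)⁻¹ * g * repSL o`, entries (1,0) and (0,0) -/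
theorem repSL_conj_some (g : Matrix.SpecialLinearGroup (Fin 2) F) (c : F) :
    (((repSL (some c))⁻¹ * g * repSL (some c) : Matrix.SpecialLinearGroup (Fin 2) F) :
        Matrix (Fin 2) (Fin 2) F) 1 0 = g 1 0 + g 1 1 * c - c * (g 0 0 + g 0 1 * c) ∧
    (((repSL (some c))⁻¹ * g * repSL (some c) : Matrix.SpecialLinearGroup (Fin 2) F) :
        Matrix (Fin 2) (Fin 2) F) 0 0 = g 0 0 + g 0 1 * c := by
  rw [Matrix.SpecialLinearGroup.coe_mul, Matrix.SpecialLinearGroup.coe_mul,
    Matrix.SpecialLinearGroup.coe_inv, Matrix.adjugate_fin_two, repSL_some]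
  simp only [Matrix.mul_apply, Fin.sum_univ_two, Matrix.of_apply, Matrix.cons_val_zero,
    Matrix.cons_val_one, Matrix.cons_val', Matrix.cons_val_fin_one]
  constructor <;> ring

theorem repSL_conj_none (g : Matrix.SpecialLinearGroup (Fin 2) F) :
    (((repSL (none : Option F))⁻¹ * g * repSL none : Matrix.SpecialLinearGroup (Fin 2) F) :
        Matrix (Fin 2) (Fin 2) F) 1 0 = - g 0 1 ∧
    (((repSL (none : Option F))⁻¹ * g * repSL none : Matrix.SpecialLinearGroup (Fin 2) F) :
        Matrix (Fin 2) (Fin 2) F) 0 0 = g 1 1 := by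
  rw [Matrix.SpecialLinearGroup.coe_mul, Matrix.SpecialLinearGroup.coe_mul,
    Matrix.SpecialLinearGroup.coe_inv, Matrix.adjugate_fin_two, repSL_none]
  simp only [Matrix.mul_apply, Fin.sum_univ_two, Matrix.of_apply, Matrix.cons_val_zero,
    Matrix.cons_val_one, Matrix.cons_val', Matrix.cons_val_fin_one]
  constructor <;> ring

theorem borel_mul_apply_zero (x y : Matrix.SpecialLinearGroup (Fin 2) F) (hy : y ∈ borelSL2 F) :
    ((x * y : Matrix.SpecialLinearGroup (Fin 2) F) : Matrix (Fin 2) (Fin 2) F) 0 0 = x 0 0 * y 0 0 := by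
  rw [mem_borelSL2_iff] at hy
  rw [Matrix.SpecialLinearGroup.coe_mul, Matrix.mul_apply, Fin.sum_univ_two, hy, mul_zero, add_zero]

theorem borel_conj_apply_zero (h y : borelSL2 F) :
    (((h⁻¹ * y * h : borelSL2 F) : Matrix.SpecialLinearGroup (Fin 2) F) :
      Matrix (Fin 2) (Fin 2) F) 0 0 =
    ((y : Matrix.SpecialLinearGroup (Fin 2) F) : Matrix (Fin 2) (Fin 2) F) 0 0 := by
  have h1 : ((h⁻¹ * y * h : borelSL2 F) : Matrix.SpecialLinearGroup (Fin 2) F) =
      (h : Matrix.SpecialLinearGroup (Fin 2) F)⁻¹ * y * h := rfl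
  rw [h1, borel_mul_apply_zero _ _ h.2, borel_mul_apply_zero _ _ y.2]
  have h2 := borel_mul_apply_zero (h : Matrix.SpecialLinearGroup (Fin 2) F)⁻¹ h h.2
  rw [inv_mul_cancel] at h2
  simp only [Matrix.SpecialLinearGroup.coe_one, Matrix.one_apply_eq] at h2
  rw [mul_right_comm, ← h2, one_mul]

/-- the value at `g` of a function induced from a class function `θ` of the Borel subgroup
  of `SL₂` that depends only on the `(0,0)` entry -/
theorem indFun_borelSL2_apply [Fintype F] [DecidableEq F]
    [Fintype (Matrix.SpecialLinearGroup (Fin 2) F)] (f : F → ℂ)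
    (g : Matrix.SpecialLinearGroup (Fin 2) F) :
    Cfsg.indFun (borelSL2 F)
      (fun b => f (((b : Matrix.SpecialLinearGroup (Fin 2) F) : Matrix (Fin 2) (Fin 2) F) 0 0)) g =
      (if g 0 1 = 0 then f (g 1 1) else 0) +
      ∑ c : F, if g 1 0 + g 1 1 * c - c * (g 0 0 + g 0 1 * c) = 0
        then f (g 0 0 + g 0 1 * c) else 0 := by
  rw [indFun_eq_sum_reps (borelSL2 F) _ _ repSL repSL_bijective g, Fintype.sum_option]
  · congr 1
    · obtain ⟨h1, h2⟩ := repSL_conj_none g
      by_cases h : g 0 1 = 0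
      · rw [if_pos h, extendByZero_of_mem]
        · simp only
          rw [h2]
        · rw [mem_borelSL2_iff, h1, h, neg_zero]
      · rw [if_neg h, extendByZero_of_not_mem]
        rw [mem_borelSL2_iff, h1]
        simpa using h
    · apply Finset.sum_congr rfl
      intro c _
      obtain ⟨h1, h2⟩ := repSL_conj_some g c
      by_cases h : g 1 0 + g 1 1 * c - c * (g 0 0 + g 0 1 * c) = 0
      · rw [if_pos h, extendByZero_of_mem]
        · simp only
          rw [h2]
        · rw [mem_borelSL2_iff, h1, h]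
      · rw [if_neg h, extendByZero_of_not_mem]
        rw [mem_borelSL2_iff, h1]
        exact h
  · intro h y
    congr 1
    exact borel_conj_apply_zero h y

end Cfsg.Agent.Lib.Helper4
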