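import Mathlib
import Cfsg.Agent.S0146
import Cfsg.Agent.Lib.Helper6.IndFunTI
import Cfsg.Agent.Lib.Helper4.SL2Ind
import Cfsg.Agent.Lib.Helper4.MulCharSum

set_option autoImplicit false

namespace Cfsg.Agent.Lib.Helper4

open Cfsg.Agent.Lib.Helper6 Matrix
open scoped ComplexConjugate

variable {F : Type*} [Field F]

/-- `B ≃ Fˣ × F` -/
noncomputable def mkBEquiv : Fˣ × F ≃ borelSL2 F :=
  Equiv.ofBijective (fun p => mkB p.1 p.2) (by
    constructor
    · rintro ⟨a, u⟩ ⟨a', u'⟩ h
      obtain ⟨h1, h2⟩ := mkB_injective _ _ _ _ h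
      exact Prod.ext h1 h2
    · intro b
      obtain ⟨a, u, rfl⟩ := exists_mkB b
      exact ⟨(a, u), rfl⟩)

theorem mkBEquiv_apply (p : Fˣ × F) : mkBEquiv p = mkB p.1 p.2 := rfl

theorem card_borelSL2 [Fintype F] : Nat.card (borelSL2 F) = (Fintype.card F - 1) * Fintype.card F := by
  classical
  rw [← Nat.card_congr mkBEquiv, Nat.card_prod, Nat.card_eq_fintype_card, Nat.card_eq_fintype_card,
    Fintype.card_units]

/-- the principal series function `R(f)` -/
noncomputable abbrev psSL2 [Fintype (Matrix.SpecialLinearGroup (Fin 2) F)] (f : F → ℂ) :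
    Matrix.SpecialLinearGroup (Fin 2) F → ℂ :=
  Cfsg.indFun (borelSL2 F)
    (fun b => f (((b : Matrix.SpecialLinearGroup (Fin 2) F) : Matrix (Fin 2) (Fin 2) F) 0 0))

theorem psSL2_mkSL [Fintype F] [DecidableEq F] [Fintype (Matrix.SpecialLinearGroup (Fin 2) F)]
    (f : F → ℂ) (a : Fˣ) (u : F) :
    psSL2 f (mkSL a u) = (if u = 0 then f ((a⁻¹ : Fˣ) : F) else 0) +
      ∑ c : F, if ((a⁻¹ : Fˣ) : F) * c - c * ((a : F) + u * c) = 0 then f ((a : F) + u * c) else 0 := by
  unfold psSL2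
  rw [indFun_borelSL2_apply]
  simp [mkSL_coe]

theorem sum_sum_cond [Fintype F] [DecidableEq F] (h : F → ℂ) (a : Fˣ) :
    ∑ u : F, ∑ c : F,
      (if ((a⁻¹ : Fˣ) : F) * c - c * ((a : F) + u * c) = 0 then h ((a : F) + u * c) else 0) =
    (Fintype.card F : ℂ) * h (a : F) + ((Fintype.card F : ℂ) - 1) * h ((a⁻¹ : Fˣ) : F) := by
  rw [Finset.sum_comm]
  rw [← Finset.add_sum_erase Finset.univ _ (Finset.mem_univ (0 : F))]
  congr 1
  · simp
  · have : ∀ c ∈ Finset.univ.erase (0 : F), ∑ u : F,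
        (if ((a⁻¹ : Fˣ) : F) * c - c * ((a : F) + u * c) = 0 then h ((a : F) + u * c) else 0) =
        h ((a⁻¹ : Fˣ) : F) := by
      intro c hc
      have hc0 : c ≠ 0 := Finset.ne_of_mem_erase hc
      rw [Finset.sum_eq_single ((((a⁻¹ : Fˣ) : F) - (a : F)) / c)]
      · rw [if_pos]
        · congr 1
          field_simp
          ring
        · field_simp
          ring
      · intro u _ hu
        rw [if_neg]
        intro hcond
        apply hu
        have : c * (((a⁻¹ : Fˣ) : F) - (a : F) - u * c) = 0 := by linear_combination hcond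
        rcases mul_eq_zero.mp this with h' | h'
        · exact absurd h' hc0
        · field_simp
          linear_combination -h'
      · intro h'; exact absurd (Finset.mem_univ _) h'
    rw [Finset.sum_congr rfl this, Finset.sum_const, Finset.card_erase_of_mem (Finset.mem_univ _),
      Finset.card_univ, nsmul_eq_mul, Nat.cast_sub Fintype.card_pos, Nat.cast_one]

theorem classInner_psSL2 [Fintype F] [DecidableEq F] [Fintype (Matrix.SpecialLinearGroup (Fin 2) F)]
    (α β : MulChar F ℂ) [Decidable (α = β)] [Decidable (α = β⁻¹)] :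
    Cfsg.classInner (psSL2 (fun x => α x)) (psSL2 (fun x => β x)) =
      (if α = β then 1 else 0) + (if α = β⁻¹ then 1 else 0) := by
  have : Fintype (borelSL2 F) := Fintype.ofFinite _
  unfold psSL2
  rw [Cfsg.Agent.S0146.result (borelSL2 F) _ _ (indFun_isClassFunction _ _)]
  unfold Cfsg.classInner
  rw [← mkBEquiv.sum_comp, Fintype.sum_prod_type]
  have h1 : ∀ (a : Fˣ) (u : F),
      α ((((mkBEquiv (a, u) : borelSL2 F) : Matrix.SpecialLinearGroup (Fin 2) F) :
        Matrix (Fin 2) (Fin 2) F) 0 0) = α (a : F) := by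
    intro a u
    rw [mkBEquiv_apply, mkB_coe, mkSL_coe]
    simp
  have h2 : ∀ (a : Fˣ) (u : F),
      Cfsg.indFun (borelSL2 F)
        (fun b => β (((b : Matrix.SpecialLinearGroup (Fin 2) F) : Matrix (Fin 2) (Fin 2) F) 0 0))
        ((mkBEquiv (a, u) : borelSL2 F) : Matrix.SpecialLinearGroup (Fin 2) F) =
      (if u = 0 then β ((a⁻¹ : Fˣ) : F) else 0) +
      ∑ c : F, if ((a⁻¹ : Fˣ) : F) * c - c * ((a : F) + u * c) = 0 then β ((a : F) + u * c) else 0 := by
    intro a u
    exact psSL2_mkSL (fun x => β x) a u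
  have h3 : ∀ a : Fˣ, (∑ u : F, if u = 0 then conj (β ((a⁻¹ : Fˣ) : F)) else 0) =
      conj (β ((a⁻¹ : Fˣ) : F)) := by
    intro a
    rw [Finset.sum_ite_eq' Finset.univ (0 : F)]
    simp
  have hA : ∀ a : Fˣ, ∑ u : F,
      α ((((mkBEquiv (a, u) : borelSL2 F) : Matrix.SpecialLinearGroup (Fin 2) F) :
        Matrix (Fin 2) (Fin 2) F) 0 0) *
      conj (Cfsg.indFun (borelSL2 F)
        (fun b => β (((b : Matrix.SpecialLinearGroup (Fin 2) F) : Matrix (Fin 2) (Fin 2) F) 0 0))
        ((mkBEquiv (a, u) : borelSL2 F) : Matrix.SpecialLinearGroup (Fin 2) F)) =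
      α (a : F) * (conj (β ((a⁻¹ : Fˣ) : F)) + ((Fintype.card F : ℂ) * conj (β (a : F)) +
        ((Fintype.card F : ℂ) - 1) * conj (β ((a⁻¹ : Fˣ) : F)))) := by
    intro a
    simp only [h1, h2]
    rw [← Finset.mul_sum]
    congr 1
    simp only [map_add, map_sum, apply_ite conj, map_zero]
    rw [Finset.sum_add_distrib, h3, sum_sum_cond (fun x => conj (β x))]
  rw [Finset.sum_congr rfl (fun a _ => hA a)]
  have hq : ((Fintype.card F : ℂ) - 1) ≠ 0 := by
    have h1 : 1 < Fintype.card F := Fintype.one_lt_card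
    intro h
    rw [sub_eq_zero] at h
    have : Fintype.card F = 1 := by exact_mod_cast h
    omega
  have hq' : (Fintype.card F : ℂ) ≠ 0 := by
    have h1 : 0 < Fintype.card F := Fintype.card_pos
    exact_mod_cast h1.ne'
  have h4 := sum_units_mulChar_mul_conj α β
  have h5 := sum_units_mulChar_mul_conj_inv α β
  have h6 : ∑ a : Fˣ, α (a : F) * (conj (β ((a⁻¹ : Fˣ) : F)) +
      ((Fintype.card F : ℂ) * conj (β (a : F)) +
        ((Fintype.card F : ℂ) - 1) * conj (β ((a⁻¹ : Fˣ) : F)))) =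
      (Fintype.card F : ℂ) * ∑ a : Fˣ, α (a : F) * conj (β (a : F)) +
      (Fintype.card F : ℂ) * ∑ a : Fˣ, α (a : F) * conj (β ((a⁻¹ : Fˣ) : F)) := by
    rw [Finset.mul_sum, Finset.mul_sum, ← Finset.sum_add_distrib]
    apply Finset.sum_congr rfl
    intro a _
    ring
  rw [h6, h4, h5, card_borelSL2, Nat.cast_mul, Nat.cast_sub Fintype.card_pos, Nat.cast_one]
  by_cases hab : α = β <;> by_cases hab' : α = β⁻¹
  · simp only [if_pos hab, if_pos hab']; field_simp
  · simp only [if_pos hab, if_neg hab']; field_simp; ring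
  · simp only [if_neg hab, if_pos hab']; field_simp; ring
  · simp only [if_neg hab, if_neg hab']; simp

end Cfsg.Agent.Lib.Helper4
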