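import Mathlib
import Cfsg.Agent.Lib.Helper4.SL2Deg
import Cfsg.Agent.Lib.Helper4.SL2IndInner

set_option autoImplicit false

namespace Cfsg.Agent.Lib.Helper4

open Cfsg.Agent.Lib.Helper6 Matrix Cfsg.Agent.S2308
open scoped ComplexConjugate MatrixGroups

variable {F : Type*} [Field F] [Fintype F] [DecidableEq F] [Fintype (GL (Fin 2) F)]
  [Fintype (Matrix.SpecialLinearGroup (Fin 2) F)]

omit [Fintype F] [DecidableEq F] [Fintype (GL (Fin 2) F)]
  [Fintype (Matrix.SpecialLinearGroup (Fin 2) F)] in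
theorem one_mulChar_of_mul_eq_one (x y : F) (h : x * y = 1) : (1 : MulChar F ℂ) y = 1 := by
  have hy : IsUnit y := IsUnit.of_mul_eq_one_right x h
  exact MulChar.one_apply hy

/-- the restriction to `SL₂` of the principal series `R(α, 1)` of `GL₂` is the function induced
from the Borel subgroup of `SL₂` -/
theorem resSL_ps_eq_psSL2 (α : MulChar F ℂ) :
    resSL (psGL2 α 1) = psSL2 (fun x => α x) := by
  funext g
  rw [resSL_apply]
  set M : Matrix (Fin 2) (Fin 2) F := (g : Matrix (Fin 2) (Fin 2) F) with hM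
  have hL : psGL2 α 1 (Matrix.SpecialLinearGroup.toGL g) =
      (if M 0 1 = 0 then α (M 1 1) * (1 : MulChar F ℂ) (M 0 0) else 0) +
      ∑ c : F, if M 1 0 + M 1 1 * c - c * (M 0 0 + M 0 1 * c) = 0
        then α (M 0 0 + M 0 1 * c) * (1 : MulChar F ℂ) (M 1 1 - c * M 0 1) else 0 := by
    unfold psGL2
    rw [indFun_borelGL2_apply]
    rfl
  have hR : psSL2 (fun x => α x) g =
      (if M 0 1 = 0 then α (M 1 1) else 0) +
      ∑ c : F, if M 1 0 + M 1 1 * c - c * (M 0 0 + M 0 1 * c) = 0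
        then α (M 0 0 + M 0 1 * c) else 0 := by
    unfold psSL2
    rw [indFun_borelSL2_apply]
  rw [hL, hR]
  have hdet : M 0 0 * M 1 1 - M 0 1 * M 1 0 = 1 := by
    have := g.2
    rwa [Matrix.det_fin_two] at this
  congr 1
  · by_cases h : M 0 1 = 0
    · rw [if_pos h, if_pos h]
      rw [h, zero_mul, sub_zero] at hdet
      rw [one_mulChar_of_mul_eq_one _ _ (by rw [mul_comm]; exact hdet), mul_one]
    · rw [if_neg h, if_neg h]
  · apply Finset.sum_congr rfl
    intro c _
    by_cases h : M 1 0 + M 1 1 * c - c * (M 0 0 + M 0 1 * c) = 0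
    · rw [if_pos h, if_pos h]
      have hu : (M 0 0 + M 0 1 * c) * (M 1 1 - c * M 0 1) = 1 := by
        linear_combination hdet + M 0 1 * h
      rw [one_mulChar_of_mul_eq_one _ _ hu, mul_one]
    · rw [if_neg h, if_neg h]

end Cfsg.Agent.Lib.Helper4
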