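import Mathlib
import Cfsg.Agent.Lib.Helper4.SL2Mackey
import Cfsg.Agent.S2325

set_option autoImplicit false

namespace Cfsg.Agent.Lib.Helper4

open Cfsg.Agent.Lib.Helper6 Matrix Cfsg.Agent.S2308
open scoped ComplexConjugate MatrixGroups

variable {F : Type*} [Field F]

/-- an element of `SL₂` without eigenvectors has `tr² ≠ 4` (odd characteristic) -/
theorem trace_sq_ne_four_of_elliptic (h2 : (2 : F) ≠ 0) (g : Matrix.SpecialLinearGroup (Fin 2) F)
    (hell : ∀ (c : F) (v : Fin 2 → F), v ≠ 0 →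
      (g : Matrix (Fin 2) (Fin 2) F).mulVec v ≠ c • v) :
    (g : Matrix (Fin 2) (Fin 2) F).trace ^ 2 ≠ 4 := by
  intro ht
  set M : Matrix (Fin 2) (Fin 2) F := (g : Matrix (Fin 2) (Fin 2) F) with hM
  set c : F := M.trace / 2 with hc
  have hdet : M.det = 1 := g.2
  have hd : (M - c • (1 : Matrix (Fin 2) (Fin 2) F)).det = 0 := by
    rw [Matrix.det_fin_two] at hdet ⊢
    rw [Matrix.trace_fin_two] at ht hc
    simp only [Matrix.sub_apply, Matrix.smul_apply, Matrix.one_apply_eq, smul_eq_mul, mul_one,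
      Matrix.one_apply_ne (show (1 : Fin 2) ≠ 0 by decide),
      Matrix.one_apply_ne (show (0 : Fin 2) ≠ 1 by decide), mul_zero, sub_zero]
    rw [hc]
    field_simp
    linear_combination 4 * hdet - ht
  obtain ⟨v, hv, hv0⟩ := Matrix.exists_mulVec_eq_zero_iff.mpr hd
  apply hell c v hv
  rw [Matrix.sub_mulVec, Matrix.smul_mulVec, Matrix.one_mulVec, sub_eq_zero] at hv0
  exact hv0

/-- a diagonal element `diag(a, a⁻¹)` of `SL₂` with `a² ≠ 1` has `tr² ≠ 4` -/
theorem trace_sq_ne_four_of_diag (g : Matrix.SpecialLinearGroup (Fin 2) F)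
    (h01 : (g : Matrix (Fin 2) (Fin 2) F) 0 1 = 0)
    (hsq : (g : Matrix (Fin 2) (Fin 2) F) 0 0 ^ 2 ≠ 1) :
    (g : Matrix (Fin 2) (Fin 2) F).trace ^ 2 ≠ 4 := by
  intro ht
  have hdet := g.2
  rw [Matrix.det_fin_two, h01, zero_mul, sub_zero] at hdet
  rw [Matrix.trace_fin_two] at ht
  have h1 : ((g : Matrix (Fin 2) (Fin 2) F) 0 0 - (g : Matrix (Fin 2) (Fin 2) F) 1 1) ^ 2 = 0 := by
    linear_combination ht - 4 * hdet
  have h2 : (g : Matrix (Fin 2) (Fin 2) F) 0 0 = (g : Matrix (Fin 2) (Fin 2) F) 1 1 :=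
    sub_eq_zero.mp (pow_eq_zero_iff (by norm_num) |>.mp h1)
  apply hsq
  rw [sq]
  nth_rewrite 2 [h2]
  exact hdet

/-- class functions of `SL₂(q)`, `q` odd, take the same value at `GL₂`-conjugate elements with
`tr² ≠ 4` -/
theorem classFun_eq_of_glconj [Fintype F] (hodd : Odd (Fintype.card F))
    (ψ : Matrix.SpecialLinearGroup (Fin 2) F → ℂ)
    (hψ : Cfsg.IsClassFunction (Matrix.SpecialLinearGroup (Fin 2) F) ψ)
    (g h : Matrix.SpecialLinearGroup (Fin 2) F) (x : GL (Fin 2) F)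
    (hx : Matrix.SpecialLinearGroup.toGL h = x * Matrix.SpecialLinearGroup.toGL g * x⁻¹)
    (ht : (g : Matrix (Fin 2) (Fin 2) F).trace ^ 2 ≠ 4) : ψ h = ψ g := by
  have htr : (h : Matrix (Fin 2) (Fin 2) F).trace = (g : Matrix (Fin 2) (Fin 2) F).trace := by
    have h1 := congrArg (fun y : GL (Fin 2) F => (y : Matrix (Fin 2) (Fin 2) F)) hx
    simp only [Matrix.SpecialLinearGroup.coe_GL_coe_matrix, Matrix.GeneralLinearGroup.coe_mul] at h1
    rw [h1, Matrix.trace_mul_comm, ← Matrix.mul_assoc, ← Matrix.GeneralLinearGroup.coe_mul,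
      inv_mul_cancel, Matrix.GeneralLinearGroup.coe_one, Matrix.one_mul]
  have h1 := Cfsg.Agent.S2325.isConj_compSL hodd g ht
  have h2 := Cfsg.Agent.S2325.isConj_compSL hodd h (by rw [htr]; exact ht)
  rw [htr] at h2
  have h3 : IsConj g h := h1.trans h2.symm
  obtain ⟨c, hc⟩ := isConj_iff.mp h3
  rw [← hc, hψ]

/-- the two halves of a split restriction take the same value at elements with `tr² ≠ 4` -/
theorem half_value [Fintype F] (hodd : Odd (Fintype.card F)) {χ : GL (Fin 2) F → ℂ}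
    {ψ ψ' : Matrix.SpecialLinearGroup (Fin 2) F → ℂ}
    (hψ' : Cfsg.IsClassFunction (Matrix.SpecialLinearGroup (Fin 2) F) ψ')
    (hsum : resSL χ = ψ + ψ') (hc : GLConj ψ ψ') (g : Matrix.SpecialLinearGroup (Fin 2) F)
    (ht : (g : Matrix (Fin 2) (Fin 2) F).trace ^ 2 ≠ 4) :
    2 * ψ g = χ (Matrix.SpecialLinearGroup.toGL g) := by
  obtain ⟨x, hx⟩ := hc
  have hmem : x * Matrix.SpecialLinearGroup.toGL g * x⁻¹ ∈ detKer F :=
    detKer_normal.conj_mem _ (slEquiv g).2 x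
  set h : Matrix.SpecialLinearGroup (Fin 2) F := slEquiv.symm ⟨_, hmem⟩ with hh
  have hh' : Matrix.SpecialLinearGroup.toGL h = x * Matrix.SpecialLinearGroup.toGL g * x⁻¹ := by
    rw [← slEquiv_coe, hh, MulEquiv.apply_symm_apply]
  have h1 := hx g h hh'
  have h2 := classFun_eq_of_glconj hodd ψ' hψ' g h x hh' ht
  have h3 := congrFun hsum g
  rw [resSL_apply, Pi.add_apply] at h3
  rw [h3, ← h2, h1, two_mul]

end Cfsg.Agent.Lib.Helper4
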