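import Mathlib
import Cfsg.Agent.Lib.Helper4.SL2Conj

set_option autoImplicit false

namespace Cfsg.Agent.Lib.Helper4

open Cfsg.Agent.Lib.Helper6 Matrix Cfsg.Agent.S2308
open scoped ComplexConjugate MatrixGroups

variable {F : Type*} [Field F]

theorem toGL_upperU (b : F) : Matrix.SpecialLinearGroup.toGL (upperU b) = mkGL 1 1 b := by
  rw [gl2_ext_iff]
  simp [upperU_coe, mkGL_coe]

/-- the sum over the upper unitriangular subgroup, as a sum over the field -/
theorem sum_unip_eq [Fintype F] [DecidableEq F] [Fintype (Matrix.SpecialLinearGroup (Fin 2) F)]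
    (χ : Matrix.SpecialLinearGroup (Fin 2) F → ℂ) :
    (∑ g : Matrix.SpecialLinearGroup (Fin 2) F,
      if (g : Matrix (Fin 2) (Fin 2) F) 1 0 = 0 ∧ (g : Matrix (Fin 2) (Fin 2) F) 0 0 = 1 ∧
        (g : Matrix (Fin 2) (Fin 2) F) 1 1 = 1 then χ g else 0) = ∑ b : F, χ (upperU b) := by
  rw [← Finset.sum_filter]
  symm
  apply Finset.sum_bij (fun b _ => upperU b)
  · intro b _
    simp [upperU_coe]
  · intro b _ b' _ h
    have := congrArg (fun g : Matrix.SpecialLinearGroup (Fin 2) F =>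
      (g : Matrix (Fin 2) (Fin 2) F) 0 1) h
    simpa [upperU_coe] using this
  · intro g hg
    simp only [Finset.mem_filter, Finset.mem_univ, true_and] at hg
    refine ⟨(g : Matrix (Fin 2) (Fin 2) F) 0 1, Finset.mem_univ _, ?_⟩
    rw [sl2_ext_iff]
    refine ⟨?_, ?_, ?_, ?_⟩
    · rw [upperU_coe, hg.2.1]; simp
    · rw [upperU_coe]; simp
    · rw [upperU_coe, hg.1]; simp
    · rw [upperU_coe, hg.2.2]; simp
  · intro b _
    rfl

/-- the sum over `U` of the restriction of a class function of `GL₂` -/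
theorem sum_unip_resSL [Fintype F] [DecidableEq F] (χ : GL (Fin 2) F → ℂ)
    (hχ : Cfsg.IsClassFunction (GL (Fin 2) F) χ) :
    ∑ b : F, resSL χ (upperU b) = χ 1 + ((Fintype.card F : ℂ) - 1) * χ (mkGL 1 1 1) := by
  rw [← Finset.add_sum_erase Finset.univ _ (Finset.mem_univ (0 : F)), resSL_apply, toGL_upperU,
    mkGL_one]
  congr 1
  have : ∀ b ∈ Finset.univ.erase (0 : F), resSL χ (upperU b) = χ (mkGL 1 1 1) := by
    intro b hb
    rw [resSL_apply, toGL_upperU, classFunction_mkGL_unip χ hχ b (Finset.ne_of_mem_erase hb)]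
  rw [Finset.sum_congr rfl this, Finset.sum_const, Finset.card_erase_of_mem (Finset.mem_univ _),
    Finset.card_univ, nsmul_eq_mul, Nat.cast_sub Fintype.card_pos, Nat.cast_one]

/-- `GL₂`-conjugate class functions of `SL₂` have the same sum over `U` -/
theorem sum_unip_glconj [Fintype F] {ψ ψ' : Matrix.SpecialLinearGroup (Fin 2) F → ℂ}
    (hψ' : Cfsg.IsClassFunction (Matrix.SpecialLinearGroup (Fin 2) F) ψ') (hc : GLConj ψ ψ') :
    ∑ b : F, ψ' (upperU b) = ∑ b : F, ψ (upperU b) := by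
  obtain ⟨x, hx⟩ := hc
  set c : Fˣ := Matrix.GeneralLinearGroup.det x with hc
  set t : GL (Fin 2) F := mkGL c 1 0 with ht
  have hmem : x * t⁻¹ ∈ detKer F := by
    rw [MonoidHom.mem_ker, map_mul, map_inv]
    have : Matrix.GeneralLinearGroup.det t = c := by
      apply Units.ext
      rw [Matrix.GeneralLinearGroup.val_det_apply, ht, mkGL_coe, Matrix.det_fin_two_of]
      simp
    rw [this, mul_inv_cancel]
  set n : Matrix.SpecialLinearGroup (Fin 2) F := slEquiv.symm ⟨_, hmem⟩ with hn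
  have hn' : Matrix.SpecialLinearGroup.toGL n = x * t⁻¹ := by
    rw [← slEquiv_coe, hn, MulEquiv.apply_symm_apply]
  have key : ∀ b : F, ψ' (upperU ((c : F) * b)) = ψ (upperU b) := by
    intro b
    have h1 : Matrix.SpecialLinearGroup.toGL (n * upperU ((c : F) * b) * n⁻¹) =
        x * Matrix.SpecialLinearGroup.toGL (upperU b) * x⁻¹ := by
      rw [map_mul, map_mul, map_inv, hn', toGL_upperU, toGL_upperU]
      have h2 : t * mkGL 1 1 b = mkGL 1 1 ((c : F) * b) * t := by
        rw [ht, mkGL_mul, mkGL_mul]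
        congr 1 <;> simp
      have h3 : t⁻¹ * mkGL 1 1 ((c : F) * b) * t = mkGL 1 1 b := by
        rw [mul_assoc, ← h2, ← mul_assoc, inv_mul_cancel, one_mul]
      calc x * t⁻¹ * mkGL 1 1 ((c : F) * b) * (x * t⁻¹)⁻¹
          = x * (t⁻¹ * mkGL 1 1 ((c : F) * b) * t) * x⁻¹ := by
            group
        _ = x * mkGL 1 1 b * x⁻¹ := by rw [h3]
    rw [← hx _ _ h1, hψ']
  rw [← Finset.sum_congr rfl (fun b _ => key b)]
  exact (Fintype.sum_equiv (Equiv.mulLeft₀ (c : F) c.ne_zero) _ _ (fun b => rfl)).symm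

end Cfsg.Agent.Lib.Helper4
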