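import Mathlib
import Cfsg.Agent.Lib.Helper4.SL2UnipSum
import Cfsg.Agent.Lib.Helper4.GaussHalf

set_option autoImplicit false

namespace Cfsg.Agent.Lib.Helper4

open Cfsg.Agent.Lib.Helper6 Matrix Cfsg.Agent.S2308
open scoped ComplexConjugate MatrixGroups

variable {F : Type*} [Field F]

theorem upperU_add (a b : F) : upperU (a + b) = upperU a * upperU b := by
  rw [sl2_ext_iff]
  refine ⟨?_, ?_, ?_, ?_⟩ <;>
  · rw [Matrix.SpecialLinearGroup.coe_mul]
    simp [upperU_coe, Matrix.mul_apply, Fin.sum_univ_two, add_comm]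

/-- the upper unitriangular one-parameter subgroup -/
def unipHom (F : Type*) [Field F] : Multiplicative F →* Matrix.SpecialLinearGroup (Fin 2) F where
  toFun b := upperU (Multiplicative.toAdd b)
  map_one' := by
    rw [sl2_ext_iff]
    refine ⟨?_, ?_, ?_, ?_⟩ <;>
    · change (upperU (0 : F) : Matrix (Fin 2) (Fin 2) F) _ _ =
        ((1 : Matrix.SpecialLinearGroup (Fin 2) F) : Matrix (Fin 2) (Fin 2) F) _ _
      simp [upperU_coe]
  map_mul' a b := upperU_add _ _

/-- the Fourier coefficients of the restriction of a character of `SL₂` to `U` are natural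
numbers -/
theorem fourier_nat [Fintype F] {ψ : Matrix.SpecialLinearGroup (Fin 2) F → ℂ}
    (hψ : Cfsg.IsCharacter (Matrix.SpecialLinearGroup (Fin 2) F) ψ) (e : AddChar F ℂ) :
    ∃ m : ℕ, (Fintype.card F : ℂ)⁻¹ * ∑ b : F, ψ (upperU b) * e b = m := by
  have hf : Cfsg.IsCharacter (Multiplicative F) (fun g => ψ (unipHom F g)) :=
    IsCharacter.comp (unipHom F) hψ
  set lam : Multiplicative F →* ℂˣ := (e⁻¹).toMonoidHom.toHomUnits with hlam
  have hirr := isIrrCharacter_of_hom lam
  obtain ⟨m, hm⟩ := IsCharacter.classInner_irr_nat hf hirr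
  refine ⟨m, ?_⟩
  rw [← hm]
  unfold Cfsg.classInner
  congr 1
  · rw [Nat.card_eq_fintype_card, Fintype.card_multiplicative]
  · apply Fintype.sum_equiv Multiplicative.ofAdd
    intro b
    simp only
    congr 1
    rw [hlam, MonoidHom.coe_toHomUnits, AddChar.toMonoidHom_apply, AddChar.inv_apply,
      toAdd_ofAdd, AddChar.map_neg_eq_conj, Complex.conj_conj]

/-- invariance of a class function on `U` under multiplication by squares -/
theorem classFun_upperU_sq (ψ : Matrix.SpecialLinearGroup (Fin 2) F → ℂ)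
    (hψ : Cfsg.IsClassFunction (Matrix.SpecialLinearGroup (Fin 2) F) ψ) (a : Fˣ) (b : F) :
    ψ (upperU ((a : F) ^ 2 * b)) = ψ (upperU b) := by
  apply classFunction_eq_of_semiconj ψ hψ (mkSL a 0)
  rw [sl2_ext_iff]
  refine ⟨?_, ?_, ?_, ?_⟩ <;>
  · change ((mkSL a 0 * upperU b : Matrix.SpecialLinearGroup (Fin 2) F) :
        Matrix (Fin 2) (Fin 2) F) _ _ =
      ((upperU ((a : F) ^ 2 * b) * mkSL a 0 : Matrix.SpecialLinearGroup (Fin 2) F) :
        Matrix (Fin 2) (Fin 2) F) _ _
    rw [Matrix.SpecialLinearGroup.coe_mul, Matrix.SpecialLinearGroup.coe_mul]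
    simp [upperU_coe, mkSL_coe, Matrix.mul_apply, Fin.sum_univ_two]
    try (have := a.ne_zero; field_simp)

/-- the value at the transvection of a "half" of the restriction of a class function of `GL₂` -/
theorem half_transvection [Fintype F] [DecidableEq F] (hchar : ringChar F ≠ 2)
    {χ : GL (Fin 2) F → ℂ} (hχ : Cfsg.IsClassFunction (GL (Fin 2) F) χ)
    {ψ ψ' : Matrix.SpecialLinearGroup (Fin 2) F → ℂ}
    (hψ : Cfsg.IsIrrCharacter (Matrix.SpecialLinearGroup (Fin 2) F) ψ)
    (hψ' : Cfsg.IsIrrCharacter (Matrix.SpecialLinearGroup (Fin 2) F) ψ')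
    (hsum : resSL χ = ψ + ψ') (hc : GLConj ψ ψ') (D ε : ℂ) (hD : χ 1 = D)
    (hε : χ (mkGL 1 1 1) = ε) (hDε : D - ε = Fintype.card F) :
    (2 * ψ (upperU 1) - ε) ^ 2 = (-1 : ℂ) ^ ((Fintype.card F - 1) / 2) * Fintype.card F := by
  rw [← quadC_neg_one hchar]
  apply gauss_half hchar (fun b => ψ (upperU b)) D ε
  · rw [upperU_zero]
    have := half_degree hsum hc
    rw [hD] at this
    rw [← this]
    ring
  · intro a b
    exact classFun_upperU_sq ψ (IsIrrCharacter.isClassFunction hψ) a b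
  · have h1 := sum_unip_glconj (IsIrrCharacter.isClassFunction hψ') hc
    have h2 := sum_unip_resSL χ hχ
    rw [hsum, hD, hε] at h2
    simp only [Pi.add_apply] at h2
    rw [Finset.sum_add_distrib, h1] at h2
    linear_combination (1 / 2 : ℂ) * h2
  · exact hDε
  · intro e
    exact fourier_nat (IsIrrCharacter.isCharacter hψ) e

end Cfsg.Agent.Lib.Helper4
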