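import Mathlib
import Cfsg.Agent.Lib.Helper4.SL2Borel
import Cfsg.Agent.Lib.Helper4.SL2Gauss
import Cfsg.Agent.Lib.Helper4.SLCard

set_option autoImplicit false

namespace Cfsg.Agent.Lib.Helper4

open Matrix
open scoped MatrixGroups Pointwise

variable {F : Type*} [Field F]

/-- the upper unitriangular subgroup of `SL₂` -/
noncomputable def unipSL (F : Type*) [Field F] : Subgroup (Matrix.SpecialLinearGroup (Fin 2) F) :=
  (unipHom F).range

theorem mem_unipSL_iff (g : Matrix.SpecialLinearGroup (Fin 2) F) :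
    g ∈ unipSL F ↔ ∃ b : F, g = upperU b := by
  constructor
  · rintro ⟨b, rfl⟩
    exact ⟨Multiplicative.toAdd b, rfl⟩
  · rintro ⟨b, rfl⟩
    exact ⟨Multiplicative.ofAdd b, rfl⟩

/-- the lower unitriangular matrix -/
def lowerL (c : F) : Matrix.SpecialLinearGroup (Fin 2) F :=
  ⟨!![1, 0; c, 1], by simp [Matrix.det_fin_two_of]⟩

theorem lowerL_coe (c : F) : (lowerL c : Matrix (Fin 2) (Fin 2) F) = !![1, 0; c, 1] := rfl

theorem upperU_eq_transvection (c : F) :
    upperU c = Matrix.SpecialLinearGroup.transvection (zero_ne_one : (0 : Fin 2) ≠ 1) c := by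
  rw [sl2_ext_iff]
  simp [upperU_coe, Matrix.SpecialLinearGroup.transvection_coe]

theorem lowerL_eq_transvection (c : F) :
    lowerL c = Matrix.SpecialLinearGroup.transvection (one_ne_zero : (1 : Fin 2) ≠ 0) c := by
  rw [sl2_ext_iff]
  simp [lowerL_coe, Matrix.SpecialLinearGroup.transvection_coe]

/-- `L(c) = u(t) k u(b) k⁻¹ u(-t)` for suitable `t, b` when the lower left entry of `k` is nonzero -/
theorem lowerL_eq_conj (k : Matrix.SpecialLinearGroup (Fin 2) F)
    (hz : (k : Matrix (Fin 2) (Fin 2) F) 1 0 ≠ 0) (c : F) :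
    lowerL c = upperU (-(k : Matrix (Fin 2) (Fin 2) F) 0 0 / (k : Matrix (Fin 2) (Fin 2) F) 1 0) *
      (k * upperU (-c / ((k : Matrix (Fin 2) (Fin 2) F) 1 0) ^ 2) * k⁻¹) *
      upperU ((k : Matrix (Fin 2) (Fin 2) F) 0 0 / (k : Matrix (Fin 2) (Fin 2) F) 1 0) := by
  have hdet := sl2_det k
  rw [sl2_ext_iff]
  simp only [Matrix.SpecialLinearGroup.coe_mul, Matrix.SpecialLinearGroup.coe_inv,
    Matrix.adjugate_fin_two, upperU_coe, lowerL_coe, Matrix.mul_apply, Fin.sum_univ_two,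
    Matrix.of_apply, Matrix.cons_val', Matrix.cons_val_zero, Matrix.cons_val_one,
    Matrix.cons_val_fin_one]
  generalize (k : Matrix (Fin 2) (Fin 2) F) 0 0 = x at *
  generalize (k : Matrix (Fin 2) (Fin 2) F) 0 1 = y at *
  generalize (k : Matrix (Fin 2) (Fin 2) F) 1 0 = z at *
  generalize (k : Matrix (Fin 2) (Fin 2) F) 1 1 = w at *
  refine ⟨?_, ?_, ?_, ?_⟩
  · field_simp
    linear_combination (-(z ^ 2)) * hdet
  · field_simp
    ring
  · field_simp
    ring
  · field_simp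
    linear_combination (-(z ^ 2)) * hdet

theorem sup_conj_unipSL_eq_top (k : Matrix.SpecialLinearGroup (Fin 2) F)
    (hz : (k : Matrix (Fin 2) (Fin 2) F) 1 0 ≠ 0) :
    unipSL F ⊔ MulAut.conj k • unipSL F = ⊤ := by
  refine le_antisymm le_top (fun M _ => ?_)
  have hU : ∀ b : F, upperU b ∈ unipSL F ⊔ MulAut.conj k • unipSL F := fun b =>
    Subgroup.mem_sup_left ((mem_unipSL_iff _).mpr ⟨b, rfl⟩)
  have hL : ∀ c : F, lowerL c ∈ unipSL F ⊔ MulAut.conj k • unipSL F := by
    intro c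
    rw [lowerL_eq_conj k hz c]
    refine mul_mem (mul_mem (hU _) ?_) (hU _)
    apply Subgroup.mem_sup_right
    rw [Subgroup.mem_pointwise_smul_iff_inv_smul_mem, MulAut.smul_def, MulAut.inv_apply,
      MulAut.conj_symm_apply]
    rw [(mem_unipSL_iff _)]
    refine ⟨-c / ((k : Matrix (Fin 2) (Fin 2) F) 1 0) ^ 2, ?_⟩
    group
  refine SL2.transvection_induction (fun M => M ∈ unipSL F ⊔ MulAut.conj k • unipSL F) ?_
    (fun _ _ => mul_mem) M
  intro i j hij c
  fin_cases i <;> fin_cases j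
  · exact absurd rfl hij
  · have := hU c
    rwa [upperU_eq_transvection] at this
  · have := hL c
    rwa [lowerL_eq_transvection] at this
  · exact absurd rfl hij

theorem conj_upperU_of_borel (k : Matrix.SpecialLinearGroup (Fin 2) F)
    (hz : (k : Matrix (Fin 2) (Fin 2) F) 1 0 = 0) (b : F) :
    ∃ b' : F, k * upperU b * k⁻¹ = upperU b' := by
  have hk : k ∈ borelSL2 F := (mem_borelSL2_iff k).mpr hz
  obtain ⟨a, u, rfl⟩ := exists_mkSL k hk
  refine ⟨(a : F) ^ 2 * b, ?_⟩
  rw [mul_inv_eq_iff_eq_mul, sl2_ext_iff]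
  simp only [Matrix.SpecialLinearGroup.coe_mul, mkSL_coe, upperU_coe, Matrix.mul_apply,
    Fin.sum_univ_two, Matrix.of_apply, Matrix.cons_val', Matrix.cons_val_zero, Matrix.cons_val_one,
    Matrix.cons_val_fin_one]
  have ha : (a : F) ≠ 0 := a.ne_zero
  refine ⟨by ring, ?_, by ring, by ring⟩
  rw [Units.val_inv_eq_inv_val]
  field_simp
  ring

section finite

variable [Fintype F] (p : ℕ) [Fact p.Prime] [CharP F p]

theorem card_unipSL : Nat.card (unipSL F) = Fintype.card F := by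
  have hinj : Function.Injective (unipHom F) := fun a b hab =>
    Multiplicative.toAdd.injective (upperU_injective hab)
  have e : Multiplicative F ≃* unipSL F := MonoidHom.ofInjective hinj
  rw [← Nat.card_congr e.toEquiv, Nat.card_eq_fintype_card]
  exact Fintype.card_congr Multiplicative.toAdd

omit [Fact p.Prime] in
theorem isPGroup_unipSL : IsPGroup p (unipSL F) := by
  obtain ⟨n, -, hn⟩ := FiniteField.card F p
  exact IsPGroup.of_card (n := n) (by rw [card_unipSL, hn])

omit [Fact p.Prime] in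
theorem not_dvd_index_unipSL : ¬ p ∣ (unipSL F).index := by
  obtain ⟨n, hp, hn⟩ := FiniteField.card F p
  intro hdvd
  have h1 := (unipSL F).card_mul_index
  rw [card_unipSL, card_SL2] at h1
  have hq : 0 < Fintype.card F := Fintype.card_pos
  have h2 : (unipSL F).index = Fintype.card F ^ 2 - 1 := Nat.eq_of_mul_eq_mul_left hq h1
  rw [h2] at hdvd
  have h3 : p ∣ Fintype.card F ^ 2 := by
    rw [hn]
    exact dvd_pow (dvd_pow_self p n.ne_zero) (by norm_num)
  have h4 : 1 ≤ Fintype.card F ^ 2 := Nat.one_le_pow _ _ hq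
  have h5 : p ∣ 1 := by
    have := (Nat.dvd_sub h3 hdvd)
    rwa [Nat.sub_sub_self h4] at this
  exact hp.one_lt.ne' (Nat.dvd_one.mp h5)

/-- the upper unitriangular Sylow subgroup of `SL₂` -/
noncomputable def sylowUnipSL : Sylow p (Matrix.SpecialLinearGroup (Fin 2) F) :=
  (isPGroup_unipSL p).toSylow (not_dvd_index_unipSL p)

theorem smul_sylowUnipSL_of_borel (k : Matrix.SpecialLinearGroup (Fin 2) F)
    (hz : (k : Matrix (Fin 2) (Fin 2) F) 1 0 = 0) : k • sylowUnipSL p = sylowUnipSL (F := F) p := by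
  rw [Sylow.smul_eq_iff_mem_normalizer]
  change k ∈ Subgroup.normalizer ((unipSL F : Subgroup _) : Set _)
  rw [Subgroup.mem_normalizer_iff]
  intro x
  constructor
  · intro hx
    obtain ⟨b, rfl⟩ := (mem_unipSL_iff _).mp hx
    obtain ⟨b', hb'⟩ := conj_upperU_of_borel k hz b
    exact (mem_unipSL_iff _).mpr ⟨b', hb'⟩
  · intro hx
    obtain ⟨b, hb⟩ := (mem_unipSL_iff _).mp hx
    have hz' : ((k⁻¹ : Matrix.SpecialLinearGroup (Fin 2) F) : Matrix (Fin 2) (Fin 2) F) 1 0 = 0 := by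
      rw [Matrix.SpecialLinearGroup.coe_inv, Matrix.adjugate_fin_two]
      simp [hz]
    obtain ⟨b', hb'⟩ := conj_upperU_of_borel k⁻¹ hz' b
    rw [← hb, inv_inv] at hb'
    have : x = upperU b' := by
      rw [← hb']; group
    exact (mem_unipSL_iff _).mpr ⟨b', this⟩

theorem sylow_SL2_sup_eq_top (P Q : Sylow p (Matrix.SpecialLinearGroup (Fin 2) F)) (h : P ≠ Q) :
    (P : Subgroup (Matrix.SpecialLinearGroup (Fin 2) F)) ⊔ Q = ⊤ := by
  obtain ⟨g, hg⟩ := MulAction.exists_smul_eq (Matrix.SpecialLinearGroup (Fin 2) F)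
    (sylowUnipSL p) P
  obtain ⟨h', hh⟩ := MulAction.exists_smul_eq (Matrix.SpecialLinearGroup (Fin 2) F)
    (sylowUnipSL p) Q
  set k := g⁻¹ * h' with hk
  have hz : (k : Matrix (Fin 2) (Fin 2) F) 1 0 ≠ 0 := by
    intro hz
    apply h
    have := smul_sylowUnipSL_of_borel p k hz
    rw [← hg, ← hh]
    rw [hk, mul_smul] at this
    calc g • sylowUnipSL p = g • (g⁻¹ • h' • sylowUnipSL p) := by rw [this]
      _ = h' • sylowUnipSL p := by rw [smul_inv_smul]
  have htop := sup_conj_unipSL_eq_top k hz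
  have hP : (P : Subgroup (Matrix.SpecialLinearGroup (Fin 2) F)) = MulAut.conj g • unipSL F := by
    rw [← hg, Sylow.coe_subgroup_smul]; rfl
  have hQ : (Q : Subgroup (Matrix.SpecialLinearGroup (Fin 2) F)) =
      MulAut.conj g • (MulAut.conj k • unipSL F) := by
    rw [← hh, Sylow.coe_subgroup_smul, ← mul_smul, ← map_mul, hk, mul_inv_cancel_left]; rfl
  rw [hP, hQ, ← Subgroup.smul_sup, htop]
  ext x
  rw [Subgroup.mem_pointwise_smul_iff_inv_smul_mem]
  simp

end finite

end Cfsg.Agent.Lib.Helper4
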