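import Mathlib
import Cfsg.Agent.Lib.Helper4.SL2AH
import Cfsg.Agent.Lib.Helper4.SL2Sylow

set_option autoImplicit false

namespace Cfsg.Agent.Lib.Helper4.SL2ABA

open Matrix Cfsg.Agent.Lib.Helper4 Cfsg.Agent.Lib.Helper4.SL2Tr Cfsg.Agent.Lib.Helper4.SL2Ord
  Cfsg.Agent.Lib.Helper4.SL2Cov Cfsg.Agent.Lib.Helper4.SL2AH

section General

variable {F : Type*} [Field F]

local notation "SL2" => Matrix.SpecialLinearGroup (Fin 2) F

theorem mk2_ext {a b c d a' b' c' d' : F} {h h'} (ha : a = a') (hb : b = b') (hc : c = c')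
    (hd : d = d') : (mk2 a b c d h : SL2) = mk2 a' b' c' d' h' := by
  subst ha hb hc hd
  rfl

/-- elements `α + β C` of the torus of the companion matrix -/
def torusElt (t α β : F) (h : α ^ 2 + α * β * t + β ^ 2 = 1) : SL2 :=
  mk2 α (-β) β (α + β * t) (by linear_combination h)

theorem compSL_eq_mk2 (t : F) : compSL t = mk2 0 (-1) 1 t (by ring) := rfl

theorem torusElt_comm (t α β : F) (h : α ^ 2 + α * β * t + β ^ 2 = 1) :
    torusElt t α β h * compSL t = compSL t * torusElt t α β h := by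
  rw [compSL_eq_mk2, torusElt, mk2_mul, mk2_mul]
  apply mk2_ext <;> ring

end General

section CharTwo

variable {F : Type*} [Field F] [Fintype F] [DecidableEq F] [CharP F 2]

local notation "SL2" => Matrix.SpecialLinearGroup (Fin 2) F
local notation "PSL2" => Matrix.ProjectiveSpecialLinearGroup (Fin 2) F

theorem aniso (t : F) (hR : ∀ a : F, a * (t - a) ≠ 1) (α β : F)
    (h : α ^ 2 + α * β * t + β ^ 2 = 0) : α = 0 ∧ β = 0 := by
  have h2 : (2 : F) = 0 := two_eq_zero'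
  by_cases hβ : β = 0
  · subst hβ
    refine ⟨?_, rfl⟩
    have : α ^ 2 = 0 := by linear_combination h
    exact pow_eq_zero_iff (two_ne_zero) |>.1 this
  · exfalso
    apply hR (α / β)
    field_simp
    linear_combination -h + (α * β * t) * h2

theorem exists_vec (t : F) (hR : ∀ a : F, a * (t - a) ≠ 1) (g00 g01 g10 g11 : F)
    (hdet : g00 * g11 - g01 * g10 = 1) :
    ∃ α β : F, α ^ 2 + α * β * t + β ^ 2 = 1 ∧
      (g00 * α + g01 * β) ^ 2 + (g00 * α + g01 * β) * (g10 * α + g11 * β) * t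
        + (g10 * α + g11 * β) ^ 2 = 1 := by
  have h2 : (2 : F) = 0 := two_eq_zero'
  obtain ⟨e, he⟩ := isSquare_all (g00 ^ 2 + g00 * g10 * t + g10 ^ 2 - 1)
  obtain ⟨z, hz⟩ := isSquare_all (g01 ^ 2 + g01 * g11 * t + g11 ^ 2 - 1)
  -- a non-zero vector on which the difference of the two forms vanishes
  have key : ∃ α₀ β₀ : F, (α₀ ≠ 0 ∨ β₀ ≠ 0) ∧ e * e * α₀ ^ 2 + z * z * β₀ ^ 2 = 0 := by
    by_cases hez : e = 0 ∧ z = 0
    · refine ⟨1, 0, Or.inl one_ne_zero, ?_⟩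
      rw [hez.1, hez.2]; ring
    · refine ⟨z, e, ?_, ?_⟩
      · by_contra hcon
        push Not at hcon
        exact hez ⟨hcon.2, hcon.1⟩
      · linear_combination (e ^ 2 * z ^ 2) * h2
  obtain ⟨α₀, β₀, hne, h0⟩ := key
  have hμ : α₀ ^ 2 + α₀ * β₀ * t + β₀ ^ 2 ≠ 0 := by
    intro h
    obtain ⟨h1, h2'⟩ := aniso t hR α₀ β₀ h
    rcases hne with h3 | h3
    · exact h3 h1
    · exact h3 h2'
  obtain ⟨m, hm⟩ := isSquare_all (α₀ ^ 2 + α₀ * β₀ * t + β₀ ^ 2)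
  have hm0 : m ≠ 0 := by
    rintro rfl
    apply hμ
    rw [hm, mul_zero]
  have hQ : (m⁻¹ * α₀) ^ 2 + (m⁻¹ * α₀) * (m⁻¹ * β₀) * t + (m⁻¹ * β₀) ^ 2 = 1 := by
    have : (m⁻¹ * α₀) ^ 2 + (m⁻¹ * α₀) * (m⁻¹ * β₀) * t + (m⁻¹ * β₀) ^ 2
        = m⁻¹ ^ 2 * (α₀ ^ 2 + α₀ * β₀ * t + β₀ ^ 2) := by ring
    rw [this, hm]
    field_simp
  refine ⟨m⁻¹ * α₀, m⁻¹ * β₀, hQ, ?_⟩
  have h0' : e * e * (m⁻¹ * α₀) ^ 2 + z * z * (m⁻¹ * β₀) ^ 2 = 0 := by
    have : e * e * (m⁻¹ * α₀) ^ 2 + z * z * (m⁻¹ * β₀) ^ 2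
        = m⁻¹ ^ 2 * (e * e * α₀ ^ 2 + z * z * β₀ ^ 2) := by ring
    rw [this, h0, mul_zero]
  rw [← he, ← hz] at h0'
  generalize m⁻¹ * α₀ = α at hQ h0' ⊢
  generalize m⁻¹ * β₀ = β at hQ h0' ⊢
  linear_combination hQ + h0' + (α * β * (g00 * g01 + g10 * g11 + g01 * g10 * t)) * h2
    + (α * β * t) * hdet

theorem aba_mk2 (t g00 g01 g10 g11 : F) (hdet : g00 * g11 - g01 * g10 = 1) (α β : F)
    (hQ : α ^ 2 + α * β * t + β ^ 2 = 1)
    (hQ' : (g00 * α + g01 * β) ^ 2 + (g00 * α + g01 * β) * (g10 * α + g11 * β) * t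
        + (g10 * α + g11 * β) ^ 2 = 1) :
    (torusElt t (g00 * α + g01 * β) (g10 * α + g11 * β) hQ')⁻¹ * mk2 g00 g01 g10 g11 hdet
      * torusElt t α β hQ
      = upperU (((g00 * α + g01 * β) + (g10 * α + g11 * β) * t)
        * (-g00 * β + g01 * (α + β * t))
      + (g10 * α + g11 * β) * (-g10 * β + g11 * (α + β * t))) := by
  rw [torusElt, torusElt, mk2_inv_coe, mk2_mul, mk2_mul, upperU_eq_mk2]
  apply mk2_ext
  · linear_combination hQ'
  · ring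
  · ring
  · linear_combination (α ^ 2 + α * β * t + β ^ 2) * hdet + hQ

/-- the `ABA` decomposition in `SL₂` -/
theorem aba_SL2 (t : F) (hR : ∀ a : F, a * (t - a) ≠ 1) (g : SL2) :
    ∃ a c : SL2, a * compSL t = compSL t * a ∧ c * compSL t = compSL t * c ∧
      ∃ x : F, g = c * upperU x * a := by
  obtain ⟨g00, g01, g10, g11, hdet, hg⟩ : ∃ (g00 g01 g10 g11 : F)
      (hdet : g00 * g11 - g01 * g10 = 1), g = mk2 g00 g01 g10 g11 hdet :=
    ⟨_, _, _, _, sl2_det g, eq_mk2 g⟩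
  obtain ⟨α, β, hQ, hQ'⟩ := exists_vec t hR g00 g01 g10 g11 hdet
  refine ⟨(torusElt t α β hQ)⁻¹, torusElt t (g00 * α + g01 * β) (g10 * α + g11 * β) hQ',
    ?_, torusElt_comm _ _ _ _, ?_⟩
  · have := torusElt_comm t α β hQ
    exact (show Commute (torusElt t α β hQ) (compSL t) from this).inv_left
  · refine ⟨((g00 * α + g01 * β) + (g10 * α + g11 * β) * t)
        * (-g00 * β + g01 * (α + β * t))
      + (g10 * α + g11 * β) * (-g10 * β + g11 * (α + β * t)), ?_⟩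
    rw [eq_mul_inv_iff_mul_eq, ← inv_mul_eq_iff_eq_mul, ← mul_assoc, hg]
    exact aba_mk2 t g00 g01 g10 g11 hdet α β hQ hQ'

end CharTwo

end Cfsg.Agent.Lib.Helper4.SL2ABA
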