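import Mathlib
import Cfsg.Agent.Lib.Helper4.SL2ABA

set_option autoImplicit false

namespace Cfsg.Agent.Lib.Helper4.SL2ABA

open Matrix Cfsg.Agent.Lib.Helper4 Cfsg.Agent.Lib.Helper4.SL2Tr Cfsg.Agent.Lib.Helper4.SL2Ord
  Cfsg.Agent.Lib.Helper4.SL2Cov Cfsg.Agent.Lib.Helper4.SL2AH

section CharTwo

variable {F : Type*} [Field F] [Fintype F] [DecidableEq F] [CharP F 2]

local notation "SL2" => Matrix.SpecialLinearGroup (Fin 2) F
local notation "PSL2" => Matrix.ProjectiveSpecialLinearGroup (Fin 2) F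

theorem exists_nonsplit_order (h4 : 4 ≤ Fintype.card F) :
    ∃ t : F, (∀ a : F, a * (t - a) ≠ 1) ∧ t ≠ 0 ∧ orderOf (compSL t) = Fintype.card F + 1 := by
  obtain ⟨g₁, hg₁⟩ := exists_orderOf_card_add_one (F := F) 2
  have h2 : g₁ ^ 2 ≠ 1 := by
    intro h
    have := Nat.le_of_dvd (by norm_num) (orderOf_dvd_of_pow_eq_one h)
    omega
  have hg1 : g₁ ≠ 1 := by rintro rfl; exact h2 (one_pow 2)
  set t := (g₁ : Matrix (Fin 2) (Fin 2) F).trace with ht
  have ht0 : t ≠ 0 := fun h => h2 (sq_eq_one_of_trace_zero g₁ h)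
  have hidx := index_of_trace_ne_zero g₁ ht0
  have hR : R t = 0 := by
    rcases R_cases t ht0 with hR | hR
    · exact hR
    · exfalso
      rw [← ht, hR] at hidx
      have h3 := pow_card_centralizer g₁
      rw [card_centralizer_of_R_two g₁ hidx] at h3
      have h5 := orderOf_dvd_of_pow_eq_one h3
      rw [hg₁] at h5
      have := Nat.le_of_dvd (by omega) h5
      omega
  have hno : ∀ a : F, a * (t - a) ≠ 1 := by
    intro a ha
    have : R t = 2 := by
      apply R_eq_two t a ha
      intro he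
      apply ht0
      have h2' : (2 : F) = 0 := two_eq_zero'
      linear_combination -he + a * h2'
    omega
  refine ⟨t, hno, ht0, ?_⟩
  have hconj : IsConj g₁ (compSL t) := by
    rw [isConj_iff_trace g₁ _ hg1]
    refine ⟨?_, compSL_trace t⟩
    intro h
    apply compSL_not_scalar t
    rw [h, Matrix.SpecialLinearGroup.coe_one]
    refine ⟨?_, ?_, ?_⟩ <;> simp
  obtain ⟨k, hk⟩ := isConj_iff.1 hconj
  rw [← hk, ← hg₁]
  exact orderOf_injective (MulAut.conj k).toMonoidHom (MulAut.conj k).injective g₁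

theorem mk_injective :
    Function.Injective (QuotientGroup.mk' (Subgroup.center SL2)) := by
  rw [← MonoidHom.ker_eq_bot_iff, QuotientGroup.ker_mk', center_SL2_eq_bot]

theorem main (h4 : 4 ≤ Fintype.card F) :
    ∃ A B : Subgroup PSL2,
      IsCyclic A ∧ Nat.card A = Fintype.card F + 1 ∧ IsMulCommutative B ∧ (∀ b ∈ B, b * b = 1) ∧
        Nat.card B = Fintype.card F ∧
        ∀ g : PSL2, ∃ a ∈ A, ∃ b ∈ B, ∃ c ∈ A, g = a * b * c := by
  obtain ⟨t, hno, ht0, hord⟩ := exists_nonsplit_order (F := F) h4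
  set C := compSL t with hC
  -- the centraliser of `C` is generated by `C`
  have hidx := index_of_trace_ne_zero C (by rw [compSL_trace]; exact ht0)
  rw [compSL_trace, R_eq_zero t hno] at hidx
  have hcardC := card_centralizer_of_R_zero C hidx
  have hle : Subgroup.zpowers C ≤ Subgroup.centralizer ({C} : Set SL2) := by
    rw [Subgroup.zpowers_le]
    rw [Subgroup.mem_centralizer_iff]
    intro h hh
    rw [Set.mem_singleton_iff.1 hh]
  have heq : Subgroup.zpowers C = Subgroup.centralizer ({C} : Set SL2) := by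
    apply Subgroup.eq_of_le_of_card_ge hle
    rw [hcardC, Nat.card_zpowers, hord]
  have hmemA : ∀ a : SL2, a * C = C * a → a ∈ Subgroup.zpowers C := by
    intro a ha
    rw [heq, Subgroup.mem_centralizer_singleton_iff]
    exact ha
  have hmapA : ∀ a : SL2, a ∈ Subgroup.zpowers C →
      (QuotientGroup.mk a : PSL2) ∈ Subgroup.zpowers (QuotientGroup.mk C : PSL2) := by
    intro a ha
    obtain ⟨k, rfl⟩ := Subgroup.mem_zpowers_iff.1 ha
    exact Subgroup.mem_zpowers_iff.2 ⟨k, rfl⟩
  refine ⟨Subgroup.zpowers (QuotientGroup.mk C : PSL2),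
    (unipSL F).map (QuotientGroup.mk' (Subgroup.center SL2)), inferInstance, ?_, ?_, ?_, ?_, ?_⟩
  · rw [Nat.card_zpowers, orderOf_mk_even, hord]
  · haveI : IsMulCommutative (unipSL F) := by
      unfold unipSL
      infer_instance
    infer_instance
  · rintro b ⟨u, hu, rfl⟩
    obtain ⟨x, rfl⟩ := (mem_unipSL_iff u).1 hu
    rw [← map_mul, upperU_mul]
    have h2 : (2 : F) = 0 := two_eq_zero'
    have : x + x = 0 := by linear_combination x * h2
    rw [this, upperU_zero, map_one]
  · rw [Subgroup.card_map_of_injective mk_injective, card_unipSL]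
  · intro g
    obtain ⟨g, rfl⟩ := QuotientGroup.mk_surjective g
    obtain ⟨a, c, ha, hc, x, hx⟩ := aba_SL2 t hno g
    refine ⟨QuotientGroup.mk c, hmapA c (hmemA c hc), QuotientGroup.mk (upperU x),
      ⟨upperU x, (mem_unipSL_iff _).2 ⟨x, rfl⟩, rfl⟩, QuotientGroup.mk a, hmapA a (hmemA a ha), ?_⟩
    rw [hx]
    rfl

end CharTwo

end Cfsg.Agent.Lib.Helper4.SL2ABA
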