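import Mathlib
import Cfsg.Agent.Lib.Helper4.SL2ABA2
import Cfsg.Prelude.Def_OddOrderLocal

set_option autoImplicit false

namespace Cfsg.Agent.Lib.Helper4.SL2CT

open Matrix Cfsg.Agent.Lib.Helper4 Cfsg.Agent.Lib.Helper4.SL2Tr Cfsg.Agent.Lib.Helper4.SL2Ord
  Cfsg.Agent.Lib.Helper4.SL2Cov Cfsg.Agent.Lib.Helper4.SL2AH Cfsg.Agent.Lib.Helper4.SL2ABA

/-- groups in which commuting is transitive on non-identity elements have TI centralisers -/
theorem isTISubset_centralizer {G : Type*} [Group G]
    (hCT : ∀ x y : G, x ≠ 1 → y ≠ 1 → x * y = y * x →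
      Subgroup.centralizer ({x} : Set G) = Subgroup.centralizer ({y} : Set G)) (x₀ : G) :
    Cfsg.IsTISubset ((Subgroup.centralizer ({x₀} : Set G) : Subgroup G) : Set G) := by
  intro g hg x hx hgx
  by_contra hx1
  apply hg
  by_cases h0 : x₀ = 1
  · subst h0
    rw [Subgroup.mem_normalizer_iff]
    intro h
    simp [Subgroup.mem_centralizer_iff]
  have hx' : x ∈ Subgroup.centralizer ({x₀} : Set G) := hx
  have hgx' : g * x * g⁻¹ ∈ Subgroup.centralizer ({x₀} : Set G) := hgx
  rw [Subgroup.mem_centralizer_singleton_iff] at hx' hgx'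
  have h1 := hCT x x₀ hx1 h0 hx'
  have hgx1 : g * x * g⁻¹ ≠ 1 := by
    intro h
    apply hx1
    have : x = g⁻¹ * (g * x * g⁻¹) * g := by group
    rw [this, h]; group
  have h3 := hCT (g * x * g⁻¹) x₀ hgx1 h0 hgx'
  rw [Subgroup.mem_normalizer_iff]
  intro h
  change h ∈ Subgroup.centralizer ({x₀} : Set G) ↔ g * h * g⁻¹ ∈ Subgroup.centralizer ({x₀} : Set G)
  have e1 : h ∈ Subgroup.centralizer ({x₀} : Set G) ↔ Commute h x := by
    rw [← h1, Subgroup.mem_centralizer_singleton_iff]
    rfl
  have e2 : g * h * g⁻¹ ∈ Subgroup.centralizer ({x₀} : Set G) ↔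
      Commute (g * h * g⁻¹) (g * x * g⁻¹) := by
    rw [← h3, Subgroup.mem_centralizer_singleton_iff]
    rfl
  rw [e1, e2, Commute.conj_iff]

section General

variable {F : Type*} [Field F]

local notation "SL2" => Matrix.SpecialLinearGroup (Fin 2) F

/-- matrices commuting with a non-scalar `2 × 2` matrix are polynomials in it -/
theorem exists_eq_smul_add (M Y : Matrix (Fin 2) (Fin 2) F) (hM : ¬ IsScalar2 M)
    (hc : Y * M = M * Y) : ∃ α β : F, Y = α • (1 : Matrix (Fin 2) (Fin 2) F) + β • M := by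
  have e00 := congrFun (congrFun hc 0) 0
  have e01 := congrFun (congrFun hc 0) 1
  have e10 := congrFun (congrFun hc 1) 0
  simp only [Matrix.mul_apply, Fin.sum_univ_two] at e00 e01 e10
  have key : ∀ β : F, Y 0 1 = β * M 0 1 → Y 1 0 = β * M 1 0 → Y 0 0 - Y 1 1 = β * (M 0 0 - M 1 1) →
      Y = (Y 0 0 - β * M 0 0) • (1 : Matrix (Fin 2) (Fin 2) F) + β • M := by
    intro β h1 h2 h3
    ext i j
    fin_cases i <;> fin_cases j
    · simp
    · simp only [Fin.zero_eta, Fin.mk_one, Fin.isValue, Matrix.add_apply, Matrix.smul_apply,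
        ne_eq, zero_ne_one, not_false_eq_true, Matrix.one_apply_ne, smul_eq_mul, mul_zero, zero_add]
      exact h1
    · simp only [Fin.zero_eta, Fin.mk_one, Fin.isValue, Matrix.add_apply, Matrix.smul_apply,
        ne_eq, one_ne_zero, not_false_eq_true, Matrix.one_apply_ne, smul_eq_mul, mul_zero, zero_add]
      exact h2
    · simp only [Fin.mk_one, Fin.isValue, Matrix.add_apply, Matrix.smul_apply,
        Matrix.one_apply_eq, smul_eq_mul, mul_one]
      linear_combination -h3
  by_cases hb : M 0 1 = 0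
  · by_cases hcc : M 1 0 = 0
    · have had : M 0 0 - M 1 1 ≠ 0 := by
        intro h
        exact hM ⟨hb, hcc, sub_eq_zero.1 h⟩
      refine ⟨_, (Y 0 0 - Y 1 1) / (M 0 0 - M 1 1), key _ ?_ ?_ ?_⟩
      · rw [hb, mul_zero]
        rw [hb] at e01
        have : Y 0 1 * (M 0 0 - M 1 1) = 0 := by linear_combination -e01
        rcases mul_eq_zero.1 this with h | h
        · exact h
        · exact absurd h had
      · rw [hcc, mul_zero]
        rw [hcc] at e10
        have : Y 1 0 * (M 0 0 - M 1 1) = 0 := by linear_combination e10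
        rcases mul_eq_zero.1 this with h | h
        · exact h
        · exact absurd h had
      · field_simp
    · refine ⟨_, Y 1 0 / M 1 0, key _ ?_ ?_ ?_⟩
      · field_simp
        linear_combination e00
      · field_simp
      · field_simp
        linear_combination -e10
  · refine ⟨_, Y 0 1 / M 0 1, key _ ?_ ?_ ?_⟩
    · field_simp
    · field_simp
      linear_combination -e00
    · field_simp
      linear_combination e01

/-- commuting non-scalar elements of `SL₂` have the same centraliser -/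
theorem centralizer_eq_of_commute (x y : SL2) (hx : ¬ IsScalar2 (x : Matrix (Fin 2) (Fin 2) F))
    (hy : ¬ IsScalar2 (y : Matrix (Fin 2) (Fin 2) F)) (hxy : x * y = y * x) :
    Subgroup.centralizer ({x} : Set SL2) = Subgroup.centralizer ({y} : Set SL2) := by
  have hxy' : (y : Matrix (Fin 2) (Fin 2) F) * (x : Matrix (Fin 2) (Fin 2) F)
      = (x : Matrix (Fin 2) (Fin 2) F) * (y : Matrix (Fin 2) (Fin 2) F) := by
    rw [← Matrix.SpecialLinearGroup.coe_mul, ← Matrix.SpecialLinearGroup.coe_mul, hxy]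
  obtain ⟨α, β, hαβ⟩ := exists_eq_smul_add _ _ hx hxy'
  have hβ : β ≠ 0 := by
    rintro rfl
    apply hy
    rw [hαβ, zero_smul, add_zero]
    refine ⟨?_, ?_, ?_⟩ <;> simp
  ext z
  rw [Subgroup.mem_centralizer_singleton_iff, Subgroup.mem_centralizer_singleton_iff]
  constructor
  · intro hz
    have h3 := congrArg (fun w : SL2 => (w : Matrix (Fin 2) (Fin 2) F)) hz
    simp only [Matrix.SpecialLinearGroup.coe_mul] at h3
    apply Subtype.ext
    rw [Matrix.SpecialLinearGroup.coe_mul, Matrix.SpecialLinearGroup.coe_mul, hαβ,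
      Matrix.mul_add, Matrix.add_mul, Matrix.mul_smul, Matrix.smul_mul, Matrix.mul_one,
      Matrix.one_mul, Matrix.mul_smul, Matrix.smul_mul, h3]
  · intro hz
    have h3 := congrArg (fun w : SL2 => (w : Matrix (Fin 2) (Fin 2) F)) hz
    simp only [Matrix.SpecialLinearGroup.coe_mul] at h3
    rw [hαβ, Matrix.mul_add, Matrix.add_mul, Matrix.mul_smul, Matrix.smul_mul, Matrix.mul_one,
      Matrix.one_mul, Matrix.mul_smul, Matrix.smul_mul, add_right_inj] at h3
    apply Subtype.ext
    rw [Matrix.SpecialLinearGroup.coe_mul, Matrix.SpecialLinearGroup.coe_mul]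
    have h4 := congrArg (fun N : Matrix (Fin 2) (Fin 2) F => β⁻¹ • N) h3
    simp only [smul_smul, inv_mul_cancel₀ hβ, one_smul] at h4
    exact h4

end General

section CharTwo

variable {F : Type*} [Field F] [Fintype F] [DecidableEq F] [CharP F 2]

local notation "SL2" => Matrix.SpecialLinearGroup (Fin 2) F
local notation "PSL2" => Matrix.ProjectiveSpecialLinearGroup (Fin 2) F

theorem isTISubset_PSL2 (x₀ : PSL2) :
    Cfsg.IsTISubset ((Subgroup.centralizer ({x₀} : Set PSL2) : Subgroup PSL2) : Set PSL2) := by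
  apply isTISubset_centralizer
  intro x y hx hy hxy
  obtain ⟨a, rfl⟩ := QuotientGroup.mk_surjective x
  obtain ⟨b, rfl⟩ := QuotientGroup.mk_surjective y
  have ha : a ≠ 1 := by rintro rfl; exact hx rfl
  have hb : b ≠ 1 := by rintro rfl; exact hy rfl
  have hinj := mk_injective (F := F)
  have hab : a * b = b * a := hinj hxy
  have h1 := centralizer_eq_of_commute a b (not_isScalar2_of_ne_one a ha)
    (not_isScalar2_of_ne_one b hb) hab
  ext z
  obtain ⟨c, rfl⟩ := QuotientGroup.mk_surjective z
  rw [Subgroup.mem_centralizer_singleton_iff, Subgroup.mem_centralizer_singleton_iff]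
  have e1 : ((QuotientGroup.mk c : PSL2) * QuotientGroup.mk a = QuotientGroup.mk a * QuotientGroup.mk c)
      ↔ c * a = a * c := ⟨fun h => hinj h, fun h => congrArg _ h⟩
  have e2 : ((QuotientGroup.mk c : PSL2) * QuotientGroup.mk b = QuotientGroup.mk b * QuotientGroup.mk c)
      ↔ c * b = b * c := ⟨fun h => hinj h, fun h => congrArg _ h⟩
  rw [e1, e2, ← Subgroup.mem_centralizer_singleton_iff, ← Subgroup.mem_centralizer_singleton_iff, h1]

end CharTwo

end Cfsg.Agent.Lib.Helper4.SL2CT
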