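import Mathlib
import Cfsg.Agent.Lib.Helper4.Simple60

set_option autoImplicit false

namespace Cfsg.Agent.Lib.Helper4.Sixty

open Cfsg.Agent.Lib.Helper4

/-- an element of prime order `p` normalising a subgroup with fewer than `p` elements
centralises it -/
theorem commute_of_normalizes {G : Type*} [Group G] (K : Subgroup G) [Finite K] (x : G) (p : ℕ)
    (hp : p.Prime) (hx : x ^ p = 1) (hK : Nat.card K < p) (hn : ∀ k ∈ K, x * k * x⁻¹ ∈ K) :
    ∀ k ∈ K, x * k = k * x := by
  classical
  intro k hk
  have hpow : ∀ i : ℕ, x ^ i * k * (x ^ i)⁻¹ ∈ K := by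
    intro i
    induction i with
    | zero => simpa using hk
    | succ n ih =>
      have h1 := hn _ ih
      have e : x * (x ^ n * k * (x ^ n)⁻¹) * x⁻¹ = x ^ (n + 1) * k * (x ^ (n + 1))⁻¹ := by
        rw [pow_succ']; group
      rwa [e] at h1
  have := Fintype.ofFinite K
  let f : Fin p → K := fun i => ⟨x ^ (i : ℕ) * k * (x ^ (i : ℕ))⁻¹, hpow i⟩
  have hcard : Fintype.card K < Fintype.card (Fin p) := by
    rw [Fintype.card_fin, ← Nat.card_eq_fintype_card]; exact hK
  obtain ⟨i, j, hij, hf⟩ := Fintype.exists_ne_map_eq_of_card_lt f hcard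
  have hf' : x ^ (i : ℕ) * k * (x ^ (i : ℕ))⁻¹ = x ^ (j : ℕ) * k * (x ^ (j : ℕ))⁻¹ :=
    congrArg Subtype.val hf
  -- a nontrivial power of x commuting with k
  have key : ∀ a b : ℕ, a < b → b < p → x ^ a * k * (x ^ a)⁻¹ = x ^ b * k * (x ^ b)⁻¹ →
      x * k = k * x := by
    intro a b hab hbp h
    obtain ⟨d, rfl⟩ : ∃ d, b = a + d := ⟨b - a, by omega⟩
    have hd0 : 0 < d := by omega
    have hdp : d < p := by omega
    have h2 : x ^ d * k = k * x ^ d := by
      have h3 : x ^ a * k * (x ^ a)⁻¹ = x ^ a * (x ^ d * k * (x ^ d)⁻¹) * (x ^ a)⁻¹ := by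
        rw [h, pow_add]; group
      have h4 : k = x ^ d * k * (x ^ d)⁻¹ := by
        have := mul_left_cancel (mul_right_cancel h3)
        exact this
      calc x ^ d * k = x ^ d * k * (x ^ d)⁻¹ * x ^ d := by group
        _ = k * x ^ d := by rw [← h4]
    have hcop : Nat.Coprime d p := by
      rw [Nat.coprime_comm, hp.coprime_iff_not_dvd]
      exact Nat.not_dvd_of_pos_of_lt hd0 hdp
    obtain ⟨m, -, hm⟩ := Nat.exists_mul_mod_eq_one_of_coprime hcop hp.one_lt
    have hxm : x ^ (d * m) = x := by
      rw [← Nat.div_add_mod (d * m) p, hm, pow_add, pow_mul, hx, one_pow, one_mul, pow_one]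
    have hc : Commute (x ^ d) k := h2
    have hc2 : Commute ((x ^ d) ^ m) k := hc.pow_left m
    rw [← pow_mul, hxm] at hc2
    exact hc2
  rcases lt_or_gt_of_ne (fun h => hij (Fin.ext h) : (i : ℕ) ≠ j) with h | h
  · exact key i j h j.2 hf'
  · exact key j i h i.2 hf'.symm

section basics

variable {G : Type*} [Group G] [Finite G]

theorem orderOf_of_mem_sylow {p : ℕ} [hp : Fact p.Prime] (P : Sylow p G) (hc : Nat.card P = p)
    {x : G} (hx : x ∈ P) (h1 : x ≠ 1) : orderOf x = p := by
  have h2 : orderOf x ∣ p := by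
    rw [← hc]
    exact Subgroup.orderOf_dvd_natCard _ hx
  rcases (Nat.dvd_prime hp.out).mp h2 with h | h
  · exact absurd (orderOf_eq_one_iff.mp h) h1
  · exact h

theorem exists_sylow_of_orderOf {p : ℕ} [hp : Fact p.Prime] (x : G) (hx : orderOf x = p) :
    ∃ P : Sylow p G, x ∈ P := by
  have h1 : IsPGroup p (Subgroup.zpowers x) := by
    apply IsPGroup.of_card (n := 1)
    rw [Nat.card_zpowers, hx, pow_one]
  obtain ⟨Q, hQ⟩ := h1.exists_le_sylow
  exact ⟨Q, hQ (Subgroup.mem_zpowers x)⟩

theorem sylow_eq_zpowers {p : ℕ} [hp : Fact p.Prime] (P : Sylow p G) (hc : Nat.card P = p)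
    {x : G} (hx : x ∈ P) (h1 : orderOf x = p) : (P : Subgroup G) = Subgroup.zpowers x := by
  symm
  apply Subgroup.eq_of_le_of_card_ge (Subgroup.zpowers_le.mpr hx)
  rw [Nat.card_zpowers, h1, hc]

theorem ncard_orderOf_eq (p : ℕ) [hp : Fact p.Prime] (hc : ∀ P : Sylow p G, Nat.card P = p) :
    {x : G | orderOf x = p}.ncard = Nat.card (Sylow p G) * (p - 1) := by
  rw [card_union_sylow_le p (sylow_TI_of_card_prime p hc) p hc, ← Nat.card_coe_set_eq]
  apply Nat.card_congr
  apply Equiv.subtypeEquivRight
  intro x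
  rw [Set.mem_setOf_eq]
  constructor
  · intro h
    refine ⟨?_, exists_sylow_of_orderOf x h⟩
    rintro rfl
    rw [orderOf_one] at h
    exact hp.out.one_lt.ne h
  · rintro ⟨h1, P, hP⟩
    exact orderOf_of_mem_sylow P (hc P) hP h1

/-- a normal subgroup of order divisible by `p` contains all elements of order `p`, when the
Sylow `p`-subgroups have order `p` -/
theorem mem_of_normal_of_dvd (p : ℕ) [hp : Fact p.Prime] (hc : ∀ P : Sylow p G, Nat.card P = p)
    (H : Subgroup G) [hH : H.Normal] (hdvd : p ∣ Nat.card H) (x : G) (hx : orderOf x = p) :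
    x ∈ H := by
  obtain ⟨h, hh⟩ := exists_prime_orderOf_dvd_card' p hdvd
  have hh' : orderOf (h : G) = p := by rw [Subgroup.orderOf_coe]; exact hh
  obtain ⟨Q, hQ⟩ := exists_sylow_of_orderOf (h : G) hh'
  obtain ⟨P, hP⟩ := exists_sylow_of_orderOf x hx
  have hQH : (Q : Subgroup G) ≤ H := by
    rw [sylow_eq_zpowers Q (hc Q) hQ hh']
    exact Subgroup.zpowers_le.mpr h.2
  obtain ⟨g, hg⟩ := MulAction.exists_smul_eq G Q P
  have hx' : x ∈ ((g • Q : Sylow p G) : Subgroup G) := by rw [hg]; exact hP
  rw [Sylow.coe_subgroup_smul, Subgroup.mem_smul_pointwise_iff_exists] at hx'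
  obtain ⟨q, hq, rfl⟩ := hx'
  rw [MulAut.smul_def, MulAut.conj_apply]
  exact hH.conj_mem q (hQH hq) g

end basics

section sixty

variable {G : Type*} [Group G] [Finite G]

theorem isSimpleGroup_of_card_sixty [Fact (Nat.Prime 5)] (h60 : Nat.card G = 60) (P : Sylow 5 G)
    (hP : ¬ (P : Subgroup G).Normal) : IsSimpleGroup G := by
  classical
  haveI : Fact (Nat.Prime 3) := ⟨by norm_num⟩
  haveI : Fact (Nat.Prime 2) := ⟨by norm_num⟩
  have hc5 : ∀ P : Sylow 5 G, Nat.card P = 5 := fun P => by
    have := sylow_card_of_eq 5 1 12 (by rw [h60]; norm_num) (by norm_num) P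
    simpa using this
  have hc3 : ∀ Q : Sylow 3 G, Nat.card Q = 3 := fun Q => by
    have := sylow_card_of_eq 3 1 20 (by rw [h60]; norm_num) (by norm_num) Q
    simpa using this
  -- the number of Sylow 5-subgroups
  have hidx5 : (P : Subgroup G).index = 12 := by
    have := Subgroup.card_mul_index (P : Subgroup G)
    rw [hc5 P, h60] at this
    omega
  have hn5 : Nat.card (Sylow 5 G) = 6 := by
    have h1 := card_sylow_modEq_one 5 G
    have h2 := Sylow.card_dvd_index P
    rw [hidx5] at h2
    have h3 : Nat.card (Sylow 5 G) ≠ 1 := by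
      intro h
      have : Subsingleton (Sylow 5 G) := (Nat.card_eq_one_iff_unique.mp h).1
      exact hP (Sylow.normal_of_subsingleton P)
    have h4 := Nat.le_of_dvd (by norm_num) h2
    unfold Nat.ModEq at h1
    interval_cases hk : Nat.card (Sylow 5 G) <;> omega
  have hnorm5 : ∀ P' : Sylow 5 G, Nat.card (Subgroup.normalizer ((P' : Subgroup G) : Set G)) = 10 := by
    intro P'
    have h1 : Nat.card (Sylow 5 G) = (Subgroup.normalizer ((P' : Subgroup G) : Set G)).index :=
      Sylow.card_eq_index_normalizer P'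
    have h2 := Subgroup.card_mul_index (Subgroup.normalizer ((P' : Subgroup G) : Set G))
    rw [← h1, hn5, h60] at h2
    omega
  -- elements of order 3 and 5 do not commute
  have key5 : ∀ x y : G, orderOf x = 5 → orderOf y = 3 → x * y ≠ y * x := by
    intro x y hx hy hxy
    obtain ⟨P', hP'⟩ := exists_sylow_of_orderOf x hx
    have hyN : y ∈ Subgroup.normalizer ((P' : Subgroup G) : Set G) := by
      apply Subgroup.centralizer_le_normalizer
      rw [Subgroup.mem_centralizer_iff]
      intro h hh
      have hh' : h ∈ (P' : Subgroup G) := hh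
      rw [sylow_eq_zpowers P' (hc5 P') hP' hx, Subgroup.mem_zpowers_iff] at hh'
      obtain ⟨k, rfl⟩ := hh'
      have hc : Commute x y := hxy
      exact (hc.zpow_left k).eq
    have h1 := Subgroup.orderOf_dvd_natCard _ hyN
    rw [hy, hnorm5 P'] at h1
    omega
  -- the number of Sylow 3-subgroups
  have hn3 : Nat.card (Sylow 3 G) = 10 := by
    obtain ⟨Q⟩ : Nonempty (Sylow 3 G) := inferInstance
    have hidx3 : (Q : Subgroup G).index = 20 := by
      have := Subgroup.card_mul_index (Q : Subgroup G)
      rw [hc3 Q, h60] at this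
      omega
    have h1 := card_sylow_modEq_one 3 G
    have h2 := Sylow.card_dvd_index Q
    rw [hidx3] at h2
    have h3 : Nat.card (Sylow 3 G) = (Subgroup.normalizer ((Q : Subgroup G) : Set G)).index :=
      Sylow.card_eq_index_normalizer Q
    have h4 := Subgroup.card_mul_index (Subgroup.normalizer ((Q : Subgroup G) : Set G))
    rw [← h3, h60] at h4
    have h5 : ¬ 5 ∣ Nat.card (Subgroup.normalizer ((Q : Subgroup G) : Set G)) := by
      intro hdvd
      obtain ⟨x, hx⟩ := exists_prime_orderOf_dvd_card' 5 hdvd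
      have hx' : orderOf (x : G) = 5 := by rw [Subgroup.orderOf_coe]; exact hx
      have hcomm := commute_of_normalizes (Q : Subgroup G) (x : G) 5 (by norm_num)
        (by rw [← hx']; exact pow_orderOf_eq_one _) (by rw [hc3 Q]; norm_num)
        (fun k hk => by
          have := x.2
          rw [Subgroup.mem_normalizer_iff] at this
          exact (this k).mp hk)
      -- an element of order 3 in Q
      have hnt : (Q : Subgroup G) ≠ ⊥ := by
        intro h
        have := hc3 Q
        rw [h, Subgroup.card_bot] at this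
        omega
      obtain ⟨y, hy1⟩ := (Subgroup.ne_bot_iff_exists_ne_one.mp hnt)
      have hyQ' : (y : G) ∈ (Q : Subgroup G) := y.2
      have hy1' : (y : G) ≠ 1 := fun h => hy1 (Subtype.ext h)
      exact key5 x y hx' (orderOf_of_mem_sylow Q (hc3 Q) hyQ' hy1') (hcomm y hyQ')
    have h6 := Nat.le_of_dvd (by norm_num) h2
    unfold Nat.ModEq at h1
    interval_cases hk : Nat.card (Sylow 3 G) <;> first | omega | (exfalso; apply h5; omega)
  have ha5 : {x : G | orderOf x = 5}.ncard = 24 := by rw [ncard_orderOf_eq 5 hc5, hn5]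
  have ha3 : {x : G | orderOf x = 3}.ncard = 20 := by rw [ncard_orderOf_eq 3 hc3, hn3]
  have hdisj35 : Disjoint {x : G | orderOf x = 5} {x : G | orderOf x = 3} := by
    rw [Set.disjoint_left]
    intro x h5 h3
    rw [Set.mem_setOf_eq] at h5 h3
    omega
  have hnt : Nontrivial G := by
    rw [← Finite.one_lt_card_iff_nontrivial, h60]; norm_num
  refine ⟨fun H hH => ?_⟩
  by_contra hcon
  push Not at hcon
  obtain ⟨hbot, htop⟩ := hcon
  have hdvd : Nat.card H ∣ 60 := by rw [← h60]; exact Subgroup.card_subgroup_dvd_card H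
  have hne1 : Nat.card H ≠ 1 := fun h => hbot ((Subgroup.eq_bot_iff_card H).mpr h)
  have hne60 : Nat.card H ≠ 60 := fun h => htop ((Subgroup.card_eq_iff_eq_top H).mp (by rw [h, h60]))
  have hHn : (H : Set G).ncard = Nat.card H := (Nat.card_coe_set_eq (H : Set G)).symm
  have hle60 := Nat.le_of_dvd (by norm_num) hdvd
  have hsub5 : 5 ∣ Nat.card H → {x : G | orderOf x = 5} ⊆ (H : Set G) := fun h x hx =>
    mem_of_normal_of_dvd 5 hc5 H h x hx
  have hsub3 : 3 ∣ Nat.card H → {x : G | orderOf x = 3} ⊆ (H : Set G) := fun h x hx =>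
    mem_of_normal_of_dvd 3 hc3 H h x hx
  have hone : (1 : G) ∈ (H : Set G) := H.one_mem
  by_cases h5 : 5 ∣ Nat.card H
  · by_cases h3 : 3 ∣ Nat.card H
    · -- both
      have h1 : ({x : G | orderOf x = 5} ∪ {x : G | orderOf x = 3}).ncard = 44 := by
        rw [Set.ncard_union_eq hdisj35 (Set.toFinite _) (Set.toFinite _), ha5, ha3]
      have h2 : (insert (1 : G) ({x : G | orderOf x = 5} ∪ {x : G | orderOf x = 3})).ncard = 45 := by
        rw [Set.ncard_insert_of_notMem _ (Set.toFinite _), h1]
        intro h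
        rcases h with h | h <;> rw [Set.mem_setOf_eq, orderOf_one] at h <;> omega
      have h3' : (insert (1 : G) ({x : G | orderOf x = 5} ∪ {x : G | orderOf x = 3})) ⊆ (H : Set G) :=
        Set.insert_subset hone (Set.union_subset (hsub5 h5) (hsub3 h3))
      have h4 := Set.ncard_le_ncard h3' (Set.toFinite _)
      rw [h2, hHn] at h4
      obtain ⟨k, hk⟩ := hdvd
      have : k = 1 := by
        rcases Nat.lt_or_ge k 2 with h | h
        · have : k ≠ 0 := by rintro rfl; omega
          omega
        · nlinarith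
      subst this
      omega
    · have h2 : (insert (1 : G) {x : G | orderOf x = 5}).ncard = 25 := by
        rw [Set.ncard_insert_of_notMem _ (Set.toFinite _), ha5]
        intro h
        rw [Set.mem_setOf_eq, orderOf_one] at h
        omega
      have h3' : (insert (1 : G) {x : G | orderOf x = 5}) ⊆ (H : Set G) :=
        Set.insert_subset hone (hsub5 h5)
      have h4 := Set.ncard_le_ncard h3' (Set.toFinite _)
      rw [h2, hHn] at h4
      obtain ⟨k, hk⟩ := hdvd
      have hk2 : k ≤ 2 := by
        by_contra hlt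
        push Not at hlt
        nlinarith
      interval_cases k <;> omega
  · by_cases h3 : 3 ∣ Nat.card H
    · have h2 : (insert (1 : G) {x : G | orderOf x = 3}).ncard = 21 := by
        rw [Set.ncard_insert_of_notMem _ (Set.toFinite _), ha3]
        intro h
        rw [Set.mem_setOf_eq, orderOf_one] at h
        omega
      have h3' : (insert (1 : G) {x : G | orderOf x = 3}) ⊆ (H : Set G) :=
        Set.insert_subset hone (hsub3 h3)
      have h4 := Set.ncard_le_ncard h3' (Set.toFinite _)
      rw [h2, hHn] at h4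
      obtain ⟨k, hk⟩ := hdvd
      have hk2 : k ≤ 2 := by
        by_contra hlt
        push Not at hlt
        nlinarith
      interval_cases k <;> omega
    · -- |H| divides 4
      have hH4 : Nat.card H ≤ 4 := by
        obtain ⟨k, hk⟩ := hdvd
        have hcop : Nat.Coprime (Nat.card H) 15 := by
          have e : (15 : ℕ) = 3 * 5 := by norm_num
          rw [e]
          apply Nat.Coprime.mul_right
          · rw [Nat.coprime_comm]; exact (Nat.Prime.coprime_iff_not_dvd (by norm_num)).mpr h3
          · rw [Nat.coprime_comm]; exact (Nat.Prime.coprime_iff_not_dvd (by norm_num)).mpr h5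
        have hd : Nat.card H ∣ 4 * 15 := ⟨k, by omega⟩
        exact Nat.le_of_dvd (by norm_num) (hcop.dvd_of_dvd_mul_right hd)
      have h2dvd : 2 ∣ Nat.card H := by
        have : Nat.card H ≠ 0 := Nat.card_pos.ne'
        interval_cases hk : Nat.card H <;> omega
      obtain ⟨z, hz⟩ := exists_prime_orderOf_dvd_card' 2 h2dvd
      have hz' : orderOf (z : G) = 2 := by rw [Subgroup.orderOf_coe]; exact hz
      have hzc : ∀ y : G, orderOf y = 5 → y * z = z * y := by
        intro y hy
        exact commute_of_normalizes H y 5 (by norm_num) (by rw [← hy]; exact pow_orderOf_eq_one _)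
          (by omega) (fun k hk => hH.conj_mem k hk y) z z.2
      -- elements of order 10
      have hsub10 : (fun y => (z : G) * y) '' {x : G | orderOf x = 5} ⊆ {x : G | orderOf x = 10} := by
        rintro _ ⟨y, hy, rfl⟩
        rw [Set.mem_setOf_eq] at hy ⊢
        have hc : Commute (z : G) y := (hzc y hy).symm
        rw [hc.orderOf_mul_eq_mul_orderOf_of_coprime (by rw [hz', hy]; norm_num), hz', hy]
      have h10 : 24 ≤ {x : G | orderOf x = 10}.ncard := by
        have := Set.ncard_le_ncard hsub10 (Set.toFinite _)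
        rwa [Set.ncard_image_of_injective _ (mul_right_injective (z : G)), ha5] at this
      have hdisj : Disjoint ({x : G | orderOf x = 5} ∪ {x : G | orderOf x = 3})
          {x : G | orderOf x = 10} := by
        rw [Set.disjoint_left]
        rintro x (h | h) h'
        all_goals (rw [Set.mem_setOf_eq] at h h'; omega)
      have h1 : ({x : G | orderOf x = 5} ∪ {x : G | orderOf x = 3}).ncard = 44 := by
        rw [Set.ncard_union_eq hdisj35 (Set.toFinite _) (Set.toFinite _), ha5, ha3]
      have h2 := Set.ncard_union_eq hdisj (Set.toFinite _) (Set.toFinite _)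
      have h3' := Set.ncard_le_ncard (Set.subset_univ
        (({x : G | orderOf x = 5} ∪ {x : G | orderOf x = 3}) ∪ {x : G | orderOf x = 10}))
        (Set.toFinite _)
      rw [h2, h1, Set.ncard_univ, h60] at h3'
      omega

end sixty

end Cfsg.Agent.Lib.Helper4.Sixty
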