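import Cfsg.Agent.Lib.Helper4.AutAlt2

set_option autoImplicit false

/-! Every automorphism of the alternating group of degree `n ≥ 4`, `n ≠ 6`, is conjugation by a
unique permutation. (helper4) -/

namespace Cfsg.Agent.Lib.Helper4.AutAlt

open Equiv Cfsg.Agent.Lib.Helper4.WreathAlt Cfsg.Agent.Lib.Helper4.SwapWord

variable {Ω : Type*} [DecidableEq Ω] [Fintype Ω]

theorem alternatingGroup_le_of_star {a b : Ω} (hab : a ≠ b) (L : Subgroup (Perm Ω))
    (h : ∀ x, x ≠ a → x ≠ b → c3 a b x ∈ L) : alternatingGroup Ω ≤ L := by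
  have h1 : ∀ x y, x ≠ a → y ≠ a → x ≠ y → c3 a x y ∈ L := by
    intro x y hxa hya hxy
    by_cases hxb : x = b
    · subst hxb; exact h y hya (Ne.symm hxy)
    by_cases hyb : y = b
    · subst hyb
      rw [← c3_inv (Ne.symm hya) (Ne.symm hxa) (Ne.symm hxy)]
      exact L.inv_mem (h x hxa hxb)
    · rw [c3_star_two hab (Ne.symm hxa) (Ne.symm hya) (Ne.symm hxb) (Ne.symm hyb) hxy]
      exact L.mul_mem (h y hya hyb) (L.inv_mem (h x hxa hxb))
  rw [← Perm.closure_three_cycles_eq_alternating, Subgroup.closure_le]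
  intro s hs
  obtain ⟨x, hx⟩ : s.support.Nonempty := by
    rw [← Finset.card_pos, hs.card_support]; norm_num
  obtain ⟨y, z, -, -, -, hxy, hxz, hyz, hseq⟩ := exists_eq_c3 hs (Perm.mem_support.mp hx)
  show s ∈ L
  rw [hseq]
  by_cases hxa : x = a
  · subst hxa; exact h1 y z (Ne.symm hxy) (Ne.symm hxz) hyz
  by_cases hya : y = a
  · subst hya
    rw [c3_rot hxy hxz hyz]
    exact h1 z x (Ne.symm hyz) hxa (Ne.symm hxz)
  by_cases hza : z = a
  · subst hza
    rw [c3_rot hxy hxz hyz, c3_rot hyz (Ne.symm hxy) (Ne.symm hxz)]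
    exact h1 x y hxa hya hxy
  · rw [c3_star_three (Ne.symm hxa) (Ne.symm hya) (Ne.symm hza) hxy hxz hyz]
    exact L.mul_mem (h1 x y hxa hya hxy) (h1 y z hya hza hyz)

theorem c3_mem_alternatingGroup {p q r : Ω} (h1 : p ≠ q) (h2 : p ≠ r) (h3 : q ≠ r) :
    c3 p q r ∈ alternatingGroup Ω :=
  (isThreeCycle_c3 h1 h2 h3).mem_alternatingGroup

theorem eq_one_of_conj (h4 : 4 ≤ Fintype.card Ω) (σ : Perm Ω)
    (h : ∀ g ∈ alternatingGroup Ω, σ * g * σ⁻¹ = g) : σ = 1 := by
  ext a
  by_contra hne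
  rw [Perm.one_apply] at hne
  have hcard : 1 < (Finset.univ \ {a, σ a} : Finset Ω).card := by
    have h1 : ({a, σ a} : Finset Ω).card ≤ 2 := Finset.card_le_two
    have h2 := Finset.card_sdiff_add_card_eq_card (Finset.subset_univ ({a, σ a} : Finset Ω))
    rw [Finset.card_univ] at h2
    omega
  obtain ⟨c, hc, d, hd, hcd⟩ := Finset.one_lt_card.mp hcard
  simp only [Finset.mem_sdiff, Finset.mem_univ, true_and, Finset.mem_insert,
    Finset.mem_singleton, not_or] at hc hd
  have hac : a ≠ c := Ne.symm hc.1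
  have had : a ≠ d := Ne.symm hd.1
  have := h (c3 a c d) (c3_mem_alternatingGroup hac had hcd)
  rw [conj_c3] at this
  have h1 : c3 (σ a) (σ c) (σ d) (σ a) = c3 a c d (σ a) := by rw [this]
  rw [c3_apply_left (σ.injective.ne hac) (σ.injective.ne had),
    c3_apply_of_ne hne (Ne.symm hc.2) (Ne.symm hd.2)] at h1
  exact hac (σ.injective h1).symm

theorem exists_conj (h4 : 4 ≤ Fintype.card Ω) (h6 : Fintype.card Ω ≠ 6)
    (φ : alternatingGroup Ω ≃* alternatingGroup Ω) :
    ∃ σ : Perm Ω, ∀ g : alternatingGroup Ω,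
      ((φ g : alternatingGroup Ω) : Perm Ω) = σ * g * σ⁻¹ := by
  haveI : Nontrivial Ω := Fintype.one_lt_card_iff_nontrivial.mp (by omega)
  obtain ⟨e⟩ : Nonempty (Fin 4 ↪ Ω) :=
    Function.Embedding.nonempty_of_card_le (by rw [Fintype.card_fin]; exact h4)
  obtain ⟨a, ha⟩ : ∃ a, a = e 0 := ⟨_, rfl⟩
  obtain ⟨b, hb⟩ : ∃ b, b = e 1 := ⟨_, rfl⟩
  have hab : a ≠ b := by rw [ha, hb]; exact e.injective.ne (by decide)
  let ι := {x : Ω // x ≠ a ∧ x ≠ b}
  have hmem : ∀ x : ι, c3 a b x.1 ∈ alternatingGroup Ω := fun x =>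
    c3_mem_alternatingGroup hab (Ne.symm x.2.1) (Ne.symm x.2.2)
  let S : ι → alternatingGroup Ω := fun x => ⟨c3 a b x.1, hmem x⟩
  let T : ι → Perm Ω := fun x => ((φ (S x) : alternatingGroup Ω) : Perm Ω)
  have hT3 : ∀ i, (T i).IsThreeCycle := fun i =>
    isThreeCycle_map h6 φ (S i) (isThreeCycle_c3 hab (Ne.symm i.2.1) (Ne.symm i.2.2))
  have hR : ∀ i j, i ≠ j → Rel (T i) (T j) := by
    intro i j hij
    have hij' : i.1 ≠ j.1 := fun h => hij (Subtype.ext h)
    constructor
    · have h1 : (S i * S j) * (S i * S j) = 1 := by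
        apply Subtype.ext
        exact c3_mul_sq hab (Ne.symm i.2.1) (Ne.symm j.2.1) (Ne.symm i.2.2) (Ne.symm j.2.2) hij'
      have h2 := congrArg (fun g => ((φ g : alternatingGroup Ω) : Perm Ω)) h1
      simpa [map_mul] using h2
    · intro h1
      have h2 : φ (S i * S j) = 1 := by
        apply Subtype.ext
        simpa [map_mul] using h1
      have h3 : S i * S j = 1 := by
        rwa [MulEquiv.map_eq_one_iff] at h2
      have h4 := congrArg (fun g : alternatingGroup Ω => (g : Perm Ω) j.1) h3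
      simp only [S, Subgroup.coe_mul, Perm.mul_apply, Subgroup.coe_one, Perm.one_apply] at h4
      rw [c3_apply_right, c3_apply_left hab (Ne.symm i.2.1)] at h4
      exact j.2.2 h4.symm
  have h2mem : e 2 ≠ a ∧ e 2 ≠ b := by
    rw [ha, hb]; exact ⟨e.injective.ne (by decide), e.injective.ne (by decide)⟩
  have h3mem : e 3 ≠ a ∧ e 3 ≠ b := by
    rw [ha, hb]; exact ⟨e.injective.ne (by decide), e.injective.ne (by decide)⟩
  have h23 : (⟨e 2, h2mem⟩ : ι) ≠ ⟨e 3, h3mem⟩ := by
    intro h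
    have := congrArg Subtype.val h
    exact absurd (e.injective this) (by decide)
  obtain ⟨p, q, hpq, hTp⟩ := star_common T hT3 hR _ _ h23
  -- shape of each image
  have hshape : ∀ i : ι, p ≠ T i q ∧ q ≠ T i q ∧ T i = c3 p q (T i q) := by
    intro i
    have hp : T i p ≠ p := by rw [hTp]; exact Ne.symm hpq
    obtain ⟨q', r, hq', hr, -, n1, n2, n3, heq⟩ := exists_eq_c3 (hT3 i) hp
    have hqq : q' = q := by rw [← hq', hTp]
    subst hqq
    rw [hr]
    exact ⟨n2, n3, heq⟩
  let f : Ω → Ω := fun z => if h1 : z = a then p else if h2 : z = b then q else T ⟨z, h1, h2⟩ q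
  have hfa : f a = p := by simp [f]
  have hfb : f b = q := by simp [f, Ne.symm hab]
  have hfi : ∀ i : ι, f i.1 = T i q := by
    intro i
    simp [f, i.2.1, i.2.2]
  have hinj : Function.Injective f := by
    intro z w hzw
    by_cases hza : z = a
    · by_cases hwa : w = a
      · rw [hza, hwa]
      · exfalso
        by_cases hwb : w = b
        · rw [hza, hwb, hfa, hfb] at hzw
          exact hpq hzw
        · have := hfi ⟨w, hwa, hwb⟩
          rw [hza, hfa, this] at hzw
          exact (hshape ⟨w, hwa, hwb⟩).1 hzw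
    by_cases hzb : z = b
    · by_cases hwa : w = a
      · exfalso
        rw [hzb, hwa, hfa, hfb] at hzw
        exact hpq hzw.symm
      · by_cases hwb : w = b
        · rw [hzb, hwb]
        · exfalso
          have := hfi ⟨w, hwa, hwb⟩
          rw [hzb, hfb, this] at hzw
          exact (hshape ⟨w, hwa, hwb⟩).2.1 hzw
    · have hz := hfi ⟨z, hza, hzb⟩
      by_cases hwa : w = a
      · exfalso
        rw [hwa, hfa, hz] at hzw
        exact (hshape ⟨z, hza, hzb⟩).1 hzw.symm
      · by_cases hwb : w = b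
        · exfalso
          rw [hwb, hfb, hz] at hzw
          exact (hshape ⟨z, hza, hzb⟩).2.1 hzw.symm
        · have hw := hfi ⟨w, hwa, hwb⟩
          rw [hz, hw] at hzw
          by_contra hne
          have hne' : (⟨z, hza, hzb⟩ : ι) ≠ ⟨w, hwa, hwb⟩ := fun h => hne (congrArg Subtype.val h)
          have hrel := hR _ _ hne'
          have heq : T ⟨z, hza, hzb⟩ = T ⟨w, hwa, hwb⟩ := by
            rw [(hshape ⟨z, hza, hzb⟩).2.2, (hshape ⟨w, hwa, hwb⟩).2.2, hzw]
          rw [heq] at hrel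
          exact not_rel_self (hT3 _) hrel
  let σ : Perm Ω := Equiv.ofBijective f (Finite.injective_iff_bijective.mp hinj)
  have hσ : ∀ z, σ z = f z := fun z => rfl
  have hconj : ∀ i : ι, T i = σ * c3 a b i.1 * σ⁻¹ := by
    intro i
    rw [conj_c3, hσ, hσ, hσ, hfa, hfb, hfi]
    exact (hshape i).2.2
  refine ⟨σ, ?_⟩
  -- the locus where `φ` agrees with conjugation by `σ`
  let L' : Subgroup (alternatingGroup Ω) :=
    { carrier := {g | ((φ g : alternatingGroup Ω) : Perm Ω) = σ * g * σ⁻¹}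
      mul_mem' := by
        intro x y hx hy
        simp only [Set.mem_setOf_eq] at hx hy ⊢
        rw [map_mul, Subgroup.coe_mul, hx, hy, Subgroup.coe_mul]
        group
      one_mem' := by simp
      inv_mem' := by
        intro x hx
        simp only [Set.mem_setOf_eq] at hx ⊢
        rw [map_inv, Subgroup.coe_inv, hx, Subgroup.coe_inv]
        group }
  have hL : alternatingGroup Ω ≤ L'.map (alternatingGroup Ω).subtype := by
    apply alternatingGroup_le_of_star hab
    intro x hxa hxb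
    refine ⟨S ⟨x, hxa, hxb⟩, ?_, rfl⟩
    exact hconj ⟨x, hxa, hxb⟩
  intro g
  obtain ⟨g', hg', hgg⟩ := hL g.2
  have : g' = g := Subtype.ext hgg
  rw [← this]
  exact hg'

theorem conjNormal_bijective (h4 : 4 ≤ Fintype.card Ω) (h6 : Fintype.card Ω ≠ 6) :
    Function.Bijective (MulAut.conjNormal : Perm Ω →* MulAut ↥(alternatingGroup Ω)) := by
  constructor
  · rw [injective_iff_map_eq_one]
    intro σ hσ
    apply eq_one_of_conj h4
    intro g hg
    have := congrArg (fun ψ : MulAut (alternatingGroup Ω) => ((ψ ⟨g, hg⟩ : alternatingGroup Ω) : Perm Ω)) hσ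
    simpa [MulAut.conjNormal_apply] using this
  · intro φ
    obtain ⟨σ, hσ⟩ := exists_conj h4 h6 φ
    refine ⟨σ, ?_⟩
    ext g
    rw [MulAut.conjNormal_apply, hσ]

end Cfsg.Agent.Lib.Helper4.AutAlt
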