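import Mathlib

set_option autoImplicit false

namespace Cfsg.Agent.Lib.Helper4

open Matrix Matrix.SpecialLinearGroup

variable {F : Type*} [Field F] {ι : Type*} [DecidableEq ι] [Fintype ι]

omit [Fintype ι] in
theorem single_neg' (i j : ι) (c : F) : single i j (-c) = -single i j c := by
  ext a b; simp [single_apply]; split_ifs <;> simp

theorem wmat {i j : ι} (hij : i ≠ j) (c : F) (hc : c ≠ 0) :
    ((transvection hij c * transvection hij.symm (-c⁻¹) * transvection hij c :
      SpecialLinearGroup ι F) : Matrix ι ι F) =
      1 - single i i 1 - single j j 1 + single i j c - single j i c⁻¹ := by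
  simp only [coe_mul, transvection_coe, mul_add, add_mul, mul_one, one_mul,
    single_mul_single_same, single_mul_single_of_ne _ _ _ _ hij.symm]
  have h1 : c * -c⁻¹ = -1 := by field_simp
  have h2 : -c⁻¹ * c = -1 := by field_simp
  rw [h1, h2, neg_one_mul, single_neg', single_neg', single_neg', single_neg']
  abel

theorem diag2n_coe_single {i j : ι} (hij : i ≠ j) (c : F) (hc : c ≠ 0) :
    ((diag2n hij c hc : SpecialLinearGroup ι F) : Matrix ι ι F) =
      1 - single i i 1 - single j j 1 + single i i c + single j j c⁻¹ := by
  rw [diag2n_coe]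
  ext a b
  simp only [diagonal_apply, Matrix.add_apply, Matrix.sub_apply, one_apply, single_apply]
  by_cases hab : a = b
  · subst hab
    by_cases hai : a = i
    · subst hai
      simp [hij, hij.symm]
    · by_cases haj : a = j
      · subst haj
        simp [hai, Ne.symm hai]
      · simp [hai, haj, Ne.symm hai, Ne.symm haj]
  · by_cases hai : a = i
    · subst hai
      simp [hab, Ne.symm hab, hij, hij.symm]
    · by_cases haj : a = j
      · subst haj
        simp [hab, Ne.symm hab, hai, Ne.symm hai]
      · simp [hab, hai, haj, Ne.symm hai, Ne.symm haj]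

theorem diag2n_eq_prod {i j : ι} (hij : i ≠ j) (c : F) (hc : c ≠ 0) :
    diag2n hij c hc = transvection hij c * transvection hij.symm (-c⁻¹) * transvection hij c *
      (transvection hij (-1) * transvection hij.symm 1 * transvection hij (-1)) := by
  apply Subtype.ext
  have hw := wmat hij (-1 : F) (by simp)
  rw [show (-(-1 : F)⁻¹) = 1 by simp] at hw
  rw [coe_mul (transvection hij c * transvection hij.symm (-c⁻¹) * transvection hij c), wmat hij c hc,
    hw, diag2n_coe_single]
  simp only [mul_add, add_mul, mul_sub, sub_mul, mul_one, one_mul,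
    single_mul_single_same, single_mul_single_of_ne _ _ _ _ hij.symm,
    single_mul_single_of_ne _ _ _ _ hij]
  simp only [inv_neg, inv_one, mul_neg, mul_one, single_neg', neg_neg, sub_zero, add_zero, zero_add,
    zero_sub, neg_zero]
  abel

theorem transvection_induction_gen [Nontrivial ι] (P : SpecialLinearGroup ι F → Prop)
    (htransvec : ∀ (i j : ι) (h : i ≠ j) (c : F), P (transvection h c))
    (hmul : ∀ A B, P A → P B → P (A * B)) (A : SpecialLinearGroup ι F) : P A := by
  refine diagonal_transvection_induction' P _ (fun i j hij c hc ↦ ?_) htransvec hmul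
  rw [diag2n_eq_prod hij c hc]
  refine hmul _ _ (hmul _ _ (hmul _ _ ?_ ?_) ?_) (hmul _ _ (hmul _ _ ?_ ?_) ?_)
  all_goals exact htransvec _ _ _ _

open scoped commutatorElement

theorem commutator_transvection {i j k : ι} (hij : i ≠ j) (hik : i ≠ k) (hkj : k ≠ j) (a b : F) :
    ⁅transvection hik a, transvection hkj b⁆ = transvection hij (a * b) := by
  rw [commutatorElement_def, transvection_inv, transvection_inv]
  apply Subtype.ext
  simp only [coe_mul, transvection_coe, mul_add, add_mul, mul_one, one_mul,
    single_mul_single_same, single_mul_single_of_ne _ _ _ _ hij, 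
    single_mul_single_of_ne _ _ _ _ hij.symm, single_mul_single_of_ne _ _ _ _ hik,
    single_mul_single_of_ne _ _ _ _ hik.symm, single_mul_single_of_ne _ _ _ _ hkj,
    single_mul_single_of_ne _ _ _ _ hkj.symm]
  simp only [single_neg', mul_neg, neg_mul, neg_neg, add_zero, zero_add, neg_zero, zero_mul,
    mul_zero, single_zero, neg_add_rev]
  abel

theorem transvection_mem_commutator_gen {i j : ι} (hij : i ≠ j) (h3 : 3 ≤ Fintype.card ι) (a : F) :
    transvection hij a ∈ commutator (SpecialLinearGroup ι F) := by
  obtain ⟨k, hk⟩ : ∃ k, k ≠ i ∧ k ≠ j := by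
    by_contra hcon
    push Not at hcon
    have : Fintype.card ι ≤ 2 := by
      have hsub : (Finset.univ : Finset ι) ⊆ {i, j} := by
        intro k _
        by_cases hki : k = i
        · simp [hki]
        · simp [hcon k hki]
      calc Fintype.card ι = (Finset.univ : Finset ι).card := rfl
        _ ≤ ({i, j} : Finset ι).card := Finset.card_le_card hsub
        _ ≤ 2 := Finset.card_le_two
    omega
  have := commutator_transvection hij hk.1.symm hk.2 a 1
  rw [mul_one] at this
  rw [← this]
  exact Subgroup.commutator_mem_commutator (Subgroup.mem_top _) (Subgroup.mem_top _)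

theorem SL_commutator_eq_top (h3 : 3 ≤ Fintype.card ι) :
    commutator (SpecialLinearGroup ι F) = ⊤ := by
  have : Nontrivial ι := Fintype.one_lt_card_iff_nontrivial.mp (by omega)
  exact le_antisymm le_top (fun A _ ↦ transvection_induction_gen _
    (fun _ _ hij c ↦ transvection_mem_commutator_gen hij h3 c) (fun _ _ ↦ mul_mem) A)

end Cfsg.Agent.Lib.Helper4
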