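import Mathlib
import Cfsg.Agent.Lib.Helper5.E6MDefs2

/-!
Farm E6M, unit MTV: the matrix of `3 × 3` minors of an elementary matrix `1 + t E_ij`.

A `3 × 3` minor of `1 + t E_ij` is `det (d + t e)` for two `0/1` matrices `d`, `e` that depend only on the two
increasing triples and on `(i, j)`; the coefficients of this cubic in `t` are integers, and a kernel computation
over all pairs of increasing triples gives them.
-/

set_option autoImplicit false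

namespace Cfsg.Agent.Lib.Helper4.E6MMTV

open Cfsg.Agent.Lib.Helper5.E6M Matrix

/-- the explicit 3x3 determinant -/
def det3 {R : Type*} [CommRing R] (m : Fin 3 → Fin 3 → R) : R :=
  m 0 0 * m 1 1 * m 2 2 - m 0 0 * m 1 2 * m 2 1 - m 0 1 * m 1 0 * m 2 2 + m 0 1 * m 1 2 * m 2 0
    + m 0 2 * m 1 0 * m 2 1 - m 0 2 * m 1 1 * m 2 0

def dZ (J I : Fin 3 → Fin 6) (a b : Fin 3) : ℤ := if J a = I b then 1 else 0
def eZ (J I : Fin 3 → Fin 6) (i j : Fin 6) (a b : Fin 3) : ℤ := if J a = i ∧ I b = j then 1 else 0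

/-- mixed rows -/
def mix (d e : Fin 3 → Fin 3 → ℤ) (s : Fin 3 → Bool) (a b : Fin 3) : ℤ := if s a then e a b else d a b

def C1 (d e : Fin 3 → Fin 3 → ℤ) : ℤ :=
  det3 (mix d e ![true, false, false]) + det3 (mix d e ![false, true, false]) +
    det3 (mix d e ![false, false, true])
def C2 (d e : Fin 3 → Fin 3 → ℤ) : ℤ :=
  det3 (mix d e ![true, true, false]) + det3 (mix d e ![true, false, true]) +
    det3 (mix d e ![false, true, true])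

def cnt (I : Fin 3 → Fin 6) (i j : Fin 6) : ℕ :=
  (Finset.univ.filter fun a : Fin 3 => min i j < I a ∧ I a < max i j).card

def expB (J I : Fin 3 → Fin 6) (i j : Fin 6) : ℤ :=
  if (∃ b, I b = j) ∧ (¬ ∃ b, I b = i) ∧
    (∀ k : Fin 6, (∃ a, J a = k) ↔ (k = i ∨ (k ≠ j ∧ ∃ b, I b = k)))
  then (-1) ^ cnt I i j else 0

set_option maxRecDepth 100000 in
theorem core : ∀ J₀ J₁ : Fin 6, J₀ < J₁ → ∀ J₂ : Fin 6, J₁ < J₂ → ∀ I₀ I₁ : Fin 6, I₀ < I₁ →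
    ∀ I₂ : Fin 6, I₁ < I₂ → ∀ i j : Fin 6, i ≠ j →
    det3 (dZ ![J₀, J₁, J₂] ![I₀, I₁, I₂]) =
      (if (∀ a, ![J₀, J₁, J₂] a = ![I₀, I₁, I₂] a) then 1 else 0) ∧
    C1 (dZ ![J₀, J₁, J₂] ![I₀, I₁, I₂]) (eZ ![J₀, J₁, J₂] ![I₀, I₁, I₂] i j) =
      expB ![J₀, J₁, J₂] ![I₀, I₁, I₂] i j ∧
    C2 (dZ ![J₀, J₁, J₂] ![I₀, I₁, I₂]) (eZ ![J₀, J₁, J₂] ![I₀, I₁, I₂] i j) = 0 ∧
    det3 (eZ ![J₀, J₁, J₂] ![I₀, I₁, I₂] i j) = 0 := by
  decide +kernel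

end Cfsg.Agent.Lib.Helper4.E6MMTV
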