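import Mathlib
import Cfsg.Agent.Lib.Helper5.E6MDefs2
import Cfsg.Agent.Lib.Helper4.E6MMTVCore

/-!
Farm E6M, unit MTV: the matrix of `3 × 3` minors of an elementary matrix `1 + t E_ij` (assembly).
-/

set_option autoImplicit false

namespace Cfsg.Agent.Lib.Helper4.E6MMTV

open Cfsg.Agent.Lib.Helper5.E6M Matrix

theorem det_eq_det3 {R : Type*} [CommRing R] (m : Matrix (Fin 3) (Fin 3) R) :
    m.det = det3 (fun a b => m a b) := by
  rw [Matrix.det_fin_three, det3]

theorem det3_poly {R : Type*} [CommRing R] (d e : Fin 3 → Fin 3 → ℤ) (t : R) :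
    det3 (fun a b => ((d a b : ℤ) : R) + t * ((e a b : ℤ) : R)) =
      ((det3 d : ℤ) : R) + t * ((C1 d e : ℤ) : R) + t ^ 2 * ((C2 d e : ℤ) : R) +
        t ^ 3 * ((det3 e : ℤ) : R) := by
  simp only [det3, C1, C2, mix, Matrix.cons_val_zero, Matrix.cons_val_one, Matrix.cons_val_two,
    Matrix.head_cons, Matrix.tail_cons, if_true, Bool.false_eq_true, if_false]
  push_cast
  ring

variable {F : Type*} [Field F]

theorem triple (f : Fin 3 → Fin 6) : f = ![f 0, f 1, f 2] := by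
  ext a; fin_cases a <;> rfl

theorem mem_T3 (I : T3) (k : Fin 6) : k ∈ I.1 ↔ ∃ a, I.emb a = k := by
  have h := Finset.range_orderEmbOfFin I.1 I.2
  constructor
  · intro hk
    have : k ∈ Set.range (I.1.orderEmbOfFin I.2) := by rw [h]; exact hk
    exact this
  · rintro ⟨a, rfl⟩
    exact Finset.orderEmbOfFin_mem I.1 I.2 a

theorem eq_iff (J I : T3) : J = I ↔ ∀ a, J.emb a = I.emb a := by
  constructor
  · rintro rfl a; rfl
  · intro h
    apply Subtype.ext
    ext k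
    rw [mem_T3, mem_T3]
    constructor
    · rintro ⟨a, rfl⟩; exact ⟨a, (h a).symm⟩
    · rintro ⟨a, rfl⟩; exact ⟨a, h a⟩

theorem cnt_eq (I : T3) (i j : Fin 6) :
    (I.1.filter fun k => min i j < k ∧ k < max i j).card = cnt (fun a => I.emb a) i j := by
  have h := Finset.map_orderEmbOfFin_univ I.1 I.2
  conv_lhs => rw [← h]
  rw [Finset.filter_map, Finset.card_map]
  rfl

theorem expB_eq (J I : T3) (i j : Fin 6) :
    expB (fun a => J.emb a) (fun b => I.emb b) i j =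
      if j ∈ I.1 ∧ i ∉ I.1 ∧ J = repl I i j then rsgn I i j else 0 := by
  unfold expB
  have h1 : (∃ b, I.emb b = j) ↔ j ∈ I.1 := (mem_T3 I j).symm
  have h2 : (∃ b, I.emb b = i) ↔ i ∈ I.1 := (mem_T3 I i).symm
  by_cases hc : j ∈ I.1 ∧ i ∉ I.1
  · have hr : (repl I i j).1 = insert i (I.1.erase j) := by
      unfold repl
      rw [dif_pos hc]
    have h3 : (∀ k : Fin 6, (∃ a, J.emb a = k) ↔ (k = i ∨ (k ≠ j ∧ ∃ b, I.emb b = k))) ↔
        J = repl I i j := by
      constructor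
      · intro h
        apply Subtype.ext
        ext k
        rw [hr, Finset.mem_insert, Finset.mem_erase, mem_T3, mem_T3]
        exact h k
      · intro h k
        have := congrArg Subtype.val h
        rw [hr] at this
        have hk := Finset.ext_iff.1 this k
        rw [Finset.mem_insert, Finset.mem_erase, mem_T3, mem_T3] at hk
        exact hk
    by_cases hJ : J = repl I i j
    · rw [if_pos ⟨h1.2 hc.1, fun h => hc.2 (h2.1 h), h3.2 hJ⟩, if_pos ⟨hc.1, hc.2, hJ⟩, rsgn, cnt_eq]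
    · rw [if_neg (fun h => hJ (h3.1 h.2.2)), if_neg (fun h => hJ h.2.2)]
  · rw [if_neg (fun h => hc ⟨h1.1 h.1, fun h' => h.2.1 (h2.2 h')⟩),
      if_neg (fun h => hc ⟨h.1, h.2.1⟩)]

theorem entry (p : IJ) (t : F) (J I : T3) (a b : Fin 3) :
    (Matrix.transvection p.1.1 p.1.2 t).submatrix J.emb I.emb a b =
      ((dZ (fun a => J.emb a) (fun b => I.emb b) a b : ℤ) : F) +
        t * ((eZ (fun a => J.emb a) (fun b => I.emb b) p.1.1 p.1.2 a b : ℤ) : F) := by
  rw [Matrix.submatrix_apply, Matrix.transvection, Matrix.add_apply, Matrix.one_apply,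
    Matrix.single, Matrix.of_apply, dZ, eZ]
  have e1 : ((if J.emb a = I.emb b then (1 : ℤ) else 0 : ℤ) : F) =
      if J.emb a = I.emb b then (1 : F) else 0 := by
    split_ifs <;> simp
  have e2 : t * (((if J.emb a = p.1.1 ∧ I.emb b = p.1.2 then (1 : ℤ) else 0 : ℤ)) : F) =
      if p.1.1 = J.emb a ∧ p.1.2 = I.emb b then t else 0 := by
    by_cases h2 : p.1.1 = J.emb a ∧ p.1.2 = I.emb b
    · rw [if_pos h2, if_pos ⟨h2.1.symm, h2.2.symm⟩]; simp
    · rw [if_neg h2, if_neg (fun h => h2 ⟨h.1.symm, h.2.symm⟩)]; simp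
  rw [e1, e2]

/-- the minors of an elementary matrix -/
theorem minor_transvection (p : IJ) (t : F) (J I : T3) :
    minor (Matrix.transvection p.1.1 p.1.2 t) J I =
      (if J = I then 1 else 0) +
        t * (((if p.1.2 ∈ I.1 ∧ p.1.1 ∉ I.1 ∧ J = repl I p.1.1 p.1.2 then rsgn I p.1.1 p.1.2 else 0 : ℤ)) : F) := by
  rw [minor, det_eq_det3]
  have hent : (fun a b => (Matrix.transvection p.1.1 p.1.2 t).submatrix J.emb I.emb a b) =
      fun a b => ((dZ (fun a => J.emb a) (fun b => I.emb b) a b : ℤ) : F) +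
        t * ((eZ (fun a => J.emb a) (fun b => I.emb b) p.1.1 p.1.2 a b : ℤ) : F) := by
    funext a b
    exact entry p t J I a b
  rw [hent, det3_poly]
  have hJ := triple (fun a => J.emb a)
  have hI := triple (fun b => I.emb b)
  have hJm : J.emb 0 < J.emb 1 ∧ J.emb 1 < J.emb 2 :=
    ⟨J.emb.strictMono (by decide), J.emb.strictMono (by decide)⟩
  have hIm : I.emb 0 < I.emb 1 ∧ I.emb 1 < I.emb 2 :=
    ⟨I.emb.strictMono (by decide), I.emb.strictMono (by decide)⟩
  obtain ⟨c0, c1, c2, c3⟩ := core _ _ hJm.1 _ hJm.2 _ _ hIm.1 _ hIm.2 p.1.1 p.1.2 p.2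
  rw [← hJ, ← hI] at c0 c1 c2 c3
  rw [c0, c1, c2, c3, expB_eq]
  have hiff : (∀ a, (fun a => J.emb a) a = (fun b => I.emb b) a) ↔ J = I := (eq_iff J I).symm
  by_cases hJI : J = I
  · rw [if_pos (hiff.2 hJI), if_pos hJI]
    push_cast
    ring
  · rw [if_neg (fun h => hJI (hiff.1 h)), if_neg hJI]
    push_cast
    ring

theorem repl_ne (I : T3) (i j : Fin 6) (hc : j ∈ I.1 ∧ i ∉ I.1) : repl I i j ≠ I := by
  intro h
  have h1 : i ∈ (repl I i j).1 := by
    unfold repl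
    rw [dif_pos hc]
    exact Finset.mem_insert_self _ _
  rw [h] at h1
  exact hc.2 h1

/-- unit MTV -/
theorem Mm_transvection_single (p : IJ) (t : F) (I : T3) (a : F) :
    Mm (Matrix.transvection p.1.1 p.1.2 t) *ᵥ Pi.single I a =
      Pi.single I a + (if p.1.2 ∈ I.1 ∧ p.1.1 ∉ I.1 then
        Pi.single (repl I p.1.1 p.1.2) (((rsgn I p.1.1 p.1.2 : ℤ) : F) * t * a) else 0) := by
  funext J
  rw [Matrix.mulVec_single]
  have hM : Mm (Matrix.transvection p.1.1 p.1.2 t) J I =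
      minor (Matrix.transvection p.1.1 p.1.2 t) J I := rfl
  rw [Pi.smul_apply, Matrix.col_apply, MulOpposite.smul_eq_mul_unop, MulOpposite.unop_op,
    Pi.add_apply, hM, minor_transvection, Pi.single_apply]
  by_cases hc : p.1.2 ∈ I.1 ∧ p.1.1 ∉ I.1
  · rw [if_pos hc, Pi.single_apply]
    by_cases hJ : J = repl I p.1.1 p.1.2
    · have hne : J ≠ I := by
        rw [hJ]; exact repl_ne I p.1.1 p.1.2 hc
      have h3 : (p.1.2 ∈ I.1 ∧ p.1.1 ∉ I.1 ∧ J = repl I p.1.1 p.1.2) := ⟨hc.1, hc.2, hJ⟩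
      rw [if_neg hne, if_pos h3, if_neg hne, if_pos hJ]
      ring
    · have h3 : ¬ (p.1.2 ∈ I.1 ∧ p.1.1 ∉ I.1 ∧ J = repl I p.1.1 p.1.2) := fun h => hJ h.2.2
      rw [if_neg h3, if_neg hJ]
      by_cases hJI : J = I
      · rw [if_pos hJI, if_pos hJI]; push_cast; ring
      · rw [if_neg hJI, if_neg hJI]; push_cast; ring
  · have h3 : ¬ (p.1.2 ∈ I.1 ∧ p.1.1 ∉ I.1 ∧ J = repl I p.1.1 p.1.2) := fun h => hc ⟨h.1, h.2.1⟩
    rw [if_neg hc, if_neg h3]
    by_cases hJI : J = I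
    · rw [if_pos hJI, if_pos hJI, Pi.zero_apply]; push_cast; ring
    · rw [if_neg hJI, if_neg hJI, Pi.zero_apply]; push_cast; ring

end Cfsg.Agent.Lib.Helper4.E6MMTV
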