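import Mathlib
import Cfsg.Agent.Lib.Helper4.SLCenter

set_option autoImplicit false

namespace Cfsg.Agent.Lib.Helper4

open Matrix
open scoped LinearAlgebra.Projectivization

variable {F : Type*} [Field F] [Fintype F]

theorem card_proj_line : Nat.card (ℙ F (Fin 2 → F)) = Fintype.card F + 1 := by
  rw [Projectivization.card_of_finrank_two F (Fin 2 → F) (by simp), Nat.card_eq_fintype_card]

/-- an identification of the projective line with `Fin (q + 1)` -/
noncomputable def projLineEquiv : ℙ F (Fin 2 → F) ≃ Fin (Fintype.card F + 1) := by
  have : Finite (ℙ F (Fin 2 → F)) := Nat.finite_of_card_ne_zero (by rw [card_proj_line]; omega)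
  exact (Finite.equivFinOfCardEq card_proj_line)

/-- the permutation representation of `PSL₂(F)` on the `q + 1` points of the projective line -/
noncomputable def pslPerm : Matrix.ProjectiveSpecialLinearGroup (Fin 2) F →*
    Equiv.Perm (Fin (Fintype.card F + 1)) :=
  (projLineEquiv (F := F)).permCongrHom.toMonoidHom.comp
    (Projectivization.PSLAction.toPermHom (K := F) (ι := Fin 2))

theorem pslPerm_injective : Function.Injective (pslPerm (F := F)) := by
  intro a b hab
  exact Matrix.ProjectiveSpecialLinearGroup.toPermHom_injective
    ((projLineEquiv (F := F)).permCongrHom.injective hab)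

end Cfsg.Agent.Lib.Helper4
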