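import Mathlib
import Cfsg.Prelude.Def_ChevStructure
import Cfsg.Agent.Lib.Helper5.ChevXGL
import Cfsg.Agent.Lib.Helper5.ChevUOrd
import Cfsg.Agent.Lib.Helper5.ChevW0
import Cfsg.Agent.Lib.Helper5.ChevGen
import Cfsg.Agent.Lib.Helper5.ChevDiag
import Cfsg.Agent.Lib.Helper5.ChevBnB
import Cfsg.Agent.Lib.Helper5.ChevBruhat
import Cfsg.Agent.Lib.Helper5.ChevWCount

set_option autoImplicit false
set_option maxHeartbeats 4000000

/-!
# Farm F4CENT (S2179), unit CC : the cell constraint

If `n_w` conjugates a product of pairwise commuting positive root elements `∏_{s ∈ T} x_s(t_s)`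
to another product `∏_{s ∈ T} x_s(t'_s)` over the same set `T` (characteristic two), then `w`
maps the support of `t` into `T` and the support of `t'` comes from `T`.
-/

namespace Cfsg.Agent.Lib.Helper4.F4Cent

open Cfsg Cfsg.Lie Cfsg.Agent.Lib.Helper5.ChevSym Cfsg.Agent.Lib.Helper5.ChevStruct

variable {F : Type*} [Field F]

/-- `x_r(0) = 1` -/
theorem h4_xGL_zero (D : ChevalleyDatum) (hD : D ∈ Seven) (r : ℕ) :
    (xGL D hD r 0 : GL D.Idx F) = 1 := by
  apply Units.ext
  rw [xGL_val, Units.val_one, x_at_zero]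

/-- a product over a list in which the elements outside `p` contribute `1` -/
theorem h4_prod_filter {G : Type*} [Monoid G] (L : List ℕ) (p : ℕ → Prop) [DecidablePred p]
    (g : ℕ → G) (h : ∀ r ∈ L, ¬ p r → g r = 1) :
    (L.map g).prod = ((L.filter fun r => decide (p r)).map g).prod := by
  induction L with
  | nil => rfl
  | cons a L ih =>
    have ih' := ih (fun r hr => h r (List.mem_cons_of_mem _ hr))
    by_cases hp : p a
    · rw [List.filter_cons_of_pos (by simpa using hp), List.map_cons, List.map_cons,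
        List.prod_cons, List.prod_cons, ih']
    · rw [List.filter_cons_of_neg (by simpa using hp), List.map_cons, List.prod_cons,
        h a (List.mem_cons_self ..) hp, one_mul, ih']

/-- the canonical form of a product of pairwise commuting positive root elements -/
theorem h4_canon (D : ChevalleyDatum) (hD : D ∈ Seven) (R : List ℕ) (hnd : R.Nodup)
    (hpos : ∀ r ∈ R, D.IsPosRoot r)
    (hcomm : ∀ r ∈ R, ∀ r' ∈ R, ∀ a b : F, Commute (xGL D hD r a) (xGL D hD r' b))
    (c : ℕ → F) :
    (R.map fun r => xGL D hD r (c r)).prod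
      = wordGL D hD (D.posRoots.map fun r => (r, if r ∈ R then c r else 0)) := by
  classical
  unfold wordGL
  rw [List.map_map]
  have e1 : (D.posRoots.map ((fun p : ℕ × F => xGL D hD p.1 p.2) ∘
      fun r => (r, if r ∈ R then c r else 0))).prod
      = ((D.posRoots.filter fun r => decide (r ∈ R)).map fun r => xGL D hD r (c r)).prod := by
    rw [h4_prod_filter D.posRoots (fun r => r ∈ R)
      ((fun p : ℕ × F => xGL D hD p.1 p.2) ∘ fun r => (r, if r ∈ R then c r else 0))]
    · congr 1
      apply List.map_congr_left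
      intro r hr
      have hr' : r ∈ R := by simpa using (List.mem_filter.1 hr).2
      simp only [Function.comp, if_pos hr']
    · intro r _ hr
      simp only [Function.comp, if_neg hr]
      exact h4_xGL_zero D hD r
  rw [e1]
  have hperm : (D.posRoots.filter fun r => decide (r ∈ R)).Perm R := by
    apply (List.perm_ext_iff_of_nodup _ hnd).2
    · intro r
      rw [List.mem_filter]
      constructor
      · intro h; simpa using h.2
      · intro h
        refine ⟨?_, by simpa using h⟩
        rw [← posFrom_zero, mem_posFrom]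
        exact ⟨Nat.zero_le _, hpos r h⟩
    · apply List.Nodup.filter
      unfold ChevalleyDatum.posRoots
      exact List.Nodup.filter _ List.nodup_range
  have hpw : (R.map fun r => xGL D hD r (c r)).Pairwise Commute := by
    rw [List.pairwise_map]
    exact List.pairwise_of_forall_mem_list fun a ha b hb => hcomm a ha b hb _ _
  exact (List.Perm.prod_eq' (hperm.symm.map _) hpw)

/-- comparison of the coefficients of two products of commuting positive root elements -/
theorem h4_coeff (D : ChevalleyDatum) (hD : D ∈ Seven) (R R' : List ℕ) (hnd : R.Nodup)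
    (hnd' : R'.Nodup) (hpos : ∀ r ∈ R, D.IsPosRoot r) (hpos' : ∀ r ∈ R', D.IsPosRoot r)
    (hcomm : ∀ r ∈ R, ∀ r' ∈ R, ∀ a b : F, Commute (xGL D hD r a) (xGL D hD r' b))
    (hcomm' : ∀ r ∈ R', ∀ r' ∈ R', ∀ a b : F, Commute (xGL D hD r a) (xGL D hD r' b))
    (c c' : ℕ → F)
    (h : (R.map fun r => xGL D hD r (c r)).prod = (R'.map fun r => xGL D hD r (c' r)).prod)
    (r : ℕ) (hr : D.IsPosRoot r) :
    (if r ∈ R then c r else 0) = (if r ∈ R' then c' r else 0) := by
  classical
  rw [h4_canon D hD R hnd hpos hcomm c, h4_canon D hD R' hnd' hpos' hcomm' c'] at h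
  have h1 := congrArg (fun g : GL D.Idx F => (g : Matrix D.Idx D.Idx F)) h
  simp only [wordGL_val] at h1
  rw [← posFrom_zero] at h1
  exact upperSub_unique D hD D.nroots 0 (by omega) (fun r => if r ∈ R then c r else 0)
    (fun r => if r ∈ R' then c' r else 0) h1 r (by
      rw [mem_posFrom]; exact ⟨Nat.zero_le _, hr⟩)

variable [CharP F 2]

/-- in characteristic two `n_w x_r(a) n_w⁻¹ = x_{w r}(a)` -/
theorem h4_wGL_conj (D : ChevalleyDatum) (hD : D ∈ Seven) (wd : List ℕ) (hwd : Wd D wd) (r : ℕ)
    (hr : r < D.nroots) (a : F) :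
    wGL D hD wd * xGL D hD r a * (wGL D hD wd)⁻¹ = xGL D hD (wAct D wd r) a := by
  obtain ⟨ε, hε, h⟩ := wGL_conj (F := F) D hD wd hwd r hr
  have h1 := h a (xGL D hD r a) (xGL_val D hD r a)
  have hε1 : ε = 1 := by
    rcases hε with h | h
    · exact h
    · rw [h]
      have h2 : (2 : F) = 0 := CharTwo.two_eq_zero
      linear_combination (-1 : F) * h2
  rw [hε1, one_mul] at h1
  apply Units.ext
  rw [h1, xGL_val]

/-- conjugation of a product of root elements by `n_w` -/
theorem h4_conj_prod (D : ChevalleyDatum) (hD : D ∈ Seven) (wd : List ℕ) (hwd : Wd D wd)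
    (L : List ℕ) (hL : ∀ s ∈ L, s < D.nroots) (t : ℕ → F) :
    wGL D hD wd * (L.map fun s => xGL D hD s (t s)).prod * (wGL D hD wd)⁻¹
      = (L.map fun s => xGL D hD (wAct D wd s) (t s)).prod := by
  induction L with
  | nil => simp
  | cons a L ih =>
    have ih' := ih (fun s hs => hL s (List.mem_cons_of_mem _ hs))
    rw [List.map_cons, List.map_cons, List.prod_cons, List.prod_cons, ← ih',
      ← h4_wGL_conj D hD wd hwd a (hL a (List.mem_cons_self ..)) (t a)]
    group

/-- **Unit CC** (cell constraint) -/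
theorem cell_constraint (D : ChevalleyDatum) (hD : D ∈ Seven) (T : List ℕ) (hTnd : T.Nodup)
    (hTpos : ∀ s ∈ T, D.IsPosRoot s)
    (hcomm : ∀ s ∈ T, ∀ s' ∈ T, ∀ a b : F, Commute (xGL D hD s a) (xGL D hD s' b))
    (wd : List ℕ) (hwd : Wd D wd) (t t' : ℕ → F)
    (h : wGL D hD wd * (T.map fun s => xGL D hD s (t s)).prod * (wGL D hD wd)⁻¹
      = (T.map fun s => xGL D hD s (t' s)).prod) :
    (∀ s ∈ T, t s ≠ 0 → wAct D wd s ∈ T ∧ t' (wAct D wd s) = t s) ∧
    (∀ s ∈ T, t' s ≠ 0 → ∃ r ∈ T, wAct D wd r = s ∧ t r = t' s) := by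
  classical
  have hTlt : ∀ s ∈ T, s < D.nroots := fun s hs => (hTpos s hs).1
  -- the inverse of `w` on roots
  have hinv : ∀ s, s < D.nroots → wAct D wd.reverse (wAct D wd s) = s := by
    intro s hs
    have := wAct_reverse D hD wd.reverse hwd.reverse s hs
    rwa [List.reverse_reverse] at this
  -- conjugated root elements commute
  have hcommW : ∀ s ∈ T, ∀ s' ∈ T, ∀ a b : F,
      Commute (xGL D hD (wAct D wd s) a) (xGL D hD (wAct D wd s') b) := by
    intro s hs s' hs' a b
    rw [← h4_wGL_conj D hD wd hwd s (hTlt s hs) a, ← h4_wGL_conj D hD wd hwd s' (hTlt s' hs') b]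
    have := (hcomm s hs s' hs' a b).map (MulAut.conj (wGL D hD wd : GL D.Idx F))
    simpa [MulAut.conj_apply] using this
  set Tp : List ℕ := T.filter fun s => decide (D.IsPosRoot (wAct D wd s)) with hTp
  set Tn : List ℕ := T.filter fun s => !decide (D.IsPosRoot (wAct D wd s)) with hTn
  have hTpsub : ∀ s ∈ Tp, s ∈ T := fun s hs => (List.mem_filter.1 hs).1
  have hTnsub : ∀ s ∈ Tn, s ∈ T := fun s hs => (List.mem_filter.1 hs).1
  have hperm : (Tp ++ Tn).Perm T := List.filter_append_perm _ T
  -- `P = P⁺ P⁻`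
  have hP : (T.map fun s => xGL D hD (wAct D wd s) (t s)).prod
      = (Tp.map fun s => xGL D hD (wAct D wd s) (t s)).prod *
        (Tn.map fun s => xGL D hD (wAct D wd s) (t s)).prod := by
    rw [← List.prod_append, ← List.map_append]
    have hpw : (T.map fun s => xGL D hD (wAct D wd s) (t s)).Pairwise Commute := by
      rw [List.pairwise_map]
      exact List.pairwise_of_forall_mem_list fun a ha b hb => hcommW a ha b hb _ _
    exact List.Perm.prod_eq' (hperm.symm.map _) hpw
  have hconj := h4_conj_prod D hD wd hwd T hTlt t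
  rw [hconj, hP] at h
  -- `P⁺ ∈ U`, `y' ∈ U`, `P⁻ ∈ V`
  have hPp : (Tp.map fun s => xGL D hD (wAct D wd s) (t s)).prod ∈ D.posUnipotent F := by
    apply Subgroup.list_prod_mem
    intro g hg
    rw [List.mem_map] at hg
    obtain ⟨s, hs, rfl⟩ := hg
    have : D.IsPosRoot (wAct D wd s) := by simpa using (List.mem_filter.1 hs).2
    exact xGL_mem_pos D hD _ this _
  have hy' : (T.map fun s => xGL D hD s (t' s)).prod ∈ D.posUnipotent F := by
    apply Subgroup.list_prod_mem
    intro g hg
    rw [List.mem_map] at hg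
    obtain ⟨s, hs, rfl⟩ := hg
    exact xGL_mem_pos D hD _ (hTpos s hs) _
  have hPn : (Tn.map fun s => xGL D hD (wAct D wd s) (t s)).prod ∈ D.negUnipotent F := by
    apply Subgroup.list_prod_mem
    intro g hg
    rw [List.mem_map] at hg
    obtain ⟨s, hs, rfl⟩ := hg
    have hnp : ¬ D.IsPosRoot (wAct D wd s) := by simpa using (List.mem_filter.1 hs).2
    have hlt := wAct_lt D hD wd hwd s (hTlt s (hTnsub s hs))
    exact xGL_mem_neg D hD _ (isNegRoot_of_not_pos D hD _ hlt hnp) _
  have hPn1 : (Tn.map fun s => xGL D hD (wAct D wd s) (t s)).prod = 1 := by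
    have hU : (Tn.map fun s => xGL D hD (wAct D wd s) (t s)).prod ∈ D.posUnipotent F := by
      have e : (Tn.map fun s => xGL D hD (wAct D wd s) (t s)).prod
          = ((Tp.map fun s => xGL D hD (wAct D wd s) (t s)).prod)⁻¹ *
            (T.map fun s => xGL D hD s (t' s)).prod := by
        rw [← h]; group
      rw [e]
      exact mul_mem (inv_mem hPp) hy'
    have hmem : (Tn.map fun s => xGL D hD (wAct D wd s) (t s)).prod
        ∈ D.borelSubgroup F ⊓ D.negUnipotent F :=
      Subgroup.mem_inf.2 ⟨pos_le_borel D hU, hPn⟩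
    rw [borel_inf_neg D hD, Subgroup.mem_bot] at hmem
    exact hmem
  -- the coefficients on `Tn` vanish
  have hzero : ∀ s ∈ Tn, t s = 0 := by
    intro s hs
    have hX : (Tn.map fun s => xGL D hD s (t s)).prod = 1 := by
      have hc := h4_conj_prod D hD wd hwd Tn (fun s hs => hTlt s (hTnsub s hs)) t
      rw [hPn1] at hc
      have := congrArg (fun g => (wGL D hD wd : GL D.Idx F)⁻¹ * g * wGL D hD wd) hc
      simpa [mul_assoc] using this
    have hnil : (Tn.map fun s => xGL D hD s (t s)).prod
        = (([] : List ℕ).map fun s => xGL D hD s ((fun _ => (0 : F)) s)).prod := by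
      rw [hX]; rfl
    have := h4_coeff D hD Tn [] (hTnd.filter _) List.nodup_nil
      (fun r hr => hTpos r (hTnsub r hr)) (fun r hr => absurd hr (List.not_mem_nil))
      (fun r hr r' hr' a b => hcomm r (hTnsub r hr) r' (hTnsub r' hr') a b)
      (fun r hr => absurd hr (List.not_mem_nil)) t (fun _ => 0) hnil s (hTpos s (hTnsub s hs))
    simpa [hs] using this
  -- `P⁺ = y'`
  rw [hPn1, mul_one] at h
  set Rp : List ℕ := Tp.map (wAct D wd) with hRp
  have hRpnd : Rp.Nodup := by
    apply List.Nodup.map_on _ (hTnd.filter _)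
    intro a ha b hb hab
    exact wAct_injective D hD wd hwd a b (hTlt a (hTpsub a ha)) (hTlt b (hTpsub b hb)) hab
  have hRppos : ∀ r ∈ Rp, D.IsPosRoot r := by
    intro r hr
    rw [hRp, List.mem_map] at hr
    obtain ⟨s, hs, rfl⟩ := hr
    simpa using (List.mem_filter.1 hs).2
  have hRpcomm : ∀ r ∈ Rp, ∀ r' ∈ Rp, ∀ a b : F, Commute (xGL D hD r a) (xGL D hD r' b) := by
    intro r hr r' hr' a b
    rw [hRp, List.mem_map] at hr hr'
    obtain ⟨s, hs, rfl⟩ := hr
    obtain ⟨s', hs', rfl⟩ := hr'
    exact hcommW s (hTpsub s hs) s' (hTpsub s' hs') a b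
  have hPp' : (Tp.map fun s => xGL D hD (wAct D wd s) (t s)).prod
      = (Rp.map fun r => xGL D hD r (t (wAct D wd.reverse r))).prod := by
    rw [hRp, List.map_map]
    congr 1
    apply List.map_congr_left
    intro s hs
    simp only [Function.comp, hinv s (hTlt s (hTpsub s hs))]
  rw [hPp'] at h
  have hco := h4_coeff D hD Rp T hRpnd hTnd hRppos hTpos hRpcomm hcomm
    (fun r => t (wAct D wd.reverse r)) t' h
  constructor
  · intro s hs hts
    have hsTp : s ∈ Tp := by
      by_contra hcon
      have : s ∈ Tn := by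
        rw [hTn, List.mem_filter]
        refine ⟨hs, ?_⟩
        have : ¬ D.IsPosRoot (wAct D wd s) := by
          intro hp
          exact hcon (List.mem_filter.2 ⟨hs, by simpa using hp⟩)
        simpa using this
      exact hts (hzero s this)
    have hposs : D.IsPosRoot (wAct D wd s) := by simpa using (List.mem_filter.1 hsTp).2
    have hmemR : wAct D wd s ∈ Rp := List.mem_map.2 ⟨s, hsTp, rfl⟩
    have h1 := hco (wAct D wd s) hposs
    rw [if_pos hmemR, hinv s (hTlt s hs)] at h1
    by_cases hmT : wAct D wd s ∈ T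
    · rw [if_pos hmT] at h1
      exact ⟨hmT, h1.symm⟩
    · rw [if_neg hmT] at h1
      exact absurd h1 hts
  · intro s hs hts
    have h1 := hco s (hTpos s hs)
    rw [if_pos hs] at h1
    by_cases hmR : s ∈ Rp
    · rw [if_pos hmR] at h1
      rw [hRp, List.mem_map] at hmR
      obtain ⟨r, hr, hrs⟩ := hmR
      refine ⟨r, hTpsub r hr, hrs, ?_⟩
      rw [← hrs, hinv r (hTlt r (hTpsub r hr))] at h1
      rw [← hrs]
      exact h1
    · rw [if_neg hmR] at h1
      exact absurd h1.symm hts

end Cfsg.Agent.Lib.Helper4.F4Cent
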