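import Mathlib
import Cfsg.Agent.Lib.Helper4.BNAbstract

set_option autoImplicit false

/-!
A group generated by involutions satisfying the exchange property is a Coxeter group.
-/

namespace Cfsg.Agent.Lib.Helper4.BNCoxeter

open Cfsg.Agent.Lib.Helper4.BNAbstract

variable {W : Type*} [Group W] {ι : Type*}

/-- product of a word in the index set -/
def wp (f : ι → W) (ω : List ι) : W := (ω.map f).prod

lemma wp_nil (f : ι → W) : wp f [] = 1 := rfl

lemma wp_cons (f : ι → W) (i : ι) (ω : List ι) : wp f (i :: ω) = f i * wp f ω := by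
  simp [wp]

lemma wp_append (f : ι → W) (ω ω' : List ι) : wp f (ω ++ ω') = wp f ω * wp f ω' := by
  simp [wp]

lemma wp_singleton (f : ι → W) (i : ι) : wp f [i] = f i := by simp [wp]

/-- hypotheses: generating involutions with the exchange property -/
structure Hyp (f : ι → W) : Prop where
  inj : Function.Injective f
  gen : GenInv (Set.range f)
  exch : Exchange (Set.range f)
  ne_one : ∀ i, f i ≠ 1

variable {f : ι → W}

lemma Hyp.sq (h : Hyp f) (i : ι) : f i * f i = 1 := h.gen.sq _ ⟨i, rfl⟩

lemma Hyp.inv (h : Hyp f) (i : ι) : (f i)⁻¹ = f i := inv_eq_of_mul_eq_one_right (h.sq i)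

lemma isWord_map (f : ι → W) (ω : List ι) : IsWord (Set.range f) (ω.map f) := by
  intro x hx
  obtain ⟨i, _, rfl⟩ := List.mem_map.1 hx
  exact ⟨i, rfl⟩

lemma exists_map_eq {l : List W} (hl : IsWord (Set.range f) l) : ∃ ω : List ι, ω.map f = l := by
  induction l with
  | nil => exact ⟨[], rfl⟩
  | cons x l ih =>
    rw [isWord_cons] at hl
    obtain ⟨ω, hω⟩ := ih hl.2
    obtain ⟨i, rfl⟩ := hl.1
    exact ⟨i :: ω, by rw [List.map_cons, hω]⟩

/-- reduced index word -/
def RedI (f : ι → W) (ω : List ι) : Prop := IsRed (Set.range f) (ω.map f)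

/-- length function -/
noncomputable abbrev L (f : ι → W) (w : W) : ℕ := len (Set.range f) w

lemma redI_iff (h : Hyp f) {ω : List ι} : RedI f ω ↔ ω.length = L f (wp f ω) := by
  unfold RedI
  rw [isRed_iff h.gen, List.length_map]
  constructor
  · intro h1; exact h1.2
  · intro h1; exact ⟨isWord_map f ω, h1⟩

lemma exists_redI (h : Hyp f) (w : W) : ∃ ω, RedI f ω ∧ wp f ω = w := by
  obtain ⟨l, hl, hp⟩ := exists_red h.gen w
  obtain ⟨ω, rfl⟩ := exists_map_eq hl.1
  exact ⟨ω, hl, hp⟩

lemma L_le (ω : List ι) : L f (wp f ω) ≤ ω.length := by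
  have := len_le (isWord_map f ω)
  rwa [List.length_map] at this

lemma RedI.tail {i : ι} {ω : List ι} (h : RedI f (i :: ω)) : RedI f ω := by
  unfold RedI at h ⊢
  rw [List.map_cons] at h
  exact h.tail

lemma RedI.append_left {ω ω' : List ι} (h : RedI f (ω ++ ω')) : RedI f ω := by
  unfold RedI at h ⊢
  rw [List.map_append] at h
  exact h.append_left

/-- exchange in index form -/
lemma exch_idx (h : Hyp f) (i : ι) {ω : List ι} (hω : RedI f ω)
    (hlen : L f (f i * wp f ω) ≤ ω.length) :
    ∃ ω1 k ω2, ω = ω1 ++ k :: ω2 ∧ f i * wp f ω1 = wp f ω1 * f k := by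
  obtain ⟨l1, z, l2, hl, heq⟩ := h.exch (f i) ⟨i, rfl⟩ (ω.map f) hω (by rwa [List.length_map])
  rw [List.map_eq_append_iff] at hl
  obtain ⟨ω1, ω', rfl, rfl, h2⟩ := hl
  rw [List.map_eq_cons_iff] at h2
  obtain ⟨k, ω2, rfl, rfl, rfl⟩ := h2
  exact ⟨ω1, k, ω2, rfl, heq⟩

lemma orderOf_mul_comm' (a b : W) : orderOf (a * b) = orderOf (b * a) := by
  have := (MulAut.conj a⁻¹).orderOf_eq (a * b)
  rw [MulAut.conj_apply] at this
  rw [← this]
  congr 1
  group

/-- the Coxeter matrix -/
noncomputable def cm (h : Hyp f) : CoxeterMatrix ι where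
  M := Matrix.of fun i j => orderOf (f i * f j)
  isSymm := by
    ext i j
    simp only [Matrix.transpose_apply, Matrix.of_apply]
    exact orderOf_mul_comm' _ _
  diagonal := by
    intro i
    simp only [Matrix.of_apply]
    rw [h.sq i, orderOf_one]
  off_diagonal := by
    intro i j hij
    simp only [Matrix.of_apply]
    rw [Ne, orderOf_eq_one_iff]
    intro h1
    apply hij
    apply h.inj
    have : f i = (f j)⁻¹ := eq_inv_of_mul_eq_one_left h1
    rw [this, h.inv j]

lemma cm_apply (h : Hyp f) (i j : ι) : (cm h) i j = orderOf (f i * f j) := rfl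

lemma liftable (h : Hyp f) : (cm h).IsLiftable f := by
  intro i j
  rw [cm_apply]
  exact pow_orderOf_eq_one _

/-- product in the Coxeter group -/
noncomputable abbrev ψ (h : Hyp f) (ω : List ι) : (cm h).Group := (cm h).toCoxeterSystem.wordProd ω

/-- closed form of alternating products -/
lemma wp_alternatingWord (h : Hyp f) (i i' : ι) (m : ℕ) :
    wp f (CoxeterSystem.alternatingWord i i' m) =
      (if Even m then 1 else f i') * (f i * f i') ^ (m / 2) := by
  induction m with
  | zero => simp [CoxeterSystem.alternatingWord, wp]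
  | succ m ih =>
    rw [CoxeterSystem.alternatingWord_succ', wp_cons, ih]
    by_cases hm : Even m
    · have h₁ : ¬ Even (m + 1) := by simp [hm, parity_simps]
      have h₂ : (m + 1) / 2 = m / 2 := Nat.succ_div_of_not_dvd <| by rwa [← even_iff_two_dvd]
      simp [hm, h₁, h₂]
    · have h₁ : Even (m + 1) := by simp [hm, parity_simps]
      have h₂ : (m + 1) / 2 = m / 2 + 1 := Nat.succ_div_of_dvd h₁.two_dvd
      simp [hm, h₁, h₂, ← pow_succ', ← mul_assoc]

lemma alt_pow_eq_one (h : Hyp f) {a b : ι} {q : ℕ}
    (heq : wp f (CoxeterSystem.alternatingWord a b q) = wp f (CoxeterSystem.alternatingWord b a q)) :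
    (f a * f b) ^ q = 1 := by
  rw [wp_alternatingWord h, wp_alternatingWord h] at heq
  set x := f a with hx
  set y := f b with hy
  have hxx : x * x = 1 := h.sq a
  have hyy : y * y = 1 := h.sq b
  have hinv : (y * x) = (x * y)⁻¹ := by
    rw [mul_inv_rev, h.inv a, h.inv b]
  rcases Nat.even_or_odd' q with ⟨r, hr | hr⟩
  · have he : Even q := ⟨r, by omega⟩
    rw [if_pos he, if_pos he, one_mul, one_mul, hinv, inv_pow] at heq
    have hq2 : q / 2 = r := by omega
    rw [hq2] at heq
    rw [hr, pow_mul']
    rw [pow_two]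
    nth_rewrite 2 [heq]
    rw [mul_inv_cancel]
  · have he : ¬ Even q := by
      rw [Nat.not_even_iff_odd]; exact ⟨r, hr⟩
    rw [if_neg he, if_neg he] at heq
    have hq2 : q / 2 = r := by omega
    rw [hq2] at heq
    -- heq : y * (x y)^r = x * (y x)^r
    have h1 : ∀ r : ℕ, x * (y * x) ^ r = (x * y) ^ r * x := by
      intro r
      induction r with
      | zero => simp
      | succ r ih =>
        rw [pow_succ, ← mul_assoc, ih, pow_succ]
        simp only [mul_assoc]
    rw [h1 r] at heq
    have h2 : ((x * y) ^ r * x) * ((x * y) ^ r * x) = 1 := by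
      calc (x * y) ^ r * x * ((x * y) ^ r * x) = (x * y) ^ r * x * (x * (y * x) ^ r) := by rw [h1 r]
        _ = (x * y) ^ r * ((x * x) * (y * x) ^ r) := by simp only [mul_assoc]
        _ = 1 := by rw [hxx, one_mul, hinv, inv_pow, mul_inv_cancel]
    rw [hr, pow_succ, pow_mul', pow_two]
    have hcomm : (x * y) ^ r * (x * y) = (x * y) * (x * y) ^ r := by
      rw [← pow_succ, ← pow_succ']
    calc (x * y) ^ r * (x * y) ^ r * (x * y) = ((x * y) ^ r * x) * (y * (x * y) ^ r) := by
          rw [mul_assoc, hcomm]; simp only [mul_assoc]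
      _ = 1 := by rw [heq, h2]

lemma alt_length_eq (h : Hyp f) {a b : ι} (hab : a ≠ b) {q : ℕ} (hq : 1 ≤ q)
    (hred : RedI f (CoxeterSystem.alternatingWord a b q))
    (heq : wp f (CoxeterSystem.alternatingWord a b q) = wp f (CoxeterSystem.alternatingWord b a q)) :
    q = (cm h) a b := by
  rw [cm_apply]
  have hpow := alt_pow_eq_one h heq
  set m := orderOf (f a * f b) with hm
  have hdvd : m ∣ q := orderOf_dvd_of_pow_eq_one hpow
  have hm0 : m ≠ 0 := by
    intro h0
    rw [h0, zero_dvd_iff] at hdvd
    omega
  -- q < 2 m by reducedness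
  have hlt : q < 2 * m := by
    by_contra hge
    push Not at hge
    have hlen := (redI_iff h).1 hred
    rw [CoxeterSystem.length_alternatingWord] at hlen
    have h1 : wp f (CoxeterSystem.alternatingWord a b q)
        = wp f (CoxeterSystem.alternatingWord a b (q - 2 * m)) := by
      rw [wp_alternatingWord h, wp_alternatingWord h]
      have he : Even (q - 2 * m) ↔ Even q := by
        rw [Nat.even_sub hge]
        simp
      have h2 : q / 2 = (q - 2 * m) / 2 + m := by omega
      rw [h2, pow_add, pow_orderOf_eq_one, mul_one]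
      by_cases hq : Even q
      · rw [if_pos hq, if_pos (he.2 hq)]
      · rw [if_neg hq, if_neg (fun h => hq (he.1 h))]
    have h3 := L_le (f := f) (CoxeterSystem.alternatingWord a b (q - 2 * m))
    rw [← h1, ← hlen, CoxeterSystem.length_alternatingWord] at h3
    omega
  obtain ⟨c, hc⟩ := hdvd
  have : c = 1 := by
    rcases c with _ | _ | c
    · omega
    · rfl
    · exfalso
      have : m * (c + 1 + 1) ≥ 2 * m := by nlinarith
      omega
  rw [hc, this, mul_one]

section Main

/-- words of the same length with the same product, the first reduced: the second is reduced -/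
lemma redI_of_length_eq (h : Hyp f) {ω ω' : List ι} (hω : RedI f ω) (hlen : ω'.length = ω.length)
    (hp : wp f ω' = wp f ω) : RedI f ω' := by
  rw [redI_iff h] at hω ⊢
  rw [hlen, hp]; exact hω

/-- the key statement: reduced words of the same element have the same image -/
theorem psi_eq_of_red (h : Hyp f) : ∀ q : ℕ, ∀ ω ω' : List ι, ω.length = q → RedI f ω → RedI f ω' →
    wp f ω = wp f ω' → ψ h ω = ψ h ω' := by
  intro q
  induction q using Nat.strong_induction_on with
  | _ q IH =>
    intro ω ω' hlen hred hred' hp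
    have hlen' : ω'.length = q := by
      rw [(redI_iff h).1 hred', ← hp, ← (redI_iff h).1 hred, hlen]
    by_contra hne
    set w := wp f ω with hw
    -- membership in D
    let InD : List ι → Prop := fun τ => τ.length = q ∧ wp f τ = w
    have hInD_red : ∀ τ, InD τ → RedI f τ := fun τ hτ =>
      redI_of_length_eq h hred (by rw [hτ.1, hlen]) hτ.2
    -- (A) same head
    have hA : ∀ i τ τ', InD (i :: τ) → InD (i :: τ') → ψ h (i :: τ) = ψ h (i :: τ') := by
      intro i τ τ' h1 h2
      have e : ψ h τ = ψ h τ' := by
        apply IH (q - 1) _ τ τ' _ (hInD_red _ h1).tail (hInD_red _ h2).tail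
        · have := h1.2.trans h2.2.symm
          rw [wp_cons, wp_cons] at this
          exact mul_left_cancel this
        · have := h1.1; simp only [List.length_cons] at this; omega
        · have := h1.1; simp only [List.length_cons] at this; omega
      show (cm h).toCoxeterSystem.wordProd (i :: τ) = (cm h).toCoxeterSystem.wordProd (i :: τ')
      rw [CoxeterSystem.wordProd_cons, CoxeterSystem.wordProd_cons]
      exact congrArg _ e
    -- (A') same last
    have hA' : ∀ i τ τ', InD (τ ++ [i]) → InD (τ' ++ [i]) → ψ h (τ ++ [i]) = ψ h (τ' ++ [i]) := by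
      intro i τ τ' h1 h2
      have e : ψ h τ = ψ h τ' := by
        apply IH (q - 1) _ τ τ' _ (hInD_red _ h1).append_left (hInD_red _ h2).append_left
        · have := h1.2.trans h2.2.symm
          rw [wp_append, wp_append] at this
          exact mul_right_cancel this
        · have := h1.1; simp only [List.length_append, List.length_cons, List.length_nil] at this; omega
        · have := h1.1; simp only [List.length_append, List.length_cons, List.length_nil] at this; omega
      show (cm h).toCoxeterSystem.wordProd (τ ++ [i]) = (cm h).toCoxeterSystem.wordProd (τ' ++ [i])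
      rw [CoxeterSystem.wordProd_append, CoxeterSystem.wordProd_append]
      exact congrArg (· * _) e
    -- (K)
    have hK : ∀ (σ : List ι) (j : ι) (τ' : List ι), InD σ → InD (j :: τ') → ψ h σ ≠ ψ h (j :: τ') →
        ∃ τ k, σ = τ ++ [k] ∧ InD (j :: τ) ∧ ψ h (j :: τ) = ψ h (j :: τ') := by
      intro σ j τ' hσ hjτ' hneq
      have hτ'len : τ'.length = q - 1 := by
        have := hjτ'.1; simp only [List.length_cons] at this; omega
      have hq1 : 1 ≤ q := by
        have := hjτ'.1; simp only [List.length_cons] at this; omega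
      have hlenle : L f (f j * wp f σ) ≤ σ.length := by
        rw [hσ.2, ← hjτ'.2, wp_cons, ← mul_assoc, h.sq j, one_mul, hσ.1]
        have := L_le (f := f) τ'
        omega
      obtain ⟨σ1, k, σ2, hsplit, hex⟩ := exch_idx h j (hInD_red σ hσ) hlenle
      have hu : InD (j :: (σ1 ++ σ2)) := by
        constructor
        · have := hσ.1
          rw [hsplit] at this
          simp only [List.length_append, List.length_cons] at this ⊢
          omega
        · rw [wp_cons, wp_append, ← mul_assoc, hex, ← hσ.2, hsplit, wp_append, wp_cons]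
          group
      have hψu : ψ h (j :: (σ1 ++ σ2)) = ψ h (j :: τ') := hA j _ _ hu hjτ'
      rcases List.eq_nil_or_concat σ2 with h2 | ⟨σ3, c, h2⟩
      · subst h2
        refine ⟨σ1, k, hsplit, ?_, ?_⟩
        · simpa using hu
        · simpa using hψu
      · exfalso
        rw [List.concat_eq_append] at h2
        subst h2
        apply hneq
        rw [← hψu]
        have e1 : σ = (σ1 ++ k :: σ3) ++ [c] := by rw [hsplit]; simp
        have e2 : j :: (σ1 ++ (σ3 ++ [c])) = (j :: (σ1 ++ σ3)) ++ [c] := by simp
        rw [e1, e2]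
        apply hA'
        · rw [← e1]; exact hσ
        · rw [← e2]; exact hu
    -- the two words
    have hq1 : 1 ≤ q := by
      rcases Nat.eq_zero_or_pos q with h0 | h0
      · exfalso
        rw [h0, List.length_eq_zero_iff] at hlen hlen'
        apply hne; rw [hlen, hlen']
      · exact h0
    obtain ⟨a, ρ0, rfl⟩ : ∃ a ρ0, ω = a :: ρ0 := by
      cases ω with
      | nil => simp at hlen; omega
      | cons a ρ0 => exact ⟨a, ρ0, rfl⟩
    obtain ⟨b, τ0, rfl⟩ : ∃ b τ0, ω' = b :: τ0 := by
      cases ω' with
      | nil => simp at hlen'; omega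
      | cons b τ0 => exact ⟨b, τ0, rfl⟩
    have hωD : InD (a :: ρ0) := ⟨hlen, rfl⟩
    have hω'D : InD (b :: τ0) := ⟨hlen', hp.symm⟩
    have hab : a ≠ b := by
      intro hab
      subst hab
      exact hne (hA a _ _ hωD hω'D)
    -- the iteration
    have hR : ∀ n : ℕ, ∀ (ρ : List ι) (c : ι) (σ' : List ι), a :: ρ0 = ρ ++ c :: σ' → σ'.length = n →
        InD (CoxeterSystem.alternatingWord a b (n + 1) ++ ρ) ∧
        InD (CoxeterSystem.alternatingWord a b n ++ (ρ ++ [c])) ∧
        ψ h (CoxeterSystem.alternatingWord a b (n + 1) ++ ρ) ≠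
          ψ h (CoxeterSystem.alternatingWord a b n ++ (ρ ++ [c])) := by
      intro n
      induction n with
      | zero =>
        intro ρ c σ' hsplit hσ'
        rw [List.length_eq_zero_iff] at hσ'
        subst hσ'
        have halt1 : CoxeterSystem.alternatingWord a b 1 = [b] := by
          simp [CoxeterSystem.alternatingWord]
        have halt0 : CoxeterSystem.alternatingWord a b 0 = [] := rfl
        rw [halt1, halt0, List.nil_append, ← hsplit]
        obtain ⟨τ, k, hτk, hD, hψ⟩ := hK (a :: ρ0) b τ0 hωD hω'D hne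
        have := List.append_inj' (hsplit.symm.trans hτk) rfl
        obtain ⟨h1, h2⟩ := this
        subst h1
        refine ⟨hD, hωD, ?_⟩
        show ψ h (b :: ρ) ≠ _
        rw [hψ]
        exact fun h3 => hne h3.symm
      | succ n ih =>
        intro ρ c σ' hsplit hσ'
        obtain ⟨c', σ'', rfl⟩ : ∃ c' σ'', σ' = c' :: σ'' := by
          cases σ' with
          | nil => simp at hσ'
          | cons c' σ'' => exact ⟨c', σ'', rfl⟩
        have hσ'' : σ''.length = n := by simpa using hσ'
        have hsplit' : a :: ρ0 = (ρ ++ [c]) ++ c' :: σ'' := by rw [hsplit]; simp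
        obtain ⟨hX', hY', hXY'⟩ := ih (ρ ++ [c]) c' σ'' hsplit' hσ''
        -- head of Y'
        set j : ι := if Even (n + 1) then b else a with hj
        have hY'head : ∃ τ', CoxeterSystem.alternatingWord a b n ++ (ρ ++ [c] ++ [c']) = j :: τ' := by
          rcases Nat.eq_zero_or_pos n with h0 | h0
          · subst h0
            have halt0 : CoxeterSystem.alternatingWord a b 0 = [] := rfl
            rw [halt0, List.nil_append]
            have hj' : j = a := by simp [hj]
            rw [hj']
            cases ρ with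
            | nil =>
              simp only [List.nil_append, List.cons.injEq] at hsplit
              rw [hsplit.1]
              exact ⟨[c'], rfl⟩
            | cons r ρ' =>
              simp only [List.cons_append, List.cons.injEq] at hsplit
              rw [hsplit.1]
              exact ⟨ρ' ++ [c] ++ [c'], by simp⟩
          · obtain ⟨n', rfl⟩ : ∃ n', n = n' + 1 := ⟨n - 1, by omega⟩
            rw [CoxeterSystem.alternatingWord_succ']
            have hj' : j = if Even n' then b else a := by
              rw [hj]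
              have : Even (n' + 1 + 1) ↔ Even n' := by
                rw [Nat.even_add_one, Nat.even_add_one, not_not]
              simp only [this]
            rw [hj']
            exact ⟨_, rfl⟩
        obtain ⟨τ', hτ'⟩ := hY'head
        rw [hτ'] at hY' hXY'
        obtain ⟨τ, k, hτk, hD, hψ⟩ := hK _ j τ' hX' hY' hXY'
        have hτk' : (CoxeterSystem.alternatingWord a b (n + 1) ++ ρ) ++ [c] = τ ++ [k] := by
          rw [← hτk]; simp
        obtain ⟨h1, h2⟩ := List.append_inj' hτk' rfl
        subst h1
        have halt : CoxeterSystem.alternatingWord a b (n + 1 + 1) ++ ρ =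
            j :: (CoxeterSystem.alternatingWord a b (n + 1) ++ ρ) := by
          rw [CoxeterSystem.alternatingWord_succ' a b (n + 1)]
          rfl
        rw [halt]
        refine ⟨hD, hX', ?_⟩
        rw [hψ]
        exact fun h3 => hXY' h3.symm
    obtain ⟨hX, hY, hXY⟩ := hR (q - 1) [] a ρ0 rfl (by simp at hlen; omega)
    have hq' : q - 1 + 1 = q := by omega
    rw [hq', List.append_nil] at hX hXY
    have hYeq : CoxeterSystem.alternatingWord a b (q - 1) ++ ([] ++ [a]) =
        CoxeterSystem.alternatingWord b a q := by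
      conv_rhs => rw [← hq', CoxeterSystem.alternatingWord_succ]
      simp
    rw [hYeq] at hY hXY
    have hqM : q = (cm h) a b :=
      alt_length_eq h hab hq1 (hInD_red _ hX) (hX.2.trans hY.2.symm)
    apply hXY
    have := (cm h).toCoxeterSystem.wordProd_braidWord_eq a b
    unfold CoxeterSystem.braidWord at this
    rw [(cm h).symmetric b a, ← hqM] at this
    exact this

/-- the map `W → Γ` given by reduced words -/
noncomputable def gmap (h : Hyp f) (w : W) : (cm h).Group := ψ h (exists_redI h w).choose

lemma gmap_eq (h : Hyp f) {ω : List ι} (hω : RedI f ω) : gmap h (wp f ω) = ψ h ω := by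
  have hs := (exists_redI h (wp f ω)).choose_spec
  exact psi_eq_of_red h _ _ _ rfl hs.1 hω hs.2

lemma simple_sq (h : Hyp f) (i : ι) :
    (cm h).toCoxeterSystem.simple i * (cm h).toCoxeterSystem.simple i = 1 :=
  (cm h).toCoxeterSystem.simple_mul_simple_self i

lemma gmap_mul (h : Hyp f) (i : ι) (w : W) :
    gmap h (f i * w) = (cm h).toCoxeterSystem.simple i * gmap h w := by
  obtain ⟨ω, hω, rfl⟩ := exists_redI h w
  rcases h.exch.len_cases h.gen ⟨i, rfl⟩ (wp f ω) with hl | hl
  · have hred : RedI f (i :: ω) := by
      rw [redI_iff h, wp_cons, List.length_cons, (redI_iff h).1 hω]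
      exact hl.symm
    rw [← wp_cons, gmap_eq h hred, gmap_eq h hω]
    exact CoxeterSystem.wordProd_cons _ i ω
  · obtain ⟨ω', hω', hp'⟩ := exists_redI h (f i * wp f ω)
    have hwp : wp f (i :: ω') = wp f ω := by
      rw [wp_cons, hp', ← mul_assoc, h.sq i, one_mul]
    have hred : RedI f (i :: ω') := by
      rw [redI_iff h, hwp, List.length_cons, (redI_iff h).1 hω', hp']
      exact hl
    have hg' : gmap h (f i * wp f ω) = ψ h ω' := by
      rw [← hp']; exact gmap_eq h hω'
    have hg : gmap h (wp f ω) = ψ h (i :: ω') := by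
      rw [← hwp]; exact gmap_eq h hred
    have h1 : gmap h (wp f ω) = (cm h).toCoxeterSystem.simple i * gmap h (f i * wp f ω) := by
      rw [hg, hg']
      exact CoxeterSystem.wordProd_cons _ i ω'
    rw [h1, ← mul_assoc, simple_sq h i, one_mul]

lemma gmap_wp (h : Hyp f) (ω : List ι) : gmap h (wp f ω) = ψ h ω := by
  induction ω with
  | nil =>
    apply gmap_eq h
    rw [redI_iff h, wp_nil]
    simp [len_one]
  | cons i ω ih =>
    rw [wp_cons, gmap_mul, ih]
    exact (CoxeterSystem.wordProd_cons _ i ω).symm

/-- the canonical homomorphism from the Coxeter group -/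
noncomputable def Φ (h : Hyp f) : (cm h).Group →* W := (cm h).toCoxeterSystem.lift ⟨f, liftable h⟩

lemma Φ_simple (h : Hyp f) (i : ι) : Φ h ((cm h).toCoxeterSystem.simple i) = f i :=
  CoxeterSystem.lift_apply_simple _ (liftable h) i

lemma Φ_ψ (h : Hyp f) (ω : List ι) : Φ h (ψ h ω) = wp f ω := by
  induction ω with
  | nil => simp [wp_nil]
  | cons i ω ih =>
    show Φ h ((cm h).toCoxeterSystem.wordProd (i :: ω)) = _
    rw [CoxeterSystem.wordProd_cons, map_mul, Φ_simple, wp_cons]
    exact congrArg _ ih

lemma Φ_bijective (h : Hyp f) : Function.Bijective (Φ h) := by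
  constructor
  · rw [injective_iff_map_eq_one]
    intro γ hγ
    obtain ⟨ω, rfl⟩ := (cm h).toCoxeterSystem.wordProd_surjective γ
    have h1 : wp f ω = 1 := by rw [← Φ_ψ h ω]; exact hγ
    have h2 := gmap_wp h ω
    rw [h1] at h2
    have h3 := gmap_wp h ([] : List ι)
    rw [wp_nil] at h3
    show ψ h ω = 1
    rw [← h2, h3]
    simp
  · intro w
    obtain ⟨ω, _, rfl⟩ := exists_redI h w
    exact ⟨ψ h ω, Φ_ψ h ω⟩

/-- a group generated by involutions with the exchange property is a Coxeter group -/
theorem coxeter_of_exchange (h : Hyp f) :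
    ∃ (M : CoxeterMatrix ι) (cs : CoxeterSystem M W), ∀ i, cs.simple i = f i := by
  let e : (cm h).Group ≃* W := MulEquiv.ofBijective (Φ h) (Φ_bijective h)
  refine ⟨cm h, ⟨e.symm⟩, ?_⟩
  intro i
  show e.symm.symm (PresentedGroup.of i) = f i
  rw [MulEquiv.symm_symm]
  exact Φ_simple h i

end Main

end Cfsg.Agent.Lib.Helper4.BNCoxeter
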