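import Mathlib
import Cfsg.Agent.Lib.Helper1.F4Cent.Defs

set_option autoImplicit false
set_option maxHeartbeats 4000000

/-!
# Farm F4CENT (S2179), unit SH : the shapes of the right hand sides
-/

namespace Cfsg.Agent.Lib.Helper4.F4Cent

open Cfsg Cfsg.Lie Cfsg.Agent.Lib.Helper5.ChevSym Cfsg.Agent.Lib.Helper5.ChevStruct
  Cfsg.Agent.Lib.Helper5.F4T Cfsg.Agent.Lib.Helper1.F4Cent

variable {F : Type*} [Field F]

/-- a root subgroup lies in `rootSetSub` of a set containing the root -/
theorem h4_rootSubgroup_le (D : ChevalleyDatum) (S : Set ℕ) (r : ℕ) (hr : r ∈ S) :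
    D.rootSubgroup F r ≤ rootSetSub D F S := by
  unfold ChevalleyDatum.rootSubgroup rootSetSub
  apply Subgroup.closure_mono
  rintro g ⟨t, hg⟩
  exact ⟨r, t, hr, hg⟩

/-- Unit SH, first shape -/
theorem SH_I : chevF4.posUnipotent F ⊔ chevF4.rootSubgroup F 20 ⊔ chevF4.rootSubgroup F 22
    = RI F := by
  apply le_antisymm
  · refine sup_le (sup_le ?_ ?_) ?_
    · unfold ChevalleyDatum.posUnipotent RI rootSetSub
      apply Subgroup.closure_mono
      rintro g ⟨r, t, hr, hg⟩
      exact ⟨r, t, Or.inl hr, hg⟩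
    · exact h4_rootSubgroup_le chevF4 rootsI 20 (Or.inr (by simp))
    · exact h4_rootSubgroup_le chevF4 rootsI 22 (Or.inr (by simp))
  · unfold RI rootSetSub
    rw [Subgroup.closure_le]
    rintro g ⟨s, t, hs, hg⟩
    rcases hs with hs | hs
    · exact Subgroup.mem_sup_left (Subgroup.mem_sup_left
        (Subgroup.subset_closure ⟨s, t, hs, hg⟩))
    · simp only [List.mem_cons, List.not_mem_nil, or_false] at hs
      rcases hs with rfl | rfl
      · exact Subgroup.mem_sup_left (Subgroup.mem_sup_right (Subgroup.subset_closure ⟨t, hg⟩))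
      · exact Subgroup.mem_sup_right (Subgroup.subset_closure ⟨t, hg⟩)

/-- Unit SH, second shape -/
theorem SH_II : chevF4.rootSubgroup F 33 ⊔ chevF4.rootSubgroup F 14 ⊔ chevF4.rootSubgroup F 24 ⊔
    chevF4.rootSubgroup F 23 ⊔ Subgroup.closure {g : GL chevF4.Idx F | ∃ (r : ℕ) (c : F),
      chevF4.IsPosRoot r ∧ r ∉ [27, 25, 34, 26] ∧
      (g : Matrix chevF4.Idx chevF4.Idx F) = chevF4.x F r c} = RII F := by
  apply le_antisymm
  · refine sup_le (sup_le (sup_le (sup_le ?_ ?_) ?_) ?_) ?_
    · exact h4_rootSubgroup_le chevF4 rootsII 33 (Or.inl (by simp))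
    · exact h4_rootSubgroup_le chevF4 rootsII 14 (Or.inl (by simp))
    · exact h4_rootSubgroup_le chevF4 rootsII 24 (Or.inl (by simp))
    · exact h4_rootSubgroup_le chevF4 rootsII 23 (Or.inl (by simp))
    · unfold RII rootSetSub
      apply Subgroup.closure_mono
      rintro g ⟨r, c, hr, hr2, hg⟩
      exact ⟨r, c, Or.inr ⟨hr, hr2⟩, hg⟩
  · unfold RII rootSetSub
    rw [Subgroup.closure_le]
    rintro g ⟨s, t, hs, hg⟩
    rcases hs with hs | hs
    · simp only [List.mem_cons, List.not_mem_nil, or_false] at hs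
      rcases hs with rfl | rfl | rfl | rfl
      · exact Subgroup.mem_sup_left (Subgroup.mem_sup_left (Subgroup.mem_sup_left
          (Subgroup.mem_sup_left (Subgroup.subset_closure ⟨t, hg⟩))))
      · exact Subgroup.mem_sup_left (Subgroup.mem_sup_left (Subgroup.mem_sup_left
          (Subgroup.mem_sup_right (Subgroup.subset_closure ⟨t, hg⟩))))
      · exact Subgroup.mem_sup_left (Subgroup.mem_sup_left
          (Subgroup.mem_sup_right (Subgroup.subset_closure ⟨t, hg⟩)))
      · exact Subgroup.mem_sup_left (Subgroup.mem_sup_right (Subgroup.subset_closure ⟨t, hg⟩))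
    · exact Subgroup.mem_sup_right (Subgroup.subset_closure ⟨s, t, hs.1, hs.2, hg⟩)

end Cfsg.Agent.Lib.Helper4.F4Cent
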