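import Mathlib
import Cfsg.Agent.Lib.Helper1.F4Cent.Defs
import Cfsg.Agent.Lib.Helper5.RootCent.Main
import Cfsg.Agent.Lib.Helper5.ChevTorusAct
import Cfsg.Agent.Lib.Helper5.ChevTorusX
import Cfsg.Agent.Lib.Helper4.F4CentCC

set_option autoImplicit false
set_option maxHeartbeats 4000000

/-!
# Farm F4CENT (S2179), unit TOR : the torus parts of the two centralizers
-/

namespace Cfsg.Agent.Lib.Helper4.F4Cent

open Cfsg Cfsg.Lie Cfsg.Agent.Lib.Helper5.ChevSym Cfsg.Agent.Lib.Helper5.ChevStruct
  Cfsg.Agent.Lib.Helper5.F4T Cfsg.Agent.Lib.Helper1.F4Cent Cfsg.Agent.Lib.Helper5.RootCent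

variable {F : Type*} [Field F]

theorem h4_rank_F4 : chevF4.rank = 4 := rfl

/-- Unit TOR: a diagonal element all of whose coordinates outside `J` are `1` lies in the
subgroup generated by the root subgroups `X_{± p_j}`, `j ∈ J` -/
theorem TOR_mem (J : List ℕ) (S : Set ℕ)
    (hS : ∀ j ∈ J, chevF4.simple j ∈ S ∧ chevF4.neg (chevF4.simple j) ∈ S)
    (c : ℕ → F) (hc : ∀ i, c i ≠ 0) (h1 : ∀ i < 4, i ∉ J → c i = 1)
    (h : GL chevF4.Idx F)
    (hval : (h : Matrix chevF4.Idx chevF4.Idx F) = torusMat chevF4 c) :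
    h ∈ rootSetSub chevF4 F S := by
  have key : ∀ k ≤ chevF4.rank, ∀ g : GL chevF4.Idx F,
      (g : Matrix chevF4.Idx chevF4.Idx F) = torusMat chevF4 (fun i => if i < k then c i else 1) →
      g ∈ rootSetSub chevF4 F S := by
    intro k
    induction k with
    | zero =>
      intro _ g hg
      have : g = 1 := by
        apply Units.ext
        rw [hg, Units.val_one]
        simp only [Nat.not_lt_zero, if_false]
        exact torusMat_one chevF4
      rw [this]
      exact one_mem _
    | succ k ih =>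
      intro hk g hg
      have hk' : k < chevF4.rank := hk
      have hk4 : k < 4 := hk'
      by_cases ek : k ∈ J
      · set g₁ : GL chevF4.Idx F := wordGL chevF4 hF4 (chevF4.hWord (chevF4.simple k) (c k))
          with hg₁
        have hg₁v : (g₁ : Matrix chevF4.Idx chevF4.Idx F)
            = chevF4.hMat F (chevF4.simple k) (c k) := by
          rw [hg₁, wordGL_val]; rfl
        obtain ⟨hpos, hneg⟩ := hS k ek
        have hg₁m : g₁ ∈ rootSetSub chevF4 F S := by
          apply wordGL_mem_rootSetSub chevF4 hF4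
          intro q hq
          unfold ChevalleyDatum.hWord ChevalleyDatum.nWord at hq
          simp only [List.cons_append, List.nil_append, List.mem_cons, List.not_mem_nil,
            or_false] at hq
          rcases hq with rfl | rfl | rfl | rfl | rfl | rfl
          · exact hpos
          · exact hneg
          · exact hpos
          · exact hpos
          · exact hneg
          · exact hpos
        have hsplit : torusMat chevF4 (fun i => if i < k + 1 then c i else 1)
            = torusMat chevF4 (fun i => if i < k then c i else 1) *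
              chevF4.hMat F (chevF4.simple k) (c k) := by
          rw [hMat_simple_eq_torusMat chevF4 hF4 k hk' (c k) (hc k), torusMat_mul]
          congr 1
          funext i
          by_cases h1 : i < k
          · have h2 : i < k + 1 := by omega
            have h3 : ¬ i = k := by omega
            rw [if_pos h1, if_pos h2, if_neg h3, mul_one]
          · by_cases h3 : i = k
            · have h2 : i < k + 1 := by omega
              rw [if_neg h1, if_pos h2, if_pos h3, one_mul, h3]
            · have h2 : ¬ i < k + 1 := by omega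
              rw [if_neg h1, if_neg h2, if_neg h3, one_mul]
        have h0 : ((g * g₁⁻¹ : GL chevF4.Idx F) : Matrix chevF4.Idx chevF4.Idx F)
            = torusMat chevF4 (fun i => if i < k then c i else 1) := by
          have e1 : ((g * g₁⁻¹ : GL chevF4.Idx F) : Matrix chevF4.Idx chevF4.Idx F)
                * (g₁ : Matrix chevF4.Idx chevF4.Idx F)
              = torusMat chevF4 (fun i => if i < k then c i else 1) *
                (g₁ : Matrix chevF4.Idx chevF4.Idx F) := by
            rw [← Units.val_mul, inv_mul_cancel_right, hg, hsplit, hg₁v]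
          have e2 := congrArg
            (fun M => M * ((g₁⁻¹ : GL chevF4.Idx F) : Matrix chevF4.Idx chevF4.Idx F)) e1
          simp only [mul_assoc] at e2
          rwa [← Units.val_mul, mul_inv_cancel, Units.val_one, mul_one, mul_one] at e2
        have := ih (by omega) _ h0
        have e : g = (g * g₁⁻¹) * g₁ := by group
        rw [e]
        exact mul_mem this hg₁m
      · apply ih (by omega) g
        rw [hg]
        congr 1
        funext i
        by_cases h2 : i < k
        · rw [if_pos h2, if_pos (by omega)]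
        · by_cases h3 : i = k
          · rw [if_neg h2, if_pos (by omega), h3, h1 k hk4 ek]
          · rw [if_neg h2, if_neg (by omega)]
  apply key chevF4.rank (le_refl _) h
  rw [hval]
  unfold torusMat
  congr 1

/-- root elements whose commutator formula has no terms commute -/
theorem h4_commute_of_nil (θ r : ℕ) (hθ : θ < chevF4.nroots) (hr : r < chevF4.nroots)
    (h1 : r ≠ θ) (h2 : r ≠ chevF4.neg θ) (h0 : chevF4.commTerms θ r = []) (a u : F) :
    Commute (xGL chevF4 hF4 θ a) (xGL chevF4 hF4 r u) := by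
  have := x_comm_of_zero (F := F) chevF4 hF4 θ r hθ hr h1 h2 (fun c hc => by
    rw [h0] at hc; exact absurd hc (List.not_mem_nil)) a u
  apply Units.ext
  rw [Units.val_mul, Units.val_mul, xGL_val, xGL_val]
  exact this.symm

theorem h4_comm_47_44 (a u : F) : Commute (xGL chevF4 hF4 47 a) (xGL chevF4 hF4 44 u) :=
  h4_commute_of_nil 47 44 (by decide) (by decide) (by decide) (by decide) (by decide) a u

theorem h4_comm_39_45 (a u : F) : Commute (xGL chevF4 hF4 39 a) (xGL chevF4 hF4 45 u) :=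
  h4_commute_of_nil 39 45 (by decide) (by decide) (by decide) (by decide) (by decide) a u

/-- pairwise commutation inside a two-element list -/
theorem h4_comm_pair (p q : ℕ) (hpq : ∀ a u : F, Commute (xGL chevF4 hF4 p a) (xGL chevF4 hF4 q u)) :
    ∀ r ∈ [p, q], ∀ r' ∈ [p, q], ∀ a b : F,
      Commute (xGL chevF4 hF4 r a) (xGL chevF4 hF4 r' b) := by
  have hself : ∀ (s : ℕ) (a b : F), Commute (xGL chevF4 hF4 s a) (xGL chevF4 hF4 s b) := by
    intro s a b
    apply Units.ext
    rw [Units.val_mul, Units.val_mul, xGL_val, xGL_val, x_add chevF4 hF4, x_add chevF4 hF4,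
      add_comm]
  intro r hr r' hr' a b
  simp only [List.mem_cons, List.not_mem_nil, or_false] at hr hr'
  rcases hr with rfl | rfl <;> rcases hr' with rfl | rfl
  · exact hself _ a b
  · exact hpq a b
  · exact (hpq b a).symm
  · exact hself _ a b

/-- the conjugate of `x_p(1) x_q(1)` by a torus element -/
theorem h4_torus_conj_pair (h : GL chevF4.Idx F) (c : ℕ → F) (hc : ∀ i, c i ≠ 0)
    (hval : (h : Matrix chevF4.Idx chevF4.Idx F) = torusMat chevF4 c) (p q : ℕ) :
    h * (xGL chevF4 hF4 p 1 * xGL chevF4 hF4 q 1) * h⁻¹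
      = xGL chevF4 hF4 p (chi chevF4 c p) * xGL chevF4 hF4 q (chi chevF4 c q) := by
  have e : h * (xGL chevF4 hF4 p 1 * xGL chevF4 hF4 q 1) * h⁻¹
      = (h * xGL chevF4 hF4 p 1 * h⁻¹) * (h * xGL chevF4 hF4 q 1 * h⁻¹) := by group
  rw [e]
  have k1 := torus_conj_x chevF4 hF4 h _ c hc hval p 1 (xGL_val chevF4 hF4 p 1)
  have k2 := torus_conj_x chevF4 hF4 h _ c hc hval q 1 (xGL_val chevF4 hF4 q 1)
  rw [mul_one] at k1 k2
  have e1 : h * xGL chevF4 hF4 p 1 * h⁻¹ = xGL chevF4 hF4 p (chi chevF4 c p) :=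
    Units.ext (by rw [k1, xGL_val])
  have e2 : h * xGL chevF4 hF4 q 1 * h⁻¹ = xGL chevF4 hF4 q (chi chevF4 c q) :=
    Units.ext (by rw [k2, xGL_val])
  rw [e1, e2]

theorem h4_chi_F4 (c : ℕ → F) (s : ℕ) : chi chevF4 c s
    = c 0 ^ chevF4.cartan 0 s * (c 1 ^ chevF4.cartan 1 s *
      (c 2 ^ chevF4.cartan 2 s * (c 3 ^ chevF4.cartan 3 s * 1))) := by
  unfold chi
  rw [h4_rank_F4]
  rfl

theorem h4_cartan_vals :
    (chevF4.cartan 0 47 = 0 ∧ chevF4.cartan 1 47 = 0 ∧ chevF4.cartan 2 47 = 0 ∧
      chevF4.cartan 3 47 = 1) ∧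
    (chevF4.cartan 0 44 = 1 ∧ chevF4.cartan 1 44 = 0 ∧ chevF4.cartan 2 44 = 0 ∧
      chevF4.cartan 3 44 = 0) ∧
    (chevF4.cartan 0 39 = 0 ∧ chevF4.cartan 1 39 = -1 ∧ chevF4.cartan 2 39 = 1 ∧
      chevF4.cartan 3 39 = 0) ∧
    (chevF4.cartan 0 45 = 0 ∧ chevF4.cartan 1 45 = 2 ∧ chevF4.cartan 2 45 = -1 ∧
      chevF4.cartan 3 45 = 0) := by
  decide +kernel

theorem h4_simple_vals : chevF4.simple 0 = 33 ∧ chevF4.simple 1 = 27 ∧ chevF4.simple 2 = 25 ∧
    chevF4.simple 3 = 24 ∧ chevF4.neg 33 = 14 ∧ chevF4.neg 27 = 20 ∧ chevF4.neg 25 = 22 ∧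
    chevF4.neg 24 = 23 ∧ chevF4.IsPosRoot 27 ∧ chevF4.IsPosRoot 25 ∧ chevF4.IsPosRoot 47 ∧
    chevF4.IsPosRoot 44 ∧ chevF4.IsPosRoot 39 ∧ chevF4.IsPosRoot 45 := by
  decide +kernel

/-- Unit TOR, first consequence -/
theorem TOR_I (h : GL chevF4.Idx F) (hh : h ∈ chevF4.diagonalSubgroup F)
    (hc : Commute h (wI F)) : h ∈ RI F := by
  obtain ⟨c, hc0, hval⟩ := exists_torusMat_of_mem chevF4 hF4 h hh
  obtain ⟨⟨a0, a1, a2, a3⟩, ⟨b0, b1, b2, b3⟩, -, -⟩ := h4_cartan_vals
  obtain ⟨s0, s1, s2, s3, n0, n1, n2, n3, p27, p25, p47, p44, p39, p45⟩ := h4_simple_vals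
  have hconj := h4_torus_conj_pair h c hc0 hval 47 44
  have hw : h * (xGL chevF4 hF4 47 1 * xGL chevF4 hF4 44 1) * h⁻¹
      = xGL chevF4 hF4 47 1 * xGL chevF4 hF4 44 1 := by
    have := hc.eq
    unfold wI at this
    rw [this, mul_inv_cancel_right]
  rw [hw] at hconj
  -- unique factorisation
  have hlist : ([47, 44].map fun r => xGL chevF4 hF4 r ((fun _ => (1 : F)) r)).prod
      = ([47, 44].map fun r => xGL chevF4 hF4 r (chi chevF4 c r)).prod := by
    simpa using hconj
  have hnd : ([47, 44] : List ℕ).Nodup := by decide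
  have hpos : ∀ r ∈ ([47, 44] : List ℕ), chevF4.IsPosRoot r := by
    intro r hr
    simp only [List.mem_cons, List.not_mem_nil, or_false] at hr
    rcases hr with rfl | rfl
    · exact p47
    · exact p44
  have hcm := h4_comm_pair (F := F) 47 44 h4_comm_47_44
  have k47 := h4_coeff chevF4 hF4 [47, 44] [47, 44] hnd hnd hpos hpos hcm hcm (fun _ => 1)
    (chi chevF4 c) hlist 47 p47
  have k44 := h4_coeff chevF4 hF4 [47, 44] [47, 44] hnd hnd hpos hpos hcm hcm (fun _ => 1)
    (chi chevF4 c) hlist 44 p44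
  simp only [List.mem_cons, List.not_mem_nil, or_false, true_or, or_true, if_true] at k47 k44
  rw [h4_chi_F4, a0, a1, a2, a3] at k47
  rw [h4_chi_F4, b0, b1, b2, b3] at k44
  simp only [zpow_zero, zpow_one, one_mul, mul_one] at k47 k44
  -- `c 3 = 1`, `c 0 = 1`
  unfold RI
  apply TOR_mem [1, 2] rootsI ?_ c hc0 ?_ h hval
  · intro j hj
    simp only [List.mem_cons, List.not_mem_nil, or_false] at hj
    rcases hj with rfl | rfl
    · rw [s1, n1]
      exact ⟨Or.inl p27, Or.inr (by simp)⟩
    · rw [s2, n2]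
      exact ⟨Or.inl p25, Or.inr (by simp)⟩
  · intro i hi hiJ
    simp only [List.mem_cons, List.not_mem_nil, or_false, not_or] at hiJ
    interval_cases i
    · exact k44.symm
    · exact absurd rfl hiJ.1
    · exact absurd rfl hiJ.2
    · exact k47.symm

/-- Unit TOR, second consequence: `h x₃₉(1) x₄₅(1) h⁻¹ = x₃₉(e) x₄₅(f)`, `e, f ≠ 0`, and
`e = f = 1` forces `h ∈ ⟨X_{±p₁}, X_{±p₄}⟩` -/
theorem TOR_II (h : GL chevF4.Idx F) (hh : h ∈ chevF4.diagonalSubgroup F) :
    ∃ e f : F, e ≠ 0 ∧ f ≠ 0 ∧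
      h * vII F * h⁻¹ = xGL chevF4 hF4 39 e * xGL chevF4 hF4 45 f ∧
      (e = 1 → f = 1 → h ∈ rootSetSub chevF4 F rootsL) := by
  obtain ⟨c, hc0, hval⟩ := exists_torusMat_of_mem chevF4 hF4 h hh
  obtain ⟨-, -, ⟨a0, a1, a2, a3⟩, ⟨b0, b1, b2, b3⟩⟩ := h4_cartan_vals
  obtain ⟨s0, s1, s2, s3, n0, n1, n2, n3, p27, p25, p47, p44, p39, p45⟩ := h4_simple_vals
  refine ⟨chi chevF4 c 39, chi chevF4 c 45, chi_ne_zero chevF4 c hc0 39,
    chi_ne_zero chevF4 c hc0 45, ?_, ?_⟩
  · unfold vII
    exact h4_torus_conj_pair h c hc0 hval 39 45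
  · intro he hf
    rw [h4_chi_F4, a0, a1, a2, a3] at he
    rw [h4_chi_F4, b0, b1, b2, b3] at hf
    simp only [zpow_zero, zpow_one, one_mul, mul_one] at he hf
    -- `c1⁻¹ c2 = 1`, `c1² c2⁻¹ = 1`
    have h1 : c 1 ≠ 0 := hc0 1
    have h2 : c 2 ≠ 0 := hc0 2
    have e12 : c 2 = c 1 := by
      rw [zpow_neg_one] at he
      field_simp at he
      exact he
    have e1 : c 1 = 1 := by
      rw [e12, zpow_neg_one] at hf
      have : c 1 ^ (2 : ℤ) * (c 1)⁻¹ = c 1 := by
        rw [zpow_two]
        field_simp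
      rw [this] at hf
      exact hf
    have e2 : c 2 = 1 := by rw [e12, e1]
    apply TOR_mem [0, 3] rootsL ?_ c hc0 ?_ h hval
    · intro j hj
      simp only [List.mem_cons, List.not_mem_nil, or_false] at hj
      rcases hj with rfl | rfl
      · rw [s0, n0]
        exact ⟨by simp [rootsL], by simp [rootsL]⟩
      · rw [s3, n3]
        exact ⟨by simp [rootsL], by simp [rootsL]⟩
    · intro i hi hiJ
      simp only [List.mem_cons, List.not_mem_nil, or_false, not_or] at hiJ
      interval_cases i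
      · exact absurd rfl hiJ.1
      · exact e1
      · exact e2
      · exact absurd rfl hiJ.2

end Cfsg.Agent.Lib.Helper4.F4Cent
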