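import Mathlib
import Cfsg.Agent.Lib.Helper5.TwAutDefs
import Cfsg.Agent.Lib.Helper5.ChevBNPair
import Cfsg.Agent.Lib.Helper5.ChevCellCard
import Cfsg.Agent.Lib.Helper5.ChevDiag
import Cfsg.Agent.Lib.Helper5.ChevTorusAct
import Cfsg.Agent.Lib.Helper2.RankOneAbs

set_option autoImplicit false

/-!
TWISTED-OUT farm, unit T4 (generic part): the kernel of the rank-one homomorphism attached to
a node `J` is contained in `{1, -1}`, for ANY proof of the rank-one relations, given the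
injectivity of `t ↦ x_J(t)`, `t ↦ x_{-J}(t)`.
-/

namespace Cfsg.Agent.Lib.Helper4.TwAut

open Cfsg Cfsg.Lie Cfsg.Agent.Lib.Helper5.ChevStruct Cfsg.Agent.Lib.Helper5.ChevSym
open Cfsg.Agent.Lib.Helper5.TwAut Cfsg.Agent.Lib.Helper5.RankOneHom

variable {K : Type*} [Field K]

/-- `rootSetSub` of a set of negative roots lies in `V` -/
theorem h4_rootSetSub_le_neg (D : ChevalleyDatum) (T : Set ℕ) (hT : ∀ r ∈ T, D.IsNegRoot r) :
    rootSetSub D K T ≤ D.negUnipotent K := by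
  unfold rootSetSub ChevalleyDatum.negUnipotent
  apply Subgroup.closure_mono
  rintro g ⟨s, t, hs, hg⟩
  exact ⟨s, t, hT s hs, hg⟩

/-- `x_J(t) ∈ U` -/
theorem h4_xT_mem_pos (D : ChevalleyDatum) (hD : D ∈ Seven) (f : K →+* K) (J : List ℕ)
    (hJ : ∀ i ∈ J, i < D.rank) (t : K) : xT D hD f J t ∈ D.posUnipotent K := by
  apply rootSetSub_le_pos D (posJ D J)
  · rintro r ⟨i, hi, rfl⟩
    exact simple_pos D hD i (hJ i hi)
  · unfold xT
    apply wordGL_mem_rootSetSub
    intro q hq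
    rw [List.mem_map] at hq
    obtain ⟨i, hi, rfl⟩ := hq
    exact ⟨i, hi, rfl⟩

/-- `x_{-J}(t) ∈ V` -/
theorem h4_yT_mem_neg (D : ChevalleyDatum) (hD : D ∈ Seven) (f : K →+* K) (J : List ℕ)
    (hJ : ∀ i ∈ J, i < D.rank) (t : K) : yT D hD f J t ∈ D.negUnipotent K := by
  apply h4_rootSetSub_le_neg D (negJ D J)
  · rintro r ⟨i, hi, rfl⟩
    exact isNegRoot_neg_simple D hD i (hJ i hi)
  · unfold yT
    apply wordGL_mem_rootSetSub
    intro q hq
    rw [List.mem_map] at hq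
    obtain ⟨i, hi, rfl⟩ := hq
    exact ⟨i, hi, rfl⟩

/-- `h_J(u) ∈ H` when all the parameters are nonzero -/
theorem h4_hProd_mem_diagonal (D : ChevalleyDatum) (hD : D ∈ Seven) (J : List ℕ)
    (hJ : ∀ i ∈ J, i < D.rank) (u : ℕ → K) (hu : ∀ i ∈ J, u i ≠ 0) :
    hProd D hD J u ∈ D.diagonalSubgroup K := by
  unfold hProd
  apply Subgroup.list_prod_mem
  intro g hg
  rw [List.mem_map] at hg
  obtain ⟨i, hi, rfl⟩ := hg
  apply Subgroup.subset_closure
  refine ⟨D.simple i, u i, (simple_pos D hD i (hJ i hi)).1, hu i hi, ?_⟩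
  rw [wordGL_val]
  rfl

/-- `h_J(s) ∈ H` for `s ≠ 0` -/
theorem h4_hT_mem_diagonal (D : ChevalleyDatum) (hD : D ∈ Seven) (f : K →+* K) (J : List ℕ)
    (hJ : ∀ i ∈ J, i < D.rank) (s : K) (hs : s ≠ 0) : hT D hD f J s ∈ D.diagonalSubgroup K := by
  unfold hT
  apply h4_hProd_mem_diagonal D hD J hJ
  intro i _
  unfold sT
  exact (map_ne_zero (f ^ J.idxOf i)).2 hs

/-- T4, generic form -/
theorem h4_relT_ker (D : ChevalleyDatum) (hD : D ∈ Seven) (f : K →+* K) (J : List ℕ)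
    (hJ : ∀ i ∈ J, i < D.rank)
    (R : Rel (fun t : K => xT D hD f J t) (fun t : K => yT D hD f J t)
      (fun s : K => hT D hD f J s) (wGL D hD J))
    (hxinj : ∀ a b : K, xT D hD f J a = xT D hD f J b → a = b)
    (hyinj : ∀ a b : K, yT D hD f J a = yT D hD f J b → a = b)
    (M : Matrix.SpecialLinearGroup (Fin 2) K) (hM : R.hom M = 1) : M = 1 ∨ M = -1 := by
  have hx0 : xT D hD f J (0 : K) = 1 := R.x_zero
  have hy0 : yT D hD f J (0 : K) = 1 := by
    have h1 := R.n_x 0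
    simp only [neg_zero] at h1
    rw [hx0, mul_one] at h1
    -- n = Y 0 * n
    have := mul_right_cancel (a := (1 : GL D.Idx K)) (b := wGL D hD J)
      (c := yT D hD f J (0 : K)) (by rw [one_mul]; exact h1)
    exact this.symm
  refine Cfsg.Agent.Lib.Helper2.RankOneAbs.ker_of_triangular R.hom (D.posUnipotent K)
    (D.diagonalSubgroup K) (D.negUnipotent K) ?_ ?_ ?_ ?_ ?_ ?_ ?_ ?_ M hM
  · intro t
    rw [R.hom_uu]
    exact h4_xT_mem_pos D hD f J hJ t
  · intro t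
    rw [R.hom_ll]
    exact h4_yT_mem_neg D hD f J hJ t
  · intro t ht
    rw [R.hom_dd]
    exact h4_hT_mem_diagonal D hD f J hJ t ht
  · intro h hh u hu
    have := diagonal_le_normalizer_pos (F := K) D hD hh
    rw [Subgroup.mem_normalizer_iff] at this
    exact (this u).1 hu
  · intro g hgU hgV
    have h1 : g ∈ D.borelSubgroup K ⊓ D.negUnipotent K :=
      Subgroup.mem_inf.2 ⟨Subgroup.mem_sup_left hgU, hgV⟩
    rw [borel_inf_neg D hD, Subgroup.mem_bot] at h1
    exact h1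
  · intro g hgU hgH
    have h1 : g ∈ D.posUnipotent K ⊓ D.diagonalSubgroup K := Subgroup.mem_inf.2 ⟨hgU, hgH⟩
    rw [pos_inf_diagonal D hD, Subgroup.mem_bot] at h1
    exact h1
  · intro t ht
    rw [R.hom_uu] at ht
    exact hxinj t 0 (ht.trans hx0.symm)
  · intro h
    rw [R.hom_ll] at h
    exact one_ne_zero (hyinj 1 0 (h.trans hy0.symm))

end Cfsg.Agent.Lib.Helper4.TwAut
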