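import Mathlib
import Cfsg.Agent.Lib.Helper5.TwAutDefs2
import Cfsg.Agent.Lib.Helper4.AutB1a
import Cfsg.Agent.Lib.Helper4.TwAutT4a
import Cfsg.Agent.Lib.Helper1.TwAutT1
import Cfsg.Agent.Lib.Helper2.TwAutT3

set_option autoImplicit false
set_option linter.unusedVariables false
set_option linter.unusedSectionVars false

/-!
TWISTED-OUT farm, unit A2a: `B ∩ G1 = N_{G1}(U ∩ G1)`, and an automorphism of `G1` preserving
`U ∩ G1` preserves `B ∩ G1`.
-/

namespace Cfsg.Agent.Lib.Helper4.TwAut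

open Cfsg Cfsg.Lie Cfsg.Agent.Lib.Helper5.ChevStruct Cfsg.Agent.Lib.Helper5.ChevSym
open Cfsg.Agent.Lib.Helper5.TwAut Cfsg.Agent.Lib.Helper5.RankOneHom

/-- in a finite group, `g H g⁻¹ ⊆ H` implies `g ∈ N(H)` -/
theorem h4_mem_normalizer_of_conj_le {Γ : Type*} [Group Γ] [Finite Γ] (H : Subgroup Γ) (g : Γ)
    (h : ∀ x ∈ H, g * x * g⁻¹ ∈ H) : g ∈ Subgroup.normalizer (H : Set Γ) := by
  rw [Subgroup.mem_normalizer_iff]
  intro x
  constructor
  · exact h x
  · intro hx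
    let φ : H → H := fun y => ⟨g * y * g⁻¹, h y y.2⟩
    have hinj : Function.Injective φ := by
      intro a b hab
      have := congrArg Subtype.val hab
      simp only [φ] at this
      exact Subtype.ext (mul_left_cancel (mul_right_cancel this))
    obtain ⟨y, hy⟩ := (Finite.injective_iff_surjective.1 hinj) ⟨g * x * g⁻¹, hx⟩
    have := congrArg Subtype.val hy
    simp only [φ] at this
    have hxy : (y : Γ) = x := mul_left_cancel (mul_right_cancel this)
    rw [← hxy]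
    exact y.2

/-- `B ≤ N(U)` -/
theorem h4_borel_le_normalizer_pos {K : Type*} [Field K] (D : ChevalleyDatum) (hD : D ∈ Seven) :
    D.borelSubgroup K ≤ Subgroup.normalizer (D.posUnipotent K : Set (GL D.Idx K)) := by
  unfold ChevalleyDatum.borelSubgroup
  exact sup_le Subgroup.le_normalizer (diagonal_le_normalizer_pos D hD)

variable {K : Type*} [Field K] [Fintype K] (D : ChevalleyDatum) (hD : D ∈ Seven) (G : GraphData)
  (hp : checkGraphPerm D G = true) (f : K →+* K) (rho : Equiv.Perm (Fin D.rank))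
  (orbs : List (List ℕ)) (G1 : Subgroup (GL D.Idx K)) (m : ℕ)
  (hyp : TwAutHyp D hD G hp f rho orbs G1 m)

include hyp in
/-- a node element does not normalise `U ∩ G1` -/
theorem h4_node_not_normalize (J : List ℕ) (hJ : J ∈ orbs) :
    ∃ u ∈ D.posUnipotent K ⊓ G1, wGL D hD J * u * (wGL D hD J)⁻¹ ∉ D.posUnipotent K := by
  have hwd := hyp.bn.hO.wd J hJ
  have R := Cfsg.Agent.Lib.Helper2.TwAut.relT D hD G hp f rho orbs G1 m hyp J hJ
  have h1K : InK f J 1 := (Cfsg.Agent.Lib.Helper1.TwAut.inK_props D hD G hp f rho orbs G1 m hyp J hJ).2.1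
  refine ⟨xT D hD f J 1, Subgroup.mem_inf.2 ⟨h4_xT_mem_pos D hD f J hwd 1,
    Cfsg.Agent.Lib.Helper1.TwAut.xT_mem D hD G hp f rho orbs G1 m hyp J hJ 1 h1K⟩, ?_⟩
  intro hU
  have hconj : wGL D hD J * xT D hD f J 1 * (wGL D hD J)⁻¹ = yT D hD f J (-1) := by
    have := R.n_x 1
    rw [this]
    group
  rw [hconj] at hU
  have hV : yT D hD f J (-1 : K) ∈ D.negUnipotent K := h4_yT_mem_neg D hD f J hwd (-1)
  have h1 : yT D hD f J (-1 : K) ∈ D.borelSubgroup K ⊓ D.negUnipotent K :=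
    Subgroup.mem_inf.2 ⟨Subgroup.mem_sup_left hU, hV⟩
  rw [borel_inf_neg D hD, Subgroup.mem_bot] at h1
  -- then `x_J(1) = 1`
  have hx1 : xT D hD f J (1 : K) = 1 := by
    have e : xT D hD f J (1 : K) = (wGL D hD J)⁻¹ * yT D hD f J (-1) * wGL D hD J := by
      rw [← hconj]; group
    rw [e, h1]; group
  have hx0 : xT D hD f J (0 : K) = 1 := R.x_zero
  exact one_ne_zero (Cfsg.Agent.Lib.Helper1.TwAut.xT_injective D hD G hp f rho orbs G1 m hyp J hJ
    1 0 (hx1.trans hx0.symm))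

include hyp in
/-- A2a : `B ∩ G1 = N_{G1}(U ∩ G1)` -/
theorem mem_borel_iff (g : GL D.Idx K) (hg : g ∈ G1) :
    g ∈ D.borelSubgroup K ↔ ∀ u ∈ D.posUnipotent K ⊓ G1, g * u * g⁻¹ ∈ D.posUnipotent K := by
  constructor
  · intro hgB u hu
    have hn := h4_borel_le_normalizer_pos (K := K) D hD hgB
    rw [Subgroup.mem_normalizer_iff] at hn
    exact (hn u).1 (Subgroup.mem_inf.1 hu).1
  · intro hcond
    have : Finite ↥G1 := inferInstance
    -- the normaliser of `U ∩ G1` in `G1`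
    set U1 : Subgroup ↥G1 := (D.posUnipotent K ⊓ G1).subgroupOf G1 with hU1
    set M : Subgroup ↥G1 := Subgroup.normalizer (U1 : Set ↥G1) with hM
    have hmemU1 : ∀ x : ↥G1, x ∈ U1 ↔ (x : GL D.Idx K) ∈ D.posUnipotent K := by
      intro x
      rw [hU1, Subgroup.mem_subgroupOf, Subgroup.mem_inf]
      exact ⟨fun h => h.1, fun h => ⟨h, x.2⟩⟩
    have hcrit : ∀ x : ↥G1, (∀ u ∈ D.posUnipotent K ⊓ G1,
        (x : GL D.Idx K) * u * (x : GL D.Idx K)⁻¹ ∈ D.posUnipotent K) → x ∈ M := by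
      intro x hx
      apply h4_mem_normalizer_of_conj_le
      intro y hy
      rw [hmemU1] at hy ⊢
      have := hx (y : GL D.Idx K) (Subgroup.mem_inf.2 ⟨hy, y.2⟩)
      simpa using this
    have hBM : (bnT hyp).B ≤ M := by
      intro x hx
      have hB : (bnT hyp).B = (D.borelSubgroup K ⊓ G1).subgroupOf G1 := rfl
      rw [hB, Subgroup.mem_subgroupOf] at hx
      apply hcrit
      intro u hu
      have hn := h4_borel_le_normalizer_pos (K := K) D hD (Subgroup.mem_inf.1 hx).1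
      rw [Subgroup.mem_normalizer_iff] at hn
      exact (hn u).1 (Subgroup.mem_inf.1 hu).1
    have h1 := Cfsg.Agent.Lib.Helper4.BNPair.eq_parabolic_of_le hBM
    have hJ : {t | t ∈ (bnT hyp).S ∧ t ∈ M} = (∅ : Set ↥G1) := by
      ext t
      simp only [Set.mem_ofPred_eq, Set.mem_empty_iff_false, iff_false]
      rintro ⟨⟨J, hJ, e⟩, htM⟩
      obtain ⟨u, hu, hnot⟩ := h4_node_not_normalize D hD G hp f rho orbs G1 m hyp J hJ
      apply hnot
      rw [hM, Subgroup.mem_normalizer_iff] at htM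
      have h2 := (htM ⟨u, (Subgroup.mem_inf.1 hu).2⟩).1
        ((hmemU1 _).2 (Subgroup.mem_inf.1 hu).1)
      rw [hmemU1] at h2
      simpa [e] using h2
    rw [hJ, Cfsg.Agent.Lib.Helper4.AutB1.h4_parabolic_empty] at h1
    have hgM : (⟨g, hg⟩ : ↥G1) ∈ M := hcrit ⟨g, hg⟩ hcond
    rw [h1] at hgM
    have hB : (bnT hyp).B = (D.borelSubgroup K ⊓ G1).subgroupOf G1 := rfl
    rw [hB, Subgroup.mem_subgroupOf] at hgM
    exact (Subgroup.mem_inf.1 hgM).1

include hyp in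
/-- A2a' -/
theorem mapsT_borel (θ : ↥G1 ≃* ↥G1)
    (hU : MapsT G1 θ (D.posUnipotent K) (D.posUnipotent K)) :
    MapsT G1 θ (D.borelSubgroup K) (D.borelSubgroup K) := by
  intro g
  rw [mem_borel_iff D hD G hp f rho orbs G1 m hyp (θ g) (θ g).2,
    mem_borel_iff D hD G hp f rho orbs G1 m hyp g g.2]
  constructor
  · intro h u hu
    -- u = θ⁻¹ (θ u)
    set u1 : ↥G1 := ⟨u, (Subgroup.mem_inf.1 hu).2⟩ with hu1
    have hθu : ((θ u1 : ↥G1) : GL D.Idx K) ∈ D.posUnipotent K ⊓ G1 :=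
      Subgroup.mem_inf.2 ⟨(hU u1).2 (Subgroup.mem_inf.1 hu).1, (θ u1).2⟩
    have h2 := h _ hθu
    have e : (θ g : GL D.Idx K) * (θ u1 : GL D.Idx K) * (θ g : GL D.Idx K)⁻¹
        = ((θ (g * u1 * g⁻¹) : ↥G1) : GL D.Idx K) := by
      simp
    rw [e, hU (g * u1 * g⁻¹)] at h2
    simpa [hu1] using h2
  · intro h u' hu'
    set u1' : ↥G1 := ⟨u', (Subgroup.mem_inf.1 hu').2⟩ with hu1'
    set u1 : ↥G1 := θ.symm u1' with hu1
    have hθ : θ u1 = u1' := by rw [hu1]; simp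
    have hu1U : (u1 : GL D.Idx K) ∈ D.posUnipotent K := by
      rw [← hU u1, hθ]
      exact (Subgroup.mem_inf.1 hu').1
    have h2 := h (u1 : GL D.Idx K) (Subgroup.mem_inf.2 ⟨hu1U, u1.2⟩)
    have e : (g : GL D.Idx K) * (u1 : GL D.Idx K) * (g : GL D.Idx K)⁻¹
        = ((g * u1 * g⁻¹ : ↥G1) : GL D.Idx K) := by
      simp
    rw [e, ← hU (g * u1 * g⁻¹)] at h2
    have e2 : ((θ (g * u1 * g⁻¹) : ↥G1) : GL D.Idx K)
        = (θ g : GL D.Idx K) * u' * (θ g : GL D.Idx K)⁻¹ := by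
      rw [map_mul, map_mul, map_inv, hθ]
      simp [hu1']
    rw [e2] at h2
    exact h2

end Cfsg.Agent.Lib.Helper4.TwAut
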