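import Mathlib
import Cfsg.Agent.Lib.Helper1.F4Out.Defs

set_option autoImplicit false
set_option linter.unusedVariables false
set_option linter.unusedSectionVars false

/-!
F4OUT farm, unit GEN (S5): `²F₄(q)` is generated by the four families `x₁ y₁ x₂ y₂`.
-/

namespace Cfsg.Agent.Lib.Helper4.F4Out

open Cfsg Cfsg.Lie Cfsg.Agent.Lib.Helper5.ChevSym Cfsg.Agent.Lib.Helper5.ChevSymP
  Cfsg.Agent.Lib.Helper5.ChevStruct Cfsg.Agent.Lib.Helper5.TwX
  Cfsg.Agent.Lib.Helper5.MatPow Cfsg.Agent.Lib.Helper5.F4T Cfsg.Agent.Lib.Helper5.TwAut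
  Cfsg.Agent.Lib.Helper1.F4Out

variable {K : Type*} [Field K] [Fintype K] [CharP K 2] (m : ℕ)

/-- the generating set of `twistedF4`, in terms of `x₁ y₁ x₂ y₂` -/
theorem h4_gen_set_eq :
    {g : GL chevF4.Idx K | ∃ w ∈ f4Words K (2 ^ m),
      (g : Matrix chevF4.Idx chevF4.Idx K) = chevF4.wordMat K w}
    = {g | (∃ t, g = x1 m t ∨ g = y1 m t) ∨ ∃ t u, g = x2 m t u ∨ g = y2 m t u} := by
  ext g
  simp only [Set.mem_ofPred_eq]
  constructor
  · rintro ⟨w, hw, hg⟩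
    have hgw : g = wordGL chevF4 hF4 w := by
      apply Units.ext
      rw [hg, wordGL_val]
    rcases hw with ⟨t, rfl | rfl⟩ | ⟨t, u, rfl | rfl⟩
    · left
      refine ⟨t, Or.inl ?_⟩
      rw [hgw, pairWord_eq]
      rfl
    · left
      refine ⟨t, Or.inr ?_⟩
      rw [hgw, pairWord_eq]
      rfl
    · right
      refine ⟨t, u, Or.inl ?_⟩
      rw [hgw, classWord_eq]
      rfl
    · right
      refine ⟨t, u, Or.inr ?_⟩
      rw [hgw, classWord_eq]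
      rfl
  · rintro (⟨t, rfl | rfl⟩ | ⟨t, u, rfl | rfl⟩)
    · refine ⟨f4PairWord (2 ^ m) f4p1 f4p4 t, Or.inl ⟨t, Or.inl rfl⟩, ?_⟩
      rw [pairWord_eq]
      exact wordGL_val chevF4 hF4 _
    · refine ⟨f4PairWord (2 ^ m) f4m1 f4m4 t, Or.inl ⟨t, Or.inr rfl⟩, ?_⟩
      rw [pairWord_eq]
      exact wordGL_val chevF4 hF4 _
    · refine ⟨b2ClassWord (2 ^ m) f4a f4b f4ab f4aab t u, Or.inr ⟨t, u, Or.inl rfl⟩, ?_⟩
      rw [classWord_eq]
      exact wordGL_val chevF4 hF4 _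
    · refine ⟨b2ClassWord (2 ^ m) f4ma f4mb f4mab f4maab t u, Or.inr ⟨t, u, Or.inr rfl⟩, ?_⟩
      rw [classWord_eq]
      exact wordGL_val chevF4 hF4 _

/-- S5 : generation -/
theorem fixG_eq_closure (hK : Fintype.card K = 2 ^ (2 * m + 1)) :
    fixG (K := K) m = Subgroup.closure
      {g | (∃ t, g = x1 m t ∨ g = y1 m t) ∨ ∃ t u, g = x2 m t u ∨ g = y2 m t u} := by
  have hq : ∀ x : K, x ^ 2 ^ (2 * m + 1) = x := by
    intro x
    rw [← hK]
    exact FiniteField.pow_card x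
  rw [← twisted_eq_fixG m hK hq, ← h4_gen_set_eq m]
  rfl

end Cfsg.Agent.Lib.Helper4.F4Out
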