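import Mathlib

set_option autoImplicit false

/-!
D4INV farm (S2183), unit B: two involutions in a coset `n H`, `H` abelian of odd order and
normalised by `n`, are conjugate under `H`.
-/

namespace Cfsg.Agent.Lib.Helper4.D4Inv

variable {G : Type*} [Group G]

/-- Unit B: two involutions of `n H` (`H` abelian of odd order, normalised by `n`) are conjugate
under `H`.  (`n' = n h`, `h^n = h⁻¹`, `h = m²`, `k = m⁻¹`.) -/
theorem invol_lift_conj (H : Subgroup G) [Finite H]
    (hab : ∀ x ∈ H, ∀ y ∈ H, x * y = y * x) (hodd : Odd (Nat.card H))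
    (n n' : G) (hn : n * n = 1) (hn' : n' * n' = 1) (hnorm : ∀ h ∈ H, n * h * n⁻¹ ∈ H)
    (hh : n⁻¹ * n' ∈ H) : ∃ k ∈ H, k * n * k⁻¹ = n' := by
  have _ := hab
  have _ := hnorm
  set h : G := n⁻¹ * n' with hdef
  have hn'eq : n' = n * h := by rw [hdef]; group
  have hninv : n⁻¹ = n := inv_eq_of_mul_eq_one_left hn
  -- `n h n⁻¹ = h⁻¹`
  have hconj : n * h * n⁻¹ = h⁻¹ := by
    have h1 : n * h * (n * h) = 1 := by rw [← hn'eq]; exact hn'
    have h2 : n * h * n⁻¹ * h = 1 := by
      rw [hninv]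
      calc n * h * n * h = n * h * (n * h) := by group
        _ = 1 := h1
    exact eq_inv_of_mul_eq_one_left h2
  obtain ⟨e, he⟩ := hodd
  -- `h ^ (card H) = 1`
  have hcard : h ^ Nat.card H = 1 := by
    have h3 : (⟨h, hh⟩ : H) ^ Nat.card H = 1 := pow_card_eq_one'
    have h5 : ((⟨h, hh⟩ : H) ^ Nat.card H : H).1 = h ^ Nat.card H := rfl
    rw [← h5, h3]
    rfl
  set m : G := h ^ (e + 1) with hm
  have hmH : m ∈ H := H.pow_mem hh _
  have hmm : m * m = h := by
    rw [hm, ← pow_add]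
    have : e + 1 + (e + 1) = Nat.card H + 1 := by omega
    rw [this, pow_succ, hcard, one_mul]
  have hmconj : n * m * n⁻¹ = m⁻¹ := by
    rw [hm, ← conj_pow, hconj, inv_pow]
  refine ⟨m⁻¹, H.inv_mem hmH, ?_⟩
  rw [inv_inv, hn'eq, ← hmm]
  -- `m⁻¹ n m = n m m`
  have h4 : n * m = m⁻¹ * n := by
    have := congrArg (fun z => z * n) hmconj
    simpa [mul_assoc] using this
  calc m⁻¹ * n * m = n * m * m := by rw [h4]
    _ = n * (m * m) := by group

end Cfsg.Agent.Lib.Helper4.D4Inv
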