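import Mathlib
import Cfsg.Agent.Lib.Helper4.BNPair2
import Cfsg.Agent.Lib.Helper4.D4InvB

set_option autoImplicit false
set_option linter.unusedVariables false

/-!
D4INV farm (S2183), unit A2: in a group with a `(B,N)`-pair of type `G₂` whose involutions are
conjugate into `N`, with `H = B ∩ N` abelian of odd order, there are at most three classes of
involutions, represented by `a`, `b`, `(ab)³`.
-/

namespace Cfsg.Agent.Lib.Helper4.D4Inv

open Cfsg Cfsg.Agent.Lib.Helper4.BNAbstract Cfsg.Agent.Lib.Helper4.BNPair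

section dihedral

variable {W : Type*} [Group W]

/-- `α ρ^j = ρ^{-j} α` for `ρ = α β` -/
theorem h4_alpha_rho (α β : W) (hα : α * α = 1) (hβ : β * β = 1) (j : ℤ) :
    α * (α * β) ^ j = (α * β) ^ (-j) * α := by
  have hαi : α⁻¹ = α := inv_eq_of_mul_eq_one_left hα
  have hβi : β⁻¹ = β := inv_eq_of_mul_eq_one_left hβ
  have h1 : α * (α * β) * α⁻¹ = (α * β)⁻¹ := by
    rw [mul_inv_rev, hαi, hβi]
    calc α * (α * β) * α = (α * α) * β * α := by group
      _ = β * α := by rw [hα, one_mul]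
  have h2 : α * (α * β) ^ j * α⁻¹ = (α * β) ^ (-j) := by
    rw [← conj_zpow, h1, inv_zpow, zpow_neg]
  calc α * (α * β) ^ j = (α * (α * β) ^ j * α⁻¹) * α := by group
    _ = (α * β) ^ (-j) * α := by rw [h2]

/-- normal form in a group generated by two involutions -/
theorem h4_dihedral_form (α β : W) (hα : α * α = 1) (hβ : β * β = 1)
    (hgen : Subgroup.closure ({α, β} : Set W) = ⊤) (w : W) :
    ∃ k : ℤ, w = (α * β) ^ k ∨ w = (α * β) ^ k * α := by
  have hαi : α⁻¹ = α := inv_eq_of_mul_eq_one_left hα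
  have hw : w ∈ Subgroup.closure ({α, β} : Set W) := by rw [hgen]; trivial
  induction hw using Subgroup.closure_induction with
  | mem x hx =>
    rcases hx with rfl | hx
    · exact ⟨0, Or.inr (by simp)⟩
    · have hx' : x = β := by simpa using hx
      subst hx'
      refine ⟨-1, Or.inr ?_⟩
      have := h4_alpha_rho α x hα hβ 1
      rw [zpow_one] at this
      rw [← this]
      calc x = (α * α) * x := by rw [hα, one_mul]
        _ = α * (α * x) := by group
  | one => exact ⟨0, Or.inl (by simp)⟩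
  | mul x y _ _ hx hy =>
    obtain ⟨i, hi | hi⟩ := hx <;> obtain ⟨j, hj | hj⟩ := hy
    · exact ⟨i + j, Or.inl (by rw [hi, hj, zpow_add])⟩
    · exact ⟨i + j, Or.inr (by rw [hi, hj, zpow_add, mul_assoc])⟩
    · refine ⟨i - j, Or.inr ?_⟩
      rw [hi, hj, mul_assoc, h4_alpha_rho α β hα hβ j, ← mul_assoc, ← zpow_add, sub_eq_add_neg]
    · refine ⟨i - j, Or.inl ?_⟩
      rw [hi, hj]
      calc (α * β) ^ i * α * ((α * β) ^ j * α) = (α * β) ^ i * (α * (α * β) ^ j) * α := by group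
        _ = (α * β) ^ i * ((α * β) ^ (-j) * α) * α := by rw [h4_alpha_rho α β hα hβ j]
        _ = (α * β) ^ i * (α * β) ^ (-j) * (α * α) := by group
        _ = (α * β) ^ (i - j) := by rw [hα, mul_one, ← zpow_add, sub_eq_add_neg]
  | inv x _ hx =>
    obtain ⟨i, hi | hi⟩ := hx
    · exact ⟨-i, Or.inl (by rw [hi, zpow_neg])⟩
    · refine ⟨i, Or.inr ?_⟩
      rw [hi, mul_inv_rev, hαi, ← zpow_neg, h4_alpha_rho α β hα hβ (-i), neg_neg]

/-- the involutions of a dihedral group of order 12 -/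
theorem h4_dihedral_invol (α β : W) (hα : α * α = 1) (hβ : β * β = 1)
    (hord : orderOf (α * β) = 6) (hgen : Subgroup.closure ({α, β} : Set W) = ⊤)
    (w : W) (hw : w * w = 1) (hw1 : w ≠ 1) :
    (∃ u : W, w = u * α * u⁻¹) ∨ (∃ u : W, w = u * β * u⁻¹) ∨ w = (α * β) ^ 3 := by
  have hαi : α⁻¹ = α := inv_eq_of_mul_eq_one_left hα
  obtain ⟨k, hk | hk⟩ := h4_dihedral_form α β hα hβ hgen w
  · -- a rotation
    right; right
    have h2 : (α * β) ^ (k + k) = 1 := by rw [zpow_add, ← hk]; exact hw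
    have hdvd : ((orderOf (α * β) : ℕ) : ℤ) ∣ k + k := orderOf_dvd_iff_zpow_eq_one.2 h2
    rw [hord] at hdvd
    have h3 : (3 : ℤ) ∣ k := by omega
    obtain ⟨j, rfl⟩ := h3
    have h6 : (α * β) ^ (6 : ℤ) = 1 := by
      have := pow_orderOf_eq_one (α * β)
      rw [hord] at this
      rw [← this]
      exact zpow_natCast (α * β) 6
    rcases Int.even_or_odd j with ⟨i, hi⟩ | ⟨i, hi⟩
    · exfalso
      apply hw1
      rw [hk, hi]
      have : (3 : ℤ) * (i + i) = 6 * i := by ring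
      rw [this, zpow_mul, h6, one_zpow]
    · rw [hk, hi]
      have : (3 : ℤ) * (2 * i + 1) = 6 * i + 3 := by ring
      rw [this, zpow_add, zpow_mul, h6, one_zpow, one_mul]
      exact zpow_natCast (α * β) 3
  · rcases Int.even_or_odd k with ⟨j, hj⟩ | ⟨j, hj⟩
    · left
      refine ⟨(α * β) ^ j, ?_⟩
      rw [hk, hj, ← zpow_neg]
      calc (α * β) ^ (j + j) * α = (α * β) ^ j * ((α * β) ^ (- -j) * α) := by
            rw [neg_neg, ← mul_assoc, ← zpow_add]
        _ = (α * β) ^ j * (α * (α * β) ^ (-j)) := by rw [h4_alpha_rho α β hα hβ (-j)]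
        _ = (α * β) ^ j * α * (α * β) ^ (-j) := by group
    · right; left
      refine ⟨(α * β) ^ j * α, ?_⟩
      rw [hk, hj, mul_inv_rev, hαi, ← zpow_neg]
      calc (α * β) ^ (2 * j + 1) * α
          = (α * β) ^ j * (α * β) * ((α * β) ^ (- -j) * α) := by
            rw [neg_neg]
            have : (2 : ℤ) * j + 1 = j + 1 + j := by ring
            rw [this, zpow_add, zpow_add, zpow_one]
            group
        _ = (α * β) ^ j * (α * β) * (α * (α * β) ^ (-j)) := by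
            rw [h4_alpha_rho α β hα hβ (-j)]
        _ = (α * β) ^ j * α * β * (α * (α * β) ^ (-j)) := by group

end dihedral

variable {G : Type*} [Group G]

/-- Unit A2: at most three classes of involutions, represented by `a`, `b`, `(ab)³`. -/
theorem invol_three_classes (P : BNPair G) (a b : G) (hS : P.S = {a, b})
    (hord : orderOf (π P a * π P b) = 6)
    (hconjN : ∀ t : G, t * t = 1 → ∃ g : G, g * t * g⁻¹ ∈ P.N)
    [Finite ↥(P.B ⊓ P.N)] (hab : ∀ x ∈ P.B ⊓ P.N, ∀ y ∈ P.B ⊓ P.N, x * y = y * x)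
    (hodd : Odd (Nat.card ↥(P.B ⊓ P.N)))
    (ha2 : a * a = 1) (hb2 : b * b = 1) (h02 : (a * b) ^ 3 * (a * b) ^ 3 = 1)
    (t : G) (ht : t * t = 1) (ht1 : t ≠ 1) :
    IsConj t a ∨ IsConj t b ∨ IsConj t ((a * b) ^ 3) := by
  have haS : a ∈ P.S := by rw [hS]; simp
  have hbS : b ∈ P.S := by rw [hS]; simp
  have haN : a ∈ P.N := S_mem_N haS
  have hbN : b ∈ P.N := S_mem_N hbS
  have habN : a * b ∈ P.N := mul_mem haN hbN
  have hab3N : (a * b) ^ 3 ∈ P.N := P.N.pow_mem habN 3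
  -- conjugate `t` into `N`
  obtain ⟨g, hg⟩ := hconjN t ht
  set t' : G := g * t * g⁻¹ with ht'
  have ht'2 : t' * t' = 1 := by
    rw [ht']
    calc g * t * g⁻¹ * (g * t * g⁻¹) = g * (t * t) * g⁻¹ := by group
      _ = 1 := by rw [ht]; group
  have ht'1 : t' ≠ 1 := by
    intro h
    apply ht1
    have : t = g⁻¹ * t' * g := by rw [ht']; group
    rw [this, h]; group
  have hconj0 : IsConj t t' := isConj_iff.2 ⟨g, rfl⟩
  -- an element of `H` with square `1` is trivial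
  have hHodd : ∀ x ∈ P.B ⊓ P.N, x * x = 1 → x = 1 := by
    intro x hx hxx
    obtain ⟨e, he⟩ := hodd
    have h3 : (⟨x, hx⟩ : ↥(P.B ⊓ P.N)) ^ Nat.card ↥(P.B ⊓ P.N) = 1 := pow_card_eq_one'
    have h5 : ((⟨x, hx⟩ : ↥(P.B ⊓ P.N)) ^ Nat.card ↥(P.B ⊓ P.N) : ↥(P.B ⊓ P.N)).1
        = x ^ Nat.card ↥(P.B ⊓ P.N) := rfl
    have h6 : x ^ Nat.card ↥(P.B ⊓ P.N) = 1 := by rw [← h5, h3]; rfl
    rw [he, pow_succ, pow_mul, pow_two, hxx, one_pow, one_mul] at h6
    exact h6
  -- lifting a coincidence in `W` to a conjugacy in `G`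
  have key : ∀ x t'' : G, x ∈ P.N → x * x = 1 → t'' ∈ P.N → t'' * t'' = 1 →
      π P t'' = π P x → IsConj t'' x := by
    intro x t'' hxN hxx htN htt hπ
    have hh : x⁻¹ * t'' ∈ P.B ⊓ P.N :=
      Subgroup.mem_inf.2 ⟨(π_eq_iff hxN htN).1 hπ.symm, P.N.mul_mem (P.N.inv_mem hxN) htN⟩
    have hnorm : ∀ h ∈ P.B ⊓ P.N, x * h * x⁻¹ ∈ P.B ⊓ P.N := by
      intro h hh'
      exact Subgroup.mem_inf.2 ⟨P.conj_mem x hxN h hh',
        P.N.mul_mem (P.N.mul_mem hxN (Subgroup.mem_inf.1 hh').2) (P.N.inv_mem hxN)⟩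
    obtain ⟨k, _, hk⟩ := invol_lift_conj (P.B ⊓ P.N) hab hodd x t'' hxx htt hnorm hh
    exact (isConj_iff.2 ⟨k, hk⟩).symm
  -- the image in the Weyl group
  have hww : π P t' * π P t' = 1 := by
    rw [← π_mul hg hg, ht'2, π_one]
  have hw1 : π P t' ≠ 1 := by
    intro h
    have hB : t' ∈ P.B := (π_eq_one_iff hg).1 h
    exact ht'1 (hHodd t' ⟨hB, hg⟩ ht'2)
  have hSW : SW P = {π P a, π P b} := by
    unfold SW
    rw [hS, Set.image_pair]
  have hgen : Subgroup.closure ({π P a, π P b} : Set (W P)) = ⊤ := by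
    rw [← hSW]
    exact (genInv (P := P)).gen
  have hαα : π P a * π P a = 1 := π_S_sq haS
  have hββ : π P b * π P b = 1 := π_S_sq hbS
  rcases h4_dihedral_invol (π P a) (π P b) hαα hββ hord hgen (π P t') hww hw1 with
    ⟨u, hu⟩ | ⟨u, hu⟩ | hu
  · left
    obtain ⟨n, hnN, rfl⟩ := π_surj u
    have htN : n⁻¹ * t' * n ∈ P.N := mul_mem (mul_mem (inv_mem hnN) hg) hnN
    have htt : n⁻¹ * t' * n * (n⁻¹ * t' * n) = 1 := by
      calc n⁻¹ * t' * n * (n⁻¹ * t' * n) = n⁻¹ * (t' * t') * n := by group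
        _ = 1 := by rw [ht'2]; group
    have hπ : π P (n⁻¹ * t' * n) = π P a := by
      rw [π_mul (mul_mem (inv_mem hnN) hg) hnN, π_mul (inv_mem hnN) hg, π_inv hnN, hu]
      group
    have h1 := key a (n⁻¹ * t' * n) haN ha2 htN htt hπ
    have h2 : IsConj t' (n⁻¹ * t' * n) := isConj_iff.2 ⟨n⁻¹, by group⟩
    exact (hconj0.trans h2).trans h1
  · right; left
    obtain ⟨n, hnN, rfl⟩ := π_surj u
    have htN : n⁻¹ * t' * n ∈ P.N := mul_mem (mul_mem (inv_mem hnN) hg) hnN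
    have htt : n⁻¹ * t' * n * (n⁻¹ * t' * n) = 1 := by
      calc n⁻¹ * t' * n * (n⁻¹ * t' * n) = n⁻¹ * (t' * t') * n := by group
        _ = 1 := by rw [ht'2]; group
    have hπ : π P (n⁻¹ * t' * n) = π P b := by
      rw [π_mul (mul_mem (inv_mem hnN) hg) hnN, π_mul (inv_mem hnN) hg, π_inv hnN, hu]
      group
    have h1 := key b (n⁻¹ * t' * n) hbN hb2 htN htt hπ
    have h2 : IsConj t' (n⁻¹ * t' * n) := isConj_iff.2 ⟨n⁻¹, by group⟩
    exact (hconj0.trans h2).trans h1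
  · right; right
    have hπ : π P t' = π P ((a * b) ^ 3) := by
      rw [hu]
      have e3 : (a * b) ^ 3 = (a * b) * (a * b) * (a * b) := by
        rw [pow_succ, pow_succ, pow_one]
      rw [e3, π_mul (mul_mem habN habN) habN, π_mul habN habN, π_mul haN hbN, pow_succ, pow_succ,
        pow_one]
    exact hconj0.trans (key ((a * b) ^ 3) t' hab3N h02 hg ht'2 hπ)

end Cfsg.Agent.Lib.Helper4.D4Inv
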