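import Mathlib
import Cfsg.Agent.Lib.Helper4.D4InvA2

set_option autoImplicit false
set_option linter.unusedVariables false

/-!
Generalisation of the D4INV unit A2 to a dihedral Weyl group of order `4k` (for the F4INV farm,
`k = 4`): at most three classes of involutions, represented by `a`, `b`, `(ab)^k`.
-/

namespace Cfsg.Agent.Lib.Helper4.D4Inv

open Cfsg Cfsg.Agent.Lib.Helper4.BNAbstract Cfsg.Agent.Lib.Helper4.BNPair

section dihedral

variable {W : Type*} [Group W]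

/-- the involutions of a dihedral group of order `4k` -/
theorem h4_dihedral_invol_gen (α β : W) (hα : α * α = 1) (hβ : β * β = 1)
    (k : ℕ) (hord : orderOf (α * β) = 2 * k) (hgen : Subgroup.closure ({α, β} : Set W) = ⊤)
    (w : W) (hw : w * w = 1) (hw1 : w ≠ 1) :
    (∃ u : W, w = u * α * u⁻¹) ∨ (∃ u : W, w = u * β * u⁻¹) ∨ w = (α * β) ^ k := by
  have hαi : α⁻¹ = α := inv_eq_of_mul_eq_one_left hα
  obtain ⟨e, he | he⟩ := h4_dihedral_form α β hα hβ hgen w
  · -- a rotation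
    right; right
    have h2 : (α * β) ^ (e + e) = 1 := by rw [zpow_add, ← he]; exact hw
    have hdvd : ((orderOf (α * β) : ℕ) : ℤ) ∣ e + e := orderOf_dvd_iff_zpow_eq_one.2 h2
    rw [hord] at hdvd
    have hk0 : k ≠ 0 := by
      intro h0
      rw [h0, mul_zero] at hord
      -- `orderOf = 0` and `e + e = 0`
      rw [h0] at hdvd
      simp only [Nat.cast_ofNat, mul_zero, Nat.cast_zero, zero_dvd_iff] at hdvd
      have : e = 0 := by omega
      apply hw1
      rw [he, this, zpow_zero]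
    have h3 : (k : ℤ) ∣ e := by
      obtain ⟨c, hc⟩ := hdvd
      refine ⟨c, ?_⟩
      push_cast at hc
      have hk' : (k : ℤ) ≠ 0 := by exact_mod_cast hk0
      have : (2 : ℤ) * e = 2 * (k * c) := by linarith
      linarith
    obtain ⟨j, rfl⟩ := h3
    have h6 : (α * β) ^ ((2 * k : ℕ) : ℤ) = 1 := by
      have := pow_orderOf_eq_one (α * β)
      rw [hord] at this
      rw [← this]
      exact zpow_natCast (α * β) (2 * k)
    rcases Int.even_or_odd j with ⟨i, hi⟩ | ⟨i, hi⟩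
    · exfalso
      apply hw1
      rw [he, hi]
      have : (k : ℤ) * (i + i) = ((2 * k : ℕ) : ℤ) * i := by push_cast; ring
      rw [this, zpow_mul, h6, one_zpow]
    · rw [he, hi]
      have : (k : ℤ) * (2 * i + 1) = ((2 * k : ℕ) : ℤ) * i + (k : ℤ) := by push_cast; ring
      rw [this, zpow_add, zpow_mul, h6, one_zpow, one_mul]
      exact zpow_natCast (α * β) k
  · rcases Int.even_or_odd e with ⟨j, hj⟩ | ⟨j, hj⟩
    · left
      refine ⟨(α * β) ^ j, ?_⟩
      rw [he, hj, ← zpow_neg]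
      calc (α * β) ^ (j + j) * α = (α * β) ^ j * ((α * β) ^ (- -j) * α) := by
            rw [neg_neg, ← mul_assoc, ← zpow_add]
        _ = (α * β) ^ j * (α * (α * β) ^ (-j)) := by rw [h4_alpha_rho α β hα hβ (-j)]
        _ = (α * β) ^ j * α * (α * β) ^ (-j) := by group
    · right; left
      refine ⟨(α * β) ^ j * α, ?_⟩
      rw [he, hj, mul_inv_rev, hαi, ← zpow_neg]
      calc (α * β) ^ (2 * j + 1) * α
          = (α * β) ^ j * (α * β) * ((α * β) ^ (- -j) * α) := by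
            rw [neg_neg]
            have : (2 : ℤ) * j + 1 = j + 1 + j := by ring
            rw [this, zpow_add, zpow_add, zpow_one]
            group
        _ = (α * β) ^ j * (α * β) * (α * (α * β) ^ (-j)) := by
            rw [h4_alpha_rho α β hα hβ (-j)]
        _ = (α * β) ^ j * α * β * (α * (α * β) ^ (-j)) := by group

end dihedral

variable {G : Type*} [Group G]

/-- `π` commutes with powers of elements of `N` -/
theorem h4_π_pow (P : BNPair G) {n : G} (hn : n ∈ P.N) (k : ℕ) : π P (n ^ k) = (π P n) ^ k := by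
  induction k with
  | zero => simp [π_one]
  | succ k ih => rw [pow_succ, pow_succ, π_mul (P.N.pow_mem hn k) hn, ih]

/-- Unit A2 for a dihedral Weyl group of order `4k`: at most three classes of involutions,
represented by `a`, `b`, `(ab)^k`. -/
theorem invol_three_classes_gen (P : BNPair G) (a b : G) (hS : P.S = {a, b}) (k : ℕ)
    (hord : orderOf (π P a * π P b) = 2 * k)
    (hconjN : ∀ t : G, t * t = 1 → ∃ g : G, g * t * g⁻¹ ∈ P.N)
    [Finite ↥(P.B ⊓ P.N)] (hab : ∀ x ∈ P.B ⊓ P.N, ∀ y ∈ P.B ⊓ P.N, x * y = y * x)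
    (hodd : Odd (Nat.card ↥(P.B ⊓ P.N)))
    (ha2 : a * a = 1) (hb2 : b * b = 1) (h02 : (a * b) ^ k * (a * b) ^ k = 1)
    (t : G) (ht : t * t = 1) (ht1 : t ≠ 1) :
    IsConj t a ∨ IsConj t b ∨ IsConj t ((a * b) ^ k) := by
  have haS : a ∈ P.S := by rw [hS]; simp
  have hbS : b ∈ P.S := by rw [hS]; simp
  have haN : a ∈ P.N := S_mem_N haS
  have hbN : b ∈ P.N := S_mem_N hbS
  have habN : a * b ∈ P.N := mul_mem haN hbN
  have hab3N : (a * b) ^ k ∈ P.N := P.N.pow_mem habN k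
  obtain ⟨g, hg⟩ := hconjN t ht
  set t' : G := g * t * g⁻¹ with ht'
  have ht'2 : t' * t' = 1 := by
    rw [ht']
    calc g * t * g⁻¹ * (g * t * g⁻¹) = g * (t * t) * g⁻¹ := by group
      _ = 1 := by rw [ht]; group
  have ht'1 : t' ≠ 1 := by
    intro h
    apply ht1
    have : t = g⁻¹ * t' * g := by rw [ht']; group
    rw [this, h]; group
  have hconj0 : IsConj t t' := isConj_iff.2 ⟨g, rfl⟩
  have hHodd : ∀ x ∈ P.B ⊓ P.N, x * x = 1 → x = 1 := by
    intro x hx hxx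
    obtain ⟨e, he⟩ := hodd
    have h3 : (⟨x, hx⟩ : ↥(P.B ⊓ P.N)) ^ Nat.card ↥(P.B ⊓ P.N) = 1 := pow_card_eq_one'
    have h5 : ((⟨x, hx⟩ : ↥(P.B ⊓ P.N)) ^ Nat.card ↥(P.B ⊓ P.N) : ↥(P.B ⊓ P.N)).1
        = x ^ Nat.card ↥(P.B ⊓ P.N) := rfl
    have h6 : x ^ Nat.card ↥(P.B ⊓ P.N) = 1 := by rw [← h5, h3]; rfl
    rw [he, pow_succ, pow_mul, pow_two, hxx, one_pow, one_mul] at h6
    exact h6
  have key : ∀ x t'' : G, x ∈ P.N → x * x = 1 → t'' ∈ P.N → t'' * t'' = 1 →
      π P t'' = π P x → IsConj t'' x := by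
    intro x t'' hxN hxx htN htt hπ
    have hh : x⁻¹ * t'' ∈ P.B ⊓ P.N :=
      Subgroup.mem_inf.2 ⟨(π_eq_iff hxN htN).1 hπ.symm, P.N.mul_mem (P.N.inv_mem hxN) htN⟩
    have hnorm : ∀ h ∈ P.B ⊓ P.N, x * h * x⁻¹ ∈ P.B ⊓ P.N := by
      intro h hh'
      exact Subgroup.mem_inf.2 ⟨P.conj_mem x hxN h hh',
        P.N.mul_mem (P.N.mul_mem hxN (Subgroup.mem_inf.1 hh').2) (P.N.inv_mem hxN)⟩
    obtain ⟨c, _, hc⟩ := invol_lift_conj (P.B ⊓ P.N) hab hodd x t'' hxx htt hnorm hh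
    exact (isConj_iff.2 ⟨c, hc⟩).symm
  have hww : π P t' * π P t' = 1 := by
    rw [← π_mul hg hg, ht'2, π_one]
  have hw1 : π P t' ≠ 1 := by
    intro h
    have hB : t' ∈ P.B := (π_eq_one_iff hg).1 h
    exact ht'1 (hHodd t' ⟨hB, hg⟩ ht'2)
  have hSW : SW P = {π P a, π P b} := by
    unfold SW
    rw [hS, Set.image_pair]
  have hgen : Subgroup.closure ({π P a, π P b} : Set (W P)) = ⊤ := by
    rw [← hSW]
    exact (genInv (P := P)).gen
  have hαα : π P a * π P a = 1 := π_S_sq haS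
  have hββ : π P b * π P b = 1 := π_S_sq hbS
  rcases h4_dihedral_invol_gen (π P a) (π P b) hαα hββ k hord hgen (π P t') hww hw1 with
    ⟨u, hu⟩ | ⟨u, hu⟩ | hu
  · left
    obtain ⟨n, hnN, rfl⟩ := π_surj u
    have htN : n⁻¹ * t' * n ∈ P.N := mul_mem (mul_mem (inv_mem hnN) hg) hnN
    have htt : n⁻¹ * t' * n * (n⁻¹ * t' * n) = 1 := by
      calc n⁻¹ * t' * n * (n⁻¹ * t' * n) = n⁻¹ * (t' * t') * n := by group
        _ = 1 := by rw [ht'2]; group
    have hπ : π P (n⁻¹ * t' * n) = π P a := by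
      rw [π_mul (mul_mem (inv_mem hnN) hg) hnN, π_mul (inv_mem hnN) hg, π_inv hnN, hu]
      group
    have h1 := key a (n⁻¹ * t' * n) haN ha2 htN htt hπ
    have h2 : IsConj t' (n⁻¹ * t' * n) := isConj_iff.2 ⟨n⁻¹, by group⟩
    exact (hconj0.trans h2).trans h1
  · right; left
    obtain ⟨n, hnN, rfl⟩ := π_surj u
    have htN : n⁻¹ * t' * n ∈ P.N := mul_mem (mul_mem (inv_mem hnN) hg) hnN
    have htt : n⁻¹ * t' * n * (n⁻¹ * t' * n) = 1 := by
      calc n⁻¹ * t' * n * (n⁻¹ * t' * n) = n⁻¹ * (t' * t') * n := by group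
        _ = 1 := by rw [ht'2]; group
    have hπ : π P (n⁻¹ * t' * n) = π P b := by
      rw [π_mul (mul_mem (inv_mem hnN) hg) hnN, π_mul (inv_mem hnN) hg, π_inv hnN, hu]
      group
    have h1 := key b (n⁻¹ * t' * n) hbN hb2 htN htt hπ
    have h2 : IsConj t' (n⁻¹ * t' * n) := isConj_iff.2 ⟨n⁻¹, by group⟩
    exact (hconj0.trans h2).trans h1
  · right; right
    have hπ : π P t' = π P ((a * b) ^ k) := by
      rw [hu, h4_π_pow P habN k, π_mul haN hbN]
    exact hconj0.trans (key ((a * b) ^ k) t' hab3N h02 hg ht'2 hπ)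

end Cfsg.Agent.Lib.Helper4.D4Inv
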