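import Mathlib
import Cfsg.Agent.Lib.Helper4.BNPair2

set_option autoImplicit false

/-!
TWISTED-OUT farm, unit Babs: an automorphism of a group with a (B,N)-pair which maps the
rank-one parabolics `P_s ↦ P_{s'}`, `P_t ↦ P_{t'}` preserves "`s t = t s` in the Weyl group".
The invariant used: `s t = t s` in `W` iff the subgroups `P_s`, `P_t` are permutable.
-/

namespace Cfsg.Agent.Lib.Helper4.TwAut

open Cfsg Cfsg.Agent.Lib.Helper4.BNAbstract Cfsg.Agent.Lib.Helper4.BNPair

variable {G0 : Type*} [Group G0] (P : BNPair G0)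

/-- the elements of `⟨s⟩` have image `1` or `s` in the Weyl group -/
lemma h4_closure_singleton {s : G0} (hs : s ∈ P.S) {n : G0} (hn : n ∈ Subgroup.closure ({s} : Set G0)) :
    n ∈ P.N ∧ (π P n = 1 ∨ π P n = π P s) := by
  induction hn using Subgroup.closure_induction with
  | mem x hx =>
    have hx' : x = s := by simpa using hx
    subst hx'
    exact ⟨S_mem_N hs, Or.inr rfl⟩
  | one => exact ⟨one_mem _, Or.inl (π_one)⟩
  | mul x y _ _ hx hy =>
    refine ⟨mul_mem hx.1 hy.1, ?_⟩
    rw [π_mul hx.1 hy.1]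
    rcases hx.2 with h | h <;> rcases hy.2 with h' | h' <;> rw [h, h']
    · left; simp
    · right; simp
    · right; simp
    · left; exact π_S_sq hs
  | inv x _ hx =>
    refine ⟨inv_mem hx.1, ?_⟩
    rw [π_inv hx.1]
    rcases hx.2 with h | h <;> rw [h]
    · left; simp
    · right
      have := π_S_sq hs
      exact inv_eq_of_mul_eq_one_left this

/-- `P_s = B ∪ B s B` -/
lemma h4_mem_parabolic_singleton {s : G0} (hs : s ∈ P.S) (g : G0) :
    g ∈ P.parabolic {s} ↔ g ∈ P.B ∨ g ∈ C P s := by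
  have hJ : ({s} : Set G0) ⊆ P.S := by
    intro x hx
    have hx' : x = s := by simpa using hx
    subst hx'; exact hs
  constructor
  · intro hg
    obtain ⟨n, hn, hgn⟩ := (mem_parabolic_iff hJ g).1 hg
    obtain ⟨hnN, h | h⟩ := h4_closure_singleton P hs hn
    · left
      have hnB : n ∈ P.B := (π_eq_one_iff hnN).1 h
      rw [C_of_mem_B hnB] at hgn
      exact hgn
    · right
      rw [C_eq_of_π_eq hnN (S_mem_N hs) h] at hgn
      exact hgn
  · rintro (hg | hg)
    · exact B_le_parabolic _ hg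
    · exact C_subset_parabolic (Subgroup.subset_closure (Set.mem_singleton s)) hg

/-- permutability of two subgroups (one inclusion) -/
def h4Perm (X Y : Subgroup G0) : Prop :=
  ∀ x ∈ X, ∀ y ∈ Y, ∃ y' ∈ Y, ∃ x' ∈ X, x * y = y' * x'

lemma h4_self_mem_parabolic (s : G0) : s ∈ P.parabolic {s} :=
  closure_le_parabolic _ (Subgroup.subset_closure (Set.mem_singleton s))

/-- `s t = t s` in `W` iff `P_s P_t ⊆ P_t P_s` -/
lemma h4_comm_iff_perm {s t : G0} (hs : s ∈ P.S) (ht : t ∈ P.S) :
    s * t * s⁻¹ * t⁻¹ ∈ P.B ↔ h4Perm (P.parabolic {s}) (P.parabolic {t}) := by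
  constructor
  · intro hc x hx y hy
    rcases (h4_mem_parabolic_singleton P hs x).1 hx with hxB | hxC
    · exact ⟨x * y, mul_mem (B_le_parabolic _ hxB) hy, 1, one_mem _, by group⟩
    rcases (h4_mem_parabolic_singleton P ht y).1 hy with hyB | hyC
    · exact ⟨1, one_mem _, x * y, mul_mem hx (B_le_parabolic _ hyB), by group⟩
    rcases T3 hs (S_mem_N ht) hxC hyC with h | h
    · rw [mem_C] at h
      obtain ⟨b, hb, b', hb', e⟩ := h
      refine ⟨b * (s * t * s⁻¹ * t⁻¹) * t, ?_, s * b', ?_, ?_⟩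
      · exact mul_mem (mul_mem (B_le_parabolic _ hb) (B_le_parabolic _ hc)) (h4_self_mem_parabolic P t)
      · exact mul_mem (h4_self_mem_parabolic P s) (B_le_parabolic _ hb')
      · rw [e]; group
    · exact ⟨x * y, (h4_mem_parabolic_singleton P ht _).2 (Or.inr h), 1, one_mem _, by group⟩
  · intro hperm
    obtain ⟨y', hy', x', hx', e⟩ := hperm s (h4_self_mem_parabolic P s) t (h4_self_mem_parabolic P t)
    have hsN := S_mem_N hs
    have htN := S_mem_N ht
    -- the cell of `s * t`
    have hst : s * t ∈ Cw P (π P s * π P t) := by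
      rw [← π_mul hsN htN]
      exact mem_Cw_π (mul_mem hsN htN)
    -- the possible cells of `y' * x'`
    have hy'' : y' ∈ Cw P 1 ∨ y' ∈ Cw P (π P t) := by
      rcases (h4_mem_parabolic_singleton P ht y').1 hy' with h | h
      · left; rw [Cw_one]; exact h
      · right; rw [Cw_π htN]; exact h
    have hx'' : x' ∈ Cw P 1 ∨ x' ∈ Cw P (π P s) := by
      rcases (h4_mem_parabolic_singleton P hs x').1 hx' with h | h
      · left; rw [Cw_one]; exact h
      · right; rw [Cw_π hsN]; exact h
    have hcases : y' * x' ∈ Cw P 1 ∨ y' * x' ∈ Cw P (π P s) ∨ y' * x' ∈ Cw P (π P t) ∨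
        y' * x' ∈ Cw P (π P t * π P s) := by
      rcases hy'' with hy1 | hyt
      · rw [Cw_one] at hy1
        rcases hx'' with hx1 | hxs
        · left; rw [Cw_one] at hx1 ⊢; exact mul_mem hy1 hx1
        · right; left; exact Cw_closed_left hy1 hxs
      · rcases hx'' with hx1 | hxs
        · rw [Cw_one] at hx1
          right; right; left; exact Cw_closed_right hx1 hyt
        · rcases T3w (π_mem_SW ht) hyt hxs with h | h
          · right; right; right; exact h
          · right; left; exact h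
    rw [← e] at hcases
    have hss := π_S_sq hs
    have htt := π_S_sq ht
    have hcomm : π P s * π P t = π P t * π P s := by
      rcases hcases with h | h | h | h
      · have h1 := Cw_inj hst h
        -- then π s = π t
        have h2 : π P s = π P t := by
          calc π P s = π P s * (π P t * π P t) := by rw [htt, mul_one]
            _ = (π P s * π P t) * π P t := by rw [mul_assoc]
            _ = π P t := by rw [h1, one_mul]
        rw [h2]
      · have h1 := Cw_inj hst h
        have h2 : π P t = 1 := by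
          have := congrArg (fun w => (π P s)⁻¹ * w) h1
          simpa using this
        exact absurd h2 (π_S_ne_one ht)
      · have h1 := Cw_inj hst h
        have h2 : π P s = 1 := by
          have := congrArg (fun w => w * (π P t)⁻¹) h1
          simpa using this
        exact absurd h2 (π_S_ne_one hs)
      · exact Cw_inj hst h
    have hN : s * t * s⁻¹ * t⁻¹ ∈ P.N :=
      mul_mem (mul_mem (mul_mem hsN htN) (inv_mem hsN)) (inv_mem htN)
    rw [← π_eq_one_iff hN, π_mul (mul_mem (mul_mem hsN htN) (inv_mem hsN)) (inv_mem htN),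
      π_mul (mul_mem hsN htN) (inv_mem hsN), π_mul hsN htN, π_inv hsN, π_inv htN, hcomm]
    group

/-- transport of permutability along an isomorphism -/
lemma h4_perm_map (θ : G0 ≃* G0) {X Y X' Y' : Subgroup G0}
    (hX : X.map θ.toMonoidHom = X') (hY : Y.map θ.toMonoidHom = Y') :
    h4Perm X Y ↔ h4Perm X' Y' := by
  subst hX hY
  constructor
  · intro h x hx y hy
    obtain ⟨x0, hx0, rfl⟩ := Subgroup.mem_map.1 hx
    obtain ⟨y0, hy0, rfl⟩ := Subgroup.mem_map.1 hy
    obtain ⟨y1, hy1, x1, hx1, e⟩ := h x0 hx0 y0 hy0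
    refine ⟨θ y1, Subgroup.mem_map_of_mem _ hy1, θ x1, Subgroup.mem_map_of_mem _ hx1, ?_⟩
    change θ x0 * θ y0 = θ y1 * θ x1
    rw [← map_mul, ← map_mul, e]
  · intro h x hx y hy
    obtain ⟨y1, hy1, x1, hx1, e⟩ := h (θ x) (Subgroup.mem_map_of_mem _ hx) (θ y)
      (Subgroup.mem_map_of_mem _ hy)
    obtain ⟨y0, hy0, rfl⟩ := Subgroup.mem_map.1 hy1
    obtain ⟨x0, hx0, rfl⟩ := Subgroup.mem_map.1 hx1
    refine ⟨y0, hy0, x0, hx0, ?_⟩
    apply θ.injective
    rw [map_mul, map_mul]
    exact e

/-- Babs : an automorphism fixing `B` and mapping `P_s ↦ P_{s'}`, `P_t ↦ P_{t'}` preserves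
"`s t = t s` in `W`". -/
theorem commute_iff_of_map {G0 : Type*} [Group G0] (P : BNPair G0) (θ : G0 ≃* G0)
    (hB : P.B.map θ.toMonoidHom = P.B) (s t s' t' : G0) (hs : s ∈ P.S) (ht : t ∈ P.S)
    (hs' : s' ∈ P.S) (ht' : t' ∈ P.S)
    (h1 : (P.parabolic {s}).map θ.toMonoidHom = P.parabolic {s'})
    (h2 : (P.parabolic {t}).map θ.toMonoidHom = P.parabolic {t'}) :
    (s * t * s⁻¹ * t⁻¹ ∈ P.B ↔ s' * t' * s'⁻¹ * t'⁻¹ ∈ P.B) := by
  have _ := hB
  rw [h4_comm_iff_perm P hs ht, h4_comm_iff_perm P hs' ht']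
  exact h4_perm_map θ h1 h2

end Cfsg.Agent.Lib.Helper4.TwAut
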