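import Mathlib
import Cfsg.Agent.Lib.Helper4.AutB1a
import Cfsg.Agent.Lib.Helper4.TwAutBabs

set_option autoImplicit false
set_option linter.unusedVariables false

/-!
F4OUT farm, unit BORELN, abstract part: in a group with a (B,N)-pair of rank two whose two
minimal parabolics meet a `θ`-invariant subgroup `V` in subgroups of different orders, an
automorphism `θ` preserving `B` and `V` preserves both minimal parabolics and both rank-one
cells `B s B`.
-/

namespace Cfsg.Agent.Lib.Helper4.F4Out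

open Cfsg Cfsg.Agent.Lib.Helper4.BNAbstract Cfsg.Agent.Lib.Helper4.BNPair

variable {Γ : Type*} [Group Γ]

/-- `θ V = V` as an image -/
theorem h4_map_eq_of_mem_iff (θ : Γ ≃* Γ) (V : Subgroup Γ) (hV : ∀ g, θ g ∈ V ↔ g ∈ V) :
    V.map θ.toMonoidHom = V := by
  ext x
  rw [Subgroup.mem_map]
  constructor
  · rintro ⟨y, hy, rfl⟩
    exact (hV y).2 hy
  · intro hx
    refine ⟨θ.symm x, ?_, by simp⟩
    rw [← hV]
    simpa using hx

/-- the minimal parabolic `P_{s₁}` is preserved when the traces on `V` have different orders -/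
theorem h4_parabolic_map_eq [Finite Γ] (P : BNPair Γ) (θ : Γ ≃* Γ)
    (hB : P.B.map θ.toMonoidHom = P.B) (V : Subgroup Γ) (hV : ∀ g, θ g ∈ V ↔ g ∈ V)
    (s₁ s₂ : Γ) (hs₁ : s₁ ∈ P.S) (hS : ∀ s ∈ P.S, s = s₁ ∨ s = s₂)
    (hcard : Nat.card ↥(P.parabolic {s₁} ⊓ V) ≠ Nat.card ↥(P.parabolic {s₂} ⊓ V)) :
    (P.parabolic {s₁}).map θ.toMonoidHom = P.parabolic {s₁} := by
  obtain ⟨s', hs'S, hmap⟩ := Cfsg.Agent.Lib.Helper4.AutB1.h4_exists_singleton P θ hB s₁ hs₁
  rcases hS s' hs'S with rfl | rfl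
  · exact hmap
  · exfalso
    apply hcard
    have h1 : (P.parabolic {s₁} ⊓ V).map θ.toMonoidHom = P.parabolic {s'} ⊓ V := by
      rw [Subgroup.map_inf _ _ _ θ.injective, hmap, h4_map_eq_of_mem_iff θ V hV]
    rw [← h1]
    exact (Subgroup.card_map_of_injective θ.injective).symm

/-- `B ∩ B s B = ∅` -/
theorem h4_not_mem_C_of_mem_B (P : BNPair Γ) {s : Γ} (hs : s ∈ P.S) {g : Γ} (hg : g ∈ P.B) :
    g ∉ C P s := by
  intro h
  rw [mem_C] at h
  obtain ⟨b, hb, b', hb', e⟩ := h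
  apply S_not_mem_B hs
  have : s = b⁻¹ * g * b'⁻¹ := by rw [e]; group
  rw [this]
  exact mul_mem (mul_mem (inv_mem hb) hg) (inv_mem hb')

/-- `g ∈ B s B ↔ g ∈ P_s ∖ B` -/
theorem h4_mem_C_iff (P : BNPair Γ) {s : Γ} (hs : s ∈ P.S) (g : Γ) :
    g ∈ C P s ↔ g ∈ P.parabolic {s} ∧ g ∉ P.B := by
  rw [Cfsg.Agent.Lib.Helper4.TwAut.h4_mem_parabolic_singleton P hs]
  constructor
  · intro h
    exact ⟨Or.inr h, fun hb => h4_not_mem_C_of_mem_B P hs hb h⟩
  · rintro ⟨h | h, hnb⟩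
    · exact absurd h hnb
    · exact h

/-- an automorphism preserving `B` and `P_s` preserves the cell `B s B` -/
theorem h4_cell_iff_of_map (P : BNPair Γ) (θ : Γ ≃* Γ) (hB : ∀ g, θ g ∈ P.B ↔ g ∈ P.B)
    {s : Γ} (hs : s ∈ P.S) (hmap : (P.parabolic {s}).map θ.toMonoidHom = P.parabolic {s})
    (g : Γ) : θ g ∈ C P s ↔ g ∈ C P s := by
  rw [h4_mem_C_iff P hs, h4_mem_C_iff P hs, hB]
  have : θ g ∈ P.parabolic {s} ↔ g ∈ P.parabolic {s} := by
    conv_lhs => rw [← hmap]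
    exact Subgroup.mem_map_iff_mem (f := θ.toMonoidHom) θ.injective
  rw [this]

end Cfsg.Agent.Lib.Helper4.F4Out
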