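import Mathlib
import Cfsg.Agent.Lib.Helper1.F4Out.Defs
import Cfsg.Agent.Lib.Helper5.F4T.BN
import Cfsg.Agent.Lib.Helper4.F4OutBorelNa

set_option autoImplicit false
set_option linter.unusedVariables false
set_option linter.unusedSectionVars false

/-!
F4OUT farm, unit BORELN, `²F₄`-part in "_of" form: the facts of the units S1, S2, S4, CELLS,
NEGCELL and `y_J ∈ B ∪ B n_J B` are hypotheses here.
-/

namespace Cfsg.Agent.Lib.Helper4.F4Out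

open Cfsg Cfsg.Lie Cfsg.Agent.Lib.Helper5.ChevSym Cfsg.Agent.Lib.Helper5.ChevStruct
  Cfsg.Agent.Lib.Helper5.TwX Cfsg.Agent.Lib.Helper5.F4T Cfsg.Agent.Lib.Helper5.TwAut
  Cfsg.Agent.Lib.Helper1.F4Out Cfsg.Agent.Lib.Helper4.BNPair

variable {K : Type*} [Field K] [Fintype K] [CharP K 2] (m : ℕ)
  (hq : ∀ x : K, x ^ 2 ^ (2 * m + 1) = x)

/-- the `(B, N)`-pair of `²F₄(q)` -/
noncomputable def h4bn : Cfsg.BNPair ↥(Cfsg.Agent.Lib.Helper5.F4T.fixG (K := K) m) :=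
  bnPairX chevF4 hF4 gF4 orbsF4 (Cfsg.Agent.Lib.Helper5.F4T.fixG (K := K) m) (hypX_F4 m hq)

/-- the rank-one cell of `GL` attached to `n` -/
def h4Cell (n g : GL chevF4.Idx K) : Prop :=
  ∃ b₁ ∈ chevF4.borelSubgroup K, ∃ b₂ ∈ chevF4.borelSubgroup K, g = b₁ * n * b₂

theorem h4_mem_B_iff (x : ↥(Cfsg.Agent.Lib.Helper5.F4T.fixG (K := K) m)) :
    x ∈ (h4bn m hq).B ↔ (x : GL chevF4.Idx K) ∈ chevF4.borelSubgroup K := by
  have h0 : (h4bn m hq).B = (chevF4.borelSubgroup K ⊓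
      Cfsg.Agent.Lib.Helper5.F4T.fixG (K := K) m).subgroupOf _ := rfl
  rw [h0, Subgroup.mem_subgroupOf, Subgroup.mem_inf]
  exact ⟨fun h => h.1, fun h => ⟨h, x.2⟩⟩

/-- the cell of `G1` is the trace of the cell of `GL` -/
theorem h4_mem_C_iff_cell (n : GL chevF4.Idx K)
    (hn : n ∈ Cfsg.Agent.Lib.Helper5.F4T.fixG (K := K) m)
    (hcell : ∀ g ∈ Cfsg.Agent.Lib.Helper5.F4T.fixG (K := K) m, h4Cell n g →
      ∃ c ∈ chevF4.borelSubgroup K ⊓ Cfsg.Agent.Lib.Helper5.F4T.fixG (K := K) m,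
      ∃ x ∈ chevF4.borelSubgroup K ⊓ Cfsg.Agent.Lib.Helper5.F4T.fixG (K := K) m, g = c * n * x)
    (x : ↥(Cfsg.Agent.Lib.Helper5.F4T.fixG (K := K) m)) :
    x ∈ C (h4bn m hq) ⟨n, hn⟩ ↔ h4Cell n (x : GL chevF4.Idx K) := by
  rw [mem_C]
  constructor
  · rintro ⟨b, hb, b', hb', e⟩
    refine ⟨b, (h4_mem_B_iff m hq b).1 hb, b', (h4_mem_B_iff m hq b').1 hb', ?_⟩
    rw [e]
    rfl
  · intro h
    obtain ⟨c, hc, y, hy, e⟩ := hcell x x.2 h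
    refine ⟨⟨c, (Subgroup.mem_inf.1 hc).2⟩, (h4_mem_B_iff m hq _).2 (Subgroup.mem_inf.1 hc).1,
      ⟨y, (Subgroup.mem_inf.1 hy).2⟩, (h4_mem_B_iff m hq _).2 (Subgroup.mem_inf.1 hy).1, ?_⟩
    exact Subtype.ext e

/-- the trace of `V` on `G1` -/
def h4V : Subgroup ↥(Cfsg.Agent.Lib.Helper5.F4T.fixG (K := K) m) :=
  (chevF4.negUnipotent K).subgroupOf _

/-- the number of elements of `P_s ∩ V`, given a parametrisation -/
theorem h4_card_parabolic_inf_V {ι : Type*} (n : GL chevF4.Idx K)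
    (hn : n ∈ Cfsg.Agent.Lib.Helper5.F4T.fixG (K := K) m)
    (hnS : (⟨n, hn⟩ : ↥(Cfsg.Agent.Lib.Helper5.F4T.fixG (K := K) m)) ∈ (h4bn m hq).S)
    (hcell : ∀ g ∈ Cfsg.Agent.Lib.Helper5.F4T.fixG (K := K) m, h4Cell n g →
      ∃ c ∈ chevF4.borelSubgroup K ⊓ Cfsg.Agent.Lib.Helper5.F4T.fixG (K := K) m,
      ∃ x ∈ chevF4.borelSubgroup K ⊓ Cfsg.Agent.Lib.Helper5.F4T.fixG (K := K) m, g = c * n * x)
    (y : ι → GL chevF4.Idx K) (hyinj : Function.Injective y)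
    (hyG : ∀ i, y i ∈ Cfsg.Agent.Lib.Helper5.F4T.fixG (K := K) m)
    (hyV : ∀ i, y i ∈ chevF4.negUnipotent K)
    (hyP : ∀ i, y i ∈ chevF4.borelSubgroup K ∨ h4Cell n (y i))
    (hneg : ∀ g ∈ Cfsg.Agent.Lib.Helper5.F4T.fixG (K := K) m, g ∈ chevF4.negUnipotent K →
      (g ∈ chevF4.borelSubgroup K ∨ h4Cell n g) → ∃ i, g = y i) :
    Nat.card ↥((h4bn m hq).parabolic {(⟨n, hn⟩ : ↥(Cfsg.Agent.Lib.Helper5.F4T.fixG (K := K) m))}
      ⊓ h4V m) = Nat.card ι := by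
  have hmem : ∀ x : ↥(Cfsg.Agent.Lib.Helper5.F4T.fixG (K := K) m),
      x ∈ (h4bn m hq).parabolic {(⟨n, hn⟩ : ↥(Cfsg.Agent.Lib.Helper5.F4T.fixG (K := K) m))} ↔
      ((x : GL chevF4.Idx K) ∈ chevF4.borelSubgroup K ∨ h4Cell n (x : GL chevF4.Idx K)) := by
    intro x
    rw [Cfsg.Agent.Lib.Helper4.TwAut.h4_mem_parabolic_singleton (h4bn m hq) hnS, h4_mem_B_iff,
      h4_mem_C_iff_cell m hq n hn hcell]
  symm
  apply Nat.card_congr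
  refine Equiv.ofBijective (fun i => ⟨⟨y i, hyG i⟩, ?_⟩) ⟨?_, ?_⟩
  · refine Subgroup.mem_inf.2 ⟨(hmem _).2 (hyP i), ?_⟩
    unfold h4V
    rw [Subgroup.mem_subgroupOf]
    exact hyV i
  · intro i j hij
    apply hyinj
    have := congrArg (fun z => ((z : ↥((h4bn m hq).parabolic
      {(⟨n, hn⟩ : ↥(Cfsg.Agent.Lib.Helper5.F4T.fixG (K := K) m))} ⊓ h4V m)) :
      ↥(Cfsg.Agent.Lib.Helper5.F4T.fixG (K := K) m)).1) hij
    exact this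
  · rintro ⟨x, hx⟩
    obtain ⟨hxP, hxV⟩ := Subgroup.mem_inf.1 hx
    unfold h4V at hxV
    rw [Subgroup.mem_subgroupOf] at hxV
    obtain ⟨i, hi⟩ := hneg x x.2 hxV ((hmem x).1 hxP)
    refine ⟨i, ?_⟩
    apply Subtype.ext
    apply Subtype.ext
    exact hi.symm

end Cfsg.Agent.Lib.Helper4.F4Out
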