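import Mathlib
import Cfsg.Agent.Lib.Helper4.F4OutBorelNb

set_option autoImplicit false
set_option linter.unusedVariables false
set_option linter.unusedSectionVars false

/-!
F4OUT farm, unit BORELN, "_of" form: `borel_n1`, `borel_n2` from the bundle `H4Facts` of the
statements of the units S1, S2, S4, CELLS, NEGCELL, `y_J ∈ B ∪ B n_J B`.
-/

namespace Cfsg.Agent.Lib.Helper4.F4Out

open Cfsg Cfsg.Lie Cfsg.Agent.Lib.Helper5.ChevSym Cfsg.Agent.Lib.Helper5.ChevStruct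
  Cfsg.Agent.Lib.Helper5.TwX Cfsg.Agent.Lib.Helper5.F4T Cfsg.Agent.Lib.Helper5.TwAut
  Cfsg.Agent.Lib.Helper1.F4Out Cfsg.Agent.Lib.Helper4.BNPair

variable {K : Type*} [Field K] [Fintype K] [CharP K 2] (m : ℕ)
  (hq : ∀ x : K, x ^ 2 ^ (2 * m + 1) = x)

/-- the inputs from the other units -/
structure H4Facts : Prop where
  x1_mem_fix : ∀ t : K, x1 m t ∈ Cfsg.Agent.Lib.Helper5.F4T.fixG (K := K) m
  y1_mem_fix : ∀ t : K, y1 m t ∈ Cfsg.Agent.Lib.Helper5.F4T.fixG (K := K) m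
  x2_mem_fix : ∀ t u : K, x2 m t u ∈ Cfsg.Agent.Lib.Helper5.F4T.fixG (K := K) m
  y2_mem_fix : ∀ t u : K, y2 m t u ∈ Cfsg.Agent.Lib.Helper5.F4T.fixG (K := K) m
  x1_mem_pos : ∀ t : K, x1 m t ∈ chevF4.posUnipotent K
  y1_mem_neg : ∀ t : K, y1 m t ∈ chevF4.negUnipotent K
  x2_mem_pos : ∀ t u : K, x2 m t u ∈ chevF4.posUnipotent K
  y2_mem_neg : ∀ t u : K, y2 m t u ∈ chevF4.negUnipotent K
  n1_mem_fix : (n1 : GL chevF4.Idx K) ∈ Cfsg.Agent.Lib.Helper5.F4T.fixG (K := K) m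
  n2_mem_fix : (n2 : GL chevF4.Idx K) ∈ Cfsg.Agent.Lib.Helper5.F4T.fixG (K := K) m
  x1_add : ∀ s t : K, x1 m (s + t) = x1 m s * x1 m t
  x1_injective : Function.Injective (x1 (K := K) m)
  x2_mul : ∀ t u s v : K, x2 m t u * x2 m s v = x2 m (t + s) (u + v + s * ph m t)
  x2_injective : ∀ t u s v : K, x2 m t u = x2 m s v → t = s ∧ u = v
  n1_conj_x1 : ∀ t : K, n1 * x1 m t * (n1 : GL chevF4.Idx K)⁻¹ = y1 m t
  n2_conj_x2 : ∀ t u : K, n2 * x2 m t u * (n2 : GL chevF4.Idx K)⁻¹ = y2 m t u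
  cell_n1 : ∀ g b₁ b₂ : GL chevF4.Idx K, g ∈ Cfsg.Agent.Lib.Helper5.F4T.fixG (K := K) m →
    b₁ ∈ chevF4.borelSubgroup K → b₂ ∈ chevF4.borelSubgroup K → g = b₁ * n1 * b₂ →
    ∃ c ∈ chevF4.borelSubgroup K ⊓ Cfsg.Agent.Lib.Helper5.F4T.fixG m, ∃ t, g = c * n1 * x1 m t
  cell_n2 : ∀ g b₁ b₂ : GL chevF4.Idx K, g ∈ Cfsg.Agent.Lib.Helper5.F4T.fixG (K := K) m →
    b₁ ∈ chevF4.borelSubgroup K → b₂ ∈ chevF4.borelSubgroup K → g = b₁ * n2 * b₂ →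
    ∃ c ∈ chevF4.borelSubgroup K ⊓ Cfsg.Agent.Lib.Helper5.F4T.fixG m,
      ∃ t u, g = c * n2 * x2 m t u
  neg_cell_n1 : ∀ g : GL chevF4.Idx K, g ∈ Cfsg.Agent.Lib.Helper5.F4T.fixG (K := K) m →
    g ∈ chevF4.negUnipotent K →
    (g ∈ chevF4.borelSubgroup K ∨ ∃ b₁ ∈ chevF4.borelSubgroup K,
      ∃ b₂ ∈ chevF4.borelSubgroup K, g = b₁ * n1 * b₂) → ∃ t, g = y1 m t
  neg_cell_n2 : ∀ g : GL chevF4.Idx K, g ∈ Cfsg.Agent.Lib.Helper5.F4T.fixG (K := K) m →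
    g ∈ chevF4.negUnipotent K →
    (g ∈ chevF4.borelSubgroup K ∨ ∃ b₁ ∈ chevF4.borelSubgroup K,
      ∃ b₂ ∈ chevF4.borelSubgroup K, g = b₁ * n2 * b₂) → ∃ t u, g = y2 m t u
  y1_mem_cell : ∀ t : K, t ≠ 0 → ∃ b₁ ∈ chevF4.borelSubgroup K,
    ∃ b₂ ∈ chevF4.borelSubgroup K, y1 m t = b₁ * n1 * b₂
  y2_mem_cell : ∀ t u : K, (t ≠ 0 ∨ u ≠ 0) → ∃ b₁ ∈ chevF4.borelSubgroup K,
    ∃ b₂ ∈ chevF4.borelSubgroup K, y2 m t u = b₁ * n2 * b₂

variable {m}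

theorem H4Facts.x1_zero (F : H4Facts (K := K) m) : x1 m (0 : K) = 1 := by
  have := F.x1_add 0 0
  rw [add_zero] at this
  exact (mul_eq_left.1 this.symm)

theorem H4Facts.x2_zero (F : H4Facts (K := K) m) : x2 m (0 : K) 0 = 1 := by
  have := F.x2_mul 0 0 0 0
  simp only [add_zero, zero_mul] at this
  exact (mul_eq_left.1 this)

theorem H4Facts.y1_zero (F : H4Facts (K := K) m) : y1 m (0 : K) = 1 := by
  rw [← F.n1_conj_x1, F.x1_zero]; group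

theorem H4Facts.y2_zero (F : H4Facts (K := K) m) : y2 m (0 : K) 0 = 1 := by
  rw [← F.n2_conj_x2, F.x2_zero]; group

theorem H4Facts.y1_injective (F : H4Facts (K := K) m) : Function.Injective (y1 (K := K) m) := by
  intro a b h
  rw [← F.n1_conj_x1, ← F.n1_conj_x1] at h
  exact F.x1_injective (mul_left_cancel (mul_right_cancel h))

theorem H4Facts.y2_injective (F : H4Facts (K := K) m) :
    Function.Injective (fun p : K × K => y2 m p.1 p.2) := by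
  intro a b h
  simp only at h
  rw [← F.n2_conj_x2, ← F.n2_conj_x2] at h
  obtain ⟨h1, h2⟩ := F.x2_injective _ _ _ _ (mul_left_cancel (mul_right_cancel h))
  exact Prod.ext h1 h2

include hq in
theorem H4Facts.s1_mem (F : H4Facts (K := K) m) :
    (⟨n1, F.n1_mem_fix⟩ : ↥(Cfsg.Agent.Lib.Helper5.F4T.fixG (K := K) m)) ∈ (h4bn m hq).S :=
  ⟨[0, 3], by decide, rfl⟩

include hq in
theorem H4Facts.s2_mem (F : H4Facts (K := K) m) :
    (⟨n2, F.n2_mem_fix⟩ : ↥(Cfsg.Agent.Lib.Helper5.F4T.fixG (K := K) m)) ∈ (h4bn m hq).S :=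
  ⟨[1, 2, 1, 2], by decide, rfl⟩

include hq in
theorem H4Facts.S_cases (F : H4Facts (K := K) m)
    (s : ↥(Cfsg.Agent.Lib.Helper5.F4T.fixG (K := K) m)) (hs : s ∈ (h4bn m hq).S) :
    s = ⟨n1, F.n1_mem_fix⟩ ∨ s = ⟨n2, F.n2_mem_fix⟩ := by
  obtain ⟨J, hJ, e⟩ := hs
  have hJ' : J = [0, 3] ∨ J = [1, 2, 1, 2] := by
    unfold orbsF4 at hJ
    simpa using hJ
  rcases hJ' with rfl | rfl
  · left; exact Subtype.ext e
  · right; exact Subtype.ext e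

theorem H4Facts.hcell1 (F : H4Facts (K := K) m) :
    ∀ g ∈ Cfsg.Agent.Lib.Helper5.F4T.fixG (K := K) m, h4Cell n1 g →
      ∃ c ∈ chevF4.borelSubgroup K ⊓ Cfsg.Agent.Lib.Helper5.F4T.fixG (K := K) m,
      ∃ x ∈ chevF4.borelSubgroup K ⊓ Cfsg.Agent.Lib.Helper5.F4T.fixG (K := K) m,
        g = c * n1 * x := by
  rintro g hg ⟨b₁, hb₁, b₂, hb₂, e⟩
  obtain ⟨c, hc, t, e'⟩ := F.cell_n1 g b₁ b₂ hg hb₁ hb₂ e
  exact ⟨c, hc, x1 m t, Subgroup.mem_inf.2 ⟨pos_le_borel chevF4 (F.x1_mem_pos t),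
    F.x1_mem_fix t⟩, e'⟩

theorem H4Facts.hcell2 (F : H4Facts (K := K) m) :
    ∀ g ∈ Cfsg.Agent.Lib.Helper5.F4T.fixG (K := K) m, h4Cell n2 g →
      ∃ c ∈ chevF4.borelSubgroup K ⊓ Cfsg.Agent.Lib.Helper5.F4T.fixG (K := K) m,
      ∃ x ∈ chevF4.borelSubgroup K ⊓ Cfsg.Agent.Lib.Helper5.F4T.fixG (K := K) m,
        g = c * n2 * x := by
  rintro g hg ⟨b₁, hb₁, b₂, hb₂, e⟩
  obtain ⟨c, hc, t, u, e'⟩ := F.cell_n2 g b₁ b₂ hg hb₁ hb₂ e
  exact ⟨c, hc, x2 m t u, Subgroup.mem_inf.2 ⟨pos_le_borel chevF4 (F.x2_mem_pos t u),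
    F.x2_mem_fix t u⟩, e'⟩

include hq in
theorem H4Facts.card1 (F : H4Facts (K := K) m) :
    Nat.card ↥((h4bn m hq).parabolic
      {(⟨n1, F.n1_mem_fix⟩ : ↥(Cfsg.Agent.Lib.Helper5.F4T.fixG (K := K) m))} ⊓ h4V m)
      = Nat.card K := by
  apply h4_card_parabolic_inf_V m hq n1 F.n1_mem_fix (F.s1_mem hq) F.hcell1 (y1 m)
    F.y1_injective F.y1_mem_fix F.y1_mem_neg
  · intro t
    by_cases ht : t = 0
    · left; rw [ht, F.y1_zero]; exact one_mem _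
    · right; exact F.y1_mem_cell t ht
  · intro g hg hgV hgP
    exact F.neg_cell_n1 g hg hgV hgP

include hq in
theorem H4Facts.card2 (F : H4Facts (K := K) m) :
    Nat.card ↥((h4bn m hq).parabolic
      {(⟨n2, F.n2_mem_fix⟩ : ↥(Cfsg.Agent.Lib.Helper5.F4T.fixG (K := K) m))} ⊓ h4V m)
      = Nat.card (K × K) := by
  apply h4_card_parabolic_inf_V m hq n2 F.n2_mem_fix (F.s2_mem hq) F.hcell2
    (fun p : K × K => y2 m p.1 p.2) F.y2_injective (fun p => F.y2_mem_fix p.1 p.2)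
    (fun p => F.y2_mem_neg p.1 p.2)
  · rintro ⟨t, u⟩
    by_cases htu : t = 0 ∧ u = 0
    · left
      obtain ⟨rfl, rfl⟩ := htu
      simp only
      rw [F.y2_zero]; exact one_mem _
    · right
      apply F.y2_mem_cell t u
      by_contra hcon
      push Not at hcon
      exact htu hcon
  · intro g hg hgV hgP
    obtain ⟨t, u, e⟩ := F.neg_cell_n2 g hg hgV hgP
    exact ⟨(t, u), e⟩

include hq in
theorem H4Facts.card_ne (F : H4Facts (K := K) m) :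
    Nat.card ↥((h4bn m hq).parabolic
      {(⟨n1, F.n1_mem_fix⟩ : ↥(Cfsg.Agent.Lib.Helper5.F4T.fixG (K := K) m))} ⊓ h4V m)
    ≠ Nat.card ↥((h4bn m hq).parabolic
      {(⟨n2, F.n2_mem_fix⟩ : ↥(Cfsg.Agent.Lib.Helper5.F4T.fixG (K := K) m))} ⊓ h4V m) := by
  rw [F.card1 hq, F.card2 hq, Nat.card_prod]
  have h1 : 1 < Nat.card K := by
    rw [Nat.card_eq_fintype_card]; exact Fintype.one_lt_card
  intro h
  nlinarith

include hq in
/-- both minimal parabolics are preserved -/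
theorem H4Facts.map_parabolic (F : H4Facts (K := K) m)
    (θ : ↥(Cfsg.Agent.Lib.Helper5.F4T.fixG (K := K) m) ≃* ↥(Cfsg.Agent.Lib.Helper5.F4T.fixG (K := K) m))
    (hB : MapsT (Cfsg.Agent.Lib.Helper5.F4T.fixG (K := K) m) θ (chevF4.borelSubgroup K)
      (chevF4.borelSubgroup K))
    (hV : MapsT (Cfsg.Agent.Lib.Helper5.F4T.fixG (K := K) m) θ (chevF4.negUnipotent K)
      (chevF4.negUnipotent K)) :
    ((h4bn m hq).parabolic {(⟨n1, F.n1_mem_fix⟩ : ↥(Cfsg.Agent.Lib.Helper5.F4T.fixG (K := K) m))}).map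
        θ.toMonoidHom = (h4bn m hq).parabolic {⟨n1, F.n1_mem_fix⟩} ∧
    ((h4bn m hq).parabolic {(⟨n2, F.n2_mem_fix⟩ : ↥(Cfsg.Agent.Lib.Helper5.F4T.fixG (K := K) m))}).map
        θ.toMonoidHom = (h4bn m hq).parabolic {⟨n2, F.n2_mem_fix⟩} := by
  have : Finite ↥(Cfsg.Agent.Lib.Helper5.F4T.fixG (K := K) m) := inferInstance
  have hBmap : (h4bn m hq).B.map θ.toMonoidHom = (h4bn m hq).B := by
    have h0 : (h4bn m hq).B = (chevF4.borelSubgroup K ⊓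
        Cfsg.Agent.Lib.Helper5.F4T.fixG (K := K) m).subgroupOf _ := rfl
    rw [h0, Subgroup.inf_subgroupOf_right]
    exact (mapsT_iff_map _ θ _ _).1 hB
  have hVmem : ∀ g, θ g ∈ h4V (K := K) m ↔ g ∈ h4V (K := K) m := by
    intro g
    unfold h4V
    rw [Subgroup.mem_subgroupOf, Subgroup.mem_subgroupOf]
    exact hV g
  refine ⟨?_, ?_⟩
  · exact h4_parabolic_map_eq (h4bn m hq) θ hBmap (h4V m) hVmem _ _ (F.s1_mem hq)
      (F.S_cases hq) (F.card_ne hq)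
  · exact h4_parabolic_map_eq (h4bn m hq) θ hBmap (h4V m) hVmem _ _ (F.s2_mem hq)
      (fun s hs => (F.S_cases hq s hs).symm) (F.card_ne hq).symm

include hq in
/-- BORELN, first node, from the facts of the other units -/
theorem borel_n1_of (F : H4Facts (K := K) m)
    (θ : ↥(Cfsg.Agent.Lib.Helper5.F4T.fixG (K := K) m) ≃* ↥(Cfsg.Agent.Lib.Helper5.F4T.fixG (K := K) m))
    (hB : MapsT (Cfsg.Agent.Lib.Helper5.F4T.fixG (K := K) m) θ (chevF4.borelSubgroup K)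
      (chevF4.borelSubgroup K))
    (hV : MapsT (Cfsg.Agent.Lib.Helper5.F4T.fixG (K := K) m) θ (chevF4.negUnipotent K)
      (chevF4.negUnipotent K))
    (g : ↥(Cfsg.Agent.Lib.Helper5.F4T.fixG (K := K) m)) :
    (∃ b₁ ∈ chevF4.borelSubgroup K, ∃ b₂ ∈ chevF4.borelSubgroup K,
        ((θ g : ↥(Cfsg.Agent.Lib.Helper5.F4T.fixG (K := K) m)) : GL chevF4.Idx K) = b₁ * n1 * b₂) ↔
    (∃ b₁ ∈ chevF4.borelSubgroup K, ∃ b₂ ∈ chevF4.borelSubgroup K,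
        (g : GL chevF4.Idx K) = b₁ * n1 * b₂) := by
  have hBmem : ∀ x, θ x ∈ (h4bn m hq).B ↔ x ∈ (h4bn m hq).B := by
    intro x
    rw [h4_mem_B_iff, h4_mem_B_iff]
    exact hB x
  have h := h4_cell_iff_of_map (h4bn m hq) θ hBmem (F.s1_mem hq)
    (F.map_parabolic hq θ hB hV).1 g
  rw [h4_mem_C_iff_cell m hq n1 F.n1_mem_fix F.hcell1,
    h4_mem_C_iff_cell m hq n1 F.n1_mem_fix F.hcell1] at h
  exact h

include hq in
/-- BORELN, second node, from the facts of the other units -/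
theorem borel_n2_of (F : H4Facts (K := K) m)
    (θ : ↥(Cfsg.Agent.Lib.Helper5.F4T.fixG (K := K) m) ≃* ↥(Cfsg.Agent.Lib.Helper5.F4T.fixG (K := K) m))
    (hB : MapsT (Cfsg.Agent.Lib.Helper5.F4T.fixG (K := K) m) θ (chevF4.borelSubgroup K)
      (chevF4.borelSubgroup K))
    (hV : MapsT (Cfsg.Agent.Lib.Helper5.F4T.fixG (K := K) m) θ (chevF4.negUnipotent K)
      (chevF4.negUnipotent K))
    (g : ↥(Cfsg.Agent.Lib.Helper5.F4T.fixG (K := K) m)) :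
    (∃ b₁ ∈ chevF4.borelSubgroup K, ∃ b₂ ∈ chevF4.borelSubgroup K,
        ((θ g : ↥(Cfsg.Agent.Lib.Helper5.F4T.fixG (K := K) m)) : GL chevF4.Idx K) = b₁ * n2 * b₂) ↔
    (∃ b₁ ∈ chevF4.borelSubgroup K, ∃ b₂ ∈ chevF4.borelSubgroup K,
        (g : GL chevF4.Idx K) = b₁ * n2 * b₂) := by
  have hBmem : ∀ x, θ x ∈ (h4bn m hq).B ↔ x ∈ (h4bn m hq).B := by
    intro x
    rw [h4_mem_B_iff, h4_mem_B_iff]
    exact hB x
  have h := h4_cell_iff_of_map (h4bn m hq) θ hBmem (F.s2_mem hq)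
    (F.map_parabolic hq θ hB hV).2 g
  rw [h4_mem_C_iff_cell m hq n2 F.n2_mem_fix F.hcell2,
    h4_mem_C_iff_cell m hq n2 F.n2_mem_fix F.hcell2] at h
  exact h

end Cfsg.Agent.Lib.Helper4.F4Out
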