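import Mathlib
import Cfsg.Agent.Lib.Helper4.F4OutBorelNc
import Cfsg.Agent.Lib.Helper2.F4OutS1
import Cfsg.Agent.Lib.Helper2.F4OutS2
import Cfsg.Agent.Lib.Helper2.F4OutS4
import Cfsg.Agent.Lib.Helper5.F4OutCells
import Cfsg.Agent.Lib.Helper6.F4OutNegCell

set_option autoImplicit false
set_option linter.unusedVariables false
set_option linter.unusedSectionVars false

/-!
F4OUT farm, unit BORELN: an automorphism of `²F₄(q)` preserving `B ∩ G1` and `V ∩ G1`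
preserves the two double cosets `B n_J B`.
-/

namespace Cfsg.Agent.Lib.Helper4.F4Out

open Cfsg Cfsg.Lie Cfsg.Agent.Lib.Helper5.ChevSym Cfsg.Agent.Lib.Helper5.ChevStruct
  Cfsg.Agent.Lib.Helper5.TwX Cfsg.Agent.Lib.Helper5.F4T Cfsg.Agent.Lib.Helper5.TwAut
  Cfsg.Agent.Lib.Helper1.F4Out

variable {K : Type*} [Field K] [Fintype K] [CharP K 2] (m : ℕ)
  (hq : ∀ x : K, x ^ 2 ^ (2 * m + 1) = x)

include hq in
/-- the facts of the other units -/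
theorem h4_facts : H4Facts (K := K) m where
  x1_mem_fix := Cfsg.Agent.Lib.Helper2.F4Out.x1_mem_fix m hq
  y1_mem_fix := Cfsg.Agent.Lib.Helper2.F4Out.y1_mem_fix m hq
  x2_mem_fix := Cfsg.Agent.Lib.Helper2.F4Out.x2_mem_fix m hq
  y2_mem_fix := Cfsg.Agent.Lib.Helper2.F4Out.y2_mem_fix m hq
  x1_mem_pos := Cfsg.Agent.Lib.Helper2.F4Out.x1_mem_pos m
  y1_mem_neg := Cfsg.Agent.Lib.Helper2.F4Out.y1_mem_neg m
  x2_mem_pos := Cfsg.Agent.Lib.Helper2.F4Out.x2_mem_pos m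
  y2_mem_neg := Cfsg.Agent.Lib.Helper2.F4Out.y2_mem_neg m
  n1_mem_fix := Cfsg.Agent.Lib.Helper2.F4Out.n1_mem_fix m hq
  n2_mem_fix := Cfsg.Agent.Lib.Helper2.F4Out.n2_mem_fix m hq
  x1_add := Cfsg.Agent.Lib.Helper2.F4Out.x1_add m
  x1_injective := Cfsg.Agent.Lib.Helper2.F4Out.x1_injective m
  x2_mul := Cfsg.Agent.Lib.Helper2.F4Out.x2_mul m hq
  x2_injective := Cfsg.Agent.Lib.Helper2.F4Out.x2_injective m
  n1_conj_x1 := Cfsg.Agent.Lib.Helper2.F4Out.n1_conj_x1 m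
  n2_conj_x2 := Cfsg.Agent.Lib.Helper2.F4Out.n2_conj_x2 m
  cell_n1 := Cfsg.Agent.Lib.Helper5.F4Out.cell_n1 m hq
  cell_n2 := Cfsg.Agent.Lib.Helper5.F4Out.cell_n2 m hq
  neg_cell_n1 := Cfsg.Agent.Lib.Helper6.F4Out.neg_cell_n1 m hq
  neg_cell_n2 := Cfsg.Agent.Lib.Helper6.F4Out.neg_cell_n2 m hq
  y1_mem_cell := Cfsg.Agent.Lib.Helper6.F4Out.y1_mem_cell m hq
  y2_mem_cell := Cfsg.Agent.Lib.Helper6.F4Out.y2_mem_cell m hq

include hq in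
theorem borel_n1 (θ : ↥(fixG (K := K) m) ≃* ↥(fixG (K := K) m))
    (hB : MapsT (fixG (K := K) m) θ (chevF4.borelSubgroup K) (chevF4.borelSubgroup K))
    (hV : MapsT (fixG (K := K) m) θ (chevF4.negUnipotent K) (chevF4.negUnipotent K))
    (g : ↥(fixG (K := K) m)) :
    (∃ b₁ ∈ chevF4.borelSubgroup K, ∃ b₂ ∈ chevF4.borelSubgroup K,
        ((θ g : ↥(fixG (K := K) m)) : GL chevF4.Idx K) = b₁ * n1 * b₂) ↔
    (∃ b₁ ∈ chevF4.borelSubgroup K, ∃ b₂ ∈ chevF4.borelSubgroup K,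
        (g : GL chevF4.Idx K) = b₁ * n1 * b₂) :=
  borel_n1_of hq (h4_facts m hq) θ hB hV g

include hq in
theorem borel_n2 (θ : ↥(fixG (K := K) m) ≃* ↥(fixG (K := K) m))
    (hB : MapsT (fixG (K := K) m) θ (chevF4.borelSubgroup K) (chevF4.borelSubgroup K))
    (hV : MapsT (fixG (K := K) m) θ (chevF4.negUnipotent K) (chevF4.negUnipotent K))
    (g : ↥(fixG (K := K) m)) :
    (∃ b₁ ∈ chevF4.borelSubgroup K, ∃ b₂ ∈ chevF4.borelSubgroup K,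
        ((θ g : ↥(fixG (K := K) m)) : GL chevF4.Idx K) = b₁ * n2 * b₂) ↔
    (∃ b₁ ∈ chevF4.borelSubgroup K, ∃ b₂ ∈ chevF4.borelSubgroup K,
        (g : GL chevF4.Idx K) = b₁ * n2 * b₂) :=
  borel_n2_of hq (h4_facts m hq) θ hB hV g

end Cfsg.Agent.Lib.Helper4.F4Out
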