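import Mathlib

/-!
# Averaging idempotents for commuting families of operators, and trace tricks

General linear algebra used for lower bounds of representation degrees.
-/

set_option autoImplicit false
set_option linter.unusedSimpArgs false
set_option linter.unusedVariables false
set_option linter.style.haveILetI false

namespace Cfsg.Agent.Lib.Helper4.RepAvg

open Module

variable {V : Type*} [AddCommGroup V] [Module ℂ V] [FiniteDimensional ℂ V]

/-- The trace of an idempotent is the dimension of its range. -/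
theorem trace_idem (e : Module.End ℂ V) (he : e * e = e) :
    LinearMap.trace ℂ V e = (Module.finrank ℂ (LinearMap.range e) : ℂ) :=
  (LinearMap.IsIdempotentElem.isProj_range e he).trace

/-- An operator that is conjugate to a non-trivial scalar multiple of itself has trace zero. -/
theorem trace_eq_zero_of_conj {A B B' : Module.End ℂ V} {β : ℂ} (hβ : β ≠ 1) (hB : B' * B = 1)
    (h : B * A * B' = β • A) : LinearMap.trace ℂ V A = 0 := by
  have h1 : LinearMap.trace ℂ V (B * A * B') = LinearMap.trace ℂ V A := by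
    rw [LinearMap.trace_mul_comm, ← mul_assoc, hB, one_mul]
  rw [h, map_smul, smul_eq_mul] at h1
  have h2 : (β - 1) * LinearMap.trace ℂ V A = 0 := by linear_combination h1
  rcases mul_eq_zero.mp h2 with h3 | h3
  · exact absurd (sub_eq_zero.mp h3) hβ
  · exact h3

/-- A family of invertible operators that is orthogonal for the trace form is linearly
independent, so it has at most `(dim V)^2` members. -/
theorem card_le_sq_finrank {ι : Type*} [Fintype ι] (hV : Module.finrank ℂ V ≠ 0)
    (S S' : ι → Module.End ℂ V) (h1 : ∀ i, S' i * S i = 1)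
    (h0 : ∀ i j, i ≠ j → LinearMap.trace ℂ V (S' j * S i) = 0) :
    Fintype.card ι ≤ (Module.finrank ℂ V) ^ 2 := by
  classical
  have hli : LinearIndependent ℂ S := by
    rw [Fintype.linearIndependent_iff]
    intro c hc j
    have h2 : LinearMap.trace ℂ V (S' j * ∑ i, c i • S i) = 0 := by
      rw [hc, mul_zero, map_zero]
    rw [Finset.mul_sum, map_sum] at h2
    rw [Finset.sum_eq_single j] at h2
    · rw [mul_smul_comm, h1, map_smul, smul_eq_mul] at h2
      have h3 : LinearMap.trace ℂ V (1 : Module.End ℂ V) = (Module.finrank ℂ V : ℂ) :=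
        LinearMap.trace_one ℂ V
      rw [h3] at h2
      rcases mul_eq_zero.mp h2 with h4 | h4
      · exact h4
      · exact absurd (by exact_mod_cast h4) hV
    · intro i _ hij
      rw [mul_smul_comm, map_smul, h0 i j hij, smul_zero]
    · intro h; exact absurd (Finset.mem_univ j) h
  have := hli.fintype_card_le_finrank
  rw [Module.finrank_linearMap] at this
  rw [pow_two]
  exact this

section avg

variable {A : Type*} [AddCommGroup A] [Fintype A]

/-- The averaging operator `|A|⁻¹ Σ ψ(-a) E(a)`. -/
noncomputable def avg (E : A → Module.End ℂ V) (ψ : A → ℂ) : Module.End ℂ V :=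
  ((Fintype.card A : ℂ))⁻¹ • ∑ a, ψ (-a) • E a

theorem apply_mul_avg (E : A → Module.End ℂ V) (ψ : A → ℂ)
    (hE : ∀ a b, E (a + b) = E a * E b) (hψ : ∀ a b, ψ (a + b) = ψ a * ψ b) (c : A) :
    E c * avg E ψ = ψ c • avg E ψ := by
  have key : E c * ∑ a, ψ (-a) • E a = ψ c • ∑ a, ψ (-a) • E a := by
    rw [Finset.mul_sum, Finset.smul_sum]
    rw [← Equiv.sum_comp (Equiv.addLeft c) (fun a => ψ c • ψ (-a) • E a)]
    apply Finset.sum_congr rfl
    intro a _
    rw [Equiv.coe_addLeft, mul_smul_comm, ← hE, smul_smul, ← hψ]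
    have e1 : c + -(c + a) = -a := by abel
    rw [e1]
  unfold avg
  rw [mul_smul_comm, key, smul_comm]

theorem avg_mul_avg (E : A → Module.End ℂ V) (ψ : A → ℂ)
    (hE : ∀ a b, E (a + b) = E a * E b) (hψ : ∀ a b, ψ (a + b) = ψ a * ψ b) (hψ0 : ψ 0 = 1) :
    avg E ψ * avg E ψ = avg E ψ := by
  have hA : (Fintype.card A : ℂ) ≠ 0 := by
    exact_mod_cast Fintype.card_ne_zero
  have h1 : avg E ψ * avg E ψ
      = ((Fintype.card A : ℂ))⁻¹ • ((∑ a, ψ (-a) • E a) * avg E ψ) := by
    nth_rewrite 1 [avg]
    rw [smul_mul_assoc]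
  rw [h1, Finset.sum_mul]
  have : ∀ a ∈ (Finset.univ : Finset A), (ψ (-a) • E a) * avg E ψ = avg E ψ := by
    intro a _
    rw [smul_mul_assoc, apply_mul_avg E ψ hE hψ, smul_smul, ← hψ, neg_add_cancel, hψ0, one_smul]
  rw [Finset.sum_congr rfl this, Finset.sum_const, Finset.card_univ, ← Nat.cast_smul_eq_nsmul ℂ,
    smul_smul, inv_mul_cancel₀ hA, one_smul]

theorem commute_avg (E : A → Module.End ℂ V) (ψ : A → ℂ) (M : Module.End ℂ V)
    (hM : ∀ a, M * E a = E a * M) : M * avg E ψ = avg E ψ * M := by
  unfold avg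
  rw [mul_smul_comm, smul_mul_assoc, Finset.mul_sum, Finset.sum_mul]
  congr 1
  apply Finset.sum_congr rfl
  intro a _
  rw [mul_smul_comm, smul_mul_assoc, hM]

theorem trace_avg (E : A → Module.End ℂ V) (ψ : A → ℂ) :
    LinearMap.trace ℂ V (avg E ψ) =
      ((Fintype.card A : ℂ))⁻¹ * ∑ a, ψ (-a) * LinearMap.trace ℂ V (E a) := by
  unfold avg
  rw [map_smul, map_sum, smul_eq_mul]
  congr 1
  apply Finset.sum_congr rfl
  intro a _
  rw [map_smul, smul_eq_mul]

/-- On the range of the averaging operator, `E c` acts as the scalar `ψ c`. -/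
theorem apply_of_mem_range (E : A → Module.End ℂ V) (ψ : A → ℂ)
    (hE : ∀ a b, E (a + b) = E a * E b) (hψ : ∀ a b, ψ (a + b) = ψ a * ψ b) (c : A)
    {w : V} (hw : w ∈ LinearMap.range (avg E ψ)) : E c w = ψ c • w := by
  obtain ⟨v, rfl⟩ := hw
  have := congrArg (fun f : Module.End ℂ V => f v) (apply_mul_avg E ψ hE hψ c)
  simpa using this

/-- An operator commuting with the `E a` preserves the range of the averaging operator. -/
theorem mapsTo_range (E : A → Module.End ℂ V) (ψ : A → ℂ) (M : Module.End ℂ V)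
    (hM : ∀ a, M * E a = E a * M) {w : V} (hw : w ∈ LinearMap.range (avg E ψ)) :
    M w ∈ LinearMap.range (avg E ψ) := by
  obtain ⟨v, rfl⟩ := hw
  refine ⟨M v, ?_⟩
  have := congrArg (fun f : Module.End ℂ V => f v) (commute_avg E ψ M hM)
  simpa using this.symm

end avg

end Cfsg.Agent.Lib.Helper4.RepAvg
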