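import Mathlib
import Cfsg.Prelude.Def_LieExceptional
import Cfsg.Agent.S0326

/-!
# Suzuki groups (ovoid stabiliser model): field-level facts

`F` a finite field with `2^(2m+1)` elements, `th x = x^(2^(m+1))` the Tits endomorphism,
`ff x y = x*y + x^2 * th x + th y`.
-/

set_option autoImplicit false
set_option linter.unusedSimpArgs false
set_option linter.unusedVariables false

namespace Cfsg.Agent.Lib.Helper4.Suz

variable {F : Type*} [Field F]

/-- The Tits endomorphism `x ↦ x^(2^(m+1))`. -/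
def th (m : ℕ) (x : F) : F := x ^ (2 ^ (m + 1))

/-- The ovoid function. -/
def ff (m : ℕ) (x y : F) : F := x * y + x ^ 2 * th m x + th m y

theorem m2 (h2 : (2 : F) = 0) (a : F) : a * 2 = 0 := by rw [h2, mul_zero]

theorem m3 (h2 : (2 : F) = 0) (a : F) : a * 3 = a := by
  have : (3 : F) = 2 + 1 := by norm_num
  rw [this, h2]; ring

theorem m4 (h2 : (2 : F) = 0) (a : F) : a * 4 = 0 := by
  have : (4 : F) = 2 * 2 := by norm_num
  rw [this, h2]; simp

theorem add_self' (h2 : (2 : F) = 0) (a : F) : a + a = 0 := by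
  rw [← two_mul, h2, zero_mul]

theorem neg_eq' (h2 : (2 : F) = 0) (a : F) : -a = a := by
  rw [neg_eq_iff_add_eq_zero]; exact add_self' h2 a

theorem eq_of_add_eq_zero (h2 : (2 : F) = 0) {a b : F} (h : a + b = 0) : a = b := by
  have := eq_neg_of_add_eq_zero_left h
  rw [this, neg_eq' h2]

theorem add_eq_zero_iff' (h2 : (2 : F) = 0) {a b : F} : a + b = 0 ↔ a = b :=
  ⟨eq_of_add_eq_zero h2, fun h => by rw [h]; exact add_self' h2 b⟩

theorem sq_inj (h2 : (2 : F) = 0) {a b : F} (h : a ^ 2 = b ^ 2) : a = b := by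
  have : (a + b) ^ 2 = 0 := by
    have : (a + b) ^ 2 = a ^ 2 + b ^ 2 + a * b * 2 := by ring
    rw [this, m2 h2, h, add_zero]; exact add_self' h2 _
  have := pow_eq_zero_iff (two_ne_zero) |>.mp this
  exact eq_of_add_eq_zero h2 this

theorem th_zero (m : ℕ) : th m (0 : F) = 0 := by
  unfold th; exact zero_pow (by positivity)

theorem th_one (m : ℕ) : th m (1 : F) = 1 := by
  unfold th; exact one_pow _

theorem th_mul (m : ℕ) (x y : F) : th m (x * y) = th m x * th m y := by
  unfold th; exact mul_pow _ _ _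

theorem th_pow (m : ℕ) (x : F) (n : ℕ) : th m (x ^ n) = th m x ^ n := by
  unfold th; rw [← pow_mul, ← pow_mul, mul_comm]

theorem th_inv (m : ℕ) (x : F) : th m x⁻¹ = (th m x)⁻¹ := by
  unfold th; exact inv_pow _ _

theorem th_div (m : ℕ) (x y : F) : th m (x / y) = th m x / th m y := by
  unfold th; exact div_pow _ _ _

theorem th_eq_zero {m : ℕ} {x : F} (h : th m x = 0) : x = 0 := by
  unfold th at h
  exact pow_eq_zero_iff (by positivity) |>.mp h

theorem th_ne_zero {m : ℕ} {x : F} (h : x ≠ 0) : th m x ≠ 0 := fun h' => h (th_eq_zero h')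

theorem th_ne_zero' {m : ℕ} {x : F} (h : x ≠ 0) : th m x ≠ 0 := by
  unfold th; exact pow_ne_zero _ h

theorem ff_zero_zero (m : ℕ) : ff m (0 : F) 0 = 0 := by
  simp [ff, th_zero]

theorem ff_zero_left (m : ℕ) (y : F) : ff m (0 : F) y = th m y := by
  simp [ff, th_zero]


section finite

variable [Fintype F] {m : ℕ}

theorem two_eq_zero (hF : Fintype.card F = 2 ^ (2 * m + 1)) : (2 : F) = 0 := by
  obtain ⟨p, hp⟩ := CharP.exists F
  haveI := hp
  haveI : Fact p.Prime := ⟨CharP.char_is_prime F p⟩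
  obtain ⟨n, hn, hcard⟩ := FiniteField.card F p
  have h2 : p = 2 := by
    have hdvd : p ∣ 2 ^ (2 * m + 1) := by
      rw [← hF, hcard]
      exact dvd_pow_self _ n.ne_zero
    exact (Nat.prime_dvd_prime_iff_eq hn Nat.prime_two).mp (hn.dvd_of_dvd_pow hdvd)
  subst h2
  exact_mod_cast CharP.cast_eq_zero F 2

theorem th_add (hF : Fintype.card F = 2 ^ (2 * m + 1)) (x y : F) :
    th m (x + y) = th m x + th m y := by
  haveI : CharP F 2 := CharTwo.of_one_ne_zero_of_two_eq_zero one_ne_zero (two_eq_zero hF)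
  unfold th
  exact add_pow_char_pow x y 2 (m + 1)

theorem th_th (hF : Fintype.card F = 2 ^ (2 * m + 1)) (x : F) : th m (th m x) = x ^ 2 := by
  unfold th
  rw [← pow_mul, ← pow_add]
  have : m + 1 + (m + 1) = (2 * m + 1) + 1 := by ring
  rw [this, pow_succ, pow_mul, ← hF, FiniteField.pow_card]

theorem th_injective (hF : Fintype.card F = 2 ^ (2 * m + 1)) : Function.Injective (th m : F → F) := by
  intro x y h
  have h2 := two_eq_zero hF
  have : th m (x + y) = 0 := by rw [th_add hF, h]; exact add_self' h2 _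
  exact eq_of_add_eq_zero h2 (th_eq_zero this)

theorem th_surjective (hF : Fintype.card F = 2 ^ (2 * m + 1)) : Function.Surjective (th m : F → F) :=
  Finite.surjective_of_injective (th_injective hF)

theorem th_eq_one (hF : Fintype.card F = 2 ^ (2 * m + 1)) {x : F} (h : th m x = 1) : x = 1 :=
  th_injective hF (h.trans (th_one m).symm)

/-- `x * th x = 1 → x = 1`. -/
theorem mul_th_eq_one (hF : Fintype.card F = 2 ^ (2 * m + 1)) {k : F} (h : k * th m k = 1) : k = 1 := by
  have hk : k ≠ 0 := by rintro rfl; simp at h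
  have h' : th m (k * th m k) = 1 := by rw [h, th_one]
  rw [th_mul, th_th hF] at h'
  -- th k * k^2 = 1 = k * th k
  have : th m k * k ^ 2 = k * th m k := by rw [h', h]
  have htk : th m k ≠ 0 := th_ne_zero hk
  have h3 : k * (th m k * k) = 1 * (th m k * k) := by
    rw [one_mul]
    calc k * (th m k * k) = th m k * k ^ 2 := by ring
      _ = k * th m k := this
      _ = th m k * k := mul_comm _ _
  exact mul_right_cancel₀ (mul_ne_zero htk hk) h3

/-- `th x = x → x = 0 ∨ x = 1`. -/
theorem th_eq_self (hF : Fintype.card F = 2 ^ (2 * m + 1)) {x : F} (h : th m x = x) : x = 0 ∨ x = 1 := by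
  have h' : th m (th m x) = x := by rw [h, h]
  rw [th_th hF] at h'
  have : x * (x - 1) = 0 := by rw [mul_sub, mul_one, ← sq, h', sub_self]
  rcases mul_eq_zero.mp this with h0 | h1
  · left; exact h0
  · right; exact sub_eq_zero.mp h1

/-- The key property of the ovoid function. -/
theorem ff_eq_zero (hF : Fintype.card F = 2 ^ (2 * m + 1)) {x y : F} (h : ff m x y = 0) :
    x = 0 ∧ y = 0 := by
  have h2 := two_eq_zero hF
  unfold ff at h
  have h1 : th m y = x * y + x ^ 2 * th m x := by
    have := eq_of_add_eq_zero h2 h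
    exact this.symm
  have h3 : th m (x * y + x ^ 2 * th m x + th m y) = 0 := by rw [h, th_zero]
  rw [th_add hF, th_add hF, th_mul, th_mul, th_pow, th_th hF, th_th hF, h1] at h3
  have h4 : y * (x * th m x + y) = 0 := by
    rw [← h3]
    rw [← sub_eq_zero]; ring_nf; simp only [m2 h2, m3 h2, m4 h2, add_zero, neg_zero, sub_zero, zero_add, sub_self]
  rcases mul_eq_zero.mp h4 with hy | hy
  · subst hy
    rw [th_zero] at h1
    have : x ^ 2 * th m x = 0 := by rw [h1]; ring
    rcases mul_eq_zero.mp this with hx | hx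
    · exact ⟨pow_eq_zero_iff (two_ne_zero) |>.mp hx, rfl⟩
    · exact ⟨th_eq_zero hx, rfl⟩
  · have hy' : y = x * th m x := (eq_of_add_eq_zero h2 hy).symm
    subst hy'
    rw [th_mul, th_th hF] at h1
    have : x ^ 2 * th m x = 0 := by
      have e : x ^ 2 * th m x = (th m x * x ^ 2) - (x * (x * th m x) + x ^ 2 * th m x) + x ^ 2 * th m x * 2 := by ring
      rw [e, h1, m2 h2]; ring
    rcases mul_eq_zero.mp this with hx | hx
    · have hx0 : x = 0 := pow_eq_zero_iff (two_ne_zero) |>.mp hx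
      subst hx0; simp
    · have hx0 : x = 0 := th_eq_zero hx
      subst hx0; simp

theorem ff_ne_zero (hF : Fintype.card F = 2 ^ (2 * m + 1)) {x y : F} (h : x ≠ 0 ∨ y ≠ 0) :
    ff m x y ≠ 0 := by
  intro h0
  obtain ⟨hx, hy⟩ := ff_eq_zero hF h0
  rcases h with h | h
  · exact h hx
  · exact h hy

/-- `th (ff x y)`. -/
theorem th_ff (hF : Fintype.card F = 2 ^ (2 * m + 1)) (x y : F) :
    th m (ff m x y) = th m x * th m y + th m x ^ 2 * x ^ 2 + y ^ 2 := by
  unfold ff
  rw [th_add hF, th_add hF, th_mul, th_mul, th_pow, th_th hF, th_th hF]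

/-- The inversion identity: `ff (y/f) (x/f) = 1/f` for `f = ff x y ≠ 0`. -/
theorem ff_inv (hF : Fintype.card F = 2 ^ (2 * m + 1)) {x y : F} (hf : ff m x y ≠ 0) :
    ff m (y / ff m x y) (x / ff m x y) = (ff m x y)⁻¹ := by
  have h2 := two_eq_zero hF
  have htf : th m (ff m x y) ≠ 0 := th_ne_zero hf
  have e1 : ∀ g : F, g ≠ 0 → ff m (y / g) (x / g) =
      (x * y * th m g + y ^ 2 * th m y + th m x * g ^ 2) / (g ^ 2 * th m g) := by
    intro g hg
    have htg : th m g ≠ 0 := th_ne_zero hg
    unfold ff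
    rw [th_div, th_div]
    field_simp
  rw [e1 _ hf, div_eq_iff (mul_ne_zero (pow_ne_zero 2 hf) htf), th_ff hF]
  rw [eq_comm, inv_mul_eq_iff_eq_mul₀ hf]
  unfold ff
  rw [← sub_eq_zero]; ring_nf; simp only [m2 h2, m3 h2, m4 h2, add_zero, neg_zero, sub_zero, zero_add, sub_self]

/-- Polynomial identity principle for four monomials. -/
theorem four_monomials {e1 e2 e3 e4 : ℕ} (h12 : e1 ≠ e2) (h13 : e1 ≠ e3) (h14 : e1 ≠ e4)
    (h23 : e2 ≠ e3) (h24 : e2 ≠ e4) (h34 : e3 ≠ e4)
    (hc1 : e1 < Fintype.card F) (hc2 : e2 < Fintype.card F) (hc3 : e3 < Fintype.card F)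
    (hc4 : e4 < Fintype.card F) (c1 c2 c3 c4 : F)
    (h : ∀ x : F, c1 * x ^ e1 + c2 * x ^ e2 + c3 * x ^ e3 + c4 * x ^ e4 = 0) :
    c1 = 0 ∧ c2 = 0 ∧ c3 = 0 ∧ c4 = 0 := by
  classical
  open Polynomial in
  let p : F[X] := C c1 * X ^ e1 + C c2 * X ^ e2 + C c3 * X ^ e3 + C c4 * X ^ e4
  have hdeg : p.natDegree < Fintype.card F := by
    have hle : ∀ (c : F) (e : ℕ), e < Fintype.card F →
        (Polynomial.C c * Polynomial.X ^ e).natDegree < Fintype.card F := by
      intro c e he
      exact lt_of_le_of_lt (Polynomial.natDegree_C_mul_X_pow_le c e) he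
    have hadd : ∀ (a b : Polynomial F), a.natDegree < Fintype.card F → b.natDegree < Fintype.card F →
        (a + b).natDegree < Fintype.card F := by
      intro a b ha hb
      exact lt_of_le_of_lt (Polynomial.natDegree_add_le a b) (max_lt ha hb)
    exact hadd _ _ (hadd _ _ (hadd _ _ (hle _ _ hc1) (hle _ _ hc2)) (hle _ _ hc3)) (hle _ _ hc4)
  have hp : p = 0 := by
    apply Polynomial.eq_zero_of_natDegree_lt_card_of_eval_eq_zero p (f := id) Function.injective_id _ hdeg
    intro x
    simp only [p, Polynomial.eval_add, Polynomial.eval_mul, Polynomial.eval_C, Polynomial.eval_pow,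
      Polynomial.eval_X, id]
    exact h x
  have hcoef : ∀ e : ℕ, p.coeff e = 0 := by intro e; rw [hp]; simp
  refine ⟨?_, ?_, ?_, ?_⟩
  · have := hcoef e1
    simpa [p, Polynomial.coeff_C_mul, Polynomial.coeff_X_pow, h12, h13, h14] using this
  · have := hcoef e2
    simpa [p, Polynomial.coeff_C_mul, Polynomial.coeff_X_pow, h12.symm, h23, h24] using this
  · have := hcoef e3
    simpa [p, Polynomial.coeff_C_mul, Polynomial.coeff_X_pow, h13.symm, h23.symm, h34] using this
  · have := hcoef e4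
    simpa [p, Polynomial.coeff_C_mul, Polynomial.coeff_X_pow, h14.symm, h24.symm, h34.symm] using this

end finite

end Cfsg.Agent.Lib.Helper4.Suz
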