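import Mathlib
import Cfsg.Prelude.Def_LieExceptional
import Cfsg.Agent.S0326
import Cfsg.Agent.Lib.Helper4.Suz1

/-!
# Suzuki groups (ovoid stabiliser model): the matrices `uM a b`, `hM z`, `wM`
-/

set_option autoImplicit false
set_option linter.unusedSimpArgs false
set_option linter.unusedVariables false

namespace Cfsg.Agent.Lib.Helper4.Suz

open Matrix

variable {F : Type*} [Field F]

/-- The affine ovoid vector. -/
def vc (m : ℕ) (x y : F) : Fin 4 → F := ![ff m x y, y, x, 1]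

/-- The vector at infinity. -/
def e0 : Fin 4 → F := ![1, 0, 0, 0]

theorem vec_eq_vc (m : ℕ) (x y : F) : Cfsg.Agent.S0326.vec m x y = vc m x y := by
  unfold Cfsg.Agent.S0326.vec vc ff th
  rw [pow_add]
  congr 2
  ring

/-- Translation matrix. -/
def uM (m : ℕ) (a b : F) : Matrix (Fin 4) (Fin 4) F :=
  !![1, a, b + a * th m a, ff m a b; 0, 1, th m a, b; 0, 0, 1, a; 0, 0, 0, 1]

/-- Torus matrix. -/
def hM (m : ℕ) (z : F) : Matrix (Fin 4) (Fin 4) F :=
  !![z * th m z, 0, 0, 0; 0, z, 0, 0; 0, 0, z⁻¹, 0; 0, 0, 0, (z * th m z)⁻¹]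

/-- The Weyl element. -/
def wM : Matrix (Fin 4) (Fin 4) F :=
  !![0, 0, 0, 1; 0, 0, 1, 0; 0, 1, 0, 0; 1, 0, 0, 0]

theorem wM_eq : (wM : Matrix (Fin 4) (Fin 4) F) = Cfsg.suzukiForm F := rfl

theorem mulVec4 (M : Matrix (Fin 4) (Fin 4) F) (v : Fin 4 → F) :
    M *ᵥ v = ![M 0 0 * v 0 + M 0 1 * v 1 + M 0 2 * v 2 + M 0 3 * v 3,
      M 1 0 * v 0 + M 1 1 * v 1 + M 1 2 * v 2 + M 1 3 * v 3,
      M 2 0 * v 0 + M 2 1 * v 1 + M 2 2 * v 2 + M 2 3 * v 3,
      M 3 0 * v 0 + M 3 1 * v 1 + M 3 2 * v 2 + M 3 3 * v 3] := by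
  ext i
  fin_cases i <;> simp [Matrix.mulVec, dotProduct, Fin.sum_univ_four]

theorem uM_mulVec_e0 (m : ℕ) (a b : F) : uM m a b *ᵥ e0 = e0 := by
  rw [mulVec4]
  simp [uM, e0]

theorem wM_mulVec_e0 (m : ℕ) : (wM : Matrix (Fin 4) (Fin 4) F) *ᵥ e0 = vc m 0 0 := by
  rw [mulVec4]
  simp [wM, e0, vc, ff_zero_zero]

theorem wM_mulVec_vc_zero (m : ℕ) : (wM : Matrix (Fin 4) (Fin 4) F) *ᵥ vc m 0 0 = e0 := by
  rw [mulVec4]
  simp [wM, e0, vc, ff_zero_zero]

theorem hM_mulVec_e0 (m : ℕ) (z : F) : hM m z *ᵥ e0 = (z * th m z) • e0 := by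
  rw [mulVec4]
  simp [hM, e0]

theorem wM_mul_wM : (wM : Matrix (Fin 4) (Fin 4) F) * wM = 1 := by
  ext i j
  fin_cases i <;> fin_cases j <;> simp [wM, Matrix.mul_apply, Fin.sum_univ_four]

theorem hM_one (m : ℕ) : hM m (1 : F) = 1 := by
  ext i j
  fin_cases i <;> fin_cases j <;> simp [hM, th_one]

theorem hM_mul (m : ℕ) (z z' : F) : hM m z * hM m z' = hM m (z * z') := by
  ext i j
  fin_cases i <;> fin_cases j <;> simp [hM, Matrix.mul_apply, Fin.sum_univ_four, th_mul] <;> ring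

theorem wM_hM_wM (m : ℕ) (z : F) : wM * hM m z * wM = hM m z⁻¹ := by
  ext i j
  fin_cases i <;> fin_cases j <;> simp [hM, wM, Matrix.mul_apply, Fin.sum_univ_four, th_inv, mul_comm]

theorem det_hM (m : ℕ) {z : F} (hz : z ≠ 0) : (hM m z).det = 1 := by
  have h : hM m z = Matrix.diagonal ![z * th m z, z, z⁻¹, (z * th m z)⁻¹] := by
    ext i j
    fin_cases i <;> fin_cases j <;> simp [hM]
  rw [h, Matrix.det_diagonal, Fin.prod_univ_four]
  have htz : th m z ≠ 0 := th_ne_zero hz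
  simp
  field_simp

theorem uM_zero (m : ℕ) : uM m (0 : F) 0 = 1 := by
  ext i j
  fin_cases i <;> fin_cases j <;> simp [uM, th_zero, ff_zero_zero]

theorem det_uM (m : ℕ) (a b : F) : (uM m a b).det = 1 := by
  have h : (uM m a b).BlockTriangular id := by
    intro i j hij
    fin_cases i <;> fin_cases j <;> simp [uM] <;> simp at hij
  rw [Matrix.det_of_isUpperTriangular h, Fin.prod_univ_four]
  simp [uM]

section finite

variable [Fintype F] {m : ℕ}

theorem det_wM (hF : Fintype.card F = 2 ^ (2 * m + 1)) : (wM : Matrix (Fin 4) (Fin 4) F).det = 1 := by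
  have h2 := two_eq_zero hF
  have h : (wM : Matrix (Fin 4) (Fin 4) F).det * (wM : Matrix (Fin 4) (Fin 4) F).det = 1 := by
    rw [← Matrix.det_mul, wM_mul_wM, Matrix.det_one]
  have h' : (wM : Matrix (Fin 4) (Fin 4) F).det ^ 2 = 1 ^ 2 := by rw [sq, h]; simp
  exact sq_inj h2 h'

theorem uM_mulVec_vc (hF : Fintype.card F = 2 ^ (2 * m + 1)) (a b x y : F) :
    uM m a b *ᵥ vc m x y = vc m (x + a) (y + b + th m a * x) := by
  have h2 := two_eq_zero hF
  rw [mulVec4]
  unfold vc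
  simp only [uM, Matrix.of_apply, Matrix.cons_val', Matrix.cons_val_zero, Matrix.cons_val_one,
    Matrix.cons_val_two, Matrix.cons_val_three, Matrix.empty_val', Matrix.cons_val_fin_one,
    Matrix.head_cons, Matrix.tail_cons]
  have e : ff m (x + a) (y + b + th m a * x) =
      ff m x y + a * y + (b + a * th m a) * x + ff m a b := by
    unfold ff
    rw [th_add hF, th_add hF, th_add hF, th_mul, th_th hF]
    rw [← sub_eq_zero]; ring_nf
    simp only [m2 h2, m3 h2, m4 h2, add_zero, neg_zero, sub_zero, zero_add, sub_self]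
  rw [e]
  congr 1
  · ring
  · congr 1
    · ring
    · congr 1
      · ring
      · simp

theorem uM_mul (hF : Fintype.card F = 2 ^ (2 * m + 1)) (a b c d : F) :
    uM m a b * uM m c d = uM m (a + c) (b + d + th m a * c) := by
  have h2 := two_eq_zero hF
  have e : ff m (a + c) (b + d + th m a * c) =
      ff m c d + a * d + (b + a * th m a) * c + ff m a b := by
    unfold ff
    rw [th_add hF, th_add hF, th_add hF, th_mul, th_th hF]
    rw [← sub_eq_zero]; ring_nf
    simp only [m2 h2, m3 h2, m4 h2, add_zero, neg_zero, sub_zero, zero_add, sub_self]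
  ext i j
  fin_cases i <;> fin_cases j <;>
    simp [uM, Matrix.mul_apply, Fin.sum_univ_four, th_add hF, e] <;>
    (rw [← sub_eq_zero]; ring_nf;
     try simp only [m2 h2, m3 h2, m4 h2, add_zero, neg_zero, sub_zero, zero_add, sub_self])

theorem hM_mulVec_vc (hF : Fintype.card F = 2 ^ (2 * m + 1)) {z : F} (hz : z ≠ 0) (x y : F) :
    hM m z *ᵥ vc m x y = (z * th m z)⁻¹ • vc m (th m z * x) (th m z * z ^ 2 * y) := by
  have htz : th m z ≠ 0 := th_ne_zero hz
  rw [mulVec4]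
  unfold vc
  have e : ff m (th m z * x) (th m z * z ^ 2 * y) = (z * th m z) ^ 2 * ff m x y := by
    unfold ff
    rw [th_mul, th_mul, th_mul, th_pow, th_th hF]
    ring
  rw [e]
  ext i
  fin_cases i <;> simp [hM] <;> field_simp

theorem wM_mulVec_vc (hF : Fintype.card F = 2 ^ (2 * m + 1)) {x y : F} (hf : ff m x y ≠ 0) :
    (wM : Matrix (Fin 4) (Fin 4) F) *ᵥ vc m x y = ff m x y • vc m (y / ff m x y) (x / ff m x y) := by
  rw [mulVec4]
  unfold vc
  rw [ff_inv hF hf]
  ext i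
  fin_cases i <;> simp [wM] <;> field_simp

theorem hM_uM_hM (hF : Fintype.card F = 2 ^ (2 * m + 1)) {z : F} (hz : z ≠ 0) (a b : F) :
    hM m z * uM m a b * hM m z⁻¹ = uM m (th m z * a) (th m z * z ^ 2 * b) := by
  have htz : th m z ≠ 0 := th_ne_zero hz
  have e : ff m (th m z * a) (th m z * z ^ 2 * b) = (z * th m z) ^ 2 * ff m a b := by
    unfold ff
    rw [th_mul, th_mul, th_mul, th_pow, th_th hF]
    ring
  ext i j
  fin_cases i <;> fin_cases j <;>
    simp [uM, hM, Matrix.mul_apply, Fin.sum_univ_four, th_inv, th_mul, th_th hF, e] <;> field_simp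

end finite

end Cfsg.Agent.Lib.Helper4.Suz
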