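import Mathlib
import Cfsg.Prelude.Def_LieExceptional
import Cfsg.Agent.S0326
import Cfsg.Agent.Lib.Helper4.Suz2

/-!
# Suzuki groups (ovoid stabiliser model): the elements `uS a b`, `hS z`, `wS` and their action
-/

set_option autoImplicit false
set_option linter.unusedSimpArgs false
set_option linter.unusedVariables false

namespace Cfsg.Agent.Lib.Helper4.Suz

open Matrix

variable {F : Type*} [Field F]

/-- Projective 3-space. -/
abbrev PP (F : Type*) [Field F] := Projectivization F (Fin 4 → F)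

theorem vc_ne (m : ℕ) (x y : F) : vc m x y ≠ 0 := by
  intro h
  have := congrFun h 3
  simp [vc] at this

theorem e0_ne : (e0 : Fin 4 → F) ≠ 0 := by
  intro h
  have := congrFun h 0
  simp [e0] at this

/-- Affine ovoid point. -/
noncomputable def pt (m : ℕ) (x y : F) : PP F := Projectivization.mk F (vc m x y) (vc_ne m x y)

/-- The point at infinity. -/
noncomputable def inf : PP F := Projectivization.mk F e0 e0_ne

theorem inf_eq : (inf : PP F) = Cfsg.suzukiPointInfinity F := rfl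

theorem pt_zero_eq (m : ℕ) : pt m (0 : F) 0 = Cfsg.suzukiPointZero F := by
  unfold pt Cfsg.suzukiPointZero
  congr 1
  simp [vc, ff_zero_zero]

theorem param_none (m : ℕ) : Cfsg.Agent.S0326.param F m none = inf := rfl

theorem param_some (m : ℕ) (x y : F) : Cfsg.Agent.S0326.param F m (some (x, y)) = pt m x y := by
  show Projectivization.mk F (Cfsg.Agent.S0326.vec m x y) _ = Projectivization.mk F (vc m x y) _
  congr 1
  exact vec_eq_vc m x y

theorem mem_ovoid_iff (m : ℕ) (p : PP F) :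
    p ∈ Cfsg.suzukiOvoid F m ↔ p = inf ∨ ∃ x y, p = pt m x y := by
  rw [← Cfsg.Agent.S0326.range_param]
  constructor
  · rintro ⟨a, rfl⟩
    rcases a with _ | ⟨x, y⟩
    · left; rfl
    · right; exact ⟨x, y, param_some m x y⟩
  · rintro (rfl | ⟨x, y, rfl⟩)
    · exact ⟨none, rfl⟩
    · exact ⟨some (x, y), param_some m x y⟩

theorem inf_mem (m : ℕ) : (inf : PP F) ∈ Cfsg.suzukiOvoid F m := (mem_ovoid_iff m _).mpr (Or.inl rfl)

theorem pt_mem (m : ℕ) (x y : F) : pt m x y ∈ Cfsg.suzukiOvoid F m :=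
  (mem_ovoid_iff m _).mpr (Or.inr ⟨x, y, rfl⟩)

theorem pt_ne_inf (m : ℕ) (x y : F) : pt m x y ≠ inf := by
  rw [← param_some, ← param_none m]
  intro h
  have := Cfsg.Agent.S0326.param_injective F m h
  simp at this

theorem pt_inj (m : ℕ) {x y x' y' : F} (h : pt m x y = pt m x' y') : x = x' ∧ y = y' := by
  rw [← param_some, ← param_some] at h
  have := Cfsg.Agent.S0326.param_injective F m h
  simpa using this

/-- Smul of a point, given the image vector up to a scalar. -/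
theorem smul_mk_eq (g : Matrix.SpecialLinearGroup (Fin 4) F) {v w : Fin 4 → F} (hv : v ≠ 0)
    (hw : w ≠ 0) (c : F) (hc : c ≠ 0) (h : g.1 *ᵥ v = c • w) :
    g • Projectivization.mk F v hv = Projectivization.mk F w hw := by
  rw [Projectivization.smul_mk, Projectivization.mk_eq_mk_iff]
  refine ⟨Units.mk0 c hc, ?_⟩
  rw [Units.smul_def]
  exact h.symm

/-- Conversely, equality of points gives a scalar. -/
theorem exists_of_smul_mk_eq (g : Matrix.SpecialLinearGroup (Fin 4) F) {v w : Fin 4 → F} (hv : v ≠ 0)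
    (hw : w ≠ 0) (h : g • Projectivization.mk F v hv = Projectivization.mk F w hw) :
    ∃ c : F, c ≠ 0 ∧ g.1 *ᵥ v = c • w := by
  rw [Projectivization.smul_mk, Projectivization.mk_eq_mk_iff] at h
  obtain ⟨a, ha⟩ := h
  exact ⟨a, a.ne_zero, ha.symm⟩

/-- Translation element. -/
def uS (m : ℕ) (a b : F) : Matrix.SpecialLinearGroup (Fin 4) F := ⟨uM m a b, det_uM m a b⟩

/-- Torus element. -/
def hS (m : ℕ) (z : Fˣ) : Matrix.SpecialLinearGroup (Fin 4) F := ⟨hM m z, det_hM m z.ne_zero⟩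

theorem hS_one (m : ℕ) : hS m (1 : Fˣ) = 1 := by
  apply Subtype.ext
  exact hM_one m

theorem hS_mul (m : ℕ) (z z' : Fˣ) : hS m (z * z') = hS m z * hS m z' := by
  apply Subtype.ext
  simp only [hS, Units.val_mul, Matrix.SpecialLinearGroup.coe_mul]
  exact (hM_mul m _ _).symm

theorem uS_zero (m : ℕ) : uS m (0 : F) 0 = 1 := by
  apply Subtype.ext
  exact uM_zero m

theorem uS_smul_inf (m : ℕ) (a b : F) : uS m a b • (inf : PP F) = inf :=
  smul_mk_eq _ e0_ne e0_ne 1 one_ne_zero (by rw [one_smul]; exact uM_mulVec_e0 m a b)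

theorem hS_smul_inf (m : ℕ) (z : Fˣ) : hS m z • (inf : PP F) = inf := by
  have hz : (z : F) ≠ 0 := z.ne_zero
  exact smul_mk_eq _ e0_ne e0_ne ((z : F) * th m (z : F))
    (mul_ne_zero hz (th_ne_zero hz)) (hM_mulVec_e0 m (z : F))

section finite

variable [Fintype F] {m : ℕ}

/-- The Weyl element. -/
def wS (hF : Fintype.card F = 2 ^ (2 * m + 1)) : Matrix.SpecialLinearGroup (Fin 4) F :=
  ⟨wM, det_wM hF⟩

theorem wS_mul_wS (hF : Fintype.card F = 2 ^ (2 * m + 1)) : wS hF * wS hF = 1 := by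
  apply Subtype.ext
  exact wM_mul_wM

theorem wS_inv (hF : Fintype.card F = 2 ^ (2 * m + 1)) : (wS hF)⁻¹ = wS hF :=
  inv_eq_of_mul_eq_one_left (wS_mul_wS hF)

theorem uS_mul (hF : Fintype.card F = 2 ^ (2 * m + 1)) (a b c d : F) :
    uS m a b * uS m c d = uS m (a + c) (b + d + th m a * c) := by
  apply Subtype.ext
  exact uM_mul hF a b c d

theorem uS_inv (hF : Fintype.card F = 2 ^ (2 * m + 1)) (a b : F) :
    (uS m a b)⁻¹ = uS m a (b + a * th m a) := by
  have h2 := two_eq_zero hF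
  apply inv_eq_of_mul_eq_one_left
  rw [uS_mul hF, ← uS_zero m]
  congr 1
  · exact add_self' h2 a
  · rw [← sub_eq_zero]; ring_nf
    simp only [m2 h2, m3 h2, m4 h2, add_zero, neg_zero, sub_zero, zero_add, sub_self]

theorem uS_smul_pt (hF : Fintype.card F = 2 ^ (2 * m + 1)) (a b x y : F) :
    uS m a b • pt m x y = pt m (x + a) (y + b + th m a * x) :=
  smul_mk_eq _ _ _ 1 one_ne_zero (by rw [one_smul]; exact uM_mulVec_vc hF a b x y)

theorem hS_smul_pt (hF : Fintype.card F = 2 ^ (2 * m + 1)) (z : Fˣ) (x y : F) :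
    hS m z • pt m x y = pt m (th m (z : F) * x) (th m (z : F) * (z : F) ^ 2 * y) := by
  have hz : (z : F) ≠ 0 := z.ne_zero
  exact smul_mk_eq _ _ _ ((z : F) * th m (z : F))⁻¹
    (inv_ne_zero (mul_ne_zero hz (th_ne_zero hz)))
    (hM_mulVec_vc hF hz x y)

theorem wS_smul_inf (hF : Fintype.card F = 2 ^ (2 * m + 1)) : wS hF • (inf : PP F) = pt m 0 0 :=
  smul_mk_eq _ _ _ 1 one_ne_zero (by rw [one_smul]; exact wM_mulVec_e0 m)

theorem wS_smul_pt_zero (hF : Fintype.card F = 2 ^ (2 * m + 1)) : wS hF • pt m (0 : F) 0 = inf :=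
  smul_mk_eq _ _ _ 1 one_ne_zero (by rw [one_smul]; exact wM_mulVec_vc_zero m)

theorem wS_smul_pt (hF : Fintype.card F = 2 ^ (2 * m + 1)) {x y : F} (h : x ≠ 0 ∨ y ≠ 0) :
    wS hF • pt m x y = pt m (y / ff m x y) (x / ff m x y) :=
  smul_mk_eq _ _ _ _ (ff_ne_zero hF h) (wM_mulVec_vc hF (ff_ne_zero hF h))

theorem ovoid_finite (m : ℕ) : (Cfsg.suzukiOvoid F m).Finite := Set.toFinite _

theorem uS_mem (hF : Fintype.card F = 2 ^ (2 * m + 1)) (a b : F) : uS m a b ∈ Cfsg.Sz F m := by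
  rw [MulAction.mem_stabilizer_set' (ovoid_finite m)]
  intro p hp
  rcases (mem_ovoid_iff m p).mp hp with rfl | ⟨x, y, rfl⟩
  · rw [uS_smul_inf]; exact inf_mem m
  · rw [uS_smul_pt hF]; exact pt_mem m _ _

theorem hS_mem (hF : Fintype.card F = 2 ^ (2 * m + 1)) (z : Fˣ) : hS m z ∈ Cfsg.Sz F m := by
  rw [MulAction.mem_stabilizer_set' (ovoid_finite m)]
  intro p hp
  rcases (mem_ovoid_iff m p).mp hp with rfl | ⟨x, y, rfl⟩
  · rw [hS_smul_inf]; exact inf_mem m
  · rw [hS_smul_pt hF]; exact pt_mem m _ _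

theorem wS_mem (hF : Fintype.card F = 2 ^ (2 * m + 1)) : wS hF ∈ Cfsg.Sz F m := by
  rw [MulAction.mem_stabilizer_set' (ovoid_finite m)]
  intro p hp
  rcases (mem_ovoid_iff m p).mp hp with rfl | ⟨x, y, rfl⟩
  · rw [wS_smul_inf]; exact pt_mem m _ _
  · by_cases h : x ≠ 0 ∨ y ≠ 0
    · rw [wS_smul_pt hF h]; exact pt_mem m _ _
    · push Not at h
      obtain ⟨rfl, rfl⟩ := h
      rw [wS_smul_pt_zero]; exact inf_mem m

theorem hS_uS_hS (hF : Fintype.card F = 2 ^ (2 * m + 1)) (z : Fˣ) (a b : F) :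
    hS m z * uS m a b * (hS m z)⁻¹ = uS m (th m (z : F) * a) (th m (z : F) * (z : F) ^ 2 * b) := by
  have : (hS m z)⁻¹ = hS m z⁻¹ := by
    apply inv_eq_of_mul_eq_one_left
    rw [← hS_mul, inv_mul_cancel, hS_one]
  rw [this]
  apply Subtype.ext
  simp only [hS, uS, Matrix.SpecialLinearGroup.coe_mul, Units.val_inv_eq_inv_val]
  exact hM_uM_hM hF z.ne_zero a b

theorem wS_hS_wS (hF : Fintype.card F = 2 ^ (2 * m + 1)) (z : Fˣ) :
    wS hF * hS m z * wS hF = hS m z⁻¹ := by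
  apply Subtype.ext
  simp only [hS, wS, Matrix.SpecialLinearGroup.coe_mul, Units.val_inv_eq_inv_val]
  exact wM_hM_wM m _

end finite

end Cfsg.Agent.Lib.Helper4.Suz
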