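import Mathlib
import Cfsg.Prelude.Def_LieExceptional
import Cfsg.Agent.S0326
import Cfsg.Agent.Lib.Helper4.Suz3

/-!
# Suzuki groups (ovoid stabiliser model): the stabiliser of two points
-/

set_option autoImplicit false
set_option linter.unusedSimpArgs false
set_option linter.unusedVariables false

namespace Cfsg.Agent.Lib.Helper4.Suz

open Matrix

variable {F : Type*} [Field F] [Fintype F] {m : ℕ}

theorem sigma_bounds (hm : 1 ≤ m) : 4 ≤ 2 ^ (m + 1) ∧ 2 ^ (m + 1) + 2 < 2 ^ (2 * m + 1) := by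
  obtain ⟨k, rfl⟩ : ∃ k, m = k + 1 := ⟨m - 1, by omega⟩
  constructor
  · have : 2 ^ (k + 1 + 1) = 4 * 2 ^ k := by ring
    have h1 : 1 ≤ 2 ^ k := Nat.one_le_two_pow
    omega
  · have e1 : 2 ^ (k + 1 + 1) = 4 * 2 ^ k := by ring
    have e2 : 2 ^ (2 * (k + 1) + 1) = 8 * (2 ^ k * 2 ^ k) := by ring
    have h1 : 1 ≤ 2 ^ k := Nat.one_le_two_pow
    have h2 : 2 ^ k ≤ 2 ^ k * 2 ^ k := Nat.le_mul_of_pos_left _ (by positivity)
    omega

/-- The functional equation forcing a linear map preserving the ovoid function to be diagonal. -/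
theorem lin_preserve (hm : 1 ≤ m) (hF : Fintype.card F = 2 ^ (2 * m + 1))
    (α β γ δ κ μ ν : F)
    (h : ∀ x y : F, ff m (α * x + β * y) (γ * x + δ * y) = κ * ff m x y + μ * y + ν * x) :
    β = 0 ∧ γ = 0 ∧ μ = 0 ∧ ν = 0 ∧ κ = α ^ 2 * th m α ∧ th m δ = κ ∧ α * δ = κ := by
  have h2 := two_eq_zero hF
  obtain ⟨hs4, hslt⟩ := sigma_bounds hm
  rw [← hF] at hslt
  have hpow : ∀ x : F, x ^ (2 ^ (m + 1) + 2) = x ^ 2 * th m x := by
    intro x; unfold th; rw [pow_add]; ring
  -- y = 0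
  have hA := four_monomials (F := F) (e1 := 2) (e2 := 2 ^ (m + 1) + 2) (e3 := 2 ^ (m + 1)) (e4 := 1)
    (by omega) (by omega) (by omega) (by omega) (by omega) (by omega)
    (by omega) hslt (by omega) (by omega) (α * γ) (α ^ 2 * th m α + κ) (th m γ) ν
    (by
      intro x
      have := h x 0
      simp only [mul_zero, add_zero] at this
      unfold ff at this
      rw [th_mul, th_mul, th_zero] at this
      rw [hpow]
      show α * γ * x ^ 2 + (α ^ 2 * th m α + κ) * (x ^ 2 * th m x) + th m γ * th m x + ν * x ^ 1 = 0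
      rw [← sub_eq_zero] at this
      rw [← this]
      rw [← sub_eq_zero]; ring_nf
      simp only [m2 h2, m3 h2, m4 h2, add_zero, neg_zero, sub_zero, zero_add, sub_self])
  -- x = 0
  have hB := four_monomials (F := F) (e1 := 2) (e2 := 2 ^ (m + 1) + 2) (e3 := 2 ^ (m + 1)) (e4 := 1)
    (by omega) (by omega) (by omega) (by omega) (by omega) (by omega)
    (by omega) hslt (by omega) (by omega) (β * δ) (β ^ 2 * th m β) (th m δ + κ) μ
    (by
      intro y
      have := h 0 y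
      simp only [mul_zero, zero_add] at this
      unfold ff at this
      rw [th_mul, th_mul, th_zero] at this
      rw [hpow]
      show β * δ * y ^ 2 + (β ^ 2 * th m β) * (y ^ 2 * th m y) + (th m δ + κ) * th m y + μ * y ^ 1 = 0
      rw [← sub_eq_zero] at this
      rw [← this]
      rw [← sub_eq_zero]; ring_nf
      simp only [m2 h2, m3 h2, m4 h2, add_zero, neg_zero, sub_zero, zero_add, sub_self])
  obtain ⟨hA1, hA2, hA3, hA4⟩ := hA
  obtain ⟨hB1, hB2, hB3, hB4⟩ := hB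
  have hγ : γ = 0 := th_eq_zero hA3
  have hβ : β = 0 := by
    rcases mul_eq_zero.mp hB2 with hb | hb
    · exact pow_eq_zero_iff (two_ne_zero) |>.mp hb
    · exact th_eq_zero hb
  have hκ : κ = α ^ 2 * th m α := (eq_of_add_eq_zero h2 hA2).symm
  have hδ : th m δ = κ := eq_of_add_eq_zero h2 hB3
  refine ⟨hβ, hγ, hB4, hA4, hκ, hδ, ?_⟩
  have h11 := h 1 1
  rw [hβ, hγ, hB4, hA4] at h11
  simp only [mul_one, zero_mul, add_zero, zero_add] at h11
  unfold ff at h11
  rw [th_one, hδ, ← hκ] at h11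
  have : α * δ = κ * (1 * 1 + 1 ^ 2 * 1 + 1) - κ * 2 := by
    rw [← h11]; ring
  rw [this, m2 h2]
  have h3 : (1 * 1 + 1 ^ 2 * 1 + 1 : F) = 3 := by norm_num
  rw [h3, m3 h2, sub_zero]

theorem mulVec_e0_apply (M : Matrix (Fin 4) (Fin 4) F) (i : Fin 4) : (M *ᵥ e0) i = M i 0 := by
  rw [mulVec4]
  fin_cases i <;> simp [e0]

theorem mulVec_vc_apply (M : Matrix (Fin 4) (Fin 4) F) (x y : F) (i : Fin 4) :
    (M *ᵥ vc m x y) i = M i 0 * ff m x y + M i 1 * y + M i 2 * x + M i 3 := by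
  rw [mulVec4]
  fin_cases i <;> simp [vc]

/-- An element of the Suzuki group fixing `∞` and `0` is a torus element. -/
theorem fix_inf_zero (hm : 1 ≤ m) (hF : Fintype.card F = 2 ^ (2 * m + 1))
    {g : Matrix.SpecialLinearGroup (Fin 4) F} (hg : g ∈ Cfsg.Sz F m)
    (hinf : g • (inf : PP F) = inf) (hzero : g • pt m (0 : F) 0 = pt m 0 0) :
    ∃ z : Fˣ, g = hS m z := by
  have h2 := two_eq_zero hF
  obtain ⟨c, hc, hcv⟩ := exists_of_smul_mk_eq g e0_ne e0_ne hinf
  obtain ⟨d, hd, hdv⟩ := exists_of_smul_mk_eq g (vc_ne m 0 0) (vc_ne m 0 0) hzero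
  -- column 0
  have c0 : ∀ i, g.1 i 0 = c * e0 i := by
    intro i
    have := congrFun hcv i
    rw [mulVec_e0_apply] at this
    simpa using this
  have g00 : g.1 0 0 = c := by rw [c0]; simp [e0]
  have g10 : g.1 1 0 = 0 := by rw [c0]; simp [e0]
  have g20 : g.1 2 0 = 0 := by rw [c0]; simp [e0]
  have g30 : g.1 3 0 = 0 := by rw [c0]; simp [e0]
  -- column 3
  have c3 : ∀ i, g.1 i 3 = d * vc m 0 0 i := by
    intro i
    have := congrFun hdv i
    rw [mulVec_vc_apply] at this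
    simpa [ff_zero_zero] using this
  have g03 : g.1 0 3 = 0 := by rw [c3]; simp [vc, ff_zero_zero]
  have g13 : g.1 1 3 = 0 := by rw [c3]; simp [vc]
  have g23 : g.1 2 3 = 0 := by rw [c3]; simp [vc]
  have g33 : g.1 3 3 = d := by rw [c3]; simp [vc]
  -- images of affine points
  have himg : ∀ x y : F, ∃ x' y' l : F, l ≠ 0 ∧ g.1 *ᵥ vc m x y = l • vc m x' y' := by
    intro x y
    have hmem : g • pt m x y ∈ Cfsg.suzukiOvoid F m := by
      rw [MulAction.mem_stabilizer_set' (ovoid_finite m)] at hg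
      exact hg (pt_mem m x y)
    rcases (mem_ovoid_iff m _).mp hmem with h | ⟨x', y', h⟩
    · exfalso
      rw [← hinf] at h
      exact pt_ne_inf m x y (MulAction.injective g h)
    · obtain ⟨l, hl, hlv⟩ := exists_of_smul_mk_eq g (vc_ne m x y) (vc_ne m x' y') h
      exact ⟨x', y', l, hl, hlv⟩
  have hrow3 : ∀ x y : F, g.1 3 1 * y + g.1 3 2 * x + d ≠ 0 := by
    intro x y
    obtain ⟨x', y', l, hl, hlv⟩ := himg x y
    have := congrFun hlv 3
    rw [mulVec_vc_apply, g30, g33] at this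
    simp [vc] at this
    rw [this]; exact hl
  have g31 : g.1 3 1 = 0 := by
    by_contra hne
    apply hrow3 0 (d / g.1 3 1)
    rw [mul_zero, add_zero, mul_div_cancel₀ _ hne]
    exact add_self' h2 d
  have g32 : g.1 3 2 = 0 := by
    by_contra hne
    apply hrow3 (d / g.1 3 2) 0
    rw [mul_zero, zero_add, mul_div_cancel₀ _ hne]
    exact add_self' h2 d
  -- functional equation
  have hfun : ∀ x y : F, ff m (g.1 2 2 / d * x + g.1 2 1 / d * y) (g.1 1 2 / d * x + g.1 1 1 / d * y) =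
      c / d * ff m x y + g.1 0 1 / d * y + g.1 0 2 / d * x := by
    intro x y
    obtain ⟨x', y', l, hl, hlv⟩ := himg x y
    have e3 := congrFun hlv 3
    have e2 := congrFun hlv 2
    have e1 := congrFun hlv 1
    have e0' := congrFun hlv 0
    rw [mulVec_vc_apply] at e3 e2 e1 e0'
    rw [g30, g31, g32, g33] at e3
    rw [g20, g23] at e2
    rw [g10, g13] at e1
    rw [g00, g03] at e0'
    simp [vc] at e3 e2 e1 e0'
    subst e3
    have hx' : x' = g.1 2 2 / d * x + g.1 2 1 / d * y := by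
      have : x' = (g.1 2 1 * y + g.1 2 2 * x) / d := by rw [e2]; field_simp
      rw [this]; ring
    have hy' : y' = g.1 1 2 / d * x + g.1 1 1 / d * y := by
      have : y' = (g.1 1 1 * y + g.1 1 2 * x) / d := by rw [e1]; field_simp
      rw [this]; ring
    rw [← hx', ← hy']
    have : ff m x' y' = (c * ff m x y + g.1 0 1 * y + g.1 0 2 * x) / d := by rw [e0']; field_simp
    rw [this]; ring
  obtain ⟨hβ, hγ, hμ, hν, hκ, hδ, hαδ⟩ := lin_preserve hm hF _ _ _ _ _ _ _ hfun
  have g21 : g.1 2 1 = 0 := by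
    rcases div_eq_zero_iff.mp hβ with h | h
    · exact h
    · exact absurd h hd
  have g12 : g.1 1 2 = 0 := by
    rcases div_eq_zero_iff.mp hγ with h | h
    · exact h
    · exact absurd h hd
  have g01 : g.1 0 1 = 0 := by
    rcases div_eq_zero_iff.mp hμ with h | h
    · exact h
    · exact absurd h hd
  have g02 : g.1 0 2 = 0 := by
    rcases div_eq_zero_iff.mp hν with h | h
    · exact h
    · exact absurd h hd
  -- diagonal
  have hdiag : g.1 = Matrix.diagonal ![c, g.1 1 1, g.1 2 2, d] := by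
    ext i j
    fin_cases i <;> fin_cases j <;>
      simp [g00, g01, g02, g03, g10, g12, g13, g20, g21, g23, g30, g31, g32, g33]
  have hdet : c * g.1 1 1 * g.1 2 2 * d = 1 := by
    have := g.2
    rw [hdiag, Matrix.det_diagonal, Fin.prod_univ_four] at this
    simpa using this
  have h22 : g.1 2 2 ≠ 0 := by
    intro h0
    rw [h0] at hdet
    simp at hdet
  set α := g.1 2 2 / d with hα
  have hα0 : α ≠ 0 := div_ne_zero h22 hd
  obtain ⟨ζ, hζ⟩ := th_surjective hF α
  have hζ0 : ζ ≠ 0 := by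
    rintro rfl
    rw [th_zero] at hζ
    exact hα0 hζ.symm
  have htζ : th m ζ ≠ 0 := th_ne_zero hζ0
  -- δ
  have hδ' : g.1 1 1 / d = th m ζ * ζ ^ 2 := by
    have : α * (g.1 1 1 / d) = α * (th m ζ * ζ ^ 2) := by
      rw [hαδ, hκ, ← hζ, th_th hF]; ring
    exact mul_left_cancel₀ hα0 this
  have hcd : c / d = (ζ * th m ζ) ^ 2 := by
    rw [hκ, ← hζ, th_th hF]; ring
  have hc' : c = (ζ * th m ζ) ^ 2 * d := (div_eq_iff hd).mp hcd
  have h11' : g.1 1 1 = th m ζ * ζ ^ 2 * d := (div_eq_iff hd).mp hδ'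
  have h22' : g.1 2 2 = th m ζ * d := by
    have : g.1 2 2 / d = th m ζ := by rw [← hα, hζ]
    exact (div_eq_iff hd).mp this
  have hd4 : ((ζ * th m ζ * d) ^ 2) ^ 2 = 1 ^ 2 := by
    rw [one_pow, ← hdet, hc', h11', h22']; ring
  have hd2 : (ζ * th m ζ * d) ^ 2 = 1 ^ 2 := by
    have := sq_inj h2 hd4
    rw [this, one_pow]
  have hd1 : ζ * th m ζ * d = 1 := sq_inj h2 hd2
  have hdval : d = (ζ * th m ζ)⁻¹ := by
    rw [eq_comm, inv_eq_iff_eq_inv, ← one_div, eq_div_iff hd, hd1]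
  have hcval : c = ζ * th m ζ := by
    rw [hc']
    calc (ζ * th m ζ) ^ 2 * d = (ζ * th m ζ) * (ζ * th m ζ * d) := by ring
      _ = ζ * th m ζ := by rw [hd1, mul_one]
  have h11val : g.1 1 1 = ζ := by
    rw [h11']
    calc th m ζ * ζ ^ 2 * d = ζ * (ζ * th m ζ * d) := by ring
      _ = ζ := by rw [hd1, mul_one]
  have h22val : g.1 2 2 = ζ⁻¹ := by
    rw [h22']
    calc th m ζ * d = ζ⁻¹ * (ζ * th m ζ * d) := by field_simp
      _ = ζ⁻¹ := by rw [hd1, mul_one]
  refine ⟨Units.mk0 ζ hζ0, ?_⟩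
  apply Subtype.ext
  rw [hdiag, hcval, h11val, h22val, hdval]
  ext i j
  fin_cases i <;> fin_cases j <;> simp [hS, hM]

end Cfsg.Agent.Lib.Helper4.Suz
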