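import Mathlib
import Cfsg.Prelude.Def_LieExceptional
import Cfsg.Agent.S0326
import Cfsg.Agent.Lib.Helper4.Suz4

/-!
# Suzuki groups (ovoid stabiliser model): Borel subgroup, double transitivity, order
-/

set_option autoImplicit false
set_option linter.unusedSimpArgs false
set_option linter.unusedVariables false

namespace Cfsg.Agent.Lib.Helper4.Suz

open Matrix MulAction

variable {F : Type*} [Field F] [Fintype F] {m : ℕ}

/-- The point at infinity, as a point of the ovoid. -/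
noncomputable def oInf (F : Type*) [Field F] (m : ℕ) : Cfsg.suzukiOvoid F m := ⟨inf, inf_mem m⟩

/-- Affine point, as a point of the ovoid. -/
noncomputable def oPt (m : ℕ) (x y : F) : Cfsg.suzukiOvoid F m := ⟨pt m x y, pt_mem m x y⟩

omit [Fintype F] in
theorem ovoid_cases (p : Cfsg.suzukiOvoid F m) : p = oInf F m ∨ ∃ x y, p = oPt m x y := by
  rcases (mem_ovoid_iff m p.1).mp p.2 with h | ⟨x, y, h⟩
  · left; exact Subtype.ext h
  · right; exact ⟨x, y, Subtype.ext h⟩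

omit [Fintype F] in
theorem oPt_ne_oInf (x y : F) : oPt m x y ≠ oInf F m := by
  intro h
  exact pt_ne_inf m x y (congrArg Subtype.val h)

omit [Fintype F] in
theorem oPt_inj {x y x' y' : F} (h : oPt m x y = oPt m x' y') : x = x' ∧ y = y' :=
  pt_inj m (congrArg Subtype.val h)

/-- Translation, as an element of the Suzuki group. -/
def uZ (hF : Fintype.card F = 2 ^ (2 * m + 1)) (a b : F) : Cfsg.Sz F m := ⟨uS m a b, uS_mem hF a b⟩

/-- Torus element, as an element of the Suzuki group. -/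
def hZ (hF : Fintype.card F = 2 ^ (2 * m + 1)) (z : Fˣ) : Cfsg.Sz F m := ⟨hS m z, hS_mem hF z⟩

/-- Weyl element, as an element of the Suzuki group. -/
def wZ (hF : Fintype.card F = 2 ^ (2 * m + 1)) : Cfsg.Sz F m := ⟨wS hF, wS_mem hF⟩


omit [Fintype F] in
theorem smul_val (g : Cfsg.Sz F m) (p : Cfsg.suzukiOvoid F m) :
    ((g • p : Cfsg.suzukiOvoid F m) : PP F) = (g : Matrix.SpecialLinearGroup (Fin 4) F) • (p : PP F) := rfl

theorem uZ_smul_oInf (hF : Fintype.card F = 2 ^ (2 * m + 1)) (a b : F) : uZ hF a b • oInf F m = oInf F m :=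
  Subtype.ext (uS_smul_inf m a b)

theorem uZ_smul_oPt (hF : Fintype.card F = 2 ^ (2 * m + 1)) (a b x y : F) : uZ hF a b • oPt m x y = oPt m (x + a) (y + b + th m a * x) :=
  Subtype.ext (uS_smul_pt hF a b x y)

theorem hZ_smul_oInf (hF : Fintype.card F = 2 ^ (2 * m + 1)) (z : Fˣ) : hZ hF z • oInf F m = oInf F m :=
  Subtype.ext (hS_smul_inf m z)

theorem hZ_smul_oPt (hF : Fintype.card F = 2 ^ (2 * m + 1)) (z : Fˣ) (x y : F) :
    hZ hF z • oPt m x y = oPt m (th m (z : F) * x) (th m (z : F) * (z : F) ^ 2 * y) :=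
  Subtype.ext (hS_smul_pt hF z x y)

theorem wZ_smul_oInf (hF : Fintype.card F = 2 ^ (2 * m + 1)) : wZ hF • oInf F m = oPt m (0 : F) 0 :=
  Subtype.ext (wS_smul_inf hF)

theorem wZ_smul_oPt_zero (hF : Fintype.card F = 2 ^ (2 * m + 1)) : wZ hF • oPt m (0 : F) 0 = oInf F m :=
  Subtype.ext (wS_smul_pt_zero hF)

theorem wZ_smul_oPt (hF : Fintype.card F = 2 ^ (2 * m + 1)) {x y : F} (h : x ≠ 0 ∨ y ≠ 0) :
    wZ hF • oPt m x y = oPt m (y / ff m x y) (x / ff m x y) :=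
  Subtype.ext (wS_smul_pt hF h)

theorem uZ_zero (hF : Fintype.card F = 2 ^ (2 * m + 1)) : uZ hF (0 : F) 0 = 1 := Subtype.ext (uS_zero m)

theorem hZ_one (hF : Fintype.card F = 2 ^ (2 * m + 1)) : hZ hF (1 : Fˣ) = 1 := Subtype.ext (hS_one m)

theorem hZ_mul (hF : Fintype.card F = 2 ^ (2 * m + 1)) (z z' : Fˣ) : hZ hF (z * z') = hZ hF z * hZ hF z' := Subtype.ext (hS_mul m z z')

theorem uZ_mul (hF : Fintype.card F = 2 ^ (2 * m + 1)) (a b c d : F) : uZ hF a b * uZ hF c d = uZ hF (a + c) (b + d + th m a * c) :=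
  Subtype.ext (uS_mul hF a b c d)

theorem uZ_inv (hF : Fintype.card F = 2 ^ (2 * m + 1)) (a b : F) : (uZ hF a b)⁻¹ = uZ hF a (b + a * th m a) :=
  Subtype.ext (uS_inv hF a b)

theorem wZ_mul_wZ (hF : Fintype.card F = 2 ^ (2 * m + 1)) : wZ hF * wZ hF = 1 := Subtype.ext (wS_mul_wS hF)

theorem wZ_inv (hF : Fintype.card F = 2 ^ (2 * m + 1)) : (wZ hF)⁻¹ = wZ hF := inv_eq_of_mul_eq_one_left (wZ_mul_wZ hF)

theorem hZ_inv (hF : Fintype.card F = 2 ^ (2 * m + 1)) (z : Fˣ) : (hZ hF z)⁻¹ = hZ hF z⁻¹ := by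
  apply inv_eq_of_mul_eq_one_left
  rw [← hZ_mul, inv_mul_cancel, hZ_one]

theorem hZ_uZ_hZ (hF : Fintype.card F = 2 ^ (2 * m + 1)) (z : Fˣ) (a b : F) :
    hZ hF z * uZ hF a b * (hZ hF z)⁻¹ = uZ hF (th m (z : F) * a) (th m (z : F) * (z : F) ^ 2 * b) :=
  Subtype.ext (hS_uS_hS hF z a b)

theorem wZ_hZ_wZ (hF : Fintype.card F = 2 ^ (2 * m + 1)) (z : Fˣ) : wZ hF * hZ hF z * wZ hF = hZ hF z⁻¹ :=
  Subtype.ext (wS_hS_wS hF z)

theorem uZ_smul_zero (hF : Fintype.card F = 2 ^ (2 * m + 1)) (a b : F) : uZ hF a b • oPt m (0 : F) 0 = oPt m a b := by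
  rw [uZ_smul_oPt]; simp

theorem hZ_smul_zero (hF : Fintype.card F = 2 ^ (2 * m + 1)) (z : Fˣ) : hZ hF z • oPt m (0 : F) 0 = oPt m 0 0 := by
  rw [hZ_smul_oPt]; simp

/-- Elements fixing `∞` and `0` are torus elements. -/
theorem fix_oInf_zero (hF : Fintype.card F = 2 ^ (2 * m + 1)) (hm : 1 ≤ m) (g : Cfsg.Sz F m) (h1 : g • oInf F m = oInf F m)
    (h2 : g • oPt m (0 : F) 0 = oPt m 0 0) : ∃ z : Fˣ, g = hZ hF z := by
  obtain ⟨z, hz⟩ := fix_inf_zero hm hF g.2 (congrArg Subtype.val h1) (congrArg Subtype.val h2)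
  exact ⟨z, Subtype.ext hz⟩

/-- Elements fixing `∞` lie in the Borel subgroup. -/
theorem fix_oInf (hF : Fintype.card F = 2 ^ (2 * m + 1)) (hm : 1 ≤ m) (g : Cfsg.Sz F m) (h1 : g • oInf F m = oInf F m) :
    ∃ (a b : F) (z : Fˣ), g = uZ hF a b * hZ hF z := by
  rcases ovoid_cases (g • oPt m (0 : F) 0) with h | ⟨a, b, h⟩
  · exfalso
    rw [← h1] at h
    exact oPt_ne_oInf 0 0 (MulAction.injective g h)
  · have hu : ((uZ hF a b)⁻¹ * g) • oPt m (0 : F) 0 = oPt m 0 0 := by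
      rw [mul_smul, h, inv_smul_eq_iff, uZ_smul_zero]
    have hi : ((uZ hF a b)⁻¹ * g) • oInf F m = oInf F m := by
      rw [mul_smul, h1, inv_smul_eq_iff, uZ_smul_oInf]
    obtain ⟨z, hz⟩ := fix_oInf_zero hF hm _ hi hu
    exact ⟨a, b, z, by rw [← hz]; group⟩

theorem hZ_injective (hF : Fintype.card F = 2 ^ (2 * m + 1)) : Function.Injective (hZ hF : Fˣ → Cfsg.Sz F m) := by
  intro z z' h
  have h1 : (hM m (z : F)) 1 1 = (hM m (z' : F)) 1 1 := by
    have := congrArg (fun g : Cfsg.Sz F m => (g : Matrix.SpecialLinearGroup (Fin 4) F).1 1 1) h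
    exact this
  simp [hM] at h1
  exact Units.ext h1

theorem borel_unique (hF : Fintype.card F = 2 ^ (2 * m + 1)) {a b a' b' : F} {z z' : Fˣ}
    (h : uZ hF a b * hZ hF z = uZ hF a' b' * hZ hF z') : a = a' ∧ b = b' ∧ z = z' := by
  have h0 := congrArg (fun g : Cfsg.Sz F m => g • oPt m (0 : F) 0) h
  simp only [mul_smul, hZ_smul_zero, uZ_smul_zero] at h0
  obtain ⟨ha, hb⟩ := oPt_inj h0
  subst ha hb
  refine ⟨rfl, rfl, ?_⟩
  exact hZ_injective hF (mul_left_cancel h)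

/-- The Borel subgroup is parametrised by `F × F × Fˣ`. -/
noncomputable def borelEquiv (hF : Fintype.card F = 2 ^ (2 * m + 1)) (hm : 1 ≤ m) : F × F × Fˣ ≃ stabilizer (Cfsg.Sz F m) (oInf F m) :=
  Equiv.ofBijective
    (fun t => ⟨uZ hF t.1 t.2.1 * hZ hF t.2.2, by
      rw [mem_stabilizer_iff, mul_smul, hZ_smul_oInf, uZ_smul_oInf]⟩)
    ⟨by
      rintro ⟨a, b, z⟩ ⟨a', b', z'⟩ h
      have := congrArg Subtype.val h
      obtain ⟨h1, h2, h3⟩ := borel_unique hF this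
      exact Prod.ext h1 (Prod.ext h2 h3),
    by
      rintro ⟨g, hg⟩
      obtain ⟨a, b, z, h⟩ := fix_oInf hF hm g (mem_stabilizer_iff.mp hg)
      exact ⟨⟨a, b, z⟩, Subtype.ext h.symm⟩⟩

theorem card_borel (hF : Fintype.card F = 2 ^ (2 * m + 1)) (hm : 1 ≤ m) :
    Nat.card (stabilizer (Cfsg.Sz F m) (oInf F m)) = (2 ^ (2 * m + 1)) ^ 2 * (2 ^ (2 * m + 1) - 1) := by
  rw [← Nat.card_congr (borelEquiv hF hm), Nat.card_prod, Nat.card_prod, Nat.card_units,
    Nat.card_eq_fintype_card, hF]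
  ring

/-- Every point can be moved to `∞`. -/
theorem exists_smul_eq_oInf (hF : Fintype.card F = 2 ^ (2 * m + 1)) (p : Cfsg.suzukiOvoid F m) : ∃ g : Cfsg.Sz F m, g • p = oInf F m := by
  rcases ovoid_cases p with rfl | ⟨x, y, rfl⟩
  · exact ⟨1, one_smul _ _⟩
  · refine ⟨wZ hF * (uZ hF x y)⁻¹, ?_⟩
    rw [mul_smul, inv_smul_eq_iff.mpr (uZ_smul_zero hF x y).symm, wZ_smul_oPt_zero]

theorem isPretransitive (hF : Fintype.card F = 2 ^ (2 * m + 1)) : IsPretransitive (Cfsg.Sz F m) (Cfsg.suzukiOvoid F m) := by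
  constructor
  intro p p'
  obtain ⟨g, hg⟩ := exists_smul_eq_oInf hF p
  obtain ⟨g', hg'⟩ := exists_smul_eq_oInf hF p'
  refine ⟨g'⁻¹ * g, ?_⟩
  rw [mul_smul, hg, inv_smul_eq_iff, hg']

/-- Any two distinct points can be moved to `∞, 0`. -/
theorem exists_smul_pair (hF : Fintype.card F = 2 ^ (2 * m + 1)) {p p' : Cfsg.suzukiOvoid F m} (h : p ≠ p') :
    ∃ g : Cfsg.Sz F m, g • p = oInf F m ∧ g • p' = oPt m 0 0 := by
  obtain ⟨g, hg⟩ := exists_smul_eq_oInf hF p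
  rcases ovoid_cases (g • p') with h' | ⟨x, y, h'⟩
  · exfalso
    rw [← hg] at h'
    exact h (MulAction.injective g h').symm
  · refine ⟨(uZ hF x y)⁻¹ * g, ?_, ?_⟩
    · rw [mul_smul, hg, inv_smul_eq_iff, uZ_smul_oInf]
    · rw [mul_smul, h', inv_smul_eq_iff, uZ_smul_zero]

theorem is_two_pretransitive (hF : Fintype.card F = 2 ^ (2 * m + 1)) : IsMultiplyPretransitive (Cfsg.Sz F m) (Cfsg.suzukiOvoid F m) 2 := by
  rw [MulAction.is_two_pretransitive_iff]
  intro a b c d hab hcd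
  obtain ⟨g, hg1, hg2⟩ := exists_smul_pair hF hab
  obtain ⟨g', hg1', hg2'⟩ := exists_smul_pair hF hcd
  refine ⟨g'⁻¹ * g, ?_, ?_⟩
  · rw [mul_smul, hg1, inv_smul_eq_iff, hg1']
  · rw [mul_smul, hg2, inv_smul_eq_iff, hg2']

/-- A torus element fixing a third point is trivial. -/
theorem hZ_fix (hF : Fintype.card F = 2 ^ (2 * m + 1)) {z : Fˣ} {x y : F} (hxy : x ≠ 0 ∨ y ≠ 0) (h : hZ hF z • oPt m x y = oPt m x y) :
    z = 1 := by
  rw [hZ_smul_oPt] at h
  obtain ⟨h1, h2⟩ := oPt_inj h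
  have hz : (z : F) ≠ 0 := z.ne_zero
  by_cases hx : x = 0
  · have hy : y ≠ 0 := by
      rcases hxy with h | h
      · exact absurd hx h
      · exact h
    have h3 : th m (z : F) * (z : F) ^ 2 = 1 := by
      have : th m (z : F) * (z : F) ^ 2 * y = 1 * y := by rw [h2, one_mul]
      exact mul_right_cancel₀ hy this
    have h4 : th m (z : F) * th m (th m (z : F)) = 1 := by rw [th_th hF]; exact h3
    have h5 := mul_th_eq_one hF h4
    exact Units.ext (th_eq_one hF h5)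
  · have h3 : th m (z : F) = 1 := by
      have : th m (z : F) * x = 1 * x := by rw [h1, one_mul]
      exact mul_right_cancel₀ hx this
    exact Units.ext (th_eq_one hF h3)

omit [Fintype F] in
theorem oPt_ne_zero_iff {x y : F} : oPt m x y ≠ oPt m 0 0 ↔ (x ≠ 0 ∨ y ≠ 0) := by
  constructor
  · intro h
    by_contra hc
    push Not at hc
    obtain ⟨rfl, rfl⟩ := hc
    exact h rfl
  · intro h h'
    obtain ⟨rfl, rfl⟩ := oPt_inj h'
    simp at h

/-- Only the identity fixes three distinct points. -/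
theorem eq_one_of_fix_three (hF : Fintype.card F = 2 ^ (2 * m + 1)) (hm : 1 ≤ m) {g : Cfsg.Sz F m} {a b c : Cfsg.suzukiOvoid F m}
    (hab : a ≠ b) (hbc : b ≠ c) (hac : a ≠ c) (ha : g • a = a) (hb : g • b = b) (hc : g • c = c) :
    g = 1 := by
  obtain ⟨t, hta, htb⟩ := exists_smul_pair hF hab
  have h1 : (t * g * t⁻¹) • oInf F m = oInf F m := by
    rw [mul_smul, mul_smul, ← hta, inv_smul_smul, ha]
  have h2 : (t * g * t⁻¹) • oPt m (0 : F) 0 = oPt m 0 0 := by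
    rw [mul_smul, mul_smul, ← htb, inv_smul_smul, hb]
  have h3 : (t * g * t⁻¹) • (t • c) = t • c := by
    rw [mul_smul, mul_smul, inv_smul_smul, hc]
  obtain ⟨z, hz⟩ := fix_oInf_zero hF hm _ h1 h2
  rcases ovoid_cases (t • c) with h | ⟨x, y, h⟩
  · exfalso
    rw [← hta] at h
    exact hac (MulAction.injective t h).symm
  · have hxy : x ≠ 0 ∨ y ≠ 0 := by
      rw [← oPt_ne_zero_iff, ← h, ← htb]
      intro h'
      exact hbc (MulAction.injective t h').symm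
    rw [hz, h] at h3
    have := hZ_fix hF hxy h3
    rw [this, hZ_one] at hz
    have : t * g = t := by
      have := congrArg (· * t) hz
      simpa using this
    exact mul_left_cancel (this.trans (mul_one t).symm)

theorem card_ovoid (hF : Fintype.card F = 2 ^ (2 * m + 1)) : Nat.card (Cfsg.suzukiOvoid F m) = (2 ^ (2 * m + 1)) ^ 2 + 1 := by
  rw [Cfsg.Agent.S0326.result, hF]

/-- The order of the Suzuki group. -/
theorem card_Sz (hF : Fintype.card F = 2 ^ (2 * m + 1)) (hm : 1 ≤ m) :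
    Nat.card (Cfsg.Sz F m) =
      (2 ^ (2 * m + 1)) ^ 2 * ((2 ^ (2 * m + 1)) ^ 2 + 1) * (2 ^ (2 * m + 1) - 1) := by
  haveI := isPretransitive hF
  have h1 := MulAction.index_stabilizer_of_transitive (Cfsg.Sz F m) (oInf F m)
  have h2 := Subgroup.index_mul_card (stabilizer (Cfsg.Sz F m) (oInf F m))
  rw [h1, card_ovoid hF, card_borel hF hm] at h2
  rw [← h2]
  ring

end Cfsg.Agent.Lib.Helper4.Suz
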