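import Mathlib
import Cfsg.Prelude.Def_LieExceptional
import Cfsg.Agent.S0326
import Cfsg.Agent.Lib.Helper4.Suz5

/-!
# Suzuki groups (ovoid stabiliser model): Bruhat decomposition, symplectic form, ovoid property
-/

set_option autoImplicit false
set_option linter.unusedSimpArgs false
set_option linter.unusedVariables false

namespace Cfsg.Agent.Lib.Helper4.Suz

open Matrix MulAction

variable {F : Type*} [Field F] [Fintype F] {m : ℕ}

/-- Bruhat decomposition. -/
theorem bruhat (hF : Fintype.card F = 2 ^ (2 * m + 1)) (hm : 1 ≤ m) (g : Cfsg.Sz F m) :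
    (∃ (a b : F) (z : Fˣ), g = uZ hF a b * hZ hF z) ∨
    (∃ (a b a' b' : F) (z : Fˣ), g = uZ hF a b * wZ hF * (uZ hF a' b' * hZ hF z)) := by
  rcases ovoid_cases (g • oInf F m) with h | ⟨a, b, h⟩
  · left
    exact fix_oInf hF hm g h
  · right
    have h1 : (wZ hF * (uZ hF a b)⁻¹ * g) • oInf F m = oInf F m := by
      rw [mul_smul, mul_smul, h, inv_smul_eq_iff.mpr (uZ_smul_zero hF a b).symm, wZ_smul_oPt_zero]
    obtain ⟨a', b', z, hz⟩ := fix_oInf hF hm _ h1
    refine ⟨a, b, a', b', z, ?_⟩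
    rw [← hz]
    have hw : wZ hF * wZ hF = 1 := wZ_mul_wZ hF
    calc g = uZ hF a b * (wZ hF * wZ hF) * ((uZ hF a b)⁻¹ * g) := by rw [hw]; group
      _ = _ := by group

/-- The symplectic condition. -/
def IsSp (M : Matrix (Fin 4) (Fin 4) F) : Prop := Mᵀ * wM * M = wM

omit [Fintype F] in
theorem IsSp.mul {M N : Matrix (Fin 4) (Fin 4) F} (hM : IsSp M) (hN : IsSp N) : IsSp (M * N) := by
  unfold IsSp at *
  rw [Matrix.transpose_mul]
  calc Nᵀ * Mᵀ * wM * (M * N) = Nᵀ * (Mᵀ * wM * M) * N := by simp only [Matrix.mul_assoc]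
    _ = wM := by rw [hM, hN]

omit [Fintype F] in
theorem isSp_wM : IsSp (wM : Matrix (Fin 4) (Fin 4) F) := by
  unfold IsSp
  have : (wM : Matrix (Fin 4) (Fin 4) F)ᵀ = wM := by
    ext i j
    fin_cases i <;> fin_cases j <;> simp [wM]
  rw [this, wM_mul_wM, Matrix.one_mul]

omit [Fintype F] in
theorem isSp_hM {z : F} (hz : z ≠ 0) : IsSp (hM m z) := by
  unfold IsSp
  have htz : th m z ≠ 0 := th_ne_zero hz
  ext i j
  fin_cases i <;> fin_cases j <;>
    simp [hM, wM, Matrix.mul_apply, Fin.sum_univ_four, hz, htz] <;> field_simp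

theorem isSp_uM (hF : Fintype.card F = 2 ^ (2 * m + 1)) (a b : F) : IsSp (uM m a b) := by
  have h2 := two_eq_zero hF
  unfold IsSp
  ext i j
  fin_cases i <;> fin_cases j <;>
    simp [uM, wM, Matrix.mul_apply, Fin.sum_univ_four] <;>
    (try (rw [← sub_eq_zero]; ring_nf;
          try simp only [m2 h2, m3 h2, m4 h2, add_zero, neg_zero, sub_zero, zero_add, sub_self]))

/-- Every element of the Suzuki group is symplectic. -/
theorem isSp_of_mem (hF : Fintype.card F = 2 ^ (2 * m + 1)) (hm : 1 ≤ m)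
    {g : Matrix.SpecialLinearGroup (Fin 4) F} (hg : g ∈ Cfsg.Sz F m) : IsSp g.1 := by
  rcases bruhat hF hm ⟨g, hg⟩ with ⟨a, b, z, h⟩ | ⟨a, b, a', b', z, h⟩
  · have h' := congrArg (fun x : Cfsg.Sz F m => (x : Matrix.SpecialLinearGroup (Fin 4) F).1) h
    simp only [uZ, hZ, uS, hS, Subgroup.coe_mul, Matrix.SpecialLinearGroup.coe_mul] at h'
    rw [h']
    exact (isSp_uM hF a b).mul (isSp_hM z.ne_zero)
  · have h' := congrArg (fun x : Cfsg.Sz F m => (x : Matrix.SpecialLinearGroup (Fin 4) F).1) h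
    simp only [uZ, hZ, wZ, uS, hS, wS, Subgroup.coe_mul, Matrix.SpecialLinearGroup.coe_mul] at h'
    rw [h']
    exact ((isSp_uM hF a b).mul isSp_wM).mul ((isSp_uM hF a' b').mul (isSp_hM z.ne_zero))

omit [Fintype F] in
/-- Linear independence of the three standard vectors. -/
theorem li_std {x y : F} (hxy : x ≠ 0 ∨ y ≠ 0) :
    LinearIndependent F ![(e0 : Fin 4 → F), vc m 0 0, vc m x y] := by
  rw [Fintype.linearIndependent_iff]
  intro c hc
  rw [Fin.sum_univ_three] at hc
  simp only [Matrix.cons_val_zero, Matrix.cons_val_one, Matrix.cons_val_two] at hc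
  have h0 := congrFun hc 0
  have h1 := congrFun hc 1
  have h2 := congrFun hc 2
  have h3 := congrFun hc 3
  simp [e0, vc, ff_zero_zero] at h0 h1 h2 h3
  have hc2 : c 2 = 0 := by
    rcases hxy with hx | hy
    · rcases h2 with h | h
      · exact h
      · exact absurd h hx
    · rcases h1 with h | h
      · exact h
      · exact absurd h hy
  have hc1 : c 1 = 0 := by rw [hc2, add_zero] at h3; exact h3
  have hc0 : c 0 = 0 := by rw [hc2, zero_mul, add_zero] at h0; exact h0
  intro i
  fin_cases i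
  · exact hc0
  · exact hc1
  · exact hc2

omit [Fintype F] in
theorem independent_of_vectors {ι : Type*} (f : ι → PP F) (v : ι → (Fin 4 → F)) (hv : ∀ i, v i ≠ 0)
    (h : ∀ i, f i = Projectivization.mk F (v i) (hv i)) (hl : LinearIndependent F v) :
    Projectivization.Independent f := by
  have : f = fun i => Projectivization.mk F (v i) (hv i) := funext h
  rw [this]
  exact Projectivization.Independent.mk v hv hl

/-- Three distinct points of the ovoid are independent. -/
theorem ovoid_independent (hF : Fintype.card F = 2 ^ (2 * m + 1)) (hm : 1 ≤ m)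
    (p : Fin 3 ↪ Cfsg.suzukiOvoid F m) :
    Projectivization.Independent (fun i => (p i : PP F)) := by
  have h01 : p 0 ≠ p 1 := fun h => by simpa using p.injective h
  have h02 : p 0 ≠ p 2 := fun h => by simpa using p.injective h
  have h12 : p 1 ≠ p 2 := fun h => by simpa using p.injective h
  obtain ⟨t, ht0, ht1⟩ := exists_smul_pair hF h01
  rcases ovoid_cases (t • p 2) with h | ⟨x, y, ht2⟩
  · exfalso
    rw [← ht0] at h
    exact h02 (MulAction.injective t h).symm
  have hxy : x ≠ 0 ∨ y ≠ 0 := by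
    rw [← oPt_ne_zero_iff, ← ht2, ← ht1]
    intro h'
    exact h12 (MulAction.injective t h').symm
  set s : Matrix.SpecialLinearGroup (Fin 4) F := ((t⁻¹ : Cfsg.Sz F m) : Matrix.SpecialLinearGroup (Fin 4) F)
    with hs
  let w : Fin 3 → (Fin 4 → F) := ![(e0 : Fin 4 → F), vc m 0 0, vc m x y]
  have hw : ∀ i, w i ≠ 0 := by
    intro i
    fin_cases i
    · exact e0_ne
    · exact vc_ne m 0 0
    · exact vc_ne m x y
  have hinj : Function.Injective (fun u : Fin 4 → F => s.1 *ᵥ u) := MulAction.injective s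
  have hsw : ∀ i, s.1 *ᵥ w i ≠ 0 := by
    intro i h
    apply hw i
    apply hinj
    simp only [h, Matrix.mulVec_zero]
  apply independent_of_vectors _ (fun i => s.1 *ᵥ w i) hsw
  · intro i
    have key : ∀ (q : Cfsg.suzukiOvoid F m) (u : Fin 4 → F) (hu : u ≠ 0) (hsu : s.1 *ᵥ u ≠ 0),
        (t • q : Cfsg.suzukiOvoid F m).1 = Projectivization.mk F u hu →
        (q : PP F) = Projectivization.mk F (s.1 *ᵥ u) hsu := by
      intro q u hu hsu hq
      have : (q : PP F) = s • (t • q : Cfsg.suzukiOvoid F m).1 := by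
        rw [hs, ← smul_val, inv_smul_smul]
      rw [this, hq]
      rfl
    fin_cases i
    · exact key (p 0) e0 e0_ne (hsw 0) (by rw [ht0]; rfl)
    · exact key (p 1) (vc m 0 0) (vc_ne m 0 0) (hsw 1) (by rw [ht1]; rfl)
    · exact key (p 2) (vc m x y) (vc_ne m x y) (hsw 2) (by rw [ht2]; rfl)
  · have hl := li_std (m := m) hxy
    have := hl.map' (Matrix.mulVecLin s.1) (LinearMap.ker_eq_bot.mpr (by
      intro u v huv
      exact hinj huv))
    exact this

end Cfsg.Agent.Lib.Helper4.Suz
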