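import Mathlib
import Cfsg.Prelude.Def_LieExceptional
import Cfsg.Agent.S0326
import Cfsg.Agent.Lib.Helper4.Suz6

/-!
# Suzuki groups (ovoid stabiliser model): Zassenhaus group properties
-/

set_option autoImplicit false
set_option linter.unusedSimpArgs false
set_option linter.unusedVariables false

namespace Cfsg.Agent.Lib.Helper4.Suz

open Matrix MulAction

/-- `q² + 1` is not a prime power for `q = 2^(2m+1)`, `m ≥ 1`. -/
theorem not_prime_pow {m : ℕ} (hm : 1 ≤ m) {p n : ℕ} (hp : p.Prime)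
    (h : (2 ^ (2 * m + 1)) ^ 2 + 1 = p ^ n) : False := by
  obtain ⟨j, hj⟩ : ∃ j, 2 ^ m = j + 2 := by
    have : 2 ^ 1 ≤ 2 ^ m := Nat.pow_le_pow_right (by norm_num) hm
    exact ⟨2 ^ m - 2, by omega⟩
  have hq : 2 ^ (2 * m + 1) = 2 * (j + 2) ^ 2 := by
    rw [← hj]; ring
  set A := 2 * (j + 2) ^ 2 + 2 * (j + 2) + 1 with hA
  set B := 2 * (j + 2) * (j + 1) + 1 with hB
  have hAB : (2 ^ (2 * m + 1)) ^ 2 + 1 = A * B := by
    rw [hq, hA, hB]; ring
  have hA1 : 1 < A := by rw [hA]; nlinarith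
  have hB1 : 1 < B := by rw [hB]; nlinarith
  have hdiv : ∀ C : ℕ, 1 < C → C ∣ p ^ n → p ∣ C := by
    intro C hC hd
    obtain ⟨p', hp', hp'C⟩ := Nat.exists_prime_and_dvd (ne_of_gt hC)
    have : p' ∣ p ^ n := hp'C.trans hd
    have := (Nat.prime_dvd_prime_iff_eq hp' hp).mp (hp'.dvd_of_dvd_pow this)
    rw [← this]; exact hp'C
  have hpA : p ∣ A := hdiv A hA1 (by rw [← h, hAB]; exact dvd_mul_right _ _)
  have hpB : p ∣ B := hdiv B hB1 (by rw [← h, hAB]; exact dvd_mul_left _ _)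
  have hdiff : A = B + 4 * (j + 2) := by rw [hA, hB]; ring
  have hp4 : p ∣ 4 * (j + 2) := by
    have : p ∣ B + 4 * (j + 2) := by rw [← hdiff]; exact hpA
    exact (Nat.dvd_add_right hpB).mp this
  have hodd : ¬ 2 ∣ A := by
    rw [hA]; omega
  rcases (Nat.Prime.dvd_mul hp).mp hp4 with h4 | hj2
  · have : p ∣ 2 ^ 2 := by norm_num; exact h4
    have := (Nat.prime_dvd_prime_iff_eq hp Nat.prime_two).mp (hp.dvd_of_dvd_pow this)
    rw [this] at hpA
    exact hodd hpA
  · have : p ∣ 2 * (j + 2) ^ 2 + 2 * (j + 2) := by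
      have e : 2 * (j + 2) ^ 2 + 2 * (j + 2) = (j + 2) * (2 * (j + 2) + 2) := by ring
      rw [e]; exact dvd_mul_of_dvd_left hj2 _
    have h1 : p ∣ 1 := by
      have : p ∣ (2 * (j + 2) ^ 2 + 2 * (j + 2)) + 1 := hpA
      exact (Nat.dvd_add_right ‹p ∣ 2 * (j + 2) ^ 2 + 2 * (j + 2)›).mp this
    exact hp.one_lt.ne' (Nat.dvd_one.mp h1)

variable {F : Type*} [Field F] [Fintype F] {m : ℕ}

theorem oPt_one_ne_zero : oPt m (1 : F) 0 ≠ oPt m 0 0 := by
  rw [oPt_ne_zero_iff]; left; exact one_ne_zero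

/-- The action is faithful. -/
theorem faithful (hF : Fintype.card F = 2 ^ (2 * m + 1)) (hm : 1 ≤ m) :
    FaithfulSMul (Cfsg.Sz F m) (Cfsg.suzukiOvoid F m) := by
  constructor
  intro g g' h
  have h1 : ∀ p : Cfsg.suzukiOvoid F m, (g'⁻¹ * g) • p = p := by
    intro p
    rw [mul_smul, h p, inv_smul_smul]
  have := eq_one_of_fix_three hF hm (a := oInf F m) (b := oPt m 0 0) (c := oPt m 1 0)
    (oPt_ne_oInf 0 0).symm oPt_one_ne_zero.symm (oPt_ne_oInf 1 0).symm (h1 _) (h1 _) (h1 _)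
  exact (inv_mul_eq_one.mp this).symm

theorem exists_unit_ne_one (hF : Fintype.card F = 2 ^ (2 * m + 1)) (hm : 1 ≤ m) :
    ∃ z : Fˣ, z ≠ 1 := by
  have h1 : Nat.card Fˣ = 2 ^ (2 * m + 1) - 1 := by
    rw [Nat.card_units, Nat.card_eq_fintype_card, hF]
  have h2 : 1 < Nat.card Fˣ := by
    rw [h1]
    have : 2 ^ 3 ≤ 2 ^ (2 * m + 1) := Nat.pow_le_pow_right (by norm_num) (by omega)
    omega
  haveI : Nontrivial Fˣ := (Finite.one_lt_card_iff_nontrivial).mp h2
  exact exists_ne 1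

/-- There is no regular normal subgroup. -/
theorem no_regular_normal (hF : Fintype.card F = 2 ^ (2 * m + 1)) (hm : 1 ≤ m)
    (N : Subgroup (Cfsg.Sz F m)) (hN : N.Normal)
    (htr : MulAction.IsPretransitive N (Cfsg.suzukiOvoid F m)) :
    ∃ a : Cfsg.suzukiOvoid F m, MulAction.stabilizer N a ≠ ⊥ := by
  have h2 := two_eq_zero hF
  by_contra hcon
  push Not at hcon
  -- the orbit map is a bijection
  have hinj : Function.Injective (fun n : N => n • oInf F m) := by
    intro n n' h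
    have h' : (n'⁻¹ * n) • oInf F m = oInf F m := by
      rw [mul_smul]
      show n'⁻¹ • (n • oInf F m) = oInf F m
      have h'' : n • oInf F m = n' • oInf F m := h
      rw [h'', inv_smul_smul]
    have hmem : n'⁻¹ * n ∈ MulAction.stabilizer N (oInf F m) := mem_stabilizer_iff.mpr h'
    rw [hcon (oInf F m), Subgroup.mem_bot] at hmem
    exact (inv_mul_eq_one.mp hmem).symm
  have hsurj : Function.Surjective (fun n : N => n • oInf F m) := by
    intro p
    exact MulAction.exists_smul_eq N (oInf F m) p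
  have hcard : Nat.card N = (2 ^ (2 * m + 1)) ^ 2 + 1 := by
    rw [← card_ovoid hF]
    exact Nat.card_congr (Equiv.ofBijective _ ⟨hinj, hsurj⟩)
  -- all nonidentity elements are conjugate
  have hconj : ∀ n n' : N, n ≠ 1 → n' ≠ 1 → orderOf n = orderOf n' := by
    intro n n' hn hn'
    have hne : ∀ k : N, k ≠ 1 → ∃ x y, k • oInf F m = oPt m x y := by
      intro k hk
      rcases ovoid_cases (k • oInf F m) with h | h
      · exfalso
        apply hk
        apply hinj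
        show k • oInf F m = (1 : N) • oInf F m
        rw [h, one_smul]
      · exact h
    obtain ⟨x, y, hxy⟩ := hne n hn
    obtain ⟨x', y', hxy'⟩ := hne n' hn'
    set u := uZ hF (x + x') (y' + y + th m (x + x') * x) with hu
    have hun : u * (n : Cfsg.Sz F m) * u⁻¹ ∈ N := hN.conj_mem _ n.2 u
    have hfix : u⁻¹ • oInf F m = oInf F m := by
      rw [inv_smul_eq_iff, hu, uZ_smul_oInf]
    have himg : (⟨u * (n : Cfsg.Sz F m) * u⁻¹, hun⟩ : N) • oInf F m = n' • oInf F m := by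
      show (u * (n : Cfsg.Sz F m) * u⁻¹) • oInf F m = n' • oInf F m
      rw [mul_smul, mul_smul, hfix]
      have : (n : Cfsg.Sz F m) • oInf F m = oPt m x y := hxy
      rw [this, hxy', hu, uZ_smul_oPt]
      congr 1
      · rw [← add_assoc, add_self' h2, zero_add]
      · rw [← sub_eq_zero]; ring_nf
        simp only [m2 h2, m3 h2, m4 h2, add_zero, neg_zero, sub_zero, zero_add, sub_self]
    have heq : (⟨u * (n : Cfsg.Sz F m) * u⁻¹, hun⟩ : N) = n' := hinj himg
    rw [← heq]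
    have e1 : orderOf (⟨u * (n : Cfsg.Sz F m) * u⁻¹, hun⟩ : N) =
        orderOf (u * (n : Cfsg.Sz F m) * u⁻¹) := by
      rw [← Subgroup.orderOf_coe]
    have e2 : orderOf (u * (n : Cfsg.Sz F m) * u⁻¹) = orderOf (n : Cfsg.Sz F m) := by
      rw [← MulAut.conj_apply]
      exact MulEquiv.orderOf_eq _ _
    rw [e1, e2, Subgroup.orderOf_coe]
  -- N is a p-group
  have hN1 : 1 < Nat.card N := by
    rw [hcard]
    have : 0 < (2 ^ (2 * m + 1)) ^ 2 := by positivity
    omega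
  obtain ⟨p, hp, hpd⟩ := Nat.exists_prime_and_dvd (ne_of_gt hN1)
  haveI : Fact p.Prime := ⟨hp⟩
  obtain ⟨n0, hn0⟩ := exists_prime_orderOf_dvd_card' p hpd
  have hn01 : n0 ≠ 1 := by
    rintro rfl
    rw [orderOf_one] at hn0
    exact hp.one_lt.ne hn0
  have hpg : IsPGroup p N := by
    intro g
    by_cases hg : g = 1
    · exact ⟨0, by rw [hg, one_pow]⟩
    · refine ⟨1, ?_⟩
      rw [pow_one, ← hn0, hconj n0 g hn01 hg]
      exact pow_orderOf_eq_one g
  obtain ⟨k, hk⟩ := (IsPGroup.iff_card).mp hpg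
  rw [hcard] at hk
  exact not_prime_pow hm hp hk

/-- The Suzuki group is a Zassenhaus group on the ovoid. -/
theorem isZassenhaus (hF : Fintype.card F = 2 ^ (2 * m + 1)) (hm : 1 ≤ m) :
    Cfsg.IsZassenhausGroup (Cfsg.Sz F m) (Cfsg.suzukiOvoid F m) := by
  refine ⟨faithful hF hm, is_two_pretransitive hF, ?_, ?_, no_regular_normal hF hm⟩
  · intro g a b c hab hbc hac ha hb hc
    exact eq_one_of_fix_three hF hm hab hbc hac ha hb hc
  · obtain ⟨z, hz⟩ := exists_unit_ne_one hF hm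
    refine ⟨hZ hF z, ?_, oInf F m, oPt m 0 0, (oPt_ne_oInf 0 0).symm, hZ_smul_oInf hF z,
      hZ_smul_zero hF z⟩
    intro h
    rw [← hZ_one hF] at h
    exact hz (hZ_injective hF h)

end Cfsg.Agent.Lib.Helper4.Suz
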