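import Mathlib
import Cfsg.Prelude.Def_LieExceptional
import Cfsg.Agent.S0326
import Cfsg.Agent.Lib.Helper4.Suz7

/-!
# Suzuki groups (ovoid stabiliser model): the unipotent subgroup and Sylow 2-subgroups
-/

set_option autoImplicit false
set_option linter.unusedSimpArgs false
set_option linter.unusedVariables false

namespace Cfsg.Agent.Lib.Helper4.Suz

open Matrix MulAction
open scoped commutatorElement

variable {F : Type*} [Field F] [Fintype F] {m : ℕ}

/-- The unipotent subgroup. -/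
def USub (hF : Fintype.card F = 2 ^ (2 * m + 1)) : Subgroup (Cfsg.Sz F m) where
  carrier := {g | ∃ a b, g = uZ hF a b}
  one_mem' := ⟨0, 0, (uZ_zero hF).symm⟩
  mul_mem' := by
    rintro _ _ ⟨a, b, rfl⟩ ⟨c, d, rfl⟩
    exact ⟨_, _, uZ_mul hF a b c d⟩
  inv_mem' := by
    rintro _ ⟨a, b, rfl⟩
    exact ⟨_, _, uZ_inv hF a b⟩

theorem uZ_mem_USub (hF : Fintype.card F = 2 ^ (2 * m + 1)) (a b : F) : uZ hF a b ∈ USub hF :=
  ⟨a, b, rfl⟩

theorem uZ_injective (hF : Fintype.card F = 2 ^ (2 * m + 1)) {a b a' b' : F}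
    (h : uZ hF a b = uZ hF a' b') : a = a' ∧ b = b' := by
  have h0 := congrArg (fun g : Cfsg.Sz F m => g • oPt m (0 : F) 0) h
  simp only [uZ_smul_zero] at h0
  exact oPt_inj h0

/-- Elements of `USub`. -/
def uU (hF : Fintype.card F = 2 ^ (2 * m + 1)) (a b : F) : USub hF := ⟨uZ hF a b, uZ_mem_USub hF a b⟩

theorem exists_uU (hF : Fintype.card F = 2 ^ (2 * m + 1)) (g : USub hF) : ∃ a b, g = uU hF a b := by
  obtain ⟨a, b, h⟩ := g.2
  exact ⟨a, b, Subtype.ext h⟩

theorem uU_inj (hF : Fintype.card F = 2 ^ (2 * m + 1)) {a b a' b' : F}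
    (h : uU hF a b = uU hF a' b') : a = a' ∧ b = b' :=
  uZ_injective hF (congrArg Subtype.val h)

theorem uU_mul (hF : Fintype.card F = 2 ^ (2 * m + 1)) (a b c d : F) :
    uU hF a b * uU hF c d = uU hF (a + c) (b + d + th m a * c) :=
  Subtype.ext (uZ_mul hF a b c d)

theorem uU_inv (hF : Fintype.card F = 2 ^ (2 * m + 1)) (a b : F) :
    (uU hF a b)⁻¹ = uU hF a (b + a * th m a) :=
  Subtype.ext (uZ_inv hF a b)

theorem uU_zero (hF : Fintype.card F = 2 ^ (2 * m + 1)) : uU hF (0 : F) 0 = 1 :=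
  Subtype.ext (uZ_zero hF)

/-- `USub ≃ F × F`. -/
noncomputable def uEquiv (hF : Fintype.card F = 2 ^ (2 * m + 1)) : F × F ≃ USub hF :=
  Equiv.ofBijective (fun t => uU hF t.1 t.2)
    ⟨by
      rintro ⟨a, b⟩ ⟨a', b'⟩ h
      obtain ⟨h1, h2⟩ := uU_inj hF h
      exact Prod.ext h1 h2,
    by
      intro g
      obtain ⟨a, b, h⟩ := exists_uU hF g
      exact ⟨(a, b), h.symm⟩⟩

theorem card_USub (hF : Fintype.card F = 2 ^ (2 * m + 1)) :
    Nat.card (USub hF) = (2 ^ (2 * m + 1)) ^ 2 := by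
  rw [← Nat.card_congr (uEquiv hF), Nat.card_prod, Nat.card_eq_fintype_card, hF, sq]

theorem uU_sq (hF : Fintype.card F = 2 ^ (2 * m + 1)) (a b : F) :
    uU hF a b ^ 2 = uU hF 0 (th m a * a) := by
  have h2 := two_eq_zero hF
  rw [sq, uU_mul]
  congr 1
  · exact add_self' h2 a
  · rw [add_self' h2, zero_add]

theorem uU_pow_four (hF : Fintype.card F = 2 ^ (2 * m + 1)) (a b : F) : uU hF a b ^ 4 = 1 := by
  have : uU hF a b ^ 4 = (uU hF a b ^ 2) ^ 2 := by rw [← pow_mul]
  rw [this, uU_sq, uU_sq, th_zero, zero_mul, uU_zero]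

theorem uU_comm (hF : Fintype.card F = 2 ^ (2 * m + 1)) (a b c d : F) :
    ⁅uU hF a b, uU hF c d⁆ = uU hF 0 (th m a * c + th m c * a) := by
  have h2 := two_eq_zero hF
  rw [commutatorElement_def, uU_inv, uU_inv, uU_mul, uU_mul, uU_mul]
  congr 1
  · rw [← sub_eq_zero]; ring_nf
    simp only [m2 h2, m3 h2, m4 h2, add_zero, neg_zero, sub_zero, zero_add, sub_self]
  · simp only [th_add hF]
    rw [← sub_eq_zero]; ring_nf
    simp only [m2 h2, m3 h2, m4 h2, add_zero, neg_zero, sub_zero, zero_add, sub_self]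

theorem exists_ne_zero_one (hF : Fintype.card F = 2 ^ (2 * m + 1)) (hm : 1 ≤ m) :
    ∃ t : F, t ≠ 0 ∧ t ≠ 1 := by
  obtain ⟨z, hz⟩ := exists_unit_ne_one hF hm
  exact ⟨z, z.ne_zero, fun h => hz (Units.ext h)⟩

theorem mul_th_injective (hF : Fintype.card F = 2 ^ (2 * m + 1)) :
    Function.Injective (fun a : F => a * th m a) := by
  intro a a' h
  simp only at h
  by_cases ha' : a' = 0
  · subst ha'
    rw [th_zero, mul_zero] at h
    rcases mul_eq_zero.mp h with h | h
    · exact h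
    · exact th_eq_zero h
  · have hta' : th m a' ≠ 0 := th_ne_zero ha'
    have : (a / a') * th m (a / a') = 1 := by
      rw [th_div]
      field_simp
      exact h
    have := mul_th_eq_one hF this
    field_simp at this
    exact this

theorem mul_th_surjective (hF : Fintype.card F = 2 ^ (2 * m + 1)) :
    Function.Surjective (fun a : F => a * th m a) :=
  Finite.surjective_of_injective (mul_th_injective hF)

/-- The central subgroup `{u(0,b)}`. -/
def ZSub (hF : Fintype.card F = 2 ^ (2 * m + 1)) : Subgroup (USub hF) where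
  carrier := {g | ∃ b, g = uU hF 0 b}
  one_mem' := ⟨0, (uU_zero hF).symm⟩
  mul_mem' := by
    rintro _ _ ⟨b, rfl⟩ ⟨d, rfl⟩
    refine ⟨b + d, ?_⟩
    rw [uU_mul, th_zero, zero_mul, add_zero, add_zero]
  inv_mem' := by
    rintro _ ⟨b, rfl⟩
    refine ⟨b, ?_⟩
    rw [uU_inv, zero_mul, add_zero]

theorem center_USub (hF : Fintype.card F = 2 ^ (2 * m + 1)) (hm : 1 ≤ m) :
    Subgroup.center (USub hF) = ZSub hF := by
  have h2 := two_eq_zero hF
  ext g
  obtain ⟨a, b, rfl⟩ := exists_uU hF g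
  rw [Subgroup.mem_center_iff]
  constructor
  · intro h
    by_cases ha : a = 0
    · subst ha; exact ⟨b, rfl⟩
    · exfalso
      obtain ⟨t, ht0, ht1⟩ := exists_ne_zero_one hF hm
      have := h (uU hF (a * t) 0)
      rw [uU_mul, uU_mul] at this
      obtain ⟨-, h3⟩ := uU_inj hF this
      rw [th_mul] at h3
      have h4 : a * th m a * (th m t + t) = 0 := by
        have : a * th m a * (th m t + t) = (0 + b + th m a * th m t * a) - (b + 0 + th m a * (a * t))
            + a * th m a * t * 2 := by ring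
        rw [this, h3, m2 h2]; ring
      rcases mul_eq_zero.mp h4 with h5 | h5
      · rcases mul_eq_zero.mp h5 with h6 | h6
        · exact ha h6
        · exact ha (th_eq_zero h6)
      · have := eq_of_add_eq_zero h2 h5
        rcases th_eq_self hF this with h7 | h7
        · exact ht0 h7
        · exact ht1 h7
  · rintro ⟨b', hb'⟩
    obtain ⟨rfl, rfl⟩ := uU_inj hF hb'
    intro g
    obtain ⟨c, d, rfl⟩ := exists_uU hF g
    rw [uU_mul, uU_mul, th_zero, zero_mul, mul_zero, add_comm c 0, add_comm d b]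

theorem commutator_USub (hF : Fintype.card F = 2 ^ (2 * m + 1)) (hm : 1 ≤ m) :
    commutator (USub hF) = ZSub hF := by
  have h2 := two_eq_zero hF
  apply le_antisymm
  · rw [commutator_def, Subgroup.commutator_le]
    intro g _ h _
    obtain ⟨a, b, rfl⟩ := exists_uU hF g
    obtain ⟨c, d, rfl⟩ := exists_uU hF h
    rw [uU_comm]
    exact ⟨_, rfl⟩
  · rintro g ⟨e, rfl⟩
    rw [commutator_def]
    obtain ⟨t, ht0, ht1⟩ := exists_ne_zero_one hF hm
    have hw : th m t + t ≠ 0 := by
      intro h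
      rcases th_eq_self hF (eq_of_add_eq_zero h2 h) with h7 | h7
      · exact ht0 h7
      · exact ht1 h7
    obtain ⟨a, ha⟩ := mul_th_surjective hF (e / (th m t + t))
    simp only at ha
    have : uU hF 0 e = ⁅uU hF a 0, uU hF (a * t) 0⁆ := by
      rw [uU_comm, th_mul]
      congr 1
      have : th m a * (a * t) + th m a * th m t * a = a * th m a * (th m t + t) := by ring
      rw [this, ha]
      field_simp
    rw [this]
    exact Subgroup.commutator_mem_commutator (Subgroup.mem_top _) (Subgroup.mem_top _)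

theorem card_ZSub (hF : Fintype.card F = 2 ^ (2 * m + 1)) :
    Nat.card (ZSub hF) = 2 ^ (2 * m + 1) := by
  have e : F ≃ ZSub hF := Equiv.ofBijective (fun b => ⟨uU hF 0 b, ⟨b, rfl⟩⟩)
    ⟨by
      intro b b' h
      have := congrArg Subtype.val h
      exact (uU_inj hF this).2,
    by
      rintro ⟨g, b, rfl⟩
      exact ⟨b, rfl⟩⟩
  rw [← Nat.card_congr e, Nat.card_eq_fintype_card, hF]

theorem exponent_USub (hF : Fintype.card F = 2 ^ (2 * m + 1)) (hm : 1 ≤ m) :
    Monoid.exponent (USub hF) = 4 := by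
  have h4 : Monoid.exponent (USub hF) ∣ 4 := by
    apply Monoid.exponent_dvd_of_forall_pow_eq_one
    intro g
    obtain ⟨a, b, rfl⟩ := exists_uU hF g
    exact uU_pow_four hF a b
  have h2 : ¬ Monoid.exponent (USub hF) ∣ 2 := by
    intro h
    obtain ⟨k, hk⟩ := h
    have := Monoid.pow_exponent_eq_one (uU hF (1 : F) 0)
    have h1 : uU hF (1 : F) 0 ^ 2 = 1 := by
      rw [hk, pow_mul, this, one_pow]
    rw [uU_sq, th_one, mul_one, ← uU_zero hF] at h1
    have := (uU_inj hF h1).2
    exact one_ne_zero this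
  have : Monoid.exponent (USub hF) ∣ 2 ^ 2 := by norm_num; exact h4
  obtain ⟨k, hk, hk'⟩ := (Nat.dvd_prime_pow Nat.prime_two).mp this
  interval_cases k
  · exfalso; apply h2; rw [hk']; norm_num
  · exfalso; apply h2; rw [hk']; norm_num
  · rw [hk']; norm_num

/-- The 2-part of the order. -/
theorem factorization_card_Sz (hF : Fintype.card F = 2 ^ (2 * m + 1)) (hm : 1 ≤ m) :
    (Nat.card (Cfsg.Sz F m)).factorization 2 = 2 * (2 * m + 1) := by
  rw [card_Sz hF hm]
  have hq : 2 ≤ 2 ^ (2 * m + 1) := by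
    calc 2 = 2 ^ 1 := by norm_num
      _ ≤ 2 ^ (2 * m + 1) := Nat.pow_le_pow_right (by norm_num) (by omega)
  have h1 : ((2 ^ (2 * m + 1)) ^ 2 : ℕ) ≠ 0 := by positivity
  have h2 : ((2 ^ (2 * m + 1)) ^ 2 + 1 : ℕ) ≠ 0 := by positivity
  have h3 : (2 ^ (2 * m + 1) - 1 : ℕ) ≠ 0 := by omega
  rw [Nat.factorization_mul (mul_ne_zero h1 h2) h3, Nat.factorization_mul h1 h2]
  simp only [Finsupp.coe_add, Pi.add_apply]
  have e1 : ((2 ^ (2 * m + 1)) ^ 2 : ℕ).factorization 2 = 2 * (2 * m + 1) := by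
    rw [← pow_mul, Nat.Prime.factorization_pow Nat.prime_two]
    simp [mul_comm]
  have e2 : ((2 ^ (2 * m + 1)) ^ 2 + 1 : ℕ).factorization 2 = 0 := by
    apply Nat.factorization_eq_zero_of_not_dvd
    have : 2 ∣ (2 ^ (2 * m + 1)) ^ 2 := by
      rw [← pow_mul]; exact dvd_pow_self 2 (by omega)
    omega
  have e3 : (2 ^ (2 * m + 1) - 1 : ℕ).factorization 2 = 0 := by
    apply Nat.factorization_eq_zero_of_not_dvd
    have : 2 ∣ 2 ^ (2 * m + 1) := dvd_pow_self 2 (by omega)
    omega
  rw [e1, e2, e3]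
  ring

/-- `USub` as a Sylow 2-subgroup. -/
noncomputable def USylow (hF : Fintype.card F = 2 ^ (2 * m + 1)) (hm : 1 ≤ m) :
    Sylow 2 (Cfsg.Sz F m) :=
  Sylow.ofCard (USub hF) (by rw [card_USub hF, factorization_card_Sz hF hm, ← pow_mul, mul_comm])

theorem coe_USylow (hF : Fintype.card F = 2 ^ (2 * m + 1)) (hm : 1 ≤ m) :
    ((USylow hF hm : Sylow 2 (Cfsg.Sz F m)) : Subgroup (Cfsg.Sz F m)) = USub hF := rfl

/-- Every Sylow 2-subgroup is conjugate to `USub`. -/
theorem exists_conj_USylow (hF : Fintype.card F = 2 ^ (2 * m + 1)) (hm : 1 ≤ m)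
    (P : Sylow 2 (Cfsg.Sz F m)) : ∃ g : Cfsg.Sz F m, g • P = USylow hF hm :=
  MulAction.exists_smul_eq _ P (USylow hF hm)

/-- Transport of the four properties along an isomorphism. -/
theorem sylow_props_transport {G H : Type*} [Group G] [Group H] (e : G ≃* H) (q : ℕ)
    (h : Nat.card H = q ^ 2 ∧ Monoid.exponent H = 4 ∧
      Subgroup.center H = commutator H ∧ Nat.card (Subgroup.center H) = q) :
    Nat.card G = q ^ 2 ∧ Monoid.exponent G = 4 ∧
      Subgroup.center G = commutator G ∧ Nat.card (Subgroup.center G) = q := by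
  obtain ⟨h1, h2, h3, h4⟩ := h
  have hc : (Subgroup.center G).map e.toMonoidHom = Subgroup.center H := by
    ext x
    rw [Subgroup.mem_map, Subgroup.mem_center_iff]
    constructor
    · rintro ⟨z, hz, rfl⟩ g
      rw [Subgroup.mem_center_iff] at hz
      have := hz (e.symm g)
      have := congrArg e this
      simpa using this
    · intro hx
      refine ⟨e.symm x, ?_, by simp⟩
      rw [Subgroup.mem_center_iff]
      intro g
      apply e.injective
      simpa using hx (e g)
  have hd : (commutator G).map e.toMonoidHom = commutator H := by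
    rw [commutator_def, Subgroup.map_commutator, commutator_def]
    have : (⊤ : Subgroup G).map e.toMonoidHom = ⊤ := by
      rw [← MonoidHom.range_eq_map]
      exact MonoidHom.range_eq_top.mpr e.surjective
    rw [this]
  refine ⟨by rw [Nat.card_congr e.toEquiv, h1], by rw [Monoid.exponent_eq_of_mulEquiv e, h2], ?_, ?_⟩
  · apply Subgroup.map_injective (f := e.toMonoidHom) e.injective
    rw [hc, hd, h3]
  · rw [← h4, ← hc]
    exact Nat.card_congr (Subgroup.equivMapOfInjective _ _ e.injective).toEquiv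

/-- The four properties of Sylow 2-subgroups. -/
theorem sylow_two_props (hF : Fintype.card F = 2 ^ (2 * m + 1)) (hm : 1 ≤ m)
    (P : Sylow 2 (Cfsg.Sz F m)) :
    Nat.card P = (2 ^ (2 * m + 1)) ^ 2 ∧ Monoid.exponent P = 4 ∧
      Subgroup.center P = commutator P ∧ Nat.card (Subgroup.center P) = 2 ^ (2 * m + 1) := by
  obtain ⟨g, hg⟩ := exists_conj_USylow hF hm P
  have e : P ≃* (USylow hF hm : Sylow 2 (Cfsg.Sz F m)) := by
    rw [← hg]
    exact P.equivSMul g
  apply sylow_props_transport e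
  show Nat.card (USub hF) = _ ∧ Monoid.exponent (USub hF) = 4 ∧
    Subgroup.center (USub hF) = commutator (USub hF) ∧ Nat.card (Subgroup.center (USub hF)) = _
  refine ⟨card_USub hF, exponent_USub hF hm, ?_, ?_⟩
  · rw [center_USub hF hm, commutator_USub hF hm]
  · rw [center_USub hF hm, card_ZSub hF]

end Cfsg.Agent.Lib.Helper4.Suz
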