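import Mathlib
import Cfsg.Prelude.Def_LieExceptional
import Cfsg.Agent.S0326
import Cfsg.Agent.Lib.Helper4.Suz8

/-!
# Suzuki groups (ovoid stabiliser model): generation, perfectness, simplicity
-/

set_option autoImplicit false
set_option linter.unusedSimpArgs false
set_option linter.unusedVariables false

namespace Cfsg.Agent.Lib.Helper4.Suz

open Matrix MulAction
open scoped commutatorElement

variable {F : Type*} [Field F] [Fintype F] {m : ℕ}

/-- The matrix of an element of the Suzuki group. -/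
def mat (g : Cfsg.Sz F m) : Matrix (Fin 4) (Fin 4) F :=
  ((g : Matrix.SpecialLinearGroup (Fin 4) F) : Matrix (Fin 4) (Fin 4) F)

omit [Fintype F] in
theorem mat_mul (g h : Cfsg.Sz F m) : mat (g * h) = mat g * mat h := by
  unfold mat
  simp [Subgroup.coe_mul, Matrix.SpecialLinearGroup.coe_mul]

theorem mat_uZ (hF : Fintype.card F = 2 ^ (2 * m + 1)) (a b : F) : mat (uZ hF a b) = uM m a b := rfl

theorem mat_hZ (hF : Fintype.card F = 2 ^ (2 * m + 1)) (z : Fˣ) : mat (hZ hF z) = hM m (z : F) := rfl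

theorem mat_wZ (hF : Fintype.card F = 2 ^ (2 * m + 1)) : mat (wZ hF) = wM := rfl

/-- The key Bruhat computation: `w u₁⁻¹ w u(a,b) w` lies in `B`, with torus part determined by `ff a b`. -/
theorem bruhat_key (hF : Fintype.card F = 2 ^ (2 * m + 1)) (hm : 1 ≤ m) {a b : F}
    (hab : a ≠ 0 ∨ b ≠ 0) :
    ∃ (a' b' : F) (z : Fˣ), (z : F) * th m (z : F) = ff m a b ∧
      wZ hF * (uZ hF (b / ff m a b) (a / ff m a b))⁻¹ * wZ hF * uZ hF a b * wZ hF =
        uZ hF a' b' * hZ hF z := by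
  have h2 := two_eq_zero hF
  set f := ff m a b with hf
  have hf0 : f ≠ 0 := ff_ne_zero hF hab
  set k := wZ hF * (uZ hF (b / f) (a / f))⁻¹ * wZ hF * uZ hF a b * wZ hF with hk
  have hkinf : k • oInf F m = oInf F m := by
    rw [hk, mul_smul, mul_smul, mul_smul, mul_smul, wZ_smul_oInf, uZ_smul_zero, wZ_smul_oPt hF hab,
      inv_smul_eq_iff.mpr (uZ_smul_zero hF _ _).symm, wZ_smul_oPt_zero]
  obtain ⟨a', b', z, hz⟩ := fix_oInf hF hm k hkinf
  refine ⟨a', b', z, ?_, hz⟩
  -- compare the action on e0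
  have h1 : mat k *ᵥ e0 = f • e0 := by
    rw [hk, mat_mul, mat_mul, mat_mul, mat_mul, uZ_inv, mat_wZ, mat_uZ, mat_uZ]
    rw [← Matrix.mulVec_mulVec, ← Matrix.mulVec_mulVec, ← Matrix.mulVec_mulVec, ← Matrix.mulVec_mulVec,
      wM_mulVec_e0 m, uM_mulVec_vc hF, wM_mulVec_vc hF (by simpa using hf0)]
    simp only [zero_add, mul_zero, add_zero]
    rw [← hf, Matrix.mulVec_smul, uM_mulVec_vc hF, Matrix.mulVec_smul]
    have e1 : b / f + b / f = 0 := add_self' h2 _
    have e2 : a / f + (a / f + b / f * th m (b / f)) + th m (b / f) * (b / f) = 0 := by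
      rw [← sub_eq_zero]; ring_nf
      simp only [m2 h2, m3 h2, m4 h2, add_zero, neg_zero, sub_zero, zero_add, sub_self]
    rw [e1, e2, wM_mulVec_vc_zero]
  have h3 : mat k *ᵥ e0 = ((z : F) * th m (z : F)) • e0 := by
    rw [hz, mat_mul, mat_uZ, mat_hZ, ← Matrix.mulVec_mulVec, hM_mulVec_e0, Matrix.mulVec_smul,
      uM_mulVec_e0]
  rw [h1] at h3
  have := congrFun h3 0
  simp [e0] at this
  exact this.symm

/-- Any subgroup containing `U` and `w U w` is everything. -/
theorem eq_top_of_U_wUw (hF : Fintype.card F = 2 ^ (2 * m + 1)) (hm : 1 ≤ m)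
    (L : Subgroup (Cfsg.Sz F m)) (hU : ∀ a b : F, uZ hF a b ∈ L)
    (hW : ∀ a b : F, wZ hF * uZ hF a b * wZ hF ∈ L) : L = ⊤ := by
  -- h(z) w ∈ L
  have key : ∀ a b : F, (a ≠ 0 ∨ b ≠ 0) → ∃ z : Fˣ, (z : F) * th m (z : F) = ff m a b ∧
      hZ hF z * wZ hF ∈ L := by
    intro a b hab
    obtain ⟨a', b', z, hz, h⟩ := bruhat_key hF hm hab
    refine ⟨z, hz, ?_⟩
    have e : hZ hF z * wZ hF = (uZ hF a' b')⁻¹ *
        (wZ hF * (uZ hF (b / ff m a b) (a / ff m a b))⁻¹ * wZ hF) * uZ hF a b := by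
      have hw : wZ hF * wZ hF = 1 := wZ_mul_wZ hF
      have : hZ hF z = (uZ hF a' b')⁻¹ * (wZ hF * (uZ hF (b / ff m a b) (a / ff m a b))⁻¹ * wZ hF *
          uZ hF a b * wZ hF) := by rw [h]; group
      rw [this]
      simp only [mul_assoc, hw, mul_one]
    rw [e]
    refine L.mul_mem (L.mul_mem (L.inv_mem (hU _ _)) ?_) (hU _ _)
    rw [uZ_inv]
    exact hW _ _
  have hw : wZ hF ∈ L := by
    obtain ⟨z, hz, h⟩ := key 0 1 (Or.inr one_ne_zero)
    rw [ff_zero_left, th_one] at hz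
    have : z = 1 := Units.ext (mul_th_eq_one hF hz)
    rw [this, hZ_one, one_mul] at h
    exact h
  have hh : ∀ z : Fˣ, hZ hF z ∈ L := by
    intro z0
    obtain ⟨b, hb⟩ := th_surjective hF ((z0 : F) * th m (z0 : F))
    have hb0 : b ≠ 0 := by
      rintro rfl
      rw [th_zero] at hb
      have hz0 : (z0 : F) ≠ 0 := z0.ne_zero
      exact mul_ne_zero hz0 (th_ne_zero hz0) hb.symm
    obtain ⟨z, hz, h⟩ := key 0 b (Or.inr hb0)
    rw [ff_zero_left, hb] at hz
    have : z = z0 := Units.ext (mul_th_injective hF hz)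
    rw [this] at h
    have e : hZ hF z0 = hZ hF z0 * wZ hF * wZ hF := by
      rw [mul_assoc, wZ_mul_wZ, mul_one]
    rw [e]
    exact L.mul_mem h hw
  rw [eq_top_iff]
  intro g _
  rcases bruhat hF hm g with ⟨a, b, z, h⟩ | ⟨a, b, a', b', z, h⟩
  · rw [h]; exact L.mul_mem (hU _ _) (hh _)
  · rw [h]
    exact L.mul_mem (L.mul_mem (hU _ _) hw) (L.mul_mem (hU _ _) (hh _))

/-- Commutator of two translations, in the big group. -/
theorem uZ_comm (hF : Fintype.card F = 2 ^ (2 * m + 1)) (a b c d : F) :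
    ⁅uZ hF a b, uZ hF c d⁆ = uZ hF 0 (th m a * c + th m c * a) := by
  have := congrArg Subtype.val (uU_comm hF a b c d)
  exact this

/-- The Suzuki group is perfect. -/
theorem perfect (hF : Fintype.card F = 2 ^ (2 * m + 1)) (hm : 1 ≤ m) :
    commutator (Cfsg.Sz F m) = ⊤ := by
  have h2 := two_eq_zero hF
  have hcen : ∀ e : F, uZ hF 0 e ∈ commutator (Cfsg.Sz F m) := by
    intro e
    obtain ⟨t, ht0, ht1⟩ := exists_ne_zero_one hF hm
    have hw : th m t + t ≠ 0 := by
      intro h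
      rcases th_eq_self hF (eq_of_add_eq_zero h2 h) with h7 | h7
      · exact ht0 h7
      · exact ht1 h7
    obtain ⟨a, ha⟩ := mul_th_surjective hF (e / (th m t + t))
    simp only at ha
    have : uZ hF 0 e = ⁅uZ hF a 0, uZ hF (a * t) 0⁆ := by
      rw [uZ_comm, th_mul]
      congr 1
      have : th m a * (a * t) + th m a * th m t * a = a * th m a * (th m t + t) := by ring
      rw [this, ha]
      field_simp
    rw [this, commutator_def]
    exact Subgroup.commutator_mem_commutator (Subgroup.mem_top _) (Subgroup.mem_top _)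
  have hU : ∀ a b : F, uZ hF a b ∈ commutator (Cfsg.Sz F m) := by
    intro a' b'
    obtain ⟨z, hz⟩ := exists_unit_ne_one hF hm
    set k := th m (z : F) with hk
    have hk1 : k + 1 ≠ 0 := by
      intro h
      have : k = 1 := eq_of_add_eq_zero h2 h
      exact hz (Units.ext (th_eq_one hF this))
    set a := a' / (k + 1) with ha
    have hc : ⁅hZ hF z, uZ hF a 0⁆ ∈ commutator (Cfsg.Sz F m) := by
      rw [commutator_def]
      exact Subgroup.commutator_mem_commutator (Subgroup.mem_top _) (Subgroup.mem_top _)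
    rw [commutatorElement_def, hZ_uZ_hZ, uZ_inv, uZ_mul] at hc
    have ea : k * a + a = a' := by
      rw [ha]; field_simp
    rw [ea] at hc
    have : uZ hF a' b' = uZ hF a' (k * (z : F) ^ 2 * 0 + (0 + a * th m a) + th m (k * a) * a) *
        uZ hF 0 (b' + (k * (z : F) ^ 2 * 0 + (0 + a * th m a) + th m (k * a) * a)) := by
      rw [uZ_mul]
      congr 1
      · rw [add_zero]
      · rw [← sub_eq_zero]; ring_nf
        simp only [m2 h2, m3 h2, m4 h2, add_zero, neg_zero, sub_zero, zero_add, sub_self]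
    rw [this]
    exact Subgroup.mul_mem _ hc (hcen _)
  apply eq_top_of_U_wUw hF hm _ hU
  intro a b
  have : wZ hF * uZ hF a b * wZ hF = wZ hF * uZ hF a b * (wZ hF)⁻¹ := by rw [wZ_inv]
  rw [this]
  exact (inferInstance : (commutator (Cfsg.Sz F m)).Normal).conj_mem _ (hU a b) _

/-- The Borel subgroup normalises `U`. -/
theorem borel_conj_mem (hF : Fintype.card F = 2 ^ (2 * m + 1)) (a b : F) (z : Fˣ) (c d : F) :
    ∃ c' d' : F, (uZ hF a b * hZ hF z) * uZ hF c d * (uZ hF a b * hZ hF z)⁻¹ = uZ hF c' d' := by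
  have : (uZ hF a b * hZ hF z) * uZ hF c d * (uZ hF a b * hZ hF z)⁻¹ =
      uZ hF a b * (hZ hF z * uZ hF c d * (hZ hF z)⁻¹) * (uZ hF a b)⁻¹ := by group
  rw [this, hZ_uZ_hZ, uZ_inv, uZ_mul, uZ_mul]
  exact ⟨_, _, rfl⟩

/-- The Suzuki group is simple. -/
theorem simple (hF : Fintype.card F = 2 ^ (2 * m + 1)) (hm : 1 ≤ m) :
    IsSimpleGroup (Cfsg.Sz F m) := by
  haveI : Nontrivial (Cfsg.Sz F m) := by
    obtain ⟨z, hz⟩ := exists_unit_ne_one hF hm
    refine ⟨⟨hZ hF z, 1, ?_⟩⟩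
    intro h
    rw [← hZ_one hF] at h
    exact hz (hZ_injective hF h)
  refine ⟨?_⟩
  intro N hN
  by_cases hbot : N = ⊥
  · left; exact hbot
  right
  -- N is transitive
  obtain ⟨⟨n, hnN⟩, hn⟩ := Subgroup.ne_bot_iff_exists_ne_one.mp hbot
  have hn1 : n ≠ 1 := fun h' => hn (Subtype.ext h')
  have hmove : ∃ p : Cfsg.suzukiOvoid F m, n • p ≠ p := by
    by_contra hcon
    push Not at hcon
    haveI := faithful hF hm
    apply hn1
    apply FaithfulSMul.eq_of_smul_eq_smul (α := Cfsg.suzukiOvoid F m)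
    intro p
    rw [hcon p, one_smul]
  obtain ⟨p, hp⟩ := hmove
  have h2t := is_two_pretransitive hF (m := m)
  rw [MulAction.is_two_pretransitive_iff] at h2t
  have htrans : ∀ c d : Cfsg.suzukiOvoid F m, ∃ n' ∈ N, n' • c = d := by
    intro c d
    by_cases hcd : c = d
    · exact ⟨1, N.one_mem, by rw [one_smul, hcd]⟩
    · obtain ⟨g, hg1, hg2⟩ := h2t (Ne.symm hp) hcd
      refine ⟨g * n * g⁻¹, hN.conj_mem n hnN g, ?_⟩
      rw [mul_smul, mul_smul, ← hg1, inv_smul_smul, hg2]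
  -- conjugates of U lie in N ⊔ U
  have hconj : ∀ (g : Cfsg.Sz F m) (c d : F), g * uZ hF c d * g⁻¹ ∈ N ⊔ USub hF := by
    intro g c d
    obtain ⟨n', hn', hn'g⟩ := htrans (oInf F m) (g • oInf F m)
    have hb : (n'⁻¹ * g) • oInf F m = oInf F m := by
      rw [mul_smul, ← hn'g, inv_smul_smul]
    obtain ⟨a, b, z, hz⟩ := fix_oInf hF hm _ hb
    obtain ⟨c', d', hcd⟩ := borel_conj_mem hF a b z c d
    have : g * uZ hF c d * g⁻¹ = n' * uZ hF c' d' * n'⁻¹ := by
      rw [← hcd, ← hz]; group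
    rw [this]
    refine Subgroup.mul_mem _ (Subgroup.mul_mem _ (Subgroup.mem_sup_left hn') ?_)
      (Subgroup.mem_sup_left (N.inv_mem hn'))
    exact Subgroup.mem_sup_right (uZ_mem_USub hF _ _)
  have htop : N ⊔ USub hF = ⊤ := by
    apply eq_top_of_U_wUw hF hm
    · intro a b
      exact Subgroup.mem_sup_right (uZ_mem_USub hF _ _)
    · intro a b
      have := hconj (wZ hF) a b
      rwa [wZ_inv] at this
  -- the quotient is solvable and perfect
  haveI := hN
  have hsurj : Function.Surjective ((QuotientGroup.mk' N).comp (USub hF).subtype) := by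
    intro x
    obtain ⟨g, rfl⟩ := QuotientGroup.mk'_surjective N x
    have hg : g ∈ (↑(N ⊔ USub hF) : Set (Cfsg.Sz F m)) := by rw [htop]; trivial
    rw [Subgroup.normal_mul] at hg
    obtain ⟨n', hn', u, hu, rfl⟩ := hg
    refine ⟨⟨u, hu⟩, ?_⟩
    simp only [MonoidHom.coe_comp, Function.comp_apply, Subgroup.subtype_apply,
      QuotientGroup.mk'_apply]
    rw [QuotientGroup.mk_mul, (QuotientGroup.eq_one_iff n').mpr hn', one_mul]
  haveI : Fact (Nat.Prime 2) := ⟨Nat.prime_two⟩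
  have hpU : IsPGroup 2 (USub hF) := IsPGroup.of_card (n := 2 * (2 * m + 1)) (by
    rw [card_USub hF, ← pow_mul, mul_comm])
  haveI : Group.IsNilpotent (USub hF) := hpU.isNilpotent
  haveI : Group.IsSolvable (Cfsg.Sz F m ⧸ N) := Group.isSolvable_of_surjective hsurj
  have hperf : commutator (Cfsg.Sz F m ⧸ N) = ⊤ := by
    rw [commutator_def]
    have h1 : (⊤ : Subgroup (Cfsg.Sz F m ⧸ N)) = (⊤ : Subgroup (Cfsg.Sz F m)).map (QuotientGroup.mk' N) := by
      rw [← MonoidHom.range_eq_map]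
      exact (MonoidHom.range_eq_top.mpr (QuotientGroup.mk'_surjective N)).symm
    rw [h1, ← Subgroup.map_commutator, ← commutator_def, perfect hF hm]
  apply QuotientGroup.subgroup_eq_top_of_subsingleton
  by_contra hns
  rw [not_subsingleton_iff_nontrivial] at hns
  haveI := hns
  have := Group.IsSolvable.commutator_lt_top_of_nontrivial (Cfsg.Sz F m ⧸ N)
  rw [hperf] at this
  exact lt_irrefl _ this

end Cfsg.Agent.Lib.Helper4.Suz
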