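import Mathlib
import Cfsg.Prelude.Def_LieExceptional
import Cfsg.Agent.S0326
import Cfsg.Agent.Lib.Helper4.Suz9

/-!
# Suzuki groups (ovoid stabiliser model): the Borel subgroup is the unique maximal subgroup over `U`
-/

set_option autoImplicit false
set_option linter.unusedSimpArgs false
set_option linter.unusedVariables false

namespace Cfsg.Agent.Lib.Helper4.Suz

open Matrix MulAction
open scoped commutatorElement Pointwise

/-- The property "the normaliser is maximal and is the only maximal subgroup above". -/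
def UniqueMaxOver {G : Type*} [Group G] (H : Subgroup G) : Prop :=
  IsCoatom (Subgroup.normalizer (H : Set G)) ∧
    ∀ M : Subgroup G, IsCoatom M → H ≤ M → M = Subgroup.normalizer (H : Set G)

theorem UniqueMaxOver.map {G : Type*} [Group G] {H : Subgroup G} (h : UniqueMaxOver H) (φ : G ≃* G) :
    UniqueMaxOver (H.map φ.toMonoidHom) := by
  obtain ⟨h1, h2⟩ := h
  have hn : Subgroup.normalizer ((H.map φ.toMonoidHom : Subgroup G) : Set G) =
      (Subgroup.normalizer (H : Set G)).map φ.toMonoidHom :=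
    (Subgroup.map_equiv_normalizer_eq H φ).symm
  constructor
  · rw [hn]
    exact (OrderIso.isCoatom_iff φ.mapSubgroup _).mpr h1
  · intro M hM hHM
    rw [hn]
    have hM' : IsCoatom (φ.symm.mapSubgroup M) := (OrderIso.isCoatom_iff φ.symm.mapSubgroup _).mpr hM
    have hle : H ≤ φ.symm.mapSubgroup M := by
      intro x hx
      show x ∈ M.map φ.symm.toMonoidHom
      rw [Subgroup.mem_map]
      exact ⟨φ x, hHM (Subgroup.mem_map_of_mem _ hx), by simp⟩
    have := h2 _ hM' hle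
    rw [← this]
    show M = (M.map φ.symm.toMonoidHom).map φ.toMonoidHom
    rw [Subgroup.map_map]
    ext x
    simp

variable {F : Type*} [Field F] [Fintype F] {m : ℕ}

theorem mem_USub_iff (hF : Fintype.card F = 2 ^ (2 * m + 1)) (g : Cfsg.Sz F m) :
    g ∈ USub hF ↔ ∃ a b, g = uZ hF a b := Iff.rfl

/-- The normaliser of `U` is the Borel subgroup. -/
theorem normalizer_USub (hF : Fintype.card F = 2 ^ (2 * m + 1)) (hm : 1 ≤ m) :
    Subgroup.normalizer (USub hF : Set (Cfsg.Sz F m)) = stabilizer (Cfsg.Sz F m) (oInf F m) := by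
  have hB : ∀ g : Cfsg.Sz F m, g • oInf F m = oInf F m → ∀ u ∈ USub hF, g * u * g⁻¹ ∈ USub hF := by
    intro g hg u hu
    obtain ⟨a, b, z, rfl⟩ := fix_oInf hF hm g hg
    obtain ⟨c, d, rfl⟩ := hu
    obtain ⟨c', d', h⟩ := borel_conj_mem hF a b z c d
    exact ⟨c', d', h⟩
  ext g
  rw [mem_stabilizer_iff, Subgroup.mem_normalizer_iff]
  constructor
  · intro h
    rcases ovoid_cases (g • oInf F m) with h' | ⟨x, y, h'⟩
    · exact h'
    · exfalso
      have h1 : g * uZ hF 1 0 * g⁻¹ ∈ USub hF := (h _).mp (uZ_mem_USub hF 1 0)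
      obtain ⟨a, b, hab⟩ := h1
      have h2 : (g * uZ hF 1 0 * g⁻¹) • (g • oInf F m) = g • oInf F m := by
        rw [mul_smul, mul_smul, inv_smul_smul, uZ_smul_oInf]
      rw [hab, h', uZ_smul_oPt] at h2
      obtain ⟨hx, -⟩ := oPt_inj h2
      have ha0 : a = 0 := by
        have : x + a = x + 0 := by rw [hx, add_zero]
        exact add_left_cancel this
      -- then g u g⁻¹ = u(0,b), of order ≤ 2, but u(1,0) has order 4
      have h3 : (g * uZ hF 1 0 * g⁻¹) ^ 2 = 1 := by
        rw [hab, ha0, sq, uZ_mul, th_zero, zero_mul, add_zero, add_zero, add_self' (two_eq_zero hF),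
          uZ_zero]
      have h4 : (g * uZ hF 1 0 * g⁻¹) ^ 2 = g * (uZ hF 1 0) ^ 2 * g⁻¹ := by
        rw [sq, sq]; group
      rw [h4] at h3
      have h5 : (uZ hF (1 : F) 0) ^ 2 = 1 := by
        have e : (uZ hF (1 : F) 0) ^ 2 = g⁻¹ * (g * (uZ hF 1 0) ^ 2 * g⁻¹) * g := by group
        rw [e, h3]; group
      rw [sq, uZ_mul, ← uZ_zero hF] at h5
      have := (uZ_injective hF h5).2
      rw [th_one, mul_one, add_zero, zero_add] at this
      exact one_ne_zero this
  · intro hg u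
    constructor
    · exact hB g hg u
    · intro hu
      have hg' : g⁻¹ • oInf F m = oInf F m := by rw [inv_smul_eq_iff, hg]
      have := hB g⁻¹ hg' _ hu
      rw [inv_inv] at this
      have e : g⁻¹ * (g * u * g⁻¹) * g = u := by group
      rwa [e] at this

theorem ovoid_nontrivial : Nontrivial (Cfsg.suzukiOvoid F m) :=
  ⟨⟨oInf F m, oPt m 0 0, (oPt_ne_oInf 0 0).symm⟩⟩

/-- `U` has the unique-maximal-overgroup property. -/
theorem uniqueMaxOver_USub (hF : Fintype.card F = 2 ^ (2 * m + 1)) (hm : 1 ≤ m) :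
    UniqueMaxOver (USub hF) := by
  haveI := ovoid_nontrivial (F := F) (m := m)
  haveI : IsPreprimitive (Cfsg.Sz F m) (Cfsg.suzukiOvoid F m) :=
    isPreprimitive_of_is_two_pretransitive (is_two_pretransitive hF)
  have hco : IsCoatom (stabilizer (Cfsg.Sz F m) (oInf F m)) :=
    IsPreprimitive.isCoatom_stabilizer_of_isPreprimitive (G := Cfsg.Sz F m) (oInf F m)
  rw [UniqueMaxOver, normalizer_USub hF hm]
  refine ⟨hco, ?_⟩
  intro M hM hUM
  by_contra hne
  have hex : ∃ g ∈ M, g • oInf F m ≠ oInf F m := by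
    by_contra hcon
    push Not at hcon
    have hle : M ≤ stabilizer (Cfsg.Sz F m) (oInf F m) := fun g hg => mem_stabilizer_iff.mpr (hcon g hg)
    rcases eq_or_lt_of_le hle with h | h
    · exact hne h
    · exact hco.1 (hM.2 _ h)
  obtain ⟨g, hgM, hg⟩ := hex
  rcases ovoid_cases (g • oInf F m) with h | ⟨x, y, hxy⟩
  · exact hg h
  set g' := (uZ hF x y)⁻¹ * g with hg'
  have hg'M : g' ∈ M := M.mul_mem (M.inv_mem (hUM (uZ_mem_USub hF x y))) hgM
  have hg'inf : g' • oInf F m = oPt m 0 0 := by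
    rw [hg', mul_smul, hxy, inv_smul_eq_iff, uZ_smul_zero]
  obtain ⟨b, hb⟩ : ∃ b, b = wZ hF * g' := ⟨_, rfl⟩
  have hbinf : b • oInf F m = oInf F m := by
    rw [hb, mul_smul, hg'inf, wZ_smul_oPt_zero]
  have hg'b : g' = wZ hF * b := by
    rw [hb, ← mul_assoc, wZ_mul_wZ, one_mul]
  have hbinv : b⁻¹ • oInf F m = oInf F m := by rw [inv_smul_eq_iff, hbinf]
  apply hM.1
  apply eq_top_of_U_wUw hF hm M (fun a b => hUM (uZ_mem_USub hF a b))
  intro c d
  obtain ⟨a1, b1, z1, h1⟩ := fix_oInf hF hm _ hbinv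
  obtain ⟨c', d', hcd⟩ := borel_conj_mem hF a1 b1 z1 c d
  rw [← h1, inv_inv] at hcd
  have : wZ hF * uZ hF c d * wZ hF = g' * uZ hF c' d' * g'⁻¹ := by
    have hw : (wZ hF)⁻¹ = wZ hF := wZ_inv hF
    have e : g'⁻¹ = b⁻¹ * wZ hF := by rw [hg'b, _root_.mul_inv_rev, hw]
    rw [e, ← hcd]
    conv_rhs => rw [hg'b]
    group
  rw [this]
  exact M.mul_mem (M.mul_mem hg'M (hUM (uZ_mem_USub hF _ _))) (M.inv_mem hg'M)

/-- Every Sylow 2-subgroup is an image of `U` under an inner automorphism. -/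
theorem sylow_eq_map (hF : Fintype.card F = 2 ^ (2 * m + 1)) (hm : 1 ≤ m)
    (P : Sylow 2 (Cfsg.Sz F m)) :
    ∃ c : Cfsg.Sz F m, (P : Subgroup (Cfsg.Sz F m)) = (USub hF).map (MulAut.conj c).toMonoidHom := by
  obtain ⟨c, hc⟩ := MulAction.exists_smul_eq (Cfsg.Sz F m) (USylow hF hm) P
  refine ⟨c, ?_⟩
  rw [← hc]
  rfl

/-- The normaliser of a Sylow 2-subgroup is the unique maximal subgroup containing it. -/
theorem uniqueMaxOver_sylow (hF : Fintype.card F = 2 ^ (2 * m + 1)) (hm : 1 ≤ m)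
    (P : Sylow 2 (Cfsg.Sz F m)) : UniqueMaxOver (P : Subgroup (Cfsg.Sz F m)) := by
  obtain ⟨c, hc⟩ := sylow_eq_map hF hm P
  rw [hc]
  exact (uniqueMaxOver_USub hF hm).map _

end Cfsg.Agent.Lib.Helper4.Suz
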