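import Mathlib
import Cfsg.Prelude.Def_LieExceptional
import Cfsg.Agent.Lib.Helper4.Suz10

/-!
# Suzuki groups: elements of prime order dividing `q^2+1` have cyclic centraliser
-/

set_option autoImplicit false
set_option linter.unusedSimpArgs false
set_option linter.unusedVariables false
set_option linter.style.haveILetI false

namespace Cfsg.Agent.Lib.Helper4.Suz

section general

variable {K V : Type*} [Field K] [Finite K] [AddCommGroup V] [Module K V] [Module.Finite K V]

/-- Fixed point congruence for a linear map of `p`-power order. -/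
theorem card_modEq_fixed {p n : ℕ} [Fact p.Prime] (T : Module.End K V) (hT : T ^ p ^ n = 1) :
    Nat.card K ^ Module.finrank K V ≡
      Nat.card K ^ Module.finrank K (LinearMap.ker (T - 1)) [MOD p] := by
  classical
  have : Finite V := Module.finite_of_finite K
  have : Fintype V := Fintype.ofFinite V
  rw [← Module.natCard_eq_pow_finrank, ← Module.natCard_eq_pow_finrank]
  let f : Function.End V := (⇑T : V → V)
  have hf : f ^ p ^ n = 1 := by
    have h1 : (⇑(T ^ p ^ n) : V → V) = (⇑T)^[p ^ n] := Module.End.coe_pow T _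
    rw [hT] at h1
    exact h1.symm
  have key := Equiv.Perm.card_fixedPoints_modEq (p := p) (n := n) hf
  rw [Nat.card_eq_fintype_card]
  refine key.trans ?_
  rw [← Nat.card_eq_fintype_card]
  have : (Function.fixedPoints f) = (LinearMap.ker (T - 1) : Set V) := by
    ext v
    simp [f, Function.IsFixedPt, sub_eq_zero]
  rw [this]
  rfl

theorem exp_cases {p q : ℕ} [Fact p.Prime] (hp2 : p ≠ 2) (hq : p ∣ q ^ 2 + 1) {a b : ℕ}
    (hb : b ≤ a) (ha : a ≤ 4) (h : q ^ a ≡ q ^ b [MOD p]) : a = b ∨ (a = 4 ∧ b = 0) := by
  have hx : ((q : ZMod p)) ^ 2 = -1 := by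
    have : ((q ^ 2 + 1 : ℕ) : ZMod p) = 0 := (ZMod.natCast_eq_zero_iff _ _).mpr hq
    push_cast at this
    exact eq_neg_of_add_eq_zero_left this
  have h2 : (2 : ZMod p) ≠ 0 := by
    intro h2
    have : ((2 : ℕ) : ZMod p) = 0 := by exact_mod_cast h2
    rw [ZMod.natCast_eq_zero_iff] at this
    exact hp2 ((Nat.prime_dvd_prime_iff_eq Fact.out Nat.prime_two).mp this)
  have h11 : (1 : ZMod p) ≠ -1 := by
    intro h1
    apply h2
    have : (2 : ZMod p) = 1 + 1 := by norm_num
    rw [this]
    nth_rewrite 1 [h1]
    ring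
  have hx0 : (q : ZMod p) ≠ 0 := by
    intro h0
    rw [h0] at hx
    simp at hx
  have h' : (q : ZMod p) ^ a = (q : ZMod p) ^ b := by
    have := (ZMod.natCast_eq_natCast_iff _ _ _).mpr h
    exact_mod_cast this
  obtain ⟨k, rfl⟩ := Nat.exists_eq_add_of_le hb
  rw [pow_add] at h'
  have hk : (q : ZMod p) ^ k = 1 := by
    have hb0 : (q : ZMod p) ^ b ≠ 0 := pow_ne_zero _ hx0
    exact mul_left_cancel₀ hb0 (by rw [h', mul_one])
  have hk4 : k ≤ 4 := by omega
  interval_cases k
  · left; rfl
  · exfalso
    rw [pow_one] at hk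
    rw [hk] at hx
    exact h11 (by rw [← hx]; ring)
  · exfalso
    rw [hk] at hx
    exact h11 hx
  · exfalso
    have : (q : ZMod p) = -1 := by
      have h3 : (q : ZMod p) ^ 3 = (q : ZMod p) ^ 2 * q := by ring
      rw [h3, hx] at hk
      rw [← hk]; ring
    rw [this] at hx
    exact h11 (by rw [← hx]; ring)
  · right; omega

theorem ker_sub_one_eq_bot {p : ℕ} [Fact p.Prime] (hp2 : p ≠ 2) (hq : p ∣ Nat.card K ^ 2 + 1)
    (hV : Module.finrank K V = 4) (T : Module.End K V) (hT : T ^ p = 1) (hT1 : T ≠ 1) :
    LinearMap.ker (T - 1) = ⊥ := by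
  have h1 := card_modEq_fixed (p := p) (n := 1) T (by simpa using hT)
  rw [hV] at h1
  have hle : Module.finrank K (LinearMap.ker (T - 1)) ≤ 4 := by
    rw [← hV]; exact Submodule.finrank_le _
  rcases exp_cases hp2 hq hle le_rfl h1 with h | ⟨-, h⟩
  · exfalso
    apply hT1
    have htop : LinearMap.ker (T - 1) = ⊤ := by
      apply Submodule.eq_top_of_finrank_eq
      rw [← h, hV]
    have : T - 1 = 0 := LinearMap.ker_eq_top.mp htop
    exact sub_eq_zero.mp this
  · exact Submodule.finrank_eq_zero.mp h

theorem irreducible_of_order {p : ℕ} [Fact p.Prime] (hp2 : p ≠ 2) (hq : p ∣ Nat.card K ^ 2 + 1)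
    (hV : Module.finrank K V = 4) (T : Module.End K V) (hT : T ^ p = 1) (hT1 : T ≠ 1)
    (W : Submodule K V) (hW : ∀ v ∈ W, T v ∈ W) : W = ⊥ ∨ W = ⊤ := by
  have hker := ker_sub_one_eq_bot hp2 hq hV T hT hT1
  have hT' : (T.restrict hW) ^ p ^ 1 = 1 := by
    rw [pow_one, Module.End.pow_restrict p hW]
    ext x
    simp [hT]
  have h1 := card_modEq_fixed (p := p) (n := 1) (T.restrict hW) hT'
  have hker' : LinearMap.ker (T.restrict hW - 1) = ⊥ := by
    rw [Submodule.eq_bot_iff]
    intro w hw
    rw [LinearMap.mem_ker, LinearMap.sub_apply, sub_eq_zero] at hw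
    have h2 : T (w : V) = w := by
      have := congrArg Subtype.val hw
      simpa using this
    have h3 : (w : V) ∈ LinearMap.ker (T - 1) := by
      rw [LinearMap.mem_ker, LinearMap.sub_apply, h2]; simp
    rw [hker, Submodule.mem_bot] at h3
    exact Subtype.ext h3
  rw [hker', finrank_bot] at h1
  have hle : Module.finrank K W ≤ 4 := by
    rw [← hV]; exact Submodule.finrank_le _
  rcases exp_cases hp2 hq (Nat.zero_le _) hle h1 with h | ⟨h, -⟩
  · left; exact Submodule.finrank_eq_zero.mp h
  · right
    apply Submodule.eq_top_of_finrank_eq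
    rw [h, hV]

theorem isCyclic_of_irreducible [Nontrivial V]
    (T : Module.End K V) (hirr : ∀ W : Submodule K V, (∀ v ∈ W, T v ∈ W) → W = ⊥ ∨ W = ⊤)
    {C : Type*} [Group C] (φ : C →* Module.End K V) (hφ : Function.Injective φ)
    (hcomm : ∀ c, T * φ c = φ c * T) : IsCyclic C := by
  classical
  let A := Subalgebra.centralizer K ({T} : Set (Module.End K V))
  have hV : Finite V := Module.finite_of_finite K
  have hE : Finite (Module.End K V) :=
    Finite.of_injective (fun f : Module.End K V => (f : V → V)) DFunLike.coe_injective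
  have hA : Finite A := inferInstance
  have hC : Finite C := Finite.of_injective φ hφ
  have hnzd : NoZeroDivisors A := by
    constructor
    intro X Y hXY
    have hXT : T * X.1 = X.1 * T := ((Subalgebra.mem_centralizer_iff K).mp X.2) T rfl
    rcases hirr (LinearMap.ker X.1) (by
        intro v hv
        rw [LinearMap.mem_ker] at hv ⊢
        have h1 : X.1 (T v) = T (X.1 v) := by
          have := congrArg (fun f : Module.End K V => f v) hXT
          simpa using this.symm
        rw [h1, hv, map_zero]) with h | h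
    · right
      apply Subtype.ext
      ext v
      have h1 : X.1 (Y.1 v) = 0 := by
        have := congrArg (fun f : A => f.1 v) hXY
        simpa using this
      have h2 : Y.1 v ∈ LinearMap.ker X.1 := h1
      rw [h] at h2
      simpa using h2
    · left
      apply Subtype.ext
      exact LinearMap.ker_eq_top.mp h
  have hdom : IsDomain A := NoZeroDivisors.to_isDomain A
  have hcommA : ∀ X Y : A, X * Y = Y * X := (Finite.isDomain_to_isField A).mul_comm
  letI : CommRing A := { (inferInstance : Ring A) with mul_comm := hcommA }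
  let ψ : C →* A :=
    { toFun := fun c => ⟨φ c, (Subalgebra.mem_centralizer_iff K).mpr (fun g hg => by
        rw [Set.mem_singleton_iff] at hg
        rw [hg]; exact hcomm c)⟩
      map_one' := Subtype.ext (map_one φ)
      map_mul' := fun a b => Subtype.ext (map_mul φ a b) }
  exact isCyclic_of_injective_ringHom ψ (fun a b h => hφ (congrArg Subtype.val h))

end general

section sz

open Matrix MulAction

variable {F : Type*} [Field F] [Fintype F] {m : ℕ}

omit [Fintype F] in
theorem mat_one : mat (1 : Cfsg.Sz F m) = 1 := rfl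

omit [Fintype F] in
theorem mat_injective : Function.Injective (mat : Cfsg.Sz F m → Matrix (Fin 4) (Fin 4) F) := by
  intro g h hgh
  exact Subtype.ext (Subtype.ext hgh)

/-- The linear action of the Suzuki group on `F^4`, as a monoid homomorphism. -/
noncomputable def linHom (F : Type*) [Field F] (m : ℕ) : Cfsg.Sz F m →* Module.End F (Fin 4 → F) where
  toFun g := Matrix.toLin' (mat g)
  map_one' := by rw [mat_one, Matrix.toLin'_one]; rfl
  map_mul' g h := by rw [mat_mul, Matrix.toLin'_mul]; rfl

omit [Fintype F] in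
theorem linHom_injective : Function.Injective (linHom F m) := by
  intro g h hgh
  exact mat_injective (Matrix.toLin'.injective hgh)

/-- Elements of odd prime order `p ∣ q^2+1` have cyclic centraliser. -/
theorem isCyclic_centralizer (hF : Fintype.card F = 2 ^ (2 * m + 1)) {p : ℕ} [Fact p.Prime]
    (hp2 : p ≠ 2) (hq : p ∣ (2 ^ (2 * m + 1)) ^ 2 + 1) (g : Cfsg.Sz F m) (hg : orderOf g = p) :
    IsCyclic (Subgroup.centralizer ({g} : Set (Cfsg.Sz F m))) := by
  have hcard : Nat.card F = 2 ^ (2 * m + 1) := by rw [Nat.card_eq_fintype_card, hF]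
  have hT : (linHom F m g) ^ p = 1 := by
    rw [← map_pow, ← hg, pow_orderOf_eq_one, map_one]
  have hT1 : linHom F m g ≠ 1 := by
    intro h
    have : g = 1 := linHom_injective (h.trans (map_one _).symm)
    rw [this, orderOf_one] at hg
    exact (Fact.out : p.Prime).one_lt.ne hg
  have hV : Module.finrank F (Fin 4 → F) = 4 := by simp
  have hirr := irreducible_of_order (K := F) hp2 (by rw [hcard]; exact hq) hV (linHom F m g) hT hT1
  refine isCyclic_of_irreducible (linHom F m g) hirr
    ((linHom F m).comp (Subgroup.subtype _)) ?_ ?_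
  · intro a b h
    exact Subtype.ext (linHom_injective h)
  · intro c
    have hc : g * (c : Cfsg.Sz F m) = c * g := (Subgroup.mem_centralizer_iff.mp c.2) g rfl
    show linHom F m g * linHom F m c = linHom F m c * linHom F m g
    rw [← map_mul, ← map_mul, hc]

end sz

end Cfsg.Agent.Lib.Helper4.Suz
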