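import Mathlib
import Cfsg.Prelude.Def_LieExceptional
import Cfsg.Agent.Lib.Helper4.Suz11

/-!
# Suzuki groups: the torus, odd Sylow subgroups, centralisers
-/

set_option autoImplicit false
set_option linter.unusedSimpArgs false
set_option linter.unusedVariables false
set_option linter.style.haveILetI false

namespace Cfsg.Agent.Lib.Helper4.Suz

open Matrix MulAction

variable {F : Type*} [Field F] [Fintype F] {m : ℕ}

/-- The torus parametrisation as a homomorphism. -/
def hZHom (hF : Fintype.card F = 2 ^ (2 * m + 1)) : Fˣ →* Cfsg.Sz F m where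
  toFun := hZ hF
  map_one' := hZ_one hF
  map_mul' := hZ_mul hF

/-- The torus. -/
def Tor (hF : Fintype.card F = 2 ^ (2 * m + 1)) : Subgroup (Cfsg.Sz F m) := (hZHom hF).range

theorem hZ_mem_Tor (hF : Fintype.card F = 2 ^ (2 * m + 1)) (z : Fˣ) : hZ hF z ∈ Tor hF := ⟨z, rfl⟩

theorem mem_Tor_iff (hF : Fintype.card F = 2 ^ (2 * m + 1)) (g : Cfsg.Sz F m) :
    g ∈ Tor hF ↔ ∃ z, g = hZ hF z := by
  constructor
  · rintro ⟨z, rfl⟩; exact ⟨z, rfl⟩
  · rintro ⟨z, rfl⟩; exact ⟨z, rfl⟩

theorem isCyclic_Tor (hF : Fintype.card F = 2 ^ (2 * m + 1)) : IsCyclic (Tor hF) :=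
  isCyclic_of_surjective (hZHom hF).rangeRestrict (hZHom hF).rangeRestrict_surjective

theorem card_Tor (hF : Fintype.card F = 2 ^ (2 * m + 1)) : Nat.card (Tor hF) = 2 ^ (2 * m + 1) - 1 := by
  have e : Fˣ ≃ Tor hF := Equiv.ofBijective (hZHom hF).rangeRestrict
    ⟨by
      intro a b h
      exact hZ_injective hF (congrArg Subtype.val h), (hZHom hF).rangeRestrict_surjective⟩
  rw [← Nat.card_congr e, Nat.card_units, Nat.card_eq_fintype_card, hF]

section arith

variable {p : ℕ} [Fact p.Prime]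

theorem q_pos (m : ℕ) : 1 ≤ 2 ^ (2 * m + 1) := Nat.one_le_two_pow

theorem not_dvd_q (hp2 : p ≠ 2) (k : ℕ) : ¬ p ∣ 2 ^ k := by
  intro h
  have := (Fact.out : p.Prime).dvd_of_dvd_pow h
  exact hp2 ((Nat.prime_dvd_prime_iff_eq Fact.out Nat.prime_two).mp this)

theorem not_dvd_sq_add_one (hp2 : p ≠ 2) {q : ℕ} (hq1 : 1 ≤ q) (h : p ∣ q - 1) : ¬ p ∣ q ^ 2 + 1 := by
  intro h2
  have h3 : p ∣ (q - 1) * (q + 1) := Dvd.dvd.mul_right h _
  have h4 : (q - 1) * (q + 1) + 2 = q ^ 2 + 1 := by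
    obtain ⟨k, rfl⟩ := Nat.exists_eq_add_of_le hq1
    simp only [Nat.add_sub_cancel_left]
    ring
  have h5 : p ∣ 2 := by
    have := (Nat.dvd_add_right h3).mp (h4 ▸ h2)
    exact this
  exact hp2 ((Nat.prime_dvd_prime_iff_eq Fact.out Nat.prime_two).mp h5)

theorem factorization_card_of_dvd_sub (hF : Fintype.card F = 2 ^ (2 * m + 1)) (hm : 1 ≤ m)
    (hp2 : p ≠ 2) (h : p ∣ 2 ^ (2 * m + 1) - 1) :
    (Nat.card (Cfsg.Sz F m)).factorization p = (2 ^ (2 * m + 1) - 1).factorization p := by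
  rw [card_Sz hF hm]
  have hq : 2 ≤ 2 ^ (2 * m + 1) := by
    calc 2 = 2 ^ 1 := by norm_num
      _ ≤ 2 ^ (2 * m + 1) := Nat.pow_le_pow_right (by norm_num) (by omega)
  have h1 : (2 ^ (2 * m + 1)) ^ 2 ≠ 0 := by positivity
  have h2 : (2 ^ (2 * m + 1)) ^ 2 + 1 ≠ 0 := by positivity
  have h3 : 2 ^ (2 * m + 1) - 1 ≠ 0 := by omega
  rw [Nat.factorization_mul (mul_ne_zero h1 h2) h3, Nat.factorization_mul h1 h2]
  simp only [Finsupp.coe_add, Pi.add_apply]
  rw [Nat.factorization_eq_zero_of_not_dvd (by rw [← pow_mul]; exact not_dvd_q hp2 _),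
    Nat.factorization_eq_zero_of_not_dvd (not_dvd_sq_add_one hp2 (q_pos m) h)]
  simp

end arith

section sylow

variable {p : ℕ} [Fact p.Prime]

/-- For `p ∣ q - 1` odd, there is a Sylow `p`-subgroup of `Sz` inside the torus. -/
theorem exists_sylow_le_Tor (hF : Fintype.card F = 2 ^ (2 * m + 1)) (hm : 1 ≤ m)
    (hp2 : p ≠ 2) (h : p ∣ 2 ^ (2 * m + 1) - 1) :
    ∃ Q : Sylow p (Cfsg.Sz F m), (Q : Subgroup (Cfsg.Sz F m)) ≤ Tor hF := by
  let Q₀ : Sylow p (Tor hF) := default
  have h1 : Nat.card (Q₀ : Subgroup (Tor hF)) = p ^ (2 ^ (2 * m + 1) - 1).factorization p := by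
    rw [Sylow.card_eq_multiplicity, card_Tor]
  have h2 : Nat.card ((Q₀ : Subgroup (Tor hF)).map (Tor hF).subtype) =
      p ^ (Nat.card (Cfsg.Sz F m)).factorization p := by
    rw [Subgroup.card_map_of_injective (Subgroup.subtype_injective _), h1,
      factorization_card_of_dvd_sub hF hm hp2 h]
  refine ⟨Sylow.ofCard _ h2, ?_⟩
  show (Q₀ : Subgroup (Tor hF)).map (Tor hF).subtype ≤ Tor hF
  exact Subgroup.map_subtype_le _

/-- Odd Sylow subgroups of the Suzuki group are cyclic. -/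
theorem sylow_odd_cyclic (hF : Fintype.card F = 2 ^ (2 * m + 1)) (hm : 1 ≤ m)
    (hp2 : p ≠ 2) (P : Sylow p (Cfsg.Sz F m)) : IsCyclic P := by
  have hp : p.Prime := Fact.out
  by_cases hpG : p ∣ Nat.card (Cfsg.Sz F m)
  · have hpG' := hpG
    rw [card_Sz hF hm] at hpG
    rcases (hp.dvd_mul).mp hpG with h | h
    · rcases (hp.dvd_mul).mp h with h | h
      · exact absurd (by rwa [← pow_mul] at h) (not_dvd_q hp2 _)
      · -- `p ∣ q^2+1`
        have hne : (P : Subgroup (Cfsg.Sz F m)) ≠ ⊥ := P.ne_bot_of_dvd_card hpG'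
        haveI : Nontrivial (P : Subgroup (Cfsg.Sz F m)) :=
          (Subgroup.nontrivial_iff_ne_bot _).mpr hne
        haveI := P.isPGroup'.center_nontrivial
        have hZ : IsPGroup p (Subgroup.center (P : Subgroup (Cfsg.Sz F m))) :=
          P.isPGroup'.to_subgroup _
        have hdvd : p ∣ Nat.card (Subgroup.center (P : Subgroup (Cfsg.Sz F m))) := by
          rcases hZ.card_eq_or_dvd with h1 | h1
          · exfalso
            have := Finite.one_lt_card (α := Subgroup.center (P : Subgroup (Cfsg.Sz F m)))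
            omega
          · exact h1
        obtain ⟨z, hz⟩ := exists_prime_orderOf_dvd_card' p hdvd
        have hz' : orderOf ((z : (P : Subgroup (Cfsg.Sz F m))) : Cfsg.Sz F m) = p := by
          rw [Subgroup.orderOf_coe, Subgroup.orderOf_coe, hz]
        haveI := isCyclic_centralizer hF hp2 h _ hz'
        have hle : (P : Subgroup (Cfsg.Sz F m)) ≤
            Subgroup.centralizer ({((z : (P : Subgroup (Cfsg.Sz F m))) : Cfsg.Sz F m)} : Set _) := by
          intro x hx
          rw [Subgroup.mem_centralizer_iff]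
          intro y hy
          rw [Set.mem_singleton_iff] at hy
          subst hy
          have := (Subgroup.mem_center_iff.mp z.2) ⟨x, hx⟩
          exact (congrArg Subtype.val this).symm
        exact isCyclic_of_injective (Subgroup.inclusion hle) (Subgroup.inclusion_injective hle)
    · -- `p ∣ q - 1`
      obtain ⟨Q, hQ⟩ := exists_sylow_le_Tor hF hm hp2 h
      haveI := isCyclic_Tor hF
      haveI : IsCyclic (Q : Subgroup (Cfsg.Sz F m)) :=
        isCyclic_of_injective (Subgroup.inclusion hQ) (Subgroup.inclusion_injective hQ)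
      exact isCyclic_of_surjective (Sylow.equiv Q P) (Sylow.equiv Q P).surjective
  · have h1 : Nat.card (P : Subgroup (Cfsg.Sz F m)) = 1 := by
      rw [Sylow.card_eq_multiplicity, Nat.factorization_eq_zero_of_not_dvd hpG, pow_zero]
    haveI : Subsingleton (P : Subgroup (Cfsg.Sz F m)) := (Nat.card_eq_one_iff_unique.mp h1).1
    exact isCyclic_of_subsingleton

end sylow

end Cfsg.Agent.Lib.Helper4.Suz
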