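import Mathlib
import Cfsg.Prelude.Def_LieExceptional
import Cfsg.Agent.Lib.Helper4.Suz12

/-!
# Suzuki groups: centralisers of non-identity elements are nilpotent
-/

set_option autoImplicit false
set_option linter.unusedSimpArgs false
set_option linter.unusedVariables false
set_option linter.style.haveILetI false

namespace Cfsg.Agent.Lib.Helper4.Suz

open Matrix MulAction

variable {F : Type*} [Field F] [Fintype F] {m : ℕ}

/-- The centraliser of a central involution of `U` lies in `U`. -/
theorem centralizer_uZ_le (hF : Fintype.card F = 2 ^ (2 * m + 1)) (hm : 1 ≤ m) {b : F} (hb : b ≠ 0) :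
    Subgroup.centralizer ({uZ hF 0 b} : Set (Cfsg.Sz F m)) ≤ USub hF := by
  intro c hc
  have hcu : uZ hF 0 b * c = c * uZ hF 0 b := (Subgroup.mem_centralizer_iff.mp hc) _ rfl
  have hfix : uZ hF 0 b • (c • oInf F m) = c • oInf F m := by
    rw [← mul_smul, hcu, mul_smul, uZ_smul_oInf]
  have hinf : c • oInf F m = oInf F m := by
    rcases ovoid_cases (c • oInf F m) with h | ⟨x, y, h⟩
    · exact h
    · exfalso
      rw [h, uZ_smul_oPt] at hfix
      obtain ⟨-, h2⟩ := oPt_inj hfix
      rw [th_zero, zero_mul, add_zero] at h2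
      exact hb (by simpa using h2)
  obtain ⟨a', b', z, rfl⟩ := fix_oInf hF hm c hinf
  have h0 := congrArg (fun g : Cfsg.Sz F m => g • oPt m (0 : F) 0) hcu
  simp only [mul_smul, hZ_smul_zero, uZ_smul_zero, uZ_smul_oPt, hZ_smul_oPt] at h0
  obtain ⟨-, h2⟩ := oPt_inj h0
  have hz : z = 1 := by
    apply hZ_fix hF (x := 0) (y := b) (Or.inr hb)
    rw [hZ_smul_oPt]
    congr 1
    · simp
    · simp only [th_zero, zero_mul, mul_zero, add_zero] at h2
      have : th m (z : F) * (z : F) ^ 2 * b + b' = b + b' := by linear_combination -h2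
      exact add_right_cancel this
  rw [hz, hZ_one, mul_one]
  exact uZ_mem_USub hF a' b'

/-- Fixed points of a non-trivial torus element. -/
theorem hZ_fixed_cases (hF : Fintype.card F = 2 ^ (2 * m + 1)) {z : Fˣ} (hz : z ≠ 1)
    {P : Cfsg.suzukiOvoid F m} (h : hZ hF z • P = P) : P = oInf F m ∨ P = oPt m 0 0 := by
  rcases ovoid_cases P with h1 | ⟨x, y, rfl⟩
  · left; exact h1
  · right
    by_contra hne
    exact hz (hZ_fix hF (oPt_ne_zero_iff.mp hne) h)

/-- The centraliser of a non-trivial torus element lies in the torus. -/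
theorem centralizer_hZ_le (hF : Fintype.card F = 2 ^ (2 * m + 1)) (hm : 1 ≤ m) {z : Fˣ} (hz : z ≠ 1) :
    Subgroup.centralizer ({hZ hF z} : Set (Cfsg.Sz F m)) ≤ Tor hF := by
  intro c hc
  have hcu : hZ hF z * c = c * hZ hF z := (Subgroup.mem_centralizer_iff.mp hc) _ rfl
  have hfix1 : hZ hF z • (c • oInf F m) = c • oInf F m := by
    rw [← mul_smul, hcu, mul_smul, hZ_smul_oInf]
  have hfix2 : hZ hF z • (c • oPt m (0 : F) 0) = c • oPt m (0 : F) 0 := by
    rw [← mul_smul, hcu, mul_smul, hZ_smul_zero]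
  have hne : c • oInf F m ≠ c • oPt m (0 : F) 0 := by
    intro h
    exact (oPt_ne_oInf (m := m) (0 : F) 0) ((MulAction.injective c h).symm)
  rcases hZ_fixed_cases hF hz hfix1 with h1 | h1 <;> rcases hZ_fixed_cases hF hz hfix2 with h2 | h2
  · exact absurd (h1.trans h2.symm) hne
  · obtain ⟨z', rfl⟩ := fix_oInf_zero hF hm c h1 h2
    exact hZ_mem_Tor hF z'
  · exfalso
    have h3 : (wZ hF * c) • oInf F m = oInf F m := by rw [mul_smul, h1, wZ_smul_oPt_zero]
    have h4 : (wZ hF * c) • oPt m (0 : F) 0 = oPt m (0 : F) 0 := by rw [mul_smul, h2, wZ_smul_oInf]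
    obtain ⟨z', hz'⟩ := fix_oInf_zero hF hm _ h3 h4
    have hc' : c = wZ hF * hZ hF z' := by
      rw [← hz', ← mul_assoc, wZ_mul_wZ, one_mul]
    have h5 : wZ hF * hZ hF z * wZ hF * hZ hF z' = hZ hF z' * hZ hF z := by
      have : wZ hF * (hZ hF z * c) = wZ hF * (c * hZ hF z) := by rw [hcu]
      rw [hc'] at this
      calc wZ hF * hZ hF z * wZ hF * hZ hF z' = wZ hF * (hZ hF z * (wZ hF * hZ hF z')) := by group
        _ = wZ hF * (wZ hF * hZ hF z' * hZ hF z) := this
        _ = (wZ hF * wZ hF) * hZ hF z' * hZ hF z := by group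
        _ = hZ hF z' * hZ hF z := by rw [wZ_mul_wZ, one_mul]
    rw [wZ_hZ_wZ, ← hZ_mul, ← hZ_mul] at h5
    have h6 := hZ_injective hF h5
    have h7 : z⁻¹ = z := by
      have : z⁻¹ * z' = z * z' := by rw [h6, mul_comm]
      exact mul_right_cancel this
    have h8 : (z : F) ^ 2 = 1 ^ 2 := by
      have : z * z = 1 := by nth_rewrite 1 [← h7]; exact inv_mul_cancel z
      have := congrArg (fun u : Fˣ => (u : F)) this
      simp only [Units.val_mul, Units.val_one] at this
      rw [sq, this, one_pow]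
    exact hz (Units.ext (sq_inj (two_eq_zero hF) h8))
  · exact absurd (h1.trans h2.symm) hne

theorem nilpotent_of_le {G : Type*} [Group G] {H K : Subgroup G} (h : H ≤ K)
    (hK : Group.IsNilpotent K) : Group.IsNilpotent H := by
  haveI := hK
  apply Subgroup.isNilpotent_of_ker_le_center (Subgroup.inclusion h)
  rw [(MonoidHom.ker_eq_bot_iff _).mpr (Subgroup.inclusion_injective h)]
  exact bot_le

theorem nilpotent_of_isCyclic {G : Type*} [Group G] (h : IsCyclic G) : Group.IsNilpotent G := by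
  letI := IsCyclic.commGroup (α := G)
  exact CommGroup.isNilpotent

/-- Centralisers of conjugate elements: transport of nilpotency. -/
theorem nilpotent_centralizer_conj {G : Type*} [Group G] (c u : G)
    (h : Group.IsNilpotent (Subgroup.centralizer ({u} : Set G))) :
    Group.IsNilpotent (Subgroup.centralizer ({c * u * c⁻¹} : Set G)) := by
  haveI := h
  let f : Subgroup.centralizer ({c * u * c⁻¹} : Set G) →* Subgroup.centralizer ({u} : Set G) :=
    { toFun := fun x => ⟨c⁻¹ * x * c, by
        rw [Subgroup.mem_centralizer_iff]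
        intro y hy
        rw [Set.mem_singleton_iff] at hy
        subst hy
        have h1 : (c * y * c⁻¹) * (x : G) = x * (c * y * c⁻¹) :=
          (Subgroup.mem_centralizer_iff.mp x.2) _ rfl
        have h2 : y * (c⁻¹ * x * c) = c⁻¹ * ((c * y * c⁻¹) * x) * c := by group
        rw [h2, h1]; group⟩
      map_one' := by
        apply Subtype.ext
        simp
      map_mul' := by
        intro x y
        apply Subtype.ext
        simp only [Subgroup.coe_mul]
        group }
  have hinj : Function.Injective f := by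
    intro x y hxy
    have h1 : c⁻¹ * (x : G) * c = c⁻¹ * (y : G) * c := congrArg Subtype.val hxy
    apply Subtype.ext
    have h2 : (x : G) = c * (c⁻¹ * (x : G) * c) * c⁻¹ := by group
    rw [h2, h1]; group
  apply Subgroup.isNilpotent_of_ker_le_center f
  rw [(MonoidHom.ker_eq_bot_iff _).mpr hinj]
  exact bot_le

theorem orderOf_conj' {G : Type*} [Group G] (c u : G) : orderOf (c * u * c⁻¹) = orderOf u :=
  orderOf_injective (MulAut.conj c).toMonoidHom (MulAut.conj c).injective u

/-- Centralisers of involutions are nilpotent. -/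
theorem nilpotent_centralizer_involution (hF : Fintype.card F = 2 ^ (2 * m + 1)) (hm : 1 ≤ m)
    (x : Cfsg.Sz F m) (hx : orderOf x = 2) :
    Group.IsNilpotent (Subgroup.centralizer ({x} : Set (Cfsg.Sz F m))) := by
  have hpg : IsPGroup 2 (Subgroup.zpowers x) := by
    apply IsPGroup.of_card (n := 1)
    rw [Nat.card_zpowers, hx, pow_one]
  obtain ⟨Q, hQ⟩ := hpg.exists_le_sylow
  obtain ⟨c, hc⟩ := sylow_eq_map hF hm Q
  have hxQ : x ∈ (Q : Subgroup (Cfsg.Sz F m)) := hQ (Subgroup.mem_zpowers x)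
  rw [hc, Subgroup.mem_map] at hxQ
  obtain ⟨u, hu, hux⟩ := hxQ
  obtain ⟨a, b, rfl⟩ := hu
  have hx' : x = c * uZ hF a b * c⁻¹ := by rw [← hux]; rfl
  have ho : orderOf (uZ hF a b) = 2 := by rw [← hx, hx', orderOf_conj']
  have hsq : uZ hF a b ^ 2 = uZ hF 0 (th m a * a) := congrArg Subtype.val (uU_sq hF a b)
  have h1 : uZ hF 0 (th m a * a) = uZ hF (0 : F) 0 := by
    rw [← hsq, ← ho, pow_orderOf_eq_one, uZ_zero]
  have ha : a = 0 := by
    have := (uZ_injective hF h1).2
    rcases mul_eq_zero.mp this with h | h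
    · exact (th_eq_zero h)
    · exact h
  subst ha
  have hb : b ≠ 0 := by
    rintro rfl
    rw [uZ_zero, orderOf_one] at ho
    omega
  rw [hx']
  apply nilpotent_centralizer_conj
  apply nilpotent_of_le (centralizer_uZ_le hF hm hb)
  have hU : IsPGroup 2 (USub hF) := by
    apply IsPGroup.of_card (n := 2 * (2 * m + 1))
    rw [card_USub, ← pow_mul, mul_comm]
  exact hU.isNilpotent

/-- Centralisers of elements of odd prime order dividing `q - 1` are nilpotent. -/
theorem nilpotent_centralizer_of_dvd_sub (hF : Fintype.card F = 2 ^ (2 * m + 1)) (hm : 1 ≤ m)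
    {p : ℕ} [Fact p.Prime] (hp2 : p ≠ 2) (h : p ∣ 2 ^ (2 * m + 1) - 1)
    (x : Cfsg.Sz F m) (hx : orderOf x = p) :
    Group.IsNilpotent (Subgroup.centralizer ({x} : Set (Cfsg.Sz F m))) := by
  have hpg : IsPGroup p (Subgroup.zpowers x) := by
    apply IsPGroup.of_card (n := 1)
    rw [Nat.card_zpowers, hx, pow_one]
  obtain ⟨P, hP⟩ := hpg.exists_le_sylow
  obtain ⟨Q, hQ⟩ := exists_sylow_le_Tor hF hm hp2 h
  obtain ⟨c, hc⟩ := MulAction.exists_smul_eq (Cfsg.Sz F m) Q P
  have hxP : x ∈ (P : Subgroup (Cfsg.Sz F m)) := hP (Subgroup.mem_zpowers x)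
  rw [← hc, Sylow.coe_subgroup_smul, Subgroup.mem_pointwise_smul_iff_inv_smul_mem] at hxP
  have hxT : c⁻¹ * x * c ∈ Tor hF := by
    apply hQ
    have : (MulAut.conj c)⁻¹ • x = c⁻¹ * x * c := by
      rw [← map_inv, MulAut.smul_def, MulAut.conj_apply, inv_inv]
    rwa [this] at hxP
  obtain ⟨z, hz⟩ := (mem_Tor_iff hF _).mp hxT
  have hx' : x = c * hZ hF z * c⁻¹ := by rw [← hz]; group
  have hz1 : z ≠ 1 := by
    rintro rfl
    rw [hZ_one, mul_one, mul_inv_cancel] at hx'
    rw [hx', orderOf_one] at hx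
    exact (Fact.out : p.Prime).one_lt.ne hx
  rw [hx']
  apply nilpotent_centralizer_conj
  apply nilpotent_of_le (centralizer_hZ_le hF hm hz1)
  exact nilpotent_of_isCyclic (isCyclic_Tor hF)

/-- Centralisers of elements of prime order are nilpotent. -/
theorem nilpotent_centralizer_of_prime_order (hF : Fintype.card F = 2 ^ (2 * m + 1)) (hm : 1 ≤ m)
    {p : ℕ} [Fact p.Prime] (x : Cfsg.Sz F m) (hx : orderOf x = p) :
    Group.IsNilpotent (Subgroup.centralizer ({x} : Set (Cfsg.Sz F m))) := by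
  have hp : p.Prime := Fact.out
  by_cases hp2 : p = 2
  · subst hp2
    exact nilpotent_centralizer_involution hF hm x hx
  · have hpG : p ∣ Nat.card (Cfsg.Sz F m) := hx ▸ orderOf_dvd_natCard x
    rw [card_Sz hF hm] at hpG
    rcases (hp.dvd_mul).mp hpG with h | h
    · rcases (hp.dvd_mul).mp h with h | h
      · exact absurd (by rwa [← pow_mul] at h) (not_dvd_q hp2 _)
      · exact nilpotent_of_isCyclic (isCyclic_centralizer hF hp2 h x hx)
    · exact nilpotent_centralizer_of_dvd_sub hF hm hp2 h x hx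

/-- The Suzuki group is a CN-group. -/
theorem isCNGroup (hF : Fintype.card F = 2 ^ (2 * m + 1)) (hm : 1 ≤ m) :
    Cfsg.IsCNGroup (Cfsg.Sz F m) := by
  intro g hg
  have hn : orderOf g ≠ 1 := by rwa [Ne, orderOf_eq_one_iff]
  obtain ⟨p, hp, hpd⟩ := Nat.exists_prime_and_dvd hn
  haveI : Fact p.Prime := ⟨hp⟩
  have ho : orderOf (g ^ (orderOf g / p)) = p :=
    orderOf_pow_orderOf_div (orderOf_pos g).ne' hpd
  have hnil := nilpotent_centralizer_of_prime_order hF hm _ ho
  refine nilpotent_of_le ?_ hnil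
  intro c hc
  rw [Subgroup.mem_centralizer_iff] at hc ⊢
  intro y hy
  rw [Set.mem_singleton_iff] at hy
  subst hy
  have h1 : Commute g c := hc g rfl
  exact (h1.pow_left _).eq

end Cfsg.Agent.Lib.Helper4.Suz
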