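import Mathlib
import Cfsg.Prelude.Def_LieExceptional
import Cfsg.Prelude.Def_Transfer
import Cfsg.Agent.Lib.Helper4.Suz13

/-!
# Suzuki groups, part 14: elementary abelian TI-subgroups
-/

set_option autoImplicit false
set_option linter.unusedSimpArgs false
set_option linter.unusedVariables false
set_option linter.style.haveILetI false

namespace Cfsg.Agent.Lib.Helper4.Suz

open MulAction

/-- In a finite group, an element conjugating `H` into itself normalises `H`. -/
theorem mem_normalizer_of_conj_mem {G : Type*} [Group G] [Finite G] (H : Subgroup G) (x : G)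
    (h : ∀ a ∈ H, x * a * x⁻¹ ∈ H) : x ∈ Subgroup.normalizer (H : Set G) := by
  rw [Subgroup.mem_normalizer_iff]
  intro a
  refine ⟨h a, ?_⟩
  intro ha
  -- conjugation is an injective self-map of the finite set `H`
  let f : H → H := fun b => ⟨x * b * x⁻¹, h b b.2⟩
  have hf : Function.Injective f := by
    intro b c hbc
    have := congrArg Subtype.val hbc
    simp only [f] at this
    apply Subtype.ext
    exact mul_left_cancel (mul_right_cancel this)
  obtain ⟨b, hb⟩ := Finite.surjective_of_injective hf ⟨x * a * x⁻¹, ha⟩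
  have := congrArg Subtype.val hb
  simp only [f] at this
  have : (b : G) = a := mul_left_cancel (mul_right_cancel this)
  rw [← this]
  exact b.2

theorem pow_sub_one_dvd_imp {n k : ℕ} (hn : 1 ≤ n) (h : 2 ^ n - 1 ∣ 2 ^ k - 1) : n ∣ k := by
  have hg := Nat.pow_sub_one_gcd_pow_sub_one 2 n k
  rw [Nat.gcd_eq_left h] at hg
  have h1 : 1 ≤ 2 ^ n := Nat.one_le_two_pow
  have h2 : 1 ≤ 2 ^ Nat.gcd n k := Nat.one_le_two_pow
  have h3 : 2 ^ n = 2 ^ Nat.gcd n k := by omega
  have h4 : n = Nat.gcd n k := Nat.pow_right_injective (le_refl 2) h3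
  rw [h4]
  exact Nat.gcd_dvd_right n k

variable {F : Type*} [Field F] [Fintype F] {m : ℕ}

theorem uZ_central (hF : Fintype.card F = 2 ^ (2 * m + 1)) (a c b : F) :
    uZ hF a c * uZ hF 0 b * (uZ hF a c)⁻¹ = uZ hF 0 b := by
  have : uZ hF a c * uZ hF 0 b = uZ hF 0 b * uZ hF a c := by
    rw [uZ_mul, uZ_mul, th_zero, zero_mul, mul_zero, add_zero, add_zero, zero_add, add_zero,
      add_comm c b]
  rw [this, mul_assoc, mul_inv_cancel, mul_one]

/-- Conjugation of central elements of `U` by elements of the Borel subgroup. -/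
theorem borel_conj_central (hF : Fintype.card F = 2 ^ (2 * m + 1)) (a c : F) (z : Fˣ) (b : F) :
    (uZ hF a c * hZ hF z) * uZ hF 0 b * (uZ hF a c * hZ hF z)⁻¹ =
      uZ hF 0 (th m (z : F) * (z : F) ^ 2 * b) := by
  have : (uZ hF a c * hZ hF z) * uZ hF 0 b * (uZ hF a c * hZ hF z)⁻¹ =
      uZ hF a c * (hZ hF z * uZ hF 0 b * (hZ hF z)⁻¹) * (uZ hF a c)⁻¹ := by group
  rw [this, hZ_uZ_hZ, mul_zero, uZ_central]

theorem exists_multiplier (hF : Fintype.card F = 2 ^ (2 * m + 1)) (l : Fˣ) :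
    ∃ z : Fˣ, th m (z : F) * (z : F) ^ 2 = (l : F) := by
  obtain ⟨μ, hμ⟩ := th_surjective hF (l : F)
  obtain ⟨a, ha⟩ := mul_th_surjective hF μ
  simp only at ha
  have ha0 : a ≠ 0 := by
    rintro rfl
    rw [zero_mul] at ha
    rw [← ha, th_zero] at hμ
    exact l.ne_zero hμ.symm
  refine ⟨Units.mk0 a ha0, ?_⟩
  rw [Units.val_mk0, ← hμ, ← ha, th_mul, th_th hF]

theorem uZ_zero_ne_one (hF : Fintype.card F = 2 ^ (2 * m + 1)) {b : F} (hb : b ≠ 0) :
    uZ hF 0 b ≠ 1 := by
  intro h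
  rw [← uZ_zero hF] at h
  exact hb (uZ_injective hF h).2

/-- A non-trivial central element of `U` fixes only `∞`. -/
theorem uZ_zero_fix (hF : Fintype.card F = 2 ^ (2 * m + 1)) {b : F} (hb : b ≠ 0)
    {P : Cfsg.suzukiOvoid F m} (h : uZ hF 0 b • P = P) : P = oInf F m := by
  rcases ovoid_cases P with h1 | ⟨x, y, rfl⟩
  · exact h1
  · exfalso
    rw [uZ_smul_oPt] at h
    have := (oPt_inj h).2
    rw [th_zero, zero_mul, add_zero] at this
    have : y + b = y + 0 := by rw [this, add_zero]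
    exact hb (add_left_cancel this)

/-- The key direction: a TI elementary abelian subgroup of order `2^n` forces `n ∣ 2m+1`. -/
theorem ti_dvd (hF : Fintype.card F = 2 ^ (2 * m + 1)) (hm : 1 ≤ m) (n : ℕ) (hn : 2 ≤ n)
    (E : Subgroup (Cfsg.Sz F m)) (hE : ∀ a ∈ E, a ^ 2 = 1) (hcard : Nat.card E = 2 ^ n)
    (hTI : ∀ x : Cfsg.Sz F m, E ⊓ E.map (MulAut.conj x).toMonoidHom ≠ ⊥ →
      x ∈ Subgroup.normalizer (E : Set (Cfsg.Sz F m))) : n ∣ 2 * m + 1 := by
  have h2 := two_eq_zero hF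
  haveI : Fact (Nat.Prime 2) := ⟨Nat.prime_two⟩
  have hpg : IsPGroup 2 E := IsPGroup.of_card hcard
  obtain ⟨Q, hQ⟩ := hpg.exists_le_sylow
  obtain ⟨g, hg⟩ := exists_conj_USylow hF hm Q
  -- every element of `E` is `g⁻¹ u(0,b) g`
  have hform : ∀ e ∈ E, ∃ b : F, e = g⁻¹ * uZ hF 0 b * g := by
    intro e he
    have h1 : g * e * g⁻¹ ∈ USub hF := by
      have : g * e * g⁻¹ ∈ ((g • Q : Sylow 2 (Cfsg.Sz F m)) : Subgroup (Cfsg.Sz F m)) := by
        rw [Sylow.coe_subgroup_smul]
        exact ⟨e, hQ he, rfl⟩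
      rw [hg] at this
      exact this
    obtain ⟨a, b, hab⟩ := h1
    have hsq : (g * e * g⁻¹) ^ 2 = 1 := by
      have : (g * e * g⁻¹) ^ 2 = g * e ^ 2 * g⁻¹ := by rw [sq, sq]; group
      rw [this, hE e he]; group
    rw [hab, sq, uZ_mul, ← uZ_zero hF] at hsq
    have h3 := (uZ_injective hF hsq).2
    have ha : a = 0 := by
      have : th m a * a = 0 := by
        have e1 : b + b + th m a * a = th m a * a + b * 2 := by ring
        rw [e1, m2 h2, add_zero] at h3
        exact h3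
      rcases mul_eq_zero.mp this with h | h
      · exact th_eq_zero h
      · exact h
    refine ⟨b, ?_⟩
    rw [← ha, ← hab]; group
  set W : Set F := {b | g⁻¹ * uZ hF 0 b * g ∈ E} with hW
  -- conjugation by `g⁻¹ h(z) g`
  have hconj : ∀ (z : Fˣ) (b : F), (g⁻¹ * hZ hF z * g) * (g⁻¹ * uZ hF 0 b * g) *
      (g⁻¹ * hZ hF z * g)⁻¹ = g⁻¹ * uZ hF 0 (th m (z : F) * (z : F) ^ 2 * b) * g := by
    intro z b
    have := borel_conj_central hF 0 0 z b
    rw [uZ_zero, one_mul] at this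
    rw [← this]; group
  have hne : ∀ b : F, b ≠ 0 → g⁻¹ * uZ hF 0 b * g ≠ 1 := by
    intro b hb h
    apply uZ_zero_ne_one hF hb
    have : uZ hF 0 b = g * (g⁻¹ * uZ hF 0 b * g) * g⁻¹ := by group
    rw [this, h]; group
  -- the key closure property
  have hstar : ∀ l : Fˣ, (∃ w ∈ W, w ≠ 0 ∧ (l : F) * w ∈ W) → ∀ w ∈ W, (l : F) * w ∈ W := by
    intro l ⟨w, hw, hw0, hlw⟩ w' hw'
    obtain ⟨z, hz⟩ := exists_multiplier hF l
    have hx : g⁻¹ * hZ hF z * g ∈ Subgroup.normalizer (E : Set (Cfsg.Sz F m)) := by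
      apply hTI
      intro hbot
      have hmem : g⁻¹ * uZ hF 0 ((l : F) * w) * g ∈
          E ⊓ E.map (MulAut.conj (g⁻¹ * hZ hF z * g)).toMonoidHom := by
        refine ⟨hlw, ⟨g⁻¹ * uZ hF 0 w * g, hw, ?_⟩⟩
        show (g⁻¹ * hZ hF z * g) * (g⁻¹ * uZ hF 0 w * g) * (g⁻¹ * hZ hF z * g)⁻¹ = _
        rw [hconj, hz]
      rw [hbot, Subgroup.mem_bot] at hmem
      exact hne _ (mul_ne_zero l.ne_zero hw0) hmem
    have := (Subgroup.mem_normalizer_iff.mp hx (g⁻¹ * uZ hF 0 w' * g)).mp hw'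
    rw [hconj, hz] at this
    exact this
  -- a non-zero element of `W`
  have hW0 : ∃ w₀ ∈ W, w₀ ≠ 0 := by
    have h1 : 1 < Nat.card E := by
      rw [hcard]
      exact Nat.one_lt_two_pow (by omega)
    haveI : Finite E := Nat.finite_of_card_ne_zero (by omega)
    haveI : Nontrivial E := Finite.one_lt_card_iff_nontrivial.mp h1
    obtain ⟨e, he⟩ := exists_ne (1 : E)
    obtain ⟨b, hb⟩ := hform e.1 e.2
    refine ⟨b, ?_, ?_⟩
    · show g⁻¹ * uZ hF 0 b * g ∈ E
      rw [← hb]; exact e.2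
    · rintro rfl
      apply he
      apply Subtype.ext
      rw [hb, uZ_zero]
      simp
  obtain ⟨w₀, hw₀, hw₀0⟩ := hW0
  -- the multiplicative group of the "subfield"
  let K : Subgroup Fˣ :=
    { carrier := {l | (l : F) * w₀ ∈ W}
      one_mem' := by simpa using hw₀
      mul_mem' := by
        intro l l' hl hl'
        have := hstar l ⟨w₀, hw₀, hw₀0, hl⟩ _ hl'
        show ((l * l' : Fˣ) : F) * w₀ ∈ W
        rw [Units.val_mul, mul_assoc]
        exact this
      inv_mem' := by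
        intro l hl
        have hl0 : (l : F) * w₀ ≠ 0 := mul_ne_zero l.ne_zero hw₀0
        have : ((l⁻¹ : Fˣ) : F) * ((l : F) * w₀) ∈ W := by
          rw [← mul_assoc, ← Units.val_mul, inv_mul_cancel, Units.val_one, one_mul]
          exact hw₀
        exact hstar l⁻¹ ⟨(l : F) * w₀, hl, hl0, this⟩ _ hw₀ }
  -- cardinalities
  have hcardK : Nat.card K + 1 = Nat.card E := by
    -- `E ≃ Option K`
    let f : Option K → E := fun o => match o with
      | none => 1
      | some l => ⟨g⁻¹ * uZ hF 0 ((l.1 : F) * w₀) * g, l.2⟩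
    have hcancel : ∀ b b' : F, g⁻¹ * uZ hF 0 b * g = g⁻¹ * uZ hF 0 b' * g → b = b' := by
      intro b b' h
      have := mul_left_cancel (mul_right_cancel h)
      exact (uZ_injective hF this).2
    have hfinj : Function.Injective f := by
      intro o o' h
      rcases o with _ | l <;> rcases o' with _ | l'
      · rfl
      · exfalso
        have := congrArg Subtype.val h
        simp only [f] at this
        exact hne _ (mul_ne_zero l'.1.ne_zero hw₀0) this.symm
      · exfalso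
        have := congrArg Subtype.val h
        simp only [f] at this
        exact hne _ (mul_ne_zero l.1.ne_zero hw₀0) this
      · have := congrArg Subtype.val h
        simp only [f] at this
        have h3 := hcancel _ _ this
        have h4 : (l.1 : F) = (l'.1 : F) := mul_right_cancel₀ hw₀0 h3
        congr 1
        exact Subtype.ext (Units.ext h4)
    have hfsurj : Function.Surjective f := by
      intro e
      by_cases h : (e : Cfsg.Sz F m) = 1
      · exact ⟨none, Subtype.ext h.symm⟩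
      · obtain ⟨b, hb⟩ := hform e.1 e.2
        have hb0 : b ≠ 0 := by
          rintro rfl
          apply h
          rw [hb, uZ_zero]; group
        have hmem : ((Units.mk0 (b / w₀) (div_ne_zero hb0 hw₀0) : Fˣ) : F) * w₀ ∈ W := by
          rw [Units.val_mk0, div_mul_cancel₀ _ hw₀0]
          show g⁻¹ * uZ hF 0 b * g ∈ E
          rw [← hb]; exact e.2
        refine ⟨some ⟨Units.mk0 (b / w₀) (div_ne_zero hb0 hw₀0), hmem⟩, ?_⟩
        apply Subtype.ext
        simp only [f, Units.val_mk0]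
        rw [div_mul_cancel₀ _ hw₀0]
        exact hb.symm
    have e : Option K ≃ E := Equiv.ofBijective f ⟨hfinj, hfsurj⟩
    haveI : Finite K := inferInstance
    rw [← Nat.card_congr e, Finite.card_option]
  have hK : Nat.card K = 2 ^ n - 1 := by omega
  have hdvd : Nat.card K ∣ Nat.card Fˣ := Subgroup.card_subgroup_dvd_card K
  rw [hK, Nat.card_units, Nat.card_eq_fintype_card, hF] at hdvd
  exact pow_sub_one_dvd_imp (by omega) hdvd

end Cfsg.Agent.Lib.Helper4.Suz

namespace Cfsg.Agent.Lib.Helper4.Suz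

open MulAction

variable {F : Type*} [Field F] [Fintype F] {m : ℕ}

/-- The centre of a Sylow 2-subgroup of the subfield subgroup. -/
def ESub (hF : Fintype.card F = 2 ^ (2 * m + 1)) (n : ℕ) : Subgroup (Cfsg.Sz F m) where
  carrier := {g | ∃ b : F, b ^ 2 ^ n = b ∧ g = uZ hF 0 b}
  one_mem' := ⟨0, zero_pow (by positivity), (uZ_zero hF).symm⟩
  mul_mem' := by
    rintro _ _ ⟨b, hb, rfl⟩ ⟨b', hb', rfl⟩
    haveI : CharP F 2 := CharTwo.of_one_ne_zero_of_two_eq_zero one_ne_zero (two_eq_zero hF)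
    refine ⟨b + b', ?_, ?_⟩
    · rw [add_pow_char_pow, hb, hb']
    · rw [uZ_mul, th_zero, zero_mul, add_zero, add_zero]
  inv_mem' := by
    rintro _ ⟨b, hb, rfl⟩
    refine ⟨b, hb, ?_⟩
    rw [uZ_inv, zero_mul, add_zero]

theorem card_fixed_pow (hF : Fintype.card F = 2 ^ (2 * m + 1)) {n : ℕ} (hn : 1 ≤ n)
    (hd : n ∣ 2 * m + 1) : Nat.card {b : F // b ^ 2 ^ n = b} = 2 ^ n := by
  classical
  -- a primitive root of unity of order `2^n - 1`
  have hdvd : 2 ^ n - 1 ∣ 2 ^ (2 * m + 1) - 1 := by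
    obtain ⟨k, hk⟩ := hd
    rw [hk, pow_mul]
    exact Nat.sub_one_dvd_pow_sub_one (2 ^ n) k
  have hpos : 0 < 2 ^ n - 1 := by
    have : 2 ≤ 2 ^ n := by
      calc 2 = 2 ^ 1 := by norm_num
        _ ≤ 2 ^ n := Nat.pow_le_pow_right (by norm_num) hn
    omega
  haveI : NeZero (2 ^ n - 1) := ⟨by omega⟩
  obtain ⟨ζ, hζ⟩ := IsCyclic.exists_generator (α := Fˣ)
  have hordζ : orderOf ζ = 2 ^ (2 * m + 1) - 1 := by
    rw [orderOf_eq_card_of_forall_mem_zpowers hζ, Nat.card_units, Nat.card_eq_fintype_card, hF]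
  obtain ⟨k, hk⟩ := hdvd
  have hq2 : 2 ≤ 2 ^ (2 * m + 1) := by
    calc 2 = 2 ^ 1 := by norm_num
      _ ≤ 2 ^ (2 * m + 1) := Nat.pow_le_pow_right (by norm_num) (by omega)
  have hk0 : k ≠ 0 := by
    rintro rfl
    rw [mul_zero] at hk
    omega
  have hξ : orderOf (ζ ^ k) = 2 ^ n - 1 := by
    rw [orderOf_pow' _ hk0, hordζ, hk,
      Nat.gcd_eq_right (Dvd.intro_left _ rfl), Nat.mul_div_cancel _ (Nat.pos_of_ne_zero hk0)]
  have hprim : IsPrimitiveRoot (ζ ^ k) (2 ^ n - 1) := by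
    rw [← hξ]; exact IsPrimitiveRoot.orderOf _
  have hprim' : IsPrimitiveRoot ((ζ ^ k : Fˣ) : F) (2 ^ n - 1) := hprim.map_of_injective
    (f := Units.coeHom F) Units.val_injective
  have hcard := hprim'.card_rootsOfUnity
  -- bijection `Option (rootsOfUnity) ≃ fixed points`
  let f : Option (rootsOfUnity (2 ^ n - 1) F) → {b : F // b ^ 2 ^ n = b} := fun o =>
    match o with
    | none => ⟨0, zero_pow (by positivity)⟩
    | some r => ⟨((r : Fˣ) : F), by
        have := r.2
        rw [mem_rootsOfUnity] at this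
        have h1 : (((r : Fˣ) : F)) ^ (2 ^ n - 1) = 1 := by
          rw [← Units.val_pow_eq_pow_val, this, Units.val_one]
        have h2 : (((r : Fˣ) : F)) ^ 2 ^ n = (((r : Fˣ) : F)) ^ (2 ^ n - 1) * ((r : Fˣ) : F) := by
          rw [← pow_succ]; congr 1; omega
        rw [h2, h1, one_mul]⟩
  have hfinj : Function.Injective f := by
    intro o o' h
    rcases o with _ | r <;> rcases o' with _ | r'
    · rfl
    · exfalso
      have := congrArg Subtype.val h
      simp only [f] at this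
      exact (r' : Fˣ).ne_zero this.symm
    · exfalso
      have := congrArg Subtype.val h
      simp only [f] at this
      exact (r : Fˣ).ne_zero this
    · have := congrArg Subtype.val h
      simp only [f] at this
      congr 1
      exact Subtype.ext (Units.ext this)
  have hfsurj : Function.Surjective f := by
    rintro ⟨b, hb⟩
    by_cases hb0 : b = 0
    · subst hb0
      exact ⟨none, rfl⟩
    · have h1 : b ^ (2 ^ n - 1) = 1 := by
        have : 2 ^ n = (2 ^ n - 1) + 1 := by omega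
        rw [this, pow_succ] at hb
        have : b ^ (2 ^ n - 1) * b = 1 * b := by rw [hb, one_mul]
        exact mul_right_cancel₀ hb0 this
      have hmem : Units.mk0 b hb0 ∈ rootsOfUnity (2 ^ n - 1) F := by
        rw [mem_rootsOfUnity]
        apply Units.ext
        rw [Units.val_pow_eq_pow_val, Units.val_mk0, h1, Units.val_one]
      exact ⟨some ⟨Units.mk0 b hb0, hmem⟩, rfl⟩
  have e := Equiv.ofBijective f ⟨hfinj, hfsurj⟩
  rw [← Nat.card_congr e, Finite.card_option, hcard]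
  omega

end Cfsg.Agent.Lib.Helper4.Suz

namespace Cfsg.Agent.Lib.Helper4.Suz

open MulAction

variable {F : Type*} [Field F] [Fintype F] {m : ℕ}

theorem exists_ti (hF : Fintype.card F = 2 ^ (2 * m + 1)) (hm : 1 ≤ m) (n : ℕ) (hn : 2 ≤ n)
    (hd : n ∣ 2 * m + 1) :
    ∃ E : Subgroup (Cfsg.Sz F m), Cfsg.IsElementaryAbelian 2 E ∧ Nat.card E = 2 ^ n ∧
      ∀ x : Cfsg.Sz F m, E ⊓ E.map (MulAut.conj x).toMonoidHom ≠ ⊥ →
        x ∈ Subgroup.normalizer (E : Set (Cfsg.Sz F m)) := by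
  have h2 := two_eq_zero hF
  have hcomm : IsMulCommutative (ESub hF n) := by
    refine ⟨⟨?_⟩⟩
    rintro ⟨_, b, hb, rfl⟩ ⟨_, b', hb', rfl⟩
    apply Subtype.ext
    show uZ hF 0 b * uZ hF 0 b' = uZ hF 0 b' * uZ hF 0 b
    rw [uZ_mul, uZ_mul, th_zero, zero_mul, add_zero, add_zero, add_zero, add_comm]
  refine ⟨ESub hF n, ⟨hcomm, ?_⟩, ?_, ?_⟩
  · rintro _ ⟨b, hb, rfl⟩
    rw [sq, uZ_mul, th_zero, zero_mul, add_zero, add_zero, add_self' h2, uZ_zero]
  · rw [← card_fixed_pow hF (by omega : 1 ≤ n) hd]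
    symm
    refine Nat.card_congr (Equiv.ofBijective
      (fun b : {b : F // b ^ 2 ^ n = b} => (⟨uZ hF 0 b.1, ⟨b.1, b.2, rfl⟩⟩ : ESub hF n)) ⟨?_, ?_⟩)
    · intro b b' h
      have := congrArg Subtype.val h
      exact Subtype.ext (uZ_injective hF this).2
    · rintro ⟨_, b, hb, rfl⟩
      exact ⟨⟨b, hb⟩, rfl⟩
  · intro x hx
    obtain ⟨e, ⟨he1, he2⟩, hene⟩ := (Subgroup.ne_bot_iff_exists_ne_one).mp hx |> fun ⟨e, h⟩ =>
      (⟨e.1, e.2, fun h' => h (Subtype.ext h')⟩ : ∃ e : Cfsg.Sz F m,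
        e ∈ ESub hF n ⊓ (ESub hF n).map (MulAut.conj x).toMonoidHom ∧ e ≠ 1)
    obtain ⟨b, hb, rfl⟩ := he1
    obtain ⟨_, ⟨b', hb', rfl⟩, he2⟩ := he2
    have he2' : x * uZ hF 0 b' * x⁻¹ = uZ hF 0 b := he2
    have hb0 : b ≠ 0 := by
      rintro rfl
      exact hene (uZ_zero hF)
    -- `x` fixes `∞`
    have hfix : x • oInf F m = oInf F m := by
      apply uZ_zero_fix hF hb0
      rw [← he2', mul_smul, mul_smul, inv_smul_smul, uZ_smul_oInf]
    obtain ⟨a, c, z, rfl⟩ := fix_oInf hF hm x hfix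
    rw [borel_conj_central] at he2'
    have hl := (uZ_injective hF he2').2
    have hb'0 : b' ≠ 0 := by
      rintro rfl
      rw [mul_zero] at hl
      exact hb0 hl.symm
    have hlam : (th m (z : F) * (z : F) ^ 2) ^ 2 ^ n = th m (z : F) * (z : F) ^ 2 := by
      have : th m (z : F) * (z : F) ^ 2 = b / b' := by
        rw [← hl, mul_div_cancel_right₀ _ hb'0]
      rw [this, div_pow, hb, hb']
    apply mem_normalizer_of_conj_mem
    rintro _ ⟨b'', hb'', rfl⟩
    rw [borel_conj_central]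
    exact ⟨_, by rw [mul_pow, hlam, hb''], rfl⟩

end Cfsg.Agent.Lib.Helper4.Suz
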