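import Mathlib
import Cfsg.Prelude.Def_LieExceptional
import Cfsg.Agent.Lib.Helper4.Suz14

/-!
# Suzuki groups, part 15: elements and their fixed points on the ovoid
-/

set_option autoImplicit false
set_option linter.unusedSimpArgs false
set_option linter.unusedVariables false
set_option linter.style.haveILetI false

namespace Cfsg.Agent.Lib.Helper4.Suz

open MulAction

variable {F : Type*} [Field F] [Fintype F] {m : ℕ}

/-- Involutions are conjugate to central elements of `U`. -/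
theorem involution_conj (hF : Fintype.card F = 2 ^ (2 * m + 1)) (hm : 1 ≤ m)
    (x : Cfsg.Sz F m) (hx : orderOf x = 2) :
    ∃ (c : Cfsg.Sz F m) (b : F), b ≠ 0 ∧ x = c * uZ hF 0 b * c⁻¹ := by
  haveI : Fact (Nat.Prime 2) := ⟨Nat.prime_two⟩
  have hpg : IsPGroup 2 (Subgroup.zpowers x) := by
    apply IsPGroup.of_card (n := 1)
    rw [Nat.card_zpowers, hx, pow_one]
  obtain ⟨Q, hQ⟩ := hpg.exists_le_sylow
  obtain ⟨c, hc⟩ := sylow_eq_map hF hm Q
  have hxQ : x ∈ (Q : Subgroup (Cfsg.Sz F m)) := hQ (Subgroup.mem_zpowers x)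
  rw [hc, Subgroup.mem_map] at hxQ
  obtain ⟨u, hu, hux⟩ := hxQ
  obtain ⟨a, b, rfl⟩ := hu
  have hx' : x = c * uZ hF a b * c⁻¹ := by rw [← hux]; rfl
  have ho : orderOf (uZ hF a b) = 2 := by rw [← hx, hx', orderOf_conj']
  have hsq : uZ hF a b ^ 2 = uZ hF 0 (th m a * a) := congrArg Subtype.val (uU_sq hF a b)
  have h1 : uZ hF 0 (th m a * a) = uZ hF (0 : F) 0 := by
    rw [← hsq, ← ho, pow_orderOf_eq_one, uZ_zero]
  have ha : a = 0 := by
    have := (uZ_injective hF h1).2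
    rcases mul_eq_zero.mp this with h | h
    · exact (th_eq_zero h)
    · exact h
  subst ha
  have hb : b ≠ 0 := by
    rintro rfl
    rw [uZ_zero, orderOf_one] at ho
    omega
  exact ⟨c, b, hb, hx'⟩

/-- Elements of odd prime order dividing `q - 1` are conjugate into the torus. -/
theorem dvd_sub_conj (hF : Fintype.card F = 2 ^ (2 * m + 1)) (hm : 1 ≤ m)
    {p : ℕ} [Fact p.Prime] (hp2 : p ≠ 2) (h : p ∣ 2 ^ (2 * m + 1) - 1)
    (x : Cfsg.Sz F m) (hx : orderOf x = p) :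
    ∃ (c : Cfsg.Sz F m) (z : Fˣ), z ≠ 1 ∧ x = c * hZ hF z * c⁻¹ := by
  have hpg : IsPGroup p (Subgroup.zpowers x) := by
    apply IsPGroup.of_card (n := 1)
    rw [Nat.card_zpowers, hx, pow_one]
  obtain ⟨P, hP⟩ := hpg.exists_le_sylow
  obtain ⟨Q, hQ⟩ := exists_sylow_le_Tor hF hm hp2 h
  obtain ⟨c, hc⟩ := MulAction.exists_smul_eq (Cfsg.Sz F m) Q P
  have hxP : x ∈ (P : Subgroup (Cfsg.Sz F m)) := hP (Subgroup.mem_zpowers x)
  rw [← hc, Sylow.coe_subgroup_smul, Subgroup.mem_pointwise_smul_iff_inv_smul_mem] at hxP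
  have hxT : c⁻¹ * x * c ∈ Tor hF := by
    apply hQ
    have : (MulAut.conj c)⁻¹ • x = c⁻¹ * x * c := by
      rw [← map_inv, MulAut.smul_def, MulAut.conj_apply, inv_inv]
    rwa [this] at hxP
  obtain ⟨z, hz⟩ := (mem_Tor_iff hF _).mp hxT
  have hx' : x = c * hZ hF z * c⁻¹ := by rw [← hz]; group
  have hz1 : z ≠ 1 := by
    rintro rfl
    rw [hZ_one, mul_one, mul_inv_cancel] at hx'
    rw [hx', orderOf_one] at hx
    exact (Fact.out : p.Prime).one_lt.ne hx
  exact ⟨c, z, hz1, hx'⟩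

/-- Elements commuting with a conjugate of a central involution of `U` fix a point. -/
theorem fix_of_commute_uZ (hF : Fintype.card F = 2 ^ (2 * m + 1)) (hm : 1 ≤ m) {b : F}
    (hb : b ≠ 0) (c g : Cfsg.Sz F m)
    (h : g * (c * uZ hF 0 b * c⁻¹) = (c * uZ hF 0 b * c⁻¹) * g) :
    g • (c • oInf F m) = c • oInf F m := by
  have hmem : c⁻¹ * g * c ∈ Subgroup.centralizer ({uZ hF 0 b} : Set (Cfsg.Sz F m)) := by
    rw [Subgroup.mem_centralizer_iff]
    intro y hy
    rw [Set.mem_singleton_iff] at hy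
    subst hy
    have e1 : uZ hF 0 b * (c⁻¹ * g * c) = c⁻¹ * ((c * uZ hF 0 b * c⁻¹) * g) * c := by group
    have e2 : c⁻¹ * g * c * uZ hF 0 b = c⁻¹ * (g * (c * uZ hF 0 b * c⁻¹)) * c := by group
    rw [e1, e2, h]
  obtain ⟨a', b', hab⟩ := centralizer_uZ_le hF hm hb hmem
  have hfix : (c⁻¹ * g * c) • oInf F m = oInf F m := by rw [hab, uZ_smul_oInf]
  have : g • (c • oInf F m) = c • ((c⁻¹ * g * c) • oInf F m) := by
    rw [← mul_smul, ← mul_smul]; congr 1; group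
  rw [this, hfix]

/-- Elements commuting with a conjugate of a non-trivial torus element fix a point. -/
theorem fix_of_commute_hZ (hF : Fintype.card F = 2 ^ (2 * m + 1)) (hm : 1 ≤ m) {z : Fˣ}
    (hz : z ≠ 1) (c g : Cfsg.Sz F m)
    (h : g * (c * hZ hF z * c⁻¹) = (c * hZ hF z * c⁻¹) * g) :
    g • (c • oInf F m) = c • oInf F m := by
  have hmem : c⁻¹ * g * c ∈ Subgroup.centralizer ({hZ hF z} : Set (Cfsg.Sz F m)) := by
    rw [Subgroup.mem_centralizer_iff]
    intro y hy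
    rw [Set.mem_singleton_iff] at hy
    subst hy
    have e1 : hZ hF z * (c⁻¹ * g * c) = c⁻¹ * ((c * hZ hF z * c⁻¹) * g) * c := by group
    have e2 : c⁻¹ * g * c * hZ hF z = c⁻¹ * (g * (c * hZ hF z * c⁻¹)) * c := by group
    rw [e1, e2, h]
  obtain ⟨z', hz'⟩ := (mem_Tor_iff hF _).mp (centralizer_hZ_le hF hm hz hmem)
  have hfix : (c⁻¹ * g * c) • oInf F m = oInf F m := by rw [hz', hZ_smul_oInf]
  have : g • (c • oInf F m) = c • ((c⁻¹ * g * c) • oInf F m) := by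
    rw [← mul_smul, ← mul_smul]; congr 1; group
  rw [this, hfix]

/-- The number `q² + 1`. -/
def NN (m : ℕ) : ℕ := (2 ^ (2 * m + 1)) ^ 2 + 1

theorem card_Sz' (hF : Fintype.card F = 2 ^ (2 * m + 1)) (hm : 1 ≤ m) :
    Nat.card (Cfsg.Sz F m) = (2 ^ (2 * m + 1)) ^ 2 * NN m * (2 ^ (2 * m + 1) - 1) := card_Sz hF hm

theorem q_ge (m : ℕ) (hm : 1 ≤ m) : 8 ≤ 2 ^ (2 * m + 1) := by
  calc 8 = 2 ^ 3 := by norm_num
    _ ≤ 2 ^ (2 * m + 1) := Nat.pow_le_pow_right (by norm_num) (by omega)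

theorem odd_NN (m : ℕ) : ¬ 2 ∣ NN m := by
  unfold NN
  have : 2 ∣ (2 ^ (2 * m + 1)) ^ 2 := by
    rw [← pow_mul]; exact dvd_pow_self 2 (by omega)
  omega

theorem coprime_NN (m : ℕ) : Nat.Coprime (NN m) ((2 ^ (2 * m + 1)) ^ 2 * (2 ^ (2 * m + 1) - 1)) := by
  apply Nat.Coprime.mul_right
  · unfold NN
    rw [Nat.coprime_comm]
    have : (2 ^ (2 * m + 1)) ^ 2 + 1 = 1 + (2 ^ (2 * m + 1)) ^ 2 * 1 := by ring
    rw [this, Nat.coprime_add_mul_left_right]
    exact Nat.coprime_one_right _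
  · apply Nat.Coprime.symm
    apply Nat.coprime_of_dvd
    intro p hp h1 h2
    haveI : Fact p.Prime := ⟨hp⟩
    by_cases hp2 : p = 2
    · subst hp2
      exact odd_NN m h2
    · exact not_dvd_sq_add_one hp2 (q_pos m) h1 h2

/-- If `g` commutes with an element of prime order not dividing `q²+1`, then `g` has a fixed point. -/
theorem exists_fix_of_commute (hF : Fintype.card F = 2 ^ (2 * m + 1)) (hm : 1 ≤ m)
    (y g : Cfsg.Sz F m) {p : ℕ} (hp : p.Prime) (hy : orderOf y = p) (hpN : ¬ p ∣ NN m)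
    (hc : g * y = y * g) : ∃ P : Cfsg.suzukiOvoid F m, g • P = P := by
  haveI : Fact p.Prime := ⟨hp⟩
  have hpG : p ∣ Nat.card (Cfsg.Sz F m) := hy ▸ orderOf_dvd_natCard y
  rw [card_Sz' hF hm] at hpG
  by_cases hp2 : p = 2
  · subst hp2
    obtain ⟨c, b, hb, hyc⟩ := involution_conj hF hm y hy
    rw [hyc] at hc
    exact ⟨_, fix_of_commute_uZ hF hm hb c g hc⟩
  · rcases (hp.dvd_mul).mp hpG with h | h
    · rcases (hp.dvd_mul).mp h with h | h
      · exact absurd (by rwa [← pow_mul] at h) (not_dvd_q hp2 _)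
      · exact absurd h hpN
    · obtain ⟨c, z, hz, hyc⟩ := dvd_sub_conj hF hm hp2 h y hy
      rw [hyc] at hc
      exact ⟨_, fix_of_commute_hZ hF hm hz c g hc⟩

/-- Point stabilisers all have order `q²(q-1)`. -/
theorem card_stabilizer (hF : Fintype.card F = 2 ^ (2 * m + 1)) (hm : 1 ≤ m)
    (P : Cfsg.suzukiOvoid F m) :
    Nat.card (stabilizer (Cfsg.Sz F m) P) = (2 ^ (2 * m + 1)) ^ 2 * (2 ^ (2 * m + 1) - 1) := by
  haveI := isPretransitive hF (m := m)
  obtain ⟨c, hc⟩ := MulAction.exists_smul_eq (Cfsg.Sz F m) (oInf F m) P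
  rw [← hc, MulAction.stabilizer_smul_eq_stabilizer_map_conj, ← card_borel hF hm]
  exact (Nat.card_congr (Subgroup.equivMapOfInjective _ _
    (MulAut.conj c).injective).toEquiv).symm

/-- Elements of order dividing `q²+1` have no fixed points. -/
theorem no_fix_of_orderOf_dvd (hF : Fintype.card F = 2 ^ (2 * m + 1)) (hm : 1 ≤ m)
    (g : Cfsg.Sz F m) (hg : g ≠ 1) (hd : orderOf g ∣ NN m) (P : Cfsg.suzukiOvoid F m) :
    g • P ≠ P := by
  intro h
  have hmem : g ∈ stabilizer (Cfsg.Sz F m) P := h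
  have h1 : orderOf g ∣ Nat.card (stabilizer (Cfsg.Sz F m) P) :=
    Subgroup.orderOf_dvd_natCard _ hmem
  rw [card_stabilizer hF hm] at h1
  have h2 : orderOf g ∣ 1 := by
    have := Nat.dvd_gcd hd h1
    rwa [(coprime_NN m)] at this
  apply hg
  rw [← orderOf_eq_one_iff]
  exact Nat.dvd_one.mp h2

/-- If `g` has no fixed point, every prime dividing its order divides `q²+1`. -/
theorem prime_dvd_of_no_fix (hF : Fintype.card F = 2 ^ (2 * m + 1)) (hm : 1 ≤ m)
    (g : Cfsg.Sz F m) (hfix : ∀ P : Cfsg.suzukiOvoid F m, g • P ≠ P) {p : ℕ} (hp : p.Prime)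
    (hpd : p ∣ orderOf g) : p ∣ NN m := by
  by_contra hpN
  have ho : orderOf (g ^ (orderOf g / p)) = p :=
    orderOf_pow_orderOf_div (orderOf_pos g).ne' hpd
  have hc : g * g ^ (orderOf g / p) = g ^ (orderOf g / p) * g := by
    rw [← pow_succ', ← pow_succ]
  obtain ⟨P, hP⟩ := exists_fix_of_commute hF hm _ g hp ho hpN hc
  exact hfix P hP

end Cfsg.Agent.Lib.Helper4.Suz
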