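import Mathlib
import Cfsg.Prelude.Def_LieExceptional
import Cfsg.Agent.Lib.Helper4.Suz15

/-!
# Suzuki groups, part 16: centralisers of elements of order dividing `q² + 1`
-/

set_option autoImplicit false
set_option linter.unusedSimpArgs false
set_option linter.unusedVariables false
set_option linter.style.haveILetI false

namespace Cfsg.Agent.Lib.Helper4.Suz

open MulAction

variable {F : Type*} [Field F] [Fintype F] {m : ℕ}

/-- Centralisers of elements of prime order dividing `q² + 1`. -/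
def IsA (A : Subgroup (Cfsg.Sz F m)) : Prop :=
  ∃ (x : Cfsg.Sz F m) (p : ℕ), p.Prime ∧ p ∣ NN m ∧ orderOf x = p ∧
    A = Subgroup.centralizer ({x} : Set (Cfsg.Sz F m))

theorem prime_ne_two_of_dvd_NN {p : ℕ} (hp : p ∣ NN m) : p ≠ 2 := by
  rintro rfl
  exact odd_NN m hp

theorem IsA.isCyclic (hF : Fintype.card F = 2 ^ (2 * m + 1)) {A : Subgroup (Cfsg.Sz F m)}
    (hA : IsA A) : IsCyclic A := by
  obtain ⟨x, p, hp, hpN, hx, rfl⟩ := hA
  haveI : Fact p.Prime := ⟨hp⟩
  exact isCyclic_centralizer hF (prime_ne_two_of_dvd_NN hpN) hpN x hx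

theorem mem_centralizer_singleton {G : Type*} [Group G] (x g : G) :
    g ∈ Subgroup.centralizer ({x} : Set G) ↔ x * g = g * x := by
  rw [Subgroup.mem_centralizer_iff]
  constructor
  · intro h; exact h x rfl
  · intro h y hy
    rw [Set.mem_singleton_iff] at hy
    rw [hy]; exact h

theorem IsA.card_dvd (hF : Fintype.card F = 2 ^ (2 * m + 1)) (hm : 1 ≤ m)
    {A : Subgroup (Cfsg.Sz F m)} (hA : IsA A) : Nat.card A ∣ NN m := by
  obtain ⟨x, p, hp, hpN, hx, rfl⟩ := hA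
  have hx1 : x ≠ 1 := by
    rintro rfl
    rw [orderOf_one] at hx
    exact hp.one_lt.ne hx
  have hcop : Nat.Coprime (Nat.card (Subgroup.centralizer ({x} : Set (Cfsg.Sz F m))))
      ((2 ^ (2 * m + 1)) ^ 2 * (2 ^ (2 * m + 1) - 1)) := by
    apply Nat.coprime_of_dvd
    intro p' hp' h1 h2
    haveI : Fact p'.Prime := ⟨hp'⟩
    obtain ⟨y, hy⟩ := exists_prime_orderOf_dvd_card' p' h1
    have hy' : orderOf (y : Cfsg.Sz F m) = p' := by rw [Subgroup.orderOf_coe]; exact hy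
    have hp'N : ¬ p' ∣ NN m := by
      intro h3
      have := Nat.dvd_gcd h3 h2
      rw [coprime_NN m] at this
      exact hp'.one_lt.ne' (Nat.dvd_one.mp this)
    have hc : x * (y : Cfsg.Sz F m) = (y : Cfsg.Sz F m) * x :=
      (mem_centralizer_singleton x _).mp y.2
    obtain ⟨P, hP⟩ := exists_fix_of_commute hF hm (y : Cfsg.Sz F m) x hp' hy' hp'N hc
    exact no_fix_of_orderOf_dvd hF hm x hx1 (hx ▸ hpN) P hP
  have hdvd : Nat.card (Subgroup.centralizer ({x} : Set (Cfsg.Sz F m))) ∣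
      NN m * ((2 ^ (2 * m + 1)) ^ 2 * (2 ^ (2 * m + 1) - 1)) := by
    have := Subgroup.card_subgroup_dvd_card (Subgroup.centralizer ({x} : Set (Cfsg.Sz F m)))
    rw [card_Sz' hF hm] at this
    convert this using 1
    ring
  exact hcop.dvd_of_dvd_mul_right hdvd

theorem IsA.one_lt_card {A : Subgroup (Cfsg.Sz F m)} (hA : IsA A) : 1 < Nat.card A := by
  obtain ⟨x, p, hp, hpN, hx, rfl⟩ := hA
  have hx1 : x ≠ 1 := by
    rintro rfl
    rw [orderOf_one] at hx
    exact hp.one_lt.ne hx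
  have hxm : x ∈ Subgroup.centralizer ({x} : Set (Cfsg.Sz F m)) :=
    (mem_centralizer_singleton x x).mpr rfl
  haveI : Nontrivial (Subgroup.centralizer ({x} : Set (Cfsg.Sz F m))) :=
    ⟨⟨⟨x, hxm⟩, 1, fun h => hx1 (congrArg Subtype.val h)⟩⟩
  exact Finite.one_lt_card

theorem IsA.comm (hF : Fintype.card F = 2 ^ (2 * m + 1)) {A : Subgroup (Cfsg.Sz F m)}
    (hA : IsA A) {a b : Cfsg.Sz F m} (ha : a ∈ A) (hb : b ∈ A) : a * b = b * a := by
  haveI := hA.isCyclic hF
  letI := IsCyclic.commGroup (α := A)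
  have := mul_comm (⟨a, ha⟩ : A) ⟨b, hb⟩
  exact congrArg Subtype.val this

theorem IsA.orderOf_dvd (hF : Fintype.card F = 2 ^ (2 * m + 1)) (hm : 1 ≤ m)
    {A : Subgroup (Cfsg.Sz F m)} (hA : IsA A) {a : Cfsg.Sz F m} (ha : a ∈ A) :
    orderOf a ∣ NN m :=
  (Subgroup.orderOf_dvd_natCard A ha).trans (hA.card_dvd hF hm)

/-- Each non-identity element of `A` has centraliser `A`. -/
theorem IsA.centralizer_eq (hF : Fintype.card F = 2 ^ (2 * m + 1)) (hm : 1 ≤ m)
    {A : Subgroup (Cfsg.Sz F m)} (hA : IsA A) {a : Cfsg.Sz F m} (ha : a ∈ A) (ha1 : a ≠ 1) :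
    Subgroup.centralizer ({a} : Set (Cfsg.Sz F m)) = A := by
  have hAA := hA
  obtain ⟨x, p, hp, hpN, hx, hAx⟩ := hA
  apply le_antisymm
  · -- a prime order power of `a`
    have hn : orderOf a ≠ 1 := by rwa [Ne, orderOf_eq_one_iff]
    obtain ⟨p', hp', hp'd⟩ := Nat.exists_prime_and_dvd hn
    haveI : Fact p'.Prime := ⟨hp'⟩
    have hp'N : p' ∣ NN m := hp'd.trans (hAA.orderOf_dvd hF hm ha)
    set a' := a ^ (orderOf a / p') with ha'
    have ho : orderOf a' = p' := orderOf_pow_orderOf_div (orderOf_pos a).ne' hp'd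
    have hcyc := isCyclic_centralizer hF (prime_ne_two_of_dvd_NN hp'N) hp'N a' ho
    letI := IsCyclic.commGroup (α := Subgroup.centralizer ({a'} : Set (Cfsg.Sz F m)))
    have hxa : x * a = a * x := by
      rw [hAx] at ha
      exact (mem_centralizer_singleton x a).mp ha
    have hxa' : x ∈ Subgroup.centralizer ({a'} : Set (Cfsg.Sz F m)) := by
      rw [mem_centralizer_singleton]
      have : Commute a x := hxa.symm
      exact (this.pow_left _).eq
    intro g hg
    have hga : a * g = g * a := (mem_centralizer_singleton a g).mp hg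
    have hga' : g ∈ Subgroup.centralizer ({a'} : Set (Cfsg.Sz F m)) := by
      rw [mem_centralizer_singleton]
      have : Commute a g := hga
      exact (this.pow_left _).eq
    rw [hAx, mem_centralizer_singleton]
    have := mul_comm (⟨x, hxa'⟩ : Subgroup.centralizer ({a'} : Set (Cfsg.Sz F m))) ⟨g, hga'⟩
    exact congrArg Subtype.val this
  · intro g hg
    rw [mem_centralizer_singleton]
    exact hAA.comm hF ha hg

theorem centralizer_conj {G : Type*} [Group G] (g x : G) :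
    Subgroup.centralizer ({g * x * g⁻¹} : Set G) =
      (Subgroup.centralizer ({x} : Set G)).map (MulAut.conj g).toMonoidHom := by
  ext y
  rw [mem_centralizer_singleton, Subgroup.mem_map]
  constructor
  · intro h
    refine ⟨g⁻¹ * y * g, ?_, ?_⟩
    · rw [mem_centralizer_singleton]
      have e1 : x * (g⁻¹ * y * g) = g⁻¹ * (g * x * g⁻¹ * y) * g := by group
      have e2 : g⁻¹ * y * g * x = g⁻¹ * (y * (g * x * g⁻¹)) * g := by group
      rw [e1, e2, h]
    · show g * (g⁻¹ * y * g) * g⁻¹ = y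
      group
  · rintro ⟨z, hz, rfl⟩
    rw [mem_centralizer_singleton] at hz
    show g * x * g⁻¹ * (g * z * g⁻¹) = g * z * g⁻¹ * (g * x * g⁻¹)
    have e1 : g * x * g⁻¹ * (g * z * g⁻¹) = g * (x * z) * g⁻¹ := by group
    have e2 : g * z * g⁻¹ * (g * x * g⁻¹) = g * (z * x) * g⁻¹ := by group
    rw [e1, e2, hz]

theorem IsA.conj {A : Subgroup (Cfsg.Sz F m)} (hA : IsA A) (g : Cfsg.Sz F m) :
    IsA (A.map (MulAut.conj g).toMonoidHom) := by
  obtain ⟨x, p, hp, hpN, hx, rfl⟩ := hA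
  refine ⟨g * x * g⁻¹, p, hp, hpN, ?_, ?_⟩
  · rw [orderOf_conj', hx]
  · rw [centralizer_conj]

theorem card_map_conj {G : Type*} [Group G] (A : Subgroup G) (g : G) :
    Nat.card (A.map (MulAut.conj g).toMonoidHom) = Nat.card A :=
  (Nat.card_congr (Subgroup.equivMapOfInjective _ _ (MulAut.conj g).injective).toEquiv).symm

/-- Non-identity elements of `A`-type subgroups have no fixed points. -/
theorem IsA.no_fix (hF : Fintype.card F = 2 ^ (2 * m + 1)) (hm : 1 ≤ m)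
    {A : Subgroup (Cfsg.Sz F m)} (hA : IsA A) {a : Cfsg.Sz F m} (ha : a ∈ A) (ha1 : a ≠ 1)
    (P : Cfsg.suzukiOvoid F m) : a • P ≠ P :=
  no_fix_of_orderOf_dvd hF hm a ha1 (hA.orderOf_dvd hF hm ha) P

/-- Fixed-point-free elements have `A`-type centralisers. -/
theorem isA_centralizer_of_no_fix (hF : Fintype.card F = 2 ^ (2 * m + 1)) (hm : 1 ≤ m)
    (g : Cfsg.Sz F m) (hg : g ≠ 1) (hfix : ∀ P : Cfsg.suzukiOvoid F m, g • P ≠ P) :
    IsA (Subgroup.centralizer ({g} : Set (Cfsg.Sz F m))) := by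
  have hn : orderOf g ≠ 1 := by rwa [Ne, orderOf_eq_one_iff]
  obtain ⟨p, hp, hpd⟩ := Nat.exists_prime_and_dvd hn
  have hpN := prime_dvd_of_no_fix hF hm g hfix hp hpd
  set y := g ^ (orderOf g / p) with hy
  have ho : orderOf y = p := orderOf_pow_orderOf_div (orderOf_pos g).ne' hpd
  have hAy : IsA (Subgroup.centralizer ({y} : Set (Cfsg.Sz F m))) := ⟨y, p, hp, hpN, ho, rfl⟩
  have hgy : g ∈ Subgroup.centralizer ({y} : Set (Cfsg.Sz F m)) := by
    rw [mem_centralizer_singleton, hy, ← pow_succ, ← pow_succ']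
  rw [hAy.centralizer_eq hF hm hgy hg]
  exact hAy

/-- Two `A`-type subgroups whose orders share a prime are conjugate. -/
theorem IsA.conj_of_common_prime (hF : Fintype.card F = 2 ^ (2 * m + 1)) (hm : 1 ≤ m)
    {A A' : Subgroup (Cfsg.Sz F m)} (hA : IsA A) (hA' : IsA A') {p : ℕ} (hp : p.Prime)
    (h1 : p ∣ Nat.card A) (h2 : p ∣ Nat.card A') :
    ∃ g : Cfsg.Sz F m, A' = A.map (MulAut.conj g).toMonoidHom := by
  haveI : Fact p.Prime := ⟨hp⟩
  have hp2 : p ≠ 2 := prime_ne_two_of_dvd_NN (h1.trans (hA.card_dvd hF hm))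
  obtain ⟨a, ha⟩ := exists_prime_orderOf_dvd_card' p h1
  obtain ⟨a', ha'⟩ := exists_prime_orderOf_dvd_card' p h2
  have hao : orderOf (a : Cfsg.Sz F m) = p := by rw [Subgroup.orderOf_coe]; exact ha
  have hao' : orderOf (a' : Cfsg.Sz F m) = p := by rw [Subgroup.orderOf_coe]; exact ha'
  have ha1 : (a : Cfsg.Sz F m) ≠ 1 := by
    intro h; rw [h, orderOf_one] at hao; exact hp.one_lt.ne hao
  have ha1' : (a' : Cfsg.Sz F m) ≠ 1 := by
    intro h; rw [h, orderOf_one] at hao'; exact hp.one_lt.ne hao'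
  have hpg : IsPGroup p (Subgroup.zpowers (a : Cfsg.Sz F m)) := by
    apply IsPGroup.of_card (n := 1)
    rw [Nat.card_zpowers, hao, pow_one]
  have hpg' : IsPGroup p (Subgroup.zpowers (a' : Cfsg.Sz F m)) := by
    apply IsPGroup.of_card (n := 1)
    rw [Nat.card_zpowers, hao', pow_one]
  obtain ⟨P, hP⟩ := hpg.exists_le_sylow
  obtain ⟨P', hP'⟩ := hpg'.exists_le_sylow
  obtain ⟨g, hg⟩ := MulAction.exists_smul_eq (Cfsg.Sz F m) P P'
  have haP : (a : Cfsg.Sz F m) ∈ (P : Subgroup (Cfsg.Sz F m)) := hP (Subgroup.mem_zpowers _)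
  have haP' : (a' : Cfsg.Sz F m) ∈ (P' : Subgroup (Cfsg.Sz F m)) := hP' (Subgroup.mem_zpowers _)
  have hgaP' : g * (a : Cfsg.Sz F m) * g⁻¹ ∈ (P' : Subgroup (Cfsg.Sz F m)) := by
    rw [← hg, Sylow.coe_subgroup_smul]
    exact ⟨a, haP, rfl⟩
  haveI := sylow_odd_cyclic hF hm hp2 P'
  letI := IsCyclic.commGroup (α := (P' : Subgroup (Cfsg.Sz F m)))
  have hcomm : (a' : Cfsg.Sz F m) * (g * (a : Cfsg.Sz F m) * g⁻¹) =
      (g * (a : Cfsg.Sz F m) * g⁻¹) * (a' : Cfsg.Sz F m) := by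
    have := mul_comm (⟨a', haP'⟩ : (P' : Subgroup (Cfsg.Sz F m))) ⟨_, hgaP'⟩
    exact congrArg Subtype.val this
  have hmem : g * (a : Cfsg.Sz F m) * g⁻¹ ∈ A' := by
    rw [← hA'.centralizer_eq hF hm a'.2 ha1', mem_centralizer_singleton]
    exact hcomm
  have hne : g * (a : Cfsg.Sz F m) * g⁻¹ ≠ 1 := by
    intro h
    apply ha1
    have : (a : Cfsg.Sz F m) = g⁻¹ * (g * (a : Cfsg.Sz F m) * g⁻¹) * g := by group
    rw [this, h]; group
  refine ⟨g, ?_⟩
  rw [← hA'.centralizer_eq hF hm hmem hne, centralizer_conj, hA.centralizer_eq hF hm a.2 ha1]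

end Cfsg.Agent.Lib.Helper4.Suz
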