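import Mathlib
import Cfsg.Prelude.Def_LieExceptional
import Cfsg.Agent.Lib.Helper4.Suz16

/-!
# Suzuki groups, part 17: the Hall property and counting unions of conjugates
-/

set_option autoImplicit false
set_option linter.unusedSimpArgs false
set_option linter.unusedVariables false
set_option linter.style.haveILetI false

namespace Cfsg.Agent.Lib.Helper4.Suz

open MulAction

theorem card_ne_one' {H : Type*} [Group H] [Finite H] :
    Nat.card {x : H // x ≠ 1} = Nat.card H - 1 := by
  classical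
  have := Fintype.ofFinite H
  rw [Nat.card_eq_fintype_card, Nat.card_eq_fintype_card, Fintype.card_subtype_compl,
    Fintype.card_subtype_eq]

/-- Non-identity elements of the conjugates of `A`. -/
def YSet {G : Type*} [Group G] (A : Subgroup G) : Set G :=
  {y | y ≠ 1 ∧ ∃ g : G, ∃ a ∈ A, y = g * a * g⁻¹}

/-- Counting the union of the conjugates of a TI-subgroup. -/
theorem card_YSet {G : Type*} [Group G] [Finite G] (A : Subgroup G)
    (hTI : ∀ g : G, ∀ a ∈ A, a ≠ 1 → g * a * g⁻¹ ∈ A → g ∈ Subgroup.normalizer (A : Set G)) :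
    Nat.card (YSet A) * Nat.card (Subgroup.normalizer (A : Set G)) =
      Nat.card G * (Nat.card A - 1) := by
  classical
  have hch : ∀ y : YSet A, ∃ g : G, ∃ a ∈ A, (y : G) = g * a * g⁻¹ := fun y => y.2.2
  choose gy ay hay hy using hch
  have hay1 : ∀ y : YSet A, ay y ≠ 1 := by
    intro y h
    apply y.2.1
    rw [hy y, h]; group
  have hnorm : ∀ (n : Subgroup.normalizer (A : Set G)) (a : G), a ∈ A →
      (n : G)⁻¹ * a * (n : G) ∈ A := by
    intro n a ha
    have := (Subgroup.mem_normalizer_iff.mp (Subgroup.inv_mem _ n.2) a).mp ha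
    simpa using this
  let Φ : YSet A × Subgroup.normalizer (A : Set G) → G × {a : A // a ≠ 1} := fun yn =>
    (gy yn.1 * (yn.2 : G), ⟨⟨(yn.2 : G)⁻¹ * ay yn.1 * (yn.2 : G), hnorm yn.2 _ (hay yn.1)⟩, by
      intro h
      have h' := congrArg Subtype.val h
      simp only [Subgroup.coe_one] at h'
      apply hay1 yn.1
      have : ay yn.1 = (yn.2 : G) * ((yn.2 : G)⁻¹ * ay yn.1 * (yn.2 : G)) * (yn.2 : G)⁻¹ := by
        group
      rw [this, h']; group⟩)
  have hΦy : ∀ yn, (Φ yn).1 * (((Φ yn).2 : A) : G) * (Φ yn).1⁻¹ = (yn.1 : G) := by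
    intro yn
    simp only [Φ]
    rw [hy yn.1]; group
  have hinj : Function.Injective Φ := by
    rintro ⟨y, n⟩ ⟨y', n'⟩ h
    have h1 := hΦy (y, n)
    have h2 := hΦy (y', n')
    rw [h] at h1
    have hyy : y = y' := Subtype.ext (h1.symm.trans h2)
    subst hyy
    have h3 := congrArg Prod.fst h
    simp only [Φ] at h3
    have : (n : G) = n' := mul_left_cancel h3
    rw [Subtype.ext this]
  have hsurj : Function.Surjective Φ := by
    rintro ⟨g, ⟨a, ha⟩, ha1⟩
    have ha1' : (a : G) ≠ 1 := fun h => ha1 (Subtype.ext h)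
    have hyY : g * a * g⁻¹ ∈ YSet A := by
      refine ⟨?_, g, a, ha, rfl⟩
      intro h
      apply ha1'
      have : (a : G) = g⁻¹ * (g * a * g⁻¹) * g := by group
      rw [this, h]; group
    set y : YSet A := ⟨g * a * g⁻¹, hyY⟩ with hydef
    have hyg : g * a * g⁻¹ = gy y * ay y * (gy y)⁻¹ := hy y
    have hconj : ((gy y)⁻¹ * g) * a * ((gy y)⁻¹ * g)⁻¹ = ay y := by
      have : ((gy y)⁻¹ * g) * a * ((gy y)⁻¹ * g)⁻¹ = (gy y)⁻¹ * (g * a * g⁻¹) * gy y := by group
      rw [this, hyg]; group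
    have hn : (gy y)⁻¹ * g ∈ Subgroup.normalizer (A : Set G) := by
      apply hTI _ a ha ha1'
      rw [hconj]; exact hay y
    refine ⟨(y, ⟨(gy y)⁻¹ * g, hn⟩), ?_⟩
    simp only [Φ]
    refine Prod.ext ?_ ?_
    · simp only; group
    · apply Subtype.ext
      apply Subtype.ext
      simp only
      rw [← hconj]; group
  have e := Equiv.ofBijective Φ ⟨hinj, hsurj⟩
  have := Nat.card_congr e
  rw [Nat.card_prod, Nat.card_prod, card_ne_one'] at this
  exact this

variable {F : Type*} [Field F] [Fintype F] {m : ℕ}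

theorem factorization_card_of_dvd_NN (hF : Fintype.card F = 2 ^ (2 * m + 1)) (hm : 1 ≤ m)
    {p : ℕ} (hp : p.Prime) (h : p ∣ NN m) :
    (Nat.card (Cfsg.Sz F m)).factorization p = (NN m).factorization p := by
  haveI : Fact p.Prime := ⟨hp⟩
  have hp2 := prime_ne_two_of_dvd_NN h
  rw [card_Sz' hF hm]
  have hq : 8 ≤ 2 ^ (2 * m + 1) := q_ge m hm
  have h1 : (2 ^ (2 * m + 1)) ^ 2 ≠ 0 := by positivity
  have h2 : NN m ≠ 0 := by unfold NN; positivity
  have h3 : 2 ^ (2 * m + 1) - 1 ≠ 0 := by omega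
  rw [Nat.factorization_mul (mul_ne_zero h1 h2) h3, Nat.factorization_mul h1 h2]
  simp only [Finsupp.coe_add, Pi.add_apply]
  have e1 : ((2 ^ (2 * m + 1)) ^ 2).factorization p = 0 := by
    apply Nat.factorization_eq_zero_of_not_dvd
    rw [← pow_mul]
    exact not_dvd_q hp2 _
  have e3 : (2 ^ (2 * m + 1) - 1).factorization p = 0 := by
    apply Nat.factorization_eq_zero_of_not_dvd
    intro h'
    exact not_dvd_sq_add_one hp2 (q_pos m) h' h
  rw [e1, e3]
  ring

/-- `A`-type subgroups are Hall subgroups. -/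
theorem IsA.coprime_card (hF : Fintype.card F = 2 ^ (2 * m + 1)) (hm : 1 ≤ m)
    {A : Subgroup (Cfsg.Sz F m)} (hA : IsA A) :
    Nat.Coprime (Nat.card A) (NN m / Nat.card A) := by
  apply Nat.coprime_of_dvd
  intro p hp h1 h2
  haveI : Fact p.Prime := ⟨hp⟩
  have hdvd := hA.card_dvd hF hm
  have hpN : p ∣ NN m := h1.trans hdvd
  have hp2 := prime_ne_two_of_dvd_NN hpN
  obtain ⟨a, ha⟩ := exists_prime_orderOf_dvd_card' p h1
  have hao : orderOf (a : Cfsg.Sz F m) = p := by rw [Subgroup.orderOf_coe]; exact ha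
  have ha1 : (a : Cfsg.Sz F m) ≠ 1 := by
    intro h; rw [h, orderOf_one] at hao; exact hp.one_lt.ne hao
  have hpg : IsPGroup p (Subgroup.zpowers (a : Cfsg.Sz F m)) := by
    apply IsPGroup.of_card (n := 1)
    rw [Nat.card_zpowers, hao, pow_one]
  obtain ⟨P, hP⟩ := hpg.exists_le_sylow
  have haP : (a : Cfsg.Sz F m) ∈ (P : Subgroup (Cfsg.Sz F m)) := hP (Subgroup.mem_zpowers _)
  haveI := sylow_odd_cyclic hF hm hp2 P
  letI := IsCyclic.commGroup (α := (P : Subgroup (Cfsg.Sz F m)))
  have hPA : (P : Subgroup (Cfsg.Sz F m)) ≤ A := by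
    intro g hg
    rw [← hA.centralizer_eq hF hm a.2 ha1, mem_centralizer_singleton]
    have := mul_comm (⟨a, haP⟩ : (P : Subgroup (Cfsg.Sz F m))) ⟨g, hg⟩
    exact congrArg Subtype.val this
  have hcP : Nat.card (P : Subgroup (Cfsg.Sz F m)) ∣ Nat.card A :=
    Subgroup.card_dvd_of_le hPA
  rw [Sylow.card_eq_multiplicity, factorization_card_of_dvd_NN hF hm hp hpN] at hcP
  have hA0 : Nat.card A ≠ 0 := Nat.card_pos.ne'
  have hle : (NN m).factorization p ≤ (Nat.card A).factorization p :=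
    (hp.pow_dvd_iff_le_factorization hA0).mp hcP
  have hN : NN m = Nat.card A * (NN m / Nat.card A) := (Nat.mul_div_cancel' hdvd).symm
  have hb0 : NN m / Nat.card A ≠ 0 := by
    intro h0
    rw [h0, mul_zero] at hN
    unfold NN at hN
    omega
  have hfac : (NN m).factorization p =
      (Nat.card A).factorization p + (NN m / Nat.card A).factorization p := by
    conv_lhs => rw [hN]
    rw [Nat.factorization_mul hA0 hb0]
    rfl
  have hpos : 0 < (NN m / Nat.card A).factorization p := hp.factorization_pos_of_dvd hb0 h2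
  omega

end Cfsg.Agent.Lib.Helper4.Suz
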