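import Mathlib
import Cfsg.Prelude.Def_LieExceptional
import Cfsg.Agent.Lib.Helper4.Suz17

/-!
# Suzuki groups, part 18: counting fixed-point-free elements
-/

set_option autoImplicit false
set_option linter.unusedSimpArgs false
set_option linter.unusedVariables false
set_option linter.style.haveILetI false

namespace Cfsg.Agent.Lib.Helper4.Suz

open MulAction

section general

variable {G Ω : Type*} [Group G] [MulAction G Ω]

/-- Number of orbits of a transitive action. -/
theorem card_orbits_of_pretransitive [Fintype (Quotient (orbitRel G Ω))] [Nonempty Ω]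
    [IsPretransitive G Ω] : Fintype.card (Quotient (orbitRel G Ω)) = 1 := by
  rw [Fintype.card_eq_one_iff]
  obtain ⟨a⟩ := (inferInstance : Nonempty Ω)
  refine ⟨Quotient.mk'' a, ?_⟩
  intro y
  induction y using Quotient.inductionOn' with
  | h b =>
    apply Quotient.sound'
    obtain ⟨g, hg⟩ := exists_smul_eq G a b
    exact ⟨g, hg⟩

/-- Number of orbits on pairs of a doubly transitive action. -/
theorem card_orbits_pairs [Fintype (Quotient (orbitRel G (Ω × Ω)))] [Nontrivial Ω]
    (h2 : IsMultiplyPretransitive G Ω 2) :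
    Fintype.card (Quotient (orbitRel G (Ω × Ω))) = 2 := by
  classical
  haveI : IsPretransitive G Ω := isPretransitive_of_is_two_pretransitive
  rw [is_two_pretransitive_iff] at h2
  let f : Quotient (orbitRel G (Ω × Ω)) → Bool :=
    Quotient.lift (fun ab : Ω × Ω => decide (ab.1 = ab.2)) (by
      rintro ⟨a, b⟩ ⟨c, d⟩ ⟨g, hg⟩
      have h1 : g • c = a := congrArg Prod.fst hg
      have h2 : g • d = b := congrArg Prod.snd hg
      simp only [decide_eq_decide]
      rw [← h1, ← h2]
      exact (MulAction.injective g).eq_iff)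
  have hinj : Function.Injective f := by
    intro x y
    induction x using Quotient.inductionOn' with
    | h ab =>
      induction y using Quotient.inductionOn' with
      | h cd =>
        obtain ⟨a, b⟩ := ab
        obtain ⟨c, d⟩ := cd
        intro h
        have h' : decide (a = b) = decide (c = d) := h
        rw [decide_eq_decide] at h'
        apply Quotient.sound'
        by_cases hab : a = b
        · have hcd := h'.mp hab
          subst hab; subst hcd
          obtain ⟨g, hg⟩ := exists_smul_eq G c a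
          exact ⟨g, by show g • (c, c) = (a, a); rw [Prod.smul_mk, hg]⟩
        · have hcd : c ≠ d := fun h => hab (h'.mpr h)
          obtain ⟨g, hg1, hg2⟩ := h2 hcd hab
          exact ⟨g, by show g • (c, d) = (a, b); rw [Prod.smul_mk, hg1, hg2]⟩
  have hsurj : Function.Surjective f := by
    obtain ⟨a, b, hab⟩ := exists_pair_ne Ω
    intro t
    cases t
    · exact ⟨Quotient.mk'' (a, b), by simp [f, Quotient.mk'', hab]⟩
    · exact ⟨Quotient.mk'' (a, a), by simp [f, Quotient.mk'']⟩
  rw [Fintype.card_congr (Equiv.ofBijective f ⟨hinj, hsurj⟩), Fintype.card_bool]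

/-- Counting fixed-point-free elements in a Zassenhaus-type action. -/
theorem card_fixed_point_free [Fintype G] [Fintype Ω] [DecidableEq Ω] [DecidableEq G]
    [Nontrivial Ω]
    (h2 : IsMultiplyPretransitive G Ω 2)
    (h3 : ∀ g : G, g ≠ 1 → ∀ a b c : Ω, a ≠ b → b ≠ c → a ≠ c → g • a = a → g • b = b →
      g • c ≠ c) :
    (Fintype.card G : ℤ) = ((Fintype.card Ω : ℤ) - 1) * ((Fintype.card Ω : ℤ) - 2) +
      2 * ((Finset.univ.filter (fun g : G => g ≠ 1 ∧ ∀ P : Ω, g • P ≠ P)).card : ℤ) := by
  classical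
  haveI : IsPretransitive G Ω := isPretransitive_of_is_two_pretransitive
  have hB1 := sum_card_fixedBy_eq_card_orbits_mul_card_group G Ω
  rw [card_orbits_of_pretransitive, one_mul] at hB1
  have hB2 := sum_card_fixedBy_eq_card_orbits_mul_card_group G (Ω × Ω)
  rw [card_orbits_pairs h2] at hB2
  -- fixed points of pairs
  have hpair : ∀ g : G, Fintype.card (fixedBy (Ω × Ω) g) =
      Fintype.card (fixedBy Ω g) * Fintype.card (fixedBy Ω g) := by
    intro g
    rw [← Fintype.card_prod]
    refine Fintype.card_congr ⟨fun x => (⟨x.1.1, congrArg Prod.fst x.2⟩, ⟨x.1.2, congrArg Prod.snd x.2⟩),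
      fun y => ⟨(y.1.1, y.2.1), by
        show g • (y.1.1, y.2.1) = (y.1.1, y.2.1)
        rw [Prod.smul_mk, y.1.2, y.2.2]⟩, fun x => rfl, fun y => rfl⟩
  have hB2' : ∑ g : G, Fintype.card (fixedBy Ω g) * Fintype.card (fixedBy Ω g) =
      2 * Fintype.card G := by
    rw [← hB2]
    exact Finset.sum_congr rfl (fun g _ => (hpair g).symm)
  set c : G → ℤ := fun g => (Fintype.card (fixedBy Ω g) : ℤ) with hc
  have hS1 : ∑ g : G, c g = (Fintype.card G : ℤ) := by
    rw [← hB1]; push_cast; rfl
  have hS2 : ∑ g : G, c g * c g = 2 * (Fintype.card G : ℤ) := by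
    have := congrArg (fun n : ℕ => (n : ℤ)) hB2'
    push_cast at this
    exact this
  have hS : ∑ g : G, (c g - 1) * (c g - 2) = (Fintype.card G : ℤ) := by
    have : ∀ g : G, (c g - 1) * (c g - 2) = c g * c g - 3 * c g + 2 := fun g => by ring
    rw [Finset.sum_congr rfl (fun g _ => this g), Finset.sum_add_distrib, Finset.sum_sub_distrib,
      ← Finset.mul_sum, hS1, hS2]
    simp only [Finset.sum_const, Finset.card_univ, nsmul_eq_mul]
    ring
  -- the value of each term
  have hc1 : c 1 = (Fintype.card Ω : ℤ) := by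
    simp only [hc]
    congr 1
    refine Fintype.card_congr ⟨fun x => x.1, fun y => ⟨y, one_smul G y⟩, fun x => rfl, fun y => rfl⟩
  have hle : ∀ g : G, g ≠ 1 → Fintype.card (fixedBy Ω g) ≤ 2 := by
    intro g hg
    by_contra hlt
    rw [not_le] at hlt
    obtain ⟨a, b, c', hab, hac, hbc⟩ := Fintype.two_lt_card_iff.mp hlt
    exact h3 g hg a.1 b.1 c'.1 (fun h => hab (Subtype.ext h)) (fun h => hbc (Subtype.ext h))
      (fun h => hac (Subtype.ext h)) a.2 b.2 c'.2
  have hterm : ∀ g : G, g ≠ 1 → (c g - 1) * (c g - 2) =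
      if (∀ P : Ω, g • P ≠ P) then 2 else 0 := by
    intro g hg
    have h1 := hle g hg
    by_cases hfix : ∀ P : Ω, g • P ≠ P
    · rw [if_pos hfix]
      have : Fintype.card (fixedBy Ω g) = 0 := by
        rw [Fintype.card_eq_zero_iff]
        exact ⟨fun x => hfix x.1 x.2⟩
      simp only [hc, this]
      norm_num
    · rw [if_neg hfix]
      have hfix' : ∃ P : Ω, g • P = P := by
        by_contra hne
        apply hfix
        intro P hP
        exact hne ⟨P, hP⟩
      obtain ⟨P, hP⟩ := hfix'
      have : 0 < Fintype.card (fixedBy Ω g) := Fintype.card_pos_iff.mpr ⟨⟨P, hP⟩⟩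
      have h4 : Fintype.card (fixedBy Ω g) = 1 ∨ Fintype.card (fixedBy Ω g) = 2 := by omega
      rcases h4 with h4 | h4 <;> simp only [hc, h4] <;> norm_num
  rw [← hS, ← Finset.add_sum_erase Finset.univ _ (Finset.mem_univ (1 : G)), hc1]
  congr 1
  rw [Finset.sum_congr rfl (fun g hg => hterm g (Finset.ne_of_mem_erase hg)),
    Finset.sum_ite, Finset.sum_const_zero, add_zero, Finset.sum_const, nsmul_eq_mul, mul_comm]
  congr 3
  ext g
  simp only [Finset.mem_filter, Finset.mem_erase, Finset.mem_univ, and_true, true_and]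

end general

variable {F : Type*} [Field F] [Fintype F] {m : ℕ}

/-- The fixed-point-free non-identity elements. -/
def XSet (F : Type*) [Field F] (m : ℕ) : Set (Cfsg.Sz F m) :=
  {g | g ≠ 1 ∧ ∀ P : Cfsg.suzukiOvoid F m, g • P ≠ P}

theorem card_XSet (hF : Fintype.card F = 2 ^ (2 * m + 1)) (hm : 1 ≤ m) :
    2 * Nat.card (XSet F m) = (2 ^ (2 * m + 1)) ^ 3 * (2 ^ (2 * m + 1) - 1) ^ 2 := by
  classical
  letI : Fintype (Cfsg.Sz F m) := Fintype.ofFinite _
  letI : Fintype (Cfsg.suzukiOvoid F m) := Fintype.ofFinite _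
  haveI : Nontrivial (Cfsg.suzukiOvoid F m) := ovoid_nontrivial
  have h3 : ∀ g : Cfsg.Sz F m, g ≠ 1 → ∀ a b c : Cfsg.suzukiOvoid F m, a ≠ b → b ≠ c → a ≠ c →
      g • a = a → g • b = b → g • c ≠ c := by
    intro g hg a b c hab hbc hac ha hb hc
    exact hg (eq_one_of_fix_three hF hm hab hbc hac ha hb hc)
  have key := card_fixed_point_free (is_two_pretransitive (m := m) hF) h3
  have hG : Fintype.card (Cfsg.Sz F m) =
      (2 ^ (2 * m + 1)) ^ 2 * NN m * (2 ^ (2 * m + 1) - 1) := by
    rw [← Nat.card_eq_fintype_card, card_Sz' hF hm]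
  have hΩ : Fintype.card (Cfsg.suzukiOvoid F m) = NN m := by
    rw [← Nat.card_eq_fintype_card, card_ovoid hF]; rfl
  have hX : Nat.card (XSet F m) = (Finset.univ.filter (fun g : Cfsg.Sz F m => g ≠ 1 ∧
      ∀ P : Cfsg.suzukiOvoid F m, g • P ≠ P)).card := by
    rw [Nat.card_eq_fintype_card, ← Fintype.card_coe]
    apply Fintype.card_congr
    refine ⟨fun x => ⟨x.1, Finset.mem_filter.mpr ⟨Finset.mem_univ _, x.2⟩⟩,
      fun x => ⟨x.1, (Finset.mem_filter.mp x.2).2⟩, fun x => rfl, fun x => rfl⟩
  rw [hX]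
  rw [hG, hΩ] at key
  have hq := q_ge m hm
  unfold NN at key
  obtain ⟨k, hk⟩ : ∃ k, 2 ^ (2 * m + 1) = k + 8 := ⟨2 ^ (2 * m + 1) - 8, by omega⟩
  rw [hk] at key ⊢
  have e1 : k + 8 - 1 = k + 7 := by omega
  rw [e1] at key ⊢
  push_cast at key
  zify
  linarith [key]

end Cfsg.Agent.Lib.Helper4.Suz
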