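import Mathlib
import Cfsg.Prelude.Def_LieExceptional
import Cfsg.Agent.Lib.Helper4.Suz18

/-!
# Suzuki groups, part 19: the normaliser of an `A`-type subgroup
-/

set_option autoImplicit false
set_option linter.unusedSimpArgs false
set_option linter.unusedVariables false
set_option linter.style.haveILetI false

namespace Cfsg.Agent.Lib.Helper4.Suz

open MulAction Polynomial

section general

variable {K V : Type*} [Field K] [Finite K] [AddCommGroup V] [Module K V] [Module.Finite K V]

/-- Conjugation commutes with polynomial evaluation. -/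
theorem aeval_conj {R A : Type*} [CommSemiring R] [Ring A] [Algebra R A] (U U' T : A)
    (h : U * U' = 1) (h' : U' * U = 1) (P : R[X]) :
    aeval (U * T * U') P = U * aeval T P * U' := by
  let φ : A →ₐ[R] A :=
    { toFun := fun Y => U * Y * U'
      map_one' := by rw [mul_one, h]
      map_mul' := fun X Y => by
        have : U * X * U' * (U * Y * U') = U * X * (U' * U) * Y * U' := by noncomm_ring
        rw [this, h', mul_one]
        noncomm_ring
      map_zero' := by rw [mul_zero, zero_mul]
      map_add' := fun X Y => by rw [mul_add, add_mul]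
      commutes' := fun r => by
        show U * algebraMap R A r * U' = algebraMap R A r
        rw [← Algebra.commutes, mul_assoc, h, mul_one] }
  exact aeval_algHom_apply φ T P

/-- In the commutant of an irreducible operator a polynomial has at most `degree` roots. -/
theorem card_roots_commutant_le [Nontrivial V]
    (T : Module.End K V) (hirr : ∀ W : Submodule K V, (∀ v ∈ W, T v ∈ W) → W = ⊥ ∨ W = ⊤)
    (P : K[X]) (hP : P ≠ 0) (S : Finset (Module.End K V))
    (hS : ∀ Y ∈ S, T * Y = Y * T ∧ aeval Y P = 0) : S.card ≤ P.natDegree := by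
  classical
  let A := Subalgebra.centralizer K ({T} : Set (Module.End K V))
  have hV : Finite V := Module.finite_of_finite K
  have hE : Finite (Module.End K V) :=
    Finite.of_injective (fun f : Module.End K V => (f : V → V)) DFunLike.coe_injective
  have hA : Finite A := inferInstance
  have hnzd : NoZeroDivisors A := by
    constructor
    intro X Y hXY
    have hXT : T * X.1 = X.1 * T := ((Subalgebra.mem_centralizer_iff K).mp X.2) T rfl
    rcases hirr (LinearMap.ker X.1) (by
        intro v hv
        rw [LinearMap.mem_ker] at hv ⊢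
        have h1 : X.1 (T v) = T (X.1 v) := by
          have := congrArg (fun f : Module.End K V => f v) hXT
          simpa using this.symm
        rw [h1, hv, map_zero]) with h | h
    · right
      apply Subtype.ext
      ext v
      have h1 : X.1 (Y.1 v) = 0 := by
        have := congrArg (fun f : A => f.1 v) hXY
        simpa using this
      have h2 : Y.1 v ∈ LinearMap.ker X.1 := h1
      rw [h] at h2
      simpa using h2
    · left
      apply Subtype.ext
      exact LinearMap.ker_eq_top.mp h
  have hdom : IsDomain A := NoZeroDivisors.to_isDomain A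
  have hcommA : ∀ X Y : A, X * Y = Y * X := (Finite.isDomain_to_isField A).mul_comm
  letI : CommRing A := { (inferInstance : Ring A) with mul_comm := hcommA }
  have hmem : ∀ Y ∈ S, Y ∈ A := by
    intro Y hY
    rw [Subalgebra.mem_centralizer_iff]
    intro g hg
    rw [Set.mem_singleton_iff] at hg
    rw [hg]; exact (hS Y hY).1
  have hPm : P.map (algebraMap K A) ≠ 0 := Polynomial.map_ne_zero hP
  -- inject `S` into the roots
  let f : S → A := fun Y => ⟨Y.1, hmem Y.1 Y.2⟩
  have hroot : ∀ Y : S, f Y ∈ (P.map (algebraMap K A)).roots.toFinset := by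
    intro Y
    rw [Multiset.mem_toFinset, mem_roots hPm, IsRoot, eval_map_algebraMap]
    apply Subtype.ext
    rw [aeval_subalgebra_coe]
    exact (hS Y.1 Y.2).2
  have hcard : S.card ≤ (P.map (algebraMap K A)).roots.toFinset.card := by
    rw [← Fintype.card_coe S, ← Fintype.card_coe (P.map (algebraMap K A)).roots.toFinset]
    apply Fintype.card_le_of_injective (fun Y : S => (⟨f Y, hroot Y⟩ :
      (P.map (algebraMap K A)).roots.toFinset))
    intro Y Y' h
    have := congrArg (fun z : (P.map (algebraMap K A)).roots.toFinset => ((z : A) : Module.End K V)) h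
    exact Subtype.ext this
  calc S.card ≤ (P.map (algebraMap K A)).roots.toFinset.card := hcard
    _ ≤ Multiset.card (P.map (algebraMap K A)).roots := Multiset.toFinset_card_le _
    _ ≤ (P.map (algebraMap K A)).natDegree := card_roots' _
    _ ≤ P.natDegree := natDegree_map_le

end general

variable {F : Type*} [Field F] [Fintype F] {m : ℕ}

theorem q_mod_three (m : ℕ) : 2 ^ (2 * m + 1) % 3 = 2 := by
  have : 2 ^ (2 * m + 1) = 2 * 4 ^ m := by
    rw [pow_succ, pow_mul]; norm_num; ring
  rw [this, Nat.mul_mod, Nat.pow_mod]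
  norm_num

theorem three_not_dvd_card (hF : Fintype.card F = 2 ^ (2 * m + 1)) (hm : 1 ≤ m) :
    ¬ 3 ∣ Nat.card (Cfsg.Sz F m) := by
  rw [card_Sz' hF hm]
  unfold NN
  have h := q_mod_three m
  have hq := q_ge m hm
  intro hd
  have h3 : Nat.Prime 3 := by norm_num
  rcases (h3.dvd_mul).mp hd with h1 | h1
  · rcases (h3.dvd_mul).mp h1 with h2 | h2
    · have := h3.dvd_of_dvd_pow h2
      omega
    · have e : ((2 ^ (2 * m + 1)) ^ 2 + 1) % 3 = 2 := by
        rw [Nat.add_mod, Nat.pow_mod, h]
      omega
  · omega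

theorem three_not_dvd_NN (m : ℕ) : ¬ 3 ∣ NN m := by
  unfold NN
  have h := q_mod_three m
  have e : ((2 ^ (2 * m + 1)) ^ 2 + 1) % 3 = 2 := by
    rw [Nat.add_mod, Nat.pow_mod, h]
  omega

/-- The normaliser of an `A`-type subgroup has index at most `4` over it. -/
theorem IsA.exists_index (hF : Fintype.card F = 2 ^ (2 * m + 1)) (hm : 1 ≤ m)
    {A : Subgroup (Cfsg.Sz F m)} (hA : IsA A) :
    ∃ n : ℕ, (n = 1 ∨ n = 2 ∨ n = 4) ∧
      Nat.card (Subgroup.normalizer (A : Set (Cfsg.Sz F m))) = n * Nat.card A := by
  classical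
  have hAA := hA
  obtain ⟨x, p, hp, hpN, hx, hAx⟩ := hA
  haveI : Fact p.Prime := ⟨hp⟩
  have hp2 := prime_ne_two_of_dvd_NN hpN
  have hcard : Nat.card F = 2 ^ (2 * m + 1) := by rw [Nat.card_eq_fintype_card, hF]
  set T := linHom F m x with hTdef
  have hT : T ^ p = 1 := by
    rw [hTdef, ← map_pow, ← hx, pow_orderOf_eq_one, map_one]
  have hT1 : T ≠ 1 := by
    intro h
    have : x = 1 := linHom_injective (h.trans (map_one _).symm)
    rw [this, orderOf_one] at hx
    exact hp.one_lt.ne hx
  have hV : Module.finrank F (Fin 4 → F) = 4 := by simp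
  have hirr := irreducible_of_order (K := F) hp2 (by rw [hcard]; exact hpN) hV T hT hT1
  have hPdeg : T.charpoly.natDegree = 4 := by rw [LinearMap.charpoly_natDegree, hV]
  have hP0 : T.charpoly ≠ 0 := (LinearMap.charpoly_monic T).ne_zero
  have hPT : aeval T T.charpoly = 0 := LinearMap.aeval_self_charpoly T
  set Nm := Subgroup.normalizer (A : Set (Cfsg.Sz F m)) with hNm
  have hle : A ≤ Nm := Subgroup.le_normalizer
  have hxA : x ∈ A := by
    rw [hAx, mem_centralizer_singleton]
  -- the map on the quotient
  let ψ : Nm → Module.End F (Fin 4 → F) := fun g => linHom F m ((g : Cfsg.Sz F m) * x * (g : Cfsg.Sz F m)⁻¹)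
  have hψ : ∀ g g' : Nm, ψ g = ψ g' ↔ (g⁻¹ * g' : Nm) ∈ A.subgroupOf Nm := by
    intro g g'
    rw [Subgroup.mem_subgroupOf]
    simp only [ψ]
    rw [linHom_injective.eq_iff]
    show _ ↔ ((g : Cfsg.Sz F m)⁻¹ * (g' : Cfsg.Sz F m)) ∈ A
    rw [hAx, mem_centralizer_singleton]
    constructor
    · intro h
      have e1 : x * ((g : Cfsg.Sz F m)⁻¹ * (g' : Cfsg.Sz F m)) =
          (g : Cfsg.Sz F m)⁻¹ * ((g : Cfsg.Sz F m) * x * (g : Cfsg.Sz F m)⁻¹) * (g' : Cfsg.Sz F m) := by group
      have e2 : (g : Cfsg.Sz F m)⁻¹ * (g' : Cfsg.Sz F m) * x =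
          (g : Cfsg.Sz F m)⁻¹ * ((g' : Cfsg.Sz F m) * x * (g' : Cfsg.Sz F m)⁻¹) * (g' : Cfsg.Sz F m) := by group
      rw [e1, e2, h]
    · intro h
      have e1 : (g' : Cfsg.Sz F m) * x * (g' : Cfsg.Sz F m)⁻¹ =
          (g : Cfsg.Sz F m) * ((g : Cfsg.Sz F m)⁻¹ * (g' : Cfsg.Sz F m) * x) * (g' : Cfsg.Sz F m)⁻¹ := by group
      rw [e1, ← h]; group
  let φ : Nm ⧸ A.subgroupOf Nm → Module.End F (Fin 4 → F) :=
    Quotient.lift ψ (by
      intro g g' hgg'
      rw [hψ]
      exact QuotientGroup.leftRel_apply.mp hgg')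
  have hφinj : Function.Injective φ := by
    intro a b
    induction a using Quotient.inductionOn' with
    | h g =>
      induction b using Quotient.inductionOn' with
      | h g' =>
        intro h
        have h' : ψ g = ψ g' := h
        rw [hψ] at h'
        exact Quotient.sound' (QuotientGroup.leftRel_apply.mpr h')
  haveI : Finite (Nm ⧸ A.subgroupOf Nm) := inferInstance
  letI : Fintype (Nm ⧸ A.subgroupOf Nm) := Fintype.ofFinite _
  have hcardle : Nat.card (Nm ⧸ A.subgroupOf Nm) ≤ 4 := by
    rw [Nat.card_eq_fintype_card, ← Finset.card_univ, ← Finset.card_image_of_injective _ hφinj]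
    refine le_trans ?_ (le_of_eq hPdeg)
    apply card_roots_commutant_le T hirr _ hP0
    intro Y hY
    rw [Finset.mem_image] at hY
    obtain ⟨a, -, rfl⟩ := hY
    induction a using Quotient.inductionOn' with
    | h g =>
      show T * ψ g = ψ g * T ∧ aeval (ψ g) T.charpoly = 0
      have hgx : (g : Cfsg.Sz F m) * x * (g : Cfsg.Sz F m)⁻¹ ∈ A :=
        (Subgroup.mem_normalizer_iff.mp g.2 x).mp hxA
      constructor
      · simp only [ψ]
        rw [hTdef, ← map_mul, ← map_mul]
        congr 1
        rw [hAx, mem_centralizer_singleton] at hgx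
        exact hgx
      · have e : ψ g = linHom F m (g : Cfsg.Sz F m) * T * linHom F m ((g : Cfsg.Sz F m)⁻¹) := by
          simp only [ψ]
          rw [hTdef, map_mul, map_mul]
        rw [e, aeval_conj _ _ _ (by rw [← map_mul, mul_inv_cancel, map_one])
          (by rw [← map_mul, inv_mul_cancel, map_one]), hPT, mul_zero, zero_mul]
  have hidx := (A.subgroupOf Nm).card_mul_index
  rw [Nat.card_congr (Subgroup.subgroupOfEquivOfLe hle).toEquiv, Subgroup.index_eq_card] at hidx
  set n := Nat.card (Nm ⧸ A.subgroupOf Nm) with hn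
  have hnpos : 0 < n := Nat.card_pos
  have hdvd : n ∣ Nat.card (Cfsg.Sz F m) := by
    have h1 : n ∣ Nat.card Nm := Dvd.intro_left _ hidx
    exact h1.trans (Subgroup.card_subgroup_dvd_card Nm)
  have hn3 : n ≠ 3 := by
    intro h3
    rw [h3] at hdvd
    exact three_not_dvd_card hF hm hdvd
  refine ⟨n, by omega, ?_⟩
  rw [← hidx, mul_comm]

end Cfsg.Agent.Lib.Helper4.Suz
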