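import Mathlib
import Cfsg.Prelude.Def_LieExceptional
import Cfsg.Agent.Lib.Helper4.Suz19

/-!
# Suzuki groups, part 20: the two classes of cyclic Hall subgroups of orders `q ± 2r + 1`
-/

set_option autoImplicit false
set_option linter.unusedSimpArgs false
set_option linter.unusedVariables false
set_option linter.style.haveILetI false

namespace Cfsg.Agent.Lib.Helper4.Suz

open MulAction

variable {F : Type*} [Field F] [Fintype F] {m : ℕ}

/-- `A`-type subgroups are TI. -/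
theorem IsA.ti (hF : Fintype.card F = 2 ^ (2 * m + 1)) (hm : 1 ≤ m)
    {A : Subgroup (Cfsg.Sz F m)} (hA : IsA A) (g : Cfsg.Sz F m) (a : Cfsg.Sz F m) (ha : a ∈ A)
    (ha1 : a ≠ 1) (hga : g * a * g⁻¹ ∈ A) : g ∈ Subgroup.normalizer (A : Set (Cfsg.Sz F m)) := by
  have hne : g * a * g⁻¹ ≠ 1 := by
    intro h
    apply ha1
    have : a = g⁻¹ * (g * a * g⁻¹) * g := by group
    rw [this, h]; group
  have h1 := hA.centralizer_eq hF hm hga hne
  rw [centralizer_conj, hA.centralizer_eq hF hm ha ha1] at h1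
  rw [Subgroup.mem_normalizer_iff]
  intro h
  constructor
  · intro hh
    rw [← h1]
    exact ⟨h, hh, rfl⟩
  · intro hh
    rw [← h1] at hh
    obtain ⟨h', hh', he⟩ := hh
    have : h' = h := by
      have he' : g * h' * g⁻¹ = g * h * g⁻¹ := he
      exact mul_left_cancel (mul_right_cancel he')
    rw [← this]; exact hh'

/-- The counting formula for the conjugates of an `A`-type subgroup. -/
theorem IsA.card_YSet (hF : Fintype.card F = 2 ^ (2 * m + 1)) (hm : 1 ≤ m)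
    {A : Subgroup (Cfsg.Sz F m)} (hA : IsA A) :
    Nat.card (YSet A) * Nat.card (Subgroup.normalizer (A : Set (Cfsg.Sz F m))) =
      Nat.card (Cfsg.Sz F m) * (Nat.card A - 1) :=
  Suz.card_YSet A (fun g a ha ha1 hga => hA.ti hF hm g a ha ha1 hga)

theorem IsA.YSet_subset (hF : Fintype.card F = 2 ^ (2 * m + 1)) (hm : 1 ≤ m)
    {A : Subgroup (Cfsg.Sz F m)} (hA : IsA A) : YSet A ⊆ XSet F m := by
  rintro y ⟨hy1, g, a, ha, rfl⟩
  refine ⟨hy1, ?_⟩
  exact (hA.conj g).no_fix hF hm ⟨a, ha, rfl⟩ hy1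

theorem orderOf_dvd_of_mem_YSet {A : Subgroup (Cfsg.Sz F m)} {y : Cfsg.Sz F m} (hy : y ∈ YSet A) :
    orderOf y ∣ Nat.card A := by
  obtain ⟨-, g, a, ha, rfl⟩ := hy
  rw [orderOf_conj']
  exact Subgroup.orderOf_dvd_natCard A ha

theorem YSet_disjoint {A A' : Subgroup (Cfsg.Sz F m)}
    (hcop : Nat.Coprime (Nat.card A) (Nat.card A')) : Disjoint (YSet A) (YSet A') := by
  rw [Set.disjoint_left]
  intro y hy hy'
  have h1 := orderOf_dvd_of_mem_YSet hy
  have h2 := orderOf_dvd_of_mem_YSet hy'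
  have := Nat.dvd_gcd h1 h2
  rw [hcop] at this
  exact hy.1 (orderOf_eq_one_iff.mp (Nat.dvd_one.mp this))

/-- A fixed-point-free element whose order shares a prime with `|A|` lies in a conjugate of `A`. -/
theorem IsA.mem_YSet_of_prime (hF : Fintype.card F = 2 ^ (2 * m + 1)) (hm : 1 ≤ m)
    {A : Subgroup (Cfsg.Sz F m)} (hA : IsA A) {x : Cfsg.Sz F m} (hx : x ∈ XSet F m) {p : ℕ}
    (hp : p.Prime) (h1 : p ∣ orderOf x) (h2 : p ∣ Nat.card A) : x ∈ YSet A := by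
  have hC := isA_centralizer_of_no_fix hF hm x hx.1 hx.2
  have hxC : x ∈ Subgroup.centralizer ({x} : Set (Cfsg.Sz F m)) :=
    (mem_centralizer_singleton x x).mpr rfl
  have h3 : p ∣ Nat.card (Subgroup.centralizer ({x} : Set (Cfsg.Sz F m))) :=
    h1.trans (Subgroup.orderOf_dvd_natCard _ hxC)
  obtain ⟨g, hg⟩ := hA.conj_of_common_prime hF hm hC hp h2 h3
  rw [hg] at hxC
  obtain ⟨a, ha, hax⟩ := hxC
  exact ⟨hx.1, g, a, ha, hax.symm⟩

/-- Data attached to an `A`-type subgroup. -/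
theorem IsA.data (hF : Fintype.card F = 2 ^ (2 * m + 1)) (hm : 1 ≤ m)
    {A : Subgroup (Cfsg.Sz F m)} (hA : IsA A) :
    5 ≤ Nat.card A ∧ Nat.card A ∣ NN m ∧ ∃ n : ℕ, (n = 1 ∨ n = 2 ∨ n = 4) ∧
      Nat.card (Subgroup.normalizer (A : Set (Cfsg.Sz F m))) = n * Nat.card A ∧
      Nat.card (YSet A) * (n * Nat.card A) = Nat.card (Cfsg.Sz F m) * (Nat.card A - 1) := by
  have hd := hA.card_dvd hF hm
  have h1 := hA.one_lt_card
  have h5 : 5 ≤ Nat.card A := by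
    by_contra hlt
    have h2 : ¬ 2 ∣ Nat.card A := fun h => odd_NN m (h.trans hd)
    have h3 : ¬ 3 ∣ Nat.card A := fun h => three_not_dvd_NN m (h.trans hd)
    have : Nat.card A = 2 ∨ Nat.card A = 3 ∨ Nat.card A = 4 := by omega
    rcases this with h | h | h
    · exact h2 (by rw [h])
    · exact h3 (by rw [h])
    · exact h2 (by rw [h]; norm_num)
  obtain ⟨n, hn, hN⟩ := hA.exists_index hF hm
  refine ⟨h5, hd, n, hn, hN, ?_⟩
  rw [← hN]
  exact hA.card_YSet hF hm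

theorem exists_isA_of_prime (hF : Fintype.card F = 2 ^ (2 * m + 1)) (hm : 1 ≤ m) {p : ℕ}
    (hp : p.Prime) (hpN : p ∣ NN m) :
    ∃ A : Subgroup (Cfsg.Sz F m), IsA A ∧ p ∣ Nat.card A := by
  haveI : Fact p.Prime := ⟨hp⟩
  have hpG : p ∣ Nat.card (Cfsg.Sz F m) := by
    rw [card_Sz' hF hm]
    exact Dvd.dvd.mul_right (Dvd.dvd.mul_left hpN _) _
  obtain ⟨x, hx⟩ := exists_prime_orderOf_dvd_card' p hpG
  refine ⟨Subgroup.centralizer ({x} : Set (Cfsg.Sz F m)), ⟨x, p, hp, hpN, hx, rfl⟩, ?_⟩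
  rw [← hx]
  exact Subgroup.orderOf_dvd_natCard _ ((mem_centralizer_singleton x x).mpr rfl)

/-- Two `A`-type subgroups of coprime or equal order. -/
theorem IsA.coprime_or_eq (hF : Fintype.card F = 2 ^ (2 * m + 1)) (hm : 1 ≤ m)
    {A A' : Subgroup (Cfsg.Sz F m)} (hA : IsA A) (hA' : IsA A') :
    Nat.Coprime (Nat.card A) (Nat.card A') ∨
      ∃ g : Cfsg.Sz F m, A' = A.map (MulAut.conj g).toMonoidHom := by
  by_cases h : Nat.Coprime (Nat.card A) (Nat.card A')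
  · left; exact h
  · right
    obtain ⟨p, hp, h1, h2⟩ := Nat.Prime.not_coprime_iff_dvd.mp h
    exact hA.conj_of_common_prime hF hm hA' hp h1 h2


theorem arith_five {g a n Y : ℕ} (ha : 5 ≤ a) (hn : n = 1 ∨ n = 2 ∨ n = 4)
    (h : Y * (n * a) = g * (a - 1)) : g ≤ 5 * Y ∧ (n ≤ 2 → 2 * g ≤ 5 * Y) := by
  have hna : 0 < n * a := by rcases hn with rfl | rfl | rfl <;> omega
  obtain ⟨b, rfl⟩ : ∃ b, a = b + 5 := ⟨a - 5, by omega⟩
  have e : b + 5 - 1 = b + 4 := by omega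
  rw [e] at h
  constructor
  · apply Nat.le_of_mul_le_mul_right _ hna
    have : g * (n * (b + 5)) ≤ 5 * (g * (b + 4)) := by
      rcases hn with rfl | rfl | rfl <;> nlinarith
    calc g * (n * (b + 5)) ≤ 5 * (g * (b + 4)) := this
      _ = 5 * Y * (n * (b + 5)) := by rw [← h]; ring
  · intro hn2
    apply Nat.le_of_mul_le_mul_right _ hna
    have : 2 * g * (n * (b + 5)) ≤ 5 * (g * (b + 4)) := by
      rcases hn with rfl | rfl | rfl
      · nlinarith
      · nlinarith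
      · omega
    calc 2 * g * (n * (b + 5)) ≤ 5 * (g * (b + 4)) := this
      _ = 5 * Y * (n * (b + 5)) := by rw [← h]; ring

theorem arith_one_class {q n Y : ℕ} (hq : 8 ≤ q) (hn : n = 1 ∨ n = 2 ∨ n = 4)
    (h : Y * (n * (q ^ 2 + 1)) = q ^ 2 * (q ^ 2 + 1) * (q - 1) * (q ^ 2 + 1 - 1))
    (hX : 2 * Y = q ^ 3 * (q - 1) ^ 2) : False := by
  obtain ⟨k, rfl⟩ : ∃ k, q = k + 8 := ⟨q - 8, by omega⟩
  have e1 : k + 8 - 1 = k + 7 := by omega
  have e2 : (k + 8) ^ 2 + 1 - 1 = (k + 8) ^ 2 := by omega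
  rw [e1, e2] at h
  rw [e1] at hX
  have h1 : Y * n = (k + 8) ^ 4 * (k + 7) := by
    have hpos : 0 < (k + 8) ^ 2 + 1 := by positivity
    apply Nat.eq_of_mul_eq_mul_right hpos
    rw [mul_assoc, h]; ring
  have h2 : n * ((k + 8) ^ 3 * (k + 7) ^ 2) = 2 * ((k + 8) ^ 4 * (k + 7)) := by
    rw [← hX, ← h1]; ring
  have h3 : n * (k + 7) = 2 * (k + 8) := by
    have hpos : 0 < (k + 8) ^ 3 * (k + 7) := by positivity
    apply Nat.eq_of_mul_eq_mul_right hpos
    calc n * (k + 7) * ((k + 8) ^ 3 * (k + 7)) = n * ((k + 8) ^ 3 * (k + 7) ^ 2) := by ring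
      _ = 2 * ((k + 8) ^ 4 * (k + 7)) := h2
      _ = 2 * (k + 8) * ((k + 8) ^ 3 * (k + 7)) := by ring
  rcases hn with rfl | rfl | rfl <;> omega

theorem arith_two_classes {q r a₁ a₂ Y₁ Y₂ : ℕ} (hq : 8 ≤ q) (hqr : q = 2 * r ^ 2)
    (ha : a₁ * a₂ = q ^ 2 + 1) (ha1 : 1 ≤ a₁) (ha2 : 1 ≤ a₂)
    (h1 : Y₁ * (4 * a₁) = q ^ 2 * (q ^ 2 + 1) * (q - 1) * (a₁ - 1))
    (h2 : Y₂ * (4 * a₂) = q ^ 2 * (q ^ 2 + 1) * (q - 1) * (a₂ - 1))
    (hX : 2 * (Y₁ + Y₂) = q ^ 3 * (q - 1) ^ 2) :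
    (a₁ = q + 2 * r + 1 ∧ a₂ = q - 2 * r + 1) ∨ (a₁ = q - 2 * r + 1 ∧ a₂ = q + 2 * r + 1) := by
  obtain ⟨k, rfl⟩ : ∃ k, q = k + 8 := ⟨q - 8, by omega⟩
  obtain ⟨b₁, rfl⟩ : ∃ b, a₁ = b + 1 := ⟨a₁ - 1, by omega⟩
  obtain ⟨b₂, rfl⟩ : ∃ b, a₂ = b + 1 := ⟨a₂ - 1, by omega⟩
  have e1 : k + 8 - 1 = k + 7 := by omega
  simp only [e1, Nat.add_sub_cancel] at h1 h2 hX
  -- work in ℤ
  have h1' : (Y₁ : ℤ) * (4 * (b₁ + 1)) = (k + 8) ^ 2 * ((k + 8) ^ 2 + 1) * (k + 7) * b₁ := by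
    exact_mod_cast h1
  have h2' : (Y₂ : ℤ) * (4 * (b₂ + 1)) = (k + 8) ^ 2 * ((k + 8) ^ 2 + 1) * (k + 7) * b₂ := by
    exact_mod_cast h2
  have hX' : 2 * ((Y₁ : ℤ) + Y₂) = (k + 8) ^ 3 * (k + 7) ^ 2 := by exact_mod_cast hX
  have ha' : ((b₁ : ℤ) + 1) * (b₂ + 1) = (k + 8) ^ 2 + 1 := by exact_mod_cast ha
  have hr' : ((k : ℤ) + 8) = 2 * r ^ 2 := by exact_mod_cast hqr
  -- sum
  have hsum : ((b₁ : ℤ) + 1) + (b₂ + 1) = 2 * (k + 8) + 2 := by
    have hN : ((k : ℤ) + 8) ^ 2 * ((k + 8) ^ 2 + 1) * (k + 7) ≠ 0 := by positivity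
    have key : ((k : ℤ) + 8) ^ 2 * ((k + 8) ^ 2 + 1) * (k + 7) *
        (2 * ((k + 8) ^ 2 + 1) - ((b₁ + 1) + (b₂ + 1))) =
        ((k : ℤ) + 8) ^ 2 * ((k + 8) ^ 2 + 1) * (k + 7) * (2 * (k + 8) * (k + 7)) := by
      have e3 : 4 * (((b₁ : ℤ) + 1) * (b₂ + 1)) * ((Y₁ : ℤ) + Y₂) =
          (k + 8) ^ 2 * ((k + 8) ^ 2 + 1) * (k + 7) * (b₁ * (b₂ + 1) + b₂ * (b₁ + 1)) := by
        have : 4 * (((b₁ : ℤ) + 1) * (b₂ + 1)) * ((Y₁ : ℤ) + Y₂) =
            (Y₁ * (4 * (b₁ + 1))) * (b₂ + 1) + (Y₂ * (4 * (b₂ + 1))) * (b₁ + 1) := by ring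
        rw [this, h1', h2']; ring
      rw [ha'] at e3
      have e4 : (b₁ : ℤ) * (b₂ + 1) + b₂ * (b₁ + 1) =
          2 * ((k + 8) ^ 2 + 1) - ((b₁ + 1) + (b₂ + 1)) := by
        rw [← ha']; ring
      rw [← e4, ← e3]
      have : 4 * (((k : ℤ) + 8) ^ 2 + 1) * ((Y₁ : ℤ) + Y₂) =
          2 * ((k + 8) ^ 2 + 1) * (2 * ((Y₁ : ℤ) + Y₂)) := by ring
      rw [this, hX']; ring
    have := mul_left_cancel₀ hN key
    linarith
  -- difference
  have hsq : (((b₁ : ℤ) + 1) - (k + 8) - 1) ^ 2 = (2 * r) ^ 2 := by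
    have hb2 : ((b₂ : ℤ) + 1) = 2 * (k + 8) + 2 - (b₁ + 1) := by linarith
    rw [hb2] at ha'
    have : (2 * (r : ℤ)) ^ 2 = 2 * (k + 8) := by rw [hr']; ring
    rw [this]
    nlinarith [ha']
  rcases sq_eq_sq_iff_eq_or_eq_neg.mp hsq with h | h
  · left
    have h3 : (b₁ : ℤ) + 1 = (k + 8) + 2 * r + 1 := by linarith
    have h4 : (b₂ : ℤ) + 1 = (k + 8) - 2 * r + 1 := by linarith
    have hle : 2 * r ≤ k + 8 := by
      have : (0 : ℤ) ≤ (k + 8) - 2 * r := by linarith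
      omega
    constructor
    · exact_mod_cast h3
    · zify [hle]; exact h4
  · right
    have h3 : (b₁ : ℤ) + 1 = (k + 8) - 2 * r + 1 := by linarith
    have h4 : (b₂ : ℤ) + 1 = (k + 8) + 2 * r + 1 := by linarith
    have hle : 2 * r ≤ k + 8 := by
      have : (0 : ℤ) ≤ (k + 8) - 2 * r := by linarith
      omega
    constructor
    · zify [hle]; exact h3
    · exact_mod_cast h4

theorem two_X_lt (hF : Fintype.card F = 2 ^ (2 * m + 1)) (hm : 1 ≤ m) :
    2 * Nat.card (XSet F m) < Nat.card (Cfsg.Sz F m) := by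
  rw [card_XSet hF hm, card_Sz' hF hm]
  unfold NN
  have hq := q_ge m hm
  obtain ⟨k, hk⟩ : ∃ k, 2 ^ (2 * m + 1) = k + 8 := ⟨2 ^ (2 * m + 1) - 8, by omega⟩
  rw [hk]
  have e1 : k + 8 - 1 = k + 7 := by omega
  rw [e1]
  nlinarith [Nat.zero_le k, Nat.zero_le (k ^ 2), Nat.zero_le (k ^ 3), Nat.zero_le (k ^ 4)]

theorem card_union_le {α : Type*} [Finite α] (S T U : Set α) (hS : S ⊆ U) (hT : T ⊆ U)
    (hd : Disjoint S T) : Nat.card S + Nat.card T ≤ Nat.card U := by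
  rw [Nat.card_coe_set_eq, Nat.card_coe_set_eq, Nat.card_coe_set_eq,
    ← Set.ncard_union_eq hd (Set.toFinite S) (Set.toFinite T)]
  exact Set.ncard_le_ncard (Set.union_subset hS hT) (Set.toFinite U)

theorem card_union_le3 {α : Type*} [Finite α] (S T V U : Set α) (hS : S ⊆ U) (hT : T ⊆ U)
    (hV : V ⊆ U) (hd : Disjoint S T) (hd2 : Disjoint S V) (hd3 : Disjoint T V) :
    Nat.card S + Nat.card T + Nat.card V ≤ Nat.card U := by
  have h1 : Nat.card S + Nat.card T = Nat.card (S ∪ T : Set α) := by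
    rw [Nat.card_coe_set_eq, Nat.card_coe_set_eq, Nat.card_coe_set_eq,
      ← Set.ncard_union_eq hd (Set.toFinite S) (Set.toFinite T)]
  rw [h1]
  apply card_union_le _ _ _ (Set.union_subset hS hT) hV
  rw [Set.disjoint_union_left]
  exact ⟨hd2, hd3⟩

theorem card_union_eq {α : Type*} [Finite α] (S T U : Set α) (hS : S ⊆ U) (hT : T ⊆ U)
    (hU : U ⊆ S ∪ T) (hd : Disjoint S T) : Nat.card S + Nat.card T = Nat.card U := by
  have : U = S ∪ T := Set.Subset.antisymm hU (Set.union_subset hS hT)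
  rw [this, Nat.card_coe_set_eq, Nat.card_coe_set_eq, Nat.card_coe_set_eq,
    ← Set.ncard_union_eq hd (Set.toFinite S) (Set.toFinite T)]

theorem pow_facts (m : ℕ) : 2 ^ (2 * m + 1) = 2 * (2 ^ m) ^ 2 ∧ 2 ^ (m + 1) = 2 * 2 ^ m := by
  constructor
  · rw [pow_succ, mul_comm 2 m, pow_mul, mul_comm]
  · rw [pow_succ, mul_comm]

/-- There are exactly two classes of `A`-type subgroups, of orders `q ± 2r + 1`. -/
theorem exists_two_classes (hF : Fintype.card F = 2 ^ (2 * m + 1)) (hm : 1 ≤ m) :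
    ∃ A₁ A₂ : Subgroup (Cfsg.Sz F m), IsA A₁ ∧ IsA A₂ ∧
      Nat.card A₁ = 2 ^ (2 * m + 1) + 2 ^ (m + 1) + 1 ∧
      Nat.card A₂ = 2 ^ (2 * m + 1) - 2 ^ (m + 1) + 1 ∧
      Nat.card (Subgroup.normalizer (A₁ : Set (Cfsg.Sz F m))) = 4 * Nat.card A₁ ∧
      Nat.card (Subgroup.normalizer (A₂ : Set (Cfsg.Sz F m))) = 4 * Nat.card A₂ ∧
      XSet F m ⊆ YSet A₁ ∪ YSet A₂ := by
  have hq := q_ge m hm
  have hN1 : NN m ≠ 1 := by
    unfold NN
    have : 0 < (2 ^ (2 * m + 1)) ^ 2 := by positivity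
    omega
  have hN0 : NN m ≠ 0 := by unfold NN; positivity
  have hXcard := card_XSet hF hm
  have hXlt := two_X_lt hF hm
  have hG := card_Sz' hF hm
  -- a fixed-point-free element lies in a conjugate of `A` when a prime of its order divides `|A|`
  have hcover : ∀ x ∈ XSet F m, ∃ p : ℕ, p.Prime ∧ p ∣ orderOf x ∧ p ∣ NN m := by
    intro x hx
    have hn : orderOf x ≠ 1 := by
      rw [Ne, orderOf_eq_one_iff]; exact hx.1
    obtain ⟨p, hp, hpd⟩ := Nat.exists_prime_and_dvd hn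
    exact ⟨p, hp, hpd, prime_dvd_of_no_fix hF hm x hx.2 hp hpd⟩
  -- first class
  obtain ⟨p₁, hp₁, hp₁N⟩ := Nat.exists_prime_and_dvd hN1
  obtain ⟨A₁, hA₁, hpA₁⟩ := exists_isA_of_prime hF hm hp₁ hp₁N
  obtain ⟨h5₁, hd₁, n₁, hn₁, hNm₁, hY₁⟩ := hA₁.data hF hm
  have hcop₁ := hA₁.coprime_card hF hm
  have hY₁X := hA₁.YSet_subset hF hm
  by_cases hb : NN m / Nat.card A₁ = 1
  · exfalso
    have ha₁N : Nat.card A₁ = NN m := by
      have := Nat.div_mul_cancel hd₁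
      rw [hb, one_mul] at this
      exact this
    have hXY : XSet F m ⊆ YSet A₁ := by
      intro x hx
      obtain ⟨p, hp, hpd, hpN⟩ := hcover x hx
      exact hA₁.mem_YSet_of_prime hF hm hx hp hpd (ha₁N ▸ hpN)
    have hXeq : XSet F m = YSet A₁ := Set.Subset.antisymm hXY hY₁X
    rw [hXeq] at hXcard
    rw [hG, ha₁N] at hY₁
    unfold NN at hY₁
    exact arith_one_class hq hn₁ hY₁ hXcard
  · -- second class
    have hb0 : NN m / Nat.card A₁ ≠ 0 := by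
      intro h0
      have := Nat.div_mul_cancel hd₁
      rw [h0, zero_mul] at this
      exact hN0 this.symm
    obtain ⟨p₂, hp₂, hp₂b⟩ := Nat.exists_prime_and_dvd hb
    have hp₂N : p₂ ∣ NN m := hp₂b.trans (Nat.div_dvd_of_dvd hd₁)
    obtain ⟨A₂, hA₂, hpA₂⟩ := exists_isA_of_prime hF hm hp₂ hp₂N
    obtain ⟨h5₂, hd₂, n₂, hn₂, hNm₂, hY₂⟩ := hA₂.data hF hm
    have hcop₂ := hA₂.coprime_card hF hm
    have hY₂X := hA₂.YSet_subset hF hm
    have hcop12 : Nat.Coprime (Nat.card A₁) (Nat.card A₂) := by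
      rcases hA₁.coprime_or_eq hF hm hA₂ with h | ⟨g, hg⟩
      · exact h
      · exfalso
        have : Nat.card A₂ = Nat.card A₁ := by rw [hg, card_map_conj]
        rw [this] at hpA₂
        have := Nat.dvd_gcd hpA₂ hp₂b
        rw [hcop₁] at this
        exact hp₂.one_lt.ne' (Nat.dvd_one.mp this)
    have hd12 : Nat.card A₁ * Nat.card A₂ ∣ NN m := hcop12.mul_dvd_of_dvd_of_dvd hd₁ hd₂
    have hdisj12 := YSet_disjoint hcop12
    have hfive₁ := arith_five h5₁ hn₁ hY₁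
    have hfive₂ := arith_five h5₂ hn₂ hY₂
    by_cases hc : NN m / (Nat.card A₁ * Nat.card A₂) = 1
    · -- exactly two classes
      have ha12 : Nat.card A₁ * Nat.card A₂ = NN m := by
        have := Nat.div_mul_cancel hd12
        rw [hc, one_mul] at this
        exact this
      have hXY : XSet F m ⊆ YSet A₁ ∪ YSet A₂ := by
        intro x hx
        obtain ⟨p, hp, hpd, hpN⟩ := hcover x hx
        rw [← ha12] at hpN
        rcases (hp.dvd_mul).mp hpN with h | h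
        · left; exact hA₁.mem_YSet_of_prime hF hm hx hp hpd h
        · right; exact hA₂.mem_YSet_of_prime hF hm hx hp hpd h
      have hsum := card_union_eq _ _ _ hY₁X hY₂X hXY hdisj12
      have hn₁4 : n₁ = 4 := by
        by_contra hne
        have : n₁ ≤ 2 := by rcases hn₁ with h | h | h <;> omega
        have h1 := hfive₁.2 this
        have h2 := hfive₂.1
        omega
      have hn₂4 : n₂ = 4 := by
        by_contra hne
        have : n₂ ≤ 2 := by rcases hn₂ with h | h | h <;> omega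
        have h1 := hfive₂.2 this
        have h2 := hfive₁.1
        omega
      subst hn₁4; subst hn₂4
      rw [hG] at hY₁ hY₂
      unfold NN at hY₁ hY₂ ha12
      rw [← hsum] at hXcard
      obtain ⟨e1, e2⟩ := pow_facts m
      have hfin := arith_two_classes hq e1 ha12 (by omega) (by omega) hY₁ hY₂ hXcard
      rw [← e2] at hfin
      rcases hfin with ⟨h1, h2⟩ | ⟨h1, h2⟩
      · exact ⟨A₁, A₂, hA₁, hA₂, h1, h2, hNm₁, hNm₂, hXY⟩
      · refine ⟨A₂, A₁, hA₂, hA₁, h2, h1, hNm₂, hNm₁, ?_⟩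
        rw [Set.union_comm]; exact hXY
    · -- three classes: contradiction
      exfalso
      have hc0 : NN m / (Nat.card A₁ * Nat.card A₂) ≠ 0 := by
        intro h0
        have := Nat.div_mul_cancel hd12
        rw [h0, zero_mul] at this
        exact hN0 this.symm
      obtain ⟨p₃, hp₃, hp₃c⟩ := Nat.exists_prime_and_dvd hc
      have hp₃N : p₃ ∣ NN m := hp₃c.trans (Nat.div_dvd_of_dvd hd12)
      obtain ⟨A₃, hA₃, hpA₃⟩ := exists_isA_of_prime hF hm hp₃ hp₃N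
      obtain ⟨h5₃, hd₃, n₃, hn₃, hNm₃, hY₃⟩ := hA₃.data hF hm
      have hY₃X := hA₃.YSet_subset hF hm
      have hfive₃ := arith_five h5₃ hn₃ hY₃
      -- `N / (a₁ a₂)` divides `N / a₁` and `N / a₂`
      have hq1 : NN m / (Nat.card A₁ * Nat.card A₂) ∣ NN m / Nat.card A₁ := by
        rw [← Nat.div_div_eq_div_mul]
        exact Nat.div_dvd_of_dvd (by
          obtain ⟨c, hc'⟩ := hd12
          rw [hc', mul_assoc, Nat.mul_div_cancel_left _ (by omega)]
          exact Dvd.intro _ rfl)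
      have hq2 : NN m / (Nat.card A₁ * Nat.card A₂) ∣ NN m / Nat.card A₂ := by
        rw [mul_comm, ← Nat.div_div_eq_div_mul]
        exact Nat.div_dvd_of_dvd (by
          obtain ⟨c, hc'⟩ := hd12
          rw [hc', mul_comm (Nat.card A₁), mul_assoc, Nat.mul_div_cancel_left _ (by omega)]
          exact Dvd.intro _ rfl)
      have hcop13 : Nat.Coprime (Nat.card A₁) (Nat.card A₃) := by
        rcases hA₁.coprime_or_eq hF hm hA₃ with h | ⟨g, hg⟩
        · exact h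
        · exfalso
          have : Nat.card A₃ = Nat.card A₁ := by rw [hg, card_map_conj]
          rw [this] at hpA₃
          have := Nat.dvd_gcd hpA₃ (hp₃c.trans hq1)
          rw [hcop₁] at this
          exact hp₃.one_lt.ne' (Nat.dvd_one.mp this)
      have hcop23 : Nat.Coprime (Nat.card A₂) (Nat.card A₃) := by
        rcases hA₂.coprime_or_eq hF hm hA₃ with h | ⟨g, hg⟩
        · exact h
        · exfalso
          have : Nat.card A₃ = Nat.card A₂ := by rw [hg, card_map_conj]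
          rw [this] at hpA₃
          have := Nat.dvd_gcd hpA₃ (hp₃c.trans hq2)
          rw [hcop₂] at this
          exact hp₃.one_lt.ne' (Nat.dvd_one.mp this)
      have hle := card_union_le3 _ _ _ _ hY₁X hY₂X hY₃X hdisj12 (YSet_disjoint hcop13)
        (YSet_disjoint hcop23)
      have h1 := hfive₁.1
      have h2 := hfive₂.1
      have h3 := hfive₃.1
      omega

end Cfsg.Agent.Lib.Helper4.Suz
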