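import Mathlib
import Cfsg.Prelude.Def_LieExceptional
import Cfsg.Agent.Lib.Helper4.Suz20

/-!
# Suzuki groups, part 21: the partition of `Sz(q)`
-/

set_option autoImplicit false
set_option linter.unusedSimpArgs false
set_option linter.unusedVariables false
set_option linter.style.haveILetI false

namespace Cfsg.Agent.Lib.Helper4.Suz

open MulAction

variable {F : Type*} [Field F] [Fintype F] {m : ℕ}

/-- A non-identity element of `U` fixes only `∞`. -/
theorem uZ_fix_only (hF : Fintype.card F = 2 ^ (2 * m + 1)) {a b : F} (h : uZ hF a b ≠ 1)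
    {P : Cfsg.suzukiOvoid F m} (hP : uZ hF a b • P = P) : P = oInf F m := by
  rcases ovoid_cases P with h1 | ⟨x, y, rfl⟩
  · exact h1
  · exfalso
    rw [uZ_smul_oPt] at hP
    obtain ⟨h1, h2⟩ := oPt_inj hP
    have ha : a = 0 := by
      have : x + a = x + 0 := by rw [h1, add_zero]
      exact add_left_cancel this
    subst ha
    rw [th_zero, zero_mul, add_zero] at h2
    have hb : b = 0 := by
      have : y + b = y + 0 := by rw [h2, add_zero]
      exact add_left_cancel this
    subst hb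
    exact h (uZ_zero hF)

theorem map_conj_of_mem_normalizer {G : Type*} [Group G] (H : Subgroup G) {n : G}
    (hn : n ∈ Subgroup.normalizer (H : Set G)) : H.map (MulAut.conj n).toMonoidHom = H := by
  ext x
  constructor
  · rintro ⟨h, hh, rfl⟩
    exact (Subgroup.mem_normalizer_iff.mp hn h).mp hh
  · intro hx
    refine ⟨n⁻¹ * x * n, ?_, ?_⟩
    · have := (Subgroup.mem_normalizer_iff.mp (Subgroup.inv_mem _ hn) x).mp hx
      simpa using this
    · show n * (n⁻¹ * x * n) * n⁻¹ = x
      group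

/-- Sylow `2`-subgroups are TI. -/
theorem sylow_two_eq_of_common (hF : Fintype.card F = 2 ^ (2 * m + 1)) (hm : 1 ≤ m)
    (P Q : Sylow 2 (Cfsg.Sz F m)) (g : Cfsg.Sz F m) (hg : g ≠ 1)
    (hP : g ∈ (P : Subgroup (Cfsg.Sz F m))) (hQ : g ∈ (Q : Subgroup (Cfsg.Sz F m))) : P = Q := by
  obtain ⟨c, hc⟩ := sylow_eq_map hF hm P
  obtain ⟨c', hc'⟩ := sylow_eq_map hF hm Q
  rw [hc] at hP
  rw [hc'] at hQ
  obtain ⟨u, ⟨a, b, rfl⟩, hu⟩ := hP
  obtain ⟨u', ⟨a', b', rfl⟩, hu'⟩ := hQ
  have hu1 : c * uZ hF a b * c⁻¹ = g := hu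
  have hu1' : c' * uZ hF a' b' * c'⁻¹ = g := hu'
  have hne : uZ hF a b ≠ 1 := by
    intro h
    apply hg
    rw [← hu1, h]; group
  -- `g` fixes `c' ∞`, hence `c⁻¹ c' ∞ = ∞`
  have hfix : uZ hF a b • ((c⁻¹ * c') • oInf F m) = (c⁻¹ * c') • oInf F m := by
    have e : uZ hF a b = c⁻¹ * g * c := by rw [← hu1]; group
    rw [e, ← hu1']
    rw [← mul_smul]
    have : c⁻¹ * (c' * uZ hF a' b' * c'⁻¹) * c * (c⁻¹ * c') = c⁻¹ * c' * uZ hF a' b' := by group
    rw [this, mul_smul, uZ_smul_oInf]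
  have hn : c⁻¹ * c' ∈ Subgroup.normalizer (USub hF : Set (Cfsg.Sz F m)) := by
    rw [normalizer_USub hF hm, mem_stabilizer_iff]
    exact uZ_fix_only hF hne hfix
  apply Sylow.ext
  rw [hc, hc']
  ext x
  constructor
  · rintro ⟨u, hu, rfl⟩
    refine ⟨(c⁻¹ * c')⁻¹ * u * (c⁻¹ * c'), ?_, ?_⟩
    · have := (Subgroup.mem_normalizer_iff.mp (Subgroup.inv_mem _ hn) u).mp hu
      simpa using this
    · show c' * ((c⁻¹ * c')⁻¹ * u * (c⁻¹ * c')) * c'⁻¹ = c * u * c⁻¹
      group
  · rintro ⟨u, hu, rfl⟩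
    refine ⟨(c⁻¹ * c') * u * (c⁻¹ * c')⁻¹, (Subgroup.mem_normalizer_iff.mp hn u).mp hu, ?_⟩
    show c * ((c⁻¹ * c') * u * (c⁻¹ * c')⁻¹) * c⁻¹ = c' * u * c'⁻¹
    group

/-- A cyclic subgroup containing `g` is contained in the centraliser of `g`. -/
theorem le_centralizer_of_isCyclic {G : Type*} [Group G] (U : Subgroup G) (hU : IsCyclic U)
    {g : G} (hg : g ∈ U) : U ≤ Subgroup.centralizer ({g} : Set G) := by
  letI := IsCyclic.commGroup (α := U)
  intro u hu
  rw [mem_centralizer_singleton]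
  have := mul_comm (⟨g, hg⟩ : U) ⟨u, hu⟩
  exact congrArg Subtype.val this

theorem isCyclic_map_conj {G : Type*} [Group G] (H : Subgroup G) (hH : IsCyclic H) (c : G) :
    IsCyclic (H.map (MulAut.conj c).toMonoidHom) := by
  haveI := hH
  exact isCyclic_of_surjective ((MulAut.conj c).toMonoidHom.subgroupMap H)
    ((MulAut.conj c).toMonoidHom.subgroupMap_surjective H)

/-- The centraliser of a conjugate of a non-trivial torus element lies in the conjugate torus. -/
theorem centralizer_conj_hZ_le (hF : Fintype.card F = 2 ^ (2 * m + 1)) (hm : 1 ≤ m) {z : Fˣ}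
    (hz : z ≠ 1) (c : Cfsg.Sz F m) :
    Subgroup.centralizer ({c * hZ hF z * c⁻¹} : Set (Cfsg.Sz F m)) ≤
      (Tor hF).map (MulAut.conj c).toMonoidHom := by
  rw [centralizer_conj]
  exact Subgroup.map_mono (centralizer_hZ_le hF hm hz)

theorem centralizer_pow_le {G : Type*} [Group G] (g : G) (k : ℕ) :
    Subgroup.centralizer ({g} : Set G) ≤ Subgroup.centralizer ({g ^ k} : Set G) := by
  intro x hx
  rw [mem_centralizer_singleton] at hx ⊢
  have : Commute g x := hx
  exact (this.pow_left k).eq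

theorem mem_centralizer_self {G : Type*} [Group G] (g : G) :
    g ∈ Subgroup.centralizer ({g} : Set G) := (mem_centralizer_singleton g g).mpr rfl

theorem q_sub_one_odd (m : ℕ) : ¬ 2 ∣ 2 ^ (2 * m + 1) - 1 := by
  have h1 : 2 ∣ 2 ^ (2 * m + 1) := dvd_pow_self 2 (by omega)
  have h2 := q_pos m
  omega

/-- The partition of the Suzuki group. -/
theorem partition (hF : Fintype.card F = 2 ^ (2 * m + 1)) (hm : 1 ≤ m) (g : Cfsg.Sz F m)
    (hg : g ≠ 1) :
    ∃! U : Subgroup (Cfsg.Sz F m), ((∃ P : Sylow 2 (Cfsg.Sz F m),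
        U = (P : Subgroup (Cfsg.Sz F m))) ∨
      (IsCyclic U ∧ Nat.card U ∈ ({2 ^ (2 * m + 1) - 1, 2 ^ (2 * m + 1) + 2 ^ (m + 1) + 1,
        2 ^ (2 * m + 1) - 2 ^ (m + 1) + 1} : Set ℕ))) ∧ g ∈ U := by
  haveI : Fact (Nat.Prime 2) := ⟨Nat.prime_two⟩
  obtain ⟨A₁, A₂, hA₁, hA₂, h1, h2, -, -, hXY⟩ := exists_two_classes hF hm
  have hq := q_ge m hm
  have hs : 1 ≤ 2 ^ (m + 1) := Nat.one_le_two_pow
  have hsq : 2 ^ (m + 1) ≤ 2 ^ (2 * m + 1) := Nat.pow_le_pow_right (by norm_num) (by omega)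
  have hn1 : orderOf g ≠ 1 := by rwa [Ne, orderOf_eq_one_iff]
  -- the orders `a₁`, `a₂` are coprime
  have hcop : Nat.Coprime (Nat.card A₁) (Nat.card A₂) := by
    rcases hA₁.coprime_or_eq hF hm hA₂ with h | ⟨c, hc⟩
    · exact h
    · exfalso
      have : Nat.card A₂ = Nat.card A₁ := by rw [hc, card_map_conj]
      rw [h1, h2] at this
      omega
  have hodd₁ : ¬ 2 ∣ Nat.card A₁ := fun h => odd_NN m (h.trans (hA₁.card_dvd hF hm))
  have hodd₂ : ¬ 2 ∣ Nat.card A₂ := fun h => odd_NN m (h.trans (hA₂.card_dvd hF hm))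
  have h5₁ := (hA₁.data hF hm).1
  have h5₂ := (hA₂.data hF hm).1
  simp only [Set.mem_insert_iff, Set.mem_singleton_iff]
  rw [← h1, ← h2]
  by_cases hX : g ∈ XSet F m
  · -- fixed-point-free elements
    have hC := isA_centralizer_of_no_fix hF hm g hg hX.2
    set B := Subgroup.centralizer ({g} : Set (Cfsg.Sz F m)) with hB
    have hgB : g ∈ B := mem_centralizer_self g
    have hcardB : Nat.card B = Nat.card A₁ ∨ Nat.card B = Nat.card A₂ := by
      rcases hXY hX with h | h
      · left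
        obtain ⟨-, c, a, ha, hga⟩ := h
        have ha1 : a ≠ 1 := by
          rintro rfl
          apply hg
          rw [hga]; group
        rw [hB, hga, centralizer_conj, hA₁.centralizer_eq hF hm ha ha1, card_map_conj]
      · right
        obtain ⟨-, c, a, ha, hga⟩ := h
        have ha1 : a ≠ 1 := by
          rintro rfl
          apply hg
          rw [hga]; group
        rw [hB, hga, centralizer_conj, hA₂.centralizer_eq hF hm ha ha1, card_map_conj]
    obtain ⟨p, hp, hpd⟩ := Nat.exists_prime_and_dvd hn1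
    have hpN := prime_dvd_of_no_fix hF hm g hX.2 hp hpd
    have hp2 := prime_ne_two_of_dvd_NN hpN
    haveI : Fact p.Prime := ⟨hp⟩
    have hpB : p ∣ Nat.card B := hpd.trans (Subgroup.orderOf_dvd_natCard B hgB)
    refine ⟨B, ⟨Or.inr ⟨hC.isCyclic hF, Or.inr hcardB⟩, hgB⟩, ?_⟩
    rintro U' ⟨hU', hgU'⟩
    rcases hU' with ⟨P, rfl⟩ | ⟨hcyc, hcard⟩
    · exfalso
      have h3 : orderOf g ∣ Nat.card (P : Subgroup (Cfsg.Sz F m)) :=
        Subgroup.orderOf_dvd_natCard _ hgU'
      rw [Sylow.card_eq_multiplicity] at h3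
      have h4 : p ∣ 2 ^ (Nat.card (Cfsg.Sz F m)).factorization 2 := hpd.trans h3
      exact not_dvd_q hp2 _ h4
    · have hle : U' ≤ B := le_centralizer_of_isCyclic U' hcyc hgU'
      have hpU : p ∣ Nat.card U' := hpd.trans (Subgroup.orderOf_dvd_natCard U' hgU')
      have hcard' : Nat.card U' = Nat.card B := by
        rcases hcard with h | h | h
        · exfalso
          rw [h] at hpU
          exact not_dvd_sq_add_one hp2 (q_pos m) hpU hpN
        · rcases hcardB with h' | h'
          · rw [h, h']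
          · exfalso
            rw [h] at hpU; rw [h'] at hpB
            have := Nat.dvd_gcd hpU hpB
            rw [hcop] at this
            exact hp.one_lt.ne' (Nat.dvd_one.mp this)
        · rcases hcardB with h' | h'
          · exfalso
            rw [h] at hpU; rw [h'] at hpB
            have := Nat.dvd_gcd hpB hpU
            rw [hcop] at this
            exact hp.one_lt.ne' (Nat.dvd_one.mp this)
          · rw [h, h']
      exact Subgroup.eq_of_le_of_card_ge hle (le_of_eq hcard'.symm)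
  · -- elements with a fixed point
    have hfix : ∃ P : Cfsg.suzukiOvoid F m, g • P = P := by
      by_contra hne
      apply hX
      refine ⟨hg, ?_⟩
      intro P hP
      exact hne ⟨P, hP⟩
    obtain ⟨P₀, hP₀⟩ := hfix
    have hord : orderOf g ∣ (2 ^ (2 * m + 1)) ^ 2 * (2 ^ (2 * m + 1) - 1) := by
      rw [← card_stabilizer hF hm P₀]
      exact Subgroup.orderOf_dvd_natCard _ hP₀
    by_cases hodd : ∃ p : ℕ, p.Prime ∧ p ≠ 2 ∧ p ∣ orderOf g
    · -- toral elements
      obtain ⟨p, hp, hp2, hpd⟩ := hodd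
      haveI : Fact p.Prime := ⟨hp⟩
      have hpq : p ∣ 2 ^ (2 * m + 1) - 1 := by
        rcases (hp.dvd_mul).mp (hpd.trans hord) with h | h
        · exact absurd (by rwa [← pow_mul] at h) (not_dvd_q hp2 _)
        · exact h
      have hpN : ¬ p ∣ NN m := not_dvd_sq_add_one hp2 (q_pos m) hpq
      have ho : orderOf (g ^ (orderOf g / p)) = p :=
        orderOf_pow_orderOf_div (orderOf_pos g).ne' hpd
      obtain ⟨c, z, hz, hy⟩ := dvd_sub_conj hF hm hp2 hpq _ ho
      set T := (Tor hF).map (MulAut.conj c).toMonoidHom with hT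
      have hCT : Subgroup.centralizer ({g} : Set (Cfsg.Sz F m)) ≤ T := by
        refine le_trans (centralizer_pow_le g (orderOf g / p)) ?_
        rw [hy]
        exact centralizer_conj_hZ_le hF hm hz c
      have hgT : g ∈ T := hCT (mem_centralizer_self g)
      have hcardT : Nat.card T = 2 ^ (2 * m + 1) - 1 := by rw [hT, card_map_conj, card_Tor]
      refine ⟨T, ⟨Or.inr ⟨isCyclic_map_conj _ (isCyclic_Tor hF) c, Or.inl hcardT⟩, hgT⟩, ?_⟩
      rintro U' ⟨hU', hgU'⟩
      rcases hU' with ⟨P, rfl⟩ | ⟨hcyc, hcard⟩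
      · exfalso
        have h3 : orderOf g ∣ Nat.card (P : Subgroup (Cfsg.Sz F m)) :=
          Subgroup.orderOf_dvd_natCard _ hgU'
        rw [Sylow.card_eq_multiplicity] at h3
        exact not_dvd_q hp2 _ (hpd.trans h3)
      · have hle : U' ≤ T := le_trans (le_centralizer_of_isCyclic U' hcyc hgU') hCT
        have hpU : p ∣ Nat.card U' := hpd.trans (Subgroup.orderOf_dvd_natCard U' hgU')
        have hcard' : Nat.card U' = Nat.card T := by
          rcases hcard with h | h | h
          · rw [h, hcardT]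
          · exfalso
            rw [h] at hpU
            exact hpN (hpU.trans (hA₁.card_dvd hF hm))
          · exfalso
            rw [h] at hpU
            exact hpN (hpU.trans (hA₂.card_dvd hF hm))
        exact Subgroup.eq_of_le_of_card_ge hle (le_of_eq hcard'.symm)
    · -- `2`-elements
      have hpow : ∃ k, orderOf g = 2 ^ k := by
        refine ⟨_, Nat.eq_prime_pow_of_unique_prime_dvd (orderOf_pos g).ne' ?_⟩
        intro d hd hdd
        by_contra hne
        exact hodd ⟨d, hd, hne, hdd⟩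
      obtain ⟨k, hk⟩ := hpow
      have hk0 : k ≠ 0 := by
        rintro rfl
        rw [pow_zero] at hk
        exact hn1 hk
      have h2g : 2 ∣ orderOf g := by rw [hk]; exact dvd_pow_self 2 hk0
      have hpg : IsPGroup 2 (Subgroup.zpowers g) := by
        apply IsPGroup.of_card (n := k)
        rw [Nat.card_zpowers, hk]
      obtain ⟨Q, hQ⟩ := hpg.exists_le_sylow
      have hgQ : g ∈ (Q : Subgroup (Cfsg.Sz F m)) := hQ (Subgroup.mem_zpowers g)
      refine ⟨Q, ⟨Or.inl ⟨Q, rfl⟩, hgQ⟩, ?_⟩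
      rintro U' ⟨hU', hgU'⟩
      rcases hU' with ⟨P, rfl⟩ | ⟨hcyc, hcard⟩
      · rw [sylow_two_eq_of_common hF hm P Q g hg hgU' hgQ]
      · exfalso
        have h2U : 2 ∣ Nat.card U' := h2g.trans (Subgroup.orderOf_dvd_natCard U' hgU')
        rcases hcard with h | h | h
        · rw [h] at h2U; exact q_sub_one_odd m h2U
        · rw [h] at h2U; exact hodd₁ h2U
        · rw [h] at h2U; exact hodd₂ h2U

end Cfsg.Agent.Lib.Helper4.Suz
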