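import Mathlib
import Cfsg.Prelude.Def_LieExceptional
import Cfsg.Agent.Lib.Helper4.Suz21

/-!
# Suzuki groups, part 22: `Sz(q)` is generated by two elements
-/

set_option autoImplicit false
set_option linter.unusedSimpArgs false
set_option linter.unusedVariables false
set_option linter.style.haveILetI false

namespace Cfsg.Agent.Lib.Helper4.Suz

open MulAction
open scoped commutatorElement

variable {F : Type*} [Field F] [Fintype F] {m : ℕ}

theorem hZ_wZ (hF : Fintype.card F = 2 ^ (2 * m + 1)) (z : Fˣ) :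
    hZ hF z * wZ hF = wZ hF * hZ hF z⁻¹ := by
  have h := wZ_hZ_wZ hF z
  have hw : wZ hF * wZ hF = 1 := wZ_mul_wZ hF
  calc hZ hF z * wZ hF = (wZ hF * wZ hF) * hZ hF z * wZ hF := by rw [hw, one_mul]
    _ = wZ hF * (wZ hF * hZ hF z * wZ hF) := by simp only [mul_assoc]
    _ = wZ hF * hZ hF z⁻¹ := by rw [h]

/-- `Sz(q)` is generated by `h(ζ)` and `u(1,0) w`. -/
theorem two_generated (hF : Fintype.card F = 2 ^ (2 * m + 1)) (hm : 1 ≤ m) :
    ∃ a b : Cfsg.Sz F m, Subgroup.closure ({a, b} : Set (Cfsg.Sz F m)) = ⊤ := by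
  have h2 := two_eq_zero hF
  obtain ⟨ζ, hζ⟩ := IsCyclic.exists_generator (α := Fˣ)
  have hζ1 : ζ ≠ 1 := by
    rintro rfl
    obtain ⟨z, hz⟩ := exists_unit_ne_one hF hm
    have := hζ z
    rw [Subgroup.zpowers_one_eq_bot, Subgroup.mem_bot] at this
    exact hz this
  set t := hZ hF ζ with ht
  set u := uZ hF (1 : F) 0 with hu
  set w := wZ hF with hw
  set y := u * w with hy
  refine ⟨t, y, ?_⟩
  set L := Subgroup.closure ({t, y} : Set (Cfsg.Sz F m)) with hL
  have htL : t ∈ L := Subgroup.subset_closure (by simp)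
  have hyL : y ∈ L := Subgroup.subset_closure (by simp)
  have hww : w * w = 1 := wZ_mul_wZ hF
  -- the torus lies in `L`
  have hT : ∀ z : Fˣ, hZ hF z ∈ L := by
    intro z
    obtain ⟨k, hk⟩ := Subgroup.mem_zpowers_iff.mp (hζ z)
    have : hZ hF z = t ^ k := by
      rw [← hk]
      exact map_zpow (hZHom hF) ζ k
    rw [this]
    exact L.zpow_mem htL k
  -- the subgroup `w L w`
  set L' := L.comap (MulAut.conj w).toMonoidHom with hL'
  have memL' : ∀ g, g ∈ L' ↔ w * g * w ∈ L := by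
    intro g
    rw [hL', Subgroup.mem_comap]
    simp only [MulEquiv.coe_toMonoidHom, MulAut.conj_apply]
    rw [hw, wZ_inv]
  -- a first element of `U ∩ L'`
  set c := th m ((ζ⁻¹ : Fˣ) : F) with hc
  have hc1 : c + 1 ≠ 0 := by
    intro h
    have : c = 1 := eq_of_add_eq_zero h2 h
    have h3 := th_eq_one hF this
    apply hζ1
    have : ζ⁻¹ = 1 := Units.ext h3
    exact inv_eq_one.mp this
  obtain ⟨b₀, hk⟩ : ∃ b₀ : F, t⁻¹ * u⁻¹ * t * u = uZ hF (c + 1) b₀ := by
    have e : t⁻¹ * u⁻¹ * t = hZ hF ζ⁻¹ * u⁻¹ * (hZ hF ζ⁻¹)⁻¹ := by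
      rw [ht, hZ_inv, hZ_inv, inv_inv]
    rw [e, hu, uZ_inv, hZ_uZ_hZ, uZ_mul, mul_one]
    exact ⟨_, rfl⟩
  have hk0 : uZ hF (c + 1) b₀ ∈ L' := by
    rw [memL', ← hk]
    have e : w * (t⁻¹ * u⁻¹ * t * u) * w = t * (y⁻¹ * t * y) := by
      have e1 : y⁻¹ = w * u⁻¹ := by
        rw [hy, mul_inv_rev, hw, wZ_inv]
      have e2 : t * w = w * t⁻¹ := by
        rw [ht, hw, hZ_wZ, hZ_inv]
      rw [e1, hy]
      calc w * (t⁻¹ * u⁻¹ * t * u) * w = (w * t⁻¹) * (u⁻¹ * t * u * w) := by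
            simp only [mul_assoc]
        _ = (t * w) * (u⁻¹ * t * u * w) := by rw [e2]
        _ = t * (w * u⁻¹ * t * (u * w)) := by simp only [mul_assoc]
    rw [e]
    exact L.mul_mem htL (L.mul_mem (L.mul_mem (L.inv_mem hyL) htL) hyL)
  -- the torus normalises `L'`
  have hTL' : ∀ z : Fˣ, hZ hF z ∈ L' := by
    intro z
    rw [memL', hw, wZ_hZ_wZ]
    exact hT _
  -- for every nonzero `a` some `u(a,b)` lies in `L'`
  have hne : ∀ a : F, a ≠ 0 → ∃ b : F, uZ hF a b ∈ L' := by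
    intro a ha
    obtain ⟨s, hs⟩ := th_surjective hF (a / (c + 1))
    have hs0 : s ≠ 0 := by
      rintro rfl
      rw [th_zero] at hs
      exact (div_ne_zero ha hc1) hs.symm
    have := L'.mul_mem (L'.mul_mem (hTL' (Units.mk0 s hs0)) hk0) (L'.inv_mem (hTL' (Units.mk0 s hs0)))
    rw [hZ_uZ_hZ, Units.val_mk0, hs] at this
    have e : a / (c + 1) * (c + 1) = a := by field_simp
    rw [e] at this
    exact ⟨_, this⟩
  -- the centre of `U` lies in `L'`
  have hcen : ∀ e : F, uZ hF 0 e ∈ L' := by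
    intro e
    by_cases he : e = 0
    · rw [he, uZ_zero]; exact L'.one_mem
    obtain ⟨s, hs0, hs1⟩ := exists_ne_zero_one hF hm
    have hw' : th m s + s ≠ 0 := by
      intro h
      rcases th_eq_self hF (eq_of_add_eq_zero h2 h) with h7 | h7
      · exact hs0 h7
      · exact hs1 h7
    obtain ⟨a, ha⟩ := mul_th_surjective hF (e / (th m s + s))
    simp only at ha
    have ha0 : a ≠ 0 := by
      rintro rfl
      rw [zero_mul] at ha
      exact (div_ne_zero he hw') ha.symm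
    obtain ⟨b1, hb1⟩ := hne a ha0
    obtain ⟨b2, hb2⟩ := hne (a * s) (mul_ne_zero ha0 hs0)
    have : uZ hF 0 e = ⁅uZ hF a b1, uZ hF (a * s) b2⁆ := by
      rw [uZ_comm, th_mul]
      congr 1
      have : th m a * (a * s) + th m a * th m s * a = a * th m a * (th m s + s) := by ring
      rw [this, ha]
      field_simp
    rw [this, commutatorElement_def]
    exact L'.mul_mem (L'.mul_mem (L'.mul_mem hb1 hb2) (L'.inv_mem hb1)) (L'.inv_mem hb2)
  have hUL' : ∀ a b : F, uZ hF a b ∈ L' := by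
    intro a b
    by_cases ha : a = 0
    · rw [ha]; exact hcen b
    obtain ⟨b', hb'⟩ := hne a ha
    have : uZ hF a b = uZ hF a b' * uZ hF 0 (b + b') := by
      rw [uZ_mul, mul_zero, add_zero, add_zero]
      congr 1
      rw [add_comm b b', ← add_assoc, add_self' h2, zero_add]
    rw [this]
    exact L'.mul_mem hb' (hcen _)
  have hW : ∀ a b : F, w * uZ hF a b * w ∈ L := fun a b => (memL' _).mp (hUL' a b)
  -- now `U ≤ L`
  have hU : ∀ a b : F, uZ hF a b ∈ L := by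
    intro a b
    -- `u⁻¹ * uZ a b * u ∈ U`
    obtain ⟨a', b', hab⟩ : ∃ a' b' : F, u⁻¹ * uZ hF a b * u = uZ hF a' b' := by
      rw [hu, uZ_inv, uZ_mul, uZ_mul]
      exact ⟨_, _, rfl⟩
    have e : uZ hF a b = y * (w * uZ hF a' b' * w) * y⁻¹ := by
      rw [← hab, hy, mul_inv_rev, hw, wZ_inv]
      have hww' : wZ hF * wZ hF = 1 := wZ_mul_wZ hF
      calc uZ hF a b = u * (u⁻¹ * uZ hF a b * u) * u⁻¹ := by group
        _ = u * ((wZ hF * wZ hF) * (u⁻¹ * uZ hF a b * u) * (wZ hF * wZ hF)) * u⁻¹ := by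
            rw [hww', one_mul, mul_one]
        _ = u * wZ hF * (wZ hF * (u⁻¹ * uZ hF a b * u) * wZ hF) * (wZ hF * u⁻¹) := by
            simp only [mul_assoc]
    rw [e]
    exact L.mul_mem (L.mul_mem hyL (hW _ _)) (L.inv_mem hyL)
  exact eq_top_of_U_wUw hF hm L hU hW

end Cfsg.Agent.Lib.Helper4.Suz
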