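import Mathlib
import Cfsg.Prelude.Def_LieExceptional
import Cfsg.Agent.Lib.Helper4.Suz22
import Cfsg.Agent.Lib.Helper4.RepAvg

/-!
# Suzuki groups, part 23: the absolute trace, the canonical additive character
-/

set_option autoImplicit false
set_option linter.unusedSimpArgs false
set_option linter.unusedVariables false
set_option linter.style.haveILetI false

namespace Cfsg.Agent.Lib.Helper4.Suz

open MulAction Polynomial

variable {F : Type*} [Field F] [Fintype F] {m : ℕ}

/-- The absolute trace of `F = GF(2^(2m+1))`, as an element of `F`. -/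
def Tr (m : ℕ) (x : F) : F := ∑ i ∈ Finset.range (2 * m + 1), x ^ (2 ^ i)

theorem Tr_add (hF : Fintype.card F = 2 ^ (2 * m + 1)) (x y : F) :
    Tr m (x + y) = Tr m x + Tr m y := by
  haveI : CharP F 2 := CharTwo.of_one_ne_zero_of_two_eq_zero one_ne_zero (two_eq_zero hF)
  unfold Tr
  rw [← Finset.sum_add_distrib]
  exact Finset.sum_congr rfl (fun i _ => add_pow_char_pow x y 2 i)

theorem Tr_zero : Tr m (0 : F) = 0 := by
  unfold Tr
  apply Finset.sum_eq_zero
  intro i _
  exact zero_pow (by positivity)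

theorem sum_shift (hF : Fintype.card F = 2 ^ (2 * m + 1)) (x : F) :
    ∑ i ∈ Finset.range (2 * m + 1), x ^ (2 ^ (i + 1)) = Tr m x := by
  unfold Tr
  have h1 := Finset.sum_range_succ' (fun i => x ^ (2 ^ i)) (2 * m + 1)
  have h2 := Finset.sum_range_succ (fun i => x ^ (2 ^ i)) (2 * m + 1)
  have h3 : x ^ (2 ^ (2 * m + 1)) = x := by rw [← hF, FiniteField.pow_card]
  simp only [pow_zero, pow_one] at h1
  rw [h3] at h2
  exact add_right_cancel (h1.symm.trans h2)

theorem Tr_sq' (hF : Fintype.card F = 2 ^ (2 * m + 1)) (x : F) : Tr m (x ^ 2) = Tr m x := by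
  rw [← sum_shift hF x]
  unfold Tr
  apply Finset.sum_congr rfl
  intro i _
  rw [← pow_mul, pow_succ']

theorem Tr_sq (hF : Fintype.card F = 2 ^ (2 * m + 1)) (x : F) : Tr m x ^ 2 = Tr m x := by
  haveI : CharP F 2 := CharTwo.of_one_ne_zero_of_two_eq_zero one_ne_zero (two_eq_zero hF)
  have h1 : Tr m x ^ 2 = ∑ i ∈ Finset.range (2 * m + 1), x ^ (2 ^ (i + 1)) := by
    unfold Tr
    rw [sum_pow_char]
    apply Finset.sum_congr rfl
    intro i _
    rw [← pow_mul, pow_succ]
  rw [h1, sum_shift hF x]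

theorem Tr_cases (hF : Fintype.card F = 2 ^ (2 * m + 1)) (x : F) : Tr m x = 0 ∨ Tr m x = 1 := by
  have h := Tr_sq hF x
  have h2 : Tr m x * (Tr m x - 1) = 0 := by rw [mul_sub, mul_one, ← pow_two, h, sub_self]
  rcases mul_eq_zero.mp h2 with h3 | h3
  · left; exact h3
  · right; exact sub_eq_zero.mp h3

theorem Tr_pow_two_pow (hF : Fintype.card F = 2 ^ (2 * m + 1)) (x : F) (j : ℕ) :
    Tr m (x ^ (2 ^ j)) = Tr m x := by
  induction j with
  | zero => simp
  | succ j ih => rw [pow_succ, pow_mul, Tr_sq' hF, ih]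

theorem Tr_th (hF : Fintype.card F = 2 ^ (2 * m + 1)) (x : F) : Tr m (th m x) = Tr m x :=
  Tr_pow_two_pow hF x (m + 1)

theorem Tr_one (hF : Fintype.card F = 2 ^ (2 * m + 1)) : Tr m (1 : F) = 1 := by
  have h2 := two_eq_zero hF
  unfold Tr
  simp only [one_pow, Finset.sum_const, Finset.card_range, nsmul_eq_mul, mul_one]
  push_cast
  rw [h2, zero_mul, zero_add]

theorem Tr_nondeg (hF : Fintype.card F = 2 ^ (2 * m + 1)) {ν : F} (hν : ν ≠ 0) :
    ∃ s : F, Tr m (ν * s) ≠ 0 := by
  by_contra hcon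
  have hall : ∀ s : F, Tr m (ν * s) = 0 := by
    intro s
    by_contra h
    exact hcon ⟨s, h⟩
  set P : F[X] := ∑ i ∈ Finset.range (2 * m + 1), C (ν ^ (2 ^ i)) * X ^ (2 ^ i) with hP
  have heval : ∀ s : F, P.eval s = 0 := by
    intro s
    rw [hP, eval_finsetSum, ← hall s]
    unfold Tr
    apply Finset.sum_congr rfl
    intro i _
    rw [eval_mul, eval_C, eval_pow, eval_X, mul_pow]
  have hdeg : P.natDegree ≤ 2 ^ (2 * m) := by
    apply natDegree_sum_le_of_forall_le
    intro i hi
    refine (natDegree_C_mul_X_pow_le _ _).trans ?_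
    apply Nat.pow_le_pow_right (by norm_num)
    have := Finset.mem_range.mp hi
    omega
  have hzero : P = 0 := by
    apply eq_zero_of_natDegree_lt_card_of_eval_eq_zero P (f := (id : F → F))
      Function.injective_id heval
    rw [hF]
    refine lt_of_le_of_lt hdeg ?_
    exact Nat.pow_lt_pow_right (by norm_num) (by omega)
  have hc : P.coeff 1 = ν := by
    rw [hP, finsetSum_coeff]
    rw [Finset.sum_eq_single 0]
    · simp
    · intro i _ hi
      rw [coeff_C_mul_X_pow]
      have : (1 : ℕ) ≠ 2 ^ i := by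
        intro h
        have h2 : 2 ^ 1 ≤ 2 ^ i := Nat.pow_le_pow_right (by norm_num) (by omega)
        omega
      rw [if_neg this]
    · intro h
      exact absurd (Finset.mem_range.mpr (by omega)) h
  rw [hzero, coeff_zero] at hc
  exact hν hc.symm

/-- The canonical additive character of `F` with values `±1`. -/
noncomputable def psi (m : ℕ) (x : F) : ℂ := by
  classical
  exact if Tr m x = 0 then 1 else -1

theorem psi_of_zero {x : F} (h : Tr m x = 0) : psi m x = 1 := by
  classical
  unfold psi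
  rw [if_pos h]

theorem psi_of_ne {x : F} (h : Tr m x ≠ 0) : psi m x = -1 := by
  classical
  unfold psi
  rw [if_neg h]

theorem psi_zero : psi m (0 : F) = 1 := psi_of_zero Tr_zero

theorem psi_add (hF : Fintype.card F = 2 ^ (2 * m + 1)) (x y : F) :
    psi m (x + y) = psi m x * psi m y := by
  have h2 := two_eq_zero hF
  have hadd := Tr_add hF x y
  rcases Tr_cases hF x with hx | hx <;> rcases Tr_cases hF y with hy | hy
  · have e1 : psi m x = 1 := psi_of_zero hx
    have e2 : psi m y = 1 := psi_of_zero hy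
    have e3 : psi m (x + y) = 1 := psi_of_zero (by rw [hadd, hx, hy, add_zero])
    rw [e1, e2, e3]; norm_num
  · have e1 : psi m x = 1 := psi_of_zero hx
    have e2 : psi m y = -1 := psi_of_ne (by rw [hy]; exact one_ne_zero)
    have e3 : psi m (x + y) = -1 := psi_of_ne (by rw [hadd, hx, hy, zero_add]; exact one_ne_zero)
    rw [e1, e2, e3]; norm_num
  · have e1 : psi m x = -1 := psi_of_ne (by rw [hx]; exact one_ne_zero)
    have e2 : psi m y = 1 := psi_of_zero hy
    have e3 : psi m (x + y) = -1 := psi_of_ne (by rw [hadd, hx, hy, add_zero]; exact one_ne_zero)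
    rw [e1, e2, e3]; norm_num
  · have e1 : psi m x = -1 := psi_of_ne (by rw [hx]; exact one_ne_zero)
    have e2 : psi m y = -1 := psi_of_ne (by rw [hy]; exact one_ne_zero)
    have e3 : psi m (x + y) = 1 := psi_of_zero (by rw [hadd, hx, hy]; exact add_self' h2 1)
    rw [e1, e2, e3]; norm_num

theorem psi_th (hF : Fintype.card F = 2 ^ (2 * m + 1)) (x : F) : psi m (th m x) = psi m x := by
  classical
  unfold psi
  rw [Tr_th hF]

theorem psi_nondeg (hF : Fintype.card F = 2 ^ (2 * m + 1)) {ν : F} (hν : ν ≠ 0) :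
    ∃ s : F, psi m (ν * s) = -1 := by
  obtain ⟨s, hs⟩ := Tr_nondeg hF hν
  exact ⟨s, psi_of_ne hs⟩

theorem psi_mul_self (hF : Fintype.card F = 2 ^ (2 * m + 1)) (x : F) : psi m x * psi m x = 1 := by
  rw [← psi_add hF, add_self' (two_eq_zero hF), psi_zero]

theorem sum_psi (hF : Fintype.card F = 2 ^ (2 * m + 1)) : ∑ x : F, psi m x = 0 := by
  obtain ⟨s, hs⟩ := psi_nondeg hF (one_ne_zero : (1 : F) ≠ 0)
  rw [one_mul] at hs
  have h1 : ∑ x : F, psi m x = ∑ x : F, psi m (x + s) :=
    (Equiv.sum_comp (Equiv.addRight s) (fun x => psi m x)).symm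
  have h2 : ∑ x : F, psi m (x + s) = - ∑ x : F, psi m x := by
    rw [← Finset.sum_neg_distrib]
    apply Finset.sum_congr rfl
    intro x _
    rw [psi_add hF, hs]; ring
  have h3 : (2 : ℂ) * ∑ x : F, psi m x = 0 := by linear_combination h1.trans h2
  rcases mul_eq_zero.mp h3 with h | h
  · norm_num at h
  · exact h

/-- The kernel of the trace has at least `q/2` elements. -/
theorem card_ker_Tr (hF : Fintype.card F = 2 ^ (2 * m + 1)) :
    2 ^ (2 * m) ≤ Nat.card {a : F // Tr m a = 0} := by
  classical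
  have h2 := two_eq_zero hF
  let f : F → {a : F // Tr m a = 0} × Bool := fun x =>
    if h : Tr m x = 0 then (⟨x, h⟩, true) else (⟨x + 1, by
      rw [Tr_add hF, Tr_one hF]
      rcases Tr_cases hF x with h' | h'
      · exact absurd h' h
      · rw [h']; exact add_self' h2 1⟩, false)
  have hf : Function.Injective f := by
    intro x y hxy
    by_cases hx : Tr m x = 0 <;> by_cases hy : Tr m y = 0
    · simp only [f, dif_pos hx, dif_pos hy, Prod.mk.injEq, Subtype.mk.injEq] at hxy
      exact hxy.1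
    · simp only [f, dif_pos hx, dif_neg hy, Prod.mk.injEq] at hxy
      exact absurd hxy.2 (by simp)
    · simp only [f, dif_neg hx, dif_pos hy, Prod.mk.injEq] at hxy
      exact absurd hxy.2 (by simp)
    · simp only [f, dif_neg hx, dif_neg hy, Prod.mk.injEq, Subtype.mk.injEq] at hxy
      exact add_right_cancel hxy.1
  have hle := Fintype.card_le_of_injective f hf
  rw [hF, Fintype.card_prod, Fintype.card_bool] at hle
  rw [Nat.card_eq_fintype_card]
  have : 2 ^ (2 * m + 1) = 2 ^ (2 * m) * 2 := pow_succ 2 (2 * m)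
  omega

end Cfsg.Agent.Lib.Helper4.Suz
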