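import Mathlib
import Cfsg.Prelude.Def_LieExceptional
import Cfsg.Agent.Lib.Helper4.Suz23

/-!
# Suzuki groups, part 24: the minimal degree of a faithful complex representation
-/

set_option autoImplicit false
set_option linter.unusedSimpArgs false
set_option linter.unusedVariables false
set_option linter.style.haveILetI false

namespace Cfsg.Agent.Lib.Helper4.Suz

open MulAction

variable {F : Type*} [Field F] [Fintype F] {m : ℕ}

/-- A faithful complex representation of `Sz(q)` has degree at least `2^m (q-1)`. -/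
theorem min_degree (hF : Fintype.card F = 2 ^ (2 * m + 1)) (hm : 1 ≤ m)
    {V : Type*} [AddCommGroup V] [Module ℂ V] [FiniteDimensional ℂ V]
    (ρ : Representation ℂ (Cfsg.Sz F m) V) (hinj : Function.Injective ρ) :
    2 ^ m * (2 ^ (2 * m + 1) - 1) ≤ Module.finrank ℂ V := by
  classical
  have h2 := two_eq_zero hF
  obtain ⟨k, hk⟩ : ∃ k : ℕ, k = Module.finrank ℂ V := ⟨_, rfl⟩
  obtain ⟨q, hq⟩ : ∃ q : ℕ, q = 2 ^ (2 * m + 1) := ⟨_, rfl⟩
  have hqF : Fintype.card F = q := by rw [hq]; exact hF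
  have hq1 : 1 ≤ q := by rw [hq]; exact Nat.one_le_two_pow
  have hqne : (q : ℂ) ≠ 0 := by
    have : q ≠ 0 := by omega
    exact_mod_cast this
  rw [← hk, ← hq]
  -- the operators of the centre of `U`
  obtain ⟨E, hE⟩ : ∃ E : F → Module.End ℂ V, E = fun b => ρ (uZ hF 0 b) := ⟨_, rfl⟩
  have hEb : ∀ b, E b = ρ (uZ hF 0 b) := fun b => by rw [hE]
  have hEadd : ∀ a b, E (a + b) = E a * E b := by
    intro a b
    rw [hEb, hEb, hEb, ← map_mul, uZ_mul, th_zero, zero_mul, add_zero, add_zero]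
  have hE0 : E 0 = 1 := by rw [hEb, uZ_zero, map_one]
  obtain ⟨c₀, hc₀⟩ : ∃ c₀ : ℂ, c₀ = LinearMap.trace ℂ V (E 1) := ⟨_, rfl⟩
  have htr : ∀ b : F, b ≠ 0 → LinearMap.trace ℂ V (E b) = c₀ := by
    intro b hb
    obtain ⟨z, hz⟩ := exists_multiplier hF (Units.mk0 b hb)
    have e : uZ hF 0 b = hZ hF z * uZ hF 0 1 * (hZ hF z)⁻¹ := by
      rw [hZ_uZ_hZ, mul_zero, mul_one, hz, Units.val_mk0]
    have e2 : ρ (hZ hF z * uZ hF 0 1 * (hZ hF z)⁻¹)
        = ρ (hZ hF z) * ρ (uZ hF 0 1) * ρ ((hZ hF z)⁻¹) := by rw [map_mul, map_mul]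
    have e3 : ρ ((hZ hF z)⁻¹) * ρ (hZ hF z) = 1 := by rw [← map_mul, inv_mul_cancel, map_one]
    rw [hc₀, hEb, hEb, e, e2, LinearMap.trace_mul_comm, ← mul_assoc, e3, one_mul]
  have hsum : ∀ ψ : F → ℂ, ψ 0 = 1 →
      ∑ a, ψ (-a) * LinearMap.trace ℂ V (E a) = c₀ * ∑ a, ψ a + ((k : ℂ) - c₀) := by
    intro ψ hψ0
    have : ∀ a : F, ψ (-a) * LinearMap.trace ℂ V (E a)
        = c₀ * ψ a + (if a = 0 then ((k : ℂ) - c₀) else 0) := by
      intro a
      rw [neg_eq' h2]
      by_cases ha : a = 0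
      · rw [if_pos ha, ha, hψ0, hE0, LinearMap.trace_one, ← hk]; ring
      · rw [if_neg ha, htr a ha]; ring
    rw [Finset.sum_congr rfl (fun a _ => this a), Finset.sum_add_distrib, ← Finset.mul_sum]
    simp
  -- the two idempotents
  obtain ⟨e1, he1⟩ : ∃ e1, e1 = RepAvg.avg E (fun _ => (1 : ℂ)) := ⟨_, rfl⟩
  obtain ⟨eψ, heψ⟩ : ∃ eψ, eψ = RepAvg.avg E (psi m) := ⟨_, rfl⟩
  have hid1 : e1 * e1 = e1 := by
    rw [he1]; exact RepAvg.avg_mul_avg E _ hEadd (fun _ _ => (one_mul 1).symm) rfl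
  have hidψ : eψ * eψ = eψ := by
    rw [heψ]; exact RepAvg.avg_mul_avg E _ hEadd (psi_add hF) psi_zero
  obtain ⟨n1, hn1⟩ : ∃ n1 : ℕ, n1 = Module.finrank ℂ (LinearMap.range e1) := ⟨_, rfl⟩
  obtain ⟨n, hn⟩ : ∃ n : ℕ, n = Module.finrank ℂ (LinearMap.range eψ) := ⟨_, rfl⟩
  have ht1 : (q : ℂ) * n1 = c₀ * q + ((k : ℂ) - c₀) := by
    have := RepAvg.trace_idem e1 hid1
    have hs1 := hsum (fun _ => (1 : ℂ)) rfl
    beta_reduce at hs1
    rw [he1, RepAvg.trace_avg, hs1, hqF, ← he1, ← hn1] at this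
    rw [← this]
    simp only [Finset.sum_const, Finset.card_univ, hqF, nsmul_eq_mul, mul_one]
    field_simp
  have htψ : (q : ℂ) * n = (k : ℂ) - c₀ := by
    have := RepAvg.trace_idem eψ hidψ
    rw [heψ, RepAvg.trace_avg, hsum _ psi_zero, hqF, sum_psi hF, ← heψ, ← hn] at this
    rw [← this]
    field_simp
    ring
  have hkn : k = n1 + (q - 1) * n := by
    have h : (q : ℂ) * k = q * ((n1 : ℂ) + ((q : ℂ) - 1) * n) := by
      linear_combination (-1 : ℂ) * ht1 - ((q : ℂ) - 1) * htψ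
    have h' := mul_left_cancel₀ hqne h
    have : (k : ℂ) = ((n1 + (q - 1) * n : ℕ) : ℂ) := by
      rw [h']; push_cast [Nat.cast_sub hq1]; ring
    exact_mod_cast this
  -- the `ψ`-part is not zero
  have hn0 : n ≠ 0 := by
    intro h0
    have hck : c₀ = k := by
      rw [h0] at htψ
      simp only [Nat.cast_zero, mul_zero] at htψ
      linear_combination htψ
    have hn1k : n1 = k := by
      rw [hkn, h0, mul_zero, add_zero]
    have htop : LinearMap.range e1 = ⊤ := by
      apply Submodule.eq_top_of_finrank_eq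
      rw [← hn1, hn1k, hk]
    have hE1 : E 1 = 1 := by
      ext v
      have hv : v ∈ LinearMap.range e1 := by rw [htop]; trivial
      rw [he1] at hv
      have := RepAvg.apply_of_mem_range E (fun _ => (1 : ℂ)) hEadd
        (fun _ _ => (one_mul 1).symm) 1 hv
      simpa using this
    have h1 : uZ hF 0 (1 : F) = 1 := by
      apply hinj
      rw [← hEb, hE1, map_one]
    exact uZ_zero_ne_one hF one_ne_zero h1
  -- the restricted operators
  have hcomm : ∀ a b c : F, ρ (uZ hF a b) * E c = E c * ρ (uZ hF a b) := by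
    intro a b c
    rw [hEb, ← map_mul, ← map_mul, uZ_mul, uZ_mul, th_zero, zero_mul, mul_zero, add_zero, add_zero,
      zero_add, add_zero, add_comm b c]
  have hinv : ∀ a b : F, ∀ w ∈ LinearMap.range eψ, ρ (uZ hF a b) w ∈ LinearMap.range eψ := by
    intro a b w hw
    rw [heψ] at hw ⊢
    exact RepAvg.mapsTo_range E (psi m) _ (hcomm a b) hw
  obtain ⟨S, hS⟩ : ∃ S : F → F → Module.End ℂ (LinearMap.range eψ),
      S = fun a b => (ρ (uZ hF a b)).restrict (hinv a b) := ⟨_, rfl⟩
  have hSapp : ∀ a b (w : LinearMap.range eψ), ((S a b) w : V) = ρ (uZ hF a b) w := by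
    intro a b w
    rw [hS]
    rfl
  have hSmul : ∀ a b c d, S a b * S c d = S (a + c) (b + d + th m a * c) := by
    intro a b c d
    ext w
    rw [Module.End.mul_apply, hSapp, hSapp, hSapp, ← uZ_mul, map_mul]
    rfl
  have hS0 : ∀ b, S 0 b = psi m b • (1 : Module.End ℂ (LinearMap.range eψ)) := by
    intro b
    ext w
    rw [hSapp, LinearMap.smul_apply, Module.End.one_apply, Submodule.coe_smul, ← hEb]
    have hw : (w : V) ∈ LinearMap.range (RepAvg.avg E (psi m)) := by
      rw [← heψ]; exact w.2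
    exact RepAvg.apply_of_mem_range E (psi m) hEadd (psi_add hF) b hw
  have hS00 : S 0 0 = 1 := by rw [hS0, psi_zero, one_smul]
  have hSinv : ∀ a : F, S a (a * th m a) * S a 0 = 1 := by
    intro a
    rw [hSmul, ← hS00]
    congr 1
    · exact add_self' h2 a
    · linear_combination (a * th m a) * h2
  -- vanishing of traces
  have htr0 : ∀ a b : F, a ^ 2 + a ≠ 0 →
      LinearMap.trace ℂ (LinearMap.range eψ) (S a b) = 0 := by
    intro a b ha
    obtain ⟨s, hs⟩ := psi_nondeg hF ha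
    obtain ⟨c, hc⟩ := th_surjective hF s
    have hβ : psi m (th m c * a + th m a * c) = -1 := by
      rw [psi_add hF, ← psi_th hF (th m a * c), th_mul, th_th hF, ← psi_add hF]
      have : th m c * a + a ^ 2 * th m c = (a ^ 2 + a) * s := by rw [hc]; ring
      rw [this, hs]
    apply RepAvg.trace_eq_zero_of_conj (β := -1) (B := S c 0) (B' := S c (c * th m c))
      (by norm_num) (hSinv c)
    have e1 : S c 0 * S a b * S c (c * th m c)
        = S 0 (th m c * a + th m a * c) * S a b := by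
      rw [hSmul, hSmul, hSmul]
      congr 1
      · linear_combination c * h2
      · rw [th_add hF, th_zero]
        linear_combination (th m c * c) * h2
    rw [e1, hS0, hβ, smul_mul_assoc, one_mul]
  -- the independent family
  have hcard := RepAvg.card_le_sq_finrank (V := LinearMap.range eψ) (by rw [← hn]; exact hn0)
    (fun i : {a : F // Tr m a = 0} => S i.1 0)
    (fun i : {a : F // Tr m a = 0} => S i.1 (i.1 * th m i.1))
    (fun i => hSinv i.1)
    (by
      intro i j hij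
      rw [hSmul]
      apply htr0
      intro h
      have h3 : (j.1 + i.1) * (j.1 + i.1 + 1) = 0 := by linear_combination h
      rcases mul_eq_zero.mp h3 with h4 | h4
      · apply hij
        apply Subtype.ext
        exact (eq_of_add_eq_zero h2 h4).symm
      · have h5 : j.1 + i.1 = 1 := eq_of_add_eq_zero h2 h4
        have h6 : Tr m (j.1 + i.1) = 0 := by rw [Tr_add hF, i.2, j.2, add_zero]
        rw [h5, Tr_one hF] at h6
        exact one_ne_zero h6)
  rw [← hn] at hcard
  have h7 : 2 ^ (2 * m) ≤ n ^ 2 := by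
    refine le_trans (card_ker_Tr hF) ?_
    rw [Nat.card_eq_fintype_card]
    exact hcard
  have h8 : 2 ^ m ≤ n := by
    have : (2 ^ m) ^ 2 ≤ n ^ 2 := by rw [← pow_mul, mul_comm]; exact h7
    exact (Nat.pow_le_pow_iff_left (by norm_num)).mp this
  rw [hkn]
  calc 2 ^ m * (q - 1) ≤ n * (q - 1) := Nat.mul_le_mul_right _ h8
    _ = (q - 1) * n := mul_comm _ _
    _ ≤ n1 + (q - 1) * n := Nat.le_add_left _ _

end Cfsg.Agent.Lib.Helper4.Suz
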