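import Mathlib
import Cfsg.Prelude.Def_LieExceptional
import Cfsg.Agent.Lib.Helper4.Suz24

/-!
# Suzuki groups, part 25: field automorphisms, uniqueness in the big cell
-/

set_option autoImplicit false
set_option linter.unusedSimpArgs false
set_option linter.unusedVariables false
set_option linter.style.haveILetI false

namespace Cfsg.Agent.Lib.Helper4.Suz

open MulAction Matrix

variable {F : Type*} [Field F] [Fintype F] {m : ℕ}

omit [Fintype F] in
theorem map_th (σ : F →+* F) (x : F) : σ (th m x) = th m (σ x) := by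
  unfold th
  rw [map_pow]

omit [Fintype F] in
theorem map_ff (σ : F →+* F) (x y : F) : σ (ff m x y) = ff m (σ x) (σ y) := by
  unfold ff
  rw [map_add, map_add, map_mul, map_mul, map_pow, map_th, map_th]

omit [Fintype F] in
theorem map_uS (σ : F →+* F) (a b : F) :
    SpecialLinearGroup.map σ (uS m a b) = uS m (σ a) (σ b) := by
  apply Subtype.ext
  change σ.mapMatrix (uM m a b) = uM m (σ a) (σ b)
  ext i j
  rw [RingHom.mapMatrix_apply, Matrix.map_apply]
  fin_cases i <;> fin_cases j <;> simp [uM, map_th, map_ff]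

omit [Fintype F] in
theorem map_hS (σ : F →+* F) (z : Fˣ) :
    SpecialLinearGroup.map σ (hS m z) = hS m (Units.map (σ : F →* F) z) := by
  apply Subtype.ext
  change σ.mapMatrix (hM m (z : F)) = hM m ((Units.map (σ : F →* F) z : Fˣ) : F)
  ext i j
  rw [RingHom.mapMatrix_apply, Matrix.map_apply]
  fin_cases i <;> fin_cases j <;> simp [hM, map_th]

theorem map_wS (hF : Fintype.card F = 2 ^ (2 * m + 1)) (σ : F →+* F) :
    SpecialLinearGroup.map σ (wS hF) = wS hF := by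
  apply Subtype.ext
  change σ.mapMatrix (wM : Matrix (Fin 4) (Fin 4) F) = wM
  ext i j
  rw [RingHom.mapMatrix_apply, Matrix.map_apply]
  fin_cases i <;> fin_cases j <;> simp [wM]

/-- Entrywise field homomorphisms preserve the Suzuki group. -/
theorem map_mem (hF : Fintype.card F = 2 ^ (2 * m + 1)) (hm : 1 ≤ m) (σ : F →+* F)
    (g : Cfsg.Sz F m) : SpecialLinearGroup.map σ g.1 ∈ Cfsg.Sz F m := by
  rcases bruhat hF hm g with ⟨a, b, z, h⟩ | ⟨a, b, a', b', z, h⟩
  · have h' : g.1 = uS m a b * hS m z := congrArg Subtype.val h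
    rw [h', map_mul, map_uS, map_hS]
    exact (Cfsg.Sz F m).mul_mem (uS_mem hF _ _) (hS_mem hF _)
  · have h' : g.1 = uS m a b * wS hF * (uS m a' b' * hS m z) := congrArg Subtype.val h
    rw [h', map_mul, map_mul, map_mul, map_uS, map_uS, map_hS, map_wS]
    exact (Cfsg.Sz F m).mul_mem ((Cfsg.Sz F m).mul_mem (uS_mem hF _ _) (wS_mem hF))
      ((Cfsg.Sz F m).mul_mem (uS_mem hF _ _) (hS_mem hF _))

/-- The endomorphism of `Sz(q)` induced by a field homomorphism. -/
noncomputable def fieldHom (hF : Fintype.card F = 2 ^ (2 * m + 1)) (hm : 1 ≤ m) (σ : F →+* F) :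
    Cfsg.Sz F m →* Cfsg.Sz F m where
  toFun g := ⟨SpecialLinearGroup.map σ g.1, map_mem hF hm σ g⟩
  map_one' := by
    apply Subtype.ext
    simp
  map_mul' x y := by
    apply Subtype.ext
    simp

theorem fieldHom_uZ (hF : Fintype.card F = 2 ^ (2 * m + 1)) (hm : 1 ≤ m) (σ : F →+* F) (a b : F) :
    fieldHom hF hm σ (uZ hF a b) = uZ hF (σ a) (σ b) :=
  Subtype.ext (map_uS σ a b)

theorem fieldHom_hZ (hF : Fintype.card F = 2 ^ (2 * m + 1)) (hm : 1 ≤ m) (σ : F →+* F) (z : Fˣ) :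
    fieldHom hF hm σ (hZ hF z) = hZ hF (Units.map (σ : F →* F) z) :=
  Subtype.ext (map_hS σ z)

theorem fieldHom_wZ (hF : Fintype.card F = 2 ^ (2 * m + 1)) (hm : 1 ≤ m) (σ : F →+* F) :
    fieldHom hF hm σ (wZ hF) = wZ hF :=
  Subtype.ext (map_wS hF σ)

theorem fieldHom_comp (hF : Fintype.card F = 2 ^ (2 * m + 1)) (hm : 1 ≤ m) (σ τ : F →+* F)
    (g : Cfsg.Sz F m) : fieldHom hF hm σ (fieldHom hF hm τ g) = fieldHom hF hm (σ.comp τ) g := by
  apply Subtype.ext
  apply Subtype.ext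
  ext i j
  simp [fieldHom]

theorem fieldHom_id (hF : Fintype.card F = 2 ^ (2 * m + 1)) (hm : 1 ≤ m)
    (g : Cfsg.Sz F m) : fieldHom hF hm (RingHom.id F) g = g := by
  apply Subtype.ext
  apply Subtype.ext
  ext i j
  simp [fieldHom]

/-- The automorphism of `Sz(q)` induced by a field automorphism. -/
noncomputable def fieldAut (hF : Fintype.card F = 2 ^ (2 * m + 1)) (hm : 1 ≤ m) (σ : F ≃+* F) :
    MulAut (Cfsg.Sz F m) :=
  { fieldHom hF hm (σ : F →+* F) with
    invFun := fieldHom hF hm (σ.symm : F →+* F)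
    left_inv := by
      intro g
      show fieldHom hF hm (σ.symm : F →+* F) (fieldHom hF hm (σ : F →+* F) g) = g
      rw [fieldHom_comp]
      have : (σ.symm : F →+* F).comp (σ : F →+* F) = RingHom.id F := by
        ext x; simp
      rw [this, fieldHom_id]
    right_inv := by
      intro g
      show fieldHom hF hm (σ : F →+* F) (fieldHom hF hm (σ.symm : F →+* F) g) = g
      rw [fieldHom_comp]
      have : (σ : F →+* F).comp (σ.symm : F →+* F) = RingHom.id F := by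
        ext x; simp
      rw [this, fieldHom_id] }

theorem fieldAut_uZ (hF : Fintype.card F = 2 ^ (2 * m + 1)) (hm : 1 ≤ m) (σ : F ≃+* F) (a b : F) :
    fieldAut hF hm σ (uZ hF a b) = uZ hF (σ a) (σ b) :=
  fieldHom_uZ hF hm (σ : F →+* F) a b

theorem fieldAut_hZ (hF : Fintype.card F = 2 ^ (2 * m + 1)) (hm : 1 ≤ m) (σ : F ≃+* F) (z : Fˣ) :
    fieldAut hF hm σ (hZ hF z) = hZ hF (Units.map ((σ : F →+* F) : F →* F) z) :=
  fieldHom_hZ hF hm (σ : F →+* F) z

theorem fieldAut_wZ (hF : Fintype.card F = 2 ^ (2 * m + 1)) (hm : 1 ≤ m) (σ : F ≃+* F) :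
    fieldAut hF hm σ (wZ hF) = wZ hF :=
  fieldHom_wZ hF hm (σ : F →+* F)

/-- Uniqueness of the big-cell decomposition. -/
theorem bigcell_unique (hF : Fintype.card F = 2 ^ (2 * m + 1)) {a b c d a' b' c' d' : F}
    {z z' : Fˣ}
    (h : uZ hF a b * wZ hF * (uZ hF c d * hZ hF z) = uZ hF a' b' * wZ hF * (uZ hF c' d' * hZ hF z')) :
    a = a' ∧ b = b' ∧ c = c' ∧ d = d' ∧ z = z' := by
  have h0 := congrArg (fun g : Cfsg.Sz F m => g • oInf F m) h
  simp only [mul_smul, hZ_smul_oInf, uZ_smul_oInf, wZ_smul_oInf, uZ_smul_zero] at h0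
  obtain ⟨ha, hb⟩ := oPt_inj h0
  subst ha hb
  have h1 : uZ hF c d * hZ hF z = uZ hF c' d' * hZ hF z' := mul_left_cancel h
  obtain ⟨hc, hd, hz⟩ := borel_unique hF h1
  exact ⟨rfl, rfl, hc, hd, hz⟩

/-- The big-cell form of `w u w`. -/
theorem wZ_uZ_wZ (hF : Fintype.card F = 2 ^ (2 * m + 1)) (hm : 1 ≤ m) {a b : F}
    (hab : a ≠ 0 ∨ b ≠ 0) :
    ∃ (a' b' : F) (z : Fˣ), (z : F) * th m (z : F) = ff m a b ∧
      wZ hF * uZ hF a b * wZ hF =
        uZ hF (b / ff m a b) (a / ff m a b) * wZ hF * (uZ hF a' b' * hZ hF z) := by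
  obtain ⟨a', b', z, hz, h⟩ := bruhat_key hF hm hab
  refine ⟨a', b', z, hz, ?_⟩
  rw [← h]
  have hw : wZ hF * wZ hF = 1 := wZ_mul_wZ hF
  set u₁ := uZ hF (b / ff m a b) (a / ff m a b) with hu₁
  calc wZ hF * uZ hF a b * wZ hF
      = (u₁ * (wZ hF * wZ hF) * u₁⁻¹) * (wZ hF * uZ hF a b * wZ hF) := by
        rw [hw, mul_one, mul_inv_cancel, one_mul]
    _ = u₁ * wZ hF * (wZ hF * u₁⁻¹ * wZ hF * uZ hF a b * wZ hF) := by
        simp only [mul_assoc]

/-- Two automorphisms that agree on `U`, `T` and `w` are equal. -/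
theorem aut_ext (hF : Fintype.card F = 2 ^ (2 * m + 1)) (hm : 1 ≤ m) {G' : Type*} [Group G']
    (α β : Cfsg.Sz F m →* G')
    (hu : ∀ a b, α (uZ hF a b) = β (uZ hF a b)) (hh : ∀ z, α (hZ hF z) = β (hZ hF z))
    (hw : α (wZ hF) = β (wZ hF)) : α = β := by
  ext g
  rcases bruhat hF hm g with ⟨a, b, z, h⟩ | ⟨a, b, a', b', z, h⟩
  · rw [h, map_mul, map_mul, hu, hh]
  · rw [h, map_mul, map_mul, map_mul, map_mul, map_mul, map_mul, hu, hu, hh, hw]

end Cfsg.Agent.Lib.Helper4.Suz
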