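import Mathlib
import Cfsg.Prelude.Def_LieExceptional
import Cfsg.Agent.Lib.Helper4.Suz25

/-!
# Suzuki groups, part 26: automorphisms normalising `U`, `T` and fixing `w`
-/

set_option autoImplicit false
set_option linter.unusedSimpArgs false
set_option linter.unusedVariables false
set_option linter.style.haveILetI false

namespace Cfsg.Agent.Lib.Helper4.Suz

open MulAction Matrix

variable {F : Type*} [Field F] [Fintype F] {m : ℕ}

theorem uZ_split (hF : Fintype.card F = 2 ^ (2 * m + 1)) (a b : F) :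
    uZ hF a b = uZ hF a 0 * uZ hF 0 b := by
  rw [uZ_mul, mul_zero, add_zero, add_zero, zero_add]

theorem uZ_sq (hF : Fintype.card F = 2 ^ (2 * m + 1)) (a b : F) :
    uZ hF a b * uZ hF a b = uZ hF 0 (a * th m a) := by
  have h2 := two_eq_zero hF
  rw [uZ_mul, add_self' h2, add_self' h2, zero_add, mul_comm]

/-- If `α (u(a,b)) = u(a',b')` then `a = 0` forces `a' = 0`. -/
theorem aut_uZ_zero (hF : Fintype.card F = 2 ^ (2 * m + 1)) (α : MulAut (Cfsg.Sz F m))
    {b a' b' : F} (h : α (uZ hF 0 b) = uZ hF a' b') : a' = 0 := by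
  have h1 : uZ hF 0 b * uZ hF 0 b = 1 := by rw [uZ_sq, zero_mul, uZ_zero]
  have h3 := congrArg α h1
  rw [map_mul, map_one, h, uZ_sq, ← uZ_zero hF] at h3
  obtain ⟨-, h4⟩ := uZ_injective hF h3
  rcases mul_eq_zero.mp h4 with h5 | h5
  · exact h5
  · exact th_eq_zero h5

/-- An automorphism fixing `w` and `T` pointwise and preserving `U` is trivial. -/
theorem eq_one_of_normalized (hF : Fintype.card F = 2 ^ (2 * m + 1)) (hm : 1 ≤ m)
    (α : MulAut (Cfsg.Sz F m)) (hw : α (wZ hF) = wZ hF)
    (hu : ∀ a b, ∃ a' b', α (uZ hF a b) = uZ hF a' b')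
    (hh : ∀ z, α (hZ hF z) = hZ hF z) : α = 1 := by
  have h2 := two_eq_zero hF
  choose p r hpr using hu
  have hinj0 : ∀ a b, p a b = 0 → r a b = 0 → a = 0 ∧ b = 0 := by
    intro a b h1 h2'
    have h3 : α (uZ hF a b) = α 1 := by rw [hpr, h1, h2', uZ_zero, map_one]
    have h4 : uZ hF a b = 1 := α.injective h3
    rw [← uZ_zero hF] at h4
    exact uZ_injective hF h4
  -- the function `ff` is preserved
  have hff : ∀ a b, (a ≠ 0 ∨ b ≠ 0) → ff m (p a b) (r a b) = ff m a b := by
    intro a b hab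
    obtain ⟨a₁, b₁, z, hz, h⟩ := wZ_uZ_wZ hF hm hab
    have hab' : p a b ≠ 0 ∨ r a b ≠ 0 := by
      by_contra hcon
      have h1 : p a b = 0 := by
        by_contra h1; exact hcon (Or.inl h1)
      have h2' : r a b = 0 := by
        by_contra h2'; exact hcon (Or.inr h2')
      obtain ⟨ha, hb⟩ := hinj0 a b h1 h2'
      rcases hab with h | h
      · exact h ha
      · exact h hb
    obtain ⟨a₂, b₂, z', hz', h'⟩ := wZ_uZ_wZ hF hm hab'
    have h3 := congrArg α h
    rw [map_mul, map_mul, hw, hpr, map_mul, map_mul, map_mul, hw, hpr, hpr, hh, h'] at h3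
    obtain ⟨-, -, -, -, hzz⟩ := bigcell_unique hF h3
    rw [← hz, ← hz', hzz]
  have hp0 : ∀ b, p 0 b = 0 := fun b => aut_uZ_zero hF α (hpr 0 b)
  have hr0 : ∀ b, r 0 b = b := by
    intro b
    by_cases hb : b = 0
    · subst hb
      have h3 : α (uZ hF 0 0) = uZ hF 0 0 := by rw [uZ_zero, map_one]
      rw [hpr] at h3
      exact (uZ_injective hF h3).2
    · have h3 := hff 0 b (Or.inr hb)
      rw [hp0, ff_zero_left, ff_zero_left] at h3
      exact th_injective hF h3
  have hsplit : ∀ a b, p a b = p a 0 ∧ r a b = r a 0 + b := by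
    intro a b
    have h3 := congrArg α (uZ_split hF a b)
    rw [map_mul, hpr, hpr, hpr, hp0, hr0, uZ_mul, mul_zero, add_zero, add_zero] at h3
    exact uZ_injective hF h3
  have hT : ∀ (z : Fˣ) (a : F), p (th m (z : F) * a) 0 = th m (z : F) * p a 0 ∧
      r (th m (z : F) * a) 0 = th m (z : F) * (z : F) ^ 2 * r a 0 := by
    intro z a
    have h3 := congrArg α (hZ_uZ_hZ hF z a 0)
    rw [map_mul, map_mul, map_inv, hh, hpr, hpr, hZ_uZ_hZ, mul_zero] at h3
    obtain ⟨h4, h5⟩ := uZ_injective hF h3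
    exact ⟨h4.symm, h5.symm⟩
  have hp00 : p 0 0 = 0 := hp0 0
  have hr00 : r 0 0 = 0 := hr0 0
  -- `p x 0 = x * lam`
  obtain ⟨lam, hlam⟩ : ∃ lam : F, lam = p 1 0 := ⟨_, rfl⟩
  have hpx : ∀ x, p x 0 = x * lam := by
    intro x
    by_cases hx : x = 0
    · rw [hx, hp00, zero_mul]
    · obtain ⟨s, hs⟩ := th_surjective hF x
      have hs0 : s ≠ 0 := by
        rintro rfl
        rw [th_zero] at hs
        exact hx hs.symm
      have h3 := (hT (Units.mk0 s hs0) 1).1
      rw [Units.val_mk0, mul_one, hs] at h3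
      rw [h3, hlam]
  have hmul : ∀ a c, r (a + c) 0 + th m a * c = r a 0 + r c 0 + th m (p a 0) * p c 0 := by
    intro a c
    have e : uZ hF a 0 * uZ hF c 0 = uZ hF (a + c) (th m a * c) := by
      rw [uZ_mul, add_zero, zero_add]
    have h3 := congrArg α e
    rw [map_mul, hpr, hpr, hpr, uZ_mul, (hsplit (a + c) (th m a * c)).1,
      (hsplit (a + c) (th m a * c)).2] at h3
    exact (uZ_injective hF h3).2.symm
  -- `lam = 1`
  have hlam1 : lam = 1 := by
    obtain ⟨s, hs0, hs1⟩ := exists_ne_zero_one hF hm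
    have h3 := hmul 1 s
    have h4 := hmul s 1
    rw [add_comm s 1] at h4
    rw [hpx, hpx, one_mul, th_one, one_mul] at h3
    rw [hpx, hpx, one_mul, th_mul, mul_one] at h4
    have h5 : (lam * th m lam - 1) * (s - th m s) = 0 := by
      linear_combination h4 - h3
    have hs2 : s - th m s ≠ 0 := by
      intro h
      rcases th_eq_self hF (sub_eq_zero.mp h).symm with h7 | h7
      · exact hs0 h7
      · exact hs1 h7
    rcases mul_eq_zero.mp h5 with h6 | h6
    · exact mul_th_eq_one hF (sub_eq_zero.mp h6)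
    · exact absurd h6 hs2
  have hpid : ∀ x, p x 0 = x := by
    intro x; rw [hpx, hlam1, mul_one]
  -- `γ = r · 0` is additive
  have hradd : ∀ a c, r (a + c) 0 = r a 0 + r c 0 := by
    intro a c
    have h3 := hmul a c
    rw [hpid, hpid] at h3
    exact add_right_cancel h3
  have hrz : ∀ x, r x 0 = 0 := by
    -- value at 1
    have hr1 : r 1 0 = 0 := by
      obtain ⟨z, hz⟩ := exists_unit_ne_one hF hm
      have hz1 : (z : F) + 1 ≠ 0 := by
        intro h
        exact hz (Units.ext (eq_of_add_eq_zero h2 h))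
      have h3 := (hT z 1).2
      have h4 := (hT (Units.mk0 _ hz1) 1).2
      rw [mul_one] at h3 h4
      rw [Units.val_mk0, th_add hF, th_one, hradd, h3] at h4
      have h5 : (th m (z : F) + (z : F) ^ 2) * r 1 0 = 0 := by
        linear_combination (-1 : F) * h4 - (th m (z : F) * (z : F) * r 1 0 + (z : F) * r 1 0) * h2
      rcases mul_eq_zero.mp h5 with h6 | h6
      · exfalso
        have h7 : th m (z : F) = th m (th m (z : F)) := by
          rw [th_th hF]; exact eq_of_add_eq_zero h2 h6
        have h8 := th_injective hF h7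
        rcases th_eq_self hF h8.symm with h9 | h9
        · exact z.ne_zero h9
        · exact hz (Units.ext h9)
      · exact h6
    intro x
    by_cases hx : x = 0
    · rw [hx, hr00]
    · obtain ⟨s, hs⟩ := th_surjective hF x
      have hs0 : s ≠ 0 := by
        rintro rfl
        rw [th_zero] at hs
        exact hx hs.symm
      have h3 := (hT (Units.mk0 s hs0) 1).2
      rw [Units.val_mk0, mul_one, hs, hr1, mul_zero] at h3
      exact h3
  -- conclusion
  have hfix : ∀ a b, α (uZ hF a b) = uZ hF a b := by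
    intro a b
    rw [hpr, (hsplit a b).1, (hsplit a b).2, hpid, hrz, zero_add]
  have := aut_ext hF hm α.toMonoidHom (MonoidHom.id _) (fun a b => by simpa using hfix a b)
    (fun z => by simpa using hh z) (by simpa using hw)
  apply MulEquiv.ext
  intro g
  have := congrArg (fun f : Cfsg.Sz F m →* Cfsg.Sz F m => f g) this
  simpa using this

end Cfsg.Agent.Lib.Helper4.Suz
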