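import Mathlib
import Cfsg.Prelude.Def_LieExceptional
import Cfsg.Agent.Lib.Helper4.Suz26

/-!
# Suzuki groups, part 27: normalised automorphisms are field automorphisms
-/

set_option autoImplicit false
set_option linter.unusedSimpArgs false
set_option linter.unusedVariables false
set_option linter.style.haveILetI false

namespace Cfsg.Agent.Lib.Helper4.Suz

open MulAction Matrix

variable {F : Type*} [Field F] [Fintype F] {m : ℕ}

/-- An automorphism preserving `U` and `T` acts on `T` through a field automorphism. -/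
theorem exists_field_aut (hF : Fintype.card F = 2 ^ (2 * m + 1)) (hm : 1 ≤ m)
    (α : MulAut (Cfsg.Sz F m))
    (hu : ∀ a b, ∃ a' b', α (uZ hF a b) = uZ hF a' b')
    (hh : ∀ z, ∃ z', α (hZ hF z) = hZ hF z') :
    ∃ σ : F ≃+* F, ∀ z : Fˣ,
      α (hZ hF z) = hZ hF (Units.map (((σ : F ≃+* F) : F →+* F) : F →* F) z) := by
  have h2 := two_eq_zero hF
  choose p r hpr using hu
  choose τ hτ using hh
  have hp0 : ∀ b, p 0 b = 0 := fun b => aut_uZ_zero hF α (hpr 0 b)
  have hsplit : ∀ a b, p a b = p a 0 := by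
    intro a b
    have h3 := congrArg α (uZ_split hF a b)
    rw [map_mul, hpr, hpr, hpr, hp0, uZ_mul, add_zero] at h3
    exact (uZ_injective hF h3).1
  have hp00 : p 0 0 = 0 := hp0 0
  have hadd : ∀ a c, p (a + c) 0 = p a 0 + p c 0 := by
    intro a c
    have e : uZ hF a 0 * uZ hF c 0 = uZ hF (a + c) (th m a * c) := by
      rw [uZ_mul, add_zero, zero_add]
    have h3 := congrArg α e
    rw [map_mul, hpr, hpr, hpr, uZ_mul, hsplit (a + c) (th m a * c)] at h3
    exact (uZ_injective hF h3).1.symm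
  have hinj : ∀ a, p a 0 = 0 → a = 0 := by
    intro a ha
    have h3 : α (uZ hF a 0 * uZ hF a 0) = α 1 := by
      rw [map_mul, hpr, ha, uZ_sq, zero_mul, uZ_zero, map_one]
    have h4 := α.injective h3
    rw [uZ_sq, ← uZ_zero hF] at h4
    rcases mul_eq_zero.mp (uZ_injective hF h4).2 with h5 | h5
    · exact h5
    · exact th_eq_zero h5
  have hT : ∀ (z : Fˣ) (a : F), p (th m (z : F) * a) 0 = th m ((τ z : Fˣ) : F) * p a 0 := by
    intro z a
    have h3 := congrArg α (hZ_uZ_hZ hF z a 0)
    rw [map_mul, map_mul, map_inv, hτ, hpr, hpr, hZ_uZ_hZ, mul_zero] at h3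
    exact (uZ_injective hF h3).1.symm
  obtain ⟨lam, hlam⟩ : ∃ lam : F, lam = p 1 0 := ⟨_, rfl⟩
  have hlam0 : lam ≠ 0 := by
    intro h
    rw [hlam] at h
    exact one_ne_zero (hinj 1 h)
  -- the ring homomorphism
  have hmul : ∀ x y : F, p (x * y) 0 / lam = (p x 0 / lam) * (p y 0 / lam) := by
    intro x y
    by_cases hx : x = 0
    · rw [hx, zero_mul, hp00, zero_div, zero_mul]
    · obtain ⟨s, hs⟩ := th_surjective hF x
      have hs0 : s ≠ 0 := by
        rintro rfl
        rw [th_zero] at hs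
        exact hx hs.symm
      have h3 := hT (Units.mk0 s hs0) y
      have h4 := hT (Units.mk0 s hs0) 1
      rw [Units.val_mk0, hs] at h3 h4
      rw [mul_one, ← hlam] at h4
      rw [h3, h4]
      field_simp
  let σ₀ : F →+* F :=
    { toFun := fun x => p x 0 / lam
      map_one' := by rw [← hlam, div_self hlam0]
      map_mul' := hmul
      map_zero' := by rw [hp00, zero_div]
      map_add' := by
        intro x y
        rw [hadd, add_div] }
  have hσ₀ : ∀ x, σ₀ x = p x 0 / lam := fun x => rfl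
  have hbij : Function.Bijective σ₀ :=
    (Finite.injective_iff_bijective).mp σ₀.injective
  refine ⟨RingEquiv.ofBijective σ₀ hbij, ?_⟩
  intro z
  rw [hτ]
  congr 1
  apply Units.ext
  rw [Units.coe_map]
  show ((τ z : Fˣ) : F) = σ₀ (z : F)
  apply th_injective hF
  rw [← map_th, hσ₀]
  have h4 := hT z 1
  rw [mul_one, ← hlam] at h4
  rw [h4]
  field_simp

/-- An automorphism fixing `w` and preserving `U` and `T` is a field automorphism. -/
theorem eq_fieldAut_of_normalized (hF : Fintype.card F = 2 ^ (2 * m + 1)) (hm : 1 ≤ m)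
    (α : MulAut (Cfsg.Sz F m)) (hw : α (wZ hF) = wZ hF)
    (hu : ∀ a b, ∃ a' b', α (uZ hF a b) = uZ hF a' b')
    (hh : ∀ z, ∃ z', α (hZ hF z) = hZ hF z') :
    ∃ σ : F ≃+* F, α = fieldAut hF hm σ := by
  obtain ⟨σ, hσ⟩ := exists_field_aut hF hm α hu hh
  refine ⟨σ, ?_⟩
  have hinv : ∀ g, (fieldAut hF hm σ)⁻¹ g = fieldHom hF hm (σ.symm : F →+* F) g := fun g => rfl
  have key : (fieldAut hF hm σ)⁻¹ * α = 1 := by
    apply eq_one_of_normalized hF hm
    · rw [MulAut.mul_apply, hw, hinv, fieldHom_wZ]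
    · intro a b
      obtain ⟨a', b', h⟩ := hu a b
      rw [MulAut.mul_apply, h, hinv, fieldHom_uZ]
      exact ⟨_, _, rfl⟩
    · intro z
      rw [MulAut.mul_apply, hσ, hinv, fieldHom_hZ]
      congr 1
      apply Units.ext
      simp
  calc α = fieldAut hF hm σ * ((fieldAut hF hm σ)⁻¹ * α) := by group
    _ = fieldAut hF hm σ := by rw [key, mul_one]

end Cfsg.Agent.Lib.Helper4.Suz
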