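import Mathlib
import Cfsg.Prelude.Def_LieExceptional
import Cfsg.Agent.Lib.Helper4.Suz27

/-!
# Suzuki groups, part 28: every automorphism is inner times field
-/

set_option autoImplicit false
set_option linter.unusedSimpArgs false
set_option linter.unusedVariables false
set_option linter.style.haveILetI false

namespace Cfsg.Agent.Lib.Helper4.Suz

open MulAction Matrix
open scoped Pointwise

variable {F : Type*} [Field F] [Fintype F] {m : ℕ}

theorem conj_apply_aut {G : Type*} [Group G] (α : MulAut G) (x : G) :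
    MulAut.conj (α x) = α * MulAut.conj x * α⁻¹ := by
  apply MulEquiv.ext
  intro y
  simp [MulAut.conj_apply]

theorem smul_USylow_iff (hF : Fintype.card F = 2 ^ (2 * m + 1)) (hm : 1 ≤ m) (g : Cfsg.Sz F m) :
    g • USylow hF hm = USylow hF hm ↔ g • oInf F m = oInf F m := by
  rw [Sylow.smul_eq_iff_mem_normalizer]
  have h := normalizer_USub hF hm
  have e : Subgroup.normalizer ((USylow hF hm : Sylow 2 (Cfsg.Sz F m)) : Set (Cfsg.Sz F m))
      = Subgroup.normalizer (USub hF : Set (Cfsg.Sz F m)) := rfl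
  rw [e, h, mem_stabilizer_iff]

theorem sylow_cases (hF : Fintype.card F = 2 ^ (2 * m + 1)) (hm : 1 ≤ m)
    (Q : Sylow 2 (Cfsg.Sz F m)) :
    Q = USylow hF hm ∨ ∃ a b, Q = uZ hF a b • wZ hF • USylow hF hm := by
  obtain ⟨g, hg⟩ := MulAction.exists_smul_eq (Cfsg.Sz F m) (USylow hF hm) Q
  rcases bruhat hF hm g with ⟨a, b, z, h⟩ | ⟨a, b, a', b', z, h⟩
  · left
    rw [← hg]
    apply (smul_USylow_iff hF hm g).mpr
    rw [h, mul_smul, hZ_smul_oInf, uZ_smul_oInf]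
  · right
    refine ⟨a, b, ?_⟩
    rw [← hg, h, mul_smul, mul_smul]
    congr 2
    apply (smul_USylow_iff hF hm _).mpr
    rw [mul_smul, hZ_smul_oInf, uZ_smul_oInf]

theorem hZ_smul_USylow (hF : Fintype.card F = 2 ^ (2 * m + 1)) (hm : 1 ≤ m) (z : Fˣ) :
    hZ hF z • USylow hF hm = USylow hF hm :=
  (smul_USylow_iff hF hm _).mpr (hZ_smul_oInf hF z)

theorem uZ_smul_USylow (hF : Fintype.card F = 2 ^ (2 * m + 1)) (hm : 1 ≤ m) (a b : F) :
    uZ hF a b • USylow hF hm = USylow hF hm :=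
  (smul_USylow_iff hF hm _).mpr (uZ_smul_oInf hF a b)

theorem hZ_smul_wZ_smul_USylow (hF : Fintype.card F = 2 ^ (2 * m + 1)) (hm : 1 ≤ m) (z : Fˣ) :
    hZ hF z • wZ hF • USylow hF hm = wZ hF • USylow hF hm := by
  rw [← mul_smul, hZ_wZ, mul_smul, hZ_smul_USylow]

theorem wZ_smul_wZ_smul (hF : Fintype.card F = 2 ^ (2 * m + 1)) (P : Sylow 2 (Cfsg.Sz F m)) :
    wZ hF • wZ hF • P = P := by
  rw [← mul_smul, wZ_mul_wZ, one_smul]

theorem wZ_smul_USylow_ne (hF : Fintype.card F = 2 ^ (2 * m + 1)) (hm : 1 ≤ m) :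
    wZ hF • USylow hF hm ≠ USylow hF hm := by
  intro h
  have := (smul_USylow_iff hF hm _).mp h
  rw [wZ_smul_oInf] at this
  exact oPt_ne_oInf 0 0 this

/-- An element fixing both `U` and `w U w` (as Sylow subgroups) lies in the torus. -/
theorem mem_torus_of_smul (hF : Fintype.card F = 2 ^ (2 * m + 1)) (hm : 1 ≤ m) (x : Cfsg.Sz F m)
    (h0 : x • USylow hF hm = USylow hF hm)
    (h1 : x • wZ hF • USylow hF hm = wZ hF • USylow hF hm) : ∃ z, x = hZ hF z := by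
  have e0 := (smul_USylow_iff hF hm _).mp h0
  have h2 : (wZ hF * x * wZ hF) • USylow hF hm = USylow hF hm := by
    rw [mul_smul, mul_smul, h1, wZ_smul_wZ_smul]
  have e1 := (smul_USylow_iff hF hm _).mp h2
  rw [mul_smul, mul_smul, wZ_smul_oInf] at e1
  have e2 : x • oPt m (0 : F) 0 = oPt m 0 0 := by
    have h3 : wZ hF • (wZ hF • x • oPt m (0 : F) 0) = wZ hF • oInf F m := by rw [e1]
    rw [← mul_smul, wZ_mul_wZ, one_smul, wZ_smul_oInf] at h3
    exact h3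
  exact fix_oInf_zero hF hm x e0 e2

/-- Consequences of an automorphism fixing the Sylow subgroups `U` and `w U w`. -/
theorem props_of_fix (hF : Fintype.card F = 2 ^ (2 * m + 1)) (hm : 1 ≤ m)
    (β : MulAut (Cfsg.Sz F m)) (h0 : β • USylow hF hm = USylow hF hm)
    (h1 : β • wZ hF • USylow hF hm = wZ hF • USylow hF hm) :
    (∀ a b, ∃ a' b', β (uZ hF a b) = uZ hF a' b') ∧ (∀ z, ∃ z', β (hZ hF z) = hZ hF z') ∧
      ∃ z₁, β (wZ hF) = wZ hF * hZ hF z₁ := by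
  have h0' : β⁻¹ • USylow hF hm = USylow hF hm := by
    rw [inv_smul_eq_iff, h0]
  have h1' : β⁻¹ • wZ hF • USylow hF hm = wZ hF • USylow hF hm := by
    rw [inv_smul_eq_iff, h1]
  have hconj : ∀ (x : Cfsg.Sz F m) (P : Sylow 2 (Cfsg.Sz F m)),
      β x • P = β • x • β⁻¹ • P := by
    intro x P
    rw [Sylow.smul_def, conj_apply_aut, mul_smul, mul_smul, ← Sylow.smul_def]
  refine ⟨?_, ?_, ?_⟩
  · intro a b
    have h2 : β • uZ hF a b ∈ β • (USylow hF hm : Subgroup (Cfsg.Sz F m)) :=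
      Subgroup.smul_mem_pointwise_smul _ _ _ (uZ_mem_USub hF a b)
    rw [← Sylow.pointwise_smul_def, h0] at h2
    obtain ⟨a', b', h3⟩ := h2
    exact ⟨a', b', h3⟩
  · intro z
    apply mem_torus_of_smul hF hm
    · rw [hconj, h0', hZ_smul_USylow, h0]
    · rw [hconj, h1', hZ_smul_wZ_smul_USylow, h1]
  · have e0 : β (wZ hF) • USylow hF hm = wZ hF • USylow hF hm := by
      rw [hconj, h0', h1]
    have e1 : β (wZ hF) • wZ hF • USylow hF hm = USylow hF hm := by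
      rw [hconj, h1', wZ_smul_wZ_smul, h0]
    obtain ⟨z₁, hz₁⟩ := mem_torus_of_smul hF hm (wZ hF * β (wZ hF))
      (by rw [mul_smul, e0, wZ_smul_wZ_smul]) (by rw [mul_smul, e1])
    refine ⟨z₁, ?_⟩
    rw [← hz₁, ← mul_assoc, wZ_mul_wZ, one_mul]

/-- Every automorphism is, up to an inner automorphism, normalised. -/
theorem exists_normalized (hF : Fintype.card F = 2 ^ (2 * m + 1)) (hm : 1 ≤ m)
    (α : MulAut (Cfsg.Sz F m)) :
    ∃ (g : Cfsg.Sz F m) (β : MulAut (Cfsg.Sz F m)), α = MulAut.conj g * β ∧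
      β (wZ hF) = wZ hF ∧ (∀ a b, ∃ a' b', β (uZ hF a b) = uZ hF a' b') ∧
      (∀ z, ∃ z', β (hZ hF z) = hZ hF z') := by
  have h2 := two_eq_zero hF
  -- step 1
  obtain ⟨g₁, hg₁⟩ := MulAction.exists_smul_eq (Cfsg.Sz F m) (USylow hF hm) (α • USylow hF hm)
  set α₁ : MulAut (Cfsg.Sz F m) := (MulAut.conj g₁)⁻¹ * α with hα₁
  have h10 : α₁ • USylow hF hm = USylow hF hm := by
    rw [hα₁, mul_smul, ← hg₁, Sylow.smul_def, inv_smul_smul]
  -- step 2
  have hne : α₁ • wZ hF • USylow hF hm ≠ USylow hF hm := by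
    intro h
    have h' : α₁ • wZ hF • USylow hF hm = α₁ • USylow hF hm := h.trans h10.symm
    exact wZ_smul_USylow_ne hF hm (MulAction.injective α₁ h')
  obtain ⟨a, b, hab⟩ := (sylow_cases hF hm (α₁ • wZ hF • USylow hF hm)).resolve_left hne
  set α₂ : MulAut (Cfsg.Sz F m) := (MulAut.conj (uZ hF a b))⁻¹ * α₁ with hα₂
  have h20 : α₂ • USylow hF hm = USylow hF hm := by
    rw [hα₂, mul_smul, h10, inv_smul_eq_iff, ← Sylow.smul_def, uZ_smul_USylow]
  have h21 : α₂ • wZ hF • USylow hF hm = wZ hF • USylow hF hm := by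
    rw [hα₂, mul_smul, hab, inv_smul_eq_iff, ← Sylow.smul_def]
  -- step 3
  obtain ⟨-, -, z₁, hz₁⟩ := props_of_fix hF hm α₂ h20 h21
  -- step 4
  haveI : CharP F 2 := CharTwo.of_one_ne_zero_of_two_eq_zero one_ne_zero h2
  obtain ⟨y, hy⟩ := FiniteField.isSquare_of_char_two (ringChar.eq F 2) (z₁ : F)
  have hy0 : y ≠ 0 := by
    rintro rfl
    rw [mul_zero] at hy
    exact z₁.ne_zero hy
  set y' : Fˣ := Units.mk0 y hy0 with hy'
  have hyz : y' * y' = z₁ := by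
    apply Units.ext
    rw [Units.val_mul, hy', Units.val_mk0, hy]
  set t₀ := hZ hF y'⁻¹ with ht₀
  have ht₀w : t₀ * wZ hF * t₀⁻¹ = wZ hF * hZ hF z₁ := by
    rw [ht₀, hZ_wZ, inv_inv, hZ_inv, inv_inv, mul_assoc, ← hZ_mul, hyz]
  set α₃ : MulAut (Cfsg.Sz F m) := (MulAut.conj t₀)⁻¹ * α₂ with hα₃
  have h30 : α₃ • USylow hF hm = USylow hF hm := by
    rw [hα₃, mul_smul, h20, inv_smul_eq_iff, ← Sylow.smul_def, ht₀, hZ_smul_USylow]
  have h31 : α₃ • wZ hF • USylow hF hm = wZ hF • USylow hF hm := by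
    rw [hα₃, mul_smul, h21, inv_smul_eq_iff, ← Sylow.smul_def, ht₀, hZ_smul_wZ_smul_USylow]
  have h3w : α₃ (wZ hF) = wZ hF := by
    rw [hα₃, MulAut.mul_apply, hz₁, ← ht₀w, MulAut.inv_apply, MulAut.conj_symm_apply]
    group
  obtain ⟨hu, hh, -⟩ := props_of_fix hF hm α₃ h30 h31
  refine ⟨g₁ * uZ hF a b * t₀, α₃, ?_, h3w, hu, hh⟩
  rw [hα₃, hα₂, hα₁, map_mul, map_mul]
  group

end Cfsg.Agent.Lib.Helper4.Suz
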