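import Mathlib
import Cfsg.Prelude.Def_LieExceptional
import Cfsg.Prelude.Def_KGroupFacts
import Cfsg.Agent.Lib.Helper4.Suz28

/-!
# Suzuki groups, part 29: the outer automorphism group has order `2m+1`
-/

set_option autoImplicit false
set_option linter.unusedSimpArgs false
set_option linter.unusedVariables false
set_option linter.style.haveILetI false

namespace Cfsg.Agent.Lib.Helper4.Suz

open MulAction Matrix

/-- Isomorphic groups have outer automorphism groups of the same cardinality. -/
theorem card_out_congr {G H : Type*} [Group G] [Group H] (e : G ≃* H) :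
    Nat.card (Cfsg.Out G) = Nat.card (Cfsg.Out H) := by
  have he : (Cfsg.Inn G).map ((MulAut.congr e : MulAut G ≃* MulAut H) : MulAut G →* MulAut H)
      = Cfsg.Inn H := by
    ext φ
    constructor
    · rintro ⟨_, ⟨g, rfl⟩, rfl⟩
      refine ⟨e g, ?_⟩
      apply MulEquiv.ext
      intro x
      simp [MulAut.congr, MulAut.conj_apply]
    · rintro ⟨h, rfl⟩
      refine ⟨MulAut.conj (e.symm h), ⟨e.symm h, rfl⟩, ?_⟩
      apply MulEquiv.ext
      intro x
      simp [MulAut.congr, MulAut.conj_apply]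
  exact Nat.card_congr (QuotientGroup.congr (Cfsg.Inn G) (Cfsg.Inn H) (MulAut.congr e) he).toEquiv

variable {F : Type*} [Field F] [Fintype F] {m : ℕ}

/-- The number of field automorphisms. -/
theorem card_ringEquiv (hF : Fintype.card F = 2 ^ (2 * m + 1)) :
    Nat.card (F ≃+* F) = 2 * m + 1 := by
  haveI : CharP F 2 := CharTwo.of_one_ne_zero_of_two_eq_zero one_ne_zero (two_eq_zero hF)
  letI : Algebra (ZMod 2) F := ZMod.algebra F 2
  have hcomm : ∀ (σ : F ≃+* F) (x : ZMod 2),
      σ (algebraMap (ZMod 2) F x) = algebraMap (ZMod 2) F x := by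
    intro σ x
    have : ((σ : F →+* F).comp (algebraMap (ZMod 2) F)) = algebraMap (ZMod 2) F :=
      Subsingleton.elim _ _
    exact congrArg (fun f : ZMod 2 →+* F => f x) this
  let E : (F ≃+* F) ≃ (F ≃ₐ[ZMod 2] F) :=
    { toFun := fun σ => AlgEquiv.ofRingEquiv (f := σ) (hcomm σ)
      invFun := fun e => e.toRingEquiv
      left_inv := fun σ => by ext x; rfl
      right_inv := fun e => by ext x; rfl }
  rw [Nat.card_congr E]
  have hbij := FiniteField.bijective_frobeniusAlgEquivOfAlgebraic_pow (ZMod 2) F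
  rw [← Nat.card_congr (Equiv.ofBijective _ hbij), Nat.card_eq_fintype_card, Fintype.card_fin]
  have hcard := Module.card_eq_pow_finrank (K := ZMod 2) (V := F)
  rw [ZMod.card, hF] at hcard
  exact (Nat.pow_right_injective (le_refl 2) hcard).symm

/-- The outer automorphism group of `Sz(q)` has order `2m+1`. -/
theorem card_out (hF : Fintype.card F = 2 ^ (2 * m + 1)) (hm : 1 ≤ m) :
    Nat.card (Cfsg.Out (Cfsg.Sz F m)) = 2 * m + 1 := by
  rw [← card_ringEquiv hF]
  symm
  let Ψ : (F ≃+* F) → Cfsg.Out (Cfsg.Sz F m) := fun σ => QuotientGroup.mk (fieldAut hF hm σ)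
  apply Nat.card_congr (Equiv.ofBijective Ψ ⟨?_, ?_⟩)
  · -- injective
    intro σ τ hστ
    have h1 : (fieldAut hF hm σ)⁻¹ * fieldAut hF hm τ ∈ Cfsg.Inn (Cfsg.Sz F m) :=
      QuotientGroup.eq.mp hστ
    obtain ⟨g, hg⟩ := h1
    have hinv : ∀ x, (fieldAut hF hm σ)⁻¹ x = fieldHom hF hm (σ.symm : F →+* F) x := fun x => rfl
    have hgx : ∀ x, g * x * g⁻¹ = fieldHom hF hm (σ.symm : F →+* F) (fieldAut hF hm τ x) := by
      intro x
      have := congrArg (fun f : MulAut (Cfsg.Sz F m) => f x) hg
      simp only [MulAut.conj_apply, MulAut.mul_apply, hinv] at this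
      exact this
    -- `g` commutes with `w`
    have hgw : g * wZ hF * g⁻¹ = wZ hF := by
      rw [hgx, fieldAut_wZ, fieldHom_wZ]
    have hgu : ∀ a b, g * uZ hF a b * g⁻¹ = uZ hF (σ.symm (τ a)) (σ.symm (τ b)) := by
      intro a b
      rw [hgx, fieldAut_uZ, fieldHom_uZ]
      rfl
    -- `g` fixes `∞`
    have hinf : g • oInf F m = oInf F m := by
      have h3 : uZ hF (σ.symm (τ 1)) (σ.symm (τ 0)) • (g • oInf F m) = g • oInf F m := by
        rw [← hgu, mul_smul, mul_smul, inv_smul_smul, uZ_smul_oInf]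
      apply uZ_fix_only hF _ h3
      intro h4
      rw [← uZ_zero hF] at h4
      have := (uZ_injective hF h4).1
      simp at this
    have hzero : g • oPt m (0 : F) 0 = oPt m 0 0 := by
      have h3 : g * wZ hF = wZ hF * g := by
        calc g * wZ hF = (g * wZ hF * g⁻¹) * g := by group
          _ = wZ hF * g := by rw [hgw]
      rw [← wZ_smul_oInf hF, ← mul_smul, h3, mul_smul, hinf]
    obtain ⟨z, rfl⟩ := fix_oInf_zero hF hm g hinf hzero
    have h5 : ∀ a : F, th m (z : F) * a = σ.symm (τ a) := by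
      intro a
      have := hgu a 0
      rw [hZ_uZ_hZ] at this
      exact (uZ_injective hF this).1
    have h6 : th m (z : F) = 1 := by
      have := h5 1
      simpa using this
    apply RingEquiv.ext
    intro a
    have h7 := h5 a
    rw [h6, one_mul] at h7
    have h8 := congrArg σ h7
    rw [RingEquiv.apply_symm_apply] at h8
    exact h8
  · -- surjective
    intro c
    obtain ⟨α, rfl⟩ := QuotientGroup.mk_surjective c
    obtain ⟨g, β, hα, hw, hu, hh⟩ := exists_normalized hF hm α
    obtain ⟨σ, hσ⟩ := eq_fieldAut_of_normalized hF hm β hw hu hh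
    refine ⟨σ, ?_⟩
    apply QuotientGroup.eq.mpr
    rw [hα, ← hσ]
    refine ⟨β⁻¹ g, ?_⟩
    rw [conj_apply_aut, inv_inv]
    group

end Cfsg.Agent.Lib.Helper4.Suz
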