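import Mathlib

/-!
# Abelian Sylow subgroups: inverting elements force an even automizer
-/

namespace Cfsg.Agent.Lib.Helper4.AltAbSyl

open Subgroup

/-- If `ν⁻¹ x ν = x⁻¹` then odd powers of `ν` also invert `x`. -/
theorem conj_odd_pow_of_inv {G : Type*} [Group G] (x ν : G) (h : ν⁻¹ * x * ν = x⁻¹)
    (m : ℕ) : (ν ^ (2 * m + 1))⁻¹ * x * ν ^ (2 * m + 1) = x⁻¹ := by
  have h2 : ν⁻¹ * x⁻¹ * ν = x := by
    have := congrArg (·⁻¹) h
    simp only [mul_inv_rev, inv_inv] at this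
    rw [← mul_assoc] at this
    exact this
  have hc : Commute (ν ^ 2) x := by
    unfold Commute SemiconjBy
    have : (ν ^ 2)⁻¹ * x * ν ^ 2 = x := by
      rw [pow_two, mul_inv_rev]
      calc ν⁻¹ * ν⁻¹ * x * (ν * ν) = ν⁻¹ * (ν⁻¹ * x * ν) * ν := by group
        _ = x := by rw [h, h2]
    calc ν ^ 2 * x = ν ^ 2 * ((ν ^ 2)⁻¹ * x * ν ^ 2) := by rw [this]
      _ = x * ν ^ 2 := by group
  have hc' : Commute ((ν ^ 2) ^ m) x := hc.pow_left m
  have e : ν ^ (2 * m + 1) = (ν ^ 2) ^ m * ν := by rw [pow_succ, pow_mul]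
  rw [e, mul_inv_rev]
  calc ν⁻¹ * ((ν ^ 2) ^ m)⁻¹ * x * ((ν ^ 2) ^ m * ν)
      = ν⁻¹ * (((ν ^ 2) ^ m)⁻¹ * (x * (ν ^ 2) ^ m)) * ν := by group
    _ = ν⁻¹ * (((ν ^ 2) ^ m)⁻¹ * ((ν ^ 2) ^ m * x)) * ν := by rw [hc'.eq]
    _ = ν⁻¹ * x * ν := by group
    _ = x⁻¹ := h

/-- **Lemma A**: an abelian Sylow subgroup containing an element `x ≠ x⁻¹` which is
conjugate to its inverse in `G` has `N(P)/C(P)` of even order. -/
theorem two_dvd_index_of_conj_inv {G : Type*} [Group G] [Finite G] {p : ℕ} [Fact p.Prime]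
    (P : Sylow p G) [IsMulCommutative (P : Subgroup G)] (x g : G) (hx : x ∈ P)
    (hg : g⁻¹ * x * g = x⁻¹) (hne : x ≠ x⁻¹) :
    2 ∣ ((centralizer ((P : Subgroup G) : Set G)).subgroupOf
      (normalizer ((P : Subgroup G) : Set G))).index := by
  obtain ⟨ν, hν, h⟩ := P.conj_eq_normalizer_conj_of_mem x g hx (by rw [hg]; exact inv_mem hx)
  rw [hg] at h
  rw [← normalizerMonoidHom_ker, index_ker]
  set φ := (P : Subgroup G).normalizerMonoidHom with hφ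
  set ν' : normalizer ((P : Subgroup G) : Set G) := ⟨ν, hν⟩ with hν'
  have hdvd : orderOf (⟨φ ν', ⟨_, rfl⟩⟩ : φ.range) ∣ Nat.card φ.range := orderOf_dvd_natCard _
  refine dvd_trans ?_ hdvd
  have hord : orderOf (⟨φ ν', ⟨_, rfl⟩⟩ : φ.range) = orderOf (φ ν') := by
    rw [← Subgroup.orderOf_coe]
  rw [hord]
  by_contra hodd
  rw [Nat.two_dvd_ne_zero] at hodd
  obtain ⟨m, hm⟩ : ∃ m, orderOf (φ ν') = 2 * m + 1 := ⟨orderOf (φ ν') / 2, by omega⟩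
  have h1 : φ (ν' ^ (2 * m + 1)) = 1 := by
    rw [map_pow, ← hm, pow_orderOf_eq_one]
  have h2 : ν' ^ (2 * m + 1) ∈ φ.ker := h1
  rw [normalizerMonoidHom_ker, mem_subgroupOf, mem_centralizer_iff] at h2
  have h3 := h2 x hx
  have h4 := conj_odd_pow_of_inv x ν h.symm m
  apply hne
  rw [← h4]
  simp only [SubmonoidClass.coe_pow, hν'] at h3
  rw [mul_assoc, h3]
  group

end Cfsg.Agent.Lib.Helper4.AltAbSyl
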