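import Mathlib
import Cfsg.Agent.Lib.Helper4.AltAbSyl1

/-!
# Abelian Sylow subgroups of alternating groups
-/

namespace Cfsg.Agent.Lib.Helper4.AltAbSyl

open Equiv Subgroup

/-- **Lemma B**: elements of odd prime order `p` in `A_n`, `n ≥ p + 2`, are conjugate to their
inverses inside `A_n`. -/
theorem exists_conj_inv_alt {n p : ℕ} [hp : Fact p.Prime] (hn : p + 2 ≤ n)
    (x : alternatingGroup (Fin n)) (hx : orderOf x = p) :
    ∃ g : alternatingGroup (Fin n), g⁻¹ * x * g = x⁻¹ := by
  have hx' : orderOf (x : Perm (Fin n)) = p := by rw [Subgroup.orderOf_coe]; exact hx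
  have hconj : IsConj (x : Perm (Fin n)) (x : Perm (Fin n))⁻¹ := by
    rw [Perm.isConj_iff_cycleType_eq, Perm.cycleType_inv]
  obtain ⟨c, hc⟩ := isConj_iff.mp hconj
  have hnot : ¬ (centralizer {(x : Perm (Fin n))} ≤ alternatingGroup (Fin n)) := by
    rw [Perm.centralizer_le_alternating_iff]
    rintro ⟨-, h2, h3⟩
    obtain ⟨k, hk⟩ := Perm.cycleType_prime_order (σ := (x : Perm (Fin n)))
      (by rw [hx']; exact hp.out)
    rw [hx'] at hk
    rw [hk] at h2 h3
    have h3' := h3 p
    rw [Multiset.count_replicate_self] at h3'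
    have hk0 : k = 0 := by omega
    subst hk0
    simp at h2
    omega
  obtain ⟨τ, hτc, hτ⟩ := SetLike.not_le_iff_exists.mp hnot
  rw [mem_centralizer_singleton_iff] at hτc
  rw [Perm.mem_alternatingGroup] at hτ
  have hτs : Perm.sign τ = -1 := (Int.units_eq_one_or _).resolve_left hτ
  rcases Int.units_eq_one_or (Perm.sign c) with hcs | hcs
  · refine ⟨⟨c⁻¹, by rw [Perm.mem_alternatingGroup, map_inv, hcs, inv_one]⟩, ?_⟩
    apply Subtype.ext
    simp only [Subgroup.coe_mul, Subgroup.coe_inv, inv_inv]
    exact hc
  · refine ⟨⟨(c * τ)⁻¹, by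
      rw [Perm.mem_alternatingGroup, map_inv, map_mul, hcs, hτs]; decide⟩, ?_⟩
    apply Subtype.ext
    simp only [Subgroup.coe_mul, Subgroup.coe_inv, inv_inv]
    rw [← hc, mul_assoc c τ, hτc]
    group

/-- **Lemma C**: for `p` odd and `n < 2p` the Sylow `p`-subgroups of `A_n` have order `1` or
`p`. -/
theorem card_sylow_alt_small {n p : ℕ} [hp : Fact p.Prime] (hp2 : p ≠ 2) (hn2 : 2 ≤ n)
    (hn : n < 2 * p) (P : Sylow p (alternatingGroup (Fin n))) :
    Nat.card (P : Subgroup (alternatingGroup (Fin n))) = 1 ∨
      Nat.card (P : Subgroup (alternatingGroup (Fin n))) = p := by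
  haveI : Nontrivial (Fin n) := Fin.nontrivial_iff_two_le.mpr hn2
  have hcard : 2 * Nat.card (alternatingGroup (Fin n)) = n.factorial := by
    rw [Nat.card_eq_fintype_card, two_mul_card_alternatingGroup, Fintype.card_perm,
      Fintype.card_fin]
  have hpos : Nat.card (alternatingGroup (Fin n)) ≠ 0 := Nat.card_pos.ne'
  have hp3 : 3 ≤ p := by
    have := hp.out.two_le
    omega
  have hfac : (Nat.card (alternatingGroup (Fin n))).factorization p = n / p := by
    have h1 : (2 * Nat.card (alternatingGroup (Fin n))).factorization p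
        = (Nat.card (alternatingGroup (Fin n))).factorization p := by
      rw [Nat.factorization_mul (by norm_num) hpos]
      have : (Nat.factorization 2) p = 0 := by
        apply Nat.factorization_eq_zero_of_not_dvd
        intro h
        have := Nat.le_of_dvd (by norm_num) h
        omega
      simp [this]
    rw [← h1, hcard, Nat.factorization_def _ hp.out, padicValNat_factorial (b := 2) ?_]
    · simp
    · apply Nat.log_lt_of_lt_pow (by omega)
      nlinarith
  have hle : n / p ≤ 1 := by
    rw [← Nat.lt_succ_iff]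
    apply Nat.div_lt_of_lt_mul
    omega
  rw [P.card_eq_multiplicity, hfac]
  interval_cases h : n / p
  · left; simp
  · right; simp

theorem isCyclic_sylow_alt_small {n p : ℕ} [hp : Fact p.Prime] (hp2 : p ≠ 2) (hn2 : 2 ≤ n)
    (hn : n < 2 * p) (P : Sylow p (alternatingGroup (Fin n))) :
    IsCyclic (P : Subgroup (alternatingGroup (Fin n))) := by
  rcases card_sylow_alt_small hp2 hn2 hn P with h | h
  · haveI : Subsingleton (P : Subgroup (alternatingGroup (Fin n))) :=
      (Nat.card_eq_one_iff_unique.mp h).1
    exact isCyclic_of_subsingleton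
  · exact isCyclic_of_prime_card h

/-- The odd case of the theorem. -/
theorem odd_case {n p : ℕ} [hp : Fact p.Prime] (hp2 : p ≠ 2) (hn5 : 5 ≤ n)
    (P : Sylow p (alternatingGroup (Fin n)))
    [IsMulCommutative (P : Subgroup (alternatingGroup (Fin n)))] :
    2 ∣ ((centralizer ((P : Subgroup (alternatingGroup (Fin n))) :
        Set (alternatingGroup (Fin n)))).subgroupOf
      (normalizer ((P : Subgroup (alternatingGroup (Fin n))) :
        Set (alternatingGroup (Fin n))))).index ∨
    IsCyclic (P : Subgroup (alternatingGroup (Fin n))) := by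
  by_cases hn : n < 2 * p
  · exact Or.inr (isCyclic_sylow_alt_small hp2 (by omega) hn P)
  · left
    push Not at hn
    have hp3 : 3 ≤ p := by
      have := hp.out.two_le
      omega
    haveI : Nontrivial (Fin n) := Fin.nontrivial_iff_two_le.mpr (by omega)
    have hcard : 2 * Nat.card (alternatingGroup (Fin n)) = n.factorial := by
      rw [Nat.card_eq_fintype_card, two_mul_card_alternatingGroup, Fintype.card_perm,
        Fintype.card_fin]
    have hdvd : p ∣ Nat.card (alternatingGroup (Fin n)) := by
      have h1 : p ∣ 2 * Nat.card (alternatingGroup (Fin n)) := by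
        rw [hcard]
        exact Nat.dvd_factorial hp.out.pos (by omega)
      rcases (Nat.Prime.dvd_mul hp.out).mp h1 with h | h
      · exfalso
        have := Nat.le_of_dvd (by norm_num) h
        omega
      · exact h
    have hdvdP : p ∣ Nat.card (P : Subgroup (alternatingGroup (Fin n))) :=
      P.dvd_card_of_dvd_card hdvd
    obtain ⟨x, hx⟩ := exists_prime_orderOf_dvd_card' p hdvdP
    have hx' : orderOf (x : alternatingGroup (Fin n)) = p := by
      rw [Subgroup.orderOf_coe]; exact hx
    obtain ⟨g, hg⟩ := exists_conj_inv_alt (n := n) (p := p) (by omega)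
      (x : alternatingGroup (Fin n)) hx'
    refine two_dvd_index_of_conj_inv P (x : alternatingGroup (Fin n)) g x.2 hg ?_
    intro heq
    have h2 : (x : alternatingGroup (Fin n)) ^ 2 = 1 := by
      rw [pow_two]
      nth_rewrite 1 [heq]
      exact inv_mul_cancel _
    have := orderOf_dvd_of_pow_eq_one h2
    rw [hx'] at this
    have := Nat.le_of_dvd (by norm_num) this
    omega

end Cfsg.Agent.Lib.Helper4.AltAbSyl
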