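import Mathlib
import Cfsg.Agent.Lib.Helper4.AltAbSyl2

/-!
# Sylow 2-subgroups of alternating groups: nonabelian for `n ≥ 6`, Klein four for `n = 5`
-/

namespace Cfsg.Agent.Lib.Helper4.AltAbSyl

open Equiv Subgroup

/-- `(0 1 2 3)(4 5)`. -/
def a₀ : Perm (Fin 6) := swap 0 1 * swap 1 2 * swap 2 3 * swap 4 5
/-- `(0 2)(4 5)`. -/
def b₀ : Perm (Fin 6) := swap 0 2 * swap 4 5

theorem b₀_conj : b₀ * a₀ * b₀⁻¹ = a₀⁻¹ := by decide
theorem a₀_pow : a₀ ^ 4 = 1 := by decide
theorem b₀_pow : b₀ ^ 2 = 1 := by decide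
theorem a₀_b₀_ne : a₀ * b₀ ≠ b₀ * a₀ := by decide
theorem sign_a₀ : Perm.sign a₀ = 1 := by decide
theorem sign_b₀ : Perm.sign b₀ = 1 := by decide

theorem isPGroup_zpowers {G : Type*} [Group G] {p k : ℕ} {x : G} (h : x ^ (p ^ k) = 1) :
    IsPGroup p (zpowers x) := by
  rintro ⟨y, hy⟩
  obtain ⟨j, rfl⟩ := mem_zpowers_iff.mp hy
  refine ⟨k, ?_⟩
  apply Subtype.ext
  simp only [SubmonoidClass.coe_pow, OneMemClass.coe_one]
  rw [← zpow_natCast, ← zpow_mul, mul_comm, zpow_mul, zpow_natCast, h, one_zpow]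

theorem mem_normalizer_zpowers_of_conj_inv {G : Type*} [Group G] {a b : G}
    (h : b * a * b⁻¹ = a⁻¹) : b ∈ normalizer ((zpowers a : Subgroup G) : Set G) := by
  have h' : b⁻¹ * a * b = a⁻¹ := by
    have := congrArg (fun t => b⁻¹ * t⁻¹ * b) h
    simp only [mul_inv_rev, inv_inv] at this
    rw [← this]
    group
  rw [mem_normalizer_iff]
  intro y
  constructor
  · intro hy
    obtain ⟨j, rfl⟩ := mem_zpowers_iff.mp hy
    have : b * a ^ j * b⁻¹ = (b * a * b⁻¹) ^ j := by
      rw [← MulAut.conj_apply, map_zpow, MulAut.conj_apply]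
    rw [this, h]
    exact zpow_mem (inv_mem (mem_zpowers a)) j
  · intro hy
    obtain ⟨j, hj⟩ := mem_zpowers_iff.mp hy
    have hy2 : y = b⁻¹ * a ^ j * b := by rw [hj]; group
    have : b⁻¹ * a ^ j * b = (b⁻¹ * a * b) ^ j := by
      have := map_zpow (MulAut.conj b⁻¹) a j
      simp only [MulAut.conj_apply, inv_inv] at this
      exact this
    rw [hy2, this, h']
    exact zpow_mem (inv_mem (mem_zpowers a)) j

/-- Sylow `2`-subgroups of `A_n`, `n ≥ 6`, are not abelian. -/
theorem sylow_two_alt_not_comm {n : ℕ} (hn : 6 ≤ n) (P : Sylow 2 (alternatingGroup (Fin n)))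
    (hP : IsMulCommutative (P : Subgroup (alternatingGroup (Fin n)))) : False := by
  classical
  let f : Fin 6 ≃ {i : Fin n // i ∈ Set.range (Fin.castLE hn)} :=
    Equiv.ofInjective _ (Fin.castLE_injective hn)
  let ι : Perm (Fin 6) →* Perm (Fin n) := Perm.extendDomainHom f
  have hι : Function.Injective ι := Perm.extendDomainHom_injective f
  have hsign : ∀ σ : Perm (Fin 6), Perm.sign (ι σ) = Perm.sign σ := fun σ =>
    Perm.sign_extendDomain σ f
  let a : alternatingGroup (Fin n) :=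
    ⟨ι a₀, by rw [Perm.mem_alternatingGroup, hsign, sign_a₀]⟩
  let b : alternatingGroup (Fin n) :=
    ⟨ι b₀, by rw [Perm.mem_alternatingGroup, hsign, sign_b₀]⟩
  have hab : b * a * b⁻¹ = a⁻¹ := by
    apply Subtype.ext
    simp only [Subgroup.coe_mul, Subgroup.coe_inv, a, b]
    rw [← map_inv, ← map_mul, ← map_mul, b₀_conj, map_inv]
  have ha4 : a ^ (2 ^ 2) = 1 := by
    apply Subtype.ext
    simp only [SubmonoidClass.coe_pow, OneMemClass.coe_one, a]
    norm_num
    rw [← map_pow, a₀_pow, map_one]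
  have hb2 : b ^ (2 ^ 1) = 1 := by
    apply Subtype.ext
    simp only [SubmonoidClass.coe_pow, OneMemClass.coe_one, b]
    norm_num
    rw [← map_pow, b₀_pow, map_one]
  have hQ : IsPGroup 2 (zpowers b ⊔ zpowers a : Subgroup (alternatingGroup (Fin n))) :=
    IsPGroup.to_sup_of_normal_right' (isPGroup_zpowers hb2) (isPGroup_zpowers ha4)
      (zpowers_le.mpr (mem_normalizer_zpowers_of_conj_inv hab))
  obtain ⟨P', hP'⟩ := hQ.exists_le_sylow
  obtain ⟨g, hg⟩ := MulAction.exists_smul_eq (alternatingGroup (Fin n)) P P'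
  have e : (P : Subgroup (alternatingGroup (Fin n))) ≃* (P' : Subgroup (alternatingGroup (Fin n))) := by
    rw [← hg]
    exact P.equivSMul g
  have haP : a ∈ (P' : Subgroup (alternatingGroup (Fin n))) :=
    hP' (le_sup_right (a := zpowers b) (mem_zpowers a))
  have hbP : b ∈ (P' : Subgroup (alternatingGroup (Fin n))) :=
    hP' (le_sup_left (b := zpowers a) (mem_zpowers b))
  have hcomm : ∀ u v : (P' : Subgroup (alternatingGroup (Fin n))), u * v = v * u := by
    intro u v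
    have := hP.is_comm.comm (e.symm u) (e.symm v)
    have := congrArg e this
    simpa using this
  have h1 := hcomm ⟨a, haP⟩ ⟨b, hbP⟩
  have h2 : a * b = b * a := congrArg Subtype.val h1
  have h3 : ι a₀ * ι b₀ = ι b₀ * ι a₀ := congrArg Subtype.val h2
  rw [← map_mul, ← map_mul] at h3
  exact a₀_b₀_ne (hι h3)

end Cfsg.Agent.Lib.Helper4.AltAbSyl
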