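import Mathlib
import Cfsg.Agent.Lib.Helper4.AltAbSyl3

/-!
# Sylow 2-subgroups of `A_5`
-/

namespace Cfsg.Agent.Lib.Helper4.AltAbSyl

open Equiv Subgroup

set_option maxRecDepth 100000 in
theorem perm5_sq : ∀ σ : Perm (Fin 5), Perm.sign σ = 1 → σ ^ 4 = 1 → σ ^ 2 = 1 := by
  decide +kernel

theorem card_alt5 : Nat.card (alternatingGroup (Fin 5)) = 60 := by
  have h : 2 * Nat.card (alternatingGroup (Fin 5)) = (5 : ℕ).factorial := by
    rw [Nat.card_eq_fintype_card, two_mul_card_alternatingGroup, Fintype.card_perm,
      Fintype.card_fin]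
  have : (5 : ℕ).factorial = 120 := by decide
  omega

theorem factorization_60 : (60 : ℕ).factorization 2 = 2 := by
  have h : (60:ℕ) = 2^2 * 15 := by norm_num
  rw [h, Nat.factorization_mul (by norm_num) (by norm_num),
    Nat.Prime.factorization_pow Nat.prime_two]
  have : (Nat.factorization 15) 2 = 0 := Nat.factorization_eq_zero_of_not_dvd (by norm_num)
  simp [this]

theorem card_sylow2_alt5 (P : Sylow 2 (alternatingGroup (Fin 5))) :
    Nat.card (P : Subgroup (alternatingGroup (Fin 5))) = 4 := by
  rw [P.card_eq_multiplicity, card_alt5, factorization_60]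
  norm_num

theorem isKleinFour_sylow2_alt5 (P : Sylow 2 (alternatingGroup (Fin 5))) :
    IsKleinFour (P : Subgroup (alternatingGroup (Fin 5))) := by
  have hc := card_sylow2_alt5 P
  refine ⟨hc, ?_⟩
  have h1 : Monoid.exponent (P : Subgroup (alternatingGroup (Fin 5))) ∣ 2 := by
    apply Monoid.exponent_dvd_of_forall_pow_eq_one
    intro x
    have h4 : x ^ 4 = 1 := by
      rw [← hc]; exact pow_card_eq_one'
    have h4' : ((x : alternatingGroup (Fin 5)) : Perm (Fin 5)) ^ 4 = 1 := by
      have := congrArg (fun t : (P : Subgroup (alternatingGroup (Fin 5))) =>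
        ((t : alternatingGroup (Fin 5)) : Perm (Fin 5))) h4
      simpa using this
    have h2 := perm5_sq _ (Perm.mem_alternatingGroup.mp (x : alternatingGroup (Fin 5)).2) h4'
    apply Subtype.ext
    apply Subtype.ext
    simpa using h2
  rcases (Nat.dvd_prime Nat.prime_two).mp h1 with h | h
  · exfalso
    rw [Monoid.exp_eq_one_iff] at h
    have := Nat.card_eq_one_iff_unique.mpr ⟨h, ⟨1⟩⟩
    omega
  · exact h

theorem index_alt5 (P : Sylow 2 (alternatingGroup (Fin 5))) :
    ((centralizer ((P : Subgroup (alternatingGroup (Fin 5))) :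
        Set (alternatingGroup (Fin 5)))).subgroupOf
      (normalizer ((P : Subgroup (alternatingGroup (Fin 5))) :
        Set (alternatingGroup (Fin 5))))).index = 3 := by
  have hc := card_sylow2_alt5 P
  haveI hK := isKleinFour_sylow2_alt5 P
  have hcomm : ∀ u v : (P : Subgroup (alternatingGroup (Fin 5))), u * v = v * u := by
    intro u v
    exact mul_comm_of_exponent_two hK.exponent_two u v
  have hPC : (P : Subgroup (alternatingGroup (Fin 5))) ≤
      centralizer ((P : Subgroup (alternatingGroup (Fin 5))) : Set (alternatingGroup (Fin 5))) := by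
    intro x hx
    rw [mem_centralizer_iff]
    intro y hy
    exact congrArg Subtype.val (hcomm ⟨y, hy⟩ ⟨x, hx⟩)
  set N := normalizer ((P : Subgroup (alternatingGroup (Fin 5))) : Set (alternatingGroup (Fin 5)))
    with hN
  set C := centralizer ((P : Subgroup (alternatingGroup (Fin 5))) : Set (alternatingGroup (Fin 5)))
    with hC
  -- index divides 24
  have h24 : (C.subgroupOf N).index ∣ 24 := by
    set φ := (P : Subgroup (alternatingGroup (Fin 5))).normalizerMonoidHom with hφ
    set ψ : N →* Perm (P : Subgroup (alternatingGroup (Fin 5))) :=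
      (MulAut.toPerm _).comp φ with hψ
    have hker : ψ.ker = C.subgroupOf N := by
      rw [← normalizerMonoidHom_ker]
      ext x
      rw [MonoidHom.mem_ker, MonoidHom.mem_ker, hψ, MonoidHom.comp_apply]
      constructor
      · intro h
        apply MulEquiv.ext
        intro y
        have := congrArg (fun e : Perm (P : Subgroup (alternatingGroup (Fin 5))) => e y) h
        exact this
      · intro h
        rw [h, map_one]
    rw [← hker, index_ker]
    have h1 : Nat.card ψ.range ∣ Nat.card (Perm (P : Subgroup (alternatingGroup (Fin 5)))) :=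
      card_subgroup_dvd_card _
    rw [Nat.card_perm, hc] at h1
    exact h1
  -- index divides 15
  have h15 : (C.subgroupOf N).index ∣ 15 := by
    have h1 : C.relIndex N ∣ (P : Subgroup (alternatingGroup (Fin 5))).relIndex N :=
      relIndex_dvd_of_le_left N hPC
    have h2 : (P : Subgroup (alternatingGroup (Fin 5))).relIndex N ∣
        (P : Subgroup (alternatingGroup (Fin 5))).index := by
      rw [← relIndex_mul_index (le_normalizer : (P : Subgroup (alternatingGroup (Fin 5))) ≤ N)]
      exact dvd_mul_right _ _
    have h3 : (P : Subgroup (alternatingGroup (Fin 5))).index = 15 := by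
      have := (P : Subgroup (alternatingGroup (Fin 5))).card_mul_index
      rw [hc, card_alt5] at this
      omega
    rw [h3] at h2
    exact h1.trans h2
  have h3 : (C.subgroupOf N).index ∣ 3 := by
    have := Nat.dvd_gcd h24 h15
    norm_num at this
    exact this
  rcases (Nat.dvd_prime Nat.prime_three).mp h3 with h | h
  · exfalso
    -- Burnside transfer
    have hNC : N ≤ C := by
      rw [index_eq_one, subgroupOf_eq_top] at h
      exact h
    have hcomp := MonoidHom.ker_transferSylow_isComplement' P hNC
    have hcard := hcomp.card_mul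
    rw [hc, card_alt5] at hcard
    haveI := alternatingGroup.isSimpleGroup_five
    rcases (MonoidHom.transferSylow P hNC).normal_ker.eq_bot_or_eq_top with hb | ht
    · rw [hb, card_bot] at hcard
      omega
    · rw [ht, card_top, card_alt5] at hcard
      omega
  · exact h

end Cfsg.Agent.Lib.Helper4.AltAbSyl
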