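import Mathlib
import Cfsg.Agent.Lib.Helper4.Simple60

/-!
GH5 farm (S3106): counting elements of order three in subgroups of a simple group of order 60.
-/

namespace Cfsg.Agent.Lib.Helper4.GH5

open Cfsg.Agent.Lib.Helper4

/-- elements of order `p` when the Sylow `p`-subgroups have order `p` -/
theorem card_orderOf_eq_prime {H : Type*} [Group H] [Finite H] (p : ℕ) [hp : Fact p.Prime]
    (hc : ∀ P : Sylow p H, Nat.card P = p) :
    Nat.card {h : H // orderOf h = p} = Nat.card (Sylow p H) * (p - 1) := by
  rw [card_union_sylow_le p (sylow_TI_of_card_prime p hc) p hc]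
  apply Nat.card_congr
  apply Equiv.subtypeEquivRight
  intro x
  constructor
  · intro hx
    refine ⟨fun h1 => ?_, ?_⟩
    · rw [h1, orderOf_one] at hx
      exact hp.out.one_lt.ne hx
    · have hpg : IsPGroup p (Subgroup.zpowers x) :=
        IsPGroup.of_card (n := 1) (by rw [Nat.card_zpowers, hx, pow_one])
      obtain ⟨P, hP⟩ := hpg.exists_le_sylow
      exact ⟨P, hP (Subgroup.mem_zpowers x)⟩
  · rintro ⟨hx1, P, hxP⟩
    have hdvd : orderOf x ∣ p := by
      have h1 : orderOf (⟨x, hxP⟩ : (P : Subgroup H)) ∣ Nat.card (P : Subgroup H) :=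
        orderOf_dvd_natCard _
      rw [hc P, ← Subgroup.orderOf_coe] at h1
      exact h1
    rcases (Nat.dvd_prime hp.out).mp hdvd with h | h
    · exact absurd (orderOf_eq_one_iff.mp h) hx1
    · exact h

/-- transfer of the count to the ambient group -/
theorem card_mem_orderOf {G : Type*} [Group G] (S : Subgroup G) (n : ℕ) :
    Nat.card {y : G // y ∈ S ∧ orderOf y = n} = Nat.card {h : S // orderOf h = n} := by
  apply Nat.card_congr
  refine (Equiv.subtypeSubtypeEquivSubtypeInter (fun y : G => y ∈ S)
    (fun y : G => orderOf y = n)).symm.trans ?_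
  apply Equiv.subtypeEquivRight
  intro x
  show orderOf (x : G) = n ↔ orderOf x = n
  rw [Subgroup.orderOf_coe]

theorem t3_of_card_six {G : Type*} [Group G] [Finite G] (S : Subgroup G)
    (hS : Nat.card S = 6) : Nat.card {y : G // y ∈ S ∧ orderOf y = 3} = 2 := by
  have : Fact (Nat.Prime 3) := ⟨by norm_num⟩
  rw [card_mem_orderOf]
  have hc : ∀ P : Sylow 3 S, Nat.card P = 3 := fun P => by
    have := sylow_card_of_eq 3 1 2 (by rw [hS]; norm_num) (by norm_num) P
    simpa using this
  rw [card_orderOf_eq_prime 3 hc]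
  obtain ⟨P⟩ : Nonempty (Sylow 3 S) := inferInstance
  have h1 : Nat.card (Sylow 3 S) ∣ 2 := by
    have h2 := Sylow.card_dvd_index P
    have h3 : (P : Subgroup S).index = 2 := by
      have h4 := Subgroup.card_mul_index (P : Subgroup S)
      rw [hc P, hS] at h4
      omega
    rwa [h3] at h2
  have h2 : Nat.card (Sylow 3 S) ≡ 1 [MOD 3] := card_sylow_modEq_one 3 S
  have h3 : Nat.card (Sylow 3 S) = 1 := by
    have hle := Nat.le_of_dvd (by norm_num) h1
    have hpos : 0 < Nat.card (Sylow 3 S) := Nat.pos_of_dvd_of_pos h1 (by norm_num)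
    interval_cases hk : Nat.card (Sylow 3 S)
    · rfl
    · exact absurd h2 (by decide)
  rw [h3]

theorem t3_of_card_twelve {G : Type*} [Group G] [Finite G] [IsSimpleGroup G]
    (h60 : Nat.card G = 60) (S : Subgroup G)
    (hS : Nat.card S = 12) : Nat.card {y : G // y ∈ S ∧ orderOf y = 3} = 8 := by
  have : Fact (Nat.Prime 3) := ⟨by norm_num⟩
  rw [card_mem_orderOf]
  have hc : ∀ P : Sylow 3 S, Nat.card P = 3 := fun P => by
    have := sylow_card_of_eq 3 1 4 (by rw [hS]; norm_num) (by norm_num) P
    simpa using this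
  rw [card_orderOf_eq_prime 3 hc]
  obtain ⟨R⟩ : Nonempty (Sylow 3 S) := inferInstance
  have h1 : Nat.card (Sylow 3 S) ∣ 4 := by
    have h2 := Sylow.card_dvd_index R
    have h3 : (R : Subgroup S).index = 4 := by
      have h4 := Subgroup.card_mul_index (R : Subgroup S)
      rw [hc R, hS] at h4
      omega
    rwa [h3] at h2
  have h2 : Nat.card (Sylow 3 S) ≡ 1 [MOD 3] := card_sylow_modEq_one 3 S
  have h3 : Nat.card (Sylow 3 S) = 1 ∨ Nat.card (Sylow 3 S) = 4 := by
    have hle := Nat.le_of_dvd (by norm_num) h1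
    have hpos : 0 < Nat.card (Sylow 3 S) := Nat.pos_of_dvd_of_pos h1 (by norm_num)
    interval_cases hk : Nat.card (Sylow 3 S)
    · left; rfl
    · exact absurd h2 (by decide)
    · exact absurd h1 (by decide)
    · right; rfl
  rcases h3 with h3 | h3
  · exfalso
    -- the Sylow 3-subgroup of `S` is normal in `S`
    have hsub : Subsingleton (Sylow 3 S) := (Nat.card_eq_one_iff_unique.mp h3).1
    have hRn : (R : Subgroup S).Normal := Sylow.normal_of_subsingleton R
    let R' : Subgroup G := (R : Subgroup S).map S.subtype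
    have hR'card : Nat.card R' = 3 := by
      rw [Subgroup.card_map_of_injective S.subtype_injective, hc R]
    have hSle : S ≤ Subgroup.normalizer (R' : Set G) := by
      have h5 := Subgroup.le_normalizer_map (H := (R : Subgroup S)) S.subtype
      rw [Subgroup.normalizer_eq_top_iff.mpr hRn, ← MonoidHom.range_eq_map,
        Subgroup.range_subtype] at h5
      exact h5
    -- `R'` is a Sylow 3-subgroup of `G`
    have hpg : IsPGroup 3 R' := IsPGroup.of_card (n := 1) (by rw [hR'card, pow_one])
    obtain ⟨P, hP⟩ := hpg.exists_le_sylow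
    have hPcard : Nat.card P = 3 := by
      have := sylow_card_of_eq 3 1 20 (by rw [h60]; norm_num) (by norm_num) P
      simpa using this
    have hPeq : R' = (P : Subgroup G) :=
      Subgroup.eq_of_le_of_card_ge hP (by rw [hPcard, hR'card])
    have hN : Subgroup.normalizer ((P : Subgroup G) : Set G) ≠ ⊤ :=
      sylow_not_normal h60 3 P 3 hPcard (by norm_num) (by norm_num)
    have hidx5 := five_le_index h60 _ hN
    have hidx : Nat.card (Sylow 3 G) = (Subgroup.normalizer ((P : Subgroup G) : Set G)).index :=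
      Sylow.card_eq_index_normalizer P
    have hmod : Nat.card (Sylow 3 G) ≡ 1 [MOD 3] := card_sylow_modEq_one 3 G
    -- `12 ∣ |N(P)|`
    have h12 : 12 ∣ Nat.card (Subgroup.normalizer ((P : Subgroup G) : Set G)) := by
      rw [← hS, ← hPeq]
      exact Subgroup.card_dvd_of_le hSle
    have hmul := Subgroup.card_mul_index (Subgroup.normalizer ((P : Subgroup G) : Set G))
    rw [h60] at hmul
    obtain ⟨k, hk⟩ := h12
    rw [hk] at hmul
    rw [hidx] at hmod
    have hkidx : k * (Subgroup.normalizer ((P : Subgroup G) : Set G)).index = 5 := by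
      have : 12 * (k * (Subgroup.normalizer ((P : Subgroup G) : Set G)).index) = 12 * 5 := by
        rw [← mul_assoc, hmul]
      exact Nat.eq_of_mul_eq_mul_left (by norm_num) this
    have hidxdvd : (Subgroup.normalizer ((P : Subgroup G) : Set G)).index ∣ 5 :=
      Dvd.intro_left _ hkidx
    have hle := Nat.le_of_dvd (by norm_num) hidxdvd
    have h5 : (Subgroup.normalizer ((P : Subgroup G) : Set G)).index = 5 := le_antisymm hle hidx5
    rw [h5] at hmod
    exact absurd hmod (by decide)
  · rw [h3]

end Cfsg.Agent.Lib.Helper4.GH5
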