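import Mathlib
import Cfsg.Agent.Lib.Helper4.GH5Cnt

/-!
GH5 farm (S3106), Lemma M: a group `G` of order 60 (simple) acting faithfully on an elementary
abelian group `U` of order 16.  Part 1: fixed points of elements of prime order, stabilisers.
-/

namespace Cfsg.Agent.Lib.Helper4.GH5

open Cfsg.Agent.Lib.Helper4

section act

variable {G : Type*} [Group G] {U : Type*} [AddCommGroup U] [DistribMulAction G U]

/-- fixed points of an element as an additive subgroup -/
def fixG (g : G) : AddSubgroup U where
  carrier := {u | g • u = u}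
  zero_mem' := smul_zero g
  add_mem' := fun {a b} ha hb => by
    show g • (a + b) = a + b
    rw [smul_add, ha, hb]
  neg_mem' := fun {a} ha => by
    show g • (-a) = -a
    rw [smul_neg, ha]

theorem mem_fixG {g : G} {u : U} : u ∈ fixG g ↔ g • u = u := Iff.rfl

theorem fixG_inv (g : G) : (fixG g⁻¹ : AddSubgroup U) = fixG g := by
  ext u
  rw [mem_fixG, mem_fixG, inv_smul_eq_iff, eq_comm]

theorem card_fixG_conj (g h : G) :
    Nat.card (fixG (h * g * h⁻¹) : AddSubgroup U) = Nat.card (fixG g : AddSubgroup U) := by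
  symm
  apply Nat.card_congr
  refine ⟨fun u => ⟨h • (u : U), ?_⟩, fun u => ⟨h⁻¹ • (u : U), ?_⟩, ?_, ?_⟩
  · show (h * g * h⁻¹) • h • (u : U) = h • (u : U)
    rw [smul_smul, inv_mul_cancel_right, mul_smul, u.2]
  · show g • h⁻¹ • (u : U) = h⁻¹ • (u : U)
    have hu : (h * g * h⁻¹) • (u : U) = u := u.2
    rw [eq_inv_smul_iff, smul_smul, smul_smul]
    exact hu
  · intro u
    apply Subtype.ext
    show h⁻¹ • h • (u : U) = u
    rw [inv_smul_smul]
  · intro u
    apply Subtype.ext
    show h • h⁻¹ • (u : U) = u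
    rw [smul_inv_smul]

/-- fixed points modulo `p` for an element of prime order `p` -/
theorem card_fixG_modEq [Finite U] (g : G) (p : ℕ) [hp : Fact p.Prime] (hg : orderOf g = p) :
    Nat.card U ≡ Nat.card (fixG g : AddSubgroup U) [MOD p] := by
  have hpg : IsPGroup p (Subgroup.zpowers g) :=
    IsPGroup.of_card (n := 1) (by rw [Nat.card_zpowers, hg, pow_one])
  have h1 := hpg.card_modEq_card_fixedPoints U
  have h2 : Nat.card (MulAction.fixedPoints (Subgroup.zpowers g) U) =
      Nat.card (fixG g : AddSubgroup U) := by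
    apply Nat.card_congr
    apply Equiv.subtypeEquivRight
    intro u
    constructor
    · intro hu
      exact hu ⟨g, Subgroup.mem_zpowers g⟩
    · intro hu
      rintro ⟨x, hx⟩
      have hle : Subgroup.zpowers g ≤ MulAction.stabilizer G u := by
        rw [Subgroup.zpowers_le]
        exact hu
      exact hle hx
  rw [h2] at h1
  exact h1

end act

section sixteen

variable {G : Type*} [Group G] {U : Type*} [AddCommGroup U] [DistribMulAction G U]
  [FaithfulSMul G U]

theorem fixG_ne_top {g : G} (hg : g ≠ 1) : (fixG g : AddSubgroup U) ≠ ⊤ := by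
  intro htop
  apply hg
  apply FaithfulSMul.eq_of_smul_eq_smul (α := U)
  intro u
  have : u ∈ (fixG g : AddSubgroup U) := by rw [htop]; trivial
  rw [one_smul]
  exact this

omit [FaithfulSMul G U] in
theorem card_fixG_dvd (hU16 : Nat.card U = 16) (g : G) :
    Nat.card (fixG g : AddSubgroup U) ∣ 16 := by
  rw [← hU16]
  exact AddSubgroup.card_addSubgroup_dvd_card _

theorem card_fixG_lt (hU16 : Nat.card U = 16) {g : G} (hg : g ≠ 1) :
    Nat.card (fixG g : AddSubgroup U) < 16 := by
  have : Finite U := Nat.finite_of_card_ne_zero (by rw [hU16]; norm_num)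
  have hle : Nat.card (fixG g : AddSubgroup U) ≤ 16 :=
    Nat.le_of_dvd (by norm_num) (card_fixG_dvd hU16 g)
  rcases lt_or_eq_of_le hle with h | h
  · exact h
  · exfalso
    apply fixG_ne_top (U := U) hg
    apply AddSubgroup.eq_top_of_card_eq
    rw [h, hU16]

/-- (F1) elements of order five have no nonzero fixed vector -/
theorem fix5 (hU16 : Nat.card U = 16) {g : G} (hg : orderOf g = 5) (u : U) (hu : g • u = u) :
    u = 0 := by
  have : Finite U := Nat.finite_of_card_ne_zero (by rw [hU16]; norm_num)
  have : Fact (Nat.Prime 5) := ⟨by norm_num⟩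
  have hg1 : g ≠ 1 := by
    rintro rfl
    rw [orderOf_one] at hg
    norm_num at hg
  have h1 := card_fixG_modEq (U := U) g 5 hg
  rw [hU16] at h1
  have h2 := card_fixG_dvd hU16 g
  have h3 := card_fixG_lt hU16 hg1
  have h4 : Nat.card (fixG g : AddSubgroup U) = 1 := by
    have hpos : 0 < Nat.card (fixG g : AddSubgroup U) := Nat.pos_of_dvd_of_pos h2 (by norm_num)
    interval_cases hk : Nat.card (fixG g : AddSubgroup U) <;> first | rfl | (exfalso; revert h1; decide) | (exfalso; revert h2; decide)
  have h5 : (fixG g : AddSubgroup U) = ⊥ := AddSubgroup.eq_bot_of_card_eq _ h4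
  have h6 : u ∈ (fixG g : AddSubgroup U) := hu
  rw [h5, AddSubgroup.mem_bot] at h6
  exact h6

/-- elements of order three fix `1` or `4` vectors -/
theorem fix3_card (hU16 : Nat.card U = 16) {g : G} (hg : orderOf g = 3) :
    Nat.card (fixG g : AddSubgroup U) = 1 ∨ Nat.card (fixG g : AddSubgroup U) = 4 := by
  have : Finite U := Nat.finite_of_card_ne_zero (by rw [hU16]; norm_num)
  have : Fact (Nat.Prime 3) := ⟨by norm_num⟩
  have hg1 : g ≠ 1 := by
    rintro rfl
    rw [orderOf_one] at hg
    norm_num at hg
  have h1 := card_fixG_modEq (U := U) g 3 hg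
  rw [hU16] at h1
  have h2 := card_fixG_dvd hU16 g
  have h3 := card_fixG_lt hU16 hg1
  have hpos : 0 < Nat.card (fixG g : AddSubgroup U) := Nat.pos_of_dvd_of_pos h2 (by norm_num)
  interval_cases hk : Nat.card (fixG g : AddSubgroup U) <;>
    first | (left; rfl) | (right; rfl) | (exfalso; revert h1; decide) | (exfalso; revert h2; decide)

end sixteen

end Cfsg.Agent.Lib.Helper4.GH5
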