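import Mathlib
import Cfsg.Agent.Lib.Helper4.GH5MO1

/-!
GH5 farm (S3106), Lemma M, part 2: conjugacy of the elements of order three, orders of the
stabilisers of nonzero vectors, and the count of vectors with stabiliser of order twelve.
-/

namespace Cfsg.Agent.Lib.Helper4.GH5

open Cfsg.Agent.Lib.Helper4

open scoped Pointwise

section act

variable {G : Type*} [Group G] {U : Type*} [AddCommGroup U] [DistribMulAction G U]

theorem fixG_le_of_mem_zpowers {y z : G} (hz : z ∈ Subgroup.zpowers y) :
    (fixG y : AddSubgroup U) ≤ fixG z := by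
  intro u hu
  have hle : Subgroup.zpowers y ≤ MulAction.stabilizer G u := by
    rw [Subgroup.zpowers_le]
    exact hu
  exact hle hz

end act

section sixty

variable {G : Type*} [Group G] [Finite G] [IsSimpleGroup G]
  {U : Type*} [AddCommGroup U] [DistribMulAction G U]

omit [IsSimpleGroup G] in
/-- all elements of order three have the same number of fixed vectors -/
theorem card_fixG_order3 (h60 : Nat.card G = 60) {y0 y : G} (hy0 : orderOf y0 = 3)
    (hy : orderOf y = 3) :
    Nat.card (fixG y : AddSubgroup U) = Nat.card (fixG y0 : AddSubgroup U) := by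
  have : Fact (Nat.Prime 3) := ⟨by norm_num⟩
  have hcard : ∀ P : Sylow 3 G, Nat.card P = 3 := fun P => by
    have := sylow_card_of_eq 3 1 20 (by rw [h60]; norm_num) (by norm_num) P
    simpa using this
  have hsyl : ∀ x : G, orderOf x = 3 → ∃ P : Sylow 3 G, (P : Subgroup G) = Subgroup.zpowers x := by
    intro x hx
    have hpg : IsPGroup 3 (Subgroup.zpowers x) :=
      IsPGroup.of_card (n := 1) (by rw [Nat.card_zpowers, hx, pow_one])
    obtain ⟨P, hP⟩ := hpg.exists_le_sylow
    refine ⟨P, (Subgroup.eq_of_le_of_card_ge hP ?_).symm⟩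
    rw [hcard P, Nat.card_zpowers, hx]
  obtain ⟨P0, hP0⟩ := hsyl y0 hy0
  obtain ⟨P, hP⟩ := hsyl y hy
  obtain ⟨g, hg⟩ := MulAction.exists_smul_eq G P0 P
  have hyP : y ∈ (g • P0 : Sylow 3 G) := by
    rw [hg]
    show y ∈ (P : Subgroup G)
    rw [hP]
    exact Subgroup.mem_zpowers y
  rw [Sylow.smul_def] at hyP
  have hyP' : y ∈ MulAut.conj g • (P0 : Subgroup G) := hyP
  rw [Subgroup.mem_smul_pointwise_iff_exists] at hyP'
  obtain ⟨z, hzP0, hzy⟩ := hyP'
  rw [hP0] at hzP0
  have hzy' : g * z * g⁻¹ = y := by
    rw [← hzy]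
    rfl
  have hz3 : orderOf z = 3 := by
    have h1 : orderOf ((MulAut.conj g) z) = orderOf z := MulEquiv.orderOf_eq (MulAut.conj g) z
    rw [← h1, MulAut.conj_apply, hzy', hy]
  have hzz : Subgroup.zpowers z = Subgroup.zpowers y0 := by
    apply Subgroup.eq_of_le_of_card_ge
    · rw [Subgroup.zpowers_le]; exact hzP0
    · rw [Nat.card_zpowers, Nat.card_zpowers, hz3, hy0]
  have hfix : (fixG z : AddSubgroup U) = fixG y0 := by
    apply le_antisymm
    · apply fixG_le_of_mem_zpowers
      rw [hzz]
      exact Subgroup.mem_zpowers y0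
    · exact fixG_le_of_mem_zpowers hzP0
  rw [← hzy', card_fixG_conj, hfix]

end sixty

section stab

variable {G : Type*} [Group G] [Finite G]
  {U : Type*} [AddCommGroup U] [DistribMulAction G U] [FaithfulSMul G U]

/-- the stabiliser of a nonzero vector has order 4, 6 or 12 -/
theorem card_stabilizer_mem (h60 : Nat.card G = 60) (hU16 : Nat.card U = 16) {u : U}
    (hu : u ≠ 0) :
    Nat.card (MulAction.stabilizer G u) = 4 ∨ Nat.card (MulAction.stabilizer G u) = 6 ∨
      Nat.card (MulAction.stabilizer G u) = 12 := by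
  classical
  have : Finite U := Nat.finite_of_card_ne_zero (by rw [hU16]; norm_num)
  have : Fact (Nat.Prime 5) := ⟨by norm_num⟩
  have := Fintype.ofFinite U
  have := Fintype.ofFinite G
  -- no element of order five
  have h5 : ¬ 5 ∣ Nat.card (MulAction.stabilizer G u) := by
    intro hdvd
    obtain ⟨g, hg⟩ := exists_prime_orderOf_dvd_card' 5 hdvd
    have hg' : orderOf (g : G) = 5 := by rw [Subgroup.orderOf_coe]; exact hg
    exact hu (fix5 hU16 hg' u g.2)
  -- orbit-stabiliser
  have hos := MulAction.card_orbit_mul_card_stabilizer_eq_card_group G u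
  rw [← Nat.card_eq_fintype_card, ← Nat.card_eq_fintype_card, ← Nat.card_eq_fintype_card,
    h60] at hos
  -- the orbit avoids zero
  have horb : Nat.card (MulAction.orbit G u) ≤ 15 := by
    have hsub : MulAction.orbit G u ⊆ {v : U | v ≠ 0} := by
      rintro _ ⟨g, rfl⟩
      show g • u ≠ 0
      rw [Ne, smul_eq_zero_iff_eq]
      exact hu
    have h1 : Nat.card (MulAction.orbit G u) ≤ Nat.card {v : U | v ≠ 0} :=
      Nat.card_mono (Set.toFinite _) hsub
    have h2 : Nat.card {v : U | v ≠ 0} = 15 := by
      have h3 : Nat.card {v : U // v ≠ 0} = Nat.card U - 1 := by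
        rw [Nat.card_eq_fintype_card, Nat.card_eq_fintype_card, Fintype.card_subtype_compl,
          Fintype.card_subtype_eq]
      rw [hU16] at h3
      exact h3
    rw [h2] at h1
    exact h1
  have hdvd : Nat.card (MulAction.stabilizer G u) ∣ 60 := Dvd.intro_left _ hos
  have hle : Nat.card (MulAction.stabilizer G u) ≤ 60 := Nat.le_of_dvd (by norm_num) hdvd
  have hpos : 0 < Nat.card (MulAction.stabilizer G u) := Nat.pos_of_dvd_of_pos hdvd (by norm_num)
  generalize Nat.card (MulAction.stabilizer G u) = s at *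
  generalize Nat.card (MulAction.orbit G u) = o at *
  interval_cases s <;> first | (left; rfl) | (right; left; rfl) | (right; right; rfl) | (exfalso; revert hdvd; decide) | (exfalso; revert h5; decide) | (exfalso; omega)

end stab

end Cfsg.Agent.Lib.Helper4.GH5
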