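import Mathlib

/-!
GH5 farm (S3106): the model of a "type O" module for `A₅`: `U = 𝔽₂⁵ / ⟨(1,1,1,1,1)⟩` with
`A₅` permuting the images `w i` of the basis vectors.
-/

namespace Cfsg.Agent.Lib.Helper4.GH5

/-- Model data for a type-O module: an isomorphism `φ : G ≃* A₅` and vectors `w i` permuted
by `G` through `φ`, with `∑ w i = 0`, such that the subset sums exhaust `U` and two subset
sums agree only for a subset and its complement. -/
structure TypeOData {G : Type*} [Group G] {U : Type*} [AddCommGroup U]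
    (ρ : G →* AddMonoid.End U) where
  φ : G ≃* alternatingGroup (Fin 5)
  w : Fin 5 → U
  smul_w : ∀ (g : G) (i : Fin 5), ρ g (w i) = w (((φ g : alternatingGroup (Fin 5)) :
    Equiv.Perm (Fin 5)) i)
  sum_w : ∑ i, w i = 0
  span : ∀ u : U, ∃ S : Finset (Fin 5), u = ∑ i ∈ S, w i
  sum_eq : ∀ S T : Finset (Fin 5), ∑ i ∈ S, w i = ∑ i ∈ T, w i → (T = S ∨ T = Sᶜ)

end Cfsg.Agent.Lib.Helper4.GH5
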