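import Mathlib
import Cfsg.Agent.Lib.Helper4.GH5MO2
import Cfsg.Agent.Lib.Helper4.GH5MODefs

/-!
GH5 farm (S3106), Lemma M, part 3: subset sums of five vectors `w i` in an elementary abelian
2-group with `∑ w i = 0`, `w` injective and nonvanishing.
-/

namespace Cfsg.Agent.Lib.Helper4.GH5

open Cfsg.Agent.Lib.Helper4

section sums

variable {U : Type*} [AddCommGroup U] (hU2 : ∀ u : U, u + u = 0) (w : Fin 5 → U)

include hU2 in
theorem sum_symmDiff (S T : Finset (Fin 5)) :
    ∑ i ∈ symmDiff S T, w i = ∑ i ∈ S, w i + ∑ i ∈ T, w i := by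
  classical
  have h : ∀ R : Finset (Fin 5), ∑ i ∈ R, w i = ∑ i, (if i ∈ R then w i else 0) := by
    intro R
    rw [Finset.sum_ite_mem, Finset.univ_inter]
  rw [h, h S, h T, ← Finset.sum_add_distrib]
  apply Finset.sum_congr rfl
  intro i _
  by_cases hS : i ∈ S <;> by_cases hT : i ∈ T <;> simp [Finset.mem_symmDiff, hS, hT, hU2]

include hU2 in
theorem sum_compl (hsum : ∑ i, w i = 0) (S : Finset (Fin 5)) :
    ∑ i ∈ Sᶜ, w i = ∑ i ∈ S, w i := by
  classical
  have h := Finset.sum_add_sum_compl S w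
  rw [hsum] at h
  -- a + b = 0 → b = a
  have h2 : ∑ i ∈ Sᶜ, w i = -∑ i ∈ S, w i := (neg_eq_of_add_eq_zero_right h).symm
  rw [h2]
  exact neg_eq_of_add_eq_zero_left (hU2 _)

include hU2 in
theorem eq_empty_of_sum_zero_small (hinj : Function.Injective w) (hne : ∀ i, w i ≠ 0)
    (D : Finset (Fin 5)) (hD : D.card ≤ 2) (h0 : ∑ i ∈ D, w i = 0) : D = ∅ := by
  classical
  rcases Nat.lt_or_ge D.card 1 with h | h
  · exact Finset.card_eq_zero.mp (by omega)
  rcases Nat.lt_or_ge D.card 2 with h' | h'
  · have h1 : D.card = 1 := by omega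
    obtain ⟨a, rfl⟩ := Finset.card_eq_one.mp h1
    rw [Finset.sum_singleton] at h0
    exact absurd h0 (hne a)
  · have h2 : D.card = 2 := by omega
    obtain ⟨a, b, hab, rfl⟩ := Finset.card_eq_two.mp h2
    rw [Finset.sum_pair hab] at h0
    exfalso
    apply hab
    apply hinj
    have h3 : w a = -w b := eq_neg_of_add_eq_zero_left h0
    rw [h3]
    exact neg_eq_of_add_eq_zero_left (hU2 _)

include hU2 in
theorem eq_empty_or_univ_of_sum_zero (hsum : ∑ i, w i = 0) (hinj : Function.Injective w)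
    (hne : ∀ i, w i ≠ 0) (D : Finset (Fin 5)) (h0 : ∑ i ∈ D, w i = 0) :
    D = ∅ ∨ D = Finset.univ := by
  classical
  rcases Nat.lt_or_ge D.card 3 with h | h
  · left
    exact eq_empty_of_sum_zero_small hU2 w hinj hne D (by omega) h0
  · right
    have hc : Dᶜ.card ≤ 2 := by
      rw [Finset.card_compl, Fintype.card_fin]
      omega
    have h1 : ∑ i ∈ Dᶜ, w i = 0 := by rw [sum_compl hU2 w hsum, h0]
    have h2 := eq_empty_of_sum_zero_small hU2 w hinj hne Dᶜ hc h1
    exact (Finset.compl_eq_empty_iff D).mp h2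

include hU2 in
theorem sum_eq_imp (hsum : ∑ i, w i = 0) (hinj : Function.Injective w)
    (hne : ∀ i, w i ≠ 0) (S T : Finset (Fin 5)) (h : ∑ i ∈ S, w i = ∑ i ∈ T, w i) :
    T = S ∨ T = Sᶜ := by
  classical
  have h0 : ∑ i ∈ symmDiff S T, w i = 0 := by
    rw [sum_symmDiff hU2, h]
    exact hU2 _
  rcases eq_empty_or_univ_of_sum_zero hU2 w hsum hinj hne _ h0 with h1 | h1
  · left
    have : symmDiff S T = ⊥ := h1
    exact (symmDiff_eq_bot.mp this).symm
  · right
    have h2 : symmDiff S T = ⊤ := h1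
    have h3 : IsCompl S T := by
      rw [_root_.symmDiff_eq_top] at h2
      exact h2
    exact h3.compl_eq.symm

include hU2 in
theorem span_of_card (hU16 : Nat.card U = 16) (hsum : ∑ i, w i = 0) (hinj : Function.Injective w)
    (hne : ∀ i, w i ≠ 0) (u : U) : ∃ S : Finset (Fin 5), u = ∑ i ∈ S, w i := by
  classical
  have : Finite U := Nat.finite_of_card_ne_zero (by rw [hU16]; norm_num)
  have := Fintype.ofFinite U
  let f : Finset (Fin 5) → U := fun S => ∑ i ∈ S, w i
  have hfib : ∀ a ∈ (Finset.univ : Finset (Finset (Fin 5))).image f,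
      ((Finset.univ : Finset (Finset (Fin 5))).filter fun x => f x = a).card ≤ 2 := by
    intro a ha
    obtain ⟨S0, _, rfl⟩ := Finset.mem_image.mp ha
    have hsub : ((Finset.univ : Finset (Finset (Fin 5))).filter fun x => f x = f S0) ⊆
        {S0, S0ᶜ} := by
      intro T hT
      rw [Finset.mem_filter] at hT
      have := sum_eq_imp hU2 w hsum hinj hne S0 T hT.2.symm
      rw [Finset.mem_insert, Finset.mem_singleton]
      exact this
    exact (Finset.card_le_card hsub).trans Finset.card_le_two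
  have h1 := Finset.card_le_mul_card_image (Finset.univ : Finset (Finset (Fin 5))) 2 hfib
  rw [Finset.card_univ, Fintype.card_finset, Fintype.card_fin] at h1
  have h2 : ((Finset.univ : Finset (Finset (Fin 5))).image f).card ≤ 16 := by
    have := Finset.card_le_univ ((Finset.univ : Finset (Finset (Fin 5))).image f)
    rw [← Nat.card_eq_fintype_card, hU16] at this
    exact this
  have h3 : ((Finset.univ : Finset (Finset (Fin 5))).image f).card = Fintype.card U := by
    rw [← Nat.card_eq_fintype_card, hU16]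
    omega
  have h4 : (Finset.univ : Finset (Finset (Fin 5))).image f = Finset.univ :=
    (Finset.card_eq_iff_eq_univ _).mp h3
  have h5 : u ∈ (Finset.univ : Finset (Finset (Fin 5))).image f := by rw [h4]; exact Finset.mem_univ u
  obtain ⟨S, _, hS⟩ := Finset.mem_image.mp h5
  exact ⟨S, hS.symm⟩

end sums

end Cfsg.Agent.Lib.Helper4.GH5
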