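import Mathlib
import Cfsg.Agent.Lib.Helper4.GH5MO3

/-!
GH5 farm (S3106), Lemma M, part 4: the type-O model from a nonzero vector whose stabiliser has
order twelve.
-/

namespace Cfsg.Agent.Lib.Helper4.GH5

open Cfsg.Agent.Lib.Helper4

section model

variable {G : Type*} [Group G] [Finite G] [IsSimpleGroup G]
  {U : Type*} [AddCommGroup U] [DistribMulAction G U] [FaithfulSMul G U]

theorem exists_model (h60 : Nat.card G = 60) (hU16 : Nat.card U = 16)
    (u0 : U) (hu0 : u0 ≠ 0) (h12 : Nat.card (MulAction.stabilizer G u0) = 12) :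
    ∃ (φ : G ≃* alternatingGroup (Fin 5)) (w : Fin 5 → U),
      (∀ (g : G) (i : Fin 5), g • w i = w (((φ g : alternatingGroup (Fin 5)) :
        Equiv.Perm (Fin 5)) i)) ∧ ∑ i, w i = 0 ∧ Function.Injective w ∧ ∀ i, w i ≠ 0 := by
  classical
  have : Finite U := Nat.finite_of_card_ne_zero (by rw [hU16]; norm_num)
  have := Fintype.ofFinite U
  have := Fintype.ofFinite G
  -- the orbit has five elements
  have hos := MulAction.card_orbit_mul_card_stabilizer_eq_card_group G u0
  rw [← Nat.card_eq_fintype_card, ← Nat.card_eq_fintype_card, ← Nat.card_eq_fintype_card,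
    h60, h12] at hos
  have horb : Nat.card (MulAction.orbit G u0) = 5 := by omega
  let ε : MulAction.orbit G u0 ≃ Fin 5 := Finite.equivFinOfCardEq horb
  let ψ : G →* Equiv.Perm (Fin 5) :=
    (ε.permCongrHom : Equiv.Perm (MulAction.orbit G u0) ≃* Equiv.Perm (Fin 5)).toMonoidHom.comp
      (MulAction.toPermHom G (MulAction.orbit G u0))
  have hψ : ∀ (g : G) (i : Fin 5), ψ g i = ε (g • ε.symm i) := fun g i => rfl
  -- injectivity
  have hker : ψ.ker = ⊥ := by
    rcases (ψ.normal_ker).eq_bot_or_eq_top with h | h
    · exact h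
    · exfalso
      have hall : ∀ g : G, g • u0 = u0 := by
        intro g
        have hg : g ∈ ψ.ker := by rw [h]; trivial
        rw [MonoidHom.mem_ker] at hg
        have h1 := hψ g (ε ⟨u0, MulAction.mem_orbit_self u0⟩)
        rw [hg, Equiv.Perm.one_apply, Equiv.symm_apply_apply] at h1
        have h2 := ε.injective h1
        exact (congrArg Subtype.val h2).symm
      have htop : MulAction.stabilizer G u0 = ⊤ := by
        rw [eq_top_iff]
        intro g _
        exact hall g
      rw [htop, Subgroup.card_top, h60] at h12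
      norm_num at h12
  have hinj : Function.Injective ψ := (MonoidHom.ker_eq_bot_iff ψ).mp hker
  -- the range is the alternating group
  have hrange : ψ.range = alternatingGroup (Fin 5) := by
    apply Equiv.Perm.eq_alternatingGroup_of_index_eq_two
    have h1 : Nat.card ψ.range = 60 := by
      rw [← h60]
      exact (Nat.card_congr (MonoidHom.ofInjective hinj).toEquiv).symm
    have h2 := Subgroup.card_mul_index ψ.range
    rw [h1, Nat.card_eq_fintype_card, Fintype.card_perm, Fintype.card_fin] at h2
    have : Nat.factorial 5 = 120 := by decide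
    rw [this] at h2
    omega
  let φ : G ≃* alternatingGroup (Fin 5) :=
    (MonoidHom.ofInjective hinj).trans (MulEquiv.subgroupCongr hrange)
  have hφ : ∀ g : G, ((φ g : alternatingGroup (Fin 5)) : Equiv.Perm (Fin 5)) = ψ g := fun g => rfl
  let w : Fin 5 → U := fun i => ((ε.symm i : MulAction.orbit G u0) : U)
  have hsmul : ∀ (g : G) (i : Fin 5), g • w i = w (((φ g : alternatingGroup (Fin 5)) :
      Equiv.Perm (Fin 5)) i) := by
    intro g i
    rw [hφ, hψ]
    show g • ((ε.symm i : MulAction.orbit G u0) : U) =
      ((ε.symm (ε (g • ε.symm i)) : MulAction.orbit G u0) : U)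
    rw [Equiv.symm_apply_apply]
    rfl
  have hwinj : Function.Injective w := by
    intro i j hij
    have h1 : ε.symm i = ε.symm j := Subtype.ext hij
    exact ε.symm.injective h1
  have hwne : ∀ i, w i ≠ 0 := by
    intro i
    obtain ⟨g, hg⟩ := (ε.symm i).2
    show ((ε.symm i : MulAction.orbit G u0) : U) ≠ 0
    rw [← hg]
    show g • u0 ≠ 0
    rw [Ne, smul_eq_zero_iff_eq]
    exact hu0
  refine ⟨φ, w, hsmul, ?_, hwinj, hwne⟩
  -- the sum is a fixed vector
  by_contra hne
  have hfix : ∀ g : G, g • (∑ i, w i) = ∑ i, w i := by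
    intro g
    rw [Finset.smul_sum]
    simp only [hsmul]
    exact Equiv.sum_comp ((φ g : alternatingGroup (Fin 5)) : Equiv.Perm (Fin 5)) w
  have htop : MulAction.stabilizer G (∑ i, w i) = ⊤ := by
    rw [eq_top_iff]
    intro g _
    exact hfix g
  have hcard := card_stabilizer_mem h60 hU16 hne
  rw [htop, Subgroup.card_top, h60] at hcard
  omega

end model

section rho

variable {G : Type*} [Group G] {U : Type*} [AddCommGroup U]

/-- The type-O model from a nonzero vector with stabiliser of order twelve. -/
theorem exists_typeO_of_stab12 (e : G ≃* alternatingGroup (Fin 5)) (hU16 : Nat.card U = 16)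
    (hU2 : ∀ u : U, u + u = 0) (ρ : G →* AddMonoid.End U) (hρ : Function.Injective ρ)
    (u0 : U) (hu0 : u0 ≠ 0) (h12 : Nat.card {g : G // ρ g u0 = u0} = 12) :
    Nonempty (TypeOData ρ) := by
  classical
  have hfin : Finite G := Finite.of_equiv _ e.symm.toEquiv
  have h60 : Nat.card G = 60 := by
    rw [Nat.card_congr e.toEquiv]
    have h : 2 * Nat.card (alternatingGroup (Fin 5)) = (5 : ℕ).factorial := by
      rw [Nat.card_eq_fintype_card, two_mul_card_alternatingGroup, Fintype.card_perm,
        Fintype.card_fin]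
    have h' : (5 : ℕ).factorial = 120 := by decide
    omega
  have hsimple : IsSimpleGroup G := by
    have : IsSimpleGroup (alternatingGroup (Fin 5)) :=
      alternatingGroup.isSimpleGroup (by simp)
    have : Nontrivial G := by
      rw [← Finite.one_lt_card_iff_nontrivial, h60]
      norm_num
    exact IsSimpleGroup.isSimpleGroup_of_surjective e.symm.toMonoidHom e.symm.surjective
  letI : DistribMulAction G U := DistribMulAction.compHom U ρ
  have hsm : ∀ (g : G) (u : U), g • u = ρ g u := fun g u => rfl
  have : FaithfulSMul G U := ⟨fun {g g'} h => hρ (by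
    apply AddMonoidHom.ext
    intro u
    exact h u)⟩
  have h12' : Nat.card (MulAction.stabilizer G u0) = 12 := by
    rw [← h12]
    rfl
  obtain ⟨φ, w, h1, h2, h3, h4⟩ := exists_model h60 hU16 u0 hu0 h12'
  exact ⟨⟨φ, w, fun g i => h1 g i, h2, span_of_card hU2 w hU16 h2 h3 h4,
    sum_eq_imp hU2 w h2 h3 h4⟩⟩

end rho

end Cfsg.Agent.Lib.Helper4.GH5
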