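import Mathlib
import Cfsg.Prelude.Def_Solvable

/-! Subgroups of `GL(4,2)` (helper4, for S2553), part G: abstract lemmas.
* a group of order `n!` (resp. `n!/2`) with a core-free subgroup of index `n` is the symmetric
  (resp. alternating) group of degree `n`;
* a group with a nontrivial normal subgroup whose order is odd or a power of `2` has
  `O_2 ≠ 1` or `O_{2'} ≠ 1`. -/

set_option autoImplicit false

namespace Cfsg.Agent.Lib.Helper4.Sg42

section corefree

variable {K : Type*} [Group K] [Finite K]

/-- the injective permutation representation on the cosets of a core-free subgroup of index `n` -/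
theorem exists_perm_hom (M : Subgroup K) (n : ℕ) (hidx : M.index = n) (hcore : M.normalCore = ⊥) :
    ∃ ψ : K →* Equiv.Perm (Fin n), Function.Injective ψ := by
  have hcard : Nat.card (K ⧸ M) = n := by rw [← Subgroup.index_eq_card, hidx]
  let e : (K ⧸ M) ≃ Fin n := Finite.equivFinOfCardEq hcard
  let φ : K →* Equiv.Perm (K ⧸ M) := MulAction.toPermHom K (K ⧸ M)
  have hφ : Function.Injective φ := by
    rw [← MonoidHom.ker_eq_bot_iff, ← Subgroup.normalCore_eq_ker, hcore]
  refine ⟨(Equiv.permCongrHom e).toMonoidHom.comp φ, ?_⟩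
  intro a b hab
  apply hφ
  exact (Equiv.permCongrHom e).injective hab

theorem iso_perm_of_corefree (M : Subgroup K) (n : ℕ) (hidx : M.index = n)
    (hcore : M.normalCore = ⊥) (hcard : Nat.card K = n.factorial) :
    Nonempty (K ≃* Equiv.Perm (Fin n)) := by
  obtain ⟨ψ, hψ⟩ := exists_perm_hom M n hidx hcore
  have hc : Nat.card K = Nat.card (Equiv.Perm (Fin n)) := by
    rw [hcard, Nat.card_perm, Nat.card_eq_fintype_card, Fintype.card_fin]
  have hbij : Function.Bijective ψ := by
    haveI : Finite (Equiv.Perm (Fin n)) := inferInstance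
    exact (Nat.bijective_iff_injective_and_card ψ).mpr ⟨hψ, hc⟩
  exact ⟨MulEquiv.ofBijective ψ hbij⟩

theorem iso_alt_of_corefree (M : Subgroup K) (n : ℕ) (hidx : M.index = n)
    (hcore : M.normalCore = ⊥) (hcard : Nat.card K * 2 = n.factorial) :
    Nonempty (K ≃* alternatingGroup (Fin n)) := by
  obtain ⟨ψ, hψ⟩ := exists_perm_hom M n hidx hcore
  have e1 : K ≃* ψ.range := MonoidHom.ofInjective hψ
  have hc1 : Nat.card ψ.range = Nat.card K := (Nat.card_congr e1.toEquiv).symm
  have hc2 : Nat.card (Equiv.Perm (Fin n)) = n.factorial := by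
    rw [Nat.card_perm, Nat.card_eq_fintype_card, Fintype.card_fin]
  have hK0 : 0 < Nat.card K := Nat.card_pos
  have hidx2 : ψ.range.index = 2 := by
    have h := Subgroup.index_mul_card ψ.range
    rw [hc1, hc2, ← hcard] at h
    have : ψ.range.index * Nat.card K = 2 * Nat.card K := by rw [h]; ring
    exact Nat.eq_of_mul_eq_mul_right hK0 this
  have heq : ψ.range = alternatingGroup (Fin n) :=
    Equiv.Perm.eq_alternatingGroup_of_index_eq_two hidx2
  exact ⟨e1.trans (MulEquiv.subgroupCongr heq)⟩

end corefree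

section cores

variable {G : Type*} [Group G] [Finite G]

/-- a nontrivial normal subgroup of odd or `2`-power order -/
theorem cores_ne_bot (N : Subgroup G) [N.Normal] (hN : N ≠ ⊥)
    (hcard : (∃ k, Nat.card N = 2 ^ k) ∨ Odd (Nat.card N)) :
    ¬ (Cfsg.pCore 2 G = ⊥ ∧ Cfsg.pPrimeCore 2 G = ⊥) := by
  rintro ⟨h2, h2'⟩
  rcases hcard with ⟨k, hk⟩ | hodd
  · have : N ≤ Cfsg.pCore 2 G := by
      unfold Cfsg.pCore
      exact le_sSup ⟨inferInstance, IsPGroup.of_card hk⟩
    rw [h2] at this
    exact hN (le_bot_iff.mp this)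
  · have : N ≤ Cfsg.pPrimeCore 2 G := by
      unfold Cfsg.pPrimeCore
      refine le_sSup ⟨inferInstance, ?_⟩
      exact Nat.coprime_two_right.mpr hodd
    rw [h2'] at this
    exact hN (le_bot_iff.mp this)

end cores

end Cfsg.Agent.Lib.Helper4.Sg42
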