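import Mathlib
import Cfsg.Prelude.Def_Solvable
import Cfsg.Agent.S0144
import Cfsg.Agent.Lib.Helper1.MinimalNormal
import Cfsg.Agent.Lib.Helper4.SylTwoMax1
import Cfsg.Agent.Lib.Lead.SylowCount
import Cfsg.Agent.Lib.Helper4.Sg42G

/-! Subgroups of `GL(4,2)` (helper4, for S2553), part K: abstract lemmas.
* `O_2 = 1` and `O_{2'} = 1` are invariant under isomorphisms;
* a nontrivial group of order `2 ^ a * 3 ^ b` has `O_2 ≠ 1` or `O_{2'} ≠ 1` (Burnside);
* elements of order `p` are conjugate into a given subgroup of order `p` when `p ∥ |G|`. -/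

set_option autoImplicit false

namespace Cfsg.Agent.Lib.Helper4.Sg42

theorem pCore_eq_bot_of_equiv {A B : Type*} [Group A] [Group B] (e : A ≃* B) (p : ℕ)
    (h : Cfsg.pCore p A = ⊥) : Cfsg.pCore p B = ⊥ := by
  rw [eq_bot_iff]
  unfold Cfsg.pCore
  apply sSup_le
  rintro N ⟨hN, hp⟩
  have h1 : N.comap e.toMonoidHom ≤ Cfsg.pCore p A := by
    unfold Cfsg.pCore
    exact le_sSup ⟨hN.comap _, hp.comap_of_injective e.toMonoidHom e.injective⟩
  rw [h, le_bot_iff] at h1
  rw [← Subgroup.map_comap_eq_self_of_surjective (f := e.toMonoidHom) e.surjective N, h1,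
    Subgroup.map_bot]

theorem pPrimeCore_eq_bot_of_equiv {A B : Type*} [Group A] [Group B] (e : A ≃* B) (p : ℕ)
    (h : Cfsg.pPrimeCore p A = ⊥) : Cfsg.pPrimeCore p B = ⊥ := by
  rw [eq_bot_iff]
  unfold Cfsg.pPrimeCore
  apply sSup_le
  rintro N ⟨hN, hp⟩
  have hc : Nat.card (N.comap e.toMonoidHom) = Nat.card N := by
    rw [← Subgroup.card_map_of_injective (f := e.toMonoidHom) e.injective,
      Subgroup.map_comap_eq_self_of_surjective e.surjective N]
  have h1 : N.comap e.toMonoidHom ≤ Cfsg.pPrimeCore p A := by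
    unfold Cfsg.pPrimeCore
    refine le_sSup ⟨hN.comap _, ?_⟩
    show (Nat.card (N.comap e.toMonoidHom)).Coprime p
    rw [hc]; exact hp
  rw [h, le_bot_iff] at h1
  rw [← Subgroup.map_comap_eq_self_of_surjective (f := e.toMonoidHom) e.surjective N, h1,
    Subgroup.map_bot]

/-- a nontrivial finite solvable group has a nontrivial normal subgroup of prime exponent -/
theorem exists_normal_prime_exp {K : Type*} [Group K] [Finite K] [Group.IsSolvable K]
    [Nontrivial K] :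
    ∃ N : Subgroup K, N.Normal ∧ N ≠ ⊥ ∧ ∃ p : ℕ, p.Prime ∧ ∀ x ∈ N, x ^ p = 1 := by
  have hfin : ({N : Subgroup K | N.Normal ∧ N ≠ ⊥} : Set (Subgroup K)).Finite := Set.toFinite _
  have hne : ({N : Subgroup K | N.Normal ∧ N ≠ ⊥} : Set (Subgroup K)).Nonempty :=
    ⟨⊤, inferInstance, top_ne_bot⟩
  obtain ⟨N, hN⟩ := hfin.exists_minimal hne
  obtain ⟨⟨hNn, hN0⟩, hmin⟩ := hN
  haveI := hNn
  have h := Cfsg.Agent.Lib.Helper1.minimal_normal_of_solvable N hN0 (by
    intro M hM hMN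
    by_cases hM0 : M = ⊥
    · exact Or.inl hM0
    · exact Or.inr (le_antisymm hMN (hmin ⟨hM, hM0⟩ hMN)))
  exact ⟨N, hNn, hN0, h.2⟩

/-- Burnside: a nontrivial group of order `2 ^ a * 3 ^ b` has a nontrivial core -/
theorem cores_of_two_three {K : Type*} [Group K] [Finite K] [Nontrivial K] (a b : ℕ)
    (hcard : Nat.card K = 2 ^ a * 3 ^ b) :
    ¬ (Cfsg.pCore 2 K = ⊥ ∧ Cfsg.pPrimeCore 2 K = ⊥) := by
  haveI : Group.IsSolvable K :=
    Cfsg.Agent.S0144.result 2 3 a b Nat.prime_two Nat.prime_three hcard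
  obtain ⟨N, hNn, hN0, p, hp, hexp⟩ := exists_normal_prime_exp (K := K)
  haveI := hNn
  haveI := Fact.mk hp
  have hpg : IsPGroup p N := by
    intro x
    refine ⟨1, ?_⟩
    rw [pow_one]
    exact Subtype.ext (hexp x x.2)
  obtain ⟨k, hk⟩ := hpg.exists_card_eq
  apply cores_ne_bot N hN0
  rcases hp.eq_two_or_odd' with h2 | hodd
  · left
    exact ⟨k, by rw [hk, h2]⟩
  · right
    rw [hk]
    exact hodd.pow

/-- elements of order `p` are conjugate into a given subgroup of order `p` when `p` exactly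
divides the group order -/
theorem exists_conj_gen {G : Type*} [Group G] [Finite G] (p m : ℕ) [hp : Fact p.Prime]
    (hG : Nat.card G = p ^ 1 * m) (hm : ¬ p ∣ m) (h b : G) (hh : orderOf h = p)
    (hb : orderOf b = p) : ∃ x : G, b ∈ Subgroup.zpowers (x * h * x⁻¹) := by
  have hcb : Nat.card (Subgroup.zpowers b) = p ^ 1 := by rw [Nat.card_zpowers, hb, pow_one]
  have hch : Nat.card (Subgroup.zpowers h) = p ^ 1 := by rw [Nat.card_zpowers, hh, pow_one]
  obtain ⟨Q, hQ⟩ := (IsPGroup.of_card hcb).exists_le_sylow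
  have hQc : Nat.card Q = p ^ 1 :=
    Cfsg.Agent.Lib.Lead.SylowCount.card_sylow_of_card_eq_pow p 1 m hG hm Q
  have hQe : Subgroup.zpowers b = (Q : Subgroup G) :=
    Subgroup.eq_of_le_of_card_ge hQ (by rw [hQc, hcb])
  obtain ⟨x, hx⟩ := Cfsg.Agent.Lib.Helper4.SylTwoMax1.exists_conj_le_sylow Q (Subgroup.zpowers h)
    (IsPGroup.of_card hch)
  refine ⟨x, ?_⟩
  have hy : x * h * x⁻¹ ∈ Subgroup.zpowers b := by
    rw [hQe]; exact hx h (Subgroup.mem_zpowers h)
  have hyo : orderOf (x * h * x⁻¹) = p := by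
    have : x * h * x⁻¹ = MulAut.conj x h := rfl
    rw [this, MulEquiv.orderOf_eq, hh]
  have hle : Subgroup.zpowers (x * h * x⁻¹) ≤ Subgroup.zpowers b :=
    Subgroup.zpowers_le.mpr hy
  have heq : Subgroup.zpowers (x * h * x⁻¹) = Subgroup.zpowers b :=
    Subgroup.eq_of_le_of_card_ge hle (by rw [Nat.card_zpowers, Nat.card_zpowers, hyo, hb])
  rw [heq]
  exact Subgroup.mem_zpowers b

end Cfsg.Agent.Lib.Helper4.Sg42
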