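import Mathlib

set_option autoImplicit false

namespace Cfsg.Agent.Lib.Helper4.StabTwo

open Module

variable {q : ℕ} [hq : Fact q.Prime] {V : Type*} [AddCommGroup V] [Module (ZMod q) V]
  {G : Type*} [Group G] (ρ : G →* (V ≃ₗ[ZMod q] V))

/-- the fixed space of a group element -/
def fixS (g : G) : Submodule (ZMod q) V where
  carrier := {v | ρ g v = v}
  add_mem' := by
    intro a b ha hb
    simp only [Set.mem_setOf_eq] at *
    rw [map_add, ha, hb]
  zero_mem' := by simp
  smul_mem' := by
    intro c x hx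
    simp only [Set.mem_setOf_eq] at *
    rw [map_smul, hx]

theorem mem_fixS (g : G) (v : V) : v ∈ fixS ρ g ↔ ρ g v = v := Iff.rfl

theorem rho_mul (a b : G) (v : V) : ρ (a * b) v = ρ a (ρ b v) := by
  rw [map_mul]; rfl

theorem rho_one (v : V) : ρ 1 v = v := by
  rw [map_one]; rfl

section stab

variable (hstab : ∀ v : V, v ≠ 0 → Nat.card {g : G // ρ g v = v} = 2)
include hstab

theorem eq_of_stab {v : V} (hv : v ≠ 0) {g₁ g₂ : G} (h1 : ρ g₁ v = v) (h2 : ρ g₂ v = v)
    (n1 : g₁ ≠ 1) (n2 : g₂ ≠ 1) : g₁ = g₂ := by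
  have h := (Nat.card_eq_two_iff' (⟨1, rho_one ρ v⟩ : {g : G // ρ g v = v})).mp (hstab v hv)
  have e := h.unique (y₁ := ⟨g₁, h1⟩) (y₂ := ⟨g₂, h2⟩)
    (fun h' => n1 (congrArg Subtype.val h')) (fun h' => n2 (congrArg Subtype.val h'))
  exact congrArg Subtype.val e

theorem exists_stab {v : V} (hv : v ≠ 0) : ∃ t : G, t ≠ 1 ∧ ρ t v = v ∧ t * t = 1 := by
  have h := (Nat.card_eq_two_iff' (⟨1, rho_one ρ v⟩ : {g : G // ρ g v = v})).mp (hstab v hv)
  obtain ⟨⟨t, ht⟩, hne, -⟩ := h
  have ht1 : t ≠ 1 := fun h' => hne (Subtype.ext h')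
  refine ⟨t, ht1, ht, ?_⟩
  by_contra hsq
  have h2 : ρ (t * t) v = v := by rw [rho_mul, ht, ht]
  have := eq_of_stab ρ hstab hv h2 ht hsq ht1
  exact ht1 (mul_left_cancel (this.trans (mul_one t).symm))

/-- a central involution acts as `-1`, and `q` is odd -/
theorem central_invol [Nontrivial V] (hρ : Function.Injective ρ) (c : G) (hc1 : c ≠ 1)
    (hc2 : c * c = 1) (hcc : ∀ g : G, g * c = c * g) :
    (∀ v : V, ρ c v = -v) ∧ q ≠ 2 := by
  -- c moves some vector
  have hmove : ∃ v : V, ρ c v ≠ v := by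
    by_contra hcon
    push Not at hcon
    apply hc1
    apply hρ
    rw [map_one]
    ext v
    exact hcon v
  obtain ⟨v, hv⟩ := hmove
  have hv0 : v ≠ 0 := by
    rintro rfl
    exact hv (map_zero _)
  have hcc' : ∀ (g : G) (x : V), ρ g (ρ c x) = ρ c (ρ g x) := by
    intro g x
    rw [← rho_mul, ← rho_mul, hcc g]
  have hcsq : ∀ x : V, ρ c (ρ c x) = x := by
    intro x
    rw [← rho_mul, hc2, rho_one]
  -- no nonzero fixed vectors
  have hnofix : ∀ w : V, w ≠ 0 → ρ c w ≠ w := by
    intro w hw hcw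
    obtain ⟨s, hs1, hsv, -⟩ := exists_stab ρ hstab hv0
    have hsc : s ≠ c := by
      rintro rfl
      exact hv hsv
    by_cases hu : v + ρ c v = 0
    · -- c v = -v
      have hcv : ρ c v = -v := by
        rw [eq_neg_iff_add_eq_zero, add_comm]; exact hu
      have hv' : v + w ≠ 0 := by
        intro h
        apply hv
        have : v = -w := eq_neg_of_add_eq_zero_left h
        rw [this, map_neg, hcw]
      obtain ⟨s', hs'1, hs'v, -⟩ := exists_stab ρ hstab hv'
      rw [map_add] at hs'v
      have h2 : ρ c (ρ s' v + ρ s' w) = ρ c (v + w) := by rw [hs'v]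
      rw [map_add, map_add, ← hcc', ← hcc', hcv, hcw, map_neg] at h2
      -- 2 s' w = 2 w
      have h3 : (2 : ZMod q) • ρ s' w = (2 : ZMod q) • w := by
        rw [two_smul, two_smul]
        calc ρ s' w + ρ s' w = (ρ s' v + ρ s' w) + (-ρ s' v + ρ s' w) := by abel
          _ = (v + w) + (-v + w) := by rw [hs'v, h2]
          _ = w + w := by abel
      by_cases hq2 : (2 : ZMod q) = 0
      · -- q = 2: -v = v
        apply hv
        rw [hcv]
        have : (2 : ZMod q) • v = 0 := by rw [hq2, zero_smul]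
        rw [two_smul] at this
        exact (eq_neg_of_add_eq_zero_left this).symm
      · have hs'w : ρ s' w = w := by
          have := congrArg (fun x => (2 : ZMod q)⁻¹ • x) h3
          simp only [smul_smul, inv_mul_cancel₀ hq2, one_smul] at this
          exact this
        have hs'c : s' = c := eq_of_stab ρ hstab hw hs'w hcw hs'1 hc1
        have hs'v2 : ρ s' v = v := by
          have := hs'v
          rw [hs'w] at this
          exact add_right_cancel this
        rw [hs'c] at hs'v2
        exact hv hs'v2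
    · -- u = v + c v is fixed by c and s
      have hcu : ρ c (v + ρ c v) = v + ρ c v := by
        rw [map_add, hcsq, add_comm]
      have hsu : ρ s (v + ρ c v) = v + ρ c v := by
        rw [map_add, hcc', hsv]
      exact hsc (eq_of_stab ρ hstab hu hsu hcu hs1 hc1)
  have hneg : ∀ x : V, ρ c x = -x := by
    intro x
    by_contra hx
    have hu : x + ρ c x ≠ 0 := by
      intro h
      apply hx
      rw [eq_neg_iff_add_eq_zero, add_comm]; exact h
    apply hnofix _ hu
    rw [map_add, hcsq, add_comm]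
  refine ⟨hneg, ?_⟩
  intro hq2
  apply hv
  rw [hneg v]
  have : (2 : ZMod q) • v = 0 := by
    have h0 : ((q : ℕ) : ZMod q) = 0 := ZMod.natCast_self q
    have : (2 : ZMod q) = 0 := by
      have e : ((2 : ℕ) : ZMod q) = ((q : ℕ) : ZMod q) := congrArg _ hq2.symm
      rw [h0] at e
      exact_mod_cast e
    rw [this, zero_smul]
  rw [two_smul] at this
  exact (eq_neg_of_add_eq_zero_left this).symm

end stab

end Cfsg.Agent.Lib.Helper4.StabTwo
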