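import Mathlib
import Cfsg.Agent.Lib.Helper4.StabTwo

set_option autoImplicit false

namespace Cfsg.Agent.Lib.Helper4.StabTwo

open Module

theorem card_ne' {α : Type*} [Finite α] (a : α) : Nat.card {x : α // x ≠ a} = Nat.card α - 1 := by
  classical
  have := Fintype.ofFinite α
  rw [Nat.card_eq_fintype_card, Nat.card_eq_fintype_card, Fintype.card_subtype_compl,
    Fintype.card_subtype_eq]

variable {q : ℕ} [hq : Fact q.Prime] {V : Type*} [AddCommGroup V] [Module (ZMod q) V]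
  {G : Type*} [Group G] (ρ : G →* (V ≃ₗ[ZMod q] V))

theorem two_smul_eq_zero (h2 : (2 : ZMod q) ≠ 0) {v : V} (h : v = -v) : v = 0 := by
  have h1 : (2 : ZMod q) • v = 0 := by
    rw [two_smul]
    nth_rewrite 2 [h]
    exact add_neg_cancel v
  rcases smul_eq_zero.mp h1 with h' | h'
  · exact absurd h' h2
  · exact h'

section decomp

variable (z : G) (hzneg : ∀ v : V, ρ z v = -v) (h2 : (2 : ZMod q) ≠ 0)
include hzneg h2

theorem mem_fixS_mul_z (t : G) (v : V) : v ∈ fixS ρ (t * z) ↔ ρ t v = -v := by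
  rw [mem_fixS, rho_mul, hzneg, map_neg, neg_eq_iff_eq_neg]

theorem fix_inf (t : G) : fixS ρ t ⊓ fixS ρ (t * z) = ⊥ := by
  rw [Submodule.eq_bot_iff]
  rintro v ⟨h1, h3⟩
  rw [SetLike.mem_coe, mem_fixS_mul_z ρ z hzneg h2] at h3
  rw [SetLike.mem_coe, mem_fixS] at h1
  exact two_smul_eq_zero h2 (h1.symm.trans h3)

theorem fix_sup (t : G) (ht : t * t = 1) : fixS ρ t ⊔ fixS ρ (t * z) = ⊤ := by
  rw [eq_top_iff]
  intro v _
  have htt : ρ t (ρ t v) = v := by rw [← rho_mul, ht, rho_one]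
  have hv : v = (2 : ZMod q)⁻¹ • (v + ρ t v) + (2 : ZMod q)⁻¹ • (v - ρ t v) := by
    rw [← smul_add]
    have : v + ρ t v + (v - ρ t v) = (2 : ZMod q) • v := by rw [two_smul]; abel
    rw [this, smul_smul, inv_mul_cancel₀ h2, one_smul]
  rw [hv]
  apply Submodule.add_mem_sup
  · rw [mem_fixS, map_smul, map_add, htt, add_comm]
  · rw [mem_fixS_mul_z ρ z hzneg h2, map_smul, map_sub, htt, ← smul_neg, neg_sub]

theorem finrank_add [Finite V] (t : G) (ht : t * t = 1) :
    finrank (ZMod q) (fixS ρ t) + finrank (ZMod q) (fixS ρ (t * z)) = finrank (ZMod q) V := by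
  have h := Submodule.finrank_sup_add_finrank_inf_eq (fixS ρ t) (fixS ρ (t * z))
  rw [fix_inf ρ z hzneg h2, fix_sup ρ z hzneg h2 t ht, finrank_bot, add_zero, finrank_top] at h
  exact h.symm

end decomp

section main

variable (hstab : ∀ v : V, v ≠ 0 → Nat.card {g : G // ρ g v = v} = 2)
include hstab

theorem finrank_le_of_ne [Finite V] {t t' : G} (ht : t ≠ 1) (ht' : t' ≠ 1) (hne : t ≠ t') :
    finrank (ZMod q) (fixS ρ t) + finrank (ZMod q) (fixS ρ t') ≤ finrank (ZMod q) V := by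
  have hinf : fixS ρ t ⊓ fixS ρ t' = ⊥ := by
    rw [Submodule.eq_bot_iff]
    rintro v ⟨h1, h3⟩
    by_contra hv
    exact hne (eq_of_stab ρ hstab hv h1 h3 ht ht')
  have h := Submodule.finrank_sup_add_finrank_inf_eq (fixS ρ t) (fixS ρ t')
  rw [hinf, finrank_bot, add_zero] at h
  rw [← h]
  exact Submodule.finrank_le _

theorem main [Finite V] [Nontrivial V] [Finite G] (hρ : Function.Injective ρ)
    (z : G) (hz : orderOf z = 2) (hzc : z ∈ Subgroup.center G) :
    ∃ r : ℕ, Nat.card V = q ^ (2 * r) ∧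
      Nat.card {g : G // orderOf g = 2 ∧ g ∉ Subgroup.center G} = q ^ r + 1 := by
  classical
  have hz1 : z ≠ 1 := by
    intro h
    rw [h, orderOf_one] at hz
    omega
  have hz2 : z * z = 1 := by rw [← pow_two, ← hz]; exact pow_orderOf_eq_one z
  have hzcc : ∀ g : G, g * z = z * g := fun g => (Subgroup.mem_center_iff.mp hzc g)
  obtain ⟨hzneg, hq2⟩ := central_invol ρ hstab hρ z hz1 hz2 hzcc
  have h2 : (2 : ZMod q) ≠ 0 := by
    intro h
    have h' : ((2 : ℕ) : ZMod q) = 0 := by exact_mod_cast h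
    rw [ZMod.natCast_eq_zero_iff] at h'
    have := Nat.le_of_dvd (by norm_num) h'
    have := hq.out.two_le
    omega
  have hneg_ne : ∀ v : V, v ≠ 0 → -v ≠ v := by
    intro v hv h
    exact hv (two_smul_eq_zero h2 h.symm)
  -- involutions other than z
  have hI : ∀ t : G, t ≠ 1 → t * t = 1 → t ≠ z →
      (t * z ≠ 1 ∧ (t * z) * (t * z) = 1 ∧ t * z ≠ z ∧ t * z ≠ t) := by
    intro t ht1 ht2 htz
    refine ⟨?_, ?_, ?_, ?_⟩
    · intro h
      apply htz
      have : t * z = z * z := by rw [h, hz2]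
      exact mul_right_cancel this
    · calc t * z * (t * z) = t * (z * t) * z := by group
        _ = t * (t * z) * z := by rw [hzcc t]
        _ = (t * t) * (z * z) := by group
        _ = 1 := by rw [ht2, hz2, one_mul]
    · intro h
      apply ht1
      have : t * z = 1 * z := by rw [h, one_mul]
      exact mul_right_cancel this
    · intro h
      apply hz1
      have : t * z = t * 1 := by rw [h, mul_one]
      exact mul_left_cancel this
  -- stabiliser involution of a nonzero vector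
  have hτ : ∀ v : V, v ≠ 0 → ∃ t : G, t ≠ 1 ∧ t * t = 1 ∧ t ≠ z ∧ ρ t v = v := by
    intro v hv
    obtain ⟨t, ht1, htv, ht2⟩ := exists_stab ρ hstab hv
    refine ⟨t, ht1, ht2, ?_, htv⟩
    rintro rfl
    rw [hzneg] at htv
    exact hneg_ne v hv htv
  -- three involutions
  obtain ⟨v₀, hv₀⟩ := exists_ne (0 : V)
  obtain ⟨t₀, h01, h02, h0z, h0v⟩ := hτ v₀ hv₀
  obtain ⟨h01', h02', h0z', h0t⟩ := hI t₀ h01 h02 h0z
  -- a nonzero vector in the other eigenspace
  have hex : ∃ w : V, w ≠ 0 ∧ ρ t₀ w = -w := by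
    by_contra hcon
    push Not at hcon
    apply h01
    apply hρ
    rw [map_one]
    ext v
    have hv : v ∈ fixS ρ t₀ ⊔ fixS ρ (t₀ * z) := by
      rw [fix_sup ρ z hzneg h2 t₀ h02]; exact Submodule.mem_top
    rw [Submodule.mem_sup] at hv
    obtain ⟨a, ha, b, hb, rfl⟩ := hv
    rw [mem_fixS_mul_z ρ z hzneg h2] at hb
    have hb0 : b = 0 := by
      by_contra hb0
      exact hcon b hb0 hb
    rw [hb0, add_zero]
    exact ha
  obtain ⟨w₀, hw₀, hw₀t⟩ := hex
  have hvw : v₀ + w₀ ≠ 0 := by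
    intro h
    have : v₀ = -w₀ := eq_neg_of_add_eq_zero_left h
    have h1 : ρ t₀ v₀ = -v₀ := by rw [this, map_neg, hw₀t]
    rw [h0v] at h1
    exact hneg_ne v₀ hv₀ h1.symm
  obtain ⟨t₁, h11, h12, h1z, h1v⟩ := hτ (v₀ + w₀) hvw
  have h1t0 : t₁ ≠ t₀ := by
    rintro rfl
    rw [map_add, h0v, hw₀t] at h1v
    have : -w₀ = w₀ := add_left_cancel h1v
    exact hneg_ne w₀ hw₀ this
  have h1t0z : t₁ ≠ t₀ * z := by
    rintro rfl
    have h3 := (mem_fixS_mul_z ρ z hzneg h2 t₀ (v₀ + w₀)).mp h1v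
    rw [map_add, h0v, hw₀t, neg_add] at h3
    have : v₀ = -v₀ := add_right_cancel h3
    exact hneg_ne v₀ hv₀ this.symm
  -- all fixed spaces have half dimension
  set n := finrank (ZMod q) V with hn
  have hhalf : ∀ t : G, t ≠ 1 → t * t = 1 → t ≠ z → 2 * finrank (ZMod q) (fixS ρ t) ≤ n := by
    intro t ht1 ht2 htz
    -- some t' outside {t, tz}
    have hex' : ∃ t' : G, t' ≠ 1 ∧ t' * t' = 1 ∧ t' ≠ z ∧ t' ≠ t ∧ t' * z ≠ t := by
      by_cases hc : t₀ ≠ t ∧ t₀ * z ≠ t
      · exact ⟨t₀, h01, h02, h0z, hc.1, hc.2⟩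
      · refine ⟨t₁, h11, h12, h1z, ?_, ?_⟩
        · rintro rfl
          apply hc
          refine ⟨fun h => h1t0 h.symm, fun h => h1t0z h.symm⟩
        · intro h
          apply hc
          have ht₁ : t₁ = t * z := by
            rw [← h]
            calc t₁ = t₁ * (z * z) := by rw [hz2, mul_one]
              _ = t₁ * z * z := by group
          constructor
          · rintro rfl
            exact h1t0z ht₁
          · intro h'
            apply h1t0
            rw [ht₁, ← h']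
            calc t₀ * z * z = t₀ * (z * z) := by group
              _ = t₀ := by rw [hz2, mul_one]
    obtain ⟨t', h'1, h'2, h'z, h't, h'tz⟩ := hex'
    obtain ⟨h'1z, h'2z, -, -⟩ := hI t' h'1 h'2 h'z
    have e1 := finrank_le_of_ne ρ hstab ht1 h'1 (Ne.symm h't)
    have e2 := finrank_le_of_ne ρ hstab ht1 h'1z (Ne.symm h'tz)
    have e3 := finrank_add ρ z hzneg h2 t' h'2
    omega
  have hexact : ∀ t : G, t ≠ 1 → t * t = 1 → t ≠ z → 2 * finrank (ZMod q) (fixS ρ t) = n := by
    intro t ht1 ht2 htz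
    obtain ⟨h1z, h2z, hzz, -⟩ := hI t ht1 ht2 htz
    have e1 := hhalf t ht1 ht2 htz
    have e2 := hhalf (t * z) h1z h2z hzz
    have e3 := finrank_add ρ z hzneg h2 t ht2
    omega
  obtain ⟨r, hr⟩ : ∃ r, r = finrank (ZMod q) (fixS ρ t₀) := ⟨_, rfl⟩
  have hnr : n = 2 * r := by rw [hr]; exact (hexact t₀ h01 h02 h0z).symm
  have hcardV : Nat.card V = q ^ (2 * r) := by
    have := Fintype.ofFinite V
    rw [Nat.card_eq_fintype_card, Module.card_eq_pow_finrank (K := ZMod q), ZMod.card, ← hn, hnr]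
  refine ⟨r, hcardV, ?_⟩
  have hr1 : 1 ≤ r := by
    rw [hr]
    by_contra hlt
    push Not at hlt
    have h0 : finrank (ZMod q) (fixS ρ t₀) = 0 := by omega
    rw [Submodule.finrank_eq_zero] at h0
    have : v₀ ∈ fixS ρ t₀ := h0v
    rw [h0, Submodule.mem_bot] at this
    exact hv₀ this
  -- counting
  let I := {t : G // t ≠ 1 ∧ t * t = 1 ∧ t ≠ z}
  have hIeq : Nat.card {g : G // orderOf g = 2 ∧ g ∉ Subgroup.center G} = Nat.card I := by
    apply Nat.card_congr
    apply Equiv.subtypeEquivRight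
    intro g
    constructor
    · rintro ⟨ho, hnc⟩
      refine ⟨?_, ?_, ?_⟩
      · rintro rfl
        rw [orderOf_one] at ho
        omega
      · rw [← pow_two, ← ho]; exact pow_orderOf_eq_one g
      · rintro rfl
        exact hnc hzc
    · rintro ⟨h1, h2', h3⟩
      refine ⟨orderOf_eq_prime (by rw [pow_two]; exact h2') h1, ?_⟩
      intro hgc
      apply h3
      obtain ⟨hgneg, -⟩ := central_invol ρ hstab hρ g h1 h2'
        (fun x => (Subgroup.mem_center_iff.mp hgc x))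
      apply hρ
      ext v
      rw [hgneg, hzneg]
  rw [hIeq]
  have : Fintype I := Fintype.ofFinite I
  let β : I → Type _ := fun t => {v : fixS ρ t.1 // v ≠ 0}
  have hβ : ∀ t : I, Nat.card (β t) = q ^ r - 1 := by
    intro t
    have hfr : finrank (ZMod q) (fixS ρ t.1) = r := by
      have := hexact t.1 t.2.1 t.2.2.1 t.2.2.2
      omega
    have : Fintype (fixS ρ t.1) := Fintype.ofFinite _
    rw [card_ne', Nat.card_eq_fintype_card, Module.card_eq_pow_finrank (K := ZMod q), ZMod.card, hfr]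
  have hsig : Nat.card (Sigma β) = Nat.card I * (q ^ r - 1) := by
    rw [Nat.card_sigma]
    simp only [hβ, Finset.sum_const, Finset.card_univ, smul_eq_mul, Nat.card_eq_fintype_card]
  have hbij : Nat.card (Sigma β) = Nat.card {v : V // v ≠ 0} := by
    apply Nat.card_congr
    let f : Sigma β → {v : V // v ≠ 0} := fun s =>
      ⟨(s.2.1 : V), fun h => s.2.2 (Subtype.ext h)⟩
    apply Equiv.ofBijective f
    constructor
    · rintro ⟨⟨t, ht⟩, ⟨⟨v, hv⟩, hv0⟩⟩ ⟨⟨t', ht'⟩, ⟨⟨v', hv'⟩, hv0'⟩⟩ h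
      have hvv : v = v' := congrArg Subtype.val h
      subst hvv
      have hv00 : v ≠ 0 := fun h' => hv0 (Subtype.ext h')
      have htt : t = t' := eq_of_stab ρ hstab hv00 hv hv' ht.1 ht'.1
      subst htt
      rfl
    · rintro ⟨v, hv⟩
      obtain ⟨t, ht1, ht2, htz, htv⟩ := hτ v hv
      exact ⟨⟨⟨t, ht1, ht2, htz⟩, ⟨⟨v, htv⟩, fun h => hv (congrArg Subtype.val h)⟩⟩, rfl⟩
  rw [hbij, card_ne', hcardV] at hsig
  have hqr : 2 ≤ q ^ r := by
    calc 2 ≤ q := hq.out.two_le
      _ = q ^ 1 := (pow_one q).symm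
      _ ≤ q ^ r := Nat.pow_le_pow_right hq.out.pos hr1
  have hfac : q ^ (2 * r) - 1 = (q ^ r + 1) * (q ^ r - 1) := by
    have : q ^ (2 * r) = q ^ r * q ^ r := by rw [two_mul, pow_add]
    rw [this]
    obtain ⟨m, hm⟩ : ∃ m, q ^ r = m + 2 := ⟨q ^ r - 2, by omega⟩
    rw [hm]
    have e1 : (m + 2) * (m + 2) - 1 = m * m + 4 * m + 3 := by
      have : (m + 2) * (m + 2) = m * m + 4 * m + 4 := by ring
      omega
    have e2 : m + 2 - 1 = m + 1 := by omega
    rw [e1, e2]
    ring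
  rw [hfac] at hsig
  exact (Nat.eq_of_mul_eq_mul_right (by omega) hsig).symm

end main

end Cfsg.Agent.Lib.Helper4.StabTwo
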