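import Mathlib

/-! Linear independence of the functions `(1 - φ)(1 - ψ)` on `W₁ × W₂`. -/

namespace Cfsg.Agent.Lib.Helper4.TICharBasis

variable {G : Type*} [Group G]

theorem exists_mul_of_mem_sup (W₁ W₂ : Subgroup G)
    (hcomm : ∀ a ∈ W₁, ∀ b ∈ W₂, a * b = b * a) (w : G) (hw : w ∈ W₁ ⊔ W₂) :
    ∃ a ∈ W₁, ∃ b ∈ W₂, w = a * b := by
  rw [Subgroup.sup_eq_closure] at hw
  induction hw using Subgroup.closure_induction with
  | mem x hx =>
    rcases hx with hx | hx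
    · exact ⟨x, hx, 1, W₂.one_mem, by simp⟩
    · exact ⟨1, W₁.one_mem, x, hx, by simp⟩
  | one => exact ⟨1, W₁.one_mem, 1, W₂.one_mem, by simp⟩
  | mul x y _ _ ihx ihy =>
    obtain ⟨a, ha, b, hb, rfl⟩ := ihx
    obtain ⟨a', ha', b', hb', rfl⟩ := ihy
    refine ⟨a * a', W₁.mul_mem ha ha', b * b', W₂.mul_mem hb hb', ?_⟩
    have := hcomm a' ha' b hb
    calc a * b * (a' * b') = a * (b * a') * b' := by group
      _ = a * (a' * b) * b' := by rw [this]
      _ = a * a' * (b * b') := by group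
  | inv x _ ih =>
    obtain ⟨a, ha, b, hb, rfl⟩ := ih
    refine ⟨a⁻¹, W₁.inv_mem ha, b⁻¹, W₂.inv_mem hb, ?_⟩
    have := hcomm a⁻¹ (W₁.inv_mem ha) b⁻¹ (W₂.inv_mem hb)
    rw [mul_inv_rev, this]

theorem main (W₁ W₂ : Subgroup G) (hcomm : ∀ a ∈ W₁, ∀ b ∈ W₂, a * b = b * a) :
    (∀ φ ψ : ↥(W₁ ⊔ W₂) →* ℂˣ, (∀ w : ↥(W₁ ⊔ W₂), (w : G) ∈ W₂ → φ w = 1) →
      (∀ w : ↥(W₁ ⊔ W₂), (w : G) ∈ W₁ → ψ w = 1) → ∀ w : ↥(W₁ ⊔ W₂),
      ((w : G) ∈ W₁ ∨ (w : G) ∈ W₂) →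
      (1 - (φ w : ℂ) - (ψ w : ℂ) + (φ w : ℂ) * (ψ w : ℂ)) = 0) ∧
    LinearIndependent ℂ (fun p : {p : (↥(W₁ ⊔ W₂) →* ℂˣ) × (↥(W₁ ⊔ W₂) →* ℂˣ) //
      p.1 ≠ 1 ∧ p.2 ≠ 1 ∧ (∀ w : ↥(W₁ ⊔ W₂), (w : G) ∈ W₂ → p.1 w = 1) ∧
        (∀ w : ↥(W₁ ⊔ W₂), (w : G) ∈ W₁ → p.2 w = 1)} =>
      fun w : ↥(W₁ ⊔ W₂) => 1 - (p.1.1 w : ℂ) - (p.1.2 w : ℂ) + (p.1.1 w : ℂ) * (p.1.2 w : ℂ)) := by
  constructor
  · intro φ ψ hφ hψ w hw
    rcases hw with h | h
    · rw [hψ w h]; simp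
    · rw [hφ w h]; simp
  · classical
    obtain ⟨W, hW⟩ : ∃ W : Subgroup G, W = W₁ ⊔ W₂ := ⟨_, rfl⟩
    rw [← hW]
    -- decomposition
    have hdec : ∀ w : W, ∃ a b : W, (a : G) ∈ W₁ ∧ (b : G) ∈ W₂ ∧ w = a * b := by
      intro w
      obtain ⟨a, ha, b, hb, hab⟩ := exists_mul_of_mem_sup W₁ W₂ hcomm w.1 (hW ▸ w.2)
      have haW : a ∈ W := hW ▸ (le_sup_left : W₁ ≤ W₁ ⊔ W₂) ha
      have hbW : b ∈ W := hW ▸ (le_sup_right : W₂ ≤ W₁ ⊔ W₂) hb
      exact ⟨⟨a, haW⟩, ⟨b, hbW⟩, ha, hb, Subtype.ext hab⟩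
    set toHom : (W →* ℂˣ) → (W →* ℂ) := fun χ => (Units.coeHom ℂ).comp χ with htoHom
    have htoHom_apply : ∀ (χ : W →* ℂˣ) (w : W), toHom χ w = (χ w : ℂ) := fun _ _ => rfl
    rw [linearIndependent_iff']
    intro s g hsum i₀ hi₀
    have hD := linearIndependent_iff.mp (linearIndependent_monoidHom W ℂ)
    set l : (W →* ℂ) →₀ ℂ := ∑ i ∈ s, (Finsupp.single (1 : W →* ℂ) (g i)
      - Finsupp.single (toHom i.1.1) (g i) - Finsupp.single (toHom i.1.2) (g i)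
      + Finsupp.single (toHom (i.1.1 * i.1.2)) (g i)) with hl
    have hl0 : l = 0 := by
      apply hD
      rw [hl, map_sum]
      rw [← hsum]
      apply Finset.sum_congr rfl
      intro i _
      rw [map_add, map_sub, map_sub, Finsupp.linearCombination_single,
        Finsupp.linearCombination_single, Finsupp.linearCombination_single,
        Finsupp.linearCombination_single]
      funext w
      simp only [Pi.add_apply, Pi.sub_apply, Pi.smul_apply, smul_eq_mul, MonoidHom.one_apply,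
        htoHom_apply, MonoidHom.mul_apply, Units.val_mul]
      ring
    -- properties of i₀
    obtain ⟨hφ1, hψ1, hφ2, hψ2⟩ := i₀.2
    obtain ⟨b, hb, hψb⟩ : ∃ b : W, (b : G) ∈ W₂ ∧ i₀.1.2 b ≠ 1 := by
      by_contra hcon
      push Not at hcon
      apply hψ1
      ext w
      obtain ⟨a, b, ha, hb, rfl⟩ := hdec w
      rw [map_mul, hψ2 a ha, hcon b hb]
      simp
    obtain ⟨a, ha, hφa⟩ : ∃ a : W, (a : G) ∈ W₁ ∧ i₀.1.1 a ≠ 1 := by
      by_contra hcon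
      push Not at hcon
      apply hφ1
      ext w
      obtain ⟨a, b, ha, hb, rfl⟩ := hdec w
      rw [map_mul, hφ2 b hb, hcon a ha]
      simp
    have hχb : toHom (i₀.1.1 * i₀.1.2) b ≠ 1 := by
      rw [htoHom_apply, MonoidHom.mul_apply, hφ2 b hb, one_mul]
      intro h
      exact hψb (Units.ext h)
    have hχa : toHom (i₀.1.1 * i₀.1.2) a ≠ 1 := by
      rw [htoHom_apply, MonoidHom.mul_apply, hψ2 a ha, mul_one]
      intro h
      exact hφa (Units.ext h)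
    have h1 : (1 : W →* ℂ) ≠ toHom (i₀.1.1 * i₀.1.2) := by
      intro h
      apply hχb
      rw [← h, MonoidHom.one_apply]
    have h2 : ∀ i ∈ s, toHom i.1.1 ≠ toHom (i₀.1.1 * i₀.1.2) := by
      intro i _ h
      apply hχb
      rw [← h, htoHom_apply, i.2.2.2.1 b hb]
      simp
    have h3 : ∀ i ∈ s, toHom i.1.2 ≠ toHom (i₀.1.1 * i₀.1.2) := by
      intro i _ h
      apply hχa
      rw [← h, htoHom_apply, i.2.2.2.2 a ha]
      simp
    have h4 : ∀ i ∈ s, toHom (i.1.1 * i.1.2) = toHom (i₀.1.1 * i₀.1.2) → i = i₀ := by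
      intro i _ h
      have hval : ∀ w : W, i.1.1 w * i.1.2 w = i₀.1.1 w * i₀.1.2 w := by
        intro w
        have := DFunLike.congr_fun h w
        rw [htoHom_apply, htoHom_apply] at this
        exact Units.ext this
      apply Subtype.ext
      apply Prod.ext
      · ext w
        obtain ⟨a, b, ha, hb, rfl⟩ := hdec w
        have := hval a
        rw [i.2.2.2.2 a ha, hψ2 a ha, mul_one, mul_one] at this
        rw [map_mul, map_mul, i.2.2.2.1 b hb, hφ2 b hb, this]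
      · ext w
        obtain ⟨a, b, ha, hb, rfl⟩ := hdec w
        have := hval b
        rw [i.2.2.2.1 b hb, hφ2 b hb, one_mul, one_mul] at this
        rw [map_mul, map_mul, i.2.2.2.2 a ha, hψ2 a ha, this]
    have heval := DFunLike.congr_fun hl0 (toHom (i₀.1.1 * i₀.1.2))
    rw [hl, Finsupp.finset_sum_apply] at heval
    have hterm : ∀ i ∈ s, (Finsupp.single (1 : W →* ℂ) (g i)
        - Finsupp.single (toHom i.1.1) (g i) - Finsupp.single (toHom i.1.2) (g i)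
        + Finsupp.single (toHom (i.1.1 * i.1.2)) (g i)) (toHom (i₀.1.1 * i₀.1.2))
        = if i = i₀ then g i else 0 := by
      intro i hi
      rw [Finsupp.add_apply, Finsupp.sub_apply, Finsupp.sub_apply, Finsupp.single_apply,
        Finsupp.single_apply, Finsupp.single_apply, Finsupp.single_apply, if_neg h1,
        if_neg (h2 i hi), if_neg (h3 i hi)]
      by_cases hii : i = i₀
      · rw [if_pos hii, if_pos (by rw [hii])]
        ring
      · rw [if_neg hii, if_neg (fun h => hii (h4 i hi h))]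
        ring
    rw [Finset.sum_congr rfl hterm, Finset.sum_ite_eq' s i₀, if_pos hi₀] at heval
    exact heval

end Cfsg.Agent.Lib.Helper4.TICharBasis
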