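import Mathlib
import Cfsg.Prelude.Def_Solvable
import Cfsg.Prelude.Def_CaseTheorems
import Cfsg.Agent.Lib.Helper2.Cores

/-! Farm LBAL (S1301), unit TC1: fixed points of an involutory automorphism on odd cosets. -/

set_option autoImplicit false

namespace Cfsg.Agent.Lib.Helper4.LBAL

universe u

/-- an element of 2-power order and of odd order is trivial. -/
theorem eq_one_of_two_pow_of_odd {H : Type u} [Group H] (c : H) (k m : ℕ) (hk : c ^ 2 ^ k = 1)
    (hm : c ^ m = 1) (hodd : Nat.Coprime m 2) : c = 1 := by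
  have h1 : orderOf c ∣ 2 ^ k := orderOf_dvd_of_pow_eq_one hk
  have h2 : orderOf c ∣ m := orderOf_dvd_of_pow_eq_one hm
  have h3 : Nat.Coprime (2 ^ k) m := (Nat.Coprime.pow_left k hodd.symm)
  have h4 : orderOf c ∣ Nat.gcd (2 ^ k) m := Nat.dvd_gcd h1 h2
  rw [h3] at h4
  exact orderOf_eq_one_iff.mp (Nat.dvd_one.mp h4)

/-- TC1: an involutory automorphism `α` acting trivially on `N / O(N)`, `E` a normal 2-subgroup
of `N`: every `n ∈ N` is `o * k` with `k ∈ N` fixed by `α` and `o ∈ C_H(E)`. -/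
theorem TC1 {H : Type u} [Group H] [Finite H] (α : MulAut H) (hα2 : ∀ h : H, α (α h) = h)
    (N : Subgroup H) (hαN : ∀ n ∈ N, α n ∈ N)
    (htriv : ∀ n ∈ N, n⁻¹ * α n ∈ (Cfsg.oddCore ↥N).map N.subtype)
    (E : Subgroup H) (hEN : E ≤ N) (hNE : N ≤ Subgroup.normalizer (E : Set H))
    (hE2 : IsPGroup 2 ↥E) :
    ∀ n ∈ N, ∃ o k : H, n = o * k ∧ α k = k ∧ k ∈ N ∧ o ∈ Subgroup.centralizer (E : Set H) := by
  classical
  have : Fact (Nat.Prime 2) := ⟨Nat.prime_two⟩
  -- the restriction of `α` to `N`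
  let αN : ↥N ≃* ↥N :=
    { toFun := fun n => ⟨α n, hαN n n.2⟩
      invFun := fun n => ⟨α n, hαN n n.2⟩
      left_inv := fun n => Subtype.ext (hα2 n)
      right_inv := fun n => Subtype.ext (hα2 n)
      map_mul' := fun x y => Subtype.ext (map_mul α (x : H) (y : H)) }
  have hαNcoe : ∀ n : ↥N, ((αN n : ↥N) : H) = α n := fun _ => rfl
  have hαN2 : ∀ n : ↥N, αN (αN n) = n := fun n => Subtype.ext (hα2 n)
  set O : Subgroup ↥N := Cfsg.oddCore ↥N with hO
  have hOchar : O.Characteristic := Cfsg.Agent.Lib.Helper2.pPrimeCore_characteristic 2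
  have hOn : O.Normal := inferInstance
  have hOcop : (Nat.card ↥O).Coprime 2 := Cfsg.Agent.Lib.Helper2.pPrimeCore_card_coprime 2
  have hOα : ∀ o ∈ O, αN o ∈ O := by
    intro o ho
    have h1 : O.comap αN.toMonoidHom = O := hOchar.fixed αN
    have h2 : αN (αN o) ∈ O := by rw [hαN2]; exact ho
    have h3 : αN o ∈ O.comap αN.toMonoidHom := h2
    rw [h1] at h3
    exact h3
  -- `O` commutes with `E`
  have hOE : ∀ o ∈ O, ∀ e ∈ E, (o : H) * e = e * (o : H) := by
    intro o ho e he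
    have heN : e ∈ N := hEN he
    -- the commutator lies in `E`
    have hc1 : (o : H) * e * (o : H)⁻¹ * e⁻¹ ∈ E := by
      have h1 := (Subgroup.mem_normalizer_iff.mp (hNE o.2) e).mp he
      exact E.mul_mem h1 (E.inv_mem he)
    -- the commutator lies in `O`
    have hc2 : o * (⟨e, heN⟩ * o⁻¹ * (⟨e, heN⟩ : ↥N)⁻¹) ∈ O :=
      O.mul_mem ho (hOn.conj_mem _ (O.inv_mem ho) _)
    obtain ⟨k, hk⟩ := (IsPGroup.iff_orderOf.mp hE2) ⟨_, hc1⟩
    have hk' : ((o : H) * e * (o : H)⁻¹ * e⁻¹) ^ 2 ^ k = 1 := by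
      have h1 := pow_orderOf_eq_one (⟨_, hc1⟩ : ↥E)
      rw [hk] at h1
      have h2 := congrArg (fun x : ↥E => (x : H)) h1
      simpa using h2
    have hm : ((o : H) * e * (o : H)⁻¹ * e⁻¹) ^ Nat.card ↥O = 1 := by
      have h1 : ((⟨_, hc2⟩ : ↥O)) ^ Nat.card ↥O = 1 := pow_card_eq_one'
      have h2 := congrArg (fun x : ↥O => ((x : ↥N) : H)) h1
      simp only [SubgroupClass.coe_pow, Subgroup.coe_mul, Subgroup.coe_inv, OneMemClass.coe_one] at h2
      rw [← h2]
      congr 1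
      group
    have h1 := eq_one_of_two_pow_of_odd _ k _ hk' hm hOcop
    have h2 : (o : H) * e = ((o : H) * e * (o : H)⁻¹ * e⁻¹) * (e * (o : H)) := by group
    rw [h2, h1, one_mul]
  intro n hn
  set ν : ↥N := ⟨n, hn⟩ with hν
  have hνO : ν⁻¹ * αN ν ∈ O := by
    have h1 := htriv n hn
    rw [Subgroup.mem_map] at h1
    obtain ⟨y, hy, hy2⟩ := h1
    have h2 : y = ν⁻¹ * αN ν := by
      apply Subtype.ext
      rw [← Subgroup.subtype_apply, hy2]
      rfl
    rw [← h2]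
    exact hy
  -- the involution on `O`
  let σ : Equiv.Perm ↥O :=
    { toFun := fun o => ⟨ν⁻¹ * αN (ν * o), by
        rw [map_mul, ← mul_assoc]
        exact O.mul_mem hνO (hOα _ o.2)⟩
      invFun := fun o => ⟨ν⁻¹ * αN (ν * o), by
        rw [map_mul, ← mul_assoc]
        exact O.mul_mem hνO (hOα _ o.2)⟩
      left_inv := by
        intro o
        apply Subtype.ext
        show ν⁻¹ * αN (ν * (ν⁻¹ * αN (ν * o))) = o
        rw [mul_inv_cancel_left, hαN2, inv_mul_cancel_left]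
      right_inv := by
        intro o
        apply Subtype.ext
        show ν⁻¹ * αN (ν * (ν⁻¹ * αN (ν * o))) = o
        rw [mul_inv_cancel_left, hαN2, inv_mul_cancel_left] }
  have hσ2 : σ ^ 2 ^ 1 = 1 := by
    rw [pow_one, pow_two]
    apply Equiv.Perm.ext
    intro o
    rw [Equiv.Perm.mul_apply, Equiv.Perm.one_apply]
    apply Subtype.ext
    show ν⁻¹ * αN (ν * (ν⁻¹ * αN (ν * o))) = o
    rw [mul_inv_cancel_left, hαN2, inv_mul_cancel_left]
  have : Fintype ↥O := Fintype.ofFinite _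
  have hcard : ¬ 2 ∣ Fintype.card ↥O := by
    rw [← Nat.card_eq_fintype_card]
    intro h
    have := Nat.Coprime.eq_one_of_dvd hOcop.symm h
    omega
  obtain ⟨o0, ho0⟩ := Equiv.Perm.exists_fixed_point_of_prime (p := 2) (n := 1) hcard hσ2
  have ho0' : ν⁻¹ * αN (ν * o0) = o0 := congrArg (fun x : ↥O => (x : ↥N)) ho0
  have hfix : αN (ν * o0) = ν * o0 := by
    calc αN (ν * o0) = ν * (ν⁻¹ * αN (ν * o0)) := by group
      _ = ν * o0 := by rw [ho0']
  set κ : ↥N := ν * o0 with hκ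
  refine ⟨((κ * (o0 : ↥N)⁻¹ * κ⁻¹ : ↥N) : H), (κ : H), ?_, ?_, κ.2, ?_⟩
  · have h1 : ν = κ * (o0 : ↥N)⁻¹ * κ⁻¹ * κ := by rw [hκ]; group
    have h2 := congrArg (fun x : ↥N => (x : H)) h1
    simpa using h2
  · have h2 := congrArg (fun x : ↥N => (x : H)) hfix
    simpa [hαNcoe] using h2
  · have hmem : κ * (o0 : ↥N)⁻¹ * κ⁻¹ ∈ O := hOn.conj_mem _ (O.inv_mem o0.2) _
    rw [Subgroup.mem_centralizer_iff]
    intro e he
    exact (hOE _ hmem e he).symm

end Cfsg.Agent.Lib.Helper4.LBAL
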