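import Mathlib

/-! Farm LBAL (S1301), unit TC4: extremal conjugates. -/

set_option autoImplicit false
open Pointwise

namespace Cfsg.Agent.Lib.Helper4.LBAL

universe u

/-- TC4: every element of `S` has an `H`-conjugate `s'` in `S` with `C_S(s')` a Sylow
2-subgroup of `C_H(s')` (an extremal conjugate). -/
theorem TC4 {H : Type u} [Group H] [Finite H] (S : Sylow 2 H) (s : H) (hs : s ∈ S) :
    ∃ x : H, x⁻¹ * s * x ∈ S ∧
      ¬ 2 ∣ ((S : Subgroup H) ⊓ Subgroup.centralizer ({x⁻¹ * s * x} : Set H)).relIndex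
        (Subgroup.centralizer ({x⁻¹ * s * x} : Set H)) := by
  have : Fact (Nat.Prime 2) := ⟨Nat.prime_two⟩
  set C : Subgroup H := Subgroup.centralizer ({s} : Set H) with hC
  have hsC : s ∈ C := by
    rw [hC, Subgroup.mem_centralizer_iff]
    intro y hy
    rw [Set.mem_singleton_iff] at hy
    rw [hy]
  -- the cyclic subgroup generated by `s` inside `C` is a 2-group
  have hZ2 : IsPGroup 2 ↥(Subgroup.zpowers (⟨s, hsC⟩ : ↥C)) := by
    have h1 : IsPGroup 2 ↥((S : Subgroup H).subgroupOf C) := S.2.comap_subtype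
    apply h1.to_le
    rw [Subgroup.zpowers_le]
    exact Subgroup.mem_subgroupOf.mpr hs
  obtain ⟨P, hP⟩ := hZ2.exists_le_sylow
  -- `T0`: the image of `P` in `H`
  set T0 : Subgroup H := (P : Subgroup ↥C).map C.subtype with hT0
  have hT0C : T0 ≤ C := Subgroup.map_subtype_le _
  have hsT0 : s ∈ T0 := by
    rw [hT0, Subgroup.mem_map]
    exact ⟨⟨s, hsC⟩, hP (Subgroup.mem_zpowers _), rfl⟩
  have hT02 : IsPGroup 2 ↥T0 := P.2.map C.subtype
  have hT0idx : ¬ 2 ∣ T0.relIndex C := by
    have h1 : T0.relIndex C = (P : Subgroup ↥C).index := by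
      rw [Subgroup.relIndex, hT0, Subgroup.subgroupOf,
        Subgroup.comap_map_eq_self_of_injective C.subtype_injective]
    rw [h1]
    exact P.not_dvd_index
  obtain ⟨Q, hQ⟩ := hT02.exists_le_sylow
  obtain ⟨g, hg⟩ := MulAction.exists_smul_eq H Q S
  have hgS : MulAut.conj g • T0 ≤ (S : Subgroup H) := by
    rw [← hg, Sylow.coe_subgroup_smul]
    exact Subgroup.pointwise_smul_le_pointwise_smul_iff.mpr hQ
  refine ⟨g⁻¹, ?_, ?_⟩
  · have h1 : MulAut.conj g s ∈ MulAut.conj g • T0 :=
      Subgroup.smul_mem_pointwise_smul s (MulAut.conj g) T0 hsT0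
    have h2 : MulAut.conj g s ∈ (S : Subgroup H) := hgS h1
    rw [MulAut.conj_apply] at h2
    rw [inv_inv]
    exact h2
  · have hconj : g⁻¹⁻¹ * s * g⁻¹ = MulAut.conj g s := by
      simp [MulAut.conj_apply]
    rw [hconj]
    have hC' : Subgroup.centralizer ({MulAut.conj g s} : Set H) = MulAut.conj g • C := by
      ext y
      rw [Subgroup.mem_pointwise_smul_iff_inv_smul_mem, hC, Subgroup.mem_centralizer_iff,
        Subgroup.mem_centralizer_iff]
      simp only [Set.mem_singleton_iff, forall_eq, MulAut.smul_def, MulAut.conj_inv_apply,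
        MulAut.conj_apply]
      constructor
      · intro h
        have : g⁻¹ * (g * s * g⁻¹ * y) * g = g⁻¹ * (y * (g * s * g⁻¹)) * g := by rw [h]
        simpa [mul_assoc] using this
      · intro h
        have : g * (s * (g⁻¹ * y * g)) * g⁻¹ = g * (g⁻¹ * y * g * s) * g⁻¹ := by rw [h]
        simpa [mul_assoc] using this
    rw [hC']
    have hle : MulAut.conj g • T0 ≤ (S : Subgroup H) ⊓ MulAut.conj g • C :=
      le_inf hgS (Subgroup.pointwise_smul_le_pointwise_smul_iff.mpr hT0C)
    intro h2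
    apply hT0idx
    have h3 := Subgroup.relIndex_dvd_of_le_left (MulAut.conj g • C) hle
    rw [Subgroup.relIndex_pointwise_smul] at h3
    exact dvd_trans h2 h3

end Cfsg.Agent.Lib.Helper4.LBAL
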