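import Mathlib
import Cfsg.Prelude.Def_Solvable
import Cfsg.Prelude.Def_CaseTheorems
import Cfsg.Agent.Lib.Helper2.Cores
import Cfsg.Agent.Lib.Helper4.LBALTC4

/-! Farm LBAL (S1301), unit TC5: the endgame of case C of Theorem T. -/

set_option autoImplicit false
open Pointwise

namespace Cfsg.Agent.Lib.Helper4.LBAL

universe u

/-- A 2-element of the fixed-point subgroup `F ≥ S` is `F`-conjugate into the Sylow 2-subgroup `S`. -/
theorem exists_fixed_conj_mem_sylow {H : Type u} [Group H] [Finite H] (S : Sylow 2 H)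
    (F : Subgroup H) (hSF : (S : Subgroup H) ≤ F) (t : H) (htF : t ∈ F) (ht2 : t ^ 2 = 1) :
    ∃ k ∈ F, k⁻¹ * t * k ∈ S := by
  have : Fact (Nat.Prime 2) := ⟨Nat.prime_two⟩
  -- a Sylow 2-subgroup of `F` containing `t`
  have hZ2 : IsPGroup 2 ↥(Subgroup.zpowers (⟨t, htF⟩ : ↥F)) := by
    rw [IsPGroup.iff_orderOf]
    intro y
    obtain ⟨y, hy⟩ := y
    obtain ⟨n, rfl⟩ := Subgroup.mem_zpowers_iff.mp hy
    have h1 : (⟨(⟨t, htF⟩ : ↥F) ^ n, hy⟩ : ↥(Subgroup.zpowers (⟨t, htF⟩ : ↥F))) ^ 2 = 1 := by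
      apply Subtype.ext
      apply Subtype.ext
      simp only [SubgroupClass.coe_pow, SubgroupClass.coe_zpow, OneMemClass.coe_one]
      rw [← zpow_natCast, ← zpow_mul, mul_comm, zpow_mul, zpow_natCast, ht2, one_zpow]
    have h2 := orderOf_dvd_of_pow_eq_one h1
    rcases (Nat.dvd_prime Nat.prime_two).mp h2 with h3 | h3
    · exact ⟨0, by rw [h3, pow_zero]⟩
    · exact ⟨1, by rw [h3, pow_one]⟩
  obtain ⟨P, hP⟩ := hZ2.exists_le_sylow
  -- a Sylow 2-subgroup of `F` containing `S`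
  have hSF2 : IsPGroup 2 ↥((S : Subgroup H).subgroupOf F) := S.2.comap_subtype
  obtain ⟨Q, hQ⟩ := hSF2.exists_le_sylow
  have hQS : (Q : Subgroup ↥F).map F.subtype = (S : Subgroup H) := by
    apply S.is_maximal' (Q.2.map F.subtype)
    intro x hx
    rw [Subgroup.mem_map]
    exact ⟨⟨x, hSF hx⟩, hQ (Subgroup.mem_subgroupOf.mpr hx), rfl⟩
  obtain ⟨k, hk⟩ := MulAction.exists_smul_eq ↥F P Q
  have h1 : MulAut.conj k (⟨t, htF⟩ : ↥F) ∈ (Q : Subgroup ↥F) := by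
    rw [← hk, Sylow.coe_subgroup_smul]
    exact Subgroup.smul_mem_pointwise_smul _ _ _ (hP (Subgroup.mem_zpowers _))
  refine ⟨(k⁻¹ : ↥F), (k⁻¹ : ↥F).2, ?_⟩
  have h2 : F.subtype (MulAut.conj k (⟨t, htF⟩ : ↥F)) ∈ (S : Subgroup H) := by
    rw [← hQS]
    exact Subgroup.mem_map_of_mem _ h1
  show ((k⁻¹ : ↥F) : H)⁻¹ * t * ((k⁻¹ : ↥F) : H) ∈ (S : Subgroup H)
  simpa [MulAut.conj_apply] using h2

/-- TC5: the endgame of case C. -/
theorem TC5 {H : Type u} [Group H] [Finite H] (S : Sylow 2 H) (α : MulAut H)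
    (hα2 : ∀ h : H, α (α h) = h) (hfix : ∀ s ∈ S, α s = s)
    (hCF : ∀ s ∈ S, ∀ x : H, x⁻¹ * s * x ∈ S → ∃ k : H, α k = k ∧ k⁻¹ * s * k = x⁻¹ * s * x)
    (hcen : ∀ s ∈ S, s ≠ 1 →
      ¬ 2 ∣ ((S : Subgroup H) ⊓ Subgroup.centralizer ({s} : Set H)).relIndex
        (Subgroup.centralizer ({s} : Set H)) →
      ∀ c ∈ Subgroup.centralizer ({s} : Set H), c⁻¹ * α c ∈
        (Cfsg.oddCore ↥(Subgroup.centralizer ({s} : Set H))).map
          (Subgroup.centralizer ({s} : Set H)).subtype)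
    (g s : H) (hs : s ∈ S) (hs1 : s ≠ 1) (hgs : g⁻¹ * α g = s) : False := by
  -- `s` is an involution
  have hαg : α g = g * s := by rw [← hgs]; group
  have hs2 : s * s = 1 := by
    have h1 := hα2 g
    rw [hαg, map_mul, hαg, hfix s hs] at h1
    have h2 : g * (s * s) = g * 1 := by rw [mul_one, ← mul_assoc]; exact h1
    exact mul_left_cancel h2
  -- make `s` extremal
  obtain ⟨x, hxS, hxext⟩ := TC4 S s hs
  obtain ⟨k1, hk1, hk1s⟩ := hCF s hs x hxS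
  set s1 : H := x⁻¹ * s * x with hs1def
  set g1 : H := g * k1 with hg1
  have hαg1 : α g1 = g1 * s1 := by
    rw [hg1, map_mul, hαg, hk1, ← hk1s]; group
  have hs1ne : s1 ≠ 1 := by
    intro h
    apply hs1
    have : s = x * s1 * x⁻¹ := by rw [hs1def]; group
    rw [this, h]; group
  have hs1sq : s1 * s1 = 1 := by
    rw [hs1def]
    calc x⁻¹ * s * x * (x⁻¹ * s * x) = x⁻¹ * (s * s) * x := by group
      _ = 1 := by rw [hs2]; group
  have hs1inv : s1⁻¹ = s1 := inv_eq_of_mul_eq_one_right hs1sq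
  have hαs1 : α s1 = s1 := hfix s1 hxS
  -- `s' = g1 s1 g1⁻¹` is fixed by `α`
  set s' : H := g1 * s1 * g1⁻¹ with hs'
  have hαs' : α s' = s' := by
    rw [hs', map_mul, map_mul, map_inv, hαg1, hαs1]; group
  -- the subgroup of fixed points
  let F : Subgroup H := (α.toMonoidHom).eqLocus (MonoidHom.id H)
  have hFmem : ∀ y : H, y ∈ F ↔ α y = y := fun y => Iff.rfl
  have hSF : (S : Subgroup H) ≤ F := fun y hy => (hFmem y).mpr (hfix y hy)
  have hs'sq : s' ^ 2 = 1 := by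
    rw [hs', pow_two]
    calc g1 * s1 * g1⁻¹ * (g1 * s1 * g1⁻¹) = g1 * (s1 * s1) * g1⁻¹ := by group
      _ = 1 := by rw [hs1sq]; group
  obtain ⟨k, hkF, hkS⟩ := exists_fixed_conj_mem_sylow S F hSF s' ((hFmem s').mpr hαs') hs'sq
  have hαk : α k = k := (hFmem k).mp hkF
  -- `h = g1⁻¹ k`
  set h : H := g1⁻¹ * k with hh
  have hconj : h⁻¹ * s1 * h = k⁻¹ * s' * k := by rw [hh, hs']; group
  have hfh : h⁻¹ * α h = h⁻¹ * s1 * h := by
    rw [hh, map_mul, map_inv, hαg1, hαk]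
    calc (g1⁻¹ * k)⁻¹ * ((g1 * s1)⁻¹ * k) = k⁻¹ * g1 * s1⁻¹ * g1⁻¹ * k := by group
      _ = k⁻¹ * g1 * s1 * g1⁻¹ * k := by rw [hs1inv]
      _ = (g1⁻¹ * k)⁻¹ * s1 * (g1⁻¹ * k) := by group
  have hhS : h⁻¹ * s1 * h ∈ S := by rw [hconj]; exact hkS
  obtain ⟨k', hk', hk's⟩ := hCF s1 hxS h hhS
  set c : H := h * k'⁻¹ with hc
  have hcs : c⁻¹ * s1 * c = s1 := by
    rw [hc]
    calc (h * k'⁻¹)⁻¹ * s1 * (h * k'⁻¹) = k' * (h⁻¹ * s1 * h) * k'⁻¹ := by group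
      _ = k' * (k'⁻¹ * s1 * k') * k'⁻¹ := by rw [hk's]
      _ = s1 := by group
  have hcC : c ∈ Subgroup.centralizer ({s1} : Set H) := by
    rw [Subgroup.mem_centralizer_iff]
    intro y hy
    rw [Set.mem_singleton_iff] at hy
    rw [hy]
    calc s1 * c = c * (c⁻¹ * s1 * c) := by group
      _ = c * s1 := by rw [hcs]
  have hfc : c⁻¹ * α c = s1 := by
    rw [hc, map_mul, map_inv, hk']
    calc (h * k'⁻¹)⁻¹ * (α h * k'⁻¹) = k' * (h⁻¹ * α h) * k'⁻¹ := by group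
      _ = k' * (k'⁻¹ * s1 * k') * k'⁻¹ := by rw [hfh, hk's]
      _ = s1 := by group
  have hmem := hcen s1 hxS hs1ne hxext c hcC
  rw [hfc, Subgroup.mem_map] at hmem
  obtain ⟨y, hy, hy2⟩ := hmem
  -- `y` has odd order and squares to one
  have hcop : (Nat.card ↥(Cfsg.oddCore ↥(Subgroup.centralizer ({s1} : Set H)))).Coprime 2 :=
    Cfsg.Agent.Lib.Helper2.pPrimeCore_card_coprime 2
  have hy1 : (⟨y, hy⟩ : ↥(Cfsg.oddCore ↥(Subgroup.centralizer ({s1} : Set H)))) ^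
      Nat.card ↥(Cfsg.oddCore ↥(Subgroup.centralizer ({s1} : Set H))) = 1 := pow_card_eq_one'
  have hy3 : s1 ^ Nat.card ↥(Cfsg.oddCore ↥(Subgroup.centralizer ({s1} : Set H))) = 1 := by
    have h2 := congrArg (fun z : ↥(Cfsg.oddCore ↥(Subgroup.centralizer ({s1} : Set H))) =>
      ((z : ↥(Subgroup.centralizer ({s1} : Set H))) : H)) hy1
    simp only [SubgroupClass.coe_pow, OneMemClass.coe_one] at h2
    calc s1 ^ Nat.card ↥(Cfsg.oddCore ↥(Subgroup.centralizer ({s1} : Set H)))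
        = ((Subgroup.centralizer ({s1} : Set H)).subtype y) ^
          Nat.card ↥(Cfsg.oddCore ↥(Subgroup.centralizer ({s1} : Set H))) := by rw [hy2]
      _ = 1 := h2
  have hord1 : orderOf s1 ∣ 2 := orderOf_dvd_of_pow_eq_one (by rw [pow_two]; exact hs1sq)
  have hord2 := orderOf_dvd_of_pow_eq_one hy3
  have hord3 : orderOf s1 ∣ Nat.gcd 2 (Nat.card ↥(Cfsg.oddCore ↥(Subgroup.centralizer ({s1} : Set H)))) :=
    Nat.dvd_gcd hord1 hord2
  rw [Nat.Coprime.symm hcop] at hord3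
  exact hs1ne (orderOf_eq_one_iff.mp (Nat.dvd_one.mp hord3))

end Cfsg.Agent.Lib.Helper4.LBAL
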