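import Mathlib
import Cfsg.Prelude.Def_Solvable
import Cfsg.Prelude.Def_CaseTheorems
import Cfsg.Agent.Lib.Helper1.LBALAct
import Cfsg.Agent.Lib.Helper1.PCore
import Cfsg.Agent.Lib.Helper2.Cores

/-! Farm LBAL (S1301), unit TB1: case `O(H) = 1`, `W = O_2(H) ≠ 1`, first half. -/

set_option autoImplicit false
open Pointwise

namespace Cfsg.Agent.Lib.Helper4.LBAL

open Cfsg.Agent.Lib.Helper1.LBAL

universe u v

/-- If a Sylow 2-subgroup `P` of a finite group `C` is central, the elements of odd order form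
a subgroup `K0` of odd order complementing `P` (Burnside's transfer theorem). -/
theorem central_sylow {C : Type u} [Group C] [Finite C] (P : Sylow 2 C)
    (hPc : (P : Subgroup C) ≤ Subgroup.center C) :
    ∃ K0 : Subgroup C, (∀ x : C, x ∈ K0 ↔ ¬ 2 ∣ orderOf x) ∧ (Nat.card K0).Coprime 2 ∧
      Nat.card K0 * Nat.card (P : Subgroup C) = Nat.card C := by
  have : Fact (Nat.Prime 2) := ⟨Nat.prime_two⟩
  have hN : Subgroup.normalizer ((P : Subgroup C) : Set C) ≤
      Subgroup.centralizer ((P : Subgroup C) : Set C) := by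
    intro x _
    rw [Subgroup.mem_centralizer_iff]
    intro y hy
    exact ((Subgroup.mem_center_iff.mp (hPc hy)) x).symm
  have hcomp := MonoidHom.ker_transferSylow_isComplement' P hN
  have hcard := hcomp.card_mul_card
  refine ⟨(MonoidHom.transferSylow P hN).ker, ?_, ?_, hcard⟩
  · have hK0cop : (Nat.card (MonoidHom.transferSylow P hN).ker).Coprime 2 := by
      have h1 : Nat.card (MonoidHom.transferSylow P hN).ker = (P : Subgroup C).index := by
        have h2 := (P : Subgroup C).card_mul_index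
        have hpos : 0 < Nat.card (P : Subgroup C) := Nat.card_pos
        apply Nat.eq_of_mul_eq_mul_right hpos
        rw [hcard, ← h2, mul_comm]
      rw [h1]
      exact ((Nat.Prime.coprime_iff_not_dvd Nat.prime_two).mpr P.not_dvd_index).symm
    intro x
    constructor
    · intro hx h2
      have h3 : orderOf (⟨x, hx⟩ : (MonoidHom.transferSylow P hN).ker) ∣
          Nat.card (MonoidHom.transferSylow P hN).ker := orderOf_dvd_natCard _
      rw [Subgroup.orderOf_mk] at h3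
      have := Nat.Coprime.eq_one_of_dvd hK0cop.symm (h2.trans h3)
      omega
    · intro hx
      rw [MonoidHom.mem_ker]
      obtain ⟨k, hk⟩ := (IsPGroup.iff_orderOf.mp P.2) (MonoidHom.transferSylow P hN x)
      have h1 : orderOf (MonoidHom.transferSylow P hN x) ∣ orderOf x := orderOf_map_dvd _ x
      rw [hk] at h1
      rcases Nat.eq_zero_or_pos k with h0 | hpos
      · rw [h0, pow_zero] at hk
        exact orderOf_eq_one_iff.mp hk
      · exfalso
        exact hx ((dvd_pow_self 2 hpos.ne').trans h1)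
  · have h1 : Nat.card (MonoidHom.transferSylow P hN).ker = (P : Subgroup C).index := by
      have h2 := (P : Subgroup C).card_mul_index
      have hpos : 0 < Nat.card (P : Subgroup C) := Nat.card_pos
      apply Nat.eq_of_mul_eq_mul_right hpos
      rw [hcard, ← h2, mul_comm]
    rw [h1]
    exact ((Nat.Prime.coprime_iff_not_dvd Nat.prime_two).mpr P.not_dvd_index).symm

/-- TB1 (case `O(H) = 1`, `W = O_2(H) ≠ 1`, first half): `h⁻¹ q(h) ∈ Z(W)` for `q ∈ Q`. -/
theorem TB1 {D : Type v} [Group D] (Q : Subgroup D) {H : Type u} [Group H] [Finite H]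
    (φ : D →* MulAut H) (S : Sylow 2 H) (hfix : ∀ d : D, ∀ s ∈ S, φ d s = s)
    (hIH : TIH.{u, v} D Q (Nat.card H)) (hO : Cfsg.oddCore H = ⊥) (hW : Cfsg.pCore 2 H ≠ ⊥) :
    ∀ q ∈ Q, ∀ h : H, h⁻¹ * φ q h ∈
      Cfsg.pCore 2 H ⊓ Subgroup.centralizer (Cfsg.pCore 2 H : Set H) := by
  have : Fact (Nat.Prime 2) := ⟨Nat.prime_two⟩
  set W : Subgroup H := Cfsg.pCore 2 H with hWdef
  have hWn : W.Normal := Cfsg.Agent.Lib.Helper1.pCore_normal 2
  have hW2 : IsPGroup 2 ↥W := Cfsg.Agent.Lib.Helper1.pCore_isPGroup 2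
  have hWS : W ≤ (S : Subgroup H) := Cfsg.Agent.Lib.Helper1.pCore_le_sylow 2 S
  have hWfix : ∀ d : D, ∀ w ∈ W, φ d w = w := fun d w hw => hfix d w (hWS hw)
  have hWinv : ∀ d : D, ∀ n ∈ W, φ d n ∈ W := fun d n hn => by rw [hWfix d n hn]; exact hn
  -- (1) `h⁻¹ d(h)` centralizes `W`
  have hcent : ∀ d : D, ∀ h : H, h⁻¹ * φ d h ∈ Subgroup.centralizer (W : Set H) := by
    intro d h
    rw [Subgroup.mem_centralizer_iff]
    intro w hw
    have h1 : h * w * h⁻¹ ∈ W := hWn.conj_mem w hw h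
    have h2 := hWfix d _ h1
    rw [map_mul, map_mul, map_inv, hWfix d w hw] at h2
    -- h2 : φ d h * w * (φ d h)⁻¹ = h * w * h⁻¹
    calc w * (h⁻¹ * φ d h) = h⁻¹ * (h * w * h⁻¹) * φ d h := by group
      _ = h⁻¹ * (φ d h * w * (φ d h)⁻¹) * φ d h := by rw [h2]
      _ = h⁻¹ * φ d h * w := by group
  -- (2) the induction hypothesis on `H ⧸ W`
  let Sbar : Sylow 2 (H ⧸ W) := S.mapSurjective (QuotientGroup.mk'_surjective W)
  have hlt : Nat.card (H ⧸ W) < Nat.card H := by
    have h1 := Subgroup.card_eq_card_quotient_mul_card_subgroup W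
    have h2 : 1 < Nat.card ↥W := by
      rw [Subgroup.one_lt_card_iff_ne_bot]
      exact hW
    have h3 : 0 < Nat.card (H ⧸ W) := Nat.card_pos
    rw [h1]
    nlinarith
  have hfixbar : ∀ d : D, ∀ s ∈ Sbar, quotAct φ W hWinv d s = s := by
    intro d s hs
    have hs' : s ∈ (S : Subgroup H).map (QuotientGroup.mk' W) := hs
    obtain ⟨t, ht, rfl⟩ := Subgroup.mem_map.mp hs'
    show quotAct φ W hWinv d ((t : H) : H ⧸ W) = ((t : H) : H ⧸ W)
    rw [quotAct_mk, hfix d t ht]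
  have hT := hIH (H ⧸ W) (quotAct φ W hWinv) Sbar hlt hfixbar
  intro q hq h
  have hc1 : h⁻¹ * φ q h ∈ Subgroup.centralizer (W : Set H) := hcent q h
  have hM : ((h⁻¹ * φ q h : H) : H ⧸ W) ∈ Cfsg.oddCore (H ⧸ W) := by
    have h1 := hT q hq (h : H ⧸ W)
    rw [quotAct_mk] at h1
    simpa using h1
  -- the subgroup `Cm = M ∩ C_H(W)`
  set M : Subgroup H := (Cfsg.oddCore (H ⧸ W)).comap (QuotientGroup.mk' W) with hMdef
  have hMn : M.Normal := by
    have hch : (Cfsg.oddCore (H ⧸ W)).Characteristic :=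
      Cfsg.Agent.Lib.Helper2.pPrimeCore_characteristic (G := H ⧸ W) 2
    have : (Cfsg.oddCore (H ⧸ W)).Normal := Subgroup.normal_of_characteristic _
    exact Subgroup.Normal.comap this _
  have hCn : (Subgroup.centralizer (W : Set H)).Normal := Subgroup.normal_centralizer
  set Cm : Subgroup H := M ⊓ Subgroup.centralizer (W : Set H) with hCmdef
  have hCmn : Cm.Normal := Subgroup.normal_inf_normal M (Subgroup.centralizer (W : Set H))
  have hcCm : h⁻¹ * φ q h ∈ Cm := ⟨hM, hc1⟩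
  -- 2-elements of `M` lie in `W`
  have hoddq : (Nat.card ↥(Cfsg.oddCore (H ⧸ W))).Coprime 2 :=
    Cfsg.Agent.Lib.Helper2.pPrimeCore_card_coprime 2
  have h2W : ∀ x ∈ M, ∀ k : ℕ, x ^ 2 ^ k = 1 → x ∈ W := by
    intro x hx k hk
    have h1 : ((x : H) : H ⧸ W) ∈ Cfsg.oddCore (H ⧸ W) := hx
    have h2 : ((x : H) : H ⧸ W) ^ 2 ^ k = 1 := by
      rw [← QuotientGroup.mk_pow, hk]; rfl
    have h3 : ((x : H) : H ⧸ W) ^ Nat.card ↥(Cfsg.oddCore (H ⧸ W)) = 1 := by
      have h4 : (⟨_, h1⟩ : ↥(Cfsg.oddCore (H ⧸ W))) ^ Nat.card ↥(Cfsg.oddCore (H ⧸ W)) = 1 :=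
        pow_card_eq_one'
      have h5 := congrArg (fun z : ↥(Cfsg.oddCore (H ⧸ W)) => (z : H ⧸ W)) h4
      rw [SubgroupClass.coe_pow] at h5
      exact h5
    have h6 : orderOf ((x : H) : H ⧸ W) ∣ Nat.gcd (2 ^ k) (Nat.card ↥(Cfsg.oddCore (H ⧸ W))) :=
      Nat.dvd_gcd (orderOf_dvd_of_pow_eq_one h2) (orderOf_dvd_of_pow_eq_one h3)
    rw [Nat.Coprime.pow_left k hoddq.symm] at h6
    have h7 : ((x : H) : H ⧸ W) = 1 := orderOf_eq_one_iff.mp (Nat.dvd_one.mp h6)
    exact (QuotientGroup.eq_one_iff x).mp h7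
  -- a Sylow 2-subgroup of `Cm` is central
  obtain ⟨P⟩ : Nonempty (Sylow 2 ↥Cm) := inferInstance
  have hPW : ∀ x ∈ (P : Subgroup ↥Cm), (x : H) ∈ W := by
    intro x hx
    obtain ⟨k, hk⟩ := (IsPGroup.iff_orderOf.mp P.2) ⟨x, hx⟩
    have h1 : x ^ 2 ^ k = 1 := by
      have h2 := pow_orderOf_eq_one (⟨x, hx⟩ : ↥(P : Subgroup ↥Cm))
      rw [hk] at h2
      have h3 := congrArg (fun z : ↥(P : Subgroup ↥Cm) => (z : ↥Cm)) h2
      simpa using h3
    have h4 : (x : H) ^ 2 ^ k = 1 := by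
      have h5 := congrArg (fun z : ↥Cm => (z : H)) h1
      simpa using h5
    exact h2W _ x.2.1 k h4
  have hPc : (P : Subgroup ↥Cm) ≤ Subgroup.center ↥Cm := by
    intro x hx
    rw [Subgroup.mem_center_iff]
    intro y
    apply Subtype.ext
    have h1 := Subgroup.mem_centralizer_iff.mp y.2.2 (x : H) (hPW x hx)
    simpa using h1.symm
  obtain ⟨K0, hK0mem, hK0cop, hK0card⟩ := central_sylow P hPc
  -- `K0` is normal in `H` of odd order, hence trivial
  have hK0n : (K0.map Cm.subtype).Normal := by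
    constructor
    intro y hy g
    obtain ⟨x, hx, rfl⟩ := Subgroup.mem_map.mp hy
    have hmem : g * (x : H) * g⁻¹ ∈ Cm := hCmn.conj_mem _ x.2 g
    refine Subgroup.mem_map.mpr ⟨⟨_, hmem⟩, ?_, rfl⟩
    rw [hK0mem]
    have h1 := (hK0mem x).mp hx
    have h2 : orderOf (⟨_, hmem⟩ : ↥Cm) = orderOf x := by
      rw [← Subgroup.orderOf_coe, ← Subgroup.orderOf_coe x]
      show orderOf (g * (x : H) * g⁻¹) = orderOf (x : H)
      have h3 := orderOf_injective (MulAut.conj g).toMonoidHom (MulAut.conj g).injective (x : H)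
      simpa [MulAut.conj_apply] using h3
    rw [h2]
    exact h1
  have hK0cop' : (Nat.card ↥(K0.map Cm.subtype)).Coprime 2 := by
    rw [Subgroup.card_map_of_injective Cm.subtype_injective]
    exact hK0cop
  have hK0le : K0.map Cm.subtype ≤ Cfsg.pPrimeCore 2 H :=
    Cfsg.Agent.Lib.Helper2.le_pPrimeCore hK0cop'
  have hK0bot : Nat.card K0 = 1 := by
    have h1 : K0.map Cm.subtype = ⊥ := by
      rw [eq_bot_iff]
      have hO' : Cfsg.pPrimeCore 2 H = ⊥ := hO
      rw [← hO']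
      exact hK0le
    have h2 := Subgroup.card_map_of_injective (K := K0) Cm.subtype_injective
    rw [h1, Subgroup.card_bot] at h2
    exact h2.symm
  rw [hK0bot, one_mul] at hK0card
  have hPtop : (P : Subgroup ↥Cm) = ⊤ := Subgroup.eq_top_of_card_eq _ hK0card
  have hcP : (⟨h⁻¹ * φ q h, hcCm⟩ : ↥Cm) ∈ (P : Subgroup ↥Cm) := by rw [hPtop]; trivial
  exact ⟨hPW _ hcP, hc1⟩

end Cfsg.Agent.Lib.Helper4.LBAL
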