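import Mathlib
import Cfsg.Agent.S0165
import Cfsg.Agent.Lib.Helper6.CharBasic
import Cfsg.Agent.Lib.Helper6.Extraspecial

/-! A simple group whose order is divisible by `5` exactly once and which has an irreducible
representation of degree `5` has self-centralizing Sylow `5`-subgroups. -/

set_option autoImplicit false
set_option linter.unusedSectionVars false
set_option linter.unusedVariables false
set_option linter.style.longLine false
set_option linter.unusedSimpArgs false

namespace Cfsg.Agent.Lib.Helper4.M11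

open Cfsg Cfsg.Agent.Lib.Helper6 Module

/-- Newton's identities for five numbers with vanishing power sums -/
theorem newton5_aux (a b c d e : ℂ) (h1 : a + b + c + d + e = 0)
    (h2 : a ^ 2 + b ^ 2 + c ^ 2 + d ^ 2 + e ^ 2 = 0)
    (h3 : a ^ 3 + b ^ 3 + c ^ 3 + d ^ 3 + e ^ 3 = 0)
    (h4 : a ^ 4 + b ^ 4 + c ^ 4 + d ^ 4 + e ^ 4 = 0) : a ^ 5 = a * b * c * d * e := by
  have e2 : a * b + a * c + a * d + a * e + b * c + b * d + b * e + c * d + c * e + d * e = 0 := by
    linear_combination ((a + b + c + d + e) / 2) * h1 - (1 / 2) * h2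
  have e3 : a * b * c + a * b * d + a * b * e + a * c * d + a * c * e + a * d * e + b * c * d +
      b * c * e + b * d * e + c * d * e = 0 := by
    linear_combination (1 / 3) * (a + b + c + d + e) * e2
      - (1 / 3) * (a ^ 2 + b ^ 2 + c ^ 2 + d ^ 2 + e ^ 2) * h1 + (1 / 3) * h3
  have e4 : a * b * c * d + a * b * c * e + a * b * d * e + a * c * d * e + b * c * d * e = 0 := by
    linear_combination (1 / 4) * (a + b + c + d + e) * e3
      - (1 / 4) * (a ^ 2 + b ^ 2 + c ^ 2 + d ^ 2 + e ^ 2) * e2
      + (1 / 4) * (a ^ 3 + b ^ 3 + c ^ 3 + d ^ 3 + e ^ 3) * h1 - (1 / 4) * h4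
  linear_combination a ^ 4 * h1 - a ^ 3 * e2 + a ^ 2 * e3 - a * e4

theorem newton5 (ν : Fin 5 → ℂ) (h : ∀ n : ℕ, 1 ≤ n → n ≤ 4 → ∑ j, ν j ^ n = 0) :
    ∀ j, ν j ^ 5 = ν 0 * ν 1 * ν 2 * ν 3 * ν 4 := by
  have h1 := h 1 le_rfl (by norm_num)
  have h2 := h 2 (by norm_num) (by norm_num)
  have h3 := h 3 (by norm_num) (by norm_num)
  have h4 := h 4 (by norm_num) le_rfl
  simp only [Fin.sum_univ_five, pow_one] at h1 h2 h3 h4
  intro j
  fin_cases j
  · exact newton5_aux _ _ _ _ _ h1 h2 h3 h4
  · have := newton5_aux (ν 1) (ν 0) (ν 2) (ν 3) (ν 4) (by linear_combination h1)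
      (by linear_combination h2) (by linear_combination h3) (by linear_combination h4)
    simp only [Fin.reduceFinMk] at *
    linear_combination this
  · have := newton5_aux (ν 2) (ν 0) (ν 1) (ν 3) (ν 4) (by linear_combination h1)
      (by linear_combination h2) (by linear_combination h3) (by linear_combination h4)
    simp only [Fin.reduceFinMk] at *
    linear_combination this
  · have := newton5_aux (ν 3) (ν 0) (ν 1) (ν 2) (ν 4) (by linear_combination h1)
      (by linear_combination h2) (by linear_combination h3) (by linear_combination h4)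
    simp only [Fin.reduceFinMk] at *
    linear_combination this
  · have := newton5_aux (ν 4) (ν 0) (ν 1) (ν 2) (ν 3) (by linear_combination h1)
      (by linear_combination h2) (by linear_combination h3) (by linear_combination h4)
    simp only [Fin.reduceFinMk] at *
    linear_combination this

/-- the same for an arbitrary index type of size five -/
theorem newton5' {ι : Type*} [Fintype ι] (hι : Fintype.card ι = 5) (μ : ι → ℂ)
    (h : ∀ n : ℕ, 1 ≤ n → n ≤ 4 → ∑ i, μ i ^ n = 0) : ∃ c : ℂ, ∀ i, μ i ^ 5 = c := by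
  classical
  let e : ι ≃ Fin 5 := Fintype.equivFinOfCardEq hι
  have h' : ∀ n : ℕ, 1 ≤ n → n ≤ 4 → ∑ j, (fun j => μ (e.symm j)) j ^ n = 0 := by
    intro n hn1 hn4
    rw [← h n hn1 hn4]
    exact Equiv.sum_comp e.symm (fun i => μ i ^ n)
  have := newton5 (fun j => μ (e.symm j)) h'
  refine ⟨μ (e.symm 0) * μ (e.symm 1) * μ (e.symm 2) * μ (e.symm 3) * μ (e.symm 4), fun i => ?_⟩
  have h2 := this (e i)
  simp only [Equiv.symm_apply_apply] at h2
  exact h2

variable {G : Type*} [Group G] [Fintype G]
variable {V : Type*} [AddCommGroup V] [Module ℂ V] [FiniteDimensional ℂ V]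

/-- an element acting as a scalar in a faithful-enough irreducible representation of a simple
non-abelian group is trivial -/
theorem eq_one_of_scalar [IsSimpleGroup G] (hna : ∃ a b : G, a * b ≠ b * a)
    (ρ : Representation ℂ G V) [ρ.IsIrreducible] (hdim : finrank ℂ V ≠ 1) {x : G} {c : ℂ}
    (hx : ρ x = c • LinearMap.id) : x = 1 := by
  -- the kernel is trivial
  have hker : (MonoidHom.ker ρ) = ⊥ := by
    rcases (inferInstance : (MonoidHom.ker ρ).Normal).eq_bot_or_eq_top with h | h
    · exact h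
    · exfalso
      apply hdim
      apply finrank_eq_one_of_commutator_le_ker ρ
      intro z _
      have : z ∈ MonoidHom.ker ρ := by rw [h]; exact Subgroup.mem_top z
      exact MonoidHom.mem_ker.mp this
  -- `x` is central
  have hcen : x ∈ Subgroup.center G := by
    rw [Subgroup.mem_center_iff]
    intro g
    have h1 : ρ (g * x) = ρ (x * g) := by
      rw [map_mul, map_mul, hx]
      ext v
      simp
    have h2 : (g * x) * (x * g)⁻¹ ∈ MonoidHom.ker ρ := by
      rw [MonoidHom.mem_ker, map_mul, h1, ← map_mul, mul_inv_cancel, map_one]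
    rw [hker, Subgroup.mem_bot] at h2
    exact mul_inv_eq_one.mp h2
  rcases (inferInstance : (Subgroup.center G).Normal).eq_bot_or_eq_top with h | h
  · rw [h, Subgroup.mem_bot] at hcen
    exact hcen
  · exfalso
    obtain ⟨a, b, hab⟩ := hna
    apply hab
    have : b ∈ Subgroup.center G := by rw [h]; exact Subgroup.mem_top b
    exact (Subgroup.mem_center_iff.mp this a)

/-- in a simple group with `5 ∥ |G|` and an irreducible representation of degree `5`, elements of
order `5` commute only with `5`-elements -/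
theorem eq_one_of_commute_deg5 [IsSimpleGroup G] (hna : ∃ a b : G, a * b ≠ b * a)
    (ρ : Representation ℂ G V) [ρ.IsIrreducible] (hdim : finrank ℂ V = 5)
    (h5 : 5 ∣ Nat.card G) (h25 : ¬ 25 ∣ Nat.card G) {y k : G} (hy : orderOf y = 5)
    (hyk : Commute y k) (hk : ¬ 5 ∣ orderOf k) : k = 1 := by
  set g := y * k with hg
  have hcop : (orderOf y).Coprime (orderOf k) := by
    rw [hy]
    exact (Nat.Prime.coprime_iff_not_dvd (by norm_num)).mpr hk
  have hgo : orderOf g = 5 * orderOf k := by
    rw [hg, hyk.orderOf_mul_eq_mul_orderOf_of_coprime hcop, hy]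
  have hsing : ∀ n : ℕ, 1 ≤ n → n ≤ 4 → 5 ∣ orderOf (g ^ n) := by
    intro n hn1 hn4
    rw [orderOf_pow, hgo]
    have hk0 : 0 < orderOf k := by
      rcases Nat.eq_zero_or_pos (orderOf k) with h | h
      · exfalso; apply hk; rw [h]; exact dvd_zero 5
      · exact h
    have hcop5 : Nat.Coprime 5 n := by
      apply (Nat.Prime.coprime_iff_not_dvd (by norm_num)).mpr
      intro h
      have := Nat.le_of_dvd (by omega) h
      omega
    have hgcd : Nat.gcd (5 * orderOf k) n = Nat.gcd (orderOf k) n :=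
      Nat.Coprime.gcd_mul_left_cancel (orderOf k) hcop5
    rw [hgcd]
    obtain ⟨q, hq⟩ := Nat.gcd_dvd_left (orderOf k) n
    have hgpos : 0 < Nat.gcd (orderOf k) n := Nat.gcd_pos_of_pos_left n hk0
    refine ⟨q, ?_⟩
    rw [Nat.div_eq_iff_eq_mul_left hgpos]
    · conv_lhs => rw [hq]
      ring
    · exact Dvd.dvd.mul_left (Nat.gcd_dvd_left _ _) 5
  have hvan : ∀ n : ℕ, 1 ≤ n → n ≤ 4 → ρ.character (g ^ n) = 0 := by
    intro n hn1 hn4
    exact Cfsg.Agent.S0165.result ρ 5 1 (by norm_num) (by simpa using h5) (by simpa using h25)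
      (by rw [hdim]; norm_num) (g ^ n) (hsing n hn1 hn4)
  obtain ⟨ι, hι, b, μ, hb, hμ⟩ := exists_eigenbasis_rep ρ g
  have hcard : Fintype.card ι = 5 := by
    rw [← hdim, finrank_eq_card_basis b]
  have hpow : ∀ (n : ℕ) (i : ι), ρ (g ^ n) (b i) = μ i ^ n • b i := by
    intro n i
    induction n with
    | zero => simp
    | succ n ih =>
      rw [pow_succ, map_mul, Module.End.mul_apply, hb, map_smul, ih, smul_smul, pow_succ, mul_comm]
  have hsum : ∀ n : ℕ, 1 ≤ n → n ≤ 4 → ∑ i, μ i ^ n = 0 := by
    intro n hn1 hn4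
    rw [← hvan n hn1 hn4]
    unfold Representation.character
    rw [trace_eq_sum_of_eigenbasis b (fun i => μ i ^ n) _ (hpow n)]
  obtain ⟨c, hc⟩ := newton5' hcard μ hsum
  have hscal : ρ (g ^ 5) = c • LinearMap.id := by
    apply b.ext
    intro i
    rw [hpow 5 i, hc i]
    simp
  have h1 := eq_one_of_scalar hna ρ (by rw [hdim]; norm_num) hscal
  have h2 : g ^ 5 = k ^ 5 := by
    rw [hg, hyk.mul_pow, ← hy, pow_orderOf_eq_one, one_mul]
  rw [h2] at h1
  have h3 : orderOf k ∣ 5 := orderOf_dvd_of_pow_eq_one h1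
  rcases (Nat.dvd_prime (by norm_num : Nat.Prime 5)).mp h3 with h | h
  · exact orderOf_eq_one_iff.mp h
  · exfalso; apply hk; rw [h]

end Cfsg.Agent.Lib.Helper4.M11
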