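import Mathlib
import Cfsg.Agent.Lib.Lead.SmallSimple2
import Cfsg.Agent.Lib.Helper7.SylPar3

/-! Counting tools for the order `5040` (general lemmas). -/

set_option autoImplicit false

namespace Cfsg.Agent.Lib.Helper4.Ord5040

open Cfsg.Agent.Lib.Lead Cfsg.Agent.Lib.Lead.SylowCount Cfsg.Agent.Lib.Lead.SmallSimple2
  Cfsg.Agent.Lib.Helper7.CountTools Cfsg.Agent.Lib.Helper7.SylPar

variable {G : Type*} [Group G]

/-- if every conjugacy class meets a set in a multiple of `d` elements, then `d` divides the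
size of the set -/
lemma dvd_card_of_classes' [Finite G] (q : G → Prop) (d : ℕ)
    (h : ∀ w, q w → d ∣ Nat.card {g : G // IsConj w g ∧ q g}) :
    d ∣ Nat.card {g : G // q g} := by
  classical
  haveI : Fintype G := Fintype.ofFinite G
  let I : Finset G := Finset.univ.filter q
  have hI : Nat.card {g : G // q g} = I.card := by
    rw [Nat.card_eq_fintype_card, Fintype.card_subtype]
  rw [hI, Finset.card_eq_sum_card_image (fun x : G => ConjClasses.mk x) I]
  apply Finset.dvd_sum
  intro b hb
  obtain ⟨w, hw, rfl⟩ := Finset.mem_image.mp hb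
  have hqw : q w := (Finset.mem_filter.mp hw).2
  have h1 := h w hqw
  rw [Nat.card_eq_fintype_card, Fintype.card_subtype] at h1
  have h2 : (Finset.univ.filter (fun g : G => IsConj w g ∧ q g)) =
      (I.filter (fun a => ConjClasses.mk a = ConjClasses.mk w)) := by
    ext a
    simp only [Finset.mem_filter, Finset.mem_univ, true_and, I]
    constructor
    · rintro ⟨ha, hqa⟩
      exact ⟨hqa, (ConjClasses.mk_eq_mk_iff_isConj.mpr ha).symm⟩
    · rintro ⟨hqa, hab⟩
      exact ⟨(ConjClasses.mk_eq_mk_iff_isConj.mp hab).symm, hqa⟩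
  rw [h2] at h1
  exact h1

/-- a `p`-subgroup commuting with `w` acts on the fixed points of `w` -/
lemma fix_modEq_sub {p : ℕ} [Fact p.Prime] [Finite G] (P : Subgroup G) (hP : IsPGroup p P)
    {α : Type*} [MulAction G α] [Finite α] {w : G} (hw : ∀ x ∈ P, x * w = w * x) :
    Nat.card (MulAction.fixedBy α w) ≡
      Nat.card {a : α // w • a = a ∧ ∀ x ∈ P, x • a = a} [MOD p] := by
  letI act : MulAction ↥P ↥(MulAction.fixedBy α w) :=
    { smul := fun x a => ⟨(x : G) • a.1, by
        have ha : w • a.1 = a.1 := a.2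
        show w • (x : G) • a.1 = (x : G) • a.1
        rw [← mul_smul, ← hw x x.2, mul_smul, ha]⟩
      one_smul := fun a => Subtype.ext (one_smul G a.1)
      mul_smul := fun x y a => Subtype.ext (mul_smul (x : G) (y : G) a.1) }
  have h1 := IsPGroup.card_modEq_card_fixedPoints hP ↥(MulAction.fixedBy α w)
  have h2 : Nat.card (MulAction.fixedPoints ↥P ↥(MulAction.fixedBy α w)) =
      Nat.card {a : α // w • a = a ∧ ∀ x ∈ P, x • a = a} := by
    apply Nat.card_congr
    refine ⟨fun a => ⟨a.1.1, a.1.2, fun x hx => ?_⟩, fun a => ⟨⟨a.1, a.2.1⟩, fun x => ?_⟩, ?_, ?_⟩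
    · have := a.2 ⟨x, hx⟩
      exact congrArg Subtype.val this
    · apply Subtype.ext
      exact a.2.2 x.1 x.2
    · intro a; rfl
    · intro a; rfl
  rw [h2] at h1
  exact h1

/-- a simple group acts faithfully on the cosets of a proper subgroup -/
lemma fix_lt_quot [Finite G] [IsSimpleGroup G] (H : Subgroup G) (hH : H ≠ ⊤) {w : G}
    (hw : w ≠ 1) :
    Nat.card (MulAction.fixedBy (G ⧸ H) w) < Nat.card (G ⧸ H) := by
  by_contra hcon
  apply hw
  have hall : ∀ a : G ⧸ H, w • a = a := by
    intro a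
    by_contra ha
    apply hcon
    rw [Nat.card_coe_set_eq, ← Set.ncard_univ]
    apply Set.ncard_lt_ncard _ (Set.toFinite _)
    rw [Set.ssubset_univ_iff]
    intro h
    have h1 : a ∈ MulAction.fixedBy (G ⧸ H) w := h ▸ Set.mem_univ a
    exact ha h1
  rcases (MulAction.toPermHom G (G ⧸ H)).normal_ker.eq_bot_or_eq_top with h | h
  · have hk : w ∈ (MulAction.toPermHom G (G ⧸ H)).ker := by
      rw [MonoidHom.mem_ker]
      exact Equiv.ext (fun a => hall a)
    rw [h] at hk
    exact Subgroup.mem_bot.mp hk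
  · exfalso
    apply hH
    rw [eq_top_iff]
    intro g _
    have hgk : g ∈ (MulAction.toPermHom G (G ⧸ H)).ker := by rw [h]; exact Subgroup.mem_top g
    rw [MonoidHom.mem_ker] at hgk
    have h3 := congrArg (fun τ : Equiv.Perm (G ⧸ H) => τ ((1 : G) : G ⧸ H)) hgk
    simp only [MulAction.toPermHom_apply, MulAction.toPerm_apply, Equiv.Perm.coe_one, id_eq] at h3
    have h4 : g ∈ MulAction.stabilizer G ((1 : G) : G ⧸ H) := MulAction.mem_stabilizer_iff.mpr h3
    rwa [MulAction.stabilizer_quotient] at h4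

/-- the number of fixed points of `w` on the cosets of its centralizer, modulo `p`, is the number
of conjugates of `w` centralizing a `p`-subgroup `P` which commutes with `w` -/
lemma fix_quot_modEq {p : ℕ} [Fact p.Prime] [Finite G] (P : Subgroup G) (hP : IsPGroup p P)
    {w : G} (hCw : ∀ g ∈ Subgroup.centralizer (P : Set G), g * w = w * g)
    (hPw : ∀ x ∈ P, x * w = w * x) :
    Nat.card (MulAction.fixedBy (G ⧸ Subgroup.centralizer ({w} : Set G)) w) ≡
      Nat.card {g : G // IsConj w g ∧ g ∈ Subgroup.centralizer (P : Set G)} [MOD p] := by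
  set H := Subgroup.centralizer ({w} : Set G) with hH
  have h0 := fix_formula (α := G ⧸ H) ((1 : G) : G ⧸ H) w
  rw [MulAction.stabilizer_quotient] at h0
  have hpos : 0 < Nat.card H := Nat.card_pos
  have h1 : Nat.card (MulAction.fixedBy (G ⧸ H) w) = Nat.card {g : G // IsConj w g ∧ g ∈ H} :=
    Nat.eq_of_mul_eq_mul_right hpos h0
  rw [h1]
  have hPH : ∀ x ∈ P, x ∈ H := by
    intro x hx
    rw [hH, Subgroup.mem_centralizer_iff]
    intro h hh
    rw [Set.mem_singleton_iff] at hh
    subst hh
    exact (hPw x hx).symm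
  letI act : MulAction ↥P {g : G // IsConj w g ∧ g ∈ H} :=
    { smul := fun x g => ⟨(x : G) * g.1 * (x : G)⁻¹,
        g.2.1.trans (isConj_iff.mpr ⟨(x : G), rfl⟩),
        H.mul_mem (H.mul_mem (hPH x x.2) g.2.2) (H.inv_mem (hPH x x.2))⟩
      one_smul := fun g => Subtype.ext (by
        show ((1 : ↥P) : G) * g.1 * ((1 : ↥P) : G)⁻¹ = g.1
        rw [Subgroup.coe_one]; group)
      mul_smul := fun x y g => Subtype.ext (by
        show ((x * y : ↥P) : G) * g.1 * ((x * y : ↥P) : G)⁻¹ =
          (x : G) * ((y : G) * g.1 * (y : G)⁻¹) * (x : G)⁻¹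
        rw [Subgroup.coe_mul]; group) }
  have h2 := IsPGroup.card_modEq_card_fixedPoints hP {g : G // IsConj w g ∧ g ∈ H}
  have h3 : Nat.card (MulAction.fixedPoints ↥P {g : G // IsConj w g ∧ g ∈ H}) =
      Nat.card {g : G // IsConj w g ∧ g ∈ Subgroup.centralizer (P : Set G)} := by
    apply Nat.card_congr
    refine ⟨fun g => ⟨g.1.1, g.1.2.1, ?_⟩, fun g => ⟨⟨g.1, g.2.1, ?_⟩, fun x => ?_⟩, ?_, ?_⟩
    · rw [Subgroup.mem_centralizer_iff]
      intro x hx
      have h4 := g.2 ⟨x, hx⟩
      have h5 : x * g.1.1 * x⁻¹ = g.1.1 := congrArg Subtype.val h4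
      calc x * g.1.1 = (x * g.1.1 * x⁻¹) * x := by group
        _ = g.1.1 * x := by rw [h5]
    · rw [hH, Subgroup.mem_centralizer_iff]
      intro h hh
      rw [Set.mem_singleton_iff] at hh
      subst hh
      exact (hCw g.1 g.2.2).symm
    · apply Subtype.ext
      show (x : G) * g.1 * (x : G)⁻¹ = g.1
      have h4 := Subgroup.mem_centralizer_iff.mp g.2.2 x.1 x.2
      rw [h4]; group
    · intro g; rfl
    · intro g; rfl
  rw [h3] at h2
  exact h2

/-- if `|C(P)| = p m` and `w ∈ C(P)` has order `m`, then `C(P)` centralizes `w` -/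
lemma centralizer_le_of_card {p : ℕ} [hp : Fact p.Prime] [Finite G] (P : Sylow p G)
    (hP : Nat.card P = p) {m : ℕ}
    (hC : Nat.card (Subgroup.centralizer ((P : Subgroup G) : Set G)) = p * m)
    (hm : ¬ p ∣ m) {w : G} (hwC : w ∈ Subgroup.centralizer ((P : Subgroup G) : Set G))
    (hwo : orderOf w = m) :
    ∀ g ∈ Subgroup.centralizer ((P : Subgroup G) : Set G), g * w = w * g := by
  set C := Subgroup.centralizer ((P : Subgroup G) : Set G) with hCdef
  set A := C ⊓ Subgroup.centralizer ({w} : Set G) with hA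
  have hPA : (P : Subgroup G) ≤ A := by
    intro x hx
    refine Subgroup.mem_inf.mpr ⟨sylow_le_centralizer P hP hx, ?_⟩
    rw [Subgroup.mem_centralizer_iff]
    intro h hh
    rw [Set.mem_singleton_iff] at hh
    subst hh
    exact (Subgroup.mem_centralizer_iff.mp hwC x hx).symm
  have hwA : Subgroup.zpowers w ≤ A := by
    rw [Subgroup.zpowers_le]
    refine Subgroup.mem_inf.mpr ⟨hwC, ?_⟩
    rw [Subgroup.mem_centralizer_iff]
    intro h hh
    rw [Set.mem_singleton_iff] at hh
    subst hh
    rfl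
  have h1 : p ∣ Nat.card A := by
    have := Subgroup.card_dvd_of_le hPA
    rwa [show Nat.card (P : Subgroup G) = p from hP] at this
  have h2 : m ∣ Nat.card A := by
    have := Subgroup.card_dvd_of_le hwA
    rwa [Nat.card_zpowers, hwo] at this
  have hcop : Nat.Coprime p m := (Nat.Prime.coprime_iff_not_dvd hp.out).mpr hm
  have h3 : p * m ∣ Nat.card A := hcop.mul_dvd_of_dvd_of_dvd h1 h2
  have h4 : Nat.card C ≤ Nat.card A := by
    rw [hC]; exact Nat.le_of_dvd Nat.card_pos h3
  have h5 : A = C := Subgroup.eq_of_le_of_card_ge inf_le_left h4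
  intro g hg
  have hgA : g ∈ A := by rw [h5]; exact hg
  have h6 := (Subgroup.mem_inf.mp hgA).2
  rw [Subgroup.mem_centralizer_iff] at h6
  exact (h6 w (Set.mem_singleton w)).symm

/-- an element of `N(P)` whose order is prime to `|N(P) : C(P)|` centralizes `P` -/
lemma mem_centralizer_of_pow_coprime {p : ℕ} [Fact p.Prime] [Finite G] (P : Sylow p G) {k q : ℕ}
    (hk : (Subgroup.centralizer ((P : Subgroup G) : Set G)).relIndex
      (Subgroup.normalizer ((P : Subgroup G) : Set G)) = k)
    (hqk : Nat.Coprime q k) {g : G}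
    (hgN : g ∈ Subgroup.normalizer ((P : Subgroup G) : Set G))
    (hgq : g ^ q = 1) : g ∈ Subgroup.centralizer ((P : Subgroup G) : Set G) := by
  set N := Subgroup.normalizer ((P : Subgroup G) : Set G) with hN
  set C := Subgroup.centralizer ((P : Subgroup G) : Set G) with hCdef
  haveI : (C.subgroupOf N).Normal := by
    rw [hCdef, hN, ← Subgroup.normalizerMonoidHom_ker]
    exact MonoidHom.normal_ker _
  have h1 : (⟨g, hgN⟩ : N) ^ (C.subgroupOf N).index ∈ C.subgroupOf N :=
    Subgroup.pow_index_mem _ _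
  have h2 : (C.subgroupOf N).index = k := hk
  rw [h2, Subgroup.mem_subgroupOf] at h1
  have h3 : g ^ k ∈ C := by simpa using h1
  have h4 := Nat.gcd_eq_gcd_ab q k
  rw [hqk] at h4
  have h5 : g = (g ^ q) ^ (Nat.gcdA q k) * (g ^ k) ^ (Nat.gcdB q k) := by
    rw [← zpow_natCast g q, ← zpow_natCast g k, ← zpow_mul, ← zpow_mul, ← zpow_add, ← h4]
    simp
  rw [h5, hgq, one_zpow, one_mul]
  exact C.zpow_mem h3 _

/-- conjugates of an element `w` of `C(P)` inside `N(P)`, when all of them centralize `P` -/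
lemma card_conj_le' {p : ℕ} [Fact p.Prime] [Finite G] (P : Sylow p G) (hP : Nat.card P = p)
    {m : ℕ} (hC : Nat.card (Subgroup.centralizer ((P : Subgroup G) : Set G)) = p * m)
    (hm : ¬ p ∣ m) {w : G} (hw : w ^ m = 1) (hw1 : w ≠ 1)
    (hS : ∀ g, IsConj w g → g ∈ Subgroup.normalizer ((P : Subgroup G) : Set G) →
      g ∈ Subgroup.centralizer ((P : Subgroup G) : Set G)) :
    Nat.card {g : G // IsConj w g ∧ g ∈ Subgroup.normalizer ((P : Subgroup G) : Set G)} + 1 ≤
      m := by
  have hconj : ∀ g, IsConj w g → g ^ m = 1 ∧ g ≠ 1 := by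
    intro g hg
    obtain ⟨c, hc⟩ := isConj_iff.mp hg
    constructor
    · rw [← hc, conj_pow, hw]; group
    · intro h1
      apply hw1
      rw [h1] at hc
      have : w = c⁻¹ * (c * w * c⁻¹) * c := by group
      rw [this, hc]; group
  let ψ : Option {g : G // IsConj w g ∧ g ∈ Subgroup.normalizer ((P : Subgroup G) : Set G)} →
      {x : G // x ∈ Subgroup.centralizer ((P : Subgroup G) : Set G) ∧ x ^ m = 1} := fun o =>
    o.elim ⟨1, Subgroup.one_mem _, one_pow m⟩ (fun g => ⟨g.1, hS g.1 g.2.1 g.2.2,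
      (hconj g.1 g.2.1).1⟩)
  have hψ : Function.Injective ψ := by
    intro o o' h
    have h' : (ψ o).1 = (ψ o').1 := congrArg Subtype.val h
    cases o with
    | none =>
      cases o' with
      | none => rfl
      | some g => exact absurd h'.symm (hconj g.1 g.2.1).2
    | some g =>
      cases o' with
      | none => exact absurd h' (hconj g.1 g.2.1).2
      | some g' => exact congrArg some (Subtype.ext h')
  have h1 := Nat.card_le_card_of_injective ψ hψ
  rw [Finite.card_option, card_pow_eq_one_centralizer P hP hC hm] at h1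
  exact h1

/-- conjugates of elements of order dividing `q` have order dividing `q` -/
lemma conj_pow_eq_one {v g : G} (hg : IsConj v g) {q : ℕ} (hv : v ^ q = 1) (hv1 : v ≠ 1) :
    g ^ q = 1 ∧ g ≠ 1 := by
  obtain ⟨c, hc⟩ := isConj_iff.mp hg
  constructor
  · rw [← hc, conj_pow, hv]; group
  · intro h1
    apply hv1
    rw [h1] at hc
    have : v = c⁻¹ * (c * v * c⁻¹) * c := by group
    rw [this, hc]; group

end Cfsg.Agent.Lib.Helper4.Ord5040
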