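import Mathlib
import Cfsg.Agent.Lib.Helper4.Ord5040a

/-! Order `5040`: the Sylow `7`-subgroups are self-centralizing with normalizer of order `42`. -/

set_option autoImplicit false

namespace Cfsg.Agent.Lib.Helper4.Ord5040

open Cfsg.Agent.Lib.Lead Cfsg.Agent.Lib.Lead.SylowCount Cfsg.Agent.Lib.Lead.SmallSimple2
  Cfsg.Agent.Lib.Helper7.CountTools Cfsg.Agent.Lib.Helper7.SylPar

local instance fact7 : Fact (Nat.Prime 7) := ⟨by norm_num⟩
local instance fact5 : Fact (Nat.Prime 5) := ⟨by norm_num⟩
local instance fact3 : Fact (Nat.Prime 3) := ⟨by norm_num⟩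
local instance fact2 : Fact (Nat.Prime 2) := ⟨by norm_num⟩

variable {G : Type*} [Group G]

/-- Cauchy inside a subgroup -/
lemma exists_orderOf_eq [Finite G] (C : Subgroup G) (q : ℕ) [Fact q.Prime]
    (hC : q ∣ Nat.card C) : ∃ v ∈ C, orderOf v = q := by
  obtain ⟨x, hx⟩ := exists_prime_orderOf_dvd_card' q hC
  exact ⟨(x : G), x.2, by rw [Subgroup.orderOf_coe]; exact hx⟩

/-- the index data of the centralizer of an element -/
lemma card_quot_centralizer [Finite G] (w : G) {c d n : ℕ}
    (hc : Nat.card (Subgroup.centralizer ({w} : Set G)) = c) (hG : Nat.card G = n)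
    (hn : n = d * c) (hc0 : 0 < c) :
    Nat.card (G ⧸ Subgroup.centralizer ({w} : Set G)) = d := by
  have h1 := Subgroup.card_mul_index (Subgroup.centralizer ({w} : Set G))
  rw [hc, hG, hn, mul_comm] at h1
  rw [← Subgroup.index_eq_card]
  exact Nat.eq_of_mul_eq_mul_right hc0 h1

variable [Finite G] [IsSimpleGroup G]

lemma not_comm (h : Nat.card G = 5040) : ¬ IsMulCommutative G :=
  not_comm_of_not_prime (by rw [h]; norm_num)

lemma card7 (h : Nat.card G = 5040) (P : Sylow 7 G) : Nat.card P = 7 :=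
  card_sylow_of_card_eq 7 720 (by omega) (by norm_num) P

/-- eight Sylow `7`-subgroups -/
lemma case8 (hn : Nat.card (Sylow 7 G) = 8) {m : ℕ} (hm5 : 5 ∣ m)
    (hC : ∀ P : Sylow 7 G, Nat.card (Subgroup.centralizer ((P : Subgroup G) : Set G)) = 7 * m) :
    False := by
  obtain P : Sylow 7 G := default
  have hn1 : Nat.card (Sylow 7 G) ≠ 1 := by rw [hn]; norm_num
  obtain ⟨v, hvC, hvo⟩ := exists_orderOf_eq (Subgroup.centralizer ((P : Subgroup G) : Set G)) 5
    (by rw [hC P]; exact Dvd.dvd.mul_left hm5 7)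
  have hv1 : v ≠ 1 := by
    rintro rfl
    rw [orderOf_one] at hvo
    omega
  have hf1 := fix_modEq_one P (v := v) (Subgroup.mem_centralizer_iff.mp hvC)
  have hf2 := fix_modEq_prime (α := Sylow 7 G) 5 v 1 (by rw [pow_one, ← hvo]; exact pow_orderOf_eq_one v)
  have hf3 := fix_lt 7 hn1 hv1
  rw [hn] at hf2 hf3
  unfold Nat.ModEq at hf1 hf2
  omega

/-- fifteen Sylow `7`-subgroups -/
lemma case15 (h : Nat.card G = 5040) (hn : Nat.card (Sylow 7 G) = 15) {m : ℕ} (hm2 : 2 ∣ m)
    (hC : ∀ P : Sylow 7 G, Nat.card (Subgroup.centralizer ((P : Subgroup G) : Set G)) = 7 * m) :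
    False := by
  obtain P : Sylow 7 G := default
  have hn1 : Nat.card (Sylow 7 G) ≠ 1 := by rw [hn]; norm_num
  obtain ⟨v, hvC, hv2, hv1⟩ := exists_involution (Subgroup.centralizer ((P : Subgroup G) : Set G))
    (by rw [hC P]; exact Dvd.dvd.mul_left hm2 7)
  have hf1 := fix_modEq_one P (v := v) (Subgroup.mem_centralizer_iff.mp hvC)
  have hf2 := fix_modEq_four (not_comm h) (α := Sylow 7 G) v hv2
  have hf3 := fix_lt 7 hn1 hv1
  rw [hn] at hf2 hf3
  unfold Nat.ModEq at hf1 hf2
  omega

/-- thirty-six Sylow `7`-subgroups -/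
lemma case36 (h : Nat.card G = 5040) (hn : Nat.card (Sylow 7 G) = 36)
    (hC : ∀ P : Sylow 7 G, Nat.card (Subgroup.centralizer ((P : Subgroup G) : Set G)) = 7 * 10)
    (hN : ∀ P : Sylow 7 G, Nat.card (Subgroup.normalizer ((P : Subgroup G) : Set G)) = 140) :
    False := by
  obtain P : Sylow 7 G := default
  have hP := card7 h P
  have hn1 : Nat.card (Sylow 7 G) ≠ 1 := by rw [hn]; norm_num
  set C := Subgroup.centralizer ((P : Subgroup G) : Set G) with hCdef
  have key : ∀ w : G, (w ∈ C ∧ w * w = 1 ∧ w ≠ 1) →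
      2 ∣ Nat.card {g : G // IsConj w g ∧ (g ∈ C ∧ g * g = 1 ∧ g ≠ 1)} := by
    rintro w ⟨hwC, hw2, hw1⟩
    have hf1 := fix_modEq_one P (v := w) (Subgroup.mem_centralizer_iff.mp hwC)
    have hf2 := fix_modEq_four (not_comm h) (α := Sylow 7 G) w hw2
    have hf3 := fix_lt 7 hn1 hw1
    rw [hn] at hf2 hf3
    have hf : Nat.card (MulAction.fixedBy (Sylow 7 G) w) = 8 := by
      unfold Nat.ModEq at hf1 hf2
      omega
    have hS : ∀ g, IsConj w g → g ∈ Subgroup.normalizer ((P : Subgroup G) : Set G) →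
        g ∈ Subgroup.centralizer ((P : Subgroup G) : Set G) := by
      intro g hg hgN
      by_contra hgC
      have h1 := fix_bound P hP hgN hgC
      rw [← fix_conj hg, hf, hn] at h1
      omega
    have hle := card_conj_le P hP (hC P) (by norm_num) (by norm_num) hw2 hw1 hS
    have hform : Nat.card (MulAction.fixedBy (Sylow 7 G) w) *
        Nat.card (Subgroup.normalizer ((P : Subgroup G) : Set G)) =
        Nat.card {g : G // IsConj w g ∧ g ∈ Subgroup.normalizer ((P : Subgroup G) : Set G)} *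
          Nat.card (Subgroup.centralizer ({w} : Set G)) := by
      have h0 := fix_formula (α := Sylow 7 G) P w
      rw [Sylow.stabilizer_eq_normalizer] at h0
      exact h0
    rw [hf, hN P] at hform
    have hd := Subgroup.card_subgroup_dvd_card (Subgroup.centralizer ({w} : Set G))
    rw [h] at hd
    have hequiv : Nat.card {g : G // IsConj w g ∧ (g ∈ C ∧ g * g = 1 ∧ g ≠ 1)} =
        Nat.card {g : G // IsConj w g ∧
          g ∈ Subgroup.normalizer ((P : Subgroup G) : Set G)} := by
      apply Nat.card_congr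
      apply Equiv.subtypeEquivRight
      intro g
      constructor
      · rintro ⟨hg, hgC, -, -⟩
        exact ⟨hg, Subgroup.centralizer_le_normalizer _ hgC⟩
      · rintro ⟨hg, hgN⟩
        obtain ⟨h1, h2⟩ := conj_pow_eq_one hg (q := 2) (by rw [pow_two]; exact hw2) hw1
        exact ⟨hg, hS g hg hgN, by rw [← pow_two]; exact h1, h2⟩
    rw [hequiv]
    generalize Nat.card {g : G // IsConj w g ∧
      g ∈ Subgroup.normalizer ((P : Subgroup G) : Set G)} = s at hle hform
    generalize Nat.card (Subgroup.centralizer ({w} : Set G)) = c at hform hd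
    have hdvd : 8 * 140 ∣ s * 5040 := hform ▸ Nat.mul_dvd_mul_left s hd
    have hs : s ≤ 9 := by omega
    have hs0 : s ≠ 0 := by
      rintro rfl
      simp at hform
    have hfin : ∀ s : ℕ, s ≤ 9 → s ≠ 0 → 8 * 140 ∣ s * 5040 → 2 ∣ s := by decide
    exact hfin s hs hs0 hdvd
  have h1 := dvd_card_of_classes' (G := G) (fun w => w ∈ C ∧ w * w = 1 ∧ w ≠ 1) 2 key
  have h2 := odd_card_involutions C (by rw [hC P]; decide)
  rw [Nat.odd_iff] at h2
  omega

/-- `120` Sylow `7`-subgroups, `|C(P)| = 14` -/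
lemma case120a (h : Nat.card G = 5040) (hn : Nat.card (Sylow 7 G) = 120)
    (hC : ∀ P : Sylow 7 G, Nat.card (Subgroup.centralizer ((P : Subgroup G) : Set G)) = 7 * 2)
    (hN : ∀ P : Sylow 7 G, Nat.card (Subgroup.normalizer ((P : Subgroup G) : Set G)) = 42) :
    False := by
  obtain P : Sylow 7 G := default
  have hP := card7 h P
  have hn1 : Nat.card (Sylow 7 G) ≠ 1 := by rw [hn]; norm_num
  set C := Subgroup.centralizer ((P : Subgroup G) : Set G) with hCdef
  have hrel : C.relIndex (Subgroup.normalizer ((P : Subgroup G) : Set G)) = 3 := by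
    have h1 := card_mul_relIndex (Subgroup.centralizer_le_normalizer ((P : Subgroup G) : Set G))
    rw [← hCdef, hC P, hN P] at h1
    omega
  obtain ⟨v, hvC, hv2, hv1⟩ := exists_involution C (by rw [hC P]; norm_num)
  have hvsq : v ^ 2 = 1 := by rw [pow_two]; exact hv2
  have hvo : orderOf v = 2 := orderOf_eq_prime hvsq hv1
  have hf1 := fix_modEq_one P (v := v) (Subgroup.mem_centralizer_iff.mp hvC)
  have hf2 := fix_modEq_four (not_comm h) (α := Sylow 7 G) v hv2
  have hf3 := fix_lt 7 hn1 hv1
  rw [hn] at hf2 hf3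
  have hS : ∀ g, IsConj v g → g ∈ Subgroup.normalizer ((P : Subgroup G) : Set G) →
      g ∈ Subgroup.centralizer ((P : Subgroup G) : Set G) := by
    intro g hg hgN
    exact mem_centralizer_of_pow_coprime P hrel (by norm_num : Nat.Coprime 2 3) hgN
      (conj_pow_eq_one hg hvsq hv1).1
  have hle := card_conj_le' P hP (hC P) (by norm_num) hvsq hv1 hS
  have hform : Nat.card (MulAction.fixedBy (Sylow 7 G) v) *
      Nat.card (Subgroup.normalizer ((P : Subgroup G) : Set G)) =
      Nat.card {g : G // IsConj v g ∧ g ∈ Subgroup.normalizer ((P : Subgroup G) : Set G)} *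
        Nat.card (Subgroup.centralizer ({v} : Set G)) := by
    have h0 := fix_formula (α := Sylow 7 G) P v
    rw [Sylow.stabilizer_eq_normalizer] at h0
    exact h0
  rw [hN P] at hform
  have hd := Subgroup.card_subgroup_dvd_card (Subgroup.centralizer ({v} : Set G))
  rw [h] at hd
  have hequiv : Nat.card {g : G // IsConj v g ∧ g ∈ C} =
      Nat.card {g : G // IsConj v g ∧
        g ∈ Subgroup.normalizer ((P : Subgroup G) : Set G)} := by
    apply Nat.card_congr
    apply Equiv.subtypeEquivRight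
    intro g
    constructor
    · rintro ⟨hg, hgC⟩
      exact ⟨hg, Subgroup.centralizer_le_normalizer _ hgC⟩
    · rintro ⟨hg, hgN⟩
      exact ⟨hg, hS g hg hgN⟩
  have hq1 := fix_quot_modEq (P : Subgroup G) P.isPGroup' (w := v)
    (centralizer_le_of_card P hP (hC P) (by norm_num) hvC hvo)
    (Subgroup.mem_centralizer_iff.mp hvC)
  rw [← hCdef, hequiv] at hq1
  have hq2 := fix_modEq_four (not_comm h) (α := G ⧸ Subgroup.centralizer ({v} : Set G)) v hv2
  have hHne : Subgroup.centralizer ({v} : Set G) ≠ ⊤ := by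
    intro htop
    have h1 : Nat.card (Subgroup.centralizer ({v} : Set G)) = 5040 := by
      rw [htop, Subgroup.card_top, h]
    rw [h1] at hform
    generalize Nat.card {g : G // IsConj v g ∧
      g ∈ Subgroup.normalizer ((P : Subgroup G) : Set G)} = s at hle hform
    have hs : s ≤ 1 := by omega
    unfold Nat.ModEq at hf1 hf2
    interval_cases s <;> omega
  have hq3 := fix_lt_quot (Subgroup.centralizer ({v} : Set G)) hHne hv1
  have hcard : ∀ c : ℕ, Nat.card (Subgroup.centralizer ({v} : Set G)) = c → 0 < c →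
      ∀ d, 5040 = d * c → Nat.card (G ⧸ Subgroup.centralizer ({v} : Set G)) = d :=
    fun c hc hc0 d hd => card_quot_centralizer v hc h hd hc0
  generalize Nat.card {g : G // IsConj v g ∧
    g ∈ Subgroup.normalizer ((P : Subgroup G) : Set G)} = s at hle hform hq1
  generalize Nat.card (MulAction.fixedBy (Sylow 7 G) v) = f at hf1 hf2 hf3 hform
  have hs : s ≤ 1 := by omega
  have hdvd : f * 42 ∣ s * 5040 := hform ▸ Nat.mul_dvd_mul_left s hd
  unfold Nat.ModEq at hf1 hf2
  have hs0 : s ≠ 0 := by
    rintro rfl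
    rw [zero_mul] at hform
    have : f = 0 := by omega
    omega
  have hfin : ∀ f : ℕ, f < 120 → ∀ s : ℕ, s < 2 → (s ≠ 0 ∧ f % 7 = 1 ∧ f % 4 = 0 ∧
      f * 42 ∣ s * 5040) → f = 8 ∧ s = 1 := by decide
  obtain ⟨rfl, rfl⟩ := hfin f hf3 s (by omega) ⟨hs0, hf1, hf2, hdvd⟩
  have hc : Nat.card (Subgroup.centralizer ({v} : Set G)) = 336 := by omega
  have hα := hcard 336 hc (by norm_num) 15 (by norm_num)
  rw [hα] at hq2 hq3
  unfold Nat.ModEq at hq1 hq2
  omega

/-- `120` Sylow `7`-subgroups, `|C(P)| = 21` -/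
lemma case120b (h : Nat.card G = 5040) (hn : Nat.card (Sylow 7 G) = 120)
    (hC : ∀ P : Sylow 7 G, Nat.card (Subgroup.centralizer ((P : Subgroup G) : Set G)) = 7 * 3)
    (hN : ∀ P : Sylow 7 G, Nat.card (Subgroup.normalizer ((P : Subgroup G) : Set G)) = 42) :
    False := by
  obtain P : Sylow 7 G := default
  have hP := card7 h P
  have hn1 : Nat.card (Sylow 7 G) ≠ 1 := by rw [hn]; norm_num
  set C := Subgroup.centralizer ((P : Subgroup G) : Set G) with hCdef
  have hrel : C.relIndex (Subgroup.normalizer ((P : Subgroup G) : Set G)) = 2 := by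
    have h1 := card_mul_relIndex (Subgroup.centralizer_le_normalizer ((P : Subgroup G) : Set G))
    rw [← hCdef, hC P, hN P] at h1
    omega
  obtain ⟨v, hvC, hvo⟩ := exists_orderOf_eq C 3 (by rw [hC P]; norm_num)
  have hvsq : v ^ 3 = 1 := by rw [← hvo]; exact pow_orderOf_eq_one v
  have hv1 : v ≠ 1 := by
    rintro rfl
    rw [orderOf_one] at hvo
    omega
  have hf1 := fix_modEq_one P (v := v) (Subgroup.mem_centralizer_iff.mp hvC)
  have hf2 := fix_modEq_prime (α := Sylow 7 G) 3 v 1 (by rw [pow_one]; exact hvsq)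
  have hf3 := fix_lt 7 hn1 hv1
  rw [hn] at hf2 hf3
  have hS : ∀ g, IsConj v g → g ∈ Subgroup.normalizer ((P : Subgroup G) : Set G) →
      g ∈ Subgroup.centralizer ((P : Subgroup G) : Set G) := by
    intro g hg hgN
    exact mem_centralizer_of_pow_coprime P hrel (by norm_num : Nat.Coprime 3 2) hgN
      (conj_pow_eq_one hg hvsq hv1).1
  have hle := card_conj_le' P hP (hC P) (by norm_num) hvsq hv1 hS
  have hform : Nat.card (MulAction.fixedBy (Sylow 7 G) v) *
      Nat.card (Subgroup.normalizer ((P : Subgroup G) : Set G)) =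
      Nat.card {g : G // IsConj v g ∧ g ∈ Subgroup.normalizer ((P : Subgroup G) : Set G)} *
        Nat.card (Subgroup.centralizer ({v} : Set G)) := by
    have h0 := fix_formula (α := Sylow 7 G) P v
    rw [Sylow.stabilizer_eq_normalizer] at h0
    exact h0
  rw [hN P] at hform
  have hd := Subgroup.card_subgroup_dvd_card (Subgroup.centralizer ({v} : Set G))
  rw [h] at hd
  have hequiv : Nat.card {g : G // IsConj v g ∧ g ∈ C} =
      Nat.card {g : G // IsConj v g ∧
        g ∈ Subgroup.normalizer ((P : Subgroup G) : Set G)} := by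
    apply Nat.card_congr
    apply Equiv.subtypeEquivRight
    intro g
    constructor
    · rintro ⟨hg, hgC⟩
      exact ⟨hg, Subgroup.centralizer_le_normalizer _ hgC⟩
    · rintro ⟨hg, hgN⟩
      exact ⟨hg, hS g hg hgN⟩
  have hq1 := fix_quot_modEq (P : Subgroup G) P.isPGroup' (w := v)
    (centralizer_le_of_card P hP (hC P) (by norm_num) hvC hvo)
    (Subgroup.mem_centralizer_iff.mp hvC)
  rw [← hCdef, hequiv] at hq1
  have hq2 := fix_modEq_prime (α := G ⧸ Subgroup.centralizer ({v} : Set G)) 3 v 1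
    (by rw [pow_one]; exact hvsq)
  have hHne : Subgroup.centralizer ({v} : Set G) ≠ ⊤ := by
    intro htop
    have h1 : Nat.card (Subgroup.centralizer ({v} : Set G)) = 5040 := by
      rw [htop, Subgroup.card_top, h]
    rw [h1] at hform
    generalize Nat.card {g : G // IsConj v g ∧
      g ∈ Subgroup.normalizer ((P : Subgroup G) : Set G)} = s at hle hform
    have hs : s ≤ 2 := by omega
    unfold Nat.ModEq at hf1 hf2
    interval_cases s <;> omega
  have hq3 := fix_lt_quot (Subgroup.centralizer ({v} : Set G)) hHne hv1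
  have hcard : ∀ c : ℕ, Nat.card (Subgroup.centralizer ({v} : Set G)) = c → 0 < c →
      ∀ d, 5040 = d * c → Nat.card (G ⧸ Subgroup.centralizer ({v} : Set G)) = d :=
    fun c hc hc0 d hd => card_quot_centralizer v hc h hd hc0
  generalize Nat.card {g : G // IsConj v g ∧
    g ∈ Subgroup.normalizer ((P : Subgroup G) : Set G)} = s at hle hform hq1
  generalize Nat.card (MulAction.fixedBy (Sylow 7 G) v) = f at hf1 hf2 hf3 hform
  have hs : s ≤ 2 := by omega
  have hdvd : f * 42 ∣ s * 5040 := hform ▸ Nat.mul_dvd_mul_left s hd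
  unfold Nat.ModEq at hf1 hf2
  have hs0 : s ≠ 0 := by
    rintro rfl
    rw [zero_mul] at hform
    have : f = 0 := by omega
    omega
  have hfin : ∀ f : ℕ, f < 120 → ∀ s : ℕ, s < 3 → (s ≠ 0 ∧ f % 7 = 1 ∧ f % 3 = 0 ∧
      f * 42 ∣ s * 5040) → f = 15 ∧ (s = 1 ∨ s = 2) := by decide
  obtain ⟨rfl, rfl | rfl⟩ := hfin f hf3 s (by omega) ⟨hs0, hf1, hf2, hdvd⟩
  · have hc : Nat.card (Subgroup.centralizer ({v} : Set G)) = 630 := by omega
    have hα := hcard 630 hc (by norm_num) 8 (by norm_num)
    rw [hα] at hq2 hq3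
    unfold Nat.ModEq at hq1 hq2
    omega
  · have hc : Nat.card (Subgroup.centralizer ({v} : Set G)) = 315 := by omega
    have hα := hcard 315 hc (by norm_num) 16 (by norm_num)
    rw [hα] at hq2 hq3
    unfold Nat.ModEq at hq1 hq2
    omega

/-- the surviving configuration -/
theorem sylow7_data (h : Nat.card G = 5040) :
    Nat.card (Sylow 7 G) = 120 ∧
    (∀ P : Sylow 7 G, Nat.card (Subgroup.centralizer ((P : Subgroup G) : Set G)) = 7) ∧
    (∀ P : Sylow 7 G, Nat.card (Subgroup.normalizer ((P : Subgroup G) : Set G)) = 42) := by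
  obtain ⟨m, k, hC, hN, hk, hk1, hprod, hmod, hn1⟩ := exists_data (G := G) 7 (card7 h) (by omega)
  rw [h] at hprod
  have hk' : k = 2 ∨ k = 3 ∨ k = 6 := by
    have h1 : k ≤ 6 := Nat.le_of_dvd (by norm_num) hk
    interval_cases k
    · simp at hk
    · exact absurd rfl hk1
    · left; rfl
    · right; left; rfl
    · norm_num at hk
    · norm_num at hk
    · right; right; rfl
  have hdvd : Nat.card (Sylow 7 G) ∣ 720 := ⟨m * k, by
    have : Nat.card (Sylow 7 G) * (7 * m * k) = 7 * (Nat.card (Sylow 7 G) * (m * k)) := by ring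
    omega⟩
  have hcand : ∀ n : ℕ, n < 721 → n ∣ 720 → n % 7 = 1 →
      n = 1 ∨ n = 8 ∨ n = 15 ∨ n = 36 ∨ n = 120 := by
    set_option maxRecDepth 100000 in decide
  have hlt : Nat.card (Sylow 7 G) < 721 :=
    Nat.lt_succ_of_le (Nat.le_of_dvd (by norm_num) hdvd)
  rcases hcand _ hlt hdvd hmod with h4 | h4 | h4 | h4 | h4
  · exact absurd h4 hn1
  · exfalso
    rw [h4] at hprod
    have hmk : m * k = 90 := by
      have : 8 * (7 * m * k) = 56 * (m * k) := by ring
      omega
    have hm5 : 5 ∣ m := by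
      rcases hk' with rfl | rfl | rfl
      · exact ⟨9, by omega⟩
      · exact ⟨6, by omega⟩
      · exact ⟨3, by omega⟩
    exact case8 h4 hm5 hC
  · exfalso
    rw [h4] at hprod
    have hmk : m * k = 48 := by
      have : 15 * (7 * m * k) = 105 * (m * k) := by ring
      omega
    have hm2 : 2 ∣ m := by
      rcases hk' with rfl | rfl | rfl
      · exact ⟨12, by omega⟩
      · exact ⟨8, by omega⟩
      · exact ⟨4, by omega⟩
    exact case15 h h4 hm2 hC
  · exfalso
    rw [h4] at hprod
    have hmk : m * k = 20 := by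
      have : 36 * (7 * m * k) = 252 * (m * k) := by ring
      omega
    rcases hk' with rfl | rfl | rfl
    · have hm : m = 10 := by omega
      subst hm
      exact case36 h h4 hC (fun P => by rw [hN P])
    · omega
    · omega
  · rw [h4] at hprod
    have hmk : m * k = 6 := by
      have : 120 * (7 * m * k) = 840 * (m * k) := by ring
      omega
    rcases hk' with rfl | rfl | rfl
    · have hm : m = 3 := by omega
      subst hm
      exact (case120b h h4 hC (fun P => by rw [hN P])).elim
    · have hm : m = 2 := by omega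
      subst hm
      exact (case120a h h4 hC (fun P => by rw [hN P])).elim
    · have hm : m = 1 := by omega
      subst hm
      exact ⟨h4, fun P => by rw [hC P], fun P => by rw [hN P]⟩

end Cfsg.Agent.Lib.Helper4.Ord5040
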