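import Mathlib
import Cfsg.Agent.Lib.Helper4.Ord5040b
import Cfsg.Agent.Lib.Helper2.ZS10

/-! Order `7920`: the Sylow `11`-subgroups are self-centralizing with normalizer of order `55`. -/

set_option autoImplicit false
set_option linter.unusedSectionVars false
set_option linter.unusedVariables false
set_option linter.style.longLine false
set_option linter.unusedSimpArgs false

namespace Cfsg.Agent.Lib.Helper4.M11

open Cfsg.Agent.Lib.Lead Cfsg.Agent.Lib.Lead.SylowCount Cfsg.Agent.Lib.Lead.SmallSimple2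
  Cfsg.Agent.Lib.Helper7.CountTools Cfsg.Agent.Lib.Helper7.SylPar Cfsg.Agent.Lib.Helper4.Ord5040

local instance fact11 : Fact (Nat.Prime 11) := ⟨by norm_num⟩
local instance fact5 : Fact (Nat.Prime 5) := ⟨by norm_num⟩
local instance fact3 : Fact (Nat.Prime 3) := ⟨by norm_num⟩
local instance fact2 : Fact (Nat.Prime 2) := ⟨by norm_num⟩

variable {G : Type*} [Group G] [Finite G] [IsSimpleGroup G]

lemma not_comm (h : Nat.card G = 7920) : ¬ IsMulCommutative G :=
  not_comm_of_not_prime (by rw [h]; norm_num)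

lemma card11 (h : Nat.card G = 7920) (P : Sylow 11 G) : Nat.card P = 11 :=
  card_sylow_of_card_eq 11 720 (by omega) (by norm_num) P

lemma card5 (h : Nat.card G = 7920) (P : Sylow 5 G) : Nat.card P = 5 :=
  card_sylow_of_card_eq 5 1584 (by omega) (by norm_num) P

/-- the centre of a simple group of order `7920` is trivial -/
lemma eq_one_of_central (h : Nat.card G = 7920) {z : G} (hz : ∀ g : G, g * z = z * g) : z = 1 := by
  have hcen : z ∈ Subgroup.center G := Subgroup.mem_center_iff.mpr hz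
  rcases (inferInstance : (Subgroup.center G).Normal).eq_bot_or_eq_top with h1 | h1
  · rw [h1, Subgroup.mem_bot] at hcen
    exact hcen
  · exfalso
    apply not_comm h
    refine ⟨⟨fun a b => ?_⟩⟩
    have : b ∈ Subgroup.center G := by rw [h1]; exact Subgroup.mem_top b
    exact (Subgroup.mem_center_iff.mp this a)

/-- twelve Sylow `11`-subgroups -/
lemma case12 (hn : Nat.card (Sylow 11 G) = 12) {m : ℕ} (hm2 : 2 ∣ m)
    (hC : ∀ P : Sylow 11 G, Nat.card (Subgroup.centralizer ((P : Subgroup G) : Set G)) = 11 * m) :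
    False := by
  obtain P : Sylow 11 G := default
  have hn1 : Nat.card (Sylow 11 G) ≠ 1 := by rw [hn]; norm_num
  obtain ⟨v, hvC, hv2, hv1⟩ := exists_involution (Subgroup.centralizer ((P : Subgroup G) : Set G))
    (by rw [hC P]; exact Dvd.dvd.mul_left hm2 11)
  have hf1 := fix_modEq_one P (v := v) (Subgroup.mem_centralizer_iff.mp hvC)
  have hf2 := fix_modEq_prime (α := Sylow 11 G) 2 v 1 (by rw [pow_one, pow_two]; exact hv2)
  have hf3 := fix_lt 11 hn1 hv1
  rw [hn] at hf2 hf3
  unfold Nat.ModEq at hf1 hf2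
  omega

/-- forty-five Sylow `11`-subgroups -/
lemma case45 (h : Nat.card G = 7920) (hn : Nat.card (Sylow 11 G) = 45)
    (hC : ∀ P : Sylow 11 G, Nat.card (Subgroup.centralizer ((P : Subgroup G) : Set G)) = 11 * 8)
    (hN : ∀ P : Sylow 11 G, Nat.card (Subgroup.normalizer ((P : Subgroup G) : Set G)) = 176) :
    False := by
  obtain P : Sylow 11 G := default
  have hP := card11 h P
  have hn1 : Nat.card (Sylow 11 G) ≠ 1 := by rw [hn]; norm_num
  set C := Subgroup.centralizer ((P : Subgroup G) : Set G) with hCdef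
  set N := Subgroup.normalizer ((P : Subgroup G) : Set G) with hNdef
  -- a subgroup `T` of `N` of order `16`
  obtain ⟨T, hTN, hTcard⟩ : ∃ T : Subgroup G, T ≤ N ∧ Nat.card T = 2 ^ 4 := by
    have hdvd : 2 ^ 4 ∣ Nat.card N := by rw [hN P]; norm_num
    obtain ⟨K, hK⟩ := Sylow.exists_subgroup_card_pow_prime 2 hdvd
    refine ⟨K.map N.subtype, ?_, ?_⟩
    · exact Subgroup.map_subtype_le K
    · rw [Subgroup.card_map_of_injective (Subgroup.subtype_injective N)]
      exact hK
  have hT2 : IsPGroup 2 T := IsPGroup.of_card hTcard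
  have hnorm : ∀ t ∈ N, ∀ x ∈ C, t * x * t⁻¹ ∈ C := by
    intro t ht x hx
    rw [hCdef, Subgroup.mem_centralizer_iff]
    intro y hy
    have h1 : t⁻¹ * y * t ∈ (P : Subgroup G) := by
      have := (Subgroup.mem_normalizer_iff.mp (N.inv_mem ht) y).mp hy
      simpa using this
    have h2 := Subgroup.mem_centralizer_iff.mp hx _ h1
    calc y * (t * x * t⁻¹) = t * ((t⁻¹ * y * t) * x) * t⁻¹ := by group
      _ = t * (x * (t⁻¹ * y * t)) * t⁻¹ := by rw [h2]
      _ = t * x * t⁻¹ * y := by group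
  -- `T` acts on the involutions of `C`
  letI act : MulAction ↥T {x : G // x ∈ C ∧ x * x = 1 ∧ x ≠ 1} :=
    { smul := fun t x => ⟨(t : G) * x.1 * (t : G)⁻¹, hnorm t (hTN t.2) x.1 x.2.1, by
        have := x.2.2.1
        calc (t : G) * x.1 * (t : G)⁻¹ * ((t : G) * x.1 * (t : G)⁻¹)
            = (t : G) * (x.1 * x.1) * (t : G)⁻¹ := by group
          _ = 1 := by rw [this]; group, by
        intro h1
        apply x.2.2.2
        calc x.1 = (t : G)⁻¹ * ((t : G) * x.1 * (t : G)⁻¹) * (t : G) := by group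
          _ = 1 := by rw [h1]; group⟩
      one_smul := fun x => Subtype.ext (by
        show ((1 : ↥T) : G) * x.1 * ((1 : ↥T) : G)⁻¹ = x.1
        rw [Subgroup.coe_one]; group)
      mul_smul := fun s t x => Subtype.ext (by
        show ((s * t : ↥T) : G) * x.1 * ((s * t : ↥T) : G)⁻¹ =
          (s : G) * ((t : G) * x.1 * (t : G)⁻¹) * (s : G)⁻¹
        rw [Subgroup.coe_mul]; group) }
  have hodd := odd_card_involutions C (by rw [hC P]; decide)
  obtain ⟨z, hz⟩ := IsPGroup.nonempty_fixed_point_of_prime_not_dvd_card hT2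
    {x : G // x ∈ C ∧ x * x = 1 ∧ x ≠ 1} (by
      rw [Nat.odd_iff] at hodd
      omega)
  obtain ⟨z0, hzC, hz2, hz1⟩ := z
  have hzT : ∀ t ∈ T, t * z0 * t⁻¹ = z0 := by
    intro t ht
    have := hz ⟨t, ht⟩
    exact congrArg Subtype.val this
  -- `N` centralizes `z0`
  have hNz : N ≤ Subgroup.centralizer ({z0} : Set G) := by
    have hTA : T ≤ N ⊓ Subgroup.centralizer ({z0} : Set G) := by
      intro t ht
      refine Subgroup.mem_inf.mpr ⟨hTN ht, ?_⟩
      rw [Subgroup.mem_centralizer_singleton_iff]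
      have := hzT t ht
      calc t * z0 = (t * z0 * t⁻¹) * t := by group
        _ = z0 * t := by rw [this]
    have hPA : (P : Subgroup G) ≤ N ⊓ Subgroup.centralizer ({z0} : Set G) := by
      intro x hx
      refine Subgroup.mem_inf.mpr ⟨Subgroup.le_normalizer hx, ?_⟩
      rw [Subgroup.mem_centralizer_singleton_iff]
      exact Subgroup.mem_centralizer_iff.mp hzC x hx
    have h1 := Subgroup.card_dvd_of_le hTA
    have h2 := Subgroup.card_dvd_of_le hPA
    rw [hTcard] at h1
    rw [show Nat.card (P : Subgroup G) = 11 from hP] at h2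
    have h3 : 2 ^ 4 * 11 ∣ Nat.card ↥(N ⊓ Subgroup.centralizer ({z0} : Set G)) :=
      Nat.Coprime.mul_dvd_of_dvd_of_dvd (by norm_num) h1 h2
    have h4 : Nat.card N ≤ Nat.card ↥(N ⊓ Subgroup.centralizer ({z0} : Set G)) := by
      rw [hN P]
      exact Nat.le_of_dvd Nat.card_pos (by simpa using h3)
    have h5 := Subgroup.eq_of_le_of_card_ge
      (inf_le_left : N ⊓ Subgroup.centralizer ({z0} : Set G) ≤ N) h4
    rw [← h5]
    exact inf_le_right
  -- `z0` fixes exactly one Sylow subgroup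
  have hf1 := fix_modEq_one P (v := z0) (Subgroup.mem_centralizer_iff.mp hzC)
  have hf2 := fix_modEq_four (not_comm h) (α := Sylow 11 G) z0 hz2
  have hf3 := fix_lt 11 hn1 hz1
  rw [hn] at hf2 hf3
  have hf : Nat.card (MulAction.fixedBy (Sylow 11 G) z0) = 1 := by
    unfold Nat.ModEq at hf1 hf2
    omega
  have hzP : z0 • P = P := by
    rw [Sylow.smul_eq_iff_mem_normalizer]
    exact Subgroup.centralizer_le_normalizer _ hzC
  have huniq : ∀ Q : Sylow 11 G, z0 • Q = Q → Q = P := by
    intro Q hQ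
    haveI : Subsingleton ↥(MulAction.fixedBy (Sylow 11 G) z0) :=
      (Nat.card_eq_one_iff_unique.mp hf).1
    have := Subsingleton.elim (⟨Q, hQ⟩ : ↥(MulAction.fixedBy (Sylow 11 G) z0)) ⟨P, hzP⟩
    exact congrArg Subtype.val this
  have hzo : orderOf z0 = 2 := orderOf_eq_prime (by rw [pow_two]; exact hz2) hz1
  have hiso : Cfsg.IsIsolatedInvolution z0 := by
    refine ⟨hzo, ?_⟩
    intro g hc
    have h1 : (g * z0 * g⁻¹) • P = P := by
      apply huniq
      rw [← mul_smul, hc.eq, mul_smul, hzP]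
    have h2 : g⁻¹ • P = P := by
      apply huniq
      calc z0 • g⁻¹ • P = g⁻¹ • (g * z0 * g⁻¹) • P := by
            rw [← mul_smul, ← mul_smul]; congr 1; group
        _ = g⁻¹ • P := by rw [h1]
    have h3 : g⁻¹ ∈ N := Sylow.smul_eq_iff_mem_normalizer.mp h2
    have h4 : g ∈ N := by simpa using N.inv_mem h3
    have h5 := Subgroup.mem_centralizer_singleton_iff.mp (hNz h4)
    calc g * z0 * g⁻¹ = (g * z0) * g⁻¹ := rfl
      _ = (z0 * g) * g⁻¹ := by rw [h5]
      _ = z0 := by group
  -- the `Z*`-theorem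
  have hcore : Cfsg.pPrimeCore 2 G = ⊥ := by
    rcases (Cfsg.Agent.Lib.Helper1.pPrimeCore_normal (G := G) 2).eq_bot_or_eq_top with h1 | h1
    · exact h1
    · exfalso
      have h2 := Cfsg.Agent.Lib.Helper1.pPrimeCore_card_coprime (G := G) 2
      rw [h1, Subgroup.card_top, h] at h2
      norm_num at h2
  apply hz1
  apply eq_one_of_central h
  intro g
  have h1 := Cfsg.Agent.Lib.Helper2.ZS.zstar z0 hiso g
  rw [show Cfsg.oddCore G = Cfsg.pPrimeCore 2 G from rfl, hcore, Subgroup.mem_bot] at h1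
  have h2 : z0 * g * z0⁻¹ = g := mul_inv_eq_one.mp h1
  calc g * z0 = (z0 * g * z0⁻¹) * z0 := by rw [h2]
    _ = z0 * g := by group

theorem sylow11_data (h : Nat.card G = 7920) :
    Nat.card (Sylow 11 G) = 144 ∧
    (∀ P : Sylow 11 G, Nat.card (Subgroup.centralizer ((P : Subgroup G) : Set G)) = 11) ∧
    (∀ P : Sylow 11 G, Nat.card (Subgroup.normalizer ((P : Subgroup G) : Set G)) = 55) := by
  obtain ⟨m, k, hC, hN, hk, hk1, hprod, hmod, hn1⟩ := exists_data (G := G) 11 (card11 h)
    (by omega)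
  rw [h] at hprod
  have hk' : k = 2 ∨ k = 5 ∨ k = 10 := by
    have h1 : k ≤ 10 := Nat.le_of_dvd (by norm_num) hk
    interval_cases k <;> simp_all
  set n := Nat.card (Sylow 11 G) with hn
  have hprod' : n * (m * k) = 720 := by nlinarith
  have hn720 : n ∣ 720 := ⟨m * k, hprod'.symm⟩
  have hfin : ∀ q : ℕ, q ≤ 65 → (11 * q + 1) ∣ 720 → q = 0 ∨ q = 1 ∨ q = 4 ∨ q = 13 := by decide
  have hncases : n = 12 ∨ n = 45 ∨ n = 144 := by
    have hle : n ≤ 720 := Nat.le_of_dvd (by norm_num) hn720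
    have hq : n = 11 * (n / 11) + 1 := by omega
    have := hfin (n / 11) (by omega) (by rw [← hq]; exact hn720)
    omega
  rcases hncases with hn12 | hn45 | hn144
  · exfalso
    rw [hn12] at hprod'
    have hm2 : 2 ∣ m := by
      rcases hk' with rfl | rfl | rfl <;> omega
    exact case12 (hn ▸ hn12) hm2 hC
  · exfalso
    rw [hn45] at hprod'
    have hkm : k = 2 ∧ m = 8 := by
      rcases hk' with rfl | rfl | rfl <;> omega
    obtain ⟨rfl, rfl⟩ := hkm
    exact case45 h (hn ▸ hn45) hC (fun P => by rw [hN P])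
  · rw [hn144] at hprod'
    have hkm : k = 5 ∧ m = 1 := by
      rcases hk' with rfl | rfl | rfl <;> omega
    obtain ⟨rfl, rfl⟩ := hkm
    exact ⟨hn144, fun P => by rw [hC P], fun P => by rw [hN P]⟩

end Cfsg.Agent.Lib.Helper4.M11
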