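import Mathlib
import Cfsg.Agent.Lib.Helper4.M11a
import Cfsg.Agent.Lib.Helper1.Fusion

/-! Order `7920`: the Sylow `5`-subgroups are self-centralizing, provided `|N(P) : C(P)| = 4`
and the Sylow `11`-subgroups are self-centralizing. -/

set_option autoImplicit false
set_option linter.unusedSectionVars false
set_option linter.unusedVariables false
set_option linter.style.longLine false
set_option linter.unusedSimpArgs false

namespace Cfsg.Agent.Lib.Helper4.M11

open Cfsg.Agent.Lib.Lead Cfsg.Agent.Lib.Lead.SylowCount Cfsg.Agent.Lib.Lead.SmallSimple2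
  Cfsg.Agent.Lib.Helper7.CountTools Cfsg.Agent.Lib.Helper7.SylPar Cfsg.Agent.Lib.Helper4.Ord5040

local instance fact11' : Fact (Nat.Prime 11) := ⟨by norm_num⟩
local instance fact5' : Fact (Nat.Prime 5) := ⟨by norm_num⟩
local instance fact3' : Fact (Nat.Prime 3) := ⟨by norm_num⟩
local instance fact2' : Fact (Nat.Prime 2) := ⟨by norm_num⟩

variable {G : Type*} [Group G] [Finite G]

/-- the centralizer of a subgroup is normalized by its normalizer -/
lemma conj_mem_centralizer (H : Subgroup G) {t x : G}
    (ht : t ∈ Subgroup.normalizer (H : Set G)) (hx : x ∈ Subgroup.centralizer (H : Set G)) :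
    t * x * t⁻¹ ∈ Subgroup.centralizer (H : Set G) := by
  rw [Subgroup.mem_centralizer_iff]
  intro y hy
  have h1 : t⁻¹ * y * t ∈ H := by
    have := (Subgroup.mem_normalizer_iff.mp ((Subgroup.normalizer (H : Set G)).inv_mem ht) y).mp hy
    simpa using this
  have h2 := Subgroup.mem_centralizer_iff.mp hx _ h1
  calc y * (t * x * t⁻¹) = t * ((t⁻¹ * y * t) * x) * t⁻¹ := by group
    _ = t * (x * (t⁻¹ * y * t)) * t⁻¹ := by rw [h2]
    _ = t * x * t⁻¹ * y := by group

/-- in a group `C` of order `30` with a central element `y` of order `5`, the elements of order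
`3` generate a subgroup of order `3` -/
lemma order_three_unique (C : Subgroup G) (hC : Nat.card C = 30) {y v b : G} (hyC : y ∈ C)
    (hy : orderOf y = 5) (hycen : ∀ g ∈ C, g * y = y * g) (hvC : v ∈ C) (hv : orderOf v = 3)
    (hbC : b ∈ C) (hb : orderOf b = 3) : b ∈ Subgroup.zpowers v := by
  have hyv : Commute y v := (hycen v hvC).symm
  have hcop : (orderOf y).Coprime (orderOf v) := by rw [hy, hv]; norm_num
  have ho : orderOf (y * v) = 15 := by
    rw [hyv.orderOf_mul_eq_mul_orderOf_of_coprime hcop, hy, hv]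
  set A := Subgroup.zpowers (y * v) with hA
  have hAC : A ≤ C := Subgroup.zpowers_le.mpr (C.mul_mem hyC hvC)
  have hAcard : Nat.card A = 15 := by rw [hA, Nat.card_zpowers, ho]
  have hidx : (A.subgroupOf C).index = 2 := by
    have h1 := card_mul_relIndex hAC
    rw [hAcard, hC] at h1
    have : A.relIndex C = 2 := by omega
    exact this
  have hb2 : b ^ 2 ∈ A := by
    have := Subgroup.sq_mem_of_index_two hidx (⟨b, hbC⟩ : ↥C)
    rw [Subgroup.mem_subgroupOf] at this
    simpa using this
  have hb3 : b ^ 3 = 1 := by rw [← hb]; exact pow_orderOf_eq_one b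
  have hbA : b ∈ A := by
    have h1 : b = (b ^ 2) ^ 2 := by
      rw [← pow_mul]
      calc b = b ^ 3 * b := by rw [hb3, one_mul]
        _ = b ^ (2 * 2) := by rw [← pow_succ]
    rw [h1]
    exact A.pow_mem hb2 2
  obtain ⟨j, hj⟩ := Subgroup.mem_zpowers_iff.mp hbA
  rw [hyv.mul_zpow] at hj
  have hv3 : v ^ 3 = 1 := by rw [← hv]; exact pow_orderOf_eq_one v
  have h3 : (y ^ j) ^ 3 = 1 := by
    have hc : Commute (y ^ j) (v ^ j) := (hyv.zpow_left j).zpow_right j
    have h4 : (y ^ j * v ^ j) ^ 3 = 1 := by rw [hj]; exact hb3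
    rw [hc.mul_pow] at h4
    have h5 : (v ^ j) ^ 3 = 1 := by
      rw [← zpow_natCast, ← zpow_mul, mul_comm, zpow_mul, zpow_natCast, hv3, one_zpow]
    rw [h5, mul_one] at h4
    exact h4
  have h5 : y ^ j = 1 := by
    have h6 : y ^ (j * 3) = 1 := by
      rw [zpow_mul, zpow_ofNat]; exact h3
    have h7 : ((orderOf y : ℕ) : ℤ) ∣ j * 3 := orderOf_dvd_iff_zpow_eq_one.mpr h6
    rw [hy] at h7
    have h8 : (5 : ℤ) ∣ j := by
      have : IsCoprime (5 : ℤ) 3 := by norm_num
      exact this.dvd_of_dvd_mul_right (by exact_mod_cast h7)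
    obtain ⟨c, rfl⟩ := h8
    have hy5 : y ^ 5 = 1 := by rw [← hy]; exact pow_orderOf_eq_one y
    rw [zpow_mul, zpow_ofNat, hy5, one_zpow]
  rw [h5, one_mul] at hj
  rw [← hj]
  exact Subgroup.zpow_mem_zpowers v j

variable [IsSimpleGroup G]

/-- sixty-six Sylow `5`-subgroups -/
lemma case66 (h : Nat.card G = 7920)
    (hC11 : ∀ P : Sylow 11 G, Nat.card (Subgroup.centralizer ((P : Subgroup G) : Set G)) = 11)
    (hC : ∀ P : Sylow 5 G, Nat.card (Subgroup.centralizer ((P : Subgroup G) : Set G)) = 30)
    (hN : ∀ P : Sylow 5 G, Nat.card (Subgroup.normalizer ((P : Subgroup G) : Set G)) = 120) :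
    False := by
  obtain P : Sylow 5 G := default
  have hP := card5 h P
  set C := Subgroup.centralizer ((P : Subgroup G) : Set G) with hCdef
  set N := Subgroup.normalizer ((P : Subgroup G) : Set G) with hNdef
  obtain ⟨y, hyP, hyo⟩ := exists_orderOf_eq (P : Subgroup G) 5 (by rw [hP])
  obtain ⟨v, hvC, hvo⟩ := exists_orderOf_eq C 3 (by rw [hC P]; norm_num)
  have hPC : (P : Subgroup G) ≤ C := sylow_le_centralizer P hP
  have hyC : y ∈ C := hPC hyP
  have hycen : ∀ g ∈ C, g * y = y * g := fun g hg =>
    (Subgroup.mem_centralizer_iff.mp hg y hyP).symm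
  have hv1 : v ≠ 1 := by
    rintro rfl
    rw [orderOf_one] at hvo
    omega
  have hv3 : v ^ 3 = 1 := by rw [← hvo]; exact pow_orderOf_eq_one v
  set W := Subgroup.zpowers v with hW
  have hWcard : Nat.card W = 3 := by rw [hW, Nat.card_zpowers, hvo]
  -- `N` normalizes `W`
  have hconj : ∀ g ∈ N, ∀ w ∈ W, g * w * g⁻¹ ∈ W := by
    intro g hg w hw
    obtain ⟨i, rfl⟩ := Subgroup.mem_zpowers_iff.mp hw
    have h1 : g * v * g⁻¹ ∈ W := by
      apply order_three_unique C (hC P) hyC hyo hycen hvC hvo (conj_mem_centralizer _ hg hvC)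
      rw [show orderOf (g * v * g⁻¹) = orderOf v from
        orderOf_injective (MulAut.conj g).toMonoidHom (MulAut.conj g).injective v]
      exact hvo
    have h2 : g * v ^ i * g⁻¹ = (g * v * g⁻¹) ^ i := by
      rw [conj_zpow]
    rw [h2]
    exact W.zpow_mem h1 i
  set M := Subgroup.normalizer (W : Set G) with hM
  have hNM : N ≤ M := by
    intro g hg
    rw [hM, Subgroup.mem_normalizer_iff]
    intro w
    constructor
    · exact hconj g hg w
    · intro hw
      have := hconj g⁻¹ (N.inv_mem hg) _ hw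
      have e : g⁻¹ * (g * w * g⁻¹) * g⁻¹⁻¹ = w := by group
      rwa [e] at this
  have hWM : W ≤ M := Subgroup.le_normalizer
  have hPM : (P : Subgroup G) ≤ M := (Subgroup.le_normalizer).trans hNM
  -- the order of `M`
  have h120 : 120 ∣ Nat.card M := by
    have := Subgroup.card_dvd_of_le hNM
    rwa [hN P] at this
  have h9 : 9 ∣ Nat.card M := by
    have hWp : IsPGroup 3 W := IsPGroup.of_card (n := 1) (by rw [hWcard, pow_one])
    obtain ⟨Q, hQ⟩ := hWp.exists_le_sylow
    have hQcard : Nat.card Q = 3 ^ 2 :=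
      card_sylow_of_card_eq_pow 3 2 880 (by omega) (by norm_num) Q
    have hQcomm := (IsPGroup.isMulCommutative_of_card_eq_prime_sq hQcard).is_comm.comm
    have hQM : (Q : Subgroup G) ≤ M := by
      intro q hq
      apply Subgroup.centralizer_le_normalizer
      rw [Subgroup.mem_centralizer_iff]
      intro w hw
      have := hQcomm ⟨w, hQ hw⟩ ⟨q, hq⟩
      exact congrArg Subtype.val this
    have := Subgroup.card_dvd_of_le hQM
    rw [hQcard] at this
    simpa using this
  have hMdvd : Nat.card M ∣ 7920 := by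
    rw [← h]; exact Subgroup.card_subgroup_dvd_card M
  have h11 : ¬ 11 ∣ Nat.card M := by
    intro h11
    have hrel := relIndex_centralizer_normalizer_dvd W
    haveI : IsCyclic W := isCyclic_of_prime_card hWcard
    rw [IsCyclic.card_mulAut, hWcard, Nat.totient_prime (by norm_num : Nat.Prime 3)] at hrel
    have hcm := card_mul_relIndex (Subgroup.centralizer_le_normalizer (W : Set G))
    have h11' : 11 ∣ Nat.card (Subgroup.centralizer (W : Set G)) := by
      have h1 : 11 ∣ Nat.card (Subgroup.centralizer (W : Set G)) *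
          (Subgroup.centralizer (W : Set G)).relIndex (Subgroup.normalizer (W : Set G)) := by
        rw [hcm]; exact h11
      rcases (Nat.Prime.dvd_mul (by norm_num : Nat.Prime 11)).mp h1 with h2 | h2
      · exact h2
      · exfalso
        have h3 := Nat.dvd_trans h2 hrel
        omega
    obtain ⟨x, hxC, hxo⟩ := exists_orderOf_eq (Subgroup.centralizer (W : Set G)) 11 h11'
    obtain ⟨P11, hxP, hcent⟩ := centralizer_singleton_eq_sylow (card11 h) hxo
    have hvx : v ∈ Subgroup.centralizer ((P11 : Subgroup G) : Set G) := by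
      rw [← hcent, Subgroup.mem_centralizer_singleton_iff]
      exact (Subgroup.mem_centralizer_iff.mp hxC v (Subgroup.mem_zpowers v))
    have h1 : orderOf v ∣ Nat.card (Subgroup.centralizer ((P11 : Subgroup G) : Set G)) :=
      Subgroup.orderOf_dvd_natCard _ hvx
    rw [hvo, hC11 P11] at h1
    omega
  have hMcard : Nat.card M = 720 := by
    have hrel := relIndex_normalizer_modEq_one (p := 5) M (P : Subgroup G) hPM (k := 1)
      (r := Nat.card M / 5) (by rw [pow_one]; exact hP)
      (by rw [pow_one]; exact (Nat.mul_div_cancel' (Dvd.dvd.trans (by norm_num) h120)).symm)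
      (by
        intro h5
        have : 25 ∣ Nat.card M := by
          have h1 : 5 ∣ Nat.card M := Dvd.dvd.trans (by norm_num) h120
          obtain ⟨c, hc⟩ := h5
          obtain ⟨e, he⟩ := h1
          rw [he, Nat.mul_div_cancel_left _ (by norm_num : 0 < 5)] at hc
          exact ⟨c, by rw [he, hc]; ring⟩
        have := Nat.dvd_trans this hMdvd
        omega)
    have hcm := card_mul_relIndex hNM
    rw [hN P] at hcm
    set r := N.relIndex M with hr
    have hr5 : r % 5 = 1 := hrel
    have h40 : 40 ∣ Nat.card M := Dvd.dvd.trans (by norm_num) h120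
    have h360 : 360 ∣ Nat.card M :=
      Nat.Coprime.mul_dvd_of_dvd_of_dvd (by norm_num : Nat.Coprime 40 9) h40 h9
    obtain ⟨c, hc⟩ := h360
    have hc22 : c ∣ 22 := by
      rw [hc] at hMdvd
      exact Nat.dvd_of_mul_dvd_mul_left (by norm_num : 0 < 360) (by simpa using hMdvd)
    have hc11 : ¬ 11 ∣ c := fun h1 => h11 (hc ▸ Dvd.dvd.mul_left h1 360)
    have hcle : c ≤ 22 := Nat.le_of_dvd (by norm_num) hc22
    have hccases : c = 1 ∨ c = 2 := by
      interval_cases c <;> omega
    rcases hccases with rfl | rfl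
    · omega
    · omega
  have hMtop : M ≠ ⊤ := by
    intro htop
    rw [htop, Subgroup.card_top, h] at hMcard
    omega
  have hidx : Nat.card (G ⧸ M) = 11 := by
    have h1 := Subgroup.card_mul_index M
    rw [hMcard, h] at h1
    rw [← Subgroup.index_eq_card]
    omega
  -- fixed points of `v` on the cosets of `M`
  have hfa := fix_modEq_prime (α := G ⧸ M) 3 v 1 (by rw [pow_one]; exact hv3)
  have hfb := fix_modEq_sub (p := 5) (P : Subgroup G) P.isPGroup' (α := G ⧸ M) (w := v)
    (fun x hx => (Subgroup.mem_centralizer_iff.mp hvC x hx))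
  have hfc := fix_lt_quot M hMtop hv1
  have hone : Nat.card {a : G ⧸ M // v • a = a ∧ ∀ x ∈ (P : Subgroup G), x • a = a} = 1 := by
    rw [Nat.card_eq_one_iff_unique]
    constructor
    · refine ⟨fun a b => ?_⟩
      have key : ∀ a : {a : G ⧸ M // v • a = a ∧ ∀ x ∈ (P : Subgroup G), x • a = a},
          a.1 = ((1 : G) : G ⧸ M) := by
        rintro ⟨a, -, ha⟩
        induction a using QuotientGroup.induction_on with
        | H g =>
          show (g : G ⧸ M) = ((1 : G) : G ⧸ M)
          have hsub : ((g⁻¹ • P : Sylow 5 G) : Subgroup G) ≤ M := by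
            intro z hz
            rw [Sylow.coe_subgroup_smul, Subgroup.mem_pointwise_smul_iff_inv_smul_mem] at hz
            have hz' : g * z * g⁻¹ ∈ (P : Subgroup G) := by
              simpa [MulAut.smul_def, MulAut.conj_apply] using hz
            have h1 := ha _ hz'
            rw [MulAction.Quotient.smul_mk, QuotientGroup.eq, smul_eq_mul] at h1
            have e : (g * z * g⁻¹ * g)⁻¹ * g = z⁻¹ := by group
            rw [e] at h1
            simpa using M.inv_mem h1
          obtain ⟨m, hmM, hm⟩ := Cfsg.Agent.Lib.Helper1.sylow_conj_of_le M P (g⁻¹ • P) hPM hsub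
          have h2 : (g * m) • P = P := by
            rw [mul_smul, hm, smul_inv_smul]
          have h3 : g * m ∈ M := hNM (Sylow.smul_eq_iff_mem_normalizer.mp h2)
          have h4 : g ∈ M := by
            have := M.mul_mem h3 (M.inv_mem hmM)
            simpa using this
          rw [QuotientGroup.eq]
          simpa using M.inv_mem h4
      exact Subtype.ext ((key a).trans (key b).symm)
    · refine ⟨⟨((1 : G) : G ⧸ M), ?_, ?_⟩⟩
      · rw [MulAction.Quotient.smul_mk, QuotientGroup.eq, smul_eq_mul]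
        simpa using hWM (Subgroup.mem_zpowers v)
      · intro x hx
        rw [MulAction.Quotient.smul_mk, QuotientGroup.eq, smul_eq_mul]
        simpa using hPM hx
  rw [hone] at hfb
  rw [hidx] at hfa hfc
  unfold Nat.ModEq at hfa hfb
  omega

/-- the Sylow `5`-subgroups are self-centralizing -/
theorem sylow5_data (h : Nat.card G = 7920)
    (hC11 : ∀ P : Sylow 11 G, Nat.card (Subgroup.centralizer ((P : Subgroup G) : Set G)) = 11)
    {m : ℕ}
    (hC : ∀ P : Sylow 5 G, Nat.card (Subgroup.centralizer ((P : Subgroup G) : Set G)) = 5 * m)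
    (hN : ∀ P : Sylow 5 G,
      Nat.card (Subgroup.normalizer ((P : Subgroup G) : Set G)) = 5 * m * 4)
    (hprod : Nat.card (Sylow 5 G) * (5 * m * 4) = Nat.card G)
    (hmod : Nat.card (Sylow 5 G) % 5 = 1) (hn1 : Nat.card (Sylow 5 G) ≠ 1) : m = 1 := by
  rw [h] at hprod
  set n := Nat.card (Sylow 5 G) with hn
  have hnm : n * m = 396 := by nlinarith
  have hm396 : m ∣ 396 := ⟨n, by rw [← hnm]; ring⟩
  have hmle : m ≤ 396 := Nat.le_of_dvd (by norm_num) hm396
  have hfin : ∀ m : ℕ, m ≤ 396 → m ∣ 396 → (396 / m) % 5 = 1 → 396 / m ≠ 1 →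
      m = 1 ∨ m = 6 ∨ m = 11 ∨ m = 36 ∨ m = 66 := by
    intro m hm hd h1 h2
    have hm0 : m ≠ 0 := by rintro rfl; simp at hd
    have hmem : m ∈ Nat.divisors 396 := Nat.mem_divisors.mpr ⟨hd, by norm_num⟩
    have hdiv : Nat.divisors 396 =
        {1, 2, 3, 4, 6, 9, 11, 12, 18, 22, 33, 36, 44, 66, 99, 132, 198, 396} := by decide
    rw [hdiv] at hmem
    simp only [Finset.mem_insert, Finset.mem_singleton] at hmem
    rcases hmem with rfl | rfl | rfl | rfl | rfl | rfl | rfl | rfl | rfl | rfl | rfl | rfl | rfl |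
      rfl | rfl | rfl | rfl | rfl <;> simp_all
  have hm0 : 0 < m := Nat.pos_of_ne_zero (by rintro rfl; simp at hnm)
  have hndiv : n = 396 / m := by
    rw [← hnm, Nat.mul_div_cancel _ hm0]
  have hmcases := hfin m hmle hm396 (by rw [← hndiv]; exact hmod) (by rw [← hndiv]; exact hn1)
  obtain P : Sylow 5 G := default
  rcases hmcases with rfl | rfl | rfl | rfl | rfl
  · rfl
  · exfalso
    exact case66 h hC11 (fun P => by rw [hC P]) (fun P => by rw [hN P])
  · exfalso
    obtain ⟨Q, hQ⟩ := dvd_card_centralizer_swap (q := 11) (p := 5) (card11 h) (card5 h) P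
      (by rw [hC P]; norm_num)
    rw [hC11 Q] at hQ
    omega
  · exfalso
    have hn11 : n = 11 := by omega
    obtain ⟨v, hvC, hvo⟩ := exists_orderOf_eq (Subgroup.centralizer ((P : Subgroup G) : Set G)) 3
      (by rw [hC P]; norm_num)
    have hv1 : v ≠ 1 := by
      rintro rfl
      rw [orderOf_one] at hvo
      omega
    have hf1 := fix_modEq_one P (v := v) (Subgroup.mem_centralizer_iff.mp hvC)
    have hf2 := fix_modEq_prime (α := Sylow 5 G) 3 v 1
      (by rw [pow_one, ← hvo]; exact pow_orderOf_eq_one v)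
    have hf3 := fix_lt 5 hn1 hv1
    rw [← hn, hn11] at hf2 hf3
    unfold Nat.ModEq at hf1 hf2
    omega
  · exfalso
    obtain ⟨Q, hQ⟩ := dvd_card_centralizer_swap (q := 11) (p := 5) (card11 h) (card5 h) P
      (by rw [hC P]; norm_num)
    rw [hC11 Q] at hQ
    omega

end Cfsg.Agent.Lib.Helper4.M11
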