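import Mathlib
import Cfsg.Agent.S4441
import Cfsg.Agent.Lib.Helper6.BrPrin

/-! Counting lemmas for the character degrees of a simple group of order `7920`. -/

set_option autoImplicit false
set_option linter.unusedSectionVars false
set_option linter.unusedVariables false
set_option linter.style.longLine false
set_option linter.unusedSimpArgs false
set_option linter.unusedDecidableInType false

namespace Cfsg.Agent.Lib.Helper4.M11

open Cfsg Cfsg.Agent.Lib.Helper6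

section counting

variable {ι : Type*} [DecidableEq ι]

/-- number of elements of `T` of degree `n` -/
def cnt (d : ι → ℕ) (T : Finset ι) (n : ℕ) : ℕ := (T.filter (fun χ => d χ = n)).card

theorem sum_by_degree (d : ι → ℕ) (T : Finset ι) (S : Finset ℕ) (f : ℕ → ℤ)
    (hS : ∀ χ ∈ T, d χ ∈ S) : ∑ χ ∈ T, f (d χ) = ∑ n ∈ S, (cnt d T n : ℤ) * f n := by
  rw [← Finset.sum_fiberwise_of_maps_to hS (fun χ => f (d χ))]
  apply Finset.sum_congr rfl
  intro n _
  have h1 : ∑ χ ∈ T.filter (fun χ => d χ = n), f (d χ) = ∑ χ ∈ T.filter (fun χ => d χ = n), f n := by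
    apply Finset.sum_congr rfl
    intro χ hχ
    rw [(Finset.mem_filter.mp hχ).2]
  rw [h1, Finset.sum_const, nsmul_eq_mul]
  rfl

theorem card_by_degree (d : ι → ℕ) (T : Finset ι) (S : Finset ℕ)
    (hS : ∀ χ ∈ T, d χ ∈ S) : (T.card : ℤ) = ∑ n ∈ S, (cnt d T n : ℤ) := by
  have := sum_by_degree d T S (fun _ => 1) hS
  simpa using this

theorem cnt_eq_zero (d : ι → ℕ) (T : Finset ι) (n : ℕ) (h : ∀ χ ∈ T, d χ ≠ n) :
    cnt d T n = 0 := by
  unfold cnt
  rw [Finset.card_eq_zero, Finset.filter_eq_empty_iff]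
  exact h

theorem exists_of_cnt_pos (d : ι → ℕ) (T : Finset ι) (n : ℕ) (h : 0 < cnt d T n) :
    ∃ χ ∈ T, d χ = n := by
  unfold cnt at h
  obtain ⟨χ, hχ⟩ := Finset.card_pos.mp h
  exact ⟨χ, (Finset.mem_filter.mp hχ).1, (Finset.mem_filter.mp hχ).2⟩

/-- counting in a subset cut out by a property of the degree -/
theorem cnt_filter (d : ι → ℕ) (T : Finset ι) (q : ℕ → Prop) [DecidablePred q] (n : ℕ)
    (hn : q n) : cnt d (T.filter (fun χ => q (d χ))) n = cnt d T n := by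
  unfold cnt
  rw [Finset.filter_filter]
  congr 1
  apply Finset.filter_congr
  intro χ _
  constructor
  · exact fun h => h.2
  · exact fun h => ⟨h ▸ hn, h⟩

/-- possible degrees of the non-exceptional characters in the principal `11`-block -/
theorem xdeg_cases (d : ℕ) (h1 : d ∣ 7920) (h2 : d * d ≤ 7920)
    (h3 : d % 11 = 1 ∨ d % 11 = 10) : d = 1 ∨ d = 10 ∨ d = 12 ∨ d = 45 := by
  have h4 : d ≤ 88 := by nlinarith
  interval_cases d <;> omega

/-- possible degrees of the exceptional characters in the principal `11`-block -/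
theorem ydeg_cases (d : ℕ) (h1 : d ∣ 7920) (h2 : 2 * (d * d) ≤ 7920)
    (h3 : d % 11 = 5 ∨ d % 11 = 6) : d = 5 ∨ d = 6 ∨ d = 16 ∨ d = 60 := by
  have h4 : d ≤ 62 := by nlinarith
  interval_cases d <;> omega

/-- the arithmetic of the principal `11`-block -/
theorem p11_counts (d : ι → ℕ) (XF YF : Finset ι) (σ : ι → ℤ) (ε : ℤ)
    (hXc : XF.card = 5) (hYc : YF.card = 2)
    (hXd : ∀ χ ∈ XF, d χ = 1 ∨ d χ = 10 ∨ d χ = 12 ∨ d χ = 45)
    (hXs : ∀ χ ∈ XF, (σ χ = 1 ∨ σ χ = -1) ∧ (d χ : ℤ) ≡ σ χ [ZMOD (11 : ℕ)])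
    (hε : ε = 1 ∨ ε = -1)
    (hYm : ∀ θ ∈ YF, (d θ : ℤ) ≡ ε * ((5 : ℕ) : ℤ) [ZMOD (11 : ℕ)])
    (hYdvd : ∀ θ ∈ YF, d θ ∣ 7920)
    (hrel : ∀ θ ∈ YF, ε * (d θ : ℤ) = ∑ χ ∈ XF, σ χ * (d χ : ℤ))
    (h1 : cnt d XF 1 = 1)
    (hsq : ∑ χ ∈ XF, (d χ : ℤ) ^ 2 + ∑ θ ∈ YF, (d θ : ℤ) ^ 2 ≤ 7920) :
    ∃ t, (∀ θ ∈ YF, d θ = t) ∧
      ((cnt d XF 10 = 2 ∧ cnt d XF 12 = 2 ∧ cnt d XF 45 = 0 ∧ t = 5) ∨
        (cnt d XF 10 = 3 ∧ cnt d XF 12 = 0 ∧ cnt d XF 45 = 1 ∧ t = 16)) := by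
  have hYne : YF.Nonempty := by rw [← Finset.card_pos, hYc]; norm_num
  obtain ⟨θ0, hθ0⟩ := hYne
  have hsame : ∀ θ ∈ YF, d θ = d θ0 := by
    intro θ hθ
    have h2 := hrel θ hθ
    have h3 := hrel θ0 hθ0
    rw [← h3] at h2
    rcases hε with rfl | rfl
    · have : (d θ : ℤ) = d θ0 := by linarith
      exact_mod_cast this
    · have : (d θ : ℤ) = d θ0 := by linarith
      exact_mod_cast this
  refine ⟨d θ0, hsame, ?_⟩
  set t := d θ0 with ht
  have hYsq : ∑ θ ∈ YF, (d θ : ℤ) ^ 2 = 2 * (t : ℤ) ^ 2 := by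
    rw [Finset.sum_congr rfl (fun θ hθ => by rw [hsame θ hθ])]
    rw [Finset.sum_const, hYc]
    simp
  have hS : ∀ χ ∈ XF, d χ ∈ ({1, 10, 12, 45} : Finset ℕ) := by
    intro χ hχ
    simp only [Finset.mem_insert, Finset.mem_singleton]
    exact hXd χ hχ
  have hsgn : ∀ χ ∈ XF, σ χ * (d χ : ℤ) = (fun n : ℕ => if n = 10 then -(n : ℤ) else (n : ℤ)) (d χ) := by
    intro χ hχ
    obtain ⟨hs, hm⟩ := hXs χ hχ
    unfold Int.ModEq at hm
    simp only
    rcases hXd χ hχ with h | h | h | h <;> rcases hs with hs | hs <;> rw [h, hs] at hm <;>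
      rw [h, hs] <;> first | (exfalso; omega) | norm_num
  have hsum1 := sum_by_degree d XF {1, 10, 12, 45}
    (fun n : ℕ => if n = 10 then -(n : ℤ) else (n : ℤ)) hS
  rw [← Finset.sum_congr rfl hsgn] at hsum1
  have hsum2 := sum_by_degree d XF {1, 10, 12, 45} (fun n : ℕ => (n : ℤ) ^ 2) hS
  have hcard := card_by_degree d XF {1, 10, 12, 45} hS
  rw [hXc] at hcard
  have e1 : ∀ F : ℕ → ℤ, ∑ n ∈ ({1, 10, 12, 45} : Finset ℕ), F n = F 1 + F 10 + F 12 + F 45 := by
    intro F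
    rw [Finset.sum_insert (by decide), Finset.sum_insert (by decide), Finset.sum_insert (by decide),
      Finset.sum_singleton]
    ring
  rw [e1] at hsum1 hsum2 hcard
  rw [h1] at hsum1 hsum2 hcard
  simp only [] at hsum1 hsum2
  norm_num at hsum1 hsum2 hcard
  have hrel0 := hrel θ0 hθ0
  rw [hsum1, ← ht] at hrel0
  rw [hsum2, hYsq] at hsq
  have hm0 := hYm θ0 hθ0
  unfold Int.ModEq at hm0
  rw [← ht] at hm0
  have htd := hYdvd θ0 hθ0
  rw [← ht] at htd
  have ht2 : 2 * (t * t) ≤ 7920 := by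
    have h5 : (0 : ℤ) ≤ 1 + (cnt d XF 10 : ℤ) * 100 + (cnt d XF 12 : ℤ) * 144 + (cnt d XF 45 : ℤ) * 2025 := by
      positivity
    have : (2 * (t * t) : ℤ) ≤ 7920 := by nlinarith
    exact_mod_cast this
  have htm : t % 11 = 5 ∨ t % 11 = 6 := by
    rcases hε with rfl | rfl
    · left; push_cast at hm0; omega
    · right; push_cast at hm0; omega
  have htc := ydeg_cases t htd ht2 htm
  generalize cnt d XF 10 = a at *
  generalize cnt d XF 12 = b at *
  generalize cnt d XF 45 = c at *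
  rcases htc with h | h | h | h <;> rw [h] at hrel0 hsq hm0 ⊢ <;> rcases hε with rfl | rfl <;>
    push_cast at hrel0 hsq hm0 <;> omega

/-- the final count in the surviving case -/
theorem final_counts [Fintype ι] (d : ι → ℕ)
    (hDB : ∀ χ, d χ ∈ ({1, 10, 16, 45, 11, 22, 33, 44, 55, 66} : Finset ℕ))
    (h1 : cnt d Finset.univ 1 = 1) (h10 : cnt d Finset.univ 10 = 3)
    (h16 : cnt d Finset.univ 16 = 2) (h45 : cnt d Finset.univ 45 = 1)
    (hB5card : (Finset.univ.filter (fun χ => ¬ 5 ∣ d χ)).card = 5)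
    (hB5mod : ∀ χ, ¬ 5 ∣ d χ → d χ % 5 = 1 ∨ d χ % 5 = 4)
    (hB5sum : ∑ χ ∈ Finset.univ.filter (fun χ => ¬ 5 ∣ d χ),
      (fun n : ℕ => if n % 5 = 1 then (n : ℤ) else -(n : ℤ)) (d χ) = 0)
    (hsq : ∑ χ, (d χ : ℤ) ^ 2 = 7920) :
    cnt d Finset.univ 11 = 1 ∧ cnt d Finset.univ 44 = 1 ∧ cnt d Finset.univ 55 = 1 ∧
      cnt d Finset.univ 22 = 0 ∧ cnt d Finset.univ 33 = 0 ∧ cnt d Finset.univ 66 = 0 := by
  have h22 : cnt d Finset.univ 22 = 0 := by
    apply cnt_eq_zero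
    intro χ _ h
    have := hB5mod χ (by rw [h]; norm_num)
    rw [h] at this
    omega
  have h33 : cnt d Finset.univ 33 = 0 := by
    apply cnt_eq_zero
    intro χ _ h
    have := hB5mod χ (by rw [h]; norm_num)
    rw [h] at this
    omega
  set B5 := Finset.univ.filter (fun χ => ¬ 5 ∣ d χ) with hB5
  have hS5 : ∀ χ ∈ B5, d χ ∈ ({1, 16, 11, 44, 66} : Finset ℕ) := by
    intro χ hχ
    have h5 : ¬ 5 ∣ d χ := (Finset.mem_filter.mp hχ).2
    have hm := hB5mod χ h5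
    have hdb := hDB χ
    simp only [Finset.mem_insert, Finset.mem_singleton] at hdb ⊢
    omega
  have hc := card_by_degree d B5 {1, 16, 11, 44, 66} hS5
  have hs := sum_by_degree d B5 {1, 16, 11, 44, 66}
    (fun n : ℕ => if n % 5 = 1 then (n : ℤ) else -(n : ℤ)) hS5
  rw [hB5sum] at hs
  rw [hB5card] at hc
  have e1 : ∀ F : ℕ → ℤ, ∑ n ∈ ({1, 16, 11, 44, 66} : Finset ℕ), F n =
      F 1 + F 16 + F 11 + F 44 + F 66 := by
    intro F
    rw [Finset.sum_insert (by decide), Finset.sum_insert (by decide), Finset.sum_insert (by decide),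
      Finset.sum_insert (by decide), Finset.sum_singleton]
    ring
  rw [e1] at hc hs
  have hcf : ∀ n : ℕ, ¬ 5 ∣ n → cnt d B5 n = cnt d Finset.univ n := by
    intro n hn
    exact cnt_filter d Finset.univ (fun m => ¬ 5 ∣ m) n hn
  rw [hcf 1 (by norm_num), hcf 16 (by norm_num), hcf 11 (by norm_num), hcf 44 (by norm_num),
    hcf 66 (by norm_num), h1, h16] at hc hs
  norm_num at hc hs
  have hall := sum_by_degree d Finset.univ {1, 10, 16, 45, 11, 22, 33, 44, 55, 66}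
    (fun n : ℕ => (n : ℤ) ^ 2) (fun χ _ => hDB χ)
  rw [hsq] at hall
  have e2 : ∀ F : ℕ → ℤ, ∑ n ∈ ({1, 10, 16, 45, 11, 22, 33, 44, 55, 66} : Finset ℕ), F n =
      F 1 + F 10 + F 16 + F 45 + F 11 + F 22 + F 33 + F 44 + F 55 + F 66 := by
    intro F
    rw [Finset.sum_insert (by decide), Finset.sum_insert (by decide), Finset.sum_insert (by decide),
      Finset.sum_insert (by decide), Finset.sum_insert (by decide), Finset.sum_insert (by decide),
      Finset.sum_insert (by decide), Finset.sum_insert (by decide), Finset.sum_insert (by decide),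
      Finset.sum_singleton]
    ring
  rw [e2, h1, h10, h16, h45, h22, h33] at hall
  norm_num at hall
  generalize cnt d Finset.univ 11 = a at *
  generalize cnt d Finset.univ 44 = b at *
  generalize cnt d Finset.univ 55 = c at *
  generalize cnt d Finset.univ 66 = e at *
  omega

end counting

end Cfsg.Agent.Lib.Helper4.M11
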