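import Mathlib
import Cfsg.Agent.S4441
import Cfsg.Agent.S0910
import Cfsg.Agent.Lib.Helper5.BrauerSmall.Vanish
import Cfsg.Agent.Lib.Helper6.BlkVanish
import Cfsg.Agent.Lib.Helper6.Regular
import Cfsg.Agent.Lib.Helper6.Multiplicity
import Cfsg.Agent.Lib.Helper6.BrPrin
import Cfsg.Agent.Lib.Helper4.M11b
import Cfsg.Agent.Lib.Helper4.M11c
import Cfsg.Agent.Lib.Helper4.M11d

/-! The character degrees of a simple group of order `7920`. -/

set_option autoImplicit false
set_option linter.unusedSectionVars false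
set_option linter.unusedVariables false
set_option linter.style.longLine false
set_option linter.unusedSimpArgs false
set_option linter.unusedDecidableInType false

set_option maxHeartbeats 1600000

namespace Cfsg.Agent.Lib.Helper4.M11

open Cfsg Cfsg.Agent.Lib.Helper6 Module
open Cfsg.Agent.Lib.Lead Cfsg.Agent.Lib.Lead.SylowCount Cfsg.Agent.Lib.Lead.SmallSimple2
  Cfsg.Agent.Lib.Helper7.CountTools Cfsg.Agent.Lib.Helper7.SylPar Cfsg.Agent.Lib.Helper4.Ord5040
  Cfsg.Agent.Lib.Helper5.BrauerSmall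

section main

variable {G : Type*} [Group G] [Fintype G]

/-- the degree data of the principal block for a Sylow subgroup of prime order -/
theorem brauer_degrees [Fintype (Cfsg.IrrCharacter G)] [DecidableEq (Cfsg.IrrCharacter G)]
    (d : Cfsg.IrrCharacter G → ℕ)
    (hd : ∀ χ : Cfsg.IrrCharacter G, Cfsg.charDegree (χ : G → ℂ) = d χ)
    (p : ℕ) [Fact p.Prime] (M : Ideal Cfsg.AlgInt) (hM : Cfsg.IsPModular p M)
    (hodd : p ≠ 2) (P : Sylow p G) (hP : Nat.card P = p) (e : ℕ)
    (he : (Subgroup.centralizer ((P : Subgroup G) : Set G)).relIndex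
      (Subgroup.normalizer ((P : Subgroup G) : Set G)) = e) :
    ∃ (XF YF : Finset (Cfsg.IrrCharacter G)) (σ : Cfsg.IrrCharacter G → ℤ) (ε : ℤ),
      (∀ χ, χ ∈ Cfsg.principalBlock M G ↔ χ ∈ XF ∨ χ ∈ YF) ∧ Disjoint XF YF ∧
      XF.card = e ∧ YF.card = (p - 1) / e ∧
      (∀ χ ∈ XF, (σ χ = 1 ∨ σ χ = -1) ∧ (d χ : ℤ) ≡ σ χ [ZMOD (p : ℤ)]) ∧
      (ε = 1 ∨ ε = -1) ∧
      (∀ θ ∈ YF, (d θ : ℤ) ≡ ε * (e : ℤ) [ZMOD (p : ℤ)]) ∧
      (∀ θ ∈ YF, ε * (d θ : ℤ) = ∑ χ ∈ XF, σ χ * (d χ : ℤ)) := by
  classical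
  obtain ⟨X, Y, hXY, hdisj, hX, hY, εX, ε, hXprop, hε, hYdeg, hYagree, hYrel⟩ :=
    Cfsg.Agent.S4441.result p M hM hodd P hP e he
  obtain ⟨XF, hXFdef⟩ : ∃ XF : Finset (Cfsg.IrrCharacter G),
      XF = Finset.univ.filter (fun χ => χ ∈ X) := ⟨_, rfl⟩
  obtain ⟨YF, hYFdef⟩ : ∃ YF : Finset (Cfsg.IrrCharacter G),
      YF = Finset.univ.filter (fun χ => χ ∈ Y) := ⟨_, rfl⟩
  have hXF : ∀ χ, χ ∈ XF ↔ χ ∈ X := by intro χ; rw [hXFdef]; simp
  have hYF : ∀ χ, χ ∈ YF ↔ χ ∈ Y := by intro χ; rw [hYFdef]; simp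
  have hXFset : (XF : Set (Cfsg.IrrCharacter G)) = X := by ext χ; exact hXF χ
  have hone : ∀ χ : Cfsg.IrrCharacter G, (χ : G → ℂ) 1 = (d χ : ℂ) := by
    intro χ
    rw [← hd]
    exact IsCharacter.apply_one_eq_charDegree (IsIrrCharacter.isCharacter χ.2)
  refine ⟨XF, YF, εX, ε, ?_, ?_, ?_, ?_, ?_, hε, ?_, ?_⟩
  · intro χ
    rw [hXY, hXF, hYF]
    rfl
  · rw [Finset.disjoint_left]
    intro χ h1 h2
    exact (Set.disjoint_left.mp hdisj ((hXF χ).mp h1)) ((hYF χ).mp h2)
  · rw [← hX, Nat.card_eq_fintype_card, Fintype.card_subtype, hXFdef]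
  · rw [← hY, Nat.card_eq_fintype_card, Fintype.card_subtype, hYFdef]
  · intro χ hχ
    have := hXprop χ ((hXF χ).mp hχ)
    rw [hd] at this
    exact ⟨this.1, this.2.1⟩
  · intro θ hθ
    have := hYdeg θ ((hYF θ).mp hθ)
    rw [hd] at this
    exact this
  · intro θ hθ
    have h := hYrel θ ((hYF θ).mp hθ) 1 (by
      rw [orderOf_one]
      exact fun h => (Fact.out : p.Prime).one_lt.ne' (Nat.dvd_one.mp h))
    rw [← hXFset, finsum_mem_coe_finset] at h
    have : ((ε * (d θ : ℤ) : ℤ) : ℂ) = ((∑ χ ∈ XF, εX χ * (d χ : ℤ) : ℤ) : ℂ) := by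
      push_cast
      rw [← hone θ, h]
      apply Finset.sum_congr rfl
      intro χ _
      rw [hone]
    exact_mod_cast this

/-- case (A): degrees `5` and `12` cannot both occur -/
theorem caseA_false [IsSimpleGroup G] (hG : Nat.card G = 7920)
    [Fintype (Cfsg.IrrCharacter G)] [DecidableEq (Cfsg.IrrCharacter G)]
    (θ χ : Cfsg.IrrCharacter G) (hθ : Cfsg.charDegree (θ : G → ℂ) = 5)
    (hχ : Cfsg.charDegree (χ : G → ℂ) = 12) : False := by
  classical
  haveI : Fact (Nat.Prime 5) := ⟨by norm_num⟩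
  have hncomm : ¬ IsMulCommutative G := not_comm hG
  have hna : ∃ a b : G, a * b ≠ b * a := by
    by_contra hcomm
    push Not at hcomm
    exact hncomm ⟨⟨hcomm⟩⟩
  obtain ⟨n, ρ, hirr, hρ⟩ := θ.2
  haveI := hirr
  have hdim : finrank ℂ (Fin n → ℂ) = 5 := by
    have h1 : ρ.character 1 = ((5 : ℕ) : ℂ) := by
      rw [hρ, IsCharacter.apply_one_eq_charDegree (IsIrrCharacter.isCharacter θ.2), hθ]
    rw [Representation.char_one] at h1
    exact_mod_cast h1
  obtain ⟨m, k, hC, hN, hk, hk1, hprod, hmod, hn1⟩ := exists_data (G := G) 5 (card5 hG)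
    (by omega)
  obtain ⟨P⟩ : Nonempty (Sylow 5 G) := inferInstance
  have hP := card5 hG P
  have hm1 : m = 1 := by
    by_contra hm
    obtain ⟨r, hr, hrm⟩ := Nat.exists_prime_and_dvd hm
    haveI : Fact r.Prime := ⟨hr⟩
    have hr5 : r ≠ 5 := by
      rintro rfl
      have h1 : 5 * m ∣ 7920 := by
        rw [← hC P, ← hG]; exact Subgroup.card_subgroup_dvd_card _
      obtain ⟨c, rfl⟩ := hrm
      have h25 : 25 ∣ 7920 := Dvd.dvd.trans ⟨c, by ring⟩ h1
      omega
    obtain ⟨kk, hkC, hko⟩ := exists_orderOf_eq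
      (Subgroup.centralizer ((P : Subgroup G) : Set G)) r
      (by rw [hC P]; exact Dvd.dvd.mul_left hrm 5)
    obtain ⟨y, hyP, hyo⟩ := exists_orderOf_eq (P : Subgroup G) 5 (by rw [hP])
    have hyk : Commute y kk := Subgroup.mem_centralizer_iff.mp hkC y hyP
    have h1 := eq_one_of_commute_deg5 hna ρ hdim (by rw [hG]; norm_num) (by rw [hG]; norm_num)
      hyo hyk (by
        rw [hko]
        intro h
        exact hr5 ((Nat.prime_dvd_prime_iff_eq (by norm_num) hr).mp h).symm)
    rw [h1, orderOf_one] at hko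
    exact hr.one_lt.ne' hko.symm
  subst hm1
  rw [hG] at hprod
  have hk4 : k = 4 := by
    have hk' : k ≤ 4 := Nat.le_of_dvd (by norm_num) hk
    interval_cases k
    · simp at hk
    · exact absurd rfl hk1
    · omega
    · omega
    · rfl
  subst hk4
  have hCP : Subgroup.centralizer ((P : Subgroup G) : Set G) = (P : Subgroup G) :=
    (Subgroup.eq_of_le_of_card_ge (sylow_le_centralizer P hP) (by rw [hC P, hP])).symm
  have he : (Subgroup.centralizer ((P : Subgroup G) : Set G)).relIndex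
      (Subgroup.normalizer ((P : Subgroup G) : Set G)) = 4 := by
    have h1 := card_mul_relIndex (Subgroup.centralizer_le_normalizer ((P : Subgroup G) : Set G))
    rw [hC P, hN P] at h1
    omega
  obtain ⟨M5, hM5⟩ := exists_isPModular 5
  obtain ⟨XF, YF, σ, ε, hmem, hdisj, hXc, hYc, hXs, hε, hYm, hrel⟩ :=
    brauer_degrees (fun χ : Cfsg.IrrCharacter G => Cfsg.charDegree (χ : G → ℂ)) (fun _ => rfl)
      5 M5 hM5 (by norm_num) P hP 4 he
  have hχB := mem_principalBlock_of_not_dvd P hP hCP hM5 χ (by rw [hχ]; norm_num)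
  rcases (hmem χ).mp hχB with h | h
  · obtain ⟨hs, hm⟩ := hXs χ h
    simp only [hχ] at hm
    unfold Int.ModEq at hm
    rcases hs with hs | hs <;> rw [hs] at hm <;> omega
  · have hm := hYm χ h
    simp only [hχ] at hm
    unfold Int.ModEq at hm
    rcases hε with rfl | rfl <;> omega

/-- the degree pattern of a simple group of order `7920` -/
theorem degree_counts [IsSimpleGroup G] (hG : Nat.card G = 7920)
    [Fintype (Cfsg.IrrCharacter G)] [DecidableEq (Cfsg.IrrCharacter G)]
    (d : Cfsg.IrrCharacter G → ℕ)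
    (hd : ∀ χ : Cfsg.IrrCharacter G, Cfsg.charDegree (χ : G → ℂ) = d χ) :
    (∀ χ, d χ ∈ ({1, 10, 16, 45, 11, 22, 33, 44, 55, 66} : Finset ℕ)) ∧
    cnt d Finset.univ 1 = 1 ∧ cnt d Finset.univ 10 = 3 ∧ cnt d Finset.univ 16 = 2 ∧
    cnt d Finset.univ 45 = 1 ∧ cnt d Finset.univ 11 = 1 ∧ cnt d Finset.univ 44 = 1 ∧
    cnt d Finset.univ 55 = 1 ∧ cnt d Finset.univ 22 = 0 ∧ cnt d Finset.univ 33 = 0 ∧
    cnt d Finset.univ 66 = 0 := by
  classical
  haveI : Fact (Nat.Prime 11) := ⟨by norm_num⟩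
  haveI : Fact (Nat.Prime 5) := ⟨by norm_num⟩
  have hncomm : ¬ IsMulCommutative G := not_comm hG
  have hna : ∃ a b : G, a * b ≠ b * a := by
    by_contra hcomm
    push Not at hcomm
    exact hncomm ⟨⟨hcomm⟩⟩
  have hone : ∀ χ : Cfsg.IrrCharacter G, (χ : G → ℂ) 1 = (d χ : ℂ) := by
    intro χ
    rw [← hd]
    exact IsCharacter.apply_one_eq_charDegree (IsIrrCharacter.isCharacter χ.2)
  have hdvd : ∀ χ, d χ ∣ 7920 := by
    intro χ
    rw [← hG, ← hd]
    exact IsIrrCharacter.charDegree_dvd_card χ.2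
  have hsqN : ∑ χ : Cfsg.IrrCharacter G, d χ ^ 2 = 7920 := by
    have h1 := sum_sq_degree (G := G)
    rw [hG] at h1
    have : ((∑ ψ : Cfsg.IrrCharacter G, d ψ ^ 2 : ℕ) : ℂ) = ((7920 : ℕ) : ℂ) := by
      push_cast
      push_cast at h1
      rw [← h1]
      apply Finset.sum_congr rfl
      intro ψ _
      rw [hone]
    exact_mod_cast this
  have hsq : ∑ χ : Cfsg.IrrCharacter G, (d χ : ℤ) ^ 2 = 7920 := by exact_mod_cast hsqN
  have hsq_le : ∀ χ, d χ * d χ ≤ 7920 := by
    intro χ
    have h3 := Finset.single_le_sum (f := fun ψ : Cfsg.IrrCharacter G => d ψ ^ 2)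
      (fun _ _ => Nat.zero_le _) (Finset.mem_univ χ)
    rw [hsqN, pow_two] at h3
    exact h3
  have hd1 : d (oneIrr G) = 1 := by
    have := hone (oneIrr G)
    have h2 : ((oneIrr G : Cfsg.IrrCharacter G) : G → ℂ) 1 = 1 := rfl
    rw [h2] at this
    exact_mod_cast this.symm
  -- the Sylow `11`-subgroups
  obtain ⟨hn11, hC11, hN11⟩ := sylow11_data hG
  obtain ⟨P⟩ : Nonempty (Sylow 11 G) := inferInstance
  have hP : Nat.card (P : Subgroup G) = 11 := card11 hG P
  have hC : Subgroup.centralizer ((P : Subgroup G) : Set G) = (P : Subgroup G) :=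
    (Subgroup.eq_of_le_of_card_ge (sylow_le_centralizer P hP) (by rw [hC11 P, hP])).symm
  have he : (Subgroup.centralizer ((P : Subgroup G) : Set G)).relIndex
      (Subgroup.normalizer ((P : Subgroup G) : Set G)) = 5 := by
    have h1 := card_mul_relIndex (Subgroup.centralizer_le_normalizer ((P : Subgroup G) : Set G))
    rw [hC11 P, hN11 P] at h1
    omega
  obtain ⟨M11, hM11⟩ := exists_isPModular 11
  obtain ⟨XF, YF, σ, ε, hmem, hdisj, hXc, hYc, hXs, hε, hYm, hrel⟩ :=
    brauer_degrees d hd 11 M11 hM11 (by norm_num) P hP 5 he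
  have hYc' : YF.card = 2 := by rw [hYc]
  have hout : ∀ χ, χ ∉ XF → χ ∉ YF → 11 ∣ d χ := by
    intro χ h1 h2
    by_contra h3
    have := mem_principalBlock_of_not_dvd P hP hC hM11 χ (by rw [hd]; exact h3)
    rcases (hmem χ).mp this with h | h
    · exact h1 h
    · exact h2 h
  have hin : ∀ χ ∈ XF, d χ % 11 = 1 ∨ d χ % 11 = 10 := by
    intro χ hχ
    obtain ⟨hs, hm⟩ := hXs χ hχ
    unfold Int.ModEq at hm
    rcases hs with hs | hs <;> rw [hs] at hm <;> omega
  have hinY : ∀ θ ∈ YF, d θ % 11 = 5 ∨ d θ % 11 = 6 := by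
    intro θ hθ
    have hm := hYm θ hθ
    unfold Int.ModEq at hm
    rcases hε with rfl | rfl <;> push_cast at hm <;> omega
  have huniq1 : ∀ χ, d χ = 1 → χ = oneIrr G := by
    intro χ h1
    have hχB : χ ∈ Cfsg.principalBlock M11 G :=
      mem_principalBlock_of_not_dvd P hP hC hM11 χ (by rw [hd, h1]; norm_num)
    have h2 : (χ : G → ℂ) 1 = ((11 : ℕ) : ℂ) ^ 0 := by rw [hone, h1]; simp
    exact Subtype.ext (Cfsg.Agent.S0910.result 11 M11 hM11 hna χ hχB 0 h2)
  have hXd : ∀ χ ∈ XF, d χ = 1 ∨ d χ = 10 ∨ d χ = 12 ∨ d χ = 45 := fun χ hχ =>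
    xdeg_cases (d χ) (hdvd χ) (hsq_le χ) (hin χ hχ)
  have h1X : oneIrr G ∈ XF := by
    rcases (hmem _).mp (oneIrr_mem_principalBlock hM11) with h | h
    · exact h
    · exfalso
      have := hinY _ h
      rw [hd1] at this
      omega
  have hc1 : cnt d XF 1 = 1 := by
    unfold cnt
    rw [Finset.card_eq_one]
    refine ⟨oneIrr G, ?_⟩
    ext χ
    simp only [Finset.mem_filter, Finset.mem_singleton]
    constructor
    · rintro ⟨_, h⟩
      exact huniq1 χ h
    · rintro rfl
      exact ⟨h1X, hd1⟩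
  have hsqXY : ∑ χ ∈ XF, (d χ : ℤ) ^ 2 + ∑ θ ∈ YF, (d θ : ℤ) ^ 2 ≤ 7920 := by
    rw [← Finset.sum_union hdisj, ← hsq]
    apply Finset.sum_le_sum_of_subset_of_nonneg (Finset.subset_univ _)
    intro χ _ _
    positivity
  obtain ⟨t, hYt, hcases⟩ := p11_counts d XF YF σ ε hXc hYc' hXd hXs hε hYm
    (fun θ _ => hdvd θ) hrel hc1 hsqXY
  rcases hcases with ⟨h10, h12, h45, rfl⟩ | ⟨h10, h12, h45, rfl⟩
  · -- case (A)
    exfalso
    obtain ⟨θ, hθY⟩ : YF.Nonempty := by rw [← Finset.card_pos, hYc']; norm_num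
    obtain ⟨χ12, -, hχ12⟩ := exists_of_cnt_pos d XF 12 (by rw [h12]; norm_num)
    exact caseA_false hG θ χ12 (by rw [hd]; exact hYt θ hθY) (by rw [hd]; exact hχ12)
  · -- case (B)
    have hS : ∀ χ ∈ XF, d χ ∈ ({1, 10, 12, 45} : Finset ℕ) := by
      intro χ hχ
      simp only [Finset.mem_insert, Finset.mem_singleton]
      exact hXd χ hχ
    have e1 : ∀ F : ℕ → ℤ, ∑ n ∈ ({1, 10, 12, 45} : Finset ℕ), F n = F 1 + F 10 + F 12 + F 45 := by
      intro F
      rw [Finset.sum_insert (by decide), Finset.sum_insert (by decide),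
        Finset.sum_insert (by decide), Finset.sum_singleton]
      ring
    have hsqX : ∑ χ ∈ XF, (d χ : ℤ) ^ 2 = 2326 := by
      have := sum_by_degree d XF {1, 10, 12, 45} (fun n : ℕ => (n : ℤ) ^ 2) hS
      rw [e1, hc1, h10, h12, h45] at this
      rw [this]
      norm_num
    have hsqY : ∑ θ ∈ YF, (d θ : ℤ) ^ 2 = 512 := by
      rw [Finset.sum_congr rfl (fun θ hθ => by rw [hYt θ hθ])]
      rw [Finset.sum_const, hYc']
      norm_num
    have hXd' : ∀ χ ∈ XF, d χ = 1 ∨ d χ = 10 ∨ d χ = 45 := by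
      intro χ hχ
      rcases hXd χ hχ with h | h | h | h
      · exact Or.inl h
      · exact Or.inr (Or.inl h)
      · exfalso
        have : 0 < cnt d XF 12 := by
          unfold cnt
          rw [Finset.card_pos]
          exact ⟨χ, Finset.mem_filter.mpr ⟨hχ, h⟩⟩
        omega
      · exact Or.inr (Or.inr h)
    have hDB : ∀ χ, d χ ∈ ({1, 10, 16, 45, 11, 22, 33, 44, 55, 66} : Finset ℕ) := by
      intro χ
      simp only [Finset.mem_insert, Finset.mem_singleton]
      by_cases hX : χ ∈ XF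
      · rcases hXd' χ hX with h | h | h <;> omega
      by_cases hY : χ ∈ YF
      · have := hYt χ hY
        omega
      have h11 := hout χ hX hY
      have hb : (d χ : ℤ) ^ 2 + 2838 ≤ 7920 := by
        have h1 : ∑ χ' ∈ insert χ (XF ∪ YF), (d χ' : ℤ) ^ 2 ≤
            ∑ χ' : Cfsg.IrrCharacter G, (d χ' : ℤ) ^ 2 :=
          Finset.sum_le_sum_of_subset_of_nonneg (Finset.subset_univ _)
            (fun _ _ _ => by positivity)
        rw [Finset.sum_insert (by simp [hX, hY]), Finset.sum_union hdisj, hsqX, hsqY, hsq] at h1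
        linarith
      obtain ⟨a, ha⟩ := h11
      have hpos : 0 < d χ := Nat.pos_of_dvd_of_pos (hdvd χ) (by norm_num)
      rw [ha] at hb hpos
      have ha6 : a ≤ 6 := by
        by_contra hcon
        push Not at hcon
        have : (7 : ℤ) ≤ a := by exact_mod_cast hcon
        push_cast at hb
        nlinarith
      have ha1 : 1 ≤ a := by omega
      interval_cases a <;> omega
    have hcntX : ∀ n, n ≠ 16 → ¬ 11 ∣ n → cnt d Finset.univ n = cnt d XF n := by
      intro n hn16 hn11
      unfold cnt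
      congr 1
      ext χ
      simp only [Finset.mem_filter, Finset.mem_univ, true_and]
      constructor
      · intro h
        refine ⟨?_, h⟩
        by_contra hX
        by_cases hY : χ ∈ YF
        · exact hn16 (h ▸ hYt χ hY)
        · exact hn11 (h ▸ hout χ hX hY)
      · exact fun h => h.2
    have hN1 : cnt d Finset.univ 1 = 1 := (hcntX 1 (by norm_num) (by norm_num)).trans hc1
    have hN10 : cnt d Finset.univ 10 = 3 := (hcntX 10 (by norm_num) (by norm_num)).trans h10
    have hN45 : cnt d Finset.univ 45 = 1 := (hcntX 45 (by norm_num) (by norm_num)).trans h45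
    have hN16 : cnt d Finset.univ 16 = 2 := by
      unfold cnt
      rw [← hYc']
      congr 1
      ext χ
      simp only [Finset.mem_filter, Finset.mem_univ, true_and]
      constructor
      · intro h
        by_contra hY
        by_cases hX : χ ∈ XF
        · rcases hXd χ hX with h' | h' | h' | h' <;> omega
        · have := hout χ hX hY
          rw [h] at this
          omega
      · exact hYt χ
    -- the Sylow `5`-subgroups
    obtain ⟨m, k, hC5, hN5, hk, hk1, hprod, hmod, hn1⟩ := exists_data (G := G) 5 (card5 hG)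
      (by omega)
    obtain ⟨P5⟩ : Nonempty (Sylow 5 G) := inferInstance
    have hP5 := card5 hG P5
    have hm0 : 0 < 5 * m := by
      rw [← hC5 P5]; exact Nat.card_pos
    have he5 : (Subgroup.centralizer ((P5 : Subgroup G) : Set G)).relIndex
        (Subgroup.normalizer ((P5 : Subgroup G) : Set G)) = k := by
      have h1 := card_mul_relIndex (Subgroup.centralizer_le_normalizer ((P5 : Subgroup G) : Set G))
      rw [hC5 P5, hN5 P5] at h1
      exact Nat.eq_of_mul_eq_mul_left hm0 h1
    have hk' : k = 2 ∨ k = 4 := by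
      have h1 : k ≤ 4 := Nat.le_of_dvd (by norm_num) hk
      interval_cases k
      · simp at hk
      · exact absurd rfl hk1
      · left; rfl
      · norm_num at hk
      · right; rfl
    obtain ⟨M5, hM5⟩ := exists_isPModular 5
    obtain ⟨X5, Y5, σ5, ε5, hmem5, hdisj5, hX5c, hY5c, hX5s, hε5, hY5m, hrel5⟩ :=
      brauer_degrees d hd 5 M5 hM5 (by norm_num) P5 hP5 k he5
    rcases hk' with rfl | rfl
    · -- `e = 2`
      exfalso
      have h1X5 : oneIrr G ∈ X5 := by
        rcases (hmem5 _).mp (oneIrr_mem_principalBlock hM5) with h | h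
        · exact h
        · exfalso
          have hm := hY5m _ h
          rw [hd1] at hm
          unfold Int.ModEq at hm
          rcases hε5 with rfl | rfl <;> push_cast at hm <;> omega
      have hσ1 : σ5 (oneIrr G) = 1 := by
        obtain ⟨hs, hm⟩ := hX5s _ h1X5
        rw [hd1] at hm
        unfold Int.ModEq at hm
        rcases hs with hs | hs
        · exact hs
        · rw [hs] at hm; omega
      obtain ⟨θ, hθ⟩ : Y5.Nonempty := by rw [← Finset.card_pos, hY5c]; norm_num
      obtain ⟨a, b, hab, hXab⟩ := Finset.card_eq_two.mp hX5c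
      have hr := hrel5 θ hθ
      rw [hXab, Finset.sum_pair hab] at hr
      have key : ∀ ψ ∈ X5, ψ ≠ oneIrr G → ε5 * (d θ : ℤ) = 1 + σ5 ψ * (d ψ : ℤ) → False := by
        intro ψ hψ hne hr'
        obtain ⟨hs, hm⟩ := hX5s ψ hψ
        have hmθ := hY5m θ hθ
        have hψ1 : d ψ ≠ 1 := fun h => hne (huniq1 ψ h)
        have hdbψ := hDB ψ
        have hdbθ := hDB θ
        simp only [Finset.mem_insert, Finset.mem_singleton] at hdbψ hdbθ
        unfold Int.ModEq at hm hmθ
        push_cast at hmθ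
        rcases hε5 with rfl | rfl <;> rcases hs with hs | hs <;> rw [hs] at hm hr' <;>
          rcases hdbθ with h | h | h | h | h | h | h | h | h | h <;> rw [h] at hmθ hr' <;> omega
      have h1ab : oneIrr G = a ∨ oneIrr G = b := by
        have : oneIrr G ∈ X5 := h1X5
        rw [hXab] at this
        simpa using this
      have haX : a ∈ X5 := by rw [hXab]; simp
      have hbX : b ∈ X5 := by rw [hXab]; simp
      rcases h1ab with h | h
      · apply key b hbX (fun hb => hab (h.symm.trans hb.symm))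
        rw [← h, hσ1, hd1] at hr
        rw [hr]; ring
      · apply key a haX (fun ha => hab (ha.trans h))
        rw [← h, hσ1, hd1] at hr
        rw [hr]; ring
    · -- `e = 4`
      have hm1 : m = 1 := sylow5_data hG hC11 hC5 hN5 hprod hmod hn1
      subst hm1
      have hCP5 : Subgroup.centralizer ((P5 : Subgroup G) : Set G) = (P5 : Subgroup G) :=
        (Subgroup.eq_of_le_of_card_ge (sylow_le_centralizer P5 hP5) (by rw [hC5 P5, hP5])).symm
      have hB5mem : ∀ χ, ¬ 5 ∣ d χ ↔ (χ ∈ X5 ∨ χ ∈ Y5) := by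
        intro χ
        constructor
        · intro h
          exact (hmem5 χ).mp (mem_principalBlock_of_not_dvd P5 hP5 hCP5 hM5 χ
            (by rw [hd]; exact h))
        · rintro (h | h)
          · obtain ⟨hs, hm⟩ := hX5s χ h
            unfold Int.ModEq at hm
            rintro ⟨c, hc⟩
            rw [hc] at hm
            push_cast at hm
            rcases hs with hs | hs <;> rw [hs] at hm <;> omega
          · have hm := hY5m χ h
            unfold Int.ModEq at hm
            rintro ⟨c, hc⟩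
            rw [hc] at hm
            push_cast at hm
            rcases hε5 with rfl | rfl <;> omega
      have hB5eq : Finset.univ.filter (fun χ => ¬ 5 ∣ d χ) = X5 ∪ Y5 := by
        ext χ
        simp only [Finset.mem_filter, Finset.mem_univ, true_and, Finset.mem_union]
        exact hB5mem χ
      have hY5c' : Y5.card = 1 := by rw [hY5c]
      have hB5card : (Finset.univ.filter (fun χ => ¬ 5 ∣ d χ)).card = 5 := by
        rw [hB5eq, Finset.card_union_of_disjoint hdisj5, hX5c, hY5c']
      have hB5mod : ∀ χ, ¬ 5 ∣ d χ → d χ % 5 = 1 ∨ d χ % 5 = 4 := by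
        intro χ h
        rcases (hB5mem χ).mp h with h | h
        · obtain ⟨hs, hm⟩ := hX5s χ h
          unfold Int.ModEq at hm
          rcases hs with hs | hs <;> rw [hs] at hm <;> omega
        · have hm := hY5m χ h
          unfold Int.ModEq at hm
          rcases hε5 with rfl | rfl <;> push_cast at hm <;> omega
      have hB5sum : ∑ χ ∈ Finset.univ.filter (fun χ => ¬ 5 ∣ d χ),
          (fun n : ℕ => if n % 5 = 1 then (n : ℤ) else -(n : ℤ)) (d χ) = 0 := by
        rw [hB5eq, Finset.sum_union hdisj5]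
        obtain ⟨θ, hθ⟩ := Finset.card_eq_one.mp hY5c'
        have hθY : θ ∈ Y5 := by rw [hθ]; simp
        rw [hθ, Finset.sum_singleton]
        have hr := hrel5 θ hθY
        have hXg : ∑ χ ∈ X5, (fun n : ℕ => if n % 5 = 1 then (n : ℤ) else -(n : ℤ)) (d χ) =
            ∑ χ ∈ X5, σ5 χ * (d χ : ℤ) := by
          apply Finset.sum_congr rfl
          intro χ hχ
          obtain ⟨hs, hm⟩ := hX5s χ hχ
          unfold Int.ModEq at hm
          simp only
          rcases hs with hs | hs
          · rw [hs] at hm ⊢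
            rw [if_pos (by omega)]
            ring
          · rw [hs] at hm ⊢
            rw [if_neg (by omega)]
            ring
        have hYg : (fun n : ℕ => if n % 5 = 1 then (n : ℤ) else -(n : ℤ)) (d θ) =
            -(ε5 * (d θ : ℤ)) := by
          have hm := hY5m θ hθY
          unfold Int.ModEq at hm
          simp only
          rcases hε5 with rfl | rfl
          · push_cast at hm
            rw [if_neg (by omega)]
            ring
          · push_cast at hm
            rw [if_pos (by omega)]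
            ring
        rw [hXg, hYg, hr]
        ring
      obtain ⟨h11, h44, h55, h22, h33, h66⟩ :=
        final_counts d hDB hN1 hN10 hN16 hN45 hB5card hB5mod hB5sum hsq
      exact ⟨hDB, hN1, hN10, hN16, hN45, h11, h44, h55, h22, h33, h66⟩

end main

end Cfsg.Agent.Lib.Helper4.M11
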