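import Mathlib
import Cfsg.Agent.Lib.Helper4.M11e
import Cfsg.Agent.Lib.Helper7.M22S1

set_option autoImplicit false
set_option linter.unusedSectionVars false
set_option linter.unusedVariables false
set_option linter.unusedDecidableInType false

/-! S5005 unit S2 (sieve): in a group of order `443520` whose Sylow `5`-, `7`- and `11`-subgroups
are self-centralising, an irreducible character degree divisible by `32` is `160` or `384`. -/

namespace Cfsg.Agent.Lib.Helper4.M22S2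

open Cfsg Cfsg.Agent.Lib.Helper6 Cfsg.Agent.Lib.Helper5.BrauerSmall

section general

variable {G : Type*} [Group G] [Fintype G]

/-- residues of character degrees modulo a prime `p` with self-centralising Sylow subgroup of
order `p` -/
theorem h4_deg_mod_cases (p : ℕ) [Fact p.Prime] (hodd : p ≠ 2) (P : Sylow p G)
    (hP : Nat.card P = p)
    (hC : Subgroup.centralizer ((P : Subgroup G) : Set G) = (P : Subgroup G)) (e : ℕ)
    (he : (Subgroup.centralizer ((P : Subgroup G) : Set G)).relIndex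
      (Subgroup.normalizer ((P : Subgroup G) : Set G)) = e) (χ : Cfsg.IrrCharacter G) :
    p ∣ Cfsg.charDegree (χ : G → ℂ) ∨
      ((Cfsg.charDegree (χ : G → ℂ) : ℤ) ≡ 1 [ZMOD (p : ℤ)]) ∨
      ((Cfsg.charDegree (χ : G → ℂ) : ℤ) ≡ -1 [ZMOD (p : ℤ)]) ∨
      ((Cfsg.charDegree (χ : G → ℂ) : ℤ) ≡ (e : ℤ) [ZMOD (p : ℤ)]) ∨
      ((Cfsg.charDegree (χ : G → ℂ) : ℤ) ≡ -(e : ℤ) [ZMOD (p : ℤ)]) := by
  classical
  have : Fintype (Cfsg.IrrCharacter G) := Fintype.ofFinite _
  by_cases h0 : p ∣ Cfsg.charDegree (χ : G → ℂ)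
  · exact Or.inl h0
  right
  obtain ⟨M, hM⟩ := exists_isPModular p
  obtain ⟨XF, YF, σ, ε, hmem, hdisj, hXc, hYc, hXs, hε, hYm, hrel⟩ :=
    Cfsg.Agent.Lib.Helper4.M11.brauer_degrees
      (fun ψ : Cfsg.IrrCharacter G => Cfsg.charDegree (ψ : G → ℂ)) (fun _ => rfl)
      p M hM hodd P hP e he
  have hχ := mem_principalBlock_of_not_dvd P hP hC hM χ h0
  rcases (hmem χ).mp hχ with h | h
  · obtain ⟨hs, hm⟩ := hXs χ h
    rcases hs with hs | hs
    · left
      rw [hs] at hm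
      exact hm
    · right; left
      rw [hs] at hm
      exact hm
  · have hm := hYm χ h
    rcases hε with rfl | rfl
    · right; right; left
      simpa using hm
    · right; right; right
      simpa using hm

end general

section M22

variable {G : Type*} [Group G] [Fintype G]

theorem h4_sieve_arith (d : ℕ) (h32 : 32 ∣ d) (hdvd : d ∣ 443520) (hsq : d * d ≤ 443520)
    (h5 : d % 5 = 0 ∨ d % 5 = 1 ∨ d % 5 = 4)
    (h7 : d % 7 = 0 ∨ d % 7 = 1 ∨ d % 7 = 6 ∨ d % 7 = 3 ∨ d % 7 = 4)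
    (h11 : d % 11 = 0 ∨ d % 11 = 1 ∨ d % 11 = 10 ∨ d % 11 = 5 ∨ d % 11 = 6) :
    d = 160 ∨ d = 384 := by
  obtain ⟨k, rfl⟩ := h32
  have hk : k ≤ 20 := by
    by_contra h
    push Not at h
    have : 21 ≤ k := h
    nlinarith
  interval_cases k <;> omega

/-- the sieve -/
theorem h4_sieve (hG : Nat.card G = 443520)
    (H5 : ∀ P : Sylow 5 G, Subgroup.centralizer ((P : Subgroup G) : Set G) = (P : Subgroup G))
    (H7 : ∀ P : Sylow 7 G, Subgroup.centralizer ((P : Subgroup G) : Set G) = (P : Subgroup G))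
    (H11 : ∀ P : Sylow 11 G, Subgroup.centralizer ((P : Subgroup G) : Set G) = (P : Subgroup G))
    (χ : Cfsg.IrrCharacter G) (h32 : 32 ∣ Cfsg.charDegree (χ : G → ℂ)) :
    Cfsg.charDegree (χ : G → ℂ) = 160 ∨ Cfsg.charDegree (χ : G → ℂ) = 384 := by
  classical
  have : Fact (Nat.Prime 5) := ⟨by norm_num⟩
  have : Fact (Nat.Prime 7) := ⟨by norm_num⟩
  have : Fact (Nat.Prime 11) := ⟨by norm_num⟩
  have : Fintype (Cfsg.IrrCharacter G) := Fintype.ofFinite _
  obtain ⟨d, hd⟩ : ∃ d, Cfsg.charDegree (χ : G → ℂ) = d := ⟨_, rfl⟩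
  rw [hd] at h32 ⊢
  have hdvd : d ∣ 443520 := by
    rw [← hG, ← hd]
    exact IsIrrCharacter.charDegree_dvd_card χ.2
  have hone : ∀ ψ : Cfsg.IrrCharacter G,
      (ψ : G → ℂ) 1 = (Cfsg.charDegree (ψ : G → ℂ) : ℂ) := fun ψ =>
    IsCharacter.apply_one_eq_charDegree (IsIrrCharacter.isCharacter ψ.2)
  have hsqN : ∑ ψ : Cfsg.IrrCharacter G, Cfsg.charDegree (ψ : G → ℂ) ^ 2 = 443520 := by
    have h1 := sum_sq_degree (G := G)
    rw [hG] at h1
    have : ((∑ ψ : Cfsg.IrrCharacter G, Cfsg.charDegree (ψ : G → ℂ) ^ 2 : ℕ) : ℂ) =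
        ((443520 : ℕ) : ℂ) := by
      push_cast
      push_cast at h1
      rw [← h1]
      apply Finset.sum_congr rfl
      intro ψ _
      rw [hone]
    exact_mod_cast this
  have hsq : d * d ≤ 443520 := by
    have h3 := Finset.single_le_sum
      (f := fun ψ : Cfsg.IrrCharacter G => Cfsg.charDegree (ψ : G → ℂ) ^ 2)
      (fun _ _ => Nat.zero_le _) (Finset.mem_univ χ)
    rw [hsqN, pow_two] at h3
    rw [← hd]
    exact h3
  obtain ⟨P5⟩ : Nonempty (Sylow 5 G) := inferInstance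
  obtain ⟨P7⟩ : Nonempty (Sylow 7 G) := inferInstance
  obtain ⟨P11⟩ : Nonempty (Sylow 11 G) := inferInstance
  have hP5 : Nat.card P5 = 5 :=
    Cfsg.Agent.Lib.Helper7.M22S1.h7_card_sylow 5 88704 (by rw [hG]) (by norm_num) P5
  have hP7 : Nat.card P7 = 7 :=
    Cfsg.Agent.Lib.Helper7.M22S1.h7_card_sylow 7 63360 (by rw [hG]) (by norm_num) P7
  have hP11 : Nat.card P11 = 11 :=
    Cfsg.Agent.Lib.Helper7.M22S1.h7_card_sylow 11 40320 (by rw [hG]) (by norm_num) P11
  have he5 := (Cfsg.Agent.Lib.Helper7.M22S1.h7_data5 hG P5 (H5 P5)).1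
  have he7 := (Cfsg.Agent.Lib.Helper7.M22S1.h7_data7 hG P7 (H7 P7)).1
  have he11 := (Cfsg.Agent.Lib.Helper7.M22S1.h7_data11 hG P11 (H11 P11)).1
  have c5 := h4_deg_mod_cases 5 (by norm_num) P5 hP5 (H5 P5) 4 he5 χ
  have c7 := h4_deg_mod_cases 7 (by norm_num) P7 hP7 (H7 P7) 3 he7 χ
  have c11 := h4_deg_mod_cases 11 (by norm_num) P11 hP11 (H11 P11) 5 he11 χ
  rw [hd] at c5 c7 c11
  apply h4_sieve_arith d h32 hdvd hsq
  · rcases c5 with h | h | h | h | h
    · left; omega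
    all_goals (unfold Int.ModEq at h; push_cast at h; omega)
  · rcases c7 with h | h | h | h | h
    · left; omega
    all_goals (unfold Int.ModEq at h; push_cast at h; omega)
  · rcases c11 with h | h | h | h | h
    · left; omega
    all_goals (unfold Int.ModEq at h; push_cast at h; omega)

end M22

end Cfsg.Agent.Lib.Helper4.M22S2
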