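import Mathlib
import Cfsg.Agent.Lib.Helper4.M11e
import Cfsg.Agent.Lib.Helper6.SecondOrth
import Cfsg.Agent.Lib.Helper6.ClassMult
import Cfsg.Agent.Lib.Helper6.BlkNormalDef

/-! Involution centralizers in a simple group of order `7920`. -/

set_option autoImplicit false
set_option linter.unusedSectionVars false
set_option linter.unusedVariables false
set_option linter.style.longLine false
set_option linter.unusedSimpArgs false
set_option linter.unusedDecidableInType false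

set_option maxHeartbeats 1600000

namespace Cfsg.Agent.Lib.Helper4.M11

open Cfsg Cfsg.Agent.Lib.Helper6 Module
open Cfsg.Agent.Lib.Lead Cfsg.Agent.Lib.Lead.SylowCount Cfsg.Agent.Lib.Lead.SmallSimple2
  Cfsg.Agent.Lib.Helper7.CountTools Cfsg.Agent.Lib.Helper7.SylPar Cfsg.Agent.Lib.Helper4.Ord5040
  Cfsg.Agent.Lib.Helper5.BrauerSmall
open scoped ComplexConjugate

section values

variable {G : Type*} [Group G] [Fintype G]

/-- the degree and value data of the principal block for a Sylow subgroup of prime order -/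
theorem brauer_values [Fintype (Cfsg.IrrCharacter G)] [DecidableEq (Cfsg.IrrCharacter G)]
    (d : Cfsg.IrrCharacter G → ℕ)
    (hd : ∀ χ : Cfsg.IrrCharacter G, Cfsg.charDegree (χ : G → ℂ) = d χ)
    (p : ℕ) [Fact p.Prime] (M : Ideal Cfsg.AlgInt) (hM : Cfsg.IsPModular p M)
    (hodd : p ≠ 2) (P : Sylow p G) (hP : Nat.card P = p) (e : ℕ)
    (he : (Subgroup.centralizer ((P : Subgroup G) : Set G)).relIndex
      (Subgroup.normalizer ((P : Subgroup G) : Set G)) = e) :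
    ∃ (XF YF : Finset (Cfsg.IrrCharacter G)) (σ : Cfsg.IrrCharacter G → ℤ) (ε : ℤ),
      (∀ χ, χ ∈ Cfsg.principalBlock M G ↔ χ ∈ XF ∨ χ ∈ YF) ∧ Disjoint XF YF ∧
      XF.card = e ∧ YF.card = (p - 1) / e ∧
      (∀ χ ∈ XF, (σ χ = 1 ∨ σ χ = -1) ∧ (d χ : ℤ) ≡ σ χ [ZMOD (p : ℤ)]) ∧
      (ε = 1 ∨ ε = -1) ∧
      (∀ θ ∈ YF, (d θ : ℤ) ≡ ε * (e : ℤ) [ZMOD (p : ℤ)]) ∧
      (∀ χ ∈ XF, ∀ x : G, x ∈ (P : Subgroup G) → x ≠ 1 → (χ : G → ℂ) x = (σ χ : ℂ)) ∧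
      (∀ θ ∈ YF, ∀ g : G, ¬ p ∣ orderOf g →
        (ε : ℂ) * (θ : G → ℂ) g = ∑ χ ∈ XF, (σ χ : ℂ) * (χ : G → ℂ) g) := by
  classical
  obtain ⟨X, Y, hXY, hdisj, hX, hY, εX, ε, hXprop, hε, hYdeg, hYagree, hYrel⟩ :=
    Cfsg.Agent.S4441.result p M hM hodd P hP e he
  obtain ⟨XF, hXFdef⟩ : ∃ XF : Finset (Cfsg.IrrCharacter G),
      XF = Finset.univ.filter (fun χ => χ ∈ X) := ⟨_, rfl⟩
  obtain ⟨YF, hYFdef⟩ : ∃ YF : Finset (Cfsg.IrrCharacter G),
      YF = Finset.univ.filter (fun χ => χ ∈ Y) := ⟨_, rfl⟩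
  have hXF : ∀ χ, χ ∈ XF ↔ χ ∈ X := by intro χ; rw [hXFdef]; simp
  have hYF : ∀ χ, χ ∈ YF ↔ χ ∈ Y := by intro χ; rw [hYFdef]; simp
  have hXFset : (XF : Set (Cfsg.IrrCharacter G)) = X := by ext χ; exact hXF χ
  refine ⟨XF, YF, εX, ε, ?_, ?_, ?_, ?_, ?_, hε, ?_, ?_, ?_⟩
  · intro χ
    rw [hXY, hXF, hYF]
    rfl
  · rw [Finset.disjoint_left]
    intro χ h1 h2
    exact (Set.disjoint_left.mp hdisj ((hXF χ).mp h1)) ((hYF χ).mp h2)
  · rw [← hX, Nat.card_eq_fintype_card, Fintype.card_subtype, hXFdef]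
  · rw [← hY, Nat.card_eq_fintype_card, Fintype.card_subtype, hYFdef]
  · intro χ hχ
    have := hXprop χ ((hXF χ).mp hχ)
    rw [hd] at this
    exact ⟨this.1, this.2.1⟩
  · intro θ hθ
    have := hYdeg θ ((hYF θ).mp hθ)
    rw [hd] at this
    exact this
  · intro χ hχ x hx hx1
    have := (hXprop χ ((hXF χ).mp hχ)).2.2 x hx hx1 1 (Subgroup.one_mem _) (by
      rw [orderOf_one]
      exact fun h => (Fact.out : p.Prime).one_lt.ne' (Nat.dvd_one.mp h))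
    rwa [mul_one] at this
  · intro θ hθ g hg
    have h := hYrel θ ((hYF θ).mp hθ) g hg
    rw [← hXFset, finsum_mem_coe_finset] at h
    exact h

/-- the value of a character at an involution -/
theorem apply_involution {χ : G → ℂ} (hχ : Cfsg.IsCharacter G χ) (t : G) (ht : orderOf t = 2) :
    ∃ m : ℕ, m ≤ Cfsg.charDegree χ ∧ χ t = (Cfsg.charDegree χ : ℂ) - 2 * (m : ℂ) := by
  classical
  obtain ⟨n, ρ, rfl⟩ := hχ
  obtain ⟨ι, _, b, μ, h, hμ⟩ := exists_eigenbasis_rep ρ t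
  rw [ht] at hμ
  have h1 : ρ.character t = ∑ i, μ i := trace_eq_sum_of_eigenbasis b μ (ρ t) h
  have h2 : ∀ i, μ i = 1 ∨ μ i = -1 := by
    intro i
    have := hμ i
    have h3 : (μ i - 1) * (μ i + 1) = 0 := by ring_nf; rw [this]; ring
    rcases mul_eq_zero.mp h3 with h4 | h4
    · left; exact sub_eq_zero.mp h4
    · right; exact eq_neg_of_add_eq_zero_left h4
  have hdeg : Cfsg.charDegree ρ.character = Fintype.card ι := by
    rw [charDegree_character, finrank_eq_card_basis b]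
  refine ⟨(Finset.univ.filter (fun i => μ i ≠ 1)).card, ?_, ?_⟩
  · rw [hdeg, ← Finset.card_univ]
    exact Finset.card_filter_le _ _
  · rw [h1, hdeg]
    have h3 : ∀ i, μ i = 1 - 2 * (if μ i ≠ 1 then (1 : ℂ) else 0) := by
      intro i
      rcases h2 i with h4 | h4
      · rw [h4]; simp
      · rw [h4, if_pos (by norm_num)]; norm_num
    rw [Finset.sum_congr rfl (fun i _ => h3 i), Finset.sum_sub_distrib, ← Finset.mul_sum,
      Finset.sum_boole]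
    simp

end values

section arith

/-- the arithmetic of the character values at an involution -/
theorem invol_arith (ma mb mc mv mx mw mz : ℕ) (hma : ma ≤ 10) (hmb : mb ≤ 10) (hmc : mc ≤ 10)
    (hmv : mv ≤ 45) (hmx : mx ≤ 11) (hmw : mw ≤ 44) (hmz : mz ≤ 55) (A B C V X W Z : ℤ)
    (hA : A = 10 - 2 * ma) (hB : B = 10 - 2 * mb) (hC : C = 10 - 2 * mc) (hV : V = 45 - 2 * mv)
    (hX : X = 11 - 2 * mx) (hW : W = 44 - 2 * mw) (hZ : Z = 55 - 2 * mz)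
    (E1 : 1 + V - (A + B + C) = 0) (E2 : 90 + 2 * V ^ 2 = 9 * (A ^ 2 + B ^ 2 + C ^ 2))
    (E3 : 1 + X - W = 0) (E4 : 1 + 10 * (A + B + C) + 45 * V + 11 * X + 44 * W + 55 * Z = 0)
    (c : ℕ) (hc : (c : ℤ) = 1 + A ^ 2 + B ^ 2 + C ^ 2 + V ^ 2 + X ^ 2 + W ^ 2 + Z ^ 2)
    (hc1 : c ∣ 7920) (hc5 : ¬ 5 ∣ c) : c = 48 := by
  have key : ∀ ma : ℕ, ma ≤ 10 → ∀ mb : ℕ, mb ≤ 10 → ∀ mc : ℕ, mc ≤ 10 →
      90 + 2 * ((10 - 2 * (ma : ℤ)) + (10 - 2 * (mb : ℤ)) + (10 - 2 * (mc : ℤ)) - 1) ^ 2 =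
        9 * ((10 - 2 * (ma : ℤ)) ^ 2 + (10 - 2 * (mb : ℤ)) ^ 2 + (10 - 2 * (mc : ℤ)) ^ 2) →
      (10 - 2 * (ma : ℤ)) + (10 - 2 * (mb : ℤ)) + (10 - 2 * (mc : ℤ)) = -2 ∧
      (10 - 2 * (ma : ℤ)) ^ 2 + (10 - 2 * (mb : ℤ)) ^ 2 + (10 - 2 * (mc : ℤ)) ^ 2 = 12 := by
    decide
  have hV' : V = A + B + C - 1 := by linarith
  have h1 := key ma hma mb hmb mc hmc (by rw [← hA, ← hB, ← hC, ← hV']; exact E2)
  rw [← hA, ← hB, ← hC] at h1
  obtain ⟨hs, hQ⟩ := h1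
  have hV3 : V = -3 := by rw [hV', hs]; norm_num
  have hW' : W = 1 + X := by linarith
  have hZ' : Z = 2 - X := by
    have : 55 * Z = 55 * (2 - X) := by
      rw [hW', hs, hV3] at E4
      linarith
    linarith
  have hc' : (c : ℤ) = 3 * X ^ 2 - 2 * X + 27 := by
    rw [hc, hV3, hW', hZ']
    have : A ^ 2 + B ^ 2 + C ^ 2 = 12 := hQ
    linarith [this, sq_nonneg X]
  have hz1 : (c : ℤ) ∣ 7920 := by exact_mod_cast hc1
  have hz5 : ¬ (5 : ℤ) ∣ (c : ℤ) := by exact_mod_cast hc5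
  subst hX
  interval_cases mx <;> norm_num at hc' <;> rw [hc'] at hz1 hz5 <;> omega

end arith

end Cfsg.Agent.Lib.Helper4.M11
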