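import Cfsg.Agent.Lib.Helper4.Leech
import Cfsg.Agent.Lib.Helper9.GolayQR4

set_option autoImplicit false

namespace Cfsg.Agent.Lib.Helper4.Leech2

open Cfsg Finset
open Cfsg.Agent.Lib.Helper9.Golay1 Cfsg.Agent.Lib.Helper4.Leech

theorem card_cases (s : Finset GolayPt) (hs : ind s ∈ golayCode) :
    s.card = 0 ∨ s.card = 8 ∨ s.card = 12 ∨ s.card = 16 ∨ s.card = 24 := by
  have := Cfsg.Agent.Lib.Helper9.GolayQR4.weight_values (ind s) hs
  rwa [wt_ind] at this

theorem card_dvd4 (s : Finset GolayPt) (hs : ind s ∈ golayCode) : 4 ∣ s.card := by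
  rcases card_cases s hs with h | h | h | h | h <;> rw [h] <;> decide

theorem inter_even (s t : Finset GolayPt) (hs : ind s ∈ golayCode) (ht : ind t ∈ golayCode) :
    2 ∣ (s ∩ t).card := by
  have := even_inter_of_dot_eq_zero (ind s) (ind t)
    (Cfsg.Agent.Lib.Helper9.GolayQR4.self_orth _ _ hs ht)
  rwa [supp_ind, supp_ind] at this

theorem card_ge_eight (s : Finset GolayPt) (hs : ind s ∈ golayCode) (hne : s ≠ ∅) :
    8 ≤ s.card := by
  rcases card_cases s hs with h | h | h | h | h
  · exact absurd (Finset.card_eq_zero.mp h) hne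
  all_goals omega

/-- Sum of an indicator-valued function over a finset. -/
theorem sum_ite_mem_const (c A : Finset GolayPt) (a b : ℤ) :
    ∑ i ∈ c, (if i ∈ A then a else b) = a * ((c ∩ A).card : ℤ) + b * ((c \ A).card : ℤ) := by
  rw [Finset.sum_ite, Finset.sum_const, Finset.sum_const]
  have h1 : (c.filter fun i => i ∈ A) = c ∩ A := by
    ext i; simp
  have h2 : (c.filter fun i => i ∉ A) = c \ A := by
    ext i; simp
  rw [h1, h2]
  simp only [nsmul_eq_mul]
  ring

end Cfsg.Agent.Lib.Helper4.Leech2
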