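import Cfsg.Agent.Lib.Helper4.HP3

/-! Hall–Petrescu without nilpotency hypothesis, for exponents below a bound. -/
set_option autoImplicit false
universe u
open scoped commutatorElement

namespace Cfsg.Agent.Lib.Helper4.HP

variable {G : Type u} [Group G] {Γ : ℕ → Subgroup G}

/-- Hall–Petrescu for `n < k + 2`, with no termination hypothesis on the filtration. -/
theorem hall_petrescu_lt (hF : Filt Γ) (k : ℕ) (x y : G) (hx : x ∈ Γ 1) (hy : y ∈ Γ 1) :
    ∃ a : ℕ → G, (∀ j, a j ∈ Γ j) ∧ a 0 = 1 ∧ a 1 = 1 ∧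
      ∀ n, n < k + 2 → x ^ n * y ^ n = (x * y) ^ n * tay a (k + 2) n := by
  have hu : Poly Γ ((fun n => (x * y) ^ n)⁻¹ * ((fun n => x ^ n) * (fun n => y ^ n))) :=
    ((poly_pow hF.anti (x * y) (mul_mem hx hy)).inv hF).mul hF
      ((poly_pow hF.anti x hx).mul hF (poly_pow hF.anti y hy))
  obtain ⟨a, ha, w, _, hw0, hau⟩ := taylor_aux hF _ hu (k + 2)
  have h0 := hau 0
  have h1 := hau 1
  rw [tay_zero_right, hw0 0 (by omega), mul_one] at h0
  rw [tay_one_right, hw0 1 (by omega), mul_one] at h1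
  simp only [Pi.mul_apply, Pi.inv_apply, pow_zero, inv_one, mul_one] at h0
  simp only [Pi.mul_apply, Pi.inv_apply, pow_one, inv_mul_cancel, ← h0, one_mul] at h1
  refine ⟨a, ha, h0.symm, h1.symm, fun n hn => ?_⟩
  have h2 := hau n
  rw [hw0 n hn, mul_one] at h2
  rw [← h2]
  simp only [Pi.mul_apply, Pi.inv_apply]
  group

/-- the `p`-th power case for the lower central filtration of a subgroup. -/
theorem hall_petrescu_p (H : Subgroup G) (p : ℕ) (hp : 1 ≤ p) (a b : G) (ha : a ∈ H) (hb : b ∈ H) :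
    ∃ c : ℕ → G, (∀ j, c j ∈ lcsF H j) ∧ c 0 = 1 ∧ c 1 = 1 ∧
      a ^ p * b ^ p = (a * b) ^ p * (tay c p p * c p) := by
  obtain ⟨k, hk⟩ : ∃ k, p = k + 1 := ⟨p - 1, by omega⟩
  obtain ⟨c, hc, hc0, hc1, h⟩ := hall_petrescu_lt (lcsF_filt H) k a b ha hb
  refine ⟨c, hc, hc0, hc1, ?_⟩
  have := h p (by omega)
  rw [this, show k + 2 = p + 1 by omega, tay, Nat.choose_self, pow_one]

end Cfsg.Agent.Lib.Helper4.HP
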