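import Mathlib
import Cfsg.Agent.Lib.Helper8.CSGDefs

/-! S4257 pieces P1 + P2 (helper8 farm): coprime class sizes give `G = C(x) C(y)`; arithmetic of class sizes. -/

set_option autoImplicit false
set_option maxHeartbeats 4000000
set_option linter.unusedVariables false
set_option linter.unusedSectionVars false
set_option linter.style.longLine false

namespace Cfsg.Agent.Lib.Helper8.CSG

variable {G : Type*} [Group G] [Finite G]

/-- coprime indices: the index of the intersection is the product -/
theorem csg_index_inf {H K : Subgroup G} (hco : H.index.Coprime K.index) :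
    (K ⊓ H).index = H.index * K.index := by
  have h1 : H.index ∣ (K ⊓ H).index := Subgroup.index_dvd_of_le inf_le_right
  have h2 : K.index ∣ (K ⊓ H).index := Subgroup.index_dvd_of_le inf_le_left
  have h3 : H.index * K.index ∣ (K ⊓ H).index := Nat.Coprime.mul_dvd_of_dvd_of_dvd hco h1 h2
  have h4 : (K ⊓ H).index ≤ K.index * H.index := Subgroup.index_inf_le
  have hpos : 0 < (K ⊓ H).index := Nat.pos_of_ne_zero Subgroup.index_ne_zero_of_finite
  have h5 := Nat.le_of_dvd hpos h3
  rw [mul_comm] at h4
  exact Nat.le_antisymm h4 h5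

/-- coprime indices: `G = H K` -/
theorem csg_prod_eq_top {H K : Subgroup G} (hco : H.index.Coprime K.index) (b : G) :
    ∃ h ∈ H, h⁻¹ * b ∈ K := by
  classical
  have hidx := csg_index_inf hco
  have hrel : K.relIndex H = K.index := by
    have h1 : (K ⊓ H).relIndex H * H.index = (K ⊓ H).index := Subgroup.relIndex_mul_index inf_le_right
    rw [Subgroup.inf_relIndex_right, hidx, mul_comm] at h1
    have hpos : 0 < H.index := Nat.pos_of_ne_zero Subgroup.index_ne_zero_of_finite
    exact Nat.eq_of_mul_eq_mul_left hpos h1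
  -- the map `H / (H ∩ K) → G / K`
  let f : ↥H ⧸ K.subgroupOf H → G ⧸ K :=
    Quotient.map' (fun h : ↥H => (h : G)) (by
      intro a c hac
      rw [QuotientGroup.leftRel_apply] at hac ⊢
      rw [Subgroup.mem_subgroupOf] at hac
      simpa using hac)
  have hf : ∀ h : ↥H, f (QuotientGroup.mk h) = QuotientGroup.mk (h : G) := fun h => rfl
  have hinj : Function.Injective f := by
    intro q1 q2
    induction q1 using QuotientGroup.induction_on with
    | H a =>
      induction q2 using QuotientGroup.induction_on with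
      | H c =>
        intro hac
        rw [hf, hf, QuotientGroup.eq] at hac
        rw [QuotientGroup.eq, Subgroup.mem_subgroupOf]
        simpa using hac
  have hcard : Nat.card (↥H ⧸ K.subgroupOf H) = Nat.card (G ⧸ K) := hrel
  haveI : Fintype (↥H ⧸ K.subgroupOf H) := Fintype.ofFinite _
  haveI : Fintype (G ⧸ K) := Fintype.ofFinite _
  have hbij : Function.Bijective f := by
    rw [Fintype.bijective_iff_injective_and_card]
    refine ⟨hinj, ?_⟩
    rw [← Nat.card_eq_fintype_card, ← Nat.card_eq_fintype_card, hcard]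
  obtain ⟨q, hq⟩ := hbij.2 (QuotientGroup.mk b)
  induction q using QuotientGroup.induction_on with
  | H h =>
    rw [hf, QuotientGroup.eq] at hq
    exact ⟨h, h.2, hq⟩

/-! ### P1 : coprime class sizes => simultaneous conjugation (G = C(x) C(y)) -/

theorem exists_conj_both {x y : G} (h : (idx x).Coprime (idx y)) (a b : G) :
    ∃ g : G, g * x * g⁻¹ = a * x * a⁻¹ ∧ g * y * g⁻¹ = b * y * b⁻¹ := by
  obtain ⟨c, hc, hk⟩ := csg_prod_eq_top (H := Subgroup.centralizer ({x} : Set G))
    (K := Subgroup.centralizer ({y} : Set G)) h (a⁻¹ * b)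
  rw [Subgroup.mem_centralizer_singleton_iff] at hc hk
  refine ⟨a * c, ?_, ?_⟩
  · calc a * c * x * (a * c)⁻¹ = a * (c * x) * c⁻¹ * a⁻¹ := by group
      _ = a * (x * c) * c⁻¹ * a⁻¹ := by rw [hc]
      _ = a * x * a⁻¹ := by group
  · -- `b = a c k` with `k = c⁻¹ a⁻¹ b` centralizing `y`
    have hk' : c⁻¹ * (a⁻¹ * b) * y * (c⁻¹ * (a⁻¹ * b))⁻¹ = y := by
      rw [hk]; group
    calc a * c * y * (a * c)⁻¹
        = a * c * (c⁻¹ * (a⁻¹ * b) * y * (c⁻¹ * (a⁻¹ * b))⁻¹) * (a * c)⁻¹ := by rw [hk']
      _ = b * y * b⁻¹ := by group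

/-! ### P2 : arithmetic of class sizes -/

theorem idx_mul_dvd {x y : G} (h : (idx x).Coprime (idx y)) : idx (x * y) ∣ idx x * idx y := by
  have hle : Subgroup.centralizer ({y} : Set G) ⊓ Subgroup.centralizer ({x} : Set G) ≤
      Subgroup.centralizer ({x * y} : Set G) := by
    intro g hg
    rw [Subgroup.mem_inf, Subgroup.mem_centralizer_singleton_iff,
      Subgroup.mem_centralizer_singleton_iff] at hg
    rw [Subgroup.mem_centralizer_singleton_iff]
    calc g * (x * y) = (g * x) * y := by group
      _ = x * (g * y) := by rw [hg.2]; group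
      _ = x * y * g := by rw [hg.1]; group
  have h1 := Subgroup.index_dvd_of_le hle
  have h2 := csg_index_inf (H := Subgroup.centralizer ({x} : Set G))
    (K := Subgroup.centralizer ({y} : Set G)) h
  rw [h2] at h1
  exact h1

theorem idx_le_idx_mul {x y : G} (h : (idx x).Coprime (idx y)) : idx y ≤ idx (x * y) := by
  classical
  -- a map `G / C(y) → G / C(x y)`
  have hch : ∀ b : G, ∃ g : G, g * x * g⁻¹ = x ∧ g * y * g⁻¹ = b * y * b⁻¹ := by
    intro b
    obtain ⟨g, hg1, hg2⟩ := exists_conj_both h 1 b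
    exact ⟨g, by simpa using hg1, hg2⟩
  choose φ hφ1 hφ2 using hch
  let f : G ⧸ Subgroup.centralizer ({y} : Set G) → G ⧸ Subgroup.centralizer ({x * y} : Set G) :=
    fun q => QuotientGroup.mk (φ q.out)
  have hinj : Function.Injective f := by
    intro q1 q2 hq
    have h1 : (QuotientGroup.mk (φ q1.out) : G ⧸ Subgroup.centralizer ({x * y} : Set G)) =
        QuotientGroup.mk (φ q2.out) := hq
    rw [QuotientGroup.eq, Subgroup.mem_centralizer_singleton_iff] at h1
    -- conjugates of `x y` agree
    have h2 : φ q1.out * (x * y) * (φ q1.out)⁻¹ = φ q2.out * (x * y) * (φ q2.out)⁻¹ := by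
      calc φ q1.out * (x * y) * (φ q1.out)⁻¹
          = φ q1.out * (((φ q1.out)⁻¹ * φ q2.out) * (x * y)) * (φ q2.out)⁻¹ := by
            rw [h1]; group
        _ = φ q2.out * (x * y) * (φ q2.out)⁻¹ := by group
    have e1 : ∀ q : G ⧸ Subgroup.centralizer ({y} : Set G),
        φ q.out * (x * y) * (φ q.out)⁻¹ = x * (q.out * y * q.out⁻¹) := by
      intro q
      calc φ q.out * (x * y) * (φ q.out)⁻¹
          = (φ q.out * x * (φ q.out)⁻¹) * (φ q.out * y * (φ q.out)⁻¹) := by group
        _ = x * (q.out * y * q.out⁻¹) := by rw [hφ1, hφ2]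
    rw [e1, e1] at h2
    have h3 : q1.out * y * q1.out⁻¹ = q2.out * y * q2.out⁻¹ := mul_left_cancel h2
    have h4 : (QuotientGroup.mk q1.out : G ⧸ Subgroup.centralizer ({y} : Set G)) =
        QuotientGroup.mk q2.out := by
      rw [QuotientGroup.eq, Subgroup.mem_centralizer_singleton_iff]
      calc q1.out⁻¹ * q2.out * y = q1.out⁻¹ * (q2.out * y * q2.out⁻¹) * q2.out := by group
        _ = q1.out⁻¹ * (q1.out * y * q1.out⁻¹) * q2.out := by rw [h3]
        _ = y * (q1.out⁻¹ * q2.out) := by group
    have h5 : ∀ q : G ⧸ Subgroup.centralizer ({y} : Set G), (QuotientGroup.mk q.out : G ⧸ _) = q :=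
      fun q => Quotient.out_eq' q
    rw [h5, h5] at h4
    exact h4
  exact Nat.card_le_card_of_injective f hinj

theorem idx_dvd_idx_mul_of_coprime_order {u w : G} (hc : Commute u w)
    (ho : (orderOf u).Coprime (orderOf w)) : idx u ∣ idx (u * w) ∧ idx w ∣ idx (u * w) := by
  obtain ⟨a, ha⟩ := exists_pow_eq_self_of_coprime (x := u) ho.symm
  obtain ⟨b, hb⟩ := exists_pow_eq_self_of_coprime (x := w) ho
  have hu' : (u * w) ^ (orderOf w * a) = u := by
    rw [pow_mul, hc.mul_pow, pow_orderOf_eq_one, mul_one, ha]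
  have hw' : (u * w) ^ (orderOf u * b) = w := by
    rw [pow_mul, hc.mul_pow, pow_orderOf_eq_one, one_mul, hb]
  have hpow : ∀ (z : G) (k : ℕ), Subgroup.centralizer ({z} : Set G) ≤
      Subgroup.centralizer ({z ^ k} : Set G) := by
    intro z k c hcz
    rw [Subgroup.mem_centralizer_singleton_iff] at hcz ⊢
    have h : Commute c z := hcz
    exact (h.pow_right k)
  constructor
  · have := hpow (u * w) (orderOf w * a)
    rw [hu'] at this
    exact Subgroup.index_dvd_of_le this
  · have := hpow (u * w) (orderOf u * b)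
    rw [hw'] at this
    exact Subgroup.index_dvd_of_le this

end Cfsg.Agent.Lib.Helper8.CSG
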