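import Mathlib
import Cfsg.Agent.Lib.Helper3.NMDefs
import Cfsg.Agent.Lib.Helper4.CSGConj
import Cfsg.Agent.Lib.Helper7.IT1
import Cfsg.Agent.Lib.Helper9.CSGPow
import Cfsg.Agent.Lib.Helper1.PSGBasicA
import Cfsg.Agent.Lib.Helper8.CSGAsym

/-! S4146 pieces P7 + P8 (helper3 farm): `L = {idx ∣ n}` is a normal subgroup when `n < m`, and it is
abelian in scenario CC. -/

set_option autoImplicit false
set_option maxHeartbeats 4000000
set_option linter.unusedVariables false
set_option linter.unusedSectionVars false
set_option linter.style.longLine false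

namespace Cfsg.Agent.Lib.Helper3.NM

open Cfsg.Agent.Lib.Helper8.CSG Cfsg.Agent.Lib.Helper1.PSG

variable {G : Type*} [Group G] [Finite G]

theorem h4_idx_one : idx (1 : G) = 1 :=
  h8_idx_eq_one_of_mem_center (Subgroup.one_mem _)

theorem h4_idx_central_mul {z u : G} (hz : z ∈ Subgroup.center G) : idx (z * u) = idx u := by
  have h1 : z * u = u * z := (Subgroup.mem_center_iff.1 hz u).symm
  rw [h1, idx_mul_central hz]

/-! ## P7 : `L` is a normal subgroup when `n < m` -/

theorem exists_L {n m : ℕ} (h : Hyp G n m) (hlt : n < m) :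
    ∃ L : Subgroup G, L.Normal ∧ IsL L n := by
  have hn0 : 0 < n := lt_trans Nat.zero_lt_one h.hn
  have hmul : ∀ a b : G, (idx a = 1 ∨ idx a = n) → (idx b = 1 ∨ idx b = n) →
      (idx (a * b) = 1 ∨ idx (a * b) = n) := by
    intro a b ha hb
    rcases ha with ha | ha
    · rw [h4_idx_central_mul (h8_mem_center_of_idx_eq_one ha)]
      exact hb
    rcases hb with hb | hb
    · rw [idx_mul_central (h8_mem_center_of_idx_eq_one hb)]
      exact Or.inr ha
    -- both of class size `n`
    have hle : idx (a * b) ≤ n * n := by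
      have h1 : Subgroup.centralizer ({b} : Set G) ⊓ Subgroup.centralizer ({a} : Set G) ≤
          Subgroup.centralizer ({a * b} : Set G) := by
        intro g hg
        rw [Subgroup.mem_inf, Subgroup.mem_centralizer_singleton_iff,
          Subgroup.mem_centralizer_singleton_iff] at hg
        rw [Subgroup.mem_centralizer_singleton_iff]
        rw [← mul_assoc, hg.2, mul_assoc, hg.1, mul_assoc]
      have h2 : idx (a * b) ∣ (Subgroup.centralizer ({b} : Set G) ⊓
          Subgroup.centralizer ({a} : Set G)).index := Subgroup.index_dvd_of_le h1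
      have h3 : (Subgroup.centralizer ({b} : Set G) ⊓
          Subgroup.centralizer ({a} : Set G)).index ≤ n * n := by
        have := Subgroup.index_inf_le (H := Subgroup.centralizer ({b} : Set G))
          (K := Subgroup.centralizer ({a} : Set G))
        rw [show (Subgroup.centralizer ({b} : Set G)).index = n from hb,
          show (Subgroup.centralizer ({a} : Set G)).index = n from ha] at this
        exact this
      exact le_trans (Nat.le_of_dvd (Nat.pos_of_ne_zero Subgroup.index_ne_zero_of_finite) h2) h3
    have hlt2 : n * n < n * m := Nat.mul_lt_mul_of_pos_left hlt hn0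
    rcases h.mem (a * b) with h1 | h1 | h1 | h1
    · exact Or.inl h1
    · exact Or.inr h1
    · exfalso
      -- `idx (a * b) = m`
      have hco : (idx a⁻¹).Coprime (idx (a * b)) := by
        rw [idx_inv, ha, h1]
        exact h.cop
      have h2 := idx_le_idx_mul hco
      rw [inv_mul_cancel_left, h1, hb] at h2
      omega
    · exfalso
      rw [h1] at hle
      omega
  let L : Subgroup G :=
    { carrier := {g | idx g = 1 ∨ idx g = n}
      mul_mem' := fun {a b} ha hb => hmul a b ha hb
      one_mem' := Or.inl h4_idx_one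
      inv_mem' := fun {a} ha => by
        show idx a⁻¹ = 1 ∨ idx a⁻¹ = n
        rw [idx_inv]
        exact ha }
  refine ⟨L, ⟨?_⟩, fun g => Iff.rfl⟩
  intro x hx g
  show idx (g * x * g⁻¹) = 1 ∨ idx (g * x * g⁻¹) = n
  rw [idx_conj]
  exact hx

/-! ## P8 : in scenario CC the subgroup `L` is abelian -/

theorem L_comm {n m : ℕ} (h : Hyp G n m) (hc : CC G n m) (L : Subgroup G) [L.Normal]
    (hL : IsL L n) : ∀ a ∈ L, ∀ b ∈ L, a * b = b * a := by
  intro a ha b hb
  have hrel : (Subgroup.centralizer ({a} : Set G)).relIndex L = 1 := by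
    by_contra hne
    obtain ⟨t, ht, htr⟩ := Nat.exists_prime_and_dvd hne
    have h1 : (Subgroup.centralizer ({a} : Set G)).relIndex L ∣ idx a :=
      h9_csg_relIndex_dvd_index (Subgroup.centralizer ({a} : Set G)) L
    have h2 : (Subgroup.centralizer ({a} : Set G)).relIndex L ∣ n := by
      rcases (hL a).1 ha with h3 | h3
      · rw [h3] at h1
        exact absurd (Nat.dvd_one.1 h1) hne
      · rw [h3] at h1
        exact h1
    have h4 : (Subgroup.centralizer ({a} : Set G)).relIndex L ∣ (Subgroup.center G).relIndex L :=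
      Subgroup.relIndex_dvd_of_le_left L (Subgroup.center_le_centralizer _)
    obtain ⟨g, hgL, hgZ, k, hk⟩ := Cfsg.Agent.Lib.Helper7.IT.exists_q_elt ht (dvd_trans htr h4)
    have hgn : idx g = n := by
      rcases (hL g).1 hgL with h5 | h5
      · exact absurd (h8_mem_center_of_idx_eq_one h5) hgZ
      · exact h5
    have hpe : PElt t g := ⟨k, by rw [← hk, pow_orderOf_eq_one]⟩
    exact hc.c1 t g ht hpe hgn (dvd_trans htr h2)
  have hle : L ≤ Subgroup.centralizer ({a} : Set G) := Subgroup.relIndex_eq_one.1 hrel
  have h6 := hle hb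
  rw [Subgroup.mem_centralizer_singleton_iff] at h6
  exact h6.symm

end Cfsg.Agent.Lib.Helper3.NM
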