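import Mathlib
import Cfsg.Agent.Lib.Helper3.NMDefs
import Cfsg.Agent.Lib.Helper9.NMBasic
import Cfsg.Agent.Lib.Helper9.PSGBasicB
import Cfsg.Agent.Lib.Helper1.PSGBasicA
import Cfsg.Agent.Lib.Helper8.CSGAsym
import Cfsg.Agent.Lib.Helper7.NMCentL

/-! S4146 piece P11 (helper3 farm): prime-power elements of `C(y) ∩ C(w)` in the non-commuting
case. -/

set_option autoImplicit false
set_option maxHeartbeats 4000000
set_option linter.unusedVariables false
set_option linter.unusedSectionVars false
set_option linter.style.longLine false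

namespace Cfsg.Agent.Lib.Helper3.NM

open Cfsg.Agent.Lib.Helper8.CSG Cfsg.Agent.Lib.Helper1.PSG

variable {G : Type*} [Group G] [Finite G]

/-- a prime different from `r` does not divide the order of an `r`-element -/
theorem h4_not_dvd_orderOf_pelt {r s : ℕ} (hr : r.Prime) (hs : s.Prime) (hsr : s ≠ r) {y : G}
    (hy : PElt r y) : ¬ s ∣ orderOf y := by
  obtain ⟨k, hk⟩ := hy
  intro hdvd
  have h1 : s ∣ r ^ k := dvd_trans hdvd (orderOf_dvd_of_pow_eq_one hk)
  have h2 : s ∣ r := hs.dvd_of_dvd_pow h1
  exact hsr ((Nat.prime_dvd_prime_iff_eq hs hr).1 h2)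

/-- an element commuting with `w` commutes with every power of `w` -/
theorem h4_commute_of_mem_zpowers {d w v : G} (hdw : Commute d w) (hv : v ∈ Subgroup.zpowers w) :
    Commute d v := by
  obtain ⟨k, rfl⟩ := Subgroup.mem_zpowers_iff.1 hv
  exact hdw.zpow_right k

/-! ## P11 : prime-power elements of `C(y) ∩ C(w)` in the non-commuting case -/

theorem caseB_elts {n m : ℕ} (h : Hyp G n m) (hlt : n < m) (hc : CC G n m)
    (L : Subgroup G) [L.Normal] (hL : IsL L n) {r : ℕ} (hr : r.Prime) {y : G} (hy : PElt r y)
    (hym : idx y = m) {w : G} (hw : idx w = n) (hnc : w * y ≠ y * w)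
    {s : ℕ} (hs : s.Prime) {d : G} (hd : PElt s d) (hdy : Commute d y) (hdw : Commute d w)
    (hdZ : d ∉ Subgroup.center G) : idx d = m ∧ ∀ x ∈ L, x * d = d * x := by
  have hn1 := h.hn
  have hm1 := h.hm
  have hP10 := cent_L_eq_center h hlt hc L hL hr hy hym hw hnc
  -- `d ∉ L`
  have hdL : d ∉ L := fun hdL => hdZ (hP10 d hdL hdy.eq)
  have hdidx : idx d = m ∨ idx d = n * m := by
    rcases h.mem d with h1 | h1 | h1 | h1
    · exact absurd ((hL d).2 (Or.inl h1)) hdL
    · exact absurd ((hL d).2 (Or.inr h1)) hdL
    · exact Or.inl h1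
    · exact Or.inr h1
  -- `y` is not central
  have hyZ : y ∉ Subgroup.center G := by
    intro hz
    have := h8_idx_eq_one_of_mem_center hz
    omega
  have hrm : ¬ r ∣ m := hc.c2 r y hr hy hym
  have hrn : r ∣ n := by
    by_contra hrn
    exact hyZ (mem_center_of_pelt h hr hrn hrm hy)
  have hdm : idx d = m := by
    rcases hdidx with h1 | h1
    · exact h1
    exfalso
    by_cases hsr : s = r
    · subst hsr
      haveI : Fact s.Prime := ⟨hs⟩
      obtain ⟨u, v, hwuv, huv, hu, hv, huz, hvz, _⟩ := exists_decomp s w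
      have hud : idx u ∣ n := by
        rw [← hw]
        exact idx_dvd_of_mem_zpowers huz
      have hu1 : idx u = 1 := by
        rcases idx_of_dvd_left h hud with h2 | h2
        · exact h2
        · exact absurd hrn (hc.c1 s u hr hu h2)
      have huZ : u ∈ Subgroup.center G := h8_mem_center_of_idx_eq_one hu1
      have hdv : Commute d v := h4_commute_of_mem_zpowers hdw hvz
      have hle := cent_le_of_max h hr hd h1 hdv hv
      have hyd : y ∈ Subgroup.centralizer ({d} : Set G) := by
        rw [Subgroup.mem_centralizer_singleton_iff]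
        exact hdy.eq.symm
      have hyv := hle hyd
      rw [Subgroup.mem_centralizer_singleton_iff] at hyv
      apply hnc
      have huy : y * u = u * y := Subgroup.mem_center_iff.1 huZ y
      calc w * y = u * v * y := by rw [← hwuv]
        _ = u * (v * y) := by rw [mul_assoc]
        _ = u * (y * v) := by rw [hyv]
        _ = (u * y) * v := by rw [mul_assoc]
        _ = (y * u) * v := by rw [huy]
        _ = y * (u * v) := by rw [mul_assoc]
        _ = y * w := by rw [← hwuv]
    · have hle := cent_le_of_max h hs hd h1 hdy (h4_not_dvd_orderOf_pelt hr hs hsr hy)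
      have hwd : w ∈ Subgroup.centralizer ({d} : Set G) := by
        rw [Subgroup.mem_centralizer_singleton_iff]
        exact hdw.eq.symm
      have hwy := hle hwd
      rw [Subgroup.mem_centralizer_singleton_iff] at hwy
      exact hnc hwy
  refine ⟨hdm, ?_⟩
  intro x hxL
  by_contra hxd
  have hxn : idx x = n := by
    rcases (hL x).1 hxL with h2 | h2
    · exfalso
      exact hxd (Subgroup.mem_center_iff.1 (h8_mem_center_of_idx_eq_one h2) d).symm
    · exact h2
  have hP10' := cent_L_eq_center h hlt hc L hL hs hd hdm hxn hxd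
  have hwL : w ∈ L := (hL w).2 (Or.inr hw)
  have hwZ := hP10' w hwL hdw.eq.symm
  have := h8_idx_eq_one_of_mem_center hwZ
  omega

end Cfsg.Agent.Lib.Helper3.NM
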