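import Mathlib
import Cfsg.Agent.Lib.Helper1.PSGDefs

/-! S4321 piece P3 (helper1 farm): the negation of the conclusion gives `Far`. -/

set_option autoImplicit false
set_option linter.unusedVariables false
set_option linter.unusedSectionVars false
set_option linter.style.longLine false

namespace Cfsg.Agent.Lib.Helper1.PSG

open Cfsg.Agent.Lib.Helper8.CSG

variable {G : Type*} [Group G]

theorem h4_prime_mul_dvd {a b n : ℕ} (ha : a.Prime) (hb : b.Prime) (hab : a ≠ b) (h1 : a ∣ n)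
    (h2 : b ∣ n) : a * b ∣ n :=
  Nat.Coprime.mul_dvd_of_dvd_of_dvd ((Nat.coprime_primes ha hb).2 hab) h1 h2

/-! ### P3 (PSGFar): the negation of the conclusion gives `Far` -/

theorem far_of_not (p r s : ℕ) (hr : r.Prime) (hs : s.Prime) (hrs : r ≠ s)
    (hcon : ¬ ((∃ x : G, p ∣ orderOf x ∧ r * s ∣ idx x) ∨
      (∃ t : ℕ, (t.Prime ∧ ∃ x : G, p ∣ orderOf x ∧ t ∣ idx x) ∧ t ≠ r ∧ t ≠ s ∧
        (∃ x : G, p ∣ orderOf x ∧ r * t ∣ idx x) ∧ (∃ x : G, p ∣ orderOf x ∧ t * s ∣ idx x)) ∨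
      (∃ t u : ℕ, (t.Prime ∧ ∃ x : G, p ∣ orderOf x ∧ t ∣ idx x) ∧
        (u.Prime ∧ ∃ x : G, p ∣ orderOf x ∧ u ∣ idx x) ∧ t ≠ r ∧ u ≠ s ∧ t ≠ u ∧
        (∃ x : G, p ∣ orderOf x ∧ r * t ∣ idx x) ∧ (∃ x : G, p ∣ orderOf x ∧ t * u ∣ idx x) ∧
        (∃ x : G, p ∣ orderOf x ∧ u * s ∣ idx x)))) : Far G p r s := by
  intro x hx hrx y hy hsy w hw t t' ht ht' htx htw ht'y ht'w
  apply hcon
  by_cases h1 : t = r
  · subst h1
    by_cases h2 : t' = s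
    · subst h2
      exact Or.inl ⟨w, hw, h4_prime_mul_dvd hr hs hrs htw ht'w⟩
    · by_cases h3 : t' = t
      · subst h3
        exact Or.inl ⟨y, hy, h4_prime_mul_dvd hr hs hrs ht'y hsy⟩
      · exact Or.inr (Or.inl ⟨t', ⟨ht', w, hw, ht'w⟩, h3, h2,
          ⟨w, hw, h4_prime_mul_dvd hr ht' (Ne.symm h3) htw ht'w⟩,
          ⟨y, hy, h4_prime_mul_dvd ht' hs h2 ht'y hsy⟩⟩)
  · by_cases h2 : t' = s
    · subst h2
      by_cases h3 : t = t'
      · subst h3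
        exact Or.inl ⟨x, hx, h4_prime_mul_dvd hr hs hrs hrx htx⟩
      · exact Or.inr (Or.inl ⟨t, ⟨ht, x, hx, htx⟩, h1, h3,
          ⟨x, hx, h4_prime_mul_dvd hr ht (Ne.symm h1) hrx htx⟩,
          ⟨w, hw, h4_prime_mul_dvd ht hs h3 htw ht'w⟩⟩)
    · by_cases h3 : t = s
      · subst h3
        exact Or.inl ⟨x, hx, h4_prime_mul_dvd hr hs hrs hrx htx⟩
      · by_cases h4 : t' = r
        · subst h4
          exact Or.inl ⟨y, hy, h4_prime_mul_dvd hr hs hrs ht'y hsy⟩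
        · by_cases h5 : t = t'
          · subst h5
            exact Or.inr (Or.inl ⟨t, ⟨ht, x, hx, htx⟩, h1, h3,
              ⟨x, hx, h4_prime_mul_dvd hr ht (Ne.symm h1) hrx htx⟩,
              ⟨y, hy, h4_prime_mul_dvd ht hs h3 ht'y hsy⟩⟩)
          · exact Or.inr (Or.inr ⟨t, t', ⟨ht, x, hx, htx⟩, ⟨ht', y, hy, ht'y⟩, h1, h2, h5,
              ⟨x, hx, h4_prime_mul_dvd hr ht (Ne.symm h1) hrx htx⟩,
              ⟨w, hw, h4_prime_mul_dvd ht ht' h5 htw ht'w⟩,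
              ⟨y, hy, h4_prime_mul_dvd ht' hs h2 ht'y hsy⟩⟩)

theorem far_symm {p r s : ℕ} (h : Far G p r s) : Far G p s r := by
  intro x hx hsx y hy hry w hw t t' ht ht' htx htw ht'y ht'w
  exact h y hy hry x hx hsx w hw t' t ht' ht ht'y ht'w htx htw

end Cfsg.Agent.Lib.Helper1.PSG
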