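import Mathlib
import Cfsg.Agent.Lib.Helper1.PSGDefs
import Cfsg.Agent.Lib.Helper9.CSGSylow

/-! S4321 piece P4c (helper1 farm): a `p`-singular `u` with `p ∤ idx u` whose `p`-regular
centralizer part is central makes `p` isolated. -/

set_option autoImplicit false
set_option linter.unusedVariables false
set_option linter.unusedSectionVars false
set_option linter.style.longLine false

namespace Cfsg.Agent.Lib.Helper1.PSG

open Cfsg.Agent.Lib.Helper8.CSG

variable {G : Type*} [Group G] [Finite G]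

/-! ### P4c (PSGStepC) -/

theorem iso_of_central {p : ℕ} [Fact p.Prime] {r s : ℕ} (hfar : Far G p r s) {u : G}
    (hu : p ∣ orderOf u) (hru : r ∣ idx u) (hpu : ¬ p ∣ idx u)
    (hcent : ∀ b : G, ¬ p ∣ orderOf b → Commute u b → b ∈ Subgroup.center G) {y : G}
    (hy : p ∣ orderOf y) (hsy : s ∣ idx y) (hs : s.Prime) : s = p ∧ Iso G p := by
  have hp : p.Prime := Fact.out
  -- (D7)
  have D7 : ∀ q : ℕ, q.Prime → q ≠ p → ∀ h : G, q ∣ idx h → q ∣ idx u := by
    intro q hq hqp h hqh
    by_contra hqu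
    refine Cfsg.Agent.Lib.Helper8.CSG.not_dvd_idx_of_central_elts hq hqu ?_ h hqh
    intro g hcomm hk
    obtain ⟨k, hk⟩ := hk
    refine hcent g ?_ hcomm
    intro hpg
    have h1 : p ∣ q ^ k := dvd_trans hpg (orderOf_dvd_of_pow_eq_one hk)
    have h2 : p ∣ q := hp.dvd_of_dvd_pow h1
    exact hqp ((Nat.prime_dvd_prime_iff_eq hp hq).1 h2).symm
  have hsp : s = p := by
    by_contra hsp
    have hsu : s ∣ idx u := D7 s hs hsp y hsy
    exact hfar u hu hru y hy hsy u hu s s hs hs hsu hsu hsy hsu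
  refine ⟨hsp, ?_⟩
  subst hsp
  intro g hg hpg t ht htg
  by_contra htp
  have htu : t ∣ idx u := D7 t ht htp g htg
  exact hfar u hu hru g hg hpg g hg t s ht hs htu htg hpg hpg

end Cfsg.Agent.Lib.Helper1.PSG
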