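import Cfsg.Agent.Lib.Helper1.QBDefs
import Cfsg.Agent.Lib.Helper1.Index

/-! S4125 GT farm, piece A1b: conjugacy classes and coprime indices. -/

set_option autoImplicit false

namespace Cfsg.Agent.Lib.Helper1.QB

open Cfsg

variable {G : Type*} [Group G] [Finite G]

theorem h4_qb_mem_centralizer {x c : G} : c ∈ Subgroup.centralizer ({x} : Set G) ↔ c * x = x * c := by
  rw [Subgroup.mem_centralizer_iff]
  constructor
  · intro h
    exact (h x (Set.mem_singleton x)).symm
  · intro h y hy
    rw [Set.mem_singleton_iff] at hy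
    rw [hy]
    exact h.symm

/-- L1 corollary: if `ind x = p^a` then every conjugate of `x` is a conjugate by an element of a given
Sylow `p`-subgroup. -/
theorem conj_by_sylow {p : ℕ} [Fact p.Prime] {x : G} {a : ℕ} (hx : ind x = p ^ a) (P : Sylow p G) (g : G) :
    ∃ u ∈ P, g * x * g⁻¹ = u * x * u⁻¹ := by
  have hp : p.Prime := Fact.out
  have hcop : (P : Subgroup G).index.Coprime (Subgroup.centralizer ({x} : Set G)).index := by
    have h1 : ¬ p ∣ (P : Subgroup G).index := P.not_dvd_index
    have h2 : (Subgroup.centralizer ({x} : Set G)).index = p ^ a := hx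
    rw [h2]
    exact Nat.Coprime.pow_right a ((Nat.Prime.coprime_iff_not_dvd hp).mpr h1).symm
  obtain ⟨u, hu, c, hc, rfl⟩ := Cfsg.Agent.Lib.Helper1.mul_eq_of_coprime_index _ _ hcop g
  refine ⟨u, hu, ?_⟩
  rw [h4_qb_mem_centralizer] at hc
  have h3 : c * x * c⁻¹ = x := by rw [hc, mul_inv_cancel_right]
  calc u * c * x * (u * c)⁻¹ = u * (c * x * c⁻¹) * u⁻¹ := by group
    _ = u * x * u⁻¹ := by rw [h3]

/-- class sizes in a quotient divide class sizes in the group -/
theorem ind_map_dvd (N : Subgroup G) [N.Normal] (x : G) : ind (QuotientGroup.mk' N x) ∣ ind x := by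
  have h1 : (Subgroup.centralizer ({x} : Set G)).map (QuotientGroup.mk' N) ≤
      Subgroup.centralizer ({QuotientGroup.mk' N x} : Set (G ⧸ N)) := by
    rintro _ ⟨c, hc, rfl⟩
    rw [SetLike.mem_coe, h4_qb_mem_centralizer] at hc
    rw [h4_qb_mem_centralizer, ← map_mul, ← map_mul, hc]
  have h2 := Subgroup.index_dvd_of_le h1
  have h3 := Subgroup.index_map_dvd (Subgroup.centralizer ({x} : Set G))
    (QuotientGroup.mk'_surjective N)
  exact h2.trans h3

/-- index coprime to `q`: the centralizer contains a Sylow `q`-subgroup -/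
theorem sylow_le_centralizer_of_coprime {q : ℕ} [Fact q.Prime] {x : G} (h : (ind x).Coprime q) :
    ∃ Q1 : Sylow q G, (Q1 : Subgroup G) ≤ Subgroup.centralizer {x} := by
  have hq : q.Prime := Fact.out
  set C := Subgroup.centralizer ({x} : Set G) with hC
  obtain ⟨S⟩ : Nonempty (Sylow q ↥C) := inferInstance
  have hS := S.card_eq_multiplicity
  have hfac : (Nat.card G).factorization q = (Nat.card ↥C).factorization q := by
    have h1 := Subgroup.card_mul_index C
    rw [← h1, Nat.factorization_mul Nat.card_pos.ne' Subgroup.index_ne_zero_of_finite]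
    have h2 : (C.index).factorization q = 0 := by
      apply Nat.factorization_eq_zero_of_not_dvd
      exact (Nat.Prime.coprime_iff_not_dvd hq).mp h.symm
    rw [Finsupp.add_apply, h2, add_zero]
  have hcard : Nat.card ↥((S : Subgroup ↥C).map C.subtype) = q ^ (Nat.card G).factorization q := by
    rw [Subgroup.card_map_of_injective C.subtype_injective, hS, hfac]
  refine ⟨Sylow.ofCard _ hcard, ?_⟩
  rintro _ ⟨y, _, rfl⟩
  exact y.2

/-- `C(y)` is transitive on the class of `x` when the indices are coprime -/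
theorem conj_by_centralizer {x y : G} (hcop : (ind x).Coprime (ind y)) (g : G) :
    ∃ c : G, c * y = y * c ∧ g * x * g⁻¹ = c * x * c⁻¹ := by
  have hcop' : (Subgroup.centralizer ({y} : Set G)).index.Coprime
      (Subgroup.centralizer ({x} : Set G)).index := hcop.symm
  obtain ⟨c, hc, d, hd, rfl⟩ := Cfsg.Agent.Lib.Helper1.mul_eq_of_coprime_index _ _ hcop' g
  rw [h4_qb_mem_centralizer] at hc hd
  refine ⟨c, hc, ?_⟩
  have h3 : d * x * d⁻¹ = x := by rw [hd, mul_inv_cancel_right]
  calc c * d * x * (c * d)⁻¹ = c * (d * x * d⁻¹) * c⁻¹ := by group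
    _ = c * x * c⁻¹ := by rw [h3]

/-- coprime indices, commuting: `(g x g⁻¹) y = c (x y) c⁻¹` with `c ∈ C(y)`. -/
theorem conj_mul_mem_class {x y : G} (hc : Commute x y) (hcop : (ind x).Coprime (ind y)) (g : G) :
    ∃ h : G, (g * x * g⁻¹) * y = h * (x * y) * h⁻¹ := by
  obtain ⟨c, hcy, hcx⟩ := conj_by_centralizer hcop g
  refine ⟨c, ?_⟩
  rw [hcx]
  have h1 : c⁻¹ * y = y * c⁻¹ := by
    rw [eq_mul_inv_iff_mul_eq, mul_assoc, ← hcy, inv_mul_cancel_left]
  calc c * x * c⁻¹ * y = c * x * (c⁻¹ * y) := by group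
    _ = c * x * (y * c⁻¹) := by rw [h1]
    _ = c * (x * y) * c⁻¹ := by group

theorem mul_conj_mem_class {x y : G} (hc : Commute x y) (hcop : (ind x).Coprime (ind y)) (g : G) :
    ∃ h : G, x * (g * y * g⁻¹) = h * (x * y) * h⁻¹ := by
  obtain ⟨c, hcx, hcy⟩ := conj_by_centralizer hcop.symm g
  refine ⟨c, ?_⟩
  rw [hcy]
  calc x * (c * y * c⁻¹) = (x * c) * y * c⁻¹ := by group
    _ = (c * x) * y * c⁻¹ := by rw [hcx]
    _ = c * (x * y) * c⁻¹ := by group

/-- `C(x) ∩ C(y) ≤ C(xy)` and the index of the intersection is the product (coprime) -/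
theorem ind_mul_dvd {x y : G} (hc : Commute x y) (hcop : (ind x).Coprime (ind y)) :
    ind (x * y) ∣ ind x * ind y := by
  have h1 : Subgroup.centralizer ({x} : Set G) ⊓ Subgroup.centralizer ({y} : Set G) ≤
      Subgroup.centralizer ({x * y} : Set G) := by
    intro c hc'
    rw [Subgroup.mem_inf, h4_qb_mem_centralizer, h4_qb_mem_centralizer] at hc'
    rw [h4_qb_mem_centralizer, ← mul_assoc, hc'.1, mul_assoc, hc'.2, mul_assoc]
  have h2 := Subgroup.index_dvd_of_le h1
  rw [Cfsg.Agent.Lib.Helper1.index_inf_of_coprime _ _ hcop] at h2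
  exact h2

end Cfsg.Agent.Lib.Helper1.QB
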