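import Cfsg.Agent.Lib.Helper1.QBDefs
import Cfsg.Agent.Lib.Helper9.PSGWielandt
import Cfsg.Agent.Lib.Helper2.Cores

/-! S4125 GT farm, piece A2: a `q`-element with `q`-power class size lies in `O_q(G)` (Wielandt). -/

set_option autoImplicit false

namespace Cfsg.Agent.Lib.Helper1.QB

open Cfsg

variable {G : Type*} [Group G] [Finite G]

theorem mem_pCore_of_ind_q {q : ℕ} [Fact q.Prime] {x : G} (hx : QElt q x) {a : ℕ} (hi : ind x = q ^ a) :
    x ∈ pCore q G := by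
  obtain ⟨k, hk⟩ := hx
  have h1 : Cfsg.Agent.Lib.Helper1.PSG.PElt q x := ⟨k, by rw [← hk]; exact pow_orderOf_eq_one x⟩
  obtain ⟨N, hN, hNp, hxN⟩ := Cfsg.Agent.Lib.Helper1.PSG.wielandt h1 ⟨a, hi⟩
  exact Cfsg.Agent.Lib.Helper2.le_pCore hNp hxN

end Cfsg.Agent.Lib.Helper1.QB
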