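import Cfsg.Agent.Lib.Helper1.QBDefs
import Cfsg.Agent.Lib.Helper1.QBA1
import Cfsg.Agent.Lib.Helper4.QBA1b
import Cfsg.Agent.Lib.Helper4.QBA2
import Cfsg.Agent.Lib.Helper2.Cores
import Cfsg.Agent.Lib.Helper2.QBA4
import Cfsg.Agent.Lib.Helper2.QBA5
import Cfsg.Agent.Lib.Helper7.QBB4
import Cfsg.Agent.Lib.Helper9.QBC2

/-! S4125 GT farm, piece B6: plan C5 (b)-(d). -/

set_option autoImplicit false

namespace Cfsg.Agent.Lib.Helper1.QB

open Cfsg

variable {G : Type*} [Group G] [Finite G]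

/-- an element `h` with `h Y h⁻¹ = T Y`, `T` commuting with `h`, satisfies `h^n Y h^-n = T^n Y` -/
theorem h4_qb_pow_conj {Γ : Type*} [Group Γ] (h Y T : Γ) (hT : h * T = T * h) (hY : h * Y * h⁻¹ = T * Y)
    (n : ℕ) : h ^ n * Y * (h ^ n)⁻¹ = T ^ n * Y := by
  induction n with
  | zero => simp
  | succ n ih =>
    have hTn : h * T ^ n * h⁻¹ = T ^ n := by
      have : Commute h (T ^ n) := (show Commute h T from hT).pow_right n
      rw [this.eq, mul_inv_cancel_right]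
    calc h ^ (n + 1) * Y * (h ^ (n + 1))⁻¹ = h * (h ^ n * Y * (h ^ n)⁻¹) * h⁻¹ := by
          rw [pow_succ']; group
      _ = h * (T ^ n * Y) * h⁻¹ := by rw [ih]
      _ = (h * T ^ n * h⁻¹) * (h * Y * h⁻¹) := by group
      _ = T ^ n * (T * Y) := by rw [hTn, hY]
      _ = T ^ (n + 1) * Y := by rw [pow_succ]; group

theorem caseI_q_contra {q p2 : ℕ} [Fact q.Prime] [Fact p2.Prime] (hB : Baer q G) (h2 : p2 ≠ q) {x y : G}
    (hx : QElt q x) (hy : QElt q y) (hc : Commute x y) {a b : ℕ} (hix : ind x = q ^ a) (hiy : ind y = p2 ^ b)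
    (hall : ∀ g h : G, Commute (g * x * g⁻¹) (h * y * h⁻¹))
    (hI : ∀ h : G, ∃ g : G, h * (x * y) * h⁻¹ = (g * x * g⁻¹) * y) : ind y = 1 := by
  have hq : q.Prime := Fact.out
  have hp2 : p2.Prime := Fact.out
  have hcopy : (ind y).Coprime q := by
    rw [hiy]
    exact Nat.Coprime.pow_left b ((Nat.coprime_primes hp2 hq).mpr h2)
  have hcop : (ind x).Coprime (ind y) := by
    rw [hix]
    exact Nat.Coprime.pow_left a hcopy.symm
  obtain ⟨H, hcompl, hcopH, hfix⟩ := quot_comm_fixed hB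
  rw [ind_eq_one_iff]
  intro g
  -- notation
  set K := pPrimeCore q G with hK
  set R := pCore q (G ⧸ K) with hR
  have hRn : R.Normal := inferInstance
  have hmemR : ∀ {z : G}, QElt q z → QuotientGroup.mk' K z ∈ R := by
    intro z hz
    have := qelt_mem_Lq hB hz
    exact this
  set Y := QuotientGroup.mk' K y with hYdef
  have hYR : Y ∈ R := hmemR hy
  have hYc : ∀ z ∈ R, Y * z = z * Y := map_central_of_ind_coprime hB hcopy
  -- decompose `mk g`
  obtain ⟨r, hr, h, hh, hrh⟩ : ∃ r ∈ R, ∃ h ∈ H, r * h = QuotientGroup.mk' K g := by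
    obtain ⟨⟨⟨r, hr⟩, ⟨h, hh⟩⟩, hrh, _⟩ := hcompl.existsUnique (QuotientGroup.mk' K g)
    exact ⟨r, hr, h, hh, hrh⟩
  -- `w = h Y h⁻¹` is central in `R`
  have hwR : h * Y * h⁻¹ ∈ R := hRn.conj_mem Y hYR h
  have hwc : ∀ z ∈ R, (h * Y * h⁻¹) * z = z * (h * Y * h⁻¹) := by
    intro z hz
    have hz' : h⁻¹ * z * h⁻¹⁻¹ ∈ R := hRn.conj_mem z hz h⁻¹
    have h1 := hYc _ hz'
    calc h * Y * h⁻¹ * z = h * (Y * (h⁻¹ * z * h⁻¹⁻¹)) * h⁻¹ := by group
      _ = h * ((h⁻¹ * z * h⁻¹⁻¹) * Y) * h⁻¹ := by rw [h1]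
      _ = z * (h * Y * h⁻¹) := by group
  -- the image of `t`
  set t := g * y * g⁻¹ * y⁻¹ with ht
  set T := QuotientGroup.mk' K t with hTdef
  have hT1 : T = h * Y * h⁻¹ * Y⁻¹ := by
    have h1 : QuotientGroup.mk' K (g * y * g⁻¹) = h * Y * h⁻¹ := by
      rw [map_mul, map_mul, map_inv, ← hrh]
      have h3 := hwc r⁻¹ (R.inv_mem hr)
      calc r * h * Y * (r * h)⁻¹ = r * ((h * Y * h⁻¹) * r⁻¹) := by group
        _ = r * (r⁻¹ * (h * Y * h⁻¹)) := by rw [h3]
        _ = h * Y * h⁻¹ := by group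
    rw [hTdef, ht, map_mul, h1, map_inv]
  have hTR : T ∈ R := by
    rw [hT1]
    exact R.mul_mem hwR (R.inv_mem hYR)
  have hTY : h * Y * h⁻¹ = T * Y := by
    rw [hT1]
    group
  -- `T` is a commutator of two elements of `R`, hence commutes with `h`
  have hTh : h * T = T * h := by
    obtain ⟨g', hg'⟩ := caseI_step hc hcop hI 1 g 1
    obtain ⟨Q0⟩ : Nonempty (Sylow q G) := inferInstance
    obtain ⟨u, hu, hug⟩ := conj_by_sylow hix Q0 g'
    have hxt : x * t = u * x * u⁻¹ := by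
      rw [← hug, ← hg', ht]
      group
    have ht2 : t = x⁻¹ * u * x⁻¹⁻¹ * u⁻¹ := by
      have : t = x⁻¹ * (x * t) := by group
      rw [this, hxt]
      group
    have hT2 : T = (QuotientGroup.mk' K x⁻¹) * (QuotientGroup.mk' K u) * (QuotientGroup.mk' K x⁻¹)⁻¹ *
        (QuotientGroup.mk' K u)⁻¹ := by
      rw [hTdef, ht2]
      simp only [map_mul, map_inv]
    have h1 : QuotientGroup.mk' K x⁻¹ ∈ R := hmemR (qelt_inv hx)
    have h2 : QuotientGroup.mk' K u ∈ R := hmemR (qelt_of_mem_pgroup (Q0 : Subgroup G) Q0.2 hu)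
    rw [hT2]
    exact hfix _ h1 _ h2 h hh
  -- `T ^ n = 1` with `n = orderOf h`
  have hpow := h4_qb_pow_conj h Y T hTh hTY (orderOf h)
  rw [pow_orderOf_eq_one, one_mul, inv_one, mul_one] at hpow
  have hTn : T ^ orderOf h = 1 := by
    have : T ^ orderOf h * Y = 1 * Y := by rw [one_mul, ← hpow]
    exact mul_right_cancel this
  have hTq : QElt q T := qelt_of_mem_pgroup R (Cfsg.Agent.Lib.Helper2.pCore_isPGroup q) hTR
  have hn : (orderOf h).Coprime q := by
    have h1 : orderOf h ∣ Nat.card H := Subgroup.orderOf_dvd_natCard H hh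
    exact Nat.Coprime.coprime_dvd_left h1 hcopH
  have hT0 : T = 1 := qelt_eq_one_of_coprime hTq hn hTn
  have htK : t ∈ K := by
    rw [hTdef, QuotientGroup.mk'_apply, QuotientGroup.eq_one_iff] at hT0
    exact hT0
  -- `t` is a `q`-element
  have htq : QElt q t := by
    have h1 : Commute (g * y * g⁻¹) (1 * y * 1⁻¹) := caseI_conj_commute hc hcop hall hI g 1
    rw [one_mul, inv_one, mul_one] at h1
    exact qelt_mul h1.inv_right (qelt_conj hy g) (qelt_inv hy)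
  have ht1 : t = 1 :=
    qelt_eq_one_of_mem_coprime htq K (Cfsg.Agent.Lib.Helper2.pPrimeCore_card_coprime q) htK
  rw [ht] at ht1
  exact mul_inv_eq_one.mp ht1

end Cfsg.Agent.Lib.Helper1.QB
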