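import Cfsg.Agent.Lib.Helper1.QBDefs
import Cfsg.Agent.Lib.Helper1.QBA1
import Cfsg.Agent.Lib.Helper4.QBA1b
import Cfsg.Agent.Lib.Helper2.Cores
import Cfsg.Agent.Lib.Helper2.QBA4
import Cfsg.Agent.Lib.Helper2.QBA5
import Cfsg.Agent.Lib.Helper8.QBE1
import Cfsg.Agent.Lib.Helper9.QBE2

/-! S4125 GT farm, piece E3: Part V, `G / O_{q'}(G)` is solvable. -/

set_option autoImplicit false
universe u

namespace Cfsg.Agent.Lib.Helper1.QB

open Cfsg

theorem partV {G : Type u} [Group G] [Finite G] {p q : ℕ} [Fact p.Prime] [Fact q.Prime] (hpq : p ≠ q)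
    (hall : ∀ x : G, QElt q x → ∃ a : ℕ, ind x = p ^ a)
    (hMS : ∀ (H' : Type u) [Group H'] [Finite H'] (V : Type u) [AddCommGroup V] [Finite V] [DistribMulAction H' V],
      (∃ n : ℕ, Nat.card V = q ^ n) → (Nat.card H').Coprime q →
      (∀ h : H', (∀ v : V, h • v = v) → h = 1) →
      (∀ v : V, ∃ a : ℕ, (MulAction.stabilizer H' v).index = p ^ a) → Group.IsSolvable H') :
    Group.IsSolvable (G ⧸ pPrimeCore q G) := by
  have hp : p.Prime := Fact.out
  have hq : q.Prime := Fact.out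
  have hB : Baer q G := by
    intro x hx
    obtain ⟨a, ha⟩ := hall x hx
    exact ⟨p, a, hp, ha⟩
  obtain ⟨Q⟩ : Nonempty (Sylow q G) := inferInstance
  set K := pPrimeCore q G with hK
  set R := pCore q (G ⧸ K) with hR
  have hRn : R.Normal := inferInstance
  have hmap : (Q : Subgroup G).map (QuotientGroup.mk' K) = R := map_sylow_eq hB Q
  have hcopx : ∀ x ∈ Q, (ind x).Coprime q := by
    intro x hx
    obtain ⟨a, ha⟩ := hall x (qelt_of_mem_pgroup (Q : Subgroup G) Q.2 hx)
    rw [ha]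
    exact Nat.Coprime.pow_left a ((Nat.coprime_primes hp hq).mpr hpq)
  have hRq : IsPGroup q R := Cfsg.Agent.Lib.Helper2.pCore_isPGroup q
  have hRab : ∀ a ∈ R, ∀ b ∈ R, a * b = b * a := by
    intro a ha b hb
    rw [← hmap] at ha hb
    obtain ⟨x, hx, rfl⟩ := ha
    obtain ⟨y, hy, rfl⟩ := hb
    rw [← map_mul, ← map_mul, central_of_ind_coprime hB Q hx (hcopx x hx) y hy]
  have hidx : R.index.Coprime q := quot_pCore_index_coprime hB
  obtain ⟨n, hn⟩ := hRq.exists_card_eq
  have hcopR : (Nat.card R).Coprime R.index := by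
    rw [hn]
    exact Nat.Coprime.pow_left n hidx.symm
  obtain ⟨H, hc⟩ := Subgroup.exists_right_complement'_of_coprime hcopR
  have hcardH : R.index = Nat.card H := hc.symm.index_eq_card
  have hcopH : (Nat.card H).Coprime q := by
    rw [← hcardH]
    exact hidx
  have hfaith := quot_faithful H hc hcopH
  have horb : ∀ z ∈ R, ∃ a : ℕ, ind z = p ^ a := by
    intro z hz
    rw [← hmap] at hz
    obtain ⟨x, hx, rfl⟩ := hz
    obtain ⟨a, ha⟩ := hall x (qelt_of_mem_pgroup (Q : Subgroup G) Q.2 hx)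
    have h1 := ind_map_dvd K x
    rw [ha] at h1
    obtain ⟨a', _, ha'⟩ := (Nat.dvd_prime_pow hp).mp h1
    exact ⟨a', ha'⟩
  have hHsol : Group.IsSolvable H :=
    solvable_of_complement R H hRq hRab hc hcopH hfaith horb hMS
  have hRsol : Group.IsSolvable R :=
    Group.isSolvable_of_comm (fun a b => Subtype.ext (hRab a a.2 b b.2))
  have hQsol : Group.IsSolvable ((G ⧸ K) ⧸ R) := by
    apply Group.isSolvable_of_surjective (f := (QuotientGroup.mk' R).comp H.subtype)
    intro z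
    obtain ⟨g, rfl⟩ := QuotientGroup.mk'_surjective R z
    obtain ⟨⟨⟨r, hr⟩, ⟨h, hh⟩⟩, hrh, _⟩ := hc.existsUnique g
    refine ⟨⟨h, hh⟩, ?_⟩
    simp only at hrh
    rw [MonoidHom.comp_apply, Subgroup.coe_subtype, ← hrh, QuotientGroup.mk'_apply,
      QuotientGroup.mk'_apply, QuotientGroup.eq]
    have : h⁻¹ * (r * h) = h⁻¹ * r * h⁻¹⁻¹ := by group
    rw [this]
    exact hRn.conj_mem r hr h⁻¹
  apply Group.isSolvable_of_ker_le_range R.subtype (QuotientGroup.mk' R)
  rw [QuotientGroup.ker_mk', Subgroup.range_subtype]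

end Cfsg.Agent.Lib.Helper1.QB
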