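import Mathlib
import Cfsg.Prelude.Def_KGroupFacts

/-!
Stem extensions, part 1: a finite group all of whose stem extensions with kernel of prime order are
excluded has no nontrivial finite stem extension at all; primes not dividing the order (Schur–Zassenhaus)
and primes whose square does not divide the order (transfer into an abelian Sylow subgroup) are excluded
for free.
-/

set_option autoImplicit false

namespace Cfsg.Agent.Lib.Helper4.Stem

open Cfsg
open scoped commutatorElement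

universe u

/-- `E` has no finite stem extension (in its own universe) with kernel of order `p`. -/
def NoStemPrime (E : Type u) [Group E] (p : ℕ) : Prop :=
  ∀ (Γ : Type u) [Group Γ] [Finite Γ] (σ : Γ →* E), IsStemExtension σ → Nat.card σ.ker ≠ p

theorem normal_of_le_center {Γ : Type*} [Group Γ] (Z : Subgroup Γ) (h : Z ≤ Subgroup.center Γ) :
    Z.Normal := by
  constructor
  intro n hn g
  have := Subgroup.mem_center_iff.1 (h hn) g
  have e : g * n * g⁻¹ = n := by rw [this]; group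
  rw [e]
  exact hn

/-- the quotient of a stem extension by a central subgroup of the kernel is a stem extension -/
theorem isStem_quotient {Γ E : Type*} [Group Γ] [Group E] (σ : Γ →* E) (hσ : IsStemExtension σ)
    (Z : Subgroup Γ) [Z.Normal] (hZ : Z ≤ σ.ker) :
    IsStemExtension (QuotientGroup.lift Z σ hZ) := by
  obtain ⟨hs, hc, hd⟩ := hσ
  have hker : ∀ x : Γ ⧸ Z, x ∈ (QuotientGroup.lift Z σ hZ).ker → ∃ g ∈ σ.ker, (g : Γ ⧸ Z) = x := by
    intro x hx
    obtain ⟨g, rfl⟩ := QuotientGroup.mk_surjective x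
    exact ⟨g, by rw [MonoidHom.mem_ker] at hx ⊢; simpa using hx, rfl⟩
  refine ⟨?_, ?_, ?_⟩
  · intro e
    obtain ⟨g, rfl⟩ := hs e
    exact ⟨(g : Γ ⧸ Z), by simp⟩
  · intro x hx
    obtain ⟨g, hg, rfl⟩ := hker x hx
    rw [Subgroup.mem_center_iff]
    intro y
    obtain ⟨h, rfl⟩ := QuotientGroup.mk_surjective y
    have := Subgroup.mem_center_iff.1 (hc hg) h
    rw [← QuotientGroup.mk_mul, ← QuotientGroup.mk_mul, this]
  · intro x hx
    obtain ⟨g, hg, rfl⟩ := hker x hx
    have h1 : (g : Γ ⧸ Z) ∈ (commutator Γ).map (QuotientGroup.mk' Z) := ⟨g, hd hg, rfl⟩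
    have h2 : (commutator Γ).map (QuotientGroup.mk' Z) ≤ commutator (Γ ⧸ Z) := by
      rw [commutator_def, Subgroup.map_commutator, commutator_def]
      exact Subgroup.commutator_mono le_top le_top
    exact h2 h1

theorem ker_eq_bot_aux (E : Type u) [Group E] [Finite E]
    (h : ∀ p, p.Prime → NoStemPrime E p) :
    ∀ (n : ℕ) (Γ : Type u) [Group Γ] [Finite Γ] (σ : Γ →* E), IsStemExtension σ → Nat.card Γ = n →
      σ.ker = ⊥ := by
  intro n
  induction n using Nat.strong_induction_on with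
  | _ n ih =>
    intro Γ _ _ σ hσ hn
    by_contra hne
    have hcard : Nat.card σ.ker ≠ 1 := by
      intro h1
      exact hne (Subgroup.card_eq_one.1 h1)
    obtain ⟨p, hp, hpd⟩ := Nat.exists_prime_and_dvd hcard
    have : Fact p.Prime := ⟨hp⟩
    obtain ⟨z, hz⟩ := exists_prime_orderOf_dvd_card' (G := σ.ker) p hpd
    have hzo : orderOf (z : Γ) = p := by rw [Subgroup.orderOf_coe]; exact hz
    let Z : Subgroup Γ := Subgroup.zpowers (z : Γ)
    have hZk : Z ≤ σ.ker := by
      rw [Subgroup.zpowers_le]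
      exact z.2
    have hZc : Z ≤ Subgroup.center Γ := le_trans hZk hσ.2.1
    have : Z.Normal := normal_of_le_center Z hZc
    have hZcard : Nat.card Z = p := by rw [Nat.card_zpowers, hzo]
    have hst := isStem_quotient σ hσ Z hZk
    have hlt : Nat.card (Γ ⧸ Z) < n := by
      have h1 := Subgroup.card_eq_card_quotient_mul_card_subgroup Z
      rw [hn, hZcard] at h1
      have hpos : 0 < Nat.card (Γ ⧸ Z) := Nat.card_pos
      have h2 : 2 ≤ p := hp.two_le
      nlinarith
    have hbot := ih _ hlt (Γ ⧸ Z) (QuotientGroup.lift Z σ hZk) hst rfl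
    have heq : σ.ker = Z := by
      apply le_antisymm _ hZk
      intro g hg
      have h1 : (g : Γ ⧸ Z) ∈ (QuotientGroup.lift Z σ hZk).ker := by
        rw [MonoidHom.mem_ker] at hg ⊢
        simpa using hg
      rw [hbot, Subgroup.mem_bot, QuotientGroup.eq_one_iff] at h1
      exact h1
    apply h p hp Γ σ hσ
    rw [heq, hZcard]

/-- Reduction to kernels of prime order. -/
theorem ker_eq_bot_of_noStemPrime (E : Type u) [Group E] [Finite E]
    (h : ∀ p, p.Prime → NoStemPrime E p) (Γ : Type u) [Group Γ] [Finite Γ] (σ : Γ →* E)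
    (hσ : IsStemExtension σ) : σ.ker = ⊥ :=
  ker_eq_bot_aux E h _ Γ σ hσ rfl

/-- the order of a stem extension -/
theorem card_eq_of_stem {Γ E : Type*} [Group Γ] [Group E] (σ : Γ →* E)
    (hs : Function.Surjective σ) : Nat.card Γ = Nat.card E * Nat.card σ.ker := by
  rw [Subgroup.card_eq_card_quotient_mul_card_subgroup σ.ker]
  congr 1
  exact Nat.card_congr (QuotientGroup.quotientKerEquivOfSurjective σ hs).toEquiv

theorem comm_mul_central_left {Γ : Type*} [Group Γ] (h n g : Γ) (hn : ∀ x, x * n = n * x) :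
    ⁅h * n, g⁆ = ⁅h, g⁆ := by
  rw [commutatorElement_def, commutatorElement_def]
  calc h * n * g * (h * n)⁻¹ * g⁻¹ = h * (n * g * n⁻¹) * h⁻¹ * g⁻¹ := by group
    _ = h * g * h⁻¹ * g⁻¹ := by rw [show n * g * n⁻¹ = g from by rw [← hn g]; group]

theorem comm_mul_central_right {Γ : Type*} [Group Γ] (h g n : Γ) (hn : ∀ x, x * n = n * x) :
    ⁅h, g * n⁆ = ⁅h, g⁆ := by
  rw [commutatorElement_def, commutatorElement_def]
  calc h * (g * n) * h⁻¹ * (g * n)⁻¹ = h * g * (n * h⁻¹ * n⁻¹) * g⁻¹ := by group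
    _ = h * g * h⁻¹ * g⁻¹ := by rw [show n * h⁻¹ * n⁻¹ = h⁻¹ from by rw [← hn h⁻¹]; group]

/-- Schur–Zassenhaus: primes not dividing the order. -/
theorem noStemPrime_of_not_dvd (E : Type u) [Group E] [Finite E] (p : ℕ) (hp : p.Prime)
    (hnd : ¬ p ∣ Nat.card E) : NoStemPrime E p := by
  intro Γ _ _ σ hσ hcard
  obtain ⟨hs, hc, hd⟩ := hσ
  have : σ.ker.Normal := inferInstance
  have hidx : σ.ker.index = Nat.card E := by
    rw [Subgroup.index_ker, MonoidHom.range_eq_top.2 hs, Subgroup.card_top]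
  have hcop : Nat.Coprime (Nat.card σ.ker) σ.ker.index := by
    rw [hcard, hidx]
    exact (Nat.Prime.coprime_iff_not_dvd hp).2 hnd
  obtain ⟨H, hH⟩ := Subgroup.exists_left_complement'_of_coprime hcop
  have hcomm : commutator Γ ≤ H := by
    rw [commutator_def, Subgroup.commutator_le]
    intro g₁ _ g₂ _
    obtain ⟨⟨⟨h₁, hh₁⟩, ⟨n₁, hn₁⟩⟩, e₁, _⟩ := hH.existsUnique g₁
    obtain ⟨⟨⟨h₂, hh₂⟩, ⟨n₂, hn₂⟩⟩, e₂, _⟩ := hH.existsUnique g₂
    simp only at e₁ e₂
    have c1 := Subgroup.mem_center_iff.1 (hc hn₁)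
    have c2 := Subgroup.mem_center_iff.1 (hc hn₂)
    have : ⁅g₁, g₂⁆ = ⁅h₁, h₂⁆ := by
      rw [← e₁, ← e₂, comm_mul_central_left _ _ _ c1, comm_mul_central_right _ _ _ c2]
    rw [this, commutatorElement_def]
    exact H.mul_mem (H.mul_mem (H.mul_mem hh₁ hh₂) (H.inv_mem hh₁)) (H.inv_mem hh₂)
  have hle : σ.ker ≤ H ⊓ σ.ker := le_inf (le_trans hd hcomm) le_rfl
  have hdisj : H ⊓ σ.ker = ⊥ := hH.disjoint.eq_bot
  rw [hdisj, le_bot_iff] at hle
  rw [hle, Subgroup.card_bot] at hcard
  exact hp.one_lt.ne hcard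

end Cfsg.Agent.Lib.Helper4.Stem
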