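import Mathlib
import Cfsg.Prelude.Def_KGroupFacts
import Cfsg.Agent.Lib.Helper4.StemLib1
import Cfsg.Agent.Lib.Helper2.SchurBasic
import Cfsg.Agent.Lib.Helper7.SM5

/-!
Stem extensions, part 2: transfer into an abelian Sylow subgroup (primes whose square does not divide the
order), and the Schur multiplier from a stem extension by a group without nontrivial stem extensions.
-/

set_option autoImplicit false

namespace Cfsg.Agent.Lib.Helper4.Stem

open Cfsg
open scoped commutatorElement

universe u v

/-- A central element of the commutator subgroup has order prime to `p` if the Sylow `p`-subgroups are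
abelian (transfer). -/
theorem pow_index_eq_one_of_abelian_sylow {Γ : Type*} [Group Γ] [Finite Γ] (P : Subgroup Γ)
    (hP : ∀ a b : P, a * b = b * a) (z : Γ) (hzc : z ∈ Subgroup.center Γ) (hzd : z ∈ commutator Γ) :
    z ^ P.index = 1 := by
  letI : CommGroup P := { (inferInstance : Group P) with mul_comm := hP }
  have key : ∀ (k : ℕ) (g₀ : Γ), g₀⁻¹ * z ^ k * g₀ ∈ P → g₀⁻¹ * z ^ k * g₀ = z ^ k := by
    intro k g₀ _
    have hc : z ^ k ∈ Subgroup.center Γ := Subgroup.pow_mem _ hzc k
    have := Subgroup.mem_center_iff.1 hc g₀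
    rw [mul_assoc, ← this, ← mul_assoc, inv_mul_cancel, one_mul]
  have h1 := MonoidHom.transfer_eq_pow (MonoidHom.id P) z key
  have h2 : MonoidHom.transfer (MonoidHom.id P) z = 1 := by
    have := Abelianization.commutator_subset_ker (MonoidHom.transfer (MonoidHom.id P)) hzd
    exact this
  rw [h2] at h1
  have := congrArg Subtype.val h1
  simpa using this.symm

/-- Primes whose square does not divide the order. -/
theorem noStemPrime_of_sq_not_dvd (E : Type u) [Group E] [Finite E] (p : ℕ) (hp : p.Prime)
    (hnd : ¬ p ^ 2 ∣ Nat.card E) : NoStemPrime E p := by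
  intro Γ _ _ σ hσ hcard
  obtain ⟨hs, hc, hd⟩ := hσ
  haveI : Fact p.Prime := ⟨hp⟩
  have hΓ : Nat.card Γ = Nat.card E * p := by rw [card_eq_of_stem σ hs, hcard]
  obtain ⟨P⟩ : Nonempty (Sylow p Γ) := inferInstance
  have hPc : Nat.card P = p ^ (Nat.card Γ).factorization p := P.card_eq_multiplicity
  have hE0 : Nat.card E ≠ 0 := Nat.card_pos.ne'
  have hfac : (Nat.card Γ).factorization p ≤ 2 := by
    rw [hΓ, Nat.factorization_mul hE0 hp.ne_zero, Finsupp.add_apply, hp.factorization_self]
    have : (Nat.card E).factorization p < 2 := by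
      by_contra hge
      push Not at hge
      exact hnd ((hp.pow_dvd_iff_le_factorization hE0).2 hge)
    omega
  have hab : ∀ a b : P, a * b = b * a := by
    rcases Nat.lt_or_ge ((Nat.card Γ).factorization p) 2 with h2 | h2
    · rcases Nat.lt_or_ge ((Nat.card Γ).factorization p) 1 with h1 | h1
      · have h0 : (Nat.card Γ).factorization p = 0 := by omega
        rw [h0, pow_zero] at hPc
        haveI : Subsingleton P := (Nat.card_eq_one_iff_unique.1 hPc).1
        intro a b
        rw [Subsingleton.elim a b]
      · have h1' : (Nat.card Γ).factorization p = 1 := by omega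
        rw [h1', pow_one] at hPc
        haveI : IsCyclic P := isCyclic_of_prime_card hPc
        intro a b
        exact (IsCyclic.commGroup (α := P)).mul_comm a b
    · have h2' : (Nat.card Γ).factorization p = 2 := by omega
      rw [h2'] at hPc
      exact (IsPGroup.isMulCommutative_of_card_eq_prime_sq hPc).is_comm.comm
  have hall : ∀ z ∈ σ.ker, z = 1 := by
    intro z hz
    have h1 := pow_index_eq_one_of_abelian_sylow (P : Subgroup Γ) hab z (hc hz) (hd hz)
    have h2 : z ^ p = 1 := by
      have := pow_card_eq_one' (G := σ.ker) (x := ⟨z, hz⟩)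
      rw [hcard] at this
      exact congrArg Subtype.val this
    have hcop : Nat.Coprime (P : Subgroup Γ).index p := by
      rw [Nat.coprime_comm]
      exact (Nat.Prime.coprime_iff_not_dvd hp).2 P.not_dvd_index
    have h3 := orderOf_dvd_of_pow_eq_one h1
    have h4 := orderOf_dvd_of_pow_eq_one h2
    have h5 : orderOf z ∣ 1 := by
      have := Nat.dvd_gcd h3 h4
      rwa [hcop] at this
    exact orderOf_eq_one_iff.1 (Nat.dvd_one.1 h5)
  have hbot : σ.ker = ⊥ := by
    rw [eq_bot_iff]
    intro z hz
    rw [Subgroup.mem_bot]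
    exact hall z hz
  rw [hbot, Subgroup.card_bot] at hcard
  exact hp.one_lt.ne hcard

/-- A finite group is free of nontrivial stem extensions once all prime kernels are excluded. -/
theorem trivialMultiplier_of_noStemPrime (E : Type u) [Group E] [Finite E]
    (h : ∀ p, p.Prime → NoStemPrime E p) : HasCyclicSchurMultiplier E 1 :=
  Cfsg.Agent.Lib.Helper2.hasCyclicSchurMultiplier_one_of_forall_ker_eq_bot E
    (fun Γ _ _ σ hσ => ker_eq_bot_of_noStemPrime E h Γ σ hσ)

/-- only the primes in a given list have to be treated by hand -/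
theorem noStemPrime_all (E : Type u) [Group E] [Finite E] (bad : List ℕ)
    (hbad : ∀ p ∈ bad, NoStemPrime E p)
    (hrest : ∀ p, p.Prime → p ∣ Nat.card E → p ^ 2 ∣ Nat.card E → p ∈ bad) :
    ∀ p, p.Prime → NoStemPrime E p := by
  intro p hp
  by_cases h1 : p ∣ Nat.card E
  · by_cases h2 : p ^ 2 ∣ Nat.card E
    · exact hbad p (hrest p hp h1 h2)
    · exact noStemPrime_of_sq_not_dvd E p hp h2
  · exact noStemPrime_of_not_dvd E p hp h1

/-- the primes whose square divides `n`, from a factorisation of `n` into primes -/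
theorem sq_dvd_mem_of_factors (n : ℕ) (L : List ℕ) (hL : L.prod = n) (hprime : ∀ q ∈ L, q.Prime)
    (bad : List ℕ) (h : ∀ q ∈ L, q ^ 2 ∣ n → q ∈ bad) :
    ∀ p, p.Prime → p ∣ n → p ^ 2 ∣ n → p ∈ bad := by
  intro p hp hd hsq
  rw [← hL] at hd
  obtain ⟨q, hq, hpq⟩ := (Prime.dvd_prod_iff hp.prime).1 hd
  have : p = q := (Nat.prime_dvd_prime_iff_eq hp (hprime q hq)).1 hpq
  subst this
  exact h p hq hsq

/-- The Schur multiplier of `G` from a stem extension `E → G` with `E` (in `Type`) free of stem
extensions with kernel of prime order. -/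
theorem hasSchurMultiplier_of_cover {G : Type u} [Group G] [Finite G] {A : Type v} [CommGroup A]
    (E : Type) [Group E] [Finite E] (τ : E →* G) (hτ : IsStemExtension τ) (e : τ.ker ≃* A)
    (hE : ∀ p, p.Prime → NoStemPrime E p) : HasSchurMultiplier G A := by
  have hΓ := trivialMultiplier_of_noStemPrime E hE
  constructor
  · let f : ULift.{u} E ≃* E := MulEquiv.ulift
    let σ : ULift.{u} E →* G := τ.comp f.toMonoidHom
    have hker : ∀ x : ULift.{u} E, x ∈ σ.ker ↔ f x ∈ τ.ker := by
      intro x
      rw [MonoidHom.mem_ker, MonoidHom.mem_ker]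
      rfl
    refine ⟨ULift.{u} E, inferInstance, inferInstance, σ, ⟨?_, ?_, ?_⟩, ⟨?_⟩⟩
    · intro g
      obtain ⟨x, rfl⟩ := hτ.1 g
      exact ⟨f.symm x, by show τ (f (f.symm x)) = τ x; rw [MulEquiv.apply_symm_apply]⟩
    · intro x hx
      rw [Subgroup.mem_center_iff]
      intro y
      have := Subgroup.mem_center_iff.1 (hτ.2.1 ((hker x).1 hx)) (f y)
      apply f.injective
      rw [map_mul, map_mul, this]
    · intro x hx
      have h1 := hτ.2.2 ((hker x).1 hx)
      have h2 : (commutator E).map f.symm.toMonoidHom ≤ commutator (ULift.{u} E) := by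
        rw [commutator_def, Subgroup.map_commutator, commutator_def]
        exact Subgroup.commutator_mono le_top le_top
      have h3 : x = f.symm.toMonoidHom (f x) := by simp
      rw [h3]
      exact h2 ⟨f x, h1, rfl⟩
    · refine MulEquiv.trans ?_ e
      exact
        { toFun := fun x => ⟨f x.1, (hker x.1).1 x.2⟩
          invFun := fun y => ⟨f.symm y.1, (hker _).2 (by rw [MulEquiv.apply_symm_apply]; exact y.2)⟩
          left_inv := fun x => by apply Subtype.ext; simp
          right_inv := fun y => by apply Subtype.ext; simp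
          map_mul' := fun x y => by apply Subtype.ext; simp }
  · intro Δ _ _ τ' hτ'
    obtain ⟨π, hπ⟩ := Cfsg.Agent.Lib.Helper7.SM.trivial_mult_cover τ hτ hΓ Δ τ' hτ'
    exact ⟨π.comp e.symm.toMonoidHom, hπ.comp e.symm.surjective⟩

end Cfsg.Agent.Lib.Helper4.Stem
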