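import Mathlib

/-!
Verified Todd–Coxeter logs, part 10: abstract lemmas for simplicity — a primitive faithful action, a prime
dividing the degree but not the order of the point stabiliser, and an element of that prime order whose
normal closure is everything.
-/

namespace Cfsg.Agent.Lib.Helper4.TC

open MulAction

/-- In a finite group acting faithfully and primitively on the cosets of `H`, if a prime `q` divides the
index of `H` but not its order, and `x ^ q = 1` with the normal closure of `x` everything, then the group is
simple. -/
theorem simple_of_primitive {G : Type*} [Group G] [Finite G] (H : Subgroup G)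
    (hprim : IsPreprimitive G (G ⧸ H))
    (hfaith : ∀ γ : G, (∀ c : G ⧸ H, γ • c = c) → γ = 1)
    (q : ℕ) (hq : q.Prime) (hqH : ¬ q ∣ Nat.card H)
    (x : G) (hx : x ^ q = 1) (hnc : Subgroup.normalClosure {x} = ⊤) (hnt : Nontrivial G) :
    IsSimpleGroup G := by
  refine { toNontrivial := hnt, eq_bot_or_eq_top_of_normal := ?_ }
  intro N hN
  by_cases hbot : N = ⊥
  · exact Or.inl hbot
  right
  -- N acts nontrivially
  have hfix : fixedPoints N (G ⧸ H) ≠ Set.univ := by
    intro h
    apply hbot
    rw [Subgroup.eq_bot_iff_forall]
    intro n hn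
    apply hfaith n
    intro c
    have : c ∈ fixedPoints N (G ⧸ H) := by rw [h]; trivial
    exact this ⟨n, hn⟩
  have htr : IsPretransitive N (G ⧸ H) := IsQuasiPreprimitive.isPretransitive_of_normal hfix
  -- the index divides the order of N
  have hdvd : H.index ∣ Nat.card N := by
    have h1 : (stabilizer N (((1 : G) : G ⧸ H))).index = Nat.card (G ⧸ H) :=
      MulAction.index_stabilizer_of_transitive N _
    have h2 : Nat.card (G ⧸ H) = H.index := rfl
    rw [← h2, ← h1]
    exact Subgroup.index_dvd_card _
  -- q does not divide the index of N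
  have hqN : ¬ q ∣ N.index := by
    intro hcon
    obtain ⟨s, hs⟩ := hdvd
    have e1 : N.index * Nat.card N = Nat.card G := N.index_mul_card
    have e2 : H.index * Nat.card H = Nat.card G := H.index_mul_card
    have hidx : 0 < H.index := Nat.pos_of_ne_zero Subgroup.index_ne_zero_of_finite
    have : N.index * s = Nat.card H := by
      have : H.index * (N.index * s) = H.index * Nat.card H := by
        rw [e2, ← e1, hs]; ring
      exact Nat.eq_of_mul_eq_mul_left hidx this
    exact hqH (this ▸ Dvd.dvd.mul_right hcon s)
  -- hence x lies in N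
  have hxN : x ∈ N := by
    have h1 : ((x : G) : G ⧸ N) ^ q = 1 := by
      rw [← QuotientGroup.mk_pow, hx]; rfl
    have h2 : ((x : G) : G ⧸ N) ^ N.index = 1 := by
      have : Nat.card (G ⧸ N) = N.index := rfl
      rw [← this]
      exact pow_card_eq_one'
    have hcop : Nat.Coprime q N.index := (Nat.Prime.coprime_iff_not_dvd hq).2 hqN
    have h3 : ((x : G) : G ⧸ N) = 1 := by
      have := pow_gcd_eq_one.2 ⟨h1, h2⟩
      rwa [hcop, pow_one] at this
    exact (QuotientGroup.eq_one_iff x).1 h3
  rw [eq_top_iff, ← hnc]
  exact Subgroup.normalClosure_le_normal (Set.singleton_subset_iff.2 hxN)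

/-- a homomorphism out of a finite group whose image is at least as large as the group is injective -/
theorem injective_of_card_le {G Γ : Type*} [Group G] [Group Γ] [Finite G] (φ : G →* Γ) (n : ℕ)
    (hn : 0 < n) (hub : Nat.card G ≤ n) (hlb : n ≤ Nat.card φ.range) :
    Function.Injective φ ∧ Nat.card G = n := by
  have h1 : Nat.card (G ⧸ φ.ker) = Nat.card φ.range :=
    Nat.card_congr (QuotientGroup.quotientKerEquivRange φ).toEquiv
  have h2 := Subgroup.card_eq_card_quotient_mul_card_subgroup φ.ker
  rw [h1] at h2
  have hk : 0 < Nat.card φ.ker := Nat.card_pos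
  have hk1 : Nat.card φ.ker = 1 := by
    by_contra hne
    have : 2 ≤ Nat.card φ.ker := by omega
    have : 2 * n ≤ Nat.card G := by
      calc 2 * n ≤ Nat.card φ.ker * Nat.card φ.range := Nat.mul_le_mul this hlb
        _ = Nat.card G := by rw [h2]; ring
    omega
  refine ⟨?_, ?_⟩
  · rw [← MonoidHom.ker_eq_bot_iff]
    exact Subgroup.card_eq_one.1 hk1
  · rw [hk1, mul_one] at h2
    omega

/-! ### Subset sums and unions of intervals -/

/-- all sums of sublists -/
def subsetSums : List ℕ → List ℕ
  | [] => [0]
  | a :: l => subsetSums l ++ (subsetSums l).map (· + a)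

/-- each consecutive interval of the given sizes, starting at `lo`, lies inside `Y` or is disjoint from it -/
def IvlCond : List ℕ → ℕ → Finset ℕ → Prop
  | [], _, _ => True
  | a :: l, lo, Y =>
    (Finset.Ico lo (lo + a) ⊆ Y ∨ Disjoint (Finset.Ico lo (lo + a)) Y) ∧ IvlCond l (lo + a) Y

theorem card_mem_subsetSums : ∀ (sizes : List ℕ) (lo : ℕ) (Y : Finset ℕ),
    Y ⊆ Finset.Ico lo (lo + sizes.sum) → IvlCond sizes lo Y → Y.card ∈ subsetSums sizes
  | [], lo, Y, hY, _ => by
    simp only [List.sum_nil, add_zero, Finset.Ico_self, Finset.subset_empty] at hY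
    simp [subsetSums, hY]
  | a :: l, lo, Y, hY, hc => by
    obtain ⟨h1, h2⟩ := hc
    set Y2 := Y.filter (fun t => lo + a ≤ t) with hY2
    have hY2sub : Y2 ⊆ Finset.Ico (lo + a) (lo + a + l.sum) := by
      intro t ht
      rw [hY2, Finset.mem_filter] at ht
      have := hY ht.1
      rw [Finset.mem_Ico, List.sum_cons] at this
      rw [Finset.mem_Ico]
      omega
    have hcond2 : IvlCond l (lo + a) Y2 := by
      -- the condition only concerns points `≥ lo + a`
      have gen : ∀ (l' : List ℕ) (lo' : ℕ), lo + a ≤ lo' → IvlCond l' lo' Y → IvlCond l' lo' Y2 := by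
        intro l'
        induction l' with
        | nil => intro _ _ _; trivial
        | cons b l' ih =>
          intro lo' hlo hc'
          obtain ⟨c1, c2⟩ := hc'
          refine ⟨?_, ih (lo' + b) (by omega) c2⟩
          rcases c1 with c1 | c1
          · left
            intro t ht
            rw [hY2, Finset.mem_filter]
            refine ⟨c1 ht, ?_⟩
            rw [Finset.mem_Ico] at ht
            omega
          · right
            exact Finset.disjoint_of_subset_right (Finset.filter_subset _ _) c1
      exact gen l (lo + a) (le_refl _) h2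
    have ih := card_mem_subsetSums l (lo + a) Y2 hY2sub hcond2
    set Y1 := Y.filter (fun t => t < lo + a) with hY1
    have hsplit : Y.card = Y1.card + Y2.card := by
      rw [hY1, hY2]
      have := Finset.card_filter_add_card_filter_not (s := Y) (fun t => t < lo + a)
      rw [← this]
      congr 2
      ext t
      simp only [Finset.mem_filter, not_lt]
    rcases h1 with h1 | h1
    · have : Y1 = Finset.Ico lo (lo + a) := by
        ext t
        rw [hY1, Finset.mem_filter, Finset.mem_Ico]
        constructor
        · rintro ⟨ht, hlt⟩
          have := hY ht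
          rw [Finset.mem_Ico] at this
          exact ⟨this.1, hlt⟩
        · rintro ⟨h3, h4⟩
          exact ⟨h1 (Finset.mem_Ico.2 ⟨h3, h4⟩), h4⟩
      have hc1 : Y1.card = a := by rw [this, Nat.card_Ico]; omega
      rw [subsetSums, List.mem_append]
      right
      rw [List.mem_map]
      exact ⟨Y2.card, ih, by omega⟩
    · have : Y1 = ∅ := by
        rw [Finset.eq_empty_iff_forall_notMem]
        intro t ht
        rw [hY1, Finset.mem_filter] at ht
        have h3 := hY ht.1
        rw [Finset.mem_Ico] at h3
        exact (Finset.disjoint_left.1 h1) (Finset.mem_Ico.2 ⟨h3.1, ht.2⟩) ht.1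
      have hc1 : Y1.card = 0 := by rw [this]; rfl
      rw [subsetSums, List.mem_append]
      left
      rw [hsplit, hc1, zero_add]
      exact ih

end Cfsg.Agent.Lib.Helper4.TC
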