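import Mathlib

/-!
Verified coset-table certificates: one step of a subgroup chain.

A group `W` with elements `g s` satisfying Coxeter-type relations, a subgroup `H`, and a
table `tbl` on `N` indices with a spanning tree `(par, lab)`.  Every directed edge of the
table carries a level and a justification; the check `edgeOK` is decidable, and from it we
derive that `H * rep i * g s = H * rep (tbl i s)`.
-/

namespace Cfsg.Agent.Lib.Helper4.CoxT

/-- `k`-th `w`-bit digit of the literal `T`. -/
def dig (w T k : ℕ) : ℕ := (T / 2 ^ (w * k)) % 2 ^ w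

/-- Fuel-based recursion along a parent function. -/
def treeRec {α : Type*} (par : ℕ → ℕ) (z : α) (step : ℕ → α → α) : ℕ → ℕ → α
  | 0, _ => z
  | (f+1), j => if j = 0 then z else step j (treeRec par z step f (par j))

theorem treeRec_zero_right {α : Type*} (par : ℕ → ℕ) (z : α) (step : ℕ → α → α) (f : ℕ) :
    treeRec par z step f 0 = z := by
  cases f <;> simp [treeRec]

theorem treeRec_succ {α : Type*} (par : ℕ → ℕ) (z : α) (step : ℕ → α → α) (f j : ℕ) (hj : 0 < j) :
    treeRec par z step (f+1) j = step j (treeRec par z step f (par j)) := by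
  rw [treeRec, if_neg (by omega)]

theorem treeRec_stable {α : Type*} (par : ℕ → ℕ) (z : α) (step : ℕ → α → α) (N : ℕ)
    (hpar : ∀ j, 0 < j → j < N → par j < j) :
    ∀ j, j < N → ∀ f, j ≤ f → treeRec par z step f j = treeRec par z step j j := by
  intro j
  induction j using Nat.strong_induction_on with
  | _ j ih =>
    intro hj f hf
    rcases Nat.eq_zero_or_pos j with rfl | hpos
    · simp [treeRec_zero_right]
    · obtain ⟨f', rfl⟩ : ∃ f', f = f' + 1 := ⟨f - 1, by omega⟩
      obtain ⟨j', rfl⟩ : ∃ j', j = j' + 1 := ⟨j - 1, by omega⟩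
      have hp := hpar (j'+1) hpos hj
      rw [treeRec_succ _ _ _ _ _ hpos, treeRec_succ _ _ _ _ _ hpos,
        ih (par (j'+1)) hp (by omega) f' (by omega), ih (par (j'+1)) hp (by omega) j' (by omega)]

theorem treeRec_rec {α : Type*} (par : ℕ → ℕ) (z : α) (step : ℕ → α → α) (N : ℕ)
    (hpar : ∀ j, 0 < j → j < N → par j < j) (j : ℕ) (hpos : 0 < j) (hj : j < N) :
    treeRec par z step N j = step j (treeRec par z step N (par j)) := by
  obtain ⟨N', rfl⟩ : ∃ N', N = N' + 1 := ⟨N - 1, by omega⟩
  have hp := hpar j hpos hj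
  rw [treeRec_succ _ _ _ _ _ hpos, treeRec_stable par z step (N'+1) hpar (par j) (by omega) N' (by omega),
    treeRec_stable par z step (N'+1) hpar (par j) (by omega) (N'+1) (by omega)]

theorem treeRec_hom {α β : Type*} (par : ℕ → ℕ) (z : α) (step : ℕ → α → α) (z' : β)
    (step' : ℕ → β → β) (F : α → β) (N : ℕ) (hz : F z = z')
    (hstep : ∀ j x, 0 < j → j < N → F (step j x) = step' j (F x))
    (hpar : ∀ j, 0 < j → j < N → par j < N) :
    ∀ f j, j < N → F (treeRec par z step f j) = treeRec par z' step' f j := by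
  intro f
  induction f with
  | zero => intro j _; simpa [treeRec] using hz
  | succ f ih =>
    intro j hj
    rcases Nat.eq_zero_or_pos j with rfl | hpos
    · simpa [treeRec] using hz
    · rw [treeRec_succ _ _ _ _ _ hpos, treeRec_succ _ _ _ _ _ hpos, hstep j _ hpos hj,
        ih (par j) (hpar j hpos hj)]

/-- A property closed under the steps holds for all values. -/
theorem treeRec_prop {α : Type*} (par : ℕ → ℕ) (z : α) (step : ℕ → α → α) (P : α → Prop) (N : ℕ)
    (hz : P z) (hstep : ∀ j x, 0 < j → j < N → P x → P (step j x))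
    (hpar : ∀ j, 0 < j → j < N → par j < N) :
    ∀ f j, j < N → P (treeRec par z step f j) := by
  intro f
  induction f with
  | zero => intro j _; simpa [treeRec] using hz
  | succ f ih =>
    intro j hj
    rcases Nat.eq_zero_or_pos j with rfl | hpos
    · simpa [treeRec] using hz
    · rw [treeRec_succ _ _ _ _ _ hpos]
      exact hstep j _ hpos hj (ih (par j) (hpar j hpos hj))

/-! ### Boolean helpers -/

def memB (a : ℕ) : List ℕ → Bool
  | [] => false
  | b :: l => Nat.beq a b || memB a l

def nodupB : List ℕ → Bool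
  | [] => true
  | a :: l => !(memB a l) && nodupB l

theorem memB_of_mem {a : ℕ} : ∀ {l : List ℕ}, a ∈ l → memB a l = true
  | [], h => by simp at h
  | b :: l, h => by
    rcases List.mem_cons.1 h with rfl | h
    · simp [memB, Nat.beq_refl]
    · simp [memB, memB_of_mem h]

theorem nodup_of_nodupB : ∀ {l : List ℕ}, nodupB l = true → l.Nodup
  | [], _ => List.nodup_nil
  | a :: l, h => by
    simp only [nodupB, Bool.and_eq_true, Bool.not_eq_true'] at h
    refine List.nodup_cons.2 ⟨fun hm => ?_, nodup_of_nodupB h.2⟩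
    rw [memB_of_mem hm] at h
    exact Bool.noConfusion h.1

theorem beq_true {a b : ℕ} (h : Nat.beq a b = true) : a = b := Nat.eq_of_beq_eq_true h

theorem blt_true {a b : ℕ} (h : Nat.blt a b = true) : a < b := by
  have := Nat.le_of_ble_eq_true h
  omega

/-! ### One chain step -/

section Step

variable {W : Type*} [Group W] (g : ℕ → W)

/-- alternating product `g a * g b * g a * ...` with `n` factors. -/
def altProd : ℕ → ℕ → ℕ → W
  | _, _, 0 => 1
  | a, b, (n+1) => g a * altProd b a n

theorem altProd_two_mul (a b n : ℕ) : altProd g a b (2 * n) = (g a * g b) ^ n := by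
  induction n with
  | zero => simp [altProd]
  | succ n ih =>
    have : 2 * (n + 1) = (2 * n) + 1 + 1 := by ring
    rw [this, altProd, altProd, ih, pow_succ', mul_assoc]

/-- The subgroup generated by the first `k` generators. -/
def Hc (k : ℕ) : Subgroup W := Subgroup.closure (g '' Set.Iio k)

theorem g_mem_Hc {s k : ℕ} (h : s < k) : g s ∈ Hc g k :=
  Subgroup.subset_closure ⟨s, h, rfl⟩

theorem Hc_mono {k k' : ℕ} (h : k ≤ k') : Hc g k ≤ Hc g k' :=
  Subgroup.closure_mono (Set.image_mono fun _ hx => lt_of_lt_of_le hx h)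

theorem Hc_zero : Hc g 0 = ⊥ := by
  rw [Hc]
  have : Set.Iio (0:ℕ) = ∅ := by ext x; simp
  rw [this, Set.image_empty, Subgroup.closure_empty]

variable (N k : ℕ) (tbl : ℕ → ℕ → ℕ) (par lab : ℕ → ℕ)

/-- coset representatives along the tree. -/
def rep (j : ℕ) : W := treeRec par (1 : W) (fun j x => x * g (lab j)) N j

/-- walk check -/
def walkOK (lev : ℕ → ℕ → ℕ) (L : ℕ) : ℕ → ℕ → ℕ → ℕ → ℕ → Bool
  | 0, _, _, j, i => Nat.beq j i
  | (n+1), a, b, j, i => Nat.blt (lev j a) L && walkOK lev L n b a (tbl j a) i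

/-- tree check -/
def treeOK : Bool :=
  Nat.blt 0 N && (List.range N).all fun j => Nat.beq j 0 || (Nat.blt (par j) j && Nat.blt (lab j) k)

variable (lev just : ℕ → ℕ → ℕ) (m : ℕ → ℕ → ℕ) (kH : ℕ)

/-- edge check -/
def edgeOK (i s : ℕ) : Bool :=
  Nat.blt (tbl i s) N && Nat.beq (tbl (tbl i s) s) i &&
  (if just i s = k then
      (Nat.blt 0 (tbl i s) && Nat.beq (par (tbl i s)) i && Nat.beq (lab (tbl i s)) s)
   else if just i s = k + 1 then (Nat.beq i 0 && Nat.beq (tbl i s) 0 && Nat.blt s kH)
   else (Nat.blt (just i s) k && Nat.blt 0 (m s (just i s)) &&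
      walkOK tbl lev (lev i s) (2 * m s (just i s) - 1) (just i s) s (tbl i s) i))

def edgesOK : Bool :=
  (List.range N).all fun i => (List.range k).all fun s => edgeOK N k tbl par lab lev just m kH i s

def ubOK : Bool := treeOK N k par lab && edgesOK N k tbl par lab lev just m kH

end Step

/-! ### Soundness of the upper-bound check -/

section Sound

variable {W : Type*} [Group W] (g : ℕ → W) (H : Subgroup W)
variable (N k : ℕ) (tbl : ℕ → ℕ → ℕ) (par lab : ℕ → ℕ)
variable (lev just : ℕ → ℕ → ℕ) (m : ℕ → ℕ → ℕ) (kH : ℕ)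

/-- the edge relation -/
def Edge (i s : ℕ) : Prop := rep g N par lab i * g s * (rep g N par lab (tbl i s))⁻¹ ∈ H

theorem treeOK_pos (h : treeOK N k par lab = true) : 0 < N := by
  simp only [treeOK, Bool.and_eq_true] at h
  exact blt_true h.1

theorem treeOK_par (h : treeOK N k par lab = true) : ∀ j, 0 < j → j < N → par j < j ∧ lab j < k := by
  intro j hpos hj
  simp only [treeOK, Bool.and_eq_true, List.all_eq_true, List.mem_range, Bool.or_eq_true] at h
  rcases h.2 j hj with h0 | h1
  · have := beq_true h0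
    omega
  · exact ⟨blt_true h1.1, blt_true h1.2⟩

theorem rep_zero : rep g N par lab 0 = 1 := treeRec_zero_right _ _ _ _

theorem rep_succ (h : treeOK N k par lab = true) (j : ℕ) (hpos : 0 < j) (hj : j < N) :
    rep g N par lab j = rep g N par lab (par j) * g (lab j) :=
  treeRec_rec par 1 _ N (fun j h0 hN => (treeOK_par N k par lab h j h0 hN).1) j hpos hj

theorem rep_mem (h : treeOK N k par lab = true) (j : ℕ) (hj : j < N) :
    rep g N par lab j ∈ Hc g k := by
  refine treeRec_prop par 1 _ (fun x => x ∈ Hc g k) N (one_mem _) ?_ ?_ N j hj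
  · intro j x hpos hj hx
    exact mul_mem hx (g_mem_Hc g (treeOK_par N k par lab h j hpos hj).2)
  · intro j hpos hj
    exact lt_trans (treeOK_par N k par lab h j hpos hj).1 hj

theorem walk_mem (L : ℕ)
    (htbl : ∀ j a, j < N → a < k → tbl j a < N)
    (hE : ∀ j a, j < N → a < k → lev j a < L → Edge g H N tbl par lab j a) :
    ∀ n a b j i, a < k → b < k → j < N → walkOK tbl lev L n a b j i = true →
      rep g N par lab j * altProd g a b n * (rep g N par lab i)⁻¹ ∈ H := by
  intro n
  induction n with
  | zero =>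
    intro a b j i _ _ _ h
    have : j = i := beq_true h
    subst this
    simp [altProd]
  | succ n ih =>
    intro a b j i ha hb hj h
    simp only [walkOK, Bool.and_eq_true] at h
    have h1 := hE j a hj ha (blt_true h.1)
    have h2 := ih b a (tbl j a) i hb ha (htbl j a hj ha) h.2
    have : rep g N par lab j * altProd g a b (n+1) * (rep g N par lab i)⁻¹ =
        (rep g N par lab j * g a * (rep g N par lab (tbl j a))⁻¹) *
        (rep g N par lab (tbl j a) * altProd g b a n * (rep g N par lab i)⁻¹) := by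
      rw [altProd]; group
    rw [this]
    exact mul_mem h1 h2

theorem edgesOK_apply (h : edgesOK N k tbl par lab lev just m kH = true) (i s : ℕ) (hi : i < N)
    (hs : s < k) : edgeOK N k tbl par lab lev just m kH i s = true := by
  simp only [edgesOK, List.all_eq_true, List.mem_range] at h
  exact h i hi s hs

theorem edgeOK_tbl {i s : ℕ} (h : edgeOK N k tbl par lab lev just m kH i s = true) :
    tbl i s < N ∧ tbl (tbl i s) s = i := by
  simp only [edgeOK, Bool.and_eq_true] at h
  exact ⟨blt_true h.1.1, beq_true h.1.2⟩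

theorem edge_sound (hrel : ∀ s t, s < k → t < k → (g s * g t) ^ (m s t) = 1)
    (hH : ∀ s, s < kH → g s ∈ H)
    (htree : treeOK N k par lab = true)
    (hedges : edgesOK N k tbl par lab lev just m kH = true) :
    ∀ L i s, i < N → s < k → lev i s < L → Edge g H N tbl par lab i s := by
  have htbl : ∀ j a, j < N → a < k → tbl j a < N := fun j a hj ha =>
    (edgeOK_tbl N k tbl par lab lev just m kH (edgesOK_apply N k tbl par lab lev just m kH hedges j a hj ha)).1
  intro L
  induction L with
  | zero => intro i s _ _ h; omega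
  | succ L ih =>
    intro i s hi hs hlev
    by_cases hlt : lev i s < L
    · exact ih i s hi hs hlt
    have hL : lev i s = L := by omega
    have he := edgesOK_apply N k tbl par lab lev just m kH hedges i s hi hs
    simp only [edgeOK, Bool.and_eq_true] at he
    obtain ⟨⟨h1, h2⟩, h3⟩ := he
    unfold Edge
    split_ifs at h3 with hj1 hj2
    · -- tree edge
      simp only [Bool.and_eq_true] at h3
      obtain ⟨⟨h4, h5⟩, h6⟩ := h3
      have hpos := blt_true h4
      have hpar := beq_true h5
      have hlab := beq_true h6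
      rw [rep_succ g N k par lab htree (tbl i s) hpos (blt_true h1), hpar, hlab]
      simp
    · -- H edge
      simp only [Bool.and_eq_true] at h3
      obtain ⟨⟨h4, h5⟩, h6⟩ := h3
      have hi0 := beq_true h4
      have hi0' := beq_true h5
      rw [hi0', hi0, rep_zero]
      simpa using hH s (blt_true h6)
    · -- cycle
      simp only [Bool.and_eq_true] at h3
      obtain ⟨⟨h4, h5⟩, h6⟩ := h3
      have ht := blt_true h4
      have hm := blt_true h5
      rw [hL] at h6
      have hw := walk_mem g H N k tbl par lab lev L htbl ih _ _ _ _ _ ht hs (blt_true h1) h6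
      have hrel' := hrel s (just i s) hs ht
      have h2m : 2 * m s (just i s) = (2 * m s (just i s) - 1) + 1 := by omega
      rw [← altProd_two_mul, h2m, altProd] at hrel'
      have hinv : altProd g (just i s) s (2 * m s (just i s) - 1) = (g s)⁻¹ :=
        eq_inv_of_mul_eq_one_right hrel'
      rw [hinv] at hw
      have := inv_mem hw
      simpa [mul_assoc] using this

/-- every element of `Hc g k` moves cosets to cosets -/
theorem cover_aux (hrel : ∀ s t, s < k → t < k → (g s * g t) ^ (m s t) = 1)
    (hH : ∀ s, s < kH → g s ∈ H)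
    (hub : ubOK N k tbl par lab lev just m kH = true) :
    ∀ x ∈ Hc g k, ∀ i, i < N →
      (∃ i', i' < N ∧ rep g N par lab i * x * (rep g N par lab i')⁻¹ ∈ H) ∧
      (∃ i', i' < N ∧ rep g N par lab i * x⁻¹ * (rep g N par lab i')⁻¹ ∈ H) := by
  simp only [ubOK, Bool.and_eq_true] at hub
  obtain ⟨htree, hedges⟩ := hub
  have hE := edge_sound g H N k tbl par lab lev just m kH hrel hH htree hedges
  have htbl : ∀ j a, j < N → a < k → tbl j a < N ∧ tbl (tbl j a) a = j := fun j a hj ha =>
    (edgeOK_tbl N k tbl par lab lev just m kH (edgesOK_apply N k tbl par lab lev just m kH hedges j a hj ha))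
  intro x hx
  unfold Hc at hx
  induction hx using Subgroup.closure_induction with
  | mem x hx =>
    obtain ⟨s, hs, rfl⟩ := hx
    have hs : s < k := hs
    intro i hi
    refine ⟨⟨tbl i s, (htbl i s hi hs).1, hE _ i s hi hs (Nat.lt_succ_self _)⟩, ⟨tbl i s, (htbl i s hi hs).1, ?_⟩⟩
    have := hE _ (tbl i s) s (htbl i s hi hs).1 hs (Nat.lt_succ_self _)
    unfold Edge at this
    rw [(htbl i s hi hs).2] at this
    have := inv_mem this
    simpa [mul_assoc] using this
  | one =>
    intro i hi
    exact ⟨⟨i, hi, by simp⟩, ⟨i, hi, by simp⟩⟩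
  | mul x y _ _ ihx ihy =>
    intro i hi
    constructor
    · obtain ⟨i', hi', h1⟩ := (ihx i hi).1
      obtain ⟨i'', hi'', h2⟩ := (ihy i' hi').1
      refine ⟨i'', hi'', ?_⟩
      have := mul_mem h1 h2
      have e : rep g N par lab i * (x * y) * (rep g N par lab i'')⁻¹ =
        rep g N par lab i * x * (rep g N par lab i')⁻¹ * (rep g N par lab i' * y * (rep g N par lab i'')⁻¹) := by
        group
      rw [e]; exact this
    · obtain ⟨i', hi', h1⟩ := (ihy i hi).2
      obtain ⟨i'', hi'', h2⟩ := (ihx i' hi').2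
      refine ⟨i'', hi'', ?_⟩
      have := mul_mem h1 h2
      have e : rep g N par lab i * (x * y)⁻¹ * (rep g N par lab i'')⁻¹ =
        rep g N par lab i * y⁻¹ * (rep g N par lab i')⁻¹ * (rep g N par lab i' * x⁻¹ * (rep g N par lab i'')⁻¹) := by
        group
      rw [e]; exact this
  | inv x _ ih =>
    intro i hi
    refine ⟨(ih i hi).2, ?_⟩
    rw [inv_inv]
    exact (ih i hi).1

theorem cover (hrel : ∀ s t, s < k → t < k → (g s * g t) ^ (m s t) = 1)
    (hH : ∀ s, s < kH → g s ∈ H)
    (hub : ubOK N k tbl par lab lev just m kH = true) :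
    ∀ x ∈ Hc g k, ∃ i, i < N ∧ x * (rep g N par lab i)⁻¹ ∈ H := by
  intro x hx
  have hpos : 0 < N := by
    simp only [ubOK, Bool.and_eq_true] at hub
    exact treeOK_pos N k par lab hub.1
  obtain ⟨i, hi, h⟩ := (cover_aux g H N k tbl par lab lev just m kH hrel hH hub x hx 0 hpos).1
  rw [rep_zero, one_mul] at h
  exact ⟨i, hi, h⟩

end Sound

/-! ### The full step: bijection `Fin N × H ≃ Hc g (kH+1)` -/

section Level

variable {W : Type*} [Group W] (g : ℕ → W)
variable (Ntop : ℕ) (top : ℕ → ℕ → ℕ) (φ : W →* Equiv.Perm (Fin Ntop))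
variable (N kH : ℕ) (tbl : ℕ → ℕ → ℕ) (par lab : ℕ → ℕ) (lev just : ℕ → ℕ → ℕ)
variable (m : ℕ → ℕ → ℕ) (c : ℕ)

/-- orbit points along the tree -/
def pt (j : ℕ) : ℕ := treeRec par c (fun j x => top x (lab j)) N j

def lbOK : Bool :=
  Nat.blt c Ntop && (List.range kH).all (fun s => Nat.beq (top c s) c) &&
    nodupB ((List.range N).map (pt top N par lab c))

def levelOK : Bool :=
  ubOK N (kH+1) tbl par lab lev just m kH && lbOK Ntop top N kH par lab c

theorem lbOK_lt (h : lbOK Ntop top N kH par lab c = true) : c < Ntop := by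
  simp only [lbOK, Bool.and_eq_true] at h
  exact blt_true h.1.1

theorem lbOK_fix (h : lbOK Ntop top N kH par lab c = true) : ∀ s, s < kH → top c s = c := by
  intro s hs
  simp only [lbOK, Bool.and_eq_true, List.all_eq_true, List.mem_range] at h
  exact beq_true (h.1.2 s hs)

theorem lbOK_inj (h : lbOK Ntop top N kH par lab c = true) :
    ∀ i j, i < N → j < N → pt top N par lab c i = pt top N par lab c j → i = j := by
  simp only [lbOK, Bool.and_eq_true] at h
  have hnd := nodup_of_nodupB h.2
  intro i j hi hj hij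
  have := (List.nodup_iff_injective_getElem.1 hnd)
  have h1 : (⟨i, by simpa using hi⟩ : Fin ((List.range N).map (pt top N par lab c)).length) =
      ⟨j, by simpa using hj⟩ := by
    apply this
    simpa using hij
  exact Fin.mk.inj_iff.1 h1

variable (hinv : ∀ s, s < kH + 1 → g s * g s = 1)
variable (hφ : ∀ s, s < kH + 1 → ∀ i : Fin Ntop, ((φ (g s)) i).val = top i.val s)

include hφ in
theorem fix_of_mem (hc : c < Ntop) (hfix : ∀ s, s < kH → top c s = c) :
    ∀ h ∈ Hc g kH, φ h ⟨c, hc⟩ = ⟨c, hc⟩ := by
  intro h hh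
  unfold Hc at hh
  induction hh using Subgroup.closure_induction with
  | mem x hx =>
    obtain ⟨s, hs, rfl⟩ := hx
    have hs : s < kH := hs
    apply Fin.ext
    rw [hφ s (by omega)]
    exact hfix s hs
  | one => simp
  | mul x y _ _ ihx ihy => rw [map_mul, Equiv.Perm.mul_apply, ihy, ihx]
  | inv x _ ih =>
    rw [map_inv, Equiv.Perm.inv_eq_iff_eq, ih]

include hinv hφ in
theorem pt_eq (htree : treeOK N (kH+1) par lab = true) (hc : c < Ntop) (j : ℕ) (hj : j < N) :
    ((φ (rep g N par lab j)⁻¹) ⟨c, hc⟩).val = pt top N par lab c j := by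
  refine treeRec_hom par (1 : W) (fun j x => x * g (lab j)) c (fun j x => top x (lab j))
    (fun x => ((φ x⁻¹) ⟨c, hc⟩).val) N (by simp) ?_ ?_ N j hj
  · intro j x hpos hj
    have hl := (treeOK_par N (kH+1) par lab htree j hpos hj).2
    have : (g (lab j))⁻¹ = g (lab j) := inv_eq_of_mul_eq_one_right (hinv _ hl)
    simp only [mul_inv_rev, map_mul, Equiv.Perm.mul_apply, this]
    rw [hφ _ hl]
  · intro j hpos hj
    exact lt_trans (treeOK_par N (kH+1) par lab htree j hpos hj).1 hj

include hinv hφ in
theorem level_main (hrel : ∀ s t, s < kH + 1 → t < kH + 1 → (g s * g t) ^ (m s t) = 1)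
    (hcheck : levelOK Ntop top N kH tbl par lab lev just m c = true) :
    Nat.card (Hc g (kH+1)) = N * Nat.card (Hc g kH) ∧
    (∀ x ∈ Hc g (kH+1), ∀ i : Fin Ntop, i.val = c → φ x i = i → x ∈ Hc g kH) := by
  simp only [levelOK, Bool.and_eq_true] at hcheck
  obtain ⟨hub, hlb⟩ := hcheck
  have htree : treeOK N (kH+1) par lab = true := by
    simp only [ubOK, Bool.and_eq_true] at hub
    exact hub.1
  have hpos : 0 < N := treeOK_pos N (kH+1) par lab htree
  have hc := lbOK_lt Ntop top N kH par lab c hlb
  have hfix := fix_of_mem g Ntop top φ kH c hφ hc (lbOK_fix Ntop top N kH par lab c hlb)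
  have hinj := lbOK_inj Ntop top N kH par lab c hlb
  have hcov := cover g (Hc g kH) N (kH+1) tbl par lab lev just m kH hrel
    (fun s hs => g_mem_Hc g hs) hub
  have hle : Hc g kH ≤ Hc g (kH+1) := Hc_mono g (Nat.le_succ _)
  -- key: the point of `h * rep i`
  have key : ∀ h ∈ Hc g kH, ∀ i, i < N →
      ((φ (h * rep g N par lab i)⁻¹) ⟨c, hc⟩).val = pt top N par lab c i := by
    intro h hh i hi
    rw [mul_inv_rev, map_mul, Equiv.Perm.mul_apply, hfix _ (inv_mem hh)]
    exact pt_eq g Ntop top φ N kH par lab c hinv hφ htree hc i hi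
  constructor
  · -- the bijection
    let Ψ : Fin N × Hc g kH → Hc g (kH+1) := fun p =>
      ⟨p.2.1 * rep g N par lab p.1.1, mul_mem (hle p.2.2) (rep_mem g N (kH+1) par lab htree _ p.1.2)⟩
    have hΨ : Function.Bijective Ψ := by
      constructor
      · rintro ⟨i, h⟩ ⟨i', h'⟩ e
        have e' : h.1 * rep g N par lab i.1 = h'.1 * rep g N par lab i'.1 := congrArg Subtype.val e
        have h1 := key h.1 h.2 i.1 i.2
        have h2 := key h'.1 h'.2 i'.1 i'.2
        rw [e'] at h1
        have hii : i.1 = i'.1 := hinj _ _ i.2 i'.2 (h1.symm.trans h2)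
        have hii' : i = i' := Fin.ext hii
        subst hii'
        have : h.1 = h'.1 := mul_right_cancel e'
        have : h = h' := Subtype.ext this
        rw [this]
      · rintro ⟨x, hx⟩
        obtain ⟨i, hi, h⟩ := hcov x hx
        refine ⟨(⟨i, hi⟩, ⟨_, h⟩), ?_⟩
        apply Subtype.ext
        simp [Ψ]
    rw [← Nat.card_congr (Equiv.ofBijective Ψ hΨ), Nat.card_prod, Nat.card_fin]
  · intro x hx i hic hxi
    obtain ⟨j, hj, h⟩ := hcov x hx
    have hi : i = ⟨c, hc⟩ := Fin.ext hic
    subst hi
    have hx' : x = (x * (rep g N par lab j)⁻¹) * rep g N par lab j := by group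
    have h1 := key _ h j hj
    rw [← hx'] at h1
    have h2 : (φ x⁻¹) ⟨c, hc⟩ = ⟨c, hc⟩ := by
      rw [map_inv, Equiv.Perm.inv_eq_iff_eq, hxi]
    rw [h2] at h1
    have h3 : pt top N par lab c 0 = c := treeRec_zero_right _ _ _ _
    have hj0 : j = 0 := hinj j 0 hj hpos (by rw [← h1, h3])
    subst hj0
    rw [rep_zero, inv_one, mul_one] at h
    exact h

end Level

end Cfsg.Agent.Lib.Helper4.CoxT
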