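import Mathlib
import Cfsg.Agent.Lib.Helper4.CoxT1

/-!
Verified Todd–Coxeter logs, part 1: the upper bound.

A log lists *names* (each defined as `parent * letter`) and *facts* `(src, letter, tgt)`, each meaning
`V src * g letter * (V tgt)⁻¹ ∈ H`.  Facts `0 .. M-1` are the definitions of the names, facts
`M .. M+nB-1` are the base facts (pseudo letters that lie in `H`), and every later fact is justified by
a relator window together with a path of earlier facts.  All checks are written with `Bool.rec` and
`Nat.rec` on kernel-accelerated primitives so that the kernel evaluates them quickly.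
-/

namespace Cfsg.Agent.Lib.Helper4.TC

open Cfsg.Agent.Lib.Helper4.CoxT (treeRec treeRec_zero_right treeRec_rec)

/-! ### kernel-friendly combinators -/

/-- Boolean `and` by `Bool.rec` on the first argument. -/
def band (a b : Bool) : Bool := @Bool.rec (fun _ => Bool) false b a

theorem band_eq_true {a b : Bool} : band a b = true ↔ a = true ∧ b = true := by
  cases a <;> cases b <;> simp [band]

/-- selection: `bsel c f t` is `t` when `c` is true. -/
def bsel {α : Type} (c : Bool) (f t : α) : α := @Bool.rec (fun _ => α) f t c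

@[simp] theorem bsel_true {α : Type} (f t : α) : bsel true f t = t := rfl
@[simp] theorem bsel_false {α : Type} (f t : α) : bsel false f t = f := rfl

/-- `f i` for all `i < n`. -/
def allBelow (f : ℕ → Bool) (n : ℕ) : Bool :=
  @Nat.rec (fun _ => Bool) true (fun i ih => band (f i) ih) n

theorem allBelow_succ (f : ℕ → Bool) (n : ℕ) : allBelow f (n+1) = band (f n) (allBelow f n) := rfl

theorem allBelow_eq_true {f : ℕ → Bool} {n : ℕ} :
    allBelow f n = true ↔ ∀ i, i < n → f i = true := by
  induction n with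
  | zero => simp [allBelow]
  | succ n ih =>
    rw [allBelow_succ, band_eq_true, ih]
    constructor
    · rintro ⟨h1, h2⟩ i hi
      rcases Nat.lt_succ_iff_lt_or_eq.1 hi with h | rfl
      · exact h2 i h
      · exact h1
    · intro h
      exact ⟨h n (Nat.lt_succ_self n), fun i hi => h i (Nat.lt_succ_of_lt hi)⟩

/-- `f i` for all `lo ≤ i < lo + n`. -/
def allRange (f : ℕ → Bool) (lo n : ℕ) : Bool := allBelow (fun i => f (Nat.add lo i)) n

theorem allRange_eq_true {f : ℕ → Bool} {lo n : ℕ} :
    allRange f lo n = true ↔ ∀ i, lo ≤ i → i < lo + n → f i = true := by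
  rw [allRange, allBelow_eq_true]
  constructor
  · intro h i h1 h2
    have := h (i - lo) (by omega)
    have e : Nat.add lo (i - lo) = i := by show lo + (i - lo) = i; omega
    rwa [e] at this
  · intro h i hi
    exact h _ (Nat.le_add_right lo i) (by show lo + i < lo + n; omega)

theorem beq_eq {a b : ℕ} (h : Nat.beq a b = true) : a = b := Nat.eq_of_beq_eq_true h

theorem ble_succ {a b : ℕ} (h : Nat.ble (Nat.succ a) b = true) : a < b := Nat.le_of_ble_eq_true h

/-! ### Logs -/

/-- The data of a Todd–Coxeter log; every table is an accessor function. -/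
structure Log where
  /-- number of real letters; the letter `k` is the empty letter -/
  k : ℕ
  /-- inverse letter -/
  inv : ℕ → ℕ
  /-- number of relator rows -/
  nR : ℕ
  rBase : ℕ → ℕ
  rLen : ℕ → ℕ
  /-- the doubled relators, concatenated -/
  RR : ℕ → ℕ
  /-- number of names -/
  M : ℕ
  /-- number of base facts -/
  nB : ℕ
  /-- number of facts -/
  F : ℕ
  src : ℕ → ℕ
  lt : ℕ → ℕ
  tgt : ℕ → ℕ
  rho : ℕ → ℕ
  rot : ℕ → ℕ
  off : ℕ → ℕ
  len : ℕ → ℕ
  /-- path entries: fact and direction -/
  pf : ℕ → ℕ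
  pd : ℕ → ℕ

namespace Log

variable (D : Log)

/-- oriented source of fact `f` in direction `d` -/
def oNear (f d : ℕ) : ℕ := bsel (Nat.beq d 1) (D.src f) (D.tgt f)
def oFar (f d : ℕ) : ℕ := bsel (Nat.beq d 1) (D.tgt f) (D.src f)
def oLet (f d : ℕ) : ℕ := bsel (Nat.beq d 1) (D.lt f) (D.inv (D.lt f))

/-- names: fact `d` is `(src d, lt d, d)` with `src d < d`. -/
def nameOK (d : ℕ) : Bool := band (Nat.ble (Nat.succ (D.src d)) d) (Nat.beq (D.tgt d) d)

def zeroOK : Bool :=
  band (Nat.beq (D.src 0) 0) (band (Nat.beq (D.lt 0) D.k) (Nat.beq (D.tgt 0) 0))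

def baseOK (j : ℕ) : Bool :=
  band (Nat.beq (D.src (Nat.add D.M j)) 0)
    (band (Nat.beq (D.tgt (Nat.add D.M j)) 0) (Nat.beq (D.lt (Nat.add D.M j)) (Nat.add (Nat.succ D.k) j)))

/-- walk a path of earlier facts: `rem` entries from path position `j`, currently at name `cur` and at
window position `pos`; the window starts at `b` and has length `n`; the walk must end at `s`. -/
def walk (t b n s : ℕ) : ℕ → ℕ → ℕ → ℕ → Bool :=
  @Nat.rec (fun _ => ℕ → ℕ → ℕ → Bool)
    (fun _ cur pos => band (Nat.beq cur s) (Nat.beq pos n))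
    (fun _ ih j cur pos =>
      band (Nat.ble (Nat.succ (D.pf j)) t)
        (band (Nat.beq (D.oNear (D.pf j) (D.pd j)) cur)
          (@Bool.rec (fun _ => Bool)
            (band (Nat.ble (Nat.succ pos) n)
              (band (Nat.beq (D.RR (Nat.add b pos)) (D.oLet (D.pf j) (D.pd j)))
                (ih (Nat.succ j) (D.oFar (D.pf j) (D.pd j)) (Nat.succ pos))))
            (ih (Nat.succ j) (D.oFar (D.pf j) (D.pd j)) pos)
            (Nat.beq (D.oLet (D.pf j) (D.pd j)) D.k))))

theorem walk_zero (t b n s j cur pos : ℕ) :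
    D.walk t b n s 0 j cur pos = band (Nat.beq cur s) (Nat.beq pos n) := rfl

theorem walk_succ (t b n s rem j cur pos : ℕ) :
    D.walk t b n s (rem+1) j cur pos =
      band (Nat.ble (Nat.succ (D.pf j)) t)
        (band (Nat.beq (D.oNear (D.pf j) (D.pd j)) cur)
          (@Bool.rec (fun _ => Bool)
            (band (Nat.ble (Nat.succ pos) n)
              (band (Nat.beq (D.RR (Nat.add b pos)) (D.oLet (D.pf j) (D.pd j)))
                (D.walk t b n s rem (Nat.succ j) (D.oFar (D.pf j) (D.pd j)) (Nat.succ pos))))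
            (D.walk t b n s rem (Nat.succ j) (D.oFar (D.pf j) (D.pd j)) pos)
            (Nat.beq (D.oLet (D.pf j) (D.pd j)) D.k))) := rfl

/-- window start of fact `t` -/
def wb (t : ℕ) : ℕ := Nat.add (D.rBase (D.rho t)) (D.rot t)

/-- a fact justified by a relator window and a path -/
def relOK (t : ℕ) : Bool :=
  band (Nat.ble (Nat.succ (D.rho t)) D.nR)
    (band (Nat.ble (Nat.succ (D.rot t)) (D.rLen (D.rho t)))
      (@Bool.rec (fun _ => Bool)
        (band (Nat.beq (D.RR (D.wb t)) (D.lt t))
          (D.walk t (D.wb t) (D.rLen (D.rho t)) (D.src t) (D.len t) (D.off t) (D.tgt t) 1))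
        (D.walk t (D.wb t) (D.rLen (D.rho t)) (D.src t) (D.len t) (D.off t) (D.tgt t) 0)
        (Nat.beq (D.lt t) D.k)))

/-! ### Semantics -/

section Sem

variable {G : Type*} [Group G] (g : ℕ → G) (H : Subgroup G)

/-- product of the letters of a word -/
def wordP (L : List ℕ) : G := (L.map g).prod

@[simp] theorem wordP_nil : wordP g [] = 1 := rfl
@[simp] theorem wordP_cons (x : ℕ) (L : List ℕ) : wordP g (x :: L) = g x * wordP g L := by
  simp [wordP]
theorem wordP_append (L L' : List ℕ) : wordP g (L ++ L') = wordP g L * wordP g L' := by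
  simp [wordP]

/-- the group element of a name -/
def V (d : ℕ) : G := treeRec D.src 1 (fun j x => x * g (D.lt j)) D.M d

/-- the meaning of fact `t` -/
def Holds (t : ℕ) : Prop := D.V g (D.src t) * g (D.lt t) * (D.V g (D.tgt t))⁻¹ ∈ H

/-- the window of a relator as a list of letters -/
def win (b pos n : ℕ) : List ℕ := (List.range (n - pos)).map fun i => D.RR (b + pos + i)

theorem win_self (b n : ℕ) : D.win b n n = [] := by simp [win]

theorem win_cons (b pos n : ℕ) (h : pos < n) :
    D.win b pos n = D.RR (b + pos) :: D.win b (pos+1) n := by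
  unfold win
  have e : n - pos = (n - (pos+1)) + 1 := by omega
  rw [e, List.range_succ_eq_map, List.map_cons, List.map_map]
  congr 1
  apply List.map_congr_left
  intro i _
  simp only [Function.comp]
  congr 1
  omega

theorem V_zero : D.V g 0 = 1 := treeRec_zero_right _ _ _ _

theorem V_succ (hn : ∀ d, 0 < d → d < D.M → D.nameOK d = true) (d : ℕ) (h0 : 0 < d) (hd : d < D.M) :
    D.V g d = D.V g (D.src d) * g (D.lt d) := by
  unfold V
  rw [treeRec_rec D.src 1 _ D.M (fun j hj hj' => ?_) d h0 hd]
  have := hn j hj hj'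
  rw [nameOK, band_eq_true] at this
  exact ble_succ this.1

/-- the semantic hypotheses -/
structure Sem : Prop where
  heps : g D.k = 1
  hinv : ∀ l, g (D.inv l) = (g l)⁻¹
  hwin : ∀ ρ p, ρ < D.nR → p < D.rLen ρ → wordP g (D.win (D.rBase ρ + p) 0 (D.rLen ρ)) = 1
  hbase : ∀ j, j < D.nB → g (D.k + 1 + j) ∈ H

variable {g H}

theorem oriented_holds (hS : D.Sem g H) (f d : ℕ) (hf : D.Holds g H f) :
    D.V g (D.oNear f d) * g (D.oLet f d) * (D.V g (D.oFar f d))⁻¹ ∈ H := by
  unfold oNear oLet oFar
  cases hd : Nat.beq d 1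
  · simp only [bsel_false]
    exact hf
  · simp only [bsel_true]
    rw [hS.hinv]
    unfold Holds at hf
    have e : D.V g (D.tgt f) * (g (D.lt f))⁻¹ * (D.V g (D.src f))⁻¹ =
        (D.V g (D.src f) * g (D.lt f) * (D.V g (D.tgt f))⁻¹)⁻¹ := by group
    rw [e]
    exact inv_mem hf

theorem walk_sound (hS : D.Sem g H) (t b n s : ℕ) (ih : ∀ f, f < t → D.Holds g H f) :
    ∀ rem j cur pos, D.walk t b n s rem j cur pos = true →
      D.V g cur * wordP g (D.win b pos n) * (D.V g s)⁻¹ ∈ H := by
  intro rem
  induction rem with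
  | zero =>
    intro j cur pos h
    rw [walk_zero, band_eq_true] at h
    obtain ⟨h1, h2⟩ := h
    rw [beq_eq h1, beq_eq h2, win_self]
    simp
  | succ rem ihr =>
    intro j cur pos h
    rw [walk_succ, band_eq_true, band_eq_true] at h
    obtain ⟨h1, h2, h3⟩ := h
    have hf := ih _ (ble_succ h1)
    have ho := D.oriented_holds hS (D.pf j) (D.pd j) hf
    rw [beq_eq h2] at ho
    cases hc : Nat.beq (D.oLet (D.pf j) (D.pd j)) D.k
    · rw [hc] at h3
      change band _ (band _ _) = true at h3
      rw [band_eq_true, band_eq_true] at h3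
      obtain ⟨h4, h5, h6⟩ := h3
      have hpos : pos < n := ble_succ h4
      have hw := ihr _ _ _ h6
      rw [D.win_cons b pos n hpos, wordP_cons]
      have hl : D.RR (b + pos) = D.oLet (D.pf j) (D.pd j) := beq_eq h5
      rw [hl]
      have := mul_mem ho hw
      have e : D.V g cur * (g (D.oLet (D.pf j) (D.pd j)) * wordP g (D.win b (pos + 1) n)) * (D.V g s)⁻¹ =
          D.V g cur * g (D.oLet (D.pf j) (D.pd j)) * (D.V g (D.oFar (D.pf j) (D.pd j)))⁻¹ *
            (D.V g (D.oFar (D.pf j) (D.pd j)) * wordP g (D.win b (Nat.succ pos) n) * (D.V g s)⁻¹) := by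
        group
      rw [e]
      exact this
    · rw [hc] at h3
      change D.walk t b n s rem (Nat.succ j) _ pos = true at h3
      have hw := ihr _ _ _ h3
      rw [beq_eq hc, hS.heps] at ho
      have := mul_mem ho hw
      have e : D.V g cur * wordP g (D.win b pos n) * (D.V g s)⁻¹ =
          D.V g cur * 1 * (D.V g (D.oFar (D.pf j) (D.pd j)))⁻¹ *
            (D.V g (D.oFar (D.pf j) (D.pd j)) * wordP g (D.win b pos n) * (D.V g s)⁻¹) := by
        group
      rw [e]
      exact this

theorem rel_sound (hS : D.Sem g H) (t : ℕ) (ih : ∀ f, f < t → D.Holds g H f)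
    (h : D.relOK t = true) : D.Holds g H t := by
  rw [relOK, band_eq_true, band_eq_true] at h
  obtain ⟨h1, h2, h3⟩ := h
  have hρ : D.rho t < D.nR := ble_succ h1
  have hp : D.rot t < D.rLen (D.rho t) := ble_succ h2
  have hwin := hS.hwin _ _ hρ hp
  have hb : D.wb t = D.rBase (D.rho t) + D.rot t := rfl
  rw [← hb] at hwin
  unfold Holds
  cases hc : Nat.beq (D.lt t) D.k
  · rw [hc] at h3
    change band _ _ = true at h3
    rw [band_eq_true] at h3
    obtain ⟨h4, h5⟩ := h3
    have hw := D.walk_sound hS t _ _ _ ih _ _ _ _ h5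
    rw [D.win_cons _ 0 _ (by omega), wordP_cons] at hwin
    have hl : D.RR (D.wb t + 0) = D.lt t := beq_eq h4
    rw [hl] at hwin
    have e : wordP g (D.win (D.wb t) (0+1) (D.rLen (D.rho t))) = (g (D.lt t))⁻¹ :=
      eq_inv_of_mul_eq_one_right hwin
    rw [show (0+1 : ℕ) = 1 from rfl] at e
    rw [e] at hw
    have := inv_mem hw
    have e2 : D.V g (D.src t) * g (D.lt t) * (D.V g (D.tgt t))⁻¹ =
        (D.V g (D.tgt t) * (g (D.lt t))⁻¹ * (D.V g (D.src t))⁻¹)⁻¹ := by group
    rw [e2]
    exact this
  · rw [hc] at h3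
    change D.walk t _ _ _ _ _ _ 0 = true at h3
    have hw := D.walk_sound hS t _ _ _ ih _ _ _ _ h3
    rw [hwin] at hw
    rw [beq_eq hc, hS.heps]
    have := inv_mem hw
    have e2 : D.V g (D.src t) * 1 * (D.V g (D.tgt t))⁻¹ =
        (D.V g (D.tgt t) * 1 * (D.V g (D.src t))⁻¹)⁻¹ := by group
    rw [e2]
    exact this

/-- All facts of a checked log hold. -/
theorem facts_hold (hS : D.Sem g H) (hz : D.zeroOK = true)
    (hn : ∀ d, 0 < d → d < D.M → D.nameOK d = true)
    (hb : ∀ j, j < D.nB → D.baseOK j = true)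
    (hr : ∀ t, D.M + D.nB ≤ t → t < D.F → D.relOK t = true) :
    ∀ t, t < D.F → D.Holds g H t := by
  intro t
  induction t using Nat.strong_induction_on with
  | _ t ih =>
    intro ht
    by_cases h1 : t < D.M
    · rcases Nat.eq_zero_or_pos t with rfl | hpos
      · rw [zeroOK, band_eq_true, band_eq_true] at hz
        unfold Holds
        rw [beq_eq hz.1, beq_eq hz.2.1, beq_eq hz.2.2, hS.heps, D.V_zero]
        simp
      · have hnm := hn t hpos h1
        have hV := D.V_succ g hn t hpos h1
        rw [nameOK, band_eq_true] at hnm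
        unfold Holds
        rw [beq_eq hnm.2, hV]
        simp
    · by_cases h2 : t < D.M + D.nB
      · obtain ⟨j, rfl⟩ : ∃ j, t = D.M + j := ⟨t - D.M, by omega⟩
        have hj : j < D.nB := by omega
        have hbj := hb j hj
        rw [baseOK, band_eq_true, band_eq_true] at hbj
        unfold Holds
        have e1 : D.src (D.M + j) = 0 := beq_eq hbj.1
        have e2 : D.tgt (D.M + j) = 0 := beq_eq hbj.2.1
        have e3 : D.lt (D.M + j) = D.k + 1 + j := beq_eq hbj.2.2
        rw [e1, e2, e3, D.V_zero]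
        simpa using hS.hbase j hj
      · exact D.rel_sound hS t (fun f hf => ih f hf (by omega)) (hr t (by omega) ht)

end Sem

end Log

end Cfsg.Agent.Lib.Helper4.TC
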