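import Mathlib
import Cfsg.Agent.Lib.Helper4.TC1

/-!
Verified Todd–Coxeter logs, part 2: the final coset table, the index and the suborbits.
-/

namespace Cfsg.Agent.Lib.Helper4.TC

/-! ### An abstract counting lemma -/

section Abstract

variable {G : Type*} [Group G] (H : Subgroup G) {N : ℕ} (φ : G →* Equiv.Perm (Fin N)) (z : Fin N)
  (rep : Fin N → G)

/-- the map `G ⧸ H → Fin N`, `γ H ↦ φ γ z` -/
def thetaMap (hfix : ∀ h ∈ H, φ h z = z) : G ⧸ H → Fin N :=
  Quotient.lift (fun γ : G => φ γ z) (by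
    intro a b hab
    have hab' : a⁻¹ * b ∈ H := QuotientGroup.leftRel_apply.mp hab
    have := hfix _ hab'
    show φ a z = φ b z
    have e : b = a * (a⁻¹ * b) := by group
    rw [e, map_mul, Equiv.Perm.mul_apply, this])

theorem thetaMap_mk (hfix : ∀ h ∈ H, φ h z = z) (γ : G) :
    thetaMap H φ z hfix (QuotientGroup.mk γ) = φ γ z := rfl

/-- the bijection `Fin N ≃ G ⧸ H` -/
noncomputable def cosetEquiv (hfix : ∀ h ∈ H, φ h z = z) (hrep : ∀ i, φ (rep i) i = z)
    (hcover : ∀ γ : G, ∃ i, γ * (rep i)⁻¹ ∈ H) : Fin N ≃ G ⧸ H :=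
  Equiv.ofBijective (fun i => (QuotientGroup.mk (rep i)⁻¹ : G ⧸ H)) (by
    constructor
    · intro i j hij
      have h1 : thetaMap H φ z hfix (QuotientGroup.mk (rep i)⁻¹) = i := by
        rw [thetaMap_mk, map_inv]
        rw [Equiv.Perm.inv_eq_iff_eq]
        exact (hrep i).symm
      have h2 : thetaMap H φ z hfix (QuotientGroup.mk (rep j)⁻¹) = j := by
        rw [thetaMap_mk, map_inv]
        rw [Equiv.Perm.inv_eq_iff_eq]
        exact (hrep j).symm
      have hij' : (QuotientGroup.mk (rep i)⁻¹ : G ⧸ H) = QuotientGroup.mk (rep j)⁻¹ := hij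
      rw [← h1, ← h2, hij']
    · intro q
      induction q using QuotientGroup.induction_on with
      | H γ =>
        obtain ⟨i, hi⟩ := hcover γ⁻¹
        refine ⟨i, ?_⟩
        show (QuotientGroup.mk (rep i)⁻¹ : G ⧸ H) = QuotientGroup.mk γ
        rw [QuotientGroup.eq]
        have := inv_mem hi
        simpa using this)

theorem cosetEquiv_apply (hfix : ∀ h ∈ H, φ h z = z) (hrep : ∀ i, φ (rep i) i = z)
    (hcover : ∀ γ : G, ∃ i, γ * (rep i)⁻¹ ∈ H) (i : Fin N) :
    cosetEquiv H φ z rep hfix hrep hcover i = QuotientGroup.mk (rep i)⁻¹ := rfl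

theorem theta_cosetEquiv (hfix : ∀ h ∈ H, φ h z = z) (hrep : ∀ i, φ (rep i) i = z)
    (hcover : ∀ γ : G, ∃ i, γ * (rep i)⁻¹ ∈ H) (i : Fin N) :
    thetaMap H φ z hfix (cosetEquiv H φ z rep hfix hrep hcover i) = i := by
  rw [cosetEquiv_apply, thetaMap_mk, map_inv, Equiv.Perm.inv_eq_iff_eq]
  exact (hrep i).symm

theorem index_eq_of_cover (hfix : ∀ h ∈ H, φ h z = z) (hrep : ∀ i, φ (rep i) i = z)
    (hcover : ∀ γ : G, ∃ i, γ * (rep i)⁻¹ ∈ H) : H.index = N := by
  rw [Subgroup.index, ← Nat.card_congr (cosetEquiv H φ z rep hfix hrep hcover), Nat.card_fin]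

theorem theta_smul (hfix : ∀ h ∈ H, φ h z = z) (γ : G) (q : G ⧸ H) :
    thetaMap H φ z hfix (γ • q) = φ γ (thetaMap H φ z hfix q) := by
  induction q using QuotientGroup.induction_on with
  | H δ =>
    show thetaMap H φ z hfix (QuotientGroup.mk (γ * δ)) = _
    rw [thetaMap_mk, thetaMap_mk, map_mul, Equiv.Perm.mul_apply]

theorem theta_injective (hfix : ∀ h ∈ H, φ h z = z) (hrep : ∀ i, φ (rep i) i = z)
    (hcover : ∀ γ : G, ∃ i, γ * (rep i)⁻¹ ∈ H) : Function.Injective (thetaMap H φ z hfix) := by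
  intro q q' h
  obtain ⟨i, rfl⟩ := (cosetEquiv H φ z rep hfix hrep hcover).surjective q
  obtain ⟨j, rfl⟩ := (cosetEquiv H φ z rep hfix hrep hcover).surjective q'
  rw [theta_cosetEquiv, theta_cosetEquiv] at h
  rw [h]

theorem smul_cosetEquiv (hfix : ∀ h ∈ H, φ h z = z) (hrep : ∀ i, φ (rep i) i = z)
    (hcover : ∀ γ : G, ∃ i, γ * (rep i)⁻¹ ∈ H) (γ : G) (i : Fin N) :
    γ • cosetEquiv H φ z rep hfix hrep hcover i = cosetEquiv H φ z rep hfix hrep hcover (φ γ i) := by
  apply theta_injective H φ z rep hfix hrep hcover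
  rw [theta_smul, theta_cosetEquiv, theta_cosetEquiv]

/-- the orbit of `H` on a coset is the image of a set `T` of indices that is invariant under the
generators `S` of `H` and all of whose points are reached from `i₀`. -/
theorem orbit_eq_image (S : Set G) (hH : H = Subgroup.closure S)
    (hfix : ∀ h ∈ H, φ h z = z) (hrep : ∀ i, φ (rep i) i = z)
    (hcover : ∀ γ : G, ∃ i, γ * (rep i)⁻¹ ∈ H) (T : Set (Fin N)) (i₀ : Fin N) (hi₀ : i₀ ∈ T)
    (hinvar : ∀ s ∈ S, ∀ j ∈ T, φ s j ∈ T)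
    (hreach : ∀ j ∈ T, ∃ h ∈ H, φ h i₀ = j) :
    MulAction.orbit H (cosetEquiv H φ z rep hfix hrep hcover i₀) =
      (cosetEquiv H φ z rep hfix hrep hcover) '' T := by
  have hinvar' : ∀ s ∈ S, ∀ j ∈ T, φ s⁻¹ j ∈ T := by
    intro s hs j hj
    have hpos : 0 < orderOf (φ s) := orderOf_pos (φ s)
    have e : (φ s)⁻¹ = (φ s) ^ (orderOf (φ s) - 1) := by
      apply inv_eq_of_mul_eq_one_right
      rw [← pow_succ', Nat.sub_add_cancel hpos, pow_orderOf_eq_one]
    rw [map_inv, e]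
    have : ∀ m : ℕ, ∀ j ∈ T, ((φ s) ^ m) j ∈ T := by
      intro m
      induction m with
      | zero => intro j hj; simpa using hj
      | succ m ih =>
        intro j hj
        rw [pow_succ', Equiv.Perm.mul_apply]
        exact hinvar s hs _ (ih j hj)
    exact this _ j hj
  have hboth : ∀ h ∈ Subgroup.closure S, (∀ j ∈ T, φ h j ∈ T) ∧ (∀ j ∈ T, φ h⁻¹ j ∈ T) := by
    intro h hh
    induction hh using Subgroup.closure_induction with
    | mem x hx => exact ⟨hinvar x hx, hinvar' x hx⟩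
    | one => exact ⟨fun j hj => by simpa using hj, fun j hj => by simpa using hj⟩
    | mul x y _ _ ihx ihy =>
      refine ⟨fun j hj => ?_, fun j hj => ?_⟩
      · rw [map_mul, Equiv.Perm.mul_apply]
        exact ihx.1 _ (ihy.1 j hj)
      · rw [mul_inv_rev, map_mul, Equiv.Perm.mul_apply]
        exact ihy.2 _ (ihx.2 j hj)
    | inv x _ ih =>
      refine ⟨ih.2, fun j hj => ?_⟩
      rw [inv_inv]
      exact ih.1 j hj
  have hall : ∀ h ∈ H, ∀ j ∈ T, φ h j ∈ T := by
    intro h hh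
    rw [hH] at hh
    exact (hboth h hh).1
  ext q
  constructor
  · rintro ⟨h, rfl⟩
    refine ⟨φ (h : G) i₀, hall _ h.2 _ hi₀, ?_⟩
    rw [← smul_cosetEquiv]
    rfl
  · rintro ⟨j, hj, rfl⟩
    obtain ⟨h, hh, rfl⟩ := hreach j hj
    refine ⟨⟨h, hh⟩, ?_⟩
    show h • cosetEquiv H φ z rep hfix hrep hcover i₀ = _
    rw [smul_cosetEquiv]

end Abstract

end Cfsg.Agent.Lib.Helper4.TC
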