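import Mathlib
import Cfsg.Agent.Lib.Helper4.TC2

/-!
Verified Todd–Coxeter logs, part 3: the final coset table attached to a log.
-/

namespace Cfsg.Agent.Lib.Helper4.TC

/-- The final coset table of a log. -/
structure Tab where
  N : ℕ
  nameOf : ℕ → ℕ
  tbl : ℕ → ℕ → ℕ
  finF : ℕ → ℕ → ℕ
  finD : ℕ → ℕ → ℕ
  cls : ℕ → ℕ

/-- the inverse letter map is an involution of the real letters -/
def Log.letOK (D : Log) (x : ℕ) : Bool :=
  band (Nat.ble (Nat.succ (D.inv x)) D.k) (Nat.beq (D.inv (D.inv x)) x)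

namespace Tab

variable (T : Tab) (D : Log)

def finOK (i x : ℕ) : Bool :=
  band (Nat.ble (Nat.succ (T.finF i x)) D.F)
    (band (Nat.beq (D.oNear (T.finF i x) (T.finD i x)) (T.nameOf i))
      (band (Nat.beq (D.oLet (T.finF i x) (T.finD i x)) x)
        (Nat.beq (D.oFar (T.finF i x) (T.finD i x)) (T.nameOf (T.tbl i x)))))

def permOK1 (i x : ℕ) : Bool :=
  band (Nat.ble (Nat.succ (T.tbl i x)) T.N) (Nat.beq (T.tbl (T.tbl i x) (D.inv x)) i)


def clsOK (d : ℕ) : Bool :=
  band (Nat.ble (Nat.succ (D.lt d)) D.k)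
    (band (Nat.ble (Nat.succ (T.cls d)) T.N)
      (Nat.beq (T.cls d) (T.tbl (T.cls (D.src d)) (D.lt d))))

def repOK (i : ℕ) : Bool :=
  band (Nat.ble (Nat.succ (T.nameOf i)) D.M) (Nat.beq (T.cls (T.nameOf i)) i)

/-- everything that has been checked about a log and its table -/
structure Checked : Prop where
  hz : D.zeroOK = true
  hn : ∀ d, 0 < d → d < D.M → D.nameOK d = true
  hb : ∀ j, j < D.nB → D.baseOK j = true
  hr : ∀ t, D.M + D.nB ≤ t → t < D.F → D.relOK t = true
  hfin : ∀ i x, i < T.N → x < D.k → T.finOK D i x = true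
  hperm : ∀ i x, i < T.N → x < D.k → T.permOK1 D i x = true
  hlet : ∀ x, x < D.k → D.letOK x = true
  hcls : ∀ d, 0 < d → d < D.M → T.clsOK D d = true
  hrep : ∀ i, i < T.N → T.repOK D i = true
  hcls0 : T.cls 0 = 0
  hname0 : T.nameOf 0 = 0
  hN : 0 < T.N
  hM : 0 < D.M

section Sem

variable {T D}
variable {G : Type*} [Group G] {g : ℕ → G} {H : Subgroup G}

theorem Checked.tbl_lt (hC : T.Checked D) {i x : ℕ} (hi : i < T.N) (hx : x < D.k) : T.tbl i x < T.N := by
  have := hC.hperm i x hi hx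
  rw [permOK1, band_eq_true] at this
  exact ble_succ this.1

theorem Checked.tbl_inv (hC : T.Checked D) {i x : ℕ} (hi : i < T.N) (hx : x < D.k) :
    T.tbl (T.tbl i x) (D.inv x) = i := by
  have := hC.hperm i x hi hx
  rw [permOK1, band_eq_true] at this
  exact beq_eq this.2

theorem Checked.inv_lt (hC : T.Checked D) {x : ℕ} (hx : x < D.k) : D.inv x < D.k := by
  have := hC.hlet x hx
  rw [Log.letOK, band_eq_true] at this
  exact ble_succ this.1

theorem Checked.inv_inv (hC : T.Checked D) {x : ℕ} (hx : x < D.k) : D.inv (D.inv x) = x := by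
  have := hC.hlet x hx
  rw [Log.letOK, band_eq_true] at this
  exact beq_eq this.2

theorem Checked.tbl_inv' (hC : T.Checked D) {i x : ℕ} (hi : i < T.N) (hx : x < D.k) :
    T.tbl (T.tbl i (D.inv x)) x = i := by
  have := hC.tbl_inv hi (hC.inv_lt hx)
  rwa [hC.inv_inv hx] at this

/-- the edge of the final table as a statement in the group -/
theorem Checked.edge (hC : T.Checked D) (hS : D.Sem g H) {i x : ℕ} (hi : i < T.N) (hx : x < D.k) :
    D.V g (T.nameOf i) * g x * (D.V g (T.nameOf (T.tbl i x)))⁻¹ ∈ H := by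
  have hf := hC.hfin i x hi hx
  rw [finOK, band_eq_true, band_eq_true, band_eq_true] at hf
  obtain ⟨h1, h2, h3, h4⟩ := hf
  have hfacts := D.facts_hold hS hC.hz hC.hn hC.hb hC.hr
  have := D.oriented_holds hS (T.finF i x) (T.finD i x) (hfacts _ (ble_succ h1))
  rwa [beq_eq h2, beq_eq h3, beq_eq h4] at this

/-- the cosets of the names of the table cover the group -/
theorem Checked.cover (hC : T.Checked D) (hS : D.Sem g H)
    (hgen : Subgroup.closure (g '' Set.Iio D.k) = ⊤) (γ : G) :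
    ∃ i, i < T.N ∧ γ * (D.V g (T.nameOf i))⁻¹ ∈ H := by
  have hγ : γ ∈ Subgroup.closure (g '' Set.Iio D.k) := by rw [hgen]; trivial
  induction hγ using Subgroup.closure_induction_right with
  | one =>
    refine ⟨0, hC.hN, ?_⟩
    rw [hC.hname0, D.V_zero]
    simp
  | mul_right x _ y hy ih =>
    obtain ⟨i, hi, hm⟩ := ih
    obtain ⟨a, ha, rfl⟩ := hy
    have ha : a < D.k := ha
    refine ⟨T.tbl i a, hC.tbl_lt hi ha, ?_⟩
    have := mul_mem hm (hC.edge hS hi ha)
    have e : x * g a * (D.V g (T.nameOf (T.tbl i a)))⁻¹ =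
        x * (D.V g (T.nameOf i))⁻¹ * (D.V g (T.nameOf i) * g a * (D.V g (T.nameOf (T.tbl i a)))⁻¹) := by
      group
    rw [e]
    exact this
  | mul_inv_cancel x _ y hy ih =>
    obtain ⟨i, hi, hm⟩ := ih
    obtain ⟨a, ha, rfl⟩ := hy
    have ha : a < D.k := ha
    have ha' := hC.inv_lt ha
    refine ⟨T.tbl i (D.inv a), hC.tbl_lt hi ha', ?_⟩
    have := mul_mem hm (hC.edge hS hi ha')
    rw [hS.hinv] at this
    have e : x * (g a)⁻¹ * (D.V g (T.nameOf (T.tbl i (D.inv a))))⁻¹ =
        x * (D.V g (T.nameOf i))⁻¹ *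
          (D.V g (T.nameOf i) * (g a)⁻¹ * (D.V g (T.nameOf (T.tbl i (D.inv a))))⁻¹) := by
      group
    rw [e]
    exact this

theorem Checked.cls_lt (hC : T.Checked D) {d : ℕ} (hd : d < D.M) : T.cls d < T.N := by
  rcases Nat.eq_zero_or_pos d with rfl | hpos
  · rw [hC.hcls0]; exact hC.hN
  · have := hC.hcls d hpos hd
    rw [clsOK, band_eq_true, band_eq_true] at this
    exact ble_succ this.2.1

theorem Checked.src_lt (hC : T.Checked D) {d : ℕ} (h0 : 0 < d) (hd : d < D.M) : D.src d < d := by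
  have := hC.hn d h0 hd
  rw [Log.nameOK, band_eq_true] at this
  exact ble_succ this.1

variable (φ : G →* Equiv.Perm (Fin T.N))

/-- the name word of `d` moves the class of `d` to the base point -/
theorem Checked.phiV (hC : T.Checked D)
    (hφ : ∀ x, x < D.k → ∀ i : Fin T.N, (φ (g x) i).1 = T.tbl i.1 (D.inv x)) :
    ∀ d, d < D.M → ∀ c : Fin T.N, c.1 = T.cls d → (φ (D.V g d) c).1 = 0 := by
  intro d
  induction d using Nat.strong_induction_on with
  | _ d ih =>
    intro hd c hc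
    rcases Nat.eq_zero_or_pos d with rfl | hpos
    · rw [D.V_zero, map_one, Equiv.Perm.one_apply, hc, hC.hcls0]
    · have hcl := hC.hcls d hpos hd
      rw [clsOK, band_eq_true, band_eq_true] at hcl
      obtain ⟨h1, _, h3⟩ := hcl
      have hlt : D.lt d < D.k := ble_succ h1
      have hsrc := hC.src_lt hpos hd
      rw [D.V_succ g hC.hn d hpos hd, map_mul, Equiv.Perm.mul_apply]
      apply ih (D.src d) hsrc (by omega)
      rw [hφ _ hlt, hc, beq_eq h3]
      exact hC.tbl_inv (hC.cls_lt (by omega)) hlt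

/-- the representative of the coset `i` -/
def repG (T : Tab) (D : Log) (g : ℕ → G) (i : Fin T.N) : G := D.V g (T.nameOf i.1)

theorem Checked.hrep' (hC : T.Checked D)
    (hφ : ∀ x, x < D.k → ∀ i : Fin T.N, (φ (g x) i).1 = T.tbl i.1 (D.inv x)) (i : Fin T.N) :
    φ (repG T D g i) i = ⟨0, hC.hN⟩ := by
  have hr := hC.hrep i.1 i.2
  rw [repOK, band_eq_true] at hr
  apply Fin.ext
  exact hC.phiV φ hφ _ (ble_succ hr.1) i (beq_eq hr.2).symm

theorem Checked.hcover' (hC : T.Checked D) (hS : D.Sem g H)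
    (hgen : Subgroup.closure (g '' Set.Iio D.k) = ⊤) (γ : G) :
    ∃ i : Fin T.N, γ * (repG T D g i)⁻¹ ∈ H := by
  obtain ⟨i, hi, h⟩ := hC.cover hS hgen γ
  exact ⟨⟨i, hi⟩, h⟩

/-- The index theorem. -/
theorem Checked.index_eq (hC : T.Checked D) (hS : D.Sem g H)
    (hgen : Subgroup.closure (g '' Set.Iio D.k) = ⊤)
    (hφ : ∀ x, x < D.k → ∀ i : Fin T.N, (φ (g x) i).1 = T.tbl i.1 (D.inv x))
    (hfix : ∀ h ∈ H, φ h ⟨0, hC.hN⟩ = ⟨0, hC.hN⟩) : H.index = T.N :=
  index_eq_of_cover H φ ⟨0, hC.hN⟩ (repG T D g) hfix (hC.hrep' φ hφ) (hC.hcover' hS hgen)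

/-! ### Words acting on the table -/

/-- the action of the word `u` on the index `i`: `φ (wordP g u) i` -/
def act (T : Tab) (D : Log) (u : List ℕ) (i : ℕ) : ℕ := u.foldr (fun x acc => T.tbl acc (D.inv x)) i

theorem act_nil (i : ℕ) : act T D [] i = i := rfl
theorem act_cons (x : ℕ) (u : List ℕ) (i : ℕ) : act T D (x :: u) i = T.tbl (act T D u i) (D.inv x) := rfl

theorem Checked.act_lt (hC : T.Checked D) (u : List ℕ) (hu : ∀ x ∈ u, x < D.k) {i : ℕ} (hi : i < T.N) :
    act T D u i < T.N := by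
  induction u with
  | nil => exact hi
  | cons x u ih =>
    rw [act_cons]
    exact hC.tbl_lt (ih fun y hy => hu y (List.mem_cons_of_mem _ hy))
      (hC.inv_lt (hu x List.mem_cons_self))

theorem Checked.phi_word (_hC : T.Checked D)
    (hφ : ∀ x, x < D.k → ∀ i : Fin T.N, (φ (g x) i).1 = T.tbl i.1 (D.inv x))
    (u : List ℕ) (hu : ∀ x ∈ u, x < D.k) (i : Fin T.N) :
    (φ (Log.wordP g u) i).1 = act T D u i.1 := by
  induction u with
  | nil => simp [act_nil]
  | cons x u ih =>
    rw [Log.wordP_cons, map_mul, Equiv.Perm.mul_apply, hφ x (hu x List.mem_cons_self), act_cons,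
      ih fun y hy => hu y (List.mem_cons_of_mem _ hy)]

/-- a subgroup generated by words fixes the base point when each word does -/
theorem fix_of_words (φ : G →* Equiv.Perm (Fin T.N)) (z : Fin T.N) (S : Set G)
    (hS : ∀ s ∈ S, φ s z = z) : ∀ h ∈ Subgroup.closure S, φ h z = z := by
  intro h hh
  induction hh using Subgroup.closure_induction with
  | mem x hx => exact hS x hx
  | one => simp
  | mul x y _ _ ihx ihy => rw [map_mul, Equiv.Perm.mul_apply, ihy, ihx]
  | inv x _ ih =>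
    rw [map_inv, Equiv.Perm.inv_eq_iff_eq]
    exact ih.symm

/-! ### Suborbits given as intervals -/

/-- orbit tree data: a parent and the index of a generator word -/
def orbInvOK (T : Tab) (D : Log) (subs : List (List ℕ)) (lo hi j : ℕ) : Bool :=
  subs.all fun u => band (Nat.ble lo (act T D u j)) (Nat.ble (Nat.succ (act T D u j)) hi)

def orbTreeOK (T : Tab) (D : Log) (subs : List (List ℕ)) (opar olab : ℕ → ℕ) (lo j : ℕ) : Bool :=
  band (Nat.ble lo (opar j))
    (band (Nat.ble (Nat.succ (opar j)) j) (Nat.beq (act T D (subs.getD (olab j) []) (opar j)) j))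

/-- the interval `[lo, hi)` as a set of indices -/
def ivl (T : Tab) (lo hi : ℕ) : Set (Fin T.N) := {j | lo ≤ j.1 ∧ j.1 < hi}

theorem ivl_ncard (lo hi : ℕ) (h : hi ≤ T.N) : (ivl T lo hi).ncard = hi - lo := by
  have e : Fin.val '' (ivl T lo hi) = Set.Ico lo hi := by
    ext m
    constructor
    · rintro ⟨j, hj, rfl⟩
      exact hj
    · intro hm
      exact ⟨⟨m, lt_of_lt_of_le hm.2 h⟩, hm, rfl⟩
  rw [← Set.ncard_image_of_injective _ Fin.val_injective, e, ← Finset.coe_Ico, Set.ncard_coe_finset,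
    Nat.card_Ico]

theorem Checked.orbit_eq (hC : T.Checked D) (hS : D.Sem g H)
    (hgen : Subgroup.closure (g '' Set.Iio D.k) = ⊤)
    (hφ : ∀ x, x < D.k → ∀ i : Fin T.N, (φ (g x) i).1 = T.tbl i.1 (D.inv x))
    (subs : List (List ℕ)) (hsubs : ∀ u ∈ subs, ∀ x ∈ u, x < D.k)
    (hH : H = Subgroup.closure {s | ∃ u ∈ subs, s = Log.wordP g u})
    (hfix : ∀ h ∈ H, φ h ⟨0, hC.hN⟩ = ⟨0, hC.hN⟩)
    (opar olab : ℕ → ℕ) (lo hi : ℕ) (hlo : lo < hi) (hhi : hi ≤ T.N)
    (hinv : ∀ j, lo ≤ j → j < hi → orbInvOK T D subs lo hi j = true)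
    (htree : ∀ j, lo < j → j < hi → orbTreeOK T D subs opar olab lo j = true) :
    MulAction.orbit H (cosetEquiv H φ ⟨0, hC.hN⟩ (repG T D g) hfix (hC.hrep' φ hφ) (hC.hcover' hS hgen)
        ⟨lo, lt_of_lt_of_le hlo hhi⟩) =
      (cosetEquiv H φ ⟨0, hC.hN⟩ (repG T D g) hfix (hC.hrep' φ hφ) (hC.hcover' hS hgen)) '' ivl T lo hi := by
  apply orbit_eq_image H φ ⟨0, hC.hN⟩ (repG T D g) _ hH hfix (hC.hrep' φ hφ) (hC.hcover' hS hgen)
  · exact ⟨le_refl _, hlo⟩
  · rintro s ⟨u, hu, rfl⟩ j hj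
    have h1 := hinv j.1 hj.1 hj.2
    rw [orbInvOK, List.all_eq_true] at h1
    have h2 := h1 u hu
    rw [band_eq_true] at h2
    show lo ≤ (φ (Log.wordP g u) j).1 ∧ (φ (Log.wordP g u) j).1 < hi
    rw [hC.phi_word φ hφ u (hsubs u hu) j]
    exact ⟨Nat.le_of_ble_eq_true h2.1, ble_succ h2.2⟩
  · -- reachability along the tree
    have key : ∀ n, ∀ j : Fin T.N, j.1 = n → lo ≤ n → n < hi →
        ∃ h ∈ H, φ h ⟨lo, lt_of_lt_of_le hlo hhi⟩ = j := by
      intro n
      induction n using Nat.strong_induction_on with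
      | _ n ih =>
        intro j hjn h1 h2
        rcases Nat.eq_or_lt_of_le h1 with heq | hlt
        · refine ⟨1, one_mem _, ?_⟩
          rw [map_one, Equiv.Perm.one_apply]
          apply Fin.ext
          rw [hjn, ← heq]
        · have ht := htree n hlt h2
          rw [orbTreeOK, band_eq_true, band_eq_true] at ht
          obtain ⟨t1, t2, t3⟩ := ht
          have hp1 : lo ≤ opar n := Nat.le_of_ble_eq_true t1
          have hp2 : opar n < n := ble_succ t2
          have hpN : opar n < T.N := by omega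
          obtain ⟨h', hh', e'⟩ := ih (opar n) hp2 ⟨opar n, hpN⟩ rfl hp1 (by omega)
          have hlen : olab n < subs.length := by
            by_contra hcon
            rw [List.getD_eq_default _ _ (by omega), act_nil] at t3
            have := beq_eq t3
            omega
          have hmem : subs.getD (olab n) [] ∈ subs := by
            rw [List.getD_eq_getElem _ _ hlen]
            exact List.getElem_mem hlen
          have hsH : Log.wordP g (subs.getD (olab n) []) ∈ H := by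
            rw [hH]
            exact Subgroup.subset_closure ⟨_, hmem, rfl⟩
          refine ⟨Log.wordP g (subs.getD (olab n) []) * h', mul_mem hsH hh', ?_⟩
          rw [map_mul, Equiv.Perm.mul_apply, e']
          apply Fin.ext
          rw [hC.phi_word φ hφ _ (hsubs _ hmem), hjn]
          exact beq_eq t3
    intro j hj
    exact key j.1 j rfl hj.1 hj.2

theorem Checked.orbit_ncard (hC : T.Checked D) (hS : D.Sem g H)
    (hgen : Subgroup.closure (g '' Set.Iio D.k) = ⊤)
    (hφ : ∀ x, x < D.k → ∀ i : Fin T.N, (φ (g x) i).1 = T.tbl i.1 (D.inv x))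
    (subs : List (List ℕ)) (hsubs : ∀ u ∈ subs, ∀ x ∈ u, x < D.k)
    (hH : H = Subgroup.closure {s | ∃ u ∈ subs, s = Log.wordP g u})
    (hfix : ∀ h ∈ H, φ h ⟨0, hC.hN⟩ = ⟨0, hC.hN⟩)
    (opar olab : ℕ → ℕ) (lo hi : ℕ) (hlo : lo < hi) (hhi : hi ≤ T.N)
    (hinv : ∀ j, lo ≤ j → j < hi → orbInvOK T D subs lo hi j = true)
    (htree : ∀ j, lo < j → j < hi → orbTreeOK T D subs opar olab lo j = true) :
    (MulAction.orbit H (cosetEquiv H φ ⟨0, hC.hN⟩ (repG T D g) hfix (hC.hrep' φ hφ) (hC.hcover' hS hgen)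
        ⟨lo, lt_of_lt_of_le hlo hhi⟩)).ncard = hi - lo := by
  rw [hC.orbit_eq φ hS hgen hφ subs hsubs hH hfix opar olab lo hi hlo hhi hinv htree,
    Set.ncard_image_of_injective _ (Equiv.injective _), ivl_ncard lo hi hhi]

end Sem

end Tab

end Cfsg.Agent.Lib.Helper4.TC
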