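import Mathlib
import Cfsg.Agent.Lib.Helper4.TC3

/-!
Verified Todd–Coxeter logs, part 4: relator tables, pseudo letters, and the permutation representation.
-/

namespace Cfsg.Agent.Lib.Helper4.TC

open Log

/-! ### Matching a literal table against lists -/

def listMatch (f : ℕ → ℕ) : ℕ → List ℕ → Bool
  | _, [] => true
  | b, x :: l => band (Nat.beq (f b) x) (listMatch f (b+1) l)

theorem listMatch_get {f : ℕ → ℕ} : ∀ {b : ℕ} {L : List ℕ}, listMatch f b L = true →
    ∀ i (hi : i < L.length), f (b + i) = L[i]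
  | _, [], _, i, hi => by simp at hi
  | b, x :: l, h, i, hi => by
    rw [listMatch, band_eq_true] at h
    rcases i with _ | i
    · simpa using beq_eq h.1
    · have := listMatch_get h.2 i (by simpa using hi)
      simp only [List.getElem_cons_succ]
      rw [← this]
      congr 1
      omega

/-- the relator rows of the log are the given lists (doubled) -/
def Log.relTabOK (D : Log) : ℕ → List (List ℕ) → Bool
  | ρ, [] => Nat.beq ρ D.nR
  | ρ, r :: rs =>
    band (Nat.beq (D.rLen ρ) r.length)
      (band (listMatch D.RR (D.rBase ρ) (r ++ r)) (Log.relTabOK D (ρ+1) rs))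

theorem Log.relTabOK_spec (D : Log) : ∀ (L : List (List ℕ)) (ρ0 : ℕ), D.relTabOK ρ0 L = true →
    ∀ ρ, ρ0 ≤ ρ → ρ < D.nR →
      ∃ r ∈ L, D.rLen ρ = r.length ∧ listMatch D.RR (D.rBase ρ) (r ++ r) = true
  | [], ρ0, h, ρ, h1, h2 => by
    rw [Log.relTabOK] at h
    have := beq_eq h
    omega
  | r :: rs, ρ0, h, ρ, h1, h2 => by
    rw [Log.relTabOK, band_eq_true, band_eq_true] at h
    rcases Nat.eq_or_lt_of_le h1 with heq | hlt
    · subst heq
      exact ⟨r, List.mem_cons_self, beq_eq h.1, h.2.1⟩
    · obtain ⟨r', hr', h3⟩ := Log.relTabOK_spec D rs (ρ0+1) h.2.2 ρ hlt h2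
      exact ⟨r', List.mem_cons_of_mem _ hr', h3⟩

theorem Log.win_eq_rotate (D : Log) (b p : ℕ) (r : List ℕ) (hp : p < r.length)
    (hm : listMatch D.RR b (r ++ r) = true) :
    D.win (b + p) 0 r.length = r.drop p ++ r.take p := by
  apply List.ext_getElem
  · simp [Log.win]
    omega
  · intro i h1 h2
    have hi : i < r.length := by simpa [Log.win] using h1
    have hg := listMatch_get hm (p + i) (by simp; omega)
    simp only [Log.win, List.getElem_map, List.getElem_range]
    have e : b + p + 0 + i = b + (p + i) := by omega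
    rw [e, hg]
    by_cases hc : p + i < r.length
    · rw [List.getElem_append_left hc, List.getElem_append_left (by simp; omega), List.getElem_drop]
    · rw [List.getElem_append_right (by omega), List.getElem_append_right (by simp; omega),
        List.getElem_take]
      congr 1
      simp
      omega

section Words

variable {G : Type*} [Group G] (g : ℕ → G)

theorem wordP_rotate (r : List ℕ) (p : ℕ) (h : wordP g r = 1) :
    wordP g (r.drop p ++ r.take p) = 1 := by
  have e : wordP g (r.take p ++ r.drop p) = 1 := by rwa [List.take_append_drop]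
  rw [wordP_append] at e ⊢
  have := eq_inv_of_mul_eq_one_right e
  rw [this]
  simp

/-- the formal inverse of a word -/
def invWord (inv : ℕ → ℕ) (r : List ℕ) : List ℕ := (r.map inv).reverse

theorem wordP_invWord (inv : ℕ → ℕ) (hinv : ∀ l, g (inv l) = (g l)⁻¹) (r : List ℕ) :
    wordP g (invWord inv r) = (wordP g r)⁻¹ := by
  induction r with
  | nil => simp [invWord]
  | cons x r ih =>
    have : invWord inv (x :: r) = invWord inv r ++ [inv x] := by simp [invWord]
    rw [this, wordP_append, ih, wordP_cons, wordP_cons, wordP_nil, hinv]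
    simp

/-- the window hypothesis from a list of base relators -/
theorem Log.hwin_of_base (D : Log) (base : List (List ℕ)) (hinv : ∀ l, g (D.inv l) = (g l)⁻¹)
    (hbase : ∀ r ∈ base, wordP g r = 1)
    (htab : D.relTabOK 0 (base ++ base.map (invWord D.inv)) = true) :
    ∀ ρ p, ρ < D.nR → p < D.rLen ρ → wordP g (D.win (D.rBase ρ + p) 0 (D.rLen ρ)) = 1 := by
  intro ρ p hρ hp
  obtain ⟨r, hr, hlen, hm⟩ := D.relTabOK_spec _ 0 htab ρ (Nat.zero_le _) hρ
  rw [hlen] at hp ⊢
  rw [D.win_eq_rotate _ p r hp hm]
  apply wordP_rotate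
  rcases List.mem_append.1 hr with h | h
  · exact hbase r h
  · obtain ⟨r', hr', rfl⟩ := List.mem_map.1 h
    rw [wordP_invWord g D.inv hinv, hbase r' hr', inv_one]

end Words

/-! ### Pseudo letters -/

/-- inverse letter map extended to the pseudo letters -/
def invE (k : ℕ) (invR : ℕ → ℕ) (l : ℕ) : ℕ :=
  bsel (Nat.ble l k) (bsel (Nat.beq (Nat.land (Nat.sub l k) 1) 1) (Nat.pred l) (Nat.succ l)) (invR l)

section Ext

variable {G : Type*} [Group G]

/-- letters extended by the pseudo letters of the subgroup generators -/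
def extG (k : ℕ) (gR : ℕ → G) (subsG : List G) (l : ℕ) : G :=
  if l ≤ k then gR l
  else if (l - k) % 2 = 1 then (subsG.getD ((l - k - 1) / 2) 1)⁻¹ else subsG.getD ((l - k - 1) / 2) 1

theorem extG_le {k : ℕ} {gR : ℕ → G} {subsG : List G} {l : ℕ} (h : l ≤ k) : extG k gR subsG l = gR l := by
  rw [extG, if_pos h]

theorem extG_invE (k : ℕ) (gR : ℕ → G) (subsG : List G) (invR : ℕ → ℕ)
    (hR : ∀ l, l ≤ k → invR l ≤ k ∧ gR (invR l) = (gR l)⁻¹) (l : ℕ) :
    extG k gR subsG (invE k invR l) = (extG k gR subsG l)⁻¹ := by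
  unfold invE
  by_cases h : l ≤ k
  · have : Nat.ble l k = true := Nat.ble_eq_true_of_le h
    rw [this, bsel_true, extG_le (hR l h).1, extG_le h, (hR l h).2]
  · have : Nat.ble l k = false := by
      rw [Bool.eq_false_iff]
      intro hc
      exact h (Nat.le_of_ble_eq_true hc)
    rw [this, bsel_false]
    have hl : k < l := Nat.lt_of_not_le h
    by_cases hodd : (l - k) % 2 = 1
    · have hb : Nat.beq (Nat.land (Nat.sub l k) 1) 1 = true := by
        have : Nat.land (Nat.sub l k) 1 = (l - k) % 2 := Nat.and_one_is_mod _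
        rw [this, hodd]
        rfl
      rw [hb, bsel_true]
      have h1 : ¬ Nat.succ l ≤ k := by omega
      have h2 : ¬ (Nat.succ l - k) % 2 = 1 := by omega
      have h3 : (Nat.succ l - k - 1) / 2 = (l - k - 1) / 2 := by omega
      rw [extG, if_neg h1, if_neg h2, extG, if_neg h, if_pos hodd, h3, inv_inv]
    · have hb : Nat.beq (Nat.land (Nat.sub l k) 1) 1 = false := by
        have : Nat.land (Nat.sub l k) 1 = (l - k) % 2 := Nat.and_one_is_mod _
        rw [this]
        have : (l - k) % 2 = 0 := by omega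
        rw [this]
        rfl
      rw [hb, bsel_false]
      have h1 : ¬ Nat.pred l ≤ k := by
        have : l - k ≥ 2 := by omega
        show ¬ l - 1 ≤ k
        omega
      have h2 : (Nat.pred l - k) % 2 = 1 := by
        show (l - 1 - k) % 2 = 1
        omega
      have h3 : (Nat.pred l - k - 1) / 2 = (l - k - 1) / 2 := by
        show (l - 1 - k - 1) / 2 = (l - k - 1) / 2
        omega
      rw [extG, if_neg h1, if_pos h2, extG, if_neg h, if_neg hodd, h3]

theorem extG_base (k : ℕ) (gR : ℕ → G) (subsG : List G) (H : Subgroup G)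
    (hH : ∀ s ∈ subsG, s ∈ H) (j : ℕ) : extG k gR subsG (k + 1 + j) ∈ H := by
  have h1 : ¬ k + 1 + j ≤ k := by omega
  have hmem : subsG.getD ((k + 1 + j - k - 1) / 2) 1 ∈ H := by
    by_cases hl : (k + 1 + j - k - 1) / 2 < subsG.length
    · rw [List.getD_eq_getElem _ _ hl]
      exact hH _ (List.getElem_mem hl)
    · rw [List.getD_eq_default _ _ (by omega)]
      exact one_mem _
  rw [extG, if_neg h1]
  split_ifs
  · exact inv_mem hmem
  · exact hmem

theorem wordP_extG (k : ℕ) (gR : ℕ → G) (subsG : List G) (u : List ℕ) (hu : ∀ x ∈ u, x ≤ k) :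
    wordP (extG k gR subsG) u = wordP gR u := by
  induction u with
  | nil => rfl
  | cons x u ih =>
    rw [wordP_cons, wordP_cons, extG_le (hu x List.mem_cons_self),
      ih fun y hy => hu y (List.mem_cons_of_mem _ hy)]

/-- the relators that tie the pseudo letters to the subgroup generator words -/
def subRels (k : ℕ) : ℕ → List (List ℕ) → List (List ℕ)
  | _, [] => []
  | σ, u :: us => (u ++ [k + 1 + 2 * σ]) :: subRels k (σ+1) us

theorem subRels_sound (k : ℕ) (gR : ℕ → G) (subs : List (List ℕ)) (hsubs : ∀ u ∈ subs, ∀ x ∈ u, x ≤ k) :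
    ∀ (pre : List (List ℕ)) (us : List (List ℕ)), subs = pre ++ us →
      ∀ r ∈ subRels k pre.length us, wordP (extG k gR (subs.map (wordP gR))) r = 1 := by
  intro pre us
  induction us generalizing pre with
  | nil => intro _ r hr; simp [subRels] at hr
  | cons u us ih =>
    intro hsplit r hr
    rw [subRels] at hr
    rcases List.mem_cons.1 hr with rfl | hr
    · have hu : u ∈ subs := by rw [hsplit]; simp
      rw [wordP_append, wordP_extG k gR _ u (hsubs u hu), wordP_cons, wordP_nil, mul_one]
      have h1 : ¬ k + 1 + 2 * pre.length ≤ k := by omega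
      have h2 : (k + 1 + 2 * pre.length - k) % 2 = 1 := by omega
      have h3 : (k + 1 + 2 * pre.length - k - 1) / 2 = pre.length := by omega
      rw [extG, if_neg h1, if_pos h2, h3]
      have hlen : pre.length < (subs.map (wordP gR)).length := by
        rw [List.length_map, hsplit]; simp
      rw [List.getD_eq_getElem _ _ hlen, List.getElem_map]
      have : subs[pre.length]'(by rw [hsplit]; simp) = u := by
        simp [hsplit]
      rw [this]
      simp
    · have := ih (pre ++ [u]) (by rw [hsplit]; simp) r (by simpa using hr)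
      exact this

/-- the trivial relators `x * x⁻¹` -/
def trivRels (k : ℕ) (invR : ℕ → ℕ) : List (List ℕ) := (List.range k).map fun x => [x, invR x]

/-- the base relator list of a log -/
def baseRels (k : ℕ) (invR : ℕ → ℕ) (real subs : List (List ℕ)) : List (List ℕ) :=
  real ++ trivRels k invR ++ subRels k 0 subs

theorem baseRels_sound (k : ℕ) (gR : ℕ → G) (invR : ℕ → ℕ) (real subs : List (List ℕ))
    (hR : ∀ l, l ≤ k → invR l ≤ k ∧ gR (invR l) = (gR l)⁻¹)
    (hreal : ∀ r ∈ real, (∀ x ∈ r, x ≤ k) ∧ wordP gR r = 1)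
    (hsubs : ∀ u ∈ subs, ∀ x ∈ u, x ≤ k) :
    ∀ r ∈ baseRels k invR real subs, wordP (extG k gR (subs.map (wordP gR))) r = 1 := by
  intro r hr
  rw [baseRels, List.mem_append, List.mem_append] at hr
  rcases hr with (hr | hr) | hr
  · rw [wordP_extG k gR _ r (hreal r hr).1]
    exact (hreal r hr).2
  · obtain ⟨x, hx, rfl⟩ := List.mem_map.1 hr
    have hx : x < k := List.mem_range.1 hx
    rw [wordP_cons, wordP_cons, wordP_nil, extG_le (le_of_lt hx), extG_le (hR x (le_of_lt hx)).1,
      (hR x (le_of_lt hx)).2]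
    simp
  · exact subRels_sound k gR subs hsubs [] subs rfl r hr

end Ext

/-! ### The permutation representation from the table -/

namespace Tab

variable {T : Tab} {D : Log}

/-- the permutation of a letter -/
def colPerm (hC : T.Checked D) (x : ℕ) : Equiv.Perm (Fin T.N) :=
  if hx : x < D.k then
    { toFun := fun i => ⟨T.tbl i.1 (D.inv x), hC.tbl_lt i.2 (hC.inv_lt hx)⟩
      invFun := fun i => ⟨T.tbl i.1 x, hC.tbl_lt i.2 hx⟩
      left_inv := fun i => Fin.ext (hC.tbl_inv' i.2 hx)
      right_inv := fun i => Fin.ext (hC.tbl_inv i.2 hx) }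
  else 1

theorem colPerm_apply (hC : T.Checked D) {x : ℕ} (hx : x < D.k) (i : Fin T.N) :
    (colPerm hC x i).1 = T.tbl i.1 (D.inv x) := by
  rw [colPerm, dif_pos hx]
  rfl

theorem colPerm_inv (hC : T.Checked D) {x : ℕ} (hx : x < D.k) :
    colPerm hC (D.inv x) = (colPerm hC x)⁻¹ := by
  ext i
  rw [colPerm_apply hC (hC.inv_lt hx), hC.inv_inv hx]
  rw [colPerm, dif_pos hx]
  rfl

/-- words of letter permutations act through the table -/
theorem act_of_perm (_hC : T.Checked D) (p : ℕ → Equiv.Perm (Fin T.N))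
    (hp : ∀ x, x < D.k → ∀ i : Fin T.N, (p x i).1 = T.tbl i.1 (D.inv x))
    (u : List ℕ) (hu : ∀ x ∈ u, x < D.k) (i : Fin T.N) :
    (wordP p u i).1 = act T D u i.1 := by
  induction u with
  | nil => simp [act_nil]
  | cons x u ih =>
    rw [wordP_cons, Equiv.Perm.mul_apply, hp x (hu x List.mem_cons_self), act_cons,
      ih fun y hy => hu y (List.mem_cons_of_mem _ hy)]

/-- the check that a word acts trivially on the table -/
def relActOK (T : Tab) (D : Log) (u : List ℕ) (i : ℕ) : Bool := Nat.beq (act T D u i) i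

theorem wordP_colPerm_eq_one (hC : T.Checked D) (u : List ℕ) (hu : ∀ x ∈ u, x < D.k)
    (h : ∀ i, i < T.N → relActOK T D u i = true) : wordP (colPerm hC) u = 1 := by
  ext i
  rw [act_of_perm hC (colPerm hC) (fun x hx i => colPerm_apply hC hx i) u hu i]
  simpa using beq_eq (h i.1 i.2)

end Tab

end Cfsg.Agent.Lib.Helper4.TC
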