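import Mathlib
import Cfsg.Prelude.Def_SporCoxeter
import Cfsg.Agent.Lib.Helper4.TC4

/-!
Verified Todd–Coxeter logs, part 5: groups presented by a Coxeter graph and further relators.
-/

namespace Cfsg.Agent.Lib.Helper4.TC

open Log Cfsg.Spor

/-- the word `(a b)^m` -/
def altW (t : ℕ × ℕ × ℕ) : List ℕ := (List.replicate t.2.2 [t.1, t.2.1]).flatten

theorem wordP_altW {Γ : Type*} [Group Γ] (p : ℕ → Γ) (t : ℕ × ℕ × ℕ) :
    wordP p (altW t) = (p t.1 * p t.2.1) ^ t.2.2 := by
  obtain ⟨a, b, m⟩ := t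
  simp only [altW]
  induction m with
  | zero => simp
  | succ m ih =>
    rw [List.replicate_succ, List.flatten_cons, wordP_append, ih, pow_succ']
    simp [mul_assoc]

theorem mem_altW {t : ℕ × ℕ × ℕ} {x : ℕ} (h : x ∈ altW t) : x = t.1 ∨ x = t.2.1 := by
  simp only [altW, List.mem_flatten, List.mem_replicate] at h
  obtain ⟨l, ⟨_, rfl⟩, hx⟩ := h
  simpa using hx

theorem pow_comm_eq_one {Γ : Type*} [Group Γ] (a b : Γ) (m : ℕ) (h : (a * b) ^ m = 1) :
    (b * a) ^ m = 1 := by
  have e : b * a = a⁻¹ * (a * b) * a⁻¹⁻¹ := by group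
  rw [e, conj_pow, h]
  group

/-- The letter encoding of a presentation by a Coxeter graph and further relators. -/
structure CoxEnc (α : Type) [DecidableEq α] where
  edges : List (α × ℕ × α)
  extra : List (FreeGroup α)
  k : ℕ
  enc : α → ℕ
  dec : ℕ → FreeGroup α
  invR : ℕ → ℕ
  tri : List (ℕ × ℕ × ℕ)
  extraW : List (List ℕ)

namespace CoxEnc

variable {α : Type} [DecidableEq α] (P : CoxEnc α)

/-- the relators of the presentation -/
def rels : Set (FreeGroup α) := coxRelators P.edges ∪ {r | r ∈ P.extra}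

/-- the real relator words -/
def real : List (List ℕ) := P.tri.map altW ++ P.extraW

/-- what has to be verified about an encoding -/
structure Valid : Prop where
  hnode : ∀ x ∈ coxNodes P.edges, P.dec (P.enc x) = FreeGroup.of x ∧ P.enc x < P.k ∧ P.invR (P.enc x) = P.enc x
  hsound : ∀ t ∈ P.tri, ∃ x ∈ coxNodes P.edges, ∃ y ∈ coxNodes P.edges,
    P.enc x = t.1 ∧ P.enc y = t.2.1 ∧ coxLabel P.edges x y = t.2.2
  hcomplete : ∀ x ∈ coxNodes P.edges, ∀ y ∈ coxNodes P.edges, ∃ t ∈ P.tri,
    ((P.enc x = t.1 ∧ P.enc y = t.2.1) ∨ (P.enc y = t.1 ∧ P.enc x = t.2.1)) ∧ coxLabel P.edges x y = t.2.2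
  hlen : P.extraW.length = P.extra.length
  hextra : ∀ (Γ : Type) [Group Γ] (f : α → Γ), (∀ x ∈ coxNodes P.edges, f x * f x = 1) →
    ∀ i (h : i < P.extra.length) (h' : i < P.extraW.length),
      FreeGroup.lift f (P.extra[i]) = wordP (fun l => FreeGroup.lift f (P.dec l)) (P.extraW[i])
  hextraW : ∀ L ∈ P.extraW, ∀ x ∈ L, x < P.k
  hdec : ∀ l, l < P.k → (∃ a, P.dec l = FreeGroup.of a ∧ P.enc a = l) ∨
    (∃ a, P.dec l = (FreeGroup.of a)⁻¹ ∧ P.invR (P.enc a) = l ∧ P.enc a < P.k ∧ P.dec (P.enc a) = FreeGroup.of a)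
  hinvR : ∀ l, l < P.k → P.invR l < P.k ∧
    (P.dec (P.invR l) = (P.dec l)⁻¹ ∨ (P.invR l = l ∧ ∃ x ∈ coxNodes P.edges, P.dec l = FreeGroup.of x))
  hinvk : P.invR P.k = P.k
  hsurj : ∀ a : α, ∃ l, l < P.k ∧ P.dec l = FreeGroup.of a

variable {P}

theorem coxLabel_self (edges : List (α × ℕ × α)) (x : α) : coxLabel edges x x = 1 := by
  simp [coxLabel]

theorem Valid.real_lt (hP : P.Valid) : ∀ L ∈ P.real, ∀ x ∈ L, x < P.k := by
  intro L hL x hx
  rw [real, List.mem_append] at hL
  rcases hL with hL | hL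
  · obtain ⟨t, ht, rfl⟩ := List.mem_map.1 hL
    obtain ⟨a, ha, b, hb, h1, h2, _⟩ := hP.hsound t ht
    rcases mem_altW hx with rfl | rfl
    · rw [← h1]; exact (hP.hnode a ha).2.1
    · rw [← h2]; exact (hP.hnode b hb).2.1
  · exact hP.hextraW L hL x hx

/-- the relators hold under `f` iff the relator words evaluate to one -/
theorem Valid.rels_iff (hP : P.Valid) (Γ : Type) [Group Γ] (f : α → Γ) :
    (∀ r ∈ P.rels, FreeGroup.lift f r = 1) ↔
      (∀ L ∈ P.real, wordP (fun l => FreeGroup.lift f (P.dec l)) L = 1) := by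
  constructor
  · intro h
    have hnode : ∀ x ∈ coxNodes P.edges, f x * f x = 1 := by
      intro x hx
      have := h ((FreeGroup.of x * FreeGroup.of x) ^ coxLabel P.edges x x)
        (Or.inl ⟨x, hx, x, hx, rfl⟩)
      rw [coxLabel_self] at this
      simpa using this
    intro L hL
    rw [real, List.mem_append] at hL
    rcases hL with hL | hL
    · obtain ⟨t, ht, rfl⟩ := List.mem_map.1 hL
      obtain ⟨x, hx, y, hy, h1, h2, h3⟩ := hP.hsound t ht
      rw [wordP_altW, ← h1, ← h2, ← h3, (hP.hnode x hx).1, (hP.hnode y hy).1]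
      have := h ((FreeGroup.of x * FreeGroup.of y) ^ coxLabel P.edges x y)
        (Or.inl ⟨x, hx, y, hy, rfl⟩)
      simpa using this
    · obtain ⟨i, hi, rfl⟩ := List.getElem_of_mem hL
      have hi' : i < P.extra.length := by rw [← hP.hlen]; exact hi
      rw [← hP.hextra Γ f hnode i hi' hi]
      exact h _ (Or.inr (List.getElem_mem hi'))
  · intro h
    have hnode : ∀ x ∈ coxNodes P.edges, f x * f x = 1 := by
      intro x hx
      obtain ⟨t, ht, h1, h2⟩ := hP.hcomplete x hx x hx
      have := h (altW t) (by rw [real]; exact List.mem_append_left _ (List.mem_map_of_mem ht))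
      rw [wordP_altW, ← h2, coxLabel_self] at this
      have e1 : t.1 = P.enc x := by rcases h1 with h1 | h1 <;> exact h1.1.symm
      have e2 : t.2.1 = P.enc x := by rcases h1 with h1 | h1 <;> exact h1.2.symm
      rw [e1, e2, (hP.hnode x hx).1] at this
      simpa using this
    intro r hr
    rcases hr with ⟨x, hx, y, hy, rfl⟩ | hr
    · obtain ⟨t, ht, h1, h2⟩ := hP.hcomplete x hx y hy
      have := h (altW t) (by rw [real]; exact List.mem_append_left _ (List.mem_map_of_mem ht))
      rw [wordP_altW, ← h2] at this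
      rw [map_pow, map_mul, FreeGroup.lift_apply_of, FreeGroup.lift_apply_of]
      rcases h1 with ⟨e1, e2⟩ | ⟨e1, e2⟩
      · rw [← e1, ← e2, (hP.hnode x hx).1, (hP.hnode y hy).1] at this
        simpa using this
      · rw [← e1, ← e2, (hP.hnode x hx).1, (hP.hnode y hy).1] at this
        apply pow_comm_eq_one
        simpa using this
    · have hr : r ∈ P.extra := hr
      obtain ⟨i, hi, rfl⟩ := List.getElem_of_mem hr
      have hi' : i < P.extraW.length := by rw [hP.hlen]; exact hi
      rw [hP.hextra Γ f hnode i hi hi']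
      exact h _ (by rw [real]; exact List.mem_append_right _ (List.getElem_mem hi'))

/-- the presented group -/
abbrev Grp (P : CoxEnc α) : Type := PresentedGroup P.rels

/-- the letters in the presented group -/
def gR (P : CoxEnc α) (l : ℕ) : P.Grp := if l < P.k then PresentedGroup.mk P.rels (P.dec l) else 1

theorem gR_lt {l : ℕ} (h : l < P.k) : P.gR l = PresentedGroup.mk P.rels (P.dec l) := by
  rw [gR, if_pos h]

theorem lift_of_eq_mk (w : FreeGroup α) :
    FreeGroup.lift (fun a => (PresentedGroup.of a : P.Grp)) w = PresentedGroup.mk P.rels w := by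
  have : FreeGroup.lift (fun a => (PresentedGroup.of a : P.Grp)) = PresentedGroup.mk P.rels := by
    ext a
    simp [PresentedGroup.of]
  rw [this]

theorem Valid.real_sound (hP : P.Valid) : ∀ r ∈ P.real, (∀ x ∈ r, x ≤ P.k) ∧ wordP P.gR r = 1 := by
  intro r hr
  refine ⟨fun x hx => le_of_lt (hP.real_lt r hr x hx), ?_⟩
  have h1 := (hP.rels_iff P.Grp (fun a => PresentedGroup.of a)).1 (by
    intro r hr
    rw [lift_of_eq_mk]
    exact PresentedGroup.one_of_mem hr) r hr
  have e : ∀ L : List ℕ, (∀ x ∈ L, x < P.k) →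
      wordP P.gR L = wordP (fun l => FreeGroup.lift (fun a => (PresentedGroup.of a : P.Grp)) (P.dec l)) L := by
    intro L
    induction L with
    | nil => intro _; rfl
    | cons x L ih =>
      intro hL
      rw [wordP_cons, wordP_cons, ih fun y hy => hL y (List.mem_cons_of_mem _ hy),
        gR_lt (hL x List.mem_cons_self), lift_of_eq_mk]
  rw [e r (hP.real_lt r hr)]
  exact h1

theorem Valid.invR_sound (hP : P.Valid) :
    ∀ l, l ≤ P.k → P.invR l ≤ P.k ∧ P.gR (P.invR l) = (P.gR l)⁻¹ := by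
  intro l hl
  rcases Nat.eq_or_lt_of_le hl with rfl | hlt
  · rw [hP.hinvk]
    refine ⟨le_refl _, ?_⟩
    rw [gR, if_neg (lt_irrefl _)]
    simp
  · obtain ⟨h1, h2⟩ := hP.hinvR l hlt
    refine ⟨le_of_lt h1, ?_⟩
    rw [gR_lt h1, gR_lt hlt]
    rcases h2 with h2 | ⟨h2, x, hx, h3⟩
    · rw [h2, map_inv]
    · rw [h2, h3, eq_inv_iff_mul_eq_one]
      have := PresentedGroup.one_of_mem (rels := P.rels)
        (x := (FreeGroup.of x * FreeGroup.of x) ^ coxLabel P.edges x x) (Or.inl ⟨x, hx, x, hx, rfl⟩)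
      rw [coxLabel_self, pow_one, map_mul] at this
      exact this

theorem Valid.gen_top (hP : P.Valid) : Subgroup.closure (P.gR '' Set.Iio P.k) = ⊤ := by
  rw [eq_top_iff, ← PresentedGroup.closure_range_of]
  apply Subgroup.closure_mono
  rintro _ ⟨a, rfl⟩
  obtain ⟨l, hl, h⟩ := hP.hsurj a
  refine ⟨l, hl, ?_⟩
  rw [gR_lt hl, h]
  rfl

/-! ### The permutation representation -/

variable {T : Tab} {D : Log}

/-- the images of the generators -/
def permOfGen (P : CoxEnc α) (hC : T.Checked D) (a : α) : Equiv.Perm (Fin T.N) := Tab.colPerm hC (P.enc a)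

theorem Valid.lift_dec (hP : P.Valid) (hC : T.Checked D) (hk : D.k = P.k)
    (hinv : ∀ l, l ≤ P.k → D.inv l = P.invR l) (l : ℕ) (hl : l < P.k) :
    FreeGroup.lift (P.permOfGen hC) (P.dec l) = Tab.colPerm hC l := by
  rcases hP.hdec l hl with ⟨a, h1, h2⟩ | ⟨a, h1, h2, h3, _⟩
  · rw [h1, FreeGroup.lift_apply_of, permOfGen, h2]
  · rw [h1, map_inv, FreeGroup.lift_apply_of, permOfGen, ← Tab.colPerm_inv hC (by rw [hk]; exact h3),
      hinv _ (le_of_lt h3), h2]

/-- the permutation representation of the presented group on the cosets of the table -/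
noncomputable def phi (hP : P.Valid) (hC : T.Checked D) (hk : D.k = P.k)
    (hinv : ∀ l, l ≤ P.k → D.inv l = P.invR l)
    (hact : ∀ L ∈ P.real, ∀ i, i < T.N → Tab.relActOK T D L i = true) :
    P.Grp →* Equiv.Perm (Fin T.N) :=
  PresentedGroup.toGroup (f := P.permOfGen hC) (by
    apply (hP.rels_iff _ (P.permOfGen hC)).2
    intro L hL
    have e : ∀ L : List ℕ, (∀ x ∈ L, x < P.k) →
        wordP (fun l => FreeGroup.lift (P.permOfGen hC) (P.dec l)) L = wordP (Tab.colPerm hC) L := by
      intro L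
      induction L with
      | nil => intro _; rfl
      | cons x L ih =>
        intro h
        rw [wordP_cons, wordP_cons, ih fun y hy => h y (List.mem_cons_of_mem _ hy),
          hP.lift_dec hC hk hinv x (h x List.mem_cons_self)]
    rw [e L (hP.real_lt L hL)]
    exact Tab.wordP_colPerm_eq_one hC L (fun x hx => by rw [hk]; exact hP.real_lt L hL x hx) (hact L hL))

theorem phi_gR (hP : P.Valid) (hC : T.Checked D) (hk : D.k = P.k)
    (hinv : ∀ l, l ≤ P.k → D.inv l = P.invR l)
    (hact : ∀ L ∈ P.real, ∀ i, i < T.N → Tab.relActOK T D L i = true) (x : ℕ) (hx : x < D.k)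
    (i : Fin T.N) : (phi hP hC hk hinv hact (P.gR x) i).1 = T.tbl i.1 (D.inv x) := by
  have hx' : x < P.k := by rw [← hk]; exact hx
  rw [gR_lt hx']
  have : phi hP hC hk hinv hact (PresentedGroup.mk P.rels (P.dec x)) =
      FreeGroup.lift (P.permOfGen hC) (P.dec x) := rfl
  rw [this, hP.lift_dec hC hk hinv x hx', Tab.colPerm_apply hC hx]

end CoxEnc

end Cfsg.Agent.Lib.Helper4.TC
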