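import Mathlib
import Cfsg.Agent.Lib.Helper4.TC5

/-!
Verified Todd–Coxeter logs, part 6: the assembled theorem for a presented group.
-/

namespace Cfsg.Agent.Lib.Helper4.TC

open Log Cfsg.Spor

variable {α : Type} [DecidableEq α]

/-- All checks for a log of a subgroup of a presented group. -/
structure Inst (P : CoxEnc α) (T : Tab) (D : Log) (subs : List (List ℕ)) : Prop where
  hP : P.Valid
  hk : D.k = P.k
  hinv : D.inv = invE P.k P.invR
  hsubs : ∀ u ∈ subs, ∀ x ∈ u, x < P.k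
  htab : D.relTabOK 0 (baseRels P.k P.invR P.real subs ++
    (baseRels P.k P.invR P.real subs).map (invWord D.inv)) = true
  hC : T.Checked D
  hact : ∀ L ∈ P.real, ∀ i, i < T.N → Tab.relActOK T D L i = true
  hsubfix : ∀ u ∈ subs, Tab.act T D u 0 = 0

namespace Inst

variable {P : CoxEnc α} {T : Tab} {D : Log} {subs : List (List ℕ)}

/-- the subgroup -/
def subG (P : CoxEnc α) (subs : List (List ℕ)) : Subgroup P.Grp :=
  Subgroup.closure {s | ∃ u ∈ subs, s = wordP P.gR u}

/-- the extended letters -/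
def gE (P : CoxEnc α) (subs : List (List ℕ)) : ℕ → P.Grp := extG P.k P.gR (subs.map (wordP P.gR))

theorem gE_word (I : Inst P T D subs) (u : List ℕ) (hu : ∀ x ∈ u, x < P.k) :
    wordP (gE P subs) u = wordP P.gR u := by
  have _ := I
  exact wordP_extG P.k P.gR _ u fun x hx => le_of_lt (hu x hx)

theorem inv_le (I : Inst P T D subs) (l : ℕ) (hl : l ≤ P.k) : D.inv l = P.invR l := by
  rw [I.hinv, invE, Nat.ble_eq_true_of_le hl, bsel_true]

theorem sem (I : Inst P T D subs) : D.Sem (gE P subs) (subG P subs) where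
  heps := by
    rw [I.hk, gE, extG_le (le_refl _), CoxEnc.gR, if_neg (lt_irrefl _)]
  hinv := by
    intro l
    rw [I.hinv]
    exact extG_invE P.k P.gR _ P.invR I.hP.invR_sound l
  hwin := by
    apply D.hwin_of_base (gE P subs) (baseRels P.k P.invR P.real subs)
    · intro l
      rw [I.hinv]
      exact extG_invE P.k P.gR _ P.invR I.hP.invR_sound l
    · exact baseRels_sound P.k P.gR P.invR P.real subs I.hP.invR_sound I.hP.real_sound
        fun u hu x hx => le_of_lt (I.hsubs u hu x hx)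
    · exact I.htab
  hbase := by
    intro j _
    rw [I.hk]
    apply extG_base
    intro s hs
    obtain ⟨u, hu, rfl⟩ := List.mem_map.1 hs
    exact Subgroup.subset_closure ⟨u, hu, rfl⟩

theorem gen (I : Inst P T D subs) : Subgroup.closure (gE P subs '' Set.Iio D.k) = ⊤ := by
  rw [← I.hP.gen_top, I.hk]
  congr 1
  apply Set.image_congr
  intro l hl
  exact extG_le (le_of_lt hl)

/-- the permutation representation -/
noncomputable def phi (I : Inst P T D subs) : P.Grp →* Equiv.Perm (Fin T.N) :=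
  CoxEnc.phi I.hP I.hC I.hk I.inv_le I.hact

theorem hphi (I : Inst P T D subs) (x : ℕ) (hx : x < D.k) (i : Fin T.N) :
    (I.phi (gE P subs x) i).1 = T.tbl i.1 (D.inv x) := by
  have : gE P subs x = P.gR x := extG_le (by rw [← I.hk]; exact le_of_lt hx)
  rw [this]
  exact CoxEnc.phi_gR I.hP I.hC I.hk I.inv_le I.hact x hx i

theorem subG_eq (I : Inst P T D subs) :
    subG P subs = Subgroup.closure {s | ∃ u ∈ subs, s = wordP (gE P subs) u} := by
  unfold subG
  congr 1
  ext s
  constructor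
  · rintro ⟨u, hu, rfl⟩
    exact ⟨u, hu, (I.gE_word u (I.hsubs u hu)).symm⟩
  · rintro ⟨u, hu, rfl⟩
    exact ⟨u, hu, I.gE_word u (I.hsubs u hu)⟩

theorem hfix (I : Inst P T D subs) : ∀ h ∈ subG P subs, I.phi h ⟨0, I.hC.hN⟩ = ⟨0, I.hC.hN⟩ := by
  rw [I.subG_eq]
  apply Tab.fix_of_words
  rintro s ⟨u, hu, rfl⟩
  apply Fin.ext
  rw [I.hC.phi_word I.phi I.hphi u (fun x hx => by rw [I.hk]; exact I.hsubs u hu x hx)]
  exact I.hsubfix u hu

/-- The index of the subgroup is the number of rows of the table. -/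
theorem index_eq (I : Inst P T D subs) : (subG P subs).index = T.N :=
  I.hC.index_eq I.phi I.sem I.gen I.hphi I.hfix

/-- the bijection between the rows of the table and the cosets -/
noncomputable def equiv (I : Inst P T D subs) : Fin T.N ≃ P.Grp ⧸ subG P subs :=
  cosetEquiv (subG P subs) I.phi ⟨0, I.hC.hN⟩ (Tab.repG T D (gE P subs)) I.hfix
    (I.hC.hrep' I.phi I.hphi) (I.hC.hcover' I.sem I.gen)

theorem orbit_eq (I : Inst P T D subs) (opar olab : ℕ → ℕ) (lo hi : ℕ) (hlo : lo < hi) (hhi : hi ≤ T.N)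
    (hinv : ∀ j, lo ≤ j → j < hi → Tab.orbInvOK T D subs lo hi j = true)
    (htree : ∀ j, lo < j → j < hi → Tab.orbTreeOK T D subs opar olab lo j = true) :
    MulAction.orbit (subG P subs) (I.equiv ⟨lo, lt_of_lt_of_le hlo hhi⟩) = I.equiv '' Tab.ivl T lo hi :=
  I.hC.orbit_eq I.phi I.sem I.gen I.hphi subs (fun u hu x hx => by rw [I.hk]; exact I.hsubs u hu x hx)
    I.subG_eq I.hfix opar olab lo hi hlo hhi hinv htree

theorem orbit_ncard (I : Inst P T D subs) (opar olab : ℕ → ℕ) (lo hi : ℕ) (hlo : lo < hi) (hhi : hi ≤ T.N)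
    (hinv : ∀ j, lo ≤ j → j < hi → Tab.orbInvOK T D subs lo hi j = true)
    (htree : ∀ j, lo < j → j < hi → Tab.orbTreeOK T D subs opar olab lo j = true) :
    (MulAction.orbit (subG P subs) (I.equiv ⟨lo, lt_of_lt_of_le hlo hhi⟩)).ncard = hi - lo := by
  rw [I.orbit_eq opar olab lo hi hlo hhi hinv htree,
    Set.ncard_image_of_injective _ (Equiv.injective _), Tab.ivl_ncard lo hi hhi]

theorem orbit_ne (I : Inst P T D subs) (opar olab opar' olab' : ℕ → ℕ) (lo hi lo' hi' : ℕ)
    (hlo : lo < hi) (hhi : hi ≤ T.N) (hlo' : lo' < hi') (hhi' : hi' ≤ T.N) (hdis : hi ≤ lo')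
    (hinv : ∀ j, lo ≤ j → j < hi → Tab.orbInvOK T D subs lo hi j = true)
    (htree : ∀ j, lo < j → j < hi → Tab.orbTreeOK T D subs opar olab lo j = true)
    (hinv' : ∀ j, lo' ≤ j → j < hi' → Tab.orbInvOK T D subs lo' hi' j = true)
    (htree' : ∀ j, lo' < j → j < hi' → Tab.orbTreeOK T D subs opar' olab' lo' j = true) :
    MulAction.orbit (subG P subs) (I.equiv ⟨lo, lt_of_lt_of_le hlo hhi⟩) ≠
      MulAction.orbit (subG P subs) (I.equiv ⟨lo', lt_of_lt_of_le hlo' hhi'⟩) := by
  rw [I.orbit_eq opar olab lo hi hlo hhi hinv htree, I.orbit_eq opar' olab' lo' hi' hlo' hhi' hinv' htree']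
  intro h
  have h1 : I.equiv ⟨lo, lt_of_lt_of_le hlo hhi⟩ ∈ I.equiv '' Tab.ivl T lo hi :=
    ⟨_, ⟨le_refl _, hlo⟩, rfl⟩
  rw [h] at h1
  obtain ⟨j, hj, hje⟩ := h1
  have := I.equiv.injective hje
  have hj1 : lo' ≤ j.1 := hj.1
  rw [this] at hj1
  simp at hj1
  omega

end Inst

end Cfsg.Agent.Lib.Helper4.TC
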