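import Mathlib
import Cfsg.Agent.Lib.Helper4.TC6

/-!
Verified Todd–Coxeter logs, part 7: small helpers for the presentation files and the data files.
-/

namespace Cfsg.Agent.Lib.Helper4.TC

open Log

theorem wordP_replicate_flatten {Γ : Type*} [Group Γ] (p : ℕ → Γ) (n : ℕ) (L : List ℕ) :
    wordP p (List.replicate n L).flatten = (wordP p L) ^ n := by
  induction n with
  | zero => simp
  | succ n ih => rw [List.replicate_succ, List.flatten_cons, wordP_append, ih, pow_succ']

/-- read the `i`-th field of width `w` (with mask `m = 2^w - 1`) of the literal `T` -/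
def rdw (w m T i : ℕ) : ℕ := Nat.land (Nat.shiftRight T (Nat.mul w i)) m

/-- glue two adjacent ranges -/
theorem range_glue {P : ℕ → Prop} {a b c : ℕ} (h1 : ∀ t, a ≤ t → t < b → P t)
    (h2 : ∀ t, b ≤ t → t < c → P t) : ∀ t, a ≤ t → t < c → P t := by
  intro t ha hc
  rcases Nat.lt_or_ge t b with h | h
  · exact h1 t ha h
  · exact h2 t h hc

theorem range_of_allRange {f : ℕ → Bool} {lo n : ℕ} (h : allRange f lo n = true) :
    ∀ t, lo ≤ t → t < lo + n → f t = true := allRange_eq_true.1 h

/-- two-dimensional checks -/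
def allGrid (f : ℕ → ℕ → Bool) (lo n k : ℕ) : Bool := allRange (fun i => allBelow (fun x => f i x) k) lo n

theorem range_of_allGrid {f : ℕ → ℕ → Bool} {lo n k : ℕ} (h : allGrid f lo n k = true) :
    ∀ i, lo ≤ i → i < lo + n → ∀ x, x < k → f i x = true := by
  intro i h1 h2 x hx
  have := allRange_eq_true.1 h i h1 h2
  exact allBelow_eq_true.1 this x hx

end Cfsg.Agent.Lib.Helper4.TC
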