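import Mathlib
import Cfsg.Agent.Lib.Helper4.TC7

/-!
Verified Todd–Coxeter logs, part 8: upper bounds for the orders of subgroups generated by letters,
from logs over a sub-alphabet.
-/

namespace Cfsg.Agent.Lib.Helper4.TC

open Log

/-- a covering by `N` cosets bounds the order -/
theorem card_le_of_cover {G : Type*} [Group G] (K H : Subgroup G) (N : ℕ) (v : ℕ → G)
    (hcov : ∀ γ ∈ K, ∃ i, i < N ∧ γ * (v i)⁻¹ ∈ H) (hfin : Finite H) :
    Finite K ∧ Nat.card K ≤ N * Nat.card H := by
  classical
  have hch : ∀ γ : K, ∃ i : Fin N, (γ : G) * (v i)⁻¹ ∈ H := by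
    intro γ
    obtain ⟨i, hi, h⟩ := hcov γ.1 γ.2
    exact ⟨⟨i, hi⟩, h⟩
  choose idx hidx using hch
  let f : K → Fin N × H := fun γ => (idx γ, ⟨(γ : G) * (v (idx γ))⁻¹, hidx γ⟩)
  have hf : Function.Injective f := by
    intro γ γ' h
    have h1 : idx γ = idx γ' := congrArg Prod.fst h
    have h2 : (γ : G) * (v (idx γ))⁻¹ = (γ' : G) * (v (idx γ'))⁻¹ := by
      have := congrArg (fun z => ((z.2 : H) : G)) h
      exact this
    rw [h1] at h2
    exact Subtype.ext (mul_right_cancel h2)
  have : Finite (Fin N × H) := inferInstance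
  refine ⟨Finite.of_injective f hf, ?_⟩
  calc Nat.card K ≤ Nat.card (Fin N × H) := Nat.card_le_card_of_injective f hf
    _ = N * Nat.card H := by rw [Nat.card_prod, Nat.card_fin]

namespace Tab

variable {T : Tab} {D : Log} {G : Type*} [Group G] {g : ℕ → G} {H : Subgroup G}

/-- the cosets of the names of the table cover the subgroup generated by the letters -/
theorem Checked.cover_mem (hC : T.Checked D) (hS : D.Sem g H) (γ : G)
    (hγ : γ ∈ Subgroup.closure (g '' Set.Iio D.k)) :
    ∃ i, i < T.N ∧ γ * (D.V g (T.nameOf i))⁻¹ ∈ H := by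
  induction hγ using Subgroup.closure_induction_right with
  | one =>
    refine ⟨0, hC.hN, ?_⟩
    rw [hC.hname0, D.V_zero]
    simp
  | mul_right x _ y hy ih =>
    obtain ⟨i, hi, hm⟩ := ih
    obtain ⟨a, ha, rfl⟩ := hy
    have ha : a < D.k := ha
    refine ⟨T.tbl i a, hC.tbl_lt hi ha, ?_⟩
    have := mul_mem hm (hC.edge hS hi ha)
    have e : x * g a * (D.V g (T.nameOf (T.tbl i a)))⁻¹ =
        x * (D.V g (T.nameOf i))⁻¹ * (D.V g (T.nameOf i) * g a * (D.V g (T.nameOf (T.tbl i a)))⁻¹) := by
      group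
    rw [e]
    exact this
  | mul_inv_cancel x _ y hy ih =>
    obtain ⟨i, hi, hm⟩ := ih
    obtain ⟨a, ha, rfl⟩ := hy
    have ha : a < D.k := ha
    have ha' := hC.inv_lt ha
    refine ⟨T.tbl i (D.inv a), hC.tbl_lt hi ha', ?_⟩
    have := mul_mem hm (hC.edge hS hi ha')
    rw [hS.hinv] at this
    have e : x * (g a)⁻¹ * (D.V g (T.nameOf (T.tbl i (D.inv a))))⁻¹ =
        x * (D.V g (T.nameOf i))⁻¹ *
          (D.V g (T.nameOf i) * (g a)⁻¹ * (D.V g (T.nameOf (T.tbl i (D.inv a))))⁻¹) := by
      group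
    rw [e]
    exact this

end Tab

/-! ### Logs over a sub-alphabet of a presented group -/

variable {α : Type} [DecidableEq α]

/-- the subgroup of the presented group generated by a list of letters -/
def letG (P : CoxEnc α) (L : List ℕ) : Subgroup P.Grp :=
  Subgroup.closure {s | ∃ x ∈ L, s = P.gR x}

theorem letG_nil (P : CoxEnc α) : letG P [] = ⊥ := by
  unfold letG
  have : {s : P.Grp | ∃ x ∈ ([] : List ℕ), s = P.gR x} = ∅ := by
    ext s; simp
  rw [this, Subgroup.closure_empty]

/-- the embedding of the local letters -/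
def embF (P : CoxEnc α) (emb : List ℕ) (l : ℕ) : ℕ := emb.getD l P.k

/-- the local letters in the group -/
def gLoc (P : CoxEnc α) (emb : List ℕ) (l : ℕ) : P.Grp := P.gR (embF P emb l)

/-- All checks for a log over a sub-alphabet. -/
structure SubInst (P : CoxEnc α) (emb : List ℕ) (T : Tab) (D : Log) (subs : List (List ℕ))
    (realLoc : List (List ℕ)) (invLoc : ℕ → ℕ) : Prop where
  hP : P.Valid
  hk : D.k = emb.length
  hinv : D.inv = invE emb.length invLoc
  hemb : ∀ x ∈ emb, x < P.k
  hinvLoc : ∀ l, l ≤ emb.length → invLoc l ≤ emb.length ∧ embF P emb (invLoc l) = P.invR (embF P emb l)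
  hreal : ∀ r ∈ realLoc, (∀ x ∈ r, x < emb.length) ∧ r.map (embF P emb) ∈ P.real
  hsubs : ∀ u ∈ subs, ∀ x ∈ u, x < emb.length
  htab : D.relTabOK 0 (baseRels emb.length invLoc realLoc subs ++
    (baseRels emb.length invLoc realLoc subs).map (invWord D.inv)) = true
  hC : T.Checked D

namespace SubInst

variable {P : CoxEnc α} {emb : List ℕ} {T : Tab} {D : Log} {subs realLoc : List (List ℕ)}
  {invLoc : ℕ → ℕ}

theorem embF_le (I : SubInst P emb T D subs realLoc invLoc) (l : ℕ) : embF P emb l ≤ P.k := by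
  unfold embF
  by_cases h : l < emb.length
  · rw [List.getD_eq_getElem _ _ h]
    exact le_of_lt (I.hemb _ (List.getElem_mem h))
  · rw [List.getD_eq_default _ _ (by omega)]

theorem wordP_gLoc (u : List ℕ) : wordP (gLoc P emb) u = wordP P.gR (u.map (embF P emb)) := by
  induction u with
  | nil => rfl
  | cons x u ih => rw [List.map_cons, wordP_cons, wordP_cons, ih]; rfl

/-- the subgroup generated by the subgroup generator words -/
def subH (P : CoxEnc α) (emb : List ℕ) (subs : List (List ℕ)) : Subgroup P.Grp :=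
  Subgroup.closure {s | ∃ u ∈ subs, s = wordP (gLoc P emb) u}

/-- the extended letters -/
def gEL (P : CoxEnc α) (emb : List ℕ) (subs : List (List ℕ)) : ℕ → P.Grp :=
  extG emb.length (gLoc P emb) (subs.map (wordP (gLoc P emb)))

theorem hR (I : SubInst P emb T D subs realLoc invLoc) :
    ∀ l, l ≤ emb.length → invLoc l ≤ emb.length ∧ gLoc P emb (invLoc l) = (gLoc P emb l)⁻¹ := by
  intro l hl
  refine ⟨(I.hinvLoc l hl).1, ?_⟩
  unfold gLoc
  rw [(I.hinvLoc l hl).2]
  exact (I.hP.invR_sound _ (I.embF_le l)).2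

theorem sem (I : SubInst P emb T D subs realLoc invLoc) : D.Sem (gEL P emb subs) (subH P emb subs) where
  heps := by
    rw [I.hk, gEL, extG_le (le_refl _), gLoc, embF, List.getD_eq_default _ _ (le_refl _), CoxEnc.gR,
      if_neg (lt_irrefl _)]
  hinv := by
    intro l
    rw [I.hinv]
    exact extG_invE emb.length (gLoc P emb) _ invLoc I.hR l
  hwin := by
    apply D.hwin_of_base (gEL P emb subs) (baseRels emb.length invLoc realLoc subs)
    · intro l
      rw [I.hinv]
      exact extG_invE emb.length (gLoc P emb) _ invLoc I.hR l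
    · apply baseRels_sound emb.length (gLoc P emb) invLoc realLoc subs I.hR
      · intro r hr
        refine ⟨fun x hx => le_of_lt ((I.hreal r hr).1 x hx), ?_⟩
        rw [wordP_gLoc]
        exact (I.hP.real_sound _ (I.hreal r hr).2).2
      · exact fun u hu x hx => le_of_lt (I.hsubs u hu x hx)
    · exact I.htab
  hbase := by
    intro j _
    rw [I.hk]
    apply extG_base
    intro s hs
    obtain ⟨u, hu, rfl⟩ := List.mem_map.1 hs
    exact Subgroup.subset_closure ⟨u, hu, rfl⟩

theorem closure_letters (I : SubInst P emb T D subs realLoc invLoc) :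
    Subgroup.closure (gEL P emb subs '' Set.Iio D.k) = letG P emb := by
  unfold letG
  congr 1
  ext s
  constructor
  · rintro ⟨l, hl, rfl⟩
    have hl : l < emb.length := by rw [← I.hk]; exact hl
    refine ⟨emb[l], List.getElem_mem hl, ?_⟩
    rw [gEL, extG_le (le_of_lt hl), gLoc, embF, List.getD_eq_getElem _ _ hl]
  · rintro ⟨x, hx, rfl⟩
    obtain ⟨l, hl, rfl⟩ := List.getElem_of_mem hx
    refine ⟨l, by rw [I.hk]; exact hl, ?_⟩
    rw [gEL, extG_le (le_of_lt hl), gLoc, embF, List.getD_eq_getElem _ _ hl]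

/-- The order bound of one step. -/
theorem card_le (I : SubInst P emb T D subs realLoc invLoc) (hfin : Finite (subH P emb subs)) :
    Finite (letG P emb) ∧ Nat.card (letG P emb) ≤ T.N * Nat.card (subH P emb subs) := by
  apply card_le_of_cover (letG P emb) (subH P emb subs) T.N (fun i => D.V (gEL P emb subs) (T.nameOf i)) _ hfin
  intro γ hγ
  rw [← I.closure_letters] at hγ
  exact I.hC.cover_mem I.sem γ hγ

/-- the subgroup generated by single-letter generator words is generated by the letters -/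
theorem subH_eq_letG (I : SubInst P emb T D subs realLoc invLoc) (L : List ℕ)
    (h : subs.map (fun u => u.map (embF P emb)) = L.map fun x => [x]) :
    subH P emb subs = letG P L := by
  have _ := I
  unfold subH letG
  congr 1
  ext s
  constructor
  · rintro ⟨u, hu, rfl⟩
    have hm : u.map (embF P emb) ∈ subs.map (fun u => u.map (embF P emb)) := List.mem_map_of_mem hu
    rw [h] at hm
    obtain ⟨x, hx, hxe⟩ := List.mem_map.1 hm
    refine ⟨x, hx, ?_⟩
    rw [wordP_gLoc, ← hxe]
    simp
  · rintro ⟨x, hx, rfl⟩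
    have hm : [x] ∈ L.map (fun x => [x]) := List.mem_map_of_mem hx
    rw [← h] at hm
    obtain ⟨u, hu, hue⟩ := List.mem_map.1 hm
    refine ⟨u, hu, ?_⟩
    rw [wordP_gLoc, hue]
    simp

end SubInst

/-- the top group is generated by all the letters -/
theorem letG_all (P : CoxEnc α) (hP : P.Valid) : letG P (List.range P.k) = ⊤ := by
  rw [← hP.gen_top]
  unfold letG
  congr 1
  ext s
  constructor
  · rintro ⟨x, hx, rfl⟩
    exact ⟨x, List.mem_range.1 hx, rfl⟩
  · rintro ⟨x, hx, rfl⟩
    exact ⟨x, List.mem_range.2 hx, rfl⟩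

/-- the subgroup of an `Inst` generated by single letters -/
theorem Inst.subG_eq_letG {P : CoxEnc α} {T : Tab} {D : Log} {subs : List (List ℕ)} (I : Inst P T D subs)
    (L : List ℕ) (h : subs = L.map fun x => [x]) : Inst.subG P subs = letG P L := by
  have _ := I
  unfold Inst.subG letG
  congr 1
  ext s
  constructor
  · rintro ⟨u, hu, rfl⟩
    rw [h] at hu
    obtain ⟨x, hx, rfl⟩ := List.mem_map.1 hu
    exact ⟨x, hx, by simp⟩
  · rintro ⟨x, hx, rfl⟩
    exact ⟨[x], by rw [h]; exact List.mem_map_of_mem hx, by simp⟩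

end Cfsg.Agent.Lib.Helper4.TC
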