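import Mathlib
import Cfsg.Agent.Lib.Helper4.TC8

/-!
Verified Todd–Coxeter logs, part 9: lower bounds for the order of the permutation group generated by the
columns of a coset table, from a chain of stabilisers (base points, generator words, orbit trees).
-/

namespace Cfsg.Agent.Lib.Helper4.TC

open Log

/-- A stabiliser chain certificate.  Level `0` is generated by the letters; the generator `i` of level
`j+1` is the word `W (j+1) i` in the signed generators of level `j`. -/
structure Chain where
  r : ℕ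
  ng : ℕ → ℕ
  W : ℕ → ℕ → List ℕ
  beta : ℕ → ℕ
  n : ℕ → ℕ
  pt : ℕ → ℕ → ℕ
  par : ℕ → ℕ → ℕ
  gi : ℕ → ℕ → ℕ
  rank : ℕ → ℕ → ℕ

namespace Chain

/-- the inverse of a signed generator -/
def flip (_C : Chain) (D : Log) : ℕ → ℕ → ℕ
  | 0, e => D.inv e
  | _+1, e => bsel (Nat.beq (Nat.land e 1) 1) (Nat.succ e) (Nat.pred e)

/-- the word of the signed generator `e` of level `j+1` -/
def sword (C : Chain) (D : Log) (j e : ℕ) : List ℕ :=
  bsel (Nat.beq (Nat.land e 1) 1) (C.W (j+1) (Nat.shiftRight e 1))
    (invWord (C.flip D j) (C.W (j+1) (Nat.shiftRight e 1)))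

/-- the action of a signed generator of level `j` on a point -/
def actS (C : Chain) (T : Tab) (D : Log) : ℕ → ℕ → ℕ → ℕ :=
  @Nat.rec (fun _ => ℕ → ℕ → ℕ) (fun e p => T.tbl p (D.inv e))
    (fun j ih e p => (C.sword D j e).foldr (fun e' acc => ih e' acc) p)

theorem actS_zero (C : Chain) (T : Tab) (D : Log) (e p : ℕ) : C.actS T D 0 e p = T.tbl p (D.inv e) := rfl
theorem actS_succ (C : Chain) (T : Tab) (D : Log) (j e p : ℕ) :
    C.actS T D (j+1) e p = (C.sword D j e).foldr (fun e' acc => C.actS T D j e' acc) p := rfl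

/-- validity of a signed generator -/
def validB (C : Chain) (D : Log) : ℕ → ℕ → Bool
  | 0, e => Nat.ble (Nat.succ e) D.k
  | j+1, e => Nat.ble (Nat.succ (Nat.shiftRight e 1)) (C.ng (j+1))

def wordsOK (C : Chain) (D : Log) (j i : ℕ) : Bool := (C.W (j+1) i).all (C.validB D j)

def fixOK (C : Chain) (T : Tab) (D : Log) (j i : ℕ) : Bool := Nat.beq (C.actS T D (j+1) (Nat.mul 2 i) (C.beta j)) (C.beta j)

def nodeOK (C : Chain) (T : Tab) (D : Log) (j idx : ℕ) : Bool :=
  band (Nat.ble (Nat.succ (C.par j idx)) idx)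
    (band (C.validB D j (C.gi j idx))
      (Nat.beq (C.actS T D j (C.gi j idx) (C.pt j (C.par j idx))) (C.pt j idx)))

def rankOK (C : Chain) (T : Tab) (j idx : ℕ) : Bool :=
  band (Nat.ble (Nat.succ (C.pt j idx)) T.N) (Nat.beq (C.rank j (C.pt j idx)) idx)

/-- what has been checked -/
structure OK (C : Chain) (T : Tab) (D : Log) : Prop where
  hwords : ∀ j i, j < C.r → i < C.ng (j+1) → C.wordsOK D j i = true
  hfix : ∀ j i, j < C.r → i < C.ng (j+1) → C.fixOK T D j i = true
  hroot : ∀ j, j < C.r → C.pt j 0 = C.beta j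
  hnode : ∀ j idx, j < C.r → 0 < idx → idx < C.n j → C.nodeOK T D j idx = true
  hrank : ∀ j idx, j < C.r → idx < C.n j → C.rankOK T j idx = true
  hpos : ∀ j, j < C.r → 0 < C.n j

variable {C : Chain} {T : Tab} {D : Log}

theorem validB_zero {e : ℕ} (h : C.validB D 0 e = true) : e < D.k := ble_succ h

theorem validB_succ {j e : ℕ} (h : C.validB D (j+1) e = true) : e / 2 < C.ng (j+1) := by
  have := ble_succ h
  have e2 : Nat.shiftRight e 1 = e / 2 := by
    show e >>> 1 = e / 2
    rw [Nat.shiftRight_eq_div_pow, pow_one]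
  rwa [e2] at this

theorem land_one (e : ℕ) : Nat.land e 1 = e % 2 := Nat.and_one_is_mod e

theorem shift_one (e : ℕ) : Nat.shiftRight e 1 = e / 2 := by
  show e >>> 1 = e / 2
  rw [Nat.shiftRight_eq_div_pow, pow_one]

theorem flip_succ (C : Chain) (D : Log) (j e : ℕ) :
    C.flip D (j+1) e = bsel (Nat.beq (Nat.land e 1) 1) (Nat.succ e) (Nat.pred e) := rfl

theorem flip_valid (hC : T.Checked D) (j e : ℕ) (h : C.validB D j e = true) :
    C.validB D j (C.flip D j e) = true := by
  cases j with
  | zero =>
    have := hC.inv_lt (validB_zero h)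
    exact Nat.ble_eq_true_of_le this
  | succ j =>
    have h1 := ble_succ h
    rw [shift_one] at h1
    rw [flip_succ]
    show Nat.ble (Nat.succ (Nat.shiftRight _ 1)) _ = true
    apply Nat.ble_eq_true_of_le
    rw [shift_one]
    show _ / 2 + 1 ≤ _
    by_cases hodd : e % 2 = 1
    · have hb : Nat.beq (Nat.land e 1) 1 = true := by rw [land_one, hodd]; rfl
      rw [hb, bsel_true]
      have : Nat.pred e / 2 = e / 2 := by show (e - 1) / 2 = e / 2; omega
      rw [this]; exact h1
    · have hb : Nat.beq (Nat.land e 1) 1 = false := by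
        rw [land_one]
        have : e % 2 = 0 := by omega
        rw [this]; rfl
      rw [hb, bsel_false]
      have : Nat.succ e / 2 = e / 2 := by show (e + 1) / 2 = e / 2; omega
      rw [this]; exact h1

theorem sword_valid (hC : T.Checked D) (hok : C.OK T D) (j e : ℕ) (hj : j < C.r)
    (h : C.validB D (j+1) e = true) : ∀ e' ∈ C.sword D j e, C.validB D j e' = true := by
  have hi := validB_succ h
  have hw := hok.hwords j (e / 2) hj hi
  rw [wordsOK, List.all_eq_true] at hw
  intro e' he'
  unfold sword at he'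
  rw [shift_one] at he'
  cases hb : Nat.beq (Nat.land e 1) 1
  · rw [hb, bsel_false] at he'
    exact hw e' he'
  · rw [hb, bsel_true] at he'
    unfold invWord at he'
    rw [List.mem_reverse, List.mem_map] at he'
    obtain ⟨e'', h1, rfl⟩ := he'
    exact flip_valid hC j e'' (hw e'' h1)

/-- the permutation of a signed generator -/
noncomputable def gp (C : Chain) (hC : T.Checked D) : ℕ → ℕ → Equiv.Perm (Fin T.N)
  | 0, e => Tab.colPerm hC e
  | j+1, e => wordP (gp C hC j) (C.sword D j e)

theorem wordP_apply_foldr {N : ℕ} (q : ℕ → Equiv.Perm (Fin N)) (a : ℕ → ℕ → ℕ) (w : List ℕ)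
    (h : ∀ e ∈ w, ∀ p : Fin N, (q e p).1 = a e p.1) (p : Fin N) :
    (wordP q w p).1 = w.foldr (fun e acc => a e acc) p.1 := by
  induction w with
  | nil => simp
  | cons x w ih =>
    rw [wordP_cons, Equiv.Perm.mul_apply, h x List.mem_cons_self, List.foldr_cons,
      ih fun e he => h e (List.mem_cons_of_mem _ he)]

theorem gp_apply (hC : T.Checked D) (hok : C.OK T D) :
    ∀ j, j ≤ C.r → ∀ e, C.validB D j e = true → ∀ p : Fin T.N, (C.gp hC j e p).1 = C.actS T D j e p.1 := by
  intro j
  induction j with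
  | zero =>
    intro _ e he p
    exact Tab.colPerm_apply hC (validB_zero he) p
  | succ j ih =>
    intro hj e he p
    rw [gp, actS_succ C T D]
    apply wordP_apply_foldr
    intro e' he' p'
    exact ih (by omega) e' (sword_valid hC hok j e (by omega) he e' he') p'

theorem wordP_invWord' {Γ : Type*} [Group Γ] (g : ℕ → Γ) (inv : ℕ → ℕ) (r : List ℕ)
    (hinv : ∀ l ∈ r, g (inv l) = (g l)⁻¹) : wordP g (invWord inv r) = (wordP g r)⁻¹ := by
  induction r with
  | nil => simp [invWord]
  | cons x r ih =>
    have : invWord inv (x :: r) = invWord inv r ++ [inv x] := by simp [invWord]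
    rw [this, wordP_append, ih fun l hl => hinv l (List.mem_cons_of_mem _ hl), wordP_cons, wordP_cons,
      wordP_nil, hinv x List.mem_cons_self]
    simp

theorem gp_flip (hC : T.Checked D) (hok : C.OK T D) :
    ∀ j, j ≤ C.r → ∀ e, C.validB D j e = true → C.gp hC j (C.flip D j e) = (C.gp hC j e)⁻¹ := by
  intro j
  induction j with
  | zero =>
    intro _ e he
    exact Tab.colPerm_inv hC (validB_zero he)
  | succ j ih =>
    intro hj e he
    have hi := validB_succ he
    have hw := hok.hwords j (e / 2) (by omega) hi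
    rw [wordsOK, List.all_eq_true] at hw
    have hinvw : wordP (C.gp hC j) (invWord (C.flip D j) (C.W (j+1) (e / 2))) =
        (wordP (C.gp hC j) (C.W (j+1) (e / 2)))⁻¹ :=
      wordP_invWord' _ _ _ fun l hl => ih (by omega) l (hw l hl)
    by_cases hodd : e % 2 = 1
    · have hb : Nat.beq (Nat.land e 1) 1 = true := by rw [land_one, hodd]; rfl
      have hf : C.flip D (j+1) e = Nat.pred e := by rw [flip_succ, hb, bsel_true]
      have hb' : Nat.beq (Nat.land (Nat.pred e) 1) 1 = false := by
        rw [land_one]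
        have : Nat.pred e % 2 = 0 := by show (e - 1) % 2 = 0; omega
        rw [this]; rfl
      have hh : Nat.pred e / 2 = e / 2 := by show (e - 1) / 2 = e / 2; omega
      rw [hf, gp, gp, sword, sword, hb, hb', bsel_true, bsel_false, shift_one, shift_one, hh, hinvw, inv_inv]
    · have hb : Nat.beq (Nat.land e 1) 1 = false := by
        rw [land_one]
        have : e % 2 = 0 := by omega
        rw [this]; rfl
      have hf : C.flip D (j+1) e = Nat.succ e := by rw [flip_succ, hb, bsel_false]
      have hb' : Nat.beq (Nat.land (Nat.succ e) 1) 1 = true := by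
        rw [land_one]
        have : Nat.succ e % 2 = 1 := by show (e + 1) % 2 = 1; omega
        rw [this]; rfl
      have hh : Nat.succ e / 2 = e / 2 := by show (e + 1) / 2 = e / 2; omega
      rw [hf, gp, gp, sword, sword, hb, hb', bsel_true, bsel_false, shift_one, shift_one, hh, hinvw]

/-- the group of level `j` -/
def Gam (C : Chain) (hC : T.Checked D) (j : ℕ) : Subgroup (Equiv.Perm (Fin T.N)) :=
  Subgroup.closure {s | ∃ e, C.validB D j e = true ∧ s = C.gp hC j e}

theorem Gam_succ_le (hC : T.Checked D) (hok : C.OK T D) (j : ℕ) (hj : j < C.r) :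
    C.Gam hC (j+1) ≤ C.Gam hC j := by
  unfold Gam
  rw [Subgroup.closure_le]
  rintro s ⟨e, he, rfl⟩
  rw [gp]
  have hv := sword_valid hC hok j e hj he
  have : ∀ w : List ℕ, (∀ e' ∈ w, C.validB D j e' = true) →
      wordP (C.gp hC j) w ∈ Subgroup.closure {s | ∃ e, C.validB D j e = true ∧ s = C.gp hC j e} := by
    intro w
    induction w with
    | nil => intro _; exact one_mem _
    | cons x w ih =>
      intro h
      rw [wordP_cons]
      exact mul_mem (Subgroup.subset_closure ⟨x, h x List.mem_cons_self, rfl⟩)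
        (ih fun e' he' => h e' (List.mem_cons_of_mem _ he'))
  exact this _ hv

theorem beta_lt (hok : C.OK T D) (j : ℕ) (hj : j < C.r) : C.beta j < T.N := by
  have := hok.hrank j 0 hj (hok.hpos j hj)
  rw [rankOK, band_eq_true, hok.hroot j hj] at this
  exact ble_succ this.1

theorem pt_lt (hok : C.OK T D) (j idx : ℕ) (hj : j < C.r) (hidx : idx < C.n j) : C.pt j idx < T.N := by
  have := hok.hrank j idx hj hidx
  rw [rankOK, band_eq_true] at this
  exact ble_succ this.1

/-- generators of level `j+1` fix the base point of level `j` -/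
theorem gp_fix (hC : T.Checked D) (hok : C.OK T D) (j : ℕ) (hj : j < C.r) (e : ℕ)
    (he : C.validB D (j+1) e = true) :
    C.gp hC (j+1) e ⟨C.beta j, beta_lt hok j hj⟩ = ⟨C.beta j, beta_lt hok j hj⟩ := by
  have hi := validB_succ he
  have hf := hok.hfix j (e / 2) hj hi
  rw [fixOK] at hf
  have heven : C.validB D (j+1) (2 * (e / 2)) = true := by
    apply Nat.ble_eq_true_of_le
    rw [shift_one]
    show 2 * (e / 2) / 2 + 1 ≤ _
    omega
  have hfix0 : C.gp hC (j+1) (2 * (e / 2)) ⟨C.beta j, beta_lt hok j hj⟩ = ⟨C.beta j, beta_lt hok j hj⟩ := by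
    apply Fin.ext
    rw [gp_apply hC hok (j+1) (by omega) _ heven]
    exact beq_eq hf
  by_cases hodd : e % 2 = 1
  · have hb : Nat.beq (Nat.land (2 * (e/2)) 1) 1 = false := by
      rw [land_one]
      have : 2 * (e / 2) % 2 = 0 := by omega
      rw [this]; rfl
    have hfl : C.flip D (j+1) (2 * (e / 2)) = e := by
      rw [flip_succ, hb, bsel_false]
      show 2 * (e / 2) + 1 = e
      omega
    have := gp_flip hC hok (j+1) (by omega) _ heven
    rw [hfl] at this
    rw [this, Equiv.Perm.inv_eq_iff_eq]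
    exact hfix0.symm
  · have : 2 * (e / 2) = e := by omega
    rw [this] at hfix0
    exact hfix0

theorem Gam_succ_fix (hC : T.Checked D) (hok : C.OK T D) (j : ℕ) (hj : j < C.r) :
    ∀ γ ∈ C.Gam hC (j+1), γ ⟨C.beta j, beta_lt hok j hj⟩ = ⟨C.beta j, beta_lt hok j hj⟩ := by
  intro γ hγ
  unfold Gam at hγ
  induction hγ using Subgroup.closure_induction with
  | mem x hx =>
    obtain ⟨e, he, rfl⟩ := hx
    exact gp_fix hC hok j hj e he
  | one => rfl
  | mul x y _ _ ihx ihy => rw [Equiv.Perm.mul_apply, ihy, ihx]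
  | inv x _ ih =>
    rw [Equiv.Perm.inv_eq_iff_eq]
    exact ih.symm

/-- every node of the orbit tree is reached from the base point -/
theorem node_reach (hC : T.Checked D) (hok : C.OK T D) (j : ℕ) (hj : j < C.r) :
    ∀ idx (hidx : idx < C.n j), ∃ γ ∈ C.Gam hC j,
      γ ⟨C.beta j, beta_lt hok j hj⟩ = ⟨C.pt j idx, pt_lt hok j idx hj hidx⟩ := by
  intro idx
  induction idx using Nat.strong_induction_on with
  | _ idx ih =>
    intro hidx
    rcases Nat.eq_zero_or_pos idx with rfl | hpos
    · refine ⟨1, one_mem _, ?_⟩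
      apply Fin.ext
      simp [hok.hroot j hj]
    · have hn := hok.hnode j idx hj hpos hidx
      rw [nodeOK, band_eq_true, band_eq_true] at hn
      obtain ⟨h1, h2, h3⟩ := hn
      have hp : C.par j idx < idx := ble_succ h1
      obtain ⟨γ, hγ, hγe⟩ := ih (C.par j idx) hp (by omega)
      refine ⟨C.gp hC j (C.gi j idx) * γ, mul_mem (Subgroup.subset_closure ⟨_, h2, rfl⟩) hγ, ?_⟩
      rw [Equiv.Perm.mul_apply, hγe]
      apply Fin.ext
      rw [gp_apply hC hok j (le_of_lt hj) _ h2]
      exact beq_eq h3

theorem pt_injective (hok : C.OK T D) (j : ℕ) (hj : j < C.r) (a b : ℕ) (ha : a < C.n j) (hb : b < C.n j)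
    (h : C.pt j a = C.pt j b) : a = b := by
  have h1 := hok.hrank j a hj ha
  have h2 := hok.hrank j b hj hb
  rw [rankOK, band_eq_true] at h1 h2
  have e1 := beq_eq h1.2
  have e2 := beq_eq h2.2
  rw [h] at e1
  omega

/-- one step of the chain -/
theorem card_step (hC : T.Checked D) (hok : C.OK T D) (j : ℕ) (hj : j < C.r) :
    C.n j * Nat.card (C.Gam hC (j+1)) ≤ Nat.card (C.Gam hC j) := by
  classical
  set b : Fin T.N := ⟨C.beta j, beta_lt hok j hj⟩ with hb
  -- orbit-stabiliser in `Gam j`
  have hos := MulAction.card_orbit_mul_card_stabilizer_eq_card_group (C.Gam hC j) b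
  have h1 : C.n j ≤ Nat.card (MulAction.orbit (C.Gam hC j) b) := by
    let f : Fin (C.n j) → MulAction.orbit (C.Gam hC j) b := fun idx =>
      ⟨⟨C.pt j idx.1, pt_lt hok j idx.1 hj idx.2⟩, by
        obtain ⟨γ, hγ, hγe⟩ := node_reach hC hok j hj idx.1 idx.2
        exact ⟨⟨γ, hγ⟩, hγe⟩⟩
    have hf : Function.Injective f := by
      intro a c hac
      have : C.pt j a.1 = C.pt j c.1 := by
        have := congrArg (fun z => ((z : MulAction.orbit (C.Gam hC j) b) : Fin T.N).1) hac
        exact this
      exact Fin.ext (pt_injective hok j hj a.1 c.1 a.2 c.2 this)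
    have := Nat.card_le_card_of_injective f hf
    rwa [Nat.card_fin] at this
  have h2 : Nat.card (C.Gam hC (j+1)) ≤ Nat.card (MulAction.stabilizer (C.Gam hC j) b) := by
    let f : C.Gam hC (j+1) → MulAction.stabilizer (C.Gam hC j) b := fun γ =>
      ⟨⟨γ.1, Gam_succ_le hC hok j hj γ.2⟩, by
        rw [MulAction.mem_stabilizer_iff]
        exact Gam_succ_fix hC hok j hj γ.1 γ.2⟩
    have hf : Function.Injective f := by
      intro a c hac
      have := congrArg (fun z => ((z : MulAction.stabilizer (C.Gam hC j) b) : C.Gam hC j).1) hac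
      exact Subtype.ext this
    exact Nat.card_le_card_of_injective f hf
  have hos' : Nat.card (MulAction.orbit (C.Gam hC j) b) * Nat.card (MulAction.stabilizer (C.Gam hC j) b) =
      Nat.card (C.Gam hC j) := by
    rw [Nat.card_eq_fintype_card, Nat.card_eq_fintype_card, Nat.card_eq_fintype_card]
    exact hos
  calc C.n j * Nat.card (C.Gam hC (j+1))
      ≤ Nat.card (MulAction.orbit (C.Gam hC j) b) * Nat.card (MulAction.stabilizer (C.Gam hC j) b) :=
        Nat.mul_le_mul h1 h2
    _ = Nat.card (C.Gam hC j) := hos'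

/-- the product of the orbit lengths from level `j` on -/
def prodFrom (C : Chain) : ℕ → ℕ → ℕ
  | 0, _ => 1
  | m+1, j => C.n j * prodFrom C m (j+1)

theorem card_ge (hC : T.Checked D) (hok : C.OK T D) :
    ∀ m j, j + m = C.r → C.prodFrom m j ≤ Nat.card (C.Gam hC j) := by
  intro m
  induction m with
  | zero =>
    intro j _
    exact Nat.card_pos
  | succ m ih =>
    intro j hj
    have h1 := ih (j+1) (by omega)
    have h2 := card_step hC hok j (by omega)
    calc C.prodFrom (m+1) j = C.n j * C.prodFrom m (j+1) := rfl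
      _ ≤ C.n j * Nat.card (C.Gam hC (j+1)) := Nat.mul_le_mul_left _ h1
      _ ≤ _ := h2

/-- The order of the group generated by the columns is at least the product of the orbit lengths. -/
theorem card_ge_top (hC : T.Checked D) (hok : C.OK T D) :
    C.prodFrom C.r 0 ≤ Nat.card (C.Gam hC 0) := card_ge hC hok C.r 0 (by omega)

end Chain

end Cfsg.Agent.Lib.Helper4.TC
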