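import Mathlib
import Cfsg.Agent.Lib.Helper4.TC9

/-!
Verified Todd–Coxeter logs, part 11: lower bounds for the order of a permutation group from a chain of
stabilisers in which every strong generator is stored as a table of values.  The generator `i ≥ k` is
certified by two words `wA i`, `wB i` in earlier generators with `wA i * (generator i) = wB i`.
-/

namespace Cfsg.Agent.Lib.Helper4.TC

open Log

/-- A strong generating set certificate with explicit tables. -/
structure Sgs where
  N : ℕ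
  k : ℕ
  m : ℕ
  tab : ℕ → ℕ → ℕ
  wA : ℕ → List ℕ
  wB : ℕ → List ℕ
  lev : ℕ → ℕ
  r : ℕ
  beta : ℕ → ℕ
  n : ℕ → ℕ
  root : ℕ → ℕ
  pt : ℕ → ℕ → ℕ
  par : ℕ → ℕ → ℕ
  gi : ℕ → ℕ → ℕ
  dep : ℕ → ℕ → ℕ

namespace Sgs

/-- the action of a word of stored permutations on a point -/
def actW (S : Sgs) (w : List ℕ) (p : ℕ) : ℕ := w.foldr (fun e acc => S.tab e acc) p

def permOK (S : Sgs) (i p : ℕ) : Bool :=
  band (Nat.ble (Nat.succ (S.tab i p)) S.N) (Nat.beq (S.actW (S.wA i) (S.tab i p)) (S.actW (S.wB i) p))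

def wordsOK (S : Sgs) (i : ℕ) : Bool :=
  band ((S.wA i).all fun e => Nat.ble (Nat.succ e) i) ((S.wB i).all fun e => Nat.ble (Nat.succ e) i)

def fixOK (S : Sgs) (i t : ℕ) : Bool :=
  bsel (Nat.ble (Nat.succ t) (S.lev i)) true (Nat.beq (S.tab i (S.beta t)) (S.beta t))

def nodeOK (S : Sgs) (j idx : ℕ) : Bool :=
  band (Nat.ble (Nat.succ (S.pt j idx)) S.N)
    (band (bsel (Nat.ble (Nat.succ (Nat.succ idx)) (S.n j)) true
        (Nat.ble (Nat.succ (S.pt j idx)) (S.pt j (Nat.succ idx))))
      (bsel (Nat.beq idx (S.root j))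
        (band (Nat.ble (Nat.succ (S.par j idx)) (S.n j))
          (band (Nat.ble (Nat.succ (S.dep j (S.par j idx))) (S.dep j idx))
            (band (Nat.ble (Nat.succ (S.gi j idx)) S.m)
              (band (Nat.ble j (S.lev (S.gi j idx)))
                (Nat.beq (S.tab (S.gi j idx) (S.pt j (S.par j idx))) (S.pt j idx))))))
        (Nat.beq (S.pt j idx) (S.beta j))))

/-- what has been checked -/
structure OK (S : Sgs) : Prop where
  hkm : S.k ≤ S.m
  hperm : ∀ i p, S.k ≤ i → i < S.m → p < S.N → S.permOK i p = true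
  hwords : ∀ i, S.k ≤ i → i < S.m → S.wordsOK i = true
  hfix : ∀ i t, i < S.m → t < S.r → S.fixOK i t = true
  hroot : ∀ j, j < S.r → S.root j < S.n j
  hnode : ∀ j idx, j < S.r → idx < S.n j → S.nodeOK j idx = true

variable {S : Sgs}

/-- the permutations, built up one at a time -/
noncomputable def permUpTo (S : Sgs) (q0 : ℕ → Equiv.Perm (Fin S.N)) : ℕ → ℕ → Equiv.Perm (Fin S.N)
  | 0 => q0
  | t+1 => fun i =>
    if i = S.k + t then (wordP (permUpTo S q0 t) (S.wA i))⁻¹ * wordP (permUpTo S q0 t) (S.wB i)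
    else permUpTo S q0 t i

/-- the stored permutations -/
noncomputable def perm (S : Sgs) (q0 : ℕ → Equiv.Perm (Fin S.N)) (i : ℕ) : Equiv.Perm (Fin S.N) :=
  permUpTo S q0 (S.m - S.k) i

theorem actW_nil (S : Sgs) (p : ℕ) : S.actW [] p = p := rfl
theorem actW_cons (S : Sgs) (e : ℕ) (w : List ℕ) (p : ℕ) : S.actW (e :: w) p = S.tab e (S.actW w p) := rfl

theorem wordP_val (q : ℕ → Equiv.Perm (Fin S.N)) (w : List ℕ)
    (h : ∀ e ∈ w, ∀ p : Fin S.N, (q e p).1 = S.tab e p.1) (p : Fin S.N) :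
    (wordP q w p).1 = S.actW w p.1 := by
  induction w with
  | nil => simp [actW]
  | cons x w ih =>
    rw [wordP_cons, Equiv.Perm.mul_apply, h x List.mem_cons_self, actW_cons,
      ih fun e he => h e (List.mem_cons_of_mem _ he)]

theorem wordP_mem_closure {Γ : Type*} [Group Γ] (q : ℕ → Γ) (K : Subgroup Γ) (w : List ℕ)
    (h : ∀ e ∈ w, q e ∈ K) : wordP q w ∈ K := by
  induction w with
  | nil => exact one_mem _
  | cons x w ih =>
    rw [wordP_cons]
    exact mul_mem (h x List.mem_cons_self) (ih fun e he => h e (List.mem_cons_of_mem _ he))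

/-- values and membership of the permutations built so far -/
theorem permUpTo_spec (hok : S.OK) (q0 : ℕ → Equiv.Perm (Fin S.N))
    (h0 : ∀ i, i < S.k → ∀ p : Fin S.N, (q0 i p).1 = S.tab i p.1) :
    ∀ t, S.k + t ≤ S.m → ∀ i, i < S.k + t →
      (∀ p : Fin S.N, (permUpTo S q0 t i p).1 = S.tab i p.1) ∧
      permUpTo S q0 t i ∈ Subgroup.closure (q0 '' Set.Iio S.k) := by
  intro t
  induction t with
  | zero =>
    intro _ i hi
    exact ⟨h0 i hi, Subgroup.subset_closure ⟨i, hi, rfl⟩⟩
  | succ t ih =>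
    intro ht i hi
    have ih' := ih (by omega)
    by_cases hit : i = S.k + t
    · have hdef : permUpTo S q0 (t+1) i =
          (wordP (permUpTo S q0 t) (S.wA i))⁻¹ * wordP (permUpTo S q0 t) (S.wB i) := by
        show (if i = S.k + t then _ else _) = _
        rw [if_pos hit]
      have hw := hok.hwords i (by omega) (by omega)
      rw [wordsOK, band_eq_true, List.all_eq_true, List.all_eq_true] at hw
      have hA : ∀ e ∈ S.wA i, e < S.k + t := fun e he => by
        have := ble_succ (hw.1 e he); omega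
      have hB : ∀ e ∈ S.wB i, e < S.k + t := fun e he => by
        have := ble_succ (hw.2 e he); omega
      refine ⟨?_, ?_⟩
      · intro p
        have hp := hok.hperm i p.1 (by omega) (by omega) p.2
        rw [permOK, band_eq_true] at hp
        have hlt : S.tab i p.1 < S.N := ble_succ hp.1
        have heq := beq_eq hp.2
        have hAB : wordP (permUpTo S q0 t) (S.wA i) ⟨S.tab i p.1, hlt⟩ =
            wordP (permUpTo S q0 t) (S.wB i) p := by
          apply Fin.ext
          rw [wordP_val _ _ (fun e he => (ih' e (hA e he)).1), wordP_val _ _ (fun e he => (ih' e (hB e he)).1)]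
          exact heq
        rw [hdef, Equiv.Perm.mul_apply, ← hAB]
        have : (wordP (permUpTo S q0 t) (S.wA i))⁻¹ (wordP (permUpTo S q0 t) (S.wA i) ⟨S.tab i p.1, hlt⟩) =
            ⟨S.tab i p.1, hlt⟩ := Equiv.Perm.inv_eq_iff_eq.2 rfl
        rw [this]
      · rw [hdef]
        exact mul_mem (inv_mem (wordP_mem_closure _ _ _ fun e he => (ih' e (hA e he)).2))
          (wordP_mem_closure _ _ _ fun e he => (ih' e (hB e he)).2)
    · have hdef : permUpTo S q0 (t+1) i = permUpTo S q0 t i := by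
        show (if i = S.k + t then _ else _) = _
        rw [if_neg hit]
      rw [hdef]
      exact ih' i (by omega)

theorem perm_val (hok : S.OK) (q0 : ℕ → Equiv.Perm (Fin S.N))
    (h0 : ∀ i, i < S.k → ∀ p : Fin S.N, (q0 i p).1 = S.tab i p.1) (i : ℕ) (hi : i < S.m) (p : Fin S.N) :
    (S.perm q0 i p).1 = S.tab i p.1 :=
  (permUpTo_spec hok q0 h0 (S.m - S.k) (by have := hok.hkm; omega) i (by have := hok.hkm; omega)).1 p

theorem perm_mem (hok : S.OK) (q0 : ℕ → Equiv.Perm (Fin S.N))
    (h0 : ∀ i, i < S.k → ∀ p : Fin S.N, (q0 i p).1 = S.tab i p.1) (i : ℕ) (hi : i < S.m) :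
    S.perm q0 i ∈ Subgroup.closure (q0 '' Set.Iio S.k) :=
  (permUpTo_spec hok q0 h0 (S.m - S.k) (by have := hok.hkm; omega) i (by have := hok.hkm; omega)).2

/-- the group of level `j` -/
def Gam (S : Sgs) (q0 : ℕ → Equiv.Perm (Fin S.N)) (j : ℕ) : Subgroup (Equiv.Perm (Fin S.N)) :=
  Subgroup.closure {s | ∃ i, i < S.m ∧ j ≤ S.lev i ∧ s = S.perm q0 i}

theorem Gam_succ_le (q0 : ℕ → Equiv.Perm (Fin S.N)) (j : ℕ) : S.Gam q0 (j+1) ≤ S.Gam q0 j := by
  unfold Gam
  apply Subgroup.closure_mono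
  rintro s ⟨i, hi, hl, rfl⟩
  exact ⟨i, hi, by omega, rfl⟩

theorem Gam_zero_le (hok : S.OK) (q0 : ℕ → Equiv.Perm (Fin S.N))
    (h0 : ∀ i, i < S.k → ∀ p : Fin S.N, (q0 i p).1 = S.tab i p.1) :
    S.Gam q0 0 ≤ Subgroup.closure (q0 '' Set.Iio S.k) := by
  unfold Gam
  rw [Subgroup.closure_le]
  rintro s ⟨i, hi, _, rfl⟩
  exact perm_mem hok q0 h0 i hi

theorem pt_lt (hok : S.OK) (j idx : ℕ) (hj : j < S.r) (hidx : idx < S.n j) : S.pt j idx < S.N := by
  have := hok.hnode j idx hj hidx
  rw [nodeOK, band_eq_true] at this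
  exact ble_succ this.1

theorem root_pt (hok : S.OK) (j : ℕ) (hj : j < S.r) : S.pt j (S.root j) = S.beta j := by
  have := hok.hnode j (S.root j) hj (hok.hroot j hj)
  rw [nodeOK, band_eq_true, band_eq_true] at this
  have h3 := this.2.2
  have hb : Nat.beq (S.root j) (S.root j) = true := Nat.beq_refl _
  rw [hb, bsel_true] at h3
  exact beq_eq h3

theorem beta_lt (hok : S.OK) (j : ℕ) (hj : j < S.r) : S.beta j < S.N := by
  rw [← root_pt hok j hj]
  exact pt_lt hok j _ hj (hok.hroot j hj)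

theorem Gam_succ_fix (hok : S.OK) (q0 : ℕ → Equiv.Perm (Fin S.N))
    (h0 : ∀ i, i < S.k → ∀ p : Fin S.N, (q0 i p).1 = S.tab i p.1) (j : ℕ) (hj : j < S.r) :
    ∀ γ ∈ S.Gam q0 (j+1), γ ⟨S.beta j, beta_lt hok j hj⟩ = ⟨S.beta j, beta_lt hok j hj⟩ := by
  intro γ hγ
  unfold Gam at hγ
  induction hγ using Subgroup.closure_induction with
  | mem x hx =>
    obtain ⟨i, hi, hl, rfl⟩ := hx
    apply Fin.ext
    rw [perm_val hok q0 h0 i hi]
    have := hok.hfix i j hi hj
    rw [fixOK, Nat.ble_eq_true_of_le (show j + 1 ≤ S.lev i from hl), bsel_true] at this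
    exact beq_eq this
  | one => rfl
  | mul x y _ _ ihx ihy => rw [Equiv.Perm.mul_apply, ihy, ihx]
  | inv x _ ih =>
    rw [Equiv.Perm.inv_eq_iff_eq]
    exact ih.symm

/-- every node of the orbit tree is reached from the base point -/
theorem node_reach (hok : S.OK) (q0 : ℕ → Equiv.Perm (Fin S.N))
    (h0 : ∀ i, i < S.k → ∀ p : Fin S.N, (q0 i p).1 = S.tab i p.1) (j : ℕ) (hj : j < S.r) :
    ∀ d idx (hidx : idx < S.n j), S.dep j idx = d → ∃ γ ∈ S.Gam q0 j,
      γ ⟨S.beta j, beta_lt hok j hj⟩ = ⟨S.pt j idx, pt_lt hok j idx hj hidx⟩ := by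
  intro d
  induction d using Nat.strong_induction_on with
  | _ d ih =>
    intro idx hidx hd
    by_cases hr : idx = S.root j
    · refine ⟨1, one_mem _, ?_⟩
      apply Fin.ext
      subst hr
      simp [root_pt hok j hj]
    · have hn := hok.hnode j idx hj hidx
      rw [nodeOK, band_eq_true, band_eq_true] at hn
      have h3 := hn.2.2
      have hb : Nat.beq idx (S.root j) = false := by
        cases hbb : Nat.beq idx (S.root j)
        · rfl
        · exact absurd (beq_eq hbb) hr
      rw [hb, bsel_false, band_eq_true, band_eq_true, band_eq_true, band_eq_true] at h3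
      obtain ⟨c1, c2, c3, c4, c5⟩ := h3
      have hp : S.par j idx < S.n j := ble_succ c1
      have hdp : S.dep j (S.par j idx) < S.dep j idx := ble_succ c2
      have hgi : S.gi j idx < S.m := ble_succ c3
      have hlv : j ≤ S.lev (S.gi j idx) := Nat.le_of_ble_eq_true c4
      obtain ⟨γ, hγ, hγe⟩ := ih (S.dep j (S.par j idx)) (by omega) (S.par j idx) hp rfl
      refine ⟨S.perm q0 (S.gi j idx) * γ, mul_mem (Subgroup.subset_closure ⟨_, hgi, hlv, rfl⟩) hγ, ?_⟩
      rw [Equiv.Perm.mul_apply, hγe]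
      apply Fin.ext
      rw [perm_val hok q0 h0 _ hgi]
      exact beq_eq c5

theorem pt_strictMono (hok : S.OK) (j : ℕ) (hj : j < S.r) :
    ∀ b a, a < b → b < S.n j → S.pt j a < S.pt j b := by
  intro b
  induction b with
  | zero => intro a ha; omega
  | succ b ih =>
    intro a ha hb
    have hn := hok.hnode j b hj (by omega)
    rw [nodeOK, band_eq_true, band_eq_true] at hn
    have h2 := hn.2.1
    rw [Nat.ble_eq_true_of_le (show b + 1 + 1 ≤ S.n j by omega), bsel_true] at h2
    have hstep : S.pt j b < S.pt j (b+1) := ble_succ h2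
    rcases Nat.lt_or_ge a b with h | h
    · exact lt_trans (ih a h (by omega)) hstep
    · have : a = b := by omega
      rw [this]; exact hstep

theorem pt_injective (hok : S.OK) (j : ℕ) (hj : j < S.r) (a b : ℕ) (ha : a < S.n j) (hb : b < S.n j)
    (h : S.pt j a = S.pt j b) : a = b := by
  rcases Nat.lt_trichotomy a b with h1 | h1 | h1
  · have := pt_strictMono hok j hj b a h1 hb; omega
  · exact h1
  · have := pt_strictMono hok j hj a b h1 ha; omega

/-- one step of the chain -/
theorem card_step (hok : S.OK) (q0 : ℕ → Equiv.Perm (Fin S.N))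
    (h0 : ∀ i, i < S.k → ∀ p : Fin S.N, (q0 i p).1 = S.tab i p.1) (j : ℕ) (hj : j < S.r) :
    S.n j * Nat.card (S.Gam q0 (j+1)) ≤ Nat.card (S.Gam q0 j) := by
  classical
  set b : Fin S.N := ⟨S.beta j, beta_lt hok j hj⟩ with hb
  have hos := MulAction.card_orbit_mul_card_stabilizer_eq_card_group (S.Gam q0 j) b
  have h1 : S.n j ≤ Nat.card (MulAction.orbit (S.Gam q0 j) b) := by
    let f : Fin (S.n j) → MulAction.orbit (S.Gam q0 j) b := fun idx =>
      ⟨⟨S.pt j idx.1, pt_lt hok j idx.1 hj idx.2⟩, by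
        obtain ⟨γ, hγ, hγe⟩ := node_reach hok q0 h0 j hj _ idx.1 idx.2 rfl
        exact ⟨⟨γ, hγ⟩, hγe⟩⟩
    have hf : Function.Injective f := by
      intro a c hac
      have : S.pt j a.1 = S.pt j c.1 := by
        have := congrArg (fun z => ((z : MulAction.orbit (S.Gam q0 j) b) : Fin S.N).1) hac
        exact this
      exact Fin.ext (pt_injective hok j hj a.1 c.1 a.2 c.2 this)
    have := Nat.card_le_card_of_injective f hf
    rwa [Nat.card_fin] at this
  have h2 : Nat.card (S.Gam q0 (j+1)) ≤ Nat.card (MulAction.stabilizer (S.Gam q0 j) b) := by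
    let f : S.Gam q0 (j+1) → MulAction.stabilizer (S.Gam q0 j) b := fun γ =>
      ⟨⟨γ.1, Gam_succ_le q0 j γ.2⟩, by
        rw [MulAction.mem_stabilizer_iff]
        exact Gam_succ_fix hok q0 h0 j hj γ.1 γ.2⟩
    have hf : Function.Injective f := by
      intro a c hac
      have := congrArg (fun z => ((z : MulAction.stabilizer (S.Gam q0 j) b) : S.Gam q0 j).1) hac
      exact Subtype.ext this
    exact Nat.card_le_card_of_injective f hf
  have hos' : Nat.card (MulAction.orbit (S.Gam q0 j) b) * Nat.card (MulAction.stabilizer (S.Gam q0 j) b) =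
      Nat.card (S.Gam q0 j) := by
    rw [Nat.card_eq_fintype_card, Nat.card_eq_fintype_card, Nat.card_eq_fintype_card]
    exact hos
  calc S.n j * Nat.card (S.Gam q0 (j+1))
      ≤ Nat.card (MulAction.orbit (S.Gam q0 j) b) * Nat.card (MulAction.stabilizer (S.Gam q0 j) b) :=
        Nat.mul_le_mul h1 h2
    _ = Nat.card (S.Gam q0 j) := hos'

/-- the product of the orbit lengths from level `j` on -/
def prodFrom (S : Sgs) : ℕ → ℕ → ℕ
  | 0, _ => 1
  | t+1, j => S.n j * prodFrom S t (j+1)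

theorem card_ge (hok : S.OK) (q0 : ℕ → Equiv.Perm (Fin S.N))
    (h0 : ∀ i, i < S.k → ∀ p : Fin S.N, (q0 i p).1 = S.tab i p.1) :
    ∀ t j, j + t = S.r → S.prodFrom t j ≤ Nat.card (S.Gam q0 j) := by
  intro t
  induction t with
  | zero =>
    intro j _
    exact Nat.card_pos
  | succ t ih =>
    intro j hj
    have h1 := ih (j+1) (by omega)
    have h2 := card_step hok q0 h0 j (by omega)
    calc S.prodFrom (t+1) j = S.n j * S.prodFrom t (j+1) := rfl
      _ ≤ S.n j * Nat.card (S.Gam q0 (j+1)) := Nat.mul_le_mul_left _ h1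
      _ ≤ _ := h2

/-- The group generated by the given permutations has order at least the product of the orbit lengths. -/
theorem card_ge_top (hok : S.OK) (q0 : ℕ → Equiv.Perm (Fin S.N))
    (h0 : ∀ i, i < S.k → ∀ p : Fin S.N, (q0 i p).1 = S.tab i p.1) :
    S.prodFrom S.r 0 ≤ Nat.card (Subgroup.closure (q0 '' Set.Iio S.k)) := by
  have h1 := card_ge hok q0 h0 S.r 0 (by omega)
  have h2 : Nat.card (S.Gam q0 0) ≤ Nat.card (Subgroup.closure (q0 '' Set.Iio S.k)) :=
    Nat.card_le_card_of_injective (Subgroup.inclusion (Gam_zero_le hok q0 h0))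
      (Subgroup.inclusion_injective _)
  omega

end Sgs

end Cfsg.Agent.Lib.Helper4.TC
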