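import Mathlib
import Cfsg.Agent.Lib.Helper4.TC10
import Cfsg.Agent.Lib.Helper4.TC11

/-!
Verified Todd–Coxeter logs, part 12: logs over letters in an arbitrary group, the collapse of a quotient,
primitivity from the suborbit lengths, and the assembled order and simplicity statement.
-/

namespace Cfsg.Agent.Lib.Helper4.TC

open Log Cfsg.Spor
open scoped Pointwise

/-! ### Logs over letters in an arbitrary group -/

/-- the syntactic checks of a log -/
structure GInst (kk : ℕ) (invR : ℕ → ℕ) (rels subs : List (List ℕ)) (T : Tab) (D : Log) : Prop where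
  hk : D.k = kk
  hinv : D.inv = invE kk invR
  hsubs : ∀ u ∈ subs, ∀ x ∈ u, x ≤ kk
  htab : D.relTabOK 0 (baseRels kk invR rels subs ++
    (baseRels kk invR rels subs).map (invWord D.inv)) = true
  hC : T.Checked D

/-- the letters satisfy the relators -/
structure GSound {Γ : Type*} [Group Γ] (g : ℕ → Γ) (kk : ℕ) (invR : ℕ → ℕ) (rels : List (List ℕ)) : Prop where
  heps : g kk = 1
  hinvR : ∀ l, l ≤ kk → invR l ≤ kk ∧ g (invR l) = (g l)⁻¹
  hrels : ∀ r ∈ rels, (∀ x ∈ r, x ≤ kk) ∧ wordP g r = 1

namespace GInst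

variable {Γ : Type*} [Group Γ] {g : ℕ → Γ} {kk : ℕ} {invR : ℕ → ℕ} {rels subs : List (List ℕ)}
  {T : Tab} {D : Log}

/-- the subgroup -/
def subK (g : ℕ → Γ) (subs : List (List ℕ)) : Subgroup Γ :=
  Subgroup.closure {s | ∃ u ∈ subs, s = wordP g u}

theorem sem (I : GInst kk invR rels subs T D) (hS : GSound g kk invR rels) :
    D.Sem (extG kk g (subs.map (wordP g))) (subK g subs) where
  heps := by
    rw [I.hk, extG_le (le_refl _)]
    exact hS.heps
  hinv := by
    intro l
    rw [I.hinv]
    exact extG_invE kk g _ invR hS.hinvR l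
  hwin := by
    apply D.hwin_of_base (extG kk g (subs.map (wordP g))) (baseRels kk invR rels subs)
    · intro l
      rw [I.hinv]
      exact extG_invE kk g _ invR hS.hinvR l
    · exact baseRels_sound kk g invR rels subs hS.hinvR hS.hrels I.hsubs
    · exact I.htab
  hbase := by
    intro j _
    rw [I.hk]
    apply extG_base
    intro s hs
    obtain ⟨u, hu, rfl⟩ := List.mem_map.1 hs
    exact Subgroup.subset_closure ⟨u, hu, rfl⟩

theorem closure_letters (I : GInst kk invR rels subs T D) :
    Subgroup.closure (extG kk g (subs.map (wordP g)) '' Set.Iio D.k) = Subgroup.closure (g '' Set.Iio kk) := by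
  congr 1
  rw [I.hk]
  apply Set.image_congr
  intro l hl
  exact extG_le (le_of_lt hl)

theorem cover (I : GInst kk invR rels subs T D) (hS : GSound g kk invR rels) (γ : Γ)
    (hγ : γ ∈ Subgroup.closure (g '' Set.Iio kk)) :
    ∃ i, i < T.N ∧ γ * (D.V (extG kk g (subs.map (wordP g))) (T.nameOf i))⁻¹ ∈ subK g subs := by
  rw [← I.closure_letters (g := g)] at hγ
  exact I.hC.cover_mem (I.sem hS) γ hγ

/-- a log with one row and no subgroup generators shows that the letters are trivial -/
theorem collapse (I : GInst kk invR rels [] T D) (hS : GSound g kk invR rels) (hN : T.N = 1) :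
    ∀ γ ∈ Subgroup.closure (g '' Set.Iio kk), γ = 1 := by
  intro γ hγ
  obtain ⟨i, hi, hmem⟩ := I.cover hS γ hγ
  have hi0 : i = 0 := by omega
  have hbot : subK g ([] : List (List ℕ)) = ⊥ := by
    unfold subK
    have : {s : Γ | ∃ u ∈ ([] : List (List ℕ)), s = wordP g u} = ∅ := by
      ext s; simp
    rw [this, Subgroup.closure_empty]
  rw [hi0, I.hC.hname0, D.V_zero, hbot, Subgroup.mem_bot] at hmem
  simpa using hmem

end GInst

theorem wordP_hom {Γ Δ : Type*} [Group Γ] [Group Δ] (f : Γ →* Δ) (g : ℕ → Γ) (u : List ℕ) :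
    wordP (fun l => f (g l)) u = f (wordP g u) := by
  induction u with
  | nil => simp
  | cons x u ih => rw [wordP_cons, wordP_cons, ih, map_mul]

/-- If adding the relator `w` collapses the presented group, the normal closure of `w` is everything. -/
theorem normalClosure_eq_top {α : Type} [DecidableEq α] {P : CoxEnc α} (hP : P.Valid) (w : List ℕ)
    (hw : ∀ x ∈ w, x ≤ P.k) {T : Tab} {D : Log}
    (I : GInst P.k P.invR (w :: P.real) [] T D) (hN : T.N = 1) :
    Subgroup.normalClosure {wordP P.gR w} = ⊤ := by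
  set Nn := Subgroup.normalClosure {wordP P.gR w} with hNn
  have hS : GSound (fun l => (QuotientGroup.mk' Nn) (P.gR l)) P.k P.invR (w :: P.real) := by
    refine ⟨?_, ?_, ?_⟩
    · have : P.gR P.k = 1 := by rw [CoxEnc.gR, if_neg (lt_irrefl _)]
      rw [this, map_one]
    · intro l hl
      obtain ⟨h1, h2⟩ := hP.invR_sound l hl
      exact ⟨h1, by rw [h2, map_inv]⟩
    · intro r hr
      rw [wordP_hom (QuotientGroup.mk' Nn) P.gR r]
      rcases List.mem_cons.1 hr with rfl | hr
      · refine ⟨hw, ?_⟩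
        exact (QuotientGroup.eq_one_iff _).2 (Subgroup.subset_normalClosure rfl)
      · obtain ⟨h1, h2⟩ := hP.real_sound r hr
        exact ⟨h1, by rw [h2, map_one]⟩
  have hall := I.collapse hS hN
  rw [eq_top_iff]
  intro γ _
  have hγ : γ ∈ Subgroup.closure (P.gR '' Set.Iio P.k) := by rw [hP.gen_top]; trivial
  have hmem : (QuotientGroup.mk' Nn) γ ∈ Subgroup.closure ((fun l => (QuotientGroup.mk' Nn) (P.gR l)) '' Set.Iio P.k) := by
    have : (fun l => (QuotientGroup.mk' Nn) (P.gR l)) '' Set.Iio P.k = (QuotientGroup.mk' Nn) '' (P.gR '' Set.Iio P.k) := by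
      rw [Set.image_image]
    rw [this, ← MonoidHom.map_closure]
    exact Subgroup.mem_map_of_mem _ hγ
  have := hall _ hmem
  exact (QuotientGroup.eq_one_iff γ).1 this

/-! ### Primitivity from the suborbit lengths -/

/-- the subgroup `H` is transitive on each of the consecutive intervals of the given lengths -/
def OrbCond {G : Type*} [Group G] (H : Subgroup G) {X : Type*} [MulAction G X] {N : ℕ} (e : Fin N ≃ X) :
    List ℕ → ℕ → Prop
  | [], _ => True
  | a :: l, lo => (∀ j j' : Fin N, lo ≤ j.1 → j.1 < lo + a → lo ≤ j'.1 → j'.1 < lo + a →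
      ∃ h ∈ H, h • e j = e j') ∧ OrbCond H e l (lo + a)

theorem ivlCond_of_orbCond {G : Type*} [Group G] (H : Subgroup G) {X : Type*} [MulAction G X] {N : ℕ}
    (e : Fin N ≃ X) (B : Set X) (hB : ∀ h ∈ H, ∀ y ∈ B, h • y ∈ B) (Y : Finset ℕ)
    (hY : ∀ j : Fin N, j.1 ∈ Y ↔ e j ∈ B) :
    ∀ (sizes : List ℕ) (lo : ℕ), lo + sizes.sum ≤ N → OrbCond H e sizes lo → IvlCond sizes lo Y
  | [], _, _, _ => trivial
  | a :: l, lo, hle, hc => by
    rw [List.sum_cons] at hle
    refine ⟨?_, ivlCond_of_orbCond H e B hB Y hY l (lo + a) (by omega) hc.2⟩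
    by_cases hex : ∃ t ∈ Finset.Ico lo (lo + a), t ∈ Y
    · left
      obtain ⟨t, ht, htY⟩ := hex
      rw [Finset.mem_Ico] at ht
      intro t' ht'
      rw [Finset.mem_Ico] at ht'
      have htN : t < N := by omega
      have htN' : t' < N := by omega
      obtain ⟨h, hh, hhe⟩ := hc.1 ⟨t, htN⟩ ⟨t', htN'⟩ ht.1 ht.2 ht'.1 ht'.2
      have h1 : e ⟨t, htN⟩ ∈ B := (hY ⟨t, htN⟩).1 htY
      have h2 := hB h hh _ h1
      rw [hhe] at h2
      exact (hY ⟨t', htN'⟩).2 h2
    · right
      rw [Finset.disjoint_left]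
      intro t ht htY
      exact hex ⟨t, ht, htY⟩

/-- Primitivity of a transitive action from the lengths of the orbits of a subgroup fixing a point. -/
theorem preprimitive_of_intervals {G : Type*} [Group G] (H : Subgroup G) {X : Type*} [MulAction G X]
    [MulAction.IsPretransitive G X] {N : ℕ} (e : Fin N ≃ X) (sizes : List ℕ) (hN : 0 < N)
    (hsum : sizes.sum = N)
    (hfix : ∀ h ∈ H, h • e ⟨0, hN⟩ = e ⟨0, hN⟩)
    (horb : OrbCond H e sizes 0)
    (hdiv : ∀ s ∈ subsetSums sizes, s ∣ N → s ≤ 1 ∨ s = N) :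
    MulAction.IsPreprimitive G X := by
  classical
  apply MulAction.IsPreprimitive.of_isTrivialBlock_base (e ⟨0, hN⟩)
  intro B haB hBl
  have hfinX : Finite X := Finite.of_equiv _ e
  -- `B` is invariant under `H`
  have hBinv : ∀ h ∈ H, ∀ y ∈ B, h • y ∈ B := by
    intro h hh y hy
    have hstab : h ∈ MulAction.stabilizer G B := by
      apply hBl.stabilizer_le haB
      rw [MulAction.mem_stabilizer_iff]
      exact hfix h hh
    rw [MulAction.mem_stabilizer_iff] at hstab
    rw [← hstab]
    exact Set.smul_mem_smul_set hy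
  set Y : Finset ℕ := (Finset.univ.filter (fun j : Fin N => e j ∈ B)).image (fun j => j.1) with hYdef
  have hY : ∀ j : Fin N, j.1 ∈ Y ↔ e j ∈ B := by
    intro j
    rw [hYdef, Finset.mem_image]
    constructor
    · rintro ⟨j', hj', hjj⟩
      have : j' = j := Fin.ext hjj
      rw [Finset.mem_filter] at hj'
      rw [← this]; exact hj'.2
    · intro hj
      exact ⟨j, by rw [Finset.mem_filter]; exact ⟨Finset.mem_univ _, hj⟩, rfl⟩
  have hYsub : Y ⊆ Finset.Ico 0 (0 + sizes.sum) := by
    intro t ht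
    rw [hYdef, Finset.mem_image] at ht
    obtain ⟨j, _, rfl⟩ := ht
    rw [Finset.mem_Ico, hsum]
    exact ⟨Nat.zero_le _, by have := j.2; omega⟩
  have hcond := ivlCond_of_orbCond H e B hBinv Y hY sizes 0 (by omega) horb
  have hmem := card_mem_subsetSums sizes 0 Y hYsub hcond
  -- the size of `B`
  have hcard : Y.card = B.ncard := by
    rw [hYdef, Finset.card_image_of_injective _ Fin.val_injective]
    have : B = e '' {j : Fin N | e j ∈ B} := by
      ext y
      constructor
      · intro hy
        exact ⟨e.symm y, by simpa using hy, by simp⟩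
      · rintro ⟨j, hj, rfl⟩
        exact hj
    rw [this, Set.ncard_image_of_injective _ e.injective, Set.ncard_eq_toFinset_card']
    congr 1
    ext j
    simp
  have hdvd : B.ncard ∣ Nat.card X := hBl.ncard_dvd_card ⟨_, haB⟩
  have hcX : Nat.card X = N := by rw [← Nat.card_congr e, Nat.card_fin]
  rw [hcX, ← hcard] at hdvd
  rcases hdiv _ hmem hdvd with h1 | h1
  · left
    rw [hcard] at h1
    exact Set.ncard_le_one_iff_subsingleton.1 h1
  · right
    rw [hcard, ← hcX, ← Set.ncard_univ] at h1
    exact Set.eq_of_subset_of_ncard_le (Set.subset_univ B) (le_of_eq h1.symm) (Set.toFinite _)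

end Cfsg.Agent.Lib.Helper4.TC
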