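import Mathlib
import Cfsg.Agent.Lib.Helper4.TC12

/-!
Verified Todd–Coxeter logs, part 13: order and simplicity of a presented group from a log of a subgroup,
a chain of logs bounding the order of that subgroup, a strong generating set of the permutation group on
the cosets, the suborbit lengths, and a log showing that a word of prime order normally generates.
-/

namespace Cfsg.Agent.Lib.Helper4.TC

open Log Cfsg.Spor

variable {α : Type} [DecidableEq α]

namespace Inst

variable {P : CoxEnc α} {T : Tab} {D : Log} {subs : List (List ℕ)}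

/-- the upper bound of the first step of a chain -/
theorem card_le (I : Inst P T D subs) (b : ℕ) (hfin : Finite (subG P subs))
    (hb : Nat.card (subG P subs) ≤ b) : Finite P.Grp ∧ Nat.card P.Grp ≤ T.N * b := by
  have h1 := (subG P subs).index_mul_card
  rw [I.index_eq] at h1
  have hpos : 0 < Nat.card (subG P subs) := Nat.card_pos
  have hN := I.hC.hN
  have hne : Nat.card P.Grp ≠ 0 := by
    rw [← h1]
    exact Nat.mul_ne_zero (by omega) (by omega)
  refine ⟨Nat.finite_of_card_ne_zero hne, ?_⟩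
  rw [← h1]
  exact Nat.mul_le_mul_left _ hb

/-- the lower bound for the order of the image of the permutation representation -/
theorem card_range_ge (I : Inst P T D subs) (S : Sgs) (hN : S.N = T.N) (hk : S.k = D.k)
    (htab0 : ∀ i, i < S.k → ∀ p, p < S.N → S.tab i p = T.tbl p (D.inv i)) (hok : S.OK) :
    S.prodFrom S.r 0 ≤ Nat.card I.phi.range := by
  obtain ⟨N, k, m, tab, wA, wB, lev, r, beta, n, root, pt, par, gi, dep⟩ := S
  dsimp only at hN hk htab0
  subst hN
  subst hk
  set S : Sgs := ⟨T.N, D.k, m, tab, wA, wB, lev, r, beta, n, root, pt, par, gi, dep⟩ with hS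
  let q0 : ℕ → Equiv.Perm (Fin S.N) := fun i => I.phi (P.gR i)
  have h0 : ∀ i, i < S.k → ∀ p : Fin S.N, (q0 i p).1 = S.tab i p.1 := by
    intro i hi p
    have hi' : i < D.k := hi
    have hg : gE P subs i = P.gR i := extG_le (by rw [← I.hk]; exact le_of_lt hi')
    have := I.hphi i hi' p
    rw [hg] at this
    have e : S.tab i p.1 = T.tbl p.1 (D.inv i) := htab0 i hi p.1 p.2
    rw [e]
    exact this
  have h1 := Sgs.card_ge_top hok q0 h0
  have h2 : Subgroup.closure (q0 '' Set.Iio S.k) ≤ I.phi.range := by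
    rw [Subgroup.closure_le]
    rintro _ ⟨i, _, rfl⟩
    exact ⟨P.gR i, rfl⟩
  have h3 : Nat.card (Subgroup.closure (q0 '' Set.Iio S.k)) ≤ Nat.card I.phi.range :=
    Nat.card_le_card_of_injective (Subgroup.inclusion h2) (Subgroup.inclusion_injective _)
  exact le_trans h1 h3

/-- the order of the presented group, and faithfulness of the permutation representation -/
theorem card_eq (I : Inst P T D subs) (S : Sgs) (hN : S.N = T.N) (hk : S.k = D.k)
    (htab0 : ∀ i, i < S.k → ∀ p, p < S.N → S.tab i p = T.tbl p (D.inv i)) (hok : S.OK)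
    (order : ℕ) (hpos : 0 < order) (hprod : S.prodFrom S.r 0 = order)
    (hfin : Finite P.Grp) (hub : Nat.card P.Grp ≤ order) :
    Function.Injective I.phi ∧ Nat.card P.Grp = order := by
  have hlb := I.card_range_ge S hN hk htab0 hok
  rw [hprod] at hlb
  exact injective_of_card_le I.phi order hpos hub hlb

/-- transitivity of the subgroup on an interval of rows -/
theorem trans_of_orbit_eq (I : Inst P T D subs) (lo hi : ℕ) (hlo : lo < hi) (hhi : hi ≤ T.N)
    (h : MulAction.orbit (subG P subs) (I.equiv ⟨lo, lt_of_lt_of_le hlo hhi⟩) = I.equiv '' Tab.ivl T lo hi) :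
    ∀ j j' : Fin T.N, lo ≤ j.1 → j.1 < hi → lo ≤ j'.1 → j'.1 < hi →
      ∃ g ∈ subG P subs, g • I.equiv j = I.equiv j' := by
  intro j j' h1 h2 h3 h4
  have hj : I.equiv j ∈ MulAction.orbit (subG P subs) (I.equiv ⟨lo, lt_of_lt_of_le hlo hhi⟩) := by
    rw [h]; exact ⟨j, ⟨h1, h2⟩, rfl⟩
  have hj' : I.equiv j' ∈ MulAction.orbit (subG P subs) (I.equiv ⟨lo, lt_of_lt_of_le hlo hhi⟩) := by
    rw [h]; exact ⟨j', ⟨h3, h4⟩, rfl⟩
  obtain ⟨a, ha⟩ := hj
  obtain ⟨b, hb⟩ := hj'
  refine ⟨(b * a⁻¹ : subG P subs), (b * a⁻¹).2, ?_⟩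
  have ha' : (a : P.Grp) • I.equiv ⟨lo, lt_of_lt_of_le hlo hhi⟩ = I.equiv j := ha
  have hb' : (b : P.Grp) • I.equiv ⟨lo, lt_of_lt_of_le hlo hhi⟩ = I.equiv j' := hb
  rw [← ha', ← hb']
  show ((b : P.Grp) * (a : P.Grp)⁻¹) • _ = _
  rw [mul_smul, inv_smul_smul]

theorem smul_equiv (I : Inst P T D subs) (γ : P.Grp) (i : Fin T.N) :
    γ • I.equiv i = I.equiv (I.phi γ i) :=
  smul_cosetEquiv (subG P subs) I.phi ⟨0, I.hC.hN⟩ (Tab.repG T D (gE P subs)) I.hfix
    (I.hC.hrep' I.phi I.hphi) (I.hC.hcover' I.sem I.gen) γ i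

/-- Simplicity of the presented group. -/
theorem simple (I : Inst P T D subs) (hinj : Function.Injective I.phi) (hfin : Finite P.Grp)
    (sizes : List ℕ) (hsum : sizes.sum = T.N)
    (horb : OrbCond (subG P subs) I.equiv sizes 0)
    (hdiv : ∀ s ∈ subsetSums sizes, s ∣ T.N → s ≤ 1 ∨ s = T.N)
    (q : ℕ) (hq : q.Prime) (hqH : ¬ q ∣ Nat.card (subG P subs))
    (w : List ℕ) (hw : ∀ x ∈ w, x < P.k)
    (hwq : ∀ i, i < T.N → Tab.relActOK T D (List.replicate q w).flatten i = true)
    (hnc : Subgroup.normalClosure {wordP P.gR w} = ⊤) (hnt : 1 < T.N) : IsSimpleGroup P.Grp := by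
  have hprim : MulAction.IsPreprimitive P.Grp (P.Grp ⧸ subG P subs) := by
    apply preprimitive_of_intervals (subG P subs) I.equiv sizes I.hC.hN hsum _ horb hdiv
    intro h hh
    rw [I.smul_equiv, I.hfix h hh]
  have hfaith : ∀ γ : P.Grp, (∀ c : P.Grp ⧸ subG P subs, γ • c = c) → γ = 1 := by
    intro γ hγ
    apply hinj
    rw [map_one]
    ext i
    have := hγ (I.equiv i)
    rw [I.smul_equiv] at this
    have := I.equiv.injective this
    rw [this]
    rfl
  have hxq : (wordP P.gR w) ^ q = 1 := by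
    apply hinj
    rw [map_one, ← wordP_replicate_flatten]
    ext i
    have hu : ∀ x ∈ (List.replicate q w).flatten, x < D.k := by
      intro x hx
      rw [List.mem_flatten] at hx
      obtain ⟨l, hl, hxl⟩ := hx
      rw [List.eq_of_mem_replicate hl] at hxl
      rw [I.hk]
      exact hw x hxl
    have hword : wordP (gE P subs) (List.replicate q w).flatten = wordP P.gR (List.replicate q w).flatten :=
      I.gE_word _ (fun x hx => by rw [← I.hk]; exact hu x hx)
    rw [← hword, I.hC.phi_word I.phi I.hphi _ hu i]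
    have := beq_eq (hwq i.1 i.2)
    simpa using this
  have hnt' : Nontrivial P.Grp := by
    by_contra hcon
    rw [not_nontrivial_iff_subsingleton] at hcon
    have h1 : (subG P subs).index = 1 := by
      rw [Subgroup.index_eq_one]
      exact Subsingleton.elim _ _
    rw [I.index_eq] at h1
    omega
  exact simple_of_primitive (subG P subs) hprim hfaith q hq hqH (wordP P.gR w) hxq hnc hnt'

end Inst

end Cfsg.Agent.Lib.Helper4.TC
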