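import Mathlib
import Cfsg.Agent.Lib.Helper4.TC13

/-!
Verified Todd–Coxeter logs, part 14: a permutation representation of a presented group from a table of
letter permutations alone (no enumeration log): the columns are permutations and the relator words act
trivially.  Together with a strong generating set this bounds the order of the group from below, and
with an upper bound it shows that the representation is faithful, so that word identities can be read
off the table.
-/

namespace Cfsg.Agent.Lib.Helper4.TC

open Log Cfsg.Spor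

variable {α : Type} [DecidableEq α]

/-- a checked table of letter permutations for a presentation -/
structure PRep (P : CoxEnc α) (T : Tab) (D : Log) : Prop where
  hP : P.Valid
  hk : D.k = P.k
  hinv : ∀ l, l ≤ P.k → D.inv l = P.invR l
  hperm : ∀ i x, i < T.N → x < D.k → T.permOK1 D i x = true
  hlet : ∀ x, x < D.k → D.letOK x = true
  hact : ∀ L ∈ P.real, ∀ i, i < T.N → Tab.relActOK T D L i = true

namespace PRep

variable {P : CoxEnc α} {T : Tab} {D : Log}

theorem tbl_lt (R : PRep P T D) {i x : ℕ} (hi : i < T.N) (hx : x < D.k) : T.tbl i x < T.N := by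
  have := R.hperm i x hi hx
  rw [Tab.permOK1, band_eq_true] at this
  exact ble_succ this.1

theorem tbl_inv (R : PRep P T D) {i x : ℕ} (hi : i < T.N) (hx : x < D.k) :
    T.tbl (T.tbl i x) (D.inv x) = i := by
  have := R.hperm i x hi hx
  rw [Tab.permOK1, band_eq_true] at this
  exact beq_eq this.2

theorem inv_lt (R : PRep P T D) {x : ℕ} (hx : x < D.k) : D.inv x < D.k := by
  have := R.hlet x hx
  rw [Log.letOK, band_eq_true] at this
  exact ble_succ this.1

theorem inv_inv (R : PRep P T D) {x : ℕ} (hx : x < D.k) : D.inv (D.inv x) = x := by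
  have := R.hlet x hx
  rw [Log.letOK, band_eq_true] at this
  exact beq_eq this.2

theorem tbl_inv' (R : PRep P T D) {i x : ℕ} (hi : i < T.N) (hx : x < D.k) :
    T.tbl (T.tbl i (D.inv x)) x = i := by
  have := R.tbl_inv hi (R.inv_lt hx)
  rwa [R.inv_inv hx] at this

/-- the permutation of a letter -/
def colP (R : PRep P T D) (x : ℕ) : Equiv.Perm (Fin T.N) :=
  if hx : x < D.k then
    { toFun := fun i => ⟨T.tbl i.1 (D.inv x), R.tbl_lt i.2 (R.inv_lt hx)⟩
      invFun := fun i => ⟨T.tbl i.1 x, R.tbl_lt i.2 hx⟩
      left_inv := fun i => Fin.ext (R.tbl_inv' i.2 hx)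
      right_inv := fun i => Fin.ext (R.tbl_inv i.2 hx) }
  else 1

theorem colP_apply (R : PRep P T D) {x : ℕ} (hx : x < D.k) (i : Fin T.N) :
    (R.colP x i).1 = T.tbl i.1 (D.inv x) := by
  rw [colP, dif_pos hx]
  rfl

theorem colP_inv (R : PRep P T D) {x : ℕ} (hx : x < D.k) :
    R.colP (D.inv x) = (R.colP x)⁻¹ := by
  ext i
  rw [R.colP_apply (R.inv_lt hx), R.inv_inv hx]
  rw [colP, dif_pos hx]
  rfl

/-- words of letter permutations act through the table -/
theorem act_of_perm (p : ℕ → Equiv.Perm (Fin T.N))
    (hp : ∀ x, x < D.k → ∀ i : Fin T.N, (p x i).1 = T.tbl i.1 (D.inv x))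
    (u : List ℕ) (hu : ∀ x ∈ u, x < D.k) (i : Fin T.N) :
    (wordP p u i).1 = Tab.act T D u i.1 := by
  induction u with
  | nil => simp [Tab.act_nil]
  | cons x u ih =>
    rw [wordP_cons, Equiv.Perm.mul_apply, hp x (hu x List.mem_cons_self), Tab.act_cons,
      ih fun y hy => hu y (List.mem_cons_of_mem _ hy)]

theorem wordP_colP_eq_one (R : PRep P T D) (u : List ℕ) (hu : ∀ x ∈ u, x < D.k)
    (h : ∀ i, i < T.N → Tab.relActOK T D u i = true) : wordP R.colP u = 1 := by
  ext i
  rw [act_of_perm R.colP (fun x hx i => R.colP_apply hx i) u hu i]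
  simpa using beq_eq (h i.1 i.2)

/-- the images of the generators -/
def permOfGen (R : PRep P T D) (a : α) : Equiv.Perm (Fin T.N) := R.colP (P.enc a)

theorem lift_dec (R : PRep P T D) (l : ℕ) (hl : l < P.k) :
    FreeGroup.lift R.permOfGen (P.dec l) = R.colP l := by
  rcases R.hP.hdec l hl with ⟨a, h1, h2⟩ | ⟨a, h1, h2, h3, _⟩
  · rw [h1, FreeGroup.lift_apply_of, permOfGen, h2]
  · rw [h1, map_inv, FreeGroup.lift_apply_of, permOfGen, ← R.colP_inv (by rw [R.hk]; exact h3),
      R.hinv _ (le_of_lt h3), h2]

/-- the permutation representation of the presented group given by the table -/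
noncomputable def phi (R : PRep P T D) : P.Grp →* Equiv.Perm (Fin T.N) :=
  PresentedGroup.toGroup (f := R.permOfGen) (by
    apply (R.hP.rels_iff _ R.permOfGen).2
    intro L hL
    have e : ∀ L : List ℕ, (∀ x ∈ L, x < P.k) →
        wordP (fun l => FreeGroup.lift R.permOfGen (P.dec l)) L = wordP R.colP L := by
      intro L
      induction L with
      | nil => intro _; rfl
      | cons x L ih =>
        intro h
        rw [wordP_cons, wordP_cons, ih fun y hy => h y (List.mem_cons_of_mem _ hy),
          R.lift_dec x (h x List.mem_cons_self)]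
    rw [e L (R.hP.real_lt L hL)]
    exact R.wordP_colP_eq_one L (fun x hx => by rw [R.hk]; exact R.hP.real_lt L hL x hx) (R.hact L hL))

theorem phi_gR (R : PRep P T D) (x : ℕ) (hx : x < D.k) (i : Fin T.N) :
    (R.phi (P.gR x) i).1 = T.tbl i.1 (D.inv x) := by
  have hx' : x < P.k := by rw [← R.hk]; exact hx
  rw [CoxEnc.gR_lt hx']
  have : R.phi (PresentedGroup.mk P.rels (P.dec x)) = FreeGroup.lift R.permOfGen (P.dec x) := rfl
  rw [this, R.lift_dec x hx', R.colP_apply hx]

theorem phi_word (R : PRep P T D) (u : List ℕ) (hu : ∀ x ∈ u, x < D.k) (i : Fin T.N) :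
    (R.phi (wordP P.gR u) i).1 = Tab.act T D u i.1 := by
  have : R.phi (wordP P.gR u) = wordP (fun x => R.phi (P.gR x)) u := by
    induction u with
    | nil => simp
    | cons x u ih =>
      rw [wordP_cons, wordP_cons, map_mul, ih fun y hy => hu y (List.mem_cons_of_mem _ hy)]
  rw [this]
  exact act_of_perm _ (fun x hx i => R.phi_gR x hx i) u hu i

/-- the lower bound for the order of the image of the permutation representation -/
theorem card_range_ge (R : PRep P T D) (S : Sgs) (hN : S.N = T.N) (hk : S.k = D.k)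
    (htab0 : ∀ i, i < S.k → ∀ p, p < S.N → S.tab i p = T.tbl p (D.inv i)) (hok : S.OK) :
    S.prodFrom S.r 0 ≤ Nat.card R.phi.range := by
  obtain ⟨N, k, m, tab, wA, wB, lev, r, beta, n, root, pt, par, gi, dep⟩ := S
  dsimp only at hN hk htab0
  subst hN
  subst hk
  set S : Sgs := ⟨T.N, D.k, m, tab, wA, wB, lev, r, beta, n, root, pt, par, gi, dep⟩ with hS
  let q0 : ℕ → Equiv.Perm (Fin S.N) := fun i => R.phi (P.gR i)
  have h0 : ∀ i, i < S.k → ∀ p : Fin S.N, (q0 i p).1 = S.tab i p.1 := by
    intro i hi p
    have hi' : i < D.k := hi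
    have := R.phi_gR i hi' p
    have e : S.tab i p.1 = T.tbl p.1 (D.inv i) := htab0 i hi p.1 p.2
    rw [e]
    exact this
  have h1 := Sgs.card_ge_top hok q0 h0
  have h2 : Subgroup.closure (q0 '' Set.Iio S.k) ≤ R.phi.range := by
    rw [Subgroup.closure_le]
    rintro _ ⟨i, _, rfl⟩
    exact ⟨P.gR i, rfl⟩
  have h3 : Nat.card (Subgroup.closure (q0 '' Set.Iio S.k)) ≤ Nat.card R.phi.range :=
    Nat.card_le_card_of_injective (Subgroup.inclusion h2) (Subgroup.inclusion_injective _)
  exact le_trans h1 h3

/-- the order of the presented group, and faithfulness of the permutation representation -/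
theorem card_eq (R : PRep P T D) (S : Sgs) (hN : S.N = T.N) (hk : S.k = D.k)
    (htab0 : ∀ i, i < S.k → ∀ p, p < S.N → S.tab i p = T.tbl p (D.inv i)) (hok : S.OK)
    (order : ℕ) (hpos : 0 < order) (hprod : S.prodFrom S.r 0 = order)
    (hfin : Finite P.Grp) (hub : Nat.card P.Grp ≤ order) :
    Function.Injective R.phi ∧ Nat.card P.Grp = order := by
  have hlb := R.card_range_ge S hN hk htab0 hok
  rw [hprod] at hlb
  exact injective_of_card_le R.phi order hpos hub hlb

/-- a word that acts trivially on the table of a faithful representation is trivial -/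
theorem word_eq_one (R : PRep P T D) (hinj : Function.Injective R.phi) (u : List ℕ)
    (hu : ∀ x ∈ u, x < D.k) (h : ∀ i, i < T.N → Tab.relActOK T D u i = true) :
    wordP P.gR u = 1 := by
  apply hinj
  rw [map_one]
  ext i
  rw [R.phi_word u hu i]
  simpa using beq_eq (h i.1 i.2)

end PRep

end Cfsg.Agent.Lib.Helper4.TC
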