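import Mathlib
import Cfsg.Agent.Lib.Helper4.TC14

/-!
Generalities on permutation realisations: transport of simplicity and order along isomorphisms, images of
simple groups, the image of the permutation representation of an instance as a transitive permutation group,
and subgroups of it given by tables of permutations.
-/

namespace Cfsg.Agent.Lib.Helper4.RepLib

open Cfsg.Agent.Lib.Helper4.TC Cfsg.Agent.Lib.Helper4.TC.Log

theorem injective_of_simple {A B : Type*} [Group A] [Group B] (hA : IsSimpleGroup A) (ψ : A →* B) (a : A)
    (ha : ψ a ≠ 1) : Function.Injective ψ := by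
  rw [← MonoidHom.ker_eq_bot_iff]
  rcases hA.eq_bot_or_eq_top_of_normal ψ.ker inferInstance with h | h
  · exact h
  · exfalso
    apply ha
    have : a ∈ ψ.ker := by rw [h]; trivial
    exact this

theorem simple_of_equiv {A B : Type*} [Group A] [Group B] (e : A ≃* B) (hs : IsSimpleGroup A) :
    IsSimpleGroup B := by
  haveI := hs
  haveI : Nontrivial B := e.symm.toEquiv.nontrivial
  exact IsSimpleGroup.isSimpleGroup_of_surjective e.toMonoidHom e.surjective

theorem card_of_equiv {A B : Type*} [Group A] [Group B] (e : A ≃* B) : Nat.card B = Nat.card A :=
  Nat.card_congr e.symm.toEquiv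

/-- the image of an injective homomorphism inside a subgroup containing it is a copy of the source -/
noncomputable def rangeEquiv {A B : Type*} [Group A] [Group B] (ψ : A →* B) (hinj : Function.Injective ψ)
    (H : Subgroup B) (hle : ψ.range ≤ H) : A ≃* (ψ.range.subgroupOf H) :=
  (MonoidHom.ofInjective hinj).trans (Subgroup.subgroupOfEquivOfLe hle).symm

end Cfsg.Agent.Lib.Helper4.RepLib
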