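import Mathlib
import Cfsg.Agent.Lib.Helper4.RepLib

/-!
The image of the permutation representation of an instance: words act through the table, the image is
transitive, and the order of a point stabiliser.
-/

namespace Cfsg.Agent.Lib.Helper4.TC

open Log Cfsg.Spor

variable {α : Type} [DecidableEq α]

namespace Inst

variable {P : CoxEnc α} {T : Tab} {D : Log} {subs : List (List ℕ)}

/-- words act through the table -/
theorem phi_word (I : Inst P T D subs) (u : List ℕ) (hu : ∀ x ∈ u, x < D.k) (p : Fin T.N) :
    (I.phi (wordP P.gR u) p).1 = Tab.act T D u p.1 := by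
  have hu' : ∀ x ∈ u, x < P.k := fun x hx => by rw [← I.hk]; exact hu x hx
  have hword : wordP (gE P subs) u = wordP P.gR u := I.gE_word _ hu'
  rw [← hword]
  exact I.hC.phi_word I.phi I.hphi u hu p

/-- a word that acts trivially on the table of a faithful representation is trivial -/
theorem word_eq_one (I : Inst P T D subs) (hinj : Function.Injective I.phi) (u : List ℕ)
    (hu : ∀ x ∈ u, x < D.k) (h : ∀ i, i < T.N → Tab.relActOK T D u i = true) :
    wordP P.gR u = 1 := by
  apply hinj
  rw [map_one]
  ext i
  rw [I.phi_word u hu i]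
  simpa using beq_eq (h i.1 i.2)

/-- the image of the permutation representation is transitive -/
theorem range_pretransitive (I : Inst P T D subs) :
    MulAction.IsPretransitive I.phi.range (Fin T.N) := by
  constructor
  intro i j
  obtain ⟨γ, hγ⟩ := MulAction.exists_smul_eq P.Grp (I.equiv i) (I.equiv j)
  rw [I.smul_equiv] at hγ
  have h := I.equiv.injective hγ
  exact ⟨⟨I.phi γ, γ, rfl⟩, h⟩

end Inst

/-- the order of a point stabiliser in a transitive permutation group -/
theorem card_stabilizer_of_pretransitive {n : ℕ} (H : Subgroup (Equiv.Perm (Fin n)))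
    (ht : MulAction.IsPretransitive H (Fin n)) (x : Fin n) :
    n * Nat.card (MulAction.stabilizer H x) = Nat.card H := by
  have h1 : (MulAction.stabilizer H x).index = n := by
    rw [MulAction.index_stabilizer, MulAction.orbit_eq_univ, Set.ncard_univ, Nat.card_fin]
  have h2 := (MulAction.stabilizer H x).index_mul_card
  rw [h1] at h2
  exact h2

/-- a homomorphism whose values on a generating set lie in the image of another one has its image inside -/
theorem range_le_of_gens {A B C : Type*} [Group A] [Group B] [Group C] (ψ : A →* C) (φ : B →* C)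
    (S : Set A) (hS : Subgroup.closure S = ⊤) (h : ∀ s ∈ S, ψ s ∈ φ.range) : ψ.range ≤ φ.range := by
  rw [MonoidHom.range_eq_map, ← hS, MonoidHom.map_closure, Subgroup.closure_le]
  rintro _ ⟨s, hs, rfl⟩
  exact h s hs

/-- the same, with the generators given as a family and the values compared pointwise -/
theorem range_le_of_tables {A B : Type*} [Group A] [Group B] {n : ℕ} (ψ : A →* Equiv.Perm (Fin n))
    (φ : B →* Equiv.Perm (Fin n)) (gA : ℕ → A) (k : ℕ) (hgen : Subgroup.closure (gA '' Set.Iio k) = ⊤)
    (wB : ℕ → B) (h : ∀ x, x < k → ∀ p : Fin n, (ψ (gA x) p).1 = (φ (wB x) p).1) :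
    ψ.range ≤ φ.range := by
  apply range_le_of_gens ψ φ _ hgen
  rintro _ ⟨x, hx, rfl⟩
  refine ⟨wB x, ?_⟩
  ext p
  exact (h x hx p).symm

end Cfsg.Agent.Lib.Helper4.TC
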