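import Mathlib
import Cfsg.Agent.Lib.Helper4.TC13

/-!
Verified Todd–Coxeter logs, part 15: simplicity from a transitive faithful action without primitivity.
Every nontrivial normal subgroup has an orbit through the base point that is a block, hence a union of
suborbits whose size divides the degree; if every such size is divisible by a prime `q` whose square does
not divide the group order and some element of order `q` normally generates the group, the group is simple.
-/

namespace Cfsg.Agent.Lib.Helper4.TC

open Log MulAction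
open scoped Pointwise

/-- the subset sums as a bit mask -/
def maskOf : List ℕ → ℕ
  | [] => 1
  | a :: l => Nat.lor (maskOf l) (Nat.shiftLeft (maskOf l) a)

theorem testBit_maskOf : ∀ (sizes : List ℕ) (s : ℕ), s ∈ subsetSums sizes → (maskOf sizes).testBit s = true
  | [], s, h => by
    simp only [subsetSums, List.mem_singleton] at h
    subst h
    rfl
  | a :: l, s, h => by
    rw [subsetSums, List.mem_append, List.mem_map] at h
    show (maskOf l ||| maskOf l <<< a).testBit s = true
    rw [Nat.testBit_or, Nat.testBit_shiftLeft]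
    rcases h with h | ⟨s', hs', rfl⟩
    · rw [testBit_maskOf l s h]
      rfl
    · have := testBit_maskOf l s' hs'
      simp [this]

/-- the size of a block through the base point is a subset sum of the suborbit lengths -/
theorem block_ncard_mem {G : Type*} [Group G] (H : Subgroup G) {X : Type*} [MulAction G X]
    {N : ℕ} (e : Fin N ≃ X) (sizes : List ℕ) (hN : 0 < N) (hsum : sizes.sum = N)
    (hfix : ∀ h ∈ H, h • e ⟨0, hN⟩ = e ⟨0, hN⟩) (horb : OrbCond H e sizes 0)
    (B : Set X) (haB : e ⟨0, hN⟩ ∈ B) (hBl : IsBlock G B) : B.ncard ∈ subsetSums sizes := by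
  classical
  have hBinv : ∀ h ∈ H, ∀ y ∈ B, h • y ∈ B := by
    intro h hh y hy
    have hstab : h ∈ MulAction.stabilizer G B := by
      apply hBl.stabilizer_le haB
      rw [MulAction.mem_stabilizer_iff]
      exact hfix h hh
    rw [MulAction.mem_stabilizer_iff] at hstab
    rw [← hstab]
    exact Set.smul_mem_smul_set hy
  set Y : Finset ℕ := (Finset.univ.filter (fun j : Fin N => e j ∈ B)).image (fun j => j.1) with hYdef
  have hY : ∀ j : Fin N, j.1 ∈ Y ↔ e j ∈ B := by
    intro j
    rw [hYdef, Finset.mem_image]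
    constructor
    · rintro ⟨j', hj', hjj⟩
      have : j' = j := Fin.ext hjj
      rw [Finset.mem_filter] at hj'
      rw [← this]; exact hj'.2
    · intro hj
      exact ⟨j, by rw [Finset.mem_filter]; exact ⟨Finset.mem_univ _, hj⟩, rfl⟩
  have hYsub : Y ⊆ Finset.Ico 0 (0 + sizes.sum) := by
    intro t ht
    rw [hYdef, Finset.mem_image] at ht
    obtain ⟨j, _, rfl⟩ := ht
    rw [Finset.mem_Ico, hsum]
    exact ⟨Nat.zero_le _, by have := j.2; omega⟩
  have hcond := ivlCond_of_orbCond H e B hBinv Y hY sizes 0 (by omega) horb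
  have hmem := card_mem_subsetSums sizes 0 Y hYsub hcond
  have hcard : Y.card = B.ncard := by
    rw [hYdef, Finset.card_image_of_injective _ Fin.val_injective]
    have : B = e '' {j : Fin N | e j ∈ B} := by
      ext y
      constructor
      · intro hy
        exact ⟨e.symm y, by simpa using hy, by simp⟩
      · rintro ⟨j, hj, rfl⟩
        exact hj
    rw [this, Set.ncard_image_of_injective _ e.injective, Set.ncard_eq_toFinset_card']
    congr 1
    ext j
    simp
  rw [← hcard]
  exact hmem

/-- Simplicity from a faithful transitive action, the suborbit lengths, and normally generating elements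
of prime orders whose squares do not divide the group order. -/
theorem simple_of_blocks {G : Type*} [Group G] [Finite G] (H : Subgroup G) {X : Type*} [MulAction G X]
    [IsPretransitive G X] {N : ℕ} (e : Fin N ≃ X) (sizes : List ℕ) (hN : 1 < N) (hsum : sizes.sum = N)
    (hfix : ∀ h ∈ H, h • e ⟨0, by omega⟩ = e ⟨0, by omega⟩) (horb : OrbCond H e sizes 0)
    (hfaith : ∀ γ : G, (∀ c : X, γ • c = c) → γ = 1) (Q : List ℕ)
    (hQ : ∀ q ∈ Q, q.Prime ∧ ¬ q ^ 2 ∣ Nat.card G ∧
      ∃ x : G, x ^ q = 1 ∧ Subgroup.normalClosure {x} = ⊤)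
    (hq : ∀ s ∈ subsetSums sizes, s ∣ N → 1 < s → ∃ q ∈ Q, q ∣ s) : IsSimpleGroup G := by
  classical
  have hN0 : 0 < N := by omega
  have hnt : Nontrivial G := by
    by_contra hcon
    rw [not_nontrivial_iff_subsingleton] at hcon
    obtain ⟨g, hg⟩ := exists_smul_eq G (e ⟨0, hN0⟩) (e ⟨1, hN⟩)
    have h1 : g = 1 := Subsingleton.elim _ _
    rw [h1, one_smul] at hg
    have := e.injective hg
    simp [Fin.ext_iff] at this
  refine { toNontrivial := hnt, eq_bot_or_eq_top_of_normal := ?_ }
  intro K hK
  by_cases hbot : K = ⊥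
  · exact Or.inl hbot
  right
  set x0 := e ⟨0, hN0⟩ with hx0
  have hfinX : Finite X := Finite.of_equiv _ e
  have hBl : IsBlock G (orbit K x0) := IsBlock.orbit_of_normal x0
  have haB : x0 ∈ orbit K x0 := mem_orbit_self x0
  have hmem := block_ncard_mem H e sizes hN0 hsum hfix horb (orbit K x0) haB hBl
  have hdvd : (orbit K x0).ncard ∣ N := by
    have := hBl.ncard_dvd_card ⟨_, haB⟩
    rwa [← Nat.card_congr e, Nat.card_fin] at this
  have h1 : 1 < (orbit K x0).ncard := by
    by_contra hle
    rw [not_lt, Set.ncard_le_one_iff_subsingleton] at hle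
    apply hbot
    rw [Subgroup.eq_bot_iff_forall]
    intro k hk
    apply hfaith k
    intro c
    obtain ⟨g, rfl⟩ := exists_smul_eq G x0 c
    have hk' : g⁻¹ * k * g ∈ K := hK.conj_mem' k hk g
    have hfx : (g⁻¹ * k * g) • x0 = x0 :=
      hle (⟨⟨g⁻¹ * k * g, hk'⟩, rfl⟩ : (g⁻¹ * k * g) • x0 ∈ orbit K x0) haB
    calc k • g • x0 = g • (g⁻¹ * k * g) • x0 := by rw [smul_smul, smul_smul]; group
      _ = g • x0 := by rw [hfx]
  obtain ⟨q, hqQ, hqs⟩ := hq _ hmem hdvd h1
  obtain ⟨hqp, hq2, x, hxq, hxn⟩ := hQ q hqQ
  have hBK : (orbit K x0).ncard ∣ Nat.card K := by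
    rw [← MulAction.index_stabilizer (G := K) (x := x0)]
    exact Subgroup.index_dvd_card _
  have hqK : q ∣ Nat.card K := dvd_trans hqs hBK
  have hxK : x ∈ K := by
    by_contra hxK
    apply hq2
    have hne : ((x : G) : G ⧸ K) ≠ 1 := by
      intro h
      exact hxK ((QuotientGroup.eq_one_iff x).1 h)
    have hpow : ((x : G) : G ⧸ K) ^ q = 1 := by
      rw [← QuotientGroup.mk_pow, hxq]; rfl
    haveI : Fact q.Prime := ⟨hqp⟩
    have hord : orderOf ((x : G) : G ⧸ K) = q := orderOf_eq_prime hpow hne
    have h2 : q ∣ K.index := by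
      have : Nat.card (G ⧸ K) = K.index := rfl
      rw [← this, ← hord]
      exact orderOf_dvd_natCard _
    rw [← K.index_mul_card, pow_two]
    exact Nat.mul_dvd_mul h2 hqK
  rw [eq_top_iff, ← hxn]
  exact Subgroup.normalClosure_le_normal (Set.singleton_subset_iff.2 hxK)

end Cfsg.Agent.Lib.Helper4.TC
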