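import Mathlib
import Cfsg.Agent.Lib.Helper4.TC15
import Cfsg.Agent.Lib.Helper4.RepLib2

/-!
Verified Todd–Coxeter logs, part 16: simplicity of a presented group from a faithful coset action that need
not be primitive (see part 15), in terms of an instance.
-/

namespace Cfsg.Agent.Lib.Helper4.TC

open Log Cfsg.Spor

variable {α : Type} [DecidableEq α]

namespace Inst

variable {P : CoxEnc α} {T : Tab} {D : Log} {subs : List (List ℕ)}

/-- a power of a word is trivial if it acts trivially on the table of a faithful representation -/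
theorem pow_eq_one (I : Inst P T D subs) (hinj : Function.Injective I.phi) (w : List ℕ)
    (hw : ∀ x ∈ w, x < D.k) (q : ℕ)
    (hwq : ∀ i, i < T.N → Tab.relActOK T D (List.replicate q w).flatten i = true) :
    (wordP P.gR w) ^ q = 1 := by
  rw [← wordP_replicate_flatten]
  apply I.word_eq_one hinj _ _ hwq
  intro x hx
  rw [List.mem_flatten] at hx
  obtain ⟨l, hl, hxl⟩ := hx
  rw [List.eq_of_mem_replicate hl] at hxl
  exact hw x hxl

/-- Simplicity of the presented group from a faithful transitive coset action. -/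
theorem simple2 (I : Inst P T D subs) (hinj : Function.Injective I.phi) (hfin : Finite P.Grp)
    (sizes : List ℕ) (hsum : sizes.sum = T.N) (horb : OrbCond (subG P subs) I.equiv sizes 0)
    (hnt : 1 < T.N) (Q : List ℕ)
    (hQ : ∀ q ∈ Q, q.Prime ∧ ¬ q ^ 2 ∣ Nat.card P.Grp ∧
      ∃ x : P.Grp, x ^ q = 1 ∧ Subgroup.normalClosure {x} = ⊤)
    (hq : ∀ s, s ≤ T.N → (maskOf sizes).testBit s = true → s ∣ T.N → 1 < s → ∃ q ∈ Q, q ∣ s) :
    IsSimpleGroup P.Grp := by
  have hN0 : 0 < T.N := by omega
  apply simple_of_blocks (subG P subs) I.equiv sizes hnt hsum _ horb _ Q hQ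
  · intro s hs hd h1
    exact hq s (Nat.le_of_dvd hN0 hd) (testBit_maskOf _ _ hs) hd h1
  · intro h hh
    rw [I.smul_equiv, I.hfix h hh]
  · intro γ hγ
    apply hinj
    rw [map_one]
    ext i
    have := hγ (I.equiv i)
    rw [I.smul_equiv] at this
    have := I.equiv.injective this
    rw [this]
    rfl

end Inst

end Cfsg.Agent.Lib.Helper4.TC
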