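import Mathlib
import Cfsg.Agent.Lib.Helper4.TC16

/-!
Verified Todd–Coxeter logs, part 17: instances whose log uses further relator words besides those of the
presentation.  The further words are known to be trivial in the presented group (for example from a faithful
representation of a group mapping to it), so the log is still sound; the permutation representation only needs
the relators of the presentation.  All consequences of an instance are available: the index, the bijection
with the cosets, the suborbits, and simplicity.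
-/

namespace Cfsg.Agent.Lib.Helper4.TC

open Log Cfsg.Spor

variable {α : Type} [DecidableEq α]

/-- All checks for a log of a subgroup of a presented group, with further relator words `extra`. -/
structure XInst (P : CoxEnc α) (extra : List (List ℕ)) (T : Tab) (D : Log) (subs : List (List ℕ)) : Prop where
  hP : P.Valid
  hk : D.k = P.k
  hinv : D.inv = invE P.k P.invR
  hsubs : ∀ u ∈ subs, ∀ x ∈ u, x < P.k
  hextra : ∀ r ∈ extra, (∀ x ∈ r, x ≤ P.k) ∧ wordP P.gR r = 1
  htab : D.relTabOK 0 (baseRels P.k P.invR (P.real ++ extra) subs ++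
    (baseRels P.k P.invR (P.real ++ extra) subs).map (invWord D.inv)) = true
  hC : T.Checked D
  hact : ∀ L ∈ P.real, ∀ i, i < T.N → Tab.relActOK T D L i = true
  hsubfix : ∀ u ∈ subs, Tab.act T D u 0 = 0

namespace XInst

variable {P : CoxEnc α} {extra : List (List ℕ)} {T : Tab} {D : Log} {subs : List (List ℕ)}

open Inst (subG gE)

theorem gE_word (I : XInst P extra T D subs) (u : List ℕ) (hu : ∀ x ∈ u, x < P.k) :
    wordP (gE P subs) u = wordP P.gR u := by
  have _ := I
  exact wordP_extG P.k P.gR _ u fun x hx => le_of_lt (hu x hx)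

theorem inv_le (I : XInst P extra T D subs) (l : ℕ) (hl : l ≤ P.k) : D.inv l = P.invR l := by
  rw [I.hinv, invE, Nat.ble_eq_true_of_le hl, bsel_true]

theorem sem (I : XInst P extra T D subs) : D.Sem (gE P subs) (subG P subs) where
  heps := by
    rw [I.hk, gE, extG_le (le_refl _), CoxEnc.gR, if_neg (lt_irrefl _)]
  hinv := by
    intro l
    rw [I.hinv]
    exact extG_invE P.k P.gR _ P.invR I.hP.invR_sound l
  hwin := by
    apply D.hwin_of_base (gE P subs) (baseRels P.k P.invR (P.real ++ extra) subs)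
    · intro l
      rw [I.hinv]
      exact extG_invE P.k P.gR _ P.invR I.hP.invR_sound l
    · refine baseRels_sound P.k P.gR P.invR (P.real ++ extra) subs I.hP.invR_sound ?_
        fun u hu x hx => le_of_lt (I.hsubs u hu x hx)
      intro r hr
      rcases List.mem_append.1 hr with hr | hr
      · exact I.hP.real_sound r hr
      · exact I.hextra r hr
    · exact I.htab
  hbase := by
    intro j _
    rw [I.hk]
    apply extG_base
    intro s hs
    obtain ⟨u, hu, rfl⟩ := List.mem_map.1 hs
    exact Subgroup.subset_closure ⟨u, hu, rfl⟩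

theorem gen (I : XInst P extra T D subs) : Subgroup.closure (gE P subs '' Set.Iio D.k) = ⊤ := by
  rw [← I.hP.gen_top, I.hk]
  congr 1
  apply Set.image_congr
  intro l hl
  exact extG_le (le_of_lt hl)

/-- the permutation representation -/
noncomputable def phi (I : XInst P extra T D subs) : P.Grp →* Equiv.Perm (Fin T.N) :=
  CoxEnc.phi I.hP I.hC I.hk I.inv_le I.hact

theorem hphi (I : XInst P extra T D subs) (x : ℕ) (hx : x < D.k) (i : Fin T.N) :
    (I.phi (gE P subs x) i).1 = T.tbl i.1 (D.inv x) := by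
  have : gE P subs x = P.gR x := extG_le (by rw [← I.hk]; exact le_of_lt hx)
  rw [this]
  exact CoxEnc.phi_gR I.hP I.hC I.hk I.inv_le I.hact x hx i

theorem subG_eq (I : XInst P extra T D subs) :
    subG P subs = Subgroup.closure {s | ∃ u ∈ subs, s = wordP (gE P subs) u} := by
  unfold subG
  congr 1
  ext s
  constructor
  · rintro ⟨u, hu, rfl⟩
    exact ⟨u, hu, (I.gE_word u (I.hsubs u hu)).symm⟩
  · rintro ⟨u, hu, rfl⟩
    exact ⟨u, hu, I.gE_word u (I.hsubs u hu)⟩

theorem hfix (I : XInst P extra T D subs) : ∀ h ∈ subG P subs, I.phi h ⟨0, I.hC.hN⟩ = ⟨0, I.hC.hN⟩ := by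
  rw [I.subG_eq]
  apply Tab.fix_of_words
  rintro s ⟨u, hu, rfl⟩
  apply Fin.ext
  rw [I.hC.phi_word I.phi I.hphi u (fun x hx => by rw [I.hk]; exact I.hsubs u hu x hx)]
  exact I.hsubfix u hu

/-- The index of the subgroup is the number of rows of the table. -/
theorem index_eq (I : XInst P extra T D subs) : (subG P subs).index = T.N :=
  I.hC.index_eq I.phi I.sem I.gen I.hphi I.hfix

/-- the bijection between the rows of the table and the cosets -/
noncomputable def equiv (I : XInst P extra T D subs) : Fin T.N ≃ P.Grp ⧸ subG P subs :=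
  cosetEquiv (subG P subs) I.phi ⟨0, I.hC.hN⟩ (Tab.repG T D (gE P subs)) I.hfix
    (I.hC.hrep' I.phi I.hphi) (I.hC.hcover' I.sem I.gen)

theorem orbit_eq (I : XInst P extra T D subs) (opar olab : ℕ → ℕ) (lo hi : ℕ) (hlo : lo < hi) (hhi : hi ≤ T.N)
    (hinv : ∀ j, lo ≤ j → j < hi → Tab.orbInvOK T D subs lo hi j = true)
    (htree : ∀ j, lo < j → j < hi → Tab.orbTreeOK T D subs opar olab lo j = true) :
    MulAction.orbit (subG P subs) (I.equiv ⟨lo, lt_of_lt_of_le hlo hhi⟩) = I.equiv '' Tab.ivl T lo hi :=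
  I.hC.orbit_eq I.phi I.sem I.gen I.hphi subs (fun u hu x hx => by rw [I.hk]; exact I.hsubs u hu x hx)
    I.subG_eq I.hfix opar olab lo hi hlo hhi hinv htree

theorem orbit_ncard (I : XInst P extra T D subs) (opar olab : ℕ → ℕ) (lo hi : ℕ) (hlo : lo < hi) (hhi : hi ≤ T.N)
    (hinv : ∀ j, lo ≤ j → j < hi → Tab.orbInvOK T D subs lo hi j = true)
    (htree : ∀ j, lo < j → j < hi → Tab.orbTreeOK T D subs opar olab lo j = true) :
    (MulAction.orbit (subG P subs) (I.equiv ⟨lo, lt_of_lt_of_le hlo hhi⟩)).ncard = hi - lo := by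
  rw [I.orbit_eq opar olab lo hi hlo hhi hinv htree,
    Set.ncard_image_of_injective _ (Equiv.injective _), Tab.ivl_ncard lo hi hhi]

theorem orbit_ne (I : XInst P extra T D subs) (opar olab opar' olab' : ℕ → ℕ) (lo hi lo' hi' : ℕ)
    (hlo : lo < hi) (hhi : hi ≤ T.N) (hlo' : lo' < hi') (hhi' : hi' ≤ T.N) (hdis : hi ≤ lo')
    (hinv : ∀ j, lo ≤ j → j < hi → Tab.orbInvOK T D subs lo hi j = true)
    (htree : ∀ j, lo < j → j < hi → Tab.orbTreeOK T D subs opar olab lo j = true)
    (hinv' : ∀ j, lo' ≤ j → j < hi' → Tab.orbInvOK T D subs lo' hi' j = true)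
    (htree' : ∀ j, lo' < j → j < hi' → Tab.orbTreeOK T D subs opar' olab' lo' j = true) :
    MulAction.orbit (subG P subs) (I.equiv ⟨lo, lt_of_lt_of_le hlo hhi⟩) ≠
      MulAction.orbit (subG P subs) (I.equiv ⟨lo', lt_of_lt_of_le hlo' hhi'⟩) := by
  rw [I.orbit_eq opar olab lo hi hlo hhi hinv htree, I.orbit_eq opar' olab' lo' hi' hlo' hhi' hinv' htree']
  intro h
  have h1 : I.equiv ⟨lo, lt_of_lt_of_le hlo hhi⟩ ∈ I.equiv '' Tab.ivl T lo hi :=
    ⟨_, ⟨le_refl _, hlo⟩, rfl⟩
  rw [h] at h1
  obtain ⟨j, hj, hje⟩ := h1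
  have := I.equiv.injective hje
  have hj1 : lo' ≤ j.1 := hj.1
  rw [this] at hj1
  simp at hj1
  omega


/-- the upper bound of the first step of a chain -/
theorem card_le (I : XInst P extra T D subs) (b : ℕ) (hfin : Finite (subG P subs))
    (hb : Nat.card (subG P subs) ≤ b) : Finite P.Grp ∧ Nat.card P.Grp ≤ T.N * b := by
  have h1 := (subG P subs).index_mul_card
  rw [I.index_eq] at h1
  have hpos : 0 < Nat.card (subG P subs) := Nat.card_pos
  have hN := I.hC.hN
  have hne : Nat.card P.Grp ≠ 0 := by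
    rw [← h1]
    exact Nat.mul_ne_zero (by omega) (by omega)
  refine ⟨Nat.finite_of_card_ne_zero hne, ?_⟩
  rw [← h1]
  exact Nat.mul_le_mul_left _ hb


/-- transitivity of the subgroup on an interval of rows -/
theorem trans_of_orbit_eq (I : XInst P extra T D subs) (lo hi : ℕ) (hlo : lo < hi) (hhi : hi ≤ T.N)
    (h : MulAction.orbit (subG P subs) (I.equiv ⟨lo, lt_of_lt_of_le hlo hhi⟩) = I.equiv '' Tab.ivl T lo hi) :
    ∀ j j' : Fin T.N, lo ≤ j.1 → j.1 < hi → lo ≤ j'.1 → j'.1 < hi →
      ∃ g ∈ subG P subs, g • I.equiv j = I.equiv j' := by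
  intro j j' h1 h2 h3 h4
  have hj : I.equiv j ∈ MulAction.orbit (subG P subs) (I.equiv ⟨lo, lt_of_lt_of_le hlo hhi⟩) := by
    rw [h]; exact ⟨j, ⟨h1, h2⟩, rfl⟩
  have hj' : I.equiv j' ∈ MulAction.orbit (subG P subs) (I.equiv ⟨lo, lt_of_lt_of_le hlo hhi⟩) := by
    rw [h]; exact ⟨j', ⟨h3, h4⟩, rfl⟩
  obtain ⟨a, ha⟩ := hj
  obtain ⟨b, hb⟩ := hj'
  refine ⟨(b * a⁻¹ : subG P subs), (b * a⁻¹).2, ?_⟩
  have ha' : (a : P.Grp) • I.equiv ⟨lo, lt_of_lt_of_le hlo hhi⟩ = I.equiv j := ha
  have hb' : (b : P.Grp) • I.equiv ⟨lo, lt_of_lt_of_le hlo hhi⟩ = I.equiv j' := hb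
  rw [← ha', ← hb']
  show ((b : P.Grp) * (a : P.Grp)⁻¹) • _ = _
  rw [mul_smul, inv_smul_smul]

theorem smul_equiv (I : XInst P extra T D subs) (γ : P.Grp) (i : Fin T.N) :
    γ • I.equiv i = I.equiv (I.phi γ i) :=
  smul_cosetEquiv (subG P subs) I.phi ⟨0, I.hC.hN⟩ (Tab.repG T D (gE P subs)) I.hfix
    (I.hC.hrep' I.phi I.hphi) (I.hC.hcover' I.sem I.gen) γ i


/-- words act through the table -/
theorem phi_word (I : XInst P extra T D subs) (u : List ℕ) (hu : ∀ x ∈ u, x < D.k) (p : Fin T.N) :
    (I.phi (wordP P.gR u) p).1 = Tab.act T D u p.1 := by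
  have hu' : ∀ x ∈ u, x < P.k := fun x hx => by rw [← I.hk]; exact hu x hx
  have hword : wordP (gE P subs) u = wordP P.gR u := I.gE_word _ hu'
  rw [← hword]
  exact I.hC.phi_word I.phi I.hphi u hu p

/-- a word that acts trivially on the table of a faithful representation is trivial -/
theorem word_eq_one (I : XInst P extra T D subs) (hinj : Function.Injective I.phi) (u : List ℕ)
    (hu : ∀ x ∈ u, x < D.k) (h : ∀ i, i < T.N → Tab.relActOK T D u i = true) :
    wordP P.gR u = 1 := by
  apply hinj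
  rw [map_one]
  ext i
  rw [I.phi_word u hu i]
  simpa using beq_eq (h i.1 i.2)

/-- the image of the permutation representation is transitive -/
theorem range_pretransitive (I : XInst P extra T D subs) :
    MulAction.IsPretransitive I.phi.range (Fin T.N) := by
  constructor
  intro i j
  obtain ⟨γ, hγ⟩ := MulAction.exists_smul_eq P.Grp (I.equiv i) (I.equiv j)
  rw [I.smul_equiv] at hγ
  have h := I.equiv.injective hγ
  exact ⟨⟨I.phi γ, γ, rfl⟩, h⟩


/-- a power of a word is trivial if it acts trivially on the table of a faithful representation -/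
theorem pow_eq_one (I : XInst P extra T D subs) (hinj : Function.Injective I.phi) (w : List ℕ)
    (hw : ∀ x ∈ w, x < D.k) (q : ℕ)
    (hwq : ∀ i, i < T.N → Tab.relActOK T D (List.replicate q w).flatten i = true) :
    (wordP P.gR w) ^ q = 1 := by
  rw [← wordP_replicate_flatten]
  apply I.word_eq_one hinj _ _ hwq
  intro x hx
  rw [List.mem_flatten] at hx
  obtain ⟨l, hl, hxl⟩ := hx
  rw [List.eq_of_mem_replicate hl] at hxl
  exact hw x hxl

/-- Simplicity of the presented group from a faithful transitive coset action. -/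
theorem simple2 (I : XInst P extra T D subs) (hinj : Function.Injective I.phi) (hfin : Finite P.Grp)
    (sizes : List ℕ) (hsum : sizes.sum = T.N) (horb : OrbCond (subG P subs) I.equiv sizes 0)
    (hnt : 1 < T.N) (Q : List ℕ)
    (hQ : ∀ q ∈ Q, q.Prime ∧ ¬ q ^ 2 ∣ Nat.card P.Grp ∧
      ∃ x : P.Grp, x ^ q = 1 ∧ Subgroup.normalClosure {x} = ⊤)
    (hq : ∀ s, s ≤ T.N → (maskOf sizes).testBit s = true → s ∣ T.N → 1 < s → ∃ q ∈ Q, q ∣ s) :
    IsSimpleGroup P.Grp := by
  have hN0 : 0 < T.N := by omega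
  apply simple_of_blocks (subG P subs) I.equiv sizes hnt hsum _ horb _ Q hQ
  · intro s hs hd h1
    exact hq s (Nat.le_of_dvd hN0 hd) (testBit_maskOf _ _ hs) hd h1
  · intro h hh
    rw [I.smul_equiv, I.hfix h hh]
  · intro γ hγ
    apply hinj
    rw [map_one]
    ext i
    have := hγ (I.equiv i)
    rw [I.smul_equiv] at this
    have := I.equiv.injective this
    rw [this]
    rfl


end XInst

end Cfsg.Agent.Lib.Helper4.TC
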