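import Mathlib
import Cfsg.Agent.Lib.Helper4.TC17

/-!
Verified Todd–Coxeter logs, part 18: homomorphisms between presented groups induced by maps of letters, and
faithfulness and order of a presented group from a faithful representation of a group mapping onto the
subgroup of an instance, intertwined with the action on some rows of the table.
-/

namespace Cfsg.Agent.Lib.Helper4.TC

open Log Cfsg.Spor

variable {α β : Type} [DecidableEq α] [DecidableEq β]

/-- a map of the letters of one presentation to those of another that respects inverses and relators -/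
structure LetterEmb (P : CoxEnc α) (Q : CoxEnc β) (emb : ℕ → ℕ) : Prop where
  hP : P.Valid
  hQ : Q.Valid
  hlt : ∀ l, l < P.k → emb l < Q.k
  hinv : ∀ l, l < P.k → emb (P.invR l) = Q.invR (emb l)
  hrel : ∀ L ∈ P.real, wordP Q.gR (L.map emb) = 1

namespace LetterEmb

variable {P : CoxEnc α} {Q : CoxEnc β} {emb : ℕ → ℕ}

/-- the images of the generators -/
def genImg (P : CoxEnc α) (Q : CoxEnc β) (emb : ℕ → ℕ) (a : α) : Q.Grp := Q.gR (emb (P.enc a))

theorem lift_dec (E : LetterEmb P Q emb) (l : ℕ) (hl : l < P.k) :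
    FreeGroup.lift (genImg P Q emb) (P.dec l) = Q.gR (emb l) := by
  rcases E.hP.hdec l hl with ⟨a, h1, h2⟩ | ⟨a, h1, h2, h3, _⟩
  · rw [h1, FreeGroup.lift_apply_of, genImg, h2]
  · rw [h1, map_inv, FreeGroup.lift_apply_of, genImg, ← h2, E.hinv _ h3,
      (E.hQ.invR_sound _ (le_of_lt (E.hlt _ h3))).2]

theorem wordP_lift (E : LetterEmb P Q emb) (L : List ℕ) (hL : ∀ x ∈ L, x < P.k) :
    wordP (fun l => FreeGroup.lift (genImg P Q emb) (P.dec l)) L = wordP Q.gR (L.map emb) := by
  induction L with
  | nil => rfl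
  | cons x L ih =>
    rw [List.map_cons, wordP_cons, wordP_cons, ih fun y hy => hL y (List.mem_cons_of_mem _ hy),
      E.lift_dec x (hL x List.mem_cons_self)]

/-- the induced homomorphism -/
noncomputable def hom (E : LetterEmb P Q emb) : P.Grp →* Q.Grp :=
  PresentedGroup.toGroup (f := genImg P Q emb) (by
    apply (E.hP.rels_iff _ (genImg P Q emb)).2
    intro L hL
    rw [E.wordP_lift L (E.hP.real_lt L hL)]
    exact E.hrel L hL)

theorem hom_gR (E : LetterEmb P Q emb) (l : ℕ) (hl : l < P.k) : E.hom (P.gR l) = Q.gR (emb l) := by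
  rw [CoxEnc.gR_lt hl]
  have : E.hom (PresentedGroup.mk P.rels (P.dec l)) = FreeGroup.lift (genImg P Q emb) (P.dec l) := rfl
  rw [this, E.lift_dec l hl]

theorem hom_word (E : LetterEmb P Q emb) (u : List ℕ) (hu : ∀ x ∈ u, x < P.k) :
    E.hom (wordP P.gR u) = wordP Q.gR (u.map emb) := by
  induction u with
  | nil => simp
  | cons x u ih =>
    rw [List.map_cons, wordP_cons, wordP_cons, map_mul, ih fun y hy => hu y (List.mem_cons_of_mem _ hy),
      E.hom_gR x (hu x List.mem_cons_self)]

/-- word identities are transported -/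
theorem word_eq_one (E : LetterEmb P Q emb) (u : List ℕ) (hu : ∀ x ∈ u, x < P.k) (h : wordP P.gR u = 1) :
    wordP Q.gR (u.map emb) = 1 := by
  rw [← E.hom_word u hu, h, map_one]

/-- the subgroup generated by the images of words is the image of the subgroup generated by the words -/
theorem map_subG (E : LetterEmb P Q emb) (subs : List (List ℕ)) (hsubs : ∀ u ∈ subs, ∀ x ∈ u, x < P.k) :
    (Inst.subG P subs).map E.hom = Inst.subG Q (subs.map (List.map emb)) := by
  unfold Inst.subG
  rw [MonoidHom.map_closure]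
  congr 1
  ext s
  constructor
  · rintro ⟨_, ⟨u, hu, rfl⟩, rfl⟩
    exact ⟨u.map emb, List.mem_map_of_mem hu, E.hom_word u (hsubs u hu)⟩
  · rintro ⟨v, hv, rfl⟩
    obtain ⟨u, hu, rfl⟩ := List.mem_map.1 hv
    exact ⟨_, ⟨u, hu, rfl⟩, E.hom_word u (hsubs u hu)⟩

/-- the order of the image of a finite subgroup -/
theorem card_map_le {A B : Type*} [Group A] [Group B] (f : A →* B) (K : Subgroup A) [Finite K] :
    Finite (K.map f) ∧ Nat.card (K.map f) ≤ Nat.card K := by
  have hs : Function.Surjective (fun k : K => (⟨f k.1, Subgroup.mem_map_of_mem f k.2⟩ : K.map f)) := by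
    rintro ⟨_, a, ha, rfl⟩
    exact ⟨⟨a, ha⟩, rfl⟩
  exact ⟨Finite.of_surjective _ hs, Nat.card_le_card_of_surjective _ hs⟩

end LetterEmb

/-! ### Intertwined representations -/

/-- two representations that agree on generators along a map of points agree everywhere -/
theorem intertwine_of_gens {H G : Type*} [Group H] [Group G] {n N : ℕ} (φ : G →* Equiv.Perm (Fin N))
    (ψ : H →* G) (ρ : H →* Equiv.Perm (Fin n)) (s : Fin n → Fin N) (S : Set H)
    (hS : Subgroup.closure S = ⊤) (h : ∀ a ∈ S, ∀ i, φ (ψ a) (s i) = s (ρ a i)) :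
    ∀ a : H, ∀ i, φ (ψ a) (s i) = s (ρ a i) := by
  intro a
  have ha : a ∈ Subgroup.closure S := by rw [hS]; trivial
  induction ha using Subgroup.closure_induction with
  | mem x hx => exact h x hx
  | one => intro i; simp
  | mul x y _ _ ihx ihy =>
    intro i
    rw [map_mul, map_mul, map_mul, Equiv.Perm.mul_apply, Equiv.Perm.mul_apply, ihy, ihx]
  | inv x _ ih =>
    intro i
    rw [map_inv, map_inv, map_inv, Equiv.Perm.inv_eq_iff_eq, ih, ← Equiv.Perm.mul_apply, mul_inv_cancel,
      Equiv.Perm.one_apply]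

/-- an element that is trivial in an intertwined faithful representation is trivial -/
theorem eq_one_of_intertwine {H G : Type*} [Group H] [Group G] {n N : ℕ} (φ : G →* Equiv.Perm (Fin N))
    (ψ : H →* G) (ρ : H →* Equiv.Perm (Fin n)) (hρ : Function.Injective ρ) (s : Fin n → Fin N)
    (hs : Function.Injective s) (hint : ∀ a : H, ∀ i, φ (ψ a) (s i) = s (ρ a i)) (a : H)
    (hfix : ∀ i, φ (ψ a) (s i) = s i) : a = 1 := by
  apply hρ
  rw [map_one]
  ext i
  have := hint a i
  rw [hfix i] at this
  rw [← hs this]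
  rfl

namespace XInst

variable {P : CoxEnc α} {extra : List (List ℕ)} {T : Tab} {D : Log} {subs : List (List ℕ)}

open Inst (subG gE)

theorem equiv_zero (I : XInst P extra T D subs) :
    I.equiv ⟨0, I.hC.hN⟩ = (QuotientGroup.mk (1 : P.Grp) : P.Grp ⧸ subG P subs) := by
  show cosetEquiv (subG P subs) I.phi ⟨0, I.hC.hN⟩ (Tab.repG T D (gE P subs)) I.hfix
    (I.hC.hrep' I.phi I.hphi) (I.hC.hcover' I.sem I.gen) ⟨0, I.hC.hN⟩ = _
  rw [cosetEquiv_apply, Tab.repG, I.hC.hname0, D.V_zero, inv_one]

/-- the stabiliser of the first row is the subgroup -/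
theorem mem_of_fix (I : XInst P extra T D subs) (γ : P.Grp) (h : I.phi γ ⟨0, I.hC.hN⟩ = ⟨0, I.hC.hN⟩) :
    γ ∈ subG P subs := by
  have h1 := I.smul_equiv γ ⟨0, I.hC.hN⟩
  rw [h, I.equiv_zero] at h1
  have h2 : (QuotientGroup.mk (γ * 1) : P.Grp ⧸ subG P subs) = QuotientGroup.mk 1 := h1
  rw [QuotientGroup.eq] at h2
  simpa using h2

theorem phi_gR (I : XInst P extra T D subs) (x : ℕ) (hx : x < D.k) (i : Fin T.N) :
    (I.phi (P.gR x) i).1 = T.tbl i.1 (D.inv x) := by
  have h : gE P subs x = P.gR x := extG_le (by rw [← I.hk]; exact le_of_lt hx)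
  rw [← h]
  exact I.hphi x hx i

/-- Simplicity of the presented group from a faithful transitive coset action, with the condition on the
subset sums of the suborbit lengths stated for the list of sums. -/
theorem simple3 (I : XInst P extra T D subs) (hinj : Function.Injective I.phi) (hfin : Finite P.Grp)
    (sizes : List ℕ) (hsum : sizes.sum = T.N) (horb : OrbCond (subG P subs) I.equiv sizes 0)
    (hnt : 1 < T.N) (Q : List ℕ)
    (hQ : ∀ q ∈ Q, q.Prime ∧ ¬ q ^ 2 ∣ Nat.card P.Grp ∧
      ∃ x : P.Grp, x ^ q = 1 ∧ Subgroup.normalClosure {x} = ⊤)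
    (hq : ∀ s ∈ subsetSums sizes, s ∣ T.N → 1 < s → ∃ q ∈ Q, q ∣ s) :
    IsSimpleGroup P.Grp := by
  apply simple_of_blocks (subG P subs) I.equiv sizes hnt hsum _ horb _ Q hQ hq
  · intro h hh
    rw [I.smul_equiv, I.hfix h hh]
  · intro γ hγ
    apply hinj
    rw [map_one]
    ext i
    have := hγ (I.equiv i)
    rw [I.smul_equiv] at this
    have := I.equiv.injective this
    rw [this]
    rfl

section Sub

variable {H : Type*} [Group H] {n : ℕ}

/-- an element fixing the first row and the rows of an intertwined faithful representation of a group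
mapping onto the subgroup is trivial -/
theorem eq_one_of_fix (I : XInst P extra T D subs) (ψ : H →* P.Grp) (ρ : H →* Equiv.Perm (Fin n))
    (hρ : Function.Injective ρ) (s : Fin n → Fin T.N) (hs : Function.Injective s)
    (hsub : subG P subs ≤ ψ.range) (hint : ∀ a : H, ∀ i, I.phi (ψ a) (s i) = s (ρ a i)) (γ : P.Grp)
    (h0 : I.phi γ ⟨0, I.hC.hN⟩ = ⟨0, I.hC.hN⟩) (hfix : ∀ i, I.phi γ (s i) = s i) : γ = 1 := by
  obtain ⟨a, rfl⟩ := hsub (I.mem_of_fix γ h0)
  rw [eq_one_of_intertwine I.phi ψ ρ hρ s hs hint a hfix, map_one]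

theorem injective_of_sub (I : XInst P extra T D subs) (ψ : H →* P.Grp) (ρ : H →* Equiv.Perm (Fin n))
    (hρ : Function.Injective ρ) (s : Fin n → Fin T.N) (hs : Function.Injective s)
    (hsub : subG P subs ≤ ψ.range) (hint : ∀ a : H, ∀ i, I.phi (ψ a) (s i) = s (ρ a i)) :
    Function.Injective I.phi ∧ Function.Injective ψ := by
  constructor
  · rw [injective_iff_map_eq_one]
    intro γ hγ
    apply I.eq_one_of_fix ψ ρ hρ s hs hsub hint γ
    · rw [hγ]; rfl
    · intro i; rw [hγ]; rfl
  · rw [injective_iff_map_eq_one]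
    intro a ha
    apply eq_one_of_intertwine I.phi ψ ρ hρ s hs hint a
    intro i
    rw [ha, map_one]
    rfl

/-- the order of the presented group -/
theorem card_of_sub (I : XInst P extra T D subs) (ψ : H →* P.Grp) (hψ : Function.Injective ψ)
    (hsub : subG P subs = ψ.range) : Nat.card P.Grp = T.N * Nat.card H := by
  have h1 := (subG P subs).index_mul_card
  rw [I.index_eq, hsub] at h1
  rw [← h1]
  congr 1
  exact (Nat.card_congr (MonoidHom.ofInjective hψ).toEquiv).symm

/-- a word that fixes the first row and the rows of the intertwined representation is trivial -/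
theorem word_eq_one_of_fix (I : XInst P extra T D subs) (ψ : H →* P.Grp) (ρ : H →* Equiv.Perm (Fin n))
    (hρ : Function.Injective ρ) (s : Fin n → Fin T.N) (hs : Function.Injective s)
    (hsub : subG P subs ≤ ψ.range) (hint : ∀ a : H, ∀ i, I.phi (ψ a) (s i) = s (ρ a i))
    (u : List ℕ) (hu : ∀ x ∈ u, x < D.k) (h0 : Tab.act T D u 0 = 0)
    (hfix : ∀ i, Tab.act T D u (s i).1 = (s i).1) : wordP P.gR u = 1 := by
  apply I.eq_one_of_fix ψ ρ hρ s hs hsub hint
  · apply Fin.ext
    rw [I.phi_word u hu]
    exact h0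
  · intro i
    apply Fin.ext
    rw [I.phi_word u hu]
    exact hfix i

end Sub

end XInst

end Cfsg.Agent.Lib.Helper4.TC
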