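import Mathlib
import Cfsg.Agent.Lib.Helper4.TC18

/-!
Verified Todd–Coxeter logs, part 19: homomorphisms from a presented group given by words for the letters,
and the subgroups generated by letters up to adjoining inverses.
-/

namespace Cfsg.Agent.Lib.Helper4.TC

open Log Cfsg.Spor

variable {α : Type} [DecidableEq α]

/-- words in a group for the letters of a presentation, respecting inverses and relators -/
structure WordEmb (P : CoxEnc α) {Γ : Type} [Group Γ] (g : ℕ → Γ) (W : ℕ → List ℕ) : Prop where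
  hP : P.Valid
  hinv : ∀ l, l < P.k → wordP g (W l ++ W (P.invR l)) = 1
  hrel : ∀ L ∈ P.real, wordP g (L.flatMap W) = 1

namespace WordEmb

variable {P : CoxEnc α} {Γ : Type} [Group Γ] {g : ℕ → Γ} {W : ℕ → List ℕ}

/-- the images of the generators -/
def genImg (P : CoxEnc α) (g : ℕ → Γ) (W : ℕ → List ℕ) (a : α) : Γ := wordP g (W (P.enc a))

theorem lift_dec (E : WordEmb P g W) (l : ℕ) (hl : l < P.k) :
    FreeGroup.lift (genImg P g W) (P.dec l) = wordP g (W l) := by
  rcases E.hP.hdec l hl with ⟨a, h1, h2⟩ | ⟨a, h1, h2, h3, _⟩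
  · rw [h1, FreeGroup.lift_apply_of, genImg, h2]
  · rw [h1, map_inv, FreeGroup.lift_apply_of, genImg, ← h2]
    have := E.hinv _ h3
    rw [wordP_append] at this
    exact inv_eq_of_mul_eq_one_right this

theorem wordP_lift (E : WordEmb P g W) (L : List ℕ) (hL : ∀ x ∈ L, x < P.k) :
    wordP (fun l => FreeGroup.lift (genImg P g W) (P.dec l)) L = wordP g (L.flatMap W) := by
  induction L with
  | nil => rfl
  | cons x L ih =>
    rw [List.flatMap_cons, wordP_cons, wordP_append, ih fun y hy => hL y (List.mem_cons_of_mem _ hy),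
      E.lift_dec x (hL x List.mem_cons_self)]

/-- the induced homomorphism -/
noncomputable def hom (E : WordEmb P g W) : P.Grp →* Γ :=
  PresentedGroup.toGroup (f := genImg P g W) (by
    apply (E.hP.rels_iff _ (genImg P g W)).2
    intro L hL
    rw [E.wordP_lift L (E.hP.real_lt L hL)]
    exact E.hrel L hL)

theorem hom_gR (E : WordEmb P g W) (l : ℕ) (hl : l < P.k) : E.hom (P.gR l) = wordP g (W l) := by
  rw [CoxEnc.gR_lt hl]
  have : E.hom (PresentedGroup.mk P.rels (P.dec l)) = FreeGroup.lift (genImg P g W) (P.dec l) := rfl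
  rw [this, E.lift_dec l hl]

end WordEmb

/-- the subgroup generated by letters does not change when the inverse of one of them is adjoined -/
theorem letG_cons_inv (P : CoxEnc α) (L : List ℕ) (x y : ℕ) (hx : x ∈ L) (h : P.gR y = (P.gR x)⁻¹) :
    letG P (y :: L) = letG P L := by
  apply le_antisymm
  · rw [letG, Subgroup.closure_le]
    rintro s ⟨z, hz, rfl⟩
    rcases List.mem_cons.1 hz with rfl | hz
    · rw [h]
      exact inv_mem (Subgroup.subset_closure ⟨x, hx, rfl⟩)
    · exact Subgroup.subset_closure ⟨z, hz, rfl⟩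
  · apply Subgroup.closure_mono
    rintro s ⟨z, hz, rfl⟩
    exact ⟨z, List.mem_cons_of_mem _ hz, rfl⟩

theorem letG_congr (P : CoxEnc α) (L L' : List ℕ) (h : ∀ x, x ∈ L ↔ x ∈ L') : letG P L = letG P L' := by
  unfold letG
  congr 1
  ext s
  constructor
  · rintro ⟨x, hx, rfl⟩
    exact ⟨x, (h x).1 hx, rfl⟩
  · rintro ⟨x, hx, rfl⟩
    exact ⟨x, (h x).2 hx, rfl⟩

end Cfsg.Agent.Lib.Helper4.TC
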