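import Mathlib
import Cfsg.Agent.Lib.Helper4.TC19

/-!
Verified Todd–Coxeter logs, part 20: homomorphisms from a presented group to a group in any universe,
given the images of the letters.
-/

namespace Cfsg.Agent.Lib.Helper4.TC

open Log Cfsg.Spor

universe u

variable {α : Type} [DecidableEq α]

/-- a homomorphism from the presented group to a group in any universe, from images of the letters that
respect inverses and relators -/
theorem exists_hom_of_letters (P : CoxEnc α) (hP : P.Valid) {Γ : Type u} [Group Γ] (g : ℕ → Γ)
    (hinv : ∀ l, l < P.k → g l * g (P.invR l) = 1)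
    (hrel : ∀ L ∈ P.real, wordP g L = 1) :
    ∃ φ : P.Grp →* Γ, ∀ l, l < P.k → φ (P.gR l) = g l := by
  classical
  let f : α → Γ := fun a => g (P.enc a)
  let F : FreeGroup α →* Γ := FreeGroup.lift f
  have hdec : ∀ l, l < P.k → F (P.dec l) = g l := by
    intro l hl
    rcases hP.hdec l hl with ⟨a, h1, h2⟩ | ⟨a, h1, h2, h3, _⟩
    · rw [h1]
      show FreeGroup.lift f (FreeGroup.of a) = g l
      rw [FreeGroup.lift_apply_of, ← h2]
    · rw [h1, map_inv]
      show (FreeGroup.lift f (FreeGroup.of a))⁻¹ = g l
      rw [FreeGroup.lift_apply_of]
      have := hinv _ h3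
      rw [h2] at this
      exact inv_eq_of_mul_eq_one_right this
  let ι : FreeGroup α ⧸ F.ker →* Γ := QuotientGroup.kerLift F
  have hι : Function.Injective ι := QuotientGroup.kerLift_injective F
  let g' : ℕ → FreeGroup α ⧸ F.ker := fun l => QuotientGroup.mk (P.dec l)
  have hg' : ∀ L : List ℕ, (∀ x ∈ L, x < P.k) → ι (wordP g' L) = wordP g L := by
    intro L
    induction L with
    | nil => intro _; simp
    | cons x L ih =>
      intro hL
      rw [wordP_cons, wordP_cons, map_mul, ih fun y hy => hL y (List.mem_cons_of_mem _ hy)]
      congr 1
      exact hdec x (hL x List.mem_cons_self)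
  have E : WordEmb P g' (fun l => [l]) :=
    { hP := hP
      hinv := by
        intro l hl
        apply hι
        rw [hg' _ (by
          intro x hx
          simp only [List.cons_append, List.nil_append, List.mem_cons, List.not_mem_nil, or_false] at hx
          rcases hx with rfl | rfl
          · exact hl
          · exact (hP.hinvR _ hl).1), map_one]
        simpa using hinv l hl
      hrel := by
        intro L hL
        apply hι
        have e : L.flatMap (fun l => [l]) = L := by simp
        rw [e, hg' L (hP.real_lt L hL), map_one]
        exact hrel L hL }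
  refine ⟨ι.comp E.hom, ?_⟩
  intro l hl
  rw [MonoidHom.comp_apply, E.hom_gR l hl]
  have := hg' [l] (by simpa using hl)
  simpa using this

end Cfsg.Agent.Lib.Helper4.TC
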