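import Mathlib
import Cfsg.Agent.Lib.Helper4.StemLib1
import Cfsg.Agent.Lib.Helper4.TC20

/-!
Stem extensions, part 3: the coset enumeration criterion.  A stem extension `Γ → E` with kernel of order `p`
is generated by lifts of generators of `E`; generators of order prime to `p` have lifts of the same order,
every relator of `E` becomes a central element of order dividing `p`.  Hence `Γ` is an image of a presented
group `Q` described by a `Spec`, and a bound `|Q| < p |E|` (from a verified coset enumeration) excludes such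
extensions.
-/

set_option autoImplicit false

namespace Cfsg.Agent.Lib.Helper4.Stem

open Cfsg Cfsg.Agent.Lib.Helper4.TC Cfsg.Agent.Lib.Helper4.TC.Log
open scoped commutatorElement

universe u

/-! ### lifting elements of order prime to `p` -/

theorem exists_lift_pow {Γ E : Type*} [Group Γ] [Group E] (σ : Γ →* E) (hs : Function.Surjective σ)
    (p : ℕ) (hK : ∀ z ∈ σ.ker, z ^ p = 1) (y : E) (m : ℕ) (hy : y ^ m = 1) (hm : Nat.Coprime m p) :
    ∃ t : Γ, σ t = y ∧ t ^ m = 1 := by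
  obtain ⟨t0, ht0⟩ := hs y
  obtain ⟨e, he1, he0⟩ := Nat.chineseRemainder hm 1 0
  refine ⟨t0 ^ e, ?_, ?_⟩
  · rw [map_pow, ht0]
    exact (pow_eq_pow_iff_modEq.2 (he1.of_dvd (orderOf_dvd_of_pow_eq_one hy))).trans (pow_one y)
  · obtain ⟨q, rfl⟩ := (Nat.modEq_zero_iff_dvd).1 he0
    have hk : t0 ^ m ∈ σ.ker := by rw [MonoidHom.mem_ker, map_pow, ht0, hy]
    rw [← pow_mul, mul_comm, pow_mul, pow_mul, hK _ hk, one_pow]

/-- a chosen lift of `y`, of order dividing `m` when possible -/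
noncomputable def nl {Γ E : Type*} [Group Γ] [Group E] (σ : Γ →* E) (_p : ℕ) (y : E) (m : ℕ) : Γ := by
  classical
  exact if h : ∃ t : Γ, σ t = y ∧ t ^ m = 1 then h.choose else 1

theorem nl_spec {Γ E : Type*} [Group Γ] [Group E] (σ : Γ →* E) (hs : Function.Surjective σ)
    (p : ℕ) (hK : ∀ z ∈ σ.ker, z ^ p = 1) (y : E) (m : ℕ) (hy : y ^ m = 1) (hm : Nat.Coprime m p) :
    σ (nl σ p y m) = y ∧ nl σ p y m ^ m = 1 := by
  have h := exists_lift_pow σ hs p hK y m hy hm
  unfold nl
  rw [dif_pos h]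
  exact h.choose_spec

/-! ### building the lifts of the letters -/

theorem wordP_congr {Γ : Type*} [Group Γ] (g g' : ℕ → Γ) (U : List ℕ) (h : ∀ l ∈ U, g l = g' l) :
    wordP g U = wordP g' U := by
  induction U with
  | nil => rfl
  | cons a U ih =>
    rw [wordP_cons, wordP_cons, h a List.mem_cons_self, ih fun l hl => h l (List.mem_cons_of_mem _ hl)]

/-- update the value of a letter and of its inverse letter -/
def upd {Γ : Type*} [Group Γ] (g : ℕ → Γ) (a ia : ℕ) (v : Γ) : ℕ → Γ :=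
  fun l => if l = a then v else if l = ia then v⁻¹ else g l

/-- an item `(a, U, m)`: the letter `a` is defined by the word `U` (when `m = 0`), or it is a generator
whose `m`-th power is trivial (when `m ≠ 0`) -/
abbrev Item := ℕ × List ℕ × ℕ

/-- the definitions only use letters known before -/
def Check (inv : ℕ → ℕ) : List ℕ → List Item → Prop
  | _, [] => True
  | kn, q :: ds => q.1 ∉ kn ∧ inv q.1 ∉ kn ∧ q.1 ≠ inv q.1 ∧ inv (inv q.1) = q.1 ∧ (∀ l ∈ q.2.1, l ∈ kn) ∧
      Check inv (q.1 :: inv q.1 :: kn) ds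

instance Check.dec (inv : ℕ → ℕ) : ∀ (kn : List ℕ) (ds : List Item), Decidable (Check inv kn ds)
  | _, [] => isTrue trivial
  | kn, q :: ds => by
    unfold Check
    haveI := Check.dec inv (q.1 :: inv q.1 :: kn) ds
    infer_instance

/-- the letters known in the end -/
def known (inv : ℕ → ℕ) : List ℕ → List Item → List ℕ
  | kn, [] => kn
  | kn, q :: ds => known inv (q.1 :: inv q.1 :: kn) ds

section Build

variable {Γ E : Type*} [Group Γ] [Group E] (σ : Γ →* E) (p : ℕ) (x : ℕ → E) (inv : ℕ → ℕ)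

/-- the value of an item -/
noncomputable def val (g : ℕ → Γ) (q : Item) : Γ :=
  if q.2.2 = 0 then wordP g q.2.1 else nl σ p (x q.1) q.2.2

/-- process the items in order -/
noncomputable def build : (ℕ → Γ) → List Item → (ℕ → Γ)
  | g, [] => g
  | g, q :: ds => build (upd g q.1 (inv q.1) (val σ p x g q)) ds

theorem build_spec (hs : Function.Surjective σ) (hK : ∀ z ∈ σ.ker, z ^ p = 1) (items : List Item) :
    ∀ (g : ℕ → Γ) (kn : List ℕ), (∀ l ∈ kn, σ (g l) = x l) →
      (∀ l ∈ kn, inv l ∈ kn ∧ g (inv l) = (g l)⁻¹) → Check inv kn items →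
      (∀ q ∈ items, x (inv q.1) = (x q.1)⁻¹ ∧ (q.2.2 = 0 → wordP x q.2.1 = x q.1) ∧
        (q.2.2 ≠ 0 → x q.1 ^ q.2.2 = 1 ∧ Nat.Coprime q.2.2 p)) →
      (∀ l ∈ kn, build σ p x inv g items l = g l) ∧
      (∀ l ∈ known inv kn items, σ (build σ p x inv g items l) = x l) ∧
      (∀ l ∈ known inv kn items, inv l ∈ known inv kn items ∧
        build σ p x inv g items (inv l) = (build σ p x inv g items l)⁻¹) ∧
      (∀ q ∈ items, (q.2.2 = 0 → build σ p x inv g items q.1 = wordP (build σ p x inv g items) q.2.1) ∧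
        (q.2.2 ≠ 0 → build σ p x inv g items q.1 ^ q.2.2 = 1)) := by
  induction items with
  | nil =>
    intro g kn ha hb _ _
    exact ⟨fun _ _ => rfl, ha, hb, fun q hq => absurd hq List.not_mem_nil⟩
  | cons q ds ih =>
    intro g kn ha hb hc hx
    obtain ⟨c1, c2, c3, c4, c5, c6⟩ := hc
    obtain ⟨hx1, hx2, hx3⟩ := hx q List.mem_cons_self
    set v := val σ p x g q with hv
    set g1 := upd g q.1 (inv q.1) v with hg1
    have hσv : σ v = x q.1 := by
      rw [hv, val]
      by_cases hm : q.2.2 = 0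
      · rw [if_pos hm, ← wordP_hom, ← hx2 hm]
        apply wordP_congr
        intro l hl
        exact ha l (c5 l hl)
      · rw [if_neg hm]
        exact (nl_spec σ hs p hK _ _ (hx3 hm).1 (hx3 hm).2).1
    have e1 : g1 q.1 = v := by rw [hg1, upd, if_pos rfl]
    have e2 : g1 (inv q.1) = v⁻¹ := by rw [hg1, upd, if_neg (Ne.symm c3), if_pos rfl]
    have e3 : ∀ l ∈ kn, g1 l = g l := by
      intro l hl
      have n1 : l ≠ q.1 := fun h => c1 (h ▸ hl)
      have n2 : l ≠ inv q.1 := fun h => c2 (h ▸ hl)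
      rw [hg1, upd, if_neg n1, if_neg n2]
    have ha1 : ∀ l ∈ q.1 :: inv q.1 :: kn, σ (g1 l) = x l := by
      intro l hl
      rcases List.mem_cons.1 hl with rfl | hl
      · rw [e1, hσv]
      rcases List.mem_cons.1 hl with rfl | hl
      · rw [e2, map_inv, hσv, hx1]
      · rw [e3 l hl]; exact ha l hl
    have hb1 : ∀ l ∈ q.1 :: inv q.1 :: kn, inv l ∈ q.1 :: inv q.1 :: kn ∧ g1 (inv l) = (g1 l)⁻¹ := by
      intro l hl
      rcases List.mem_cons.1 hl with rfl | hl
      · exact ⟨List.mem_cons_of_mem _ List.mem_cons_self, by rw [e2, e1]⟩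
      rcases List.mem_cons.1 hl with rfl | hl
      · exact ⟨by rw [c4]; exact List.mem_cons_self, by rw [c4, e1, e2, inv_inv]⟩
      · obtain ⟨h1, h2⟩ := hb l hl
        exact ⟨List.mem_cons_of_mem _ (List.mem_cons_of_mem _ h1), by rw [e3 _ h1, e3 l hl, h2]⟩
    obtain ⟨i1, i2, i3, i4⟩ := ih g1 (q.1 :: inv q.1 :: kn) ha1 hb1 c6
      (fun q' hq' => hx q' (List.mem_cons_of_mem _ hq'))
    have hbuild : build σ p x inv g (q :: ds) = build σ p x inv g1 ds := rfl
    have hknown : known inv kn (q :: ds) = known inv (q.1 :: inv q.1 :: kn) ds := rfl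
    rw [hbuild, hknown]
    refine ⟨?_, i2, i3, ?_⟩
    · intro l hl
      rw [i1 l (List.mem_cons_of_mem _ (List.mem_cons_of_mem _ hl)), e3 l hl]
    · intro q' hq'
      rcases List.mem_cons.1 hq' with rfl | hq'
      · have hq1 : build σ p x inv g1 ds q'.1 = v := by rw [i1 _ List.mem_cons_self, e1]
        constructor
        · intro hm
          rw [hq1, hv, val, if_pos hm]
          apply wordP_congr
          intro l hl
          have hl' := c5 l hl
          rw [i1 l (List.mem_cons_of_mem _ (List.mem_cons_of_mem _ hl')), e3 l hl']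
        · intro hm
          rw [hq1, hv, val, if_neg hm]
          exact (nl_spec σ hs p hK _ _ (hx3 hm).1 (hx3 hm).2).2
      · exact i4 q' hq'

end Build

/-! ### the description of the presentation -/

/-- how the relators of the presented group hold in a stem extension with kernel of order `p` -/
structure Spec where
  p : ℕ
  items : List Item
  cen : List ℕ
  R : List (List ℕ)

/-- admissible relators -/
def Spec.RelOK (S : Spec) (k : ℕ) (inv : ℕ → ℕ) (L : List ℕ) : Prop :=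
  (∃ q ∈ S.items, q.2.2 ≠ 0 ∧ L = List.replicate q.2.2 q.1) ∨
  (∃ q ∈ S.items, q.2.2 = 0 ∧ L = inv q.1 :: q.2.1) ∨
  (∃ z ∈ S.cen, L = List.replicate S.p z) ∨
  (∃ z ∈ S.cen, ∃ l ∈ List.range k, L = [z, l, inv z, inv l]) ∨
  (∃ r ∈ S.R, L = (List.replicate S.p r).flatten) ∨
  (∃ r ∈ S.R, ∃ l ∈ List.range k, L = r ++ l :: (invWord inv r ++ [inv l]))

instance (S : Spec) (k : ℕ) (inv : ℕ → ℕ) (L : List ℕ) : Decidable (S.RelOK k inv L) := by
  unfold Spec.RelOK
  infer_instance

/-- the static conditions -/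
def Spec.Good (S : Spec) (k : ℕ) (inv : ℕ → ℕ) : Prop :=
  Check inv [] S.items ∧ (∀ l ∈ List.range k, l ∈ known inv [] S.items) ∧
  (∀ q ∈ S.items, q.1 < k ∧ (q.2.2 ≠ 0 → Nat.Coprime q.2.2 S.p)) ∧
  (∀ z ∈ S.cen, z < k) ∧ (∀ r ∈ S.R, ∀ l ∈ r, l < k)

instance (S : Spec) (k : ℕ) (inv : ℕ → ℕ) : Decidable (S.Good k inv) := by
  unfold Spec.Good
  infer_instance

/-- The coset enumeration criterion. -/
theorem noStemPrime_of_spec {E : Type u} [Group E] [Finite E] {β : Type} [DecidableEq β]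
    (Q : CoxEnc β) (hQ : Q.Valid) (S : Spec) (hp : S.p.Prime) (x : ℕ → E)
    (hgood : S.Good Q.k Q.invR)
    (hxinv : ∀ l, l < Q.k → x (Q.invR l) = (x l)⁻¹)
    (hitems : ∀ q ∈ S.items, (q.2.2 = 0 → wordP x q.2.1 = x q.1) ∧ (q.2.2 ≠ 0 → x q.1 ^ q.2.2 = 1))
    (hcen : ∀ z ∈ S.cen, x z = 1) (hR : ∀ r ∈ S.R, wordP x r = 1)
    (hgen : Subgroup.closure (x '' Set.Iio Q.k) = ⊤)
    (hreal : ∀ L ∈ Q.real, S.RelOK Q.k Q.invR L)
    (hfin : Finite Q.Grp) (hcard : Nat.card Q.Grp < S.p * Nat.card E) : NoStemPrime E S.p := by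
  intro Γ _ _ σ hσ hcardK
  obtain ⟨hs, hc, hd⟩ := hσ
  obtain ⟨g1, g2, g3, g4, g5⟩ := hgood
  have hK : ∀ z ∈ σ.ker, z ^ S.p = 1 := by
    intro z hz
    have := pow_card_eq_one' (G := σ.ker) (x := ⟨z, hz⟩)
    rw [hcardK] at this
    exact congrArg Subtype.val this
  obtain ⟨-, b2, b3, b4⟩ := build_spec σ S.p x Q.invR hs hK S.items (fun _ => 1) []
    (fun l hl => absurd hl List.not_mem_nil) (fun l hl => absurd hl List.not_mem_nil) g1
    (fun q hq => ⟨hxinv _ (g3 q hq).1, (hitems q hq).1,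
      fun hm => ⟨(hitems q hq).2 hm, (g3 q hq).2 hm⟩⟩)
  set g := build σ S.p x Q.invR (fun _ => 1) S.items with hg
  have hkn : ∀ l, l < Q.k → l ∈ known Q.invR [] S.items := fun l hl => g2 l (List.mem_range.2 hl)
  have hσg : ∀ l, l < Q.k → σ (g l) = x l := fun l hl => b2 l (hkn l hl)
  have hginv : ∀ l, l < Q.k → g (Q.invR l) = (g l)⁻¹ := fun l hl => (b3 l (hkn l hl)).2
  have hσw : ∀ r : List ℕ, (∀ l ∈ r, l < Q.k) → σ (wordP g r) = wordP x r := by
    intro r hr
    rw [← wordP_hom]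
    apply wordP_congr
    intro l hl
    exact hσg l (hr l hl)
  have hcomm : ∀ z ∈ σ.ker, ∀ y : Γ, z * y * z⁻¹ * y⁻¹ = 1 := by
    intro z hz y
    have := Subgroup.mem_center_iff.1 (hc hz) y
    rw [← this]
    group
  have hrel : ∀ L ∈ Q.real, wordP g L = 1 := by
    intro L hL
    rcases hreal L hL with ⟨q, hq, hm, rfl⟩ | ⟨q, hq, hm, rfl⟩ | ⟨z, hz, rfl⟩ | ⟨z, hz, l, hl, rfl⟩ |
      ⟨r, hr, rfl⟩ | ⟨r, hr, l, hl, rfl⟩
    · have : wordP g (List.replicate q.2.2 q.1) = g q.1 ^ q.2.2 := by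
        have := wordP_replicate_flatten g q.2.2 [q.1]
        simpa using this
      rw [this]
      exact (b4 q hq).2 hm
    · rw [wordP_cons, hginv _ (g3 q hq).1, ← (b4 q hq).1 hm, inv_mul_cancel]
    · have : wordP g (List.replicate S.p z) = g z ^ S.p := by
        have := wordP_replicate_flatten g S.p [z]
        simpa using this
      rw [this]
      apply hK
      rw [MonoidHom.mem_ker, hσg z (g4 z hz), hcen z hz]
    · have hl' : l < Q.k := List.mem_range.1 hl
      have hzk : g z ∈ σ.ker := by rw [MonoidHom.mem_ker, hσg z (g4 z hz), hcen z hz]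
      simp only [wordP_cons, wordP_nil, mul_one]
      rw [hginv z (g4 z hz), hginv l hl', ← mul_assoc, ← mul_assoc]
      exact hcomm _ hzk _
    · rw [wordP_replicate_flatten]
      apply hK
      rw [MonoidHom.mem_ker, hσw r (g5 r hr), hR r hr]
    · have hl' : l < Q.k := List.mem_range.1 hl
      have hzk : wordP g r ∈ σ.ker := by rw [MonoidHom.mem_ker, hσw r (g5 r hr), hR r hr]
      rw [wordP_append, wordP_cons, wordP_append, wordP_cons, wordP_nil, mul_one,
        Chain.wordP_invWord' g Q.invR r (fun l hl => hginv l (g5 r hr l hl)), hginv l hl', ← mul_assoc, ← mul_assoc]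
      exact hcomm _ hzk _
  obtain ⟨φ, hφ⟩ := exists_hom_of_letters Q hQ g
    (fun l hl => by rw [hginv l hl, mul_inv_cancel]) hrel
  -- surjectivity
  have hmap : φ.range.map σ = ⊤ := by
    rw [eq_top_iff, ← hgen, Subgroup.closure_le]
    rintro _ ⟨l, hl, rfl⟩
    exact ⟨g l, ⟨Q.gR l, hφ l hl⟩, hσg l hl⟩
  have hdec : ∀ γ : Γ, ∃ γ0 ∈ φ.range, ∃ n ∈ σ.ker, γ = γ0 * n := by
    intro γ
    have : σ γ ∈ φ.range.map σ := by rw [hmap]; trivial
    obtain ⟨γ0, h0, h1⟩ := this
    refine ⟨γ0, h0, γ0⁻¹ * γ, ?_, by group⟩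
    rw [MonoidHom.mem_ker, map_mul, map_inv, h1, inv_mul_cancel]
  have hcommle : commutator Γ ≤ φ.range := by
    rw [commutator_def, Subgroup.commutator_le]
    intro a _ b _
    obtain ⟨a0, ha0, n1, hn1, rfl⟩ := hdec a
    obtain ⟨b0, hb0, n2, hn2, rfl⟩ := hdec b
    rw [comm_mul_central_left _ _ _ (fun y => (Subgroup.mem_center_iff.1 (hc hn1) y)),
      comm_mul_central_right _ _ _ (fun y => (Subgroup.mem_center_iff.1 (hc hn2) y)),
      commutatorElement_def]
    exact φ.range.mul_mem (φ.range.mul_mem (φ.range.mul_mem ha0 hb0) (φ.range.inv_mem ha0))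
      (φ.range.inv_mem hb0)
  have hsurj : Function.Surjective φ := by
    rw [← MonoidHom.range_eq_top, eq_top_iff]
    intro γ _
    obtain ⟨γ0, h0, n, hn, rfl⟩ := hdec γ
    exact φ.range.mul_mem h0 (hcommle (hd hn))
  have h1 : Nat.card Γ ≤ Nat.card Q.Grp := Nat.card_le_card_of_surjective φ hsurj
  have h2 : Nat.card Γ = Nat.card E * S.p := by rw [card_eq_of_stem σ hs, hcardK]
  rw [h2, mul_comm] at h1
  omega

end Cfsg.Agent.Lib.Helper4.Stem
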