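import Mathlib
import Cfsg.Agent.Lib.Helper4.StemLib3

/-!
Stem extensions, part 4: the coset enumeration criterion relative to a subgroup of order prime to `p`.
The preimage of a `p'`-subgroup `H` in a stem extension with kernel of order `p` splits; the complement
contains all lifts of order prime to `p` of elements of `H`, so relations among such lifts hold exactly, and
the extension has order at most `(index of the subgroup of the presented group) * |H|`.
-/

set_option autoImplicit false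

namespace Cfsg.Agent.Lib.Helper4.Stem

open Cfsg Cfsg.Agent.Lib.Helper4.TC Cfsg.Agent.Lib.Helper4.TC.Log
open scoped commutatorElement

universe u

/-- the preimage of a subgroup of order prime to `p` splits over the kernel -/
theorem exists_pprime_lift {Γ E : Type*} [Group Γ] [Group E] [Finite Γ] (σ : Γ →* E)
    (hc : σ.ker ≤ Subgroup.center Γ) (p : ℕ) (_hp : p.Prime) (hcardK : Nat.card σ.ker = p)
    (H : Subgroup E) (h : ℕ) (hH : Nat.card H ∣ h) (hcop : Nat.Coprime h p) :
    ∃ H0 : Subgroup Γ, H0 ⊓ σ.ker = ⊥ ∧ H0.map σ ≤ H ∧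
      ∀ t : Γ, σ t ∈ H → (∃ m, Nat.Coprime m p ∧ t ^ m = 1) → t ∈ H0 := by
  let Ht : Subgroup Γ := H.comap σ
  have hkle : σ.ker ≤ Ht := by
    intro z hz
    show σ z ∈ H
    rw [MonoidHom.mem_ker.1 hz]
    exact H.one_mem
  let K' : Subgroup Ht := σ.ker.subgroupOf Ht
  have hK'card : Nat.card K' = p := by
    rw [← hcardK]
    exact Nat.card_congr (Subgroup.subgroupOfEquivOfLe hkle).toEquiv
  -- the restriction of σ
  let σ' : Ht →* H := (σ.comp Ht.subtype).codRestrict H (fun t => t.2)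
  have hker' : σ'.ker = K' := by
    ext t
    rw [MonoidHom.mem_ker, Subgroup.mem_subgroupOf, MonoidHom.mem_ker]
    constructor
    · intro ht
      exact congrArg Subtype.val ht
    · intro ht
      exact Subtype.ext ht
  have hidx : K'.index ∣ h := by
    rw [← hker', Subgroup.index_ker]
    exact dvd_trans (Subgroup.card_subgroup_dvd_card _) hH
  have hcop' : Nat.Coprime (Nat.card K') K'.index := by
    rw [hK'card, Nat.coprime_comm]
    exact Nat.Coprime.coprime_dvd_left hidx hcop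
  have : K'.Normal := by rw [← hker']; infer_instance
  obtain ⟨C, hC⟩ := Subgroup.exists_left_complement'_of_coprime hcop'
  have hdisj : C ⊓ K' = ⊥ := hC.disjoint.eq_bot
  have hKcen : ∀ k ∈ K', ∀ y : Ht, y * k = k * y := by
    intro k hk y
    apply Subtype.ext
    have hk' : (k : Γ) ∈ σ.ker := hk
    exact Subgroup.mem_center_iff.1 (hc hk') (y : Γ)
  refine ⟨C.map Ht.subtype, ?_, ?_, ?_⟩
  · rw [eq_bot_iff]
    rintro _ ⟨⟨c, hc1, rfl⟩, hc2⟩
    have : c ∈ C ⊓ K' := ⟨hc1, hc2⟩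
    rw [hdisj, Subgroup.mem_bot] at this
    rw [this]
    exact Subgroup.one_mem _
  · rintro _ ⟨_, ⟨c, _, rfl⟩, rfl⟩
    exact c.2
  · rintro t ht ⟨m, hm, htm⟩
    obtain ⟨⟨⟨c, hcC⟩, ⟨k, hkK⟩⟩, e, _⟩ := hC.existsUnique (⟨t, ht⟩ : Ht)
    simp only at e
    have hcomm : Commute c k := (hKcen k hkK c)
    have h1 : c ^ m * k ^ m = 1 := by
      rw [← hcomm.mul_pow, e]
      exact Subtype.ext htm
    have h2 : k ^ m ∈ C ⊓ K' := by
      refine ⟨?_, K'.pow_mem hkK m⟩
      have : k ^ m = (c ^ m)⁻¹ := eq_inv_of_mul_eq_one_right h1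
      rw [this]
      exact C.inv_mem (C.pow_mem hcC m)
    rw [hdisj, Subgroup.mem_bot] at h2
    have h3 : k ^ p = 1 := by
      have := pow_card_eq_one' (G := K') (x := ⟨k, hkK⟩)
      rw [hK'card] at this
      exact congrArg Subtype.val this
    have h4 : k = 1 := by
      have d1 := orderOf_dvd_of_pow_eq_one h2
      have d2 := orderOf_dvd_of_pow_eq_one h3
      have d3 : orderOf k ∣ 1 := by
        have := Nat.dvd_gcd d1 d2
        rwa [hm] at this
      exact orderOf_eq_one_iff.1 (Nat.dvd_one.1 d3)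
    rw [h4, mul_one] at e
    exact ⟨c, hcC, congrArg Subtype.val e⟩

/-- the description of the presentation, with a subgroup of order prime to `p` -/
structure Spec2 extends Spec where
  /-- the letters generating the subgroup -/
  sub : List ℕ
  /-- relators in these letters -/
  PR : List (List ℕ)

/-- admissible relators -/
def Spec2.RelOK (S : Spec2) (k : ℕ) (inv : ℕ → ℕ) (L : List ℕ) : Prop :=
  S.toSpec.RelOK k inv L ∨ L ∈ S.PR

instance (S : Spec2) (k : ℕ) (inv : ℕ → ℕ) (L : List ℕ) : Decidable (S.RelOK k inv L) := by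
  unfold Spec2.RelOK
  infer_instance

/-- the static conditions -/
def Spec2.Good (S : Spec2) (k : ℕ) (inv : ℕ → ℕ) : Prop :=
  S.toSpec.Good k inv ∧ (∀ l ∈ S.sub, ∃ q ∈ S.items, q.1 = l ∧ q.2.2 ≠ 0) ∧
  (∀ w ∈ S.PR, ∀ l ∈ w, l ∈ S.sub ∨ (l < k ∧ inv l ∈ S.sub))

instance (S : Spec2) (k : ℕ) (inv : ℕ → ℕ) : Decidable (S.Good k inv) := by
  unfold Spec2.Good
  infer_instance

/-- The coset enumeration criterion relative to a subgroup of order prime to `p`. -/
theorem noStemPrime_of_spec2 {E : Type u} [Group E] [Finite E] {β : Type} [DecidableEq β]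
    (Q : CoxEnc β) (hQ : Q.Valid) (S : Spec2) (hp : S.p.Prime) (x : ℕ → E)
    (hgood : S.Good Q.k Q.invR)
    (hxinv : ∀ l, l < Q.k → x (Q.invR l) = (x l)⁻¹)
    (hitems : ∀ q ∈ S.items, (q.2.2 = 0 → wordP x q.2.1 = x q.1) ∧ (q.2.2 ≠ 0 → x q.1 ^ q.2.2 = 1))
    (hcen : ∀ z ∈ S.cen, x z = 1) (hR : ∀ r ∈ S.R, wordP x r = 1) (hPR : ∀ w ∈ S.PR, wordP x w = 1)
    (hgen : Subgroup.closure (x '' Set.Iio Q.k) = ⊤)
    (hreal : ∀ L ∈ Q.real, S.RelOK Q.k Q.invR L)
    (h : ℕ) (hH : Nat.card (Subgroup.closure (x '' {l | l ∈ S.sub})) ∣ h) (hcop : Nat.Coprime h S.p)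
    (N : ℕ) (hN : N ≠ 0) (hidx : (Inst.subG Q (S.sub.map fun l => [l])).index = N)
    (hcard : N * h < S.p * Nat.card E) : NoStemPrime E S.p := by
  intro Γ _ _ σ hσ hcardK
  obtain ⟨hs, hc, hd⟩ := hσ
  obtain ⟨⟨g1, g2, g3, g4, g5⟩, g6, g7⟩ := hgood
  have hK : ∀ z ∈ σ.ker, z ^ S.p = 1 := by
    intro z hz
    have := pow_card_eq_one' (G := σ.ker) (x := ⟨z, hz⟩)
    rw [hcardK] at this
    exact congrArg Subtype.val this
  obtain ⟨-, b2, b3, b4⟩ := build_spec σ S.p x Q.invR hs hK S.items (fun _ => 1) []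
    (fun l hl => absurd hl List.not_mem_nil) (fun l hl => absurd hl List.not_mem_nil) g1
    (fun q hq => ⟨hxinv _ (g3 q hq).1, (hitems q hq).1,
      fun hm => ⟨(hitems q hq).2 hm, (g3 q hq).2 hm⟩⟩)
  set g := build σ S.p x Q.invR (fun _ => 1) S.items with hg
  have hkn : ∀ l, l < Q.k → l ∈ known Q.invR [] S.items := fun l hl => g2 l (List.mem_range.2 hl)
  have hσg : ∀ l, l < Q.k → σ (g l) = x l := fun l hl => b2 l (hkn l hl)
  have hginv : ∀ l, l < Q.k → g (Q.invR l) = (g l)⁻¹ := fun l hl => (b3 l (hkn l hl)).2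
  have hσw : ∀ r : List ℕ, (∀ l ∈ r, l < Q.k) → σ (wordP g r) = wordP x r := by
    intro r hr
    rw [← wordP_hom]
    apply wordP_congr
    intro l hl
    exact hσg l (hr l hl)
  have hcomm : ∀ z ∈ σ.ker, ∀ y : Γ, z * y * z⁻¹ * y⁻¹ = 1 := by
    intro z hz y
    have := Subgroup.mem_center_iff.1 (hc hz) y
    rw [← this]
    group
  -- the complement over the subgroup
  obtain ⟨H0, h01, h02, h03⟩ := exists_pprime_lift σ hc S.p hp hcardK
    (Subgroup.closure (x '' {l | l ∈ S.sub})) h hH hcop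
  have hsubk : ∀ l ∈ S.sub, l < Q.k := by
    intro l hl
    obtain ⟨q, hq, rfl, _⟩ := g6 l hl
    exact (g3 q hq).1
  have hsubH0 : ∀ l ∈ S.sub, g l ∈ H0 := by
    intro l hl
    obtain ⟨q, hq, rfl, hm⟩ := g6 l hl
    apply h03
    · rw [hσg _ (g3 q hq).1]
      exact Subgroup.subset_closure ⟨q.1, hl, rfl⟩
    · exact ⟨q.2.2, (g3 q hq).2 hm, (b4 q hq).2 hm⟩
  have hPRk : ∀ w ∈ S.PR, ∀ l ∈ w, l < Q.k := by
    intro w hw l hl
    rcases g7 w hw l hl with h1 | h1
    · exact hsubk l h1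
    · exact h1.1
  have hwH0 : ∀ w ∈ S.PR, wordP g w ∈ H0 := by
    intro w hw
    apply Sgs.wordP_mem_closure
    intro l hl
    rcases g7 w hw l hl with h1 | ⟨h1, h2⟩
    · exact hsubH0 l h1
    · rw [show g l = (g (Q.invR l))⁻¹ from by rw [hginv l h1, inv_inv]]
      exact H0.inv_mem (hsubH0 _ h2)
  have hrel : ∀ L ∈ Q.real, wordP g L = 1 := by
    intro L hL
    rcases hreal L hL with (⟨q, hq, hm, rfl⟩ | ⟨q, hq, hm, rfl⟩ | ⟨z, hz, rfl⟩ | ⟨z, hz, l, hl, rfl⟩ |
      ⟨r, hr, rfl⟩ | ⟨r, hr, l, hl, rfl⟩) | hPRmem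
    · have : wordP g (List.replicate q.2.2 q.1) = g q.1 ^ q.2.2 := by
        have := wordP_replicate_flatten g q.2.2 [q.1]
        simpa using this
      rw [this]
      exact (b4 q hq).2 hm
    · rw [wordP_cons, hginv _ (g3 q hq).1, ← (b4 q hq).1 hm, inv_mul_cancel]
    · have : wordP g (List.replicate S.p z) = g z ^ S.p := by
        have := wordP_replicate_flatten g S.p [z]
        simpa using this
      rw [this]
      apply hK
      rw [MonoidHom.mem_ker, hσg z (g4 z hz), hcen z hz]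
    · have hl' : l < Q.k := List.mem_range.1 hl
      have hzk : g z ∈ σ.ker := by rw [MonoidHom.mem_ker, hσg z (g4 z hz), hcen z hz]
      simp only [wordP_cons, wordP_nil, mul_one]
      rw [hginv z (g4 z hz), hginv l hl', ← mul_assoc, ← mul_assoc]
      exact hcomm _ hzk _
    · rw [wordP_replicate_flatten]
      apply hK
      rw [MonoidHom.mem_ker, hσw r (g5 r hr), hR r hr]
    · have hl' : l < Q.k := List.mem_range.1 hl
      have hzk : wordP g r ∈ σ.ker := by rw [MonoidHom.mem_ker, hσw r (g5 r hr), hR r hr]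
      rw [wordP_append, wordP_cons, wordP_append, wordP_cons, wordP_nil, mul_one,
        Chain.wordP_invWord' g Q.invR r (fun l hl => hginv l (g5 r hr l hl)), hginv l hl', ← mul_assoc,
        ← mul_assoc]
      exact hcomm _ hzk _
    · have h1 : wordP g L ∈ H0 ⊓ σ.ker := by
        refine ⟨hwH0 L hPRmem, ?_⟩
        show wordP g L ∈ σ.ker
        rw [MonoidHom.mem_ker, hσw L (hPRk L hPRmem), hPR L hPRmem]
      rw [h01, Subgroup.mem_bot] at h1
      exact h1
  obtain ⟨φ, hφ⟩ := exists_hom_of_letters Q hQ g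
    (fun l hl => by rw [hginv l hl, mul_inv_cancel]) hrel
  -- surjectivity
  have hmap : φ.range.map σ = ⊤ := by
    rw [eq_top_iff, ← hgen, Subgroup.closure_le]
    rintro _ ⟨l, hl, rfl⟩
    exact ⟨g l, ⟨Q.gR l, hφ l hl⟩, hσg l hl⟩
  have hdec : ∀ γ : Γ, ∃ γ0 ∈ φ.range, ∃ n ∈ σ.ker, γ = γ0 * n := by
    intro γ
    have : σ γ ∈ φ.range.map σ := by rw [hmap]; trivial
    obtain ⟨γ0, h0, h1⟩ := this
    refine ⟨γ0, h0, γ0⁻¹ * γ, ?_, by group⟩
    rw [MonoidHom.mem_ker, map_mul, map_inv, h1, inv_mul_cancel]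
  have hcommle : commutator Γ ≤ φ.range := by
    rw [commutator_def, Subgroup.commutator_le]
    intro a _ b _
    obtain ⟨a0, ha0, n1, hn1, rfl⟩ := hdec a
    obtain ⟨b0, hb0, n2, hn2, rfl⟩ := hdec b
    rw [comm_mul_central_left _ _ _ (fun y => (Subgroup.mem_center_iff.1 (hc hn1) y)),
      comm_mul_central_right _ _ _ (fun y => (Subgroup.mem_center_iff.1 (hc hn2) y)),
      commutatorElement_def]
    exact φ.range.mul_mem (φ.range.mul_mem (φ.range.mul_mem ha0 hb0) (φ.range.inv_mem ha0))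
      (φ.range.inv_mem hb0)
  have hsurj : Function.Surjective φ := by
    rw [← MonoidHom.range_eq_top, eq_top_iff]
    intro γ _
    obtain ⟨γ0, h0, n, hn, rfl⟩ := hdec γ
    exact φ.range.mul_mem h0 (hcommle (hd hn))
  -- counting
  set HQ := Inst.subG Q (S.sub.map fun l => [l]) with hHQ
  have hle : HQ.map φ ≤ H0 := by
    rw [Subgroup.map_le_iff_le_comap, hHQ, Inst.subG, Subgroup.closure_le]
    rintro _ ⟨u, hu, rfl⟩
    obtain ⟨l, hl, rfl⟩ := List.mem_map.1 hu
    show φ (wordP Q.gR [l]) ∈ H0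
    rw [wordP_cons, wordP_nil, mul_one, hφ l (hsubk l hl)]
    exact hsubH0 l hl
  have hH0card : Nat.card H0 ≤ h := by
    have hinj : Function.Injective (σ.comp H0.subtype) := by
      rw [← MonoidHom.ker_eq_bot_iff, eq_bot_iff]
      intro t ht
      have : (t : Γ) ∈ H0 ⊓ σ.ker := ⟨t.2, ht⟩
      rw [h01, Subgroup.mem_bot] at this
      rw [Subgroup.mem_bot]
      exact Subtype.ext this
    have h1 : Nat.card H0 = Nat.card (H0.map σ) := by
      have := Nat.card_congr (Equiv.ofInjective _ hinj)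
      rw [this]
      apply Nat.card_congr
      refine Equiv.setCongr ?_
      ext y
      constructor
      · rintro ⟨t, rfl⟩
        exact ⟨t.1, t.2, rfl⟩
      · rintro ⟨t, ht, rfl⟩
        exact ⟨⟨t, ht⟩, rfl⟩
    rw [h1]
    have h2 := Subgroup.card_dvd_of_le h02
    have hpos : 0 < h := by
      rcases Nat.eq_zero_or_pos h with h0 | h0
      · rw [h0, Nat.coprime_zero_left] at hcop
        exact absurd hcop hp.one_lt.ne'
      · exact h0
    exact Nat.le_of_dvd hpos (dvd_trans h2 hH)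
  have hidx2 : (HQ.map φ).index ∣ N := by
    rw [← hidx]
    exact Subgroup.index_map_dvd HQ hsurj
  have hcount : Nat.card Γ ≤ N * h := by
    rw [← Subgroup.index_mul_card (HQ.map φ)]
    have i1 : (HQ.map φ).index ≤ N := Nat.le_of_dvd (Nat.pos_of_ne_zero hN) hidx2
    have i2 : Nat.card (HQ.map φ) ≤ h := le_trans (Nat.le_of_dvd Nat.card_pos (Subgroup.card_dvd_of_le hle))
      hH0card
    exact Nat.mul_le_mul i1 i2
  have h2 : Nat.card Γ = Nat.card E * S.p := by rw [card_eq_of_stem σ hs, hcardK]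
  rw [h2, mul_comm] at hcount
  omega

end Cfsg.Agent.Lib.Helper4.Stem
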