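import Mathlib
import Cfsg.Agent.Lib.Helper4.StemLib2
import Cfsg.Agent.Lib.Helper4.StemLib4

/-!
Stem extensions, part 5: the coset enumeration criterion when the base group is itself a presented group
`P.Grp` and the letters of the auxiliary presentation `Q` are words in the letters of `P`.  Everything that has
to be checked becomes either a decidable statement about lists or the triviality of explicit words in `P.Grp`.
-/

set_option autoImplicit false

namespace Cfsg.Agent.Lib.Helper4.Stem

open Cfsg Cfsg.Agent.Lib.Helper4.TC Cfsg.Agent.Lib.Helper4.TC.Log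

variable {α : Type} [DecidableEq α]

/-- the letters of the auxiliary presentation as elements of the base group -/
def xw (P : CoxEnc α) (Wl : ℕ → List ℕ) (l : ℕ) : P.Grp := wordP P.gR (Wl l)

theorem wordP_xw (P : CoxEnc α) (Wl : ℕ → List ℕ) (U : List ℕ) :
    wordP (xw P Wl) U = wordP P.gR (U.flatMap Wl) := by
  induction U with
  | nil => rfl
  | cons a U ih => rw [wordP_cons, List.flatMap_cons, wordP_append, ih]; rfl

/-- the words that have to be trivial in the base group -/
def checks (S : Spec2) (pinv : ℕ → ℕ) (Wl : ℕ → List ℕ) : List (List ℕ) :=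
  (S.items.map fun q => if q.2.2 = 0 then q.2.1.flatMap Wl ++ invWord pinv (Wl q.1)
    else (List.replicate q.2.2 (Wl q.1)).flatten) ++ S.R.map (fun r => r.flatMap Wl) ++
    S.PR.map (fun r => r.flatMap Wl)

/-- the static conditions on the words -/
def WlGood (pk : ℕ) (pinv : ℕ → ℕ) (qk : ℕ) (qinv : ℕ → ℕ) (cen : List ℕ) (Wl : ℕ → List ℕ) : Prop :=
  (∀ l ∈ List.range qk, (∀ y ∈ Wl l, y < pk) ∧ Wl (qinv l) = invWord pinv (Wl l)) ∧
  (∀ z ∈ cen, Wl z = []) ∧ (∀ y ∈ List.range pk, ∃ l ∈ List.range qk, Wl l = [y])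

instance (pk : ℕ) (pinv : ℕ → ℕ) (qk : ℕ) (qinv : ℕ → ℕ) (cen : List ℕ) (Wl : ℕ → List ℕ) :
    Decidable (WlGood pk pinv qk qinv cen Wl) := by
  unfold WlGood
  infer_instance

theorem card_closure_singleton_dvd {G : Type*} [Group G] (y : G) (m : ℕ) (hy : y ^ m = 1) :
    Nat.card (Subgroup.closure ({y} : Set G)) ∣ m := by
  rw [← Subgroup.zpowers_eq_closure, Nat.card_zpowers]
  exact orderOf_dvd_of_pow_eq_one hy

/-- The coset enumeration criterion for a presented base group. -/
theorem noStemPrime_pres {β : Type} [DecidableEq β] (P : CoxEnc α) (hP : P.Valid)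
    (Q : CoxEnc β) (hQ : Q.Valid) (S : Spec2) (hp : S.p.Prime) (Wl : ℕ → List ℕ)
    (hgood : S.Good Q.k Q.invR) (hWl : WlGood P.k P.invR Q.k Q.invR S.cen Wl)
    (hchecks : ∀ w ∈ checks S P.invR Wl, wordP P.gR w = 1)
    (hreal : ∀ L ∈ Q.real, S.RelOK Q.k Q.invR L)
    (h : ℕ) (hH : Nat.card (Subgroup.closure (xw P Wl '' {l | l ∈ S.sub})) ∣ h) (hcop : Nat.Coprime h S.p)
    (N : ℕ) (hN : N ≠ 0) (hidx : (Inst.subG Q (S.sub.map fun l => [l])).index = N)
    (hfin : Finite P.Grp) (n : ℕ) (hn : Nat.card P.Grp = n) (hcard : N * h < S.p * n) :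
    NoStemPrime P.Grp S.p := by
  obtain ⟨w1, w2, w3⟩ := hWl
  have hPinv : ∀ y, y < P.k → P.gR (P.invR y) = (P.gR y)⁻¹ := fun y hy =>
    (hP.invR_sound y (le_of_lt hy)).2
  have hxinvW : ∀ l, l < Q.k → wordP P.gR (invWord P.invR (Wl l)) = (wordP P.gR (Wl l))⁻¹ := by
    intro l hl
    apply Chain.wordP_invWord'
    intro y hy
    exact hPinv y ((w1 l (List.mem_range.2 hl)).1 y hy)
  have hgood' := hgood
  obtain ⟨⟨-, -, g3, -, -⟩, -, -⟩ := hgood'
  refine noStemPrime_of_spec2 Q hQ S hp (xw P Wl) hgood ?_ ?_ ?_ ?_ ?_ ?_ hreal h hH hcop N hN hidx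
    (by rw [hn]; exact hcard)
  · intro l hl
    show wordP P.gR (Wl (Q.invR l)) = (wordP P.gR (Wl l))⁻¹
    rw [(w1 l (List.mem_range.2 hl)).2, hxinvW l hl]
  · intro q hq
    have hmem : (if q.2.2 = 0 then q.2.1.flatMap Wl ++ invWord P.invR (Wl q.1)
        else (List.replicate q.2.2 (Wl q.1)).flatten) ∈ checks S P.invR Wl := by
      unfold checks
      apply List.mem_append_left
      apply List.mem_append_left
      exact List.mem_map.2 ⟨q, hq, rfl⟩
    have hc := hchecks _ hmem
    constructor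
    · intro hm
      rw [if_pos hm, wordP_append, hxinvW _ (g3 q hq).1] at hc
      rw [wordP_xw]
      exact mul_inv_eq_one.1 hc
    · intro hm
      rw [if_neg hm, wordP_replicate_flatten] at hc
      exact hc
  · intro z hz
    show wordP P.gR (Wl z) = 1
    rw [w2 z hz]
    rfl
  · intro r hr
    rw [wordP_xw]
    apply hchecks
    unfold checks
    apply List.mem_append_left
    apply List.mem_append_right
    exact List.mem_map.2 ⟨r, hr, rfl⟩
  · intro r hr
    rw [wordP_xw]
    apply hchecks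
    unfold checks
    apply List.mem_append_right
    exact List.mem_map.2 ⟨r, hr, rfl⟩
  · rw [eq_top_iff, ← hP.gen_top, Subgroup.closure_le]
    rintro _ ⟨y, hy, rfl⟩
    obtain ⟨l, hl, hl2⟩ := w3 y (List.mem_range.2 hy)
    apply Subgroup.subset_closure
    refine ⟨l, List.mem_range.1 hl, ?_⟩
    show wordP P.gR (Wl l) = P.gR y
    rw [hl2, wordP_cons, wordP_nil, mul_one]

/-- the cyclic case: the subgroup is generated by one letter -/
theorem noStemPrime_pres_cyclic {β : Type} [DecidableEq β] (P : CoxEnc α) (hP : P.Valid)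
    (Q : CoxEnc β) (hQ : Q.Valid) (S : Spec2) (hp : S.p.Prime) (Wl : ℕ → List ℕ)
    (hgood : S.Good Q.k Q.invR) (hWl : WlGood P.k P.invR Q.k Q.invR S.cen Wl)
    (hchecks : ∀ w ∈ checks S P.invR Wl, wordP P.gR w = 1)
    (hreal : ∀ L ∈ Q.real, S.RelOK Q.k Q.invR L)
    (c m : ℕ) (hsub : S.sub = [c]) (hcm : (c, [], m) ∈ S.items) (hm0 : m ≠ 0)
    (N : ℕ) (hN : N ≠ 0) (hidx : (Inst.subG Q [[c]]).index = N)
    (hfin : Finite P.Grp) (n : ℕ) (hn : Nat.card P.Grp = n) (hcard : N * m < S.p * n) :
    NoStemPrime P.Grp S.p := by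
  have hgood' := hgood
  obtain ⟨⟨-, -, g3, -, -⟩, -, -⟩ := hgood'
  have hpow : xw P Wl c ^ m = 1 := by
    have hmem : (List.replicate m (Wl c)).flatten ∈ checks S P.invR Wl := by
      unfold checks
      apply List.mem_append_left
      apply List.mem_append_left
      refine List.mem_map.2 ⟨(c, [], m), hcm, ?_⟩
      simp [hm0]
    have := hchecks _ hmem
    rwa [wordP_replicate_flatten] at this
  apply noStemPrime_pres P hP Q hQ S hp Wl hgood hWl hchecks hreal m ?_ ((g3 _ hcm).2 hm0) N hN
    (by rw [hsub]; exact hidx) hfin n hn hcard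
  have : (xw P Wl '' {l | l ∈ S.sub}) = {xw P Wl c} := by
    rw [hsub]
    ext y
    simp
  rw [this]
  exact card_closure_singleton_dvd _ m hpow

/-- transport of a trivial multiplier along an isomorphism from a group in `Type` -/
theorem trivialMultiplier_of_equiv {G : Type*} [Group G] (E : Type) [Group E] [Finite E]
    (e : E ≃* G) (hE : ∀ p, p.Prime → NoStemPrime E p) : HasCyclicSchurMultiplier G 1 := by
  haveI : Finite G := Finite.of_equiv E e.toEquiv
  have hker : e.toMonoidHom.ker = ⊥ := by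
    rw [MonoidHom.ker_eq_bot_iff]
    exact e.injective
  apply hasSchurMultiplier_of_cover E e.toMonoidHom ⟨e.surjective, ?_, ?_⟩ ?_ hE
  · rw [hker]; exact bot_le
  · rw [hker]; exact bot_le
  · rw [hker]
    haveI : Subsingleton (Multiplicative (ZMod 1)) := by
      show Subsingleton (ZMod 1)
      infer_instance
    exact
      { toFun := fun _ => 1
        invFun := fun _ => 1
        left_inv := fun x => Subsingleton.elim _ _
        right_inv := fun x => Subsingleton.elim _ _
        map_mul' := fun _ _ => by simp }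

end Cfsg.Agent.Lib.Helper4.Stem
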