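import Mathlib
import Cfsg.Agent.Lib.Helper4.StemLib5

/-!
Stem extensions, part 6: the coset enumeration criterion relative to a subgroup `H` over which every stem
extension with kernel of order `p` splits.  This holds when `|H|` is prime to `p` (Schur–Zassenhaus), and also when
`H` is perfect and has itself no stem extension with kernel of order `p`.  The letters generating `H` are lifted
into the complement, so every relation among them holds exactly in the extension, whatever their orders.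
-/

set_option autoImplicit false

namespace Cfsg.Agent.Lib.Helper4.Stem

open Cfsg Cfsg.Agent.Lib.Helper4.TC Cfsg.Agent.Lib.Helper4.TC.Log
open scoped commutatorElement

universe u

/-- the kernel of `σ` has a complement in the preimage of `H` -/
def SplitsOver {Γ E : Type*} [Group Γ] [Group E] (σ : Γ →* E) (H : Subgroup E) : Prop :=
  ∃ H0 : Subgroup Γ, H0 ⊓ σ.ker = ⊥ ∧ H0.map σ = H

/-- every finite stem extension of `E` with kernel of order `p` splits over `H` -/
def LiftsP (E : Type u) [Group E] (H : Subgroup E) (p : ℕ) : Prop :=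
  ∀ (Γ : Type u) [Group Γ] [Finite Γ] (σ : Γ →* E), IsStemExtension σ → Nat.card σ.ker = p →
    SplitsOver σ H

theorem splitsOver_of_sub {Γ E : Type*} [Group Γ] [Group E] (σ : Γ →* E) (H : Subgroup E)
    (C : Subgroup (H.comap σ)) (h1 : ∀ c ∈ C, σ (c : Γ) = 1 → c = 1)
    (h2 : ∀ y ∈ H, ∃ c ∈ C, σ (c : Γ) = y) : SplitsOver σ H := by
  refine ⟨C.map (H.comap σ).subtype, ?_, ?_⟩
  · rw [eq_bot_iff]
    rintro _ ⟨⟨c, hc1, rfl⟩, hc2⟩
    have : c = 1 := h1 c hc1 (MonoidHom.mem_ker.1 hc2)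
    rw [this]
    exact Subgroup.one_mem _
  · apply le_antisymm
    · rintro _ ⟨_, ⟨c, _, rfl⟩, rfl⟩
      exact c.2
    · intro y hy
      obtain ⟨c, hc, hcy⟩ := h2 y hy
      exact ⟨(c : Γ), ⟨c, hc, rfl⟩, hcy⟩

/-- the restriction of `σ` to the preimage of `H` -/
def resHom {Γ E : Type*} [Group Γ] [Group E] (σ : Γ →* E) (H : Subgroup E) : (H.comap σ) →* H :=
  (σ.comp (H.comap σ).subtype).codRestrict H (fun t => t.2)

theorem resHom_apply {Γ E : Type*} [Group Γ] [Group E] (σ : Γ →* E) (H : Subgroup E) (t : H.comap σ) :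
    ((resHom σ H t : H) : E) = σ (t : Γ) := rfl

theorem resHom_surjective {Γ E : Type*} [Group Γ] [Group E] (σ : Γ →* E) (hs : Function.Surjective σ)
    (H : Subgroup E) : Function.Surjective (resHom σ H) := by
  rintro ⟨y, hy⟩
  obtain ⟨t, rfl⟩ := hs y
  exact ⟨⟨t, hy⟩, rfl⟩

theorem mem_ker_resHom {Γ E : Type*} [Group Γ] [Group E] (σ : Γ →* E) (H : Subgroup E) (t : H.comap σ) :
    t ∈ (resHom σ H).ker ↔ (t : Γ) ∈ σ.ker := by
  rw [MonoidHom.mem_ker, MonoidHom.mem_ker]
  constructor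
  · intro ht
    exact congrArg Subtype.val ht
  · intro ht
    exact Subtype.ext ht

theorem ker_le_comap {Γ E : Type*} [Group Γ] [Group E] (σ : Γ →* E) (H : Subgroup E) :
    σ.ker ≤ H.comap σ := by
  intro z hz
  show σ z ∈ H
  rw [MonoidHom.mem_ker.1 hz]
  exact H.one_mem

theorem card_ker_resHom {Γ E : Type*} [Group Γ] [Group E] (σ : Γ →* E) (H : Subgroup E) :
    Nat.card (resHom σ H).ker = Nat.card σ.ker := by
  have e : (resHom σ H).ker = σ.ker.subgroupOf (H.comap σ) := by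
    ext t
    rw [mem_ker_resHom, Subgroup.mem_subgroupOf]
  rw [e]
  exact Nat.card_congr (Subgroup.subgroupOfEquivOfLe (ker_le_comap σ H)).toEquiv

/-- Schur–Zassenhaus: subgroups of order prime to `p` -/
theorem liftsP_of_coprime {E : Type u} [Group E] (H : Subgroup E) (p : ℕ)
    (h : ℕ) (hH : Nat.card H ∣ h) (hcop : Nat.Coprime h p) : LiftsP E H p := by
  intro Γ _ _ σ hσ hcardK
  obtain ⟨hs, hc, hd⟩ := hσ
  set σ' := resHom σ H with hσ'
  have hK'card : Nat.card σ'.ker = p := by rw [card_ker_resHom, hcardK]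
  have hidx : σ'.ker.index ∣ h := by
    rw [Subgroup.index_ker]
    exact dvd_trans (Subgroup.card_subgroup_dvd_card _) hH
  have hcop' : Nat.Coprime (Nat.card σ'.ker) σ'.ker.index := by
    rw [hK'card, Nat.coprime_comm]
    exact Nat.Coprime.coprime_dvd_left hidx hcop
  obtain ⟨C, hC⟩ := Subgroup.exists_left_complement'_of_coprime hcop'
  have hdisj : C ⊓ σ'.ker = ⊥ := hC.disjoint.eq_bot
  apply splitsOver_of_sub σ H C
  · intro c hcC hc1
    have : c ∈ C ⊓ σ'.ker := ⟨hcC, (mem_ker_resHom σ H c).2 (MonoidHom.mem_ker.2 hc1)⟩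
    rw [hdisj, Subgroup.mem_bot] at this
    exact this
  · intro y hy
    obtain ⟨t, rfl⟩ := hs y
    obtain ⟨⟨⟨c, hcC⟩, ⟨k, hkK⟩⟩, e, _⟩ := hC.existsUnique (⟨t, hy⟩ : H.comap σ)
    simp only at e
    refine ⟨c, hcC, ?_⟩
    have hk1 : σ (k : Γ) = 1 := MonoidHom.mem_ker.1 ((mem_ker_resHom σ H k).1 hkK)
    have : σ ((c * k : H.comap σ) : Γ) = σ t := by rw [e]
    rw [Subgroup.coe_mul, map_mul, hk1, mul_one] at this
    exact this

/-- perfect subgroups without stem extension with kernel of order `p` -/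
theorem liftsP_of_perfect {E : Type u} [Group E] (H : Subgroup E) (p : ℕ) (hp : p.Prime)
    (hperf : commutator H = ⊤) (hns : NoStemPrime H p) : LiftsP E H p := by
  intro Γ _ _ σ hσ hcardK
  obtain ⟨hs, hc, hd⟩ := hσ
  set σ' := resHom σ H with hσ'
  have hK'card : Nat.card σ'.ker = p := by rw [card_ker_resHom, hcardK]
  have hsurj' : Function.Surjective σ' := resHom_surjective σ hs H
  by_cases hD : commutator (H.comap σ) ⊓ σ'.ker = ⊥
  · apply splitsOver_of_sub σ H (commutator (H.comap σ))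
    · intro c hcC hc1
      have : c ∈ commutator (H.comap σ) ⊓ σ'.ker :=
        ⟨hcC, (mem_ker_resHom σ H c).2 (MonoidHom.mem_ker.2 hc1)⟩
      rw [hD, Subgroup.mem_bot] at this
      exact this
    · intro y hy
      have hmap : (commutator (H.comap σ)).map σ' = ⊤ := by
        rw [commutator_def, Subgroup.map_commutator, ← MonoidHom.range_eq_map,
          MonoidHom.range_eq_top.2 hsurj', ← commutator_def, hperf]
      have : (⟨y, hy⟩ : H) ∈ (commutator (H.comap σ)).map σ' := by rw [hmap]; trivial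
      obtain ⟨c, hcC, hcy⟩ := this
      exact ⟨c, hcC, congrArg Subtype.val hcy⟩
  · exfalso
    have hle : σ'.ker ≤ commutator (H.comap σ) := by
      have h1 : Nat.card ↥(commutator (H.comap σ) ⊓ σ'.ker) ∣ p := by
        rw [← hK'card]
        exact Subgroup.card_dvd_of_le inf_le_right
      rcases (Nat.dvd_prime hp).1 h1 with h2 | h2
      · exact absurd (Subgroup.card_eq_one.1 h2) hD
      · have : commutator (H.comap σ) ⊓ σ'.ker = σ'.ker := by
          apply Subgroup.eq_of_le_of_card_ge inf_le_right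
          rw [h2, hK'card]
        rw [← this]
        exact inf_le_left
    refine hns (H.comap σ) σ' ⟨hsurj', ?_, hle⟩ hK'card
    intro k hk
    rw [Subgroup.mem_center_iff]
    intro y
    apply Subtype.ext
    have hk' : (k : Γ) ∈ σ.ker := (mem_ker_resHom σ H k).1 hk
    exact Subgroup.mem_center_iff.1 (hc hk') (y : Γ)

/-- transport of `NoStemPrime` along an isomorphism -/
theorem noStemPrime_of_mulEquiv {E E' : Type u} [Group E] [Group E'] (e : E ≃* E') (p : ℕ)
    (h : NoStemPrime E p) : NoStemPrime E' p := by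
  intro Γ _ _ σ hσ hcard
  obtain ⟨hs, hc, hd⟩ := hσ
  have hker : (e.symm.toMonoidHom.comp σ).ker = σ.ker := by
    ext t
    rw [MonoidHom.mem_ker, MonoidHom.mem_ker, MonoidHom.comp_apply]
    constructor
    · intro ht
      have := congrArg e ht
      simpa using this
    · intro ht
      rw [ht, map_one]
  refine h Γ (e.symm.toMonoidHom.comp σ) ⟨?_, ?_, ?_⟩ ?_
  · exact e.symm.surjective.comp hs
  · rw [hker]; exact hc
  · rw [hker]; exact hd
  · rw [hker]; exact hcard

theorem commutator_eq_top_of_mulEquiv {E E' : Type*} [Group E] [Group E'] (e : E ≃* E')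
    (h : commutator E = ⊤) : commutator E' = ⊤ := by
  have : (commutator E).map e.toMonoidHom = commutator E' := by
    rw [commutator_def, Subgroup.map_commutator, ← MonoidHom.range_eq_map,
      MonoidHom.range_eq_top.2 e.surjective, ← commutator_def]
  rw [← this, h, ← MonoidHom.range_eq_map, MonoidHom.range_eq_top.2 e.surjective]

/-- the image of an injective homomorphism from a perfect group without stem extensions lifts -/
theorem liftsP_of_injective {K E : Type} [Group K] [Group E] (f : K →* E) (hf : Function.Injective f)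
    (H : Subgroup E) (hH : f.range = H) (p : ℕ) (hp : p.Prime) (hperf : commutator K = ⊤)
    (hns : NoStemPrime K p) : LiftsP E H p := by
  subst hH
  have e : K ≃* f.range := MonoidHom.ofInjective hf
  exact liftsP_of_perfect f.range p hp (commutator_eq_top_of_mulEquiv e hperf)
    (noStemPrime_of_mulEquiv e p hns)

/-! ### building the lifts with a prescribed choice for the generators -/

section Build2

variable {Γ E : Type*} [Group Γ] [Group E] (σ : Γ →* E) (x : ℕ → E) (inv : ℕ → ℕ) (ch : Item → Γ)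

/-- the value of an item -/
def val2 (g : ℕ → Γ) (q : Item) : Γ :=
  if q.2.2 = 0 then wordP g q.2.1 else ch q

/-- process the items in order -/
def build2 : (ℕ → Γ) → List Item → (ℕ → Γ)
  | g, [] => g
  | g, q :: ds => build2 (upd g q.1 (inv q.1) (val2 ch g q)) ds

theorem build2_spec (items : List Item) :
    ∀ (g : ℕ → Γ) (kn : List ℕ), (∀ l ∈ kn, σ (g l) = x l) →
      (∀ l ∈ kn, inv l ∈ kn ∧ g (inv l) = (g l)⁻¹) → Check inv kn items →
      (∀ q ∈ items, x (inv q.1) = (x q.1)⁻¹ ∧ (q.2.2 = 0 → wordP x q.2.1 = x q.1) ∧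
        (q.2.2 ≠ 0 → σ (ch q) = x q.1)) →
      (∀ l ∈ kn, build2 inv ch g items l = g l) ∧
      (∀ l ∈ known inv kn items, σ (build2 inv ch g items l) = x l) ∧
      (∀ l ∈ known inv kn items, inv l ∈ known inv kn items ∧
        build2 inv ch g items (inv l) = (build2 inv ch g items l)⁻¹) ∧
      (∀ q ∈ items, (q.2.2 = 0 → build2 inv ch g items q.1 = wordP (build2 inv ch g items) q.2.1) ∧
        (q.2.2 ≠ 0 → build2 inv ch g items q.1 = ch q)) := by
  induction items with
  | nil =>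
    intro g kn ha hb _ _
    exact ⟨fun _ _ => rfl, ha, hb, fun q hq => absurd hq List.not_mem_nil⟩
  | cons q ds ih =>
    intro g kn ha hb hc hx
    obtain ⟨c1, c2, c3, c4, c5, c6⟩ := hc
    obtain ⟨hx1, hx2, hx3⟩ := hx q List.mem_cons_self
    set v := val2 ch g q with hv
    set g1 := upd g q.1 (inv q.1) v with hg1
    have hσv : σ v = x q.1 := by
      rw [hv, val2]
      by_cases hm : q.2.2 = 0
      · rw [if_pos hm, ← wordP_hom, ← hx2 hm]
        apply wordP_congr
        intro l hl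
        exact ha l (c5 l hl)
      · rw [if_neg hm]
        exact hx3 hm
    have e1 : g1 q.1 = v := by rw [hg1, upd, if_pos rfl]
    have e2 : g1 (inv q.1) = v⁻¹ := by rw [hg1, upd, if_neg (Ne.symm c3), if_pos rfl]
    have e3 : ∀ l ∈ kn, g1 l = g l := by
      intro l hl
      have n1 : l ≠ q.1 := fun h => c1 (h ▸ hl)
      have n2 : l ≠ inv q.1 := fun h => c2 (h ▸ hl)
      rw [hg1, upd, if_neg n1, if_neg n2]
    have ha1 : ∀ l ∈ q.1 :: inv q.1 :: kn, σ (g1 l) = x l := by
      intro l hl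
      rcases List.mem_cons.1 hl with rfl | hl
      · rw [e1, hσv]
      rcases List.mem_cons.1 hl with rfl | hl
      · rw [e2, map_inv, hσv, hx1]
      · rw [e3 l hl]; exact ha l hl
    have hb1 : ∀ l ∈ q.1 :: inv q.1 :: kn, inv l ∈ q.1 :: inv q.1 :: kn ∧ g1 (inv l) = (g1 l)⁻¹ := by
      intro l hl
      rcases List.mem_cons.1 hl with rfl | hl
      · exact ⟨List.mem_cons_of_mem _ List.mem_cons_self, by rw [e2, e1]⟩
      rcases List.mem_cons.1 hl with rfl | hl
      · exact ⟨by rw [c4]; exact List.mem_cons_self, by rw [c4, e1, e2, inv_inv]⟩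
      · obtain ⟨h1, h2⟩ := hb l hl
        exact ⟨List.mem_cons_of_mem _ (List.mem_cons_of_mem _ h1), by rw [e3 _ h1, e3 l hl, h2]⟩
    obtain ⟨i1, i2, i3, i4⟩ := ih g1 (q.1 :: inv q.1 :: kn) ha1 hb1 c6
      (fun q' hq' => hx q' (List.mem_cons_of_mem _ hq'))
    have hbuild : build2 inv ch g (q :: ds) = build2 inv ch g1 ds := rfl
    have hknown : known inv kn (q :: ds) = known inv (q.1 :: inv q.1 :: kn) ds := rfl
    rw [hbuild, hknown]
    refine ⟨?_, i2, i3, ?_⟩
    · intro l hl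
      rw [i1 l (List.mem_cons_of_mem _ (List.mem_cons_of_mem _ hl)), e3 l hl]
    · intro q' hq'
      rcases List.mem_cons.1 hq' with rfl | hq'
      · have hq1 : build2 inv ch g1 ds q'.1 = v := by rw [i1 _ List.mem_cons_self, e1]
        constructor
        · intro hm
          rw [hq1, hv, val2, if_pos hm]
          apply wordP_congr
          intro l hl
          have hl' := c5 l hl
          rw [i1 l (List.mem_cons_of_mem _ (List.mem_cons_of_mem _ hl')), e3 l hl']
        · intro hm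
          rw [hq1, hv, val2, if_neg hm]
      · exact i4 q' hq'

end Build2

/-- the static conditions, for a subgroup that lifts -/
def Spec2.Good3 (S : Spec2) (k : ℕ) (inv : ℕ → ℕ) : Prop :=
  Check inv [] S.items ∧ (∀ l ∈ List.range k, l ∈ known inv [] S.items) ∧
  (∀ q ∈ S.items, q.1 < k ∧ (q.2.2 ≠ 0 → q.1 ∉ S.sub → Nat.Coprime q.2.2 S.p)) ∧
  (∀ z ∈ S.cen, z < k) ∧ (∀ r ∈ S.R, ∀ l ∈ r, l < k) ∧
  (∀ l ∈ S.sub, ∃ q ∈ S.items, q.1 = l ∧ q.2.2 ≠ 0) ∧
  (∀ w ∈ S.PR, ∀ l ∈ w, l ∈ S.sub ∨ (l < k ∧ inv l ∈ S.sub))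

instance (S : Spec2) (k : ℕ) (inv : ℕ → ℕ) : Decidable (S.Good3 k inv) := by
  unfold Spec2.Good3
  infer_instance

/-- The coset enumeration criterion relative to a subgroup that lifts. -/
theorem noStemPrime_of_spec3 {E : Type u} [Group E] [Finite E] {β : Type} [DecidableEq β]
    (Q : CoxEnc β) (hQ : Q.Valid) (S : Spec2) (_hp : S.p.Prime) (x : ℕ → E)
    (hgood : S.Good3 Q.k Q.invR)
    (hxinv : ∀ l, l < Q.k → x (Q.invR l) = (x l)⁻¹)
    (hitems : ∀ q ∈ S.items, (q.2.2 = 0 → wordP x q.2.1 = x q.1) ∧ (q.2.2 ≠ 0 → x q.1 ^ q.2.2 = 1))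
    (hcen : ∀ z ∈ S.cen, x z = 1) (hR : ∀ r ∈ S.R, wordP x r = 1) (hPR : ∀ w ∈ S.PR, wordP x w = 1)
    (hgen : Subgroup.closure (x '' Set.Iio Q.k) = ⊤)
    (hreal : ∀ L ∈ Q.real, S.RelOK Q.k Q.invR L)
    (hlift : LiftsP E (Subgroup.closure (x '' {l | l ∈ S.sub})) S.p)
    (h : ℕ) (hH : Nat.card (Subgroup.closure (x '' {l | l ∈ S.sub})) ≤ h)
    (N : ℕ) (hN : N ≠ 0) (hidx : (Inst.subG Q (S.sub.map fun l => [l])).index = N)
    (hcard : N * h < S.p * Nat.card E) : NoStemPrime E S.p := by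
  classical
  intro Γ _ _ σ hσ hcardK
  obtain ⟨H0, h01, h02⟩ := hlift Γ σ hσ hcardK
  obtain ⟨hs, hc, hd⟩ := hσ
  obtain ⟨g1, g2, g3, g4, g5, g6, g7⟩ := hgood
  have hK : ∀ z ∈ σ.ker, z ^ S.p = 1 := by
    intro z hz
    have := pow_card_eq_one' (G := σ.ker) (x := ⟨z, hz⟩)
    rw [hcardK] at this
    exact congrArg Subtype.val this
  -- the choice of the lifts of the generators
  let ch : Item → Γ := fun q =>
    if hq : ∃ t : Γ, σ t = x q.1 ∧ t ^ q.2.2 = 1 ∧ (q.1 ∈ S.sub → t ∈ H0) then hq.choose else 1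
  have hch : ∀ q ∈ S.items, q.2.2 ≠ 0 → σ (ch q) = x q.1 ∧ ch q ^ q.2.2 = 1 ∧ (q.1 ∈ S.sub → ch q ∈ H0) := by
    intro q hq hm
    have hex : ∃ t : Γ, σ t = x q.1 ∧ t ^ q.2.2 = 1 ∧ (q.1 ∈ S.sub → t ∈ H0) := by
      by_cases hsub : q.1 ∈ S.sub
      · have hxH : x q.1 ∈ H0.map σ := by
          rw [h02]
          exact Subgroup.subset_closure ⟨q.1, hsub, rfl⟩
        obtain ⟨t, ht0, ht⟩ := hxH
        refine ⟨t, ht, ?_, fun _ => ht0⟩
        have : t ^ q.2.2 ∈ H0 ⊓ σ.ker := by
          refine ⟨H0.pow_mem ht0 _, ?_⟩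
          show t ^ q.2.2 ∈ σ.ker
          rw [MonoidHom.mem_ker, map_pow, ht, (hitems q hq).2 hm]
        rw [h01, Subgroup.mem_bot] at this
        exact this
      · obtain ⟨t, ht1, ht2⟩ := exists_lift_pow σ hs S.p hK (x q.1) q.2.2 ((hitems q hq).2 hm)
          ((g3 q hq).2 hm hsub)
        exact ⟨t, ht1, ht2, fun h' => absurd h' hsub⟩
    show σ (dite _ _ _) = x q.1 ∧ (dite _ _ _) ^ q.2.2 = 1 ∧ (q.1 ∈ S.sub → (dite _ _ _) ∈ H0)
    rw [dif_pos hex]
    exact hex.choose_spec
  obtain ⟨-, b2, b3, b4⟩ := build2_spec σ x Q.invR ch S.items (fun _ => 1) []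
    (fun l hl => absurd hl List.not_mem_nil) (fun l hl => absurd hl List.not_mem_nil) g1
    (fun q hq => ⟨hxinv _ (g3 q hq).1, (hitems q hq).1, fun hm => (hch q hq hm).1⟩)
  set g := build2 Q.invR ch (fun _ => 1) S.items with hg
  have hkn : ∀ l, l < Q.k → l ∈ known Q.invR [] S.items := fun l hl => g2 l (List.mem_range.2 hl)
  have hσg : ∀ l, l < Q.k → σ (g l) = x l := fun l hl => b2 l (hkn l hl)
  have hginv : ∀ l, l < Q.k → g (Q.invR l) = (g l)⁻¹ := fun l hl => (b3 l (hkn l hl)).2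
  have hσw : ∀ r : List ℕ, (∀ l ∈ r, l < Q.k) → σ (wordP g r) = wordP x r := by
    intro r hr
    rw [← wordP_hom]
    apply wordP_congr
    intro l hl
    exact hσg l (hr l hl)
  have hcomm : ∀ z ∈ σ.ker, ∀ y : Γ, z * y * z⁻¹ * y⁻¹ = 1 := by
    intro z hz y
    have := Subgroup.mem_center_iff.1 (hc hz) y
    rw [← this]
    group
  have hsubk : ∀ l ∈ S.sub, l < Q.k := by
    intro l hl
    obtain ⟨q, hq, rfl, _⟩ := g6 l hl
    exact (g3 q hq).1
  have hsubH0 : ∀ l ∈ S.sub, g l ∈ H0 := by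
    intro l hl
    obtain ⟨q, hq, rfl, hm⟩ := g6 l hl
    rw [(b4 q hq).2 hm]
    exact (hch q hq hm).2.2 hl
  have hPRk : ∀ w ∈ S.PR, ∀ l ∈ w, l < Q.k := by
    intro w hw l hl
    rcases g7 w hw l hl with h1 | h1
    · exact hsubk l h1
    · exact h1.1
  have hwH0 : ∀ w ∈ S.PR, wordP g w ∈ H0 := by
    intro w hw
    apply Sgs.wordP_mem_closure
    intro l hl
    rcases g7 w hw l hl with h1 | ⟨h1, h2⟩
    · exact hsubH0 l h1
    · rw [show g l = (g (Q.invR l))⁻¹ from by rw [hginv l h1, inv_inv]]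
      exact H0.inv_mem (hsubH0 _ h2)
  have hrel : ∀ L ∈ Q.real, wordP g L = 1 := by
    intro L hL
    rcases hreal L hL with (⟨q, hq, hm, rfl⟩ | ⟨q, hq, hm, rfl⟩ | ⟨z, hz, rfl⟩ | ⟨z, hz, l, hl, rfl⟩ |
      ⟨r, hr, rfl⟩ | ⟨r, hr, l, hl, rfl⟩) | hPRmem
    · have : wordP g (List.replicate q.2.2 q.1) = g q.1 ^ q.2.2 := by
        have := wordP_replicate_flatten g q.2.2 [q.1]
        simpa using this
      rw [this, (b4 q hq).2 hm]
      exact (hch q hq hm).2.1
    · rw [wordP_cons, hginv _ (g3 q hq).1, ← (b4 q hq).1 hm, inv_mul_cancel]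
    · have : wordP g (List.replicate S.p z) = g z ^ S.p := by
        have := wordP_replicate_flatten g S.p [z]
        simpa using this
      rw [this]
      apply hK
      rw [MonoidHom.mem_ker, hσg z (g4 z hz), hcen z hz]
    · have hl' : l < Q.k := List.mem_range.1 hl
      have hzk : g z ∈ σ.ker := by rw [MonoidHom.mem_ker, hσg z (g4 z hz), hcen z hz]
      simp only [wordP_cons, wordP_nil, mul_one]
      rw [hginv z (g4 z hz), hginv l hl', ← mul_assoc, ← mul_assoc]
      exact hcomm _ hzk _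
    · rw [wordP_replicate_flatten]
      apply hK
      rw [MonoidHom.mem_ker, hσw r (g5 r hr), hR r hr]
    · have hl' : l < Q.k := List.mem_range.1 hl
      have hzk : wordP g r ∈ σ.ker := by rw [MonoidHom.mem_ker, hσw r (g5 r hr), hR r hr]
      rw [wordP_append, wordP_cons, wordP_append, wordP_cons, wordP_nil, mul_one,
        Chain.wordP_invWord' g Q.invR r (fun l hl => hginv l (g5 r hr l hl)), hginv l hl', ← mul_assoc,
        ← mul_assoc]
      exact hcomm _ hzk _
    · have h1 : wordP g L ∈ H0 ⊓ σ.ker := by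
        refine ⟨hwH0 L hPRmem, ?_⟩
        show wordP g L ∈ σ.ker
        rw [MonoidHom.mem_ker, hσw L (hPRk L hPRmem), hPR L hPRmem]
      rw [h01, Subgroup.mem_bot] at h1
      exact h1
  obtain ⟨φ, hφ⟩ := exists_hom_of_letters Q hQ g
    (fun l hl => by rw [hginv l hl, mul_inv_cancel]) hrel
  -- surjectivity
  have hmap : φ.range.map σ = ⊤ := by
    rw [eq_top_iff, ← hgen, Subgroup.closure_le]
    rintro _ ⟨l, hl, rfl⟩
    exact ⟨g l, ⟨Q.gR l, hφ l hl⟩, hσg l hl⟩
  have hdec : ∀ γ : Γ, ∃ γ0 ∈ φ.range, ∃ n ∈ σ.ker, γ = γ0 * n := by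
    intro γ
    have : σ γ ∈ φ.range.map σ := by rw [hmap]; trivial
    obtain ⟨γ0, h0, h1⟩ := this
    refine ⟨γ0, h0, γ0⁻¹ * γ, ?_, by group⟩
    rw [MonoidHom.mem_ker, map_mul, map_inv, h1, inv_mul_cancel]
  have hcommle : commutator Γ ≤ φ.range := by
    rw [commutator_def, Subgroup.commutator_le]
    intro a _ b _
    obtain ⟨a0, ha0, n1, hn1, rfl⟩ := hdec a
    obtain ⟨b0, hb0, n2, hn2, rfl⟩ := hdec b
    rw [comm_mul_central_left _ _ _ (fun y => (Subgroup.mem_center_iff.1 (hc hn1) y)),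
      comm_mul_central_right _ _ _ (fun y => (Subgroup.mem_center_iff.1 (hc hn2) y)),
      commutatorElement_def]
    exact φ.range.mul_mem (φ.range.mul_mem (φ.range.mul_mem ha0 hb0) (φ.range.inv_mem ha0))
      (φ.range.inv_mem hb0)
  have hsurj : Function.Surjective φ := by
    rw [← MonoidHom.range_eq_top, eq_top_iff]
    intro γ _
    obtain ⟨γ0, h0, n, hn, rfl⟩ := hdec γ
    exact φ.range.mul_mem h0 (hcommle (hd hn))
  -- counting
  set HQ := Inst.subG Q (S.sub.map fun l => [l]) with hHQ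
  have hle : HQ.map φ ≤ H0 := by
    rw [Subgroup.map_le_iff_le_comap, hHQ, Inst.subG, Subgroup.closure_le]
    rintro _ ⟨u, hu, rfl⟩
    obtain ⟨l, hl, rfl⟩ := List.mem_map.1 hu
    show φ (wordP Q.gR [l]) ∈ H0
    rw [wordP_cons, wordP_nil, mul_one, hφ l (hsubk l hl)]
    exact hsubH0 l hl
  have hH0card : Nat.card H0 ≤ h := by
    have hinj : Function.Injective (σ.comp H0.subtype) := by
      rw [← MonoidHom.ker_eq_bot_iff, eq_bot_iff]
      intro t ht
      have : (t : Γ) ∈ H0 ⊓ σ.ker := ⟨t.2, ht⟩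
      rw [h01, Subgroup.mem_bot] at this
      rw [Subgroup.mem_bot]
      exact Subtype.ext this
    have h1 : Nat.card H0 = Nat.card (H0.map σ) := by
      have := Nat.card_congr (Equiv.ofInjective _ hinj)
      rw [this]
      apply Nat.card_congr
      refine Equiv.setCongr ?_
      ext y
      constructor
      · rintro ⟨t, rfl⟩
        exact ⟨t.1, t.2, rfl⟩
      · rintro ⟨t, ht, rfl⟩
        exact ⟨⟨t, ht⟩, rfl⟩
    rw [h1, h02]
    exact hH
  have hidx2 : (HQ.map φ).index ∣ N := by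
    rw [← hidx]
    exact Subgroup.index_map_dvd HQ hsurj
  have hcount : Nat.card Γ ≤ N * h := by
    rw [← Subgroup.index_mul_card (HQ.map φ)]
    have i1 : (HQ.map φ).index ≤ N := Nat.le_of_dvd (Nat.pos_of_ne_zero hN) hidx2
    have i2 : Nat.card (HQ.map φ) ≤ h := le_trans (Nat.le_of_dvd Nat.card_pos (Subgroup.card_dvd_of_le hle))
      hH0card
    exact Nat.mul_le_mul i1 i2
  have h2 : Nat.card Γ = Nat.card E * S.p := by rw [card_eq_of_stem σ hs, hcardK]
  rw [h2, mul_comm] at hcount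
  omega

/-- the static conditions on the words (as in part 5) and the criterion for a presented base group -/
theorem noStemPrime_pres3 {α : Type} [DecidableEq α] {β : Type} [DecidableEq β] (P : CoxEnc α) (hP : P.Valid)
    (Q : CoxEnc β) (hQ : Q.Valid) (S : Spec2) (hp : S.p.Prime) (Wl : ℕ → List ℕ)
    (hgood : S.Good3 Q.k Q.invR) (hWl : WlGood P.k P.invR Q.k Q.invR S.cen Wl)
    (hchecks : ∀ w ∈ checks S P.invR Wl, wordP P.gR w = 1)
    (hreal : ∀ L ∈ Q.real, S.RelOK Q.k Q.invR L)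
    (hlift : LiftsP P.Grp (Subgroup.closure (xw P Wl '' {l | l ∈ S.sub})) S.p)
    (h : ℕ) (hH : Nat.card (Subgroup.closure (xw P Wl '' {l | l ∈ S.sub})) ≤ h)
    (N : ℕ) (hN : N ≠ 0) (hidx : (Inst.subG Q (S.sub.map fun l => [l])).index = N)
    (hfin : Finite P.Grp) (n : ℕ) (hn : Nat.card P.Grp = n) (hcard : N * h < S.p * n) :
    NoStemPrime P.Grp S.p := by
  obtain ⟨w1, w2, w3⟩ := hWl
  have hPinv : ∀ y, y < P.k → P.gR (P.invR y) = (P.gR y)⁻¹ := fun y hy =>
    (hP.invR_sound y (le_of_lt hy)).2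
  have hxinvW : ∀ l, l < Q.k → wordP P.gR (invWord P.invR (Wl l)) = (wordP P.gR (Wl l))⁻¹ := by
    intro l hl
    apply Chain.wordP_invWord'
    intro y hy
    exact hPinv y ((w1 l (List.mem_range.2 hl)).1 y hy)
  have hgood' := hgood
  obtain ⟨-, -, g3, -, -, -, -⟩ := hgood'
  refine noStemPrime_of_spec3 Q hQ S hp (xw P Wl) hgood ?_ ?_ ?_ ?_ ?_ ?_ hreal hlift h hH N hN hidx
    (by rw [hn]; exact hcard)
  · intro l hl
    show wordP P.gR (Wl (Q.invR l)) = (wordP P.gR (Wl l))⁻¹
    rw [(w1 l (List.mem_range.2 hl)).2, hxinvW l hl]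
  · intro q hq
    have hmem : (if q.2.2 = 0 then q.2.1.flatMap Wl ++ invWord P.invR (Wl q.1)
        else (List.replicate q.2.2 (Wl q.1)).flatten) ∈ checks S P.invR Wl := by
      unfold checks
      apply List.mem_append_left
      apply List.mem_append_left
      exact List.mem_map.2 ⟨q, hq, rfl⟩
    have hc := hchecks _ hmem
    constructor
    · intro hm
      rw [if_pos hm, wordP_append, hxinvW _ (g3 q hq).1] at hc
      rw [wordP_xw]
      exact mul_inv_eq_one.1 hc
    · intro hm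
      rw [if_neg hm, wordP_replicate_flatten] at hc
      exact hc
  · intro z hz
    show wordP P.gR (Wl z) = 1
    rw [w2 z hz]
    rfl
  · intro r hr
    rw [wordP_xw]
    apply hchecks
    unfold checks
    apply List.mem_append_left
    apply List.mem_append_right
    exact List.mem_map.2 ⟨r, hr, rfl⟩
  · intro r hr
    rw [wordP_xw]
    apply hchecks
    unfold checks
    apply List.mem_append_right
    exact List.mem_map.2 ⟨r, hr, rfl⟩
  · rw [eq_top_iff, ← hP.gen_top, Subgroup.closure_le]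
    rintro _ ⟨y, hy, rfl⟩
    obtain ⟨l, hl, hl2⟩ := w3 y (List.mem_range.2 hy)
    apply Subgroup.subset_closure
    refine ⟨l, List.mem_range.1 hl, ?_⟩
    show wordP P.gR (Wl l) = P.gR y
    rw [hl2, wordP_cons, wordP_nil, mul_one]

/-- the subgroup generated by the letters of the subgroup, as the subgroup of an instance -/
theorem closure_xw_eq {α : Type} [DecidableEq α] (P : CoxEnc α) (Wl : ℕ → List ℕ) (sub : List ℕ) :
    Subgroup.closure (xw P Wl '' {l | l ∈ sub}) = Inst.subG P (sub.map Wl) := by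
  unfold Inst.subG
  congr 1
  ext s
  constructor
  · rintro ⟨l, hl, rfl⟩
    exact ⟨Wl l, List.mem_map_of_mem hl, rfl⟩
  · rintro ⟨u, hu, rfl⟩
    obtain ⟨l, hl, rfl⟩ := List.mem_map.1 hu
    exact ⟨l, hl, rfl⟩

end Cfsg.Agent.Lib.Helper4.Stem
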