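import Mathlib
import Cfsg.Agent.Lib.Helper4.StemLib6

/-!
Stem extensions and subgroups of index prime to `p` (transfer): a stem extension of `E` with kernel of order `p`
restricts to a stem extension of every subgroup of index prime to `p`.
-/

set_option autoImplicit false

namespace Cfsg.Agent.Lib.Helper4.Stem

open Cfsg

universe u

/-- a central element of the commutator subgroup: its power by the index of a subgroup lies in the commutator
subgroup of that subgroup (transfer) -/
theorem pow_index_mem_commutator {Γ : Type*} [Group Γ] (K : Subgroup Γ) [K.FiniteIndex] (z : Γ)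
    (hzc : z ∈ Subgroup.center Γ) (hzd : z ∈ commutator Γ) (hzK : z ^ K.index ∈ K) :
    (⟨z ^ K.index, hzK⟩ : K) ∈ commutator K := by
  have key : ∀ (k : ℕ) (g₀ : Γ), g₀⁻¹ * z ^ k * g₀ ∈ K → g₀⁻¹ * z ^ k * g₀ = z ^ k := by
    intro k g₀ _
    have hc : z ^ k ∈ Subgroup.center Γ := Subgroup.pow_mem _ hzc k
    have := Subgroup.mem_center_iff.1 hc g₀
    rw [mul_assoc, ← this, ← mul_assoc, inv_mul_cancel, one_mul]
  have h1 := MonoidHom.transfer_eq_pow (Abelianization.of : K →* Abelianization K) z key
  have h2 : MonoidHom.transfer (Abelianization.of : K →* Abelianization K) z = 1 :=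
    Abelianization.commutator_subset_ker _ hzd
  rw [h2] at h1
  rw [← Abelianization.ker_of K, MonoidHom.mem_ker]
  exact h1.symm

/-- Transfer: a subgroup of index prime to `p` without stem extensions with kernel of order `p`. -/
theorem noStemPrime_of_subgroup (E : Type u) [Group E] [Finite E] (H : Subgroup E) (p : ℕ) (hp : p.Prime)
    (hidx : ¬ p ∣ H.index) (hH : NoStemPrime H p) : NoStemPrime E p := by
  intro Γ _ _ σ hσ hcard
  obtain ⟨hs, hc, hd⟩ := hσ
  let K : Subgroup Γ := H.comap σ
  let τ : K →* H := σ.subgroupComap H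
  have hτs : Function.Surjective τ := σ.subgroupComap_surjective_of_surjective H hs
  have hKidx : K.index = H.index := Subgroup.index_comap_of_surjective H hs
  have hkerK : σ.ker ≤ K := by
    intro z hz
    show σ z ∈ H
    rw [MonoidHom.mem_ker.1 hz]
    exact H.one_mem
  have hmem : ∀ y : K, y ∈ τ.ker ↔ (y : Γ) ∈ σ.ker := by
    intro y
    rw [MonoidHom.mem_ker, MonoidHom.mem_ker]
    constructor
    · intro h
      exact congrArg Subtype.val h
    · intro h
      exact Subtype.ext h
  have hcardτ : Nat.card τ.ker = p := by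
    rw [← hcard]
    apply Nat.card_congr
    exact
      { toFun := fun y => ⟨y.1.1, (hmem y.1).1 y.2⟩
        invFun := fun z => ⟨⟨z.1, hkerK z.2⟩, (hmem _).2 z.2⟩
        left_inv := fun y => rfl
        right_inv := fun z => rfl }
  refine hH K τ ⟨hτs, ?_, ?_⟩ hcardτ
  · intro y hy
    rw [Subgroup.mem_center_iff]
    intro x
    apply Subtype.ext
    have := Subgroup.mem_center_iff.1 (hc ((hmem y).1 hy)) (x : Γ)
    exact this
  · intro y hy
    have hz : (y : Γ) ∈ σ.ker := (hmem y).1 hy
    have hzp : (y : Γ) ^ p = 1 := by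
      have := pow_card_eq_one' (G := σ.ker) (x := ⟨(y : Γ), hz⟩)
      rw [hcard] at this
      exact congrArg Subtype.val this
    have hyp : y ^ p = 1 := Subtype.ext (by rw [Subgroup.coe_pow]; exact hzp)
    have h1 := pow_index_mem_commutator K (y : Γ) (hc hz) (hd hz) (K.pow_mem y.2 _)
    have h1' : y ^ K.index ∈ commutator K := by
      have e : y ^ K.index = ⟨(y : Γ) ^ K.index, K.pow_mem y.2 _⟩ := Subtype.ext (by rw [Subgroup.coe_pow])
      rw [e]
      exact h1
    have hcop : Nat.Coprime K.index p := by
      rw [hKidx, Nat.coprime_comm]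
      exact (Nat.Prime.coprime_iff_not_dvd hp).2 hidx
    -- `y` is a power of `y ^ K.index`
    obtain ⟨a, b, hab⟩ : ∃ a b : ℤ, (K.index : ℤ) * a + (p : ℤ) * b = 1 := by
      refine ⟨Nat.gcdA K.index p, Nat.gcdB K.index p, ?_⟩
      have := Nat.gcd_eq_gcd_ab K.index p
      rw [hcop] at this
      exact_mod_cast this.symm
    have hy2 : y = (y ^ K.index) ^ a := by
      have : y ^ (1 : ℤ) = (y ^ K.index) ^ a := by
        rw [← hab, zpow_add, zpow_mul, zpow_mul, zpow_natCast, zpow_natCast, hyp, one_zpow, mul_one]
      simpa using this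
    rw [hy2]
    exact Subgroup.zpow_mem _ h1' a

end Cfsg.Agent.Lib.Helper4.Stem
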