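import Cfsg.Agent.Lib.Helper4.RootSub2

set_option autoImplicit false

namespace Cfsg.Agent.Lib.Helper4.RootSub3

open Cfsg Cfsg.Agent.Lib.Helper4.RankOneGrp Cfsg.Agent.Lib.Helper4.RootSub
  Cfsg.Agent.Lib.Helper4.RootSub2
open scoped commutatorElement

variable {G : Type*} [Group G]

/-- a member of `S` sharing a non-identity element with a member having a rank one partner
coincides with it -/
theorem eq_of_common {S : Set (Subgroup G)} (hS : IsRootSubgroupSet S) {A D E : Subgroup G}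
    (hA : A ∈ S) (hD : D ∈ S) (hAD : IsRankOnePair A D) (hE : E ∈ S) {e : G} (heA : e ∈ A)
    (heE : e ∈ E) (he1 : e ≠ 1) : E = A :=
  core hS hA hD hE hAD (a := e) (z := 1) heA he1 (fun x _ => by simp) (fun x _ => by simp)
    (by rwa [one_mul]) (by rwa [one_mul])

theorem not_commute_of_pair {A B : Subgroup G} (h : IsRankOnePair A B)
    (hc : ∀ a ∈ A, ∀ b ∈ B, a * b = b * a) : False := by
  obtain ⟨a, ha, ha1⟩ := exists_ne_one_left h
  exact ha1 (eq_one_of_mem_normalizer h ha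
    (mem_normalizer_of_commutes (fun x hx => hc a ha x hx)))

theorem comm_of_mem {S : Set (Subgroup G)} (hS : IsRootSubgroupSet S) {A : Subgroup G}
    (hA : A ∈ S) {x y : G} (hx : x ∈ A) (hy : y ∈ A) : x * y = y * x := by
  have := (hS.commutative A hA).is_comm.comm ⟨x, hx⟩ ⟨y, hy⟩
  exact congrArg Subtype.val this

/-- A rank one pair of members of `S` never has its commutator subgroup in `S`. -/
theorem not_rankOne_of_commutator_mem {S : Set (Subgroup G)} (hS : IsRootSubgroupSet S)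
    {A B : Subgroup G} (hA : A ∈ S) (hB : B ∈ S) (hN : ⁅A, B⁆ ∈ S) (h : IsRankOnePair A B) :
    False := by
  have hNA : A ≤ Subgroup.normalizer ((⁅A, B⁆ : Subgroup G) : Set G) :=
    Subgroup.normalizer_commutator_ge_left A B
  have hNB : B ≤ Subgroup.normalizer ((⁅A, B⁆ : Subgroup G) : Set G) :=
    Subgroup.normalizer_commutator_ge_right A B
  have hNX : A ⊔ B ≤ Subgroup.normalizer ((⁅A, B⁆ : Subgroup G) : Set G) := sup_le hNA hNB
  rcases hS.pair _ hN A hA with h1 | h1 | h1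
  · -- `N` commutes with `A`, hence with `B`
    have hcA := commutator_eq_bot_iff'.mp h1
    have hcB : ∀ n ∈ ⁅A, B⁆, ∀ b ∈ B, n * b = b * n := by
      obtain ⟨y, hy, hBy⟩ := right_mem_unipotent h
      intro n hn b hb
      rw [hBy, mem_conjBy] at hb
      have hn' : y⁻¹ * n * y ∈ ⁅A, B⁆ := by
        have := (Subgroup.mem_normalizer_iff.mp (hNX (inv_mem hy)) n).mp hn
        rwa [inv_inv] at this
      have h2 := hcA _ hn' _ hb
      have e1 : n * b = y * ((y⁻¹ * n * y) * (y⁻¹ * b * y)) * y⁻¹ := by group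
      rw [e1, h2]; group
    obtain ⟨a, ha, ha1⟩ := exists_ne_one_left h
    have hBa : conjBy B a ∈ unipotentSubgroups A B :=
      conjBy_mem_unipotent (right_mem_unipotent h) (Subgroup.mem_sup_left ha)
    have hne : B ≠ conjBy B a := by
      intro he
      exact ha1 (eq_one_of_mem_normalizer h ha (conjBy_eq_self_iff.mp he.symm))
    obtain ⟨hpair, -⟩ := pair_of_distinct h (right_mem_unipotent h) hBa hne
    apply not_commute_of_pair hpair
    intro x hx y hy
    rw [mem_conjBy] at hy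
    have hm : ⁅a, a⁻¹ * y * a⁆ ∈ ⁅A, B⁆ := Subgroup.commutator_mem_commutator ha hy
    have hmx := hcB _ hm x hx
    have hmy : y = ⁅a, a⁻¹ * y * a⁆ * (a⁻¹ * y * a) := by
      rw [commutatorElement_def]; group
    generalize ⁅a, a⁻¹ * y * a⁆ = m at hm hmx hmy
    generalize a⁻¹ * y * a = b' at hy hmy
    rw [hmy, ← mul_assoc, ← hmx, mul_assoc, comm_of_mem hS hB hx hy, mul_assoc]
  · obtain ⟨a, ha, ha1⟩ := exists_ne_one_left h
    exact ha1 (eq_one_of_mem_normalizer (RankOnePair_symm h1) ha (hNA ha))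
  · obtain ⟨hM, hMcent, -, -⟩ := h1
    -- some element of `N` moves `A`
    have hex : ∃ n ∈ ⁅A, B⁆, conjBy A n ≠ A := by
      by_contra hall
      push Not at hall
      have hMle : ⁅⁅A, B⁆, A⁆ ≤ A := by
        rw [Subgroup.commutator_le]
        intro n hn a ha
        rw [commutatorElement_def]
        have h1 : n * a * n⁻¹ ∈ conjBy A n := conj_mem_conjBy ha
        rw [hall n hn] at h1
        exact mul_mem h1 (inv_mem ha)
      obtain ⟨m, hm, hm1⟩ := exists_ne_one_of_ne_bot (hS.ne_bot _ hM)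
      have hMA := eq_of_common hS hA hB h hM (hMle hm) hm hm1
      apply hS.ne_bot _ hM
      rw [commutator_eq_bot_iff']
      intro n hn a ha
      have ha' : a ∈ ⁅⁅A, B⁆, A⁆ := by rw [hMA]; exact ha
      exact (hMcent a ha' n (Subgroup.mem_sup_left hn)).symm
    obtain ⟨n, hn, hne⟩ := hex
    have hAn : conjBy A n ∈ unipotentSubgroups A B :=
      conjBy_mem_unipotent left_mem_unipotent (Subgroup.commutator_le_sup A B hn)
    rcases unipotent_cases h hAn with he | ⟨a, ha, he⟩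
    · exact hne he
    · -- `B = conjBy A (a⁻¹ n a)`
      have hn₀ : a⁻¹ * n * a ∈ ⁅A, B⁆ := by
        have := (Subgroup.mem_normalizer_iff.mp (hNA (inv_mem ha)) n).mp hn
        rwa [inv_inv] at this
      have hB' : B = conjBy A (a⁻¹ * n * a) := by
        have e1 : a⁻¹ * n * a = a⁻¹ * (n * a) := by group
        rw [e1, ← conjBy_conjBy, ← conjBy_conjBy, conjBy_of_mem ha, he, conjBy_conjBy,
          inv_mul_cancel, conjBy_one]
      generalize a⁻¹ * n * a = n₀ at hn₀ hB'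
      apply not_commute_of_pair h
      intro x hx y hy
      rw [hB', mem_conjBy] at hy
      have hm : ⁅n₀, n₀⁻¹ * y * n₀⁆ ∈ ⁅⁅A, B⁆, A⁆ := Subgroup.commutator_mem_commutator hn₀ hy
      have hmx := hMcent _ hm x (Subgroup.mem_sup_right hx)
      have hmy : y = ⁅n₀, n₀⁻¹ * y * n₀⁆ * (n₀⁻¹ * y * n₀) := by
        rw [commutatorElement_def]; group
      generalize ⁅n₀, n₀⁻¹ * y * n₀⁆ = m at hm hmx hmy
      generalize n₀⁻¹ * y * n₀ = a' at hy hmy
      rw [hmy, ← mul_assoc, ← hmx, mul_assoc, comm_of_mem hS hA hx hy, mul_assoc]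

/-- If the commutator of two members of `S` is again in `S`, the pair is in the commutator
case. -/
theorem commutatorCase_of_mem {S : Set (Subgroup G)} (hS : IsRootSubgroupSet S)
    {A B : Subgroup G} (hA : A ∈ S) (hB : B ∈ S) (hN : ⁅A, B⁆ ∈ S) :
    RootCommutatorCase S A B := by
  rcases hS.pair A hA B hB with h | h | h
  · exact absurd h (hS.ne_bot _ hN)
  · exact (not_rankOne_of_commutator_mem hS hA hB hN h).elim
  · exact h

/-- the commutator `a⁻¹ b⁻¹ a b` -/
def kap (a b : G) : G := a⁻¹ * b⁻¹ * a * b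

theorem kap_one_right (a : G) : kap a 1 = 1 := by simp [kap]

theorem kap_one_left (b : G) : kap 1 b = 1 := by simp [kap]

theorem kap_eq_one_iff {a b : G} : kap a b = 1 ↔ a * b = b * a := by
  unfold kap
  constructor
  · intro h
    have : a * b = b * a * (a⁻¹ * b⁻¹ * a * b) := by group
    rw [this, h, mul_one]
  · intro h
    have : a⁻¹ * b⁻¹ * a * b = a⁻¹ * b⁻¹ * (a * b) := by group
    rw [this, h]; group

theorem kap_mem {A B : Subgroup G} {a b : G} (ha : a ∈ A) (hb : b ∈ B) : kap a b ∈ ⁅A, B⁆ := by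
  have := Subgroup.commutator_mem_commutator (inv_mem ha) (inv_mem hb)
  rw [commutatorElement_def, inv_inv, inv_inv] at this
  exact this

section comm

variable {S : Set (Subgroup G)} {A B : Subgroup G}

theorem kap_comm (h : RootCommutatorCase S A B) {a b x : G} (ha : a ∈ A) (hb : b ∈ B)
    (hx : x ∈ A ⊔ B) : kap a b * x = x * kap a b :=
  h.2.1 _ (kap_mem ha hb) x hx

theorem kap_mul_right (h : RootCommutatorCase S A B) {a b b' : G} (ha : a ∈ A) (hb : b ∈ B)
    (hb' : b' ∈ B) : kap a (b * b') = kap a b * kap a b' := by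
  have hx : a⁻¹ * b'⁻¹ * a ∈ A ⊔ B :=
    mul_mem (mul_mem (Subgroup.mem_sup_left (inv_mem ha)) (Subgroup.mem_sup_right (inv_mem hb')))
      (Subgroup.mem_sup_left ha)
  have h1 := kap_comm h ha hb hx
  have h2 : kap a (b * b') = (a⁻¹ * b'⁻¹ * a) * kap a b * b' := by unfold kap; group
  rw [h2, ← h1]
  unfold kap; group

theorem kap_mul_left (h : RootCommutatorCase S A B) {a a' b : G} (ha : a ∈ A) (ha' : a' ∈ A)
    (hb : b ∈ B) : kap (a * a') b = kap a b * kap a' b := by
  have hx : a'⁻¹ ∈ A ⊔ B := Subgroup.mem_sup_left (inv_mem ha')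
  have h1 := kap_comm h ha hb hx
  have h2 : kap (a * a') b = a'⁻¹ * kap a b * (b⁻¹ * a' * b) := by unfold kap; group
  rw [h2, ← h1]
  unfold kap; group

theorem kap_inv_right (h : RootCommutatorCase S A B) {a b : G} (ha : a ∈ A) (hb : b ∈ B) :
    kap a b⁻¹ = (kap a b)⁻¹ := by
  have := kap_mul_right h ha hb (inv_mem hb)
  rw [mul_inv_cancel, kap_one_right] at this
  exact eq_inv_of_mul_eq_one_right this.symm

theorem kap_inv_left (h : RootCommutatorCase S A B) {a b : G} (ha : a ∈ A) (hb : b ∈ B) :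
    kap a⁻¹ b = (kap a b)⁻¹ := by
  have := kap_mul_left h ha (inv_mem ha) hb
  rw [mul_inv_cancel, kap_one_left] at this
  exact eq_inv_of_mul_eq_one_right this.symm

/-- for `a ≠ 1` every element of the commutator group is `kap a b` -/
theorem kap_surj_right (h : RootCommutatorCase S A B) {a : G} (ha : a ∈ A) (ha1 : a ≠ 1)
    {c : G} (hc : c ∈ ⁅A, B⁆) : ∃ b ∈ B, kap a b = c := by
  have ha1' : a⁻¹ ≠ 1 := fun h => ha1 (inv_eq_one.mp h)
  have hcl := h.2.2.1 a⁻¹ (inv_mem ha) ha1'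
  rw [← hcl] at hc
  induction hc using Subgroup.closure_induction with
  | mem x hx =>
    obtain ⟨b, hb, rfl⟩ := hx
    refine ⟨b⁻¹, inv_mem hb, ?_⟩
    simp only [kap, inv_inv]
  | one => exact ⟨1, one_mem _, kap_one_right a⟩
  | mul x y _ _ hx hy =>
    obtain ⟨b, hb, rfl⟩ := hx
    obtain ⟨b', hb', rfl⟩ := hy
    exact ⟨b * b', mul_mem hb hb', kap_mul_right h ha hb hb'⟩
  | inv x _ hx =>
    obtain ⟨b, hb, rfl⟩ := hx
    exact ⟨b⁻¹, inv_mem hb, kap_inv_right h ha hb⟩

/-- for `b ≠ 1` every element of the commutator group is `kap a b` -/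
theorem kap_surj_left (h : RootCommutatorCase S A B) {b : G} (hb : b ∈ B) (hb1 : b ≠ 1)
    {c : G} (hc : c ∈ ⁅A, B⁆) : ∃ a ∈ A, kap a b = c := by
  have hb1' : b⁻¹ ≠ 1 := fun h => hb1 (inv_eq_one.mp h)
  have hcl := h.2.2.2 b⁻¹ (inv_mem hb) hb1'
  rw [← hcl] at hc
  induction hc using Subgroup.closure_induction with
  | mem x hx =>
    obtain ⟨a, ha, rfl⟩ := hx
    refine ⟨a⁻¹, inv_mem ha, ?_⟩
    simp only [kap, inv_inv]
  | one => exact ⟨1, one_mem _, kap_one_left b⟩
  | mul x y _ _ hx hy =>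
    obtain ⟨a, ha, rfl⟩ := hx
    obtain ⟨a', ha', rfl⟩ := hy
    exact ⟨a * a', mul_mem ha ha', kap_mul_left h ha ha' hb⟩
  | inv x _ hx =>
    obtain ⟨a, ha, rfl⟩ := hx
    exact ⟨a⁻¹, inv_mem ha, kap_inv_left h ha hb⟩

/-- Non-identity elements never commute when the left member has a rank one partner. -/
theorem not_comm_of_left (hS : IsRootSubgroupSet S) (hA : A ∈ S)
    (h : RootCommutatorCase S A B) {D : Subgroup G} (hD : D ∈ S) (hAD : IsRankOnePair A D)
    {a b : G} (ha : a ∈ A) (ha1 : a ≠ 1) (hb : b ∈ B) (hb1 : b ≠ 1) : a * b ≠ b * a := by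
  intro hab
  have h1 : a ∈ conjBy A b := by
    rw [mem_conjBy]
    have : b⁻¹ * a * b = b⁻¹ * (a * b) := by group
    rw [this, hab, inv_mul_cancel_left]; exact ha
  have h2 : conjBy A b = A := eq_of_common hS hA hD hAD (hS.conj_mem A hA b) ha h1 ha1
  have hle : ⁅A, B⁆ ≤ A := by
    rw [← h.2.2.2 b hb hb1, Subgroup.closure_le]
    rintro _ ⟨a', ha', rfl⟩
    have h3 : b * a'⁻¹ * b⁻¹ ∈ conjBy A b := conj_mem_conjBy (inv_mem ha')
    rw [h2] at h3
    have : a' * b * a'⁻¹ * b⁻¹ = a' * (b * a'⁻¹ * b⁻¹) := by group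
    show a' * b * a'⁻¹ * b⁻¹ ∈ A
    rw [this]
    exact mul_mem ha' h3
  obtain ⟨c, hc, hc1⟩ := exists_ne_one_of_ne_bot (hS.ne_bot _ h.1)
  have hCA := eq_of_common hS hA hD hAD h.1 (hle hc) hc hc1
  apply hS.ne_bot _ h.1
  rw [commutator_eq_bot_iff']
  intro a' ha' b' hb'
  have ha'' : a' ∈ ⁅A, B⁆ := by rw [hCA]; exact ha'
  exact h.2.1 a' ha'' b' (Subgroup.mem_sup_right hb')

/-- Non-identity elements never commute when the right member has a rank one partner. -/
theorem not_comm_of_right (hS : IsRootSubgroupSet S) (hB : B ∈ S)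
    (h : RootCommutatorCase S A B) {D : Subgroup G} (hD : D ∈ S) (hBD : IsRankOnePair B D)
    {a b : G} (ha : a ∈ A) (ha1 : a ≠ 1) (hb : b ∈ B) (hb1 : b ≠ 1) : a * b ≠ b * a := by
  intro hab
  have h1 : b ∈ conjBy B a := by
    rw [mem_conjBy]
    have : a⁻¹ * b * a = a⁻¹ * (b * a) := by group
    rw [this, ← hab, inv_mul_cancel_left]; exact hb
  have h2 : conjBy B a = B := eq_of_common hS hB hD hBD (hS.conj_mem B hB a) hb h1 hb1
  have hle : ⁅A, B⁆ ≤ B := by
    rw [← h.2.2.1 a ha ha1, Subgroup.closure_le]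
    rintro _ ⟨b', hb', rfl⟩
    have h3 : a * b' * a⁻¹ ∈ conjBy B a := conj_mem_conjBy hb'
    rw [h2] at h3
    exact mul_mem h3 (inv_mem hb')
  obtain ⟨c, hc, hc1⟩ := exists_ne_one_of_ne_bot (hS.ne_bot _ h.1)
  have hCB := eq_of_common hS hB hD hBD h.1 (hle hc) hc hc1
  apply hS.ne_bot _ h.1
  rw [commutator_eq_bot_iff']
  intro a' ha' b' hb'
  have hb'' : b' ∈ ⁅A, B⁆ := by rw [hCB]; exact hb'
  exact (h.2.1 b' hb'' a' (Subgroup.mem_sup_left ha')).symm

/-- in the commutator case the commutator group differs from the left member -/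
theorem commutator_ne_left (hS : IsRootSubgroupSet S) (h : RootCommutatorCase S A B) :
    ⁅A, B⁆ ≠ A := by
  intro he
  apply hS.ne_bot _ h.1
  rw [commutator_eq_bot_iff']
  intro a ha b hb
  have ha' : a ∈ ⁅A, B⁆ := by rw [he]; exact ha
  exact h.2.1 a ha' b (Subgroup.mem_sup_right hb)

/-- a member with a rank one partner meets every other member trivially -/
theorem inf_eq_bot_of_ne (hS : IsRootSubgroupSet S) {A₁ D₁ E : Subgroup G} (hA₁ : A₁ ∈ S)
    (hD₁ : D₁ ∈ S) (hp : IsRankOnePair A₁ D₁) (hE : E ∈ S) (hne : E ≠ A₁) : A₁ ⊓ E = ⊥ := by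
  by_contra hbot
  obtain ⟨x, hx, hx1⟩ := exists_ne_one_of_ne_bot hbot
  exact hne (eq_of_common hS hA₁ hD₁ hp hE hx.1 hx.2 hx1)

/-- elements of the join of two commuting subgroups -/
theorem mem_sup_iff_of_comm {A C : Subgroup G} (hcomm : ∀ c ∈ C, ∀ a ∈ A, c * a = a * c) {x : G} :
    x ∈ A ⊔ C ↔ ∃ a ∈ A, ∃ c ∈ C, x = a * c := by
  have hle : A ≤ Subgroup.normalizer (C : Set G) := fun a ha =>
    mem_normalizer_of_commutes (fun c hc => (hcomm c hc a ha).symm)
  have h1 := Subgroup.coe_mul_of_left_le_normalizer_right A C hle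
  rw [← SetLike.mem_coe, h1, Set.mem_mul]
  constructor
  · rintro ⟨a, ha, c, hc, rfl⟩
    exact ⟨a, ha, c, hc, rfl⟩
  · rintro ⟨a, ha, c, hc, rfl⟩
    exact ⟨a, ha, c, hc, rfl⟩

end comm

end Cfsg.Agent.Lib.Helper4.RootSub3
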