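import Cfsg.Agent.Lib.Helper4.RankOneGrp

set_option autoImplicit false

namespace Cfsg.Agent.Lib.Helper4.RootSub

open Cfsg Cfsg.Agent.Lib.Helper4.RankOneGrp
open scoped commutatorElement

variable {G : Type*} [Group G]

theorem commutator_eq_bot_iff' {A B : Subgroup G} :
    ⁅A, B⁆ = ⊥ ↔ ∀ a ∈ A, ∀ b ∈ B, a * b = b * a := by
  rw [Subgroup.commutator_eq_bot_iff_le_centralizer]
  constructor
  · intro h a ha b hb
    exact ((Subgroup.mem_centralizer_iff.mp (h ha)) b hb).symm
  · intro h a ha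
    rw [Subgroup.mem_centralizer_iff]
    intro b hb
    exact (h a ha b hb).symm

/-- an element commuting elementwise with `A` normalizes it -/
theorem mem_normalizer_of_commutes {A : Subgroup G} {e : G} (h : ∀ x ∈ A, e * x = x * e) :
    e ∈ Subgroup.normalizer (A : Set G) := by
  rw [Subgroup.mem_normalizer_iff]
  intro x
  have : ∀ x, x ∈ A → e * x * e⁻¹ = x := by
    intro x hx
    rw [h x hx, mul_inv_cancel_right]
  constructor
  · intro hx
    rw [this x hx]; exact hx
  · intro hx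
    have h2 : e⁻¹ * (e * x * e⁻¹) * e = x := by group
    have h3 : e⁻¹ * (e * x * e⁻¹) * e = e * x * e⁻¹ := by
      have := h _ hx
      calc e⁻¹ * (e * x * e⁻¹) * e = e⁻¹ * ((e * x * e⁻¹) * e) := by group
        _ = e⁻¹ * (e * (e * x * e⁻¹)) := by rw [this]
        _ = e * x * e⁻¹ := by group
    rw [← h2, h3]; exact hx

/-- The core lemma: a root element congruent to a non-identity element `a` of `A` modulo the
centralizer of the rank one group `⟨A, C⟩` lies in no member of `S` other than `A`. -/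
theorem core {S : Set (Subgroup G)} (hS : IsRootSubgroupSet S) {A C E : Subgroup G}
    (hA : A ∈ S) (hC : C ∈ S) (hE : E ∈ S) (hAC : IsRankOnePair A C) {a z : G} (ha : a ∈ A)
    (ha1 : a ≠ 1) (hzA : ∀ x ∈ A, z * x = x * z) (hzC : ∀ x ∈ C, z * x = x * z)
    (he : z * a ∈ E) (hne : z * a ≠ 1) : E = A := by
  have hAcomm : ∀ x ∈ A, ∀ y ∈ A, x * y = y * x := by
    intro x hx y hy
    have := (hS.commutative A hA).is_comm.comm ⟨x, hx⟩ ⟨y, hy⟩
    exact congrArg Subtype.val this
  -- `e = z * a` commutes with `A`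
  have heA : ∀ x ∈ A, (z * a) * x = x * (z * a) := by
    intro x hx
    rw [mul_assoc, hAcomm a ha x hx, ← mul_assoc, hzA x hx, mul_assoc]
  -- Step 1: `E` and `A` commute
  have hEA : ∀ x ∈ E, ∀ y ∈ A, x * y = y * x := by
    rcases hS.pair E hE A hA with h | h | h
    · exact commutator_eq_bot_iff'.mp h
    · exact absurd (eq_one_of_mem_normalizer h he (mem_normalizer_of_commutes heA)) hne
    · exfalso
      obtain ⟨hmem, -, hcl, -⟩ := h
      have h1 := hcl (z * a) he hne
      have h2 : ((fun y : G => (z * a) * y * (z * a)⁻¹ * y⁻¹) '' (A : Set G)) ⊆ {1} := by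
        rintro _ ⟨y, hy, rfl⟩
        simp only [Set.mem_singleton_iff]
        rw [heA y hy, mul_inv_cancel_right, mul_inv_cancel]
      have h3 : ⁅E, A⁆ = ⊥ := by
        rw [← h1, eq_bot_iff]
        exact (Subgroup.closure_mono h2).trans (by rw [Subgroup.closure_singleton_one])
      exact hS.ne_bot _ hmem h3
  -- Step 2
  have hzinvC : z⁻¹ ∈ Subgroup.normalizer (C : Set G) :=
    inv_mem (mem_normalizer_of_commutes hzC)
  have hCe : conjBy C (z * a)⁻¹ = conjBy C a⁻¹ := by
    rw [mul_inv_rev, ← conjBy_conjBy, conjBy_eq_self_iff.mpr hzinvC]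
  rcases hS.pair E hE C hC with h | h | h
  · -- `a` centralizes `C`
    exfalso
    have h1 := commutator_eq_bot_iff'.mp h
    have h2 : ∀ x ∈ C, a * x = x * a := by
      intro x hx
      have h3 := h1 _ he x hx
      have h4 := hzC x hx
      calc a * x = z⁻¹ * ((z * a) * x) := by group
        _ = z⁻¹ * (x * (z * a)) := by rw [h3]
        _ = z⁻¹ * (x * z) * a := by group
        _ = z⁻¹ * (z * x) * a := by rw [h4]
        _ = x * a := by group
    exact ha1 (eq_one_of_mem_normalizer hAC ha (mem_normalizer_of_commutes h2))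
  · obtain ⟨c', hc', -, hEc'⟩ := h.cond_left (z * a) he hne
    obtain ⟨c, hc, -, hAc⟩ := hAC.cond_left a ha ha1
    rw [hCe, ← hAc, conjBy_eq_iff, inv_inv, conjBy_conjBy] at hEc'
    rcases Delta_conjA_right hAC (mul_mem hc' (inv_mem hc)) with h5 | ⟨a₁, ha₁, h5⟩
    · rw [hEc', h5]
    · exfalso
      rw [← hEc'] at h5
      have h6 : ∀ x ∈ C, ∀ y ∈ A, x * y = y * x := by
        intro x hx y hy
        have hx' : a₁ * x * a₁⁻¹ ∈ E := by rw [h5]; exact conj_mem_conjBy hx
        have hy' : a₁ * y * a₁⁻¹ ∈ A := mul_mem (mul_mem ha₁ hy) (inv_mem ha₁)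
        have h7 := hEA _ hx' _ hy'
        have h8 : x * y = a₁⁻¹ * ((a₁ * x * a₁⁻¹) * (a₁ * y * a₁⁻¹)) * a₁ := by group
        rw [h8, h7]; group
      have h9 : ∀ x ∈ C, a * x = x * a := fun x hx => (h6 x hx a ha).symm
      exact ha1 (eq_one_of_mem_normalizer hAC ha (mem_normalizer_of_commutes h9))
  · exfalso
    obtain ⟨-, hcent, -, -⟩ := h
    obtain ⟨c₀, hc₀, -, hAc₀⟩ := hAC.cond_left a ha ha1
    have hall : ∀ c ∈ C, c = 1 := by
      intro c hc
      have hx : ⁅z * a, c⁆ ∈ ⁅E, C⁆ := Subgroup.commutator_mem_commutator he hc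
      have hxe : ⁅z * a, c⁆ = a * c * a⁻¹ * c⁻¹ := by
        rw [commutatorElement_def]
        have h4 : Commute z c := hzC c hc
        have h5 : Commute z a := hzA a ha
        have h6 : Commute z (a * c * a⁻¹) := (h5.mul_right h4).mul_right h5.inv_right
        have h7 : z * a * c * (z * a)⁻¹ * c⁻¹ = (z * (a * c * a⁻¹) * z⁻¹) * c⁻¹ := by group
        rw [h7, h6.eq, mul_inv_cancel_right]
      rw [hxe] at hx
      -- `x_c` commutes with `C`, hence normalizes it
      have hxN : a * c * a⁻¹ * c⁻¹ ∈ Subgroup.normalizer (C : Set G) :=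
        mem_normalizer_of_commutes (fun y hy => hcent _ hx y (Subgroup.mem_sup_right hy))
      have h8 : conjBy C (a * c * a⁻¹) = C := by
        have := conjBy_eq_self_iff.mpr hxN
        rwa [← conjBy_conjBy, conjBy_of_mem (inv_mem hc)] at this
      -- `c` normalizes `conjBy C a⁻¹ = conjBy A c₀⁻¹`
      have h9 : conjBy (conjBy C a⁻¹) c = conjBy C a⁻¹ := by
        rw [conjBy_conjBy]
        have : c * a⁻¹ = a⁻¹ * (a * c * a⁻¹) := by group
        rw [this, ← conjBy_conjBy, h8]
      rw [← hAc₀, conjBy_conjBy, conjBy_eq_conjBy_iff, inv_inv] at h9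
      have h10 := eq_one_of_mem_normalizer (RankOnePair_symm hAC)
        (mul_mem hc₀ (mul_mem hc (inv_mem hc₀))) h9
      have h11 : c = c₀⁻¹ * (c₀ * (c * c₀⁻¹)) * c₀ := by group
      rw [h11, h10]; group
    obtain ⟨c, hc1⟩ := (Subgroup.ne_bot_iff_exists_ne_one).mp (hS.ne_bot C hC)
    exact hc1 (Subtype.ext (hall c.1 c.2))

end Cfsg.Agent.Lib.Helper4.RootSub
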