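import Cfsg.Agent.Lib.Helper4.RankOneGrp

set_option autoImplicit false

namespace Cfsg.Agent.Lib.Helper4.RankOneGrp2

open Cfsg Cfsg.Agent.Lib.Helper4.RankOneGrp

variable {G : Type*} [Group G] {A B : Subgroup G}

/-- If some element of the normal subgroup `N` moves `A`, then `N ⊔ A = ⊤`. -/
theorem sup_eq_top_of_moves (htop : A ⊔ B = ⊤) (h : IsRankOnePair A B) (N : Subgroup G)
    [hN : N.Normal] {n : G} (hn : n ∈ N) (hne : conjBy A n ≠ A) : N ⊔ A = ⊤ := by
  have hC : conjBy A n ∈ unipotentSubgroups A B :=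
    conjBy_mem_unipotent left_mem_unipotent (by rw [htop]; exact Subgroup.mem_top n)
  obtain ⟨a, ⟨ha, he⟩, -⟩ := regular h hC (right_mem_unipotent h) hne h.ne.symm
  have hB : B ≤ N ⊔ A := by
    rw [← he, conjBy_conjBy]
    have h1 : a * n = (a * n * a⁻¹) * a := by group
    rw [h1, ← conjBy_conjBy, conjBy_of_mem ha]
    exact conjBy_le_sup (hN.conj_mem n hn a)
  rw [eq_top_iff, ← htop]
  exact sup_le le_sup_right hB

/-- A normal subgroup normalizing `A` is central. -/
theorem le_center_of_normalizes (htop : A ⊔ B = ⊤) (h : IsRankOnePair A B) (N : Subgroup G)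
    [hN : N.Normal] (hnorm : ∀ n ∈ N, conjBy A n = A) : N ≤ Subgroup.center G := by
  have hnormB : ∀ n ∈ N, conjBy B n = B := by
    obtain ⟨y, -, hy⟩ := right_mem_unipotent h
    intro n hn
    rw [hy, conjBy_conjBy]
    have h1 : n * y = y * (y⁻¹ * n * y) := by group
    rw [h1, ← conjBy_conjBy, hnorm]
    have := hN.conj_mem n hn y⁻¹
    rwa [inv_inv] at this
  have key : ∀ {A B : Subgroup G}, IsRankOnePair A B → (∀ n ∈ N, conjBy A n = A) →
      (∀ n ∈ N, conjBy B n = B) → ∀ n ∈ N, ∀ a ∈ A, n * a = a * n := by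
    intro A B h hA hB n hn a ha
    have hnA : n ∈ Subgroup.normalizer (A : Set G) := conjBy_eq_self_iff.mp (hA n hn)
    have c1 : n * a * n⁻¹ * a⁻¹ ∈ A :=
      mul_mem ((Subgroup.mem_normalizer_iff.mp hnA a).mp ha) (inv_mem ha)
    have c2 : n * a * n⁻¹ * a⁻¹ ∈ N := by
      have h2 := hN.conj_mem n⁻¹ (inv_mem hn) a
      have h3 : n * a * n⁻¹ * a⁻¹ = n * (a * n⁻¹ * a⁻¹) := by group
      rw [h3]
      exact mul_mem hn h2
    have c3 := eq_one_of_mem_normalizer h c1 (conjBy_eq_self_iff.mp (hB _ c2))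
    have h4 : n * a = (n * a * n⁻¹ * a⁻¹) * (a * n) := by group
    rw [h4, c3, one_mul]
  intro n hn
  have hA : A ≤ Subgroup.centralizer {n} := by
    intro a ha
    rw [Subgroup.mem_centralizer_singleton_iff]
    exact (key h hnorm hnormB n hn a ha).symm
  have hB : B ≤ Subgroup.centralizer {n} := by
    intro b hb
    rw [Subgroup.mem_centralizer_singleton_iff]
    exact (key (RankOnePair_symm h) hnormB hnorm n hn b hb).symm
  rw [Subgroup.mem_center_iff]
  intro g
  have hg : g ∈ Subgroup.centralizer {n} := by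
    have : g ∈ A ⊔ B := by rw [htop]; exact Subgroup.mem_top g
    exact (sup_le hA hB) this
  rw [Subgroup.mem_centralizer_singleton_iff] at hg
  exact hg

/-- the dichotomy for normal subgroups -/
theorem dichotomy (htop : A ⊔ B = ⊤) (h : IsRankOnePair A B) (N : Subgroup G) [N.Normal] :
    N ⊔ A = ⊤ ∨ N ≤ Subgroup.center G := by
  by_cases hex : ∃ n ∈ N, conjBy A n ≠ A
  · obtain ⟨n, hn, hne⟩ := hex
    exact Or.inl (sup_eq_top_of_moves htop h N hn hne)
  · push Not at hex
    exact Or.inr (le_center_of_normalizes htop h N hex)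

/-- The group is not abelian. -/
theorem not_comm (h : IsRankOnePair A B) :
    ¬ (∀ x y : G, x * y = y * x) := by
  intro hc
  obtain ⟨y, -, hy⟩ := right_mem_unipotent h
  apply h.ne
  rw [hy]
  ext x
  rw [mem_conjBy, hc y⁻¹ x, mul_assoc, inv_mul_cancel, mul_one]

end Cfsg.Agent.Lib.Helper4.RankOneGrp2
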