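import Cfsg.Agent.Lib.Helper4.RootLine
import Cfsg.Agent.S5019

set_option autoImplicit false
open Cfsg

namespace Cfsg.Agent.Lib.Helper4.RootLine2

open Cfsg.Agent.Lib.Helper4.RankOneGrp Cfsg.Agent.Lib.Helper4.RootSub
  Cfsg.Agent.Lib.Helper4.RootSub2 Cfsg.Agent.Lib.Helper4.RootSub3
  Cfsg.Agent.Lib.Helper4.RootLine Cfsg.Agent.Lib.Helper4.NilSeries
  Cfsg.Agent.Lib.Helper4.RankOneSub
open scoped commutatorElement

variable {G : Type*} [Group G] {S : Set (Subgroup G)}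

/-- in a class with a rank one pair every member has a rank one partner -/
theorem hall_of_class (hS : IsRootSubgroupClass S) (h : ∃ A ∈ S, ∃ B ∈ S, IsRankOnePair A B) :
    ∀ A ∈ S, ∃ D ∈ S, IsRankOnePair A D := by
  obtain ⟨A₁, hA₁, B₁, hB₁, hp⟩ := h
  intro A hA
  obtain ⟨g, rfl⟩ := hS.2.2 A₁ hA₁ A hA
  exact ⟨conjBy B₁ g, hS.1.conj_mem B₁ hB₁ g, rankOnePair_conj hp g⟩

/-- line partners are symmetric -/
theorem linePartners_symm {A B : Subgroup G} (hA : A ∈ S) (hB : B ∈ linePartners S A) :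
    A ∈ linePartners S B := by
  obtain ⟨⟨-, hBA, hcomm⟩, hpart⟩ := hB
  refine ⟨⟨hA, hBA.symm, ?_⟩, ?_⟩
  · rw [Subgroup.commutator_comm]; exact hcomm
  · rw [sup_comm]; exact hpart

/-- line partners are invariant under conjugation -/
theorem linePartners_conj (hS : IsRootSubgroupSet S) {A B : Subgroup G}
    (hB : B ∈ linePartners S A) (g : G) : conjBy B g ∈ linePartners S (conjBy A g) := by
  obtain ⟨⟨hBS, hBA, hcomm⟩, hpart⟩ := hB
  rw [commutator_eq_bot_iff'] at hcomm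
  refine ⟨⟨hS.conj_mem B hBS g, fun h => hBA (conjBy_inj h), ?_⟩, ?_⟩
  · rw [commutator_eq_bot_iff']
    exact Cfsg.Agent.S5036.comm_conj hcomm g
  · rw [← conjBy_sup]
    have hback : ∀ C ∈ membersIn S (conjBy (A ⊔ B) g), conjBy C g⁻¹ ∈ membersIn S (A ⊔ B) := by
      intro C hC
      refine ⟨hS.conj_mem C hC.1 g⁻¹, ?_⟩
      have := conjBy_mono hC.2 g⁻¹
      rwa [conjBy_conjBy, inv_mul_cancel, conjBy_one] at this
    refine ⟨fun C hC => hC.2, ?_, ?_⟩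
    · intro x hx hx1
      rw [mem_conjBy] at hx
      have hx1' : g⁻¹ * x * g ≠ 1 := by
        intro h
        apply hx1
        have : x = g * (g⁻¹ * x * g) * g⁻¹ := by group
        rw [this, h]; group
      obtain ⟨C, hC, hxC⟩ := hpart.2.1 _ hx hx1'
      refine ⟨conjBy C g, ⟨hS.conj_mem C hC.1 g, conjBy_mono hC.2 g⟩, ?_⟩
      rw [mem_conjBy]; exact hxC
    · intro C hC D hD hCD
      have hne : conjBy C g⁻¹ ≠ conjBy D g⁻¹ := fun h => hCD (conjBy_inj h)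
      have hinf := hpart.2.2 _ (hback C hC) _ (hback D hD) hne
      rw [eq_bot_iff]
      intro x hx
      obtain ⟨hxC, hxD⟩ := Subgroup.mem_inf.mp hx
      have h1 : g⁻¹ * x * g⁻¹⁻¹ ∈ conjBy C g⁻¹ ⊓ conjBy D g⁻¹ :=
        Subgroup.mem_inf.mpr ⟨conj_mem_conjBy hxC, conj_mem_conjBy hxD⟩
      rw [hinf, Subgroup.mem_bot] at h1
      rw [Subgroup.mem_bot]
      have : x = g * (g⁻¹ * x * g⁻¹⁻¹) * g⁻¹ := by group
      rw [this, h1]; group

/-- in a class in which the commutator case and a rank one pair occur, every member has a line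
partner -/
theorem exists_linePartner (hS : IsRootSubgroupClass S)
    (hr : ∃ A ∈ S, ∃ B ∈ S, IsRankOnePair A B) (hc : ∃ A ∈ S, ∃ B ∈ S, RootCommutatorCase S A B)
    {A : Subgroup G} (hA : A ∈ S) : ∃ C, C ∈ linePartners S A := by
  have hall := hall_of_class hS hr
  obtain ⟨A₀, hA₀, B₀, hB₀, hcase⟩ := hc
  obtain ⟨D, hD, hAD⟩ := hall A₀ hA₀
  have hnoniso : ¬ IsIsolatedIn (FAdj S) S A₀ := Cfsg.Agent.S5032.not_isolated hA₀ hD hAD
  obtain ⟨-, -, hline, -⟩ := Cfsg.Agent.S5029.result hS.1 hnoniso hA₀ hB₀ hcase.1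
  obtain ⟨g, rfl⟩ := hS.2.2 _ hcase.1 A hA
  exact ⟨conjBy A₀ g, linePartners_conj hS.1 hline g⟩

/-- the conjugation action of a normalizing subgroup, written additively -/
@[reducible] def conjDistrib {X M : Subgroup G} (hX : X ≤ Subgroup.normalizer (M : Set G)) :
    DistribMulAction ↥X (Additive ↥M) where
  smul x n := Additive.ofMul ⟨(x : G) * ((Additive.toMul n : ↥M) : G) * (x : G)⁻¹,
    conj_mem_of_mem_normalizer (hX x.2) (Additive.toMul n).2⟩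
  one_smul n := by
    apply Additive.toMul.injective
    apply Subtype.ext
    show (1 : G) * _ * (1 : G)⁻¹ = _
    simp
  mul_smul x y n := by
    apply Additive.toMul.injective
    apply Subtype.ext
    show ((x : G) * (y : G)) * _ * ((x : G) * (y : G))⁻¹ = (x : G) * ((y : G) * _ * (y : G)⁻¹) * (x : G)⁻¹
    group
  smul_zero x := by
    apply Additive.toMul.injective
    apply Subtype.ext
    show (x : G) * (1 : G) * (x : G)⁻¹ = 1
    simp
  smul_add x n m := by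
    apply Additive.toMul.injective
    apply Subtype.ext
    show (x : G) * (((Additive.toMul n : ↥M) : G) * ((Additive.toMul m : ↥M) : G)) * (x : G)⁻¹ =
      ((x : G) * ((Additive.toMul n : ↥M) : G) * (x : G)⁻¹) *
        ((x : G) * ((Additive.toMul m : ↥M) : G) * (x : G)⁻¹)
    group

/-- a commutative group structure on an abelian subgroup -/
@[reducible] def commGroupOf {M : Subgroup G} (hM : ∀ x ∈ M, ∀ y ∈ M, x * y = y * x) : CommGroup ↥M :=
  { (inferInstance : Group ↥M) with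
    mul_comm := fun x y => Subtype.ext (hM x.1 x.2 y.1 y.2) }

theorem conjDistrib_coe {X M : Subgroup G} (hX : X ≤ Subgroup.normalizer (M : Set G)) (x : ↥X)
    (n : Additive ↥M) :
    ((Additive.toMul ((conjDistrib hX).smul x n) : ↥M) : G) =
      (x : G) * ((Additive.toMul n : ↥M) : G) * (x : G)⁻¹ := rfl

/-- `(A, B)` is a special rank one pair as soon as there is a member `Q` commuting with `A`, in
the commutator case with `B`, with `⁅⁅Q, B⁆, A⁆ = Q`. -/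
theorem special_of_line (hS : IsRootSubgroupSet S) {A B Q : Subgroup G} (hA : A ∈ S) (hB : B ∈ S)
    (hAB : IsRankOnePair A B) (hQ : Q ∈ S) (hAQ : ∀ x ∈ A, ∀ y ∈ Q, x * y = y * x)
    (hcase : RootCommutatorCase S Q B) (hFAQ : ⁅⁅Q, B⁆, A⁆ = Q) : IsSpecialRankOnePair A B := by
  have hF : ⁅Q, B⁆ ∈ S := hcase.1
  have hcaseFA : RootCommutatorCase S ⁅Q, B⁆ A :=
    commutatorCase_of_mem hS hF hA (by rw [hFAQ]; exact hQ)
  have hFQ : ∀ f ∈ ⁅Q, B⁆, ∀ q ∈ Q, f * q = q * f :=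
    fun f hf q hq => hcase.2.1 f hf q (Subgroup.mem_sup_left hq)
  have hFB : ∀ f ∈ ⁅Q, B⁆, ∀ b ∈ B, f * b = b * f :=
    fun f hf b hb => hcase.2.1 f hf b (Subgroup.mem_sup_right hb)
  have hMab : ∀ x ∈ Q ⊔ ⁅Q, B⁆, ∀ y ∈ Q ⊔ ⁅Q, B⁆, x * y = y * x :=
    Cfsg.Agent.S5030.sup_abelian (fun x hx y hy => comm_of_mem hS hQ hx hy)
      (fun x hx y hy => comm_of_mem hS hF hx hy) (fun q hq f hf => (hFQ f hf q hq).symm)
  -- `A ⊔ B` normalizes `M`
  have hAn : A ≤ Subgroup.normalizer ((Q ⊔ ⁅Q, B⁆ : Subgroup G) : Set G) := by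
    apply le_normalizer_of_conj_mem
    intro a ha
    apply conj_sup_mem
    · intro q hq
      rw [hAQ a ha q hq, mul_inv_cancel_right]
      exact Subgroup.mem_sup_left hq
    · intro f hf
      have h1 : a * f * a⁻¹ ∈ conjBy ⁅Q, B⁆ a := conj_mem_conjBy hf
      have h2 := Cfsg.Agent.S5030.conj_left_le (A := ⁅Q, B⁆) (B := A) a ha h1
      rw [hFAQ, sup_comm] at h2
      exact h2
  have hBn : B ≤ Subgroup.normalizer ((Q ⊔ ⁅Q, B⁆ : Subgroup G) : Set G) := by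
    apply le_normalizer_of_conj_mem
    intro b hb
    apply conj_sup_mem
    · intro q hq
      have h1 : b * q * b⁻¹ ∈ conjBy Q b := conj_mem_conjBy hq
      exact Cfsg.Agent.S5030.conj_left_le (A := Q) (B := B) b hb h1
    · intro f hf
      rw [← hFB f hf b hb, mul_inv_cancel_right]
      exact Subgroup.mem_sup_right hf
  have hXn : A ⊔ B ≤ Subgroup.normalizer ((Q ⊔ ⁅Q, B⁆ : Subgroup G) : Set G) := sup_le hAn hBn
  -- commutators of `A` with `M` lie in `Q`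
  have hcomQ : ∀ a ∈ A, ∀ m ∈ Q ⊔ ⁅Q, B⁆, a * m * a⁻¹ * m⁻¹ ∈ Q := by
    intro a ha m hm
    rw [mem_sup_iff_of_comm hFQ] at hm
    obtain ⟨q, hq, f, hf, rfl⟩ := hm
    have h1 : ⁅a, f⁆ ∈ ⁅A, ⁅Q, B⁆⁆ := Subgroup.commutator_mem_commutator ha hf
    rw [Subgroup.commutator_comm, hFAQ, commutatorElement_def] at h1
    have e : a * (q * f) * a⁻¹ * (q * f)⁻¹ = q * (a * f * a⁻¹ * f⁻¹) * q⁻¹ := by
      have := hAQ a ha q hq
      calc a * (q * f) * a⁻¹ * (q * f)⁻¹ = (a * q) * f * a⁻¹ * f⁻¹ * q⁻¹ := by group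
        _ = q * (a * f * a⁻¹ * f⁻¹) * q⁻¹ := by rw [this]; group
    rw [e]
    exact mul_mem (mul_mem hq h1) (inv_mem hq)
  have hrank := isRankOneGroup_sup hAB
  have hab : HasAbelianUnipotents (A.subgroupOf (A ⊔ B)) (B.subgroupOf (A ⊔ B)) := by
    constructor
    · exact ⟨⟨fun x y => Subtype.ext (Subtype.ext (comm_of_mem hS hA x.2 y.2))⟩⟩
    · exact ⟨⟨fun x y => Subtype.ext (Subtype.ext (comm_of_mem hS hB x.2 y.2))⟩⟩
  let _ : CommGroup ↥(Q ⊔ ⁅Q, B⁆) := commGroupOf hMab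
  let _ : DistribMulAction ↥(A ⊔ B) (Additive ↥(Q ⊔ ⁅Q, B⁆)) := conjDistrib hXn
  have hq : ∀ a ∈ A.subgroupOf (A ⊔ B), ∀ a' ∈ A.subgroupOf (A ⊔ B),
      ∀ n : Additive ↥(Q ⊔ ⁅Q, B⁆), a' • (a • n - n) = a • n - n := by
    intro a ha a' ha' n
    rw [Subgroup.mem_subgroupOf] at ha ha'
    apply Additive.toMul.injective
    apply Subtype.ext
    show (a' : G) * ((a : G) * ((Additive.toMul n : ↥(Q ⊔ ⁅Q, B⁆)) : G) * (a : G)⁻¹ /
      ((Additive.toMul n : ↥(Q ⊔ ⁅Q, B⁆)) : G)) * (a' : G)⁻¹ =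
      (a : G) * ((Additive.toMul n : ↥(Q ⊔ ⁅Q, B⁆)) : G) * (a : G)⁻¹ /
      ((Additive.toMul n : ↥(Q ⊔ ⁅Q, B⁆)) : G)
    rw [div_eq_mul_inv]
    have h1 := hcomQ a ha _ (Additive.toMul n).2
    rw [hAQ _ ha' _ h1, mul_inv_cancel_right]
  have hX : ∃ x y : ↥(A ⊔ B), ∃ n : Additive ↥(Q ⊔ ⁅Q, B⁆), y • (x • n - n) ≠ x • n - n := by
    obtain ⟨a, ha, ha1⟩ := exists_ne_one_left hAB
    obtain ⟨b, hb, hb1⟩ := exists_ne_one_left (RankOnePair_symm hAB)
    obtain ⟨f, hf, hf1⟩ := exists_ne_one_of_ne_bot (hS.ne_bot _ hF)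
    refine ⟨⟨a, Subgroup.mem_sup_left ha⟩, ⟨b, Subgroup.mem_sup_right hb⟩,
      Additive.ofMul ⟨f, Subgroup.mem_sup_right hf⟩, ?_⟩
    intro h
    have h' := congrArg (fun k => ((Additive.toMul k : ↥(Q ⊔ ⁅Q, B⁆)) : G)) h
    have h3 : b * (a * f * a⁻¹ / f) * b⁻¹ = a * f * a⁻¹ / f := h'
    have h'' : b * (a * f * a⁻¹ * f⁻¹) * b⁻¹ = a * f * a⁻¹ * f⁻¹ := by
      rw [div_eq_mul_inv] at h3
      exact h3
    have hq1 : a * f * a⁻¹ * f⁻¹ ∈ Q := hcomQ a ha f (Subgroup.mem_sup_right hf)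
    have hq2 : a * f * a⁻¹ * f⁻¹ ≠ 1 := by
      intro h1
      apply not_comm_of_right hS hA hcaseFA hB hAB hf hf1 ha ha1
      have : a * f = (a * f * a⁻¹ * f⁻¹) * (f * a) := by group
      rw [this, h1, one_mul]
    apply not_comm_of_right hS hB hcase hA (RankOnePair_symm hAB) hq1 hq2 hb hb1
    have : b * (a * f * a⁻¹ * f⁻¹) = b * (a * f * a⁻¹ * f⁻¹) * b⁻¹ * b := by group
    rw [this, h'']
  have hsp := Cfsg.Agent.S5019.result hrank hab hq hX
  refine ⟨hAB, ?_⟩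
  intro a ha ha1 b hb hb1 hrel
  have ha' : (⟨a, Subgroup.mem_sup_left ha⟩ : ↥(A ⊔ B)) ∈ A.subgroupOf (A ⊔ B) := by
    rw [Subgroup.mem_subgroupOf]; exact ha
  have hb' : (⟨b, Subgroup.mem_sup_right hb⟩ : ↥(A ⊔ B)) ∈ B.subgroupOf (A ⊔ B) := by
    rw [Subgroup.mem_subgroupOf]; exact hb
  have hrel' : conjBy (A.subgroupOf (A ⊔ B)) (⟨b, Subgroup.mem_sup_right hb⟩ : ↥(A ⊔ B))⁻¹ =
      conjBy (B.subgroupOf (A ⊔ B)) (⟨a, Subgroup.mem_sup_left ha⟩ : ↥(A ⊔ B))⁻¹ := by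
    ext x
    rw [mem_conjBy_subgroupOf, mem_conjBy_subgroupOf]
    show (x : G) ∈ conjBy A b⁻¹ ↔ (x : G) ∈ conjBy B a⁻¹
    rw [hrel]
  have := hsp.2 _ ha' (fun h => ha1 (congrArg Subtype.val h)) _ hb'
    (fun h => hb1 (congrArg Subtype.val h)) hrel'
  exact congrArg Subtype.val this

end Cfsg.Agent.Lib.Helper4.RootLine2
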