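import Mathlib
import Cfsg.Agent.Lib.Helper1.RW20

/-!
Unit K4 of S2343 (minimal degree of the small Ree groups): a Klein four-group in a group satisfying
Ward's hypotheses.
-/

set_option autoImplicit false
set_option linter.unusedVariables false
set_option linter.unusedSectionVars false

namespace Cfsg.Agent.Lib.Helper4.ReeMD

universe u

/-- a group of order `8` of exponent `2` contains three pairwise commuting involutions
`a`, `b`, `a * b` -/
theorem exists_klein {G : Type u} [Group G] {q r : ℕ} {U H : Subgroup G} {t : G}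
    (W : Cfsg.Agent.Lib.Helper1.RW.Ward0 q r U H t) :
    ∃ a b : G, a ≠ 1 ∧ b ≠ 1 ∧ a * b ≠ 1 ∧ a * a = 1 ∧ b * b = 1 ∧ a * b = b * a := by
  have hq := W.qa.hq27
  have hcard : Nat.card G ≠ 0 := by
    rw [W.card_G]
    have h1 : 0 < q ^ 3 := pow_pos (by omega) 3
    have h2 : 0 < q - 1 := by omega
    have h3 : 0 < q ^ 3 + 1 := by omega
    exact (Nat.mul_pos (Nat.mul_pos h1 h2) h3).ne'
  have : Finite G := Nat.finite_of_card_ne_zero hcard
  have : Fact (Nat.Prime 2) := ⟨Nat.prime_two⟩
  obtain ⟨P⟩ : Nonempty (Sylow 2 G) := inferInstance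
  have hP8 := W.card_sylow_two P
  have hsq := W.sq_eq_one_of_isPGroup P P.isPGroup'
  have hcomm := W.comm_of_isPGroup P P.isPGroup'
  have : Finite (P : Subgroup G) := inferInstance
  -- a nonidentity element
  have h1 : ∃ a : (P : Subgroup G), a ≠ 1 := by
    by_contra hcon
    push Not at hcon
    have : Subsingleton (P : Subgroup G) := ⟨fun x y => by rw [hcon x, hcon y]⟩
    have := Nat.card_of_subsingleton (1 : (P : Subgroup G))
    omega
  obtain ⟨a, ha⟩ := h1
  -- an element outside `{1, a}`
  have h2 : ∃ b : (P : Subgroup G), b ≠ 1 ∧ b ≠ a := by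
    by_contra hcon
    push Not at hcon
    have hle : Nat.card (P : Subgroup G) ≤ 2 := by
      classical
      have : Fintype (P : Subgroup G) := Fintype.ofFinite _
      rw [Nat.card_eq_fintype_card]
      have hsub : (Finset.univ : Finset (P : Subgroup G)) ⊆ {1, a} := by
        intro x _
        by_cases hx : x = 1
        · rw [hx]; exact Finset.mem_insert_self _ _
        · rw [hcon x hx]
          exact Finset.mem_insert_of_mem (Finset.mem_singleton_self _)
      calc Fintype.card (P : Subgroup G) = (Finset.univ : Finset (P : Subgroup G)).card := rfl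
        _ ≤ ({1, a} : Finset (P : Subgroup G)).card := Finset.card_le_card hsub
        _ ≤ 2 := Finset.card_le_two
    omega
  obtain ⟨b, hb1, hba⟩ := h2
  have haa : (a : G) * a = 1 := hsq a a.2
  have hbb : (b : G) * b = 1 := hsq b b.2
  refine ⟨a, b, ?_, ?_, ?_, haa, hbb, hcomm a b a.2 b.2⟩
  · intro h
    exact ha (Subtype.ext h)
  · intro h
    exact hb1 (Subtype.ext h)
  · intro h
    apply hba
    apply Subtype.ext
    -- `a * b = 1` and `a * a = 1` give `b = a`
    have : (a : G) * b = a * a := by rw [h, haa]
    exact (mul_left_cancel this)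

end Cfsg.Agent.Lib.Helper4.ReeMD
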