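import Cfsg.Agent.Lib.Helper4.RootSub

set_option autoImplicit false

namespace Cfsg.Agent.Lib.Helper4.RootSub2

open Cfsg Cfsg.Agent.Lib.Helper4.RankOneGrp Cfsg.Agent.Lib.Helper4.RootSub
open scoped commutatorElement

variable {G : Type*} [Group G]

theorem conjBy_sup (A B : Subgroup G) (g : G) : conjBy (A ⊔ B) g = conjBy A g ⊔ conjBy B g :=
  Subgroup.map_sup A B _

theorem conjBy_mono {A B : Subgroup G} (h : A ≤ B) (g : G) : conjBy A g ≤ conjBy B g :=
  Subgroup.map_mono h

theorem conjBy_le_of_mem {A Y : Subgroup G} (h : A ≤ Y) {g : G} (hg : g ∈ Y) : conjBy A g ≤ Y := by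
  have := conjBy_mono h g
  rwa [conjBy_of_mem hg] at this

/-- Conjugation invariance of rank one pairs. -/
theorem rankOnePair_conj {A B : Subgroup G} (h : IsRankOnePair A B) (g : G) :
    IsRankOnePair (conjBy A g) (conjBy B g) where
  ne := fun he => h.ne (conjBy_inj he)
  nilpotent_left := by
    have := h.nilpotent_left
    exact Group.nilpotent_of_surjective _
      (MonoidHom.subgroupMap_surjective (MulAut.conj g).toMonoidHom A)
  nilpotent_right := by
    have := h.nilpotent_right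
    exact Group.nilpotent_of_surjective _
      (MonoidHom.subgroupMap_surjective (MulAut.conj g).toMonoidHom B)
  cond_left := by
    intro a ha ha1
    rw [mem_conjBy] at ha
    have ha1' : g⁻¹ * a * g ≠ 1 := by
      intro he
      apply ha1
      have : a = g * (g⁻¹ * a * g) * g⁻¹ := by group
      rw [this, he]; group
    obtain ⟨b, hb, hb1, hAB⟩ := h.cond_left _ ha ha1'
    refine ⟨g * b * g⁻¹, conj_mem_conjBy hb, ?_, ?_⟩
    · intro he
      apply hb1
      have : b = g⁻¹ * (g * b * g⁻¹) * g := by group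
      rw [this, he]; group
    · rw [conjBy_conjBy, conjBy_conjBy]
      have e1 : (g * b * g⁻¹)⁻¹ * g = g * b⁻¹ := by group
      have e2 : a⁻¹ * g = g * (g⁻¹ * a * g)⁻¹ := by group
      rw [e1, e2, ← conjBy_conjBy, ← conjBy_conjBy B, hAB]
  cond_right := by
    intro b hb hb1
    rw [mem_conjBy] at hb
    have hb1' : g⁻¹ * b * g ≠ 1 := by
      intro he
      apply hb1
      have : b = g * (g⁻¹ * b * g) * g⁻¹ := by group
      rw [this, he]; group
    obtain ⟨a, ha, ha1, hBA⟩ := h.cond_right _ hb hb1'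
    refine ⟨g * a * g⁻¹, conj_mem_conjBy ha, ?_, ?_⟩
    · intro he
      apply ha1
      have : a = g⁻¹ * (g * a * g⁻¹) * g := by group
      rw [this, he]; group
    · rw [conjBy_conjBy, conjBy_conjBy]
      have e1 : (g * a * g⁻¹)⁻¹ * g = g * a⁻¹ := by group
      have e2 : b⁻¹ * g = g * (g⁻¹ * b * g)⁻¹ := by group
      rw [e1, e2, ← conjBy_conjBy, ← conjBy_conjBy A, hBA]

theorem unipotent_le {C D E : Subgroup G} (hE : E ∈ unipotentSubgroups C D) : E ≤ C ⊔ D := by
  obtain ⟨x, hx, rfl⟩ := hE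
  exact conjBy_le_of_mem le_sup_left hx

/-- Two different unipotent subgroups form a rank one pair generating the same group. -/
theorem pair_of_distinct {C D E₁ E₂ : Subgroup G} (h : IsRankOnePair C D)
    (h₁ : E₁ ∈ unipotentSubgroups C D) (h₂ : E₂ ∈ unipotentSubgroups C D) (hne : E₁ ≠ E₂) :
    IsRankOnePair E₁ E₂ ∧ E₁ ⊔ E₂ = C ⊔ D := by
  obtain ⟨x, hx, hx1, hx2⟩ := move_to_AB h h₁ h₂ hne
  rw [conjBy_eq_iff] at hx1 hx2
  rw [hx1, hx2]
  refine ⟨rankOnePair_conj h x⁻¹, ?_⟩
  rw [← conjBy_sup, conjBy_of_mem (inv_mem hx)]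

theorem unipotent_mem_S {S : Set (Subgroup G)} (hS : IsRootSubgroupSet S) {C D E : Subgroup G}
    (hC : C ∈ S) (hE : E ∈ unipotentSubgroups C D) : E ∈ S := by
  obtain ⟨x, -, rfl⟩ := hE
  exact hS.conj_mem C hC x

theorem exists_other {C D E : Subgroup G} (h : IsRankOnePair C D) :
    ∃ E' ∈ unipotentSubgroups C D, E' ≠ E := by
  by_cases hEC : C = E
  · exact ⟨D, right_mem_unipotent h, fun he => h.ne (hEC.trans he.symm)⟩
  · exact ⟨C, left_mem_unipotent, hEC⟩

theorem exists_ne_one_of_ne_bot {H : Subgroup G} (h : H ≠ ⊥) : ∃ x ∈ H, x ≠ 1 := by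
  obtain ⟨x, hx1⟩ := (Subgroup.ne_bot_iff_exists_ne_one).mp h
  exact ⟨x.1, x.2, fun h => hx1 (Subtype.ext h)⟩

end Cfsg.Agent.Lib.Helper4.RootSub2
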