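import Cfsg.Agent.Lib.Helper4.RootSub3
import Cfsg.Agent.S5018

set_option autoImplicit false

namespace Cfsg.Agent.Lib.Helper4.RankOneSub

open Cfsg Cfsg.Agent.Lib.Helper4.RankOneGrp

variable {G : Type*} [Group G]

theorem mem_conjBy_subgroupOf {X A : Subgroup G} {g x : ↥X} :
    x ∈ conjBy (A.subgroupOf X) g ↔ (x : G) ∈ conjBy A (g : G) := by
  rw [mem_conjBy, mem_conjBy, Subgroup.mem_subgroupOf]
  rfl

/-- a rank one pair, viewed inside the group it generates, is a rank one group -/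
theorem isRankOneGroup_sup {A D : Subgroup G} (h : IsRankOnePair A D) :
    IsRankOneGroup ↥(A ⊔ D) (A.subgroupOf (A ⊔ D)) (D.subgroupOf (A ⊔ D)) := by
  have hA : A ≤ A ⊔ D := le_sup_left
  have hD : D ≤ A ⊔ D := le_sup_right
  constructor
  · apply Subgroup.map_injective (Subgroup.subtype_injective (A ⊔ D))
    rw [Subgroup.map_sup, Subgroup.subgroupOf_map_subtype, Subgroup.subgroupOf_map_subtype,
      inf_of_le_left hA, inf_of_le_left hD, ← MonoidHom.range_eq_map, Subgroup.range_subtype]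
  · refine ⟨?_, ?_, ?_, ?_, ?_⟩
    · intro he
      rw [Subgroup.subgroupOf_inj, inf_of_le_left hA, inf_of_le_left hD] at he
      exact h.ne he
    · have := h.nilpotent_left
      exact Group.nilpotent_of_mulEquiv (Subgroup.subgroupOfEquivOfLe hA).symm
    · have := h.nilpotent_right
      exact Group.nilpotent_of_mulEquiv (Subgroup.subgroupOfEquivOfLe hD).symm
    · intro a ha ha1
      rw [Subgroup.mem_subgroupOf] at ha
      have ha1' : (a : G) ≠ 1 := fun h => ha1 (Subtype.ext h)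
      obtain ⟨d, hd, hd1, heq⟩ := h.cond_left a.1 ha ha1'
      refine ⟨⟨d, hD hd⟩, hd, fun h => hd1 (congrArg Subtype.val h), ?_⟩
      ext x
      rw [mem_conjBy_subgroupOf, mem_conjBy_subgroupOf]
      show (x : G) ∈ conjBy A d⁻¹ ↔ (x : G) ∈ conjBy D (a : G)⁻¹
      rw [heq]
    · intro d hd hd1
      rw [Subgroup.mem_subgroupOf] at hd
      have hd1' : (d : G) ≠ 1 := fun h => hd1 (Subtype.ext h)
      obtain ⟨a, ha, ha1, heq⟩ := h.cond_right d.1 hd hd1'
      refine ⟨⟨a, hA ha⟩, ha, fun h => ha1 (congrArg Subtype.val h), ?_⟩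
      ext x
      rw [mem_conjBy_subgroupOf, mem_conjBy_subgroupOf]
      show (x : G) ∈ conjBy D a⁻¹ ↔ (x : G) ∈ conjBy A (d : G)⁻¹
      rw [heq]

/-- the group generated by a rank one pair is not nilpotent -/
theorem not_nilpotent_of_pair {A D : Subgroup G} (h : IsRankOnePair A D) :
    ¬ Group.IsNilpotent ↥(A ⊔ D) :=
  (Cfsg.Agent.S5018.result (isRankOneGroup_sup h)).2

end Cfsg.Agent.Lib.Helper4.RankOneSub
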