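import Mathlib
import Cfsg.Prelude.Def_LieExceptional
import Cfsg.Prelude.Def_Sz
import Cfsg.Agent.Lib.Helper4.Suz13

/-!
# Bridge between the two models of the Suzuki group, part 1: absolute points
-/

set_option autoImplicit false
set_option linter.unusedSimpArgs false
set_option linter.unusedVariables false
set_option linter.style.haveILetI false

namespace Cfsg.Agent.Lib.Helper4.Suz

open Matrix

variable {F : Type*} [Field F] [Fintype F] {m : ℕ}

/-- 2 × 2 minor of the 4 × 2 matrix with columns `c`, `d`. -/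
def mnr (c d : Fin 4 → F) (i j : Fin 4) : F := c i * d j - c j * d i

/-- Absolute points of the polarity. -/
def Abs (m : ℕ) (c : Fin 4 → F) : Prop :=
  ∃ d : Fin 4 → F, Cfsg.Lie.altForm4 c d = 0 ∧
    mnr c d 0 1 = th m (c 0) ∧ mnr c d 0 2 = th m (c 1) ∧
    mnr c d 1 3 = th m (c 2) ∧ mnr c d 2 3 = th m (c 3)

omit [Fintype F] in
theorem altForm4_eq (u v : Fin 4 → F) : Cfsg.Lie.altForm4 u v = u ⬝ᵥ (wM *ᵥ v) := by
  simp [Cfsg.Lie.altForm4, wM, Matrix.mulVec, dotProduct, Fin.sum_univ_four]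

omit [Fintype F] in
theorem altForm4_mulVec {M : Matrix (Fin 4) (Fin 4) F} (hM : IsSp M) (u v : Fin 4 → F) :
    Cfsg.Lie.altForm4 (M *ᵥ u) (M *ᵥ v) = Cfsg.Lie.altForm4 u v := by
  rw [altForm4_eq, altForm4_eq]
  unfold IsSp at hM
  have : wM *ᵥ v = Mᵀ *ᵥ (wM *ᵥ (M *ᵥ v)) := by
    rw [Matrix.mulVec_mulVec, Matrix.mulVec_mulVec, hM]
  conv_rhs => rw [this, Matrix.dotProduct_mulVec, Matrix.vecMul_transpose]

omit [Fintype F] in
/-- Row version of the symplectic condition. -/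
theorem IsSp.rows {M : Matrix (Fin 4) (Fin 4) F} (hM : IsSp M) : M * wM * Mᵀ = wM := by
  unfold IsSp at hM
  have h1 : (wM * Mᵀ * wM) * M = 1 := by
    rw [Matrix.mul_assoc, Matrix.mul_assoc, ← Matrix.mul_assoc Mᵀ, hM, wM_mul_wM]
  have h2 : M * (wM * Mᵀ * wM) = 1 := _root_.mul_eq_one_comm.mp h1
  calc M * wM * Mᵀ = M * (wM * Mᵀ * wM) * wM := by
        simp only [Matrix.mul_assoc]
        rw [wM_mul_wM, Matrix.mul_one]
    _ = wM := by rw [h2, Matrix.one_mul]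

omit [Fintype F] in
theorem IsSp.row_apply {M : Matrix (Fin 4) (Fin 4) F} (hM : IsSp M) (k l : Fin 4) :
    M k 0 * M l 3 + M k 1 * M l 2 + M k 2 * M l 1 + M k 3 * M l 0 =
      (wM : Matrix (Fin 4) (Fin 4) F) k l := by
  rw [← hM.rows]
  simp [Matrix.mul_apply, Fin.sum_univ_four, wM]
  ring

omit [Fintype F] in
theorem mulVec_apply4 (M : Matrix (Fin 4) (Fin 4) F) (v : Fin 4 → F) (i : Fin 4) :
    (M *ᵥ v) i = M i 0 * v 0 + M i 1 * v 1 + M i 2 * v 2 + M i 3 * v 3 := by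
  simp [Matrix.mulVec, dotProduct, Fin.sum_univ_four]

omit [Fintype F] in
/-- Cauchy–Binet for isotropic pairs in characteristic 2. -/
theorem mnr_mulVec (h2 : (2 : F) = 0) {M : Matrix (Fin 4) (Fin 4) F} (hsp : IsSp M)
    {c d : Fin 4 → F} (hB : Cfsg.Lie.altForm4 c d = 0) (k l : Fin 4)
    (hkl : (wM : Matrix (Fin 4) (Fin 4) F) k l = 0) :
    mnr (M *ᵥ c) (M *ᵥ d) k l =
      (M k 0 * M l 1 - M l 0 * M k 1) * mnr c d 0 1 +
      (M k 0 * M l 2 - M l 0 * M k 2) * mnr c d 0 2 +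
      (M k 1 * M l 3 - M l 1 * M k 3) * mnr c d 1 3 +
      (M k 2 * M l 3 - M l 2 * M k 3) * mnr c d 2 3 := by
  have hR := hsp.row_apply k l
  rw [hkl] at hR
  unfold Cfsg.Lie.altForm4 at hB
  have hX : (M k 0 * M l 3 - M l 0 * M k 3) + (M k 1 * M l 2 - M l 1 * M k 2) = 0 := by
    linear_combination hR - (M l 0 * M k 3 + M l 1 * M k 2) * h2
  have hm : (c 0 * d 3 - c 3 * d 0) + (c 1 * d 2 - c 2 * d 1) = 0 := by
    linear_combination hB - (c 3 * d 0 + c 2 * d 1) * h2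
  unfold mnr
  rw [mulVec_apply4, mulVec_apply4, mulVec_apply4, mulVec_apply4]
  linear_combination (M k 1 * M l 2 - M l 1 * M k 2) * hm + (c 0 * d 3 - c 3 * d 0) * hX -
    ((M k 1 * M l 2 - M l 1 * M k 2) * (c 0 * d 3 - c 3 * d 0)) * h2

/-- The set of absolute points is invariant under symplectic matrices commuting with the polarity. -/
theorem abs_mulVec (hF : Fintype.card F = 2 ^ (2 * m + 1)) {M : Matrix (Fin 4) (Fin 4) F}
    (hsp : IsSp M)
    (hst : Cfsg.Lie.star4 M = M.map (fun x => x ^ 2 ^ (m + 1))) {c : Fin 4 → F}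
    (hc : Abs m c) : Abs m (M *ᵥ c) := by
  have h2 := two_eq_zero hF
  obtain ⟨d, hB, h01, h02, h13, h23⟩ := hc
  have hs : ∀ p r : Fin 4, Cfsg.Lie.star4 M p r = th m (M p r) := by
    intro p r
    rw [hst]; rfl
  have hth : ∀ p : Fin 4, th m ((M *ᵥ c) p) =
      th m (M p 0) * th m (c 0) + th m (M p 1) * th m (c 1) + th m (M p 2) * th m (c 2) +
        th m (M p 3) * th m (c 3) := by
    intro p
    rw [mulVec_apply4]
    simp only [th_add hF, th_mul]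
  refine ⟨M *ᵥ d, ?_, ?_, ?_, ?_, ?_⟩
  · rw [altForm4_mulVec hsp]; exact hB
  · rw [mnr_mulVec h2 hsp hB 0 1 (by simp [wM]), hth, h01, h02, h13, h23,
      ← hs 0 0, ← hs 0 1, ← hs 0 2, ← hs 0 3]
    simp [Cfsg.Lie.star4, Cfsg.Lie.pairOf]
  · rw [mnr_mulVec h2 hsp hB 0 2 (by simp [wM]), hth, h01, h02, h13, h23,
      ← hs 1 0, ← hs 1 1, ← hs 1 2, ← hs 1 3]
    simp [Cfsg.Lie.star4, Cfsg.Lie.pairOf]
  · rw [mnr_mulVec h2 hsp hB 1 3 (by simp [wM]), hth, h01, h02, h13, h23,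
      ← hs 2 0, ← hs 2 1, ← hs 2 2, ← hs 2 3]
    simp [Cfsg.Lie.star4, Cfsg.Lie.pairOf]
  · rw [mnr_mulVec h2 hsp hB 2 3 (by simp [wM]), hth, h01, h02, h13, h23,
      ← hs 3 0, ← hs 3 1, ← hs 3 2, ← hs 3 3]
    simp [Cfsg.Lie.star4, Cfsg.Lie.pairOf]

end Cfsg.Agent.Lib.Helper4.Suz
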