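import Mathlib
import Cfsg.Prelude.Def_LieExceptional
import Cfsg.Prelude.Def_Sz
import Cfsg.Agent.Lib.Helper4.SzB1

/-!
# Bridge between the two models of the Suzuki group, part 2: absolute points are the ovoid points
-/

set_option autoImplicit false
set_option linter.unusedSimpArgs false
set_option linter.unusedVariables false
set_option linter.style.haveILetI false

namespace Cfsg.Agent.Lib.Helper4.Suz

open Matrix

variable {F : Type*} [Field F] [Fintype F] {m : ℕ}

omit [Fintype F] in
theorem abs_e0 : Abs m (e0 : Fin 4 → F) := by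
  refine ⟨![0, 1, 0, 0], ?_, ?_, ?_, ?_, ?_⟩ <;>
    simp [Cfsg.Lie.altForm4, mnr, e0, th_zero, th_one]

theorem abs_vc (hF : Fintype.card F = 2 ^ (2 * m + 1)) (x y : F) : Abs m (vc m x y) := by
  have h2 := two_eq_zero hF
  refine ⟨![y + x * th m x, th m x, 1, 0], ?_, ?_, ?_, ?_, ?_⟩
  · simp only [Cfsg.Lie.altForm4, vc, Matrix.cons_val_zero, Matrix.cons_val_one, Matrix.cons_val]
    linear_combination (y + x * th m x) * h2
  · simp only [mnr, vc, Matrix.cons_val_zero, Matrix.cons_val_one, Matrix.cons_val]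
    rw [th_ff hF]
    unfold ff
    linear_combination (- y ^ 2) * h2
  · simp only [mnr, vc, Matrix.cons_val_zero, Matrix.cons_val_one, Matrix.cons_val]
    unfold ff
    ring
  · simp only [mnr, vc, Matrix.cons_val_zero, Matrix.cons_val_one, Matrix.cons_val]
    linear_combination (- th m x) * h2
  · simp only [mnr, vc, Matrix.cons_val_zero, Matrix.cons_val_one, Matrix.cons_val]
    rw [th_one]
    linear_combination (-1 : F) * h2

omit [Fintype F] in
theorem abs_smul {c : Fin 4 → F} (hc : Abs m c) {l : F} (hl : l ≠ 0) : Abs m (l • c) := by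
  obtain ⟨d, hB, h01, h02, h13, h23⟩ := hc
  refine ⟨(th m l / l) • d, ?_, ?_, ?_, ?_, ?_⟩
  · unfold Cfsg.Lie.altForm4 at hB ⊢
    simp only [Pi.smul_apply, smul_eq_mul]
    have : l * c 0 * (th m l / l * d 3) + l * c 1 * (th m l / l * d 2) +
        l * c 2 * (th m l / l * d 1) + l * c 3 * (th m l / l * d 0) =
        th m l * (c 0 * d 3 + c 1 * d 2 + c 2 * d 1 + c 3 * d 0) := by
      field_simp
    rw [this, hB, mul_zero]
  all_goals
    simp only [mnr, Pi.smul_apply, smul_eq_mul, th_mul] at *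
  · rw [← h01]; field_simp
  · rw [← h02]; field_simp
  · rw [← h13]; field_simp
  · rw [← h23]; field_simp

theorem abs_normalized (hF : Fintype.card F = 2 ^ (2 * m + 1)) {c : Fin 4 → F} (hc : Abs m c)
    (h3 : c 3 = 1) : c = vc m (c 2) (c 1) := by
  have h2 := two_eq_zero hF
  obtain ⟨d, hB, h01, h02, h13, h23⟩ := hc
  unfold Cfsg.Lie.altForm4 at hB
  unfold mnr at h01 h02 h13 h23
  rw [h3] at hB h13 h23
  rw [th_one] at h23
  have h0 : c 0 = ff m (c 2) (c 1) := by
    unfold ff
    linear_combination -h02 - c 2 * hB - (c 0 + c 2 * c 1) * h23 - c 2 ^ 2 * h13 +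
      (c 0 * c 2 * d 3 + c 2 ^ 2 * c 1 * d 3 - c 2 * c 1 - c 2 ^ 2 * th m (c 2) - th m (c 1)) * h2
  funext i
  fin_cases i
  · simpa [vc] using h0
  · simp [vc]
  · simp [vc]
  · simpa [vc] using h3

theorem abs_cases (hF : Fintype.card F = 2 ^ (2 * m + 1)) {c : Fin 4 → F} (hc : Abs m c)
    (hne : c ≠ 0) : ∃ l : F, l ≠ 0 ∧ (c = l • e0 ∨ ∃ x y, c = l • vc m x y) := by
  by_cases h3 : c 3 = 0
  · obtain ⟨d, hB, h01, h02, h13, h23⟩ := hc
    unfold Cfsg.Lie.altForm4 at hB
    unfold mnr at h01 h02 h13 h23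
    rw [h3] at hB h13 h23
    rw [th_zero] at h23
    simp only [zero_mul, sub_zero, add_zero] at hB h13 h23
    have hc2 : c 2 = 0 := by
      rcases mul_eq_zero.mp h23 with h | h
      · exact h
      · rw [h, mul_zero] at h13
        exact th_eq_zero h13.symm
    rw [hc2, th_zero] at h13
    rw [hc2] at hB h02
    simp only [zero_mul, sub_zero, add_zero] at hB h02
    have hc1 : c 1 = 0 := by
      by_contra h1
      have hd3 : d 3 = 0 := by
        rcases mul_eq_zero.mp h13 with h | h
        · exact absurd h h1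
        · exact h
      rw [hd3, mul_zero, zero_add] at hB
      have hd2 : d 2 = 0 := by
        rcases mul_eq_zero.mp hB with h | h
        · exact absurd h h1
        · exact h
      rw [hd2, mul_zero] at h02
      exact h1 (th_eq_zero h02.symm)
    have hc0 : c 0 ≠ 0 := by
      intro h0
      apply hne
      funext i
      fin_cases i
      · exact h0
      · exact hc1
      · exact hc2
      · exact h3
    refine ⟨c 0, hc0, Or.inl ?_⟩
    funext i
    fin_cases i
    · simp [e0]
    · simpa [e0] using hc1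
    · simpa [e0] using hc2
    · simpa [e0] using h3
  · refine ⟨c 3, h3, Or.inr ?_⟩
    have hc' : Abs m ((c 3)⁻¹ • c) := abs_smul hc (inv_ne_zero h3)
    have h31 : ((c 3)⁻¹ • c) 3 = 1 := by
      simp only [Pi.smul_apply, smul_eq_mul]
      exact inv_mul_cancel₀ h3
    have := abs_normalized hF hc' h31
    refine ⟨((c 3)⁻¹ • c) 2, ((c 3)⁻¹ • c) 1, ?_⟩
    rw [← this, smul_smul, mul_inv_cancel₀ h3, one_smul]

end Cfsg.Agent.Lib.Helper4.Suz
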