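import Mathlib
import Cfsg.Prelude.Def_LieExceptional
import Cfsg.Prelude.Def_Sz
import Cfsg.Agent.Lib.Helper4.SzB2

/-!
# Bridge between the two models of the Suzuki group, part 3: the generators commute with the polarity
-/

set_option autoImplicit false
set_option linter.unusedSimpArgs false
set_option linter.unusedVariables false
set_option linter.style.haveILetI false

namespace Cfsg.Agent.Lib.Helper4.Suz

open Matrix

variable {F : Type*} [Field F] [Fintype F] {m : ℕ}

omit [Fintype F] in
theorem pow_eq_th (x : F) : x ^ 2 ^ (m + 1) = th m x := rfl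

theorem star4_wM (hF : Fintype.card F = 2 ^ (2 * m + 1)) :
    Cfsg.Lie.star4 (wM : Matrix (Fin 4) (Fin 4) F) =
    (wM : Matrix (Fin 4) (Fin 4) F).map (fun x => x ^ 2 ^ (m + 1)) := by
  have h2 := two_eq_zero hF
  ext p r
  fin_cases p <;> fin_cases r <;>
    simp [Cfsg.Lie.star4, Cfsg.Lie.pairOf, wM] <;> exact neg_eq' h2 1

theorem star4_uM (hF : Fintype.card F = 2 ^ (2 * m + 1)) (a b : F) :
    Cfsg.Lie.star4 (uM m a b) = (uM m a b).map (fun x => x ^ 2 ^ (m + 1)) := by
  have h2 := two_eq_zero hF
  ext p r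
  fin_cases p <;> fin_cases r <;>
    simp only [Cfsg.Lie.star4, Cfsg.Lie.pairOf, uM, Matrix.map_apply, Matrix.of_apply,
      Matrix.cons_val_zero, Matrix.cons_val_one, Matrix.cons_val, pow_eq_th, th_zero, th_one,
      th_add hF, th_mul, th_th hF, th_ff hF, Fin.zero_eta, Fin.mk_one, Fin.reduceFinMk,
      mul_one, mul_zero, zero_mul, sub_zero, one_mul] <;>
    (try unfold ff) <;>
    (try (rw [← sub_eq_zero]; ring_nf;
          try simp only [m2 h2, m3 h2, m4 h2, add_zero, neg_zero, sub_zero, zero_add, sub_self]))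

end Cfsg.Agent.Lib.Helper4.Suz
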