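import Mathlib
import Cfsg.Prelude.Def_LieExceptional
import Cfsg.Prelude.Def_Sz
import Cfsg.Agent.Lib.Helper4.SzB3

/-!
# Bridge between the two models of the Suzuki group, part 4: the two groups agree
-/

set_option autoImplicit false
set_option linter.unusedSimpArgs false
set_option linter.unusedVariables false
set_option linter.style.haveILetI false

namespace Cfsg.Agent.Lib.Helper4.Suz

open Matrix

variable {F : Type*} [Field F] [Fintype F] {m : ℕ}

omit [Fintype F] in
theorem altForm4_mulVec' (M : Matrix (Fin 4) (Fin 4) F) (u v : Fin 4 → F) :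
    Cfsg.Lie.altForm4 (M *ᵥ u) (M *ᵥ v) = u ⬝ᵥ ((Mᵀ * wM * M) *ᵥ v) := by
  rw [altForm4_eq, ← Matrix.mulVec_mulVec, ← Matrix.mulVec_mulVec]
  conv_rhs => rw [Matrix.dotProduct_mulVec, Matrix.vecMul_transpose]

omit [Fintype F] in
theorem sp4_iff (g : GL (Fin 4) F) :
    g ∈ Cfsg.Lie.Sp4 F ↔ IsSp (g : Matrix (Fin 4) (Fin 4) F) := by
  constructor
  · intro h
    have h' : ∀ u v : Fin 4 → F,
        Cfsg.Lie.altForm4 ((g : Matrix (Fin 4) (Fin 4) F) *ᵥ u)
          ((g : Matrix (Fin 4) (Fin 4) F) *ᵥ v) = Cfsg.Lie.altForm4 u v := h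
    unfold IsSp
    ext i j
    have := h' (Pi.single i 1) (Pi.single j 1)
    rw [altForm4_mulVec', altForm4_eq] at this
    simpa [Matrix.mulVec_single_one, single_one_dotProduct] using this
  · intro h u v
    exact altForm4_mulVec h u v

theorem det_of_isSp (hF : Fintype.card F = 2 ^ (2 * m + 1)) {M : Matrix (Fin 4) (Fin 4) F}
    (hM : IsSp M) : M.det = 1 := by
  have h2 := two_eq_zero hF
  unfold IsSp at hM
  have := congrArg Matrix.det hM
  rw [Matrix.det_mul, Matrix.det_mul, Matrix.det_transpose, det_wM hF, mul_one] at this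
  apply sq_inj h2
  rw [one_pow, sq]
  exact this

/-- The defining generators of `Lie.Sz`. -/
def GenSet (F : Type*) [Field F] (m : ℕ) : Set (GL (Fin 4) F) :=
  {g | g ∈ Cfsg.Lie.Sp4 F ∧ Cfsg.Lie.star4 (g : Matrix (Fin 4) (Fin 4) F) =
    (g : Matrix (Fin 4) (Fin 4) F).map (fun x => x ^ 2 ^ (m + 1))}

omit [Fintype F] in
theorem lieSz_eq : Cfsg.Lie.Sz F (2 ^ (m + 1)) = Subgroup.closure (GenSet F m) := rfl

/-- A matrix preserving absolute points stabilises the ovoid. -/
theorem mem_Sz_of_abs (hF : Fintype.card F = 2 ^ (2 * m + 1))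
    (s : Matrix.SpecialLinearGroup (Fin 4) F)
    (h : ∀ c : Fin 4 → F, Abs m c → Abs m (s.1 *ᵥ c)) : s ∈ Cfsg.Sz F m := by
  rw [MulAction.mem_stabilizer_set' (ovoid_finite m)]
  have key : ∀ v : Fin 4 → F, ∀ hv : v ≠ 0, Abs m v →
      s • Projectivization.mk F v hv ∈ Cfsg.suzukiOvoid F m := by
    intro v hv ha
    have hne : s.1 *ᵥ v ≠ 0 := by
      intro h0
      apply hv
      have hdet : s.1.det ≠ 0 := by rw [s.2]; exact one_ne_zero
      exact Matrix.eq_zero_of_mulVec_eq_zero hdet h0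
    obtain ⟨l, hl, hc | ⟨x, y, hc⟩⟩ := abs_cases hF (h v ha) hne
    · rw [mem_ovoid_iff]
      left
      exact smul_mk_eq s hv e0_ne l hl hc
    · rw [mem_ovoid_iff]
      right
      exact ⟨x, y, smul_mk_eq s hv (vc_ne m x y) l hl hc⟩
  intro p hp
  rw [mem_ovoid_iff] at hp
  rcases hp with rfl | ⟨x, y, rfl⟩
  · exact key e0 e0_ne abs_e0
  · exact key (vc m x y) (vc_ne m x y) (abs_vc hF x y)

theorem genSet_subset (hF : Fintype.card F = 2 ^ (2 * m + 1)) :
    GenSet F m ⊆ ((Cfsg.Sz F m).map Matrix.SpecialLinearGroup.toGL : Subgroup (GL (Fin 4) F)) := by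
  intro g hg
  obtain ⟨hsp, hst⟩ := hg
  rw [sp4_iff] at hsp
  have hdet := det_of_isSp hF hsp
  refine ⟨⟨(g : Matrix (Fin 4) (Fin 4) F), hdet⟩, ?_, ?_⟩
  · apply mem_Sz_of_abs hF
    intro c hc
    exact abs_mulVec hF hsp hst hc
  · apply Units.ext
    rfl

theorem toGL_uS_mem (hF : Fintype.card F = 2 ^ (2 * m + 1)) (a b : F) :
    Matrix.SpecialLinearGroup.toGL (uS m a b) ∈ GenSet F m := by
  refine ⟨?_, ?_⟩
  · rw [sp4_iff]
    exact isSp_uM hF a b
  · exact star4_uM hF a b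

theorem toGL_wS_mem (hF : Fintype.card F = 2 ^ (2 * m + 1)) :
    Matrix.SpecialLinearGroup.toGL (wS hF) ∈ GenSet F m := by
  refine ⟨?_, ?_⟩
  · rw [sp4_iff]
    exact isSp_wM
  · exact star4_wM hF

/-- The two models of the Suzuki group agree. -/
theorem lieSz_eq_map (hF : Fintype.card F = 2 ^ (2 * m + 1)) (hm : 1 ≤ m) :
    Cfsg.Lie.Sz F (2 ^ (m + 1)) = (Cfsg.Sz F m).map Matrix.SpecialLinearGroup.toGL := by
  apply le_antisymm
  · rw [lieSz_eq, Subgroup.closure_le]
    exact genSet_subset hF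
  · rw [Subgroup.map_le_iff_le_comap]
    set φ : Cfsg.Sz F m →* GL (Fin 4) F :=
      (Matrix.SpecialLinearGroup.toGL).comp (Cfsg.Sz F m).subtype with hφ
    have hL : (Cfsg.Lie.Sz F (2 ^ (m + 1))).comap φ = ⊤ := by
      apply eq_top_of_U_wUw hF hm
      · intro a b
        rw [Subgroup.mem_comap]
        exact Subgroup.subset_closure (toGL_uS_mem hF a b)
      · intro a b
        rw [Subgroup.mem_comap, map_mul, map_mul]
        refine Subgroup.mul_mem _ (Subgroup.mul_mem _ ?_ ?_) ?_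
        · exact Subgroup.subset_closure (toGL_wS_mem hF)
        · exact Subgroup.subset_closure (toGL_uS_mem hF a b)
        · exact Subgroup.subset_closure (toGL_wS_mem hF)
    intro g hg
    have : (⟨g, hg⟩ : Cfsg.Sz F m) ∈ (Cfsg.Lie.Sz F (2 ^ (m + 1))).comap φ := by
      rw [hL]; trivial
    exact this

theorem toGL_injective : Function.Injective
    (Matrix.SpecialLinearGroup.toGL : Matrix.SpecialLinearGroup (Fin 4) F →* GL (Fin 4) F) := by
  intro a b h
  apply Subtype.ext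
  have := congrArg (fun g : GL (Fin 4) F => (g : Matrix (Fin 4) (Fin 4) F)) h
  exact this

/-- The isomorphism between the two models. -/
noncomputable def szEquiv (hF : Fintype.card F = 2 ^ (2 * m + 1)) (hm : 1 ≤ m) :
    Cfsg.Sz F m ≃* Cfsg.Lie.Sz F (2 ^ (m + 1)) :=
  ((Cfsg.Sz F m).equivMapOfInjective _ toGL_injective).trans
    (MulEquiv.subgroupCongr (lieSz_eq_map hF hm).symm)

end Cfsg.Agent.Lib.Helper4.Suz
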