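import Mathlib
import Cfsg.Agent.Lib.Helper1.SPEDefs

set_option autoImplicit false
set_option linter.unusedSectionVars false
set_option linter.style.haveILetI false

/-!
Farm SPE (S2333), orbit half, unit D: `GL` is transitive on independent pairs, and the number of
independent pairs.
-/

namespace Cfsg.Agent.Lib.Helper4.SPE

open Matrix Module

theorem h4_sumExtend_inl {K V ι : Type*} [Field K] [AddCommGroup V] [Module K V] {v : ι → V}
    (hs : LinearIndependent K v) (i : ι) : Basis.sumExtend hs (Sum.inl i) = v i := by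
  simp only [Basis.sumExtend, Basis.reindex_apply, Basis.coe_extend]
  rfl

/-- a basis of `F^(m+2)` indexed by `Fin (m+2)` starting with a given independent pair -/
theorem h4_exists_basis_pair {F : Type*} [Field F] {m : ℕ} (x y : Fin (m + 2) → F)
    (hind : ∀ s t : F, s • x + t • y = 0 → s = 0 ∧ t = 0) :
    ∃ b : Basis (Fin (m + 2)) F (Fin (m + 2) → F), b 0 = x ∧ b 1 = y := by
  classical
  have hli : LinearIndependent F ![x, y] := LinearIndependent.pair_iff.2 hind
  let b0 := Basis.sumExtend hli
  haveI : Finite (Fin 2 ⊕ Basis.sumExtendIndex hli) := (Module.Finite.finite_basis b0)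
  haveI : Finite (Basis.sumExtendIndex hli) :=
    Finite.of_injective (fun s => (Sum.inr s : Fin 2 ⊕ Basis.sumExtendIndex hli)) Sum.inr_injective
  haveI : Fintype (Basis.sumExtendIndex hli) := Fintype.ofFinite _
  have hcard : Fintype.card (Fin 2 ⊕ Basis.sumExtendIndex hli) = m + 2 := by
    have h1 := Module.finrank_eq_card_basis b0
    rw [Module.finrank_pi, Fintype.card_fin] at h1
    exact h1.symm
  have hcS : Fintype.card (Basis.sumExtendIndex hli) = m := by
    rw [Fintype.card_sum, Fintype.card_fin] at hcard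
    omega
  let eS : Basis.sumExtendIndex hli ≃ Fin m := Fintype.equivFinOfCardEq hcS
  let e : Fin 2 ⊕ Basis.sumExtendIndex hli ≃ Fin (m + 2) :=
    ((Equiv.sumCongr (Equiv.refl (Fin 2)) eS).trans finSumFinEquiv).trans
      (finCongr (Nat.add_comm 2 m))
  have he0 : e (Sum.inl 0) = 0 := by
    apply Fin.ext
    simp [e]
  have he1 : e (Sum.inl 1) = 1 := by
    apply Fin.ext
    simp [e]
  refine ⟨b0.reindex e, ?_, ?_⟩
  · rw [Basis.reindex_apply, ← he0, Equiv.symm_apply_apply]
    exact h4_sumExtend_inl hli 0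
  · rw [Basis.reindex_apply, ← he1, Equiv.symm_apply_apply]
    exact h4_sumExtend_inl hli 1

variable {F : Type*} [Field F] [Fintype F] [DecidableEq F]

/-- unit D -/
theorem exists_gl_pair {m : ℕ} (x y : Fin (m + 2) → F)
    (hind : ∀ s t : F, s • x + t • y = 0 → s = 0 ∧ t = 0) :
    ∃ g : GL (Fin (m + 2)) F,
      (g : Matrix (Fin (m + 2)) (Fin (m + 2)) F) *ᵥ Pi.single 0 1 = x ∧
      (g : Matrix (Fin (m + 2)) (Fin (m + 2)) F) *ᵥ Pi.single 1 1 = y := by
  obtain ⟨b, hb0, hb1⟩ := h4_exists_basis_pair x y hind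
  let e := Pi.basisFun F (Fin (m + 2))
  have h1 : e.toMatrix b * b.toMatrix e = 1 := Basis.toMatrix_mul_toMatrix_flip e b
  have h2 : b.toMatrix e * e.toMatrix b = 1 := Basis.toMatrix_mul_toMatrix_flip b e
  have hcol : ∀ j, e.toMatrix b *ᵥ Pi.single j 1 = b j := by
    intro j
    ext i
    rw [Matrix.mulVec_single_one, Matrix.col_apply, Basis.toMatrix_apply, Pi.basisFun_repr]
  refine ⟨⟨e.toMatrix b, b.toMatrix e, h1, h2⟩, ?_, ?_⟩
  · change e.toMatrix b *ᵥ Pi.single 0 1 = x
    rw [hcol, hb0]
  · change e.toMatrix b *ᵥ Pi.single 1 1 = y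
    rw [hcol, hb1]

/-- independence of a pair in terms of the first vector and the line it spans -/
theorem h4_indep_iff {n : ℕ} (x y : Fin n → F) :
    (∀ s t : F, s • x + t • y = 0 → s = 0 ∧ t = 0) ↔ x ≠ 0 ∧ ∀ t : F, y ≠ t • x := by
  constructor
  · intro h
    refine ⟨?_, ?_⟩
    · rintro rfl
      have := (h 1 0 (by simp)).1
      exact one_ne_zero this
    · intro t ht
      have := (h (-t) 1 (by rw [ht, neg_smul, one_smul, neg_add_cancel])).2
      exact one_ne_zero this
  · rintro ⟨hx, hy⟩ s t hst
    have ht : t = 0 := by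
      by_contra ht
      apply hy (-(t⁻¹ * s))
      have h1 : t • y = -(s • x) := eq_neg_of_add_eq_zero_right hst
      have h2 : y = t⁻¹ • (t • y) := by rw [smul_smul, inv_mul_cancel₀ ht, one_smul]
      rw [h2, h1, smul_neg, smul_smul, neg_smul]
    subst ht
    rw [zero_smul, add_zero] at hst
    rcases smul_eq_zero.1 hst with h | h
    · exact ⟨h, rfl⟩
    · exact absurd h hx

theorem h4_card_not_mul {n : ℕ} (x : Fin n → F) (hx : x ≠ 0) :
    (Finset.univ.filter (fun y : Fin n → F => ∀ t : F, y ≠ t • x)).card =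
      Fintype.card F ^ n - Fintype.card F := by
  have hinj : Function.Injective (fun t : F => t • x) := fun t u h => by
    by_contra htu
    have h0 : (t - u) • x = 0 := by rw [sub_smul]; exact sub_eq_zero.2 h
    rcases smul_eq_zero.1 h0 with h1 | h1
    · exact htu (sub_eq_zero.1 h1)
    · exact hx h1
  have hset : Finset.univ.filter (fun y : Fin n → F => ∀ t : F, y ≠ t • x) =
      (Finset.univ.image (fun t : F => t • x))ᶜ := by
    ext y
    simp only [Finset.mem_filter, Finset.mem_univ, true_and, Finset.mem_compl, Finset.mem_image,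
      not_exists]
    constructor
    · intro h t ht
      exact h t ht.symm
    · intro h t ht
      exact h t ht.symm
  rw [hset, Finset.card_compl, Finset.card_image_of_injective _ hinj, Finset.card_univ,
    Fintype.card_fun, Fintype.card_fin]

/-- unit D -/
theorem card_indep_pairs {n : ℕ} :
    (Finset.univ.filter (fun p : (Fin n → F) × (Fin n → F) =>
      ∀ s t : F, s • p.1 + t • p.2 = 0 → s = 0 ∧ t = 0)).card =
      (Fintype.card F ^ n - 1) * (Fintype.card F ^ n - Fintype.card F) := by
  rw [Finset.card_filter, Fintype.sum_prod_type]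
  have h1 : ∀ x : Fin n → F,
      (∑ y : Fin n → F, if (∀ s t : F, s • x + t • y = 0 → s = 0 ∧ t = 0) then 1 else 0) =
        if x = 0 then 0 else Fintype.card F ^ n - Fintype.card F := by
    intro x
    rw [← Finset.card_filter]
    split_ifs with hx
    · rw [Finset.card_eq_zero, Finset.filter_eq_empty_iff]
      intro y _ h
      exact ((h4_indep_iff x y).1 h).1 hx
    · rw [← h4_card_not_mul x hx]
      congr 1
      ext y
      simp only [Finset.mem_filter, Finset.mem_univ, true_and]
      rw [h4_indep_iff]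
      exact ⟨fun h => h.2, fun h => ⟨hx, h⟩⟩
  rw [Finset.sum_congr rfl (fun x _ => h1 x), Finset.sum_ite, Finset.sum_const_zero, zero_add,
    Finset.sum_const, smul_eq_mul]
  congr 1
  rw [Finset.filter_not, Finset.card_sdiff_of_subset (Finset.filter_subset _ _),
    Finset.card_univ, Fintype.card_fun, Fintype.card_fin, Finset.filter_eq', if_pos (Finset.mem_univ _),
    Finset.card_singleton]

end Cfsg.Agent.Lib.Helper4.SPE
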