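import Mathlib
import Cfsg.Agent.Lib.Helper1.SPWDefs2
import Cfsg.Agent.Lib.Helper1.SPWA1

/-!
Farm SPW (statement S2524), unit A6: the Heisenberg group is trivial on the `Z₁`-fixed vectors of
a module with the rank one condition; a vector fixed by `iS (SL₂)` is fixed by `G`.
-/

set_option autoImplicit false
set_option linter.unusedSectionVars false
set_option linter.unusedVariables false

namespace Cfsg.Agent.Lib.Helper4.SPWB

open Matrix Cfsg Cfsg.Agent.Lib.Helper6.Wl Cfsg.Agent.Lib.Helper4 Cfsg.Agent.Lib.Helper1.SPW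
open Module

section abstract
variable {F : Type*} [Field F] [Fintype F] [DecidableEq F] {m : ℕ}
variable {G : Type*} [Group G] [Fintype G]
variable [Fintype (symplecticGroup (Fin m) F)]
variable (D : Datum F m G)
variable {V : Type*} [AddCommGroup V] [Module ℂ V] [FiniteDimensional ℂ V]
variable {Ω : Type*} [AddCommGroup Ω] [Module ℂ Ω] [FiniteDimensional ℂ Ω]
variable (ρ : Representation ℂ G V) (ρΩ : Representation ℂ G Ω) (ψ : AddChar F ℂ)

/-- the symplectic matrix `J` as an element of the group -/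
def jSp : symplecticGroup (Fin m) F := ⟨Matrix.J (Fin m) F, SymplecticGroup.J_mem (Fin m) F⟩

theorem jSp_mulVec (b : Fin m → F) :
    ((jSp : symplecticGroup (Fin m) F) : Matrix (Fin m ⊕ Fin m) (Fin m ⊕ Fin m) F) *ᵥ
      (Sum.elim b (0 : Fin m → F)) = Sum.elim (0 : Fin m → F) b := by
  show (Matrix.fromBlocks 0 (-1) 1 0 : Matrix (Fin m ⊕ Fin m) (Fin m ⊕ Fin m) F) *ᵥ
      (Sum.elim b (0 : Fin m → F)) = Sum.elim (0 : Fin m → F) b
  rw [Matrix.fromBlocks_mulVec]
  have h1 : (Sum.elim b (0 : Fin m → F)) ∘ Sum.inl = b := rfl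
  have h2 : (Sum.elim b (0 : Fin m → F)) ∘ Sum.inr = 0 := rfl
  rw [h1, h2]
  simp

theorem rho_apply_mul (g h : G) (v : V) : ρ (g * h) v = ρ g (ρ h v) := by
  rw [map_mul]
  rfl

/-- the `Z₁`-fixed vectors are `G'`-stable -/
theorem fixZ_iG (v : V) (hv : ∀ s : F, ρ (D.iH (Heis.cen s)) v = v)
    (g : symplecticGroup (Fin m) F) (s : F) :
    ρ (D.iH (Heis.cen s)) (ρ (D.iG g) v) = ρ (D.iG g) v := by
  rw [← rho_apply_mul, ← iG_cen_comm, rho_apply_mul, hv s]

/-- the `Z₁`-fixed vectors are stable under the Heisenberg group -/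
theorem fixZ_iH (v : V) (hv : ∀ s : F, ρ (D.iH (Heis.cen s)) v = v)
    (x : Heis m F) (s : F) :
    ρ (D.iH (Heis.cen s)) (ρ (D.iH x) v) = ρ (D.iH x) v := by
  rw [← rho_apply_mul, ← map_mul, Heis.cen_mul_comm, map_mul, rho_apply_mul, hv s]

/-- the second family of generators: the `J`-conjugates of `A` -/
theorem iH_J_fixed (rV : Rk1 D ρ ψ) (v : V)
    (hv : ∀ s : F, ρ (D.iH (Heis.cen s)) v = v) (b : Fin m → F) :
    ρ (D.iH ⟨Sum.elim (0 : Fin m → F) b, 0⟩) v = v := by
  have h := D.conjG jSp (Heis.ab b 0)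
  have e : (⟨((jSp : symplecticGroup (Fin m) F) : Matrix (Fin m ⊕ Fin m) (Fin m ⊕ Fin m) F) *ᵥ
      (Heis.ab b (0 : F) : Heis m F).w, (Heis.ab b (0 : F) : Heis m F).s⟩ : Heis m F) =
      ⟨Sum.elim (0 : Fin m → F) b, 0⟩ := by
    ext i
    · show (((jSp : symplecticGroup (Fin m) F) : Matrix (Fin m ⊕ Fin m) (Fin m ⊕ Fin m) F) *ᵥ
        (Sum.elim b (0 : Fin m → F))) i = _
      rw [jSp_mulVec]
    · rfl
  rw [e] at h
  rw [← h, rho_apply_mul, rho_apply_mul]
  have h1 : ρ (D.iH (Heis.ab b 0)) (ρ ((D.iG jSp)⁻¹) v) = ρ ((D.iG jSp)⁻¹) v := by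
    rw [← map_inv]
    exact rV.2 _ (fixZ_iG D ρ v hv _) b
  rw [h1, ← rho_apply_mul, mul_inv_cancel, map_one]
  rfl

/-- **Unit A6**, first part -/
theorem iH_fixed (hm : 0 < m) (rV : Rk1 D ρ ψ) (v : V)
    (hv : ∀ s : F, ρ (D.iH (Heis.cen s)) v = v) (x : Heis m F) : ρ (D.iH x) v = v := by
  set y : Heis m F := Heis.ab (va x.w) 0 * ⟨Sum.elim (0 : Fin m → F) (vb x.w), 0⟩ with hy
  have hyw : y.w = x.w := by
    rw [hy, Heis.mul_w]
    funext i
    cases i <;> simp [Heis.ab, va, vb]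
  have hx : x = y * Heis.cen (x.s - y.s) := by
    ext i
    · rw [Heis.mul_w, hyw]
      simp [Heis.cen]
    · rw [Heis.mul_s]
      have : (Heis.cen (x.s - y.s) : Heis m F).w = 0 := rfl
      rw [this, Heis.hcoef_zero_right]
      simp [Heis.cen]
  rw [hx, map_mul, rho_apply_mul, hv, hy, map_mul, rho_apply_mul,
    iH_J_fixed D ρ ψ rV v hv, rV.2 v hv]

/-- **Unit A6**, second part -/
theorem fixed_of_iS_fixed (hm : 0 < m) (rV : Rk1 D ρ ψ) (v : V)
    (hv : ∀ x : Matrix.SpecialLinearGroup (Fin 2) F, ρ (D.iS x) v = v) (g : G) : ρ g v = v := by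
  have hZ : ∀ s : F, ρ (D.iH (Heis.cen s)) v = v := by
    intro s
    rw [D.cenU]
    exact hv _
  have hH := iH_fixed D ρ ψ hm rV v hZ
  let K : Subgroup G :=
    { carrier := {g | ρ g v = v}
      mul_mem' := by
        intro g h hg hh
        show ρ (g * h) v = v
        rw [rho_apply_mul, hh, hg]
      one_mem' := by
        show ρ 1 v = v
        rw [map_one]
        rfl
      inv_mem' := by
        intro g hg
        show ρ g⁻¹ v = v
        have hg' : ρ g v = v := hg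
        calc ρ g⁻¹ v = ρ g⁻¹ (ρ g v) := by rw [hg']
          _ = v := by
            rw [← rho_apply_mul, inv_mul_cancel, map_one]
            rfl }
  have hle : Subgroup.closure (Set.range D.iS ∪ Set.range D.iH) ≤ K := by
    rw [Subgroup.closure_le]
    rintro g (⟨x, rfl⟩ | ⟨x, rfl⟩)
    · exact hv x
    · exact hH x
  rw [D.gen] at hle
  exact hle (Subgroup.mem_top g)

end abstract

end Cfsg.Agent.Lib.Helper4.SPWB
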