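import Mathlib
import Cfsg.Agent.Lib.Helper4.SL2Conj

set_option autoImplicit false

namespace Cfsg.Agent.Lib.Helper4

open Cfsg.Agent.Lib.Helper6 Matrix Cfsg.Agent.S2308
open scoped ComplexConjugate MatrixGroups

section general

variable {G : Type*} [Group G] [Finite G]

/-- a central element acts by a scalar of absolute value one on an irreducible character -/
theorem apply_center_mul {χ : G → ℂ} (hχ : Cfsg.IsIrrCharacter G χ) {z : G}
    (hz : z ∈ Subgroup.center G) : ∃ c : ℂ, conj c * c = 1 ∧ ∀ y : G, χ (z * y) = c * χ y := by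
  have : Fintype G := Fintype.ofFinite G
  obtain ⟨n, ρ, hρ, rfl⟩ := hχ
  obtain ⟨c, hc, hcc⟩ := exists_scalar_of_mem_center ρ hz
  refine ⟨c, hcc, fun y => ?_⟩
  unfold Representation.character
  rw [map_mul, hc, Module.End.mul_eq_comp, LinearMap.smul_comp, LinearMap.id_comp, map_smul,
    smul_eq_mul]

/-- a character vanishing at the identity vanishes -/
theorem eq_zero_of_apply_one_eq_zero {χ : G → ℂ} (hχ : Cfsg.IsCharacter G χ) (h1 : χ 1 = 0) :
    χ = 0 := by
  obtain ⟨n, ρ, rfl⟩ := hχ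
  funext g
  have h := norm_character_le ρ g
  rw [Representation.char_one] at h1
  have h2 : (Module.finrank ℂ (Fin n → ℂ) : ℝ) = 0 := by exact_mod_cast h1
  rw [h2] at h
  exact norm_le_zero_iff.mp h

end general

variable {F : Type*} [Field F] [Fintype F] [DecidableEq F] [Fintype (GL (Fin 2) F)]
  [Fintype (Matrix.SpecialLinearGroup (Fin 2) F)]

omit [Fintype F] [DecidableEq F] [Fintype (GL (Fin 2) F)]
  [Fintype (Matrix.SpecialLinearGroup (Fin 2) F)] in
theorem toGL_mkSL (a : Fˣ) (u : F) :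
    Matrix.SpecialLinearGroup.toGL (mkSL a u) = mkGL a a⁻¹ u := by
  rw [gl2_ext_iff]
  simp [mkSL_coe, mkGL_coe]

omit [Fintype (Matrix.SpecialLinearGroup (Fin 2) F)] in
/-- the absolute value of a cuspidal character on `Z U` -/
theorem nonPS_norm_scalar_unip {χ : GL (Fin 2) F → ℂ}
    (hχ : Cfsg.IsIrrCharacter (GL (Fin 2) F) χ) (hns : NonPS χ) (a : Fˣ) (u : F) :
    χ (mkGL a a u) * conj (χ (mkGL a a u)) =
      if u = 0 then ((Fintype.card F : ℂ) - 1) ^ 2 else 1 := by
  obtain ⟨c, hcc, hc⟩ := apply_center_mul hχ (mkGL_scalar_mem_center a)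
  have hmul : mkGL a a u = mkGL a a 0 * mkGL 1 1 (u / (a : F)) := by
    rw [mkGL_mul]
    congr 1
    · rw [mul_one]
    · rw [mul_one]
    · field_simp
      simp
  have hval : χ (mkGL a a u) * conj (χ (mkGL a a u)) =
      χ (mkGL 1 1 (u / (a : F))) * conj (χ (mkGL 1 1 (u / (a : F)))) := by
    rw [hmul, hc, map_mul]
    linear_combination χ (mkGL 1 1 (u / (a : F))) * conj (χ (mkGL 1 1 (u / (a : F)))) * hcc
  rw [hval]
  by_cases hu : u = 0
  · rw [if_pos hu, hu, zero_div, mkGL_one, (nonPS_values hχ hns).1, map_sub, Complex.conj_natCast,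
      map_one, sq]
  · rw [if_neg hu]
    have hne : u / (a : F) ≠ 0 := div_ne_zero hu a.ne_zero
    rw [classFunction_mkGL_unip χ (IsIrrCharacter.isClassFunction hχ) _ hne,
      (nonPS_values hχ hns).2]
    simp

omit [Fintype F] [DecidableEq F] [Fintype (GL (Fin 2) F)]
  [Fintype (Matrix.SpecialLinearGroup (Fin 2) F)] in
theorem resSL_add (χ χ' : GL (Fin 2) F → ℂ) : resSL (χ + χ') = resSL χ + resSL χ' := rfl

/-- `Ind_B^S 1 = St + 1` for `S = SL₂` -/
theorem psSL2_one_eq :
    psSL2 (fun x => (1 : MulChar F ℂ) x) =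
      resSL (stGL2 (1 : MulChar F ℂ)) + (fun _ => (1 : ℂ)) := by
  rw [← resSL_ps_eq_psSL2, psGL2_self_eq, resSL_add, resSL_lam]

omit [DecidableEq F] [Fintype (GL (Fin 2) F)]
  [Fintype (Matrix.SpecialLinearGroup (Fin 2) F)] in
theorem units_inv_eq_self_of_card_three (h3 : Fintype.card F = 3) (a : Fˣ) : a⁻¹ = a := by
  classical
  have h1 : a ^ Fintype.card Fˣ = 1 := pow_card_eq_one
  rw [Fintype.card_units, h3] at h1
  apply inv_eq_of_mul_eq_one_right
  rw [← sq]
  exact h1

/-- `⟨Ind_B^S 1, |ψ|²⟩ = 2` for a cuspidal `ψ` of `SL₂(3)` -/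
theorem q3_frobenius (h3 : Fintype.card F = 3) {χ : GL (Fin 2) F → ℂ}
    (hχ : Cfsg.IsIrrCharacter (GL (Fin 2) F) χ) (hns : NonPS χ)
    (Ψ : Matrix.SpecialLinearGroup (Fin 2) F → ℂ)
    (hΨc : Cfsg.IsClassFunction (Matrix.SpecialLinearGroup (Fin 2) F) Ψ)
    (hΨ : ∀ x, Ψ x = resSL χ x * conj (resSL χ x)) :
    Cfsg.classInner (psSL2 (fun x => (1 : MulChar F ℂ) x)) Ψ = 2 := by
  have : Fintype (borelSL2 F) := Fintype.ofFinite _
  unfold psSL2
  rw [Cfsg.Agent.S0146.result (borelSL2 F) _ _ hΨc]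
  unfold Cfsg.classInner
  rw [← mkBEquiv.sum_comp, Fintype.sum_prod_type]
  have h1 : ∀ (a : Fˣ) (u : F),
      (1 : MulChar F ℂ) ((((mkBEquiv (a, u) : borelSL2 F) : Matrix.SpecialLinearGroup (Fin 2) F) :
        Matrix (Fin 2) (Fin 2) F) 0 0) = 1 := by
    intro a u
    rw [mkBEquiv_apply, mkB_coe, mkSL_coe]
    simp [MulChar.one_apply_coe]
  have h2 : ∀ (a : Fˣ) (u : F),
      Ψ ((mkBEquiv (a, u) : borelSL2 F) : Matrix.SpecialLinearGroup (Fin 2) F) =
        if u = 0 then 4 else 1 := by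
    intro a u
    rw [mkBEquiv_apply, mkB_coe, hΨ, resSL_apply, toGL_mkSL, units_inv_eq_self_of_card_three h3,
      nonPS_norm_scalar_unip hχ hns, h3]
    norm_num
  simp only [h1, h2, one_mul]
  have h4 : ∀ a : Fˣ, ∑ u : F, conj (if u = 0 then (4 : ℂ) else 1) = 6 := by
    intro a
    simp only [apply_ite conj, map_ofNat, map_one]
    rw [← Finset.add_sum_erase Finset.univ _ (Finset.mem_univ (0 : F)), if_pos rfl]
    have : ∀ u ∈ Finset.univ.erase (0 : F), (if u = 0 then (4 : ℂ) else 1) = 1 := by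
      intro u hu
      rw [if_neg (Finset.ne_of_mem_erase hu)]
    rw [Finset.sum_congr rfl this, Finset.sum_const, Finset.card_erase_of_mem (Finset.mem_univ _),
      Finset.card_univ, h3]
    norm_num
  rw [Finset.sum_congr rfl (fun a _ => h4 a), Finset.sum_const, Finset.card_univ,
    Fintype.card_units, h3, card_borelSL2, h3]
  norm_num

/-- for `q = 3`, a cuspidal character restricting irreducibly to `SL₂(3)` vanishes at the
elements without eigenvectors -/
theorem q3_cusp_vanish (h3 : Fintype.card F = 3) {χ : GL (Fin 2) F → ℂ}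
    (hχ : Cfsg.IsIrrCharacter (GL (Fin 2) F) χ) (hns : NonPS χ)
    (hirr : Cfsg.IsIrrCharacter (Matrix.SpecialLinearGroup (Fin 2) F) (resSL χ))
    (g : Matrix.SpecialLinearGroup (Fin 2) F)
    (hell : ∀ (c : F) (v : Fin 2 → F), v ≠ 0 →
      (g : Matrix (Fin 2) (Fin 2) F).mulVec v ≠ c • v) : resSL χ g = 0 := by
  set ψ := resSL χ with hψdef
  set Ψ : Matrix.SpecialLinearGroup (Fin 2) F → ℂ := ψ * (fun x => conj (ψ x)) with hΨdef
  have hψc := IsIrrCharacter.isCharacter hirr
  have hΨ : Cfsg.IsCharacter (Matrix.SpecialLinearGroup (Fin 2) F) Ψ :=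
    IsCharacter.mul hψc (IsCharacter.conj hψc)
  have hΨapp : ∀ x, Ψ x = ψ x * conj (ψ x) := fun x => rfl
  -- the trivial character occurs once
  have hΨ1 : Cfsg.classInner Ψ (fun _ => (1 : ℂ)) = 1 := by
    have h := classInner_isIrrCharacter hirr hirr
    rw [if_pos rfl] at h
    have h' : Cfsg.classInner Ψ (fun _ => (1 : ℂ)) = Cfsg.classInner ψ ψ := by
      unfold Cfsg.classInner
      congr 1
      apply Finset.sum_congr rfl
      intro x _
      rw [hΨapp, map_one, mul_one]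
    rw [h', h]
  have h1Ψ : Cfsg.classInner (fun _ => (1 : ℂ)) Ψ = 1 := by
    rw [← classInner_conj_symm, hΨ1, map_one]
  -- the Steinberg character occurs once
  have hfrob := q3_frobenius h3 hχ hns Ψ (IsCharacter.isClassFunction hΨ) hΨapp
  rw [psSL2_one_eq, classInner_add_left, h1Ψ] at hfrob
  have hStΨ : Cfsg.classInner (resSL (stGL2 (1 : MulChar F ℂ))) Ψ = 1 := by
    linear_combination hfrob
  have hΨSt : Cfsg.classInner Ψ (resSL (stGL2 (1 : MulChar F ℂ))) = 1 := by
    rw [← classInner_conj_symm, hStΨ, map_one]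
  have hq1 : (Fintype.card F : ℂ) = 3 := by rw [h3]; norm_num
  have hne : (fun _ => (1 : ℂ)) ≠ resSL (stGL2 (1 : MulChar F ℂ)) := by
    intro h
    have := congrFun h 1
    rw [resSL_one, stGL2_one, hq1] at this
    norm_num at this
  -- decomposition
  obtain ⟨B₁, hB₁, hdec1⟩ := IsCharacter.exists_eq_add_of_constituent hΨ
    (isIrrCharacter_one (G := Matrix.SpecialLinearGroup (Fin 2) F)) (by rw [hΨ1]; exact one_ne_zero)
  have hB₁St : Cfsg.classInner B₁ (resSL (stGL2 (1 : MulChar F ℂ))) = 1 := by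
    have h := hΨSt
    rw [hdec1, classInner_add_left, classInner_isIrrCharacter isIrrCharacter_one isIrr_resSL_st,
      if_neg hne, zero_add] at h
    exact h
  obtain ⟨C, hC, hdec2⟩ := IsCharacter.exists_eq_add_of_constituent hB₁ isIrr_resSL_st
    (by rw [hB₁St]; exact one_ne_zero)
  have hC1 : C 1 = 0 := by
    have h := congrFun hdec1 1
    rw [hdec2, hΨapp, Pi.add_apply, Pi.add_apply, resSL_one, stGL2_one, hψdef, resSL_one,
      (nonPS_values hχ hns).1, hq1] at h
    have h' : conj ((3 : ℂ) - 1) = 3 - 1 := by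
      rw [map_sub, map_one, map_ofNat]
    rw [h'] at h
    linear_combination -h
  have hC0 := eq_zero_of_apply_one_eq_zero hC hC1
  have hg := congrFun hdec1 g
  rw [hdec2, hC0, hΨapp, Pi.add_apply, Pi.add_apply, resSL_st_elliptic g hell, Pi.zero_apply] at hg
  have hz : ψ g * conj (ψ g) = 0 := by
    rw [hg]; ring
  rcases mul_eq_zero.mp hz with h | h
  · exact h
  · exact (map_eq_zero (starRingEnd ℂ)).mp h

end Cfsg.Agent.Lib.Helper4
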