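import Mathlib
import Cfsg.Agent.Lib.Helper4.SL2Gauss
import Cfsg.Agent.Lib.Helper4.SL2Values

/-!
Farm SPW (statement S2524), unit SL2, part (a): the multiplicities `mU ψ φ a` of the characters
`x ↦ ψ (a x)` of the upper unitriangular subgroup `U` of `SL₂(F)` in a class function `φ`.
-/

set_option autoImplicit false

namespace Cfsg.Agent.Lib.Helper4.SPW

open Cfsg.Agent.Lib.Helper4 Cfsg.Agent.Lib.Helper6 Matrix Cfsg.Agent.S2308
open scoped ComplexConjugate MatrixGroups

variable {F : Type*} [Field F] [Fintype F]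

/-- the multiplicity of the character `x ↦ ψ (a x)` of `U` in the restriction of `φ` to `U` -/
noncomputable def mU (ψ : AddChar F ℂ) (φ : Matrix.SpecialLinearGroup (Fin 2) F → ℂ) (a : F) : ℂ :=
  (Fintype.card F : ℂ)⁻¹ * ∑ x : F, ψ (-(a * x)) * φ (upperU x)

theorem mU_add (ψ : AddChar F ℂ) (φ₁ φ₂ : Matrix.SpecialLinearGroup (Fin 2) F → ℂ) (a : F) :
    mU ψ (φ₁ + φ₂) a = mU ψ φ₁ a + mU ψ φ₂ a := by
  unfold mU
  rw [← mul_add, ← Finset.sum_add_distrib]
  congr 1
  apply Finset.sum_congr rfl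
  intro x _
  rw [Pi.add_apply, mul_add]

theorem mU_nsmul (ψ : AddChar F ℂ) (n : ℕ) (φ : Matrix.SpecialLinearGroup (Fin 2) F → ℂ) (a : F) :
    mU ψ (n • φ) a = n * mU ψ φ a := by
  unfold mU
  rw [mul_left_comm]
  congr 1
  rw [Finset.mul_sum]
  apply Finset.sum_congr rfl
  intro x _
  rw [Pi.smul_apply, nsmul_eq_mul]
  ring

theorem mU_zero (ψ : AddChar F ℂ) (a : F) :
    mU ψ (0 : Matrix.SpecialLinearGroup (Fin 2) F → ℂ) a = 0 := by
  unfold mU
  simp

theorem mU_sum {ι : Type*} (ψ : AddChar F ℂ) (s : Finset ι)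
    (f : ι → Matrix.SpecialLinearGroup (Fin 2) F → ℂ) (a : F) :
    mU ψ (∑ i ∈ s, f i) a = ∑ i ∈ s, mU ψ (f i) a := by
  classical
  induction s using Finset.induction_on with
  | empty => simp [mU_zero]
  | insert i s hi ih => rw [Finset.sum_insert hi, Finset.sum_insert hi, mU_add, ih]

/-- the multiplicities of a character are natural numbers -/
theorem mU_nat (ψ : AddChar F ℂ) {φ : Matrix.SpecialLinearGroup (Fin 2) F → ℂ}
    (hφ : Cfsg.IsCharacter (Matrix.SpecialLinearGroup (Fin 2) F) φ) (a : F) :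
    ∃ m : ℕ, mU ψ φ a = m := by
  obtain ⟨m, hm⟩ := fourier_nat hφ (AddChar.mulShift ψ (-a))
  refine ⟨m, ?_⟩
  rw [← hm]
  unfold mU
  congr 1
  apply Finset.sum_congr rfl
  intro x _
  rw [AddChar.mulShift_apply, neg_mul, mul_comm]

/-- invariance of the multiplicities under multiplication by squares -/
theorem mU_mul_sq (ψ : AddChar F ℂ) {φ : Matrix.SpecialLinearGroup (Fin 2) F → ℂ}
    (hφ : Cfsg.IsClassFunction (Matrix.SpecialLinearGroup (Fin 2) F) φ) (c : Fˣ) (a : F) :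
    mU ψ φ (a * (c : F) ^ 2) = mU ψ φ a := by
  unfold mU
  congr 1
  have hne : ((c : F) ^ 2) ≠ 0 := pow_ne_zero 2 c.ne_zero
  rw [← Equiv.sum_comp (Equiv.mulLeft₀ ((c : F) ^ 2) hne)
    (fun y => ψ (-(a * y)) * φ (upperU y))]
  apply Finset.sum_congr rfl
  intro x _
  rw [Equiv.mulLeft₀_apply, classFun_upperU_sq φ hφ c x, mul_assoc]

/-- the multiplicity at a nonzero square is the multiplicity at `1` -/
theorem mU_of_isSquare (ψ : AddChar F ℂ) {φ : Matrix.SpecialLinearGroup (Fin 2) F → ℂ}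
    (hφ : Cfsg.IsClassFunction (Matrix.SpecialLinearGroup (Fin 2) F) φ) {a : F} (ha : a ≠ 0)
    (hsq : IsSquare a) : mU ψ φ a = mU ψ φ 1 := by
  obtain ⟨s, rfl⟩ := hsq
  have hs : s ≠ 0 := by
    rintro rfl
    exact ha (mul_zero 0)
  have := mU_mul_sq ψ hφ (Units.mk0 s hs) 1
  rw [Units.val_mk0, one_mul, sq] at this
  exact this

/-- the sum of a nontrivial additive character over a line -/
theorem sum_addChar_mul [DecidableEq F] {ψ : AddChar F ℂ} (hψ : ψ ≠ 1) (a : F) :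
    ∑ x : F, ψ (-(a * x)) = if a = 0 then (Fintype.card F : ℂ) else 0 := by
  have h := AddChar.sum_mulShift (-a) (AddChar.IsPrimitive.of_ne_one hψ)
  have h2 : ∀ x : F, ψ (-(a * x)) = ψ (x * -a) := by
    intro x
    congr 1
    ring
  rw [Finset.sum_congr rfl (fun x _ => h2 x), h]
  simp only [neg_eq_zero]
  split_ifs <;> simp

/-- the multiplicities in the restriction of a class function of `GL₂` -/
theorem mU_resSL [DecidableEq F] {ψ : AddChar F ℂ} (hψ : ψ ≠ 1) (χ : GL (Fin 2) F → ℂ)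
    (hχ : Cfsg.IsClassFunction (GL (Fin 2) F) χ) (a : F) :
    mU ψ (resSL χ) a = (Fintype.card F : ℂ)⁻¹ *
      (χ 1 + (if a = 0 then (Fintype.card F : ℂ) - 1 else -1) * χ (mkGL 1 1 1)) := by
  unfold mU
  congr 1
  have h1 : ∀ x : F, ψ (-(a * x)) * resSL χ (upperU x) =
      ψ (-(a * x)) * χ (mkGL 1 1 1) + if x = 0 then χ 1 - χ (mkGL 1 1 1) else 0 := by
    intro x
    by_cases hx : x = 0
    · subst hx
      rw [if_pos rfl, mul_zero, neg_zero, AddChar.map_zero_eq_one, one_mul, one_mul, resSL_apply,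
        toGL_upperU, mkGL_one]
      ring
    · rw [if_neg hx, add_zero, resSL_apply, toGL_upperU, classFunction_mkGL_unip χ hχ x hx]
  rw [Finset.sum_congr rfl (fun x _ => h1 x), Finset.sum_add_distrib, ← Finset.sum_mul,
    sum_addChar_mul hψ a, Finset.sum_ite_eq' Finset.univ (0 : F), if_pos (Finset.mem_univ _)]
  split_ifs <;> ring

end Cfsg.Agent.Lib.Helper4.SPW
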