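import Mathlib
import Cfsg.Agent.Lib.Helper4.SPWSL2a

/-!
Farm SPW (statement S2524), unit SL2, part (b): the `U`-profiles of the restrictions of class
functions of `GL₂` and of their `GL₂`-conjugate halves.
-/

set_option autoImplicit false

namespace Cfsg.Agent.Lib.Helper4.SPW

open Cfsg.Agent.Lib.Helper4 Cfsg.Agent.Lib.Helper6 Matrix Cfsg.Agent.S2308
open scoped ComplexConjugate MatrixGroups

variable {F : Type*} [Field F] [Fintype F]

omit [Fintype F] in
/-- a `GL₂`-conjugation acts on `U` by a scaling -/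
theorem glconj_upperU {σ σ' : Matrix.SpecialLinearGroup (Fin 2) F → ℂ}
    (hσ' : Cfsg.IsClassFunction (Matrix.SpecialLinearGroup (Fin 2) F) σ') (hc : GLConj σ σ') :
    ∃ c : Fˣ, ∀ b : F, σ' (upperU ((c : F) * b)) = σ (upperU b) := by
  obtain ⟨x, hx⟩ := hc
  set c : Fˣ := Matrix.GeneralLinearGroup.det x with hc
  set t : GL (Fin 2) F := mkGL c 1 0 with ht
  have hmem : x * t⁻¹ ∈ detKer F := by
    rw [MonoidHom.mem_ker, map_mul, map_inv]
    have : Matrix.GeneralLinearGroup.det t = c := by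
      apply Units.ext
      rw [Matrix.GeneralLinearGroup.val_det_apply, ht, mkGL_coe, Matrix.det_fin_two_of]
      simp
    rw [this, mul_inv_cancel]
  set n : Matrix.SpecialLinearGroup (Fin 2) F := slEquiv.symm ⟨_, hmem⟩ with hn
  have hn' : Matrix.SpecialLinearGroup.toGL n = x * t⁻¹ := by
    rw [← slEquiv_coe, hn, MulEquiv.apply_symm_apply]
  refine ⟨c, ?_⟩
  intro b
  have h1 : Matrix.SpecialLinearGroup.toGL (n * upperU ((c : F) * b) * n⁻¹) =
      x * Matrix.SpecialLinearGroup.toGL (upperU b) * x⁻¹ := by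
    rw [map_mul, map_mul, map_inv, hn', toGL_upperU, toGL_upperU]
    have h2 : t * mkGL 1 1 b = mkGL 1 1 ((c : F) * b) * t := by
      rw [ht, mkGL_mul, mkGL_mul]
      congr 1 <;> simp
    have h3 : t⁻¹ * mkGL 1 1 ((c : F) * b) * t = mkGL 1 1 b := by
      rw [mul_assoc, ← h2, ← mul_assoc, inv_mul_cancel, one_mul]
    calc x * t⁻¹ * mkGL 1 1 ((c : F) * b) * (x * t⁻¹)⁻¹
        = x * (t⁻¹ * mkGL 1 1 ((c : F) * b) * t) * x⁻¹ := by
          group
      _ = x * mkGL 1 1 b * x⁻¹ := by rw [h3]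
  rw [← hx _ _ h1, hσ']

/-- the effect of a scaling of `U` on the multiplicities -/
theorem mU_of_scale (ψ : AddChar F ℂ) {σ σ' : Matrix.SpecialLinearGroup (Fin 2) F → ℂ} (c : Fˣ)
    (h : ∀ b : F, σ' (upperU ((c : F) * b)) = σ (upperU b)) (a : F) :
    mU ψ σ' a = mU ψ σ (a * (c : F)) := by
  unfold mU
  congr 1
  rw [← Equiv.sum_comp (Equiv.mulLeft₀ (c : F) c.ne_zero)
    (fun y => ψ (-(a * y)) * σ' (upperU y))]
  apply Finset.sum_congr rfl
  intro x _
  rw [Equiv.mulLeft₀_apply, h x, mul_assoc]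

/-- in a finite field of odd characteristic the product of two nonsquares is a square -/
theorem isSquare_mul_of_not_isSquare [DecidableEq F] {a c : F}
    (ha : ¬ IsSquare a) (hc : ¬ IsSquare c) : IsSquare (a * c) := by
  have ha0 : a ≠ 0 := by
    rintro rfl
    exact ha ⟨0, (mul_zero 0).symm⟩
  have hc0 : c ≠ 0 := by
    rintro rfl
    exact hc ⟨0, (mul_zero 0).symm⟩
  rw [← quadraticChar_one_iff_isSquare (mul_ne_zero ha0 hc0), map_mul,
    quadraticChar_neg_one_iff_not_isSquare.mpr ha, quadraticChar_neg_one_iff_not_isSquare.mpr hc]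
  norm_num

/-- the `U`-profile away from `0` of the restriction of a class function of `GL₂` -/
theorem mU_resSL_of_ne_zero [DecidableEq F] {ψ : AddChar F ℂ} (hψ : ψ ≠ 1)
    {χ : GL (Fin 2) F → ℂ} (hχ : Cfsg.IsClassFunction (GL (Fin 2) F) χ)
    (hDε : χ 1 - χ (mkGL 1 1 1) = Fintype.card F) {a : F} (ha : a ≠ 0) :
    mU ψ (resSL χ) a = 1 := by
  rw [mU_resSL hψ χ hχ a, if_neg ha]
  have hq : (Fintype.card F : ℂ) ≠ 0 := by
    have : 0 < Fintype.card F := Fintype.card_pos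
    exact_mod_cast this.ne'
  have : χ 1 + -1 * χ (mkGL 1 1 1) = Fintype.card F := by
    rw [← hDε]; ring
  rw [this, inv_mul_cancel₀ hq]

/-- the `U`-profile of the two halves of the restriction of a class function of `GL₂` -/
theorem half_profile [DecidableEq F] {ψ : AddChar F ℂ} (hψ : ψ ≠ 1)
    {χ : GL (Fin 2) F → ℂ} (hχ : Cfsg.IsClassFunction (GL (Fin 2) F) χ)
    (hDε : χ 1 - χ (mkGL 1 1 1) = Fintype.card F)
    {σ σ' : Matrix.SpecialLinearGroup (Fin 2) F → ℂ}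
    (hσ : Cfsg.IsCharacter (Matrix.SpecialLinearGroup (Fin 2) F) σ)
    (hσ' : Cfsg.IsCharacter (Matrix.SpecialLinearGroup (Fin 2) F) σ')
    (hsum : resSL χ = σ + σ') (hc : GLConj σ σ') :
    mU ψ σ' 0 = mU ψ σ 0 ∧
    ∃ m1 : ℕ, (m1 = 0 ∨ m1 = 1) ∧
      (∀ a : F, a ≠ 0 → IsSquare a → mU ψ σ a = m1 ∧ mU ψ σ' a = 1 - m1) ∧
      (∀ a : F, ¬ IsSquare a → mU ψ σ a = 1 - m1 ∧ mU ψ σ' a = m1) := by
  have hcfσ := IsCharacter.isClassFunction hσ
  have hcfσ' := IsCharacter.isClassFunction hσ'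
  obtain ⟨c, hcs⟩ := glconj_upperU hcfσ' hc
  have hscale := mU_of_scale ψ c hcs
  have hadd : ∀ a : F, a ≠ 0 → mU ψ σ a + mU ψ σ' a = 1 := by
    intro a ha
    rw [← mU_add, ← hsum, mU_resSL_of_ne_zero hψ hχ hDε ha]
  obtain ⟨m1, hm1⟩ := mU_nat ψ hσ 1
  obtain ⟨m1', hm1'⟩ := mU_nat ψ hσ' 1
  have h11 := hadd 1 one_ne_zero
  rw [hm1, hm1'] at h11
  have h11' : m1 + m1' = 1 := by exact_mod_cast h11
  -- `c` is not a square
  have hcns : ¬ IsSquare (c : F) := by
    rintro ⟨d, hd⟩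
    have hd0 : d ≠ 0 := by
      rintro rfl
      exact c.ne_zero (by rw [hd, mul_zero])
    have h2 := mU_mul_sq ψ hcfσ (Units.mk0 d hd0) 1
    rw [Units.val_mk0, one_mul, sq, ← hd] at h2
    have h3 := hscale 1
    rw [one_mul, h2, hm1, hm1'] at h3
    have h4 : m1' = m1 := by exact_mod_cast h3
    omega
  refine ⟨?_, m1, by omega, ?_, ?_⟩
  · have := hscale 0
    rwa [zero_mul] at this
  · intro a ha hsq
    have h1 : mU ψ σ a = m1 := by rw [mU_of_isSquare ψ hcfσ ha hsq, hm1]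
    refine ⟨h1, ?_⟩
    have h2 := hadd a ha
    rw [h1] at h2
    linear_combination h2
  · intro a hns
    have ha0 : a ≠ 0 := by
      rintro rfl
      exact hns ⟨0, (mul_zero 0).symm⟩
    have hsq := isSquare_mul_of_not_isSquare hns hcns
    have h1 : mU ψ σ' a = m1 := by
      rw [hscale a, mU_of_isSquare ψ hcfσ (mul_ne_zero ha0 c.ne_zero) hsq, hm1]
    refine ⟨?_, h1⟩
    have h2 := hadd a ha0
    rw [h1] at h2
    linear_combination h2

/-- the multiplicity of the trivial character of `U` in a half -/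
theorem half_mU_zero [DecidableEq F] {ψ : AddChar F ℂ} (hψ : ψ ≠ 1)
    {χ : GL (Fin 2) F → ℂ} (hχ : Cfsg.IsClassFunction (GL (Fin 2) F) χ)
    {σ σ' : Matrix.SpecialLinearGroup (Fin 2) F → ℂ}
    (hσ' : Cfsg.IsClassFunction (Matrix.SpecialLinearGroup (Fin 2) F) σ')
    (hsum : resSL χ = σ + σ') (hc : GLConj σ σ') :
    2 * mU ψ σ 0 = (Fintype.card F : ℂ)⁻¹ *
      (χ 1 + ((Fintype.card F : ℂ) - 1) * χ (mkGL 1 1 1)) := by
  obtain ⟨c, hcs⟩ := glconj_upperU hσ' hc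
  have h0 := mU_of_scale ψ c hcs 0
  rw [zero_mul] at h0
  have h1 := mU_resSL hψ χ hχ 0
  rw [if_pos rfl, hsum, mU_add, h0] at h1
  rw [← h1]
  ring

end Cfsg.Agent.Lib.Helper4.SPW
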