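import Mathlib
import Cfsg.Agent.Lib.Helper4.SPWSL2b
import Cfsg.Agent.Lib.Helper4.SL2Deg

/-!
Farm SPW (statement S2524), unit SL2, part (c): the irreducible characters of `SL₂(F)`, `|F|` odd,
whose restriction to `U` contains no character `x ↦ ψ (a x)` with `a` a nonsquare.
-/

set_option autoImplicit false

namespace Cfsg.Agent.Lib.Helper4.SPW

open Cfsg.Agent.Lib.Helper4 Cfsg.Agent.Lib.Helper6 Matrix Cfsg.Agent.S2308
open scoped ComplexConjugate MatrixGroups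

variable {F : Type*} [Field F] [Fintype F] [DecidableEq F]

/-- `σ` is an irreducible character of `SL₂(F)` whose restriction to `U` is
`m0 • 1 + ∑ (a a nonzero square), (x ↦ ψ (a x))`, and of degree `(|F| - 1) / 2 + m0` -/
def IsWeil (ψ : AddChar F ℂ) (m0 : ℕ) (σ : Matrix.SpecialLinearGroup (Fin 2) F → ℂ) : Prop :=
  Cfsg.IsIrrCharacter (Matrix.SpecialLinearGroup (Fin 2) F) σ ∧
  2 * σ 1 = (Fintype.card F : ℂ) - 1 + 2 * m0 ∧
  mU ψ σ 0 = m0 ∧
  (∀ a : F, a ≠ 0 → IsSquare a → mU ψ σ a = 1) ∧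
  (∀ a : F, ¬ IsSquare a → mU ψ σ a = 0)

/-- the halves of a class function of `GL₂` with `χ 1 - χ u = |F|`: the one which misses a
nonsquare has the profile `(m0, 1, 0)` and the other one the profile `(m0, 0, 1)` -/
theorem half_isWeil {ψ : AddChar F ℂ} (hψ : ψ ≠ 1)
    {χ : GL (Fin 2) F → ℂ} (hχ : Cfsg.IsClassFunction (GL (Fin 2) F) χ)
    (hDε : χ 1 - χ (mkGL 1 1 1) = Fintype.card F) (m0 : ℕ)
    (hm0 : χ 1 + ((Fintype.card F : ℂ) - 1) * χ (mkGL 1 1 1) = 2 * m0 * Fintype.card F)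
    {σ σ' : Matrix.SpecialLinearGroup (Fin 2) F → ℂ}
    (hσ : Cfsg.IsIrrCharacter (Matrix.SpecialLinearGroup (Fin 2) F) σ)
    (hσ' : Cfsg.IsIrrCharacter (Matrix.SpecialLinearGroup (Fin 2) F) σ')
    (hsum : resSL χ = σ + σ') (hc : GLConj σ σ')
    {ε : F} (hε : ¬ IsSquare ε) (h0 : mU ψ σ ε = 0) :
    IsWeil ψ m0 σ ∧ (∀ a : F, ¬ IsSquare a → mU ψ σ' a = 1) ∧
      (∀ a : F, a ≠ 0 → IsSquare a → mU ψ σ' a = 0) ∧ mU ψ σ' 0 = m0 := by
  have hq : (Fintype.card F : ℂ) ≠ 0 := by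
    have : 0 < Fintype.card F := Fintype.card_pos
    exact_mod_cast this.ne'
  obtain ⟨h00, m1, hm1, hsq, hnsq⟩ := half_profile hψ hχ hDε (IsIrrCharacter.isCharacter hσ)
    (IsIrrCharacter.isCharacter hσ') hsum hc
  have hm1' : m1 = 1 := by
    have := (hnsq ε hε).1
    rw [h0] at this
    rcases hm1 with rfl | rfl
    · simp at this
    · rfl
  subst hm1'
  have hzero : mU ψ σ 0 = m0 := by
    have h := half_mU_zero hψ hχ (IsIrrCharacter.isClassFunction hσ') hsum hc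
    rw [hm0] at h
    have h2 : 2 * mU ψ σ 0 = 2 * m0 := by
      rw [h]
      field_simp
    exact mul_left_cancel₀ two_ne_zero h2
  refine ⟨⟨hσ, ?_, hzero, ?_, ?_⟩, ?_, ?_, ?_⟩
  · rw [half_degree hsum hc]
    have hε' : χ (mkGL 1 1 1) = 2 * m0 - 1 := by
      apply mul_left_cancel₀ hq
      linear_combination hm0 - hDε
    linear_combination hDε + hε'
  · intro a ha hs
    rw [(hsq a ha hs).1, Nat.cast_one]
  · intro a hs
    rw [(hnsq a hs).1, Nat.cast_one, sub_self]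
  · intro a hs
    rw [(hnsq a hs).2, Nat.cast_one]
  · intro a ha hs
    rw [(hsq a ha hs).2, Nat.cast_one, sub_self]
  · rw [h00, hzero]

/-- the irreducible characters of `SL₂(F)` missing some character `x ↦ ψ (ε x)`, `ε` a nonsquare,
on `U`: the trivial character and one half of each of the two splitting restrictions -/
theorem irr_cases_of_nsq [Fintype (GL (Fin 2) F)] {ψ : AddChar F ℂ} (hψ : ψ ≠ 1)
    {σ : Matrix.SpecialLinearGroup (Fin 2) F → ℂ}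
    (hσ : Cfsg.IsIrrCharacter (Matrix.SpecialLinearGroup (Fin 2) F) σ) (hne : σ ≠ fun _ => 1)
    {ε : F} (hε : ¬ IsSquare ε) (h0 : mU ψ σ ε = 0) :
    (∃ (α₀ : MulChar F ℂ) (σ' : Matrix.SpecialLinearGroup (Fin 2) F → ℂ), α₀ ≠ 1 ∧ α₀ ^ 2 = 1 ∧
      Cfsg.IsIrrCharacter (Matrix.SpecialLinearGroup (Fin 2) F) σ' ∧ σ ≠ σ' ∧
      resSL (psGL2 1 α₀) = σ + σ' ∧ GLConj σ σ' ∧ IsWeil ψ 1 σ ∧
      (∀ a : F, ¬ IsSquare a → mU ψ σ' a = 1)) ∨
    (∃ (χ : GL (Fin 2) F → ℂ) (σ' : Matrix.SpecialLinearGroup (Fin 2) F → ℂ),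
      Cfsg.IsIrrCharacter (GL (Fin 2) F) χ ∧ NonPS χ ∧
      Cfsg.IsIrrCharacter (Matrix.SpecialLinearGroup (Fin 2) F) σ' ∧ σ ≠ σ' ∧
      resSL χ = σ + σ' ∧ GLConj σ σ' ∧ IsWeil ψ 0 σ ∧
      (∀ a : F, ¬ IsSquare a → mU ψ σ' a = 1)) := by
  have hε0 : ε ≠ 0 := by
    rintro rfl
    exact hε ⟨0, (mul_zero 0).symm⟩
  rcases sl2_irr_types σ hσ with h | h | ⟨δ, hδ, h⟩ | ⟨χ, hχ, hns, h⟩ |
    ⟨α₀, σ', h1, h2, h3, h4, hsum, hc, -⟩ |
    ⟨χ, α₀, σ', hχ, hns, -, -, -, h3, h4, hsum, hc, -⟩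
  · exact absurd h hne
  · exfalso
    have := mU_resSL_of_ne_zero hψ (IsIrrCharacter.isClassFunction (isIrr_stGL2 (1 : MulChar F ℂ)))
      (by rw [stGL2_one, stGL2_unip, sub_zero]) hε0
    rw [← h, h0] at this
    exact zero_ne_one this
  · exfalso
    have hδ1 : (1 : MulChar F ℂ) ≠ δ := by
      rintro rfl
      exact hδ (one_pow 2)
    have := mU_resSL_of_ne_zero hψ
      (IsIrrCharacter.isClassFunction (Cfsg.Agent.S2304.isIrr_psGL2 1 δ hδ1))
      (by rw [psGL2_one, psGL2_unip]; ring) hε0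
    rw [← h, h0] at this
    exact zero_ne_one this
  · exfalso
    have hv := nonPS_values hχ hns
    have := mU_resSL_of_ne_zero hψ (IsIrrCharacter.isClassFunction hχ)
      (by rw [hv.1, hv.2]; ring) hε0
    rw [← h, h0] at this
    exact zero_ne_one this
  · left
    have hirr := Cfsg.Agent.S2304.isIrr_psGL2 1 α₀ (Ne.symm h1)
    have hw := half_isWeil hψ (IsIrrCharacter.isClassFunction hirr)
      (by rw [psGL2_one, psGL2_unip]; ring) 1
      (by rw [psGL2_one, psGL2_unip]; push_cast; ring) hσ h3 hsum hc hε h0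
    refine ⟨α₀, σ', h1, h2, h3, h4, hsum, hc, ?_, hw.2.1⟩
    have := hw.1
    simpa using this
  · right
    have hv := nonPS_values hχ hns
    have hw := half_isWeil hψ (IsIrrCharacter.isClassFunction hχ)
      (by rw [hv.1, hv.2]; ring) 0
      (by rw [hv.1, hv.2]; push_cast; ring) hσ h3 hsum hc hε h0
    exact ⟨χ, σ', hχ, hns, h3, h4, hsum, hc, hw.1, hw.2.1⟩

end Cfsg.Agent.Lib.Helper4.SPW
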