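import Mathlib
import Cfsg.Agent.Lib.Helper4.SPWSL2c

/-!
Farm SPW (statement S2524), unit SL2, part (g): Fourier inversion and the Parseval identity on `U`;
the sum of `|σ u|²` over `U` for the Weil characters.
-/

set_option autoImplicit false
set_option linter.unusedSectionVars false

namespace Cfsg.Agent.Lib.Helper4.SPW

open Cfsg.Agent.Lib.Helper4 Cfsg.Agent.Lib.Helper6 Matrix Cfsg.Agent.S2308
open scoped ComplexConjugate MatrixGroups

variable {F : Type*} [Field F] [Fintype F] [DecidableEq F]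

theorem card_ne_zero_C : (Fintype.card F : ℂ) ≠ 0 := by
  have : 0 < Fintype.card F := Fintype.card_pos
  exact_mod_cast this.ne'

/-- the sum of a nontrivial additive character over a line, second variable -/
theorem sum_addChar_mul' {ψ : AddChar F ℂ} (hψ : ψ ≠ 1) (x : F) :
    ∑ a : F, ψ (a * x) = if x = 0 then (Fintype.card F : ℂ) else 0 := by
  rw [AddChar.sum_mulShift x (AddChar.IsPrimitive.of_ne_one hψ)]
  split_ifs <;> simp

/-- Fourier inversion on `U` -/
theorem mU_inversion {ψ : AddChar F ℂ} (hψ : ψ ≠ 1)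
    (φ : Matrix.SpecialLinearGroup (Fin 2) F → ℂ) (x : F) :
    ∑ a : F, mU ψ φ a * ψ (a * x) = φ (upperU x) := by
  unfold mU
  have h1 : ∀ a : F, (Fintype.card F : ℂ)⁻¹ * (∑ y : F, ψ (-(a * y)) * φ (upperU y)) * ψ (a * x) =
      ∑ y : F, (Fintype.card F : ℂ)⁻¹ * φ (upperU y) * ψ (a * (x - y)) := by
    intro a
    rw [mul_assoc, Finset.sum_mul, Finset.mul_sum]
    apply Finset.sum_congr rfl
    intro y _
    have : a * (x - y) = -(a * y) + a * x := by ring
    rw [this, AddChar.map_add_eq_mul]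
    ring
  rw [Finset.sum_congr rfl (fun a _ => h1 a), Finset.sum_comm]
  have h2 : ∀ y : F, ∑ a : F, (Fintype.card F : ℂ)⁻¹ * φ (upperU y) * ψ (a * (x - y)) =
      if y = x then φ (upperU y) else 0 := by
    intro y
    rw [← Finset.mul_sum, sum_addChar_mul' hψ (x - y)]
    by_cases hy : y = x
    · subst hy
      rw [if_pos (sub_self y), if_pos rfl]
      field_simp [card_ne_zero_C (F := F)]
    · rw [if_neg (fun h => hy (sub_eq_zero.mp h).symm), if_neg hy, mul_zero]
  rw [Finset.sum_congr rfl (fun y _ => h2 y), Finset.sum_ite_eq' Finset.univ x,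
    if_pos (Finset.mem_univ _)]

/-- the sum of all multiplicities is the degree -/
theorem sum_mU {ψ : AddChar F ℂ} (hψ : ψ ≠ 1) (φ : Matrix.SpecialLinearGroup (Fin 2) F → ℂ) :
    ∑ a : F, mU ψ φ a = φ 1 := by
  have h := mU_inversion hψ φ 0
  rw [upperU_zero] at h
  rw [← h]
  apply Finset.sum_congr rfl
  intro a _
  rw [mul_zero, AddChar.map_zero_eq_one, mul_one]

/-- the Parseval identity on `U` -/
theorem parseval_mU {ψ : AddChar F ℂ} (hψ : ψ ≠ 1)
    (φ : Matrix.SpecialLinearGroup (Fin 2) F → ℂ) :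
    ∑ x : F, φ (upperU x) * conj (φ (upperU x)) =
      (Fintype.card F : ℂ) * ∑ a : F, mU ψ φ a * conj (mU ψ φ a) := by
  have h1 : ∀ x : F, φ (upperU x) * conj (φ (upperU x)) =
      ∑ a : F, conj (mU ψ φ a) * (ψ (-(a * x)) * φ (upperU x)) := by
    intro x
    conv_lhs => rw [← mU_inversion hψ φ x]
    rw [map_sum, Finset.mul_sum]
    conv_lhs => rw [mU_inversion hψ φ x]
    apply Finset.sum_congr rfl
    intro a _
    rw [map_mul, ← AddChar.map_neg_eq_conj]
    ring
  rw [Finset.sum_congr rfl (fun x _ => h1 x), Finset.sum_comm, Finset.mul_sum]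
  apply Finset.sum_congr rfl
  intro a _
  rw [← Finset.mul_sum]
  have : ∑ x : F, ψ (-(a * x)) * φ (upperU x) = (Fintype.card F : ℂ) * mU ψ φ a := by
    unfold mU
    rw [← mul_assoc, mul_inv_cancel₀ card_ne_zero_C, one_mul]
  rw [this]
  ring

/-- for a Weil character the sum of `|σ u|²` over `U` is `|F| σ(1)` -/
theorem IsWeil.sum_unip {ψ : AddChar F ℂ} (hψ : ψ ≠ 1) {m0 : ℕ} (hm0 : m0 = 0 ∨ m0 = 1)
    {σ : Matrix.SpecialLinearGroup (Fin 2) F → ℂ} (h : IsWeil ψ m0 σ) :
    ∑ x : F, σ (upperU x) * conj (σ (upperU x)) = (Fintype.card F : ℂ) * σ 1 := by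
  rw [parseval_mU hψ σ, ← sum_mU hψ σ]
  congr 1
  apply Finset.sum_congr rfl
  intro a _
  by_cases ha : a = 0
  · subst ha
    rw [h.2.2.1]
    rcases hm0 with rfl | rfl <;> simp
  · by_cases hs : IsSquare a
    · rw [h.2.2.2.1 a ha hs]
      simp
    · rw [h.2.2.2.2 a hs]
      simp

end Cfsg.Agent.Lib.Helper4.SPW
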