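import Mathlib
import Cfsg.Agent.Lib.Helper4.SPWSL2g
import Cfsg.Agent.Lib.Helper4.SL2Q3

/-!
Farm SPW (statement S2524), unit SL2, part (h): values on the Borel subgroup.
-/

set_option autoImplicit false
set_option linter.unusedSectionVars false

namespace Cfsg.Agent.Lib.Helper4.SPW

open Cfsg.Agent.Lib.Helper4 Cfsg.Agent.Lib.Helper6 Matrix Cfsg.Agent.S2308
open scoped ComplexConjugate MatrixGroups

variable {F : Type*} [Field F]

/-- `GL₂`-conjugate class functions of `SL₂` agree at the elements commuting with the diagonal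
matrices `diag(c, 1)` -/
theorem glconj_apply_of_commute {σ σ' : Matrix.SpecialLinearGroup (Fin 2) F → ℂ}
    (hσ : Cfsg.IsClassFunction (Matrix.SpecialLinearGroup (Fin 2) F) σ) (hc : GLConj σ σ')
    (h : Matrix.SpecialLinearGroup (Fin 2) F)
    (hcomm : ∀ c : Fˣ, mkGL c 1 0 * Matrix.SpecialLinearGroup.toGL h =
      Matrix.SpecialLinearGroup.toGL h * mkGL c 1 0) : σ' h = σ h := by
  obtain ⟨x, hx⟩ := hc
  set c : Fˣ := Matrix.GeneralLinearGroup.det x with hc
  set m : GL (Fin 2) F := mkGL c 1 0 with hm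
  have hmem : m⁻¹ * x ∈ detKer F := by
    rw [MonoidHom.mem_ker, map_mul, map_inv]
    have : Matrix.GeneralLinearGroup.det m = c := by
      apply Units.ext
      rw [Matrix.GeneralLinearGroup.val_det_apply, hm, mkGL_coe, Matrix.det_fin_two_of]
      simp
    rw [this, inv_mul_cancel]
  set n : Matrix.SpecialLinearGroup (Fin 2) F := slEquiv.symm ⟨_, hmem⟩ with hn
  have hn' : Matrix.SpecialLinearGroup.toGL n = m⁻¹ * x := by
    rw [← slEquiv_coe, hn, MulEquiv.apply_symm_apply]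
  have h1 : Matrix.SpecialLinearGroup.toGL h =
      x * Matrix.SpecialLinearGroup.toGL (n⁻¹ * h * n⁻¹⁻¹) * x⁻¹ := by
    rw [inv_inv, map_mul, map_mul, map_inv, hn']
    have h2 := hcomm c
    rw [← hm] at h2
    have h3 : m * Matrix.SpecialLinearGroup.toGL h * m⁻¹ = Matrix.SpecialLinearGroup.toGL h := by
      rw [h2, mul_inv_cancel_right]
    calc Matrix.SpecialLinearGroup.toGL h = m * Matrix.SpecialLinearGroup.toGL h * m⁻¹ := h3.symm
      _ = x * ((m⁻¹ * x)⁻¹ * Matrix.SpecialLinearGroup.toGL h * (m⁻¹ * x)) * x⁻¹ := by group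
  rw [hx _ _ h1, hσ]

/-- a class function is constant on `t U` for `t` with `t² ≠ 1` -/
theorem classFun_mkSL_of_sq_ne {φ : Matrix.SpecialLinearGroup (Fin 2) F → ℂ}
    (hφ : Cfsg.IsClassFunction (Matrix.SpecialLinearGroup (Fin 2) F) φ) (t : Fˣ)
    (ht : (t : F) ^ 2 ≠ 1) (x : F) : φ (mkSL t x) = φ (mkSL t 0) := by
  have hne : (t : F) - ((t⁻¹ : Fˣ) : F) ≠ 0 := by
    intro h
    apply ht
    have h2 : (t : F) = ((t⁻¹ : Fˣ) : F) := sub_eq_zero.mp h
    rw [sq]
    nth_rewrite 2 [h2]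
    rw [← Units.val_mul, mul_inv_cancel, Units.val_one]
  symm
  apply classFunction_eq_of_semiconj φ hφ (mkSL 1 (x / ((t : F) - ((t⁻¹ : Fˣ) : F))))
  rw [mkSL_mul, mkSL_mul]
  congr 1
  · rw [one_mul, mul_one]
  · rw [Units.val_one, one_mul, zero_mul, add_zero]
    field_simp
    ring

theorem mkSL_one_eq (x : F) : mkSL (1 : Fˣ) x = upperU x := by
  rw [sl2_ext_iff]
  simp [mkSL_coe, upperU_coe]

theorem mkSL_neg_one_eq (x : F) : mkSL (-1 : Fˣ) x = mkSL (-1 : Fˣ) 0 * upperU (-x) := by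
  rw [← mkSL_one_eq, mkSL_mul]
  congr 1
  · rw [mul_one]
  · simp

theorem mkSL_neg_one_central (h : Matrix.SpecialLinearGroup (Fin 2) F) :
    mkSL (-1 : Fˣ) 0 * h = h * mkSL (-1 : Fˣ) 0 := by
  rw [sl2_ext_iff]
  simp only [Matrix.SpecialLinearGroup.coe_mul, mkSL_coe, Matrix.mul_apply, Fin.sum_univ_two,
    Matrix.of_apply, Matrix.cons_val', Matrix.cons_val_zero, Matrix.cons_val_one,
    Matrix.cons_val_fin_one]
  refine ⟨?_, ?_, ?_, ?_⟩ <;> simp

theorem mkSL_neg_one_mem_center :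
    mkSL (-1 : Fˣ) 0 ∈ Subgroup.center (Matrix.SpecialLinearGroup (Fin 2) F) := by
  rw [Subgroup.mem_center_iff]
  intro g
  exact (mkSL_neg_one_central g).symm

theorem mkSL_neg_one_eq_neg : mkSL (-1 : Fˣ) 0 = (-1 : Matrix.SpecialLinearGroup (Fin 2) F) := by
  rw [sl2_ext_iff]
  simp [mkSL_coe]

/-- `t² ≠ 1` for `t ≠ 1, -1` -/
theorem units_sq_ne_one {t : Fˣ} (h1 : t ≠ 1) (h2 : t ≠ -1) : (t : F) ^ 2 ≠ 1 := by
  intro h
  have h3 : ((t : F) - 1) * ((t : F) + 1) = 0 := by linear_combination h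
  rcases mul_eq_zero.mp h3 with h4 | h4
  · apply h1
    apply Units.ext
    rw [Units.val_one]
    exact sub_eq_zero.mp h4
  · apply h2
    apply Units.ext
    rw [Units.val_neg, Units.val_one]
    exact eq_neg_of_add_eq_zero_left h4

end Cfsg.Agent.Lib.Helper4.SPW
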