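import Mathlib
import Cfsg.Agent.Lib.Helper4.SPWSL2c
import Cfsg.Agent.S2299

/-!
Farm SPW (statement S2524), unit SL2, part (d): existence and uniqueness of the two irreducible
characters of `SL₂(F)` with `U`-profiles `(1, 1, 0)` and `(0, 1, 0)`, and the decomposition of
the characters without trivial constituent whose restriction to `U` misses the nonsquares.
-/

set_option autoImplicit false

namespace Cfsg.Agent.Lib.Helper4.SPW

open Cfsg.Agent.Lib.Helper4 Cfsg.Agent.Lib.Helper6 Matrix Cfsg.Agent.S2308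
open scoped ComplexConjugate MatrixGroups

variable {F : Type*} [Field F] [Fintype F] [DecidableEq F]

omit [DecidableEq F] in
theorem exists_nonsquare_of_odd (hodd : Odd (Fintype.card F)) : ∃ ε : F, ¬ IsSquare ε := by
  apply FiniteField.exists_nonsquare
  intro h2
  have := FiniteField.even_card_of_char_two h2
  rw [Nat.odd_iff] at hodd
  omega

theorem mU_one_fun {ψ : AddChar F ℂ} (hψ : ψ ≠ 1) {a : F} (ha : a ≠ 0) :
    mU ψ (fun _ => (1 : ℂ)) a = 0 := by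
  unfold mU
  simp only [mul_one]
  rw [sum_addChar_mul hψ a, if_neg ha, mul_zero]

theorem IsWeil.ne_one {ψ : AddChar F ℂ} (hψ : ψ ≠ 1) {m0 : ℕ}
    {σ : Matrix.SpecialLinearGroup (Fin 2) F → ℂ} (h : IsWeil ψ m0 σ) : σ ≠ fun _ => 1 := by
  rintro rfl
  have h1 := h.2.2.2.1 1 one_ne_zero ⟨1, (mul_one 1).symm⟩
  rw [mU_one_fun hψ one_ne_zero] at h1
  exact zero_ne_one h1

/-- a constituent of `σ₁ + σ₁'` is `σ₁` or `σ₁'` -/
theorem eq_or_eq_of_add_eq_add {σ₁ σ₁' σ₂ σ₂' : Matrix.SpecialLinearGroup (Fin 2) F → ℂ}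
    (h₁ : Cfsg.IsIrrCharacter (Matrix.SpecialLinearGroup (Fin 2) F) σ₁)
    (h₁' : Cfsg.IsIrrCharacter (Matrix.SpecialLinearGroup (Fin 2) F) σ₁')
    (h₂ : Cfsg.IsIrrCharacter (Matrix.SpecialLinearGroup (Fin 2) F) σ₂)
    (h₂' : Cfsg.IsIrrCharacter (Matrix.SpecialLinearGroup (Fin 2) F) σ₂')
    (h : σ₁ + σ₁' = σ₂ + σ₂') : σ₂ = σ₁ ∨ σ₂ = σ₁' := by
  have hin : Cfsg.classInner σ₂ (σ₁ + σ₁') ≠ 0 := by
    rw [h, classInner_add_right, classInner_isIrrCharacter h₂ h₂, if_pos rfl,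
      classInner_isIrrCharacter h₂ h₂']
    split_ifs <;> norm_num
  rw [classInner_add_right, classInner_isIrrCharacter h₂ h₁,
    classInner_isIrrCharacter h₂ h₁'] at hin
  by_cases e1 : σ₂ = σ₁
  · exact Or.inl e1
  · by_cases e2 : σ₂ = σ₁'
    · exact Or.inr e2
    · rw [if_neg e1, if_neg e2, add_zero] at hin
      exact absurd rfl hin

/-- existence of the irreducible character with profile `(1, 1, 0)` -/
theorem exists_isWeil_one (hodd : Odd (Fintype.card F)) {ψ : AddChar F ℂ} (hψ : ψ ≠ 1) :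
    ∃ σ : Matrix.SpecialLinearGroup (Fin 2) F → ℂ, IsWeil ψ 1 σ := by
  obtain ⟨ε, hε⟩ := exists_nonsquare_of_odd hodd
  obtain ⟨α₀, hα1, hαsq⟩ := exists_quadratic_mulChar (F := F) hodd
  have hfix : lamGL2 α₀ * psGL2 1 α₀ = psGL2 1 α₀ := by
    rw [lam_mul_ps, mul_one, ← sq, hαsq, Cfsg.Agent.S2305.psGL2_swap]
  have hirr := Cfsg.Agent.S2304.isIrr_psGL2 1 α₀ (Ne.symm hα1)
  rcases resSL_cases hirr with ⟨-, h⟩ | ⟨-, -, -, -, ψ₁, ψ₂, hψ₁, hψ₂, hne, hsum, hc1, hc2⟩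
  · exact absurd (h α₀ hfix) hα1
  · have hcf := IsIrrCharacter.isClassFunction hirr
    have hDε : psGL2 1 α₀ 1 - psGL2 1 α₀ (mkGL 1 1 1) = (Fintype.card F : ℂ) := by
      rw [psGL2_one, psGL2_unip]; ring
    have hm0 : psGL2 1 α₀ 1 + ((Fintype.card F : ℂ) - 1) * psGL2 1 α₀ (mkGL 1 1 1) =
        2 * ((1 : ℕ) : ℂ) * Fintype.card F := by
      rw [psGL2_one, psGL2_unip]; push_cast; ring
    obtain ⟨-, m1, hm1, -, hnsq⟩ := half_profile hψ hcf hDε (IsIrrCharacter.isCharacter hψ₁)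
      (IsIrrCharacter.isCharacter hψ₂) hsum hc1
    rcases hm1 with rfl | rfl
    · refine ⟨ψ₂, (half_isWeil hψ hcf hDε 1 hm0 hψ₂ hψ₁ (by rw [hsum, add_comm]) hc2 hε ?_).1⟩
      rw [(hnsq ε hε).2, Nat.cast_zero]
    · refine ⟨ψ₁, (half_isWeil hψ hcf hDε 1 hm0 hψ₁ hψ₂ hsum hc1 hε ?_).1⟩
      rw [(hnsq ε hε).1, Nat.cast_one, sub_self]

/-- uniqueness of the irreducible character with profile `(1, 1, 0)` -/
theorem IsWeil.unique_one (hodd : Odd (Fintype.card F)) {ψ : AddChar F ℂ} (hψ : ψ ≠ 1)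
    {σ₁ σ₂ : Matrix.SpecialLinearGroup (Fin 2) F → ℂ} (h₁ : IsWeil ψ 1 σ₁) (h₂ : IsWeil ψ 1 σ₂) :
    σ₁ = σ₂ := by
  obtain ⟨ε, hε⟩ := exists_nonsquare_of_odd hodd
  have key : ∀ σ : Matrix.SpecialLinearGroup (Fin 2) F → ℂ, IsWeil ψ 1 σ →
      ∃ (α₀ : MulChar F ℂ) (σ' : Matrix.SpecialLinearGroup (Fin 2) F → ℂ), α₀ ≠ 1 ∧ α₀ ^ 2 = 1 ∧
      Cfsg.IsIrrCharacter (Matrix.SpecialLinearGroup (Fin 2) F) σ' ∧
      resSL (psGL2 1 α₀) = σ + σ' ∧ mU ψ σ' ε = 1 := by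
    intro σ h
    rcases irr_cases_of_nsq hψ h.1 (h.ne_one hψ) hε (h.2.2.2.2 ε hε) with
      ⟨α₀, σ', h1, h2, h3, -, hsum, -, -, h5⟩ | ⟨χ, σ', -, -, -, -, -, -, hw, -⟩
    · exact ⟨α₀, σ', h1, h2, h3, hsum, h5 ε hε⟩
    · exfalso
      have := hw.2.2.1
      rw [h.2.2.1] at this
      norm_num at this
  obtain ⟨α₁, σ₁', ha1, ha2, h3, hsum1, -⟩ := key σ₁ h₁
  obtain ⟨α₂, σ₂', hb1, hb2, h4, hsum2, h5⟩ := key σ₂ h₂
  have hα : α₂ = α₁ := mulChar_sq_unique α₂ α₁ hb2 ha2 hb1 ha1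
  rw [hα, hsum1] at hsum2
  rcases eq_or_eq_of_add_eq_add h₂.1 h4 h₁.1 h3 hsum2.symm with e | e
  · exact e
  · exfalso
    rw [← e, h₁.2.2.2.2 ε hε] at h5
    exact zero_ne_one h5

end Cfsg.Agent.Lib.Helper4.SPW
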