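import Mathlib
import Cfsg.Agent.Lib.Helper4.SPWSL2d

/-!
Farm SPW (statement S2524), unit SL2, part (e): the irreducible character with profile `(0, 1, 0)`
(`|F| ≥ 5`), and the decomposition lemma (S-b).
-/

set_option autoImplicit false

namespace Cfsg.Agent.Lib.Helper4.SPW

open Cfsg.Agent.Lib.Helper4 Cfsg.Agent.Lib.Helper6 Matrix Cfsg.Agent.S2308
open scoped ComplexConjugate MatrixGroups

variable {F : Type*} [Field F] [Fintype F] [DecidableEq F]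

omit [DecidableEq F] in
theorem cast_half_sub (hodd : Odd (Fintype.card F)) :
    (((Fintype.card F - 1) / 2 : ℕ) : ℂ) = ((Fintype.card F : ℂ) - 1) / 2 := by
  obtain ⟨k, hk⟩ := hodd
  have : (Fintype.card F - 1) / 2 = k := by omega
  rw [this, hk]
  push_cast
  ring

omit [DecidableEq F] in
theorem cast_half_add (hodd : Odd (Fintype.card F)) :
    (((Fintype.card F + 1) / 2 : ℕ) : ℂ) = ((Fintype.card F : ℂ) + 1) / 2 := by
  obtain ⟨k, hk⟩ := hodd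
  have : (Fintype.card F + 1) / 2 = k + 1 := by omega
  rw [this, hk]
  push_cast
  ring

theorem IsWeil.deg_zero (hodd : Odd (Fintype.card F)) {ψ : AddChar F ℂ}
    {σ : Matrix.SpecialLinearGroup (Fin 2) F → ℂ} (h : IsWeil ψ 0 σ) :
    σ 1 = (((Fintype.card F - 1) / 2 : ℕ) : ℂ) := by
  rw [cast_half_sub hodd]
  have := h.2.1
  push_cast at this
  linear_combination (1 / 2 : ℂ) * this

theorem IsWeil.deg_one (hodd : Odd (Fintype.card F)) {ψ : AddChar F ℂ}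
    {σ : Matrix.SpecialLinearGroup (Fin 2) F → ℂ} (h : IsWeil ψ 1 σ) :
    σ 1 = (((Fintype.card F + 1) / 2 : ℕ) : ℂ) := by
  rw [cast_half_add hodd]
  have := h.2.1
  push_cast at this
  linear_combination (1 / 2 : ℂ) * this

/-- an irreducible character of degree `(|F| - 1) / 2`, `|F| ≥ 5`, is a cuspidal half -/
theorem cusp_half_of_deg (hodd : Odd (Fintype.card F)) (hq : 5 ≤ Fintype.card F)
    (σ : Matrix.SpecialLinearGroup (Fin 2) F → ℂ)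
    (hσ : Cfsg.IsIrrCharacter (Matrix.SpecialLinearGroup (Fin 2) F) σ)
    (hdeg : σ 1 = (((Fintype.card F - 1) / 2 : ℕ) : ℂ)) :
    ∃ (χ : GL (Fin 2) F → ℂ) (σ' : Matrix.SpecialLinearGroup (Fin 2) F → ℂ),
      Cfsg.IsIrrCharacter (GL (Fin 2) F) χ ∧ NonPS χ ∧
      Cfsg.IsIrrCharacter (Matrix.SpecialLinearGroup (Fin 2) F) σ' ∧ σ ≠ σ' ∧
      resSL χ = σ + σ' ∧ GLConj σ σ' ∧ GLConj σ' σ := by
  have hd : degN (⟨σ, hσ⟩ : Cfsg.IrrCharacter (Matrix.SpecialLinearGroup (Fin 2) F)) =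
      (Fintype.card F - 1) / 2 := by
    rw [degN_eq_iff]
    exact hdeg
  obtain ⟨k, hk⟩ := hodd
  rcases sl2_types_degN (⟨σ, hσ⟩ : Cfsg.IrrCharacter (Matrix.SpecialLinearGroup (Fin 2) F)) with
    ⟨-, h⟩ | ⟨-, h⟩ | ⟨δ, -, -, h⟩ | ⟨χ', -, -, -, h⟩ |
    ⟨α₀, ψ', -, -, -, -, -, -, -, h⟩ | ⟨χ, α₀, σ', hχ, hns, -, -, -, h3, h4, hsum, hc, hc', -⟩
  · omega
  · omega
  · omega
  · omega
  · omega
  · exact ⟨χ, σ', hχ, hns, h3, h4, hsum, hc, hc'⟩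

/-- existence of the irreducible character with profile `(0, 1, 0)` -/
theorem exists_isWeil_zero (hodd : Odd (Fintype.card F)) (hq : 5 ≤ Fintype.card F)
    {ψ : AddChar F ℂ} (hψ : ψ ≠ 1) :
    ∃ σ : Matrix.SpecialLinearGroup (Fin 2) F → ℂ, IsWeil ψ 0 σ := by
  obtain ⟨ε, hε⟩ := exists_nonsquare_of_odd hodd
  have hcard := ((Cfsg.Agent.S2299.result hodd).2 hq).2.2.2.2.2
  have hne : Nonempty {χ : Cfsg.IrrCharacter (Matrix.SpecialLinearGroup (Fin 2) F) //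
      (χ : Matrix.SpecialLinearGroup (Fin 2) F → ℂ) 1 =
        (((Fintype.card F - 1) / 2 : ℕ) : ℂ)} := by
    by_contra hcon
    rw [not_nonempty_iff] at hcon
    rw [Nat.card_of_isEmpty] at hcard
    omega
  obtain ⟨⟨⟨σ, hσ⟩, hdeg⟩⟩ := hne
  obtain ⟨χ, σ', hχ, hns, hσ', -, hsum, hc1, hc2⟩ := cusp_half_of_deg hodd hq σ hσ hdeg
  have hv := nonPS_values hχ hns
  have hcf := IsIrrCharacter.isClassFunction hχ
  have hDε : χ 1 - χ (mkGL 1 1 1) = (Fintype.card F : ℂ) := by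
    rw [hv.1, hv.2]; ring
  have hm0 : χ 1 + ((Fintype.card F : ℂ) - 1) * χ (mkGL 1 1 1) =
      2 * ((0 : ℕ) : ℂ) * Fintype.card F := by
    rw [hv.1, hv.2]; push_cast; ring
  obtain ⟨-, m1, hm1, -, hnsq⟩ := half_profile hψ hcf hDε (IsIrrCharacter.isCharacter hσ)
    (IsIrrCharacter.isCharacter hσ') hsum hc1
  rcases hm1 with rfl | rfl
  · refine ⟨σ', (half_isWeil hψ hcf hDε 0 hm0 hσ' hσ (by rw [hsum, add_comm]) hc2 hε ?_).1⟩
    rw [(hnsq ε hε).2, Nat.cast_zero]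
  · refine ⟨σ, (half_isWeil hψ hcf hDε 0 hm0 hσ hσ' hsum hc1 hε ?_).1⟩
    rw [(hnsq ε hε).1, Nat.cast_one, sub_self]

/-- uniqueness of the irreducible character with profile `(0, 1, 0)` -/
theorem IsWeil.unique_zero (hodd : Odd (Fintype.card F)) (hq : 5 ≤ Fintype.card F)
    {ψ : AddChar F ℂ} (hψ : ψ ≠ 1)
    {σ₁ σ₂ : Matrix.SpecialLinearGroup (Fin 2) F → ℂ} (h₁ : IsWeil ψ 0 σ₁) (h₂ : IsWeil ψ 0 σ₂) :
    σ₁ = σ₂ := by
  obtain ⟨ε, hε⟩ := exists_nonsquare_of_odd hodd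
  have hcard := ((Cfsg.Agent.S2299.result hodd).2 hq).2.2.2.2.2
  rcases irr_cases_of_nsq hψ h₁.1 (h₁.ne_one hψ) hε (h₁.2.2.2.2 ε hε) with
    ⟨α₀, σ', -, -, -, -, -, -, hw, -⟩ | ⟨χ, σ₁', -, -, h3, h4, -, hc, -, h5⟩
  · exfalso
    have := hw.2.2.1
    rw [h₁.2.2.1] at this
    norm_num at this
  · have hd1 := h₁.deg_zero hodd
    have hd2 := h₂.deg_zero hodd
    have hd1' : σ₁' 1 = (((Fintype.card F - 1) / 2 : ℕ) : ℂ) := by rw [hc.apply_one, hd1]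
    set T := {χ : Cfsg.IrrCharacter (Matrix.SpecialLinearGroup (Fin 2) F) //
      (χ : Matrix.SpecialLinearGroup (Fin 2) F → ℂ) 1 =
        (((Fintype.card F - 1) / 2 : ℕ) : ℂ)} with hT
    obtain ⟨y, -, hy⟩ := (Nat.card_eq_two_iff' (⟨⟨σ₁, h₁.1⟩, hd1⟩ : T)).mp hcard
    have e1 : (⟨⟨σ₁', h3⟩, hd1'⟩ : T) = y := by
      apply hy
      intro h
      apply h4
      exact (congrArg (fun t : T => (t.1 : Matrix.SpecialLinearGroup (Fin 2) F → ℂ)) h).symm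
    by_contra hne
    have e2 : (⟨⟨σ₂, h₂.1⟩, hd2⟩ : T) = y := by
      apply hy
      intro h
      apply hne
      exact (congrArg (fun t : T => (t.1 : Matrix.SpecialLinearGroup (Fin 2) F → ℂ)) h).symm
    have e3 : σ₂ = σ₁' :=
      congrArg (fun t : T => (t.1 : Matrix.SpecialLinearGroup (Fin 2) F → ℂ)) (e2.trans e1.symm)
    have h6 := h5 ε hε
    rw [← e3, h₂.2.2.2.2 ε hε] at h6
    exact zero_ne_one h6

end Cfsg.Agent.Lib.Helper4.SPW
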