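import Mathlib
import Cfsg.Agent.Lib.Helper4.SPWSL2e
import Cfsg.Agent.Lib.Helper6.Multiplicity

/-!
Farm SPW (statement S2524), unit SL2, part (f): the decomposition lemma (S-b).
-/

set_option autoImplicit false
set_option linter.unusedSectionVars false

namespace Cfsg.Agent.Lib.Helper4.SPW

open Cfsg.Agent.Lib.Helper4 Cfsg.Agent.Lib.Helper6 Matrix Cfsg.Agent.S2308
open scoped ComplexConjugate MatrixGroups

variable {F : Type*} [Field F] [Fintype F] [DecidableEq F]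

/-- (S-b): a character of `SL₂(F)` without trivial constituent whose restriction to `U` contains
no `x ↦ ψ (a x)` with `a` a nonsquare is a combination of the two Weil characters -/
theorem decomp_of_nsq (hodd : Odd (Fintype.card F)) {ψ : AddChar F ℂ} (hψ : ψ ≠ 1)
    {sigP sigM : Matrix.SpecialLinearGroup (Fin 2) F → ℂ}
    (hP : IsWeil ψ 1 sigP) (hM : IsWeil ψ 0 sigM)
    (huM : ∀ σ : Matrix.SpecialLinearGroup (Fin 2) F → ℂ, IsWeil ψ 0 σ → σ = sigM)
    {φ : Matrix.SpecialLinearGroup (Fin 2) F → ℂ}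
    (hφ : Cfsg.IsCharacter (Matrix.SpecialLinearGroup (Fin 2) F) φ)
    (h1 : Cfsg.classInner φ (fun _ => (1 : ℂ)) = 0)
    (hns : ∀ a : F, ¬ IsSquare a → mU ψ φ a = 0) :
    ∃ y z : ℕ, φ = y • sigP + z • sigM ∧ mU ψ φ 0 = y ∧ mU ψ φ 1 = y + z := by
  classical
  have instI : Fintype (Cfsg.IrrCharacter (Matrix.SpecialLinearGroup (Fin 2) F)) :=
    Fintype.ofFinite _
  obtain ⟨ε, hε⟩ := exists_nonsquare_of_odd hodd
  obtain ⟨m, hm, hinner⟩ := IsCharacter.exists_mult hφ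
  -- the multiplicities at `ε`
  have hnat : ∀ θ : Cfsg.IrrCharacter (Matrix.SpecialLinearGroup (Fin 2) F),
      ∃ n : ℕ, mU ψ (θ : Matrix.SpecialLinearGroup (Fin 2) F → ℂ) ε = n :=
    fun θ => mU_nat ψ (IsIrrCharacter.isCharacter θ.2) ε
  choose n hn using hnat
  have hsum0 : ∑ θ : Cfsg.IrrCharacter (Matrix.SpecialLinearGroup (Fin 2) F), m θ * n θ = 0 := by
    have h := hns ε hε
    rw [hm, mU_sum] at h
    have h2 : ∀ θ : Cfsg.IrrCharacter (Matrix.SpecialLinearGroup (Fin 2) F),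
        mU ψ (m θ • (θ : Matrix.SpecialLinearGroup (Fin 2) F → ℂ)) ε = ((m θ * n θ : ℕ) : ℂ) := by
      intro θ
      rw [mU_nsmul, hn θ, Nat.cast_mul]
    rw [Finset.sum_congr rfl (fun θ _ => h2 θ), ← Nat.cast_sum] at h
    exact_mod_cast h
  have hzero : ∀ θ : Cfsg.IrrCharacter (Matrix.SpecialLinearGroup (Fin 2) F), m θ * n θ = 0 := by
    intro θ
    exact (Finset.sum_eq_zero_iff.mp hsum0) θ (Finset.mem_univ _)
  set P : Cfsg.IrrCharacter (Matrix.SpecialLinearGroup (Fin 2) F) := ⟨sigP, hP.1⟩ with hPdef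
  set M : Cfsg.IrrCharacter (Matrix.SpecialLinearGroup (Fin 2) F) := ⟨sigM, hM.1⟩ with hMdef
  have hPM : P ≠ M := by
    intro h
    have h2 : sigP = sigM := congrArg Subtype.val h
    have h3 := hP.2.2.1
    rw [h2, hM.2.2.1] at h3
    norm_num at h3
  have hother : ∀ θ : Cfsg.IrrCharacter (Matrix.SpecialLinearGroup (Fin 2) F),
      θ ≠ P ∧ θ ≠ M → m θ = 0 := by
    intro θ hθ
    by_contra hmθ
    have hnθ : n θ = 0 := by
      rcases Nat.mul_eq_zero.mp (hzero θ) with h | h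
      · exact absurd h hmθ
      · exact h
    have hθε : mU ψ (θ : Matrix.SpecialLinearGroup (Fin 2) F → ℂ) ε = 0 := by
      rw [hn θ, hnθ, Nat.cast_zero]
    have hθ1 : (θ : Matrix.SpecialLinearGroup (Fin 2) F → ℂ) ≠ fun _ => 1 := by
      intro h
      have h2 := hinner θ
      rw [h, h1] at h2
      apply hmθ
      exact_mod_cast h2.symm
    rcases irr_cases_of_nsq hψ θ.2 hθ1 hε hθε with
      ⟨α₀, σ', -, -, -, -, -, -, hw, -⟩ | ⟨χ, σ', -, -, -, -, -, -, hw, -⟩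
    · apply hθ.1
      apply Subtype.ext
      exact IsWeil.unique_one hodd hψ hw hP
    · apply hθ.2
      apply Subtype.ext
      exact huM _ hw
  have hφ2 : φ = m P • sigP + m M • sigM := by
    rw [hm]
    rw [Finset.sum_eq_add P M hPM]
    · intro θ _ hθ
      rw [hother θ hθ, zero_smul]
    · intro h; exact absurd (Finset.mem_univ _) h
    · intro h; exact absurd (Finset.mem_univ _) h
  refine ⟨m P, m M, hφ2, ?_, ?_⟩
  · rw [hφ2, mU_add, mU_nsmul, mU_nsmul, hP.2.2.1, hM.2.2.1]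
    push_cast
    ring
  · rw [hφ2, mU_add, mU_nsmul, mU_nsmul, hP.2.2.2.1 1 one_ne_zero ⟨1, (mul_one 1).symm⟩,
      hM.2.2.2.1 1 one_ne_zero ⟨1, (mul_one 1).symm⟩]
    ring

end Cfsg.Agent.Lib.Helper4.SPW
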