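import Mathlib
import Cfsg.Agent.Lib.Helper4.SPWSL2f
import Cfsg.Agent.Lib.Helper4.SPWSL2g
import Cfsg.Agent.Lib.Helper4.SLnGen
import Cfsg.Agent.Lib.Helper6.Linear

/-!
Farm SPW (statement S2524), unit SL2, part (j): uniqueness of the irreducible character with
profile `(0, 1, 0)` for all odd `|F|` (for `|F| = 3` it is linear, and a linear character of `SL₂`
is determined by its restriction to `U`).
-/

set_option autoImplicit false
set_option linter.unusedSectionVars false

namespace Cfsg.Agent.Lib.Helper4.SPW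

open Cfsg.Agent.Lib.Helper4 Cfsg.Agent.Lib.Helper6 Matrix Cfsg.Agent.S2308
open scoped ComplexConjugate MatrixGroups

variable {F : Type*} [Field F]

/-- two linear characters of `SL₂(F)` which agree on `U` are equal -/
theorem linear_eq_of_eq_on_unip {σ₁ σ₂ : Matrix.SpecialLinearGroup (Fin 2) F → ℂ}
    (h₁ : Cfsg.IsCharacter (Matrix.SpecialLinearGroup (Fin 2) F) σ₁)
    (h₂ : Cfsg.IsCharacter (Matrix.SpecialLinearGroup (Fin 2) F) σ₂)
    (h11 : σ₁ 1 = 1) (h21 : σ₂ 1 = 1) (hU : ∀ x : F, σ₁ (upperU x) = σ₂ (upperU x)) :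
    σ₁ = σ₂ := by
  funext A
  have hc1 := IsCharacter.isClassFunction h₁
  have hc2 := IsCharacter.isClassFunction h₂
  refine transvection_induction_gen (P := fun A => σ₁ A = σ₂ A) ?_ ?_ A
  · intro i j hij c
    set w : Matrix.SpecialLinearGroup (Fin 2) F :=
      ⟨!![0, 1; -1, 0], by simp [Matrix.det_fin_two_of]⟩ with hw
    have hwc : (w : Matrix (Fin 2) (Fin 2) F) = !![0, 1; -1, 0] := rfl
    fin_cases i <;> fin_cases j
    · exact absurd rfl hij
    · have : Matrix.SpecialLinearGroup.transvection hij c = upperU c := by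
        rw [sl2_ext_iff]
        simp [Matrix.SpecialLinearGroup.transvection_coe, upperU_coe]
      simp only [this]
      exact hU c
    · have : w * upperU (-c) = Matrix.SpecialLinearGroup.transvection hij c * w := by
        rw [sl2_ext_iff]
        simp [Matrix.SpecialLinearGroup.transvection_coe, upperU_coe, hwc, Matrix.single_apply,
          Matrix.mul_apply, Fin.sum_univ_two, Matrix.add_apply]
      simp only []
      rw [classFunction_eq_of_semiconj σ₁ hc1 w _ _ this,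
        classFunction_eq_of_semiconj σ₂ hc2 w _ _ this]
      exact hU (-c)
    · exact absurd rfl hij
  · intro A B hA hB
    rw [IsCharacter.mul_of_apply_one_eq_one h₁ h11, IsCharacter.mul_of_apply_one_eq_one h₂ h21,
      hA, hB]

variable [Fintype F] [DecidableEq F]

/-- two characters with the same `U`-profile agree on `U` -/
theorem eq_on_unip_of_mU_eq {ψ : AddChar F ℂ} (hψ : ψ ≠ 1)
    {σ₁ σ₂ : Matrix.SpecialLinearGroup (Fin 2) F → ℂ}
    (h : ∀ a : F, mU ψ σ₁ a = mU ψ σ₂ a) (x : F) : σ₁ (upperU x) = σ₂ (upperU x) := by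
  rw [← mU_inversion hψ σ₁ x, ← mU_inversion hψ σ₂ x]
  apply Finset.sum_congr rfl
  intro a _
  rw [h a]

theorem IsWeil.mU_eq {ψ : AddChar F ℂ} {m0 : ℕ}
    {σ₁ σ₂ : Matrix.SpecialLinearGroup (Fin 2) F → ℂ} (h₁ : IsWeil ψ m0 σ₁) (h₂ : IsWeil ψ m0 σ₂)
    (a : F) : mU ψ σ₁ a = mU ψ σ₂ a := by
  by_cases ha : a = 0
  · subst ha
    rw [h₁.2.2.1, h₂.2.2.1]
  · by_cases hs : IsSquare a
    · rw [h₁.2.2.2.1 a ha hs, h₂.2.2.2.1 a ha hs]
    · rw [h₁.2.2.2.2 a hs, h₂.2.2.2.2 a hs]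

/-- uniqueness of the irreducible character with profile `(0, 1, 0)`, all odd `|F|` -/
theorem IsWeil.unique_zero' (hodd : Odd (Fintype.card F)) {ψ : AddChar F ℂ} (hψ : ψ ≠ 1)
    {σ₁ σ₂ : Matrix.SpecialLinearGroup (Fin 2) F → ℂ} (h₁ : IsWeil ψ 0 σ₁) (h₂ : IsWeil ψ 0 σ₂) :
    σ₁ = σ₂ := by
  by_cases hq : 5 ≤ Fintype.card F
  · exact IsWeil.unique_zero hodd hq hψ h₁ h₂
  · have h3 : Fintype.card F = 3 := by
      obtain ⟨k, hk⟩ := hodd
      have : 1 < Fintype.card F := Fintype.one_lt_card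
      omega
    have hd : ∀ σ : Matrix.SpecialLinearGroup (Fin 2) F → ℂ, IsWeil ψ 0 σ → σ 1 = 1 := by
      intro σ h
      have := h.2.1
      rw [h3] at this
      push_cast at this
      linear_combination (1 / 2 : ℂ) * this
    exact linear_eq_of_eq_on_unip (IsIrrCharacter.isCharacter h₁.1)
      (IsIrrCharacter.isCharacter h₂.1) (hd σ₁ h₁) (hd σ₂ h₂)
      (eq_on_unip_of_mU_eq hψ (IsWeil.mU_eq h₁ h₂))

end Cfsg.Agent.Lib.Helper4.SPW
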