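import Mathlib
import Cfsg.Agent.Lib.Helper4.SPWSL2j
import Cfsg.Agent.Lib.Helper4.SPWSL2h
import Cfsg.Agent.Lib.Helper4.SLCard
import Cfsg.Agent.Lib.Helper6.ClassMult
import Cfsg.Agent.Lib.Helper6.BlkVanish

/-!
Farm SPW (statement S2524), unit SL2, part (m): central signs and the "odd regular identity"
`∑ σ, (σ 1 - σ (-1)) * mU ψ σ a = q² - 1`.
-/

set_option autoImplicit false
set_option linter.unusedSectionVars false

namespace Cfsg.Agent.Lib.Helper4.SPW

open Cfsg.Agent.Lib.Helper4 Cfsg.Agent.Lib.Helper6 Matrix Cfsg.Agent.S2308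
open scoped ComplexConjugate MatrixGroups

variable {F : Type*} [Field F] [Fintype F] [DecidableEq F]

omit [Fintype F] [DecidableEq F] in
theorem mkSL_neg_one_mul_self :
    mkSL (-1 : Fˣ) 0 * mkSL (-1 : Fˣ) 0 = (1 : Matrix.SpecialLinearGroup (Fin 2) F) := by
  rw [mkSL_mul, ← upperU_zero, ← mkSL_one_eq]
  congr 1
  · simp
  · simp

/-- the central sign of an irreducible character of `SL₂(F)` -/
theorem central_sign {σ : Matrix.SpecialLinearGroup (Fin 2) F → ℂ}
    (hσ : Cfsg.IsIrrCharacter (Matrix.SpecialLinearGroup (Fin 2) F) σ) :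
    ∃ ω : ℂ, (ω = 1 ∨ ω = -1) ∧
      ∀ g : Matrix.SpecialLinearGroup (Fin 2) F, σ (mkSL (-1 : Fˣ) 0 * g) = ω * σ g := by
  obtain ⟨c, -, hc⟩ := apply_center_mul hσ (mkSL_neg_one_mem_center (F := F))
  refine ⟨c, ?_, hc⟩
  have h1 := hc (mkSL (-1 : Fˣ) 0)
  rw [mkSL_neg_one_mul_self] at h1
  have h2 := hc 1
  rw [mul_one] at h2
  rw [h2] at h1
  have h3 : (c - 1) * (c + 1) * σ 1 = 0 := by linear_combination -h1
  have hne := IsIrrCharacter.apply_one_ne_zero hσ
  rcases mul_eq_zero.mp h3 with h4 | h4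
  · rcases mul_eq_zero.mp h4 with h5 | h5
    · left; linear_combination h5
    · right; linear_combination h5
  · exact absurd h4 hne

omit [Fintype F] [DecidableEq F] in
theorem upperU_eq_one_iff (x : F) : upperU x = 1 ↔ x = 0 := by
  constructor
  · intro h
    have := congrArg (fun g : Matrix.SpecialLinearGroup (Fin 2) F =>
      (g : Matrix (Fin 2) (Fin 2) F) 0 1) h
    simpa [upperU_coe] using this
  · rintro rfl
    exact upperU_zero

omit [Fintype F] in
theorem mkSL_neg_one_mul_upperU_ne_one (hodd : (-1 : F) ≠ 1) (x : F) :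
    mkSL (-1 : Fˣ) 0 * upperU x ≠ 1 := by
  intro h
  have := congrArg (fun g : Matrix.SpecialLinearGroup (Fin 2) F =>
    (g : Matrix (Fin 2) (Fin 2) F) 0 0) h
  simp [upperU_coe, mkSL_coe, Matrix.mul_apply, Fin.sum_univ_two] at this
  exact hodd this

/-- the odd regular identity -/
theorem odd_identity (hodd : Odd (Fintype.card F)) (ψ : AddChar F ℂ) (a : F)
    [Fintype (Cfsg.IrrCharacter (Matrix.SpecialLinearGroup (Fin 2) F))] :
    ∑ σ : Cfsg.IrrCharacter (Matrix.SpecialLinearGroup (Fin 2) F),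
      ((σ : Matrix.SpecialLinearGroup (Fin 2) F → ℂ) 1 -
        (σ : Matrix.SpecialLinearGroup (Fin 2) F → ℂ) (mkSL (-1 : Fˣ) 0)) *
        mU ψ (σ : Matrix.SpecialLinearGroup (Fin 2) F → ℂ) a = (Fintype.card F : ℂ) ^ 2 - 1 := by
  have hq : (Fintype.card F : ℂ) ≠ 0 := card_ne_zero_C
  have hneg : (-1 : F) ≠ 1 := by
    intro h
    exact Ring.neg_one_ne_one_of_char_ne_two (by
      intro h2
      have := FiniteField.even_card_of_char_two h2
      rw [Nat.odd_iff] at hodd
      omega) h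
  unfold mU
  have h1 : ∀ σ : Cfsg.IrrCharacter (Matrix.SpecialLinearGroup (Fin 2) F),
      ((σ : Matrix.SpecialLinearGroup (Fin 2) F → ℂ) 1 -
        (σ : Matrix.SpecialLinearGroup (Fin 2) F → ℂ) (mkSL (-1 : Fˣ) 0)) *
        ((Fintype.card F : ℂ)⁻¹ * ∑ x : F, ψ (-(a * x)) *
          (σ : Matrix.SpecialLinearGroup (Fin 2) F → ℂ) (upperU x)) =
      ∑ x : F, (Fintype.card F : ℂ)⁻¹ * ψ (-(a * x)) *
        ((σ : Matrix.SpecialLinearGroup (Fin 2) F → ℂ) (upperU x) *
          (σ : Matrix.SpecialLinearGroup (Fin 2) F → ℂ) 1 -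
        (σ : Matrix.SpecialLinearGroup (Fin 2) F → ℂ) (mkSL (-1 : Fˣ) 0 * upperU x) *
          (σ : Matrix.SpecialLinearGroup (Fin 2) F → ℂ) 1) := by
    intro σ
    rw [Finset.mul_sum, Finset.mul_sum]
    apply Finset.sum_congr rfl
    intro x _
    have hcm := IsIrrCharacter.apply_central_mul σ.2 (z := mkSL (-1 : Fˣ) 0)
      (fun h => mkSL_neg_one_central h) (upperU x)
    have hne := IsIrrCharacter.apply_one_ne_zero σ.2
    rw [hcm]
    field_simp
  rw [Finset.sum_congr rfl (fun σ _ => h1 σ), Finset.sum_comm]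
  have h2 : ∀ x : F, ∑ σ : Cfsg.IrrCharacter (Matrix.SpecialLinearGroup (Fin 2) F),
      (Fintype.card F : ℂ)⁻¹ * ψ (-(a * x)) *
        ((σ : Matrix.SpecialLinearGroup (Fin 2) F → ℂ) (upperU x) *
          (σ : Matrix.SpecialLinearGroup (Fin 2) F → ℂ) 1 -
        (σ : Matrix.SpecialLinearGroup (Fin 2) F → ℂ) (mkSL (-1 : Fˣ) 0 * upperU x) *
          (σ : Matrix.SpecialLinearGroup (Fin 2) F → ℂ) 1) =
      if x = 0 then (Fintype.card F : ℂ) ^ 2 - 1 else 0 := by
    intro x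
    rw [← Finset.mul_sum, Finset.sum_sub_distrib, sum_irr_apply_mul_apply_one,
      sum_irr_apply_mul_apply_one, if_neg (mkSL_neg_one_mul_upperU_ne_one hneg x), sub_zero]
    by_cases hx : x = 0
    · subst hx
      rw [if_pos rfl, if_pos upperU_zero, mul_zero, neg_zero, AddChar.map_zero_eq_one, mul_one,
        card_SL2]
      have h1q : 1 ≤ Fintype.card F ^ 2 := Nat.one_le_pow _ _ Fintype.card_pos
      rw [Nat.cast_mul, Nat.cast_sub h1q]
      push_cast
      field_simp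
    · rw [if_neg hx, if_neg (fun h => hx ((upperU_eq_one_iff x).mp h)), mul_zero]
  rw [Finset.sum_congr rfl (fun x _ => h2 x), Finset.sum_ite_eq' Finset.univ (0 : F),
    if_pos (Finset.mem_univ _)]

end Cfsg.Agent.Lib.Helper4.SPW
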