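import Mathlib
import Cfsg.Agent.Lib.Helper4.SPWSL2m
import Cfsg.Agent.Lib.Helper4.PSL2Deg

/-!
Farm SPW (statement S2524), unit SL2, part (n): the list of the irreducible characters of
`SL₂(F)` with their `U`-profiles, in the form needed for the odd regular identity.
-/

set_option autoImplicit false
set_option linter.unusedSectionVars false

namespace Cfsg.Agent.Lib.Helper4.SPW

open Cfsg.Agent.Lib.Helper4 Cfsg.Agent.Lib.Helper6 Matrix Cfsg.Agent.S2308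
open scoped ComplexConjugate MatrixGroups

variable {F : Type*} [Field F] [Fintype F] [DecidableEq F]

theorem mU_mulShift (ψ : AddChar F ℂ) (c : F) (φ : Matrix.SpecialLinearGroup (Fin 2) F → ℂ)
    (a : F) : mU (AddChar.mulShift ψ c) φ a = mU ψ φ (c * a) := by
  unfold mU
  congr 1
  apply Finset.sum_congr rfl
  intro x _
  rw [AddChar.mulShift_apply]
  congr 2
  ring

theorem mulShift_ne_one {ψ : AddChar F ℂ} (hψ : ψ ≠ 1) {c : F} (hc : c ≠ 0) :
    AddChar.mulShift ψ c ≠ 1 :=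
  AddChar.IsPrimitive.of_ne_one hψ hc

/-- a character with profile `(m0, 0, 1)` relative to `ψ` has profile `(m0, 1, 0)` relative to
`ψ (ε ·)`, `ε` a nonsquare -/
theorem isWeil_mulShift_of {ψ : AddChar F ℂ} {m0 : ℕ}
    {σ : Matrix.SpecialLinearGroup (Fin 2) F → ℂ}
    (hσ : Cfsg.IsIrrCharacter (Matrix.SpecialLinearGroup (Fin 2) F) σ)
    (hdeg : 2 * σ 1 = (Fintype.card F : ℂ) - 1 + 2 * m0) (h0 : mU ψ σ 0 = m0)
    (hns : ∀ a : F, ¬ IsSquare a → mU ψ σ a = 1)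
    (hsq : ∀ a : F, a ≠ 0 → IsSquare a → mU ψ σ a = 0) {ε : F} (hε : ¬ IsSquare ε) :
    IsWeil (AddChar.mulShift ψ ε) m0 σ := by
  have hε0 : ε ≠ 0 := by
    rintro rfl
    exact hε ⟨0, (mul_zero 0).symm⟩
  refine ⟨hσ, hdeg, ?_, ?_, ?_⟩
  · rw [mU_mulShift, mul_zero, h0]
  · intro a ha hs
    rw [mU_mulShift]
    apply hns
    rintro ⟨r, hr⟩
    apply hε
    obtain ⟨s, hs⟩ := hs
    have hs0 : s ≠ 0 := by
      rintro rfl
      exact ha (by rw [hs, mul_zero])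
    refine ⟨r / s, ?_⟩
    field_simp
    have : ε * s ^ 2 = ε * a := by rw [hs]; ring
    rw [this, hr]
    ring
  · intro a hs
    rw [mU_mulShift]
    have ha : a ≠ 0 := by
      rintro rfl
      exact hs ⟨0, (mul_zero 0).symm⟩
    exact hsq _ (mul_ne_zero hε0 ha) (isSquare_mul_of_not_isSquare hε hs)

/-- the list of the irreducible characters of `SL₂(F)` with their `U`-profiles -/
theorem irr_profile_cases {ψ : AddChar F ℂ} (hψ : ψ ≠ 1) {ε : F} (hε : ¬ IsSquare ε)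
    {σ : Matrix.SpecialLinearGroup (Fin 2) F → ℂ}
    (hσ : Cfsg.IsIrrCharacter (Matrix.SpecialLinearGroup (Fin 2) F) σ) :
    σ (mkSL (-1 : Fˣ) 0) = σ 1 ∨
    (σ 1 = (Fintype.card F : ℂ) + 1 ∧ mU ψ σ 0 = 2 ∧ mU ψ σ 1 = 1 ∧ mU ψ σ ε = 1) ∨
    (σ 1 = (Fintype.card F : ℂ) - 1 ∧ mU ψ σ 0 = 0 ∧ mU ψ σ 1 = 1 ∧ mU ψ σ ε = 1) ∨
    (IsWeil ψ 1 σ ∨ IsWeil (AddChar.mulShift ψ ε) 1 σ) ∨
    (IsWeil ψ 0 σ ∨ IsWeil (AddChar.mulShift ψ ε) 0 σ) := by
  have instG : Fintype (GL (Fin 2) F) := Fintype.ofFinite _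
  have hq : (Fintype.card F : ℂ) ≠ 0 := card_ne_zero_C
  have hε0 : ε ≠ 0 := by
    rintro rfl
    exact hε ⟨0, (mul_zero 0).symm⟩
  have hhalf : ∀ (χ : GL (Fin 2) F → ℂ), Cfsg.IsClassFunction (GL (Fin 2) F) χ →
      χ 1 - χ (mkGL 1 1 1) = (Fintype.card F : ℂ) → ∀ m0 : ℕ,
      χ 1 + ((Fintype.card F : ℂ) - 1) * χ (mkGL 1 1 1) = 2 * m0 * Fintype.card F →
      ∀ σ' : Matrix.SpecialLinearGroup (Fin 2) F → ℂ,
      Cfsg.IsIrrCharacter (Matrix.SpecialLinearGroup (Fin 2) F) σ' → resSL χ = σ + σ' →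
      GLConj σ σ' → GLConj σ' σ → IsWeil ψ m0 σ ∨ IsWeil (AddChar.mulShift ψ ε) m0 σ := by
    intro χ hχ hDε m0 hm0 σ' hσ' hsum hc hc'
    obtain ⟨-, m1, hm1, -, hnsq⟩ := half_profile hψ hχ hDε (IsIrrCharacter.isCharacter hσ)
      (IsIrrCharacter.isCharacter hσ') hsum hc
    rcases hm1 with rfl | rfl
    · right
      have h0 : mU ψ σ' ε = 0 := by rw [(hnsq ε hε).2, Nat.cast_zero]
      obtain ⟨hw, h1, h2, h3⟩ := half_isWeil hψ hχ hDε m0 hm0 hσ' hσ
        (by rw [hsum, add_comm]) hc' hε h0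
      refine isWeil_mulShift_of hσ ?_ h3 h1 h2 hε
      have := hw.2.1
      rw [← hc.apply_one]
      exact this
    · left
      have h0 : mU ψ σ ε = 0 := by rw [(hnsq ε hε).1, Nat.cast_one, sub_self]
      exact (half_isWeil hψ hχ hDε m0 hm0 hσ hσ' hsum hc hε h0).1
  rcases sl2_irr_types σ hσ with h | h | ⟨δ, hδ, h⟩ | ⟨χ, hχ, hns, h⟩ |
    ⟨α₀, σ', h1, h2, h3, h4, hsum, hc, hc'⟩ |
    ⟨χ, α₀, σ', hχ, hns, -, -, -, h3, h4, hsum, hc, hc'⟩
  · left
    rw [h]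
  · left
    rw [h]
    exact resSL_st_center (mkSL_neg_one_mem_center (F := F))
  · right; left
    have hδ1 : (1 : MulChar F ℂ) ≠ δ := by
      rintro rfl
      exact hδ (one_pow 2)
    have hcf := IsIrrCharacter.isClassFunction (Cfsg.Agent.S2304.isIrr_psGL2 1 δ hδ1)
    have hDε : psGL2 1 δ 1 - psGL2 1 δ (mkGL 1 1 1) = (Fintype.card F : ℂ) := by
      rw [psGL2_one, psGL2_unip]; ring
    refine ⟨by rw [h, resSL_one, psGL2_one], ?_, ?_, ?_⟩
    · rw [h, mU_resSL hψ _ hcf, if_pos rfl, psGL2_one, psGL2_unip]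
      field_simp
      ring
    · rw [h, mU_resSL_of_ne_zero hψ hcf hDε one_ne_zero]
    · rw [h, mU_resSL_of_ne_zero hψ hcf hDε hε0]
  · right; right; left
    have hv := nonPS_values hχ hns
    have hcf := IsIrrCharacter.isClassFunction hχ
    have hDε : χ 1 - χ (mkGL 1 1 1) = (Fintype.card F : ℂ) := by
      rw [hv.1, hv.2]; ring
    refine ⟨by rw [h, resSL_one, hv.1], ?_, ?_, ?_⟩
    · rw [h, mU_resSL hψ _ hcf, if_pos rfl, hv.1, hv.2]
      ring
    · rw [h, mU_resSL_of_ne_zero hψ hcf hDε one_ne_zero]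
    · rw [h, mU_resSL_of_ne_zero hψ hcf hDε hε0]
  · right; right; right; left
    have hirr := Cfsg.Agent.S2304.isIrr_psGL2 1 α₀ (Ne.symm h1)
    have := hhalf _ (IsIrrCharacter.isClassFunction hirr)
      (by rw [psGL2_one, psGL2_unip]; ring) 1
      (by rw [psGL2_one, psGL2_unip]; push_cast; ring) σ' h3 hsum hc hc'
    simpa using this
  · right; right; right; right
    have hv := nonPS_values hχ hns
    have := hhalf _ (IsIrrCharacter.isClassFunction hχ)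
      (by rw [hv.1, hv.2]; ring) 0
      (by rw [hv.1, hv.2]; push_cast; ring) σ' h3 hsum hc hc'
    simpa using this

end Cfsg.Agent.Lib.Helper4.SPW
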