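import Mathlib
import Cfsg.Agent.Lib.Helper4.SPWSL2n

/-!
Farm SPW (statement S2524), unit SL2, part (o): the central signs of the two Weil characters of
`SL₂(F)`, from the odd regular identity.
-/

set_option autoImplicit false
set_option linter.unusedSectionVars false

namespace Cfsg.Agent.Lib.Helper4.SPW

open Cfsg.Agent.Lib.Helper4 Cfsg.Agent.Lib.Helper6 Matrix Cfsg.Agent.S2308
open scoped ComplexConjugate MatrixGroups

/-- splitting two terms off a finite sum whose other terms are multiples of `c` -/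
theorem sum_split_two {ι : Type*} [Fintype ι] (f : ι → ℂ) (A B : ι) (hAB : A ≠ B) (c : ℂ)
    (h : ∀ σ, σ ≠ A → σ ≠ B → ∃ n : ℕ, f σ = c * n) :
    ∃ N : ℕ, ∑ σ, f σ = f A + f B + c * N := by
  classical
  have h' : ∀ σ, ∃ n : ℕ, σ ≠ A → σ ≠ B → f σ = c * n := by
    intro σ
    by_cases hA : σ = A
    · exact ⟨0, fun h1 => absurd hA h1⟩
    · by_cases hB : σ = B
      · exact ⟨0, fun _ h2 => absurd hB h2⟩
      · obtain ⟨n, hn⟩ := h σ hA hB
        exact ⟨n, fun _ _ => hn⟩
  choose n hn using h'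
  refine ⟨∑ σ ∈ (Finset.univ.erase A).erase B, n σ, ?_⟩
  have hmem : B ∈ (Finset.univ : Finset ι).erase A :=
    Finset.mem_erase.mpr ⟨hAB.symm, Finset.mem_univ _⟩
  rw [← Finset.add_sum_erase Finset.univ f (Finset.mem_univ A),
    ← Finset.add_sum_erase _ f hmem, add_assoc]
  congr 2
  rw [Nat.cast_sum, Finset.mul_sum]
  apply Finset.sum_congr rfl
  intro σ hσ
  have h1 : σ ≠ B := Finset.ne_of_mem_erase hσ
  have h2 : σ ≠ A := Finset.ne_of_mem_erase (Finset.mem_of_mem_erase hσ)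
  exact hn σ h2 h1

theorem arith_sign (q N : ℕ) (hq : 3 ≤ q) (hodd : Odd q) (s : ℂ) (hs : s = 1 ∨ s = -1)
    (ω₁ ω₂ : ℂ) (h₁ : ω₁ = 1 ∨ ω₁ = -1) (h₂ : ω₂ = 1 ∨ ω₂ = -1) (x₁ x₂ : ℂ)
    (hx₁ : 2 * x₁ = (q : ℂ) + s) (hx₂ : 2 * x₂ = (q : ℂ) + s)
    (h : (q : ℂ) ^ 2 - 1 = (x₁ - ω₁ * x₁) + (x₂ - ω₂ * x₂) + 4 * ((q : ℂ) + s) * N) :
    (ω₁ = 1 ∧ ω₂ = 1 ∧ ((s = 1 ∧ q % 4 = 1) ∨ (s = -1 ∧ q % 4 = 3))) ∨
    (ω₁ = -1 ∧ ω₂ = -1 ∧ ((s = 1 ∧ q % 4 = 3) ∨ (s = -1 ∧ q % 4 = 1))) := by
  obtain ⟨k, hk⟩ := hodd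
  have hqs : (q : ℂ) + s ≠ 0 := by
    rcases hs with rfl | rfl
    · have : ((q + 1 : ℕ) : ℂ) ≠ 0 := Nat.cast_ne_zero.mpr (by omega)
      simpa using this
    · intro h0
      have : (q : ℂ) = 1 := by linear_combination h0
      have : q = 1 := by exact_mod_cast this
      omega
  have key : ∀ m : ℕ, (q : ℂ) ^ 2 - 1 = ((q : ℂ) + s) * m + 4 * ((q : ℂ) + s) * N →
      (q : ℂ) - s = m + 4 * N := by
    intro m hm
    have hfac : (q : ℂ) ^ 2 - 1 = ((q : ℂ) + s) * ((q : ℂ) - s) := by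
      rcases hs with rfl | rfl <;> ring
    rw [hfac] at hm
    apply mul_left_cancel₀ hqs
    rw [hm]
    ring
  rcases h₁ with rfl | rfl <;> rcases h₂ with rfl | rfl
  · left
    refine ⟨rfl, rfl, ?_⟩
    have h3 := key 0 (by rw [h]; push_cast; ring)
    rcases hs with rfl | rfl
    · left
      refine ⟨rfl, ?_⟩
      have : (q : ℂ) = ((1 + 4 * N : ℕ) : ℂ) := by push_cast; linear_combination h3
      have : q = 1 + 4 * N := by exact_mod_cast this
      omega
    · right
      refine ⟨rfl, ?_⟩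
      have : ((q + 1 : ℕ) : ℂ) = ((4 * N : ℕ) : ℂ) := by push_cast; linear_combination h3
      have : q + 1 = 4 * N := by exact_mod_cast this
      omega
  · exfalso
    have h3 := key 1 (by rw [h]; push_cast; linear_combination hx₂)
    rcases hs with rfl | rfl
    · have : (q : ℂ) = ((2 + 4 * N : ℕ) : ℂ) := by push_cast; linear_combination h3
      have : q = 2 + 4 * N := by exact_mod_cast this
      omega
    · have : (q : ℂ) = ((4 * N : ℕ) : ℂ) := by push_cast; linear_combination h3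
      have : q = 4 * N := by exact_mod_cast this
      omega
  · exfalso
    have h3 := key 1 (by rw [h]; push_cast; linear_combination hx₁)
    rcases hs with rfl | rfl
    · have : (q : ℂ) = ((2 + 4 * N : ℕ) : ℂ) := by push_cast; linear_combination h3
      have : q = 2 + 4 * N := by exact_mod_cast this
      omega
    · have : (q : ℂ) = ((4 * N : ℕ) : ℂ) := by push_cast; linear_combination h3
      have : q = 4 * N := by exact_mod_cast this
      omega
  · right
    refine ⟨rfl, rfl, ?_⟩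
    have h3 := key 2 (by rw [h]; push_cast; linear_combination hx₁ + hx₂)
    rcases hs with rfl | rfl
    · left
      refine ⟨rfl, ?_⟩
      have : (q : ℂ) = ((3 + 4 * N : ℕ) : ℂ) := by push_cast; linear_combination h3
      have : q = 3 + 4 * N := by exact_mod_cast this
      omega
    · right
      refine ⟨rfl, ?_⟩
      have : (q : ℂ) = ((1 + 4 * N : ℕ) : ℂ) := by push_cast; linear_combination h3
      have : q = 1 + 4 * N := by exact_mod_cast this
      omega

end Cfsg.Agent.Lib.Helper4.SPW
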