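import Mathlib
import Cfsg.Agent.Lib.Helper4.SPWSL2o

/-!
Farm SPW (statement S2524), unit SL2, part (p): the central signs of the Weil characters.
-/

set_option autoImplicit false
set_option linter.unusedSectionVars false

namespace Cfsg.Agent.Lib.Helper4.SPW

open Cfsg.Agent.Lib.Helper4 Cfsg.Agent.Lib.Helper6 Matrix Cfsg.Agent.S2308
open scoped ComplexConjugate MatrixGroups

variable {F : Type*} [Field F] [Fintype F] [DecidableEq F]

/-- the profile relative to `ψ` of a Weil character relative to `ψ (ε ·)` -/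
theorem IsWeil.profile_of_mulShift {ψ : AddChar F ℂ} {ε : F} (hε : ¬ IsSquare ε) {m0 : ℕ}
    {σ : Matrix.SpecialLinearGroup (Fin 2) F → ℂ} (h : IsWeil (AddChar.mulShift ψ ε) m0 σ) :
    mU ψ σ 0 = m0 ∧ mU ψ σ ε = 1 ∧ mU ψ σ 1 = 0 := by
  have hε0 : ε ≠ 0 := by
    rintro rfl
    exact hε ⟨0, (mul_zero 0).symm⟩
  refine ⟨?_, ?_, ?_⟩
  · have := h.2.2.1
    rwa [mU_mulShift, mul_zero] at this
  · have := h.2.2.2.1 1 one_ne_zero ⟨1, (mul_one 1).symm⟩
    rwa [mU_mulShift, mul_one] at this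
  · have hns : ¬ IsSquare ε⁻¹ := by
      rintro ⟨r, hr⟩
      apply hε
      refine ⟨r⁻¹, ?_⟩
      rw [← mul_inv, ← hr, inv_inv]
    have := h.2.2.2.2 ε⁻¹ hns
    rwa [mU_mulShift, mul_inv_cancel₀ hε0] at this

theorem three_le_card_of_odd (hodd : Odd (Fintype.card F)) : 3 ≤ Fintype.card F := by
  obtain ⟨k, hk⟩ := hodd
  have : 1 < Fintype.card F := Fintype.one_lt_card
  omega

/-- the central sign of the Weil character of degree `(q - 1) / 2` -/
theorem sign_M (hodd : Odd (Fintype.card F)) {ψ : AddChar F ℂ} (hψ : ψ ≠ 1) {ε : F}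
    (hε : ¬ IsSquare ε) {M M' : Matrix.SpecialLinearGroup (Fin 2) F → ℂ}
    (hM : IsWeil ψ 0 M) (hM' : IsWeil (AddChar.mulShift ψ ε) 0 M') :
    (M (mkSL (-1 : Fˣ) 0) = M 1 ∧ Fintype.card F % 4 = 3) ∨
    (M (mkSL (-1 : Fˣ) 0) = - M 1 ∧ Fintype.card F % 4 = 1) := by
  classical
  have instI : Fintype (Cfsg.IrrCharacter (Matrix.SpecialLinearGroup (Fin 2) F)) :=
    Fintype.ofFinite _
  have hε0 : ε ≠ 0 := by
    rintro rfl
    exact hε ⟨0, (mul_zero 0).symm⟩
  have hψ' := mulShift_ne_one hψ hε0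
  set f : Cfsg.IrrCharacter (Matrix.SpecialLinearGroup (Fin 2) F) → ℂ := fun σ =>
    ((σ : Matrix.SpecialLinearGroup (Fin 2) F → ℂ) 1 -
      (σ : Matrix.SpecialLinearGroup (Fin 2) F → ℂ) (mkSL (-1 : Fˣ) 0)) *
      (mU ψ (σ : Matrix.SpecialLinearGroup (Fin 2) F → ℂ) 1 +
        mU ψ (σ : Matrix.SpecialLinearGroup (Fin 2) F → ℂ) ε -
        mU ψ (σ : Matrix.SpecialLinearGroup (Fin 2) F → ℂ) 0) with hf
  have hsum : ∑ σ, f σ = (Fintype.card F : ℂ) ^ 2 - 1 := by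
    simp only [hf, mul_add, mul_sub, Finset.sum_add_distrib, Finset.sum_sub_distrib]
    rw [odd_identity hodd ψ 1, odd_identity hodd ψ ε, odd_identity hodd ψ 0]
    ring
  set A : Cfsg.IrrCharacter (Matrix.SpecialLinearGroup (Fin 2) F) := ⟨M, hM.1⟩ with hA
  set B : Cfsg.IrrCharacter (Matrix.SpecialLinearGroup (Fin 2) F) := ⟨M', hM'.1⟩ with hB
  obtain ⟨hB0, hBε, hB1⟩ := hM'.profile_of_mulShift hε
  have hAB : A ≠ B := by
    intro h
    have h2 : M = M' := congrArg Subtype.val h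
    have h3 := hM.2.2.2.2 ε hε
    rw [h2, hBε] at h3
    exact one_ne_zero h3
  obtain ⟨ω₁, hω₁, hω₁'⟩ := central_sign hM.1
  obtain ⟨ω₂, hω₂, hω₂'⟩ := central_sign hM'.1
  have hMz : M (mkSL (-1 : Fˣ) 0) = ω₁ * M 1 := by
    have := hω₁' 1
    rwa [mul_one] at this
  have hM'z : M' (mkSL (-1 : Fˣ) 0) = ω₂ * M' 1 := by
    have := hω₂' 1
    rwa [mul_one] at this
  obtain ⟨N, hN⟩ := sum_split_two f A B hAB (4 * ((Fintype.card F : ℂ) + (-1))) (by
    intro σ hσA hσB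
    rcases irr_profile_cases hψ hε σ.2 with h | ⟨-, h0, h1, h2⟩ | ⟨hd, h0, h1, h2⟩ |
      (h | h) | (h | h)
    · refine ⟨0, ?_⟩
      simp only [hf]
      rw [h, sub_self, zero_mul, Nat.cast_zero, mul_zero]
    · refine ⟨0, ?_⟩
      simp only [hf]
      rw [h0, h1, h2, Nat.cast_zero, mul_zero]
      ring
    · obtain ⟨ω, hω, hω'⟩ := central_sign σ.2
      have hz : (σ : Matrix.SpecialLinearGroup (Fin 2) F → ℂ) (mkSL (-1 : Fˣ) 0) =
          ω * (σ : Matrix.SpecialLinearGroup (Fin 2) F → ℂ) 1 := by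
        have := hω' 1
        rwa [mul_one] at this
      simp only [hf]
      rw [hz, hd, h0, h1, h2]
      rcases hω with rfl | rfl
      · exact ⟨0, by push_cast; ring⟩
      · exact ⟨1, by push_cast; ring⟩
    · refine ⟨0, ?_⟩
      simp only [hf]
      rw [h.2.2.1, h.2.2.2.1 1 one_ne_zero ⟨1, (mul_one 1).symm⟩, h.2.2.2.2 ε hε]
      push_cast
      ring
    · obtain ⟨k0, kε, k1⟩ := h.profile_of_mulShift hε
      refine ⟨0, ?_⟩
      simp only [hf]
      rw [k0, kε, k1]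
      push_cast
      ring
    · exfalso
      apply hσA
      apply Subtype.ext
      exact IsWeil.unique_zero' hodd hψ h hM
    · exfalso
      apply hσB
      apply Subtype.ext
      exact IsWeil.unique_zero' hodd hψ' h hM')
  rw [hsum] at hN
  have hfA : f A = M 1 - ω₁ * M 1 := by
    simp only [hf, hA]
    rw [hMz, hM.2.2.1, hM.2.2.2.1 1 one_ne_zero ⟨1, (mul_one 1).symm⟩, hM.2.2.2.2 ε hε]
    push_cast
    ring
  have hfB : f B = M' 1 - ω₂ * M' 1 := by
    simp only [hf, hB]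
    rw [hM'z, hB0, hBε, hB1]
    push_cast
    ring
  rw [hfA, hfB] at hN
  have hx₁ : 2 * M 1 = (Fintype.card F : ℂ) + (-1) := by
    have := hM.2.1
    push_cast at this
    linear_combination this
  have hx₂ : 2 * M' 1 = (Fintype.card F : ℂ) + (-1) := by
    have := hM'.2.1
    push_cast at this
    linear_combination this
  rcases arith_sign (Fintype.card F) N (three_le_card_of_odd hodd) hodd (-1) (Or.inr rfl)
    ω₁ ω₂ hω₁ hω₂ (M 1) (M' 1) hx₁ hx₂ hN with ⟨h1, -, h3⟩ | ⟨h1, -, h3⟩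
  · left
    rcases h3 with ⟨h4, -⟩ | ⟨-, h4⟩
    · norm_num at h4
    · exact ⟨by rw [hMz, h1, one_mul], h4⟩
  · right
    rcases h3 with ⟨h4, -⟩ | ⟨-, h4⟩
    · norm_num at h4
    · exact ⟨by rw [hMz, h1, neg_one_mul], h4⟩

/-- the central sign of the Weil character of degree `(q + 1) / 2` -/
theorem sign_P (hodd : Odd (Fintype.card F)) {ψ : AddChar F ℂ} (hψ : ψ ≠ 1) {ε : F}
    (hε : ¬ IsSquare ε) {P P' : Matrix.SpecialLinearGroup (Fin 2) F → ℂ}
    (hP : IsWeil ψ 1 P) (hP' : IsWeil (AddChar.mulShift ψ ε) 1 P') :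
    (P (mkSL (-1 : Fˣ) 0) = P 1 ∧ Fintype.card F % 4 = 1) ∨
    (P (mkSL (-1 : Fˣ) 0) = - P 1 ∧ Fintype.card F % 4 = 3) := by
  classical
  have instI : Fintype (Cfsg.IrrCharacter (Matrix.SpecialLinearGroup (Fin 2) F)) :=
    Fintype.ofFinite _
  have hε0 : ε ≠ 0 := by
    rintro rfl
    exact hε ⟨0, (mul_zero 0).symm⟩
  have hψ' := mulShift_ne_one hψ hε0
  set f : Cfsg.IrrCharacter (Matrix.SpecialLinearGroup (Fin 2) F) → ℂ := fun σ =>
    ((σ : Matrix.SpecialLinearGroup (Fin 2) F → ℂ) 1 -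
      (σ : Matrix.SpecialLinearGroup (Fin 2) F → ℂ) (mkSL (-1 : Fˣ) 0)) *
      mU ψ (σ : Matrix.SpecialLinearGroup (Fin 2) F → ℂ) 0 with hf
  have hsum : ∑ σ, f σ = (Fintype.card F : ℂ) ^ 2 - 1 := odd_identity hodd ψ 0
  set A : Cfsg.IrrCharacter (Matrix.SpecialLinearGroup (Fin 2) F) := ⟨P, hP.1⟩ with hA
  set B : Cfsg.IrrCharacter (Matrix.SpecialLinearGroup (Fin 2) F) := ⟨P', hP'.1⟩ with hB
  obtain ⟨hB0, hBε, hB1⟩ := hP'.profile_of_mulShift hε
  have hAB : A ≠ B := by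
    intro h
    have h2 : P = P' := congrArg Subtype.val h
    have h3 := hP.2.2.2.2 ε hε
    rw [h2, hBε] at h3
    exact one_ne_zero h3
  obtain ⟨ω₁, hω₁, hω₁'⟩ := central_sign hP.1
  obtain ⟨ω₂, hω₂, hω₂'⟩ := central_sign hP'.1
  have hPz : P (mkSL (-1 : Fˣ) 0) = ω₁ * P 1 := by
    have := hω₁' 1
    rwa [mul_one] at this
  have hP'z : P' (mkSL (-1 : Fˣ) 0) = ω₂ * P' 1 := by
    have := hω₂' 1
    rwa [mul_one] at this
  obtain ⟨N, hN⟩ := sum_split_two f A B hAB (4 * ((Fintype.card F : ℂ) + 1)) (by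
    intro σ hσA hσB
    rcases irr_profile_cases hψ hε σ.2 with h | ⟨hd, h0, -, -⟩ | ⟨-, h0, -, -⟩ |
      (h | h) | (h | h)
    · refine ⟨0, ?_⟩
      simp only [hf]
      rw [h, sub_self, zero_mul, Nat.cast_zero, mul_zero]
    · obtain ⟨ω, hω, hω'⟩ := central_sign σ.2
      have hz : (σ : Matrix.SpecialLinearGroup (Fin 2) F → ℂ) (mkSL (-1 : Fˣ) 0) =
          ω * (σ : Matrix.SpecialLinearGroup (Fin 2) F → ℂ) 1 := by
        have := hω' 1
        rwa [mul_one] at this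
      simp only [hf]
      rw [hz, hd, h0]
      rcases hω with rfl | rfl
      · exact ⟨0, by push_cast; ring⟩
      · exact ⟨1, by push_cast; ring⟩
    · refine ⟨0, ?_⟩
      simp only [hf]
      rw [h0, mul_zero, Nat.cast_zero, mul_zero]
    · exfalso
      apply hσA
      apply Subtype.ext
      exact IsWeil.unique_one hodd hψ h hP
    · exfalso
      apply hσB
      apply Subtype.ext
      exact IsWeil.unique_one hodd hψ' h hP'
    · refine ⟨0, ?_⟩
      simp only [hf]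
      rw [h.2.2.1]
      push_cast
      ring
    · refine ⟨0, ?_⟩
      simp only [hf]
      rw [(h.profile_of_mulShift hε).1]
      push_cast
      ring)
  rw [hsum] at hN
  have hfA : f A = P 1 - ω₁ * P 1 := by
    simp only [hf, hA]
    rw [hPz, hP.2.2.1]
    push_cast
    ring
  have hfB : f B = P' 1 - ω₂ * P' 1 := by
    simp only [hf, hB]
    rw [hP'z, hB0]
    push_cast
    ring
  rw [hfA, hfB] at hN
  have hx₁ : 2 * P 1 = (Fintype.card F : ℂ) + 1 := by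
    have := hP.2.1
    push_cast at this
    linear_combination this
  have hx₂ : 2 * P' 1 = (Fintype.card F : ℂ) + 1 := by
    have := hP'.2.1
    push_cast at this
    linear_combination this
  rcases arith_sign (Fintype.card F) N (three_le_card_of_odd hodd) hodd 1 (Or.inl rfl)
    ω₁ ω₂ hω₁ hω₂ (P 1) (P' 1) hx₁ hx₂ hN with ⟨h1, -, h3⟩ | ⟨h1, -, h3⟩
  · left
    rcases h3 with ⟨-, h4⟩ | ⟨h4, -⟩
    · exact ⟨by rw [hPz, h1, one_mul], h4⟩
    · norm_num at h4
  · right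
    rcases h3 with ⟨-, h4⟩ | ⟨h4, -⟩
    · exact ⟨by rw [hPz, h1, neg_one_mul], h4⟩
    · norm_num at h4

end Cfsg.Agent.Lib.Helper4.SPW
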