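import Mathlib
import Cfsg.Agent.Lib.Helper4.SPWSL2p

/-!
Farm SPW (statement S2524), unit SL2, part (q): existence of the Weil character of degree
`(q - 1) / 2` for all odd `q` (for `q = 3` through a fixed point of the twist by the quadratic
character on the three cuspidal characters of `GL₂(3)`).
-/

set_option autoImplicit false
set_option linter.unusedSectionVars false

namespace Cfsg.Agent.Lib.Helper4.SPW

open Cfsg.Agent.Lib.Helper4 Cfsg.Agent.Lib.Helper6 Matrix Cfsg.Agent.S2308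
open scoped ComplexConjugate MatrixGroups

/-- an involution of a finite set of odd cardinality has a fixed point -/
theorem exists_fixed_of_involutive_of_odd {X : Type*} [Fintype X] [DecidableEq X] (τ : X → X)
    (hτ : Function.Involutive τ) (hodd : Odd (Fintype.card X)) : ∃ x, τ x = x := by
  by_contra hno
  push Not at hno
  have h2 : 2 ∣ (hτ.toPerm τ).support.card := Equiv.Perm.two_dvd_card_support (by
    ext x
    simp [sq, hτ x])
  have h3 : (hτ.toPerm τ).support = Finset.univ := by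
    ext x
    simp [hno x]
  rw [h3, Finset.card_univ] at h2
  exact (Nat.not_even_iff_odd.mpr hodd) (even_iff_two_dvd.mpr h2)

variable {F : Type*} [Field F] [Fintype F] [DecidableEq F]

/-- a cuspidal character of `GL₂(F)` with splitting restriction gives the Weil character of degree
`(q - 1) / 2` -/
theorem exists_isWeil_zero_of_split (hodd : Odd (Fintype.card F)) {ψ : AddChar F ℂ} (hψ : ψ ≠ 1)
    [Fintype (GL (Fin 2) F)] {χ : GL (Fin 2) F → ℂ} (hχ : Cfsg.IsIrrCharacter (GL (Fin 2) F) χ)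
    (hns : NonPS χ) {σ σ' : Matrix.SpecialLinearGroup (Fin 2) F → ℂ}
    (hσ : Cfsg.IsIrrCharacter (Matrix.SpecialLinearGroup (Fin 2) F) σ)
    (hσ' : Cfsg.IsIrrCharacter (Matrix.SpecialLinearGroup (Fin 2) F) σ')
    (hsum : resSL χ = σ + σ') (hc1 : GLConj σ σ') (hc2 : GLConj σ' σ) :
    ∃ τ : Matrix.SpecialLinearGroup (Fin 2) F → ℂ, IsWeil ψ 0 τ := by
  obtain ⟨ε, hε⟩ := exists_nonsquare_of_odd hodd
  have hv := nonPS_values hχ hns
  have hcf := IsIrrCharacter.isClassFunction hχ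
  have hDε : χ 1 - χ (mkGL 1 1 1) = (Fintype.card F : ℂ) := by
    rw [hv.1, hv.2]; ring
  have hm0 : χ 1 + ((Fintype.card F : ℂ) - 1) * χ (mkGL 1 1 1) =
      2 * ((0 : ℕ) : ℂ) * Fintype.card F := by
    rw [hv.1, hv.2]; push_cast; ring
  obtain ⟨-, m1, hm1, -, hnsq⟩ := half_profile hψ hcf hDε (IsIrrCharacter.isCharacter hσ)
    (IsIrrCharacter.isCharacter hσ') hsum hc1
  rcases hm1 with rfl | rfl
  · refine ⟨σ', (half_isWeil hψ hcf hDε 0 hm0 hσ' hσ (by rw [hsum, add_comm]) hc2 hε ?_).1⟩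
    rw [(hnsq ε hε).2, Nat.cast_zero]
  · refine ⟨σ, (half_isWeil hψ hcf hDε 0 hm0 hσ hσ' hsum hc1 hε ?_).1⟩
    rw [(hnsq ε hε).1, Nat.cast_one, sub_self]

/-- existence of the Weil character of degree `(q - 1) / 2`, all odd `q` -/
theorem exists_isWeil_zero' (hodd : Odd (Fintype.card F)) {ψ : AddChar F ℂ} (hψ : ψ ≠ 1) :
    ∃ σ : Matrix.SpecialLinearGroup (Fin 2) F → ℂ, IsWeil ψ 0 σ := by
  classical
  by_cases hq : 5 ≤ Fintype.card F
  · exact exists_isWeil_zero hodd hq hψ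
  · have h3 : Fintype.card F = 3 := by
      have := three_le_card_of_odd hodd
      obtain ⟨k, hk⟩ := hodd
      omega
    have instG : Fintype (GL (Fin 2) F) := Fintype.ofFinite _
    have instI : Fintype (Cfsg.IrrCharacter (GL (Fin 2) F)) := Fintype.ofFinite _
    obtain ⟨α₀, hα1, hαsq⟩ := exists_quadratic_mulChar (F := F) hodd
    have h := (cusp_main (F := F)).2
    rw [h3] at h
    set X := {χ : Cfsg.IrrCharacter (GL (Fin 2) F) // NonPS (χ : GL (Fin 2) F → ℂ)} with hX
    have hcard : Fintype.card X = 3 := by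
      rw [← Nat.card_eq_fintype_card]
      omega
    set τ : X → X := fun χ =>
      ⟨⟨lamGL2 α₀ * (χ.1 : GL (Fin 2) F → ℂ), isIrr_twist α₀ χ.1.2⟩, nonPS_twist α₀ χ.2⟩ with hτ
    have hinv : Function.Involutive τ := by
      intro χ
      apply Subtype.ext
      apply Subtype.ext
      simp only [hτ]
      rw [lam_mul_lam_mul, ← sq, hαsq, lam_mul_one_char]
    obtain ⟨χ, hfix⟩ := exists_fixed_of_involutive_of_odd τ hinv (by rw [hcard]; decide)
    have hfix' : lamGL2 α₀ * (χ.1 : GL (Fin 2) F → ℂ) = (χ.1 : GL (Fin 2) F → ℂ) :=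
      congrArg (fun x : X => (x.1 : GL (Fin 2) F → ℂ)) hfix
    rcases resSL_cases χ.1.2 with ⟨-, h⟩ | ⟨-, -, -, -, ψ₁, ψ₂, hψ₁, hψ₂, -, hsum, hc1, hc2⟩
    · exact absurd (h α₀ hfix') hα1
    · exact exists_isWeil_zero_of_split hodd hψ χ.1.2 χ.2 hψ₁ hψ₂ hsum hc1 hc2

end Cfsg.Agent.Lib.Helper4.SPW
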