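import Mathlib
import Cfsg.Agent.Lib.Helper4.SPWSL2q
import Cfsg.Agent.Lib.Helper1.SPWDefs2

/-!
Farm SPW (statement S2524), unit SL2: the two half-degree characters of `SL₂(F)` attached to a
nontrivial additive character `ψ` (final statement, in the shape of the stubs of helper1).
-/

set_option autoImplicit false
set_option linter.unusedSectionVars false

namespace Cfsg.Agent.Lib.Helper4.SPW

open Matrix Cfsg Cfsg.Agent.Lib.Helper6 Cfsg.Agent.Lib.Helper4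

variable {F : Type*} [Field F] [Fintype F] [DecidableEq F]

theorem mU_eq_mU (ψ : AddChar F ℂ) (φ : Matrix.SpecialLinearGroup (Fin 2) F → ℂ) (a : F) :
    Cfsg.Agent.Lib.Helper1.SPW.mU ψ φ a = mU ψ φ a := rfl

/-- the central sign in terms of `-x` -/
theorem neg_apply_of_sign {σ : Matrix.SpecialLinearGroup (Fin 2) F → ℂ}
    (hσ : Cfsg.IsIrrCharacter (Matrix.SpecialLinearGroup (Fin 2) F) σ) (s : ℂ)
    (hz : σ (mkSL (-1 : Fˣ) 0) = s * σ 1) (x : Matrix.SpecialLinearGroup (Fin 2) F) :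
    σ (-x) = s * σ x := by
  obtain ⟨ω, -, hω'⟩ := central_sign hσ
  have h1 := hω' 1
  rw [mul_one, hz] at h1
  have hne := IsIrrCharacter.apply_one_ne_zero hσ
  have hs : s = ω := mul_right_cancel₀ hne h1
  rw [← neg_one_mul x, ← mkSL_neg_one_eq_neg, hω', hs]

/-- **Unit SL2.** -/
theorem sl2_pair (hodd : Odd (Fintype.card F)) (ψ : AddChar F ℂ) (hψ : ψ ≠ 1) :
    ∃ sigP sigM : Matrix.SpecialLinearGroup (Fin 2) F → ℂ,
      IsIrrCharacter (Matrix.SpecialLinearGroup (Fin 2) F) sigP ∧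
      IsIrrCharacter (Matrix.SpecialLinearGroup (Fin 2) F) sigM ∧
      (∀ a : F, Cfsg.Agent.Lib.Helper1.SPW.mU ψ sigP a = if IsSquare a then 1 else 0) ∧
      (∀ a : F, Cfsg.Agent.Lib.Helper1.SPW.mU ψ sigM a = if a ≠ 0 ∧ IsSquare a then 1 else 0) ∧
      (∃ s0 : ℂ, (s0 = 1 ∨ s0 = -1) ∧ (∀ x, sigP (-x) = s0 * sigP x) ∧
        (∀ x, sigM (-x) = -s0 * sigM x)) ∧
      (∀ φ : Matrix.SpecialLinearGroup (Fin 2) F → ℂ,
        IsCharacter (Matrix.SpecialLinearGroup (Fin 2) F) φ →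
        classInner φ (fun _ => (1 : ℂ)) = 0 →
        (∀ a : F, ¬ IsSquare a → Cfsg.Agent.Lib.Helper1.SPW.mU ψ φ a = 0) →
        ∃ y z : ℕ, φ = (y : ℂ) • sigP + (z : ℂ) • sigM ∧
          Cfsg.Agent.Lib.Helper1.SPW.mU ψ φ 0 = y ∧
          Cfsg.Agent.Lib.Helper1.SPW.mU ψ φ 1 = y + z) ∧
      2 * sigP 1 = (Fintype.card F : ℂ) + 1 ∧ 2 * sigM 1 = (Fintype.card F : ℂ) - 1 := by
  obtain ⟨ε, hε⟩ := exists_nonsquare_of_odd hodd
  have hε0 : ε ≠ 0 := by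
    rintro rfl
    exact hε ⟨0, (mul_zero 0).symm⟩
  have hψ' := mulShift_ne_one hψ hε0
  obtain ⟨P, hP⟩ := exists_isWeil_one hodd hψ
  obtain ⟨P', hP'⟩ := exists_isWeil_one hodd hψ'
  obtain ⟨M, hM⟩ := exists_isWeil_zero' hodd hψ
  obtain ⟨M', hM'⟩ := exists_isWeil_zero' hodd hψ'
  refine ⟨P, M, hP.1, hM.1, ?_, ?_, ?_, ?_, ?_, ?_⟩
  · intro a
    rw [mU_eq_mU]
    by_cases ha : a = 0
    · subst ha
      rw [if_pos ⟨0, (mul_zero 0).symm⟩, hP.2.2.1, Nat.cast_one]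
    · by_cases hs : IsSquare a
      · rw [if_pos hs, hP.2.2.2.1 a ha hs]
      · rw [if_neg hs, hP.2.2.2.2 a hs]
  · intro a
    rw [mU_eq_mU]
    by_cases ha : a = 0
    · subst ha
      rw [if_neg (fun h => h.1 rfl), hM.2.2.1, Nat.cast_zero]
    · by_cases hs : IsSquare a
      · rw [if_pos ⟨ha, hs⟩, hM.2.2.2.1 a ha hs]
      · rw [if_neg (fun h => hs h.2), hM.2.2.2.2 a hs]
  · rcases sign_P hodd hψ hε hP hP' with ⟨h1, h2⟩ | ⟨h1, h2⟩
    · rcases sign_M hodd hψ hε hM hM' with ⟨h3, h4⟩ | ⟨h3, h4⟩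
      · omega
      · refine ⟨1, Or.inl rfl, ?_, ?_⟩
        · exact neg_apply_of_sign hP.1 1 (by rw [h1, one_mul])
        · exact neg_apply_of_sign hM.1 (-1) (by rw [h3, neg_one_mul])
    · rcases sign_M hodd hψ hε hM hM' with ⟨h3, h4⟩ | ⟨h3, h4⟩
      · refine ⟨-1, Or.inr rfl, ?_, ?_⟩
        · exact neg_apply_of_sign hP.1 (-1) (by rw [h1, neg_one_mul])
        · rw [neg_neg]
          exact neg_apply_of_sign hM.1 1 (by rw [h3, one_mul])
      · omega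
  · intro φ hφ h1 hns
    obtain ⟨y, z, h2, h3, h4⟩ := decomp_of_nsq hodd hψ hP hM
      (fun σ hσ => IsWeil.unique_zero' hodd hψ hσ hM) hφ h1 hns
    refine ⟨y, z, ?_, h3, h4⟩
    rw [Nat.cast_smul_eq_nsmul, Nat.cast_smul_eq_nsmul]
    exact h2
  · have := hP.2.1
    push_cast at this
    linear_combination this
  · have := hM.2.1
    push_cast at this
    linear_combination this

/-- **Unit SL2**, verbatim in the shape of the stub `sl2_pair` of helper1. -/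
theorem sl2_pair_v (ψ : AddChar F ℂ) (hodd : Odd (Fintype.card F)) (hψ : ψ ≠ 1) :
    ∃ sigP sigM : Matrix.SpecialLinearGroup (Fin 2) F → ℂ,
      IsIrrCharacter (Matrix.SpecialLinearGroup (Fin 2) F) sigP ∧
      IsIrrCharacter (Matrix.SpecialLinearGroup (Fin 2) F) sigM ∧
      (∀ a : F, Cfsg.Agent.Lib.Helper1.SPW.mU ψ sigP a = if IsSquare a then 1 else 0) ∧
      (∀ a : F, Cfsg.Agent.Lib.Helper1.SPW.mU ψ sigM a = if a ≠ 0 ∧ IsSquare a then 1 else 0) ∧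
      (∃ s0 : ℂ, (s0 = 1 ∨ s0 = -1) ∧ (∀ x, sigP (-x) = s0 * sigP x) ∧
        (∀ x, sigM (-x) = -s0 * sigM x)) ∧
      (∀ φ : Matrix.SpecialLinearGroup (Fin 2) F → ℂ,
        IsCharacter (Matrix.SpecialLinearGroup (Fin 2) F) φ →
        classInner φ (fun _ => (1 : ℂ)) = 0 →
        (∀ a : F, ¬ IsSquare a → Cfsg.Agent.Lib.Helper1.SPW.mU ψ φ a = 0) →
        ∃ y z : ℕ, φ = (y : ℂ) • sigP + (z : ℂ) • sigM) := by
  obtain ⟨sigP, sigM, h1, h2, h3, h4, h5, h6, -, -⟩ := sl2_pair hodd ψ hψ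
  refine ⟨sigP, sigM, h1, h2, h3, h4, h5, ?_⟩
  intro φ hφ hφ1 hns
  obtain ⟨y, z, h, -, -⟩ := h6 φ hφ hφ1 hns
  exact ⟨y, z, h⟩

end Cfsg.Agent.Lib.Helper4.SPW
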