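import Mathlib
import Cfsg.Agent.Lib.Helper4.SPWSL2r

/-!
Farm SPW (statement S2524), units B3 / B3z, abstract part: two characters of `SL₂(F)` without
trivial constituent, whose restrictions to `U` miss the nonsquares, and with the same central
sign, are proportional as soon as ... (see `prop_of_same_sign`); and such a character vanishes if
its restriction to `U` is trivial.
-/

set_option autoImplicit false
set_option linter.unusedSectionVars false

namespace Cfsg.Agent.Lib.Helper4.SPW

open Matrix Cfsg Cfsg.Agent.Lib.Helper6 Cfsg.Agent.Lib.Helper4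

variable {F : Type*} [Field F] [Fintype F] [DecidableEq F]

/-- coefficients of a combination of two distinct irreducible characters -/
theorem coeff_eq_zero_of_comb_eq_zero {σ₁ σ₂ : Matrix.SpecialLinearGroup (Fin 2) F → ℂ}
    (h₁ : IsIrrCharacter (Matrix.SpecialLinearGroup (Fin 2) F) σ₁)
    (h₂ : IsIrrCharacter (Matrix.SpecialLinearGroup (Fin 2) F) σ₂) (hne : σ₁ ≠ σ₂) (c₁ c₂ : ℂ)
    (h : ∀ x, c₁ * σ₁ x + c₂ * σ₂ x = 0) : c₁ = 0 ∧ c₂ = 0 := by
  have hf : c₁ • σ₁ + c₂ • σ₂ = 0 := by
    funext x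
    simp only [Pi.add_apply, Pi.smul_apply, smul_eq_mul, Pi.zero_apply]
    exact h x
  constructor
  · have := congrArg (fun f => classInner f σ₁) hf
    beta_reduce at this
    rw [classInner_add_left, classInner_smul_left, classInner_smul_left,
      classInner_isIrrCharacter h₁ h₁, if_pos rfl, classInner_isIrrCharacter h₂ h₁,
      if_neg (Ne.symm hne), classInner_zero_left] at this
    simpa using this
  · have := congrArg (fun f => classInner f σ₂) hf
    beta_reduce at this
    rw [classInner_add_left, classInner_smul_left, classInner_smul_left,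
      classInner_isIrrCharacter h₁ h₂, if_neg hne, classInner_isIrrCharacter h₂ h₂, if_pos rfl,
      classInner_zero_left] at this
    simpa using this

/-- two characters without trivial constituent, missing the nonsquares on `U`, with the same
central sign `κ`, and with proportional multiplicities at `1`, are proportional -/
theorem prop_of_same_sign (hodd : Odd (Fintype.card F)) {ψ : AddChar F ℂ} (hψ : ψ ≠ 1)
    {φV φΩ : Matrix.SpecialLinearGroup (Fin 2) F → ℂ}
    (hV : IsCharacter (Matrix.SpecialLinearGroup (Fin 2) F) φV)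
    (hΩ : IsCharacter (Matrix.SpecialLinearGroup (Fin 2) F) φΩ)
    (h1V : classInner φV (fun _ => (1 : ℂ)) = 0) (h1Ω : classInner φΩ (fun _ => (1 : ℂ)) = 0)
    (hnsV : ∀ c : F, ¬ IsSquare c → mU ψ φV c = 0) (hnsΩ : ∀ c : F, ¬ IsSquare c → mU ψ φΩ c = 0)
    (κ : ℂ) (hκV : ∀ x, φV (-x) = κ * φV x) (hκΩ : ∀ x, φΩ (-x) = κ * φΩ x) (Q T : ℂ)
    (hm : mU ψ φV 1 * Q = T * mU ψ φΩ 1) (x : Matrix.SpecialLinearGroup (Fin 2) F) :
    φV x * Q = T * φΩ x := by
  obtain ⟨sigP, sigM, hP, hM, hmP, hmM, ⟨s0, hs0, hsP, hsM⟩, hdec, -, -⟩ := sl2_pair hodd ψ hψ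
  have hne : sigP ≠ sigM := by
    intro h
    have h1 := hmP 0
    have h2 := hmM 0
    rw [h, h2, if_neg (fun h => h.1 rfl), if_pos ⟨0, (mul_zero 0).symm⟩] at h1
    exact zero_ne_one h1
  obtain ⟨y, z, hyz, -, hyz1⟩ := hdec φV hV h1V hnsV
  obtain ⟨y', z', hyz', -, hyz1'⟩ := hdec φΩ hΩ h1Ω hnsΩ
  rw [mU_eq_mU] at hyz1 hyz1'
  have hVx : ∀ x, φV x = y * sigP x + z * sigM x := by
    intro x
    rw [hyz]
    simp
  have hΩx : ∀ x, φΩ x = y' * sigP x + z' * sigM x := by
    intro x
    rw [hyz']
    simp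
  -- the sign equations
  have e1 := coeff_eq_zero_of_comb_eq_zero hP hM hne ((y : ℂ) * (s0 - κ)) ((z : ℂ) * (-s0 - κ)) (by
    intro x
    have := hκV x
    rw [hVx, hVx, hsP, hsM] at this
    linear_combination this)
  have e2 := coeff_eq_zero_of_comb_eq_zero hP hM hne ((y' : ℂ) * (s0 - κ))
    ((z' : ℂ) * (-s0 - κ)) (by
    intro x
    have := hκΩ x
    rw [hΩx, hΩx, hsP, hsM] at this
    linear_combination this)
  rw [hyz1, hyz1'] at hm
  have key : (y : ℂ) * Q = T * y' ∧ (z : ℂ) * Q = T * z' := by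
    by_cases hk : s0 - κ = 0
    · have hk2 : -s0 - κ ≠ 0 := by
        have : κ = s0 := by linear_combination -hk
        rw [this]
        rcases hs0 with rfl | rfl <;> norm_num
      have hz : (z : ℂ) = 0 := by
        rcases mul_eq_zero.mp e1.2 with h | h
        · exact h
        · exact absurd h hk2
      have hz' : (z' : ℂ) = 0 := by
        rcases mul_eq_zero.mp e2.2 with h | h
        · exact h
        · exact absurd h hk2
      rw [hz, hz'] at hm ⊢
      refine ⟨by linear_combination hm, by ring⟩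
    · have hy : (y : ℂ) = 0 := by
        rcases mul_eq_zero.mp e1.1 with h | h
        · exact h
        · exact absurd h hk
      have hy' : (y' : ℂ) = 0 := by
        rcases mul_eq_zero.mp e2.1 with h | h
        · exact h
        · exact absurd h hk
      rw [hy, hy'] at hm ⊢
      refine ⟨by ring, by linear_combination hm⟩
  rw [hVx, hΩx]
  linear_combination sigP x * key.1 + sigM x * key.2

/-- a character without trivial constituent whose restriction to `U` is trivial vanishes -/
theorem eq_zero_of_mU_eq_zero (hodd : Odd (Fintype.card F)) {ψ : AddChar F ℂ} (hψ : ψ ≠ 1)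
    {φ : Matrix.SpecialLinearGroup (Fin 2) F → ℂ}
    (hφ : IsCharacter (Matrix.SpecialLinearGroup (Fin 2) F) φ)
    (h1 : classInner φ (fun _ => (1 : ℂ)) = 0) (h0 : ∀ c : F, c ≠ 0 → mU ψ φ c = 0)
    (x : Matrix.SpecialLinearGroup (Fin 2) F) : φ x = 0 := by
  obtain ⟨sigP, sigM, -, -, -, -, -, hdec, -, -⟩ := sl2_pair hodd ψ hψ
  obtain ⟨y, z, hyz, -, hyz1⟩ := hdec φ hφ h1 (fun c hc => by
    rw [mU_eq_mU]
    apply h0
    rintro rfl
    exact hc ⟨0, (mul_zero 0).symm⟩)
  rw [mU_eq_mU, h0 1 one_ne_zero] at hyz1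
  have h2 : y + z = 0 := by exact_mod_cast hyz1.symm
  have hy : y = 0 := by omega
  have hz : z = 0 := by omega
  rw [hyz, hy, hz]
  simp

end Cfsg.Agent.Lib.Helper4.SPW
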