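import Mathlib
import Cfsg.Agent.Lib.Helper1.SPWDefs2
import Cfsg.Agent.Lib.Helper1.SPWA1
import Cfsg.Agent.Lib.Helper3.SPWA5
import Cfsg.Agent.Lib.Helper6.SPWB1b
import Cfsg.Agent.Lib.Helper4.SPWB3a

/-!
Farm SPW (statement S2524), units B3 / B3z in hypotheses-parametrized form: the units B1 (`mU_comp`,
`comp_neg`), B1c (`comp_inner_one`), A7d (`chiA_disjoint`) enter as hypotheses with the statements
of the stubs.
-/

set_option autoImplicit false
set_option linter.unusedSectionVars false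
set_option linter.unusedVariables false

namespace Cfsg.Agent.Lib.Helper4.SPWB

open Matrix Cfsg Cfsg.Agent.Lib.Helper6.Wl Cfsg.Agent.Lib.Helper4 Cfsg.Agent.Lib.Helper1.SPW
open Module

section abstract
variable {F : Type*} [Field F] [Fintype F] [DecidableEq F] {m : ℕ}
variable {G : Type*} [Group G] [Fintype G]
variable [Fintype (symplecticGroup (Fin m) F)]
variable (D : Datum F m G)
variable {V : Type*} [AddCommGroup V] [Module ℂ V] [FiniteDimensional ℂ V]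
variable {Ω : Type*} [AddCommGroup Ω] [Module ℂ Ω] [FiniteDimensional ℂ Ω]
variable (ρ : Representation ℂ G V) (ρΩ : Representation ℂ G Ω) (ψ : AddChar F ℂ)

/-- a module with a nonzero `a`-part, `a ≠ 0`, is not trivial -/
theorem exists_ne_one_of_eZ_ne_zero (hψ : ψ ≠ 1) {a : F} (ha : a ≠ 0)
    (h : eZ D ρ ψ a ≠ 0) : ∃ g : G, ρ g ≠ 1 := by
  by_contra hcon
  push Not at hcon
  apply h
  unfold eZ
  have h1 : ∑ x : F, ψ (-(a * x)) • ρ (D.iH (Heis.cen x)) =
      (∑ x : F, ψ ((-a) * x)) • (1 : Module.End ℂ V) := by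
    rw [Finset.sum_smul]
    apply Finset.sum_congr rfl
    intro x _
    rw [hcon, neg_mul]
  rw [h1, sum_psi_mul_eq_zero ψ hψ (neg_ne_zero.mpr ha), zero_smul, smul_zero]

/-- the inner product with a scalar multiple -/
theorem classInner_const_mul {H : Type*} [Group H] [Fintype H] (c : ℂ) (φ θ : H → ℂ) :
    classInner (fun x => c * φ x) θ = c * classInner φ θ := by
  have : (fun x => c * φ x) = c • φ := by
    funext x
    simp
  rw [this, Cfsg.Agent.Lib.Helper6.classInner_smul_left]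

/-- `mU` of a scalar multiple -/
theorem mU_const_mul (c : ℂ) (φ : Matrix.SpecialLinearGroup (Fin 2) F → ℂ) (a : F) :
    Cfsg.Agent.Lib.Helper4.SPW.mU ψ (fun x => c * φ x) a =
      c * Cfsg.Agent.Lib.Helper4.SPW.mU ψ φ a := by
  unfold Cfsg.Agent.Lib.Helper4.SPW.mU
  have h : ∑ x : F, ψ (-(a * x)) * (c * φ (upperU x)) =
      c * ∑ x : F, ψ (-(a * x)) * φ (upperU x) := by
    rw [Finset.mul_sum]
    apply Finset.sum_congr rfl
    intro x _
    ring
  show _ * ∑ x : F, ψ (-(a * x)) * (c * φ (upperU x)) = _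
  rw [h]
  ring

/-- the inner product of proportional class functions -/
theorem classInner_prop {H : Type*} [Group H] [Fintype H] (φ φ' θ : H → ℂ) (Q T : ℂ)
    (h : ∀ g, φ g * Q = T * φ' g) : classInner φ θ * Q = T * classInner φ' θ := by
  unfold classInner
  have h' : (∑ g : H, φ g * (starRingEnd ℂ) (θ g)) * Q =
      T * ∑ g : H, φ' g * (starRingEnd ℂ) (θ g) := by
    rw [Finset.sum_mul, Finset.mul_sum]
    apply Finset.sum_congr rfl
    intro g _
    linear_combination (starRingEnd ℂ) (θ g) * h g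
  linear_combination ((Nat.card H : ℂ))⁻¹ * h'

/-- `chiA` vanishes with `eZ` -/
theorem chiA_eq_zero_of_eZ {a : F} (h : eZ D ρ ψ a = 0) :
    chiA D ρ ψ a = 0 := by
  funext g
  unfold chiA
  rw [h, mul_zero, map_zero]
  rfl

/-- unit B3 with the units B1, B1c, A7d as hypotheses -/
theorem comp_eq_of (hm : 0 < m) (hodd : Odd (Fintype.card F)) (hψ : ψ ≠ 1) {a : F} (ha : a ≠ 0)
    (rV : Rk1 D ρ ψ) (rΩ : Rk1 D ρΩ ψ) (s : ℂ)
    (hΩa : LinearMap.trace ℂ Ω (eZ D ρΩ ψ a) = (Fintype.card F : ℂ) ^ m)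
    (hΩ' : ∀ a' : F, a' ≠ 0 → ¬ IsSquare (a' / a) → eZ D ρΩ ψ a' = 0)
    (τ : symplecticGroup (Fin m) F → ℂ) (hτ : IsIrrCharacter (symplecticGroup (Fin m) F) τ)
    (hmUV : ∀ a' : F, Cfsg.Agent.Lib.Helper1.SPW.mU ψ (comp D ρ τ) a' =
      classInner (chiA D ρ ψ a') τ)
    (hmUΩ : ∀ a' : F, Cfsg.Agent.Lib.Helper1.SPW.mU ψ (comp D ρΩ τ) a' =
      classInner (chiA D ρΩ ψ a') τ)
    (hnegV : ∀ x : Matrix.SpecialLinearGroup (Fin 2) F,
      τ 1 * comp D ρ τ (-x) = s * (starRingEnd ℂ) (τ negSp) * comp D ρ τ x)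
    (hnegΩ : ∀ x : Matrix.SpecialLinearGroup (Fin 2) F,
      τ 1 * comp D ρΩ τ (-x) = s * (starRingEnd ℂ) (τ negSp) * comp D ρΩ τ x)
    (h1V : classInner (comp D ρ τ) (fun _ => (1 : ℂ)) = 0)
    (h1Ω : classInner (comp D ρΩ τ) (fun _ => (1 : ℂ)) = 0)
    (hdisj : ∀ a' : F, a' ≠ 0 → ¬ IsSquare (a' / a) → classInner (chiA D ρ ψ a') τ = 0)
    (x : Matrix.SpecialLinearGroup (Fin 2) F) :
    comp D ρ τ x * (Fintype.card F : ℂ) ^ m =
      LinearMap.trace ℂ V (eZ D ρ ψ a) * comp D ρΩ τ x := by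
  have hτ1 : τ 1 ≠ 0 := Cfsg.Agent.Lib.Helper6.IsIrrCharacter.apply_one_ne_zero hτ
  have hψa : AddChar.mulShift ψ a ≠ 1 := Cfsg.Agent.Lib.Helper4.SPW.mulShift_ne_one hψ ha
  have hmul : ∀ c : F, ¬ IsSquare c → a * c ≠ 0 ∧ ¬ IsSquare (a * c / a) := by
    intro c hc
    have hc0 : c ≠ 0 := by
      rintro rfl
      exact hc ⟨0, (mul_zero 0).symm⟩
    refine ⟨mul_ne_zero ha hc0, ?_⟩
    rw [mul_div_cancel_left₀ c ha]
    exact hc
  have key := Cfsg.Agent.Lib.Helper4.SPW.prop_of_same_sign hodd hψa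
    (φV := fun x => τ 1 * comp D ρ τ x) (φΩ := fun x => τ 1 * comp D ρΩ τ x)
    (Cfsg.Agent.Lib.Helper6.SPW.isCharacter_comp D ρ τ hτ)
    (Cfsg.Agent.Lib.Helper6.SPW.isCharacter_comp D ρΩ τ hτ)
    (by rw [classInner_const_mul, h1V, mul_zero])
    (by rw [classInner_const_mul, h1Ω, mul_zero])
    (by
      intro c hc
      obtain ⟨h0, hns⟩ := hmul c hc
      rw [Cfsg.Agent.Lib.Helper4.SPW.mU_mulShift, mU_const_mul,
        ← Cfsg.Agent.Lib.Helper4.SPW.mU_eq_mU, hmUV, hdisj _ h0 hns, mul_zero])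
    (by
      intro c hc
      obtain ⟨h0, hns⟩ := hmul c hc
      rw [Cfsg.Agent.Lib.Helper4.SPW.mU_mulShift, mU_const_mul,
        ← Cfsg.Agent.Lib.Helper4.SPW.mU_eq_mU, hmUΩ, chiA_eq_zero_of_eZ D ρΩ ψ (hΩ' _ h0 hns),
        Cfsg.Agent.Lib.Helper6.classInner_zero_left, mul_zero])
    (s * (starRingEnd ℂ) (τ negSp) / τ 1)
    (by
      intro x
      have := hnegV x
      show τ 1 * comp D ρ τ (-x) = s * (starRingEnd ℂ) (τ negSp) / τ 1 * (τ 1 * comp D ρ τ x)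
      rw [this]
      field_simp)
    (by
      intro x
      have := hnegΩ x
      show τ 1 * comp D ρΩ τ (-x) = s * (starRingEnd ℂ) (τ negSp) / τ 1 * (τ 1 * comp D ρΩ τ x)
      rw [this]
      field_simp)
    ((Fintype.card F : ℂ) ^ m) (LinearMap.trace ℂ V (eZ D ρ ψ a))
    (by
      rw [Cfsg.Agent.Lib.Helper4.SPW.mU_mulShift, Cfsg.Agent.Lib.Helper4.SPW.mU_mulShift,
        mU_const_mul, mU_const_mul, mul_one,
        ← Cfsg.Agent.Lib.Helper4.SPW.mU_eq_mU, ← Cfsg.Agent.Lib.Helper4.SPW.mU_eq_mU, hmUV, hmUΩ]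
      have := classInner_prop (chiA D ρ ψ a) (chiA D ρΩ ψ a) τ ((Fintype.card F : ℂ) ^ m)
        (LinearMap.trace ℂ V (eZ D ρ ψ a))
        (Cfsg.Agent.Lib.Helper3.SPW.chiA_eq D ρ ρΩ ψ hm hodd hψ ha rV rΩ hΩa)
      linear_combination τ 1 * this)
    x
  have key' : τ 1 * (comp D ρ τ x * (Fintype.card F : ℂ) ^ m) =
      τ 1 * (LinearMap.trace ℂ V (eZ D ρ ψ a) * comp D ρΩ τ x) := by
    linear_combination key
  exact mul_left_cancel₀ hτ1 key'

/-- unit B3z with the units B1, B1c as hypotheses -/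
theorem comp_eq_zero_of (hodd : Odd (Fintype.card F)) (hψ : ψ ≠ 1) {a : F} (ha : a ≠ 0)
    (hΩ' : ∀ a' : F, a' ≠ 0 → ¬ IsSquare (a' / a) → eZ D ρΩ ψ a' = 0)
    (τ : symplecticGroup (Fin m) F → ℂ) (hτ : IsIrrCharacter (symplecticGroup (Fin m) F) τ)
    (h0 : classInner (chiA D ρΩ ψ a) τ = 0)
    (hmUΩ : ∀ a' : F, Cfsg.Agent.Lib.Helper1.SPW.mU ψ (comp D ρΩ τ) a' =
      classInner (chiA D ρΩ ψ a') τ)
    (h1Ω : classInner (comp D ρΩ τ) (fun _ => (1 : ℂ)) = 0)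
    (x : Matrix.SpecialLinearGroup (Fin 2) F) :
    comp D ρΩ τ x = 0 := by
  have hτ1 : τ 1 ≠ 0 := Cfsg.Agent.Lib.Helper6.IsIrrCharacter.apply_one_ne_zero hτ
  have key := Cfsg.Agent.Lib.Helper4.SPW.eq_zero_of_mU_eq_zero hodd hψ
    (φ := fun x => τ 1 * comp D ρΩ τ x)
    (Cfsg.Agent.Lib.Helper6.SPW.isCharacter_comp D ρΩ τ hτ)
    (by rw [classInner_const_mul, h1Ω, mul_zero])
    (by
      intro c hc
      rw [mU_const_mul, ← Cfsg.Agent.Lib.Helper4.SPW.mU_eq_mU, hmUΩ]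
      by_cases hsq : IsSquare (c / a)
      · obtain ⟨t, ht⟩ := hsq
        have ht0 : t ≠ 0 := by
          rintro rfl
          rw [mul_zero, div_eq_zero_iff] at ht
          rcases ht with h | h
          · exact hc h
          · exact ha h
        have hc' : c = a * (Units.mk0 t ht0 : Fˣ) * (Units.mk0 t ht0 : Fˣ) := by
          rw [Units.val_mk0, mul_assoc, ← ht]
          field_simp
        have : chiA D ρΩ ψ c = chiA D ρΩ ψ a := by
          funext g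
          rw [hc']
          exact Cfsg.Agent.Lib.Helper1.SPW.chiA_torus D ρΩ ψ (Units.mk0 t ht0) a g
        rw [this, h0, mul_zero]
      · rw [chiA_eq_zero_of_eZ D ρΩ ψ (hΩ' c hc hsq),
          Cfsg.Agent.Lib.Helper6.classInner_zero_left, mul_zero])
    x
  rcases mul_eq_zero.mp key with h | h
  · exact absurd h hτ1
  · exact h

end abstract

end Cfsg.Agent.Lib.Helper4.SPWB
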