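import Mathlib
import Cfsg.Agent.Lib.Helper1.SPWDefs2
import Cfsg.Agent.Lib.Helper1.SPWA1
import Cfsg.Agent.Lib.Helper3.SPWA3
import Cfsg.Agent.Lib.Helper3.SPWA7s
import Cfsg.Agent.Lib.Helper6.SPWB2
import Cfsg.Agent.Lib.Helper6.IrrBasis
import Cfsg.Agent.Lib.Helper4.SPWB3

/-!
Farm SPW (statement S2524), unit B4 in hypotheses-parametrized form: the units B3, B3z enter as
hypotheses with the statements of the stubs.
-/

set_option autoImplicit false
set_option linter.unusedSectionVars false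
set_option linter.unusedVariables false

namespace Cfsg.Agent.Lib.Helper4.SPWB

open Matrix Cfsg Cfsg.Agent.Lib.Helper6.Wl Cfsg.Agent.Lib.Helper4 Cfsg.Agent.Lib.Helper1.SPW
open Module

section abstract
variable {F : Type*} [Field F] [Fintype F] [DecidableEq F] {m : ℕ}
variable {G : Type*} [Group G] [Fintype G]
variable [Fintype (symplecticGroup (Fin m) F)]
variable (D : Datum F m G)
variable {V : Type*} [AddCommGroup V] [Module ℂ V] [FiniteDimensional ℂ V]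
variable {Ω : Type*} [AddCommGroup Ω] [Module ℂ Ω] [FiniteDimensional ℂ Ω]
variable (ρ : Representation ℂ G V) (ρΩ : Representation ℂ G Ω) (ψ : AddChar F ℂ)

/-- `iS (-1)` commutes with `S₁ × G'` -/
theorem iS_neg_one_comm (k : Matrix.SpecialLinearGroup (Fin 2) F × symplecticGroup (Fin m) F) :
    D.iS (-1) * D.iSG k = D.iSG k * D.iS (-1) := by
  obtain ⟨x, g⟩ := k
  rw [iSG_apply, ← mul_assoc, ← map_mul, mul_assoc, ← D.comm (-1) g, ← mul_assoc, ← map_mul]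
  congr 2
  rw [neg_mul, one_mul, mul_neg, mul_one]

/-- `1` and `ρΩ (iS (-1))` are independent -/
theorem indep_one_negS (hm : 0 < m) (hodd : Odd (Fintype.card F)) (hψ : ψ ≠ 1) {a : F}
    (ha : a ≠ 0) (s : ℂ) (hsΩ : ρΩ (D.iS (-1) * D.iG negSp) = s • 1)
    (hΩa : LinearMap.trace ℂ Ω (eZ D ρΩ ψ a) = (Fintype.card F : ℂ) ^ m) (c t : ℂ)
    (h : c • (1 : Module.End ℂ Ω) + t • ρΩ (D.iS (-1)) = 0) : c = 0 ∧ t = 0 := by
  have hq : (Fintype.card F : ℂ) ^ m ≠ 0 :=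
    pow_ne_zero _ (Nat.cast_ne_zero.2 Fintype.card_ne_zero)
  have he0 : eZ D ρΩ ψ a ≠ 0 := by
    intro h0
    rw [h0, map_zero] at hΩa
    exact hq hΩa.symm
  have hAA : ρΩ (D.iS (-1)) * ρΩ (D.iS (-1)) = 1 := by
    rw [← map_mul, ← map_mul, neg_mul_neg, one_mul, map_one, map_one]
  have ht : t = 0 := by
    by_contra ht
    have hA : ρΩ (D.iS (-1)) = (-c / t) • (1 : Module.End ℂ Ω) := by
      have h' : t • ρΩ (D.iS (-1)) = (-c) • (1 : Module.End ℂ Ω) := by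
        rw [neg_smul]
        exact eq_neg_of_add_eq_zero_right h
      calc ρΩ (D.iS (-1)) = t⁻¹ • (t • ρΩ (D.iS (-1))) := by
            rw [smul_smul, inv_mul_cancel₀ ht, one_smul]
        _ = (-c / t) • (1 : Module.End ℂ Ω) := by
            rw [h', smul_smul]
            congr 1
            field_simp
    have hN : ρΩ (D.iG negSp) = (s * (-c / t)) • (1 : Module.End ℂ Ω) := by
      calc ρΩ (D.iG negSp) = (ρΩ (D.iS (-1)) * ρΩ (D.iS (-1))) * ρΩ (D.iG negSp) := by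
            rw [hAA, one_mul]
        _ = ρΩ (D.iS (-1)) * ρΩ (D.iS (-1) * D.iG negSp) := by
            rw [mul_assoc, ← map_mul ρΩ (D.iS (-1)) (D.iG negSp)]
        _ = (s * (-c / t)) • (1 : Module.End ℂ Ω) := by
            rw [hsΩ, hA, smul_mul_smul_comm, mul_one, mul_comm]
    apply Cfsg.Agent.Lib.Helper3.SPW.negSp_not_scalar D ρΩ ψ hm hodd hψ ha hΩa (s * (-c / t))
    rw [hN, smul_mul_assoc, one_mul]
  refine ⟨?_, ht⟩
  rw [ht, zero_smul, add_zero] at h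
  by_contra hc
  apply he0
  calc eZ D ρΩ ψ a = c⁻¹ • ((c • (1 : Module.End ℂ Ω)) * eZ D ρΩ ψ a) := by
        rw [smul_mul_assoc, one_mul, smul_smul, inv_mul_cancel₀ hc, one_smul]
    _ = 0 := by rw [h, zero_mul, smul_zero]

/-- `End_{S₁ × G'}(Ω)` has dimension at least `2` -/
theorem two_le_finrank_endK (hm : 0 < m) (hodd : Odd (Fintype.card F)) (hψ : ψ ≠ 1) {a : F}
    (ha : a ≠ 0) (s : ℂ) (hsΩ : ρΩ (D.iS (-1) * D.iG negSp) = s • 1)
    (hΩa : LinearMap.trace ℂ Ω (eZ D ρΩ ψ a) = (Fintype.card F : ℂ) ^ m) :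
    2 ≤ finrank ℂ (homK ρΩ ρΩ D.iSG) := by
  have mem1 : (1 : Module.End ℂ Ω) ∈ homK ρΩ ρΩ D.iSG := by
    intro k
    rw [Module.End.one_eq_id, LinearMap.id_comp, LinearMap.comp_id]
  have mem2 : ρΩ (D.iS (-1)) ∈ homK ρΩ ρΩ D.iSG := by
    intro k
    rw [← Module.End.mul_eq_comp, ← Module.End.mul_eq_comp, ← map_mul, ← map_mul,
      iS_neg_one_comm]
  have hli : LinearIndependent ℂ
      ![(⟨1, mem1⟩ : homK ρΩ ρΩ D.iSG), (⟨ρΩ (D.iS (-1)), mem2⟩ : homK ρΩ ρΩ D.iSG)] := by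
    rw [LinearIndependent.pair_iff]
    intro c t hct
    have h := congrArg Subtype.val hct
    exact indep_one_negS D ρΩ ψ hm hodd hψ ha s hsΩ hΩa c t h
  have := hli.fintype_card_le_finrank
  simpa using this

/-- unit B4 with the units B3, B3z as hypotheses -/
theorem finrank_homK_iSG_ge_of (hm : 0 < m) (hodd : Odd (Fintype.card F)) (hψ : ψ ≠ 1) {a : F}
    (ha : a ≠ 0) (s : ℂ) (hsΩ : ρΩ (D.iS (-1) * D.iG negSp) = s • 1)
    (hΩa : LinearMap.trace ℂ Ω (eZ D ρΩ ψ a) = (Fintype.card F : ℂ) ^ m)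
    (hB3 : ∀ τ : symplecticGroup (Fin m) F → ℂ, IsIrrCharacter (symplecticGroup (Fin m) F) τ →
      classInner (chiA D ρΩ ψ a) τ ≠ 0 → ∀ x : Matrix.SpecialLinearGroup (Fin 2) F,
      comp D ρ τ x * (Fintype.card F : ℂ) ^ m =
        LinearMap.trace ℂ V (eZ D ρ ψ a) * comp D ρΩ τ x)
    (hB3z : ∀ τ : symplecticGroup (Fin m) F → ℂ, IsIrrCharacter (symplecticGroup (Fin m) F) τ →
      classInner (chiA D ρΩ ψ a) τ = 0 → ∀ x : Matrix.SpecialLinearGroup (Fin 2) F,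
      comp D ρΩ τ x = 0) :
    2 * finrank ℂ (hHom D ρ ρΩ ψ a) ≤ finrank ℂ (homK ρ ρΩ D.iSG) := by
  have : Fintype (IrrCharacter (symplecticGroup (Fin m) F)) := Fintype.ofFinite _
  have hq : (Fintype.card F : ℂ) ^ m ≠ 0 :=
    pow_ne_zero _ (Nat.cast_ne_zero.2 Fintype.card_ne_zero)
  have e1 := Cfsg.Agent.Lib.Helper6.SPW.finrank_homK_iSG D ρ ρΩ
  have e2 := Cfsg.Agent.Lib.Helper6.SPW.finrank_homK_iSG D ρΩ ρΩ
  have hτ : ∀ τ : IrrCharacter (symplecticGroup (Fin m) F),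
      classInner (comp D ρ (τ : symplecticGroup (Fin m) F → ℂ))
          (comp D ρΩ (τ : symplecticGroup (Fin m) F → ℂ)) * (Fintype.card F : ℂ) ^ m =
        LinearMap.trace ℂ V (eZ D ρ ψ a) *
          classInner (comp D ρΩ (τ : symplecticGroup (Fin m) F → ℂ))
            (comp D ρΩ (τ : symplecticGroup (Fin m) F → ℂ)) := by
    intro τ
    by_cases h0 : classInner (chiA D ρΩ ψ a) (τ : symplecticGroup (Fin m) F → ℂ) = 0
    · have hz : comp D ρΩ (τ : symplecticGroup (Fin m) F → ℂ) = 0 := by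
        funext x
        exact hB3z _ τ.2 h0 x
      rw [hz, Cfsg.Agent.Lib.Helper6.classInner_zero_right,
        Cfsg.Agent.Lib.Helper6.classInner_zero_right, zero_mul, mul_zero]
    · exact classInner_prop _ _ _ _ _ (hB3 _ τ.2 h0)
  have e3 : (finrank ℂ (homK ρ ρΩ D.iSG) : ℂ) * (Fintype.card F : ℂ) ^ m =
      LinearMap.trace ℂ V (eZ D ρ ψ a) * (finrank ℂ (homK ρΩ ρΩ D.iSG) : ℂ) := by
    rw [e1, e2, Finset.sum_mul, Finset.mul_sum]
    exact Finset.sum_congr rfl (fun τ _ => hτ τ)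
  have e4 := Cfsg.Agent.Lib.Helper3.SPW.finrank_hHom D ρ ρΩ ψ hodd hψ ha
  rw [hΩa] at e4
  have e5 : (finrank ℂ (hHom D ρ ρΩ ψ a) : ℂ) * (Fintype.card F : ℂ) ^ m =
      LinearMap.trace ℂ V (eZ D ρ ψ a) := by
    have : (Fintype.card F : ℂ) ^ (2 * m) = (Fintype.card F : ℂ) ^ m * (Fintype.card F : ℂ) ^ m := by
      rw [two_mul, pow_add]
    rw [this, ← mul_assoc] at e4
    exact mul_right_cancel₀ hq e4
  have e6 : (finrank ℂ (homK ρ ρΩ D.iSG) : ℂ) =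
      (finrank ℂ (hHom D ρ ρΩ ψ a) : ℂ) * (finrank ℂ (homK ρΩ ρΩ D.iSG) : ℂ) := by
    apply mul_right_cancel₀ hq
    rw [e3, ← e5]
    ring
  have e7 : finrank ℂ (homK ρ ρΩ D.iSG) =
      finrank ℂ (hHom D ρ ρΩ ψ a) * finrank ℂ (homK ρΩ ρΩ D.iSG) := by
    exact_mod_cast e6
  have e8 := two_le_finrank_endK D ρΩ ψ hm hodd hψ ha s hsΩ hΩa
  rw [e7, mul_comm]
  exact Nat.mul_le_mul_left _ e8

end abstract

end Cfsg.Agent.Lib.Helper4.SPWB
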