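import Mathlib
import Cfsg.Agent.Lib.Helper1.SPWDefs2
import Cfsg.Agent.Lib.Helper6.SPWB1
import Cfsg.Agent.Lib.Helper6.SPWB1cV
import Cfsg.Agent.Lib.Helper6.SPWA7d
import Cfsg.Agent.Lib.Helper4.SPWB3
import Cfsg.Agent.Lib.Helper4.SPWB4

/-!
Farm SPW (statement S2524), units B3, B3z, B4 with the statements of the stubs.
-/

set_option autoImplicit false
set_option linter.unusedSectionVars false
set_option linter.unusedVariables false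

namespace Cfsg.Agent.Lib.Helper4.SPWB

open Matrix Cfsg Cfsg.Agent.Lib.Helper6.Wl Cfsg.Agent.Lib.Helper4 Cfsg.Agent.Lib.Helper1.SPW
open Module

section abstract
variable {F : Type*} [Field F] [Fintype F] [DecidableEq F] {m : ℕ}
variable {G : Type*} [Group G] [Fintype G]
variable [Fintype (symplecticGroup (Fin m) F)]
variable (D : Datum F m G)
variable {V : Type*} [AddCommGroup V] [Module ℂ V] [FiniteDimensional ℂ V]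
variable {Ω : Type*} [AddCommGroup Ω] [Module ℂ Ω] [FiniteDimensional ℂ Ω]
variable (ρ : Representation ℂ G V) (ρΩ : Representation ℂ G Ω) (ψ : AddChar F ℂ)

/-- a module whose `a`-part has trace `q^m` is not trivial -/
theorem exists_ne_one_of_trace (hψ : ψ ≠ 1) {a : F} (ha : a ≠ 0)
    (hΩa : LinearMap.trace ℂ Ω (eZ D ρΩ ψ a) = (Fintype.card F : ℂ) ^ m) :
    ∃ g : G, ρΩ g ≠ 1 := by
  apply exists_ne_one_of_eZ_ne_zero D ρΩ ψ hψ ha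
  intro h0
  rw [h0, map_zero] at hΩa
  exact pow_ne_zero _ (Nat.cast_ne_zero.2 Fintype.card_ne_zero) hΩa.symm

/-- **Unit B3** -/
theorem comp_eq (hm : 0 < m) (hodd : Odd (Fintype.card F)) (hψ : ψ ≠ 1) {a : F} (ha : a ≠ 0)
    (rV : Rk1 D ρ ψ) (rΩ : Rk1 D ρΩ ψ) (hV : ρ.IsIrreducible) (hΩ : ρΩ.IsIrreducible)
    (s : ℂ) (hsV : ρ (D.iS (-1) * D.iG negSp) = s • 1)
    (hsΩ : ρΩ (D.iS (-1) * D.iG negSp) = s • 1)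
    (hΩa : LinearMap.trace ℂ Ω (eZ D ρΩ ψ a) = (Fintype.card F : ℂ) ^ m)
    (hΩ' : ∀ a' : F, a' ≠ 0 → ¬ IsSquare (a' / a) → eZ D ρΩ ψ a' = 0)
    (hVa : eZ D ρ ψ a ≠ 0)
    (τ : symplecticGroup (Fin m) F → ℂ) (hτ : IsIrrCharacter (symplecticGroup (Fin m) F) τ)
    (h1 : classInner (chiA D ρΩ ψ a) τ ≠ 0) (x : Matrix.SpecialLinearGroup (Fin 2) F) :
    comp D ρ τ x * (Fintype.card F : ℂ) ^ m =
      LinearMap.trace ℂ V (eZ D ρ ψ a) * comp D ρΩ τ x :=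
  comp_eq_of D ρ ρΩ ψ hm hodd hψ ha rV rΩ s hΩa hΩ' τ hτ
    (fun a' => Cfsg.Agent.Lib.Helper6.SPW.mU_comp D ρ ψ τ a')
    (fun a' => Cfsg.Agent.Lib.Helper6.SPW.mU_comp D ρΩ ψ τ a')
    (fun x => Cfsg.Agent.Lib.Helper6.SPW.comp_neg D ρ τ hτ s hsV x)
    (fun x => Cfsg.Agent.Lib.Helper6.SPW.comp_neg D ρΩ τ hτ s hsΩ x)
    (Cfsg.Agent.Lib.Helper6.SPW.comp_inner_one D ρ ψ hm rV hV
      (exists_ne_one_of_eZ_ne_zero D ρ ψ hψ ha hVa) τ hτ)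
    (Cfsg.Agent.Lib.Helper6.SPW.comp_inner_one D ρΩ ψ hm rΩ hΩ
      (exists_ne_one_of_trace D ρΩ ψ hψ ha hΩa) τ hτ)
    (fun a' ha' hns => Cfsg.Agent.Lib.Helper6.SPW.chiA_disjoint D ρ ρΩ ψ hm hodd hψ ha ha' hns
      rV rΩ hΩa τ hτ h1)
    x

/-- **Unit B3z** -/
theorem comp_eq_zero (hm : 0 < m) (hodd : Odd (Fintype.card F)) (hψ : ψ ≠ 1) {a : F} (ha : a ≠ 0)
    (rΩ : Rk1 D ρΩ ψ) (hΩ : ρΩ.IsIrreducible)
    (hΩa : LinearMap.trace ℂ Ω (eZ D ρΩ ψ a) = (Fintype.card F : ℂ) ^ m)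
    (hΩ' : ∀ a' : F, a' ≠ 0 → ¬ IsSquare (a' / a) → eZ D ρΩ ψ a' = 0)
    (τ : symplecticGroup (Fin m) F → ℂ) (hτ : IsIrrCharacter (symplecticGroup (Fin m) F) τ)
    (h0 : classInner (chiA D ρΩ ψ a) τ = 0) (x : Matrix.SpecialLinearGroup (Fin 2) F) :
    comp D ρΩ τ x = 0 :=
  comp_eq_zero_of D ρΩ ψ hodd hψ ha hΩ' τ hτ h0
    (fun a' => Cfsg.Agent.Lib.Helper6.SPW.mU_comp D ρΩ ψ τ a')
    (Cfsg.Agent.Lib.Helper6.SPW.comp_inner_one D ρΩ ψ hm rΩ hΩ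
      (exists_ne_one_of_trace D ρΩ ψ hψ ha hΩa) τ hτ)
    x

/-- **Unit B4** -/
theorem finrank_homK_iSG_ge (hm : 0 < m) (hodd : Odd (Fintype.card F)) (hψ : ψ ≠ 1) {a : F}
    (ha : a ≠ 0)
    (rV : Rk1 D ρ ψ) (rΩ : Rk1 D ρΩ ψ) (hV : ρ.IsIrreducible) (hΩ : ρΩ.IsIrreducible)
    (s : ℂ) (hsV : ρ (D.iS (-1) * D.iG negSp) = s • 1)
    (hsΩ : ρΩ (D.iS (-1) * D.iG negSp) = s • 1)
    (hΩa : LinearMap.trace ℂ Ω (eZ D ρΩ ψ a) = (Fintype.card F : ℂ) ^ m)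
    (hΩ' : ∀ a' : F, a' ≠ 0 → ¬ IsSquare (a' / a) → eZ D ρΩ ψ a' = 0)
    (hVa : eZ D ρ ψ a ≠ 0) :
    2 * finrank ℂ (hHom D ρ ρΩ ψ a) ≤ finrank ℂ (homK ρ ρΩ D.iSG) :=
  finrank_homK_iSG_ge_of D ρ ρΩ ψ hm hodd hψ ha s hsΩ hΩa
    (fun τ hτ h1 x => comp_eq D ρ ρΩ ψ hm hodd hψ ha rV rΩ hV hΩ s hsV hsΩ hΩa hΩ' hVa τ hτ h1 x)
    (fun τ hτ h0 x => comp_eq_zero D ρΩ ψ hm hodd hψ ha rΩ hΩ hΩa hΩ' τ hτ h0 x)

end abstract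

end Cfsg.Agent.Lib.Helper4.SPWB
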