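import Mathlib
import Cfsg.Agent.Lib.Helper1.SPWDefs2
import Cfsg.Agent.Lib.Helper6.SPWR
import Cfsg.Agent.Lib.Helper1.SPWBr

/-!
Farm SPW (statement S2524), unit Br3: the `a`-parts of a module whose `Q`-spectrum consists of the
matrices `c x xᵀ`, each with multiplicity one.
-/

set_option autoImplicit false
set_option linter.unusedSectionVars false
set_option linter.unusedVariables false

namespace Cfsg.Agent.Lib.Helper4.SPWB

open Matrix Cfsg Cfsg.Agent.Lib.Helper6.Wl Cfsg.Agent.Lib.Helper4 Cfsg.Agent.Lib.Helper1.SPW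
open Module

section bridge
variable {F : Type*} [Field F] [Fintype F] [DecidableEq F]
variable {m : ℕ} (D : Datum F m (symplecticGroup (Fin (m + 1)) F))
variable {V : Type*} [AddCommGroup V] [Module ℂ V] [FiniteDimensional ℂ V]
variable (ρ : Representation ℂ (symplecticGroup (Fin (m + 1)) F) V) (ψ : AddChar F ℂ)

/-- the symmetric matrix `c x xᵀ` with `x = (1, y)` -/
def symY (c : F) (y : Fin m → F) : symAdd F (m + 1) :=
  ⟨c • vecMulVec (Fin.cons 1 y : Fin (m + 1) → F) (Fin.cons 1 y), by
    rw [mem_symAdd, transpose_smul, transpose_vecMulVec]⟩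

theorem symY_coe (c : F) (y : Fin m → F) :
    ((symY c y : symAdd F (m + 1)) : Matrix (Fin (m + 1)) (Fin (m + 1)) F) =
      c • vecMulVec (Fin.cons 1 y : Fin (m + 1) → F) (Fin.cons 1 y) := rfl

theorem symY_apply_00 (c : F) (y : Fin m → F) :
    ((symY c y : symAdd F (m + 1)) : Matrix (Fin (m + 1)) (Fin (m + 1)) F) 0 0 = c := by
  rw [symY_coe]
  simp [vecMulVec_apply]

theorem symY_apply_0s (c : F) (y : Fin m → F) (j : Fin m) :
    ((symY c y : symAdd F (m + 1)) : Matrix (Fin (m + 1)) (Fin (m + 1)) F) 0 j.succ = c * y j := by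
  rw [symY_coe]
  simp [vecMulVec_apply]

theorem symY_injective {c : F} (hc : c ≠ 0) : Function.Injective (symY (m := m) c) := by
  intro y y' h
  funext j
  have := congrArg (fun T : symAdd F (m + 1) =>
    (T : Matrix (Fin (m + 1)) (Fin (m + 1)) F) 0 j.succ) h
  simp only [symY_apply_0s] at this
  exact mul_left_cancel₀ hc this

theorem cons_one_ne_zero (y : Fin m → F) : (Fin.cons 1 y : Fin (m + 1) → F) ≠ 0 := by
  intro h
  have := congrFun h 0
  simp at this

/-- a matrix `c x xᵀ` with entry `c` at `(0,0)` is some `symY c y` -/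
theorem exists_symY_eq {c : F} (hc : c ≠ 0) (T : symAdd F (m + 1)) (x : Fin (m + 1) → F)
    (hT : (T : Matrix (Fin (m + 1)) (Fin (m + 1)) F) = c • vecMulVec x x)
    (h00 : (T : Matrix (Fin (m + 1)) (Fin (m + 1)) F) 0 0 = c) :
    ∃ y : Fin m → F, T = symY c y := by
  have hx0 : x 0 * x 0 = 1 := by
    rw [hT] at h00
    simp only [Matrix.smul_apply, vecMulVec_apply, smul_eq_mul] at h00
    exact mul_left_cancel₀ hc (by rw [h00, mul_one])
  refine ⟨fun j => x 0 * x j.succ, ?_⟩
  apply Subtype.ext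
  rw [symY_coe, hT]
  have hcons : (Fin.cons 1 (fun j : Fin m => x 0 * x j.succ) : Fin (m + 1) → F) = x 0 • x := by
    funext i
    refine Fin.cases ?_ (fun j => ?_) i
    · simp [hx0]
    · simp
  rw [hcons]
  ext i j
  simp only [Matrix.smul_apply, vecMulVec_apply, Pi.smul_apply, smul_eq_mul]
  linear_combination (-(c * x i * x j)) * hx0

/-- **Unit Br3** -/
theorem trace_eZ_of_spectrum (hodd : Odd (Fintype.card F)) (hψ : ψ ≠ 1)
    (h1 : ∀ (b : Fin m → F) (s : F), D.iH (Heis.ab b s) = uQ (symRow b s))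
    (c : F) (hc : c ≠ 0)
    (hsp : ∀ T : symAdd F (m + 1), eT ρ ψ T ≠ 0 →
      ∃ x : Fin (m + 1) → F, (T : Matrix (Fin (m + 1)) (Fin (m + 1)) F) = c • vecMulVec x x)
    (htr : ∀ (x : Fin (m + 1) → F) (T : symAdd F (m + 1)), x ≠ 0 →
      (T : Matrix (Fin (m + 1)) (Fin (m + 1)) F) = c • vecMulVec x x →
      LinearMap.trace ℂ V (eT ρ ψ T) = 1) :
    LinearMap.trace ℂ V (eZ D ρ ψ c) = (Fintype.card F : ℂ) ^ m ∧
      ∀ a' : F, a' ≠ 0 → ¬ IsSquare (a' / c) → eZ D ρ ψ a' = 0 := by
  classical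
  constructor
  · rw [Cfsg.Agent.Lib.Helper1.SPW.eZ_eq_sum_eT D ρ ψ hodd hψ h1 c, map_sum]
    have hsub : (Finset.univ.image (symY (m := m) c)) ⊆ (Finset.univ : Finset (symAdd F (m + 1))) :=
      Finset.subset_univ _
    rw [← Finset.sum_subset hsub]
    · rw [Finset.sum_image (fun y _ y' _ h => symY_injective hc h)]
      have : ∀ y : Fin m → F, LinearMap.trace ℂ V
          (if ((symY c y : symAdd F (m + 1)) : Matrix (Fin (m + 1)) (Fin (m + 1)) F) 0 0 = c
            then eT ρ ψ (symY c y) else 0) = 1 := by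
        intro y
        rw [if_pos (symY_apply_00 c y)]
        exact htr _ _ (cons_one_ne_zero y) (symY_coe c y)
      rw [Finset.sum_congr rfl (fun y _ => this y), Finset.sum_const, Finset.card_univ,
        Fintype.card_fun, Fintype.card_fin, nsmul_eq_mul, mul_one, Nat.cast_pow]
    · intro T _ hT
      split_ifs with h00
      · by_cases he : eT ρ ψ T = 0
        · rw [he, map_zero]
        · exfalso
          obtain ⟨x, hx⟩ := hsp T he
          obtain ⟨y, hy⟩ := exists_symY_eq hc T x hx h00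
          apply hT
          rw [hy]
          exact Finset.mem_image_of_mem _ (Finset.mem_univ y)
      · exact map_zero _
  · intro a' ha' hns
    rw [Cfsg.Agent.Lib.Helper1.SPW.eZ_eq_sum_eT D ρ ψ hodd hψ h1 a']
    apply Finset.sum_eq_zero
    intro T _
    split_ifs with h00
    · by_contra he
      obtain ⟨x, hx⟩ := hsp T he
      apply hns
      refine ⟨x 0, ?_⟩
      rw [← h00, hx]
      simp only [Matrix.smul_apply, vecMulVec_apply, smul_eq_mul]
      field_simp
    · rfl

end bridge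

end Cfsg.Agent.Lib.Helper4.SPWB
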