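import Mathlib
import Cfsg.Agent.Lib.Helper1.SPWDefs2
import Cfsg.Agent.Lib.Helper6.SPWR
import Cfsg.Agent.Lib.Helper1.SPWBr

/-!
Farm SPW (statement S2524), unit Br4 (with Br2 as a hypothesis): a nontrivial module with
`Q`-spectrum of rank at most one has some `c E₀₀`, `c ≠ 0`, in its spectrum.
-/

set_option autoImplicit false
set_option linter.unusedSectionVars false
set_option linter.unusedVariables false

namespace Cfsg.Agent.Lib.Helper4.SPWB

open Matrix Cfsg Cfsg.Agent.Lib.Helper6.Wl Cfsg.Agent.Lib.Helper4 Cfsg.Agent.Lib.Helper1.SPW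
open Module

section spectrum
variable {F : Type*} [Field F] [Fintype F] [DecidableEq F] {n : ℕ}
variable {V : Type*} [AddCommGroup V] [Module ℂ V] [FiniteDimensional ℂ V]
variable (ρ : Representation ℂ (symplecticGroup (Fin n) F) V) (ψ : AddChar F ℂ)

/-- the projectors `eT` are orthogonal -/
theorem eT_mul_of_ne (h2 : (2 : F) ≠ 0) (hψ : ψ ≠ 1) {T T' : symAdd F n} (h : T ≠ T') :
    eT ρ ψ T * eT ρ ψ T' = 0 := by
  rw [eT_mul]
  have h1 : ∀ S : symAdd F n,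
      ψ (-(Matrix.trace ((T : Matrix (Fin n) (Fin n) F) * (S : Matrix (Fin n) (Fin n) F)))) •
        (ρ (uQ S) * eT ρ ψ T') =
      ψ (Matrix.trace ((S : Matrix (Fin n) (Fin n) F) *
        ((T' : Matrix (Fin n) (Fin n) F) - (T : Matrix (Fin n) (Fin n) F)))) • eT ρ ψ T' := by
    intro S
    rw [rho_mul_eT, smul_smul, ← AddChar.map_add_eq_mul]
    congr 2
    rw [Matrix.mul_sub, Matrix.trace_sub, Matrix.trace_mul_comm (S : Matrix (Fin n) (Fin n) F),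
      Matrix.trace_mul_comm (S : Matrix (Fin n) (Fin n) F)]
    ring
  rw [Finset.sum_congr rfl (fun S _ => h1 S), ← Finset.sum_smul]
  have hD : ((T' : Matrix (Fin n) (Fin n) F) - (T : Matrix (Fin n) (Fin n) F))ᵀ =
      (T' : Matrix (Fin n) (Fin n) F) - (T : Matrix (Fin n) (Fin n) F) := by
    rw [transpose_sub, symAdd_transpose, symAdd_transpose]
  have hD0 : (T' : Matrix (Fin n) (Fin n) F) - (T : Matrix (Fin n) (Fin n) F) ≠ 0 := by
    intro h0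
    apply h
    apply Subtype.ext
    exact (sub_eq_zero.mp h0).symm
  rw [sum_sym_psi_zero h2 ψ hψ _ hD hD0, zero_smul, smul_zero]

/-- `ρ (uQ S)` in terms of the projectors -/
theorem rho_uQ_eq_sum (h2 : (2 : F) ≠ 0) (hψ : ψ ≠ 1) (S : symAdd F n) :
    ρ (uQ S) = ∑ T : symAdd F n,
      ψ (Matrix.trace ((T : Matrix (Fin n) (Fin n) F) * (S : Matrix (Fin n) (Fin n) F))) •
        eT ρ ψ T := by
  calc ρ (uQ S) = ρ (uQ S) * ∑ T : symAdd F n, eT ρ ψ T := by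
        rw [sum_eT ρ ψ h2 hψ, mul_one]
    _ = _ := by
        rw [Finset.mul_sum]
        exact Finset.sum_congr rfl (fun T _ => rho_mul_eT ρ ψ S T)

/-- a nontrivial module has a nonzero matrix in its spectrum -/
theorem exists_eT_ne_zero (hn : 0 < n) (h2 : (2 : F) ≠ 0) (hψ : ψ ≠ 1)
    (hnt : ∃ g, ρ g ≠ 1) : ∃ T : symAdd F n, T ≠ 0 ∧ eT ρ ψ T ≠ 0 := by
  by_contra hcon
  push Not at hcon
  obtain ⟨g, hg⟩ := hnt
  apply hg
  apply rho_trivial_of_uQ ρ hn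
  intro S
  have hsum : ∀ f : symAdd F n → ℂ, ∑ T : symAdd F n, f T • eT ρ ψ T = f 0 • eT ρ ψ 0 := by
    intro f
    apply Finset.sum_eq_single_of_mem (0 : symAdd F n) (Finset.mem_univ _)
    intro T _ hT
    rw [hcon T hT, smul_zero]
  have h1 : (1 : Module.End ℂ V) = eT ρ ψ 0 := by
    have := hsum (fun _ => (1 : ℂ))
    simp only [one_smul] at this
    rw [← this, sum_eT ρ ψ h2 hψ]
  rw [rho_uQ_eq_sum ρ ψ h2 hψ S, hsum, ← h1]
  simp

end spectrum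

section bridge
variable {F : Type*} [Field F] [Fintype F] [DecidableEq F]
variable {m : ℕ} (D : Datum F m (symplecticGroup (Fin (m + 1)) F))
variable {V : Type*} [AddCommGroup V] [Module ℂ V] [FiniteDimensional ℂ V]
variable (ρ : Representation ℂ (symplecticGroup (Fin (m + 1)) F) V) (ψ : AddChar F ℂ)

/-- by Br2, `eZ a` absorbs the `eT T` with `T₀₀ = a` -/
theorem eZ_mul_eT_of (h2 : (2 : F) ≠ 0) (hψ : ψ ≠ 1) (a : F)
    (hBr2 : eZ D ρ ψ a = ∑ T : symAdd F (m + 1),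
      if (T : Matrix (Fin (m + 1)) (Fin (m + 1)) F) 0 0 = a then eT ρ ψ T else 0)
    (T' : symAdd F (m + 1)) (hT' : (T' : Matrix (Fin (m + 1)) (Fin (m + 1)) F) 0 0 = a) :
    eZ D ρ ψ a * eT ρ ψ T' = eT ρ ψ T' := by
  rw [hBr2, Finset.sum_mul]
  rw [Finset.sum_eq_single_of_mem T' (Finset.mem_univ _)]
  · rw [if_pos hT']
    exact eT_idem ρ ψ T'
  · intro T _ hT
    split_ifs
    · exact eT_mul_of_ne ρ ψ h2 hψ hT
    · exact zero_mul _

/-- unit Br4 with Br2 as a hypothesis -/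
theorem exists_eZ_ne_zero_of (hodd : Odd (Fintype.card F)) (hψ : ψ ≠ 1)
    (hBr2 : ∀ a : F, eZ D ρ ψ a = ∑ T : symAdd F (m + 1),
      if (T : Matrix (Fin (m + 1)) (Fin (m + 1)) F) 0 0 = a then eT ρ ψ T else 0)
    (hnt : ∃ g, ρ g ≠ 1)
    (hsp : ∀ T : symAdd F (m + 1), eT ρ ψ T ≠ 0 →
      ∃ (c : F) (x : Fin (m + 1) → F),
        (T : Matrix (Fin (m + 1)) (Fin (m + 1)) F) = c • vecMulVec x x) :
    ∃ c : F, c ≠ 0 ∧ eZ D ρ ψ c ≠ 0 := by
  have h2 : (2 : F) ≠ 0 := Cfsg.Agent.Lib.Helper6.Wl.two_ne_zero_of_odd hodd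
  obtain ⟨T, hT0, hT⟩ := exists_eT_ne_zero ρ ψ (Nat.succ_pos m) h2 hψ hnt
  obtain ⟨c, x, hTx⟩ := hsp T hT
  have hc : c ≠ 0 := by
    rintro rfl
    apply hT0
    apply Subtype.ext
    rw [hTx, zero_smul]
    rfl
  have hx : x ≠ 0 := by
    rintro rfl
    apply hT0
    apply Subtype.ext
    rw [hTx]
    ext i j
    simp
  obtain ⟨g', hg'⟩ := exists_gl_mulVec x hx 0
  have hgx : ((g'⁻¹ : GL (Fin (m + 1)) F) : Matrix (Fin (m + 1)) (Fin (m + 1)) F) *ᵥ x =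
      Pi.single 0 1 := by
    rw [← hg', mulVec_mulVec, ← Units.val_mul, inv_mul_cancel, Units.val_one, one_mulVec]
  have hdet : (((g'⁻¹ : GL (Fin (m + 1)) F) : Matrix (Fin (m + 1)) (Fin (m + 1)) F)ᵀ).det ≠ 0 := by
    rw [det_transpose]
    exact (Matrix.isUnits_det_units (g'⁻¹)).ne_zero
  set B : GL (Fin (m + 1)) F := Matrix.GeneralLinearGroup.mkOfDetNeZero _ hdet with hB
  have hBc : (B : Matrix (Fin (m + 1)) (Fin (m + 1)) F) =
      ((g'⁻¹ : GL (Fin (m + 1)) F) : Matrix (Fin (m + 1)) (Fin (m + 1)) F)ᵀ := rfl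
  have hT' : ((congSym B T : symAdd F (m + 1)) : Matrix (Fin (m + 1)) (Fin (m + 1)) F) =
      c • vecMulVec (Pi.single 0 1) (Pi.single 0 1) := by
    rw [congSym_coe, hBc, transpose_transpose, hTx, Matrix.mul_smul, Matrix.smul_mul,
      mul_vecMulVec, vecMulVec_mul, vecMul_transpose, hgx]
  have h00 : ((congSym B T : symAdd F (m + 1)) : Matrix (Fin (m + 1)) (Fin (m + 1)) F) 0 0 = c := by
    rw [hT']
    simp [vecMulVec_apply]
  have hne : eT ρ ψ (congSym B T) ≠ 0 := by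
    intro h0
    apply hT
    apply (LinearMap.IsIdempotentElem.trace_eq_zero_iff (eT_idem ρ ψ T)).1
    rw [← trace_eT_cong ρ ψ B T, h0, map_zero]
  refine ⟨c, hc, ?_⟩
  intro h0
  apply hne
  rw [← eZ_mul_eT_of D ρ ψ h2 hψ c (hBr2 c) _ h00, h0, zero_mul]

/-- **Unit Br4** -/
theorem exists_eZ_ne_zero (hodd : Odd (Fintype.card F)) (hψ : ψ ≠ 1)
    (h1 : ∀ (b : Fin m → F) (s : F), D.iH (Heis.ab b s) = uQ (symRow b s))
    (hnt : ∃ g, ρ g ≠ 1)
    (hsp : ∀ T : symAdd F (m + 1), eT ρ ψ T ≠ 0 →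
      ∃ (c : F) (x : Fin (m + 1) → F),
        (T : Matrix (Fin (m + 1)) (Fin (m + 1)) F) = c • vecMulVec x x) :
    ∃ c : F, c ≠ 0 ∧ eZ D ρ ψ c ≠ 0 :=
  exists_eZ_ne_zero_of D ρ ψ hodd hψ
    (fun a => Cfsg.Agent.Lib.Helper1.SPW.eZ_eq_sum_eT D ρ ψ hodd hψ h1 a) hnt hsp

end bridge

end Cfsg.Agent.Lib.Helper4.SPWB
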