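import Mathlib

set_option autoImplicit false

namespace Cfsg.Agent.Lib.Helper4.CentProd

variable {G : Type*} [Group G]

/-- the properties of a subgroup `L ≅ SL₂(q)`, `q` odd, with central involution `j`, used in the
uniqueness of central decompositions -/
structure SLikeSub (L : Subgroup G) (j : G) : Prop where
  j_mem : j ∈ L
  j_comm : ∀ x ∈ L, j * x = x * j
  cent : ∀ x ∈ L, (∀ l ∈ L, x * l = l * x ∨ x * l = j * (l * x)) → x = 1 ∨ x = j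
  indec : ∀ X Y : Subgroup G, X ≤ L → Y ≤ L → (∀ x ∈ X, ∀ y ∈ Y, x * y = y * x) →
    (∀ l ∈ L, ∃ x ∈ X, ∃ y ∈ Y, l = x * y) → (∀ z, z ∈ X → z ∈ Y → z = 1 ∨ z = j) →
    j ∈ X → j ∈ Y → (∀ x ∈ X, x = 1 ∨ x = j) ∨ (∀ y ∈ Y, y = 1 ∨ y = j)
  big : ∃ x ∈ L, x ≠ 1 ∧ x ≠ j

theorem exists_mul_of_mem_sup (A B : Subgroup G) (hc : ∀ a ∈ A, ∀ b ∈ B, a * b = b * a) {x : G}
    (hx : x ∈ A ⊔ B) : ∃ a ∈ A, ∃ b ∈ B, x = a * b := by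
  rw [Subgroup.sup_eq_closure] at hx
  induction hx using Subgroup.closure_induction with
  | mem x hx =>
    rcases hx with h | h
    · exact ⟨x, h, 1, B.one_mem, (mul_one x).symm⟩
    · exact ⟨1, A.one_mem, x, h, (one_mul x).symm⟩
  | one => exact ⟨1, A.one_mem, 1, B.one_mem, (mul_one 1).symm⟩
  | mul x y _ _ hx hy =>
    obtain ⟨a, ha, b, hb, rfl⟩ := hx
    obtain ⟨a', ha', b', hb', rfl⟩ := hy
    refine ⟨a * a', A.mul_mem ha ha', b * b', B.mul_mem hb hb', ?_⟩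
    calc a * b * (a' * b') = a * (b * a') * b' := by group
      _ = a * (a' * b) * b' := by rw [hc a' ha' b hb]
      _ = a * a' * (b * b') := by group
  | inv x _ hx =>
    obtain ⟨a, ha, b, hb, rfl⟩ := hx
    refine ⟨a⁻¹, A.inv_mem ha, b⁻¹, B.inv_mem hb, ?_⟩
    rw [mul_inv_rev, hc a⁻¹ (A.inv_mem ha) b⁻¹ (B.inv_mem hb)]

/-- an element of `L₁L₂` centralising `L₁` modulo `⟨j⟩` lies in `L₂` -/
theorem mem_right_of_cent {L₁ L₂ : Subgroup G} {j : G} (h1 : SLikeSub L₁ j) (hj2 : j ∈ L₂)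
    (hc : ∀ x ∈ L₁, ∀ y ∈ L₂, x * y = y * x) (a b : G) (ha : a ∈ L₁) (hb : b ∈ L₂)
    (h : ∀ l ∈ L₁, (a * b) * l = l * (a * b) ∨ (a * b) * l = j * (l * (a * b))) :
    a * b ∈ L₂ := by
  have ha' : a = 1 ∨ a = j := by
    apply h1.cent a ha
    intro l hl
    have hbl : b * l = l * b := (hc l hl b hb).symm
    rcases h l hl with h' | h'
    · left
      have : a * l * b = l * a * b := by
        calc a * l * b = a * (l * b) := by group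
          _ = a * (b * l) := by rw [hbl]
          _ = a * b * l := by group
          _ = l * (a * b) := h'
          _ = l * a * b := by group
      exact mul_right_cancel this
    · right
      have : a * l * b = j * (l * a) * b := by
        calc a * l * b = a * (l * b) := by group
          _ = a * (b * l) := by rw [hbl]
          _ = a * b * l := by group
          _ = j * (l * (a * b)) := h'
          _ = j * (l * a) * b := by group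
      exact mul_right_cancel this
  rcases ha' with rfl | rfl
  · rw [one_mul]; exact hb
  · exact L₂.mul_mem hj2 hb

/-- the `L₁`-component of an element of `M₁` lies in `M₁` -/
theorem left_mem_of_mem {L₁ L₂ M₁ M₂ : Subgroup G} {j : G} (hM2 : SLikeSub M₂ j) (hjM1 : j ∈ M₁)
    (hjL1 : j ∈ L₁) (hjc : ∀ x ∈ L₁, j * x = x * j)
    (hcL : ∀ x ∈ L₁, ∀ y ∈ L₂, x * y = y * x) (hcM : ∀ x ∈ M₁, ∀ y ∈ M₂, x * y = y * x)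
    (hiL : ∀ z, z ∈ L₁ → z ∈ L₂ → z = 1 ∨ z = j)
    (hK : L₁ ⊔ L₂ = M₁ ⊔ M₂)
    (l₁ l₂ : G) (h1 : l₁ ∈ L₁) (h2 : l₂ ∈ L₂) (ha : l₁ * l₂ ∈ M₁) : l₁ ∈ M₁ := by
  have hl₁K : l₁ ∈ M₁ ⊔ M₂ := by rw [← hK]; exact Subgroup.mem_sup_left h1
  obtain ⟨m₁, hm₁, m₂, hm₂, hl₁⟩ := exists_mul_of_mem_sup M₁ M₂ hcM hl₁K
  have hl₁' : l₁ = m₂ * m₁ := by rw [hl₁, hcM m₁ hm₁ m₂ hm₂]
  rw [hl₁']
  apply mem_right_of_cent hM2 hjM1 (fun x hx y hy => (hcM y hy x hx).symm) m₂ m₁ hm₂ hm₁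
  rw [← hl₁']
  intro b hb
  have hbK : b ∈ L₁ ⊔ L₂ := by rw [hK]; exact Subgroup.mem_sup_right hb
  obtain ⟨b₁, hb₁, b₂, hb₂, rfl⟩ := exists_mul_of_mem_sup L₁ L₂ hcL hbK
  have hab : (l₁ * l₂) * (b₁ * b₂) = (b₁ * b₂) * (l₁ * l₂) := hcM _ ha _ hb
  have e1 : l₂ * b₁ = b₁ * l₂ := (hcL b₁ hb₁ l₂ h2).symm
  have e2 : b₂ * l₁ = l₁ * b₂ := (hcL l₁ h1 b₂ hb₂).symm
  have key : (l₁ * b₁) * (l₂ * b₂) = (b₁ * l₁) * (b₂ * l₂) := by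
    calc (l₁ * b₁) * (l₂ * b₂) = l₁ * (b₁ * l₂) * b₂ := by group
      _ = l₁ * (l₂ * b₁) * b₂ := by rw [e1]
      _ = (l₁ * l₂) * (b₁ * b₂) := by group
      _ = (b₁ * b₂) * (l₁ * l₂) := hab
      _ = b₁ * (b₂ * l₁) * l₂ := by group
      _ = b₁ * (l₁ * b₂) * l₂ := by rw [e2]
      _ = (b₁ * l₁) * (b₂ * l₂) := by group
  have hz : (b₁ * l₁)⁻¹ * (l₁ * b₁) = (b₂ * l₂) * (l₂ * b₂)⁻¹ := by
    calc (b₁ * l₁)⁻¹ * (l₁ * b₁) = (b₁ * l₁)⁻¹ * ((l₁ * b₁) * (l₂ * b₂)) * (l₂ * b₂)⁻¹ := by group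
      _ = (b₁ * l₁)⁻¹ * ((b₁ * l₁) * (b₂ * l₂)) * (l₂ * b₂)⁻¹ := by rw [key]
      _ = (b₂ * l₂) * (l₂ * b₂)⁻¹ := by group
  have hz1 : (b₁ * l₁)⁻¹ * (l₁ * b₁) ∈ L₁ :=
    L₁.mul_mem (L₁.inv_mem (L₁.mul_mem hb₁ h1)) (L₁.mul_mem h1 hb₁)
  have hz2 : (b₁ * l₁)⁻¹ * (l₁ * b₁) ∈ L₂ := by
    rw [hz]
    exact L₂.mul_mem (L₂.mul_mem hb₂ h2) (L₂.inv_mem (L₂.mul_mem h2 hb₂))
  have hl₁b₁ : l₁ * b₁ = (b₁ * l₁) * ((b₁ * l₁)⁻¹ * (l₁ * b₁)) := by group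
  rcases hiL _ hz1 hz2 with hz' | hz'
  · left
    rw [hz', mul_one] at hl₁b₁
    calc l₁ * (b₁ * b₂) = (l₁ * b₁) * b₂ := by group
      _ = (b₁ * l₁) * b₂ := by rw [hl₁b₁]
      _ = b₁ * (l₁ * b₂) := by group
      _ = b₁ * (b₂ * l₁) := by rw [e2]
      _ = b₁ * b₂ * l₁ := by group
  · right
    rw [hz'] at hl₁b₁
    have hjb₁ : j * b₁ = b₁ * j := hjc b₁ hb₁
    have hjl₁ : j * l₁ = l₁ * j := hjc l₁ h1
    calc l₁ * (b₁ * b₂) = (l₁ * b₁) * b₂ := by group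
      _ = (b₁ * l₁ * j) * b₂ := by rw [hl₁b₁]
      _ = b₁ * (l₁ * j) * b₂ := by group
      _ = b₁ * (j * l₁) * b₂ := by rw [hjl₁]
      _ = (b₁ * j) * (l₁ * b₂) := by group
      _ = (j * b₁) * (b₂ * l₁) := by rw [hjb₁, e2]
      _ = j * (b₁ * b₂ * l₁) := by group

theorem le_left_or_le_right {L₁ L₂ M₁ M₂ : Subgroup G} {j : G}
    (hL1 : SLikeSub L₁ j) (hL2 : SLikeSub L₂ j) (hM1 : SLikeSub M₁ j) (hM2 : SLikeSub M₂ j)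
    (hcL : ∀ x ∈ L₁, ∀ y ∈ L₂, x * y = y * x) (hcM : ∀ x ∈ M₁, ∀ y ∈ M₂, x * y = y * x)
    (hiL : ∀ z, z ∈ L₁ → z ∈ L₂ → z = 1 ∨ z = j)
    (hK : L₁ ⊔ L₂ = M₁ ⊔ M₂) : M₁ ≤ L₁ ∨ M₁ ≤ L₂ := by
  have hdec : ∀ l ∈ M₁, ∃ x ∈ M₁ ⊓ L₁, ∃ y ∈ M₁ ⊓ L₂, l = x * y := by
    intro l hl
    have hlK : l ∈ L₁ ⊔ L₂ := by rw [hK]; exact Subgroup.mem_sup_left hl
    obtain ⟨l₁, h1, l₂, h2, rfl⟩ := exists_mul_of_mem_sup L₁ L₂ hcL hlK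
    have hm1 : l₁ ∈ M₁ := left_mem_of_mem hM2 hM1.j_mem hL1.j_mem hL1.j_comm hcL hcM hiL hK
      l₁ l₂ h1 h2 hl
    have hm2 : l₂ ∈ M₁ := by
      have hl' : l₂ * l₁ ∈ M₁ := by rw [← hcL l₁ h1 l₂ h2]; exact hl
      exact left_mem_of_mem hM2 hM1.j_mem hL2.j_mem hL2.j_comm
        (fun x hx y hy => (hcL y hy x hx).symm) hcM (fun z hz1 hz2 => hiL z hz2 hz1)
        (by rw [sup_comm]; exact hK) l₂ l₁ h2 h1 hl'
    exact ⟨l₁, ⟨hm1, h1⟩, l₂, ⟨hm2, h2⟩, rfl⟩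
  rcases hM1.indec (M₁ ⊓ L₁) (M₁ ⊓ L₂) inf_le_left inf_le_left
    (fun x hx y hy => hcL x hx.2 y hy.2) hdec (fun z hz1 hz2 => hiL z hz1.2 hz2.2)
    ⟨hM1.j_mem, hL1.j_mem⟩ ⟨hM1.j_mem, hL2.j_mem⟩ with h | h
  · right
    intro l hl
    obtain ⟨x, hx, y, hy, rfl⟩ := hdec l hl
    rcases h x hx with rfl | rfl
    · rw [one_mul]; exact hy.2
    · exact L₂.mul_mem hL2.j_mem hy.2
  · left
    intro l hl
    obtain ⟨x, hx, y, hy, rfl⟩ := hdec l hl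
    rcases h y hy with rfl | rfl
    · rw [mul_one]; exact hx.2
    · exact L₁.mul_mem hx.2 hL1.j_mem

theorem not_le_of_big {L M₁ M₂ : Subgroup G} {j : G} (hL : SLikeSub L j)
    (hiM : ∀ z, z ∈ M₁ → z ∈ M₂ → z = 1 ∨ z = j) (h1 : L ≤ M₁) (h2 : L ≤ M₂) : False := by
  obtain ⟨x, hx, hx1, hxj⟩ := hL.big
  rcases hiM x (h1 hx) (h2 hx) with h | h
  · exact hx1 h
  · exact hxj h

/-- uniqueness of the central decomposition -/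
theorem swap_or_fix {L₁ L₂ M₁ M₂ : Subgroup G} {j : G}
    (hL1 : SLikeSub L₁ j) (hL2 : SLikeSub L₂ j) (hM1 : SLikeSub M₁ j) (hM2 : SLikeSub M₂ j)
    (hcL : ∀ x ∈ L₁, ∀ y ∈ L₂, x * y = y * x) (hcM : ∀ x ∈ M₁, ∀ y ∈ M₂, x * y = y * x)
    (hiL : ∀ z, z ∈ L₁ → z ∈ L₂ → z = 1 ∨ z = j) (hiM : ∀ z, z ∈ M₁ → z ∈ M₂ → z = 1 ∨ z = j)
    (hK : L₁ ⊔ L₂ = M₁ ⊔ M₂) : (M₁ = L₁ ∧ M₂ = L₂) ∨ (M₁ = L₂ ∧ M₂ = L₁) := by
  have hcL' : ∀ x ∈ L₂, ∀ y ∈ L₁, x * y = y * x := fun x hx y hy => (hcL y hy x hx).symm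
  have hcM' : ∀ x ∈ M₂, ∀ y ∈ M₁, x * y = y * x := fun x hx y hy => (hcM y hy x hx).symm
  have hiL' : ∀ z, z ∈ L₂ → z ∈ L₁ → z = 1 ∨ z = j := fun z h1 h2 => hiL z h2 h1
  have hiM' : ∀ z, z ∈ M₂ → z ∈ M₁ → z = 1 ∨ z = j := fun z h1 h2 => hiM z h2 h1
  have a1 : M₁ ≤ L₁ ∨ M₁ ≤ L₂ := le_left_or_le_right hL1 hL2 hM1 hM2 hcL hcM hiL hK
  have a2 : M₂ ≤ L₁ ∨ M₂ ≤ L₂ :=
    le_left_or_le_right hL1 hL2 hM2 hM1 hcL hcM' hiL (by rw [hK, sup_comm])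
  have a3 : L₁ ≤ M₁ ∨ L₁ ≤ M₂ := le_left_or_le_right hM1 hM2 hL1 hL2 hcM hcL hiM hK.symm
  have a4 : L₂ ≤ M₁ ∨ L₂ ≤ M₂ :=
    le_left_or_le_right hM1 hM2 hL2 hL1 hcM hcL' hiM (by rw [← hK, sup_comm])
  rcases a1 with b1 | b1
  · rcases a3 with b3 | b3
    · left
      have e1 : M₁ = L₁ := le_antisymm b1 b3
      refine ⟨e1, ?_⟩
      rcases a2 with b2 | b2
      · exact (not_le_of_big hM2 hiM' le_rfl (e1 ▸ b2)).elim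
      · rcases a4 with b4 | b4
        · exact (not_le_of_big hL2 hiL' le_rfl (e1 ▸ b4)).elim
        · exact le_antisymm b2 b4
    · exact (not_le_of_big hM1 hiM le_rfl (b1.trans b3)).elim
  · rcases a4 with b4 | b4
    · right
      have e1 : M₁ = L₂ := le_antisymm b1 b4
      refine ⟨e1, ?_⟩
      rcases a2 with b2 | b2
      · rcases a3 with b3 | b3
        · exact (not_le_of_big hL1 hiL le_rfl (e1 ▸ b3)).elim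
        · exact le_antisymm b2 b3
      · exact (not_le_of_big hM2 hiM' le_rfl (e1 ▸ b2)).elim
    · exact (not_le_of_big hM1 hiM le_rfl (b1.trans b4)).elim

end Cfsg.Agent.Lib.Helper4.CentProd
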