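import Mathlib

/-!
# S4130, piece PE

A minimal normal subgroup `N` (abelian of exponent `q`) all of whose indices `|N : C_N(x)|`
divide `q` has order `q`.
-/

namespace Cfsg.Agent.Lib.Helper4.SqF

section abs

variable {G V : Type*} [Group G] [Group V]

/-- `v ↦ v⁻¹ * ρ x v` as an endomorphism of the commutative group `V`. -/
def dl (hc : ∀ a b : V, a * b = b * a) (ρ : G →* MulAut V) (x : G) : V →* V where
  toFun v := v⁻¹ * ρ x v
  map_one' := by simp
  map_mul' a b := by
    rw [map_mul, mul_inv_rev, hc b⁻¹ a⁻¹, mul_assoc, mul_assoc]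
    congr 1
    rw [← mul_assoc, ← mul_assoc, hc b⁻¹ (ρ x a)]

theorem dl_apply (hc : ∀ a b : V, a * b = b * a) (ρ : G →* MulAut V) (x : G) (v : V) :
    dl hc ρ x v = v⁻¹ * ρ x v := rfl

theorem rho_eq (hc : ∀ a b : V, a * b = b * a) (ρ : G →* MulAut V) (x : G) (w : V) :
    ρ x w = w * dl hc ρ x w := by
  rw [dl_apply, mul_inv_cancel_left]

theorem dl_mul (hc : ∀ a b : V, a * b = b * a) (ρ : G →* MulAut V) (x y : G) (v : V) :
    dl hc ρ (x * y) v = ρ x (dl hc ρ y v) * dl hc ρ x v := by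
  simp only [dl_apply, map_mul, map_inv, MulAut.mul_apply]
  rw [hc ((ρ x v)⁻¹ * ρ x (ρ y v)) (v⁻¹ * ρ x v), mul_assoc, mul_inv_cancel_left]

theorem rho_rho_inv (ρ : G →* MulAut V) (x : G) (v : V) : ρ x (ρ x⁻¹ v) = v := by
  rw [← MulAut.mul_apply, ← map_mul, mul_inv_cancel, map_one, MulAut.one_apply]

theorem dl_inv (hc : ∀ a b : V, a * b = b * a) (ρ : G →* MulAut V) (x : G) (v : V) :
    dl hc ρ x⁻¹ v = (dl hc ρ x (ρ x⁻¹ v))⁻¹ := by
  simp only [dl_apply, mul_inv_rev, inv_inv]
  rw [rho_rho_inv]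

theorem dl_one (hc : ∀ a b : V, a * b = b * a) (ρ : G →* MulAut V) (v : V) :
    dl hc ρ 1 v = 1 := by
  simp [dl_apply]

theorem le_of_card_dvd_prime [Finite V] {q : ℕ} (hq : q.Prime) (B C : Subgroup V)
    (hB : Nat.card B ∣ q) {b : V} (hbB : b ∈ B) (hb1 : b ≠ 1) (hbC : b ∈ C) : B ≤ C := by
  have hz : Subgroup.zpowers b ≤ B := by rwa [Subgroup.zpowers_le]
  have h1 : orderOf b ∣ Nat.card B := by
    rw [← Nat.card_zpowers]; exact Subgroup.card_dvd_of_le hz
  have h2 : orderOf b = q := by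
    rcases (Nat.dvd_prime hq).1 (h1.trans hB) with h | h
    · exact absurd (orderOf_eq_one_iff.1 h) hb1
    · exact h
  have h3 : Nat.card B = q := Nat.dvd_antisymm hB (h2 ▸ h1)
  have h4 : Subgroup.zpowers b = B := by
    apply Subgroup.eq_of_le_of_card_ge hz
    rw [Nat.card_zpowers, h2, h3]
  rw [← h4, Subgroup.zpowers_le]; exact hbC

theorem mem_ker_iff (hc : ∀ a b : V, a * b = b * a) (ρ : G →* MulAut V) (x : G) (v : V) :
    v ∈ (dl hc ρ x).ker ↔ ρ x v = v := by
  rw [MonoidHom.mem_ker, dl_apply, inv_mul_eq_one, eq_comm]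

/-- pairwise lemma -/
theorem pairwise_lemma [Finite V] {q : ℕ} (hq : q.Prime) (hc : ∀ a b : V, a * b = b * a)
    (ρ : G →* MulAut V) (hidx : ∀ x : G, (dl hc ρ x).ker.index ∣ q) (x y : G)
    (hx : (dl hc ρ x).range ≠ ⊥) (hy : (dl hc ρ y).range ≠ ⊥)
    (hK : (dl hc ρ x).ker ≠ (dl hc ρ y).ker) : (dl hc ρ x).range = (dl hc ρ y).range := by
  have hcard : ∀ z : G, Nat.card (dl hc ρ z).range ∣ q := fun z => by
    rw [← Subgroup.index_ker]; exact hidx z
  have hidxq : ∀ z : G, (dl hc ρ z).range ≠ ⊥ → (dl hc ρ z).ker.index = q := by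
    intro z hz
    rcases (Nat.dvd_prime hq).1 (hidx z) with h | h
    · exfalso
      rw [Subgroup.index_ker] at h
      exact hz ((Subgroup.card_eq_one).1 h)
    · exact h
  have hnle : ∀ z w : G, (dl hc ρ z).range ≠ ⊥ → (dl hc ρ w).range ≠ ⊥ →
      (dl hc ρ z).ker ≠ (dl hc ρ w).ker → ¬ (dl hc ρ z).ker ≤ (dl hc ρ w).ker := by
    intro z w hz hw hne hle
    apply hne
    apply le_antisymm hle
    have := Subgroup.relIndex_mul_index hle
    rw [hidxq z hz, hidxq w hw] at this
    have h1 : (dl hc ρ z).ker.relIndex (dl hc ρ w).ker = 1 := by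
      have hqpos := hq.pos
      nlinarith
    exact Subgroup.relIndex_eq_one.1 h1
  obtain ⟨n1, hn1y, hn1x⟩ := SetLike.not_le_iff_exists.1 (hnle y x hy hx (Ne.symm hK))
  obtain ⟨n2, hn2x, hn2y⟩ := SetLike.not_le_iff_exists.1 (hnle x y hx hy hK)
  rw [MonoidHom.mem_ker] at hn1y hn1x hn2x hn2y
  -- a := dl x n1
  have ha : dl hc ρ (x * y) n1 = dl hc ρ x n1 := by
    rw [dl_mul, hn1y, map_one, one_mul]
  have haxy : dl hc ρ x n1 ∈ (dl hc ρ (x * y)).range := ⟨n1, ha⟩
  have hax : dl hc ρ x n1 ∈ (dl hc ρ x).range := ⟨n1, rfl⟩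
  have hle1 : (dl hc ρ (x * y)).range ≤ (dl hc ρ x).range :=
    le_of_card_dvd_prime hq _ _ (hcard _) haxy hn1x hax
  have hb : dl hc ρ (x * y) n2 = ρ x (dl hc ρ y n2) := by
    rw [dl_mul, hn2x, mul_one]
  have hbx : dl hc ρ y n2 ∈ (dl hc ρ x).range := by
    have h1 : ρ x (dl hc ρ y n2) ∈ (dl hc ρ x).range := hle1 ⟨n2, hb⟩
    have h2 : dl hc ρ x (dl hc ρ y n2) ∈ (dl hc ρ x).range := ⟨_, rfl⟩
    have h3 : dl hc ρ y n2 = ρ x (dl hc ρ y n2) * (dl hc ρ x (dl hc ρ y n2))⁻¹ := by
      rw [rho_eq hc ρ x (dl hc ρ y n2), mul_inv_cancel_right]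
    rw [h3]
    exact Subgroup.mul_mem _ h1 (Subgroup.inv_mem _ h2)
  have hby : dl hc ρ y n2 ∈ (dl hc ρ y).range := ⟨n2, rfl⟩
  exact le_antisymm (le_of_card_dvd_prime hq _ _ (hcard _) hbx hn2y hby)
    (le_of_card_dvd_prime hq _ _ (hcard _) hby hn2y hbx)

theorem card_eq_prime_abs [Finite V] {q : ℕ} (hq : q.Prime) (hc : ∀ a b : V, a * b = b * a)
    (ρ : G →* MulAut V) (hnt : ∃ v : V, v ≠ 1) (hexp : ∀ v : V, v ^ q = 1)
    (hirr : ∀ W : Subgroup V, (∀ x : G, ∀ w ∈ W, ρ x w ∈ W) → W = ⊥ ∨ W = ⊤)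
    (hidx : ∀ x : G, (dl hc ρ x).ker.index ∣ q) : Nat.card V = q := by
  have hcard : ∀ z : G, Nat.card (dl hc ρ z).range ∣ q := fun z => by
    rw [← Subgroup.index_ker]; exact hidx z
  have hVne : Nat.card V ≠ 1 := by
    intro h
    obtain ⟨v, hv⟩ := hnt
    have := (Nat.card_eq_one_iff_unique.1 h).1
    exact hv (Subsingleton.elim _ _)
  have hfin : Nat.card V ∣ q → Nat.card V = q := by
    intro h
    rcases (Nat.dvd_prime hq).1 h with h | h
    · exact absurd h hVne
    · exact h
  by_cases hall : ∀ x : G, (dl hc ρ x).range = ⊥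
  · -- trivial action
    have htriv : ∀ x : G, ∀ v : V, ρ x v = v := by
      intro x v
      have h1 : dl hc ρ x v ∈ (dl hc ρ x).range := ⟨v, rfl⟩
      rw [hall x, Subgroup.mem_bot] at h1
      rw [rho_eq hc ρ x v, h1, mul_one]
    obtain ⟨v, hv⟩ := hnt
    rcases hirr (Subgroup.zpowers v) (fun x w hw => by rw [htriv]; exact hw) with h | h
    · exact absurd (Subgroup.zpowers_eq_bot.1 h) hv
    · have h1 : Nat.card V = orderOf v := by
        rw [← Nat.card_zpowers, h, Subgroup.card_top]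
      rw [h1]
      rcases (Nat.dvd_prime hq).1 (orderOf_dvd_of_pow_eq_one (hexp v)) with h2 | h2
      · exact absurd (orderOf_eq_one_iff.1 h2) hv
      · exact h2
  · push Not at hall
    obtain ⟨x0, hx0⟩ := hall
    -- the two subgroups
    let Acal : Subgroup G :=
      { carrier := {y | (dl hc ρ y).range ≤ (dl hc ρ x0).range}
        one_mem' := by
          rintro _ ⟨v, rfl⟩
          rw [dl_one]; exact Subgroup.one_mem _
        mul_mem' := by
          intro a b ha hb
          rintro _ ⟨v, rfl⟩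
          rw [dl_mul, rho_eq hc ρ a (dl hc ρ b v)]
          have h1 : dl hc ρ b v ∈ (dl hc ρ x0).range := hb ⟨v, rfl⟩
          have h2 : dl hc ρ a (dl hc ρ b v) ∈ (dl hc ρ x0).range := ha ⟨_, rfl⟩
          have h3 : dl hc ρ a v ∈ (dl hc ρ x0).range := ha ⟨_, rfl⟩
          exact Subgroup.mul_mem _ (Subgroup.mul_mem _ h1 h2) h3
        inv_mem' := by
          intro a ha
          rintro _ ⟨v, rfl⟩
          rw [dl_inv]
          exact Subgroup.inv_mem _ (ha ⟨_, rfl⟩) }
    let Hcal : Subgroup G :=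
      { carrier := {y | ∀ v ∈ (dl hc ρ x0).ker, ρ y v = v}
        one_mem' := by
          intro v _
          rw [map_one, MulAut.one_apply]
        mul_mem' := by
          intro a b ha hb v hv
          rw [map_mul, MulAut.mul_apply, hb v hv, ha v hv]
        inv_mem' := by
          intro a ha v hv
          have := rho_rho_inv ρ a⁻¹ v
          rw [inv_inv] at this
          conv_lhs => rw [← ha v hv]
          rw [← MulAut.mul_apply, ← map_mul, inv_mul_cancel, map_one, MulAut.one_apply] }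
    have hunion : ∀ y : G, y ∈ Acal ∨ y ∈ Hcal := by
      intro y
      by_cases hy : (dl hc ρ y).range = ⊥
      · left
        show (dl hc ρ y).range ≤ (dl hc ρ x0).range
        rw [hy]; exact bot_le
      · by_cases hK : (dl hc ρ x0).ker = (dl hc ρ y).ker
        · right
          intro v hv
          rw [hK] at hv
          exact (mem_ker_iff hc ρ y v).1 hv
        · left
          show (dl hc ρ y).range ≤ (dl hc ρ x0).range
          rw [pairwise_lemma hq hc ρ hidx x0 y hx0 hy hK]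
    have htop : Acal = ⊤ ∨ Hcal = ⊤ := by
      by_contra hcon
      push Not at hcon
      obtain ⟨hA, hH⟩ := hcon
      obtain ⟨a, -, ha⟩ := SetLike.exists_of_lt (lt_top_iff_ne_top.2 hA)
      obtain ⟨h, -, hh⟩ := SetLike.exists_of_lt (lt_top_iff_ne_top.2 hH)
      have haH : a ∈ Hcal := (hunion a).resolve_left ha
      have hhA : h ∈ Acal := (hunion h).resolve_right hh
      rcases hunion (a * h) with h1 | h1
      · apply ha
        have := Subgroup.mul_mem _ h1 (Subgroup.inv_mem _ hhA)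
        rwa [mul_inv_cancel_right] at this
      · apply hh
        have := Subgroup.mul_mem _ (Subgroup.inv_mem _ haH) h1
        rwa [inv_mul_cancel_left] at this
    rcases htop with hA | hH
    · -- range of x0 is invariant
      have hinv : ∀ x : G, ∀ w ∈ (dl hc ρ x0).range, ρ x w ∈ (dl hc ρ x0).range := by
        intro x w hw
        rw [rho_eq hc ρ x w]
        have hxA : x ∈ Acal := by rw [hA]; exact Subgroup.mem_top _
        exact Subgroup.mul_mem _ hw (hxA ⟨w, rfl⟩)
      rcases hirr _ hinv with h | h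
      · exact absurd h hx0
      · apply hfin
        have := hcard x0
        rwa [h, Subgroup.card_top] at this
    · have hinv : ∀ x : G, ∀ w ∈ (dl hc ρ x0).ker, ρ x w ∈ (dl hc ρ x0).ker := by
        intro x w hw
        have hxH : x ∈ Hcal := by rw [hH]; exact Subgroup.mem_top _
        rw [hxH w hw]; exact hw
      rcases hirr _ hinv with h | h
      · apply hfin
        have := hidx x0
        rwa [h, Subgroup.index_bot] at this
      · exfalso
        apply hx0
        rw [eq_bot_iff]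
        rintro _ ⟨v, rfl⟩
        have : v ∈ (dl hc ρ x0).ker := by rw [h]; exact Subgroup.mem_top _
        rw [MonoidHom.mem_ker] at this
        rw [this]; exact Subgroup.one_mem _

end abs

theorem card_eq_prime_of_minimal_normal {G : Type*} [Group G] [Finite G] {q : ℕ} [Fact q.Prime]
    (N : Subgroup G) [N.Normal] (hN1 : N ≠ ⊥)
    (hmin : ∀ M : Subgroup G, M.Normal → M ≤ N → M = ⊥ ∨ M = N)
    (hNc : ∀ a ∈ N, ∀ b ∈ N, a * b = b * a) (hNq : ∀ a ∈ N, a ^ q = 1)
    (hidx : ∀ x : G, (Subgroup.centralizer ({x} : Set G)).relIndex N ∣ q) : Nat.card N = q := by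
  have hq : q.Prime := Fact.out
  have hc : ∀ a b : N, a * b = b * a := fun a b => Subtype.ext (hNc a a.2 b b.2)
  have hker : ∀ x : G, (dl hc (MulAut.conjNormal (H := N)) x).ker =
      (Subgroup.centralizer ({x} : Set G)).subgroupOf N := by
    intro x
    ext n
    rw [mem_ker_iff, Subgroup.mem_subgroupOf, Subgroup.mem_centralizer_singleton_iff,
      Subtype.ext_iff, MulAut.conjNormal_apply]
    constructor
    · intro h
      calc (n : G) * x = (x * (n : G) * x⁻¹) * x := by rw [h]
        _ = x * (n : G) := by group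
    · intro h
      rw [← h, mul_inv_cancel_right]
  apply card_eq_prime_abs hq hc (MulAut.conjNormal (H := N))
  · exact (Subgroup.ne_bot_iff_exists_ne_one).1 hN1
  · intro v
    exact Subtype.ext (hNq v v.2)
  · intro W hW
    have hnorm : (W.map N.subtype).Normal := by
      constructor
      rintro _ ⟨w, hw, rfl⟩ g
      refine ⟨MulAut.conjNormal g w, hW g w hw, ?_⟩
      simp [MulAut.conjNormal_apply]
    rcases hmin _ hnorm (Subgroup.map_subtype_le W) with h | h
    · left
      exact (Subgroup.map_eq_bot_iff_of_injective W N.subtype_injective).1 h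
    · right
      rw [eq_top_iff]
      intro n _
      have : (n : G) ∈ W.map N.subtype := by rw [h]; exact n.2
      obtain ⟨w, hw, hwn⟩ := this
      have : w = n := Subtype.ext hwn
      rwa [← this]
  · intro x
    rw [hker x]
    exact hidx x

end Cfsg.Agent.Lib.Helper4.SqF
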