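import Mathlib
import Cfsg.Agent.Lib.Helper4.SqfE

/-!
# S4130, piece PG (Knoche)

A finite `p`-group all of whose conjugacy class sizes divide `p` has `|P'|` dividing `p`.
-/

namespace Cfsg.Agent.Lib.Helper4.SqF

open scoped commutatorElement

section knoche

variable {P : Type*} [Group P]

theorem comm_mem_commutator (x g : P) : ⁅x, g⁆ ∈ commutator P := by
  rw [commutator_def]
  exact Subgroup.commutator_mem_commutator (Subgroup.mem_top x) (Subgroup.mem_top g)

/-- `g ↦ ⁅x, g⁆` as a homomorphism when `P' ≤ Z(P)`. -/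
def cm (hZ : commutator P ≤ Subgroup.center P) (x : P) : P →* P where
  toFun g := ⁅x, g⁆
  map_one' := by simp
  map_mul' g h := by
    have hcen := Subgroup.mem_center_iff.1 (hZ (comm_mem_commutator x h)) g⁻¹
    calc ⁅x, g * h⁆ = x * g * x⁻¹ * (⁅x, h⁆ * g⁻¹) := by
          simp only [commutatorElement_def]; group
      _ = x * g * x⁻¹ * (g⁻¹ * ⁅x, h⁆) := by rw [hcen]
      _ = ⁅x, g⁆ * ⁅x, h⁆ := by
          simp only [commutatorElement_def]; group

theorem cm_apply (hZ : commutator P ≤ Subgroup.center P) (x g : P) : cm hZ x g = ⁅x, g⁆ := rfl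

theorem cm_ker (hZ : commutator P ≤ Subgroup.center P) (x : P) :
    (cm hZ x).ker = Subgroup.centralizer ({x} : Set P) := by
  ext g
  rw [MonoidHom.mem_ker, cm_apply, commutatorElement_eq_one_iff_mul_comm,
    Subgroup.mem_centralizer_singleton_iff, eq_comm]

theorem cm_mul_left (hZ : commutator P ≤ Subgroup.center P) (x y g : P) :
    cm hZ (x * y) g = cm hZ x g * cm hZ y g := by
  simp only [cm_apply]
  have hcen := Subgroup.mem_center_iff.1 (hZ (comm_mem_commutator y g))
  calc ⁅x * y, g⁆ = x * ⁅y, g⁆ * (g * x⁻¹ * g⁻¹) := by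
        simp only [commutatorElement_def]; group
    _ = ⁅y, g⁆ * x * (g * x⁻¹ * g⁻¹) := by rw [hcen x]
    _ = ⁅y, g⁆ * ⁅x, g⁆ := by
        simp only [commutatorElement_def]; group
    _ = ⁅x, g⁆ * ⁅y, g⁆ := (hcen _).symm

theorem commutator_le_center_of_index_dvd [Finite P] {p : ℕ} [Fact p.Prime] (hP : IsPGroup p P)
    (h : ∀ x : P, (Subgroup.centralizer ({x} : Set P)).index ∣ p) :
    commutator P ≤ Subgroup.center P := by
  have hp : p.Prime := Fact.out
  intro z hz
  rw [Subgroup.mem_center_iff]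
  intro x
  suffices hzx : z ∈ Subgroup.centralizer ({x} : Set P) by
    exact (Subgroup.mem_centralizer_singleton_iff.1 hzx).symm
  rcases (Nat.dvd_prime hp).1 (h x) with h1 | h1
  · rw [Subgroup.index_eq_one.1 h1]; exact Subgroup.mem_top _
  · obtain ⟨n, hn⟩ := IsPGroup.iff_card.1 hP
    have hn0 : n ≠ 0 := by
      rintro rfl
      rw [pow_zero] at hn
      have := (Subgroup.centralizer ({x} : Set P)).index_dvd_card
      rw [hn, h1] at this
      exact hp.one_lt.ne' (Nat.dvd_one.1 this)
    have hmf : (Nat.card P).minFac = p := by rw [hn]; exact hp.pow_minFac hn0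
    have hnorm : (Subgroup.centralizer ({x} : Set P)).Normal :=
      Subgroup.normal_of_index_eq_minFac_card (by rw [h1, hmf])
    have hcq : Nat.card (P ⧸ Subgroup.centralizer ({x} : Set P)) = p := by
      rw [← Subgroup.index_eq_card, h1]
    have : IsCyclic (P ⧸ Subgroup.centralizer ({x} : Set P)) := isCyclic_of_prime_card hcq
    exact (Subgroup.Normal.quotient_commutative_iff_commutator_le.1 inferInstance) hz

theorem pairwise_knoche [Finite P] {p : ℕ} (hp : p.Prime)
    (hZ : commutator P ≤ Subgroup.center P)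
    (hidx : ∀ x : P, (Subgroup.centralizer ({x} : Set P)).index ∣ p) (x y : P)
    (hx : (cm hZ x).range ≠ ⊥) (hy : (cm hZ y).range ≠ ⊥)
    (hK : Subgroup.centralizer ({x} : Set P) ≠ Subgroup.centralizer ({y} : Set P)) :
    (cm hZ x).range = (cm hZ y).range := by
  have hidx' : ∀ z : P, (cm hZ z).ker.index ∣ p := fun z => by rw [cm_ker]; exact hidx z
  have hcard : ∀ z : P, Nat.card (cm hZ z).range ∣ p := fun z => by
    rw [← Subgroup.index_ker]; exact hidx' z
  have hidxq : ∀ z : P, (cm hZ z).range ≠ ⊥ → (cm hZ z).ker.index = p := by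
    intro z hz
    rcases (Nat.dvd_prime hp).1 (hidx' z) with h | h
    · exfalso
      rw [Subgroup.index_ker] at h
      exact hz ((Subgroup.card_eq_one).1 h)
    · exact h
  have hnle : ∀ z w : P, (cm hZ z).range ≠ ⊥ → (cm hZ w).range ≠ ⊥ →
      (cm hZ z).ker ≠ (cm hZ w).ker → ¬ (cm hZ z).ker ≤ (cm hZ w).ker := by
    intro z w hz hw hne hle
    apply hne
    apply le_antisymm hle
    have := Subgroup.relIndex_mul_index hle
    rw [hidxq z hz, hidxq w hw] at this
    have h1 : (cm hZ z).ker.relIndex (cm hZ w).ker = 1 := by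
      have hqpos := hp.pos
      nlinarith
    exact Subgroup.relIndex_eq_one.1 h1
  have hK' : (cm hZ x).ker ≠ (cm hZ y).ker := by rw [cm_ker, cm_ker]; exact hK
  obtain ⟨n1, hn1y, hn1x⟩ := SetLike.not_le_iff_exists.1 (hnle y x hy hx (Ne.symm hK'))
  obtain ⟨n2, hn2x, hn2y⟩ := SetLike.not_le_iff_exists.1 (hnle x y hx hy hK')
  rw [MonoidHom.mem_ker] at hn1y hn1x hn2x hn2y
  have ha : cm hZ (x * y) n1 = cm hZ x n1 := by
    rw [cm_mul_left, hn1y, mul_one]
  have hb : cm hZ (x * y) n2 = cm hZ y n2 := by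
    rw [cm_mul_left, hn2x, one_mul]
  have haxy : cm hZ x n1 ∈ (cm hZ (x * y)).range := ⟨n1, ha⟩
  have hax : cm hZ x n1 ∈ (cm hZ x).range := ⟨n1, rfl⟩
  have hbxy : cm hZ y n2 ∈ (cm hZ (x * y)).range := ⟨n2, hb⟩
  have hby : cm hZ y n2 ∈ (cm hZ y).range := ⟨n2, rfl⟩
  have e1 : (cm hZ x).range = (cm hZ (x * y)).range :=
    le_antisymm (le_of_card_dvd_prime hp _ _ (hcard _) hax hn1x haxy)
      (le_of_card_dvd_prime hp _ _ (hcard _) haxy hn1x hax)
  have e2 : (cm hZ y).range = (cm hZ (x * y)).range :=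
    le_antisymm (le_of_card_dvd_prime hp _ _ (hcard _) hby hn2y hbxy)
      (le_of_card_dvd_prime hp _ _ (hcard _) hbxy hn2y hby)
  rw [e1, e2]

theorem card_commutator_dvd_of_index_dvd {P : Type*} [Group P] [Finite P] {p : ℕ} [Fact p.Prime]
    (hP : IsPGroup p P) (h : ∀ x : P, (Subgroup.centralizer ({x} : Set P)).index ∣ p) :
    Nat.card (commutator P) ∣ p := by
  have hp : p.Prime := Fact.out
  have hZ := commutator_le_center_of_index_dvd hP h
  have hcard : ∀ z : P, Nat.card (cm hZ z).range ∣ p := fun z => by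
    rw [← Subgroup.index_ker, cm_ker]; exact h z
  have hself : ∀ u : P, u ∈ Subgroup.centralizer ({u} : Set P) := fun u =>
    Subgroup.mem_centralizer_singleton_iff.2 rfl
  by_cases hall : ∀ x : P, (cm hZ x).range = ⊥
  · have : commutator P = ⊥ := by
      rw [eq_bot_iff, commutator_eq_closure, Subgroup.closure_le]
      rintro _ ⟨g, k, rfl⟩
      have h1 : cm hZ g k ∈ (cm hZ g).range := ⟨k, rfl⟩
      rw [hall g, Subgroup.mem_bot, cm_apply] at h1
      rw [h1]; exact Subgroup.one_mem _
    rw [this, Subgroup.card_bot]; exact one_dvd _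
  · push Not at hall
    obtain ⟨x0, hx0⟩ := hall
    by_cases hle : ∀ y : P, (cm hZ y).range ≤ (cm hZ x0).range
    · have : commutator P ≤ (cm hZ x0).range := by
        rw [commutator_eq_closure, Subgroup.closure_le]
        rintro _ ⟨g, k, rfl⟩
        exact hle g ⟨k, rfl⟩
      exact (Subgroup.card_dvd_of_le this).trans (hcard x0)
    · exfalso
      push Not at hle
      obtain ⟨y, hy⟩ := hle
      have hy0 : (cm hZ y).range ≠ ⊥ := by
        intro h0; apply hy; rw [h0]; exact bot_le
      have hyx : (cm hZ x0).range ≠ (cm hZ y).range := by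
        intro h0; apply hy; rw [h0]
      have hM : Subgroup.centralizer ({x0} : Set P) = Subgroup.centralizer ({y} : Set P) := by
        by_contra hne
        exact hyx (pairwise_knoche hp hZ h x0 y hx0 hy0 hne)
      have hMtop : Subgroup.centralizer ({x0} : Set P) ≠ ⊤ := by
        intro htop
        apply hx0
        rw [eq_bot_iff]
        rintro _ ⟨v, rfl⟩
        have : v ∈ (cm hZ x0).ker := by rw [cm_ker, htop]; exact Subgroup.mem_top _
        rw [MonoidHom.mem_ker] at this
        rw [this]; exact Subgroup.one_mem _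
      obtain ⟨u, -, hu⟩ := SetLike.exists_of_lt (lt_top_iff_ne_top.2 hMtop)
      have hu0 : (cm hZ u).range ≠ ⊥ := by
        intro h0
        have h1 : cm hZ u x0 ∈ (cm hZ u).range := ⟨x0, rfl⟩
        rw [h0, Subgroup.mem_bot, cm_apply, commutatorElement_eq_one_iff_mul_comm] at h1
        exact hu (Subgroup.mem_centralizer_singleton_iff.2 h1)
      by_cases hux : (cm hZ u).range = (cm hZ x0).range
      · have huy : (cm hZ u).range ≠ (cm hZ y).range := by rw [hux]; exact hyx
        have : Subgroup.centralizer ({u} : Set P) = Subgroup.centralizer ({y} : Set P) := by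
          by_contra hne
          exact huy (pairwise_knoche hp hZ h u y hu0 hy0 hne)
        apply hu
        rw [hM, ← this]; exact hself u
      · have : Subgroup.centralizer ({u} : Set P) = Subgroup.centralizer ({x0} : Set P) := by
          by_contra hne
          exact hux (pairwise_knoche hp hZ h u x0 hu0 hx0 hne)
        apply hu
        rw [← this]; exact hself u

end knoche

end Cfsg.Agent.Lib.Helper4.SqF
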