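import Mathlib
import Cfsg.Agent.Lib.Helper1.TCSDefs
import Cfsg.Agent.Lib.Helper1.TCSApi
import Cfsg.Agent.Lib.Helper1.TCSBasic
import Cfsg.Agent.Lib.Helper8.NMP1
import Cfsg.Agent.Lib.Helper8.NMP2
import Cfsg.Agent.Lib.Helper8.NMP3

/-!
# S4284 farm (helper1), piece X1a `hc_struct`.
-/

set_option autoImplicit false
set_option maxHeartbeats 4000000
set_option linter.unusedVariables false
set_option linter.unusedSectionVars false
set_option linter.style.longLine false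

namespace Cfsg.Agent.Lib.Helper1.TCS

open Cfsg.Agent.Lib.Helper8.CSG Cfsg.Agent.Lib.Helper1.PSG

variable {G : Type*} [Group G] [Finite G] {m n : ℕ}

/-- a `p`-element has order coprime to that of a `p'`-element -/
theorem h4_coprime_of_pelt {p : ℕ} (hp : p.Prime) {v u : G} (hv : PElt p v)
    (hu : (orderOf u).Coprime p) : (orderOf v).Coprime (orderOf u) := by
  obtain ⟨k, hk⟩ := hv
  have h1 : orderOf v ∣ p ^ k := orderOf_dvd_of_pow_eq_one hk
  exact Nat.Coprime.coprime_dvd_left h1 (Nat.Coprime.pow_left k hu.symm)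

/-- the Hall subgroup of `hall_of_subgroup` for `C = Cz v` is `Hc p v` -/
theorem h4_hall_eq_Hc {p : ℕ} (hp : p.Prime) {v : G} (H : Subgroup G) (hHC : H ≤ Cz v)
    (hcop : (Nat.card H).Coprime p)
    (hall : ∀ u ∈ Cz v, (orderOf u).Coprime p → u ∈ H) : H = Hc p v := by
  apply le_antisymm
  · intro x hx
    apply mem_Hc (mem_Cz.1 (hHC hx))
    have h1 : orderOf x ∣ Nat.card H := by
      have := orderOf_dvd_natCard (⟨x, hx⟩ : H)
      rwa [Subgroup.orderOf_mk] at this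
    exact Nat.Coprime.coprime_dvd_left h1 hcop
  · unfold Hc
    rw [Subgroup.closure_le]
    intro u hu
    exact hall u (mem_Cz.2 hu.1) hu.2

/-- X1a -/
theorem hc_struct (h : H3 G m n) {p : ℕ} (hp : p.Prime) (hpm : p ∣ m) {v : G} (hv : PElt p v) (hvn : idx v ≠ 1) :
    (Nat.card (Hc p v)).Coprime p ∧ (∃ k : ℕ, (Hc p v).relIndex (Cz v) = p ^ k) ∧
    (∀ a ∈ Hc p v, ∀ t ∈ Cz v, PElt p t → a * t = t * a) ∧
    (∀ a ∈ Hc p v, (Cz a).relIndex (Hc p v) = 1 ∨ (Cz a).relIndex (Hc p v) = n) ∧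
    (idx v = m * n → ∀ g ∈ Cz v, ∀ a ∈ Hc p v, g * a = a * g) ∧
    (∀ w ∈ Hc p v, (orderOf w).Coprime n → ∀ a ∈ Hc p v, w * a = a * w) := by
  haveI : Fact p.Prime := ⟨hp⟩
  have hpn : ¬ p ∣ n := by
    intro hpn
    have := Nat.dvd_gcd hpm hpn
    rw [h.cop] at this
    exact hp.one_lt.ne' (Nat.dvd_one.mp this)
  have hcases : ∀ u ∈ Cz v, (orderOf u).Coprime p →
      ((Cz u).relIndex (Cz v) = 1 ∨ (Cz u).relIndex (Cz v) = n) ∧
        (idx v = m * n → (Cz u).relIndex (Cz v) = 1) := by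
    intro u hu huc
    exact relIndex_cases h (mem_Cz.1 hu).symm (h4_coprime_of_pelt hp hv huc) hvn
  have hC : ∀ u ∈ Cz v, (orderOf u).Coprime p →
      ¬ p ∣ (Subgroup.centralizer ({u} : Set G)).relIndex (Cz v) := by
    intro u hu huc
    rcases (hcases u hu huc).1 with h1 | h1
    · rw [h1]; exact hp.one_lt.ne' ∘ Nat.dvd_one.mp
    · rw [h1]; exact hpn
  obtain ⟨H, hHC, hcop, ⟨k, hk⟩, hall, hcomm⟩ :=
    Cfsg.Agent.Lib.Helper3.NM.hall_of_subgroup (p := p) (Cz v) hC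
  have hHeq : H = Hc p v := h4_hall_eq_Hc hp H hHC hcop hall
  subst hHeq
  have hord : ∀ a ∈ Hc p v, (orderOf a).Coprime p := by
    intro a ha
    have h1 : orderOf a ∣ Nat.card (Hc p v) := by
      have := orderOf_dvd_natCard (⟨a, ha⟩ : Hc p v)
      rwa [Subgroup.orderOf_mk] at this
    exact Nat.Coprime.coprime_dvd_left h1 hcop
  have h4 : ∀ a ∈ Hc p v, (Cz a).relIndex (Hc p v) = 1 ∨ (Cz a).relIndex (Hc p v) = n := by
    intro a ha
    have e := Cfsg.Agent.Lib.Helper3.NM.relIndex_hall_eq (p := p) (Cz v) (Hc p v) hHC hall hcomm ha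
    show (Subgroup.centralizer ({a} : Set G)).relIndex (Hc p v) = 1 ∨
      (Subgroup.centralizer ({a} : Set G)).relIndex (Hc p v) = n
    rw [e]
    exact (hcases a (hHC ha) (hord a ha)).1
  refine ⟨hcop, ⟨k, hk⟩, hcomm, h4, ?_, ?_⟩
  · intro hv2 g hg a ha
    have h1 := (hcases a (hHC ha) (hord a ha)).2 hv2
    have h2 : Cz v ≤ Cz a := Subgroup.relIndex_eq_one.mp h1
    exact mem_Cz.1 (h2 hg)
  · intro w hw hwn a ha
    by_cases hall1 : ∀ b ∈ Hc p v, (Cz b).relIndex (Hc p v) = 1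
    · have h2 : Hc p v ≤ Cz a := Subgroup.relIndex_eq_one.mp (hall1 a ha)
      exact mem_Cz.1 (h2 hw)
    · push Not at hall1
      obtain ⟨b, hb, hb1⟩ := hall1
      have hbn : (Cz b).relIndex (Hc p v) = n := (h4 b hb).resolve_left hb1
      obtain ⟨q, e, hq, hne, hQ⟩ := Cfsg.Agent.Lib.Helper3.NM.ito_subgroup (Hc p v) h.hn h4 ⟨b, hb, hbn⟩
      apply hQ w hw _ a ha
      intro hqw
      have he : e ≠ 0 := by
        rintro rfl
        rw [pow_zero] at hne
        exact h.hn.ne' hne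
      have hqn : q ∣ n := by rw [hne]; exact dvd_pow_self q he
      have := Nat.dvd_gcd hqw hqn
      rw [hwn] at this
      exact hq.one_lt.ne' (Nat.dvd_one.mp this)

end Cfsg.Agent.Lib.Helper1.TCS
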