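import Mathlib
import Cfsg.Agent.Lib.Helper1.TCSDefs
import Cfsg.Agent.Lib.Helper1.TCSApi
import Cfsg.Agent.Lib.Helper1.TCSBasic
import Cfsg.Agent.Lib.Helper4.TCSX1a
import Cfsg.Agent.Lib.Helper9.PSGBasicB

/-!
# S4284 farm (helper1), piece X1b `sc_struct`.
-/

set_option autoImplicit false
set_option maxHeartbeats 4000000
set_option linter.unusedVariables false
set_option linter.unusedSectionVars false
set_option linter.style.longLine false

namespace Cfsg.Agent.Lib.Helper1.TCS

open Cfsg.Agent.Lib.Helper8.CSG Cfsg.Agent.Lib.Helper1.PSG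

variable {G : Type*} [Group G] [Finite G] {m n : ℕ}

theorem h4_card_mul_relIndex {H K : Subgroup G} (hHK : H ≤ K) :
    Nat.card H * H.relIndex K = Nat.card K := by
  have := Subgroup.relIndex_mul_relIndex (⊥ : Subgroup G) H K bot_le hHK
  rwa [Subgroup.relIndex_bot_left, Subgroup.relIndex_bot_left] at this

/-- the structure of `Sc p v`: it is the image of a (normal) Sylow `p`-subgroup of `Cz v` -/
theorem h4_sc_eq_map (h : H3 G m n) {p : ℕ} [Fact p.Prime] (hpm : p ∣ m) {v : G} (hv : PElt p v)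
    (hvn : idx v ≠ 1) (S₀ : Sylow p (Cz v)) :
    Sc p v = (S₀ : Subgroup (Cz v)).map (Cz v).subtype ∧
      Nat.card (S₀ : Subgroup (Cz v)) * Nat.card (Hc p v) = Nat.card (Cz v) := by
  have hp : p.Prime := Fact.out
  obtain ⟨hcop, ⟨k, hk⟩, hcomm, -, -, -⟩ := hc_struct h hp hpm hv hvn
  have hHC : Hc p v ≤ Cz v := Hc_le p v
  have hcard1 : Nat.card (Hc p v) * p ^ k = Nat.card (Cz v) := by
    rw [← hk]; exact h4_card_mul_relIndex hHC
  have hH0 : Nat.card (Hc p v) ≠ 0 := Nat.card_pos.ne'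
  have hfac : (Nat.card (Cz v)).factorization p = k := by
    rw [← hcard1, Nat.factorization_mul hH0 (pow_ne_zero k hp.ne_zero), Finsupp.add_apply,
      Nat.Prime.factorization_pow hp, Finsupp.single_eq_same,
      Nat.factorization_eq_zero_of_not_dvd, zero_add]
    rw [← Nat.Prime.coprime_iff_not_dvd hp]
    exact hcop.symm
  have hS₀card : Nat.card (S₀ : Subgroup (Cz v)) = p ^ k := by
    rw [S₀.card_eq_multiplicity, hfac]
  have hcard2 : Nat.card (S₀ : Subgroup (Cz v)) * Nat.card (Hc p v) = Nat.card (Cz v) := by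
    rw [hS₀card, mul_comm]; exact hcard1
  refine ⟨?_, hcard2⟩
  -- elements of S₀ are p-elements
  have hS₀p : ∀ s ∈ (S₀ : Subgroup (Cz v)), PElt p ((s : Cz v) : G) := by
    intro s hs
    obtain ⟨j, hj⟩ := pelt_of_mem_sylow S₀ hs
    exact ⟨j, by simpa using congrArg Subtype.val hj⟩
  -- the normalizer of S₀ is everything
  set H' : Subgroup (Cz v) := (Hc p v).subgroupOf (Cz v) with hH'
  have hH'card : Nat.card H' = Nat.card (Hc p v) :=
    Nat.card_congr (Subgroup.subgroupOfEquivOfLe hHC).toEquiv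
  have hH'N : H' ≤ Subgroup.normalizer ((S₀ : Subgroup (Cz v)) : Set (Cz v)) := by
    intro a ha
    rw [Subgroup.mem_normalizer_iff]
    intro s
    have key : ∀ s ∈ (S₀ : Subgroup (Cz v)), a * s * a⁻¹ = s := by
      intro s hs
      have h1 : (a : G) * (s : G) = (s : G) * (a : G) :=
        hcomm a (Subgroup.mem_subgroupOf.mp ha) s s.2 (hS₀p s hs)
      apply Subtype.ext
      simp only [Subgroup.coe_mul, Subgroup.coe_inv]
      rw [h1]; group
    constructor
    · intro hs
      rw [key s hs]; exact hs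
    · intro hs
      have h2 := key _ hs
      have h3 : a * s * a⁻¹ = s := by
        calc a * s * a⁻¹ = a⁻¹ * (a * (a * s * a⁻¹) * a⁻¹) * a := by group
          _ = a⁻¹ * (a * s * a⁻¹) * a := by rw [h2]
          _ = s := by group
      rw [← h3]; exact hs
  have hS₀N : (S₀ : Subgroup (Cz v)) ≤ Subgroup.normalizer ((S₀ : Subgroup (Cz v)) : Set (Cz v)) :=
    Subgroup.le_normalizer
  have hNtop : Subgroup.normalizer ((S₀ : Subgroup (Cz v)) : Set (Cz v)) = ⊤ := by
    apply Subgroup.eq_top_of_le_card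
    have d1 : Nat.card (S₀ : Subgroup (Cz v)) ∣
        Nat.card (Subgroup.normalizer ((S₀ : Subgroup (Cz v)) : Set (Cz v))) :=
      Subgroup.card_dvd_of_le hS₀N
    have d2 : Nat.card H' ∣
        Nat.card (Subgroup.normalizer ((S₀ : Subgroup (Cz v)) : Set (Cz v))) :=
      Subgroup.card_dvd_of_le hH'N
    have hco : (Nat.card (S₀ : Subgroup (Cz v))).Coprime (Nat.card H') := by
      rw [hS₀card, hH'card]
      exact Nat.Coprime.pow_left k hcop.symm
    have d3 := Nat.Coprime.mul_dvd_of_dvd_of_dvd hco d1 d2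
    rw [hH'card, hcard2] at d3
    exact Nat.le_of_dvd Nat.card_pos d3
  have hnormal : (S₀ : Subgroup (Cz v)).Normal := Subgroup.normalizer_eq_top_iff.mp hNtop
  apply le_antisymm
  · unfold Sc
    rw [Subgroup.closure_le]
    intro u hu
    have huC : u ∈ Cz v := mem_Cz.2 hu.1
    have hup : PElt p (⟨u, huC⟩ : Cz v) := by
      obtain ⟨j, hj⟩ := hu.2
      exact ⟨j, Subtype.ext (by simpa using hj)⟩
    exact ⟨⟨u, huC⟩, mem_normal_sylow S₀ hnormal hup, rfl⟩
  · rintro _ ⟨s, hs, rfl⟩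
    exact mem_Sc (mem_Cz.1 s.2) (hS₀p s hs)

/-- X1b -/
theorem sc_struct (h : H3 G m n) {p : ℕ} (hp : p.Prime) (hpm : p ∣ m) {v : G} (hv : PElt p v) (hvn : idx v ≠ 1) :
    IsPGroup p (Sc p v) ∧ Nat.card (Sc p v) * Nat.card (Hc p v) = Nat.card (Cz v) := by
  haveI : Fact p.Prime := ⟨hp⟩
  obtain S₀ : Sylow p (Cz v) := default
  obtain ⟨he, hc⟩ := h4_sc_eq_map h hpm hv hvn S₀
  constructor
  · rw [he]; exact S₀.isPGroup'.map _
  · rw [he, Subgroup.card_map_of_injective (Subgroup.subtype_injective _)]; exact hc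

end Cfsg.Agent.Lib.Helper1.TCS
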