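import Mathlib
import Cfsg.Agent.Lib.Helper1.TCSDefs
import Cfsg.Agent.Lib.Helper1.TCSApi
import Cfsg.Agent.Lib.Helper1.TCSBasic
import Cfsg.Agent.Lib.Helper4.TCSX1a
import Cfsg.Agent.Lib.Helper4.TCSX1b
import Cfsg.Agent.Lib.Helper9.PSGBasicB

/-!
# S4284 farm (helper1), piece X1c `sylow_second`.
-/

set_option autoImplicit false
set_option maxHeartbeats 4000000
set_option linter.unusedVariables false
set_option linter.unusedSectionVars false
set_option linter.style.longLine false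

namespace Cfsg.Agent.Lib.Helper1.TCS

open Cfsg.Agent.Lib.Helper8.CSG Cfsg.Agent.Lib.Helper1.PSG

variable {G : Type*} [Group G] [Finite G] {m n : ℕ}

/-- X1c -/
theorem sylow_second (h : H3 G m n) {p : ℕ} [Fact p.Prime] (hpm : p ∣ m) (P : Sylow p G) {u : G}
    (hu : u ∈ (P : Subgroup G)) (hun : idx u ≠ 1)
    (hcomm : ∀ s ∈ (P : Subgroup G), u * s * u⁻¹ * s⁻¹ ∈ Subgroup.center G) :
    (∀ s ∈ (P : Subgroup G), ∀ g ∈ Cz u, s * g * s⁻¹ ∈ Cz u) ∧
    (∀ s ∈ (P : Subgroup G), ∀ g ∈ Hc p u, s * g * s⁻¹ ∈ Hc p u) ∧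
    (∀ s ∈ (P : Subgroup G), ∀ g ∈ Sc p u, s * g * s⁻¹ ∈ Sc p u) ∧
    Sc p u = (P : Subgroup G) ⊓ Cz u ∧
    (Cz u).relIndex (P : Subgroup G) = p ^ (m.factorization p) := by
  have hp : p.Prime := Fact.out
  have hup : PElt p u := pelt_of_mem_sylow P hu
  have hconj : ∀ s ∈ (P : Subgroup G), ∃ z ∈ Subgroup.center G, s * u * s⁻¹ = z * u := by
    intro s hs
    exact ⟨(u * s * u⁻¹ * s⁻¹)⁻¹, Subgroup.inv_mem _ (hcomm s hs), by group⟩
  have h1 : ∀ s ∈ (P : Subgroup G), ∀ g ∈ Cz u, s * g * s⁻¹ ∈ Cz u := by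
    intro s hs g hg
    obtain ⟨z, hz, hzu⟩ := hconj s hs
    have := Cz_conj s u hg
    rw [hzu, Cz_mul_central u hz] at this
    exact this
  have h2 : ∀ s ∈ (P : Subgroup G), ∀ g ∈ Hc p u, s * g * s⁻¹ ∈ Hc p u := by
    intro s hs g hg
    obtain ⟨z, hz, hzu⟩ := hconj s hs
    have := Hc_conj p s u hg
    rw [hzu, Hc_mul_central p u hz] at this
    exact this
  have h3 : ∀ s ∈ (P : Subgroup G), ∀ g ∈ Sc p u, s * g * s⁻¹ ∈ Sc p u := by
    intro s hs g hg
    obtain ⟨z, hz, hzu⟩ := hconj s hs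
    have := Sc_conj p s u hg
    rw [hzu, Sc_mul_central p u hz] at this
    exact this
  obtain ⟨hScp, hSccard⟩ := sc_struct h hp hpm hup hun
  obtain ⟨hcop, -, -, -, -, -⟩ := hc_struct h hp hpm hup hun
  have hPN : (P : Subgroup G) ≤ Subgroup.normalizer ((Sc p u : Subgroup G) : Set G) := by
    intro s hs
    rw [Subgroup.mem_normalizer_iff]
    intro g
    constructor
    · exact h3 s hs g
    · intro hg
      have := h3 s⁻¹ (Subgroup.inv_mem _ hs) _ hg
      have e : s⁻¹ * (s * g * s⁻¹) * s⁻¹⁻¹ = g := by group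
      rwa [e] at this
  have hScP : Sc p u ≤ (P : Subgroup G) := by
    have hsup : IsPGroup p ((P : Subgroup G) ⊔ Sc p u : Subgroup G) :=
      IsPGroup.to_sup_of_normal_right' P.isPGroup' hScp hPN
    have := P.is_maximal' hsup le_sup_left
    rw [← this]; exact le_sup_right
  have h4 : Sc p u = (P : Subgroup G) ⊓ Cz u := by
    apply le_antisymm
    · exact le_inf hScP (Sc_le p u)
    · intro x hx
      exact mem_Sc (mem_Cz.1 hx.2) (pelt_of_mem_sylow P hx.1)
  refine ⟨h1, h2, h3, h4, ?_⟩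
  -- the index computation
  have hpn : ¬ p ∣ n := by
    intro hpn
    have := Nat.dvd_gcd hpm hpn
    rw [h.cop] at this
    exact hp.one_lt.ne' (Nat.dvd_one.mp this)
  have hm0 : m ≠ 0 := by have := h.hm; omega
  have hn0 : n ≠ 0 := by have := h.hn; omega
  have hidxfac : (idx u).factorization p = m.factorization p := by
    rcases h.mem u with h0 | h0 | h0
    · exact absurd h0 hun
    · rw [h0]
    · rw [h0, Nat.factorization_mul hm0 hn0, Finsupp.add_apply,
        Nat.factorization_eq_zero_of_not_dvd hpn, add_zero]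
  obtain ⟨j, hj⟩ := IsPGroup.iff_card.mp hScp
  have hH0 : Nat.card (Hc p u) ≠ 0 := Nat.card_pos.ne'
  have hCfac : (Nat.card (Cz u)).factorization p = j := by
    rw [← hSccard, hj, Nat.factorization_mul (pow_ne_zero j hp.ne_zero) hH0, Finsupp.add_apply,
      Nat.Prime.factorization_pow hp, Finsupp.single_eq_same,
      Nat.factorization_eq_zero_of_not_dvd, add_zero]
    rw [← Nat.Prime.coprime_iff_not_dvd hp]
    exact hcop.symm
  have hGcard : Nat.card (Cz u) * idx u = Nat.card G := (Cz u).card_mul_index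
  have hidx0 : idx u ≠ 0 := Subgroup.index_ne_zero_of_finite
  have hGfac : (Nat.card G).factorization p = j + m.factorization p := by
    rw [← hGcard, Nat.factorization_mul Nat.card_pos.ne' hidx0, Finsupp.add_apply, hCfac, hidxfac]
  have hPcard : Nat.card (P : Subgroup G) = p ^ (j + m.factorization p) := by
    rw [P.card_eq_multiplicity, hGfac]
  have hrel : Nat.card ((P : Subgroup G) ⊓ Cz u : Subgroup G) *
      ((P : Subgroup G) ⊓ Cz u).relIndex (P : Subgroup G) = Nat.card (P : Subgroup G) :=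
    h4_card_mul_relIndex inf_le_left
  rw [Subgroup.inf_relIndex_left, ← h4, hj, hPcard, pow_add] at hrel
  exact Nat.eq_of_mul_eq_mul_left (pow_pos hp.pos j) hrel

end Cfsg.Agent.Lib.Helper1.TCS
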