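import Mathlib
import Cfsg.Agent.Lib.Helper3.TDMDefs

/-! Farm TDM (S2342), unit ORTH: the field side (trace and norm of the cubic extension,
orthogonality of additive characters). -/

set_option autoImplicit false
set_option linter.unusedSectionVars false
set_option linter.unusedVariables false

namespace Cfsg.Agent.Lib.Helper4.TDM

open Cfsg.Agent.Lib.Helper3.TDM

section field

variable {K : Type*} [Field K] [Fintype K] [DecidableEq K] (Fr : Frob3 K) [Fintype ↥(Fx Fr.φ)]

theorem tr3_add (x y : K) : Fr.tr3 (x + y) = Fr.tr3 x + Fr.tr3 y := by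
  apply Subtype.ext
  simp only [Frob3.tr3_coe, map_add, Subfield.coe_add]
  ring

theorem tr3_neg (x : K) : Fr.tr3 (-x) = -Fr.tr3 x := by
  apply Subtype.ext
  simp only [Frob3.tr3_coe, map_neg, Subfield.coe_neg]
  ring

theorem tr3_zero : Fr.tr3 0 = 0 := by
  apply Subtype.ext
  simp only [Frob3.tr3_coe, map_zero, Subfield.coe_zero]
  ring

theorem tr3_smul (r : ↥(Fx Fr.φ)) (x : K) : Fr.tr3 ((r : K) * x) = r * Fr.tr3 x := by
  apply Subtype.ext
  simp only [Frob3.tr3_coe, map_mul, Subfield.coe_mul, Fr.fix_coe r]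
  ring

theorem tr3_frob (x : K) : Fr.tr3 (Fr.φ x) = Fr.tr3 x := by
  apply Subtype.ext
  simp only [Frob3.tr3_coe, Fr.cube]
  ring

theorem nm3_mul (x y : K) : Fr.nm3 (x * y) = Fr.nm3 x * Fr.nm3 y := by
  apply Subtype.ext
  simp only [Frob3.nm3_coe, map_mul, Subfield.coe_mul]
  ring

theorem nm3_eq_zero (x : K) : Fr.nm3 x = 0 ↔ x = 0 := by
  constructor
  · intro h
    have h1 : ((Fr.nm3 x : ↥(Fx Fr.φ)) : K) = 0 := by rw [h]; rfl
    rw [Frob3.nm3_coe] at h1
    rcases mul_eq_zero.mp h1 with h2 | h2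
    · rcases mul_eq_zero.mp h2 with h3 | h3
      · exact h3
      · exact (map_eq_zero Fr.φ).mp h3
    · exact (map_eq_zero Fr.φ).mp ((map_eq_zero Fr.φ).mp h2)
  · intro h
    apply Subtype.ext
    simp only [Frob3.nm3_coe, h, map_zero, Subfield.coe_zero]
    ring

/-- the trace is not identically zero -/
theorem exists_tr3_ne_zero (hG : Fr.Good) : ∃ x : K, Fr.tr3 x ≠ 0 := by
  classical
  by_contra hcon
  push Not at hcon
  set q := Fintype.card ↥(Fx Fr.φ) with hq
  have hq2 : 2 ≤ q := by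
    have : 1 < Fintype.card ↥(Fx Fr.φ) := Fintype.one_lt_card
    omega
  let p : Polynomial K := Polynomial.X ^ (q ^ 2) + Polynomial.X ^ q + Polynomial.X
  have hev : ∀ x : K, p.eval (id x) = 0 := by
    intro x
    have h1 : ((Fr.tr3 x : ↥(Fx Fr.φ)) : K) = 0 := by rw [hcon x]; rfl
    rw [Frob3.tr3_coe, hG.pow, hG.pow] at h1
    simp only [p, id, Polynomial.eval_add, Polynomial.eval_pow, Polynomial.eval_X]
    rw [← hq, ← pow_mul, ← sq] at h1
    rw [← h1]
    ring
  have hdeg : p.natDegree < Fintype.card K := by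
    have h1 : p.natDegree ≤ q ^ 2 := by
      apply Polynomial.natDegree_add_le_of_degree_le
      · apply Polynomial.natDegree_add_le_of_degree_le
        · exact Polynomial.natDegree_X_pow_le _
        · refine le_trans (Polynomial.natDegree_X_pow_le _) ?_
          nlinarith
      · refine le_trans Polynomial.natDegree_X_le ?_
        nlinarith
    rw [hG.card_K, ← hq]
    have : q ^ 2 < q ^ 3 := by
      apply Nat.pow_lt_pow_right <;> omega
    omega
  have hp0 : p = 0 :=
    Polynomial.eq_zero_of_natDegree_lt_card_of_eval_eq_zero p Function.injective_id hev hdeg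
  have hc : p.coeff (q ^ 2) = 1 := by
    simp only [p, Polynomial.coeff_add, Polynomial.coeff_X_pow, Polynomial.coeff_X]
    have h1 : q ^ 2 ≠ q := by nlinarith
    have h2 : 1 ≠ q ^ 2 := by nlinarith
    simp [h1, h2]
  rw [hp0] at hc
  simp at hc

theorem tr3_surjective (hG : Fr.Good) : Function.Surjective Fr.tr3 := by
  obtain ⟨x0, hx0⟩ := exists_tr3_ne_zero Fr hG
  intro y
  refine ⟨((y * (Fr.tr3 x0)⁻¹ : ↥(Fx Fr.φ)) : K) * x0, ?_⟩
  rw [tr3_smul, mul_assoc, inv_mul_cancel₀ hx0, mul_one]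

theorem sum_psi (ψ : AddChar ↥(Fx Fr.φ) ℂ) (hψ : ψ ≠ 1) (a : ↥(Fx Fr.φ)) :
    ∑ r : ↥(Fx Fr.φ), ψ (a * r) = if a = 0 then (Fintype.card ↥(Fx Fr.φ) : ℂ) else 0 := by
  by_cases ha : a = 0
  · simp [ha]
  · rw [if_neg ha]
    have h1 : ∑ r : ↥(Fx Fr.φ), ψ (a * r) = ∑ r : ↥(Fx Fr.φ), ψ r :=
      Fintype.sum_equiv (Equiv.mulLeft₀ a ha) _ _ (fun r => rfl)
    rw [h1]
    exact AddChar.sum_eq_zero_of_ne_one hψ

theorem sum_psi_tr3 (hG : Fr.Good) (ψ : AddChar ↥(Fx Fr.φ) ℂ) (hψ : ψ ≠ 1) (v : K) :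
    ∑ n : K, ψ (Fr.tr3 (n * v)) = if v = 0 then (Fintype.card K : ℂ) else 0 := by
  by_cases hv : v = 0
  · simp [hv, tr3_zero]
  · rw [if_neg hv]
    have h1 : ∑ n : K, ψ (Fr.tr3 (n * v)) = ∑ n : K, ψ (Fr.tr3 n) :=
      Fintype.sum_equiv (Equiv.mulRight₀ v hv) _ _ (fun r => rfl)
    rw [h1]
    let T : K →+ ↥(Fx Fr.φ) :=
      { toFun := Fr.tr3
        map_zero' := tr3_zero Fr
        map_add' := tr3_add Fr }
    have hne : ψ.compAddMonoidHom T ≠ 1 := by
      intro h
      apply hψ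
      ext y
      obtain ⟨x, hx⟩ := tr3_surjective Fr hG y
      have := DFunLike.congr_fun h x
      simp only [AddChar.compAddMonoidHom_apply, AddChar.one_apply] at this
      rw [← hx]
      simpa [T] using this
    have := AddChar.sum_eq_zero_of_ne_one hne
    simpa [T] using this

end field

end Cfsg.Agent.Lib.Helper4.TDM
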