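import Mathlib
import Cfsg.Agent.Lib.Helper3.TDMDefs
import Cfsg.Agent.Lib.Helper3.TDMQL
import Cfsg.Agent.Lib.Helper4.TDMORTH

/-! Farm TDM (S2342), unit H1: Fourier sums on the abelian group `Z X_{α+2β} X_{α+3β}`. -/

set_option autoImplicit false
set_option linter.unusedSectionVars false
set_option linter.unusedVariables false

namespace Cfsg.Agent.Lib.Helper4.TDM

open Cfsg.Agent.Lib.Helper3.TDM

/-- a fixed permutation of six nested sums -/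
theorem reorder6 {ι₁ ι₂ ι₃ ι₄ ι₅ ι₆ : Type*} (s₁ : Finset ι₁) (s₂ : Finset ι₂) (s₃ : Finset ι₃)
    (s₄ : Finset ι₄) (s₅ : Finset ι₅) (s₆ : Finset ι₆)
    (X : ι₁ → ι₂ → ι₃ → ι₄ → ι₅ → ι₆ → ℂ) :
    ∑ a ∈ s₁, ∑ b ∈ s₂, ∑ c ∈ s₃, ∑ d ∈ s₄, ∑ e ∈ s₅, ∑ f ∈ s₆, X a b c d e f =
      ∑ a ∈ s₁, ∑ d ∈ s₄, ∑ b ∈ s₂, ∑ e ∈ s₅, ∑ c ∈ s₃, ∑ f ∈ s₆, X a b c d e f := by
  refine Finset.sum_congr rfl fun a _ => ?_
  calc ∑ b ∈ s₂, ∑ c ∈ s₃, ∑ d ∈ s₄, ∑ e ∈ s₅, ∑ f ∈ s₆, X a b c d e f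
      = ∑ b ∈ s₂, ∑ d ∈ s₄, ∑ c ∈ s₃, ∑ e ∈ s₅, ∑ f ∈ s₆, X a b c d e f :=
        Finset.sum_congr rfl fun b _ => Finset.sum_comm
    _ = ∑ d ∈ s₄, ∑ b ∈ s₂, ∑ c ∈ s₃, ∑ e ∈ s₅, ∑ f ∈ s₆, X a b c d e f := Finset.sum_comm
    _ = ∑ d ∈ s₄, ∑ b ∈ s₂, ∑ e ∈ s₅, ∑ c ∈ s₃, ∑ f ∈ s₆, X a b c d e f :=
        Finset.sum_congr rfl fun d _ => Finset.sum_congr rfl fun b _ => Finset.sum_comm

section main

variable {K : Type*} [Field K] [Fintype K] [DecidableEq K] {Fr : Frob3 K} [Fintype ↥(Fx Fr.φ)]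
  {G : Type*} [Group G] (D : Data Fr G) (hD : Rel D) (hG : Fr.Good)
  (ψ : AddChar ↥(Fx Fr.φ) ℂ) (hψ : ψ ≠ 1)

include hψ in
theorem sumA (r : ↥(Fx Fr.φ)) :
    ∑ l : ↥(Fx Fr.φ), ψ (-(l * r)) = if r = 0 then (Fintype.card ↥(Fx Fr.φ) : ℂ) else 0 := by
  have h := sum_psi Fr ψ hψ (-r)
  have h2 : ∑ l : ↥(Fx Fr.φ), ψ (-(l * r)) = ∑ l : ↥(Fx Fr.φ), ψ ((-r) * l) :=
    Finset.sum_congr rfl (fun l _ => by congr 1; ring)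
  rw [h2, h]
  simp only [neg_eq_zero]

include hG hψ in
theorem sumB (v : K) :
    ∑ n : K, ψ (-(Fr.tr3 (n * v))) = if v = 0 then (Fintype.card K : ℂ) else 0 := by
  have h := sum_psi_tr3 Fr hG ψ hψ (-v)
  have h2 : ∑ n : K, ψ (-(Fr.tr3 (n * v))) = ∑ n : K, ψ (Fr.tr3 (n * (-v))) :=
    Finset.sum_congr rfl (fun n _ => by rw [mul_neg, tr3_neg])
  rw [h2, h]
  simp only [neg_eq_zero]

include hG hψ in
theorem invK (g : K → ℂ) :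
    ∑ n : K, ∑ v : K, ψ (-(Fr.tr3 (n * v))) * g v = (Fintype.card K : ℂ) * g 0 := by
  rw [Finset.sum_comm]
  have h : ∀ v : K, ∑ n : K, ψ (-(Fr.tr3 (n * v))) * g v =
      (if v = 0 then (Fintype.card K : ℂ) else 0) * g v := by
    intro v
    rw [← Finset.sum_mul, sumB hG ψ hψ v]
  simp only [h, ite_mul, zero_mul, Finset.sum_ite_eq', Finset.mem_univ, if_true]

include hG hψ in
theorem sum_aM_gen (χ : G → ℂ) (Sl Sl' : Finset ↥(Fx Fr.φ)) :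
    ∑ l ∈ Sl, ∑ n : K, ∑ l' ∈ Sl', aM D ψ χ l n l' =
      ((Fintype.card ↥(Fx Fr.φ) : ℂ) * Fintype.card K * Fintype.card ↥(Fx Fr.φ))⁻¹ *
        ∑ r : ↥(Fx Fr.φ), (∑ l ∈ Sl, ψ (-(l * r))) * ((Fintype.card K : ℂ) *
          ∑ w : ↥(Fx Fr.φ), (∑ l' ∈ Sl', ψ (-(l' * w))) * χ (Phi D r 0 0 0 w)) := by
  simp only [aM, ← Finset.mul_sum]
  congr 1
  rw [reorder6]
  have h1 : ∀ (r : ↥(Fx Fr.φ)) (v : K),
      ∑ l' ∈ Sl', ∑ w : ↥(Fx Fr.φ), ψ (-(l' * w)) * χ (Phi D r 0 0 v w) =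
        ∑ w : ↥(Fx Fr.φ), (∑ l' ∈ Sl', ψ (-(l' * w))) * χ (Phi D r 0 0 v w) := by
    intro r v
    rw [Finset.sum_comm]
    simp only [Finset.sum_mul]
  calc ∑ l ∈ Sl, ∑ r : ↥(Fx Fr.φ), ∑ n : K, ∑ v : K, ∑ l' ∈ Sl', ∑ w : ↥(Fx Fr.φ),
        ψ (-(l * r)) * ψ (-(Fr.tr3 (n * v))) * ψ (-(l' * w)) * χ (Phi D r 0 0 v w)
      = ∑ l ∈ Sl, ∑ r : ↥(Fx Fr.φ), ψ (-(l * r)) * ∑ n : K, ∑ v : K, ψ (-(Fr.tr3 (n * v))) *
          ∑ l' ∈ Sl', ∑ w : ↥(Fx Fr.φ), ψ (-(l' * w)) * χ (Phi D r 0 0 v w) := by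
        simp only [Finset.mul_sum, mul_assoc]
    _ = ∑ l ∈ Sl, ∑ r : ↥(Fx Fr.φ), ψ (-(l * r)) * ((Fintype.card K : ℂ) *
          ∑ w : ↥(Fx Fr.φ), (∑ l' ∈ Sl', ψ (-(l' * w))) * χ (Phi D r 0 0 0 w)) := by
        refine Finset.sum_congr rfl fun l _ => Finset.sum_congr rfl fun r _ => ?_
        congr 1
        simp only [h1]
        exact invK hG ψ hψ (fun v => ∑ w : ↥(Fx Fr.φ), (∑ l' ∈ Sl', ψ (-(l' * w))) *
          χ (Phi D r 0 0 v w))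
    _ = ∑ r : ↥(Fx Fr.φ), (∑ l ∈ Sl, ψ (-(l * r))) * ((Fintype.card K : ℂ) *
          ∑ w : ↥(Fx Fr.φ), (∑ l' ∈ Sl', ψ (-(l' * w))) * χ (Phi D r 0 0 0 w)) := by
        rw [Finset.sum_comm]
        simp only [Finset.sum_mul]

theorem card_F_ne_zero : (Fintype.card ↥(Fx Fr.φ) : ℂ) ≠ 0 :=
  Nat.cast_ne_zero.mpr Fintype.card_ne_zero

theorem card_K_ne_zero : (Fintype.card K : ℂ) ≠ 0 :=
  Nat.cast_ne_zero.mpr Fintype.card_ne_zero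

theorem psi_zero_mul (r : ↥(Fx Fr.φ)) : ψ (-(0 * r)) = 1 := by
  rw [zero_mul, neg_zero, AddChar.map_zero_eq_one]

include hD hG hψ in
theorem sum_aM_all (χ : G → ℂ) :
    ∑ l : ↥(Fx Fr.φ), ∑ n : K, ∑ l' : ↥(Fx Fr.φ), aM D ψ χ l n l' = χ 1 := by
  rw [sum_aM_gen D hG ψ hψ χ Finset.univ Finset.univ]
  have hq := card_F_ne_zero (Fr := Fr)
  have hk := card_K_ne_zero (K := K)
  simp only [sumA ψ hψ, ite_mul, zero_mul, Finset.sum_ite_eq', Finset.mem_univ, if_true,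
    Phi_zero D hD]
  field_simp

include hD hG hψ in
theorem sum_aM_zero (χ : G → ℂ) :
    ∑ n : K, ∑ l' : ↥(Fx Fr.φ), aM D ψ χ 0 n l' = fZ D χ := by
  have h := sum_aM_gen D hG ψ hψ χ {0} Finset.univ
  rw [Finset.sum_singleton] at h
  rw [h]
  have hq := card_F_ne_zero (Fr := Fr)
  have hk := card_K_ne_zero (K := K)
  simp only [Finset.sum_singleton, psi_zero_mul, one_mul]
  simp only [sumA ψ hψ, ite_mul, zero_mul,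
    Finset.sum_ite_eq', Finset.mem_univ, if_true, Phi_z D hD, fZ, ← Finset.mul_sum]
  field_simp

include hD hG hψ in
theorem sum_aM_zero_zero (χ : G → ℂ) : ∑ n : K, aM D ψ χ 0 n 0 = a00 D χ := by
  have h := sum_aM_gen D hG ψ hψ χ {0} {0}
  simp only [Finset.sum_singleton] at h
  rw [h]
  have hq := card_F_ne_zero (Fr := Fr)
  have hk := card_K_ne_zero (K := K)
  simp only [psi_zero_mul, one_mul]
  simp only [a00, ← Finset.mul_sum]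
  field_simp

include hD hG hψ in
theorem sum_aM_right (χ : G → ℂ) :
    ∑ l : ↥(Fx Fr.φ), ∑ n : K, aM D ψ χ l n 0 =
      (Fintype.card ↥(Fx Fr.φ) : ℂ)⁻¹ * ∑ w : ↥(Fx Fr.φ), χ (D.xa3b w) := by
  have h := sum_aM_gen D hG ψ hψ χ Finset.univ {0}
  simp only [Finset.sum_singleton] at h
  rw [h]
  have hq := card_F_ne_zero (Fr := Fr)
  have hk := card_K_ne_zero (K := K)
  simp only [psi_zero_mul, one_mul]
  simp only [sumA ψ hψ, ite_mul, zero_mul, Finset.sum_ite_eq',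
    Finset.mem_univ, if_true, Phi_xa3b D hD]
  field_simp

end main

end Cfsg.Agent.Lib.Helper4.TDM
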