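import Cfsg.Agent.Lib.Helper4.ES2D
import Cfsg.Prelude.Def_Transfer
import Cfsg.Prelude.Def_CaseTheorems
import Cfsg.Agent.Lib.Helper1.FrattiniP

/-!
# Extraspecial 2-groups (part E): the classification for abstract groups
-/

set_option autoImplicit false
open scoped commutatorElement

namespace Cfsg.Agent.Lib.Helper4.ES2

theorem data_top {E : Type*} [Group E] [Finite E] (hE : Cfsg.IsExtraspecial 2 E) :
    ∃ z : E, Data (⊤ : Subgroup E) z ∧ ∃ a b : E, cm a b = z := by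
  obtain ⟨⟨h2, hfr, hcomm⟩, hcard⟩ := hE
  obtain ⟨z0, hz0, huniq⟩ := (Nat.card_eq_two_iff' (1 : Subgroup.center E)).mp hcard
  have hall : ∀ c : E, c ∈ Subgroup.center E → c = 1 ∨ c = (z0 : E) := by
    intro c hc
    by_cases h1 : (⟨c, hc⟩ : Subgroup.center E) = 1
    · left; exact congrArg Subtype.val h1
    · right; exact congrArg Subtype.val (huniq ⟨c, hc⟩ h1)
  have hz1 : (z0 : E) ≠ 1 := fun h => hz0 (Subtype.ext h)
  have hcm : ∀ a b : E, cm a b ∈ Subgroup.center E := by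
    intro a b
    have : cm a b = ⁅a, b⁆ := by simp [cm, commutatorElement_def]
    rw [this, ← hcomm, commutator_def]
    exact Subgroup.commutator_mem_commutator (Subgroup.mem_top _) (Subgroup.mem_top _)
  have hD : Data (⊤ : Subgroup E) (z0 : E) := by
    refine ⟨Subgroup.mem_top _, hz1, ?_, ?_, ?_, ?_, ?_⟩
    · rcases hall _ (Subgroup.mul_mem _ z0.2 z0.2) with h | h
      · exact h
      · exfalso
        apply hz1
        have : (z0 : E) * z0 = z0 * 1 := by rw [mul_one]; exact h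
        exact mul_left_cancel this
    · intro q _
      exact Subgroup.mem_center_iff.mp z0.2 q
    · intro c _ hc
      apply hall
      rw [Subgroup.mem_center_iff]
      intro q
      exact hc q (Subgroup.mem_top _)
    · intro a _ b _
      exact hall _ (hcm a b)
    · intro a _
      apply hall
      rw [← hfr, ← pow_two]
      exact Cfsg.Agent.Lib.Helper1.pow_prime_mem_frattini_of_isPGroup 2 h2 a
  refine ⟨z0, hD, ?_⟩
  by_contra hcon
  push Not at hcon
  have h1 : commutator E = ⊥ := by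
    rw [commutator_eq_closure, Subgroup.closure_eq_bot_iff]
    rintro g ⟨a, b, rfl⟩
    have : cm a b = ⁅a, b⁆ := by simp [cm, commutatorElement_def]
    rw [Set.mem_singleton_iff, ← this]
    rcases hD.comm_mem a (Subgroup.mem_top _) b (Subgroup.mem_top _) with h | h
    · exact h
    · exact absurd h (hcon a b)
  have h3 : (z0 : E) ∈ commutator E := by rw [hcomm]; exact z0.2
  rw [h1, Subgroup.mem_bot] at h3
  exact hz1 h3

theorem prank_iff {E : Type*} [Group E] (k : ℕ) :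
    Cfsg.PRankLE 2 k E ↔ RkLE k (⊤ : Subgroup E) := by
  constructor
  · intro h A _ hc hs
    exact h A ⟨⟨fun a b => Subtype.ext (hc a a.2 b b.2)⟩⟩ (fun a ha => by rw [pow_two]; exact hs a ha)
  · intro h A hA hs
    exact h A le_top (fun a ha b hb => congrArg Subtype.val (hA.is_comm.comm ⟨a, ha⟩ ⟨b, hb⟩))
      (fun a ha => by rw [← pow_two]; exact hs a ha)

theorem invCount_top {E : Type*} [Group E] :
    Nat.card {x : E // x ^ 2 = 1} = invCount (⊤ : Subgroup E) := by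
  unfold invCount
  rw [← Nat.card_coe_set_eq]
  apply Nat.card_congr
  apply Equiv.subtypeEquivRight
  intro x
  simp [pow_two]

theorem card_top {E : Type*} [Group E] : Nat.card (⊤ : Subgroup E) = Nat.card E :=
  Nat.card_congr Subgroup.topEquiv.toEquiv

/-- the classification, abstract form -/
theorem classify {E : Type*} [Group E] [Finite E] (hE : Cfsg.IsExtraspecial 2 E) :
    ∃ n : ℕ, 1 ≤ n ∧ Nat.card E = 2 ^ (2 * n + 1) ∧
      ((Nat.card {x : E // x ^ 2 = 1} = 2 ^ (2 * n) + 2 ^ n ∧ Cfsg.PRankLE 2 (n + 1) E ∧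
          ¬ Cfsg.PRankLE 2 n E) ∨
        (Nat.card {x : E // x ^ 2 = 1} = 2 ^ (2 * n) - 2 ^ n ∧ Cfsg.PRankLE 2 n E ∧
          ¬ Cfsg.PRankLE 2 (n - 1) E)) := by
  obtain ⟨z, hD, a, b, hab⟩ := data_top hE
  obtain ⟨n, hn⟩ := Data.card_eq _ _ z hD rfl
  have hn1 : 1 ≤ n := by
    by_contra h0
    have h0' : n = 0 := by omega
    subst h0'
    have hc : Nat.card (⊤ : Subgroup E) = 2 := by simpa using hn
    rcases hD.eq_of_card_two hc (Subgroup.mem_top a) with h1 | h1
    · rw [h1, cm_one_left] at hab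
      exact hD.z_ne hab.symm
    · rw [h1, hD.cm_z_left (Subgroup.mem_top b)] at hab
      exact hD.z_ne hab.symm
  refine ⟨n, hn1, by rw [← card_top, hn], ?_⟩
  simp only [prank_iff, invCount_top]
  rcases Data.structure_thm n _ z hD hn with ⟨h1, h2, h3⟩ | ⟨_, h1, h2, h3⟩
  · exact Or.inl ⟨h1, h2, h3⟩
  · exact Or.inr ⟨h1, h2, h3⟩

/-- isomorphism from equal order and equal number of involutions -/
theorem iso_of_count {E : Type*} [Group E] [Finite E] (hE : Cfsg.IsExtraspecial 2 E)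
    {E' : Type*} [Group E'] [Finite E'] (hE' : Cfsg.IsExtraspecial 2 E')
    (hcard : Nat.card E' = Nat.card E)
    (hcount : Nat.card {x : E' // x ^ 2 = 1} = Nat.card {x : E // x ^ 2 = 1}) :
    Nonempty (E ≃* E') := by
  obtain ⟨z, hD, -⟩ := data_top hE
  obtain ⟨z', hD', -⟩ := data_top hE'
  obtain ⟨n, hn⟩ := Data.card_eq _ _ z hD rfl
  have hn' : Nat.card (⊤ : Subgroup E') = 2 ^ (2 * n + 1) := by
    rw [card_top, hcard, ← card_top, hn]
  obtain ⟨φ, -⟩ := iso_thm n _ z _ z' hD hD' hn hn' (by rw [← invCount_top, ← invCount_top, hcount])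
  exact ⟨Subgroup.topEquiv.symm.trans (φ.trans Subgroup.topEquiv)⟩

theorem S3763 {E : Type*} [Group E] [Finite E] (hE : Cfsg.IsExtraspecial 2 E) (n : ℕ)
    (hn : Nat.card E = 2 ^ (2 * n + 1)) :
    ((Cfsg.PRankLE 2 n E ∧ ¬ Cfsg.PRankLE 2 (n - 1) E) ∨
      (Cfsg.PRankLE 2 (n + 1) E ∧ ¬ Cfsg.PRankLE 2 n E)) ∧
    ∀ (E' : Type*) [Group E'] [Finite E'], Cfsg.IsExtraspecial 2 E' → Nat.card E' = Nat.card E →
      (∀ k : ℕ, Cfsg.PRankLE 2 k E ↔ Cfsg.PRankLE 2 k E') → Nonempty (E ≃* E') := by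
  obtain ⟨m, hm1, hm, hcl⟩ := classify hE
  have hmn : m = n := by
    rw [hn] at hm
    have := Nat.pow_right_injective (le_refl 2) hm
    omega
  subst hmn
  refine ⟨?_, ?_⟩
  · rcases hcl with ⟨-, h2, h3⟩ | ⟨-, h2, h3⟩
    · exact Or.inr ⟨h2, h3⟩
    · exact Or.inl ⟨h2, h3⟩
  · intro E' _ _ hE' hcard hrk
    obtain ⟨m', hm1', hm', hcl'⟩ := classify hE'
    have hmn : m' = m := by
      rw [hcard, hn] at hm'
      have := Nat.pow_right_injective (le_refl 2) hm'
      omega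
    subst hmn
    apply iso_of_count hE hE' hcard
    rcases hcl with ⟨c1, h2, h3⟩ | ⟨c1, h2, h3⟩ <;> rcases hcl' with ⟨c1', h2', h3'⟩ | ⟨c1', h2', h3'⟩
    · rw [c1, c1']
    · exact absurd ((hrk _).mpr h2') h3
    · exact absurd ((hrk _).mp h2) h3'
    · rw [c1, c1']

theorem S4416 (E : Type*) [Group E] [Finite E] (hE : Cfsg.IsExtraspecial 2 E) :
    (∃ m : ℕ, 1 ≤ m ∧ Nat.card E = 2 ^ (2 * m + 1) ∧
      (Nat.card {x : E // x ^ 2 = 1} = 2 ^ (2 * m) + 2 ^ m ∨
        Nat.card {x : E // x ^ 2 = 1} = 2 ^ (2 * m) - 2 ^ m)) ∧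
    ∀ (E' : Type*) [Group E'] [Finite E'], Cfsg.IsExtraspecial 2 E' → Nat.card E' = Nat.card E →
      Nat.card {x : E' // x ^ 2 = 1} = Nat.card {x : E // x ^ 2 = 1} → Nonempty (E ≃* E') := by
  obtain ⟨m, hm1, hm, hcl⟩ := classify hE
  refine ⟨⟨m, hm1, hm, ?_⟩, ?_⟩
  · rcases hcl with ⟨c1, -, -⟩ | ⟨c1, -, -⟩
    · exact Or.inl c1
    · exact Or.inr c1
  · intro E' _ _ hE' hcard hcount
    exact iso_of_count hE hE' hcard hcount

end Cfsg.Agent.Lib.Helper4.ES2
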