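import Mathlib
import Cfsg.Prelude.Def_PLocal
import Cfsg.Agent.Lib.Helper2.BAUFrame
import Cfsg.Agent.Lib.Helper3.PU2769a

set_option autoImplicit false

/-! # S2769 / S2768 rider farm (owner helper2): units (N6), (LS), (CASE I) -/

namespace Cfsg.Agent.Lib.Helper4.BAU4

open Cfsg.Agent.Lib.Helper2.BAU

variable {G : Type*} [Group G] [Finite G]

/-- (N6) -/
theorem n6 (S Q : Subgroup G) (F : Frame S Q) (hJ : ¬ JJ S ≤ Q) : JJ S ⊔ Q = S := by
  obtain ⟨h, hhn, hirr⟩ := F.irr
  have hQn : Q.Normal := F.normal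
  have hhJ : h ∈ Subgroup.normalizer (JJ S : Set G) := by
    have := Cfsg.Agent.Lib.Helper3.PU2769.normalizer_le_normalizer_thompsonAOf S hhn
    rwa [thompsonAOf_eq] at this
  have hinv : ∀ b ∈ JJ S ⊔ Q, h * b * h⁻¹ ∈ JJ S ⊔ Q := by
    intro b hb
    have hle : (JJ S ⊔ Q).map (MulAut.conj h).toMonoidHom ≤ JJ S ⊔ Q := by
      rw [Subgroup.map_sup]
      apply sup_le_sup
      · rintro _ ⟨x, hx, rfl⟩
        exact (Subgroup.mem_normalizer_iff.mp hhJ x).mp hx
      · rintro _ ⟨x, hx, rfl⟩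
        exact hQn.conj_mem x hx h
    exact hle ⟨b, hb, rfl⟩
  rcases hirr _ le_sup_right (sup_le (JJ_le S) F.le) hinv with h1 | h1
  · exact absurd (h1 ▸ le_sup_left) hJ
  · exact h1

/-- (LS) -/
theorem LL_sup (S Q : Subgroup G) (F : Frame S Q) (hJ : ¬ JJ S ≤ Q) : LL S ⊔ S = ⊤ := by
  have hLn : (LL S).Normal := Subgroup.normalClosure_normal
  rcases F.dich (LL S) hLn with h | h
  · exact h
  · exfalso
    apply hJ
    have h1 : LL S ⊓ S ≤ Q := F.max _ h inf_le_right
    exact le_trans (le_inf (Subgroup.le_normalClosure) (JJ_le S)) h1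

/-- (CEN), local copy -/
theorem le_center_of_sup' (C S Z : Subgroup G) (h : C ⊔ S = ⊤)
    (hS : S ≤ Subgroup.centralizer (Z : Set G)) (hC : C ≤ Subgroup.centralizer (Z : Set G)) :
    Z ≤ Subgroup.center G := by
  have htop : (⊤ : Subgroup G) ≤ Subgroup.centralizer (Z : Set G) := h ▸ sup_le hC hS
  intro z hz
  rw [Subgroup.mem_center_iff]
  intro g
  exact (Subgroup.mem_centralizer_iff.mp (htop (Subgroup.mem_top g)) z hz).symm

/-- (CASE I) -/
theorem case_one (S Q : Subgroup G) (F : Frame S Q) (hJ : JJ S ≤ Q) :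
    (Jt S).Normal ∨ Zc S ≤ Subgroup.center G := by
  have hQn : Q.Normal := F.normal
  have hJn : (JJ S).Normal := by
    have h1 := (Cfsg.Agent.Lib.Helper1.PU2770J.thompsonA_normal_or S Q F.le).1
    rw [thompsonAOf_eq] at h1
    exact h1 hJ
  have := hJn
  have hZJn : (ZJ S).Normal := by
    unfold ZJ
    exact Subgroup.normal_inf_normal _ _
  have := hZJn
  have hCn : (Subgroup.centralizer (ZJ S : Set G)).Normal := inferInstance
  rcases F.dich _ hCn with h | h
  · right
    refine le_center_of_sup' (Subgroup.centralizer (ZJ S : Set G)) S (Zc S) h ?_ ?_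
    · intro s hs
      rw [Subgroup.mem_centralizer_iff]
      intro z hz
      exact (Subgroup.mem_centralizer_iff.mp hz.2 s hs).symm
    · exact Subgroup.centralizer_le (center_le_ZJ S)
  · left
    have e : Jt S = Subgroup.centralizer (ZJ S : Set G) ⊓ S := by
      unfold Jt; exact inf_comm _ _
    rw [e]; exact h

end Cfsg.Agent.Lib.Helper4.BAU4
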