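import Mathlib
import Cfsg.Agent.Lib.Helper4.PU2770L1
import Cfsg.Agent.Lib.Helper5.PU2770S

set_option autoImplicit false

/-! # S2770 farm (owner helper6), unit U-LIFT -/

namespace Cfsg.Agent.Lib.Helper4.PU2770L

open Cfsg.Agent.Lib.Helper6.PU

variable {G : Type*} [Group G] [Finite G] {p : ℕ} [Fact p.Prime]

/-- U-LIFT : an element of `N_G(S)` acting irreducibly on `S / O_p(G)`. -/
theorem lift_irred {n : ℕ} (S : Sylow p G) (M : Subgroup G) {P : Type*} [Group P] (φ : G →* P)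
    (hs : Setup p n S M φ) :
    ∃ h ∈ Subgroup.normalizer ((S : Subgroup G) : Set G), ∀ B : Subgroup G,
      Cfsg.pCore p G ≤ B → B ≤ (S : Subgroup G) → (∀ b ∈ B, h * b * h⁻¹ ∈ B) →
      B = Cfsg.pCore p G ∨ B = (S : Subgroup G) :=
  lift_irred_of S M φ hs (Cfsg.Agent.Lib.Helper5.PU2770S.struct S M φ hs).2.2.1

end Cfsg.Agent.Lib.Helper4.PU2770L
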