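import Mathlib
import Cfsg.Agent.Lib.Helper4.PU2770L
import Cfsg.Agent.Lib.Helper3.PU2769a
import Cfsg.Agent.Lib.Helper1.PCore

set_option autoImplicit false

/-! # S2769 / S2768 riders: units (N6) `J(S) O_p(G) = S` and (S2) `[Q, ⟨J̃^G⟩] ≤ J̃ ∩ Q` -/

namespace Cfsg.Agent.Lib.Helper4.PU2769S

open Cfsg.Agent.Lib.Helper6.PU
open scoped commutatorElement

section N6
variable {G : Type*} [Group G] [Finite G] {p : ℕ} [Fact p.Prime]

/-- (N6) if `J(S) ≰ O_p(G)` then `J(S) O_p(G) = S` -/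
theorem thompsonA_sup_pCore {n : ℕ} (S : Sylow p G) (M : Subgroup G) {P : Type*} [Group P]
    (φ : G →* P) (hs : Setup p n S M φ)
    (hJ : ¬ Cfsg.thompsonSubgroupAOf (S : Subgroup G) ≤ Cfsg.pCore p G) :
    Cfsg.thompsonSubgroupAOf (S : Subgroup G) ⊔ Cfsg.pCore p G = (S : Subgroup G) := by
  obtain ⟨h, hhn, hirr⟩ := Cfsg.Agent.Lib.Helper4.PU2770L.lift_irred S M φ hs
  have hQn : (Cfsg.pCore p G).Normal := Cfsg.Agent.Lib.Helper1.pCore_normal p
  have hQS : Cfsg.pCore p G ≤ (S : Subgroup G) := Cfsg.Agent.Lib.Helper1.pCore_le_sylow p S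
  have hJS : Cfsg.thompsonSubgroupAOf (S : Subgroup G) ≤ (S : Subgroup G) :=
    Cfsg.Agent.Lib.Helper3.PU2769.thompsonAOf_le _
  have hhJ : h ∈ Subgroup.normalizer (Cfsg.thompsonSubgroupAOf (S : Subgroup G) : Set G) :=
    Cfsg.Agent.Lib.Helper3.PU2769.normalizer_le_normalizer_thompsonAOf _ hhn
  have hinv : ∀ b ∈ Cfsg.thompsonSubgroupAOf (S : Subgroup G) ⊔ Cfsg.pCore p G,
      h * b * h⁻¹ ∈ Cfsg.thompsonSubgroupAOf (S : Subgroup G) ⊔ Cfsg.pCore p G := by
    intro b hb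
    have hle : (Cfsg.thompsonSubgroupAOf (S : Subgroup G) ⊔ Cfsg.pCore p G).map
        (MulAut.conj h).toMonoidHom ≤ Cfsg.thompsonSubgroupAOf (S : Subgroup G) ⊔ Cfsg.pCore p G := by
      rw [Subgroup.map_sup]
      apply sup_le_sup
      · rintro _ ⟨x, hx, rfl⟩
        exact (Subgroup.mem_normalizer_iff.mp hhJ x).mp hx
      · rintro _ ⟨x, hx, rfl⟩
        exact hQn.conj_mem x hx h
    exact hle ⟨b, hb, rfl⟩
  rcases hirr _ le_sup_right (sup_le hJS hQS) hinv with h1 | h1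
  · exact absurd (h1 ▸ le_sup_left) hJ
  · exact h1

end N6

section S2
variable {G : Type*} [Group G]

/-- (S2) `[Q, J̃] ≤ J̃ ∩ Q`, and the same for every conjugate, hence for the normal closure -/
theorem commutator_normalClosure_le (S Q Jt : Subgroup G) [Q.Normal] (hQS : Q ≤ S)
    (hJn : S ≤ Subgroup.normalizer (Jt : Set G)) (hQ0 : (Jt ⊓ Q).Normal) :
    ⁅Q, Subgroup.normalClosure (Jt : Set G)⁆ ≤ Jt ⊓ Q := by
  -- the elements `x` with `[q, x] ∈ Q0` for all `q ∈ Q` form a subgroup containing all conjugates of `J̃`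
  have key : ∀ x ∈ Subgroup.normalClosure (Jt : Set G), ∀ q ∈ Q, ⁅q, x⁆ ∈ Jt ⊓ Q := by
    intro x hx
    induction hx using Subgroup.closure_induction with
    | mem x hx =>
      obtain ⟨j, hj, hc⟩ := Group.mem_conjugatesOfSet_iff.mp hx
      obtain ⟨g, rfl⟩ := isConj_iff.mp hc
      intro q hq
      -- `[q, g j g⁻¹] = g [g⁻¹ q g, j] g⁻¹`
      have hq' : g⁻¹ * q * g ∈ Q := by
        have := (inferInstance : Q.Normal).conj_mem q hq g⁻¹
        simpa using this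
      have h1 : ⁅g⁻¹ * q * g, j⁆ ∈ Jt ⊓ Q := by
        refine Subgroup.mem_inf.mpr ⟨?_, ?_⟩
        · -- `q' j q'⁻¹ ∈ J̃` as `q' ∈ Q ≤ S` normalises `J̃`
          have hn := Subgroup.mem_normalizer_iff.mp (hJn (hQS hq')) j
          have h2 : (g⁻¹ * q * g) * j * (g⁻¹ * q * g)⁻¹ ∈ Jt := hn.mp hj
          have := Jt.mul_mem h2 (Jt.inv_mem hj)
          rwa [commutatorElement_def]
        · have h3 : j * (g⁻¹ * q * g)⁻¹ * j⁻¹ ∈ Q :=
            (inferInstance : Q.Normal).conj_mem _ (Q.inv_mem hq') j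
          have := Q.mul_mem hq' h3
          rw [commutatorElement_def]
          rwa [show g⁻¹ * q * g * (j * (g⁻¹ * q * g)⁻¹ * j⁻¹) =
            g⁻¹ * q * g * j * (g⁻¹ * q * g)⁻¹ * j⁻¹ by group] at this
      have h4 := hQ0.conj_mem _ h1 g
      have e : g * ⁅g⁻¹ * q * g, j⁆ * g⁻¹ = ⁅q, g * j * g⁻¹⁆ := by
        rw [commutatorElement_def, commutatorElement_def]; group
      rwa [← e]
    | one => intro q _; rw [commutatorElement_one_right]; exact Subgroup.one_mem _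
    | mul x y _ _ ihx ihy =>
      intro q hq
      have e : ⁅q, x * y⁆ = ⁅q, x⁆ * (x * ⁅q, y⁆ * x⁻¹) := by
        rw [commutatorElement_def, commutatorElement_def, commutatorElement_def]; group
      rw [e]
      exact Subgroup.mul_mem _ (ihx q hq) (hQ0.conj_mem _ (ihy q hq) x)
    | inv x _ ihx =>
      intro q hq
      have e : ⁅q, x⁻¹⁆ = x⁻¹ * (⁅q, x⁆)⁻¹ * x⁻¹⁻¹ := by
        rw [commutatorElement_def, commutatorElement_def]; group
      rw [e]
      exact hQ0.conj_mem _ (Subgroup.inv_mem _ (ihx q hq)) x⁻¹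
  rw [Subgroup.commutator_le]
  intro q hq x hx
  exact key x hx q hq

/-- (S2) for a conjugate of a subgroup of `J̃` -/
theorem commutator_conj_le (S Q Jt A : Subgroup G) [Q.Normal] (hQS : Q ≤ S)
    (hJn : S ≤ Subgroup.normalizer (Jt : Set G)) (hQ0 : (Jt ⊓ Q).Normal) (hA : A ≤ Jt) (g : G) :
    ⁅Q, A.map (MulAut.conj g).toMonoidHom⁆ ≤ Jt ⊓ Q := by
  refine le_trans (Subgroup.commutator_mono le_rfl ?_)
    (commutator_normalClosure_le S Q Jt hQS hJn hQ0)
  rintro _ ⟨a, ha, rfl⟩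
  exact (Subgroup.normalClosure_normal (s := (Jt : Set G))).conj_mem _
    (Subgroup.subset_normalClosure (hA ha)) g

end S2

end Cfsg.Agent.Lib.Helper4.PU2769S
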