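import Mathlib
import Cfsg.Agent.Lib.Helper4.SL2Sylow
import Cfsg.Agent.Lib.Helper4.SLCenter

set_option autoImplicit false

/-! # Sylow `p`-subgroups of `PSL₂(F)`, `F` finite of characteristic `p` (S2770, PSL2 facts) -/

namespace Cfsg.Agent.Lib.Helper4.PSL2Syl

open Matrix Cfsg.Agent.Lib.Helper4
open scoped MatrixGroups Pointwise

variable {F : Type*} [Field F]

/-- the quotient map `SL₂(F) → PSL₂(F)` -/
def mk : Matrix.SpecialLinearGroup (Fin 2) F →* Matrix.ProjectiveSpecialLinearGroup (Fin 2) F :=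
  QuotientGroup.mk' (Subgroup.center (Matrix.SpecialLinearGroup (Fin 2) F))

theorem mk_surjective : Function.Surjective (mk (F := F)) :=
  QuotientGroup.mk'_surjective _

theorem mk_eq_one_iff (g : Matrix.SpecialLinearGroup (Fin 2) F) :
    mk g = 1 ↔ g ∈ Subgroup.center (Matrix.SpecialLinearGroup (Fin 2) F) :=
  QuotientGroup.eq_one_iff g

theorem mk_eq_mk_iff (g h : Matrix.SpecialLinearGroup (Fin 2) F) :
    mk g = mk h ↔ g⁻¹ * h ∈ Subgroup.center (Matrix.SpecialLinearGroup (Fin 2) F) :=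
  QuotientGroup.eq

theorem center_entries {g : Matrix.SpecialLinearGroup (Fin 2) F}
    (hg : g ∈ Subgroup.center (Matrix.SpecialLinearGroup (Fin 2) F)) :
    (g : Matrix (Fin 2) (Fin 2) F) 0 1 = 0 ∧ (g : Matrix (Fin 2) (Fin 2) F) 1 0 = 0 ∧
      (g : Matrix (Fin 2) (Fin 2) F) 0 0 = (g : Matrix (Fin 2) (Fin 2) F) 1 1 ∧
      (g : Matrix (Fin 2) (Fin 2) F) 0 0 ≠ 0 := by
  obtain ⟨r, hr, hs⟩ := Matrix.SpecialLinearGroup.mem_center_iff.mp hg
  have hr0 : r ≠ 0 := by
    rintro rfl
    simp at hr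
  rw [← hs]
  simp [Matrix.scalar_apply, Matrix.diagonal_apply, hr0]

/-- the injective homomorphism `F → PSL₂(F)`, `b ↦ [[1,b],[0,1]]` -/
def uHom (F : Type*) [Field F] : Multiplicative F →* Matrix.ProjectiveSpecialLinearGroup (Fin 2) F :=
  mk.comp (unipHom F)

theorem uHom_apply (b : Multiplicative F) : uHom F b = mk (upperU (Multiplicative.toAdd b)) := rfl

theorem upperU_mem_center_iff (b : F) :
    upperU b ∈ Subgroup.center (Matrix.SpecialLinearGroup (Fin 2) F) ↔ b = 0 := by
  constructor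
  · intro h
    have := (center_entries h).1
    simpa [upperU_coe] using this
  · rintro rfl
    have : upperU (0 : F) = 1 := by
      rw [sl2_ext_iff]; simp [upperU_coe]
    rw [this]; exact Subgroup.one_mem _

theorem uHom_injective : Function.Injective (uHom F) := by
  rw [injective_iff_map_eq_one]
  intro b hb
  rw [uHom_apply, mk_eq_one_iff, upperU_mem_center_iff] at hb
  exact Multiplicative.toAdd.injective hb

/-- the (1,0)-entry of a conjugate of an upper unitriangular matrix -/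
theorem conj_upperU_entry (k : Matrix.SpecialLinearGroup (Fin 2) F) (c : F) :
    ((k * upperU c * k⁻¹ : Matrix.SpecialLinearGroup (Fin 2) F) : Matrix (Fin 2) (Fin 2) F) 1 0 =
      - c * ((k : Matrix (Fin 2) (Fin 2) F) 1 0) ^ 2 := by
  simp only [Matrix.SpecialLinearGroup.coe_mul, Matrix.SpecialLinearGroup.coe_inv,
    Matrix.adjugate_fin_two, upperU_coe, Matrix.mul_apply, Fin.sum_univ_two, Matrix.of_apply,
    Matrix.cons_val', Matrix.cons_val_zero, Matrix.cons_val_one, Matrix.cons_val_fin_one]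
  ring

/-- key computation: if `k₁₀ ≠ 0` and the conjugate of `ū(c)` by `k̄` is again upper unitriangular in `PSL₂`,
then `c = 0` -/
theorem eq_zero_of_conj_eq (k : Matrix.SpecialLinearGroup (Fin 2) F)
    (hk : (k : Matrix (Fin 2) (Fin 2) F) 1 0 ≠ 0) (b c : F)
    (h : mk (upperU b) = mk k * mk (upperU c) * (mk k)⁻¹) : c = 0 := by
  have h1 : mk (upperU b) = mk (k * upperU c * k⁻¹) := by
    rw [h, map_mul, map_mul, map_inv]
  rw [mk_eq_mk_iff] at h1
  obtain ⟨z01, z10, z00, zne⟩ := center_entries h1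
  set z := (upperU b)⁻¹ * (k * upperU c * k⁻¹) with hz
  have h2 : k * upperU c * k⁻¹ = upperU b * z := by
    rw [hz]; group
  have h3 := conj_upperU_entry k c
  rw [h2] at h3
  simp only [Matrix.SpecialLinearGroup.coe_mul, upperU_coe, Matrix.mul_apply, Fin.sum_univ_two,
    Matrix.of_apply, Matrix.cons_val', Matrix.cons_val_zero, Matrix.cons_val_one,
    Matrix.cons_val_fin_one] at h3
  rw [z10] at h3
  have h4 : c * ((k : Matrix (Fin 2) (Fin 2) F) 1 0) ^ 2 = 0 := by
    linear_combination h3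
  rcases mul_eq_zero.mp h4 with h5 | h5
  · exact h5
  · exact absurd (pow_eq_zero_iff two_ne_zero |>.mp h5) hk

end Cfsg.Agent.Lib.Helper4.PSL2Syl
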