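import Mathlib
import Cfsg.Agent.Lib.Helper4.PSL2Syl1

set_option autoImplicit false

/-! # Sylow `p`-subgroups of `PSL₂(F)`: order, commutativity, trivial intersections -/

namespace Cfsg.Agent.Lib.Helper4.PSL2Syl

open Matrix Cfsg.Agent.Lib.Helper4
open scoped MatrixGroups Pointwise

variable {F : Type*} [Field F] [Fintype F] (p : ℕ) [Fact p.Prime] [CharP F p]

/-- the standard Sylow `p`-subgroup of `PSL₂(F)`: the image of the upper unitriangular group -/
noncomputable def U0 : Sylow p (Matrix.ProjectiveSpecialLinearGroup (Fin 2) F) :=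
  (sylowUnipSL (F := F) p).mapSurjective mk_surjective

theorem coe_U0 : ((U0 (F := F) p : Sylow p _) : Subgroup (Matrix.ProjectiveSpecialLinearGroup (Fin 2) F)) =
    (uHom F).range := by
  rw [U0, Sylow.coe_mapSurjective]
  change (unipSL F).map mk = _
  rw [unipSL, MonoidHom.map_range]
  rfl

theorem mem_U0_iff (x : Matrix.ProjectiveSpecialLinearGroup (Fin 2) F) :
    x ∈ U0 (F := F) p ↔ ∃ b : F, x = mk (upperU b) := by
  change x ∈ ((U0 (F := F) p : Sylow p _) : Subgroup _) ↔ _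
  rw [coe_U0]
  constructor
  · rintro ⟨b, rfl⟩
    exact ⟨Multiplicative.toAdd b, rfl⟩
  · rintro ⟨b, rfl⟩
    exact ⟨Multiplicative.ofAdd b, rfl⟩

theorem card_U0 : Nat.card (U0 (F := F) p) = Fintype.card F := by
  have e : Multiplicative F ≃* (uHom F).range := MonoidHom.ofInjective uHom_injective
  have h1 : Nat.card (U0 (F := F) p) =
      Nat.card ((U0 (F := F) p : Sylow p _) : Subgroup (Matrix.ProjectiveSpecialLinearGroup (Fin 2) F)) := rfl
  rw [h1, coe_U0, ← Nat.card_congr e.toEquiv, Nat.card_eq_fintype_card]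
  exact Fintype.card_congr Multiplicative.toAdd

/-- (Pa) every Sylow `p`-subgroup of `PSL₂(F)` has order `|F|` -/
theorem card_sylow (U : Sylow p (Matrix.ProjectiveSpecialLinearGroup (Fin 2) F)) :
    Nat.card U = Fintype.card F := by
  rw [Sylow.card_eq_multiplicity U, ← Sylow.card_eq_multiplicity (U0 (F := F) p), card_U0]

/-- every Sylow `p`-subgroup is a conjugate of the standard one -/
theorem exists_conj (U : Sylow p (Matrix.ProjectiveSpecialLinearGroup (Fin 2) F)) :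
    ∃ g : Matrix.ProjectiveSpecialLinearGroup (Fin 2) F,
      ∀ x, x ∈ U ↔ g⁻¹ * x * g ∈ U0 (F := F) p := by
  obtain ⟨g, hg⟩ := MulAction.exists_smul_eq (Matrix.ProjectiveSpecialLinearGroup (Fin 2) F)
    (U0 (F := F) p) U
  refine ⟨g, fun x => ?_⟩
  rw [← hg]
  change x ∈ ((g • U0 (F := F) p : Sylow p _) : Subgroup _) ↔ _
  rw [Sylow.coe_subgroup_smul, Subgroup.mem_pointwise_smul_iff_inv_smul_mem,
    MulAut.smul_def, ← map_inv, MulAut.conj_apply, inv_inv]
  rfl

/-- (Pb) the Sylow `p`-subgroups of `PSL₂(F)` are abelian -/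
theorem sylow_comm (U : Sylow p (Matrix.ProjectiveSpecialLinearGroup (Fin 2) F))
    (x y : Matrix.ProjectiveSpecialLinearGroup (Fin 2) F) (hx : x ∈ U) (hy : y ∈ U) :
    x * y = y * x := by
  obtain ⟨g, hg⟩ := exists_conj p U
  obtain ⟨a, ha⟩ := (mem_U0_iff p _).mp ((hg x).mp hx)
  obtain ⟨b, hb⟩ := (mem_U0_iff p _).mp ((hg y).mp hy)
  have h1 : mk (upperU a) * mk (upperU b) = mk (upperU b) * mk (upperU a) := by
    rw [← map_mul, ← map_mul, ← upperU_add, ← upperU_add, add_comm]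
  rw [← ha, ← hb] at h1
  have h2 : g⁻¹ * (x * y) * g = g⁻¹ * (y * x) * g := by
    calc g⁻¹ * (x * y) * g = (g⁻¹ * x * g) * (g⁻¹ * y * g) := by group
      _ = (g⁻¹ * y * g) * (g⁻¹ * x * g) := h1
      _ = g⁻¹ * (y * x) * g := by group
  exact mul_left_cancel (mul_right_cancel h2)

theorem mk_mem_normalizer_U0 (k : Matrix.SpecialLinearGroup (Fin 2) F)
    (hz : (k : Matrix (Fin 2) (Fin 2) F) 1 0 = 0) :
    mk k ∈ Subgroup.normalizer
      (((U0 (F := F) p : Sylow p _) : Subgroup (Matrix.ProjectiveSpecialLinearGroup (Fin 2) F)) :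
        Set (Matrix.ProjectiveSpecialLinearGroup (Fin 2) F)) := by
  have h1 : k ∈ Subgroup.normalizer ((unipSL F : Subgroup _) : Set (Matrix.SpecialLinearGroup (Fin 2) F)) :=
    (Sylow.smul_eq_iff_mem_normalizer).mp (smul_sylowUnipSL_of_borel p k hz)
  have h2 := Subgroup.le_normalizer_map (H := unipSL F) (mk (F := F)) (Subgroup.mem_map_of_mem _ h1)
  have h3 : ((U0 (F := F) p : Sylow p _) : Subgroup (Matrix.ProjectiveSpecialLinearGroup (Fin 2) F)) =
      (unipSL F).map mk := by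
    rw [U0, Sylow.coe_mapSurjective]; rfl
  rw [h3]
  exact h2

/-- (Pc) distinct Sylow `p`-subgroups of `PSL₂(F)` meet trivially -/
theorem sylow_inf_eq_bot (U U' : Sylow p (Matrix.ProjectiveSpecialLinearGroup (Fin 2) F))
    (hne : U ≠ U') :
    (U : Subgroup (Matrix.ProjectiveSpecialLinearGroup (Fin 2) F)) ⊓ U' = ⊥ := by
  obtain ⟨g, hg⟩ := exists_conj p U
  obtain ⟨g', hg'⟩ := exists_conj p U'
  obtain ⟨k, hk⟩ := mk_surjective (F := F) (g⁻¹ * g')
  by_cases hz : (k : Matrix (Fin 2) (Fin 2) F) 1 0 = 0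
  · exfalso
    apply hne
    have hn := mk_mem_normalizer_U0 p k hz
    rw [hk] at hn
    refine Sylow.ext (Subgroup.ext fun x => ?_)
    change x ∈ U ↔ x ∈ U'
    rw [hg x, hg' x]
    have := (Subgroup.mem_normalizer_iff''.mp hn) (g⁻¹ * x * g)
    change g⁻¹ * x * g ∈ U0 (F := F) p ↔ _ at this
    rw [this]
    have e : (g⁻¹ * g')⁻¹ * (g⁻¹ * x * g) * (g⁻¹ * g') = g'⁻¹ * x * g' := by group
    rw [e]
    rfl
  · rw [eq_bot_iff]
    intro x hx
    obtain ⟨hx1, hx2⟩ := Subgroup.mem_inf.mp hx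
    obtain ⟨b, hb⟩ := (mem_U0_iff p _).mp ((hg x).mp hx1)
    obtain ⟨c, hc⟩ := (mem_U0_iff p _).mp ((hg' x).mp hx2)
    have h1 : mk (upperU b) = mk k * mk (upperU c) * (mk k)⁻¹ := by
      rw [← hb, ← hc, hk]; group
    have hc0 := eq_zero_of_conj_eq k hz b c h1
    rw [hc0] at hc
    have h2 : upperU (0 : F) = 1 := by
      rw [sl2_ext_iff]; simp [upperU_coe]
    rw [h2, map_one] at hc
    have h3 : x = 1 := by
      have : x = g' * (g'⁻¹ * x * g') * g'⁻¹ := by group
      rw [this, hc]; group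
    rw [Subgroup.mem_bot]
    exact h3

/-- (Pc') there are two different Sylow `p`-subgroups -/
theorem exists_two_sylow :
    ∃ U U' : Sylow p (Matrix.ProjectiveSpecialLinearGroup (Fin 2) F), U ≠ U' := by
  refine ⟨U0 (F := F) p, mk (lowerL (1 : F)) • U0 (F := F) p, fun h => ?_⟩
  have h1 : mk (lowerL (1 : F)) ∈ Subgroup.normalizer
      (((U0 (F := F) p : Sylow p _) : Subgroup (Matrix.ProjectiveSpecialLinearGroup (Fin 2) F)) :
        Set (Matrix.ProjectiveSpecialLinearGroup (Fin 2) F)) :=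
    (Sylow.smul_eq_iff_mem_normalizer).mp h.symm
  have h2 : mk (upperU (1 : F)) ∈ U0 (F := F) p := (mem_U0_iff p _).mpr ⟨1, rfl⟩
  have h3 := (Subgroup.mem_normalizer_iff.mp h1 _).mp h2
  obtain ⟨b, hb⟩ := (mem_U0_iff p _).mp h3
  have hk : ((lowerL (1 : F) : Matrix.SpecialLinearGroup (Fin 2) F) : Matrix (Fin 2) (Fin 2) F) 1 0 ≠ 0 := by
    simp [lowerL_coe]
  exact one_ne_zero (eq_zero_of_conj_eq (lowerL (1 : F)) hk b 1 hb.symm)

end Cfsg.Agent.Lib.Helper4.PSL2Syl
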