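import Mathlib
import Cfsg.Agent.Lib.Helper4.PSL2Syl2

set_option autoImplicit false

/-! # S2770 unit U-PSLa: Sylow `p`-subgroups of `PSL₂(F)`, `|F| = p^n` (and the `simple` field) -/

namespace Cfsg.Agent.Lib.Helper4.PSL2Syl

open Matrix Cfsg.Agent.Lib.Helper4

theorem charP_of_card {F : Type*} [Field F] [Fintype F] {p n : ℕ} [hp : Fact p.Prime] (hn : 1 ≤ n)
    (hF : Fintype.card F = p ^ n) : CharP F p := by
  obtain ⟨q, hq⟩ := CharP.exists F
  have hqp : q.Prime := CharP.char_is_prime F q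
  have hqf : Fact q.Prime := ⟨hqp⟩
  obtain ⟨m, -, hm⟩ := FiniteField.card F q
  have h1 : p ∣ q ^ (m : ℕ) := by
    rw [← hm, hF]
    exact dvd_pow_self p (by omega)
  have h2 : p ∣ q := hp.out.dvd_of_dvd_pow h1
  have h3 : p = q := (Nat.prime_dvd_prime_iff_eq hp.out hqp).mp h2
  rw [h3]
  exact hq

section psl
variable (F : Type) [Field F] [Fintype F] (p n : ℕ) [Fact p.Prime]

/-- U-PSLa : Sylow `p`-subgroups of `PSL₂(F)`, `|F| = p^n`: order, commutativity, two with trivial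
intersection. -/
theorem psl_sylow (hn : 1 ≤ n) (hF : Fintype.card F = p ^ n) :
    (∀ U : Sylow p (Matrix.ProjectiveSpecialLinearGroup (Fin 2) F),
      Nat.card (U : Subgroup (Matrix.ProjectiveSpecialLinearGroup (Fin 2) F)) = p ^ n) ∧
    (∀ U : Sylow p (Matrix.ProjectiveSpecialLinearGroup (Fin 2) F),
      ∀ a ∈ (U : Subgroup (Matrix.ProjectiveSpecialLinearGroup (Fin 2) F)),
      ∀ b ∈ (U : Subgroup (Matrix.ProjectiveSpecialLinearGroup (Fin 2) F)), a * b = b * a) ∧
    (∃ U U' : Sylow p (Matrix.ProjectiveSpecialLinearGroup (Fin 2) F),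
      (U : Subgroup (Matrix.ProjectiveSpecialLinearGroup (Fin 2) F)) ⊓
        (U' : Subgroup (Matrix.ProjectiveSpecialLinearGroup (Fin 2) F)) = ⊥) := by
  haveI : CharP F p := charP_of_card hn hF
  refine ⟨fun U => ?_, fun U a ha b hb => sylow_comm p U a b ha hb, ?_⟩
  · have := card_sylow p U
    rw [hF] at this
    exact this
  · obtain ⟨U, U', h⟩ := exists_two_sylow (F := F) p
    exact ⟨U, U', sylow_inf_eq_bot p U U' h⟩

/-- the `simple` field: `PSL₂(F)` is simple for `|F| = p^n`, `n ≥ 2` (Mathlib) -/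
theorem psl_simple (hn : 2 ≤ n) (hF : Fintype.card F = p ^ n) :
    IsSimpleGroup (Matrix.ProjectiveSpecialLinearGroup (Fin 2) F) := by
  apply Matrix.ProjectiveSpecialLinearGroup.rank_two_simple
  rw [Nat.card_eq_fintype_card, hF]
  have hp2 : 2 ≤ p := (Fact.out : p.Prime).two_le
  calc 4 = 2 ^ 2 := by norm_num
    _ ≤ p ^ 2 := Nat.pow_le_pow_left hp2 2
    _ ≤ p ^ n := Nat.pow_le_pow_right (by omega) hn

end psl

end Cfsg.Agent.Lib.Helper4.PSL2Syl
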