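import Cfsg.Agent.Lib.Helper4.ES2E

/-!
# Extraspecial 2-groups (part F): existence of both types in every admissible order
-/

set_option autoImplicit false
open scoped commutatorElement

namespace Cfsg.Agent.Lib.Helper4.ES2

open DihedralGroup

/-- converse of `data_top` -/
theorem extraspecial_of_data_top {E : Type*} [Group E] [Finite E] {z : E}
    (h : Data (⊤ : Subgroup E) z) (hna : ∃ a b : E, cm a b = z) : Cfsg.IsExtraspecial 2 E := by
  obtain ⟨a, b, hab⟩ := hna
  have hcmeq : ∀ x y : E, ⁅x, y⁆ = cm x y := by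
    intro x y; simp [cm, commutatorElement_def]
  have hzc : z ∈ Subgroup.center E := by
    rw [Subgroup.mem_center_iff]
    intro q
    exact h.z_comm q (Subgroup.mem_top _)
  have hcen : ∀ c : E, c ∈ Subgroup.center E ↔ (c = 1 ∨ c = z) := by
    intro c
    constructor
    · intro hc
      apply h.center_sub c (Subgroup.mem_top _)
      intro q _
      exact Subgroup.mem_center_iff.mp hc q
    · rintro (rfl | rfl)
      · exact Subgroup.one_mem _
      · exact hzc
  have h2 : IsPGroup 2 E := by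
    intro g
    refine ⟨2, ?_⟩
    exact h.pow_four (Subgroup.mem_top g)
  have hcomm : commutator E = Subgroup.center E := by
    apply le_antisymm
    · rw [commutator_eq_closure, Subgroup.closure_le]
      rintro g ⟨x, y, rfl⟩
      rw [SetLike.mem_coe, hcen, hcmeq]
      exact h.comm_mem x (Subgroup.mem_top _) y (Subgroup.mem_top _)
    · intro c hc
      rcases (hcen c).mp hc with rfl | rfl
      · exact Subgroup.one_mem _
      · rw [← hab, ← hcmeq, commutator_def]
        exact Subgroup.commutator_mem_commutator (Subgroup.mem_top _) (Subgroup.mem_top _)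
  have hfr : frattini E = Subgroup.center E := by
    apply le_antisymm
    · apply Cfsg.Agent.Lib.Helper1.frattini_le_of_elementary_quotient 2
      · rw [hcomm]
      · intro x
        rw [hcen, pow_two]
        exact h.sq_mem x (Subgroup.mem_top _)
    · rw [← hcomm]
      exact Cfsg.Agent.Lib.Helper1.commutator_le_frattini_of_isPGroup 2 h2
  refine ⟨⟨h2, hfr, hcomm⟩, ?_⟩
  rw [Nat.card_eq_two_iff]
  refine ⟨⟨1, Subgroup.one_mem _⟩, ⟨z, hzc⟩, ?_, ?_⟩
  · intro h3
    exact h.z_ne (congrArg Subtype.val h3).symm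
  · ext c
    simp only [Set.mem_insert_iff, Set.mem_singleton_iff, Set.mem_univ, iff_true]
    rcases (hcen c.1).mp c.2 with h3 | h3
    · left; exact Subtype.ext h3
    · right; exact Subtype.ext h3

/-- rank is transported along an injective homomorphism onto its range -/
theorem rk_range {C T : Type*} [Group C] [Group T] (ι : C →* T) (hι : Function.Injective ι) (k : ℕ) :
    RkLE k ι.range ↔ RkLE k (⊤ : Subgroup C) := by
  constructor
  · intro h A _ hc hs
    have h1 := h (A.map ι) (Subgroup.map_le_range ι A) (by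
      rintro _ ⟨a, ha, rfl⟩ _ ⟨b, hb, rfl⟩
      rw [← map_mul, ← map_mul, hc a ha b hb]) (by
      rintro _ ⟨a, ha, rfl⟩
      rw [← map_mul, hs a ha, map_one])
    rwa [Subgroup.card_map_of_injective hι] at h1
  · intro h A hA hc hs
    have h1 := h (A.comap ι) le_top (by
      intro a ha b hb
      apply hι
      rw [map_mul, map_mul]
      exact hc _ ha _ hb) (by
      intro a ha
      apply hι
      rw [map_mul, map_one]
      exact hs _ ha)
    have h2 : (A.comap ι).map ι = A := Subgroup.map_comap_eq_self hA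
    rw [← h2, Subgroup.card_map_of_injective hι]
    exact h1

theorem mem_zpowers_inv {H : Type*} [Group H] {g x : H} (hg : g * g = 1) :
    x ∈ Subgroup.zpowers g ↔ x = 1 ∨ x = g := by
  constructor
  · rintro ⟨k, rfl⟩
    rcases Int.even_or_odd' k with ⟨j, rfl | rfl⟩
    · left
      show g ^ (2 * j) = 1
      rw [zpow_mul, zpow_two, hg, one_zpow]
    · right
      show g ^ (2 * j + 1) = g
      rw [zpow_add, zpow_mul, zpow_two, hg, one_zpow, one_mul, zpow_one]
  · rintro (h | h) <;> rw [h]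
    · exact Subgroup.one_mem _
    · exact Subgroup.mem_zpowers g

abbrev D8 := DihedralGroup 4

theorem d1 : ∀ d d' : D8, cm d d' = 1 ∨ cm d d' = r 2 := by unfold cm; decide
theorem d2 : ∀ d : D8, d * d = 1 ∨ d * d = r 2 := by decide
theorem d3 : ∀ d : D8, (∀ d' : D8, cm d' d = 1) → d = 1 ∨ d = r 2 := by unfold cm; decide
theorem d4 : ∀ d : D8, d * r 2 = r 2 * d := by decide
theorem d5 : (sr 0 : D8) * sr 0 = 1 ∧ (sr 1 : D8) * sr 1 = 1 ∧ cm (sr 0 : D8) (sr 1) = r 2 := by
  unfold cm; decide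
theorem d6 : ∀ d : D8, cm d (sr 0) = 1 → cm d (sr 1) = 1 → d = 1 ∨ d = r 2 := by unfold cm; decide
theorem d7 : (r 2 : D8) ≠ 1 ∧ (r 2 : D8) * r 2 = 1 := by decide

/-- the central product with a dihedral group of order eight -/
theorem step (C : Type) [Group C] [Finite C] (zC : C) (hD : Data (⊤ : Subgroup C) zC) :
    ∃ (T : Type) (_ : Group T) (_ : Finite T) (zT : T), Data (⊤ : Subgroup T) zT ∧
      (∃ a b : T, cm a b = zT) ∧ Nat.card T = 4 * Nat.card C ∧
      ∀ k, RkLE (k + 1) (⊤ : Subgroup T) ↔ RkLE k (⊤ : Subgroup C) := by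
  have hzC1 : zC ≠ 1 := hD.z_ne
  obtain ⟨g, hg⟩ : ∃ g : D8 × C, g = (r 2, zC) := ⟨_, rfl⟩
  have hgg : g * g = 1 := by rw [hg]; exact Prod.ext d7.2 hD.z_sq
  have hgc : ∀ x : D8 × C, x * g = g * x := fun x => by
    rw [hg]; exact Prod.ext (d4 x.1) (hD.z_comm x.2 (Subgroup.mem_top _))
  have hK : ∀ x, x ∈ Subgroup.zpowers g ↔ x = 1 ∨ x = g := fun x => mem_zpowers_inv hgg
  haveI hN : (Subgroup.zpowers g).Normal := ⟨fun n hn x => by
    rcases (hK n).mp hn with rfl | rfl
    · rw [mul_one, mul_inv_cancel]; exact Subgroup.one_mem _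
    · rw [hgc x, mul_inv_cancel_right]; exact hn⟩
  obtain ⟨π, hπdef⟩ : ∃ π : D8 × C →* (D8 × C) ⧸ Subgroup.zpowers g,
      π = QuotientGroup.mk' (Subgroup.zpowers g) := ⟨_, rfl⟩
  have hπ1 : ∀ x, π x = 1 ↔ x = 1 ∨ x = g := fun x => by
    rw [hπdef, QuotientGroup.mk'_apply, QuotientGroup.eq_one_iff, hK]
  have hπs : Function.Surjective π := by rw [hπdef]; exact QuotientGroup.mk'_surjective _
  have hπg : π g = 1 := (hπ1 g).mpr (Or.inr rfl)
  have hπ1' : ∀ d : D8, π (d, 1) = 1 → d = 1 := by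
    intro d h1
    rcases (hπ1 _).mp h1 with h2 | h2
    · exact congrArg Prod.fst h2
    · rw [hg] at h2
      exact absurd (congrArg Prod.snd h2).symm hzC1
  have hπ1'' : ∀ c : C, π (1, c) = 1 → c = 1 := by
    intro c h1
    rcases (hπ1 _).mp h1 with h2 | h2
    · exact congrArg Prod.snd h2
    · rw [hg] at h2
      exact absurd (congrArg Prod.fst h2).symm d7.1
  obtain ⟨zT, hzT⟩ : ∃ zT, zT = π (1, zC) := ⟨_, rfl⟩
  have hzT' : π (r 2, 1) = zT := by
    have : ((r 2, 1) : D8 × C) = g * (1, zC) := by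
      rw [hg]
      exact Prod.ext (mul_one _).symm hD.z_sq.symm
    rw [this, map_mul, hπg, one_mul, hzT]
  have hcmπ : ∀ x y : D8 × C, cm (π x) (π y) = π (cm x.1 y.1, cm x.2 y.2) := by
    intro x y
    show π x * π y * (π x)⁻¹ * (π y)⁻¹ = _
    rw [← map_inv, ← map_inv, ← map_mul, ← map_mul, ← map_mul]
    rfl
  have hval : ∀ (d : D8) (c : C), (d = 1 ∨ d = r 2) → (c = 1 ∨ c = zC) →
      π (d, c) = 1 ∨ π (d, c) = zT := by
    rintro d c (rfl | rfl) (rfl | rfl)
    · left; exact map_one π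
    · right; exact hzT.symm
    · right; exact hzT'
    · left; rw [← hg]; exact hπg
  have hzTne : zT ≠ 1 := by
    rw [hzT]
    intro h1
    exact hzC1 (hπ1'' _ h1)
  have hDT : Data (⊤ : Subgroup ((D8 × C) ⧸ Subgroup.zpowers g)) zT := by
    refine ⟨Subgroup.mem_top _, hzTne, ?_, ?_, ?_, ?_, ?_⟩
    · rw [hzT, ← map_mul]
      have : ((1, zC) : D8 × C) * (1, zC) = 1 := Prod.ext (one_mul 1) hD.z_sq
      rw [this, map_one]
    · intro q _
      obtain ⟨x, rfl⟩ := hπs q
      rw [hzT, ← map_mul, ← map_mul]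
      congr 1
      exact Prod.ext (by simp) (hD.z_comm x.2 (Subgroup.mem_top _))
    · intro c _ hcc
      obtain ⟨⟨d, c0⟩, rfl⟩ := hπs c
      have hd : d = 1 ∨ d = r 2 := by
        apply d3
        intro d'
        have h1 := hcc (π (d', 1)) (Subgroup.mem_top _)
        rw [← cm_eq_one_iff, hcmπ] at h1
        simp only [cm_one_left] at h1
        exact hπ1' _ h1
      have hc0 : c0 = 1 ∨ c0 = zC := by
        apply hD.center_sub c0 (Subgroup.mem_top _)
        intro c' _
        have h1 := hcc (π (1, c')) (Subgroup.mem_top _)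
        rw [← cm_eq_one_iff, hcmπ] at h1
        simp only [cm_one_left] at h1
        exact cm_eq_one_iff.mp (hπ1'' _ h1)
      exact hval d c0 hd hc0
    · intro a _ b _
      obtain ⟨x, rfl⟩ := hπs a
      obtain ⟨y, rfl⟩ := hπs b
      rw [hcmπ]
      exact hval _ _ (d1 _ _) (hD.comm_mem _ (Subgroup.mem_top _) _ (Subgroup.mem_top _))
    · intro a _
      obtain ⟨x, rfl⟩ := hπs a
      rw [← map_mul]
      exact hval _ _ (d2 _) (hD.sq_mem _ (Subgroup.mem_top _))
  -- the dihedral pair
  obtain ⟨u, hu⟩ : ∃ u, u = π (sr 0, 1) := ⟨_, rfl⟩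
  obtain ⟨v, hv⟩ : ∃ v, v = π (sr 1, 1) := ⟨_, rfl⟩
  have huu : u * u = 1 := by
    rw [hu, ← map_mul]
    have : ((sr 0, 1) : D8 × C) * (sr 0, 1) = 1 := Prod.ext d5.1 (one_mul 1)
    rw [this, map_one]
  have hvv : v * v = 1 := by
    rw [hv, ← map_mul]
    have : ((sr 1, 1) : D8 × C) * (sr 1, 1) = 1 := Prod.ext d5.2.1 (one_mul 1)
    rw [this, map_one]
  have huv : cm u v = zT := by
    rw [hu, hv, hcmπ]
    show π (cm (sr 0) (sr 1), cm 1 1) = zT
    rw [d5.2.2, cm_one_left]
    exact hzT'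
  -- the centralizer of the pair is a copy of `C`
  obtain ⟨ι, hι⟩ : ∃ ι : C →* (D8 × C) ⧸ Subgroup.zpowers g, ι = π.comp (MonoidHom.inr D8 C) :=
    ⟨_, rfl⟩
  have hιa : ∀ c, ι c = π (1, c) := fun c => by rw [hι]; rfl
  have hιinj : Function.Injective ι := by
    rw [injective_iff_map_eq_one]
    intro c hc
    rw [hιa] at hc
    exact hπ1'' c hc
  have hrange : ι.range = cent2 ⊤ u v := by
    ext q
    rw [mem_cent2]
    constructor
    · rintro ⟨c, rfl⟩
      refine ⟨Subgroup.mem_top _, ?_, ?_⟩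
      · rw [hιa, hu, ← map_mul, ← map_mul]
        congr 1
        exact Prod.ext (by simp) (by simp)
      · rw [hιa, hv, ← map_mul, ← map_mul]
        congr 1
        exact Prod.ext (by simp) (by simp)
    · rintro ⟨-, h1, h2⟩
      obtain ⟨⟨d, c⟩, rfl⟩ := hπs q
      rw [← cm_eq_one_iff, hu, hcmπ] at h1
      rw [← cm_eq_one_iff, hv, hcmπ] at h2
      simp only [cm_one_right] at h1 h2
      rcases d6 d (hπ1' _ h1) (hπ1' _ h2) with rfl | rfl
      · exact ⟨c, hιa c⟩
      · refine ⟨zC * c, ?_⟩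
        rw [hιa]
        have : ((r 2, c) : D8 × C) = g * (1, zC * c) := by
          rw [hg]
          refine Prod.ext (mul_one _).symm ?_
          show c = zC * (zC * c)
          rw [← mul_assoc, hD.z_sq, one_mul]
        rw [this, map_mul, hπg, one_mul]
  refine ⟨(D8 × C) ⧸ Subgroup.zpowers g, inferInstance, inferInstance, zT, hDT,
    ⟨u, v, huv⟩, ?_, ?_⟩
  · have h1 := Subgroup.card_eq_card_quotient_mul_card_subgroup (Subgroup.zpowers g)
    have h2 : Nat.card (Subgroup.zpowers g) = 2 := by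
      rw [Nat.card_zpowers]
      apply orderOf_eq_prime
      · rw [pow_two]; exact hgg
      · rw [hg]
        intro h3
        exact d7.1 (congrArg Prod.fst h3)
    rw [h2, Nat.card_prod, DihedralGroup.nat_card] at h1
    omega
  · intro k
    rw [← hDT.rk_iff (Subgroup.mem_top u) (Subgroup.mem_top v) huu huv k, ← hrange]
    exact rk_range ι hιinj k

end Cfsg.Agent.Lib.Helper4.ES2
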