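import Mathlib

/-!
# Extraspecial 2-groups, elementwise data inside an ambient group (part A)

`Data Q z`: `Q` is a subgroup of `G`, all commutators and squares of `Q` lie in `{1, z}`, `z` is a central
involution of `Q` and the centre of `Q` is `{1, z}`.  (This also covers the group of order `2`.)
Basic calculus of commutators, the index of centralizers and the splitting off of a pair `u, v` with
`[u, v] = z`.
-/

set_option autoImplicit false

namespace Cfsg.Agent.Lib.Helper4.ES2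

variable {G : Type*} [Group G]

/-- the commutator `a b a⁻¹ b⁻¹` -/
def cm (a b : G) : G := a * b * a⁻¹ * b⁻¹

theorem mul_eq_cm (a b : G) : a * b = cm a b * b * a := by unfold cm; group

theorem cm_inv (a b : G) : (cm a b)⁻¹ = cm b a := by unfold cm; group

theorem cm_self (a : G) : cm a a = 1 := by unfold cm; group

theorem cm_one_left (a : G) : cm 1 a = 1 := by unfold cm; group

theorem cm_one_right (a : G) : cm a 1 = 1 := by unfold cm; group

theorem cm_eq_one_iff {a b : G} : cm a b = 1 ↔ a * b = b * a := by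
  constructor
  · intro h
    rw [mul_eq_cm a b, h, one_mul]
  · intro h
    unfold cm
    rw [h]; group

theorem cm_mul_left_gen (a b c : G) : cm (a * b) c = a * cm b c * a⁻¹ * cm a c := by
  unfold cm; group

theorem cm_mul_right_gen (a b c : G) : cm a (b * c) = cm a b * b * cm a c * b⁻¹ := by
  unfold cm; group

/-- elementwise data of an extraspecial 2-group (or the group of order two) `Q ≤ G` with centre `{1, z}` -/
structure Data (Q : Subgroup G) (z : G) : Prop where
  zQ : z ∈ Q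
  z_ne : z ≠ 1
  z_sq : z * z = 1
  z_comm : ∀ q ∈ Q, q * z = z * q
  center_sub : ∀ c ∈ Q, (∀ q ∈ Q, q * c = c * q) → c = 1 ∨ c = z
  comm_mem : ∀ a ∈ Q, ∀ b ∈ Q, cm a b = 1 ∨ cm a b = z
  sq_mem : ∀ a ∈ Q, a * a = 1 ∨ a * a = z

namespace Data

variable {Q : Subgroup G} {z : G}

theorem z_inv (h : Data Q z) : z⁻¹ = z := inv_eq_of_mul_eq_one_right h.z_sq

theorem cm_mem (h : Data Q z) {a b : G} (ha : a ∈ Q) (hb : b ∈ Q) : cm a b ∈ Q := by
  rcases h.comm_mem a ha b hb with h1 | h1 <;> rw [h1]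
  · exact Q.one_mem
  · exact h.zQ

theorem cm_central (h : Data Q z) {a b q : G} (ha : a ∈ Q) (hb : b ∈ Q) (hq : q ∈ Q) :
    q * cm a b = cm a b * q := by
  rcases h.comm_mem a ha b hb with h1 | h1 <;> rw [h1]
  · rw [mul_one, one_mul]
  · exact h.z_comm q hq

theorem cm_symm (h : Data Q z) {a b : G} (ha : a ∈ Q) (hb : b ∈ Q) : cm a b = cm b a := by
  rw [← cm_inv b a]
  rcases h.comm_mem b hb a ha with h1 | h1 <;> rw [h1]
  · rw [inv_one]
  · rw [h.z_inv]

theorem cm_mul_left (h : Data Q z) {a b c : G} (ha : a ∈ Q) (hb : b ∈ Q) (hc : c ∈ Q) :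
    cm (a * b) c = cm a c * cm b c := by
  rw [cm_mul_left_gen, h.cm_central hb hc ha, mul_inv_cancel_right,
    h.cm_central ha hc (h.cm_mem hb hc)]

theorem cm_mul_right (h : Data Q z) {a b c : G} (ha : a ∈ Q) (hb : b ∈ Q) (hc : c ∈ Q) :
    cm a (b * c) = cm a b * cm a c := by
  rw [cm_mul_right_gen, mul_assoc (cm a b), h.cm_central ha hc hb, mul_assoc, mul_assoc,
    mul_inv_cancel, mul_one]

theorem cm_z_right (h : Data Q z) {a : G} (ha : a ∈ Q) : cm a z = 1 :=
  cm_eq_one_iff.mpr (h.z_comm a ha)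

theorem cm_z_left (h : Data Q z) {a : G} (ha : a ∈ Q) : cm z a = 1 :=
  cm_eq_one_iff.mpr (h.z_comm a ha).symm

theorem cm_eq_z_iff (h : Data Q z) {a b : G} (ha : a ∈ Q) (hb : b ∈ Q) :
    cm a b = z ↔ a * b ≠ b * a := by
  rw [Ne, ← cm_eq_one_iff]
  constructor
  · intro h1 h2
    exact h.z_ne (h1 ▸ h2)
  · intro h1
    rcases h.comm_mem a ha b hb with h2 | h2
    · exact absurd h2 h1
    · exact h2

theorem cm_inv_left (h : Data Q z) {a b : G} (ha : a ∈ Q) (hb : b ∈ Q) : cm a⁻¹ b = cm a b := by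
  have h1 : cm (a⁻¹ * a) b = cm a⁻¹ b * cm a b := h.cm_mul_left (Q.inv_mem ha) ha hb
  rw [inv_mul_cancel, cm_one_left] at h1
  rcases h.comm_mem a ha b hb with h2 | h2
  · rw [h2, mul_one] at h1
    rw [h2, ← h1]
  · rw [h2] at h1
    rw [h2]
    have h3 : cm a⁻¹ b = z⁻¹ := eq_inv_of_mul_eq_one_left h1.symm
    rw [h3, h.z_inv]

/-- `(a b)² = [a, b] a² b²` -/
theorem sq_mul (h : Data Q z) {a b : G} (ha : a ∈ Q) (hb : b ∈ Q) :
    (a * b) * (a * b) = cm a b * (a * a) * (b * b) := by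
  have h1 : b * a = cm b a * a * b := mul_eq_cm b a
  have h2 : a * cm b a = cm b a * a := h.cm_central hb ha ha
  calc (a * b) * (a * b) = a * (b * a) * b := by group
    _ = a * (cm b a * a * b) * b := by rw [← h1]
    _ = (a * cm b a) * a * b * b := by group
    _ = cm b a * a * a * b * b := by rw [h2]
    _ = cm a b * (a * a) * (b * b) := by rw [h.cm_symm hb ha]; group

theorem pow_four (h : Data Q z) {a : G} (ha : a ∈ Q) : a ^ 4 = 1 := by
  have h1 : a ^ 4 = (a * a) * (a * a) := by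
    rw [show (4 : ℕ) = 2 + 2 from rfl, pow_add, pow_two]
  rw [h1]
  rcases h.sq_mem a ha with h2 | h2 <;> rw [h2]
  · rw [mul_one]
  · exact h.z_sq

theorem isPGroup (h : Data Q z) : IsPGroup 2 Q := by
  intro q
  refine ⟨2, ?_⟩
  apply Subtype.ext
  rw [Subgroup.coe_pow, Subgroup.coe_one]
  exact h.pow_four q.2

/-- a subgroup `M ≤ Q` not centralizing `x ∈ Q` has its centralizer of `x` of index two -/
theorem card_centralizer (h : Data Q z) {M : Subgroup G} (hM : M ≤ Q) {x m₀ : G} (hx : x ∈ Q)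
    (hm₀ : m₀ ∈ M) (hc : cm m₀ x = z) :
    Nat.card M = 2 * Nat.card ↥(M ⊓ Subgroup.centralizer {x}) := by
  have h2 : (M ⊓ Subgroup.centralizer {x}).relIndex M = 2 := by
    rw [Subgroup.relIndex_eq_two_iff]
    refine ⟨m₀, hm₀, fun b hb => ?_⟩
    have e1 : b * m₀ ∈ M ⊓ Subgroup.centralizer {x} ↔ cm (b * m₀) x = 1 := by
      rw [Subgroup.mem_inf, Subgroup.mem_centralizer_singleton_iff, cm_eq_one_iff]
      exact ⟨fun h3 => h3.2, fun h3 => ⟨M.mul_mem hb hm₀, h3⟩⟩
    have e2 : b ∈ M ⊓ Subgroup.centralizer {x} ↔ cm b x = 1 := by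
      rw [Subgroup.mem_inf, Subgroup.mem_centralizer_singleton_iff, cm_eq_one_iff]
      exact ⟨fun h3 => h3.2, fun h3 => ⟨hb, h3⟩⟩
    rw [e1, e2, h.cm_mul_left (hM hb) (hM hm₀) hx, hc]
    rcases h.comm_mem b (hM hb) x hx with h3 | h3 <;> rw [h3]
    · rw [one_mul]
      exact Or.inr ⟨rfl, h.z_ne⟩
    · rw [h.z_sq]
      exact Or.inl ⟨rfl, h.z_ne⟩
  have h3 : (M ⊓ Subgroup.centralizer {x}).relIndex M *
      Nat.card ↥(M ⊓ Subgroup.centralizer {x}) = Nat.card M := by
    have h4 := Subgroup.card_mul_index ((M ⊓ Subgroup.centralizer {x}).subgroupOf M)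
    rw [Nat.card_congr (Subgroup.subgroupOfEquivOfLe
      (inf_le_left : M ⊓ Subgroup.centralizer {x} ≤ M)).toEquiv] at h4
    rw [Subgroup.relIndex, mul_comm]
    exact h4
  rw [← h3, h2]

theorem card_le_centralizer [Finite G] (h : Data Q z) {M : Subgroup G} (hM : M ≤ Q) {x : G}
    (hx : x ∈ Q) : Nat.card M ≤ 2 * Nat.card ↥(M ⊓ Subgroup.centralizer {x}) := by
  by_cases h1 : ∃ m₀ ∈ M, cm m₀ x = z
  · obtain ⟨m₀, hm₀, hc⟩ := h1
    exact (h.card_centralizer hM hx hm₀ hc).le
  · push Not at h1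
    have h2 : M ⊓ Subgroup.centralizer {x} = M := by
      apply inf_eq_left.mpr
      intro m hm
      rw [Subgroup.mem_centralizer_singleton_iff, ← cm_eq_one_iff]
      rcases h.comm_mem m (hM hm) x hx with h3 | h3
      · exact h3
      · exact absurd h3 (h1 m hm)
    rw [h2]
    omega

/-- decomposition of `M` into the two cosets of the centralizer of `x` -/
theorem mem_iff_coset (h : Data Q z) {M : Subgroup G} (hM : M ≤ Q) {x t : G} (hx : x ∈ Q)
    (ht : t ∈ M) (hc : cm t x = z) (q : G) :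
    q ∈ M ↔ (q ∈ M ⊓ Subgroup.centralizer {x} ∨ t⁻¹ * q ∈ M ⊓ Subgroup.centralizer {x}) := by
  constructor
  · intro hq
    rcases h.comm_mem q (hM hq) x hx with h3 | h3
    · left
      rw [Subgroup.mem_inf, Subgroup.mem_centralizer_singleton_iff, ← cm_eq_one_iff]
      exact ⟨hq, h3⟩
    · right
      rw [Subgroup.mem_inf, Subgroup.mem_centralizer_singleton_iff, ← cm_eq_one_iff]
      refine ⟨M.mul_mem (M.inv_mem ht) hq, ?_⟩
      rw [h.cm_mul_left (Q.inv_mem (hM ht)) (hM hq) hx, h.cm_inv_left (hM ht) hx, hc, h3, h.z_sq]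
  · rintro (h3 | h3)
    · exact h3.1
    · have := M.mul_mem ht h3.1
      rwa [mul_inv_cancel_left] at this

/-- `Q` is not abelian as soon as it has more than two elements -/
theorem exists_pair [Finite G] (h : Data Q z) (hcard : 2 < Nat.card Q) :
    ∃ a ∈ Q, ∃ b ∈ Q, cm a b = z := by
  by_contra hcon
  push Not at hcon
  have hall : ∀ c ∈ Q, c = 1 ∨ c = z := by
    intro c hc
    apply h.center_sub c hc
    intro q hq
    rw [← cm_eq_one_iff]
    rcases h.comm_mem q hq c hc with h1 | h1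
    · exact h1
    · exact absurd h1 (hcon q hq c hc)
  have hsub : (Q : Set G) ⊆ ({1, z} : Set G) := by
    intro c hc
    rcases hall c hc with h1 | h1 <;> simp [h1]
  have h1 : Nat.card Q ≤ 2 := by
    calc Nat.card Q = (Q : Set G).ncard := (Nat.card_coe_set_eq (Q : Set G))
      _ ≤ ({1, z} : Set G).ncard := Set.ncard_le_ncard hsub (Set.toFinite _)
      _ = 2 := Set.ncard_pair (Ne.symm h.z_ne)
  omega

/-- a non-central element of `Q` fails to commute with somebody -/
theorem exists_nc (h : Data Q z) {x : G} (hx : x ∈ Q) (h1 : x ≠ 1) (hz : x ≠ z) :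
    ∃ y ∈ Q, cm x y = z := by
  by_contra hcon
  push Not at hcon
  have : x = 1 ∨ x = z := by
    apply h.center_sub x hx
    intro q hq
    rw [← cm_eq_one_iff]
    rcases h.comm_mem q hq x hx with h2 | h2
    · exact h2
    · rw [h.cm_symm hq hx] at h2
      exact absurd h2 (hcon q hq)
  rcases this with h2 | h2
  · exact h1 h2
  · exact hz h2

end Data

/-- the centralizer in `Q` of the pair `u, v` -/
def cent2 (Q : Subgroup G) (u v : G) : Subgroup G :=
  Q ⊓ Subgroup.centralizer {u} ⊓ Subgroup.centralizer {v}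

theorem mem_cent2 {Q : Subgroup G} {u v c : G} :
    c ∈ cent2 Q u v ↔ c ∈ Q ∧ c * u = u * c ∧ c * v = v * c := by
  unfold cent2
  rw [Subgroup.mem_inf, Subgroup.mem_inf, Subgroup.mem_centralizer_singleton_iff,
    Subgroup.mem_centralizer_singleton_iff, and_assoc]

theorem cent2_le {Q : Subgroup G} {u v : G} : cent2 Q u v ≤ Q := fun _ hc => (mem_cent2.mp hc).1

namespace Data

variable {Q : Subgroup G} {z : G}

/-- `Q = C ∪ uC ∪ vC ∪ vuC` -/
theorem decomp (h : Data Q z) {u v : G} (hu : u ∈ Q) (hv : v ∈ Q) (huv : cm u v = z) {q : G}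
    (hq : q ∈ Q) : q ∈ cent2 Q u v ∨ u⁻¹ * q ∈ cent2 Q u v ∨ v⁻¹ * q ∈ cent2 Q u v ∨
      u⁻¹ * (v⁻¹ * q) ∈ cent2 Q u v := by
  have hvu : cm v u = z := by rw [h.cm_symm hv hu]; exact huv
  have huN : u ∈ Q ⊓ Subgroup.centralizer {u} := by
    rw [Subgroup.mem_inf, Subgroup.mem_centralizer_singleton_iff]
    exact ⟨hu, rfl⟩
  rcases (h.mem_iff_coset le_rfl hu hv hvu q).mp hq with h1 | h1
  · rcases (h.mem_iff_coset inf_le_left hv huN huv q).mp h1 with h2 | h2
    · exact Or.inl h2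
    · exact Or.inr (Or.inl h2)
  · rcases (h.mem_iff_coset inf_le_left hv huN huv _).mp h1 with h2 | h2
    · exact Or.inr (Or.inr (Or.inl h2))
    · exact Or.inr (Or.inr (Or.inr h2))

theorem card_split (h : Data Q z) {u v : G} (hu : u ∈ Q) (hv : v ∈ Q) (huv : cm u v = z) :
    Nat.card Q = 4 * Nat.card ↥(cent2 Q u v) := by
  have hvu : cm v u = z := by rw [h.cm_symm hv hu]; exact huv
  have huN : u ∈ Q ⊓ Subgroup.centralizer {u} := by
    rw [Subgroup.mem_inf, Subgroup.mem_centralizer_singleton_iff]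
    exact ⟨hu, rfl⟩
  have h1 := h.card_centralizer le_rfl hu hv hvu
  have h2 := h.card_centralizer (inf_le_left : Q ⊓ Subgroup.centralizer {u} ≤ Q) hv huN huv
  unfold cent2
  rw [h1, h2]; ring

theorem z_mem_cent2 (h : Data Q z) {u v : G} (hu : u ∈ Q) (hv : v ∈ Q) : z ∈ cent2 Q u v :=
  mem_cent2.mpr ⟨h.zQ, (h.z_comm u hu).symm, (h.z_comm v hv).symm⟩

theorem data_cent2 (h : Data Q z) {u v : G} (hu : u ∈ Q) (hv : v ∈ Q) (huv : cm u v = z) :
    Data (cent2 Q u v) z := by
  refine ⟨h.z_mem_cent2 hu hv, h.z_ne, h.z_sq, fun q hq => h.z_comm q (cent2_le hq), ?_,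
    fun a ha b hb => h.comm_mem a (cent2_le ha) b (cent2_le hb), fun a ha => h.sq_mem a (cent2_le ha)⟩
  intro c hc hcc
  obtain ⟨hcQ, hcu, hcv⟩ := mem_cent2.mp hc
  apply h.center_sub c hcQ
  intro q hq
  have key : ∀ w : G, w * c = c * w → ∀ q : G, w⁻¹ * q * c = c * (w⁻¹ * q) → q * c = c * q := by
    intro w hw q hq
    have h1 : q = w * (w⁻¹ * q) := by group
    rw [h1, mul_assoc, hq, ← mul_assoc, hw, mul_assoc]
  rcases h.decomp hu hv huv hq with h1 | h1 | h1 | h1
  · exact hcc q h1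
  · exact key u hcu.symm q (by rw [hcc _ h1])
  · exact key v hcv.symm q (by rw [hcc _ h1])
  · apply key v hcv.symm q
    apply key u hcu.symm
    rw [hcc _ h1]

/-- a non-central involution lies in a pair of involutions with commutator `z` -/
theorem exists_inv_pair_of_inv (h : Data Q z) {u : G} (hu : u ∈ Q) (huu : u * u = 1) (h1 : u ≠ 1)
    (hz : u ≠ z) : ∃ v ∈ Q, v * v = 1 ∧ cm u v = z := by
  obtain ⟨v, hv, huv⟩ := h.exists_nc hu h1 hz
  rcases h.sq_mem v hv with h2 | h2
  · exact ⟨v, hv, h2, huv⟩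
  · refine ⟨u * v, Q.mul_mem hu hv, ?_, ?_⟩
    · rw [h.sq_mul hu hv, huv, huu, h2, mul_one, h.z_sq]
    · rw [h.cm_mul_right hu hu hv, cm_self, one_mul, huv]

/-- for `|Q| ≥ 32` there is a pair of involutions with commutator `z` -/
theorem exists_inv_pair [Finite G] (h : Data Q z) (hcard : 32 ≤ Nat.card Q) :
    ∃ u ∈ Q, ∃ v ∈ Q, u * u = 1 ∧ v * v = 1 ∧ cm u v = z := by
  -- a non-central involution
  have hinv : ∃ u ∈ Q, u * u = 1 ∧ u ≠ 1 ∧ u ≠ z := by
    obtain ⟨x, hx, y₀, hy₀, hxy₀⟩ := h.exists_pair (by omega)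
    have hx1 : x ≠ 1 := by
      rintro rfl
      rw [cm_one_left] at hxy₀
      exact h.z_ne hxy₀.symm
    have hxz : x ≠ z := by
      rintro rfl
      rw [h.cm_z_left hy₀] at hxy₀
      exact h.z_ne hxy₀.symm
    rcases h.sq_mem x hx with h2 | h2
    · exact ⟨x, hx, h2, hx1, hxz⟩
    · -- the centralizer of x has at least 16 elements
      have hy₀x : cm y₀ x = z := by rw [h.cm_symm hy₀ hx]; exact hxy₀
      have hN := h.card_centralizer le_rfl hx hy₀ hy₀x
      have hex : ∃ y ∈ Q ⊓ Subgroup.centralizer {x}, y ∉ ({1, x, z, x * z} : Set G) := by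
        by_contra hcon
        push Not at hcon
        have hsub : ((Q ⊓ Subgroup.centralizer {x} : Subgroup G) : Set G) ⊆
            ({1, x, z, x * z} : Set G) := fun y hy => hcon y hy
        have h3 : Nat.card ↥(Q ⊓ Subgroup.centralizer {x}) ≤ 4 := by
          calc Nat.card ↥(Q ⊓ Subgroup.centralizer {x})
              = ((Q ⊓ Subgroup.centralizer {x} : Subgroup G) : Set G).ncard :=
                Nat.card_coe_set_eq _
            _ ≤ ({1, x, z, x * z} : Set G).ncard := Set.ncard_le_ncard hsub (Set.toFinite _)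
            _ ≤ 4 := by
              refine (Set.ncard_insert_le _ _).trans ?_
              refine Nat.succ_le_succ ((Set.ncard_insert_le _ _).trans ?_)
              refine Nat.succ_le_succ ((Set.ncard_insert_le _ _).trans ?_)
              rw [Set.ncard_singleton]
        omega
      obtain ⟨y, hy, hyn⟩ := hex
      simp only [Set.mem_insert_iff, Set.mem_singleton_iff, not_or] at hyn
      obtain ⟨hy1, hyx, hyz, hyxz⟩ := hyn
      rw [Subgroup.mem_inf, Subgroup.mem_centralizer_singleton_iff] at hy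
      obtain ⟨hyQ, hyc⟩ := hy
      rcases h.sq_mem y hyQ with h3 | h3
      · exact ⟨y, hyQ, h3, hy1, hyz⟩
      · have hxinv : x⁻¹ = x * z := by
          apply inv_eq_of_mul_eq_one_right
          rw [← mul_assoc, h2, h.z_sq]
        refine ⟨x * y, Q.mul_mem hx hyQ, ?_, ?_, ?_⟩
        · rw [h.sq_mul hx hyQ, h2, h3, cm_eq_one_iff.mpr hyc.symm, one_mul, h.z_sq]
        · intro h4
          apply hyxz
          rw [← hxinv]
          exact (inv_eq_of_mul_eq_one_right h4).symm
        · intro h4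
          apply hyx
          have h5 : y = x⁻¹ * z := by rw [← h4]; group
          rw [h5, hxinv, mul_assoc, h.z_sq, mul_one]
  obtain ⟨u, hu, huu, hu1, huz⟩ := hinv
  obtain ⟨v, hv, hvv, huv⟩ := h.exists_inv_pair_of_inv hu huu hu1 huz
  exact ⟨u, hu, v, hv, huu, hvv, huv⟩

end Data

end Cfsg.Agent.Lib.Helper4.ES2
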