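import Mathlib
import Cfsg.Agent.Lib.Helper4.M11f

/-! Involution centralizers in a simple group of order `7920` have order `48`. -/

set_option autoImplicit false
set_option linter.unusedSectionVars false
set_option linter.unusedVariables false
set_option linter.style.longLine false
set_option linter.unusedSimpArgs false
set_option linter.unusedDecidableInType false

set_option maxHeartbeats 3200000

namespace Cfsg.Agent.Lib.Helper4.M11

open Cfsg Cfsg.Agent.Lib.Helper6 Module
open Cfsg.Agent.Lib.Lead Cfsg.Agent.Lib.Lead.SylowCount Cfsg.Agent.Lib.Lead.SmallSimple2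
  Cfsg.Agent.Lib.Helper7.CountTools Cfsg.Agent.Lib.Helper7.SylPar Cfsg.Agent.Lib.Helper4.Ord5040
  Cfsg.Agent.Lib.Helper5.BrauerSmall
open scoped ComplexConjugate

section main

variable {G : Type*} [Group G] [Fintype G]

/-- no product of two conjugates of an involution has order `11` -/
theorem no_invol_product [IsSimpleGroup G] (hG : Nat.card G = 7920) (P : Sylow 11 G)
    (hN : Nat.card (Subgroup.normalizer ((P : Subgroup G) : Set G)) = 55)
    {t x : G} (ht : orderOf t = 2) (hx : x ∈ (P : Subgroup G)) (hx1 : x ≠ 1) (g h : G) :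
    g * t * g⁻¹ * (h * t * h⁻¹) ≠ x := by
  haveI : Fact (Nat.Prime 11) := ⟨by norm_num⟩
  intro hprod
  have hP := card11 hG P
  have htt : t * t = 1 := by
    have := pow_orderOf_eq_one t
    rwa [ht, pow_two] at this
  set t1 := g * t * g⁻¹ with ht1
  set t2 := h * t * h⁻¹ with ht2
  have h11 : t1 * t1 = 1 := by
    calc t1 * t1 = g * (t * t) * g⁻¹ := by rw [ht1]; group
      _ = 1 := by rw [htt]; group
  have h22 : t2 * t2 = 1 := by
    calc t2 * t2 = h * (t * t) * h⁻¹ := by rw [ht2]; group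
      _ = 1 := by rw [htt]; group
  have ht1inv : t1⁻¹ = t1 := inv_eq_of_mul_eq_one_left h11
  have hinv : t1 * x * t1⁻¹ = x⁻¹ := by
    rw [← hprod, ht1inv]
    have : (t1 * t2)⁻¹ = t2 * t1 := by
      rw [mul_inv_rev, inv_eq_of_mul_eq_one_left h22, ht1inv]
    rw [this]
    calc t1 * (t1 * t2) * t1 = (t1 * t1) * t2 * t1 := by group
      _ = t2 * t1 := by rw [h11, one_mul]
  have hPz : Subgroup.zpowers x = (P : Subgroup G) := zpowers_eq_of_mem (P : Subgroup G) hP hx hx1
  have hconj : ∀ w ∈ (P : Subgroup G), t1 * w * t1⁻¹ ∈ (P : Subgroup G) := by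
    intro w hw
    rw [← hPz] at hw ⊢
    obtain ⟨i, rfl⟩ := Subgroup.mem_zpowers_iff.mp hw
    have : t1 * x ^ i * t1⁻¹ = (t1 * x * t1⁻¹) ^ i := by rw [conj_zpow]
    rw [this, hinv]
    exact Subgroup.zpow_mem _ (Subgroup.inv_mem _ (Subgroup.mem_zpowers x)) i
  have ht1N : t1 ∈ Subgroup.normalizer ((P : Subgroup G) : Set G) := by
    rw [Subgroup.mem_normalizer_iff]
    intro w
    constructor
    · exact hconj w
    · intro hw
      have := hconj _ hw
      rw [ht1inv] at this hw
      have e : t1 * (t1 * w * t1) * t1 = w := by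
        calc t1 * (t1 * w * t1) * t1 = (t1 * t1) * w * (t1 * t1) := by group
          _ = w := by rw [h11]; group
      rwa [e] at this
  have h1 : t1 = 1 := eq_one_of_sq_of_odd (by rw [hN]; decide) h11 ht1N
  have h2 : t = 1 := by
    have : t = g⁻¹ * t1 * g := by rw [ht1]; group
    rw [this, h1]; group
  rw [h2, orderOf_one] at ht
  omega

set_option maxRecDepth 4000 in
/-- the centralizer of an involution has order `48` -/
theorem card_centralizer_involution [IsSimpleGroup G] (hG : Nat.card G = 7920)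
    [Fintype (Cfsg.IrrCharacter G)] [DecidableEq (Cfsg.IrrCharacter G)] (t : G)
    (ht : orderOf t = 2) : Nat.card (Subgroup.centralizer ({t} : Set G)) = 48 := by
  classical
  haveI : Fact (Nat.Prime 11) := ⟨by norm_num⟩
  haveI : Fact (Nat.Prime 5) := ⟨by norm_num⟩
  obtain ⟨d, hd⟩ : ∃ d : Cfsg.IrrCharacter G → ℕ,
      ∀ χ : Cfsg.IrrCharacter G, Cfsg.charDegree (χ : G → ℂ) = d χ :=
    ⟨fun χ => Cfsg.charDegree (χ : G → ℂ), fun _ => rfl⟩
  obtain ⟨hDB, h1, h10, h16, h45, h11, h44, h55, h22, h33, h66⟩ := degree_counts hG d hd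
  have hncomm : ¬ IsMulCommutative G := not_comm hG
  have hone : ∀ χ : Cfsg.IrrCharacter G, (χ : G → ℂ) 1 = (d χ : ℂ) := by
    intro χ
    rw [← hd]
    exact IsCharacter.apply_one_eq_charDegree (IsIrrCharacter.isCharacter χ.2)
  have hd1 : d (oneIrr G) = 1 := by
    have := hone (oneIrr G)
    have h2 : ((oneIrr G : Cfsg.IrrCharacter G) : G → ℂ) 1 = 1 := rfl
    rw [h2] at this
    exact_mod_cast this.symm
  have ht1 : t ≠ 1 := by
    rintro rfl
    rw [orderOf_one] at ht
    omega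
  -- the ten characters
  unfold cnt at h1 h10 h16 h45 h11 h44 h55 h22 h33 h66
  obtain ⟨χ1, hf1⟩ := Finset.card_eq_one.mp h1
  have hχ1 : χ1 = oneIrr G := by
    have : oneIrr G ∈ Finset.univ.filter (fun χ => d χ = 1) := by simp [hd1]
    rw [hf1] at this
    exact (Finset.mem_singleton.mp this).symm
  subst hχ1
  obtain ⟨a, b, c, hab, hac, hbc, hf10⟩ := Finset.card_eq_three.mp h10
  obtain ⟨θ1, θ2, hθ12, hf16⟩ := Finset.card_eq_two.mp h16
  obtain ⟨χ45, hf45⟩ := Finset.card_eq_one.mp h45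
  obtain ⟨χ11, hf11⟩ := Finset.card_eq_one.mp h11
  obtain ⟨χ44, hf44⟩ := Finset.card_eq_one.mp h44
  obtain ⟨χ55, hf55⟩ := Finset.card_eq_one.mp h55
  have hf22 := Finset.card_eq_zero.mp h22
  have hf33 := Finset.card_eq_zero.mp h33
  have hf66 := Finset.card_eq_zero.mp h66
  have hda : d a = 10 := by
    have : a ∈ Finset.univ.filter (fun χ => d χ = 10) := by rw [hf10]; simp
    exact (Finset.mem_filter.mp this).2
  have hdb : d b = 10 := by
    have : b ∈ Finset.univ.filter (fun χ => d χ = 10) := by rw [hf10]; simp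
    exact (Finset.mem_filter.mp this).2
  have hdc : d c = 10 := by
    have : c ∈ Finset.univ.filter (fun χ => d χ = 10) := by rw [hf10]; simp
    exact (Finset.mem_filter.mp this).2
  have hdθ1 : d θ1 = 16 := by
    have : θ1 ∈ Finset.univ.filter (fun χ => d χ = 16) := by rw [hf16]; simp
    exact (Finset.mem_filter.mp this).2
  have hdθ2 : d θ2 = 16 := by
    have : θ2 ∈ Finset.univ.filter (fun χ => d χ = 16) := by rw [hf16]; simp
    exact (Finset.mem_filter.mp this).2
  have hd45 : d χ45 = 45 := by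
    have : χ45 ∈ Finset.univ.filter (fun χ => d χ = 45) := by rw [hf45]; simp
    exact (Finset.mem_filter.mp this).2
  have hd11 : d χ11 = 11 := by
    have : χ11 ∈ Finset.univ.filter (fun χ => d χ = 11) := by rw [hf11]; simp
    exact (Finset.mem_filter.mp this).2
  have hd44 : d χ44 = 44 := by
    have : χ44 ∈ Finset.univ.filter (fun χ => d χ = 44) := by rw [hf44]; simp
    exact (Finset.mem_filter.mp this).2
  have hd55 : d χ55 = 55 := by
    have : χ55 ∈ Finset.univ.filter (fun χ => d χ = 55) := by rw [hf55]; simp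
    exact (Finset.mem_filter.mp this).2
  have hsplit : ∀ F : Cfsg.IrrCharacter G → ℂ, ∑ χ, F χ = F (oneIrr G) + F a + F b + F c + F θ1 +
      F θ2 + F χ45 + F χ11 + F χ44 + F χ55 := by
    intro F
    rw [← Finset.sum_fiberwise_of_maps_to (fun χ _ => hDB χ) F]
    rw [Finset.sum_insert (by decide), Finset.sum_insert (by decide), Finset.sum_insert (by decide),
      Finset.sum_insert (by decide), Finset.sum_insert (by decide), Finset.sum_insert (by decide),
      Finset.sum_insert (by decide), Finset.sum_insert (by decide), Finset.sum_insert (by decide),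
      Finset.sum_singleton]
    rw [hf1, hf10, hf16, hf45, hf11, hf22, hf33, hf44, hf55, hf66]
    simp only [Finset.sum_singleton, Finset.sum_empty]
    rw [Finset.sum_pair hθ12, Finset.sum_insert (by simp [hab, hac]), Finset.sum_pair hbc]
    ring
  -- the values at `t`
  have hval : ∀ χ : Cfsg.IrrCharacter G, ∃ m : ℕ, m ≤ d χ ∧
      (χ : G → ℂ) t = (d χ : ℂ) - 2 * (m : ℂ) := by
    intro χ
    have := apply_involution (IsIrrCharacter.isCharacter χ.2) t ht
    rwa [hd] at this
  have hzero16 : ∀ θ : Cfsg.IrrCharacter G, d θ = 16 → (θ : G → ℂ) t = 0 := by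
    intro θ hθ
    exact IsIrrCharacter.eq_zero_of_defect_zero θ.2 2 4 Nat.prime_two (by rw [hG]; norm_num)
      (by rw [hG]; norm_num) (by rw [hd, hθ]; norm_num) t (by rw [ht])
  obtain ⟨ma, hma, hva⟩ := hval a
  obtain ⟨mb, hmb, hvb⟩ := hval b
  obtain ⟨mc, hmc, hvc⟩ := hval c
  obtain ⟨mv, hmv, hvv⟩ := hval χ45
  obtain ⟨mx, hmx, hvx⟩ := hval χ11
  obtain ⟨mw, hmw, hvw⟩ := hval χ44
  obtain ⟨mz, hmz, hvz⟩ := hval χ55
  rw [hda] at hma hva
  rw [hdb] at hmb hvb
  rw [hdc] at hmc hvc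
  rw [hd45] at hmv hvv
  rw [hd11] at hmx hvx
  rw [hd44] at hmw hvw
  rw [hd55] at hmz hvz
  obtain ⟨A, hA⟩ : ∃ A : ℤ, A = 10 - 2 * (ma : ℤ) := ⟨_, rfl⟩
  obtain ⟨B, hB⟩ : ∃ B : ℤ, B = 10 - 2 * (mb : ℤ) := ⟨_, rfl⟩
  obtain ⟨C, hC⟩ : ∃ C : ℤ, C = 10 - 2 * (mc : ℤ) := ⟨_, rfl⟩
  obtain ⟨V, hV⟩ : ∃ V : ℤ, V = 45 - 2 * (mv : ℤ) := ⟨_, rfl⟩
  obtain ⟨X, hX⟩ : ∃ X : ℤ, X = 11 - 2 * (mx : ℤ) := ⟨_, rfl⟩
  obtain ⟨W, hW⟩ : ∃ W : ℤ, W = 44 - 2 * (mw : ℤ) := ⟨_, rfl⟩
  obtain ⟨Z, hZ⟩ : ∃ Z : ℤ, Z = 55 - 2 * (mz : ℤ) := ⟨_, rfl⟩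
  have hvA : (a : G → ℂ) t = (A : ℂ) := by rw [hva, hA]; push_cast; ring
  have hvB : (b : G → ℂ) t = (B : ℂ) := by rw [hvb, hB]; push_cast; ring
  have hvC : (c : G → ℂ) t = (C : ℂ) := by rw [hvc, hC]; push_cast; ring
  have hvV : (χ45 : G → ℂ) t = (V : ℂ) := by rw [hvv, hV]; push_cast; ring
  have hvX : (χ11 : G → ℂ) t = (X : ℂ) := by rw [hvx, hX]; push_cast; ring
  have hvW : (χ44 : G → ℂ) t = (W : ℂ) := by rw [hvw, hW]; push_cast; ring
  have hvZ : (χ55 : G → ℂ) t = (Z : ℂ) := by rw [hvz, hZ]; push_cast; ring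
  have hv1 : ((oneIrr G : Cfsg.IrrCharacter G) : G → ℂ) t = 1 := rfl
  have hvθ1 := hzero16 θ1 hdθ1
  have hvθ2 := hzero16 θ2 hdθ2
  -- the order of the centralizer
  have E5 : (Nat.card (Subgroup.centralizer ({t} : Set G)) : ℤ) =
      1 + A ^ 2 + B ^ 2 + C ^ 2 + V ^ 2 + X ^ 2 + W ^ 2 + Z ^ 2 := by
    have h5 := (sum_irr_mul_conj t t).1 (IsConj.refl t)
    rw [hsplit, hv1, hvA, hvB, hvC, hvθ1, hvθ2, hvV, hvX, hvW, hvZ] at h5
    simp only [map_one, map_intCast, map_zero] at h5
    have : ((Nat.card (Subgroup.centralizer ({t} : Set G)) : ℤ) : ℂ) =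
        ((1 + A ^ 2 + B ^ 2 + C ^ 2 + V ^ 2 + X ^ 2 + W ^ 2 + Z ^ 2 : ℤ) : ℂ) := by
      push_cast
      rw [← h5]
      ring
    exact_mod_cast this
  -- orthogonality with the identity
  have E4 : 1 + 10 * (A + B + C) + 45 * V + 11 * X + 44 * W + 55 * Z = 0 := by
    have h4 := (sum_irr_mul_conj 1 t).2 (by
      intro h
      exact ht1 (isConj_one_right.mp h))
    rw [hsplit, hone, hone, hone, hone, hone, hone, hone, hone, hone, hone, hd1, hda, hdb, hdc,
      hdθ1, hdθ2, hd45, hd11, hd44, hd55, hv1, hvA, hvB, hvC, hvθ1, hvθ2, hvV, hvX, hvW, hvZ] at h4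
    simp only [map_one, map_intCast, map_zero] at h4
    have : ((1 + 10 * (A + B + C) + 45 * V + 11 * X + 44 * W + 55 * Z : ℤ) : ℂ) = 0 := by
      push_cast
      rw [← h4]
      push_cast
      ring
    exact_mod_cast this
  -- the Sylow `11`-subgroups
  obtain ⟨hn11, hC11, hN11⟩ := sylow11_data hG
  obtain ⟨P⟩ : Nonempty (Sylow 11 G) := inferInstance
  have hP : Nat.card (P : Subgroup G) = 11 := card11 hG P
  have hCP : Subgroup.centralizer ((P : Subgroup G) : Set G) = (P : Subgroup G) :=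
    (Subgroup.eq_of_le_of_card_ge (sylow_le_centralizer P hP) (by rw [hC11 P, hP])).symm
  have he : (Subgroup.centralizer ((P : Subgroup G) : Set G)).relIndex
      (Subgroup.normalizer ((P : Subgroup G) : Set G)) = 5 := by
    have h1 := card_mul_relIndex (Subgroup.centralizer_le_normalizer ((P : Subgroup G) : Set G))
    rw [hC11 P, hN11 P] at h1
    omega
  obtain ⟨M11, hM11⟩ := exists_isPModular 11
  obtain ⟨XF, YF, σ, ε, hmem, hdisj, hXc, hYc, hXs, hε, hYm, hXval, hrel⟩ :=
    brauer_values d hd 11 M11 hM11 (by norm_num) P hP 5 he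
  have hXsub : XF ⊆ {oneIrr G, χ45, a, b, c} := by
    intro χ hχ
    obtain ⟨hs, hm⟩ := hXs χ hχ
    unfold Int.ModEq at hm
    have hdb' := hDB χ
    simp only [Finset.mem_insert, Finset.mem_singleton] at hdb' ⊢
    have hcases : d χ = 1 ∨ d χ = 10 ∨ d χ = 45 := by
      rcases hs with hs | hs <;> rw [hs] at hm <;> omega
    rcases hcases with h | h | h
    · left
      have : χ ∈ Finset.univ.filter (fun χ => d χ = 1) := by simp [h]
      rw [hf1] at this
      exact Finset.mem_singleton.mp this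
    · right; right
      have : χ ∈ Finset.univ.filter (fun χ => d χ = 10) := by simp [h]
      rw [hf10] at this
      simpa using this
    · right; left
      have : χ ∈ Finset.univ.filter (fun χ => d χ = 45) := by simp [h]
      rw [hf45] at this
      exact Finset.mem_singleton.mp this
  have hXeq : XF = {oneIrr G, χ45, a, b, c} :=
    Finset.eq_of_subset_of_card_le hXsub (by rw [hXc]; exact Finset.card_le_five)
  have hn1 : oneIrr G ≠ χ45 := fun h => by have := congrArg d h; omega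
  have hn2 : oneIrr G ≠ a := fun h => by have := congrArg d h; omega
  have hn3 : oneIrr G ≠ b := fun h => by have := congrArg d h; omega
  have hn4 : oneIrr G ≠ c := fun h => by have := congrArg d h; omega
  have hn5 : χ45 ≠ a := fun h => by have := congrArg d h; omega
  have hn6 : χ45 ≠ b := fun h => by have := congrArg d h; omega
  have hn7 : χ45 ≠ c := fun h => by have := congrArg d h; omega
  have hXsum : ∀ F : Cfsg.IrrCharacter G → ℂ,
      ∑ χ ∈ XF, F χ = F (oneIrr G) + F χ45 + F a + F b + F c := by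
    intro F
    rw [hXeq, Finset.sum_insert (by simp [hn1, hn2, hn3, hn4]),
      Finset.sum_insert (by simp [hn5, hn6, hn7]), Finset.sum_insert (by simp [hab, hac]),
      Finset.sum_pair hbc]
    ring
  have hσof : ∀ χ ∈ XF, (d χ = 1 ∨ d χ = 45 → σ χ = 1) ∧ (d χ = 10 → σ χ = -1) := by
    intro χ hχ
    obtain ⟨hs, hm⟩ := hXs χ hχ
    unfold Int.ModEq at hm
    constructor
    · intro h
      rcases hs with hs | hs
      · exact hs
      · rw [hs] at hm; rcases h with h | h <;> rw [h] at hm <;> omega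
    · intro h
      rcases hs with hs | hs
      · rw [hs, h] at hm; omega
      · exact hs
  have hmemX : ∀ χ, χ ∈ ({oneIrr G, χ45, a, b, c} : Finset (Cfsg.IrrCharacter G)) → χ ∈ XF := by
    intro χ hχ; rw [hXeq]; exact hχ
  have hσ1 : σ (oneIrr G) = 1 := (hσof _ (hmemX _ (by simp))).1 (Or.inl hd1)
  have hσ45 : σ χ45 = 1 := (hσof _ (hmemX _ (by simp))).1 (Or.inr hd45)
  have hσa : σ a = -1 := (hσof _ (hmemX _ (by simp))).2 hda
  have hσb : σ b = -1 := (hσof _ (hmemX _ (by simp))).2 hdb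
  have hσc : σ c = -1 := (hσof _ (hmemX _ (by simp))).2 hdc
  -- the exceptional characters have degree 16
  obtain ⟨θ, hθY⟩ : YF.Nonempty := by rw [← Finset.card_pos, hYc]; norm_num
  have hdθ : d θ = 16 := by
    have hm := hYm θ hθY
    unfold Int.ModEq at hm
    have hdb' := hDB θ
    simp only [Finset.mem_insert, Finset.mem_singleton] at hdb'
    rcases hε with rfl | rfl <;> push_cast at hm <;> omega
  have E1 : 1 + V - (A + B + C) = 0 := by
    have h := hrel θ hθY t (by rw [ht]; norm_num)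
    rw [hzero16 θ hdθ, mul_zero, hXsum, hσ1, hσ45, hσa, hσb, hσc, hv1, hvV, hvA, hvB, hvC] at h
    have : ((1 + V - (A + B + C) : ℤ) : ℂ) = 0 := by
      push_cast
      push_cast at h
      rw [h]
      ring
    exact_mod_cast this
  -- the class multiplication constant
  obtain ⟨x, hxP, hxo⟩ := exists_orderOf_eq (P : Subgroup G) 11 (by rw [hP])
  have hx1 : x ≠ 1 := by
    rintro rfl
    rw [orderOf_one] at hxo
    omega
  have hout : ∀ χ : Cfsg.IrrCharacter G, 11 ∣ d χ → (χ : G → ℂ) x = 0 := by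
    intro χ h11
    apply apply_eq_zero_of_not_mem P hP hCP hM11 χ _ hxP hx1
    intro hχB
    rcases (hmem χ).mp hχB with h | h
    · obtain ⟨hs, hm⟩ := hXs χ h
      unfold Int.ModEq at hm
      obtain ⟨k, hk⟩ := h11
      rw [hk] at hm
      push_cast at hm
      rcases hs with hs | hs <;> rw [hs] at hm <;> omega
    · have hm := hYm χ h
      unfold Int.ModEq at hm
      obtain ⟨k, hk⟩ := h11
      rw [hk] at hm
      push_cast at hm
      rcases hε with rfl | rfl <;> omega
  have E2 : 90 + 2 * V ^ 2 = 9 * (A ^ 2 + B ^ 2 + C ^ 2) := by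
    have hcm := card_conj_mul_conj_eq t t x
    have hempty : (Finset.univ.filter
        (fun p : G × G => p.1 * t * p.1⁻¹ * (p.2 * t * p.2⁻¹) = x)) = ∅ := by
      rw [Finset.filter_eq_empty_iff]
      intro pr _
      exact no_invol_product hG P (hN11 P) ht hxP hx1 pr.1 pr.2
    rw [hempty, Finset.card_empty, Nat.cast_zero] at hcm
    have hG0 : (Nat.card G : ℂ) ≠ 0 := by rw [hG]; norm_num
    have hsum0 := (mul_eq_zero.mp hcm.symm).resolve_left hG0
    rw [hsplit, hv1, hvA, hvB, hvC, hvθ1, hvθ2, hvV, hvX, hvW, hvZ,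
      hXval _ (hmemX _ (by simp)) x hxP hx1, hXval a (hmemX _ (by simp)) x hxP hx1,
      hXval b (hmemX _ (by simp)) x hxP hx1, hXval c (hmemX _ (by simp)) x hxP hx1,
      hXval χ45 (hmemX _ (by simp)) x hxP hx1, hσ1, hσ45, hσa, hσb, hσc,
      hout χ11 (by rw [hd11]), hout χ44 (by rw [hd44]; norm_num),
      hout χ55 (by rw [hd55]; norm_num)] at hsum0
    simp only [hone] at hsum0
    rw [hd1, hda, hdb, hdc, hd45] at hsum0
    simp only [map_intCast, map_zero, map_one, map_neg] at hsum0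
    have : ((90 + 2 * V ^ 2 : ℤ) : ℂ) = ((9 * (A ^ 2 + B ^ 2 + C ^ 2) : ℤ) : ℂ) := by
      push_cast
      push_cast at hsum0
      linear_combination 90 * hsum0
    exact_mod_cast this
  -- the Sylow `5`-subgroups
  obtain ⟨m, k, hC5, hN5, hk, hk1, hprod, hmod, hnn1⟩ := exists_data (G := G) 5 (card5 hG)
    (by omega)
  obtain ⟨P5⟩ : Nonempty (Sylow 5 G) := inferInstance
  have hP5 := card5 hG P5
  have hm0 : 0 < 5 * m := by
    rw [← hC5 P5]; exact Nat.card_pos
  have he5 : (Subgroup.centralizer ((P5 : Subgroup G) : Set G)).relIndex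
      (Subgroup.normalizer ((P5 : Subgroup G) : Set G)) = k := by
    have h1 := card_mul_relIndex (Subgroup.centralizer_le_normalizer ((P5 : Subgroup G) : Set G))
    rw [hC5 P5, hN5 P5] at h1
    exact Nat.eq_of_mul_eq_mul_left hm0 h1
  have hk' : k = 2 ∨ k = 4 := by
    have h1 : k ≤ 4 := Nat.le_of_dvd (by norm_num) hk
    interval_cases k
    · simp at hk
    · exact absurd rfl hk1
    · left; rfl
    · norm_num at hk
    · right; rfl
  obtain ⟨M5, hM5⟩ := exists_isPModular 5
  obtain ⟨X5, Y5, σ5, ε5, hmem5, hdisj5, hX5c, hY5c, hX5s, hε5, hY5m, hX5val, hrel5⟩ :=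
    brauer_values d hd 5 M5 hM5 (by norm_num) P5 hP5 k he5
  have hk4 : k = 4 := by
    rcases hk' with rfl | rfl
    · exfalso
      obtain ⟨θ5, hθ5⟩ : Y5.Nonempty := by rw [← Finset.card_pos, hY5c]; norm_num
      have hm := hY5m θ5 hθ5
      unfold Int.ModEq at hm
      have hdb' := hDB θ5
      simp only [Finset.mem_insert, Finset.mem_singleton] at hdb'
      have h22' : d θ5 ≠ 22 := by
        intro h
        have : θ5 ∈ Finset.univ.filter (fun χ => d χ = 22) := by simp [h]
        rw [hf22] at this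
        simp at this
      have h33' : d θ5 ≠ 33 := by
        intro h
        have : θ5 ∈ Finset.univ.filter (fun χ => d χ = 33) := by simp [h]
        rw [hf33] at this
        simp at this
      rcases hε5 with rfl | rfl <;> push_cast at hm <;> omega
    · rfl
  subst hk4
  have hm1 : m = 1 := sylow5_data hG hC11 hC5 hN5 hprod hmod hnn1
  subst hm1
  have hCP5 : Subgroup.centralizer ((P5 : Subgroup G) : Set G) = (P5 : Subgroup G) :=
    (Subgroup.eq_of_le_of_card_ge (sylow_le_centralizer P5 hP5) (by rw [hC5 P5, hP5])).symm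
  have hB5mem : ∀ χ, ¬ 5 ∣ d χ ↔ (χ ∈ X5 ∨ χ ∈ Y5) := by
    intro χ
    constructor
    · intro h
      exact (hmem5 χ).mp (mem_principalBlock_of_not_dvd P5 hP5 hCP5 hM5 χ
        (by rw [hd]; exact h))
    · rintro (h | h)
      · obtain ⟨hs, hm⟩ := hX5s χ h
        unfold Int.ModEq at hm
        rintro ⟨c, hc⟩
        rw [hc] at hm
        push_cast at hm
        rcases hs with hs | hs <;> rw [hs] at hm <;> omega
      · have hm := hY5m χ h
        unfold Int.ModEq at hm
        rintro ⟨c, hc⟩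
        rw [hc] at hm
        push_cast at hm
        rcases hε5 with rfl | rfl <;> omega
  have hB5eq : Finset.univ.filter (fun χ => ¬ 5 ∣ d χ) = X5 ∪ Y5 := by
    ext χ
    simp only [Finset.mem_filter, Finset.mem_univ, true_and, Finset.mem_union]
    exact hB5mem χ
  have hY5c' : Y5.card = 1 := by rw [hY5c]
  have E3 : 1 + X - W = 0 := by
    obtain ⟨θ5, hθ5⟩ := Finset.card_eq_one.mp hY5c'
    have hθ5Y : θ5 ∈ Y5 := by rw [hθ5]; simp
    have hr := hrel5 θ5 hθ5Y t (by rw [ht]; norm_num)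
    have hsumB : ∑ χ ∈ Finset.univ.filter (fun χ => ¬ 5 ∣ d χ),
        ((if d χ % 5 = 1 then (1 : ℤ) else -1 : ℤ) : ℂ) * (χ : G → ℂ) t = 0 := by
      rw [hB5eq, Finset.sum_union hdisj5, hθ5, Finset.sum_singleton]
      have hXg : ∑ χ ∈ X5, ((if d χ % 5 = 1 then (1 : ℤ) else -1 : ℤ) : ℂ) * (χ : G → ℂ) t =
          ∑ χ ∈ X5, (σ5 χ : ℂ) * (χ : G → ℂ) t := by
        apply Finset.sum_congr rfl
        intro χ hχ
        obtain ⟨hs, hm⟩ := hX5s χ hχ
        unfold Int.ModEq at hm
        rcases hs with hs | hs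
        · rw [hs] at hm ⊢
          rw [if_pos (by omega)]
        · rw [hs] at hm ⊢
          rw [if_neg (by omega)]
      have hYg : ((if d θ5 % 5 = 1 then (1 : ℤ) else -1 : ℤ) : ℂ) = -(ε5 : ℂ) := by
        have hm := hY5m θ5 hθ5Y
        unfold Int.ModEq at hm
        rcases hε5 with rfl | rfl
        · push_cast at hm
          rw [if_neg (by omega)]
          push_cast; ring
        · push_cast at hm
          rw [if_pos (by omega)]
          push_cast; ring
      rw [hXg, hYg, ← hr]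
      ring
    rw [Finset.sum_filter, hsplit, hd1, hda, hdb, hdc, hdθ1, hdθ2, hd45, hd11, hd44, hd55,
      hv1, hvθ1, hvθ2, hvX, hvW] at hsumB
    norm_num at hsumB
    have : ((1 + X - W : ℤ) : ℂ) = 0 := by
      push_cast
      linear_combination hsumB
    exact_mod_cast this
  -- conclusion
  have hc1 : Nat.card (Subgroup.centralizer ({t} : Set G)) ∣ 7920 := by
    rw [← hG]; exact Subgroup.card_subgroup_dvd_card _
  have hc5 : ¬ 5 ∣ Nat.card (Subgroup.centralizer ({t} : Set G)) := by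
    intro h5
    obtain ⟨y, hyC, hyo⟩ := exists_orderOf_eq (Subgroup.centralizer ({t} : Set G)) 5 h5
    obtain ⟨Q5, hyQ, hcent⟩ := centralizer_singleton_eq_sylow (card5 hG) hyo
    have hty : t ∈ Subgroup.centralizer ((Q5 : Subgroup G) : Set G) := by
      rw [← hcent, Subgroup.mem_centralizer_singleton_iff]
      exact (Subgroup.mem_centralizer_singleton_iff.mp hyC).symm
    have h1 : orderOf t ∣ Nat.card (Subgroup.centralizer ((Q5 : Subgroup G) : Set G)) :=
      Subgroup.orderOf_dvd_natCard _ hty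
    rw [ht, hC5 Q5] at h1
    omega
  exact invol_arith ma mb mc mv mx mw mz hma hmb hmc hmv hmx hmw hmz A B C V X W Z hA hB hC hV hX
    hW hZ E1 E2 E3 E4 _ E5 hc1 hc5

end main

end Cfsg.Agent.Lib.Helper4.M11
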