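import Mathlib

/-! Conjugacy class counting tools. -/

set_option autoImplicit false
set_option linter.unusedSectionVars false
set_option linter.unusedVariables false
set_option linter.style.longLine false
set_option linter.unusedSimpArgs false
set_option linter.unusedDecidableInType false

namespace Cfsg.Agent.Lib.Helper4.M11

section orbit

variable {G : Type*} [Group G] [Finite G]

/-- orbit-stabilizer for the conjugation action of a subgroup -/
theorem card_conj_orbit (H : Subgroup G) (x : G) :
    Nat.card {y : G // ∃ h ∈ H, y = h * x * h⁻¹} *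
      Nat.card ↥(H ⊓ Subgroup.centralizer ({x} : Set G)) = Nat.card H := by
  classical
  letI : MulAction H G := MulAction.compHom G ((MulAut.conj : G →* MulAut G).comp H.subtype)
  have hsmul : ∀ (h : H) (g : G), h • g = (h : G) * g * (h : G)⁻¹ := fun h g => rfl
  have e1 : MulAction.orbit H x ≃ H ⧸ MulAction.stabilizer H x :=
    MulAction.orbitEquivQuotientStabilizer H x
  have h1 := Subgroup.card_eq_card_quotient_mul_card_subgroup (MulAction.stabilizer H x)
  rw [← Nat.card_congr e1] at h1
  have h2 : Nat.card (MulAction.orbit H x) = Nat.card {y : G // ∃ h ∈ H, y = h * x * h⁻¹} := by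
    apply Nat.card_congr
    refine Equiv.subtypeEquivRight ?_
    intro y
    constructor
    · rintro ⟨h, rfl⟩
      exact ⟨h, h.2, hsmul h x⟩
    · rintro ⟨h, hh, rfl⟩
      exact ⟨⟨h, hh⟩, hsmul _ x⟩
  have h3 : Nat.card (MulAction.stabilizer H x) =
      Nat.card ↥(H ⊓ Subgroup.centralizer ({x} : Set G)) := by
    apply Nat.card_congr
    refine ⟨fun h => ⟨(h : H), Subgroup.mem_inf.mpr ⟨(h : H).2, ?_⟩⟩,
      fun g => ⟨⟨g, (Subgroup.mem_inf.mp g.2).1⟩, ?_⟩, ?_, ?_⟩
    · rw [Subgroup.mem_centralizer_singleton_iff]
      have := h.2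
      rw [MulAction.mem_stabilizer_iff, hsmul] at this
      calc ((h : H) : G) * x = ((h : H) : G) * x * ((h : H) : G)⁻¹ * ((h : H) : G) := by group
        _ = x * ((h : H) : G) := by rw [this]
    · rw [MulAction.mem_stabilizer_iff, hsmul]
      have := (Subgroup.mem_inf.mp g.2).2
      rw [Subgroup.mem_centralizer_singleton_iff] at this
      show (g : G) * x * (g : G)⁻¹ = x
      rw [this]; group
    · intro h; rfl
    · intro g; rfl
  rw [← h2, ← h3, ← h1]

/-- the size of a conjugacy class -/
theorem card_carrier_mk (z : G) :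
    (ConjClasses.mk z).carrier.ncard =
      Nat.card G / Nat.card (Subgroup.centralizer ({z} : Set G)) := by
  have h := card_conj_orbit (⊤ : Subgroup G) z
  rw [top_inf_eq, Subgroup.card_top] at h
  have hpos : 0 < Nat.card (Subgroup.centralizer ({z} : Set G)) := Nat.card_pos
  have h2 : (ConjClasses.mk z).carrier.ncard =
      Nat.card {y : G // ∃ h ∈ (⊤ : Subgroup G), y = h * z * h⁻¹} := by
    rw [← Nat.card_coe_set_eq]
    apply Nat.card_congr
    refine Equiv.subtypeEquivRight ?_
    intro y
    rw [ConjClasses.mem_carrier_iff_mk_eq, ConjClasses.mk_eq_mk_iff_isConj, isConj_comm, isConj_iff]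
    constructor
    · rintro ⟨c, hc⟩
      exact ⟨c, Subgroup.mem_top c, hc.symm⟩
    · rintro ⟨c, -, hc⟩
      exact ⟨c, hc.symm⟩
  rw [h2, ← h, Nat.mul_div_cancel _ hpos]

/-- a bound for the class equation from pairwise non-conjugate elements -/
theorem class_sum_bound {m : ℕ} (g : Fin m → G) (hinj : ∀ i j, IsConj (g i) (g j) → i = j)
    (B : ℕ) (hB : ∀ z : G, Nat.card G / Nat.card (Subgroup.centralizer ({z} : Set G)) ≤ B) :
    m ≤ Nat.card (ConjClasses G) ∧
    Nat.card G ≤ ∑ i, Nat.card G / Nat.card (Subgroup.centralizer ({g i} : Set G)) +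
      (Nat.card (ConjClasses G) - m) * B := by
  classical
  haveI : Fintype G := Fintype.ofFinite G
  haveI : Fintype (ConjClasses G) := Fintype.ofFinite _
  have hinj' : Function.Injective (fun i => ConjClasses.mk (g i)) := by
    intro i j hij
    exact hinj i j (ConjClasses.mk_eq_mk_iff_isConj.mp hij)
  have hm : m ≤ Nat.card (ConjClasses G) := by
    have := Fintype.card_le_of_injective _ hinj'
    rwa [Fintype.card_fin, ← Nat.card_eq_fintype_card] at this
  refine ⟨hm, ?_⟩
  have hsum := Group.sum_card_conj_classes_eq_card G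
  rw [finsum_eq_sum_of_fintype] at hsum
  set S : Finset (ConjClasses G) := Finset.univ.image (fun i => ConjClasses.mk (g i)) with hS
  have hScard : S.card = m := by
    rw [hS, Finset.card_image_of_injective _ hinj', Finset.card_univ, Fintype.card_fin]
  rw [← Finset.sum_sdiff (Finset.subset_univ S)] at hsum
  have h1 : ∑ c ∈ S, c.carrier.ncard =
      ∑ i, Nat.card G / Nat.card (Subgroup.centralizer ({g i} : Set G)) := by
    rw [hS, Finset.sum_image (fun i _ j _ hij => hinj' hij)]
    exact Finset.sum_congr rfl (fun i _ => card_carrier_mk (g i))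
  have h2 : ∑ c ∈ Finset.univ \ S, c.carrier.ncard ≤ (Nat.card (ConjClasses G) - m) * B := by
    have h3 : ∀ c ∈ Finset.univ \ S, c.carrier.ncard ≤ B := by
      intro c _
      obtain ⟨z, rfl⟩ := ConjClasses.exists_rep c
      rw [card_carrier_mk]
      exact hB z
    have h4 := Finset.sum_le_card_nsmul _ _ B h3
    rw [Finset.card_sdiff_of_subset (Finset.subset_univ S), Finset.card_univ, hScard,
      ← Nat.card_eq_fintype_card, smul_eq_mul] at h4
    exact h4
  rw [h1] at hsum
  omega

/-- the list version of `class_sum_bound` -/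
theorem class_sum_bound_list (l : List G) (hl : l.Pairwise (fun a b => ¬ IsConj a b))
    (B : ℕ) (hB : ∀ z : G, Nat.card G / Nat.card (Subgroup.centralizer ({z} : Set G)) ≤ B) :
    l.length ≤ Nat.card (ConjClasses G) ∧
    Nat.card G ≤ (l.map (fun z => Nat.card G / Nat.card (Subgroup.centralizer ({z} : Set G)))).sum +
      (Nat.card (ConjClasses G) - l.length) * B := by
  have hinj : ∀ i j : Fin l.length, IsConj (l.get i) (l.get j) → i = j := by
    intro i j hij
    by_contra hne
    rcases lt_or_gt_of_ne hne with h | h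
    · exact (List.pairwise_iff_get.mp hl) i j h hij
    · exact (List.pairwise_iff_get.mp hl) j i h hij.symm
  obtain ⟨h1, h2⟩ := class_sum_bound (fun i => l.get i) hinj B hB
  refine ⟨h1, ?_⟩
  have h3 := Fin.sum_univ_fun_getElem l
    (fun z => Nat.card G / Nat.card (Subgroup.centralizer ({z} : Set G)))
  simp only [List.get_eq_getElem] at h2
  rw [h3] at h2
  exact h2

end orbit

end Cfsg.Agent.Lib.Helper4.M11
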