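import Mathlib
import Cfsg.Agent.Lib.Helper4.M11h

/-! The conjugation action of a group of order `36` on a normal subgroup of order `9`. -/

set_option autoImplicit false
set_option linter.unusedSectionVars false
set_option linter.unusedVariables false
set_option linter.style.longLine false
set_option linter.unusedSimpArgs false
set_option linter.unusedDecidableInType false

set_option maxHeartbeats 800000

namespace Cfsg.Agent.Lib.Helper4.M11

section orbits

variable {G : Type*} [Group G] [Fintype G] [DecidableEq G]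

/-- the orbit of `x` under conjugation by `N` -/
noncomputable def orb (N : Subgroup G) (x : G) : Finset G :=
  haveI : DecidablePred (fun y => ∃ n ∈ N, y = n * x * n⁻¹) := Classical.decPred _
  Finset.univ.filter (fun y => ∃ n ∈ N, y = n * x * n⁻¹)

theorem mem_orb {N : Subgroup G} {x y : G} : y ∈ orb N x ↔ ∃ n ∈ N, y = n * x * n⁻¹ := by
  classical
  unfold orb
  simp

theorem self_mem_orb (N : Subgroup G) (x : G) : x ∈ orb N x :=
  mem_orb.mpr ⟨1, N.one_mem, by group⟩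

theorem mem_orb_of_common {N : Subgroup G} {a b y : G} (ha : y ∈ orb N a) (hb : y ∈ orb N b) :
    a ∈ orb N b := by
  obtain ⟨n, hn, rfl⟩ := mem_orb.mp ha
  obtain ⟨n', hn', h⟩ := mem_orb.mp hb
  refine mem_orb.mpr ⟨n⁻¹ * n', N.mul_mem (N.inv_mem hn) hn', ?_⟩
  calc a = n⁻¹ * (n * a * n⁻¹) * n := by group
    _ = n⁻¹ * (n' * b * n'⁻¹) * n := by rw [h]
    _ = n⁻¹ * n' * b * (n⁻¹ * n')⁻¹ := by group

theorem card_orb_mul (N : Subgroup G) (x : G) :
    (orb N x).card * Nat.card ↥(N ⊓ Subgroup.centralizer ({x} : Set G)) = Nat.card N := by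
  classical
  have h : (orb N x).card = Nat.card {y : G // ∃ h ∈ N, y = h * x * h⁻¹} := by
    rw [Nat.card_eq_fintype_card, Fintype.card_subtype]
    unfold orb
    congr 1
    apply Finset.filter_congr_decidable
  rw [h, card_conj_orbit N x]

/-- the two possible fusion patterns for a normal subgroup of order `9` in a group of order `36` -/
theorem order36_cases (N Q : Subgroup G) (hN : Nat.card N = 36) (hQ : Nat.card Q = 9)
    (hQN : Q ≤ N) (hnorm : ∀ n ∈ N, ∀ q ∈ Q, n * q * n⁻¹ ∈ Q)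
    (hcomm : ∀ a ∈ Q, ∀ b ∈ Q, a * b = b * a) :
    (∃ x1 ∈ Q, ∃ x2 ∈ Q, x1 ≠ 1 ∧ x2 ≠ 1 ∧ x2 ∉ orb N x1 ∧
      Nat.card ↥(N ⊓ Subgroup.centralizer ({x1} : Set G)) = 9 ∧
      Nat.card ↥(N ⊓ Subgroup.centralizer ({x2} : Set G)) = 9 ∧
      orderOf x1 = 3 ∧ orderOf x2 = 3 ∧
      ∃ j ∈ N, orderOf j = 2 ∧ j * x1 * j⁻¹ = x1⁻¹ ∧ j * x2 * j⁻¹ = x2⁻¹) ∨
    (∃ x1 ∈ Q, ∃ x2 ∈ Q, ∃ x3 ∈ Q, x1 ≠ 1 ∧ x2 ≠ 1 ∧ x3 ≠ 1 ∧ x1 ∉ orb N x2 ∧ x1 ∉ orb N x3 ∧
      x2 ∉ orb N x3 ∧ ∃ ρ2 ∈ N, orderOf ρ2 = 2 ∧ ρ2 * x2 = x2 * ρ2 ∧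
      ∃ ρ3 ∈ N, orderOf ρ3 = 2 ∧ ρ3 * x3 = x3 * ρ3) := by
  classical
  haveI : Fact (Nat.Prime 2) := ⟨Nat.prime_two⟩
  set Qs : Finset G := Finset.univ.filter (fun y => y ∈ Q ∧ y ≠ 1) with hQs
  have hmemQs : ∀ y, y ∈ Qs ↔ y ∈ Q ∧ y ≠ 1 := by intro y; rw [hQs]; simp
  have hQscard : Qs.card = 8 := by
    have h1 : (Finset.univ.filter (fun y => y ∈ Q)).card = 9 := by
      rw [← hQ, Nat.card_eq_fintype_card, Fintype.card_subtype]
    have h2 : Qs = (Finset.univ.filter (fun y => y ∈ Q)).erase 1 := by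
      ext y; rw [hmemQs]; simp [and_comm]
    rw [h2, Finset.card_erase_of_mem (by simp [Q.one_mem]), h1]
  have hsub : ∀ x ∈ Qs, orb N x ⊆ Qs := by
    intro x hx y hy
    obtain ⟨hxQ, hx1⟩ := (hmemQs x).mp hx
    obtain ⟨n, hn, rfl⟩ := mem_orb.mp hy
    refine (hmemQs _).mpr ⟨hnorm n hn x hxQ, ?_⟩
    intro h
    apply hx1
    calc x = n⁻¹ * (n * x * n⁻¹) * n := by group
      _ = 1 := by rw [h]; group
  have hcN : ∀ x ∈ Q, Nat.card ↥(N ⊓ Subgroup.centralizer ({x} : Set G)) = 9 ∨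
      Nat.card ↥(N ⊓ Subgroup.centralizer ({x} : Set G)) = 18 ∨
      Nat.card ↥(N ⊓ Subgroup.centralizer ({x} : Set G)) = 36 := by
    intro x hx
    have h1 : Q ≤ N ⊓ Subgroup.centralizer ({x} : Set G) := by
      intro q hq
      refine Subgroup.mem_inf.mpr ⟨hQN hq, ?_⟩
      rw [Subgroup.mem_centralizer_singleton_iff]
      exact hcomm q hq x hx
    have h2 := Subgroup.card_dvd_of_le h1
    have h3 := Subgroup.card_dvd_of_le (inf_le_left : N ⊓ Subgroup.centralizer ({x} : Set G) ≤ N)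
    rw [hQ] at h2
    rw [hN] at h3
    obtain ⟨k, hk⟩ := h2
    rw [hk] at h3 ⊢
    have hk4 : k ∣ 4 := by
      have : 9 * k ∣ 9 * 4 := h3
      exact Nat.dvd_of_mul_dvd_mul_left (by norm_num) this
    have : k ≤ 4 := Nat.le_of_dvd (by norm_num) hk4
    interval_cases k <;> simp_all
  have hinvol : ∀ x ∈ Q, Nat.card ↥(N ⊓ Subgroup.centralizer ({x} : Set G)) ≠ 9 →
      (orb N x).card ≤ 2 ∧ ∃ ρ ∈ N, orderOf ρ = 2 ∧ ρ * x = x * ρ := by
    intro x hx hne
    have hmul := card_orb_mul N x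
    rw [hN] at hmul
    have h2 : 2 ∣ Nat.card ↥(N ⊓ Subgroup.centralizer ({x} : Set G)) := by
      rcases hcN x hx with h | h | h
      · exact absurd h hne
      · rw [h]; norm_num
      · rw [h]; norm_num
    refine ⟨?_, ?_⟩
    · rcases hcN x hx with h | h | h
      · exact absurd h hne
      · rw [h] at hmul; omega
      · rw [h] at hmul; omega
    · obtain ⟨ρ, hρ⟩ := exists_prime_orderOf_dvd_card' 2 h2
      refine ⟨(ρ : G), (Subgroup.mem_inf.mp ρ.2).1, ?_, ?_⟩
      · rw [Subgroup.orderOf_coe]; exact hρ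
      · have := (Subgroup.mem_inf.mp ρ.2).2
        rw [Subgroup.mem_centralizer_singleton_iff] at this
        exact this
  have hfour : ∀ x ∈ Q, Nat.card ↥(N ⊓ Subgroup.centralizer ({x} : Set G)) = 9 →
      (orb N x).card = 4 := by
    intro x hx h
    have hmul := card_orb_mul N x
    rw [hN, h] at hmul
    omega
  by_cases hA : ∀ x ∈ Qs, Nat.card ↥(N ⊓ Subgroup.centralizer ({x} : Set G)) = 9
  · left
    obtain ⟨x1, hx1⟩ : Qs.Nonempty := by rw [← Finset.card_pos, hQscard]; norm_num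
    obtain ⟨hx1Q, hx11⟩ := (hmemQs x1).mp hx1
    have h4 := hfour x1 hx1Q (hA x1 hx1)
    obtain ⟨x2, hx2, hx2o⟩ : ∃ x2 ∈ Qs, x2 ∉ orb N x1 :=
      Finset.exists_mem_notMem_of_card_lt_card (by rw [h4, hQscard]; norm_num)
    obtain ⟨hx2Q, hx21⟩ := (hmemQs x2).mp hx2
    have h2N : 2 ∣ Nat.card N := by rw [hN]; norm_num
    obtain ⟨j, hj⟩ := exists_prime_orderOf_dvd_card' 2 h2N
    have hjo : orderOf (j : G) = 2 := by rw [Subgroup.orderOf_coe]; exact hj
    have hjj : (j : G) * (j : G) = 1 := by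
      have := pow_orderOf_eq_one (j : G)
      rwa [hjo, pow_two] at this
    have hjinv : ((j : G))⁻¹ = (j : G) := inv_eq_of_mul_eq_one_left hjj
    have hinvert : ∀ x ∈ Qs, (j : G) * x * (j : G)⁻¹ = x⁻¹ := by
      intro x hx
      obtain ⟨hxQ, hx1'⟩ := (hmemQs x).mp hx
      set w := x * ((j : G) * x * (j : G)⁻¹) with hw
      have hjx : (j : G) * x * (j : G)⁻¹ ∈ Q := hnorm _ j.2 x hxQ
      have hwQ : w ∈ Q := Q.mul_mem hxQ hjx
      by_contra hne
      have hw1 : w ≠ 1 := by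
        intro h
        apply hne
        exact (eq_inv_of_mul_eq_one_right h)
      have hwc : (j : G) * w = w * (j : G) := by
        rw [hw, hjinv]
        have hc := hcomm x hxQ _ (by rw [hjinv] at hjx; exact hjx)
        calc (j : G) * (x * ((j : G) * x * (j : G))) = ((j : G) * x * (j : G)) * ((j : G) * (j : G)) * x * (j : G) := by
              rw [hjj]; group
          _ = ((j : G) * x * (j : G)) * x * (j : G) := by rw [hjj, mul_one]
          _ = x * ((j : G) * x * (j : G)) * (j : G) := by rw [hc]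
      have h9 := hA w ((hmemQs w).mpr ⟨hwQ, hw1⟩)
      have hjmem : (j : G) ∈ N ⊓ Subgroup.centralizer ({w} : Set G) := by
        refine Subgroup.mem_inf.mpr ⟨j.2, ?_⟩
        rw [Subgroup.mem_centralizer_singleton_iff]
        exact hwc
      have hdvd := Subgroup.orderOf_dvd_natCard _ hjmem
      rw [hjo, h9] at hdvd
      omega
    have hexp : ∀ x ∈ Qs, orderOf x = 3 := by
      intro x hx
      obtain ⟨hxQ, hx1'⟩ := (hmemQs x).mp hx
      have hdvd := Subgroup.orderOf_dvd_natCard Q hxQ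
      rw [hQ] at hdvd
      have hle : orderOf x ≤ 9 := Nat.le_of_dvd (by norm_num) hdvd
      have hne1 : orderOf x ≠ 1 := fun h => hx1' (orderOf_eq_one_iff.mp h)
      by_contra hne3
      have h9 : orderOf x = 9 := by
        interval_cases h : orderOf x <;> simp_all
      set z := x ^ 3 with hz
      have hzQ : z ∈ Q := Q.pow_mem hxQ 3
      have hzo : orderOf z = 3 := by
        rw [hz, orderOf_pow' x (by norm_num), h9]
        norm_num
      have hz1 : z ≠ 1 := by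
        intro h
        rw [h, orderOf_one] at hzo
        omega
      have h4 := hfour z hzQ (hA z ((hmemQs z).mpr ⟨hzQ, hz1⟩))
      have hQz : Q = Subgroup.zpowers x := by
        symm
        apply Subgroup.eq_of_le_of_card_ge ((Subgroup.zpowers_le).mpr hxQ)
        rw [Nat.card_zpowers, h9, hQ]
      have hsubz : orb N z ⊆ Finset.univ.filter (fun y => y ∈ Subgroup.zpowers z) := by
        intro y hy
        obtain ⟨n, hn, rfl⟩ := mem_orb.mp hy
        rw [Finset.mem_filter]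
        refine ⟨Finset.mem_univ _, ?_⟩
        have h5 : n * x * n⁻¹ ∈ Subgroup.zpowers x := by
          rw [← hQz]; exact hnorm n hn x hxQ
        obtain ⟨k, hk⟩ := Subgroup.mem_zpowers_iff.mp h5
        rw [Subgroup.mem_zpowers_iff]
        refine ⟨k, ?_⟩
        calc z ^ k = (x ^ k) ^ 3 := by
              rw [hz, ← zpow_natCast, ← zpow_natCast, ← zpow_mul, ← zpow_mul, mul_comm]
          _ = (n * x * n⁻¹) ^ 3 := by rw [hk]
          _ = n * x ^ 3 * n⁻¹ := by rw [conj_pow]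
      have hcz : (Finset.univ.filter (fun y => y ∈ Subgroup.zpowers z)).card = 3 := by
        rw [← hzo, ← Nat.card_zpowers, Nat.card_eq_fintype_card, Fintype.card_subtype]
      have := Finset.card_le_card hsubz
      rw [h4, hcz] at this
      omega
    exact ⟨x1, hx1Q, x2, hx2Q, hx11, hx21, hx2o, hA x1 hx1, hA x2 hx2, hexp x1 hx1, hexp x2 hx2,
      (j : G), j.2, hjo, hinvert x1 hx1, hinvert x2 hx2⟩
  · right
    push Not at hA
    obtain ⟨x3, hx3, hx3c⟩ := hA
    obtain ⟨hx3Q, hx31⟩ := (hmemQs x3).mp hx3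
    obtain ⟨ho3, ρ3, hρ3N, hρ3o, hρ3c⟩ := hinvol x3 hx3Q hx3c
    by_cases hi : ∃ x2 ∈ Qs \ orb N x3, Nat.card ↥(N ⊓ Subgroup.centralizer ({x2} : Set G)) ≠ 9
    · obtain ⟨x2, hx2, hx2c⟩ := hi
      obtain ⟨hx2s, hx2o⟩ := Finset.mem_sdiff.mp hx2
      obtain ⟨hx2Q, hx21⟩ := (hmemQs x2).mp hx2s
      obtain ⟨ho2, ρ2, hρ2N, hρ2o, hρ2c⟩ := hinvol x2 hx2Q hx2c
      obtain ⟨x1, hx1, hx1o⟩ : ∃ x1 ∈ Qs, x1 ∉ orb N x2 ∪ orb N x3 := by
        apply Finset.exists_mem_notMem_of_card_lt_card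
        have := Finset.card_union_le (orb N x2) (orb N x3)
        rw [hQscard]
        omega
      obtain ⟨hx1Q, hx11⟩ := (hmemQs x1).mp hx1
      rw [Finset.mem_union, not_or] at hx1o
      exact ⟨x1, hx1Q, x2, hx2Q, x3, hx3Q, hx11, hx21, hx31, hx1o.1, hx1o.2, hx2o, ρ2, hρ2N,
        hρ2o, hρ2c, ρ3, hρ3N, hρ3o, hρ3c⟩
    · exfalso
      push Not at hi
      set R := Qs \ orb N x3 with hR
      have hRcard : R.card = 8 - (orb N x3).card := by
        rw [hR, Finset.card_sdiff_of_subset (hsub x3 hx3), hQscard]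
      have ho3pos : 1 ≤ (orb N x3).card :=
        Finset.card_pos.mpr ⟨x3, self_mem_orb N x3⟩
      obtain ⟨w, hw⟩ : R.Nonempty := by rw [← Finset.card_pos, hRcard]; omega
      obtain ⟨hws, hwo⟩ := Finset.mem_sdiff.mp hw
      obtain ⟨hwQ, hw1⟩ := (hmemQs w).mp hws
      have hw4 := hfour w hwQ (hi w hw)
      have hwR : orb N w ⊆ R := by
        intro y hy
        refine Finset.mem_sdiff.mpr ⟨hsub w hws hy, ?_⟩
        intro hy3
        exact hwo (mem_orb_of_common hy hy3)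
      set R' := R \ orb N w with hR'
      have hR'card : R'.card = R.card - 4 := by
        rw [hR', Finset.card_sdiff_of_subset hwR, hw4]
      obtain ⟨w', hw'⟩ : R'.Nonempty := by rw [← Finset.card_pos, hR'card, hRcard]; omega
      obtain ⟨hw'R, hw'o⟩ := Finset.mem_sdiff.mp hw'
      obtain ⟨hw's, hw'o3⟩ := Finset.mem_sdiff.mp hw'R
      obtain ⟨hw'Q, hw'1⟩ := (hmemQs w').mp hw's
      have hw'4 := hfour w' hw'Q (hi w' hw'R)
      have hw'R' : orb N w' ⊆ R' := by
        intro y hy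
        refine Finset.mem_sdiff.mpr ⟨Finset.mem_sdiff.mpr ⟨hsub w' hw's hy, ?_⟩, ?_⟩
        · intro hy3
          exact hw'o3 (mem_orb_of_common hy hy3)
        · intro hyw
          exact hw'o (mem_orb_of_common hy hyw)
      have := Finset.card_le_card hw'R'
      rw [hw'4, hR'card, hRcard] at this
      omega

end orbits

end Cfsg.Agent.Lib.Helper4.M11
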