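import Mathlib
import Cfsg.Agent.Lib.Helper4.M11g
import Cfsg.Agent.Lib.Helper4.M11i

/-! Character values at elements of order `3` in a simple group of order `7920`. -/

set_option autoImplicit false
set_option linter.unusedSectionVars false
set_option linter.unusedVariables false
set_option linter.style.longLine false
set_option linter.unusedSimpArgs false
set_option linter.unusedDecidableInType false

set_option maxHeartbeats 3200000

namespace Cfsg.Agent.Lib.Helper4.M11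

open Cfsg Cfsg.Agent.Lib.Helper6 Module
open Cfsg.Agent.Lib.Lead Cfsg.Agent.Lib.Lead.SylowCount Cfsg.Agent.Lib.Lead.SmallSimple2
  Cfsg.Agent.Lib.Helper7.CountTools Cfsg.Agent.Lib.Helper7.SylPar Cfsg.Agent.Lib.Helper4.Ord5040
  Cfsg.Agent.Lib.Helper5.BrauerSmall
open scoped ComplexConjugate

section ten

variable {G : Type*} [Group G] [Fintype G]

set_option maxRecDepth 4000 in
/-- the ten irreducible characters of a simple group of order `7920` -/
theorem ten_characters [IsSimpleGroup G] (hG : Nat.card G = 7920)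
    [Fintype (Cfsg.IrrCharacter G)] [DecidableEq (Cfsg.IrrCharacter G)]
    (d : Cfsg.IrrCharacter G → ℕ)
    (hd : ∀ χ : Cfsg.IrrCharacter G, Cfsg.charDegree (χ : G → ℂ) = d χ) :
    ∃ a b c θ1 θ2 χ45 χ11 χ44 χ55 : Cfsg.IrrCharacter G,
      d (oneIrr G) = 1 ∧ d a = 10 ∧ d b = 10 ∧ d c = 10 ∧ d θ1 = 16 ∧ d θ2 = 16 ∧ d χ45 = 45 ∧
      d χ11 = 11 ∧ d χ44 = 44 ∧ d χ55 = 55 ∧
      (∀ F : Cfsg.IrrCharacter G → ℂ, ∑ χ, F χ = F (oneIrr G) + F a + F b + F c + F θ1 +
        F θ2 + F χ45 + F χ11 + F χ44 + F χ55) ∧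
      (∀ χ, d χ = 1 ∨ d χ = 10 ∨ d χ = 16 ∨ d χ = 45 ∨ d χ = 11 ∨ d χ = 44 ∨ d χ = 55) := by
  classical
  obtain ⟨hDB, h1, h10, h16, h45, h11, h44, h55, h22, h33, h66⟩ := degree_counts hG d hd
  have hone : ∀ χ : Cfsg.IrrCharacter G, (χ : G → ℂ) 1 = (d χ : ℂ) := by
    intro χ
    rw [← hd]
    exact IsCharacter.apply_one_eq_charDegree (IsIrrCharacter.isCharacter χ.2)
  have hd1 : d (oneIrr G) = 1 := by
    have := hone (oneIrr G)
    have h2 : ((oneIrr G : Cfsg.IrrCharacter G) : G → ℂ) 1 = 1 := rfl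
    rw [h2] at this
    exact_mod_cast this.symm
  unfold cnt at h1 h10 h16 h45 h11 h44 h55 h22 h33 h66
  obtain ⟨χ1, hf1⟩ := Finset.card_eq_one.mp h1
  have hχ1 : χ1 = oneIrr G := by
    have : oneIrr G ∈ Finset.univ.filter (fun χ => d χ = 1) := by simp [hd1]
    rw [hf1] at this
    exact (Finset.mem_singleton.mp this).symm
  subst hχ1
  obtain ⟨a, b, c, hab, hac, hbc, hf10⟩ := Finset.card_eq_three.mp h10
  obtain ⟨θ1, θ2, hθ12, hf16⟩ := Finset.card_eq_two.mp h16
  obtain ⟨χ45, hf45⟩ := Finset.card_eq_one.mp h45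
  obtain ⟨χ11, hf11⟩ := Finset.card_eq_one.mp h11
  obtain ⟨χ44, hf44⟩ := Finset.card_eq_one.mp h44
  obtain ⟨χ55, hf55⟩ := Finset.card_eq_one.mp h55
  have hf22 := Finset.card_eq_zero.mp h22
  have hf33 := Finset.card_eq_zero.mp h33
  have hf66 := Finset.card_eq_zero.mp h66
  have hda : d a = 10 := by
    have : a ∈ Finset.univ.filter (fun χ => d χ = 10) := by rw [hf10]; simp
    exact (Finset.mem_filter.mp this).2
  have hdb : d b = 10 := by
    have : b ∈ Finset.univ.filter (fun χ => d χ = 10) := by rw [hf10]; simp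
    exact (Finset.mem_filter.mp this).2
  have hdc : d c = 10 := by
    have : c ∈ Finset.univ.filter (fun χ => d χ = 10) := by rw [hf10]; simp
    exact (Finset.mem_filter.mp this).2
  have hdθ1 : d θ1 = 16 := by
    have : θ1 ∈ Finset.univ.filter (fun χ => d χ = 16) := by rw [hf16]; simp
    exact (Finset.mem_filter.mp this).2
  have hdθ2 : d θ2 = 16 := by
    have : θ2 ∈ Finset.univ.filter (fun χ => d χ = 16) := by rw [hf16]; simp
    exact (Finset.mem_filter.mp this).2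
  have hd45 : d χ45 = 45 := by
    have : χ45 ∈ Finset.univ.filter (fun χ => d χ = 45) := by rw [hf45]; simp
    exact (Finset.mem_filter.mp this).2
  have hd11 : d χ11 = 11 := by
    have : χ11 ∈ Finset.univ.filter (fun χ => d χ = 11) := by rw [hf11]; simp
    exact (Finset.mem_filter.mp this).2
  have hd44 : d χ44 = 44 := by
    have : χ44 ∈ Finset.univ.filter (fun χ => d χ = 44) := by rw [hf44]; simp
    exact (Finset.mem_filter.mp this).2
  have hd55 : d χ55 = 55 := by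
    have : χ55 ∈ Finset.univ.filter (fun χ => d χ = 55) := by rw [hf55]; simp
    exact (Finset.mem_filter.mp this).2
  have hsplit : ∀ F : Cfsg.IrrCharacter G → ℂ, ∑ χ, F χ = F (oneIrr G) + F a + F b + F c + F θ1 +
      F θ2 + F χ45 + F χ11 + F χ44 + F χ55 := by
    intro F
    rw [← Finset.sum_fiberwise_of_maps_to (fun χ _ => hDB χ) F]
    rw [Finset.sum_insert (by decide), Finset.sum_insert (by decide), Finset.sum_insert (by decide),
      Finset.sum_insert (by decide), Finset.sum_insert (by decide), Finset.sum_insert (by decide),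
      Finset.sum_insert (by decide), Finset.sum_insert (by decide), Finset.sum_insert (by decide),
      Finset.sum_singleton]
    rw [hf1, hf10, hf16, hf45, hf11, hf22, hf33, hf44, hf55, hf66]
    simp only [Finset.sum_singleton, Finset.sum_empty]
    rw [Finset.sum_pair hθ12, Finset.sum_insert (by simp [hab, hac]), Finset.sum_pair hbc]
    ring
  refine ⟨a, b, c, θ1, θ2, χ45, χ11, χ44, χ55, hd1, hda, hdb, hdc, hdθ1, hdθ2, hd45, hd11, hd44,
    hd55, hsplit, ?_⟩
  intro χ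
  have hdb' := hDB χ
  simp only [Finset.mem_insert, Finset.mem_singleton] at hdb'
  have h22' : d χ ≠ 22 := by
    intro h
    have : χ ∈ Finset.univ.filter (fun χ => d χ = 22) := by simp [h]
    rw [hf22] at this
    simp at this
  have h33' : d χ ≠ 33 := by
    intro h
    have : χ ∈ Finset.univ.filter (fun χ => d χ = 33) := by simp [h]
    rw [hf33] at this
    simp at this
  have h66' : d χ ≠ 66 := by
    intro h
    have : χ ∈ Finset.univ.filter (fun χ => d χ = 66) := by simp [h]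
    rw [hf66] at this
    simp at this
  omega

end ten

section three

variable {G : Type*} [Group G] [Fintype G]

/-- the value of a character at a real element of order `3` -/
theorem apply_order_three {χ : G → ℂ} (hχ : Cfsg.IsCharacter G χ) (x j : G)
    (hx : orderOf x = 3) (hj : j * x * j⁻¹ = x⁻¹) :
    ∃ b : ℕ, χ x = (Cfsg.charDegree χ : ℂ) - 3 * (b : ℂ) := by
  classical
  have hcf := IsCharacter.isClassFunction hχ
  obtain ⟨n, ρ, rfl⟩ := hχ
  obtain ⟨ι, _, b, μ, h, hμ⟩ := exists_eigenbasis_rep ρ x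
  rw [hx] at hμ
  have h1 : ρ.character x = ∑ i, μ i := trace_eq_sum_of_eigenbasis b μ (ρ x) h
  have hxx : x⁻¹ = x * x := by
    have := pow_orderOf_eq_one x
    rw [hx] at this
    have h3 : x * x * x = 1 := by rw [← this, pow_succ, pow_two]
    exact inv_eq_of_mul_eq_one_left h3
  have h2 : ρ.character (x * x) = ∑ i, μ i ^ 2 := by
    apply trace_eq_sum_of_eigenbasis b (fun i => μ i ^ 2) (ρ (x * x))
    intro i
    rw [map_mul, Module.End.mul_apply, h i, map_smul, h i, smul_smul, pow_two]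
  have hS : ∑ i, μ i = ∑ i, μ i ^ 2 := by
    rw [← h1, ← h2, ← hxx, ← hj]
    exact (hcf x j).symm
  have hdeg : Cfsg.charDegree ρ.character = Fintype.card ι := by
    rw [charDegree_character, finrank_eq_card_basis b]
  by_cases hall : ∀ i, μ i = 1
  · refine ⟨0, ?_⟩
    rw [h1, hdeg, Finset.sum_congr rfl (fun i _ => hall i)]
    simp
  · push Not at hall
    obtain ⟨i0, hi0⟩ := hall
    set ω := μ i0 with hω
    have hω3 : ω ^ 3 = 1 := hμ i0
    have hω1 : ω ^ 2 + ω + 1 = 0 := by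
      have h3 : (ω - 1) * (ω ^ 2 + ω + 1) = 0 := by ring_nf; rw [hω3]; ring
      rcases mul_eq_zero.mp h3 with h4 | h4
      · exact absurd (sub_eq_zero.mp h4) hi0
      · exact h4
    have hω0 : ω ≠ 0 := by
      intro h0
      rw [h0] at hω3
      norm_num at hω3
    have hωne : ω ≠ ω ^ 2 := by
      intro h0
      have : ω * (ω - 1) = 0 := by ring_nf; rw [← h0]; ring
      rcases mul_eq_zero.mp this with h4 | h4
      · exact hω0 h4
      · exact hi0 (sub_eq_zero.mp h4)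
    have hω21 : ω ^ 2 ≠ 1 := by
      intro h0
      apply hi0
      calc ω = ω ^ 3 * ω⁻¹ ^ 2 := by field_simp
        _ = 1 := by rw [hω3, inv_pow, h0]; simp
    have hcases : ∀ i, μ i = 1 ∨ μ i = ω ∨ μ i = ω ^ 2 := by
      intro i
      have h3 : (μ i - 1) * ((μ i - ω) * (μ i - ω ^ 2)) = 0 := by
        have h5 : (μ i - 1) * ((μ i - ω) * (μ i - ω ^ 2)) =
            μ i ^ 3 - 1 - (μ i ^ 2 - μ i) * (ω ^ 2 + ω + 1) - (μ i - 1) * (1 - ω ^ 3) := by ring
        rw [h5, hμ i, hω1, hω3]; ring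
      rcases mul_eq_zero.mp h3 with h4 | h4
      · left; exact sub_eq_zero.mp h4
      · rcases mul_eq_zero.mp h4 with h5 | h5
        · right; left; exact sub_eq_zero.mp h5
        · right; right; exact sub_eq_zero.mp h5
    set n0 := (Finset.univ.filter (fun i => μ i = 1)).card with hn0
    set n1 := (Finset.univ.filter (fun i => μ i = ω)).card with hn1
    set n2 := (Finset.univ.filter (fun i => μ i = ω ^ 2)).card with hn2
    have hform : ∀ i, μ i = (if μ i = 1 then (1 : ℂ) else 0) + (if μ i = ω then (1 : ℂ) else 0) * ω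
        + (if μ i = ω ^ 2 then (1 : ℂ) else 0) * ω ^ 2 := by
      intro i
      rcases hcases i with h4 | h4 | h4
      · rw [h4, if_pos rfl, if_neg (Ne.symm hi0), if_neg (Ne.symm hω21)]; ring
      · rw [h4, if_neg hi0, if_pos rfl, if_neg hωne]; ring
      · rw [h4, if_neg hω21, if_neg (Ne.symm hωne), if_pos rfl]; ring
    have hone : ∀ i, (1 : ℂ) = (if μ i = 1 then (1 : ℂ) else 0) + (if μ i = ω then (1 : ℂ) else 0)
        + (if μ i = ω ^ 2 then (1 : ℂ) else 0) := by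
      intro i
      rcases hcases i with h4 | h4 | h4
      · rw [h4, if_pos rfl, if_neg (Ne.symm hi0), if_neg (Ne.symm hω21)]; ring
      · rw [h4, if_neg hi0, if_pos rfl, if_neg hωne]; ring
      · rw [h4, if_neg hω21, if_neg (Ne.symm hωne), if_pos rfl]; ring
    have hsum1 : ∑ i, μ i = (n0 : ℂ) + (n1 : ℂ) * ω + (n2 : ℂ) * ω ^ 2 := by
      rw [Finset.sum_congr rfl (fun i _ => hform i), Finset.sum_add_distrib,
        Finset.sum_add_distrib, ← Finset.sum_mul, ← Finset.sum_mul, Finset.sum_boole,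
        Finset.sum_boole, Finset.sum_boole]
    have hsum2 : ∑ i, μ i ^ 2 = (n0 : ℂ) + (n1 : ℂ) * ω ^ 2 + (n2 : ℂ) * ω := by
      have hform2 : ∀ i, μ i ^ 2 = (if μ i = 1 then (1 : ℂ) else 0) +
          (if μ i = ω then (1 : ℂ) else 0) * ω ^ 2 + (if μ i = ω ^ 2 then (1 : ℂ) else 0) * ω := by
        intro i
        have hω4 : (ω ^ 2) ^ 2 = ω := by
          calc (ω ^ 2) ^ 2 = ω ^ 3 * ω := by ring
            _ = ω := by rw [hω3, one_mul]
        rcases hcases i with h4 | h4 | h4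
        · rw [h4, if_pos rfl, if_neg (Ne.symm hi0), if_neg (Ne.symm hω21)]; ring
        · rw [h4, if_neg hi0, if_pos rfl, if_neg hωne]; ring
        · rw [h4, if_neg hω21, if_neg (Ne.symm hωne), if_pos rfl, hω4]; ring
      rw [Finset.sum_congr rfl (fun i _ => hform2 i), Finset.sum_add_distrib,
        Finset.sum_add_distrib, ← Finset.sum_mul, ← Finset.sum_mul, Finset.sum_boole,
        Finset.sum_boole, Finset.sum_boole]
    have hcard : (Fintype.card ι : ℂ) = (n0 : ℂ) + (n1 : ℂ) + (n2 : ℂ) := by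
      have : ∑ _i : ι, (1 : ℂ) = (n0 : ℂ) + (n1 : ℂ) + (n2 : ℂ) := by
        rw [Finset.sum_congr rfl (fun i _ => hone i), Finset.sum_add_distrib,
          Finset.sum_add_distrib, Finset.sum_boole, Finset.sum_boole, Finset.sum_boole]
      rw [← this]
      simp
    have h12 : (n1 : ℂ) = (n2 : ℂ) := by
      have h5 : ((n1 : ℂ) - (n2 : ℂ)) * (ω - ω ^ 2) = 0 := by
        have := hS
        rw [hsum1, hsum2] at this
        linear_combination this
      rcases mul_eq_zero.mp h5 with h6 | h6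
      · exact sub_eq_zero.mp h6
      · exact absurd (sub_eq_zero.mp h6) hωne
    refine ⟨n1, ?_⟩
    rw [h1, hsum1, hdeg, hcard, ← h12]
    linear_combination (n1 : ℂ) * hω1

end three

section arith3

theorem one_le_sq_of_ne_zero {A : ℤ} (h : A ≠ 0) : 1 ≤ A ^ 2 := by
  have h1 : 0 < A ^ 2 := by positivity
  omega

theorem eq_pm_one_of_sq_eq_one {A : ℤ} (h : A ^ 2 = 1) : A = 1 ∨ A = -1 := by
  have h3 : (A - 1) * (A + 1) = 0 := by ring_nf; rw [h]; ring
  rcases mul_eq_zero.mp h3 with h4 | h4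
  · left; omega
  · right; omega

/-- the arithmetic excluding a centralizer of order `9` -/
theorem three_arith (ba bb bc bt1 bt2 bv bx bw bz : ℕ) (A B C T1 T2 V X W Z : ℤ)
    (hA : A = 10 - 3 * ba) (hB : B = 10 - 3 * bb) (hC : C = 10 - 3 * bc)
    (hT1 : T1 = 16 - 3 * bt1) (hT2 : T2 = 16 - 3 * bt2) (hV : V = 45 - 3 * bv)
    (hX : X = 11 - 3 * bx) (hW : W = 44 - 3 * bw) (hZ : Z = 55 - 3 * bz)
    (E1 : 1 + A ^ 2 + B ^ 2 + C ^ 2 + T1 ^ 2 + T2 ^ 2 + V ^ 2 + X ^ 2 + W ^ 2 + Z ^ 2 = 9)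
    (E2 : 1 + 10 * (A + B + C) + 16 * (T1 + T2) + 45 * V + 11 * X + 44 * W + 55 * Z = 0) :
    False := by
  have hA2 := one_le_sq_of_ne_zero (A := A) (by omega)
  have hB2 := one_le_sq_of_ne_zero (A := B) (by omega)
  have hC2 := one_le_sq_of_ne_zero (A := C) (by omega)
  have hT12 := one_le_sq_of_ne_zero (A := T1) (by omega)
  have hT22 := one_le_sq_of_ne_zero (A := T2) (by omega)
  have hX2 := one_le_sq_of_ne_zero (A := X) (by omega)
  have hW2 := one_le_sq_of_ne_zero (A := W) (by omega)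
  have hZ2 := one_le_sq_of_ne_zero (A := Z) (by omega)
  have hV2 := sq_nonneg V
  have hA1 := eq_pm_one_of_sq_eq_one (A := A) (by omega)
  have hB1 := eq_pm_one_of_sq_eq_one (A := B) (by omega)
  have hC1 := eq_pm_one_of_sq_eq_one (A := C) (by omega)
  have hT11 := eq_pm_one_of_sq_eq_one (A := T1) (by omega)
  have hT21 := eq_pm_one_of_sq_eq_one (A := T2) (by omega)
  have hX1 := eq_pm_one_of_sq_eq_one (A := X) (by omega)
  have hW1 := eq_pm_one_of_sq_eq_one (A := W) (by omega)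
  have hZ1 := eq_pm_one_of_sq_eq_one (A := Z) (by omega)
  have hV0 : V = 0 := by
    have : V ^ 2 = 0 := by omega
    exact pow_eq_zero_iff (by norm_num) |>.mp this
  omega

end arith3

section nine

variable {G : Type*} [Group G] [Fintype G]

set_option maxRecDepth 4000 in
/-- a real element of order `3` does not have a centralizer of order `9` -/
theorem card_centralizer_three_ne_nine [IsSimpleGroup G] (hG : Nat.card G = 7920)
    [Fintype (Cfsg.IrrCharacter G)] [DecidableEq (Cfsg.IrrCharacter G)] (x j : G)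
    (hx : orderOf x = 3) (hj : j * x * j⁻¹ = x⁻¹) :
    Nat.card (Subgroup.centralizer ({x} : Set G)) ≠ 9 := by
  classical
  intro h9
  obtain ⟨d, hd⟩ : ∃ d : Cfsg.IrrCharacter G → ℕ,
      ∀ χ : Cfsg.IrrCharacter G, Cfsg.charDegree (χ : G → ℂ) = d χ :=
    ⟨fun χ => Cfsg.charDegree (χ : G → ℂ), fun _ => rfl⟩
  obtain ⟨a, b, c, θ1, θ2, χ45, χ11, χ44, χ55, hd1, hda, hdb, hdc, hdθ1, hdθ2, hd45, hd11, hd44,
    hd55, hsplit, -⟩ := ten_characters hG d hd
  have hone : ∀ χ : Cfsg.IrrCharacter G, (χ : G → ℂ) 1 = (d χ : ℂ) := by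
    intro χ
    rw [← hd]
    exact IsCharacter.apply_one_eq_charDegree (IsIrrCharacter.isCharacter χ.2)
  have hx1 : x ≠ 1 := by
    rintro rfl
    rw [orderOf_one] at hx
    omega
  have hval : ∀ χ : Cfsg.IrrCharacter G, ∃ m : ℕ,
      (χ : G → ℂ) x = (d χ : ℂ) - 3 * (m : ℂ) := by
    intro χ
    have := apply_order_three (IsIrrCharacter.isCharacter χ.2) x j hx hj
    rwa [hd] at this
  obtain ⟨ba, hva⟩ := hval a
  obtain ⟨bb, hvb⟩ := hval b
  obtain ⟨bc, hvc⟩ := hval c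
  obtain ⟨bt1, hvt1⟩ := hval θ1
  obtain ⟨bt2, hvt2⟩ := hval θ2
  obtain ⟨bv, hvv⟩ := hval χ45
  obtain ⟨bx, hvx⟩ := hval χ11
  obtain ⟨bw, hvw⟩ := hval χ44
  obtain ⟨bz, hvz⟩ := hval χ55
  rw [hda] at hva
  rw [hdb] at hvb
  rw [hdc] at hvc
  rw [hdθ1] at hvt1
  rw [hdθ2] at hvt2
  rw [hd45] at hvv
  rw [hd11] at hvx
  rw [hd44] at hvw
  rw [hd55] at hvz
  obtain ⟨A, hA⟩ : ∃ A : ℤ, A = 10 - 3 * (ba : ℤ) := ⟨_, rfl⟩
  obtain ⟨B, hB⟩ : ∃ B : ℤ, B = 10 - 3 * (bb : ℤ) := ⟨_, rfl⟩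
  obtain ⟨C, hC⟩ : ∃ C : ℤ, C = 10 - 3 * (bc : ℤ) := ⟨_, rfl⟩
  obtain ⟨T1, hT1⟩ : ∃ T1 : ℤ, T1 = 16 - 3 * (bt1 : ℤ) := ⟨_, rfl⟩
  obtain ⟨T2, hT2⟩ : ∃ T2 : ℤ, T2 = 16 - 3 * (bt2 : ℤ) := ⟨_, rfl⟩
  obtain ⟨V, hV⟩ : ∃ V : ℤ, V = 45 - 3 * (bv : ℤ) := ⟨_, rfl⟩
  obtain ⟨X, hX⟩ : ∃ X : ℤ, X = 11 - 3 * (bx : ℤ) := ⟨_, rfl⟩
  obtain ⟨W, hW⟩ : ∃ W : ℤ, W = 44 - 3 * (bw : ℤ) := ⟨_, rfl⟩
  obtain ⟨Z, hZ⟩ : ∃ Z : ℤ, Z = 55 - 3 * (bz : ℤ) := ⟨_, rfl⟩
  have hvA : (a : G → ℂ) x = (A : ℂ) := by rw [hva, hA]; push_cast; ring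
  have hvB : (b : G → ℂ) x = (B : ℂ) := by rw [hvb, hB]; push_cast; ring
  have hvC : (c : G → ℂ) x = (C : ℂ) := by rw [hvc, hC]; push_cast; ring
  have hvT1 : (θ1 : G → ℂ) x = (T1 : ℂ) := by rw [hvt1, hT1]; push_cast; ring
  have hvT2 : (θ2 : G → ℂ) x = (T2 : ℂ) := by rw [hvt2, hT2]; push_cast; ring
  have hvV : (χ45 : G → ℂ) x = (V : ℂ) := by rw [hvv, hV]; push_cast; ring
  have hvX : (χ11 : G → ℂ) x = (X : ℂ) := by rw [hvx, hX]; push_cast; ring
  have hvW : (χ44 : G → ℂ) x = (W : ℂ) := by rw [hvw, hW]; push_cast; ring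
  have hvZ : (χ55 : G → ℂ) x = (Z : ℂ) := by rw [hvz, hZ]; push_cast; ring
  have hv1 : ((oneIrr G : Cfsg.IrrCharacter G) : G → ℂ) x = 1 := rfl
  have E1 : 1 + A ^ 2 + B ^ 2 + C ^ 2 + T1 ^ 2 + T2 ^ 2 + V ^ 2 + X ^ 2 + W ^ 2 + Z ^ 2 = 9 := by
    have h5 := (sum_irr_mul_conj x x).1 (IsConj.refl x)
    rw [hsplit, hv1, hvA, hvB, hvC, hvT1, hvT2, hvV, hvX, hvW, hvZ, h9] at h5
    simp only [map_one, map_intCast] at h5
    have : ((1 + A ^ 2 + B ^ 2 + C ^ 2 + T1 ^ 2 + T2 ^ 2 + V ^ 2 + X ^ 2 + W ^ 2 + Z ^ 2 : ℤ) : ℂ)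
        = ((9 : ℤ) : ℂ) := by
      push_cast at h5 ⊢
      linear_combination h5
    exact_mod_cast this
  have E2 : 1 + 10 * (A + B + C) + 16 * (T1 + T2) + 45 * V + 11 * X + 44 * W + 55 * Z = 0 := by
    have h4 := (sum_irr_mul_conj 1 x).2 (by
      intro h
      exact hx1 (isConj_one_right.mp h))
    rw [hsplit, hone, hone, hone, hone, hone, hone, hone, hone, hone, hone, hd1, hda, hdb, hdc,
      hdθ1, hdθ2, hd45, hd11, hd44, hd55, hv1, hvA, hvB, hvC, hvT1, hvT2, hvV, hvX, hvW, hvZ] at h4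
    simp only [map_one, map_intCast] at h4
    have : ((1 + 10 * (A + B + C) + 16 * (T1 + T2) + 45 * V + 11 * X + 44 * W + 55 * Z : ℤ) : ℂ)
        = 0 := by
      push_cast
      rw [← h4]
      push_cast
      ring
    exact_mod_cast this
  exact three_arith ba bb bc bt1 bt2 bv bx bw bz A B C T1 T2 V X W Z hA hB hC hT1 hT2 hV hX hW hZ
    E1 E2

end nine

section five

variable {G : Type*} [Group G] [Fintype G]

/-- the Sylow `5`-subgroups are self-centralizing with normalizer of order `20` -/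
theorem sylow5_full [IsSimpleGroup G] (hG : Nat.card G = 7920)
    [Fintype (Cfsg.IrrCharacter G)] [DecidableEq (Cfsg.IrrCharacter G)] :
    ∀ P : Sylow 5 G, Nat.card (Subgroup.centralizer ((P : Subgroup G) : Set G)) = 5 ∧
      Nat.card (Subgroup.normalizer ((P : Subgroup G) : Set G)) = 20 := by
  classical
  haveI : Fact (Nat.Prime 11) := ⟨by norm_num⟩
  haveI : Fact (Nat.Prime 5) := ⟨by norm_num⟩
  obtain ⟨d, hd⟩ : ∃ d : Cfsg.IrrCharacter G → ℕ,
      ∀ χ : Cfsg.IrrCharacter G, Cfsg.charDegree (χ : G → ℂ) = d χ :=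
    ⟨fun χ => Cfsg.charDegree (χ : G → ℂ), fun _ => rfl⟩
  obtain ⟨a, b, c, θ1, θ2, χ45, χ11, χ44, χ55, hd1, hda, hdb, hdc, hdθ1, hdθ2, hd45, hd11, hd44,
    hd55, hsplit, hdeg⟩ := ten_characters hG d hd
  obtain ⟨hn11, hC11, hN11⟩ := sylow11_data hG
  obtain ⟨m, k, hC5, hN5, hk, hk1, hprod, hmod, hnn1⟩ := exists_data (G := G) 5 (card5 hG)
    (by omega)
  obtain ⟨P5⟩ : Nonempty (Sylow 5 G) := inferInstance
  have hP5 := card5 hG P5
  have hm0 : 0 < 5 * m := by
    rw [← hC5 P5]; exact Nat.card_pos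
  have he5 : (Subgroup.centralizer ((P5 : Subgroup G) : Set G)).relIndex
      (Subgroup.normalizer ((P5 : Subgroup G) : Set G)) = k := by
    have h1 := card_mul_relIndex (Subgroup.centralizer_le_normalizer ((P5 : Subgroup G) : Set G))
    rw [hC5 P5, hN5 P5] at h1
    exact Nat.eq_of_mul_eq_mul_left hm0 h1
  have hk' : k = 2 ∨ k = 4 := by
    have h1 : k ≤ 4 := Nat.le_of_dvd (by norm_num) hk
    interval_cases k
    · simp at hk
    · exact absurd rfl hk1
    · left; rfl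
    · norm_num at hk
    · right; rfl
  obtain ⟨M5, hM5⟩ := exists_isPModular 5
  obtain ⟨X5, Y5, σ5, ε5, hmem5, hdisj5, hX5c, hY5c, hX5s, hε5, hY5m, hX5val, hrel5⟩ :=
    brauer_values d hd 5 M5 hM5 (by norm_num) P5 hP5 k he5
  have hk4 : k = 4 := by
    rcases hk' with rfl | rfl
    · exfalso
      obtain ⟨θ5, hθ5⟩ : Y5.Nonempty := by rw [← Finset.card_pos, hY5c]; norm_num
      have hm := hY5m θ5 hθ5
      unfold Int.ModEq at hm
      have hdb' := hdeg θ5
      rcases hε5 with rfl | rfl <;> push_cast at hm <;> omega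
    · rfl
  subst hk4
  have hm1 : m = 1 := sylow5_data hG hC11 hC5 hN5 hprod hmod hnn1
  subst hm1
  intro P
  exact ⟨by rw [hC5 P], by rw [hN5 P]⟩

end five

end Cfsg.Agent.Lib.Helper4.M11
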