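import Mathlib
import Cfsg.Agent.Lib.Helper4.M11j

/-! The normalizer of a Sylow `3`-subgroup in a simple group of order `7920`. -/

set_option autoImplicit false
set_option linter.unusedSectionVars false
set_option linter.unusedVariables false
set_option linter.style.longLine false
set_option linter.unusedSimpArgs false
set_option linter.unusedDecidableInType false

set_option maxHeartbeats 3200000

namespace Cfsg.Agent.Lib.Helper4.M11

open Cfsg Cfsg.Agent.Lib.Helper6 Module
open Cfsg.Agent.Lib.Lead Cfsg.Agent.Lib.Lead.SylowCount Cfsg.Agent.Lib.Lead.SmallSimple2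
  Cfsg.Agent.Lib.Helper7.CountTools Cfsg.Agent.Lib.Helper7.SylPar Cfsg.Agent.Lib.Helper4.Ord5040
  Cfsg.Agent.Lib.Helper5.BrauerSmall
open scoped ComplexConjugate

section small

variable {G : Type*} [Group G] [Fintype G]

theorem orderOf_eq_of_isConj {a b : G} (h : IsConj a b) : orderOf a = orderOf b := by
  obtain ⟨c, rfl⟩ := isConj_iff.mp h
  have := MulEquiv.orderOf_eq (MulAut.conj c) a
  rw [MulAut.conj_apply] at this
  exact this.symm

theorem not_isConj_of_orderOf_ne {a b : G} (h : orderOf a ≠ orderOf b) : ¬ IsConj a b :=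
  fun hc => h (orderOf_eq_of_isConj hc)

variable [IsSimpleGroup G] [Fintype (Cfsg.IrrCharacter G)] [DecidableEq (Cfsg.IrrCharacter G)]

theorem card_centralizer_order5 (hG : Nat.card G = 7920) {g : G} (hg : orderOf g = 5) :
    Nat.card (Subgroup.centralizer ({g} : Set G)) = 5 := by
  haveI : Fact (Nat.Prime 5) := ⟨by norm_num⟩
  obtain ⟨P, hgP, hC⟩ := centralizer_singleton_eq_sylow (card5 hG) hg
  rw [hC]
  exact (sylow5_full hG P).1

omit [Fintype (Cfsg.IrrCharacter G)] [DecidableEq (Cfsg.IrrCharacter G)] in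
theorem card_centralizer_order11 (hG : Nat.card G = 7920) {g : G} (hg : orderOf g = 11) :
    Nat.card (Subgroup.centralizer ({g} : Set G)) = 11 := by
  haveI : Fact (Nat.Prime 11) := ⟨by norm_num⟩
  obtain ⟨P, hgP, hC⟩ := centralizer_singleton_eq_sylow (card11 hG) hg
  rw [hC]
  exact (sylow11_data hG).2.1 P

omit [Fintype (Cfsg.IrrCharacter G)] [DecidableEq (Cfsg.IrrCharacter G)] in
theorem card9 (hG : Nat.card G = 7920) (Q : Sylow 3 G) : Nat.card Q = 9 := by
  haveI : Fact (Nat.Prime 3) := ⟨by norm_num⟩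
  exact card_sylow_of_card_eq_pow 3 2 880 (by omega) (by norm_num) Q

omit [Fintype (Cfsg.IrrCharacter G)] [DecidableEq (Cfsg.IrrCharacter G)] [IsSimpleGroup G] in
theorem sylow3_comm (Q : Sylow 3 G) (hQ : Nat.card Q = 9) :
    ∀ a ∈ (Q : Subgroup G), ∀ b ∈ (Q : Subgroup G), a * b = b * a := by
  haveI : Fact (Nat.Prime 3) := ⟨by norm_num⟩
  intro a ha b hb
  have h := IsPGroup.commutative_of_card_eq_prime_sq (p := 3) (G := ↥(Q : Subgroup G))
    (by rw [hQ]; norm_num)
  have := h ⟨a, ha⟩ ⟨b, hb⟩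
  exact congrArg Subtype.val this

/-- an element commuting with an element of order `5` or `11` -/
theorem orderOf_dvd_of_commute (hG : Nat.card G = 7920) {g x : G} (p : ℕ)
    (hp : p = 5 ∨ p = 11) (hg : orderOf g = p) (hc : x * g = g * x) : orderOf x ∣ p := by
  have hx : x ∈ Subgroup.centralizer ({g} : Set G) := by
    rw [Subgroup.mem_centralizer_singleton_iff]
    exact hc
  have h := Subgroup.orderOf_dvd_natCard _ hx
  rcases hp with rfl | rfl
  · rwa [card_centralizer_order5 hG hg] at h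
  · rwa [card_centralizer_order11 hG hg] at h

/-- an element of order `11` is not conjugate to its inverse -/
theorem not_isConj_inv_order11 (hG : Nat.card G = 7920) {y : G} (hy : orderOf y = 11) :
    ¬ IsConj y y⁻¹ := by
  haveI : Fact (Nat.Prime 11) := ⟨by norm_num⟩
  intro hconj
  obtain ⟨P, hyP, hC⟩ := centralizer_singleton_eq_sylow (card11 hG) hy
  have hPcard := card11 hG P
  haveI : IsMulCommutative ↥(P : Subgroup G) :=
    ⟨⟨fun a b => Subtype.ext (commute_of_card_prime (P : Subgroup G) hPcard a.2 b.2)⟩⟩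
  obtain ⟨c, hc⟩ := isConj_iff.mp hconj
  have hmem : (c⁻¹)⁻¹ * y * c⁻¹ ∈ (P : Subgroup G) := by
    rw [inv_inv, hc]
    exact (P : Subgroup G).inv_mem hyP
  obtain ⟨n, hn, hnc⟩ := Sylow.conj_eq_normalizer_conj_of_mem P y c⁻¹ hyP hmem
  rw [inv_inv, hc] at hnc
  replace hnc : n⁻¹ * y * n = y⁻¹ := hnc.symm
  have hN55 := (sylow11_data hG).2.2 P
  have hC11 := (sylow11_data hG).2.1 P
  have hn55 : n ^ 55 = 1 := by
    have h1 := Subgroup.orderOf_dvd_natCard
      (Subgroup.normalizer ((P : Subgroup G) : Set G)) hn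
    rw [hN55] at h1
    exact orderOf_dvd_iff_pow_eq_one.mp h1
  have hsq : n ^ 2 * y = y * n ^ 2 := by
    have h1 : n⁻¹ * y⁻¹ * n = y := by
      calc n⁻¹ * y⁻¹ * n = (n⁻¹ * y * n)⁻¹ := by group
        _ = y := by rw [hnc, inv_inv]
    calc n ^ 2 * y = n ^ 2 * (n⁻¹ * y⁻¹ * n) := by rw [h1]
      _ = n * y⁻¹ * n := by rw [pow_two]; group
      _ = n * (n⁻¹ * y * n) * n := by rw [hnc]
      _ = y * n ^ 2 := by rw [pow_two]; group
  have hn2mem : n ^ 2 ∈ Subgroup.centralizer ({y} : Set G) := by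
    rw [Subgroup.mem_centralizer_singleton_iff]
    exact hsq
  have hn22 : (n ^ 2) ^ 11 = 1 := by
    have h1 := Subgroup.orderOf_dvd_natCard _ hn2mem
    rw [hC, hC11] at h1
    exact orderOf_dvd_iff_pow_eq_one.mp h1
  have hn11 : n ^ 11 = 1 := by
    have h1 : n ^ 55 = (n ^ 2) ^ 11 * (n ^ 2) ^ 11 * n ^ 11 := by
      rw [← pow_mul, ← pow_add, ← pow_add]
    rw [hn55, hn22, one_mul, one_mul] at h1
    exact h1.symm
  have hn1 : n = (n ^ 2) ^ 6 := by
    calc n = n ^ 11 * n := by rw [hn11, one_mul]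
      _ = (n ^ 2) ^ 6 := by rw [← pow_mul, ← pow_succ]
  have hcomm : n * y = y * n := by
    have h6 : (n ^ 2) ^ 6 ∈ Subgroup.centralizer ({y} : Set G) := Subgroup.pow_mem _ hn2mem 6
    rw [← hn1, Subgroup.mem_centralizer_singleton_iff] at h6
    exact h6
  have hyy : y = y⁻¹ := by
    calc y = n⁻¹ * (n * y) := by group
      _ = n⁻¹ * (y * n) := by rw [hcomm]
      _ = n⁻¹ * y * n := by group
      _ = y⁻¹ := hnc
  have hy2 : y ^ 2 = 1 := by
    rw [pow_two]
    nth_rewrite 2 [hyy]
    exact mul_inv_cancel y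
  have := orderOf_dvd_of_pow_eq_one hy2
  rw [hy] at this
  omega

end small

section fixed

variable {G : Type*} [Group G] [Fintype G]

/-- an element of order `5` or `11` normalizing a group of order `9` fixes a non-identity element -/
theorem exists_fixed_of_normalizer {p : ℕ} [Fact p.Prime] (Q : Subgroup G) (hQ : Nat.card Q = 9)
    (hp5 : p = 5 ∨ p = 11) {g : G} (hgN : g ∈ Subgroup.normalizer (Q : Set G))
    (hg : g ^ p = 1) : ∃ q ∈ Q, q ≠ 1 ∧ g * q * g⁻¹ = q := by
  classical
  let f : Function.End ↥Q := fun q => ⟨g * q * g⁻¹, (Subgroup.mem_normalizer_iff.mp hgN q).mp q.2⟩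
  have hpow : ∀ (k : ℕ) (q : ↥Q), (((f ^ k) q : ↥Q) : G) = g ^ k * q * (g ^ k)⁻¹ := by
    intro k
    induction k with
    | zero =>
      intro q
      rw [pow_zero, pow_zero, one_mul, inv_one, mul_one]
      rfl
    | succ k ih =>
      intro q
      rw [pow_succ, Function.End.mul_def]
      show (((f ^ k) (f q) : ↥Q) : G) = g ^ (k + 1) * q * (g ^ (k + 1))⁻¹
      rw [ih]
      show g ^ k * (g * q * g⁻¹) * (g ^ k)⁻¹ = g ^ (k + 1) * q * (g ^ (k + 1))⁻¹
      rw [pow_succ]; group
  have hf : f ^ p ^ 1 = 1 := by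
    funext q
    apply Subtype.ext
    rw [pow_one, hpow, hg]
    rw [one_mul, inv_one, mul_one]
    rfl
  have hmod := Equiv.Perm.card_fixedPoints_modEq (f := f) hf
  have hcard : Fintype.card ↥Q = 9 := by rw [← Nat.card_eq_fintype_card, hQ]
  rw [hcard] at hmod
  have h2 : 1 < Fintype.card (Function.fixedPoints f) := by
    unfold Nat.ModEq at hmod
    have hle : Fintype.card (Function.fixedPoints f) ≤ 9 := by
      rw [← hcard]; exact Fintype.card_subtype_le _
    rcases hp5 with rfl | rfl <;> omega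
  obtain ⟨q, hq⟩ := Fintype.exists_ne_of_one_lt_card h2
    ⟨(1 : ↥Q), by
      show f 1 = 1
      apply Subtype.ext
      show g * (1 : G) * g⁻¹ = 1
      group⟩
  refine ⟨((q : ↥Q) : G), (q : ↥Q).2, ?_, ?_⟩
  · intro h
    apply hq
    apply Subtype.ext
    apply Subtype.ext
    exact h
  · have := q.2
    have h3 : f (q : ↥Q) = (q : ↥Q) := this
    exact congrArg Subtype.val h3

end fixed

section sylow3

variable {G : Type*} [Group G] [Fintype G] [IsSimpleGroup G]
  [Fintype (Cfsg.IrrCharacter G)] [DecidableEq (Cfsg.IrrCharacter G)]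

/-- the centralizer order of a non-identity element of a Sylow `3`-subgroup -/
theorem card_centralizer_three_dvd (hG : Nat.card G = 7920) (Q : Sylow 3 G) {x : G}
    (hxQ : x ∈ (Q : Subgroup G)) (hx1 : x ≠ 1) :
    9 ∣ Nat.card (Subgroup.centralizer ({x} : Set G)) ∧
      Nat.card (Subgroup.centralizer ({x} : Set G)) ∣ 144 := by
  haveI : Fact (Nat.Prime 5) := ⟨by norm_num⟩
  haveI : Fact (Nat.Prime 11) := ⟨by norm_num⟩
  have hQ := card9 hG Q
  have hcomm := sylow3_comm Q hQ
  have hle : (Q : Subgroup G) ≤ Subgroup.centralizer ({x} : Set G) := by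
    intro q hq
    rw [Subgroup.mem_centralizer_singleton_iff]
    exact hcomm q hq x hxQ
  have h9 : 9 ∣ Nat.card (Subgroup.centralizer ({x} : Set G)) := by
    have := Subgroup.card_dvd_of_le hle
    rwa [show Nat.card (Q : Subgroup G) = 9 from hQ] at this
  refine ⟨h9, ?_⟩
  have hxo : orderOf x ∣ 9 := by
    have := Subgroup.orderOf_dvd_natCard _ hxQ
    rwa [show Nat.card (Q : Subgroup G) = 9 from hQ] at this
  have hnot : ∀ p : ℕ, p = 5 ∨ p = 11 → p.Prime →
      ¬ p ∣ Nat.card (Subgroup.centralizer ({x} : Set G)) := by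
    intro p hp hpp hdvd
    haveI : Fact p.Prime := ⟨hpp⟩
    obtain ⟨g, hg⟩ := exists_prime_orderOf_dvd_card' p hdvd
    have hgo : orderOf (g : G) = p := by rw [Subgroup.orderOf_coe]; exact hg
    have hgc := g.2
    rw [Subgroup.mem_centralizer_singleton_iff] at hgc
    have h1 := orderOf_dvd_of_commute hG p hp hgo hgc.symm
    have h2 : orderOf x ∣ Nat.gcd p 9 := Nat.dvd_gcd h1 hxo
    have h3 : Nat.gcd p 9 = 1 := by rcases hp with rfl | rfl <;> norm_num
    rw [h3, Nat.dvd_one, orderOf_eq_one_iff] at h2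
    exact hx1 h2
  have hdvd : Nat.card (Subgroup.centralizer ({x} : Set G)) ∣ 144 * 55 := by
    have := Subgroup.card_subgroup_dvd_card (Subgroup.centralizer ({x} : Set G))
    rwa [hG] at this
  have hcop : Nat.Coprime (Nat.card (Subgroup.centralizer ({x} : Set G))) 55 := by
    have h5 := hnot 5 (Or.inl rfl) (by norm_num)
    have h11 := hnot 11 (Or.inr rfl) (by norm_num)
    have : (55 : ℕ) = 5 * 11 := by norm_num
    rw [this]
    apply Nat.Coprime.mul_right
    · exact (Nat.Coprime.symm ((Nat.Prime.coprime_iff_not_dvd (by norm_num)).mpr h5))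
    · exact (Nat.Coprime.symm ((Nat.Prime.coprime_iff_not_dvd (by norm_num)).mpr h11))
  exact Nat.Coprime.dvd_of_dvd_mul_right hcop hdvd

/-- `5` and `11` do not divide the order of the normalizer of a Sylow `3`-subgroup -/
theorem not_dvd_card_normalizer (hG : Nat.card G = 7920) (Q : Sylow 3 G) (p : ℕ)
    (hp : p = 5 ∨ p = 11) :
    ¬ p ∣ Nat.card (Subgroup.normalizer ((Q : Subgroup G) : Set G)) := by
  intro hdvd
  have hpp : p.Prime := by rcases hp with rfl | rfl <;> norm_num
  haveI : Fact p.Prime := ⟨hpp⟩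
  obtain ⟨g, hg⟩ := exists_prime_orderOf_dvd_card' p hdvd
  have hgo : orderOf (g : G) = p := by rw [Subgroup.orderOf_coe]; exact hg
  have hgp : (g : G) ^ p = 1 := by rw [← hgo]; exact pow_orderOf_eq_one _
  obtain ⟨q, hqQ, hq1, hfix⟩ := exists_fixed_of_normalizer (Q : Subgroup G) (card9 hG Q) hp g.2 hgp
  have hc : q * (g : G) = (g : G) * q := by
    calc q * (g : G) = ((g : G) * q * (g : G)⁻¹) * (g : G) := by rw [hfix]
      _ = (g : G) * q := by group
  have h1 := orderOf_dvd_of_commute hG p hp hgo hc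
  have hqo : orderOf q ∣ 9 := by
    have := Subgroup.orderOf_dvd_natCard _ hqQ
    rwa [show Nat.card (Q : Subgroup G) = 9 from card9 hG Q] at this
  have h2 : orderOf q ∣ Nat.gcd p 9 := Nat.dvd_gcd h1 hqo
  have h3 : Nat.gcd p 9 = 1 := by rcases hp with rfl | rfl <;> norm_num
  rw [h3, Nat.dvd_one, orderOf_eq_one_iff] at h2
  exact hq1 h2

/-- the possible orders of the normalizer of a Sylow `3`-subgroup -/
theorem card_normalizer_cases (hG : Nat.card G = 7920) (Q : Sylow 3 G) :
    Nat.card (Subgroup.normalizer ((Q : Subgroup G) : Set G)) = 9 ∨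
    Nat.card (Subgroup.normalizer ((Q : Subgroup G) : Set G)) = 36 ∨
    Nat.card (Subgroup.normalizer ((Q : Subgroup G) : Set G)) = 144 := by
  haveI : Fact (Nat.Prime 3) := ⟨by norm_num⟩
  have h1 : Nat.card (Sylow 3 G) * Nat.card (Subgroup.normalizer ((Q : Subgroup G) : Set G)) =
      Nat.card G := card_sylow_mul_card_normalizer 3 Q
  rw [hG] at h1
  have h9 : 9 ∣ Nat.card (Subgroup.normalizer ((Q : Subgroup G) : Set G)) := by
    have := Subgroup.card_dvd_of_le (Subgroup.le_normalizer : (Q : Subgroup G) ≤ _)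
    rwa [show Nat.card (Q : Subgroup G) = 9 from card9 hG Q] at this
  have hmod := card_sylow_modEq_one 3 G
  have h5 := not_dvd_card_normalizer hG Q 5 (Or.inl rfl)
  have h11 := not_dvd_card_normalizer hG Q 11 (Or.inr rfl)
  set c := Nat.card (Subgroup.normalizer ((Q : Subgroup G) : Set G)) with hc
  set n := Nat.card (Sylow 3 G) with hn
  have hdvd : c ∣ 144 * 55 := ⟨n, by
    have : 144 * 55 = 7920 := by norm_num
    rw [this, ← h1, mul_comm]⟩
  have hcop : Nat.Coprime c 55 := by
    have : (55 : ℕ) = 5 * 11 := by norm_num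
    rw [this]
    apply Nat.Coprime.mul_right
    · exact (Nat.Coprime.symm ((Nat.Prime.coprime_iff_not_dvd (by norm_num)).mpr h5))
    · exact (Nat.Coprime.symm ((Nat.Prime.coprime_iff_not_dvd (by norm_num)).mpr h11))
  have h144 : c ∣ 144 := Nat.Coprime.dvd_of_dvd_mul_right hcop hdvd
  obtain ⟨k, hk⟩ := h9
  have hk16 : k ∣ 16 := by
    rw [hk] at h144
    have : 9 * k ∣ 9 * 16 := h144
    exact Nat.dvd_of_mul_dvd_mul_left (by norm_num) this
  have hkle : k ≤ 16 := Nat.le_of_dvd (by norm_num) hk16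
  unfold Nat.ModEq at hmod
  rw [hk] at h1
  interval_cases k <;> omega

/-- the normalizer of a Sylow `3`-subgroup does not have order `9` -/
theorem card_normalizer_ne_nine (hG : Nat.card G = 7920) (Q : Sylow 3 G) :
    Nat.card (Subgroup.normalizer ((Q : Subgroup G) : Set G)) ≠ 9 := by
  haveI : Fact (Nat.Prime 3) := ⟨by norm_num⟩
  intro h
  have hQ := card9 hG Q
  have hcomm := sylow3_comm Q hQ
  have hNQ : Subgroup.normalizer ((Q : Subgroup G) : Set G) = (Q : Subgroup G) := by
    symm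
    apply Subgroup.eq_of_le_of_card_ge Subgroup.le_normalizer
    rw [h]; exact le_of_eq hQ.symm
  have hNC : Subgroup.normalizer ((Q : Subgroup G) : Set G) ≤
      Subgroup.centralizer ((Q : Subgroup G) : Set G) := by
    rw [hNQ]
    intro x hx
    rw [Subgroup.mem_centralizer_iff]
    intro y hy
    exact hcomm y hy x hx
  have hcomp := MonoidHom.ker_transferSylow_isComplement' Q hNC
  have hcard := hcomp.card_mul_card
  rw [show Nat.card (Q : Subgroup G) = 9 from hQ, hG] at hcard
  rcases (MonoidHom.transferSylow Q hNC).normal_ker.eq_bot_or_eq_top with hb | ht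
  · rw [hb, Subgroup.card_bot] at hcard
    omega
  · rw [ht, Subgroup.card_top, hG] at hcard
    omega

end sylow3

section typeI

variable {G : Type*} [Group G] [Fintype G] [IsSimpleGroup G]
  [Fintype (Cfsg.IrrCharacter G)] [DecidableEq (Cfsg.IrrCharacter G)]

/-- every class has at most `1980` elements -/
theorem class_size_le (hG : Nat.card G = 7920) (z : G) :
    Nat.card G / Nat.card (Subgroup.centralizer ({z} : Set G)) ≤ 1980 := by
  haveI : Fact (Nat.Prime 3) := ⟨by norm_num⟩
  have h4 : 4 ≤ Nat.card (Subgroup.centralizer ({z} : Set G)) := by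
    have hzp : Subgroup.zpowers z ≤ Subgroup.centralizer ({z} : Set G) := by
      rw [Subgroup.zpowers_le, Subgroup.mem_centralizer_singleton_iff]
    have hle : orderOf z ≤ Nat.card (Subgroup.centralizer ({z} : Set G)) := by
      rw [← Nat.card_zpowers]
      exact Nat.le_of_dvd Nat.card_pos (Subgroup.card_dvd_of_le hzp)
    by_cases h : 4 ≤ orderOf z
    · omega
    · have hpos := orderOf_pos z
      have hcases : orderOf z = 1 ∨ orderOf z = 2 ∨ orderOf z = 3 := by omega
      rcases hcases with h1 | h2 | h3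
      · rw [orderOf_eq_one_iff] at h1
        subst h1
        have : Subgroup.centralizer ({(1 : G)} : Set G) = ⊤ := by
          rw [eq_top_iff]
          intro g _
          rw [Subgroup.mem_centralizer_singleton_iff, mul_one, one_mul]
        rw [this, Subgroup.card_top, hG]
        norm_num
      · rw [card_centralizer_involution hG z h2]
        norm_num
      · have hpg : IsPGroup 3 (Subgroup.zpowers z) :=
          IsPGroup.of_card (n := 1) (by rw [Nat.card_zpowers, h3, pow_one])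
        obtain ⟨Q, hQ⟩ := hpg.exists_le_sylow
        have hz1 : z ≠ 1 := by
          rintro rfl
          rw [orderOf_one] at h3
          omega
        have := (card_centralizer_three_dvd hG Q (hQ (Subgroup.mem_zpowers z)) hz1).1
        have := Nat.le_of_dvd Nat.card_pos this
        omega
  rw [hG]
  calc 7920 / Nat.card (Subgroup.centralizer ({z} : Set G)) ≤ 7920 / 4 :=
        Nat.div_le_div_left h4 (by norm_num)
    _ = 1980 := by norm_num

/-- the structure of the centralizer of an element of order `3` with small local centralizer -/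
theorem typeI_data (hG : Nat.card G = 7920) (Q : Sylow 3 G) {x j : G}
    (hxQ : x ∈ (Q : Subgroup G)) (hxo : orderOf x = 3)
    (hcN : Nat.card ↥(Subgroup.normalizer ((Q : Subgroup G) : Set G) ⊓
      Subgroup.centralizer ({x} : Set G)) = 9) (hj : j * x * j⁻¹ = x⁻¹) :
    36 ≤ Nat.card (Subgroup.centralizer ({x} : Set G)) ∧
    ∃ τ : G, orderOf τ = 2 ∧ τ * x = x * τ ∧
      12 ≤ Nat.card (Subgroup.centralizer ({x * τ} : Set G)) := by
  haveI : Fact (Nat.Prime 2) := ⟨by norm_num⟩
  have hx1 : x ≠ 1 := by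
    rintro rfl
    rw [orderOf_one] at hxo
    omega
  have hQ := card9 hG Q
  have hcomm := sylow3_comm Q hQ
  obtain ⟨h9, h144⟩ := card_centralizer_three_dvd hG Q hxQ hx1
  have hne9 := card_centralizer_three_ne_nine hG x j hxo hj
  set C := Subgroup.centralizer ({x} : Set G) with hC
  have hQC : (Q : Subgroup G) ≤ C := by
    intro q hq
    rw [hC, Subgroup.mem_centralizer_singleton_iff]
    exact hcomm q hq x hxQ
  have hne18 : Nat.card C ≠ 18 := by
    intro h18
    have hrel := card_mul_relIndex hQC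
    rw [show Nat.card (Q : Subgroup G) = 9 from hQ, h18] at hrel
    have hidx : ((Q : Subgroup G).subgroupOf C).index = 2 := by
      have : (Q : Subgroup G).relIndex C = 2 := by omega
      exact this
    have hnorm : ((Q : Subgroup G).subgroupOf C).Normal := Subgroup.normal_of_index_eq_two hidx
    have hCN : C ≤ Subgroup.normalizer ((Q : Subgroup G) : Set G) :=
      (Subgroup.normal_subgroupOf_iff_le_normalizer hQC).mp hnorm
    have : Subgroup.normalizer ((Q : Subgroup G) : Set G) ⊓ C = C := inf_eq_right.mpr hCN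
    rw [this, h18] at hcN
    omega
  have hcases : Nat.card C = 36 ∨ Nat.card C = 72 ∨ Nat.card C = 144 := by
    obtain ⟨k, hk⟩ := h9
    have hk16 : k ∣ 16 := by
      rw [hk] at h144
      have : 9 * k ∣ 9 * 16 := h144
      exact Nat.dvd_of_mul_dvd_mul_left (by norm_num) this
    have hkle : k ≤ 16 := Nat.le_of_dvd (by norm_num) hk16
    rw [hk] at hne9 hne18 ⊢
    interval_cases k <;> simp_all
  have h36 : 36 ≤ Nat.card C := by rcases hcases with h | h | h <;> omega
  have h4 : 2 ^ 2 ∣ Nat.card C := by rcases hcases with h | h | h <;> rw [h] <;> norm_num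
  refine ⟨h36, ?_⟩
  obtain ⟨K, hK⟩ := Sylow.exists_subgroup_card_pow_prime 2 h4
  have hKcomm := IsPGroup.commutative_of_card_eq_prime_sq (p := 2) (G := ↥K) hK
  have h2K : 2 ∣ Nat.card K := by rw [hK]; norm_num
  obtain ⟨τ', hτ'⟩ := exists_prime_orderOf_dvd_card' 2 h2K
  set τ : G := ((τ' : ↥C) : G) with hτ
  have hτo : orderOf τ = 2 := by
    rw [hτ, Subgroup.orderOf_coe, Subgroup.orderOf_coe]
    exact hτ'
  have hτc : τ * x = x * τ := by
    exact Subgroup.mem_centralizer_singleton_iff.mp (τ' : ↥C).2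
  refine ⟨τ, hτo, hτc, ?_⟩
  set D := Subgroup.centralizer ({x * τ} : Set G) with hD
  have hKD : K.map C.subtype ≤ D := by
    rintro _ ⟨k, hk, rfl⟩
    rw [hD, Subgroup.mem_centralizer_singleton_iff]
    have h1 : (k : G) * x = x * (k : G) := by
      exact Subgroup.mem_centralizer_singleton_iff.mp k.2
    have h2 : (k : G) * τ = τ * (k : G) := by
      have := hKcomm ⟨k, hk⟩ τ'
      have := congrArg (fun z : ↥K => ((z : ↥C) : G)) this
      exact this
    show (k : G) * (x * τ) = x * τ * (k : G)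
    calc (k : G) * (x * τ) = ((k : G) * x) * τ := by group
      _ = x * ((k : G) * τ) := by rw [h1]; group
      _ = x * τ * (k : G) := by rw [h2]; group
  have h4D : 4 ∣ Nat.card D := by
    have := Subgroup.card_dvd_of_le hKD
    rwa [Subgroup.card_map_of_injective C.subtype_injective, hK] at this
  have h3D : 3 ∣ Nat.card D := by
    have hxD : x ∈ D := by
      rw [hD, Subgroup.mem_centralizer_singleton_iff]
      calc x * (x * τ) = x * (τ * x) := by rw [hτc]
        _ = x * τ * x := by group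
    have := Subgroup.orderOf_dvd_natCard _ hxD
    rwa [hxo] at this
  have h12 : 12 ∣ Nat.card D := by
    have : Nat.Coprime 4 3 := by norm_num
    exact (this.mul_dvd_of_dvd_of_dvd h4D h3D)
  exact Nat.le_of_dvd Nat.card_pos h12

end typeI

section main

variable {G : Type*} [Group G] [Fintype G] [IsSimpleGroup G]
  [Fintype (Cfsg.IrrCharacter G)] [DecidableEq (Cfsg.IrrCharacter G)]

/-- a simple group of order `7920` has ten conjugacy classes -/
theorem card_conjClasses (hG : Nat.card G = 7920) : Nat.card (ConjClasses G) = 10 := by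
  classical
  obtain ⟨d, hd⟩ : ∃ d : Cfsg.IrrCharacter G → ℕ,
      ∀ χ : Cfsg.IrrCharacter G, Cfsg.charDegree (χ : G → ℂ) = d χ :=
    ⟨fun χ => Cfsg.charDegree (χ : G → ℂ), fun _ => rfl⟩
  obtain ⟨a, b, c, θ1, θ2, χ45, χ11, χ44, χ55, -, -, -, -, -, -, -, -, -, -, hsplit, -⟩ :=
    ten_characters hG d hd
  rw [← card_irrCharacter, Nat.card_eq_fintype_card]
  have h := hsplit (fun _ => 1)
  simp only [Finset.sum_const, Finset.card_univ, nsmul_eq_mul, mul_one] at h
  have h2 : ((Fintype.card (Cfsg.IrrCharacter G) : ℕ) : ℂ) = ((10 : ℕ) : ℂ) := by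
    rw [h]; norm_num
  exact_mod_cast h2

omit [IsSimpleGroup G] [Fintype (Cfsg.IrrCharacter G)] [DecidableEq (Cfsg.IrrCharacter G)] in
theorem pow_ten_mul_involution {x ρ : G} (hx : x ^ 9 = 1) (hρ : orderOf ρ = 2)
    (hc : ρ * x = x * ρ) : (x * ρ) ^ 10 = x := by
  have hρ2 : ρ ^ 2 = 1 := by rw [← hρ]; exact pow_orderOf_eq_one ρ
  have hcomm : Commute x ρ := hc.symm
  rw [hcomm.mul_pow]
  have h1 : x ^ 10 = x := by rw [pow_succ, hx, one_mul]
  have h2 : ρ ^ 10 = 1 := by
    rw [show (10 : ℕ) = 2 * 5 by norm_num, pow_mul, hρ2, one_pow]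
  rw [h1, h2, mul_one]

set_option maxRecDepth 8000 in
/-- the normalizer of a Sylow `3`-subgroup does not have order `36` -/
theorem card_normalizer_ne_36 (hG : Nat.card G = 7920) (Q : Sylow 3 G) :
    Nat.card (Subgroup.normalizer ((Q : Subgroup G) : Set G)) ≠ 36 := by
  classical
  haveI : Fact (Nat.Prime 2) := ⟨by norm_num⟩
  haveI : Fact (Nat.Prime 3) := ⟨by norm_num⟩
  haveI : Fact (Nat.Prime 5) := ⟨by norm_num⟩
  haveI : Fact (Nat.Prime 11) := ⟨by norm_num⟩
  intro h36
  set N := Subgroup.normalizer ((Q : Subgroup G) : Set G) with hN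
  have hQ : Nat.card (Q : Subgroup G) = 9 := card9 hG Q
  have hcomm := sylow3_comm Q hQ
  have hQN : (Q : Subgroup G) ≤ N := Subgroup.le_normalizer
  have hnorm : ∀ n ∈ N, ∀ q ∈ (Q : Subgroup G), n * q * n⁻¹ ∈ (Q : Subgroup G) := by
    intro n hn q hq
    exact (Subgroup.mem_normalizer_iff.mp hn q).mp hq
  have hk := card_conjClasses hG
  haveI : IsMulCommutative ↥(Q : Subgroup G) :=
    ⟨⟨fun a b => Subtype.ext (hcomm a a.2 b b.2)⟩⟩
  -- fusion
  have hfus : ∀ x ∈ (Q : Subgroup G), ∀ x' ∈ (Q : Subgroup G), IsConj x x' → x' ∈ orb N x := by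
    intro x hx x' hx' hconj
    obtain ⟨c, hc⟩ := isConj_iff.mp hconj
    have hmem : (c⁻¹)⁻¹ * x * c⁻¹ ∈ (Q : Subgroup G) := by
      rw [inv_inv, hc]; exact hx'
    obtain ⟨n, hn, hnc⟩ := Sylow.conj_eq_normalizer_conj_of_mem Q x c⁻¹ hx hmem
    rw [inv_inv, hc] at hnc
    refine mem_orb.mpr ⟨n⁻¹, N.inv_mem hn, ?_⟩
    rw [inv_inv]
    exact hnc
  -- the common elements
  have h2G : 2 ∣ Nat.card G := by rw [hG]; norm_num
  have h5G : 5 ∣ Nat.card G := by rw [hG]; norm_num
  have h11G : 11 ∣ Nat.card G := by rw [hG]; norm_num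
  obtain ⟨t, ht⟩ := exists_prime_orderOf_dvd_card' 2 h2G
  obtain ⟨y5, hy5⟩ := exists_prime_orderOf_dvd_card' 5 h5G
  obtain ⟨y, hy⟩ := exists_prime_orderOf_dvd_card' 11 h11G
  have hyi : orderOf y⁻¹ = 11 := by rw [orderOf_inv]; exact hy
  have hCt := card_centralizer_involution hG t ht
  have hCy5 := card_centralizer_order5 hG hy5
  have hCy := card_centralizer_order11 hG hy
  have hCyi := card_centralizer_order11 hG hyi
  have hyy := not_isConj_inv_order11 hG hy
  have h1o : orderOf (1 : G) = 1 := orderOf_one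
  have hC1 : Nat.card (Subgroup.centralizer ({(1 : G)} : Set G)) = 7920 := by
    have : Subgroup.centralizer ({(1 : G)} : Set G) = ⊤ := by
      rw [eq_top_iff]
      intro g _
      rw [Subgroup.mem_centralizer_singleton_iff, mul_one, one_mul]
    rw [this, Subgroup.card_top, hG]
  have hB := class_size_le hG
  have hordQ : ∀ x ∈ (Q : Subgroup G), x ≠ 1 → (orderOf x = 3 ∨ orderOf x = 9) ∧ x ^ 9 = 1 := by
    intro x hx hx1
    have hdvd := Subgroup.orderOf_dvd_natCard _ hx
    rw [hQ] at hdvd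
    have hle : orderOf x ≤ 9 := Nat.le_of_dvd (by norm_num) hdvd
    have hne1 : orderOf x ≠ 1 := fun h => hx1 (orderOf_eq_one_iff.mp h)
    refine ⟨?_, orderOf_dvd_iff_pow_eq_one.mp hdvd⟩
    interval_cases h : orderOf x <;> simp_all
  rcases order36_cases N (Q : Subgroup G) h36 hQ hQN hnorm hcomm with
    ⟨x1, hx1Q, x2, hx2Q, hx11, hx21, hx2o, hc1, hc2, ho1, ho2, j, hjN, hjo, hj1, hj2⟩ |
    ⟨x1, hx1Q, x2, hx2Q, x3, hx3Q, hx11, hx21, hx31, h12, h13, h23, ρ2, hρ2N, hρ2o, hρ2c,
      ρ3, hρ3N, hρ3o, hρ3c⟩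
  · -- two classes with small local centralizers
    obtain ⟨hC1x, τ1, hτ1o, hτ1c, hD1⟩ := typeI_data hG Q hx1Q ho1 hc1 hj1
    obtain ⟨hC2x, τ2, hτ2o, hτ2c, hD2⟩ := typeI_data hG Q hx2Q ho2 hc2 hj2
    have hx19 : x1 ^ 9 = 1 := (hordQ x1 hx1Q hx11).2
    have hx29 : x2 ^ 9 = 1 := (hordQ x2 hx2Q hx21).2
    have ho1τ : orderOf (x1 * τ1) = 6 := by
      have hc : Commute x1 τ1 := hτ1c.symm
      rw [hc.orderOf_mul_eq_mul_orderOf_of_coprime (by rw [ho1, hτ1o]; norm_num), ho1, hτ1o]
    have ho2τ : orderOf (x2 * τ2) = 6 := by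
      have hc : Commute x2 τ2 := hτ2c.symm
      rw [hc.orderOf_mul_eq_mul_orderOf_of_coprime (by rw [ho2, hτ2o]; norm_num), ho2, hτ2o]
    have hn12 : ¬ IsConj x1 x2 := fun h => hx2o (hfus x1 hx1Q x2 hx2Q h)
    have hn12τ : ¬ IsConj (x1 * τ1) (x2 * τ2) := by
      intro h
      have h10 := h.pow 10
      rw [pow_ten_mul_involution hx19 hτ1o hτ1c, pow_ten_mul_involution hx29 hτ2o hτ2c] at h10
      exact hn12 h10
    have hne := @not_isConj_of_orderOf_ne G _ _
    have hl : ([1, t, y, y⁻¹, y5, x1, x2, x1 * τ1, x2 * τ2] : List G).Pairwise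
        (fun a b => ¬ IsConj a b) := by
      simp only [List.pairwise_cons, List.mem_cons, List.not_mem_nil, or_false, forall_eq_or_imp,
        forall_eq, IsEmpty.forall_iff, implies_true, List.Pairwise.nil, and_true]
      refine ⟨⟨?_, ?_, ?_, ?_, ?_, ?_, ?_, ?_⟩, ⟨?_, ?_, ?_, ?_, ?_, ?_, ?_⟩, ⟨?_, ?_, ?_, ?_, ?_, ?_⟩,
        ⟨?_, ?_, ?_, ?_, ?_⟩, ⟨?_, ?_, ?_, ?_⟩, ⟨?_, ?_, ?_⟩, ⟨?_, ?_⟩, ?_⟩
      all_goals first
        | exact hyy
        | exact hn12
        | exact hn12τ
        | (apply hne; omega)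
    obtain ⟨-, hsum⟩ := class_sum_bound_list _ hl 1980 hB
    simp only [List.map_cons, List.map_nil, List.sum_cons, List.sum_nil, List.length_cons,
      List.length_nil] at hsum
    rw [hk, hG, hC1, hCt, hCy, hCyi, hCy5] at hsum
    have e1 : 7920 / Nat.card (Subgroup.centralizer ({x1} : Set G)) ≤ 7920 / 36 :=
      Nat.div_le_div_left hC1x (by norm_num)
    have e2 : 7920 / Nat.card (Subgroup.centralizer ({x2} : Set G)) ≤ 7920 / 36 :=
      Nat.div_le_div_left hC2x (by norm_num)
    have e3 : 7920 / Nat.card (Subgroup.centralizer ({x1 * τ1} : Set G)) ≤ 7920 / 12 :=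
      Nat.div_le_div_left hD1 (by norm_num)
    have e4 : 7920 / Nat.card (Subgroup.centralizer ({x2 * τ2} : Set G)) ≤ 7920 / 12 :=
      Nat.div_le_div_left hD2 (by norm_num)
    norm_num at hsum e1 e2 e3 e4
    omega
  · -- three classes, two of them with involutions in the local centralizer
    obtain ⟨ho1, hx19⟩ := hordQ x1 hx1Q hx11
    obtain ⟨ho2, hx29⟩ := hordQ x2 hx2Q hx21
    obtain ⟨ho3, hx39⟩ := hordQ x3 hx3Q hx31
    have ho2ρ : orderOf (x2 * ρ2) = orderOf x2 * 2 := by
      have hc : Commute x2 ρ2 := hρ2c.symm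
      rw [hc.orderOf_mul_eq_mul_orderOf_of_coprime (by
        rw [hρ2o]; rcases ho2 with h | h <;> rw [h] <;> norm_num), hρ2o]
    have ho3ρ : orderOf (x3 * ρ3) = orderOf x3 * 2 := by
      have hc : Commute x3 ρ3 := hρ3c.symm
      rw [hc.orderOf_mul_eq_mul_orderOf_of_coprime (by
        rw [hρ3o]; rcases ho3 with h | h <;> rw [h] <;> norm_num), hρ3o]
    have hn12 : ¬ IsConj x1 x2 := fun h => h12 (hfus x2 hx2Q x1 hx1Q h.symm)
    have hn13 : ¬ IsConj x1 x3 := fun h => h13 (hfus x3 hx3Q x1 hx1Q h.symm)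
    have hn23 : ¬ IsConj x2 x3 := fun h => h23 (hfus x3 hx3Q x2 hx2Q h.symm)
    have hn23ρ : ¬ IsConj (x2 * ρ2) (x3 * ρ3) := by
      intro h
      have h10 := h.pow 10
      rw [pow_ten_mul_involution hx29 hρ2o hρ2c, pow_ten_mul_involution hx39 hρ3o hρ3c] at h10
      exact hn23 h10
    have hne := @not_isConj_of_orderOf_ne G _ _
    have hl : ([1, t, y, y⁻¹, y5, x1, x2, x3, x2 * ρ2, x3 * ρ3] : List G).Pairwise
        (fun a b => ¬ IsConj a b) := by
      simp only [List.pairwise_cons, List.mem_cons, List.not_mem_nil, or_false, forall_eq_or_imp,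
        forall_eq, IsEmpty.forall_iff, implies_true, List.Pairwise.nil, and_true]
      refine ⟨⟨?_, ?_, ?_, ?_, ?_, ?_, ?_, ?_, ?_⟩, ⟨?_, ?_, ?_, ?_, ?_, ?_, ?_, ?_⟩,
        ⟨?_, ?_, ?_, ?_, ?_, ?_, ?_⟩, ⟨?_, ?_, ?_, ?_, ?_, ?_⟩, ⟨?_, ?_, ?_, ?_, ?_⟩,
        ⟨?_, ?_, ?_, ?_⟩, ⟨?_, ?_, ?_⟩, ⟨?_, ?_⟩, ?_⟩
      all_goals first
        | exact hyy
        | exact hn12
        | exact hn13
        | exact hn23
        | exact hn23ρ
        | (apply hne; omega)
    obtain ⟨-, hsum⟩ := class_sum_bound_list _ hl 1980 hB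
    simp only [List.map_cons, List.map_nil, List.sum_cons, List.sum_nil, List.length_cons,
      List.length_nil] at hsum
    rw [hk, hG, hC1, hCt, hCy, hCyi, hCy5] at hsum
    -- centralizer bounds
    have hb1 : 9 ≤ Nat.card (Subgroup.centralizer ({x1} : Set G)) :=
      Nat.le_of_dvd Nat.card_pos (card_centralizer_three_dvd hG Q hx1Q hx11).1
    have hb : ∀ x ρ : G, x ∈ (Q : Subgroup G) → x ≠ 1 → orderOf ρ = 2 → ρ * x = x * ρ →
        18 ≤ Nat.card (Subgroup.centralizer ({x} : Set G)) := by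
      intro x ρ hx hx1 hρ hc
      have h9 := (card_centralizer_three_dvd hG Q hx hx1).1
      have h2 : 2 ∣ Nat.card (Subgroup.centralizer ({x} : Set G)) := by
        have hmem : ρ ∈ Subgroup.centralizer ({x} : Set G) := by
          rw [Subgroup.mem_centralizer_singleton_iff]; exact hc
        have := Subgroup.orderOf_dvd_natCard _ hmem
        rwa [hρ] at this
      have h18 : 18 ∣ Nat.card (Subgroup.centralizer ({x} : Set G)) := by
        have : Nat.Coprime 2 9 := by norm_num
        exact this.mul_dvd_of_dvd_of_dvd h2 h9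
      exact Nat.le_of_dvd Nat.card_pos h18
    have hb2 := hb x2 ρ2 hx2Q hx21 hρ2o hρ2c
    have hb3 := hb x3 ρ3 hx3Q hx31 hρ3o hρ3c
    have hb6 : ∀ z : G, 6 ≤ orderOf z → 6 ≤ Nat.card (Subgroup.centralizer ({z} : Set G)) := by
      intro z hz
      have hzp : Subgroup.zpowers z ≤ Subgroup.centralizer ({z} : Set G) := by
        rw [Subgroup.zpowers_le, Subgroup.mem_centralizer_singleton_iff]
      have hle : orderOf z ≤ Nat.card (Subgroup.centralizer ({z} : Set G)) := by
        rw [← Nat.card_zpowers]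
        exact Nat.le_of_dvd Nat.card_pos (Subgroup.card_dvd_of_le hzp)
      omega
    have hb4 := hb6 (x2 * ρ2) (by rw [ho2ρ]; rcases ho2 with h | h <;> omega)
    have hb5 := hb6 (x3 * ρ3) (by rw [ho3ρ]; rcases ho3 with h | h <;> omega)
    have e1 : 7920 / Nat.card (Subgroup.centralizer ({x1} : Set G)) ≤ 7920 / 9 :=
      Nat.div_le_div_left hb1 (by norm_num)
    have e2 : 7920 / Nat.card (Subgroup.centralizer ({x2} : Set G)) ≤ 7920 / 18 :=
      Nat.div_le_div_left hb2 (by norm_num)
    have e3 : 7920 / Nat.card (Subgroup.centralizer ({x3} : Set G)) ≤ 7920 / 18 :=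
      Nat.div_le_div_left hb3 (by norm_num)
    have e4 : 7920 / Nat.card (Subgroup.centralizer ({x2 * ρ2} : Set G)) ≤ 7920 / 6 :=
      Nat.div_le_div_left hb4 (by norm_num)
    have e5 : 7920 / Nat.card (Subgroup.centralizer ({x3 * ρ3} : Set G)) ≤ 7920 / 6 :=
      Nat.div_le_div_left hb5 (by norm_num)
    norm_num at hsum e1 e2 e3 e4 e5
    omega

/-- the normalizer of a Sylow `3`-subgroup of a simple group of order `7920` has order `144` -/
theorem card_normalizer_sylow3 (hG : Nat.card G = 7920) (Q : Sylow 3 G) :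
    Nat.card (Subgroup.normalizer ((Q : Subgroup G) : Set G)) = 144 := by
  rcases card_normalizer_cases hG Q with h | h | h
  · exact absurd h (card_normalizer_ne_nine hG Q)
  · exact absurd h (card_normalizer_ne_36 hG Q)
  · exact h

end main

end Cfsg.Agent.Lib.Helper4.M11
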