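import Mathlib

/-! A pure combinatorics lemma on two orthogonal frames of norm `3` (helper4, farm-out of
helper6 for S3805): the supports form a `3 × 3` grid, and the degree equations force the grid of
signed degrees to be `(1,1,-2) ⊗ (1,1,-2)`. -/

set_option autoImplicit false
set_option linter.unusedSectionVars false
set_option linter.unusedVariables false

namespace Cfsg.Agent.Lib.Helper4.GridComb

variable {ι : Type*} [Fintype ι] [DecidableEq ι]

theorem cases_of_sum_sq (v : ι → ℤ) (h : ∑ x, v x * v x = 3) (x : ι) :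
    v x = 0 ∨ v x = 1 ∨ v x = -1 := by
  have h1 : v x * v x ≤ ∑ y, v y * v y :=
    Finset.single_le_sum (f := fun y => v y * v y) (fun y _ => mul_self_nonneg (v y))
      (Finset.mem_univ x)
  rw [h] at h1
  have h2 : -1 ≤ v x := by nlinarith
  have h3 : v x ≤ 1 := by nlinarith
  omega

/-- two vectors of the frames agree wherever both are non-zero -/
theorem eq_of_ne_zero (deg : ι → ℤ) (hdeg : ∀ x, 0 < deg x) (u v : ι → ℤ)
    (hu : ∑ x, u x * u x = 3) (hv : ∑ x, v x * v x = 3) (huv : ∑ x, u x * v x = 1)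
    (hud : ∑ x, u x * deg x = 0) (hvd : ∑ x, v x * deg x = 0) (x : ι) (hux : u x ≠ 0)
    (hvx : v x ≠ 0) : u x = v x := by
  by_contra hne
  have hDsq : ∑ y, (u y - v y) * (u y - v y) = 4 := by
    have : ∀ y, (u y - v y) * (u y - v y) = u y * u y - 2 * (u y * v y) + v y * v y := by
      intro y; ring
    simp_rw [this]
    rw [Finset.sum_add_distrib, Finset.sum_sub_distrib, ← Finset.mul_sum, hu, hv, huv]
    norm_num
  have hDx : (u x - v x) * (u x - v x) = 4 := by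
    rcases cases_of_sum_sq u hu x with h | h | h <;> rcases cases_of_sum_sq v hv x with h' | h' | h'
      <;> simp_all
  have hrest : ∑ y ∈ Finset.univ.erase x, (u y - v y) * (u y - v y) = 0 := by
    have := Finset.add_sum_erase Finset.univ (fun y => (u y - v y) * (u y - v y)) (Finset.mem_univ x)
    linarith
  have hzero : ∀ y, y ≠ x → u y - v y = 0 := by
    intro y hy
    have h1 := (Finset.sum_eq_zero_iff_of_nonneg
      (fun y _ => mul_self_nonneg (u y - v y))).mp hrest y (Finset.mem_erase.mpr ⟨hy, Finset.mem_univ y⟩)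
    exact mul_self_eq_zero.mp h1
  have hDdeg : ∑ y, (u y - v y) * deg y = (u x - v x) * deg x := by
    apply Finset.sum_eq_single x
    · intro y _ hy
      rw [hzero y hy, zero_mul]
    · intro h
      exact absurd (Finset.mem_univ x) h
  have hDdeg0 : ∑ y, (u y - v y) * deg y = 0 := by
    simp_rw [sub_mul]
    rw [Finset.sum_sub_distrib, hud, hvd, sub_zero]
  rw [hDdeg0] at hDdeg
  have hne' : u x - v x ≠ 0 := sub_ne_zero.mpr hne
  have := hdeg x
  rcases mul_eq_zero.mp hDdeg.symm with h | h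
  · exact hne' h
  · omega

/-- ... and they are simultaneously non-zero at exactly one place -/
theorem existsUnique_ne_zero (u v : ι → ℤ) (hu : ∑ x, u x * u x = 3) (hv : ∑ x, v x * v x = 3)
    (huv : ∑ x, u x * v x = 1) (heq : ∀ x, u x ≠ 0 → v x ≠ 0 → u x = v x) :
    ∃ x, (u x ≠ 0 ∧ v x ≠ 0) ∧ ∀ y, (u y ≠ 0 ∧ v y ≠ 0) → y = x := by
  have hterm : ∀ x, u x * v x = if (u x ≠ 0 ∧ v x ≠ 0) then 1 else 0 := by
    intro x
    by_cases h : u x ≠ 0 ∧ v x ≠ 0
    · rw [if_pos h]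
      have h1 := heq x h.1 h.2
      rcases cases_of_sum_sq u hu x with h2 | h2 | h2
      · exact absurd h2 h.1
      · rw [← h1, h2]; norm_num
      · rw [← h1, h2]; norm_num
    · rw [if_neg h]
      push Not at h
      by_cases h1 : u x = 0
      · rw [h1, zero_mul]
      · rw [h h1, mul_zero]
  have hcard : (Finset.univ.filter (fun x => u x ≠ 0 ∧ v x ≠ 0)).card = 1 := by
    have h1 : ∑ x, u x * v x = ((Finset.univ.filter (fun x => u x ≠ 0 ∧ v x ≠ 0)).card : ℤ) := by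
      simp_rw [hterm]
      rw [Finset.sum_boole]
    rw [huv] at h1
    exact_mod_cast h1.symm
  obtain ⟨a, ha⟩ := Finset.card_eq_one.mp hcard
  refine ⟨a, ?_, ?_⟩
  · have : a ∈ Finset.univ.filter (fun x => u x ≠ 0 ∧ v x ≠ 0) := by rw [ha]; exact Finset.mem_singleton_self a
    exact (Finset.mem_filter.mp this).2
  · intro y hy
    have : y ∈ Finset.univ.filter (fun x => u x ≠ 0 ∧ v x ≠ 0) :=
      Finset.mem_filter.mpr ⟨Finset.mem_univ y, hy⟩
    rw [ha] at this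
    exact Finset.mem_singleton.mp this

/-- two vectors with non-negative products and inner product `0` have disjoint supports -/
theorem eq_zero_of_sum_zero (u v : ι → ℤ) (h0 : ∑ x, u x * v x = 0) (hnn : ∀ x, 0 ≤ u x * v x)
    (x : ι) (hux : u x ≠ 0) : v x = 0 := by
  have h1 := (Finset.sum_eq_zero_iff_of_nonneg (fun y _ => hnn y)).mp h0 x (Finset.mem_univ x)
  rcases mul_eq_zero.mp h1 with h | h
  · exact absurd h hux
  · exact h


/-- sums over a `3 × 3` grid -/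
theorem grid_sum {M : Type*} [AddCommMonoid M] (X : Fin 3 → Fin 3 → ι)
    (hXinj : ∀ i j i' j', X i j = X i' j' → i = i' ∧ j = j') (F : ι → M)
    (hF : ∀ x, (∀ i j, x ≠ X i j) → F x = 0) : ∑ x, F x = ∑ i, ∑ j, F (X i j) := by
  have hinj : Function.Injective (fun p : Fin 3 × Fin 3 => X p.1 p.2) := by
    rintro ⟨i, j⟩ ⟨i', j'⟩ h
    obtain ⟨h1, h2⟩ := hXinj i j i' j' h
    rw [h1, h2]
  have h1 : ∑ x, F x = ∑ x ∈ Finset.univ.image (fun p : Fin 3 × Fin 3 => X p.1 p.2), F x := by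
    symm
    apply Finset.sum_subset (Finset.subset_univ _)
    intro x _ hx
    apply hF
    intro i j hxX
    apply hx
    rw [Finset.mem_image]
    exact ⟨(i, j), Finset.mem_univ _, hxX.symm⟩
  rw [h1, Finset.sum_image (fun a _ b _ h => hinj h), Fintype.sum_prod_type]

theorem term_eq (s d : ℤ) (hs : s = 1 ∨ s = -1) (a b e : ℤ) :
    (((a * s) * (b * s) * (e * s) : ℤ) : ℚ) / (d : ℚ) = ((a * b * e : ℤ) : ℚ) / ((s * d : ℤ) : ℚ) := by
  rcases hs with rfl | rfl
  · simp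
  · push_cast
    rw [show ((-1 : ℚ) * (d : ℚ)) = -(d : ℚ) by ring, div_neg]
    ring

/-- the final algebra: the grid of signed degrees is `(1,1,-2) ⊗ (1,1,-2)` -/
theorem algebra_key (a00 a01 a02 a10 a11 a12 a20 a21 a22 : ℚ)
    (n00 : a00 ≠ 0) (n01 : a01 ≠ 0) (n02 : a02 ≠ 0) (n10 : a10 ≠ 0) (n11 : a11 ≠ 0)
    (n12 : a12 ≠ 0) (n20 : a20 ≠ 0) (n21 : a21 ≠ 0) (n22 : a22 ≠ 0)
    (R0 : a00 + a01 + a02 = 0) (R1 : a10 + a11 + a12 = 0) (R2 : a20 + a21 + a22 = 0)
    (C0 : a00 + a10 + a20 = 0) (C1 : a01 + a11 + a21 = 0) (C2 : a02 + a12 + a22 = 0)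
    (h00 : a00 = 1)
    (h1 : 1 / a00 + 1 / a01 + 1 / a02 + (1 / a10 + 1 / a11 + 1 / a12) +
      (4 / a20 + 4 / a21 + 4 / a22) = 0)
    (h2 : 1 / a00 + 1 / a01 + -2 / a02 + (1 / a10 + 1 / a11 + -2 / a12) +
      (4 / a20 + 4 / a21 + -8 / a22) = 0)
    (h3 : 1 / a00 + 1 / a01 + 4 / a02 + (1 / a10 + 1 / a11 + 4 / a12) +
      (1 / a20 + 1 / a21 + 4 / a22) = 0)
    (h4 : 1 / a00 + 1 / a01 + 4 / a02 + (1 / a10 + 1 / a11 + 4 / a12) +
      (-2 / a20 + -2 / a21 + -8 / a22) = 0) :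
    1 / a00 + 1 / a01 + -2 / a02 + (1 / a10 + 1 / a11 + -2 / a12) +
      (-2 / a20 + -2 / a21 + 4 / a22) = 9 := by
  -- column 2
  have e1 : 1 / a02 + 1 / a12 + 4 / a22 = 0 := by
    have : 3 * (1 / a02 + 1 / a12 + 4 / a22) = 0 := by
      have := sub_eq_zero.mpr (h1.trans h2.symm)
      rw [← this]
      ring
    linarith
  have e1' : a12 * a22 + a02 * a22 + 4 * a02 * a12 = 0 := by
    field_simp at e1
    linarith
  have hk : a22 = -(a02 + a12) := by linarith
  have hcf : a02 = a12 := by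
    rw [hk] at e1'
    have : (a02 - a12) ^ 2 = 0 := by nlinarith
    have := pow_eq_zero_iff (n := 2) (by norm_num) |>.mp this
    linarith
  -- row 2
  have e2 : 1 / a20 + 1 / a21 + 4 / a22 = 0 := by
    have : 3 * (1 / a20 + 1 / a21 + 4 / a22) = 0 := by
      have := sub_eq_zero.mpr (h3.trans h4.symm)
      rw [← this]
      ring
    linarith
  have e2' : a21 * a22 + a20 * a22 + 4 * a20 * a21 = 0 := by
    field_simp at e2
    linarith
  have hk' : a22 = -(a20 + a21) := by linarith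
  have hgh : a20 = a21 := by
    rw [hk'] at e2'
    have : (a20 - a21) ^ 2 = 0 := by nlinarith
    have := pow_eq_zero_iff (n := 2) (by norm_num) |>.mp this
    linarith
  -- everything in terms of `x = a02`
  have hx20 : a20 = a02 := by linarith
  have hx21 : a21 = a02 := by linarith
  have hx12 : a12 = a02 := hcf.symm
  have hx22 : a22 = -2 * a02 := by linarith
  have hx01 : a01 = -1 - a02 := by linarith
  have hx10 : a10 = -1 - a02 := by linarith
  have hx11 : a11 = 1 := by linarith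
  have nx1 : (-1 - a02) ≠ 0 := by rw [← hx01]; exact n01
  have nx2 : (-2 * a02) ≠ 0 := by rw [← hx22]; exact n22
  rw [h00, hx01, hx10, hx11, hx12, hx20, hx21, hx22] at h1
  have hx : a02 = -2 := by
    field_simp at h1
    have : (a02 + 2) ^ 2 = 0 := by nlinarith
    have := pow_eq_zero_iff (n := 2) (by norm_num) |>.mp this
    linarith
  rw [h00, hx01, hx10, hx11, hx12, hx20, hx21, hx22, hx]
  norm_num


theorem grid_comb {ι : Type*} [Fintype ι] [DecidableEq ι] (o : ι) (deg : ι → ℤ)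
    (hdeg : ∀ x, 0 < deg x) (hdo : deg o = 1)
    (r c : Fin 3 → ι → ℤ)
    (hrr : ∀ i k : Fin 3, ∑ x, r i x * r k x = if i = k then 3 else 0)
    (hcc : ∀ j l : Fin 3, ∑ x, c j x * c l x = if j = l then 3 else 0)
    (hrc : ∀ i j : Fin 3, ∑ x, r i x * c j x = 1)
    (hrd : ∀ i : Fin 3, ∑ x, r i x * deg x = 0)
    (hcd : ∀ j : Fin 3, ∑ x, c j x * deg x = 0)
    (hsum : ∀ x, r 0 x + r 1 x + r 2 x = c 0 x + c 1 x + c 2 x)
    (hnz : ∀ x, ((∃ i, r i x ≠ 0) ∨ (∃ j, c j x ≠ 0)) → r 0 x + r 1 x + r 2 x ≠ 0)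
    (hro : r 0 o = 1 ∧ r 1 o = 0 ∧ r 2 o = 0) (hco : c 0 o = 1 ∧ c 1 o = 0 ∧ c 2 o = 0)
    (h1 : ∑ x, (((r 0 x + r 1 x - 2 * r 2 x) ^ 2 * (r 0 x + r 1 x + r 2 x) : ℤ) : ℚ)
      / (deg x : ℚ) = 0)
    (h2 : ∑ x, (((r 0 x + r 1 x - 2 * r 2 x) ^ 2 * (c 0 x + c 1 x - 2 * c 2 x) : ℤ) : ℚ)
      / (deg x : ℚ) = 0)
    (h3 : ∑ x, (((c 0 x + c 1 x - 2 * c 2 x) ^ 2 * (r 0 x + r 1 x + r 2 x) : ℤ) : ℚ)
      / (deg x : ℚ) = 0)
    (h4 : ∑ x, (((c 0 x + c 1 x - 2 * c 2 x) ^ 2 * (r 0 x + r 1 x - 2 * r 2 x) : ℤ) : ℚ)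
      / (deg x : ℚ) = 0) :
    ∑ x, (((r 0 x + r 1 x - 2 * r 2 x) * (c 0 x + c 1 x - 2 * c 2 x)
      * (r 0 x + r 1 x + r 2 x) : ℤ) : ℚ) / (deg x : ℚ) = 9 := by
  classical
  have hr3 : ∀ i, ∑ x, r i x * r i x = 3 := fun i => by simpa using hrr i i
  have hc3 : ∀ j, ∑ x, c j x * c j x = 3 := fun j => by simpa using hcc j j
  have h2b : ∀ i j x, r i x ≠ 0 → c j x ≠ 0 → r i x = c j x := fun i j x =>
    eq_of_ne_zero deg hdeg (r i) (c j) (hr3 i) (hc3 j) (hrc i j) (hrd i) (hcd j) x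
  have h2a : ∀ i j, ∃ x, (r i x ≠ 0 ∧ c j x ≠ 0) ∧ ∀ y, (r i y ≠ 0 ∧ c j y ≠ 0) → y = x :=
    fun i j => existsUnique_ne_zero (r i) (c j) (hr3 i) (hc3 j) (hrc i j) (h2b i j)
  choose X hX hXuniq using h2a
  -- (3)
  have h3r : ∀ x i, r i x ≠ 0 → ∃ j, c j x ≠ 0 := by
    intro x i hi
    have := hnz x (Or.inl ⟨i, hi⟩)
    rw [hsum x] at this
    by_contra hcon
    push Not at hcon
    apply this
    rw [hcon 0, hcon 1, hcon 2]
    norm_num
  have h3c : ∀ x j, c j x ≠ 0 → ∃ i, r i x ≠ 0 := by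
    intro x j hj
    have := hnz x (Or.inr ⟨j, hj⟩)
    by_contra hcon
    push Not at hcon
    apply this
    rw [hcon 0, hcon 1, hcon 2]
    norm_num
  -- (4)
  have h4r : ∀ i k x, i ≠ k → r i x ≠ 0 → r k x = 0 := by
    intro i k x hik hi
    apply eq_zero_of_sum_zero (r i) (r k) (by simpa [hik] using hrr i k) ?_ x hi
    intro y
    by_cases h1 : r i y = 0
    · rw [h1, zero_mul]
    by_cases h2 : r k y = 0
    · rw [h2, mul_zero]
    obtain ⟨j, hj⟩ := h3r y i h1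
    rw [h2b i j y h1 hj, h2b k j y h2 hj]
    exact mul_self_nonneg _
  have h4c : ∀ j l x, j ≠ l → c j x ≠ 0 → c l x = 0 := by
    intro j l x hjl hj
    apply eq_zero_of_sum_zero (c j) (c l) (by simpa [hjl] using hcc j l) ?_ x hj
    intro y
    by_cases h1 : c j y = 0
    · rw [h1, zero_mul]
    by_cases h2 : c l y = 0
    · rw [h2, mul_zero]
    obtain ⟨i, hi⟩ := h3c y j h1
    rw [← h2b i j y hi h1, ← h2b i l y hi h2]
    exact mul_self_nonneg _
  -- the values on the grid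
  set s : Fin 3 → Fin 3 → ℤ := fun i j => r i (X i j) with hs_def
  have hs : ∀ i j, s i j = 1 ∨ s i j = -1 := by
    intro i j
    rcases cases_of_sum_sq (r i) (hr3 i) (X i j) with h | h | h
    · exact absurd h (hX i j).1
    · left; exact h
    · right; exact h
  have hrX : ∀ i j k, r k (X i j) = if k = i then s i j else 0 := by
    intro i j k
    by_cases hk : k = i
    · rw [if_pos hk, hk]
    · rw [if_neg hk]
      exact h4r i k (X i j) (fun h => hk h.symm) (hX i j).1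
  have hcX : ∀ i j l, c l (X i j) = if l = j then s i j else 0 := by
    intro i j l
    by_cases hl : l = j
    · rw [if_pos hl, hl]
      exact (h2b i j (X i j) (hX i j).1 (hX i j).2).symm
    · rw [if_neg hl]
      exact h4c j l (X i j) (fun h => hl h.symm) (hX i j).2
  have hXinj : ∀ i j i' j', X i j = X i' j' → i = i' ∧ j = j' := by
    intro i j i' j' h
    constructor
    · by_contra hne
      have := hrX i j i'
      rw [if_neg (fun h => hne h.symm), h] at this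
      exact (hX i' j').1 this
    · by_contra hne
      have := hcX i j j'
      rw [if_neg (fun h => hne h.symm), h] at this
      exact (hX i' j').2 this
  have hcover : ∀ x, (∀ i j, x ≠ X i j) → (∀ i, r i x = 0) ∧ (∀ j, c j x = 0) := by
    intro x hx
    constructor
    · intro i
      by_contra hi
      obtain ⟨j, hj⟩ := h3r x i hi
      exact hx i j (hXuniq i j x ⟨hi, hj⟩)
    · intro j
      by_contra hj
      obtain ⟨i, hi⟩ := h3c x j hj
      exact hx i j (hXuniq i j x ⟨hi, hj⟩)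
  -- the three linear forms on the grid
  set w : Fin 3 → ℤ := ![1, 1, -2] with hw_def
  have hρ : ∀ i j, r 0 (X i j) + r 1 (X i j) - 2 * r 2 (X i j) = w i * s i j := by
    intro i j
    rw [hrX, hrX, hrX]
    fin_cases i <;> simp [hw_def]
  have hγ : ∀ i j, c 0 (X i j) + c 1 (X i j) - 2 * c 2 (X i j) = w j * s i j := by
    intro i j
    rw [hcX, hcX, hcX]
    fin_cases j <;> simp [hw_def]
  have hσ : ∀ i j, r 0 (X i j) + r 1 (X i j) + r 2 (X i j) = 1 * s i j := by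
    intro i j
    rw [hrX, hrX, hrX]
    fin_cases i <;> simp
  -- signed degrees
  set D : Fin 3 → Fin 3 → ℤ := fun i j => s i j * deg (X i j) with hD_def
  have hDne : ∀ i j, ((D i j : ℤ) : ℚ) ≠ 0 := by
    intro i j
    have h1 := hdeg (X i j)
    have : D i j ≠ 0 := by
      rcases hs i j with h | h
      · simp only [hD_def, h]; omega
      · simp only [hD_def, h]; omega
    exact_mod_cast this
  -- rows and columns
  have hR : ∀ i, D i 0 + D i 1 + D i 2 = 0 := by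
    intro i
    have h := hrd i
    rw [grid_sum X hXinj (fun x => r i x * deg x) (fun x hx => by
      simp only [(hcover x hx).1 i, zero_mul])] at h
    simp only [hrX] at h
    rw [← h]
    fin_cases i <;> simp [Fin.sum_univ_three, hD_def]
  have hC : ∀ j, D 0 j + D 1 j + D 2 j = 0 := by
    intro j
    have h := hcd j
    rw [grid_sum X hXinj (fun x => c j x * deg x) (fun x hx => by
      simp only [(hcover x hx).2 j, zero_mul])] at h
    simp only [hcX] at h
    rw [← h]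
    fin_cases j <;> simp [Fin.sum_univ_three, hD_def]
  have hD00 : D 0 0 = 1 := by
    have ho : o = X 0 0 := hXuniq 0 0 o ⟨by rw [hro.1]; norm_num, by rw [hco.1]; norm_num⟩
    simp only [hD_def, hs_def]
    rw [← ho, hro.1, hdo]
    norm_num
  -- the five sums on the grid
  have key : ∀ (A B E : ι → ℤ) (a b e : Fin 3 → Fin 3 → ℤ),
      (∀ x, (∀ i j, x ≠ X i j) → A x * B x * E x = 0) →
      (∀ i j, A (X i j) = a i j * s i j) → (∀ i j, B (X i j) = b i j * s i j) →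
      (∀ i j, E (X i j) = e i j * s i j) →
      ∑ x, ((A x * B x * E x : ℤ) : ℚ) / (deg x : ℚ) =
        ∑ i, ∑ j, ((a i j * b i j * e i j : ℤ) : ℚ) / ((D i j : ℤ) : ℚ) := by
    intro A B E a b e hvan hA hB hE
    rw [grid_sum X hXinj (fun x => ((A x * B x * E x : ℤ) : ℚ) / (deg x : ℚ)) (fun x hx => by
      simp only [hvan x hx, Int.cast_zero, zero_div])]
    apply Finset.sum_congr rfl
    intro i _
    apply Finset.sum_congr rfl
    intro j _
    simp only [hA, hB, hE]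
    exact term_eq (s i j) (deg (X i j)) (hs i j) (a i j) (b i j) (e i j)
  have hvanρ : ∀ x, (∀ i j, x ≠ X i j) → r 0 x + r 1 x - 2 * r 2 x = 0 := by
    intro x hx
    have := (hcover x hx).1
    rw [this 0, this 1, this 2]; norm_num
  have hvanγ : ∀ x, (∀ i j, x ≠ X i j) → c 0 x + c 1 x - 2 * c 2 x = 0 := by
    intro x hx
    have := (hcover x hx).2
    rw [this 0, this 1, this 2]; norm_num
  have k1 := key (fun x => r 0 x + r 1 x - 2 * r 2 x) (fun x => r 0 x + r 1 x - 2 * r 2 x)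
    (fun x => r 0 x + r 1 x + r 2 x) (fun i _ => w i) (fun i _ => w i) (fun _ _ => 1)
    (fun x hx => by simp only [hvanρ x hx, zero_mul]) hρ hρ hσ
  have k2 := key (fun x => r 0 x + r 1 x - 2 * r 2 x) (fun x => r 0 x + r 1 x - 2 * r 2 x)
    (fun x => c 0 x + c 1 x - 2 * c 2 x) (fun i _ => w i) (fun i _ => w i) (fun _ j => w j)
    (fun x hx => by simp only [hvanρ x hx, zero_mul]) hρ hρ hγ
  have k3 := key (fun x => c 0 x + c 1 x - 2 * c 2 x) (fun x => c 0 x + c 1 x - 2 * c 2 x)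
    (fun x => r 0 x + r 1 x + r 2 x) (fun _ j => w j) (fun _ j => w j) (fun _ _ => 1)
    (fun x hx => by simp only [hvanγ x hx, zero_mul]) hγ hγ hσ
  have k4 := key (fun x => c 0 x + c 1 x - 2 * c 2 x) (fun x => c 0 x + c 1 x - 2 * c 2 x)
    (fun x => r 0 x + r 1 x - 2 * r 2 x) (fun _ j => w j) (fun _ j => w j) (fun i _ => w i)
    (fun x hx => by simp only [hvanγ x hx, zero_mul]) hγ hγ hρ
  have k5 := key (fun x => r 0 x + r 1 x - 2 * r 2 x) (fun x => c 0 x + c 1 x - 2 * c 2 x)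
    (fun x => r 0 x + r 1 x + r 2 x) (fun i _ => w i) (fun _ j => w j) (fun _ _ => 1)
    (fun x hx => by simp only [hvanρ x hx, zero_mul]) hρ hγ hσ
  simp only [← pow_two] at k1 k2 k3 k4
  rw [k1] at h1
  rw [k2] at h2
  rw [k3] at h3
  rw [k4] at h4
  rw [k5]
  simp only [Fin.sum_univ_three, hw_def, Matrix.cons_val_zero, Matrix.cons_val_one,
    Matrix.cons_val_two, Matrix.head_cons, Matrix.tail_cons] at h1 h2 h3 h4 ⊢
  norm_num at h1 h2 h3 h4 ⊢
  have R0 : ((D 0 0 : ℤ) : ℚ) + (D 0 1 : ℤ) + (D 0 2 : ℤ) = 0 := by exact_mod_cast hR 0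
  have R1 : ((D 1 0 : ℤ) : ℚ) + (D 1 1 : ℤ) + (D 1 2 : ℤ) = 0 := by exact_mod_cast hR 1
  have R2 : ((D 2 0 : ℤ) : ℚ) + (D 2 1 : ℤ) + (D 2 2 : ℤ) = 0 := by exact_mod_cast hR 2
  have C0 : ((D 0 0 : ℤ) : ℚ) + (D 1 0 : ℤ) + (D 2 0 : ℤ) = 0 := by exact_mod_cast hC 0
  have C1 : ((D 0 1 : ℤ) : ℚ) + (D 1 1 : ℤ) + (D 2 1 : ℤ) = 0 := by exact_mod_cast hC 1
  have C2 : ((D 0 2 : ℤ) : ℚ) + (D 1 2 : ℤ) + (D 2 2 : ℤ) = 0 := by exact_mod_cast hC 2
  have h00 : ((D 0 0 : ℤ) : ℚ) = 1 := by exact_mod_cast hD00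
  have := algebra_key (D 0 0 : ℤ) (D 0 1 : ℤ) (D 0 2 : ℤ) (D 1 0 : ℤ) (D 1 1 : ℤ) (D 1 2 : ℤ)
    (D 2 0 : ℤ) (D 2 1 : ℤ) (D 2 2 : ℤ) (hDne 0 0) (hDne 0 1) (hDne 0 2) (hDne 1 0) (hDne 1 1)
    (hDne 1 2) (hDne 2 0) (hDne 2 1) (hDne 2 2) R0 R1 R2 C0 C1 C2 h00
  simp only [← one_div] at h1 h2 h3 h4 ⊢
  exact this h1 h2 h3 h4

end Cfsg.Agent.Lib.Helper4.GridComb
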