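import Mathlib

/-! Semisimple elements of prime order commuting with a nontrivial unipotent element. -/

namespace Cfsg.Agent.Lib.Helper4.PSLCent

open Module

variable {F : Type*} [Field F] [Fintype F]

section A1
variable {U : Type*} [AddCommGroup U] [Module F U] [FiniteDimensional F U]

theorem dvd_prod_of_pow_eq_one (T : Module.End F U) (r : ℕ) [hr : Fact r.Prime]
    (hT : T ^ r = 1) (hT1 : T ≠ 1) :
    r ∣ ∏ i : Fin (finrank F U), (Fintype.card F ^ finrank F U - Fintype.card F ^ (i : ℕ)) := by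
  classical
  haveI : Finite U := Module.finite_of_finite F
  obtain ⟨m, hm⟩ : ∃ m, m = finrank F U := ⟨_, rfl⟩
  rw [← hm]
  have hcard := card_linearIndependent (K := F) (V := U) (k := m) hm.le
  rw [← hm] at hcard
  rw [← hcard]
  have hinj : Function.Injective T := by
    have hr1 : 1 ≤ r := hr.out.one_le
    have h1 : T ^ (r - 1) * T = 1 := by rw [← pow_succ, Nat.sub_add_cancel hr1, hT]
    refine Function.LeftInverse.injective (g := T ^ (r - 1)) (fun x => ?_)
    have := LinearMap.congr_fun h1 x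
    simpa using this
  haveI : Fintype {s : Fin m → U // LinearIndependent F s} := Fintype.ofFinite _
  let f : Function.End {s : Fin m → U // LinearIndependent F s} :=
    fun s => ⟨fun i => T (s.1 i), s.2.map' T (LinearMap.ker_eq_bot.mpr hinj)⟩
  have hfpow : ∀ k : ℕ, ∀ s : {s : Fin m → U // LinearIndependent F s},
      ((f ^ k) s).1 = fun i => (T ^ k) (s.1 i) := by
    intro k
    induction k with
    | zero =>
      intro s
      simp only [pow_zero]
      rfl
    | succ k ih =>
      intro s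
      rw [pow_succ]
      show ((f ^ k) (f s)).1 = _
      rw [ih (f s)]
      funext i
      show (T ^ k) (T (s.1 i)) = (T ^ (k + 1)) (s.1 i)
      rw [pow_succ, Module.End.mul_apply]
  have hfr : f ^ r ^ 1 = 1 := by
    rw [pow_one]
    funext s
    apply Subtype.ext
    rw [hfpow r s, hT]
    rfl
  have hmod := Equiv.Perm.card_fixedPoints_modEq (f := f) (p := r) (n := 1) hfr
  have hfix : Fintype.card (Function.fixedPoints f) = 0 := by
    rw [Fintype.card_eq_zero_iff]
    constructor
    rintro ⟨s, hs⟩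
    apply hT1
    have hs' : ∀ i, T (s.1 i) = s.1 i := fun i => congrFun (congrArg Subtype.val hs) i
    rcases Nat.eq_zero_or_pos m with hm0 | hmpos
    · have hsub : Subsingleton U := Module.finrank_zero_iff.mp (hm ▸ hm0)
      ext x
      exact Subsingleton.elim _ _
    haveI : Nonempty (Fin m) := ⟨⟨0, hmpos⟩⟩
    let b := basisOfLinearIndependentOfCardEqFinrank s.2 (by simp [hm])
    have hb : ⇑b = s.1 := coe_basisOfLinearIndependentOfCardEqFinrank _ _
    apply b.ext
    intro i
    rw [hb, Module.End.one_apply]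
    exact hs' i
  rw [hfix] at hmod
  rw [Nat.card_eq_fintype_card]
  exact (Nat.modEq_zero_iff_dvd.mp hmod)

end A1

theorem exists_dvd_pow_sub_one (q r m : ℕ) (hr : r.Prime) (hrq : ¬ r ∣ q)
    (h : r ∣ ∏ i : Fin m, (q ^ m - q ^ (i : ℕ))) :
    ∃ j, 1 ≤ j ∧ j ≤ m ∧ r ∣ q ^ j - 1 := by
  obtain ⟨i, -, hi⟩ := (Prime.dvd_finset_prod_iff hr.prime _).mp h
  have h1 : q ^ m - q ^ (i : ℕ) = q ^ (i : ℕ) * (q ^ (m - i) - 1) := by
    rw [Nat.mul_sub, mul_one, ← pow_add, Nat.add_sub_cancel' i.2.le]
  rw [h1] at hi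
  rcases (Nat.Prime.dvd_mul hr).mp hi with h2 | h2
  · exact absurd (hr.dvd_of_dvd_pow h2) hrq
  · exact ⟨m - i, by have := i.2; omega, by omega, h2⟩

section main
variable {V : Type*} [AddCommGroup V] [Module F V] [FiniteDimensional F V]

/-- Key lemma: an invariant nonzero subspace without fixed vectors. -/
theorem key (c : Module.End F V) (r : ℕ) [hr : Fact r.Prime] (hrq : ¬ r ∣ Fintype.card F)
    (hc : c ^ r = 1) (U : Submodule F V) (hU : ∀ x ∈ U, c x ∈ U) (hU0 : U ≠ ⊥)
    (hfix : ∀ x ∈ U, c x = x → x = 0) :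
    ∃ j, 1 ≤ j ∧ j ≤ finrank F U ∧ r ∣ Fintype.card F ^ j - 1 := by
  have hT : (c.restrict hU) ^ r = 1 := by
    rw [Module.End.pow_restrict r hU]
    ext x
    simp [hc]
  have hT1 : c.restrict hU ≠ 1 := by
    intro h
    obtain ⟨y, hy, hy0⟩ := (Submodule.ne_bot_iff U).mp hU0
    have := LinearMap.congr_fun h ⟨y, hy⟩
    have h2 : c y = y := by
      have := congrArg Subtype.val this
      simpa using this
    exact hy0 (hfix y hy h2)
  exact exists_dvd_pow_sub_one _ r _ hr.out hrq (dvd_prod_of_pow_eq_one (c.restrict hU) r hT hT1)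

theorem main (N c : Module.End F V) (r : ℕ) [hr : Fact r.Prime] (hrq : ¬ r ∣ Fintype.card F)
    (hrF : (r : F) ≠ 0) (hN : IsNilpotent N) (hN0 : N ≠ 0) (hcN : c * N = N * c)
    (hc : c ^ r = 1) (hc1 : c ≠ 1) (hn : 4 ≤ finrank F V) :
    ∃ j, 1 ≤ j ∧ j + 2 ≤ finrank F V ∧ r ∣ Fintype.card F ^ j - 1 := by
  classical
  obtain ⟨S, hS⟩ : ∃ S : Module.End F V, S = ∑ i ∈ Finset.range r, c ^ i := ⟨_, rfl⟩
  have hcS : c * S = S := by
    have h1 : (c - 1) * S = c ^ r - 1 := by rw [hS]; exact mul_geom_sum c r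
    rw [hc, sub_self, sub_mul, one_mul, sub_eq_zero] at h1
    exact h1
  have hcpowS : ∀ i : ℕ, c ^ i * S = S := by
    intro i
    induction i with
    | zero => simp
    | succ i ih => rw [pow_succ, mul_assoc, hcS, ih]
  have hSS : S * S = (r : F) • S := by
    conv_lhs => rw [hS, Finset.sum_mul]
    rw [← hS]
    rw [Finset.sum_congr rfl (fun i _ => hcpowS i), Finset.sum_const, Finset.card_range,
      ← Nat.cast_smul_eq_nsmul F]
  have hNS : S * N = N * S := by
    have hpow : ∀ i : ℕ, c ^ i * N = N * c ^ i := by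
      intro i
      induction i with
      | zero => simp
      | succ i ih => rw [pow_succ, mul_assoc, hcN, ← mul_assoc, ih, mul_assoc]
    rw [hS, Finset.sum_mul, Finset.mul_sum]
    exact Finset.sum_congr rfl (fun i _ => hpow i)
  have hScomm : S * c = S := by
    have h1 : S * (c - 1) = c ^ r - 1 := by rw [hS]; exact geom_sum_mul c r
    rw [hc, sub_self, mul_sub, mul_one, sub_eq_zero] at h1
    exact h1
  -- the two subspaces
  obtain ⟨V₁, hV₁⟩ : ∃ V₁ : Submodule F V, V₁ = LinearMap.ker (c - 1) := ⟨_, rfl⟩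
  obtain ⟨V₂, hV₂⟩ : ∃ V₂ : Submodule F V, V₂ = LinearMap.ker S := ⟨_, rfl⟩
  have hmem1 : ∀ x, x ∈ V₁ ↔ c x = x := by
    intro x
    rw [hV₁, LinearMap.mem_ker, LinearMap.sub_apply, Module.End.one_apply, sub_eq_zero]
  have hmem2 : ∀ x, x ∈ V₂ ↔ S x = 0 := by
    intro x
    rw [hV₂, LinearMap.mem_ker]
  have hSfix : ∀ x, c x = x → S x = (r : F) • x := by
    intro x hx
    have hpow : ∀ i : ℕ, (c ^ i) x = x := by
      intro i
      induction i with
      | zero => simp
      | succ i ih => rw [pow_succ, Module.End.mul_apply, hx, ih]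
    rw [hS, LinearMap.sum_apply, Finset.sum_congr rfl (fun i _ => hpow i), Finset.sum_const,
      Finset.card_range, ← Nat.cast_smul_eq_nsmul F]
  have hdisj : ∀ x, x ∈ V₁ → x ∈ V₂ → x = 0 := by
    intro x h1 h2
    have := hSfix x ((hmem1 x).mp h1)
    rw [(hmem2 x).mp h2] at this
    exact (smul_eq_zero.mp this.symm).resolve_left hrF
  have hdec : ∀ x, ∃ y ∈ V₁, ∃ z ∈ V₂, x = y + z := by
    intro x
    refine ⟨(r : F)⁻¹ • S x, ?_, x - (r : F)⁻¹ • S x, ?_, by abel⟩
    · rw [hmem1, map_smul, ← Module.End.mul_apply, hcS]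
    · rw [hmem2, map_sub, map_smul, ← Module.End.mul_apply, hSS, LinearMap.smul_apply,
        smul_smul, inv_mul_cancel₀ hrF, one_smul, sub_self]
  have hcV2 : ∀ x ∈ V₂, c x ∈ V₂ := by
    intro x hx
    rw [hmem2] at hx ⊢
    rw [← Module.End.mul_apply, hScomm, hx]
  have hNV2 : ∀ x ∈ V₂, N x ∈ V₂ := by
    intro x hx
    rw [hmem2] at hx ⊢
    rw [← Module.End.mul_apply, hNS, Module.End.mul_apply, hx, map_zero]
  have hNV1 : ∀ x ∈ V₁, N x ∈ V₁ := by
    intro x hx
    rw [hmem1] at hx ⊢
    rw [← Module.End.mul_apply, hcN, Module.End.mul_apply, hx]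
  have hfix2 : ∀ x ∈ V₂, c x = x → x = 0 := fun x h2 h1 => hdisj x ((hmem1 x).mpr h1) h2
  have hV2ne : V₂ ≠ ⊥ := by
    intro h
    apply hc1
    ext x
    obtain ⟨y, hy, z, hz, rfl⟩ := hdec x
    rw [h, Submodule.mem_bot] at hz
    rw [hz, add_zero, Module.End.one_apply]
    exact (hmem1 y).mp hy
  have hcompl : IsCompl V₁ V₂ := by
    constructor
    · rw [Submodule.disjoint_def]
      exact hdisj
    · rw [codisjoint_iff, eq_top_iff]
      intro x _
      obtain ⟨y, hy, z, hz, rfl⟩ := hdec x
      exact Submodule.add_mem_sup hy hz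
  have hdim := Submodule.finrank_add_eq_of_isCompl hcompl
  obtain ⟨s, hs⟩ := hN
  by_cases hcase : ∃ x ∈ V₁, N x ≠ 0
  · -- N nontrivial on V₁
    obtain ⟨x, hx1, hNx⟩ := hcase
    have h2 : 2 ≤ finrank F V₁ := by
      by_contra hlt
      push Not at hlt
      have hle : finrank F V₁ ≤ 1 := by omega
      rw [finrank_le_one_iff] at hle
      obtain ⟨v, hv⟩ := hle
      obtain ⟨a, ha⟩ := hv ⟨x, hx1⟩
      obtain ⟨b, hb⟩ := hv ⟨N x, hNV1 x hx1⟩
      have ha' : a • (v : V) = x := congrArg Subtype.val ha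
      have hb' : b • (v : V) = N x := congrArg Subtype.val hb
      have ha0 : a ≠ 0 := by
        rintro rfl
        rw [zero_smul] at ha'
        rw [← ha', map_zero] at hNx
        exact hNx rfl
      have hNv : N (v : V) = (b * a⁻¹) • (v : V) := by
        have : a • N (v : V) = b • (v : V) := by rw [← map_smul, ha', hb']
        calc N (v : V) = a⁻¹ • (a • N (v : V)) := by rw [smul_smul, inv_mul_cancel₀ ha0, one_smul]
          _ = (b * a⁻¹) • (v : V) := by rw [this, smul_smul, mul_comm]
      have hpow : ∀ k : ℕ, (N ^ k) (v : V) = (b * a⁻¹) ^ k • (v : V) := by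
        intro k
        induction k with
        | zero => simp
        | succ k ih =>
          rw [pow_succ, Module.End.mul_apply, hNv, map_smul, ih, smul_smul, pow_succ, mul_comm]
      have hzero := hpow s
      rw [hs, LinearMap.zero_apply] at hzero
      rcases smul_eq_zero.mp hzero.symm with h | h
      · have hs0 : s ≠ 0 := by
          rintro rfl
          rw [pow_zero] at h
          exact one_ne_zero h
        have hb0 : b = 0 := by
          have := (pow_eq_zero_iff hs0).mp h
          rcases mul_eq_zero.mp this with h' | h'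
          · exact h'
          · exact absurd (inv_eq_zero.mp h') ha0
        rw [hb0, zero_smul] at hb'
        exact hNx hb'.symm
      · rw [h, smul_zero] at hb'
        exact hNx hb'.symm
    obtain ⟨j, hj1, hj2, hj3⟩ := key c r hrq hc V₂ hcV2 hV2ne hfix2
    exact ⟨j, hj1, by omega, hj3⟩
  · -- N vanishes on V₁
    push Not at hcase
    obtain ⟨y, hy2, hNy⟩ : ∃ y ∈ V₂, N y ≠ 0 := by
      by_contra hcon
      push Not at hcon
      apply hN0
      ext x
      obtain ⟨y, hy, z, hz, rfl⟩ := hdec x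
      rw [map_add, hcase y hy, hcon z hz, add_zero, LinearMap.zero_apply]
    obtain ⟨K', hK'⟩ : ∃ K' : Submodule F V, K' = V₂ ⊓ LinearMap.ker N := ⟨_, rfl⟩
    obtain ⟨R', hR'⟩ : ∃ R' : Submodule F V, R' = V₂.map N := ⟨_, rfl⟩
    have hK'le : K' ≤ V₂ := hK' ▸ inf_le_left
    have hR'le : R' ≤ V₂ := by
      rw [hR']
      rintro _ ⟨x, hx, rfl⟩
      exact hNV2 x hx
    have hcK' : ∀ x ∈ K', c x ∈ K' := by
      intro x hx
      rw [hK', Submodule.mem_inf, LinearMap.mem_ker] at hx ⊢
      refine ⟨hcV2 x hx.1, ?_⟩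
      rw [← Module.End.mul_apply, ← hcN, Module.End.mul_apply, hx.2, map_zero]
    have hcR' : ∀ x ∈ R', c x ∈ R' := by
      intro x hx
      rw [hR'] at hx ⊢
      obtain ⟨w, hw, rfl⟩ := hx
      refine ⟨c w, hcV2 w hw, ?_⟩
      rw [← Module.End.mul_apply, ← hcN, Module.End.mul_apply]
    have hR'ne : R' ≠ ⊥ := by
      intro h
      have : N y ∈ R' := hR' ▸ ⟨y, hy2, rfl⟩
      rw [h, Submodule.mem_bot] at this
      exact hNy this
    have hK'ne : K' ≠ ⊥ := by
      -- last nonzero iterate
      have hex : ∃ k, (N ^ k) y = 0 := ⟨s, by rw [hs, LinearMap.zero_apply]⟩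
      let k := Nat.find hex
      have hk : (N ^ k) y = 0 := Nat.find_spec hex
      have hkpos : 0 < k := by
        rcases Nat.eq_zero_or_pos k with h0 | h0
        · rw [h0, pow_zero, Module.End.one_apply] at hk
          rw [hk, map_zero] at hNy
          exact absurd rfl hNy
        · exact h0
      have hk' : (N ^ (k - 1)) y ≠ 0 := Nat.find_min hex (by omega)
      intro h
      have hmem : (N ^ (k - 1)) y ∈ K' := by
        rw [hK', Submodule.mem_inf, LinearMap.mem_ker]
        constructor
        · have : ∀ i : ℕ, (N ^ i) y ∈ V₂ := by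
            intro i
            induction i with
            | zero => simpa using hy2
            | succ i ih =>
              rw [pow_succ', Module.End.mul_apply]
              exact hNV2 _ ih
          exact this _
        · rw [← Module.End.mul_apply, ← pow_succ', Nat.sub_add_cancel hkpos, hk]
      rw [h, Submodule.mem_bot] at hmem
      exact hk' hmem
    have hrank : finrank F R' + finrank F K' = finrank F V₂ := by
      have h1 := LinearMap.finrank_range_add_finrank_ker (N.domRestrict V₂)
      rw [LinearMap.range_domRestrict, LinearMap.ker_domRestrict] at h1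
      have h2 : finrank F ((LinearMap.ker N).comap V₂.subtype) = finrank F K' := by
        rw [hK']
        have e : ((LinearMap.ker N).comap V₂.subtype) ≃ₗ[F] (V₂ ⊓ LinearMap.ker N : Submodule F V) :=
          { toFun := fun x => ⟨x.1.1, ⟨x.1.2, x.2⟩⟩
            invFun := fun x => ⟨⟨x.1, x.2.1⟩, x.2.2⟩
            map_add' := fun _ _ => rfl
            map_smul' := fun _ _ => rfl
            left_inv := fun _ => rfl
            right_inv := fun _ => rfl }
        exact e.finrank_eq
      rw [h2, ← hR'] at h1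
      exact h1
    have hV2le : finrank F V₂ ≤ finrank F V := Submodule.finrank_le V₂
    obtain ⟨j₁, hj1, hj2, hj3⟩ := key c r hrq hc K' hcK' hK'ne
      (fun x hx => hfix2 x (hK'le hx))
    obtain ⟨j₂, hj1', hj2', hj3'⟩ := key c r hrq hc R' hcR' hR'ne
      (fun x hx => hfix2 x (hR'le hx))
    by_cases hsmall : finrank F K' ≤ finrank F R'
    · exact ⟨j₁, hj1, by omega, hj3⟩
    · exact ⟨j₂, hj1', by omega, hj3'⟩

end main

end Cfsg.Agent.Lib.Helper4.PSLCent
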