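import Mathlib
import Cfsg.Agent.Lib.Helper4.PSLCent1
import Cfsg.Agent.Lib.Helper4.SLCard

/-! Centralizers of elements of order `p` in `PSL_n(q)`: prime divisors. -/

namespace Cfsg.Agent.Lib.Helper4.PSLCent

open Matrix

variable {F : Type*} [Field F] [Fintype F]

theorem card_SL_succ (m' : ℕ) :
    Nat.card (Matrix.SpecialLinearGroup (Fin (m' + 1)) F) =
      (∏ i : Fin m', (Fintype.card F ^ (m' + 1) - Fintype.card F ^ (i : ℕ))) * Fintype.card F ^ m' := by
  have h1 := Cfsg.Agent.Lib.Helper4.card_SL_mul (F := F) (m' + 1) (by omega)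
  rw [Matrix.card_GL_field, Fin.prod_univ_castSucc] at h1
  simp only [Fin.val_castSucc, Fin.val_last] at h1
  have hq : 2 ≤ Fintype.card F := Fintype.one_lt_card
  have h2 : Fintype.card F ^ (m' + 1) - Fintype.card F ^ m'
      = Fintype.card F ^ m' * (Fintype.card F - 1) := by
    rw [Nat.mul_sub, mul_one, pow_succ]
  rw [h2, ← mul_assoc] at h1
  exact Nat.eq_of_mul_eq_mul_right (by omega) h1

theorem dvd_card_SL_of_dvd (m r j : ℕ) (hm : 2 ≤ m) (hj1 : 1 ≤ j) (hjm : j ≤ m)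
    (h : r ∣ Fintype.card F ^ j - 1) :
    r ∣ Nat.card (Matrix.SpecialLinearGroup (Fin m) F) := by
  obtain ⟨m', rfl⟩ : ∃ m', m = m' + 1 := ⟨m - 1, by omega⟩
  rw [card_SL_succ]
  apply Dvd.dvd.mul_right
  have hq : 2 ≤ Fintype.card F := Fintype.one_lt_card
  -- reduce to j ≥ 2
  obtain ⟨j', hj', hjm', h'⟩ : ∃ j', 2 ≤ j' ∧ j' ≤ m' + 1 ∧ r ∣ Fintype.card F ^ j' - 1 := by
    rcases Nat.lt_or_ge j 2 with hlt | hge
    · have hj : j = 1 := by omega
      subst hj
      refine ⟨2, le_rfl, hm, h.trans ?_⟩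
      rw [pow_one]
      refine ⟨Fintype.card F + 1, ?_⟩
      have h3 : 1 ≤ Fintype.card F ^ 2 := Nat.one_le_pow _ _ (by omega)
      zify [h3, (by omega : 1 ≤ Fintype.card F)]
      ring
    · exact ⟨j, hge, hjm, h⟩
  have hi : m' + 1 - j' < m' := by omega
  refine Dvd.dvd.trans ?_ (Finset.dvd_prod_of_mem _ (Finset.mem_univ (⟨m' + 1 - j', hi⟩ : Fin m')))
  have h4 : Fintype.card F ^ (m' + 1) - Fintype.card F ^ (m' + 1 - j')
      = Fintype.card F ^ (m' + 1 - j') * (Fintype.card F ^ j' - 1) := by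
    rw [Nat.mul_sub, mul_one, ← pow_add, Nat.sub_add_cancel hjm']
  show r ∣ Fintype.card F ^ (m' + 1) - Fintype.card F ^ (m' + 1 - j')
  rw [h4]
  exact Dvd.dvd.mul_left h' _

theorem char_dvd_card_SL (m p : ℕ) [CharP F p] (hm : 2 ≤ m) :
    p ∣ Nat.card (Matrix.SpecialLinearGroup (Fin m) F) := by
  obtain ⟨m', rfl⟩ : ∃ m', m = m' + 1 := ⟨m - 1, by omega⟩
  rw [card_SL_succ]
  apply Dvd.dvd.mul_left
  obtain ⟨k, hp, hk⟩ := FiniteField.card F p
  rw [hk]
  have : 0 < (k : ℕ) * m' := Nat.mul_pos k.pos (by omega)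
  rw [← pow_mul]
  exact dvd_pow_self p this.ne'

/-- The matrix-level statement. -/
theorem exists_of_commute_SL (p : ℕ) [hp : Fact p.Prime] [CharP F p] (n : ℕ) (hn : 4 ≤ n)
    (A B : Matrix.SpecialLinearGroup (Fin n) F)
    (hA : A ^ p ∈ Subgroup.center (Matrix.SpecialLinearGroup (Fin n) F))
    (hA1 : A ∉ Subgroup.center (Matrix.SpecialLinearGroup (Fin n) F))
    (hAB : ∃ Z ∈ Subgroup.center (Matrix.SpecialLinearGroup (Fin n) F), A * B = B * A * Z)
    (r : ℕ) [hr : Fact r.Prime] (hrB : r ∣ orderOf B) (hrp : r ≠ p) :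
    ∃ j, 1 ≤ j ∧ j + 2 ≤ n ∧ r ∣ Fintype.card F ^ j - 1 := by
  classical
  haveI : NeZero n := ⟨by omega⟩
  haveI : Nonempty (Fin n) := ⟨⟨0, by omega⟩⟩
  obtain ⟨Am, hAm⟩ : ∃ Am : Matrix (Fin n) (Fin n) F, Am = (A : Matrix (Fin n) (Fin n) F) :=
    ⟨_, rfl⟩
  obtain ⟨Bm, hBm⟩ : ∃ Bm : Matrix (Fin n) (Fin n) F, Bm = (B : Matrix (Fin n) (Fin n) F) :=
    ⟨_, rfl⟩
  have hBdet : Bm.det = 1 := hBm ▸ B.2
  have hB0 : Bm ≠ 0 := by
    intro h
    rw [h, Matrix.det_zero] at hBdet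
    exact zero_ne_one hBdet
  -- A^p scalar
  obtain ⟨ζ, hζ1, hζ⟩ := Matrix.SpecialLinearGroup.mem_center_iff.mp hA
  have hζ' : Am ^ p = Matrix.scalar (Fin n) ζ := by
    rw [hζ, hAm, Matrix.SpecialLinearGroup.coe_pow]
  have hζ0 : ζ ≠ 0 := by
    rintro rfl
    rw [Fintype.card_fin, zero_pow (by omega)] at hζ1
    exact zero_ne_one hζ1
  -- commutation up to scalar
  obtain ⟨Z, hZ, hABZ⟩ := hAB
  obtain ⟨lam, -, hlam⟩ := Matrix.SpecialLinearGroup.mem_center_iff.mp hZ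
  have hAB' : Am * Bm = lam • (Bm * Am) := by
    have := congrArg (fun X : Matrix.SpecialLinearGroup (Fin n) F => (X : Matrix (Fin n) (Fin n) F)) hABZ
    simp only [Matrix.SpecialLinearGroup.coe_mul] at this
    rw [← hlam, ← hAm, ← hBm] at this
    rw [this, Matrix.scalar_apply, ← Matrix.smul_one_eq_diagonal, Matrix.mul_smul, Matrix.mul_one]
  have hpow : ∀ k : ℕ, Am ^ k * Bm = lam ^ k • (Bm * Am ^ k) := by
    intro k
    induction k with
    | zero => simp
    | succ k ih =>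
      rw [pow_succ', Matrix.mul_assoc, ih, Matrix.mul_smul, ← Matrix.mul_assoc, hAB',
        Matrix.smul_mul, smul_smul, Matrix.mul_assoc, ← pow_succ', pow_succ lam]
  have hlam1 : lam = 1 := by
    have h1 := hpow p
    rw [hζ', Matrix.scalar_apply, ← Matrix.smul_one_eq_diagonal, Matrix.smul_mul, Matrix.one_mul,
      Matrix.mul_smul, Matrix.mul_one, smul_smul] at h1
    have h2 : (ζ - lam ^ p * ζ) • Bm = 0 := by rw [sub_smul, ← h1, sub_self]
    rcases smul_eq_zero.mp h2 with h3 | h3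
    · have h4 : (1 - lam ^ p) * ζ = 0 := by rw [sub_mul, one_mul]; exact h3
      rcases mul_eq_zero.mp h4 with h5 | h5
      · have h6 : (lam - 1) ^ p = 0 := by
          rw [sub_pow_char_of_commute p (Commute.one_right lam), one_pow]
          rw [sub_eq_zero] at h5 ⊢
          exact h5.symm
        exact sub_eq_zero.mp (pow_eq_zero_iff hp.out.ne_zero |>.mp h6)
      · exact absurd h5 hζ0
    · exact absurd h3 hB0
  have hcomm : Am * Bm = Bm * Am := by rw [hAB', hlam1, one_smul]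
  -- nilpotent part
  obtain ⟨ζ₀, hζ₀⟩ : ∃ ζ₀ : F, ζ₀ ^ p = ζ := ⟨(frobeniusEquiv F p).symm ζ, frobeniusEquiv_symm_pow_p F p ζ⟩
  obtain ⟨Nm, hNm⟩ : ∃ Nm : Matrix (Fin n) (Fin n) F, Nm = Am - Matrix.scalar (Fin n) ζ₀ := ⟨_, rfl⟩
  have hNp : Nm ^ p = 0 := by
    rw [hNm, sub_pow_char_of_commute p (Matrix.scalar_commute ζ₀ (fun _ => Commute.all _ _) Am).symm,
      hζ', ← map_pow, hζ₀, sub_self]
  have hN0 : Nm ≠ 0 := by
    intro h
    apply hA1
    rw [hNm, sub_eq_zero] at h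
    rw [Matrix.SpecialLinearGroup.mem_center_iff]
    refine ⟨ζ₀, ?_, by rw [← h, hAm]⟩
    have hdet : Am.det = 1 := hAm ▸ A.2
    rw [h, Matrix.scalar_apply, Matrix.det_diagonal, Finset.prod_const, Finset.card_univ] at hdet
    exact hdet
  have hNB : Nm * Bm = Bm * Nm := by
    rw [hNm, sub_mul, mul_sub, hcomm,
      (Matrix.scalar_commute ζ₀ (fun _ => Commute.all _ _) Bm).eq]
  -- the element of order r
  have hBpos : 0 < orderOf B := orderOf_pos B
  obtain ⟨k, hk⟩ := hrB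
  have hkpos : 0 < k := by
    rcases Nat.eq_zero_or_pos k with rfl | h
    · rw [mul_zero] at hk; omega
    · exact h
  have hCord : orderOf (B ^ k) = r := by
    rw [orderOf_pow_of_dvd hkpos.ne' (by rw [hk]; exact Dvd.intro_left r rfl), hk,
      Nat.mul_div_cancel _ hkpos]
  obtain ⟨Cm, hCm⟩ : ∃ Cm : Matrix (Fin n) (Fin n) F, Cm = Bm ^ k := ⟨_, rfl⟩
  have hCcoe : ((B ^ k : Matrix.SpecialLinearGroup (Fin n) F) : Matrix (Fin n) (Fin n) F) = Cm := by
    rw [hCm, hBm, Matrix.SpecialLinearGroup.coe_pow]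
  have hCr : Cm ^ r = 1 := by
    have := pow_orderOf_eq_one (B ^ k)
    rw [hCord] at this
    have h2 := congrArg (fun X : Matrix.SpecialLinearGroup (Fin n) F =>
      (X : Matrix (Fin n) (Fin n) F)) this
    simp only [Matrix.SpecialLinearGroup.coe_pow, Matrix.SpecialLinearGroup.coe_one] at h2
    rw [← hCcoe]
    exact h2
  have hC1 : Cm ≠ 1 := by
    intro h
    have : B ^ k = 1 := by
      apply Subtype.ext
      rw [hCcoe, h]
      rfl
    rw [this, orderOf_one] at hCord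
    exact hr.out.one_lt.ne hCord
  have hCN : Cm * Nm = Nm * Cm := by
    rw [hCm]
    have : ∀ i : ℕ, Bm ^ i * Nm = Nm * Bm ^ i := by
      intro i
      induction i with
      | zero => simp
      | succ i ih => rw [pow_succ, Matrix.mul_assoc, ← hNB, ← Matrix.mul_assoc, ih, Matrix.mul_assoc]
    exact this k
  -- transfer to linear maps
  let e := Matrix.toLinAlgEquiv' (R := F) (n := Fin n)
  have hrF : (r : F) ≠ 0 := by
    intro h
    rw [CharP.cast_eq_zero_iff F p] at h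
    exact hrp ((Nat.prime_dvd_prime_iff_eq hp.out hr.out).mp h).symm
  have hrq : ¬ r ∣ Fintype.card F := by
    obtain ⟨kk, -, hkk⟩ := FiniteField.card F p
    rw [hkk]
    intro h
    exact hrp ((Nat.prime_dvd_prime_iff_eq hr.out hp.out).mp (hr.out.dvd_of_dvd_pow h))
  have hmain := main (F := F) (V := Fin n → F) (e Nm) (e Cm) r hrq hrF
    ⟨p, by rw [← map_pow, hNp, map_zero]⟩
    (by intro h; exact hN0 (e.injective (by rw [h, map_zero])))
    (by rw [← map_mul, ← map_mul, hCN])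
    (by rw [← map_pow, hCr, map_one])
    (by intro h; exact hC1 (e.injective (by rw [h, map_one])))
    (by rw [Module.finrank_fin_fun]; exact hn)
  rw [Module.finrank_fin_fun] at hmain
  exact hmain

theorem primeFactors_subset (p : ℕ) [hp : Fact p.Prime] [CharP F p] (n : ℕ) (hn : 4 ≤ n)
    (a b : Matrix.ProjectiveSpecialLinearGroup (Fin n) F) (ha : orderOf a = p)
    (hab : Commute a b) :
    (orderOf b).primeFactors ⊆
      (Nat.card (Matrix.SpecialLinearGroup (Fin (n - 2)) F)).primeFactors := by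
  intro r hr
  rw [Nat.mem_primeFactors] at hr ⊢
  obtain ⟨hrprime, hrb, hb0⟩ := hr
  refine ⟨hrprime, ?_, Nat.card_pos.ne'⟩
  haveI : Fact r.Prime := ⟨hrprime⟩
  by_cases hrp : r = p
  · rw [hrp]
    exact char_dvd_card_SL (n - 2) p (by omega)
  obtain ⟨A, rfl⟩ := QuotientGroup.mk_surjective a
  obtain ⟨B, rfl⟩ := QuotientGroup.mk_surjective b
  have hA : A ^ p ∈ Subgroup.center (Matrix.SpecialLinearGroup (Fin n) F) := by
    rw [← QuotientGroup.eq_one_iff, QuotientGroup.mk_pow, ← ha]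
    exact pow_orderOf_eq_one _
  have hA1 : A ∉ Subgroup.center (Matrix.SpecialLinearGroup (Fin n) F) := by
    intro h
    rw [← QuotientGroup.eq_one_iff] at h
    rw [h, orderOf_one] at ha
    exact hp.out.one_lt.ne ha
  have hAB : ∃ Z ∈ Subgroup.center (Matrix.SpecialLinearGroup (Fin n) F), A * B = B * A * Z := by
    refine ⟨(B * A)⁻¹ * (A * B), ?_, by group⟩
    have h := hab.eq
    rw [← QuotientGroup.mk_mul, ← QuotientGroup.mk_mul] at h
    exact QuotientGroup.eq.mp h.symm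
  have hrB : r ∣ orderOf B := hrb.trans (orderOf_map_dvd (QuotientGroup.mk' _) B)
  obtain ⟨j, hj1, hj2, hj3⟩ := exists_of_commute_SL p n hn A B hA hA1 hAB r hrB hrp
  exact dvd_card_SL_of_dvd (n - 2) r j (by omega) hj1 (by omega) hj3

end Cfsg.Agent.Lib.Helper4.PSLCent
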