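import Mathlib

/-!
HIG farm (S3050), unit U3': from the conclusion of the ring lemma (matrix units
`e, A, B` and a ring hom `γ : K → End V`) to coordinates `V ≃+ (Fin k → Fin 2 → K)`
in which `SL₂(K)` acts by matrix multiplication.
-/

namespace Cfsg.Agent.Lib.Helper4.HIG

open Matrix

/-- Matrix unit data in `End V` together with the "scalar" maps `γ`. -/
structure MUData (K : Type*) (V : Type*) [Field K] [AddCommGroup V] where
  e : AddMonoid.End V
  A : AddMonoid.End V
  B : AddMonoid.End V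
  γ : K → AddMonoid.End V
  he : e = A * B
  hee : e * e = e
  hAA : A * A = 0
  hBB : B * B = 0
  hAB : A * B + B * A = 1
  heγ : ∀ a, e * γ a = γ a
  hγe : ∀ a, γ a * e = γ a
  hadd : ∀ a b, γ (a + b) = γ a + γ b
  hmul : ∀ a b, γ (a * b) = γ a * γ b
  h1 : γ 1 = e
  h0 : γ 0 = 0

namespace MUData

variable {K : Type*} {V : Type*} [Field K] [AddCommGroup V] (d : MUData K V)

theorem hBA : d.B * d.A = 1 - d.A * d.B := eq_sub_of_add_eq' d.hAB

theorem eA : d.e * d.A = d.A := by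
  rw [d.he, mul_assoc, d.hBA, mul_sub, mul_one, ← mul_assoc, d.hAA, zero_mul, sub_zero]

theorem Ae : d.A * d.e = 0 := by
  rw [d.he, ← mul_assoc, d.hAA, zero_mul]

theorem eB : d.e * d.B = 0 := by
  rw [d.he, mul_assoc, d.hBB, mul_zero]

theorem Aγ (a : K) : d.A * d.γ a = 0 := by
  rw [← d.heγ a, ← mul_assoc, d.Ae, zero_mul]

theorem e_add_BA : d.e + d.B * d.A = 1 := by
  rw [d.he]; exact d.hAB

/-- pointwise forms -/
theorem e_e (v : V) : d.e (d.e v) = d.e v := DFunLike.congr_fun d.hee v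
theorem e_A (v : V) : d.e (d.A v) = d.A v := DFunLike.congr_fun d.eA v
theorem A_e (v : V) : d.A (d.e v) = 0 := DFunLike.congr_fun d.Ae v
theorem e_B (v : V) : d.e (d.B v) = 0 := DFunLike.congr_fun d.eB v
theorem A_B (v : V) : d.A (d.B v) = d.e v := (DFunLike.congr_fun d.he v).symm
theorem A_γ (a : K) (v : V) : d.A (d.γ a v) = 0 := DFunLike.congr_fun (d.Aγ a) v
theorem e_γ (a : K) (v : V) : d.e (d.γ a v) = d.γ a v := DFunLike.congr_fun (d.heγ a) v
theorem γ_e (a : K) (v : V) : d.γ a (d.e v) = d.γ a v := DFunLike.congr_fun (d.hγe a) v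
theorem e_add_B_A (v : V) : d.e v + d.B (d.A v) = v := DFunLike.congr_fun d.e_add_BA v

/-- The subgroup `V₁ = e V`. -/
def V1 : AddSubgroup V where
  carrier := {v | d.e v = v}
  zero_mem' := map_zero _
  add_mem' := fun {a b} ha hb => by
    simp only [Set.mem_setOf_eq] at *
    rw [map_add, ha, hb]
  neg_mem' := fun {a} ha => by
    simp only [Set.mem_setOf_eq] at *
    rw [map_neg, ha]

theorem mem_V1 {v : V} : v ∈ d.V1 ↔ d.e v = v := Iff.rfl

instance instModuleV1 : Module K d.V1 where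
  smul a v := ⟨d.γ a v, d.e_γ a v⟩
  one_smul v := Subtype.ext (by
    show d.γ 1 (v : V) = v
    rw [d.h1]; exact v.2)
  mul_smul a b v := Subtype.ext (by
    show d.γ (a * b) (v : V) = d.γ a (d.γ b v)
    rw [d.hmul]; rfl)
  smul_zero a := Subtype.ext (map_zero _)
  smul_add a v w := Subtype.ext (map_add _ _ _)
  add_smul a b v := Subtype.ext (by
    show d.γ (a + b) (v : V) = d.γ a v + d.γ b v
    rw [d.hadd]; rfl)
  zero_smul v := Subtype.ext (by
    show d.γ 0 (v : V) = 0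
    rw [d.h0]; rfl)

theorem coe_smul (a : K) (v : d.V1) : ((a • v : d.V1) : V) = d.γ a v := rfl

/-- first coordinate -/
def c1 : V →+ d.V1 where
  toFun v := ⟨d.e v, d.e_e v⟩
  map_zero' := Subtype.ext (map_zero _)
  map_add' v w := Subtype.ext (map_add _ _ _)

/-- second coordinate -/
def c2 : V →+ d.V1 where
  toFun v := ⟨d.A v, d.e_A v⟩
  map_zero' := Subtype.ext (map_zero _)
  map_add' v w := Subtype.ext (map_add _ _ _)

theorem coe_c1 (v : V) : ((d.c1 v : d.V1) : V) = d.e v := rfl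
theorem coe_c2 (v : V) : ((d.c2 v : d.V1) : V) = d.A v := rfl

/-- `V ≃+ V₁ × V₁`. -/
def Φ : V ≃+ d.V1 × d.V1 where
  toFun v := (d.c1 v, d.c2 v)
  invFun p := (p.1 : V) + d.B (p.2 : V)
  left_inv v := d.e_add_B_A v
  right_inv p := by
    obtain ⟨⟨p1, h1⟩, ⟨p2, h2⟩⟩ := p
    have h1' : d.e p1 = p1 := h1
    have h2' : d.e p2 = p2 := h2
    refine Prod.ext (Subtype.ext ?_) (Subtype.ext ?_)
    · show d.e (p1 + d.B p2) = p1
      rw [map_add, d.e_B, add_zero, h1']
    · show d.A (p1 + d.B p2) = p2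
      rw [map_add, d.A_B, ← h1', d.A_e, zero_add, h2']
  map_add' v w := Prod.ext (map_add _ _ _) (map_add _ _ _)

end MUData

/-- pairs of coordinate vectors as `Fin k → Fin 2 → K` -/
def pairEquiv (k : ℕ) (K : Type*) [AddCommGroup K] :
    (Fin k → K) × (Fin k → K) ≃+ (Fin k → Fin 2 → K) where
  toFun p := fun i => ![p.1 i, p.2 i]
  invFun f := (fun i => f i 0, fun i => f i 1)
  left_inv p := by ext <;> simp
  right_inv f := by
    ext i j
    fin_cases j <;> simp
  map_add' p q := by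
    ext i j
    fin_cases j <;> simp

theorem module_coords_core {K : Type*} [Field K] [Finite K]
    (U L : K → Matrix.SpecialLinearGroup (Fin 2) K)
    (hU : ∀ a, (U a : Matrix (Fin 2) (Fin 2) K) = !![1, a; 0, 1])
    (hL : ∀ a, (L a : Matrix (Fin 2) (Fin 2) K) = !![1, 0; a, 1])
    (hgen : Subgroup.closure (Set.range U ∪ Set.range L) = ⊤)
    {V : Type*} [AddCommGroup V] [Finite V]
    (ρ : Matrix.SpecialLinearGroup (Fin 2) K →* AddMonoid.End V)
    (e A B : AddMonoid.End V) (γ : K → AddMonoid.End V)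
    (he : e = A * B) (hee : e * e = e) (hAA : A * A = 0) (hBB : B * B = 0)
    (hAB : A * B + B * A = 1)
    (heγ : ∀ a, e * γ a = γ a) (hγe : ∀ a, γ a * e = γ a)
    (hadd : ∀ a b, γ (a + b) = γ a + γ b) (hmul : ∀ a b, γ (a * b) = γ a * γ b)
    (h1 : γ 1 = e) (h0 : γ 0 = 0)
    (hu : ∀ a, ρ (U a) = 1 + γ a * A) (hl : ∀ a, ρ (L a) = 1 + B * γ a) :
    ∃ (k : ℕ) (Ψ : V ≃+ (Fin k → Fin 2 → K)),
      ∀ g v i, Ψ (ρ g v) i = (g : Matrix (Fin 2) (Fin 2) K).mulVec (Ψ v i) := by
  classical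
  let d : MUData K V := ⟨e, A, B, γ, he, hee, hAA, hBB, hAB, heγ, hγe, hadd, hmul, h1, h0⟩
  have hfin : Finite d.V1 := inferInstance
  have hmf : Module.Finite K d.V1 := Module.Finite.of_finite
  let b := Module.finBasis K d.V1
  let k := Module.finrank K d.V1
  let Ψ : V ≃+ (Fin k → Fin 2 → K) :=
    (d.Φ.trans (b.equivFun.toAddEquiv.prodCongr b.equivFun.toAddEquiv)).trans (pairEquiv k K)
  have hΨ : ∀ v i, Ψ v i = ![b.repr (d.c1 v) i, b.repr (d.c2 v) i] := fun v i => rfl
  refine ⟨k, Ψ, ?_⟩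
  -- generators
  have hPU : ∀ a v i, Ψ (ρ (U a) v) i = (U a : Matrix (Fin 2) (Fin 2) K).mulVec (Ψ v i) := by
    intro a v i
    have hv : ρ (U a) v = v + γ a (A v) := by rw [hu]; rfl
    have e1 : d.c1 (ρ (U a) v) = d.c1 v + a • d.c2 v := by
      apply Subtype.ext
      show e (ρ (U a) v) = e v + γ a (A v)
      rw [hv, map_add]
      congr 1
      exact d.e_γ a (A v)
    have e2 : d.c2 (ρ (U a) v) = d.c2 v := by
      apply Subtype.ext
      show A (ρ (U a) v) = A v
      rw [hv, map_add]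
      have : A (γ a (A v)) = 0 := d.A_γ a (A v)
      rw [this, add_zero]
    rw [hΨ, hΨ, e1, e2, hU]
    ext j
    fin_cases j <;> simp [Matrix.mulVec, dotProduct, Fin.sum_univ_two]
  have hPL : ∀ a v i, Ψ (ρ (L a) v) i = (L a : Matrix (Fin 2) (Fin 2) K).mulVec (Ψ v i) := by
    intro a v i
    have hv : ρ (L a) v = v + B (γ a v) := by rw [hl]; rfl
    have e1 : d.c1 (ρ (L a) v) = d.c1 v := by
      apply Subtype.ext
      show e (ρ (L a) v) = e v
      rw [hv, map_add]
      have : e (B (γ a v)) = 0 := d.e_B _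
      rw [this, add_zero]
    have e2 : d.c2 (ρ (L a) v) = d.c2 v + a • d.c1 v := by
      apply Subtype.ext
      show A (ρ (L a) v) = A v + γ a (e v)
      rw [hv, map_add]
      congr 1
      have h3 : A (B (γ a v)) = e (γ a v) := d.A_B _
      have h4 : e (γ a v) = γ a v := d.e_γ a v
      have h5 : γ a (e v) = γ a v := d.γ_e a v
      rw [h3, h4, h5]
    rw [hΨ, hΨ, e1, e2, hL]
    ext j
    fin_cases j <;> simp [Matrix.mulVec, dotProduct, Fin.sum_univ_two, add_comm]
  intro g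
  have hg : g ∈ Subgroup.closure (Set.range U ∪ Set.range L) := by rw [hgen]; trivial
  induction hg using Subgroup.closure_induction with
  | mem x hx =>
    rcases hx with ⟨a, rfl⟩ | ⟨a, rfl⟩
    · exact hPU a
    · exact hPL a
  | one =>
    intro v i
    rw [map_one]
    simp
  | mul x y _ _ hx hy =>
    intro v i
    rw [map_mul]
    have : (ρ x * ρ y) v = ρ x (ρ y v) := rfl
    rw [this, hx, hy, Matrix.SpecialLinearGroup.coe_mul, Matrix.mulVec_mulVec]
  | inv x _ hx =>
    intro v i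
    have h1 : ρ x (ρ x⁻¹ v) = v := by
      have : (ρ x * ρ x⁻¹) v = v := by rw [← map_mul, mul_inv_cancel, map_one]; rfl
      exact this
    have h2 := hx (ρ x⁻¹ v) i
    rw [h1] at h2
    rw [h2, Matrix.mulVec_mulVec, ← Matrix.SpecialLinearGroup.coe_mul, inv_mul_cancel]
    simp

end Cfsg.Agent.Lib.Helper4.HIG
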