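import Mathlib
import Cfsg.Prelude.Def_BaumannBlocks

/-!
HIG farm (S3050), unit U10 (Part F): packaging.  `Q` elementary abelian, with coordinates
`Additive Q ≃+ (Fin k → Fin 2 → K)` in which `G/Q ≅ SL₂(K)` acts by matrix multiplication,
gives the decomposition of `Q` into natural modules.
-/

namespace Cfsg.Agent.Lib.Helper4.HIG

open scoped IsMulCommutative

section conj

variable {G : Type*} [Group G] (Q : Subgroup G) [Q.Normal] [IsMulCommutative Q]

/-- conjugation action of `G` on `Additive Q` -/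
def conjEnd : G →* AddMonoid.End (Additive Q) where
  toFun g :=
    { toFun := fun q => Additive.ofMul (MulAut.conjNormal g (Additive.toMul q))
      map_zero' := by simp
      map_add' := fun a b => by simp }
  map_one' := by
    apply AddMonoidHom.ext
    intro q
    simp
    rfl
  map_mul' g h := by
    apply AddMonoidHom.ext
    intro q
    simp [map_mul]
    rfl

theorem conjEnd_apply (g : G) (q : Additive Q) :
    conjEnd Q g q = Additive.ofMul (MulAut.conjNormal g (Additive.toMul q)) := rfl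

theorem coe_conjEnd_apply (g : G) (q : Additive Q) :
    ((Additive.toMul (conjEnd Q g q) : Q) : G) = g * ((Additive.toMul q : Q) : G) * g⁻¹ := by
  rw [conjEnd_apply, toMul_ofMul, MulAut.conjNormal_apply]

theorem conjEnd_eq_one_of_mem {g : G} (hg : g ∈ Q) : conjEnd Q g = 1 := by
  apply AddMonoidHom.ext
  intro q
  apply Additive.toMul.injective
  apply Subtype.ext
  change g * ((Additive.toMul q : Q) : G) * g⁻¹ = ((Additive.toMul q : Q) : G)
  have h := mul_comm (⟨g, hg⟩ : Q) (Additive.toMul q)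
  have h' : g * ((Additive.toMul q : Q) : G) = ((Additive.toMul q : Q) : G) * g :=
    congrArg Subtype.val h
  rw [h', mul_assoc, mul_inv_cancel, mul_one]

/-- the action of `SL₂(K)` on `Additive Q` through `e : G ⧸ Q ≃* SL₂(K)` -/
noncomputable def rho0 {S : Type*} [Group S] (e : G ⧸ Q ≃* S) : S →* AddMonoid.End (Additive Q) :=
  (QuotientGroup.lift Q (conjEnd Q) (fun _ hg => conjEnd_eq_one_of_mem Q hg)).comp
    e.symm.toMonoidHom

theorem rho0_apply {S : Type*} [Group S] (e : G ⧸ Q ≃* S) (g : G) :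
    rho0 Q e (e (QuotientGroup.mk g)) = conjEnd Q g := by
  simp [rho0]
  rfl

end conj

section blocks

variable {Q' : Type*} [CommGroup Q'] {k : ℕ} {M : Type*} [AddCommGroup M]

/-- the `i`-th coordinate block of `Q'` with respect to coordinates `Ψ`. -/
def blockSub (Ψ : Additive Q' ≃+ (Fin k → M)) (i : Fin k) : Subgroup Q' where
  carrier := {q | ∀ j, j ≠ i → Ψ (Additive.ofMul q) j = 0}
  one_mem' := fun j _ => by
    rw [ofMul_one, map_zero]; rfl
  mul_mem' := fun {a b} ha hb j hj => by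
    rw [ofMul_mul, map_add, Pi.add_apply, ha j hj, hb j hj, add_zero]
  inv_mem' := fun {a} ha j hj => by
    rw [ofMul_inv, map_neg, Pi.neg_apply, ha j hj, neg_zero]

theorem mem_blockSub (Ψ : Additive Q' ≃+ (Fin k → M)) (i : Fin k) (q : Q') :
    q ∈ blockSub Ψ i ↔ ∀ j, j ≠ i → Ψ (Additive.ofMul q) j = 0 := Iff.rfl

theorem blockSub_exists (Ψ : Additive Q' ≃+ (Fin k → M)) (i : Fin k) (w : M) :
    ∃ q ∈ blockSub Ψ i, Ψ (Additive.ofMul q) i = w := by
  classical
  refine ⟨Additive.toMul (Ψ.symm (Pi.single i w)), ?_, ?_⟩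
  · intro j hj
    rw [ofMul_toMul, AddEquiv.apply_symm_apply, Pi.single_eq_of_ne hj]
  · rw [ofMul_toMul, AddEquiv.apply_symm_apply, Pi.single_eq_same]

theorem blockSub_eq_one (Ψ : Additive Q' ≃+ (Fin k → M)) (i : Fin k) (q : Q')
    (hq : q ∈ blockSub Ψ i) (h0 : Ψ (Additive.ofMul q) i = 0) : q = 1 := by
  have h : Ψ (Additive.ofMul q) = 0 := by
    funext j
    by_cases hj : j = i
    · rw [hj, h0]; rfl
    · rw [hq j hj]; rfl
  have h2 : Additive.ofMul q = 0 := by
    rw [← map_zero Ψ] at h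
    exact Ψ.injective h
  exact Additive.ofMul.injective h2

theorem blockSub_iSup (Ψ : Additive Q' ≃+ (Fin k → M)) : ⨆ i, blockSub Ψ i = ⊤ := by
  classical
  rw [eq_top_iff]
  intro q _
  have hq : q = ∏ i, Additive.toMul (Ψ.symm (Pi.single i (Ψ (Additive.ofMul q) i))) := by
    apply Additive.ofMul.injective
    apply Ψ.injective
    rw [ofMul_prod, map_sum]
    simp only [ofMul_toMul, AddEquiv.apply_symm_apply]
    exact (Finset.univ_sum_single _).symm
  rw [hq]
  refine Subgroup.prod_mem _ (fun i _ => Subgroup.mem_iSup_of_mem i ?_)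
  intro j hj
  rw [ofMul_toMul, AddEquiv.apply_symm_apply, Pi.single_eq_of_ne hj]

theorem blockSub_indep (Ψ : Additive Q' ≃+ (Fin k → M)) : iSupIndep (blockSub Ψ) := by
  intro i
  rw [Subgroup.disjoint_def]
  intro q hq1 hq2
  let Ki : Subgroup Q' :=
    { carrier := {q | Ψ (Additive.ofMul q) i = 0}
      one_mem' := by
        show Ψ (Additive.ofMul 1) i = 0
        rw [ofMul_one, map_zero]; rfl
      mul_mem' := fun {a b} ha hb => by
        show Ψ (Additive.ofMul (a * b)) i = 0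
        rw [ofMul_mul, map_add, Pi.add_apply, ha, hb, add_zero]
      inv_mem' := fun {a} ha => by
        show Ψ (Additive.ofMul a⁻¹) i = 0
        rw [ofMul_inv, map_neg, Pi.neg_apply, ha, neg_zero] }
  have hle : (⨆ (j) (_ : j ≠ i), blockSub Ψ j) ≤ Ki := by
    refine iSup₂_le (fun j hj => ?_)
    intro q hq
    exact hq i (Ne.symm hj)
  exact blockSub_eq_one Ψ i q hq1 (hle hq2)

end blocks

theorem partF_core.{u, v} {G : Type u} [Group G] [Finite G]
    (Q : Subgroup G) [Q.Normal]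
    (K : Type v) [Field K]
    (e : G ⧸ Q ≃* Matrix.SpecialLinearGroup (Fin 2) K)
    (x : G) (hx : orderOf x = 3) (hfpf : ∀ q ∈ Q, x * q * x⁻¹ = q → q = 1)
    (hEA : Cfsg.IsElementaryAbelian 2 Q)
    (x0 : Matrix.SpecialLinearGroup (Fin 2) K)
    (hconj : ∀ y : Matrix.SpecialLinearGroup (Fin 2) K, orderOf y = 3 → ∃ P, P * y * P⁻¹ = x0)
    (hcoords : ∀ (V : Type u) [AddCommGroup V] [Finite V], (∀ v : V, v + v = 0) →
      ∀ ρ : Matrix.SpecialLinearGroup (Fin 2) K →* AddMonoid.End V,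
        (∀ v, ρ x0 (ρ x0 v) + ρ x0 v + v = 0) →
        ∃ (k : ℕ) (Ψ : V ≃+ (Fin k → Fin 2 → K)),
          ∀ g v i, Ψ (ρ g v) i = (g : Matrix (Fin 2) (Fin 2) K).mulVec (Ψ v i)) :
    ∃ (k : ℕ) (V : Fin k → Subgroup G), (∀ i, V i ≤ Q ∧ (V i).Normal ∧
        Cfsg.ActsAsSL2OnSection K ⊤ ⊤ (V i) ⊥) ∧ iSupIndep V ∧ ⨆ i, V i = Q := by
  classical
  have : IsMulCommutative Q := hEA.1
  have hnormal : Q.Normal := inferInstance
  -- the image of `x` has order 3
  have hxQ : x ∉ Q := fun h => by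
    have h1 := hfpf x h (by group)
    rw [h1, orderOf_one] at hx
    omega
  have hy3 : orderOf (e (QuotientGroup.mk x)) = 3 := by
    have h1 : (e (QuotientGroup.mk x)) ^ 3 = 1 := by
      rw [← map_pow, ← QuotientGroup.mk_pow, ← hx, pow_orderOf_eq_one]
      simp
    have h2 : e (QuotientGroup.mk x) ≠ 1 := by
      intro h
      have h3 : (QuotientGroup.mk x : G ⧸ Q) = 1 := e.injective (by rw [h, map_one])
      exact hxQ ((QuotientGroup.eq_one_iff x).mp h3)
    have : Fact (Nat.Prime 3) := ⟨by norm_num⟩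
    exact orderOf_eq_prime h1 h2
  obtain ⟨P, hP⟩ := hconj _ hy3
  obtain ⟨p, hp⟩ : ∃ p : G, e (QuotientGroup.mk p) = P := by
    obtain ⟨pq, hpq⟩ := e.surjective P
    obtain ⟨p, rfl⟩ := QuotientGroup.mk_surjective pq
    exact ⟨p, hpq⟩
  have hex' : e (QuotientGroup.mk (p * x * p⁻¹)) = x0 := by
    rw [QuotientGroup.mk_mul, QuotientGroup.mk_mul, QuotientGroup.mk_inv, map_mul, map_mul,
      map_inv, hp]
    exact hP
  have hx'3 : (p * x * p⁻¹) ^ 3 = 1 := by
    rw [conj_pow, ← hx, pow_orderOf_eq_one]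
    group
  have hfpf' : ∀ q ∈ Q, (p * x * p⁻¹) * q * (p * x * p⁻¹)⁻¹ = q → q = 1 := by
    intro q hq h
    have hq' : p⁻¹ * q * p ∈ Q := by
      have h0 := hnormal.conj_mem q hq p⁻¹
      simpa using h0
    have h2 : x * (p⁻¹ * q * p) * x⁻¹ = p⁻¹ * q * p := by
      have h3 : p⁻¹ * ((p * x * p⁻¹) * q * (p * x * p⁻¹)⁻¹) * p = p⁻¹ * q * p := by rw [h]
      calc x * (p⁻¹ * q * p) * x⁻¹ = p⁻¹ * ((p * x * p⁻¹) * q * (p * x * p⁻¹)⁻¹) * p := by group
        _ = p⁻¹ * q * p := h3
    have h3 := hfpf _ hq' h2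
    have h4 : q = p * (p⁻¹ * q * p) * p⁻¹ := by group
    rw [h4, h3]
    group
  -- the hypothesis (H3)
  have hα3 : ∀ v : Additive Q, conjEnd Q (p * x * p⁻¹)
      (conjEnd Q (p * x * p⁻¹) (conjEnd Q (p * x * p⁻¹) v)) = v := by
    intro v
    have h1 : (conjEnd Q (p * x * p⁻¹) * conjEnd Q (p * x * p⁻¹) * conjEnd Q (p * x * p⁻¹)) v
        = v := by
      rw [← map_mul, ← map_mul, ← pow_three', hx'3, map_one]
      rfl
    exact h1
  have hαfix : ∀ v : Additive Q, conjEnd Q (p * x * p⁻¹) v = v → v = 0 := by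
    intro v hv
    have h1 : ((Additive.toMul v : Q) : G) = 1 := by
      apply hfpf' _ (Additive.toMul v).2
      rw [← coe_conjEnd_apply, hv]
    apply Additive.toMul.injective
    apply Subtype.ext
    exact h1
  have H3 : ∀ v : Additive Q, rho0 Q e x0 (rho0 Q e x0 v) + rho0 Q e x0 v + v = 0 := by
    intro v
    rw [← hex', rho0_apply]
    apply hαfix
    rw [map_add, map_add, hα3]
    abel
  have h2V : ∀ v : Additive Q, v + v = 0 := by
    intro v
    apply Additive.toMul.injective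
    apply Subtype.ext
    have h1 := hEA.2 (Additive.toMul v : Q) (Additive.toMul v).2
    rw [pow_two] at h1
    exact h1
  obtain ⟨k, Ψ, hΨ⟩ := hcoords (Additive Q) h2V (rho0 Q e) H3
  -- conjugation in coordinates
  have hconjΨ : ∀ (g : G) (q : Q) (j : Fin k),
      Ψ (Additive.ofMul (MulAut.conjNormal g q)) j =
        ((e (QuotientGroup.mk g) : Matrix.SpecialLinearGroup (Fin 2) K) :
          Matrix (Fin 2) (Fin 2) K).mulVec (Ψ (Additive.ofMul q) j) := by
    intro g q j
    have h1 := hΨ (e (QuotientGroup.mk g)) (Additive.ofMul q) j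
    rw [rho0_apply] at h1
    exact h1
  have hVQ : ∀ i, (blockSub Ψ i).map Q.subtype ≤ Q := fun i => Subgroup.map_subtype_le _
  have hVn : ∀ i, ((blockSub Ψ i).map Q.subtype).Normal := by
    intro i
    refine ⟨fun n hn g => ?_⟩
    obtain ⟨q, hq, rfl⟩ := hn
    refine ⟨MulAut.conjNormal g q, ?_, ?_⟩
    · intro j hj
      rw [hconjΨ, hq j hj, Matrix.mulVec_zero]
    · show ((MulAut.conjNormal g q : Q) : G) = g * (q : G) * g⁻¹
      rw [MulAut.conjNormal_apply]
  refine ⟨k, fun i => (blockSub Ψ i).map Q.subtype, ?_, ?_, ?_⟩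
  · intro i
    refine ⟨hVQ i, hVn i, ?_⟩
    have := hVn i
    refine ⟨?_, bot_le, ?_⟩
    · rw [Subgroup.normalizer_eq_top_iff.mpr (hVn i)]
    -- the two maps
    have hmemQ : ∀ u : ↥((blockSub Ψ i).map Q.subtype), (u : G) ∈ Q := fun u => hVQ i u.2
    have hmemB : ∀ u : ↥((blockSub Ψ i).map Q.subtype),
        (⟨(u : G), hmemQ u⟩ : Q) ∈ blockSub Ψ i := by
      intro u
      obtain ⟨q, hq, hqu⟩ := u.2
      have : (⟨(u : G), hmemQ u⟩ : Q) = q := Subtype.ext hqu.symm
      rw [this]; exact hq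
    let ρ : ↥(⊤ : Subgroup G) →* Matrix.SpecialLinearGroup (Fin 2) K :=
      (e.toMonoidHom.comp (QuotientGroup.mk' Q)).comp (⊤ : Subgroup G).subtype
    let ψ : ↥((blockSub Ψ i).map Q.subtype) →* Multiplicative (Fin 2 → K) :=
      { toFun := fun u => Multiplicative.ofAdd (Ψ (Additive.ofMul (⟨(u : G), hmemQ u⟩ : Q)) i)
        map_one' := by
          have : (⟨((1 : ↥((blockSub Ψ i).map Q.subtype)) : G), hmemQ 1⟩ : Q) = 1 :=
            Subtype.ext rfl
          rw [this, ofMul_one, map_zero]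
          rfl
        map_mul' := fun a b => by
          have : (⟨((a * b : ↥((blockSub Ψ i).map Q.subtype)) : G), hmemQ (a * b)⟩ : Q) =
              (⟨(a : G), hmemQ a⟩ : Q) * ⟨(b : G), hmemQ b⟩ := Subtype.ext rfl
          rw [this, ofMul_mul, map_add, Pi.add_apply, ofAdd_add] }
    have hψ : ∀ u, Multiplicative.toAdd (ψ u) =
        Ψ (Additive.ofMul (⟨(u : G), hmemQ u⟩ : Q)) i := fun u => rfl
    refine ⟨ρ, ψ, ?_, ?_, ?_, ?_⟩
    · rw [MonoidHom.range_eq_top]
      intro s
      obtain ⟨gq, hgq⟩ := e.surjective s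
      obtain ⟨g, rfl⟩ := QuotientGroup.mk_surjective gq
      exact ⟨⟨g, Subgroup.mem_top g⟩, hgq⟩
    · intro w
      obtain ⟨q, hq, hqw⟩ := blockSub_exists Ψ i (Multiplicative.toAdd w)
      refine ⟨⟨(q : G), ⟨q, hq, rfl⟩⟩, ?_⟩
      apply Multiplicative.toAdd.injective
      rw [hψ]
      exact hqw
    · intro u
      constructor
      · intro h
        have h0 : Ψ (Additive.ofMul (⟨(u : G), hmemQ u⟩ : Q)) i = 0 := by
          rw [← hψ, h]; rfl
        have h1 := blockSub_eq_one Ψ i _ (hmemB u) h0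
        rw [Subgroup.mem_bot]
        exact congrArg Subtype.val h1
      · intro h
        rw [Subgroup.mem_bot] at h
        have h1 : (⟨(u : G), hmemQ u⟩ : Q) = 1 := Subtype.ext h
        apply Multiplicative.toAdd.injective
        rw [hψ, h1, ofMul_one, map_zero]
        rfl
    · intro g u
      have hw : (g : G) * (u : G) * (g : G)⁻¹ ∈ (blockSub Ψ i).map Q.subtype :=
        (hVn i).conj_mem _ u.2 _
      refine ⟨⟨_, hw⟩, rfl, ?_⟩
      rw [hψ, hψ]
      have h1 : (⟨(g : G) * (u : G) * (g : G)⁻¹, hmemQ ⟨_, hw⟩⟩ : Q) =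
          MulAut.conjNormal (g : G) (⟨(u : G), hmemQ u⟩ : Q) := by
        apply Subtype.ext
        rw [MulAut.conjNormal_apply]
      rw [h1, hconjΨ]
      rfl
  · -- independence
    have hind := blockSub_indep Ψ
    intro i
    have h1 : (⨆ (j) (_ : j ≠ i), (blockSub Ψ j).map Q.subtype) =
        (⨆ (j) (_ : j ≠ i), blockSub Ψ j).map Q.subtype := by
      rw [Subgroup.map_iSup]
      congr 1
      funext j
      rw [Subgroup.map_iSup]
    rw [h1, disjoint_iff, ← Subgroup.map_inf _ _ _ Q.subtype_injective,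
      disjoint_iff.mp (hind i), Subgroup.map_bot]
  · rw [← Subgroup.map_iSup, blockSub_iSup, ← MonoidHom.range_eq_map, Subgroup.range_subtype]

end Cfsg.Agent.Lib.Helper4.HIG
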