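import Mathlib
import Cfsg.Agent.Lib.Helper2.Cr5Defs
import Cfsg.Agent.S3488
import Cfsg.Agent.Lib.Helper5.PSL2A5
import Cfsg.Agent.Lib.Helper4.SLCard

set_option autoImplicit false
set_option linter.unusedVariables false
set_option linter.unusedSectionVars false
set_option linter.style.longLine false
set_option linter.deprecated false

/-!
# S3600 piece R8d: `A5 ≃* SL2(F4)`
-/

open Cfsg.Agent.Lib.Helper8.C5 Cfsg.Agent.Lib.Helper2.Cr5

namespace Cfsg.Agent.Lib.Helper4.Cr5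

universe u v

/-- PIECE R8d (verbatim). -/
theorem a5_equiv_SL2 (F : Type) [Field F] [Fintype F] (hF : Fintype.card F = 4) :
    Nonempty (A5 ≃* Matrix.SpecialLinearGroup (Fin 2) F) := by
  classical
  obtain ⟨ω, hω⟩ := Cfsg.Agent.S3488.exists_omega hF
  have h2 : (2 : F) = 0 := Cfsg.Agent.S3488.two_eq_zero hF
  haveI : CharP F 2 := CharTwo.of_one_ne_zero_of_two_eq_zero one_ne_zero h2
  have hω' : ω * ω + ω + 1 = 0 := by rw [← hω]; ring
  obtain ⟨H, ⟨e⟩⟩ := Cfsg.Agent.Lib.Helper5.PSL2A5.exists_A5_SL2 ω hω'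
  have hcard : Nat.card (Matrix.SpecialLinearGroup (Fin 2) F) = 60 := by
    rw [Cfsg.Agent.Lib.Helper4.card_SL2, hF]
    norm_num
  have hH : Nat.card ↥H = 60 := by
    rw [Nat.card_congr e.toEquiv]
    exact a5_card (MulEquiv.refl A5)
  have htop : H = ⊤ := by
    rw [← Subgroup.card_eq_iff_eq_top, hH, hcard]
  exact ⟨e.symm.trans ((MulEquiv.subgroupCongr htop).trans Subgroup.topEquiv)⟩

end Cfsg.Agent.Lib.Helper4.Cr5
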