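import Mathlib
import Cfsg.Agent.Lib.Helper4.GH5MO3

/-!
GH5 farm (S3106), Lemma M, part 5: consequences of the type-O model (`TypeOData`).
-/

namespace Cfsg.Agent.Lib.Helper4.GH5

open Equiv

/-! ### decidable facts about the even permutations of `Fin 5` -/

set_option maxRecDepth 100000 in
theorem a5_trans : ∀ i j : Fin 5, ∃ σ : Perm (Fin 5), Perm.sign σ = 1 ∧ σ i = j := by
  decide

set_option maxRecDepth 100000 in
theorem a5_two_trans : ∀ i j k l : Fin 5, i ≠ j → k ≠ l →
    ∃ σ : Perm (Fin 5), Perm.sign σ = 1 ∧ σ i = k ∧ σ j = l := by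
  decide +kernel

set_option maxRecDepth 100000 in
theorem a5_pow_four : ∀ σ : Perm (Fin 5), Perm.sign σ = 1 → σ ^ 4 = 1 → σ * σ = 1 := by
  decide +kernel

set_option maxRecDepth 100000 in
set_option synthInstance.maxSize 100000 in
set_option synthInstance.maxHeartbeats 2000000 in
theorem a5_klein : ∀ x y : Perm (Fin 5), Perm.sign x = 1 → Perm.sign y = 1 → x ≠ 1 → y ≠ 1 →
    x ≠ y → x * x = 1 → y * y = 1 → x * y = y * x →
    ∃ m : Fin 5, x m = m ∧ y m = m ∧ (∀ a : Fin 5, x a = a → y a = a → a = m) ∧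
      (∀ a b : Fin 5, a ≠ b → ¬ (((x a = a ∧ x b = b) ∨ (x a = b ∧ x b = a)) ∧
        ((y a = a ∧ y b = b) ∨ (y a = b ∧ y b = a)))) := by
  decide +kernel

namespace TypeOData

variable {G : Type*} [Group G] {U : Type*} [AddCommGroup U] {ρ : G →* AddMonoid.End U}
  (d : TypeOData ρ)

/-- the even permutation of `Fin 5` attached to `g`. -/
def perm (g : G) : Perm (Fin 5) := ((d.φ g : alternatingGroup (Fin 5)) : Perm (Fin 5))

theorem perm_mul (g h : G) : d.perm (g * h) = d.perm g * d.perm h := by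
  simp [perm, map_mul]

theorem perm_one : d.perm 1 = 1 := by
  simp [perm]

theorem perm_pow (g : G) (n : ℕ) : d.perm (g ^ n) = d.perm g ^ n := by
  simp [perm, map_pow]

theorem perm_injective : Function.Injective d.perm := by
  intro g h hgh
  apply d.φ.injective
  exact Subtype.ext hgh

theorem sign_perm (g : G) : Perm.sign (d.perm g) = 1 :=
  Equiv.Perm.mem_alternatingGroup.mp (d.φ g).2

theorem exists_perm (σ : Perm (Fin 5)) (hσ : Perm.sign σ = 1) : ∃ g : G, d.perm g = σ :=
  ⟨d.φ.symm ⟨σ, Equiv.Perm.mem_alternatingGroup.mpr hσ⟩, by simp [perm]⟩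

theorem smul_w' (g : G) (i : Fin 5) : ρ g (d.w i) = d.w (d.perm g i) := d.smul_w g i

theorem w_injective : Function.Injective d.w := by
  intro i j hij
  have h := d.sum_eq {i} {j} (by simpa using hij)
  rcases h with h | h
  · exact (Finset.singleton_injective h).symm
  · exfalso
    have h1 := congrArg Finset.card h
    rw [Finset.card_singleton, Finset.card_compl, Finset.card_singleton, Fintype.card_fin] at h1
    omega

theorem w_ne_zero (i : Fin 5) : d.w i ≠ 0 := by
  intro h0
  have h := d.sum_eq ∅ {i} (by simp [h0])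
  rcases h with h | h
  · exact Finset.singleton_ne_empty i h
  · have h1 := congrArg Finset.card h
    simp at h1

theorem pair_ne_zero {a b : Fin 5} (hab : a ≠ b) : d.w a + d.w b ≠ 0 := by
  intro h0
  have h := d.sum_eq ∅ {a, b} (by rw [Finset.sum_pair hab, h0]; simp)
  rcases h with h | h
  · exact Finset.insert_ne_empty a {b} h
  · have h1 := congrArg Finset.card h
    rw [Finset.card_pair hab] at h1
    simp at h1

theorem pair_ne_w {a b : Fin 5} (hab : a ≠ b) (c : Fin 5) : d.w a + d.w b ≠ d.w c := by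
  intro h0
  have h := d.sum_eq {c} {a, b} (by rw [Finset.sum_pair hab, h0]; simp)
  rcases h with h | h
  · have h1 := congrArg Finset.card h
    rw [Finset.card_pair hab] at h1
    simp at h1
  · have h1 := congrArg Finset.card h
    rw [Finset.card_pair hab, Finset.card_compl, Finset.card_singleton, Fintype.card_fin] at h1
    omega

theorem pair_eq_pair {a b a' b' : Fin 5} (hab : a ≠ b) (hab' : a' ≠ b')
    (h : d.w a' + d.w b' = d.w a + d.w b) :
    (a' = a ∧ b' = b) ∨ (a' = b ∧ b' = a) := by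
  have h1 := d.sum_eq {a, b} {a', b'} (by rw [Finset.sum_pair hab, Finset.sum_pair hab', h])
  rcases h1 with h1 | h1
  · have ha' : a' ∈ ({a, b} : Finset (Fin 5)) := by rw [← h1]; simp
    have hb' : b' ∈ ({a, b} : Finset (Fin 5)) := by rw [← h1]; simp
    rw [Finset.mem_insert, Finset.mem_singleton] at ha' hb'
    rcases ha' with ha' | ha' <;> rcases hb' with hb' | hb'
    · exact absurd (ha'.trans hb'.symm) hab'
    · left; exact ⟨ha', hb'⟩
    · right; exact ⟨ha', hb'⟩
    · exact absurd (ha'.trans hb'.symm) hab'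
  · exfalso
    have h2 := congrArg Finset.card h1
    rw [Finset.card_pair hab', Finset.card_compl, Finset.card_pair hab, Fintype.card_fin] at h2
    omega

theorem fix_w_iff (g : G) (a : Fin 5) : ρ g (d.w a) = d.w a ↔ d.perm g a = a := by
  rw [d.smul_w']
  exact ⟨fun h => d.w_injective h, fun h => by rw [h]⟩

theorem fix_pair_iff (g : G) {a b : Fin 5} (hab : a ≠ b) :
    ρ g (d.w a + d.w b) = d.w a + d.w b ↔
      (d.perm g a = a ∧ d.perm g b = b) ∨ (d.perm g a = b ∧ d.perm g b = a) := by
  rw [map_add, d.smul_w', d.smul_w']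
  constructor
  · intro h
    have hne : d.perm g a ≠ d.perm g b := fun h' => hab ((d.perm g).injective h')
    exact d.pair_eq_pair hab hne h
  · rintro (⟨h1, h2⟩ | ⟨h1, h2⟩)
    · rw [h1, h2]
    · rw [h1, h2, add_comm]

section char2

variable (hU2 : ∀ u : U, u + u = 0)

theorem cases_small (T : Finset (Fin 5)) (hT : T.card ≤ 2) :
    ∑ i ∈ T, d.w i = 0 ∨ (∃ i, ∑ i ∈ T, d.w i = d.w i) ∨
      ∃ i j, i ≠ j ∧ ∑ i ∈ T, d.w i = d.w i + d.w j := by
  rcases Nat.lt_or_ge T.card 1 with h | h
  · left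
    have : T = ∅ := Finset.card_eq_zero.mp (by omega)
    rw [this, Finset.sum_empty]
  rcases Nat.lt_or_ge T.card 2 with h' | h'
  · right; left
    obtain ⟨a, rfl⟩ := Finset.card_eq_one.mp (by omega : T.card = 1)
    exact ⟨a, Finset.sum_singleton _ _⟩
  · right; right
    obtain ⟨a, b, hab, rfl⟩ := Finset.card_eq_two.mp (by omega : T.card = 2)
    exact ⟨a, b, hab, Finset.sum_pair hab⟩

include hU2 in
/-- every vector is `0`, some `w i`, or some `w i + w j` with `i ≠ j`. -/
theorem cases_vec (u : U) :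
    u = 0 ∨ (∃ i, u = d.w i) ∨ ∃ i j, i ≠ j ∧ u = d.w i + d.w j := by
  obtain ⟨S, rfl⟩ := d.span u
  rcases Nat.lt_or_ge S.card 3 with h | h
  · exact d.cases_small S (by omega)
  · have hc : Sᶜ.card ≤ 2 := by
      rw [Finset.card_compl, Fintype.card_fin]
      omega
    rw [← sum_compl hU2 d.w d.sum_w S]
    exact d.cases_small Sᶜ hc

include hU2 in
/-- (M(iii), upper bound) a subgroup of order four fixes at most one nonzero vector. -/
theorem fix_four (P : Subgroup G) (hP : Nat.card P = 4) :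
    ∃ m : Fin 5, ∀ u : U, (∀ g ∈ P, ρ g u = u) → u = 0 ∨ u = d.w m := by
  classical
  have hfin : Finite P := Nat.finite_of_card_ne_zero (by rw [hP]; norm_num)
  have := Fintype.ofFinite P
  have : Fact (Nat.Prime 2) := ⟨Nat.prime_two⟩
  have hcomm : ∀ a b : P, a * b = b * a := by
    have hmc : IsMulCommutative P :=
      IsPGroup.isMulCommutative_of_card_eq_prime_sq (p := 2) (by rw [hP]; norm_num)
    exact fun a b => hmc.is_comm.comm a b
  have h3 : 2 < Fintype.card P := by rw [← Nat.card_eq_fintype_card, hP]; norm_num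
  obtain ⟨a, b, c, hab, hac, hbc⟩ := Fintype.two_lt_card_iff.mp h3
  -- two distinct nonidentity elements
  obtain ⟨x', y', hx1, hy1, hxy⟩ : ∃ x' y' : P, x' ≠ 1 ∧ y' ≠ 1 ∧ x' ≠ y' := by
    by_cases ha : a = 1
    · subst ha
      exact ⟨b, c, fun h => hab h.symm, fun h => hac h.symm, hbc⟩
    · by_cases hb : b = 1
      · subst hb
        exact ⟨a, c, ha, fun h => hbc h.symm, hac⟩
      · exact ⟨a, b, ha, hb, hab⟩
  have hpow : ∀ z : P, d.perm (z : G) * d.perm (z : G) = 1 := by
    intro z
    apply a5_pow_four _ (d.sign_perm _)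
    rw [← d.perm_pow]
    have h4 : z ^ 4 = 1 := by
      rw [← hP]
      exact pow_card_eq_one'
    have h4' : ((z : G)) ^ 4 = 1 := by
      have := congrArg Subtype.val h4
      simpa using this
    rw [h4', d.perm_one]
  have hne1 : ∀ z : P, z ≠ 1 → d.perm (z : G) ≠ 1 := by
    intro z hz h
    apply hz
    apply Subtype.ext
    apply d.perm_injective
    rw [h, Subgroup.coe_one, d.perm_one]
  have hxyne : d.perm (x' : G) ≠ d.perm (y' : G) := fun h =>
    hxy (Subtype.ext (d.perm_injective h))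
  have hc' : d.perm (x' : G) * d.perm (y' : G) = d.perm (y' : G) * d.perm (x' : G) := by
    rw [← d.perm_mul, ← d.perm_mul]
    congr 1
    exact congrArg Subtype.val (hcomm x' y')
  obtain ⟨m, -, -, hm1, hm2⟩ := a5_klein _ _ (d.sign_perm _) (d.sign_perm _) (hne1 x' hx1)
    (hne1 y' hy1) hxyne (hpow x') (hpow y') hc'
  refine ⟨m, fun u hu => ?_⟩
  have hux := hu x' x'.2
  have huy := hu y' y'.2
  rcases d.cases_vec hU2 u with h0 | ⟨i, rfl⟩ | ⟨i, j, hij, rfl⟩
  · left; exact h0
  · right
    rw [d.fix_w_iff] at hux huy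
    rw [hm1 i hux huy]
  · exfalso
    rw [d.fix_pair_iff _ hij] at hux huy
    exact hm2 i j hij ⟨hux, huy⟩

include d in
/-- an invariant additive map to a group of exponent two vanishes. -/
theorem no_inv_functional {Z : Type*} [AddCommGroup Z] (hZ2 : ∀ z : Z, z + z = 0)
    (f : U →+ Z) (hf : ∀ (g : G) (u : U), f (ρ g u) = f u) : ∀ u : U, f u = 0 := by
  have hconst : ∀ i j : Fin 5, f (d.w i) = f (d.w j) := by
    intro i j
    obtain ⟨σ, hσ, hσij⟩ := a5_trans i j
    obtain ⟨g, hg⟩ := d.exists_perm σ hσ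
    rw [← hσij, ← hg, ← d.smul_w', hf]
  have hb : f (d.w 0) = 0 := by
    have h1 : f (∑ i, d.w i) = 0 := by rw [d.sum_w, map_zero]
    rw [map_sum] at h1
    have h2 : ∀ i ∈ (Finset.univ : Finset (Fin 5)), f (d.w i) = f (d.w 0) := fun i _ => hconst i 0
    rw [Finset.sum_congr rfl h2, Finset.sum_const, Finset.card_univ, Fintype.card_fin] at h1
    have h5 : ∀ z : Z, (5 : ℕ) • z = z := by
      intro z
      have e : (5 : ℕ) • z = (z + z) + (z + z) + z := by
        rw [show (5 : ℕ) = 2 + 2 + 1 from rfl, add_nsmul, add_nsmul, two_nsmul, one_nsmul]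
      rw [e, hZ2 z, add_zero, zero_add]
    rw [h5] at h1
    exact h1
  have hw : ∀ i, f (d.w i) = 0 := fun i => (hconst i 0).trans hb
  intro u
  obtain ⟨S, rfl⟩ := d.span u
  rw [map_sum]
  exact Finset.sum_eq_zero (fun i _ => hw i)

end char2

/-- relabelling of the model. -/
def relabel (σ : Perm (Fin 5)) (φ₂ : G ≃* alternatingGroup (Fin 5))
    (h : ∀ (g : G) (i : Fin 5), σ (((φ₂ g : alternatingGroup (Fin 5)) : Perm (Fin 5)) i) =
      d.perm g (σ i)) : TypeOData ρ where
  φ := φ₂
  w := fun i => d.w (σ i)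
  smul_w := fun g i => by
    rw [d.smul_w', h]
  sum_w := by
    rw [Equiv.sum_comp σ d.w]
    exact d.sum_w
  span := fun u => by
    obtain ⟨S, hS⟩ := d.span u
    refine ⟨S.map σ.symm.toEmbedding, ?_⟩
    rw [Finset.sum_map, hS]
    apply Finset.sum_congr rfl
    intro i _
    simp
  sum_eq := fun S T hST => by
    have h1 : ∑ i ∈ S.map σ.toEmbedding, d.w i = ∑ i ∈ T.map σ.toEmbedding, d.w i := by
      rw [Finset.sum_map, Finset.sum_map]
      exact hST
    rcases d.sum_eq _ _ h1 with h2 | h2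
    · left
      exact Finset.map_injective σ.toEmbedding h2
    · right
      have h3 : (S.map σ.toEmbedding)ᶜ = Sᶜ.map σ.toEmbedding := by
        ext i
        simp only [Finset.mem_compl, Finset.mem_map_equiv]
      rw [h3] at h2
      exact Finset.map_injective σ.toEmbedding h2

end TypeOData

end Cfsg.Agent.Lib.Helper4.GH5
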