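import Mathlib
import Cfsg.Agent.Lib.Helper2.GH7Top
import Cfsg.Agent.Lib.Helper1.GH5U7

/-!
# GH7 = S3105, unit FAITH8: `L` is faithful on a minimal normal subgroup of order 8
-/

set_option autoImplicit false
set_option linter.unusedVariables false
set_option linter.unusedSectionVars false

namespace Cfsg.Agent.Lib.Helper4.GH7

open Cfsg.Agent.Lib.Helper3.A8Emb (sqSub)
open Cfsg.Agent.Lib.Helper2.GH7

universe u

variable {G : Type u} [Group G] [Finite G] {Q : Subgroup G} [Q.Normal] {θ : G →* L}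

/-- **FAITH8** (verbatim). -/
theorem faithful_min_normal (hF : Frame Q θ) (M : Subgroup G) [M.Normal] (hMQ : M ≤ Q)
    (hmin : ∀ K : Subgroup G, K.Normal → K ≤ M → K = ⊥ ∨ K = M) (hcard : Nat.card M = 8) :
    ∀ g : G, (∀ m ∈ M, g * m = m * g) → g ∈ Q := by
  have : Fact (Nat.Prime 2) := ⟨Nat.prime_two⟩
  have hM1 : M ≠ ⊥ := by
    intro h
    rw [h] at hcard
    simp at hcard
  obtain ⟨hcenQ, hexp⟩ := Cfsg.Agent.Lib.Helper1.GH5U7.minimal_normal_central (p := 2) Q M
    hF.pgroup hMQ hM1 hmin
  have hCn : (Subgroup.centralizer (M : Set G)).Normal := inferInstance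
  have hmapn : ((Subgroup.centralizer (M : Set G)).map θ).Normal := hCn.map θ hF.surj
  have : IsSimpleGroup L := Cfsg.Agent.Lib.Helper1.Dv.simple_SL32
  rcases IsSimpleGroup.eq_bot_or_eq_top_of_normal _ hmapn with h | h
  · intro g hg
    have hgC : g ∈ Subgroup.centralizer (M : Set G) := by
      rw [Subgroup.mem_centralizer_iff]
      intro m hm
      exact (hg m hm).symm
    have h1 : θ g ∈ (Subgroup.centralizer (M : Set G)).map θ := Subgroup.mem_map_of_mem θ hgC
    rw [h, Subgroup.mem_bot] at h1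
    rw [← hF.ker]
    exact h1
  · exfalso
    have hcen : ∀ g : G, ∀ m ∈ M, g * m = m * g := by
      intro g m hm
      have h1 : θ g ∈ (Subgroup.centralizer (M : Set G)).map θ := by
        rw [h]; exact Subgroup.mem_top _
      obtain ⟨c, hc, hcg⟩ := Subgroup.mem_map.mp h1
      have hq : g * c⁻¹ ∈ Q := by
        rw [← hF.ker, MonoidHom.mem_ker, map_mul, map_inv, hcg, mul_inv_cancel]
      have h2 : m * (g * c⁻¹) = (g * c⁻¹) * m := hcenQ m hm _ hq
      have h3 : c * m = m * c := (Subgroup.mem_centralizer_iff.mp hc m hm).symm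
      calc g * m = (g * c⁻¹) * (c * m) := by group
        _ = (g * c⁻¹) * (m * c) := by rw [h3]
        _ = ((g * c⁻¹) * m) * c := by group
        _ = (m * (g * c⁻¹)) * c := by rw [h2]
        _ = m * g := by group
    obtain ⟨m, hmM, hm1⟩ : ∃ m ∈ M, m ≠ 1 := by
      by_contra hcon
      push Not at hcon
      exact hM1 ((Subgroup.eq_bot_iff_forall M).mpr hcon)
    have hKn : (Subgroup.zpowers m).Normal := by
      constructor
      intro n hn g
      obtain ⟨k, rfl⟩ := Subgroup.mem_zpowers_iff.mp hn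
      have h1 : g * m ^ k * g⁻¹ = m ^ k := by
        have hmk : m ^ k ∈ M := zpow_mem hmM k
        rw [hcen g _ hmk]; group
      rw [h1]; exact zpow_mem (Subgroup.mem_zpowers m) k
    have hKM : Subgroup.zpowers m ≤ M := by
      rw [Subgroup.zpowers_le]; exact hmM
    rcases hmin _ hKn hKM with hK | hK
    · exact hm1 (Subgroup.zpowers_eq_bot.mp hK)
    · have h2 : Nat.card (Subgroup.zpowers m) ≤ 2 := by
        rw [Nat.card_zpowers]
        exact Nat.le_of_dvd (by norm_num) (orderOf_dvd_of_pow_eq_one (hexp m hmM))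
      rw [hK, hcard] at h2
      omega

end Cfsg.Agent.Lib.Helper4.GH7
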