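import Mathlib
import Cfsg.Agent.Lib.Helper2.GH7Top
import Cfsg.Agent.Lib.Helper1.GH5U7b
import Cfsg.Agent.Lib.Helper8.GH7Mod

/-!
# GH7 = S3105, unit A2: `|N1| = 2`, `Q/N1 = E8` is impossible
-/

set_option autoImplicit false
set_option linter.unusedVariables false
set_option linter.unusedSectionVars false

namespace Cfsg.Agent.Lib.Helper4.GH7

open Cfsg.Agent.Lib.Helper3.A8Emb (sqSub sqSub_le)
open Cfsg.Agent.Lib.Helper2.GH7

universe u

/-- the element `y7` of order 7 is transitive on the nonzero vectors -/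
theorem y7_trans : ∀ x : Fin 3 → ZMod 2, x ≠ 0 → ∃ k : Fin 7,
    ((y7 ^ (k : ℕ) : L) : Matrix (Fin 3) (Fin 3) (ZMod 2)).mulVec ![1, 0, 0] = x := by decide

/-- a normal subgroup of order 2 is central -/
theorem central_of_card_two {G : Type u} [Group G] (N1 : Subgroup G) [hN : N1.Normal]
    (hcard : Nat.card N1 = 2) : ∀ w ∈ N1, ∀ g : G, g * w * g⁻¹ = w := by
  obtain ⟨y, hy, hyu⟩ := (Nat.card_eq_two_iff' (1 : ↥N1)).mp hcard
  intro w hw g
  by_cases h1 : w = 1
  · rw [h1]; group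
  · have hc1 : (⟨g * w * g⁻¹, hN.conj_mem w hw g⟩ : ↥N1) ≠ 1 := by
      intro h
      apply h1
      have h2 : g * w * g⁻¹ = 1 := congrArg Subtype.val h
      calc w = g⁻¹ * (g * w * g⁻¹) * g := by group
        _ = 1 := by rw [h2]; group
    have hw1 : (⟨w, hw⟩ : ↥N1) ≠ 1 := fun h => h1 (congrArg Subtype.val h)
    have h3 := (hyu _ hc1).trans (hyu _ hw1).symm
    exact congrArg Subtype.val h3

theorem sq_one_of_card_two {G : Type u} [Group G] (N1 : Subgroup G) (hcard : Nat.card N1 = 2) :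
    ∀ w ∈ N1, w * w = 1 := by
  intro w hw
  have h := pow_card_eq_one' (G := ↥N1) (x := ⟨w, hw⟩)
  rw [hcard] at h
  have h2 := congrArg Subtype.val h
  simpa [pow_two] using h2

variable {G : Type u} [Group G] [Finite G] {Q : Subgroup G} [Q.Normal] {θ : G →* L}

/-- **A2** (verbatim). -/
theorem caseA2 (hF : Frame Q θ) (N1 : Subgroup G) [N1.Normal] (hle : N1 ≤ sqSub Q)
    (hcard : Nat.card N1 = 2) (hsq : ∀ q ∈ Q, q * q ∈ N1) (hQ : Nat.card Q = 8 * Nat.card N1) :
    False := by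
  have hQn : Q.Normal := inferInstance
  have hNQ : N1 ≤ Q := hle.trans (sqSub_le Q)
  have hcenG := central_of_card_two N1 hcard
  have hcen : ∀ w ∈ N1, ∀ q ∈ Q, w * q = q * w := by
    intro w hw q _
    have h := hcenG w hw q
    calc w * q = (q * w * q⁻¹) * q := by rw [h]
      _ = q * w := by group
  have hexp := sq_one_of_card_two N1 hcard
  obtain ⟨V, Wt, iV, iWt, fV, fWt, ρV, ρW, πV, πW, s, c, hV2, hW2, hπVs, hπVm, hπVk, hπWb, hπWm,
    hρV, hρW, hs, hc, hsadd, hcl, hcr, hcs, hcsym, hseq, hceq, hcardV, hcardW⟩ :=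
    Cfsg.Agent.Lib.Helper1.GH5U7.exists_layer Q N1 hNQ hcen hsq hexp
  have hV8 : Nat.card V = 8 := by
    rw [hQ, hcard] at hcardV; omega
  have hρW1 : ∀ (g : G) (w : Wt), ρW (QuotientGroup.mk g) w = w := by
    intro g w
    obtain ⟨w', rfl⟩ := hπWb.2 w
    have hmem : g * (w' : G) * g⁻¹ ∈ N1 := by rw [hcenG w'.1 w'.2 g]; exact w'.2
    rw [hρW g w' hmem]
    congr 1
    exact Subtype.ext (hcenG w'.1 w'.2 g)
  let ρ' : G →* AddMonoid.End V := ρV.comp (QuotientGroup.mk' Q)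
  have hρ' : ∀ (g : G) (v : V), ρ' g v = ρV (QuotientGroup.mk g) v := fun g v => rfl
  have hk : ∀ g : G, θ g = 1 → ρ' g = 1 := by
    intro g hg
    have hgQ : g ∈ Q := by rw [← hF.ker]; exact hg
    show ρV (QuotientGroup.mk g) = 1
    rw [(QuotientGroup.eq_one_iff g).mpr hgQ, map_one]
  have hπV1 : πV 1 = 0 := (hπVk 1).mpr (one_mem _)
  have hf : ∀ g : G, ρ' g = 1 → θ g = 1 := by
    intro g hg
    have hgQ : g ∈ Q := by
      apply hF.faithful
      intro a ha
      have hconj : g * a * g⁻¹ ∈ Q := hQn.conj_mem a ha g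
      have h1 : ρV (QuotientGroup.mk g) (πV ⟨a, ha⟩) = πV ⟨g * a * g⁻¹, hconj⟩ :=
        hρV g ⟨a, ha⟩ hconj
      have h2 : ρV (QuotientGroup.mk g) (πV ⟨a, ha⟩) = πV ⟨a, ha⟩ := by
        rw [← hρ', hg]; rfl
      have h3 : πV (⟨g * a * g⁻¹, hconj⟩ * (⟨a, ha⟩ : ↥Q)⁻¹) = 0 := by
        rw [hπVm, ← h1, h2, ← hπVm, mul_inv_cancel, hπV1]
      exact hle ((hπVk _).mp h3)
    rw [← MonoidHom.mem_ker, hF.ker]; exact hgQ
  obtain ⟨α, e, he⟩ := Cfsg.Agent.Lib.Helper8.GH7Mod.coords θ hF.surj ρ' hk hV2 hV8 hf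
  have hSinv : ∀ (A : L) (x : Fin 3 → ZMod 2),
      s (e.symm ((A : Matrix (Fin 3) (Fin 3) (ZMod 2)).mulVec x)) = s (e.symm x) := by
    intro A x
    obtain ⟨g, hg⟩ := hF.surj (α.symm A)
    have h1 := he g (e.symm x)
    rw [hg, MulEquiv.apply_symm_apply, AddEquiv.apply_symm_apply] at h1
    rw [← h1, AddEquiv.symm_apply_apply, hρ', hseq, hρW1]
  have hs0 : s 0 = 0 := by
    have h := hsadd 0 0
    rw [add_zero, hcs, add_zero, hW2] at h
    exact h
  have hSne : ∀ x : Fin 3 → ZMod 2, x ≠ 0 → s (e.symm x) = s (e.symm ![1, 0, 0]) := by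
    intro x hx
    obtain ⟨k, hk⟩ := y7_trans x hx
    rw [← hk, hSinv]
  have hC : ∀ x y : Fin 3 → ZMod 2, x ≠ 0 → y ≠ 0 → x + y ≠ 0 →
      c (e.symm x) (e.symm y) = s (e.symm ![1, 0, 0]) := by
    intro x y hx hy hxy
    have h := hsadd (e.symm x) (e.symm y)
    rw [← map_add, hSne _ hxy, hSne _ hx, hSne _ hy, hW2, zero_add] at h
    exact h.symm
  have hσ : s (e.symm ![1, 0, 0]) = 0 := by
    have h := hcl (e.symm ![1, 0, 0]) (e.symm ![0, 1, 0]) (e.symm ![0, 0, 1])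
    rw [← map_add, hC _ _ (by decide) (by decide) (by decide),
      hC _ _ (by decide) (by decide) (by decide), hC _ _ (by decide) (by decide) (by decide),
      hW2] at h
    exact h
  have hsall : ∀ v : V, s v = 0 := by
    intro v
    by_cases hv : e v = 0
    · have : v = 0 := by
        have := congrArg e.symm hv
        rwa [AddEquiv.symm_apply_apply, map_zero] at this
      rw [this, hs0]
    · have := hSne (e v) hv
      rw [AddEquiv.symm_apply_apply] at this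
      rw [this, hσ]
  have hπW1 : πW 1 = 0 := by
    have h := hπWm 1 1
    rw [mul_one] at h
    have h2 : πW 1 + 0 = πW 1 + πW 1 := by rw [add_zero]; exact h
    exact (add_left_cancel h2).symm
  have hsq1 : ∀ q ∈ Q, q * q = 1 := by
    intro q hq
    have h := hs ⟨q, hq⟩ (hsq q hq)
    rw [hsall, ← hπW1] at h
    have h2 := hπWb.1 h
    exact (congrArg Subtype.val h2).symm
  have hbot : sqSub Q = ⊥ := by
    rw [eq_bot_iff]
    unfold sqSub
    rw [Subgroup.closure_le]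
    rintro y ⟨b, hb, rfl⟩
    rw [SetLike.mem_coe, Subgroup.mem_bot, pow_two]
    exact hsq1 b hb
  have hN1 : N1 = ⊥ := by
    rw [eq_bot_iff, ← hbot]; exact hle
  rw [hN1, Subgroup.card_bot] at hcard
  omega

end Cfsg.Agent.Lib.Helper4.GH7
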