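import Mathlib
import Cfsg.Agent.Lib.Helper4.GH5MO1

/-!
# GH7 = S3105, unit FORM16, part a: an alternating form on a module of order 16 which is
invariant under an element of order 7 acting nontrivially vanishes
-/

set_option autoImplicit false
set_option linter.unusedVariables false
set_option linter.unusedSectionVars false

namespace Cfsg.Agent.Lib.Helper4.GH7

open Cfsg.Agent.Lib.Helper4.GH5 (fixG mem_fixG card_fixG_modEq)

theorem zmod2_eq_of_add : ∀ a b : ZMod 2, a + b = 0 → a = b := by decide
theorem zmod2_one_of_ne : ∀ t : ZMod 2, t ≠ 0 → t = 1 := by decide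
theorem zmod2_add_self : ∀ t : ZMod 2, t + t = 0 := by decide

section alt

variable {V : Type*} [AddCommGroup V]

/-- scalar multiplication by `ZMod 2` -/
def sc (t : ZMod 2) (a : V) : V := if t = 0 then 0 else a

/-- alternating biadditive forms with values in `ZMod 2` -/
structure AltForm (B : V → V → ZMod 2) : Prop where
  add_left : ∀ u u' v, B (u + u') v = B u v + B u' v
  add_right : ∀ u v v', B u (v + v') = B u v + B u v'
  self : ∀ u, B u u = 0

variable {B : V → V → ZMod 2}

theorem AltForm.zero_left (hB : AltForm B) (v : V) : B 0 v = 0 := by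
  have h := hB.add_left 0 0 v
  rw [add_zero] at h
  have h2 : B 0 v + 0 = B 0 v + B 0 v := by rw [add_zero]; exact h
  exact (add_left_cancel h2).symm

theorem AltForm.zero_right (hB : AltForm B) (v : V) : B v 0 = 0 := by
  have h := hB.add_right v 0 0
  rw [add_zero] at h
  have h2 : B v 0 + 0 = B v 0 + B v 0 := by rw [add_zero]; exact h
  exact (add_left_cancel h2).symm

theorem AltForm.symm (hB : AltForm B) (u v : V) : B u v = B v u := by
  have h := hB.self (u + v)
  rw [hB.add_left, hB.add_right, hB.add_right, hB.self, hB.self, zero_add, add_zero] at h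
  exact zmod2_eq_of_add _ _ h

theorem AltForm.sc_left (hB : AltForm B) (t : ZMod 2) (a v : V) : B (sc t a) v = t * B a v := by
  unfold sc
  split_ifs with h
  · rw [h, zero_mul, hB.zero_left]
  · rw [zmod2_one_of_ne t h, one_mul]

theorem AltForm.sc_right (hB : AltForm B) (t : ZMod 2) (a v : V) : B v (sc t a) = t * B v a := by
  rw [hB.symm, hB.sc_left, hB.symm]

/-- the radical -/
def rad (B : V → V → ZMod 2) (hB : AltForm B) : AddSubgroup V where
  carrier := {u | ∀ v, B u v = 0}
  zero_mem' := fun v => hB.zero_left v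
  add_mem' := fun {a b} ha hb v => by
    show B (a + b) v = 0
    rw [hB.add_left, ha v, hb v, add_zero]
  neg_mem' := fun {a} ha v => by
    show B (-a) v = 0
    have h := hB.add_left a (-a) v
    rw [add_neg_cancel, hB.zero_left, ha v, zero_add] at h
    exact h.symm

theorem mem_rad (hB : AltForm B) {u : V} : u ∈ rad B hB ↔ ∀ v, B u v = 0 := Iff.rfl

/-- the radical of an alternating form on a group of order 16 does not have order 2 -/
theorem card_rad_ne_two (hB : AltForm B) (h2 : ∀ v : V, v + v = 0) [Finite V]
    (hV : Nat.card V = 16) : Nat.card (rad B hB) ≠ 2 := by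
  intro hR
  have hex : ∃ a, a ∉ rad B hB := by
    by_contra h
    push Not at h
    have htop : rad B hB = ⊤ := eq_top_iff.mpr (fun x _ => h x)
    rw [htop, AddSubgroup.card_top, hV] at hR
    omega
  obtain ⟨a, ha⟩ := hex
  rw [mem_rad] at ha
  push Not at ha
  obtain ⟨b, hb⟩ := ha
  have hab : B a b = 1 := zmod2_one_of_ne _ hb
  have hba : B b a = 1 := by rw [hB.symm]; exact hab
  let P : AddSubgroup V :=
    { carrier := {p | B p a = 0 ∧ B p b = 0}
      zero_mem' := ⟨hB.zero_left a, hB.zero_left b⟩
      add_mem' := fun {x y} hx hy => by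
        refine ⟨?_, ?_⟩
        · show B (x + y) a = 0
          rw [hB.add_left, hx.1, hy.1, add_zero]
        · show B (x + y) b = 0
          rw [hB.add_left, hx.2, hy.2, add_zero]
      neg_mem' := fun {x} hx => by
        have hneg : -x = x := by
          have := h2 x
          exact neg_eq_of_add_eq_zero_left this
        rw [hneg]; exact hx }
  have hmemP : ∀ p : V, p ∈ P ↔ B p a = 0 ∧ B p b = 0 := fun p => Iff.rfl
  have hπP : ∀ c : V, c + sc (B c b) a + sc (B c a) b ∈ P := by
    intro c
    rw [hmemP]
    constructor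
    · rw [hB.add_left, hB.add_left, hB.sc_left, hB.sc_left, hB.self, hba, mul_zero, mul_one,
        add_zero, zmod2_add_self]
    · rw [hB.add_left, hB.add_left, hB.sc_left, hB.sc_left, hB.self, hab, mul_zero, mul_one,
        add_zero, zmod2_add_self]
  have hdecomp : ∀ c : V, c + sc (B c b) a + sc (B c a) b + sc (B c b) a + sc (B c a) b = c := by
    intro c
    have e : c + sc (B c b) a + sc (B c a) b + sc (B c b) a + sc (B c a) b
        = c + (sc (B c b) a + sc (B c b) a) + (sc (B c a) b + sc (B c a) b) := by abel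
    rw [e, h2, h2, add_zero, add_zero]
  let E : V ≃ ↥P × ZMod 2 × ZMod 2 :=
    { toFun := fun c => (⟨c + sc (B c b) a + sc (B c a) b, hπP c⟩, B c b, B c a)
      invFun := fun x => (x.1 : V) + sc x.2.1 a + sc x.2.2 b
      left_inv := fun c => hdecomp c
      right_inv := by
        rintro ⟨⟨p, hp⟩, s, t⟩
        rw [hmemP] at hp
        have e1 : B (p + sc s a + sc t b) b = s := by
          rw [hB.add_left, hB.add_left, hB.sc_left, hB.sc_left, hp.2, hab, hB.self, mul_one,
            mul_zero, zero_add, add_zero]
        have e2 : B (p + sc s a + sc t b) a = t := by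
          rw [hB.add_left, hB.add_left, hB.sc_left, hB.sc_left, hp.1, hba, hB.self, mul_one,
            mul_zero, zero_add, zero_add]
        refine Prod.ext ?_ (Prod.ext e1 e2)
        apply Subtype.ext
        show p + sc s a + sc t b + sc (B (p + sc s a + sc t b) b) a
          + sc (B (p + sc s a + sc t b) a) b = p
        rw [e1, e2]
        have e : p + sc s a + sc t b + sc s a + sc t b
            = p + (sc s a + sc s a) + (sc t b + sc t b) := by abel
        rw [e, h2, h2, add_zero, add_zero] }
  have hcardP : Nat.card P = 4 := by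
    have h := Nat.card_congr E
    rw [Nat.card_prod, Nat.card_prod, Nat.card_zmod, hV] at h
    omega
  have hRP : rad B hB ≤ P := by
    intro r hr
    rw [mem_rad] at hr
    exact ⟨hr a, hr b⟩
  have hexd : ∃ d ∈ P, d ∉ rad B hB := by
    by_contra h
    push Not at h
    have hle : P ≤ rad B hB := fun x hx => h x hx
    have := AddSubgroup.card_le_of_le hle
    omega
  obtain ⟨d, hdP, hdR⟩ := hexd
  -- the index of the radical in `P`
  have hidx : ((rad B hB).addSubgroupOf P).index = 2 := by
    have h1 := AddSubgroup.card_mul_index ((rad B hB).addSubgroupOf P)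
    rw [Nat.card_congr (AddSubgroup.addSubgroupOfEquivOfLe hRP).toEquiv, hR, hcardP] at h1
    omega
  have hdP' : ∀ p ∈ P, B d p = 0 := by
    intro p hp
    by_cases hpR : p ∈ rad B hB
    · rw [hB.symm]; exact hpR d
    · have hmem : (⟨d, hdP⟩ + ⟨p, hp⟩ : ↥P) ∈ (rad B hB).addSubgroupOf P := by
        rw [AddSubgroup.add_mem_iff_of_index_two hidx]
        constructor
        · intro h; exact absurd (AddSubgroup.mem_addSubgroupOf.mp h) hdR
        · intro h; exact absurd (AddSubgroup.mem_addSubgroupOf.mp h) hpR
      have hmem' : d + p ∈ rad B hB := AddSubgroup.mem_addSubgroupOf.mp hmem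
      have h3 := hmem' d
      rw [hB.add_left, hB.self, zero_add] at h3
      rw [hB.symm]; exact h3
  apply hdR
  rw [mem_rad]
  intro c
  have hc := hdecomp c
  rw [← hc, hB.add_right, hB.add_right, hB.sc_right, hB.sc_right, hdP' _ (hπP c)]
  have h5 : B d a = 0 := ((hmemP d).mp hdP).1
  have h6 : B d b = 0 := ((hmemP d).mp hdP).2
  rw [h5, h6, mul_zero, mul_zero, add_zero, add_zero]

end alt

section count

variable {Γ : Type*} [Group Γ] {V : Type*} [AddCommGroup V] [DistribMulAction Γ V]

/-- fixed points modulo `p` on an invariant subgroup -/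
theorem card_inv_modEq [Finite V] (g : Γ) (p : ℕ) [hp : Fact p.Prime] (hg : orderOf g = p)
    (K : AddSubgroup V) (hK : ∀ c : Γ, ∀ x ∈ K, c • x ∈ K) :
    Nat.card K ≡ Nat.card (K ⊓ fixG g : AddSubgroup V) [MOD p] := by
  letI : DistribMulAction Γ ↥K :=
    { smul := fun c x => ⟨c • (x : V), hK c x x.2⟩
      one_smul := fun x => Subtype.ext (one_smul Γ (x : V))
      mul_smul := fun a b x => Subtype.ext (mul_smul a b (x : V))
      smul_zero := fun a => Subtype.ext (smul_zero a)
      smul_add := fun a x y => Subtype.ext (smul_add a (x : V) (y : V)) }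
  have h1 := card_fixG_modEq (U := ↥K) g p hg
  have h2 : Nat.card (fixG g : AddSubgroup ↥K) = Nat.card (K ⊓ fixG g : AddSubgroup V) := by
    apply Nat.card_congr
    refine ⟨fun x => ⟨(x.1 : V), ⟨x.1.2, ?_⟩⟩, fun x => ⟨⟨x.1, x.2.1⟩, ?_⟩, ?_, ?_⟩
    · have hx : g • x.1 = x.1 := x.2
      exact congrArg Subtype.val hx
    · show g • (⟨x.1, x.2.1⟩ : ↥K) = ⟨x.1, x.2.1⟩
      apply Subtype.ext
      exact x.2.2
    · intro x; rfl
    · intro x; rfl
  rw [h2] at h1
  exact h1

end count

end Cfsg.Agent.Lib.Helper4.GH7
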