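import Mathlib
import Cfsg.Agent.Lib.Helper4.GH7Form16a

/-!
# GH7 = S3105, unit FORM16, part b: the abstract vanishing theorem
-/

set_option autoImplicit false
set_option linter.unusedVariables false
set_option linter.unusedSectionVars false

namespace Cfsg.Agent.Lib.Helper4.GH7

open Cfsg.Agent.Lib.Helper4.GH5 (fixG mem_fixG card_fixG_modEq)

theorem dvd16_cases {d : ℕ} (h : d ∣ 16) : d = 1 ∨ d = 2 ∨ d = 4 ∨ d = 8 ∨ d = 16 := by
  have hle : d ≤ 16 := Nat.le_of_dvd (by norm_num) h
  interval_cases d <;> omega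

variable {Γ : Type*} [Group Γ] {V : Type*} [AddCommGroup V] [DistribMulAction Γ V]

/-- an alternating form on a module of order 16 invariant under a cyclic group of order 7 acting
nontrivially vanishes -/
theorem form_zero [Finite V] (h2 : ∀ v : V, v + v = 0) (hcard : Nat.card V = 16) (y : Γ)
    (hy : orderOf y = 7) (hgen : ∀ γ : Γ, γ ∈ Subgroup.zpowers y) (hne : ∃ v : V, y • v ≠ v)
    (B : V → V → ZMod 2) (hB : AltForm B) (hBinv : ∀ (γ : Γ) (u v : V), B (γ • u) (γ • v) = B u v) :
    ∀ u v : V, B u v = 0 := by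
  have : Fact (Nat.Prime 7) := ⟨by norm_num⟩
  have hF1 : Nat.card V ≡ Nat.card (fixG y : AddSubgroup V) [MOD 7] := card_fixG_modEq y 7 hy
  have hFd : Nat.card (fixG y : AddSubgroup V) ∣ 16 := by
    rw [← hcard]; exact AddSubgroup.card_addSubgroup_dvd_card _
  have hFne : Nat.card (fixG y : AddSubgroup V) ≠ 16 := by
    intro h
    have htop : (fixG y : AddSubgroup V) = ⊤ := AddSubgroup.eq_top_of_card_eq _ (by rw [h, hcard])
    obtain ⟨v, hv⟩ := hne
    apply hv
    have : v ∈ (fixG y : AddSubgroup V) := by rw [htop]; trivial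
    exact this
  have hF2 : Nat.card (fixG y : AddSubgroup V) = 2 := by
    unfold Nat.ModEq at hF1
    rw [hcard] at hF1
    rcases dvd16_cases hFd with h | h | h | h | h
    · rw [h] at hF1; omega
    · exact h
    · rw [h] at hF1; omega
    · rw [h] at hF1; omega
    · exact absurd h hFne
  -- every element fixes the fixed points of `y`
  have hfixall : ∀ γ : Γ, ∀ v ∈ (fixG y : AddSubgroup V), γ • v = v := by
    intro γ v hv
    have hle : Subgroup.zpowers y ≤ MulAction.stabilizer Γ v := by
      rw [Subgroup.zpowers_le]; exact hv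
    exact hle (hgen γ)
  -- the form vanishes on the fixed points
  obtain ⟨u₀, hu₀, hu₀u⟩ := (Nat.card_eq_two_iff' (0 : ↥(fixG y : AddSubgroup V))).mp hF2
  have hFF : ∀ u ∈ (fixG y : AddSubgroup V), ∀ v ∈ (fixG y : AddSubgroup V), B u v = 0 := by
    intro u hu v hv
    by_cases hu0 : u = 0
    · rw [hu0, hB.zero_left]
    · by_cases hv0 : v = 0
      · rw [hv0, hB.zero_right]
      · have h1 : (⟨u, hu⟩ : ↥(fixG y : AddSubgroup V)) = u₀ :=
          hu₀u _ (fun h => hu0 (congrArg Subtype.val h))
        have h3 : (⟨v, hv⟩ : ↥(fixG y : AddSubgroup V)) = u₀ :=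
          hu₀u _ (fun h => hv0 (congrArg Subtype.val h))
        have h4 : u = v := congrArg Subtype.val (h1.trans h3.symm)
        rw [h4, hB.self]
  -- step 4: the fixed points lie in the radical
  have hFR : (fixG y : AddSubgroup V) ≤ rad B hB := by
    intro u hu
    rw [mem_rad]
    let f : V →+ ZMod 2 :=
      { toFun := B u
        map_zero' := hB.zero_right u
        map_add' := fun v v' => hB.add_right u v v' }
    have hfker : ∀ v : V, v ∈ f.ker ↔ B u v = 0 := fun v => Iff.rfl
    have hKinv : ∀ c : Γ, ∀ x ∈ f.ker, c • x ∈ f.ker := by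
      intro c x hx
      rw [hfker] at hx ⊢
      have h1 := hBinv c u x
      rw [hfixall c u hu] at h1
      rw [h1]; exact hx
    have hKmod := card_inv_modEq y 7 hy f.ker hKinv
    have hFK : (fixG y : AddSubgroup V) ≤ f.ker := by
      intro v hv
      rw [hfker]; exact hFF u hu v hv
    have hinf : (f.ker ⊓ fixG y : AddSubgroup V) = fixG y := inf_eq_right.mpr hFK
    rw [hinf, hF2] at hKmod
    have hKd : Nat.card f.ker ∣ 16 := by
      rw [← hcard]; exact AddSubgroup.card_addSubgroup_dvd_card _
    have hidx : f.ker.index ≤ 2 := by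
      rw [AddSubgroup.index_ker]
      have := Nat.card_le_card_of_injective (fun x : ↥f.range => (x : ZMod 2)) Subtype.coe_injective
      rwa [Nat.card_zmod] at this
    have hmul := AddSubgroup.card_mul_index f.ker
    rw [hcard] at hmul
    have hK16 : Nat.card f.ker = 16 := by
      unfold Nat.ModEq at hKmod
      rcases dvd16_cases hKd with h | h | h | h | h
      · rw [h] at hmul; omega
      · rw [h] at hmul; omega
      · rw [h] at hmul; omega
      · rw [h] at hKmod; omega
      · exact h
    have htop : f.ker = ⊤ := AddSubgroup.eq_top_of_card_eq _ (by rw [hK16, hcard])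
    intro v
    have : v ∈ f.ker := by rw [htop]; trivial
    exact (hfker v).mp this
  -- step 5: the radical
  have hRinv : ∀ c : Γ, ∀ x ∈ rad B hB, c • x ∈ rad B hB := by
    intro c x hx
    rw [mem_rad] at hx ⊢
    intro v
    have h1 := hBinv c x (c⁻¹ • v)
    rw [smul_inv_smul] at h1
    rw [h1]; exact hx _
  have hRmod := card_inv_modEq y 7 hy (rad B hB) hRinv
  have hinfR : (rad B hB ⊓ fixG y : AddSubgroup V) = fixG y := inf_eq_right.mpr hFR
  rw [hinfR, hF2] at hRmod
  have hRd : Nat.card (rad B hB) ∣ 16 := by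
    rw [← hcard]; exact AddSubgroup.card_addSubgroup_dvd_card _
  have hR16 : Nat.card (rad B hB) = 16 := by
    unfold Nat.ModEq at hRmod
    rcases dvd16_cases hRd with h | h | h | h | h
    · rw [h] at hRmod; omega
    · exact absurd h (card_rad_ne_two hB h2 hcard)
    · rw [h] at hRmod; omega
    · rw [h] at hRmod; omega
    · exact h
  have htop : rad B hB = ⊤ := AddSubgroup.eq_top_of_card_eq _ (by rw [hR16, hcard])
  intro u v
  have : u ∈ rad B hB := by rw [htop]; trivial
  exact this v

end Cfsg.Agent.Lib.Helper4.GH7
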