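import Mathlib
import Cfsg.Agent.Lib.Helper2.GH7Top
import Cfsg.Agent.Lib.Helper1.GH5U7c
import Cfsg.Agent.Lib.Helper4.GH7A2
import Cfsg.Agent.Lib.Helper4.GH7Form16b

/-!
# GH7 = S3105, unit FORM16: `[Q,Q] ≤ N1` of order 2 and `|Q/Φ(Q)| = 16` imply `Q` abelian
-/

set_option autoImplicit false
set_option linter.unusedVariables false
set_option linter.unusedSectionVars false

namespace Cfsg.Agent.Lib.Helper4.GH7

open Cfsg.Agent.Lib.Helper3.A8Emb (sqSub sqSub_le)
open Cfsg.Agent.Lib.Helper2.GH7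

universe u

section ind

variable {G : Type u} [Group G]

/-- the commutation indicator -/
noncomputable def ind (a b : G) : ZMod 2 := by
  classical exact if a * b = b * a then 0 else 1

theorem ind_eq_zero {a b : G} : ind a b = 0 ↔ a * b = b * a := by
  classical
  unfold ind
  split_ifs with h
  · exact ⟨fun _ => h, fun _ => rfl⟩
  · exact ⟨fun h1 => absurd h1 (by decide), fun h1 => absurd h1 h⟩

theorem ind_of_comm {a b : G} (h : a * b = b * a) : ind a b = 0 := ind_eq_zero.mpr h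

theorem ind_of_not {a b : G} (h : a * b ≠ b * a) : ind a b = 1 := by
  classical
  unfold ind
  rw [if_neg h]

theorem ind_symm (a b : G) : ind a b = ind b a := by
  by_cases h : a * b = b * a
  · rw [ind_of_comm h, ind_of_comm h.symm]
  · rw [ind_of_not h, ind_of_not (fun h' => h h'.symm)]

theorem ind_conj (g a b : G) : ind (g * a * g⁻¹) (g * b * g⁻¹) = ind a b := by
  have hiff : (g * a * g⁻¹) * (g * b * g⁻¹) = (g * b * g⁻¹) * (g * a * g⁻¹) ↔ a * b = b * a := by
    constructor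
    · intro h
      have h1 : g * (a * b) * g⁻¹ = g * (b * a) * g⁻¹ := by
        calc g * (a * b) * g⁻¹ = (g * a * g⁻¹) * (g * b * g⁻¹) := by group
          _ = (g * b * g⁻¹) * (g * a * g⁻¹) := h
          _ = g * (b * a) * g⁻¹ := by group
      exact mul_left_cancel (mul_right_cancel h1)
    · intro h
      calc (g * a * g⁻¹) * (g * b * g⁻¹) = g * (a * b) * g⁻¹ := by group
        _ = g * (b * a) * g⁻¹ := by rw [h]
        _ = (g * b * g⁻¹) * (g * a * g⁻¹) := by group
  by_cases h : a * b = b * a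
  · rw [ind_of_comm h, ind_of_comm (hiff.mpr h)]
  · rw [ind_of_not h, ind_of_not (fun h' => h (hiff.mp h'))]

/-- additivity of the commutation indicator when commutators lie in a central subgroup of order 2 -/
theorem ind_mul (N1 : Subgroup G) (hcard : Nat.card N1 = 2)
    (hcen : ∀ w ∈ N1, ∀ g : G, g * w * g⁻¹ = w) {a a' b : G}
    (h1 : a * b * a⁻¹ * b⁻¹ ∈ N1) (h2 : a' * b * a'⁻¹ * b⁻¹ ∈ N1) :
    ind (a * a') b = ind a b + ind a' b := by
  by_cases ha : a * b = b * a
  · by_cases ha' : a' * b = b * a'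
    · have h : (a * a') * b = b * (a * a') := by
        rw [mul_assoc, ha', ← mul_assoc, ha, mul_assoc]
      rw [ind_of_comm ha, ind_of_comm ha', ind_of_comm h, add_zero]
    · have h : (a * a') * b ≠ b * (a * a') := by
        intro h
        apply ha'
        have e : a * (a' * b) = a * (b * a') := by
          calc a * (a' * b) = (a * a') * b := by group
            _ = b * (a * a') := h
            _ = (b * a) * a' := by group
            _ = (a * b) * a' := by rw [ha]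
            _ = a * (b * a') := by group
        exact mul_left_cancel e
      rw [ind_of_comm ha, ind_of_not ha', ind_of_not h, zero_add]
  · by_cases ha' : a' * b = b * a'
    · have h : (a * a') * b ≠ b * (a * a') := by
        intro h
        apply ha
        have e : (a * b) * a' = (b * a) * a' := by
          calc (a * b) * a' = a * (b * a') := by group
            _ = a * (a' * b) := by rw [ha']
            _ = (a * a') * b := by group
            _ = b * (a * a') := h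
            _ = (b * a) * a' := by group
        exact mul_right_cancel e
      rw [ind_of_not ha, ind_of_comm ha', ind_of_not h, add_zero]
    · -- both commutators are the non-identity element of `N1`
      obtain ⟨n, hn, hnu⟩ := (Nat.card_eq_two_iff' (1 : ↥N1)).mp hcard
      have hk1 : a * b * a⁻¹ * b⁻¹ ≠ 1 := by
        intro h
        apply ha
        calc a * b = (a * b * a⁻¹ * b⁻¹) * (b * a) := by group
          _ = b * a := by rw [h, one_mul]
      have hk2 : a' * b * a'⁻¹ * b⁻¹ ≠ 1 := by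
        intro h
        apply ha'
        calc a' * b = (a' * b * a'⁻¹ * b⁻¹) * (b * a') := by group
          _ = b * a' := by rw [h, one_mul]
      have e1 : (⟨a * b * a⁻¹ * b⁻¹, h1⟩ : ↥N1) = n := hnu _ (fun h => hk1 (congrArg Subtype.val h))
      have e2 : (⟨a' * b * a'⁻¹ * b⁻¹, h2⟩ : ↥N1) = n :=
        hnu _ (fun h => hk2 (congrArg Subtype.val h))
      have e3 : a * b * a⁻¹ * b⁻¹ = a' * b * a'⁻¹ * b⁻¹ := congrArg Subtype.val (e1.trans e2.symm)
      have hsq : (a' * b * a'⁻¹ * b⁻¹) * (a' * b * a'⁻¹ * b⁻¹) = 1 := by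
        have h := pow_card_eq_one' (G := ↥N1) (x := ⟨a' * b * a'⁻¹ * b⁻¹, h2⟩)
        rw [hcard] at h
        have h3 := congrArg Subtype.val h
        simpa [pow_two] using h3
      have hc := hcen _ h2 a
      have h : (a * a') * b = b * (a * a') := by
        have e : (a * a') * b * (a * a')⁻¹ * b⁻¹ = 1 := by
          calc (a * a') * b * (a * a')⁻¹ * b⁻¹
              = (a * (a' * b * a'⁻¹ * b⁻¹) * a⁻¹) * (a * b * a⁻¹ * b⁻¹) := by group
            _ = (a' * b * a'⁻¹ * b⁻¹) * (a' * b * a'⁻¹ * b⁻¹) := by rw [hc, e3]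
            _ = 1 := hsq
        calc (a * a') * b = ((a * a') * b * (a * a')⁻¹ * b⁻¹) * (b * (a * a')) := by group
          _ = b * (a * a') := by rw [e, one_mul]
      rw [ind_of_not ha, ind_of_not ha', ind_of_comm h]
      decide

end ind

variable {G : Type u} [Group G] [Finite G] {Q : Subgroup G} [Q.Normal] {θ : G →* L}

/-- **FORM16** (verbatim). -/
theorem form16 (hF : Frame Q θ) (N1 : Subgroup G) [N1.Normal] (hN1 : Nat.card N1 = 2)
    (hcomm : ∀ a ∈ Q, ∀ b ∈ Q, a * b * a⁻¹ * b⁻¹ ∈ N1) (hV : Nat.card Q = 16 * Nat.card (sqSub Q)) :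
    ∀ a ∈ Q, ∀ b ∈ Q, a * b = b * a := by
  classical
  have hQn : Q.Normal := inferInstance
  have hcenG := central_of_card_two N1 hN1
  -- additivity of `ind` on `Q`
  have hindl : ∀ a ∈ Q, ∀ a' ∈ Q, ∀ b ∈ Q, ind (a * a') b = ind a b + ind a' b :=
    fun a ha a' ha' b hb => ind_mul N1 hN1 hcenG (hcomm a ha b hb) (hcomm a' ha' b hb)
  -- squares are central in `Q`
  have hsqc : ∀ x ∈ Q, ∀ q ∈ Q, (x * x) * q = q * (x * x) := by
    intro x hx q hq
    have h := hindl x hx x hx q hq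
    rw [zmod2_add_self] at h
    exact ind_eq_zero.mp h
  have hΦc : ∀ φ ∈ sqSub Q, ∀ q ∈ Q, φ * q = q * φ := by
    intro φ hφ q hq
    unfold sqSub at hφ
    induction hφ using Subgroup.closure_induction with
    | mem y hy =>
      obtain ⟨b, hb, rfl⟩ := hy
      rw [pow_two]; exact hsqc b hb q hq
    | one => rw [one_mul, mul_one]
    | mul x y _ _ hx hy => rw [mul_assoc, hy, ← mul_assoc, hx, mul_assoc]
    | inv x _ hx =>
      calc x⁻¹ * q = x⁻¹ * (q * x) * x⁻¹ := by group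
        _ = x⁻¹ * (x * q) * x⁻¹ := by rw [hx]
        _ = q * x⁻¹ := by group
  have hΦQ : sqSub Q ≤ Q := sqSub_le Q
  obtain ⟨V, iV, fV, ρV, πV, hV2, hπVs, hπVm, hπVk, hρV, hcardV⟩ :=
    Cfsg.Agent.Lib.Helper1.GH5U7.exists_rhoV Q (sqSub Q) hΦQ
      (fun q hq => Cfsg.Agent.Lib.Helper2.GH5.sq_mem_sqSub Q hq)
  have hΦpos : 0 < Nat.card (sqSub Q) := Nat.card_pos
  have hV16 : Nat.card V = 16 := by
    rw [hV] at hcardV
    exact Nat.eq_of_mul_eq_mul_right hΦpos hcardV
  have hπV1 : πV 1 = 0 := (hπVk 1).mpr (one_mem _)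
  have hπVinv : ∀ a : ↥Q, πV a⁻¹ = πV a := by
    intro a
    have h := hπVm a a⁻¹
    rw [mul_inv_cancel, hπV1] at h
    have h2 : πV a + πV a = πV a + πV a⁻¹ := by rw [hV2]; exact h
    exact (add_left_cancel h2).symm
  -- commutation depends only on the classes
  have hclass : ∀ a a' b b' : ↥Q, πV a = πV a' → πV b = πV b' →
      ind (a' : G) (b' : G) = ind (a : G) (b : G) := by
    intro a a' b b' ha hb
    have hφ : ((a⁻¹ * a' : ↥Q) : G) ∈ sqSub Q := by
      rw [← hπVk, hπVm, hπVinv, ha, hV2]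
    have hψ : ((b⁻¹ * b' : ↥Q) : G) ∈ sqSub Q := by
      rw [← hπVk, hπVm, hπVinv, hb, hV2]
    have ea : (a' : G) = a * ((a⁻¹ * a' : ↥Q) : G) := by
      show (a' : G) = a * ((a : G)⁻¹ * a'); group
    have eb : (b' : G) = b * ((b⁻¹ * b' : ↥Q) : G) := by
      show (b' : G) = b * ((b : G)⁻¹ * b'); group
    generalize ((a⁻¹ * a' : ↥Q) : G) = φ at hφ ea
    generalize ((b⁻¹ * b' : ↥Q) : G) = ψ at hψ eb
    have hφQ : φ ∈ Q := hΦQ hφ
    have hψQ : ψ ∈ Q := hΦQ hψ
    have h1 : ind φ (b' : G) = 0 := ind_of_comm (hΦc φ hφ _ b'.2)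
    have h2 : ind (a : G) ψ = 0 := by
      rw [ind_symm]; exact ind_of_comm (hΦc ψ hψ _ a.2)
    rw [ea, hindl _ a.2 _ hφQ _ b'.2, h1, add_zero, eb, ind_symm, hindl _ b.2 _ hψQ _ a.2,
      ind_symm ψ, h2, add_zero, ind_symm]
  let lift : V → ↥Q := Function.surjInv hπVs
  have hlift : ∀ v : V, πV (lift v) = v := Function.surjInv_eq hπVs
  let B : V → V → ZMod 2 := fun v w => ind ((lift v : ↥Q) : G) ((lift w : ↥Q) : G)
  have hBπ : ∀ a b : ↥Q, B (πV a) (πV b) = ind (a : G) (b : G) := by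
    intro a b
    exact hclass a (lift (πV a)) b (lift (πV b)) (hlift _).symm (hlift _).symm
  have hBform : AltForm B := by
    refine ⟨?_, ?_, ?_⟩
    · intro u u' v
      obtain ⟨a, rfl⟩ := hπVs u
      obtain ⟨a', rfl⟩ := hπVs u'
      obtain ⟨b, rfl⟩ := hπVs v
      rw [← hπVm, hBπ, hBπ, hBπ]
      exact hindl _ a.2 _ a'.2 _ b.2
    · intro u v v'
      obtain ⟨a, rfl⟩ := hπVs u
      obtain ⟨b, rfl⟩ := hπVs v
      obtain ⟨b', rfl⟩ := hπVs v'
      rw [← hπVm, hBπ, hBπ, hBπ, ind_symm, ind_symm (a : G) b, ind_symm (a : G) b']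
      exact hindl _ b.2 _ b'.2 _ a.2
    · intro u
      exact ind_of_comm rfl
  -- the element of order 7
  obtain ⟨g₀, hg₀⟩ := hF.surj y7
  have hkerθ : ∀ q ∈ Q, θ q = 1 := by
    intro q hq
    rw [← MonoidHom.mem_ker, hF.ker]; exact hq
  let θb : G ⧸ Q →* L := QuotientGroup.lift Q θ hkerθ
  have hθb : ∀ g : G, θb (QuotientGroup.mk g) = θ g := fun g => rfl
  have hθbinj : Function.Injective θb := by
    rw [injective_iff_map_eq_one]
    intro x hx
    obtain ⟨g, rfl⟩ := QuotientGroup.mk_surjective x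
    rw [hθb] at hx
    have hgQ : g ∈ Q := by rw [← hF.ker]; exact hx
    exact (QuotientGroup.eq_one_iff g).mpr hgQ
  have : Fact (Nat.Prime 7) := ⟨by norm_num⟩
  have hy7 : orderOf y7 = 7 := orderOf_eq_prime y7_pow y7_ne
  have hy₀ : orderOf (QuotientGroup.mk g₀ : G ⧸ Q) = 7 := by
    rw [← orderOf_injective θb hθbinj, hθb, hg₀, hy7]
  -- the cyclic group acting
  let Γ : Subgroup (G ⧸ Q) := Subgroup.zpowers (QuotientGroup.mk g₀ : G ⧸ Q)
  letI : DistribMulAction ↥Γ V := DistribMulAction.compHom V (ρV.comp Γ.subtype)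
  have hsmul : ∀ (γ : ↥Γ) (v : V), γ • v = ρV (γ : G ⧸ Q) v := fun γ v => rfl
  let y : ↥Γ := ⟨QuotientGroup.mk g₀, Subgroup.mem_zpowers _⟩
  have hy : orderOf y = 7 := by
    rw [← Subgroup.orderOf_coe]; exact hy₀
  have hgen : ∀ γ : ↥Γ, γ ∈ Subgroup.zpowers y := by
    intro γ
    obtain ⟨k, hk⟩ := Subgroup.mem_zpowers_iff.mp γ.2
    rw [Subgroup.mem_zpowers_iff]
    refine ⟨k, ?_⟩
    apply Subtype.ext
    rw [Subgroup.coe_zpow]
    exact hk
  have hne : ∃ v : V, y • v ≠ v := by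
    by_contra hcon
    push Not at hcon
    have hgQ : g₀ ∈ Q := by
      apply hF.faithful
      intro a ha
      have hconj : g₀ * a * g₀⁻¹ ∈ Q := hQn.conj_mem a ha g₀
      have h1 : ρV (QuotientGroup.mk g₀) (πV ⟨a, ha⟩) = πV ⟨g₀ * a * g₀⁻¹, hconj⟩ :=
        hρV g₀ ⟨a, ha⟩ hconj
      have h2 : ρV (QuotientGroup.mk g₀) (πV ⟨a, ha⟩) = πV ⟨a, ha⟩ := hcon (πV ⟨a, ha⟩)
      have h3 : πV (⟨g₀ * a * g₀⁻¹, hconj⟩ * (⟨a, ha⟩ : ↥Q)⁻¹) = 0 := by
        rw [hπVm, ← h1, h2, ← hπVm, mul_inv_cancel, hπV1]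
      exact (hπVk _).mp h3
    have : θ g₀ = 1 := hkerθ g₀ hgQ
    rw [hg₀] at this
    exact y7_ne this
  have hBinv : ∀ (γ : ↥Γ) (u v : V), B (γ • u) (γ • v) = B u v := by
    intro γ u v
    obtain ⟨g, hg⟩ := QuotientGroup.mk_surjective (γ : G ⧸ Q)
    obtain ⟨a, rfl⟩ := hπVs u
    obtain ⟨b, rfl⟩ := hπVs v
    have hca : g * (a : G) * g⁻¹ ∈ Q := hQn.conj_mem a a.2 g
    have hcb : g * (b : G) * g⁻¹ ∈ Q := hQn.conj_mem b b.2 g
    rw [hsmul, hsmul, ← hg, hρV g a hca, hρV g b hcb, hBπ, hBπ]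
    exact ind_conj g a b
  have hzero := form_zero hV2 hV16 y hy hgen hne B hBform hBinv
  intro a ha b hb
  have h := hzero (πV ⟨a, ha⟩) (πV ⟨b, hb⟩)
  rw [hBπ] at h
  exact ind_eq_zero.mp h

end Cfsg.Agent.Lib.Helper4.GH7
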