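import Mathlib
import Cfsg.Agent.Lib.Helper2.GH7Defs
import Cfsg.Agent.Lib.Helper8.GH7Mod
import Cfsg.Agent.Lib.Helper1.GH5U7c

set_option autoImplicit false
set_option linter.unusedVariables false
set_option linter.unusedSectionVars false
set_option linter.style.longLine false

/-! # GH7 = S3105, unit B8N-dich, part 1: tools
homocyclic basics for `A = Z4^3 ≥ W = Ω₁(A)` (no hypothesis on `C_G(A)`), and natural coordinates on `A/W`
as a function `G → F_2^3` when only `[ker θ, A] ≤ W` is known. -/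

namespace Cfsg.Agent.Lib.Helper4.GH7

open Cfsg.Agent.Lib.Helper3.A8Emb (sqSub)
open Cfsg.Agent.Lib.Helper2.GH7

universe u

variable {G : Type u} [Group G] [Finite G]

/-- `A` abelian of order 64, `W ≤ A` of order 8 containing the squares and the involutions of `A` -/
structure HB (A W : Subgroup G) : Prop where
  hWA : W ≤ A
  comm : ∀ a ∈ A, ∀ b ∈ A, a * b = b * a
  cardA : Nat.card A = 64
  cardW : Nat.card W = 8
  sq : ∀ a ∈ A, a * a ∈ W
  omega : ∀ a ∈ A, a * a = 1 → a ∈ W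

variable {A W : Subgroup G}

/-- squaring `A → W` as a homomorphism -/
noncomputable def HB.sqHom (h : HB A W) : ↥A →* ↥W where
  toFun a := ⟨(a : G) * a, h.sq a a.2⟩
  map_one' := by apply Subtype.ext; simp
  map_mul' a b := by
    apply Subtype.ext
    show ((a : G) * b) * ((a : G) * b) = ((a : G) * a) * ((b : G) * b)
    have := h.comm a a.2 b b.2
    calc ((a : G) * b) * ((a : G) * b) = (a : G) * ((b : G) * a) * b := by group
      _ = (a : G) * ((a : G) * b) * b := by rw [this]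
      _ = _ := by group

theorem HB.sqHom_surj (h : HB A W) : Function.Surjective h.sqHom := by
  classical
  have hk : h.sqHom.ker ≤ W.subgroupOf A := by
    intro a ha
    rw [Subgroup.mem_subgroupOf]
    apply h.omega a a.2
    have := congrArg Subtype.val (MonoidHom.mem_ker.mp ha)
    exact this
  have hc1 : Nat.card (W.subgroupOf A) = 8 := by
    rw [Nat.card_congr (Subgroup.subgroupOfEquivOfLe h.hWA).toEquiv, h.cardW]
  have hc2 : Nat.card h.sqHom.ker ≤ 8 := by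
    rw [← hc1]
    exact Subgroup.card_le_of_le hk
  have hc3 := Subgroup.card_eq_card_quotient_mul_card_subgroup h.sqHom.ker
  rw [h.cardA] at hc3
  have hc4 : Nat.card (↥A ⧸ h.sqHom.ker) = Nat.card h.sqHom.range :=
    Nat.card_congr (QuotientGroup.quotientKerEquivRange h.sqHom).toEquiv
  have hc5 : Nat.card h.sqHom.range ≤ 8 := by
    rw [← h.cardW]
    exact Finite.card_subtype_le _
  have hc6 : Nat.card h.sqHom.range = 8 := by
    rw [hc4] at hc3
    have : 0 < Nat.card h.sqHom.ker := Nat.card_pos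
    nlinarith
  have : h.sqHom.range = ⊤ := by
    apply Subgroup.eq_top_of_card_eq
    rw [hc6, h.cardW]
  exact MonoidHom.range_eq_top.mp this

theorem HB.exists_sqrt (h : HB A W) : ∀ w ∈ W, ∃ a ∈ A, a * a = w := by
  intro w hw
  obtain ⟨a, ha⟩ := h.sqHom_surj ⟨w, hw⟩
  exact ⟨a, a.2, congrArg Subtype.val ha⟩

theorem HB.expW (h : HB A W) : ∀ w ∈ W, w * w = 1 := by
  classical
  have hk : h.sqHom.ker ≤ W.subgroupOf A := by
    intro a ha
    rw [Subgroup.mem_subgroupOf]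
    apply h.omega a a.2
    exact congrArg Subtype.val (MonoidHom.mem_ker.mp ha)
  have hc1 : Nat.card (W.subgroupOf A) = 8 := by
    rw [Nat.card_congr (Subgroup.subgroupOfEquivOfLe h.hWA).toEquiv, h.cardW]
  have hc3 := Subgroup.card_eq_card_quotient_mul_card_subgroup h.sqHom.ker
  rw [h.cardA] at hc3
  have hc4 : Nat.card (↥A ⧸ h.sqHom.ker) = Nat.card ↥W :=
    Nat.card_congr (QuotientGroup.quotientKerEquivOfSurjective h.sqHom h.sqHom_surj).toEquiv
  rw [hc4, h.cardW] at hc3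
  have hc5 : Nat.card h.sqHom.ker = 8 := by omega
  have heq : h.sqHom.ker = W.subgroupOf A := by
    apply Subgroup.eq_of_le_of_card_ge hk
    rw [hc1, hc5]
  intro w hw
  have : (⟨w, h.hWA hw⟩ : ↥A) ∈ h.sqHom.ker := by
    rw [heq, Subgroup.mem_subgroupOf]; exact hw
  exact congrArg Subtype.val (MonoidHom.mem_ker.mp this)

/-- natural coordinates on `A/W` as a function on `G`, assuming only that `ker θ` acts trivially on `A/W` -/
theorem coords_fun {θ : G →* L} (A W : Subgroup G) [hA : A.Normal] [hW : W.Normal]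
    (hsurj : Function.Surjective θ)
    (hWA : W ≤ A) (hsqA : ∀ a ∈ A, a * a ∈ W) (hcardA : Nat.card A = 64) (hcardW : Nat.card W = 8)
    (htriv : ∀ g : G, θ g = 1 → ∀ a ∈ A, g * a * g⁻¹ * a⁻¹ ∈ W)
    (hfaith : ∀ g : G, (∀ a ∈ A, g * a * g⁻¹ * a⁻¹ ∈ W) → θ g = 1) :
    ∃ (α : L ≃* L) (P : G → (Fin 3 → ZMod 2)), (∀ v, ∃ a ∈ A, P a = v) ∧
      (∀ a ∈ A, ∀ b ∈ A, P (a * b) = P a + P b) ∧ (∀ a ∈ A, (P a = 0 ↔ a ∈ W)) ∧
      ∀ (g : G), ∀ a ∈ A, P (g * a * g⁻¹) =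
        Matrix.mulVec (α (θ g) : Matrix (Fin 3) (Fin 3) (ZMod 2)) (P a) := by
  classical
  obtain ⟨V, iV, fV, ρV, πV, hV2, hπs, hπm, hπk, hρ, hcard⟩ :=
    Cfsg.Agent.Lib.Helper1.GH5U7.exists_rhoV A W hWA hsqA
  have hcV : Nat.card V = 8 := by
    rw [hcardA, hcardW] at hcard
    omega
  let ρ' : G →* AddMonoid.End V := ρV.comp (QuotientGroup.mk' A)
  have hρ' : ∀ (g : G) (a : ↥A) (hga : g * (a : G) * g⁻¹ ∈ A),
      ρ' g (πV a) = πV ⟨g * (a : G) * g⁻¹, hga⟩ :=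
    fun g a hga => hρ g a hga
  have hdiff : ∀ (x y : ↥A), (x : G) * (y : G)⁻¹ ∈ W → πV x = πV y := by
    intro x y hxy
    have h1 : πV (x * y⁻¹) = 0 := (hπk _).mpr hxy
    have h2 := hπm (x * y⁻¹) y
    rw [inv_mul_cancel_right, h1, zero_add] at h2
    exact h2
  have hk : ∀ g : G, θ g = 1 → ρ' g = 1 := by
    intro g hg
    apply AddMonoidHom.ext
    intro v
    obtain ⟨a, rfl⟩ := hπs v
    have hga : g * (a : G) * g⁻¹ ∈ A := hA.conj_mem a a.2 g
    have h1 := hρ' g a hga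
    show ρ' g (πV a) = πV a
    rw [h1]
    exact hdiff _ _ (htriv g hg a a.2)
  have hf : ∀ g : G, ρ' g = 1 → θ g = 1 := by
    intro g hg
    apply hfaith
    intro a ha
    have hga : g * a * g⁻¹ ∈ A := hA.conj_mem a ha g
    have h1 := hρ' g ⟨a, ha⟩ hga
    rw [hg] at h1
    have h2 : πV (⟨g * a * g⁻¹, hga⟩ * (⟨a, ha⟩ : ↥A)⁻¹) = 0 := by
      rw [hπm, ← h1]
      show πV ⟨a, ha⟩ + πV (⟨a, ha⟩ : ↥A)⁻¹ = 0
      rw [← hπm, mul_inv_cancel]
      exact (hπk 1).mpr W.one_mem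
    exact (hπk _).mp h2
  obtain ⟨α, e, he⟩ := Cfsg.Agent.Lib.Helper8.GH7Mod.coords θ hsurj ρ' hk hV2 hcV hf
  refine ⟨α, fun x => if h : x ∈ A then e (πV ⟨x, h⟩) else 0, ?_, ?_, ?_, ?_⟩
  · intro v
    obtain ⟨a, ha⟩ := hπs (e.symm v)
    refine ⟨a, a.2, ?_⟩
    show (if h : (a : G) ∈ A then e (πV ⟨a, h⟩) else 0) = v
    rw [dif_pos a.2]
    show e (πV a) = v
    rw [ha]; simp
  · intro a ha b hb
    show (if h : a * b ∈ A then e (πV ⟨a * b, h⟩) else 0) =
      (if h : a ∈ A then e (πV ⟨a, h⟩) else 0) + (if h : b ∈ A then e (πV ⟨b, h⟩) else 0)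
    rw [dif_pos ha, dif_pos hb, dif_pos (A.mul_mem ha hb), ← map_add, ← hπm]
    rfl
  · intro a ha
    show (if h : a ∈ A then e (πV ⟨a, h⟩) else 0) = 0 ↔ a ∈ W
    rw [dif_pos ha, ← hπk ⟨a, ha⟩]
    exact e.map_eq_zero_iff
  · intro g a ha
    have hga : g * a * g⁻¹ ∈ A := hA.conj_mem a ha g
    show (if h : g * a * g⁻¹ ∈ A then e (πV ⟨g * a * g⁻¹, h⟩) else 0) =
      Matrix.mulVec (α (θ g) : Matrix (Fin 3) (Fin 3) (ZMod 2)) (if h : a ∈ A then e (πV ⟨a, h⟩) else 0)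
    rw [dif_pos hga, dif_pos ha, ← hρ' g ⟨a, ha⟩ hga]
    exact he g (πV ⟨a, ha⟩)

end Cfsg.Agent.Lib.Helper4.GH7
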