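import Mathlib
import Cfsg.Agent.Lib.Helper2.GH7Defs

set_option autoImplicit false
set_option linter.unusedVariables false
set_option linter.unusedSectionVars false
set_option linter.style.longLine false

/-! # GH7 = S3105, unit B8N-ab, part 1: `L = SL(3,2)` acting on 8 points
an element of order 4 with a fixed point forces a global fixed point. -/

namespace Cfsg.Agent.Lib.Helper4.GH7

open Cfsg.Agent.Lib.Helper2.GH7

universe u v

/-- a homomorphism whose kernel contains `ker θ` factors through the surjection `θ` (any monoid target) -/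
theorem lift_through_gen {G : Type u} [Group G] (θ : G →* L) (hsurj : Function.Surjective θ)
    {M : Type v} [Monoid M]
    (ρ' : G →* M) (hk : ∀ g : G, θ g = 1 → ρ' g = 1) :
    ∃ ρ : L →* M, ∀ g : G, ρ (θ g) = ρ' g := by
  have hs : ∀ l : L, θ (Function.surjInv hsurj l) = l := Function.surjInv_eq hsurj
  have hcongr : ∀ a b : G, θ a = θ b → ρ' a = ρ' b := by
    intro a b hab
    have h1 : θ (a * b⁻¹) = 1 := by rw [map_mul, map_inv, hab, mul_inv_cancel]
    have h2 : ρ' a = ρ' (a * b⁻¹) * ρ' b := by rw [← map_mul, inv_mul_cancel_right]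
    rw [h2, hk _ h1, one_mul]
  refine ⟨{ toFun := fun l => ρ' (Function.surjInv hsurj l), map_one' := ?_, map_mul' := ?_ }, ?_⟩
  · show ρ' (Function.surjInv hsurj 1) = 1
    rw [hcongr _ 1 (by rw [hs, map_one]), map_one]
  · intro l l'
    show ρ' (Function.surjInv hsurj (l * l')) = ρ' (Function.surjInv hsurj l) * ρ' (Function.surjInv hsurj l')
    rw [← map_mul]
    exact hcongr _ _ (by rw [hs, map_mul, hs, hs])
  · intro g
    show ρ' (Function.surjInv hsurj (θ g)) = ρ' g
    exact hcongr _ _ (hs _)

/-- `L` acting on 8 points: if an element of order 4 fixes a point, then `L` fixes a point. -/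
theorem fixed_of_order4_fixed {X : Type v} [MulAction L X] (hX : Nat.card X = 8) (l : L)
    (hl : orderOf l = 4) (p : X) (hp : l • p = p) : ∃ p₀ : X, ∀ g : L, g • p₀ = p₀ := by
  classical
  haveI : Finite X := Nat.finite_of_card_ne_zero (by rw [hX]; norm_num)
  haveI : Fintype X := Fintype.ofFinite X
  have hcardL : Nat.card L = 168 := Cfsg.Agent.Lib.Helper1.Dv.card_SL32
  haveI hsimple : IsSimpleGroup L := Cfsg.Agent.Lib.Helper1.Dv.simple_SL32
  -- orbit-stabiliser
  have h1 : Nat.card (MulAction.orbit L p) * Nat.card (MulAction.stabilizer L p) = 168 := by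
    rw [← Nat.card_prod, Nat.card_congr (MulAction.orbitProdStabilizerEquivGroup L p), hcardL]
  have h2 : 4 ∣ Nat.card (MulAction.stabilizer L p) := by
    have hmem : l ∈ MulAction.stabilizer L p := hp
    have := orderOf_dvd_natCard (⟨l, hmem⟩ : MulAction.stabilizer L p)
    rwa [Subgroup.orderOf_mk, hl] at this
  have h3 : Nat.card (MulAction.orbit L p) ≤ 8 := by
    rw [← hX]
    exact Finite.card_subtype_le _
  -- small orbits are trivial
  have hsmall : Nat.card (MulAction.orbit L p) ≤ 6 → ∀ g : L, g • p = p := by
    intro hle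
    let φ : L →* Equiv.Perm (MulAction.orbit L p) := MulAction.toPermHom L (MulAction.orbit L p)
    rcases (φ.normal_ker).eq_bot_or_eq_top with hb | ht
    · exfalso
      have hinj : Function.Injective φ := (MonoidHom.ker_eq_bot_iff φ).mp hb
      have hdvd := Subgroup.card_dvd_of_injective φ hinj
      rw [hcardL, Nat.card_eq_fintype_card, Fintype.card_perm, ← Nat.card_eq_fintype_card] at hdvd
      have h4 : (Nat.card (MulAction.orbit L p)).factorial ∣ (6 : ℕ).factorial :=
        Nat.factorial_dvd_factorial hle
      have h5 : 168 ∣ (6 : ℕ).factorial := dvd_trans hdvd h4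
      revert h5
      decide
    · intro g
      have hg : g ∈ φ.ker := by rw [ht]; exact Subgroup.mem_top g
      have h4 : φ g = 1 := MonoidHom.mem_ker.mp hg
      have h5 : φ g ⟨p, MulAction.mem_orbit_self p⟩ = ⟨p, MulAction.mem_orbit_self p⟩ := by
        rw [h4]; rfl
      exact congrArg Subtype.val h5
  by_cases hle : Nat.card (MulAction.orbit L p) ≤ 6
  · exact ⟨p, hsmall hle⟩
  · -- the orbit has 7 points
    have h7 : Nat.card (MulAction.orbit L p) = 7 := by
      obtain ⟨k, hk⟩ := h2
      rw [hk] at h1
      have h8 : Nat.card (MulAction.orbit L p) = 7 ∨ Nat.card (MulAction.orbit L p) = 8 := by omega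
      rcases h8 with h8 | h8
      · exact h8
      · rw [h8] at h1; omega
    -- a point outside the orbit
    have hex : ∃ p₀ : X, p₀ ∉ MulAction.orbit L p := by
      by_contra hcon
      push_neg at hcon
      have : Nat.card (MulAction.orbit L p) = Nat.card X :=
        Nat.card_congr (Equiv.subtypeUnivEquiv hcon)
      omega
    obtain ⟨p₀, hp₀⟩ := hex
    refine ⟨p₀, fun g => ?_⟩
    by_contra hne
    have hgp₀ : g • p₀ ∉ MulAction.orbit L p := by
      intro h
      apply hp₀
      have : p₀ = g⁻¹ • (g • p₀) := by rw [inv_smul_smul]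
      rw [this]
      exact MulAction.mem_orbit_of_mem_orbit g⁻¹ h
    -- count: orbit ∪ {p₀, g p₀} has 9 points
    have hfin : (MulAction.orbit L p).toFinset.card = 7 := by
      rw [Set.toFinset_card, ← Nat.card_eq_fintype_card, h7]
    have h9 : (insert p₀ (insert (g • p₀) (MulAction.orbit L p).toFinset)).card = 9 := by
      rw [Finset.card_insert_of_notMem, Finset.card_insert_of_notMem, hfin]
      · simpa using hgp₀
      · simp only [Finset.mem_insert, Set.mem_toFinset, not_or]
        exact ⟨fun h => hne h.symm, hp₀⟩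
    have h10 := Finset.card_le_univ (insert p₀ (insert (g • p₀) (MulAction.orbit L p).toFinset))
    rw [h9, ← Nat.card_eq_fintype_card, hX] at h10
    omega

end Cfsg.Agent.Lib.Helper4.GH7
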