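import Mathlib
import Cfsg.Agent.Lib.Helper4.GH7B8Nab1
import Cfsg.Agent.Lib.Helper4.GH7B8Nd1

set_option autoImplicit false
set_option linter.unusedVariables false
set_option linter.unusedSectionVars false
set_option linter.style.longLine false
set_option maxHeartbeats 1000000

/-! # GH7 = S3105, unit B8N-ab, part 2: the 8 involutions of `Q \ A`
`Q` abelian of order 128, `A = Z4^3` of index 2: the involutions of `Q` outside `A` form a set of 8 points on which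
`G` acts by conjugation through `L`; a fixed point of an element over an element of order 4 gives a central involution. -/

namespace Cfsg.Agent.Lib.Helper4.GH7

open Cfsg.Agent.Lib.Helper3.A8Emb (sqSub)
open Cfsg.Agent.Lib.Helper2.GH7

universe u

variable {G : Type u} [Group G]

/-- the involutions of `Q` outside `A` -/
def Pts (Q A : Subgroup G) : Type u := {o : G // o ∈ Q ∧ o ∉ A ∧ o * o = 1}

theorem Pts.conj_mem {Q A : Subgroup G} [hQ : Q.Normal] [hA : A.Normal] (g : G) (o : Pts Q A) :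
    g * o.1 * g⁻¹ ∈ Q ∧ g * o.1 * g⁻¹ ∉ A ∧ (g * o.1 * g⁻¹) * (g * o.1 * g⁻¹) = 1 := by
  refine ⟨hQ.conj_mem _ o.2.1 g, ?_, ?_⟩
  · intro h
    apply o.2.2.1
    have := hA.conj_mem _ h g⁻¹
    have h2 : g⁻¹ * (g * o.1 * g⁻¹) * g⁻¹⁻¹ = o.1 := by group
    rwa [h2] at this
  · calc (g * o.1 * g⁻¹) * (g * o.1 * g⁻¹) = g * (o.1 * o.1) * g⁻¹ := by group
      _ = 1 := by rw [o.2.2.2]; group

instance Pts.instMulAction (Q A : Subgroup G) [Q.Normal] [A.Normal] : MulAction G (Pts Q A) where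
  smul g o := ⟨g * o.1 * g⁻¹, Pts.conj_mem g o⟩
  one_smul o := by
    apply Subtype.ext
    show 1 * o.1 * 1⁻¹ = o.1
    group
  mul_smul g h o := by
    apply Subtype.ext
    show (g * h) * o.1 * (g * h)⁻¹ = g * (h * o.1 * h⁻¹) * g⁻¹
    group

theorem Pts.smul_val {Q A : Subgroup G} [Q.Normal] [A.Normal] (g : G) (o : Pts Q A) :
    (g • o).1 = g * o.1 * g⁻¹ := rfl

/-- index two: two elements of `Q` outside `A` differ by an element of `A` -/
theorem idx2 {Q A : Subgroup G} [Finite G] (hAQ : A ≤ Q) (hcardA : Nat.card A = 64) (hcardQ : Nat.card Q = 128) :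
    ∀ x ∈ Q, ∀ y ∈ Q, x ∉ A → y ∉ A → x⁻¹ * y ∈ A := by
  have hidx : (A.subgroupOf Q).index = 2 := by
    have h1 := Subgroup.card_mul_index (A.subgroupOf Q)
    rw [Nat.card_congr (Subgroup.subgroupOfEquivOfLe hAQ).toEquiv, hcardA, hcardQ] at h1
    omega
  intro x hx y hy hxA hyA
  have h1 := Subgroup.mul_mem_iff_of_index_two hidx (a := (⟨x, hx⟩ : ↥Q)⁻¹) (b := ⟨y, hy⟩)
  have h2 : ((⟨x, hx⟩ : ↥Q)⁻¹ ∈ A.subgroupOf Q ↔ (⟨y, hy⟩ : ↥Q) ∈ A.subgroupOf Q) := by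
    rw [Subgroup.inv_mem_iff]
    simp only [Subgroup.mem_subgroupOf]
    exact ⟨fun h => absurd h hxA, fun h => absurd h hyA⟩
  have h3 := h1.mpr h2
  rw [Subgroup.mem_subgroupOf] at h3
  exact h3

variable [Finite G] {Q : Subgroup G} [Q.Normal] {θ : G →* L}

/-- the points form a coset of `W`: there are 8 of them -/
theorem card_Pts (A W : Subgroup G) (hWA : W ≤ A) (hAQ : A ≤ Q)
    (hcardA : Nat.card A = 64) (hcardW : Nat.card W = 8) (hcardQ : Nat.card Q = 128)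
    (hΩ : ∀ a ∈ A, a * a = 1 → a ∈ W) (hexpW : ∀ w ∈ W, w * w = 1)
    (hab : ∀ a ∈ Q, ∀ b ∈ Q, a * b = b * a) (p : Pts Q A) : Nat.card (Pts Q A) = 8 := by
  rw [← hcardW]
  symm
  have hsq : ∀ a ∈ Q, ∀ b ∈ Q, (a * b) * (a * b) = (a * a) * (b * b) := by
    intro a ha b hb
    have := hab a ha b hb
    calc (a * b) * (a * b) = a * (b * a) * b := by group
      _ = a * (a * b) * b := by rw [this]
      _ = _ := by group
  let f : ↥W → Pts Q A := fun w => ⟨p.1 * w.1, by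
    refine ⟨Q.mul_mem p.2.1 (hAQ (hWA w.2)), ?_, ?_⟩
    · intro h
      apply p.2.2.1
      have := A.mul_mem h (A.inv_mem (hWA w.2))
      rwa [mul_inv_cancel_right] at this
    · rw [hsq _ p.2.1 _ (hAQ (hWA w.2)), p.2.2.2, hexpW _ w.2, one_mul]⟩
  apply Nat.card_congr
  apply Equiv.ofBijective f
  constructor
  · intro w w' hww
    have h1 : p.1 * w.1 = p.1 * w'.1 := congrArg Subtype.val hww
    exact Subtype.ext (mul_left_cancel h1)
  · intro o
    have h1 : p.1⁻¹ * o.1 ∈ A := idx2 hAQ hcardA hcardQ _ p.2.1 _ o.2.1 p.2.2.1 o.2.2.1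
    have h2 : (p.1⁻¹ * o.1) * (p.1⁻¹ * o.1) = 1 := by
      rw [hsq _ (Q.inv_mem p.2.1) _ o.2.1, o.2.2.2, mul_one]
      calc p.1⁻¹ * p.1⁻¹ = (p.1 * p.1)⁻¹ := by group
        _ = 1 := by rw [p.2.2.2, inv_one]
    refine ⟨⟨p.1⁻¹ * o.1, hΩ _ h1 h2⟩, ?_⟩
    apply Subtype.ext
    show p.1 * (p.1⁻¹ * o.1) = o.1
    group

/-- a fixed point of an element over an element of order 4 gives a central involution outside `A` -/
theorem central_inv_of_fixed (hF : Frame Q θ) (A W : Subgroup G) [A.Normal] [W.Normal] (hWA : W ≤ A) (hAQ : A ≤ Q)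
    (hcardA : Nat.card A = 64) (hcardW : Nat.card W = 8) (hcardQ : Nat.card Q = 128)
    (hΩ : ∀ a ∈ A, a * a = 1 → a ∈ W) (hexpW : ∀ w ∈ W, w * w = 1)
    (hab : ∀ a ∈ Q, ∀ b ∈ Q, a * b = b * a)
    (x : G) (hx : orderOf (θ x) = 4) (p : G) (hpQ : p ∈ Q) (hpA : p ∉ A) (hp2 : p * p = 1)
    (hfix : x * p * x⁻¹ = p) :
    ∃ z ∈ Q, z ∉ A ∧ z * z = 1 ∧ ∀ g : G, g * z = z * g := by
  classical
  let p' : Pts Q A := ⟨p, hpQ, hpA, hp2⟩
  have hX : Nat.card (Pts Q A) = 8 := card_Pts A W hWA hAQ hcardA hcardW hcardQ hΩ hexpW hab p'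
  let φG : G →* Equiv.Perm (Pts Q A) := MulAction.toPermHom G (Pts Q A)
  have hφG : ∀ (g : G) (o : Pts Q A), (φG g o).1 = g * o.1 * g⁻¹ := fun g o => rfl
  have hk : ∀ g : G, θ g = 1 → φG g = 1 := by
    intro g hg
    have hgQ : g ∈ Q := by rw [← hF.ker]; exact MonoidHom.mem_ker.mpr hg
    apply Equiv.ext
    intro o
    apply Subtype.ext
    rw [hφG]
    show g * o.1 * g⁻¹ = o.1
    rw [hab g hgQ o.1 o.2.1]; group
  obtain ⟨φ, hφ⟩ := lift_through_gen θ hF.surj φG hk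
  letI : MulAction L (Pts Q A) := MulAction.compHom (Pts Q A) φ
  have hsmul : ∀ (l : L) (o : Pts Q A), l • o = φ l o := fun l o => rfl
  have hp' : θ x • p' = p' := by
    rw [hsmul, hφ]
    apply Subtype.ext
    rw [hφG]
    exact hfix
  obtain ⟨p₀, hp₀⟩ := fixed_of_order4_fixed hX (θ x) hx p' hp'
  refine ⟨p₀.1, p₀.2.1, p₀.2.2.1, p₀.2.2.2, ?_⟩
  intro g
  have h1 := hp₀ (θ g)
  rw [hsmul, hφ] at h1
  have h2 : g * p₀.1 * g⁻¹ = p₀.1 := by
    rw [← hφG]; exact congrArg Subtype.val h1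
  calc g * p₀.1 = (g * p₀.1 * g⁻¹) * g := by group
    _ = p₀.1 * g := by rw [h2]

end Cfsg.Agent.Lib.Helper4.GH7
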