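import Mathlib
import Cfsg.Agent.Lib.Helper4.GH7B8Nab2
import Cfsg.Agent.Lib.Helper2.GH7F3

set_option autoImplicit false
set_option linter.unusedVariables false
set_option linter.unusedSectionVars false
set_option linter.style.longLine false
set_option maxHeartbeats 1000000

/-! # GH7 = S3105, unit B8N-ab: `b8n_abelian` -/

namespace Cfsg.Agent.Lib.Helper4.GH7

open Cfsg.Agent.Lib.Helper3.A8Emb (sqSub)
open Cfsg.Agent.Lib.Helper2.GH7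

universe u

variable {G : Type u} [Group G] [Finite G] {Q : Subgroup G} [Q.Normal] {θ : G →* L}

theorem orderOf_u4 : orderOf u4 = 4 := by
  haveI : Fact (Nat.Prime 2) := ⟨Nat.prime_two⟩
  have h := orderOf_eq_prime_pow (x := u4) (p := 2) (n := 1)
    (by rw [pow_one, sq, u4_sq]; exact z13_ne) (by norm_num; exact u4_pow4)
  rw [h]; norm_num

/-- the vectors fixed by `u4` -/
theorem fixed_u4 : ∀ v : Fin 3 → ZMod 2,
    (u4 : Matrix (Fin 3) (Fin 3) (ZMod 2)).mulVec v = v → v = 0 ∨ v = ![1, 0, 0] := by decide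

theorem u4_sq_e3 : ((u4 ^ 2 : L) : Matrix (Fin 3) (Fin 3) (ZMod 2)).mulVec ![0, 0, 1] = ![1, 0, 1] := by decide

theorem e3_add : (![0, 0, 1] : Fin 3 → ZMod 2) + ![1, 0, 1] = ![1, 0, 0] := by decide

/-- some `x` over an element of order 4: an element of `Q \ A` fixed by `x` yields an involution of `Q \ A` fixed by `x` -/
theorem exists_lift_fixed (hF : Frame Q θ) (A W : Subgroup G) [A.Normal] [W.Normal] (hWA : W ≤ A) (hAQ : A ≤ Q)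
    (hcardA : Nat.card A = 64) (hcardW : Nat.card W = 8) (hcardQ : Nat.card Q = 128)
    (hsqA : ∀ a ∈ A, a * a ∈ W) (hΩ : ∀ a ∈ A, a * a = 1 → a ∈ W)
    (hsqQ : ∀ q ∈ Q, q * q ∈ W)
    (hfA : ∀ g : G, (∀ a ∈ A, g * a * g⁻¹ * a⁻¹ ∈ W) → g ∈ Q)
    (hab : ∀ a ∈ Q, ∀ b ∈ Q, a * b = b * a) :
    ∃ x : G, orderOf (θ x) = 4 ∧ ∀ q ∈ Q, q ∉ A → x * q * x⁻¹ = q →
      ∃ p ∈ Q, p ∉ A ∧ p * p = 1 ∧ x * p * x⁻¹ = p := by
  classical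
  have hAn : A.Normal := inferInstance
  have hWn : W.Normal := inferInstance
  have hQn : Q.Normal := inferInstance
  have hcommA : ∀ a ∈ A, ∀ b ∈ A, a * b = b * a := fun a ha b hb => hab a (hAQ ha) b (hAQ hb)
  have hB : HB A W := ⟨hWA, hcommA, hcardA, hcardW, hsqA, hΩ⟩
  have hexpW := hB.expW
  have hsqrt := hB.exists_sqrt
  have hker : ∀ g : G, θ g = 1 ↔ g ∈ Q := by
    intro g
    rw [← hF.ker, MonoidHom.mem_ker]
  have hQA : ∀ x ∈ Q, ∀ a ∈ A, x * a * x⁻¹ * a⁻¹ ∈ W := by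
    intro x hx a ha
    have : x * a * x⁻¹ * a⁻¹ = 1 := by rw [hab x hx a (hAQ ha)]; group
    rw [this]; exact W.one_mem
  have hHC : HC θ A W := ⟨hF.surj, hAn, hWn, hWA, hcommA, hcardA, hcardW, hsqA, hΩ,
    fun g hg a ha => hab g ((hker g).mp hg) a (hAQ ha), fun g hg => (hker g).mpr (hfA g hg)⟩
  obtain ⟨α, P, hPs, hPmul, hPker, hPact⟩ := coords_fun (θ := θ) A W hF.surj hWA hsqA hcardA hcardW
    (fun g hg a ha => hQA g ((hker g).mp hg) a ha) (fun g hg => (hker g).mpr (hfA g hg))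
  have hPeq : ∀ x ∈ A, ∀ y ∈ A, P x = P y → x * y⁻¹ ∈ W := by
    intro x hx y hy hxy
    have hm : x * y⁻¹ ∈ A := A.mul_mem hx (A.inv_mem hy)
    have h1 := hPmul (x * y⁻¹) hm y hy
    rw [inv_mul_cancel_right, hxy] at h1
    have h2 : P (x * y⁻¹) = 0 := by
      have h3 : P (x * y⁻¹) + P y = 0 + P y := by rw [zero_add]; exact h1.symm
      exact add_right_cancel h3
    exact (hPker _ hm).mp h2
  have hPW : ∀ w ∈ W, ∀ a ∈ A, P (w * a) = P a := by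
    intro w hw a ha
    rw [hPmul w (hWA hw) a ha, (hPker w (hWA hw)).mpr hw, zero_add]
  have hsq : ∀ a ∈ Q, ∀ b ∈ Q, (a * b) * (a * b) = (a * a) * (b * b) := by
    intro a ha b hb
    have := hab a ha b hb
    calc (a * b) * (a * b) = a * (b * a) * b := by group
      _ = a * (a * b) * b := by rw [this]
      _ = _ := by group
  -- the lift `x` of `u4`
  obtain ⟨l', hl'⟩ := α.surjective u4
  obtain ⟨x, hx⟩ := hF.surj l'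
  have hαx : α (θ x) = u4 := by rw [hx, hl']
  have horder : orderOf (θ x) = 4 := by
    rw [← MulEquiv.orderOf_eq α (θ x), hαx]; exact orderOf_u4
  refine ⟨x, horder, ?_⟩
  intro q hq hqA hxq
  obtain ⟨a₀, ha₀, ha₀q⟩ := hsqrt (q * q) (hsqQ q hq)
  -- the involution `û`
  have hûQ : q * a₀⁻¹ ∈ Q := Q.mul_mem hq (Q.inv_mem (hAQ ha₀))
  have hûA : q * a₀⁻¹ ∉ A := by
    intro h
    apply hqA
    have := A.mul_mem h ha₀
    rwa [inv_mul_cancel_right] at this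
  have hû2 : (q * a₀⁻¹) * (q * a₀⁻¹) = 1 := by
    rw [hsq q hq _ (Q.inv_mem (hAQ ha₀)), ← ha₀q]; group
  -- its conjugate
  have hcQ : x * (q * a₀⁻¹) * x⁻¹ ∈ Q := hQn.conj_mem _ hûQ x
  have hcA : x * (q * a₀⁻¹) * x⁻¹ ∉ A := by
    intro h
    apply hûA
    have := hAn.conj_mem _ h x⁻¹
    have h2 : x⁻¹ * (x * (q * a₀⁻¹) * x⁻¹) * x⁻¹⁻¹ = q * a₀⁻¹ := by group
    rwa [h2] at this
  have hc2 : (x * (q * a₀⁻¹) * x⁻¹) * (x * (q * a₀⁻¹) * x⁻¹) = 1 := by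
    calc (x * (q * a₀⁻¹) * x⁻¹) * (x * (q * a₀⁻¹) * x⁻¹)
        = x * ((q * a₀⁻¹) * (q * a₀⁻¹)) * x⁻¹ := by group
      _ = 1 := by rw [hû2]; group
  have hwuA : (q * a₀⁻¹)⁻¹ * (x * (q * a₀⁻¹) * x⁻¹) ∈ A :=
    idx2 hAQ hcardA hcardQ _ hûQ _ hcQ hûA hcA
  have hwu2 : ((q * a₀⁻¹)⁻¹ * (x * (q * a₀⁻¹) * x⁻¹)) * ((q * a₀⁻¹)⁻¹ * (x * (q * a₀⁻¹) * x⁻¹)) = 1 := by
    rw [hsq _ (Q.inv_mem hûQ) _ hcQ, hc2, mul_one]
    calc (q * a₀⁻¹)⁻¹ * (q * a₀⁻¹)⁻¹ = ((q * a₀⁻¹) * (q * a₀⁻¹))⁻¹ := by group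
      _ = 1 := by rw [hû2, inv_one]
  have hwuW : (q * a₀⁻¹)⁻¹ * (x * (q * a₀⁻¹) * x⁻¹) ∈ W := hΩ _ hwuA hwu2
  -- the action of `x` on `a₀`
  have hxa : x * a₀ * x⁻¹ = ((q * a₀⁻¹)⁻¹ * (x * (q * a₀⁻¹) * x⁻¹))⁻¹ * a₀ := by
    calc x * a₀ * x⁻¹ = (x * (q * a₀⁻¹) * x⁻¹)⁻¹ * (x * q * x⁻¹) := by group
      _ = (x * (q * a₀⁻¹) * x⁻¹)⁻¹ * q := by rw [hxq]
      _ = _ := by group
  have hPa₀ : P a₀ = 0 ∨ P a₀ = ![1, 0, 0] := by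
    apply fixed_u4
    have h1 := hPact x a₀ ha₀
    rw [hαx, hxa, hPW _ (W.inv_mem hwuW) a₀ ha₀] at h1
    exact h1.symm
  -- the fixed element `b` over `e1`
  obtain ⟨a', ha', hPa'⟩ := hPs ![0, 0, 1]
  have hb'A : x ^ 2 * a' * (x ^ 2)⁻¹ ∈ A := hAn.conj_mem a' ha' _
  have hbA : a' * (x ^ 2 * a' * (x ^ 2)⁻¹) ∈ A := A.mul_mem ha' hb'A
  have hbfix : x * (a' * (x ^ 2 * a' * (x ^ 2)⁻¹)) * x⁻¹ = a' * (x ^ 2 * a' * (x ^ 2)⁻¹) :=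
    homocyclic_F3 hHC x horder a' ha'
  have hPb : P (a' * (x ^ 2 * a' * (x ^ 2)⁻¹)) = ![1, 0, 0] := by
    rw [hPmul a' ha' _ hb'A, hPact (x ^ 2) a' ha', map_pow, map_pow, hαx, hPa', u4_sq_e3, e3_add]
  -- `a₀ = b' w`
  obtain ⟨b', hb', hb'fix, hw⟩ : ∃ b' ∈ A, x * b' * x⁻¹ = b' ∧ a₀ * b'⁻¹ ∈ W := by
    rcases hPa₀ with h0 | h1
    · refine ⟨1, A.one_mem, by group, ?_⟩
      rw [inv_one, mul_one]
      exact (hPker a₀ ha₀).mp h0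
    · exact ⟨_, hbA, hbfix, hPeq a₀ ha₀ _ hbA (by rw [h1, hPb])⟩
  -- the fixed involution
  refine ⟨(q * a₀⁻¹) * (a₀ * b'⁻¹), Q.mul_mem hûQ (hAQ (hWA hw)), ?_, ?_, ?_⟩
  · intro h
    apply hûA
    have := A.mul_mem h (A.inv_mem (hWA hw))
    rwa [mul_inv_cancel_right] at this
  · rw [hsq _ hûQ _ (hAQ (hWA hw)), hû2, hexpW _ hw, one_mul]
  · calc x * ((q * a₀⁻¹) * (a₀ * b'⁻¹)) * x⁻¹
        = (x * (q * a₀⁻¹) * x⁻¹) * ((x * a₀ * x⁻¹) * (x * b' * x⁻¹)⁻¹) := by group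
      _ = (x * (q * a₀⁻¹) * x⁻¹) *
          ((((q * a₀⁻¹)⁻¹ * (x * (q * a₀⁻¹) * x⁻¹))⁻¹ * a₀) * b'⁻¹) := by rw [hxa, hb'fix]
      _ = _ := by group

theorem b8n_abelian (hF : Frame Q θ) (A W : Subgroup G) [A.Normal] [W.Normal] (hWA : W ≤ A) (hAQ : A ≤ Q)
    (hcardA : Nat.card A = 64) (hcardW : Nat.card W = 8) (hcardQ : Nat.card Q = 128)
    (hsqA : ∀ a ∈ A, a * a ∈ W) (hΩ : ∀ a ∈ A, a * a = 1 → a ∈ W)
    (hsqQ : ∀ q ∈ Q, q * q ∈ W) (hle : W ≤ sqSub Q)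
    (hfW : ∀ g : G, (∀ w ∈ W, g * w = w * g) → g ∈ Q)
    (hfA : ∀ g : G, (∀ a ∈ A, g * a * g⁻¹ * a⁻¹ ∈ W) → g ∈ Q)
    (hab : ∀ a ∈ Q, ∀ b ∈ Q, a * b = b * a) :
    (∃ k : G, θ k ≠ 1 ∧ θ k * θ k = 1 ∧ k * k ∈ A) ∨
    (∃ z ∈ Q, z ∉ A ∧ z * z = 1 ∧ ∀ g : G, g * z = z * g) := by
  classical
  have hcommA : ∀ a ∈ A, ∀ b ∈ A, a * b = b * a := fun a ha b hb => hab a (hAQ ha) b (hAQ hb)
  have hB : HB A W := ⟨hWA, hcommA, hcardA, hcardW, hsqA, hΩ⟩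
  have hexpW := hB.expW
  obtain ⟨x, horder, hx⟩ := exists_lift_fixed hF A W hWA hAQ hcardA hcardW hcardQ hsqA hΩ hsqQ hfA hab
  have h4 : θ x ^ 4 = 1 := by rw [← horder]; exact pow_orderOf_eq_one _
  have h2 : θ x ^ 2 ≠ 1 := by
    intro hc
    have := orderOf_dvd_of_pow_eq_one hc
    rw [horder] at this
    omega
  by_cases hA : (x * x) * (x * x) ∈ A
  · left
    refine ⟨x * x, ?_, ?_, hA⟩
    · rw [map_mul, ← sq]; exact h2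
    · rw [map_mul]
      calc θ x * θ x * (θ x * θ x) = θ x ^ 4 := by
            rw [show (4 : ℕ) = 2 + 2 from rfl, pow_add, sq]
        _ = 1 := h4
  · right
    have hqQ : (x * x) * (x * x) ∈ Q := by
      rw [← hF.ker, MonoidHom.mem_ker, map_mul, map_mul]
      calc θ x * θ x * (θ x * θ x) = θ x ^ 4 := by
            rw [show (4 : ℕ) = 2 + 2 from rfl, pow_add, sq]
        _ = 1 := h4
    obtain ⟨p, hpQ, hpA, hp2, hpfix⟩ := hx _ hqQ hA (by group)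
    exact central_inv_of_fixed hF A W hWA hAQ hcardA hcardW hcardQ hΩ hexpW hab x horder p hpQ hpA hp2 hpfix

end Cfsg.Agent.Lib.Helper4.GH7
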