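import Mathlib
import Cfsg.Agent.Lib.Helper4.GH7B8Nd1
import Cfsg.Agent.Lib.Helper4.GH7A2

set_option autoImplicit false
set_option linter.unusedVariables false
set_option linter.unusedSectionVars false
set_option linter.style.longLine false
set_option maxHeartbeats 1000000

/-! # GH7 = S3105, unit B8N-dich: `b8n_dichotomy` -/

namespace Cfsg.Agent.Lib.Helper4.GH7

open Cfsg.Agent.Lib.Helper3.A8Emb (sqSub)
open Cfsg.Agent.Lib.Helper2.GH7

universe u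

variable {G : Type u} [Group G] [Finite G] {Q : Subgroup G} [Q.Normal] {θ : G →* L}

/-- vectors fixed by the two transvections `a12`, `z13` (both fix `e1`) lie in `⟨e1⟩` -/
theorem fixed_a12_z13 : ∀ v : Fin 3 → ZMod 2,
    (a12 : Matrix (Fin 3) (Fin 3) (ZMod 2)).mulVec v = v →
    (z13 : Matrix (Fin 3) (Fin 3) (ZMod 2)).mulVec v = v → v = 0 ∨ v = ![1, 0, 0] := by decide

theorem a12_e1 : (a12 : Matrix (Fin 3) (Fin 3) (ZMod 2)).mulVec ![1, 0, 0] = ![1, 0, 0] := by decide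
theorem z13_e1 : (z13 : Matrix (Fin 3) (Fin 3) (ZMod 2)).mulVec ![1, 0, 0] = ![1, 0, 0] := by decide

/-- commutators of a group whose squares lie in a normal subgroup lie in that subgroup -/
theorem comm_mem_of_sq {Q W : Subgroup G} [hW : W.Normal] (hsqQ : ∀ q ∈ Q, q * q ∈ W) :
    ∀ x ∈ Q, ∀ y ∈ Q, x * y * x⁻¹ * y⁻¹ ∈ W := by
  intro x hx y hy
  have h1 : (x * y) * (x * y) ∈ W := hsqQ _ (Q.mul_mem hx hy)
  have h2 : y⁻¹ * (x⁻¹ * x⁻¹) * y⁻¹⁻¹ ∈ W := hW.conj_mem _ (hsqQ _ (Q.inv_mem hx)) _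
  have h3 : y⁻¹ * y⁻¹ ∈ W := hsqQ _ (Q.inv_mem hy)
  have : x * y * x⁻¹ * y⁻¹ = (x * y) * (x * y) * (y⁻¹ * (x⁻¹ * x⁻¹) * y⁻¹⁻¹) * (y⁻¹ * y⁻¹) := by group
  rw [this]
  exact W.mul_mem (W.mul_mem h1 h2) h3

theorem b8n_dichotomy (hF : Frame Q θ) (A W : Subgroup G) [A.Normal] [W.Normal] (hWA : W ≤ A) (hAQ : A ≤ Q)
    (hcardA : Nat.card A = 64) (hcardW : Nat.card W = 8) (hcardQ : Nat.card Q = 128)
    (hcommA : ∀ a ∈ A, ∀ b ∈ A, a * b = b * a) (hsqA : ∀ a ∈ A, a * a ∈ W) (hΩ : ∀ a ∈ A, a * a = 1 → a ∈ W)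
    (hsqQ : ∀ q ∈ Q, q * q ∈ W) (hle : W ≤ sqSub Q) (hcenW : ∀ w ∈ W, ∀ q ∈ Q, w * q = q * w)
    (hfW : ∀ g : G, (∀ w ∈ W, g * w = w * g) → g ∈ Q)
    (hfA : ∀ g : G, (∀ a ∈ A, g * a * g⁻¹ * a⁻¹ ∈ W) → g ∈ Q) :
    (∀ a ∈ Q, ∀ b ∈ Q, a * b = b * a) ∨ (∃ q ∈ Q, q ∉ A ∧ ∀ a ∈ A, q * a * q⁻¹ = a⁻¹) := by
  classical
  have hAn : A.Normal := inferInstance
  have hWn : W.Normal := inferInstance
  have hQn : Q.Normal := inferInstance
  have hB : HB A W := ⟨hWA, hcommA, hcardA, hcardW, hsqA, hΩ⟩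
  have hexpW := hB.expW
  have hsqrt := hB.exists_sqrt
  have hker : ∀ g : G, θ g = 1 ↔ g ∈ Q := by
    intro g
    rw [← hF.ker, MonoidHom.mem_ker]
  have hQA : ∀ x ∈ Q, ∀ a ∈ A, x * a * x⁻¹ * a⁻¹ ∈ W :=
    fun x hx a ha => comm_mem_of_sq hsqQ x hx a (hAQ ha)
  obtain ⟨α, P, hPs, hPmul, hPker, hPact⟩ := coords_fun (θ := θ) A W hF.surj hWA hsqA hcardA hcardW
    (fun g hg a ha => hQA g ((hker g).mp hg) a ha) (fun g hg => (hker g).mpr (hfA g hg))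
  have hPeq : ∀ x ∈ A, ∀ y ∈ A, P x = P y → x * y⁻¹ ∈ W := by
    intro x hx y hy hxy
    have hm : x * y⁻¹ ∈ A := A.mul_mem hx (A.inv_mem hy)
    have h1 := hPmul (x * y⁻¹) hm y hy
    rw [inv_mul_cancel_right, hxy] at h1
    have h2 : P (x * y⁻¹) = 0 := by
      have h3 : P (x * y⁻¹) + P y = 0 + P y := by rw [zero_add]; exact h1.symm
      exact add_right_cancel h3
    exact (hPker _ hm).mp h2
  have hPW : ∀ w ∈ W, ∀ a ∈ A, P (w * a) = P a := by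
    intro w hw a ha
    rw [hPmul w (hWA hw) a ha, (hPker w (hWA hw)).mpr hw, zero_add]
  -- an element `q ∈ Q \ A`
  obtain ⟨q, hq, hqA⟩ : ∃ q ∈ Q, q ∉ A := by
    by_contra hcon
    push_neg at hcon
    have hle' : Q ≤ A := fun x hx => hcon x hx
    have := Subgroup.card_le_of_le hle'
    rw [hcardA, hcardQ] at this
    omega
  -- index two
  have hidx : (A.subgroupOf Q).index = 2 := by
    have h1 := Subgroup.card_mul_index (A.subgroupOf Q)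
    rw [Nat.card_congr (Subgroup.subgroupOfEquivOfLe hAQ).toEquiv, hcardA, hcardQ] at h1
    omega
  have hcos : ∀ x ∈ Q, x ∉ A → ∃ a ∈ A, x = q * a := by
    intro x hx hxA
    have h1 := Subgroup.mul_mem_iff_of_index_two hidx (a := (⟨q, hq⟩ : ↥Q)⁻¹) (b := ⟨x, hx⟩)
    have h2 : ((⟨q, hq⟩ : ↥Q)⁻¹ ∈ A.subgroupOf Q ↔ (⟨x, hx⟩ : ↥Q) ∈ A.subgroupOf Q) := by
      rw [Subgroup.inv_mem_iff]
      simp only [Subgroup.mem_subgroupOf]
      exact ⟨fun h => absurd h hqA, fun h => absurd h hxA⟩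
    have h3 := h1.mpr h2
    rw [Subgroup.mem_subgroupOf] at h3
    have h4 : q⁻¹ * x ∈ A := h3
    exact ⟨q⁻¹ * x, h4, by group⟩
  -- the map `τ`
  have ht_mem : ∀ a ∈ A, q * a * q⁻¹ * a⁻¹ ∈ W := fun a ha => hQA q hq a ha
  have ht_mul : ∀ a ∈ A, ∀ b ∈ A,
      q * (a * b) * q⁻¹ * (a * b)⁻¹ = (q * a * q⁻¹ * a⁻¹) * (q * b * q⁻¹ * b⁻¹) := by
    intro a ha b hb
    have h1 := hcommA _ (hWA (ht_mem b hb)) _ (A.inv_mem ha)
    calc q * (a * b) * q⁻¹ * (a * b)⁻¹ = (q * a * q⁻¹) * ((q * b * q⁻¹ * b⁻¹) * a⁻¹) := by group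
      _ = (q * a * q⁻¹) * (a⁻¹ * (q * b * q⁻¹ * b⁻¹)) := by rw [h1]
      _ = _ := by group
  have ht_W : ∀ w ∈ W, q * w * q⁻¹ * w⁻¹ = 1 := by
    intro w hw
    rw [← hcenW w hw q hq]; group
  have ht_conj : ∀ g : G, ∀ a ∈ A,
      g * (q * a * q⁻¹ * a⁻¹) * g⁻¹ = q * (g * a * g⁻¹) * q⁻¹ * (g * a * g⁻¹)⁻¹ := by
    intro g a ha
    have hgq : g * q * g⁻¹ ∈ Q := hQn.conj_mem q hq g
    have hgqA : g * q * g⁻¹ ∉ A := by
      intro h
      apply hqA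
      have := hAn.conj_mem _ h g⁻¹
      have h2 : g⁻¹ * (g * q * g⁻¹) * g⁻¹⁻¹ = q := by group
      rwa [h2] at this
    obtain ⟨a', ha', hqa'⟩ := hcos _ hgq hgqA
    have hb : g * a * g⁻¹ ∈ A := hAn.conj_mem a ha g
    have h1 := hcommA a' ha' _ hb
    calc g * (q * a * q⁻¹ * a⁻¹) * g⁻¹
        = (g * q * g⁻¹) * (g * a * g⁻¹) * (g * q * g⁻¹)⁻¹ * (g * a * g⁻¹)⁻¹ := by group
      _ = (q * a') * (g * a * g⁻¹) * (q * a')⁻¹ * (g * a * g⁻¹)⁻¹ := by rw [hqa']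
      _ = q * (a' * (g * a * g⁻¹)) * a'⁻¹ * q⁻¹ * (g * a * g⁻¹)⁻¹ := by group
      _ = q * ((g * a * g⁻¹) * a') * a'⁻¹ * q⁻¹ * (g * a * g⁻¹)⁻¹ := by rw [h1]
      _ = _ := by group
  -- lifting elements of `L`
  have hlift : ∀ l : L, ∃ g : G, α (θ g) = l := by
    intro l
    obtain ⟨l', hl'⟩ := α.surjective l
    obtain ⟨g, hg⟩ := hF.surj l'
    exact ⟨g, by rw [hg, hl']⟩
  -- a vector over `e1`
  obtain ⟨a₁, ha₁, hPa₁⟩ := hPs ![1, 0, 0]
  have ht₁ : q * a₁ * q⁻¹ * a₁⁻¹ ∈ W := ht_mem a₁ ha₁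
  obtain ⟨b, hb, hbb⟩ := hsqrt _ ht₁
  -- every `a ∈ A` outside `W` is `w * (g a₁ g⁻¹)`
  have hgen : ∀ a ∈ A, P a ≠ 0 → ∃ g : G, ∃ w ∈ W, a = w * (g * a₁ * g⁻¹) := by
    intro a ha hPa
    obtain ⟨k, hk⟩ := y7_trans (P a) hPa
    obtain ⟨g, hg⟩ := hlift (y7 ^ (k : ℕ))
    have h1 := hPact g a₁ ha₁
    rw [hg, hPa₁, hk] at h1
    have hc : g * a₁ * g⁻¹ ∈ A := hAn.conj_mem a₁ ha₁ g
    have h2 := hPeq a ha _ hc h1.symm
    exact ⟨g, _, h2, by group⟩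
  -- stabiliser of `e1` fixes `P b`
  have hfix : ∀ l : L, (l : Matrix (Fin 3) (Fin 3) (ZMod 2)).mulVec ![1, 0, 0] = ![1, 0, 0] →
      (l : Matrix (Fin 3) (Fin 3) (ZMod 2)).mulVec (P b) = P b := by
    intro l hl
    obtain ⟨g, hg⟩ := hlift l
    have h1 := hPact g a₁ ha₁
    rw [hg, hPa₁, hl, ← hPa₁] at h1
    have hc : g * a₁ * g⁻¹ ∈ A := hAn.conj_mem a₁ ha₁ g
    have hw := hPeq _ hc a₁ ha₁ h1
    -- `g` commutes with `t₁`
    have h2 := ht_conj g a₁ ha₁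
    have h3 : g * a₁ * g⁻¹ = (g * a₁ * g⁻¹ * a₁⁻¹) * a₁ := by group
    have h4 : q * (g * a₁ * g⁻¹) * q⁻¹ * (g * a₁ * g⁻¹)⁻¹ = q * a₁ * q⁻¹ * a₁⁻¹ := by
      rw [h3, ht_mul _ (hWA hw) a₁ ha₁, ht_W _ hw, one_mul]
    rw [h4] at h2
    -- square of `g b g⁻¹`
    have hgb : g * b * g⁻¹ ∈ A := hAn.conj_mem b hb g
    have h5 : (g * b * g⁻¹) * (g * b * g⁻¹) = b * b := by
      calc (g * b * g⁻¹) * (g * b * g⁻¹) = g * (b * b) * g⁻¹ := by group
        _ = b * b := by rw [hbb, h2]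
    have hc2 : g * b * g⁻¹ * b⁻¹ ∈ A := A.mul_mem hgb (A.inv_mem hb)
    have h6 : (g * b * g⁻¹ * b⁻¹) * (g * b * g⁻¹ * b⁻¹) = 1 := by
      have h7 := hcommA _ (A.inv_mem hb) _ hgb
      calc (g * b * g⁻¹ * b⁻¹) * (g * b * g⁻¹ * b⁻¹)
          = (g * b * g⁻¹) * (b⁻¹ * (g * b * g⁻¹)) * b⁻¹ := by group
        _ = (g * b * g⁻¹) * ((g * b * g⁻¹) * b⁻¹) * b⁻¹ := by rw [h7]
        _ = ((g * b * g⁻¹) * (g * b * g⁻¹)) * (b * b)⁻¹ := by group
        _ = 1 := by rw [h5]; group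
    have h8 := hΩ _ hc2 h6
    have h9 : P (g * b * g⁻¹) = P b := by
      have : g * b * g⁻¹ = (g * b * g⁻¹ * b⁻¹) * b := by group
      rw [this]
      exact hPW _ h8 b hb
    have h10 := hPact g b hb
    rw [hg, h9] at h10
    exact h10.symm
  have hP4 : ∀ a ∈ A, (a * a) * (a * a) = 1 := fun a ha => hexpW _ (hsqA a ha)
  rcases fixed_a12_z13 (P b) (hfix a12 a12_e1) (hfix z13 z13_e1) with h0 | h1
  · -- `τ = 1`: `Q` abelian
    left
    have hbW : b ∈ W := (hPker b hb).mp h0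
    have ht1 : q * a₁ * q⁻¹ * a₁⁻¹ = 1 := by rw [← hbb]; exact hexpW b hbW
    have htall : ∀ a ∈ A, q * a * q⁻¹ * a⁻¹ = 1 := by
      intro a ha
      by_cases hPa : P a = 0
      · exact ht_W a ((hPker a ha).mp hPa)
      · obtain ⟨g, w, hw, rfl⟩ := hgen a ha hPa
        have hc : g * a₁ * g⁻¹ ∈ A := hAn.conj_mem a₁ ha₁ g
        rw [ht_mul w (hWA hw) _ hc, ht_W w hw, one_mul, ← ht_conj g a₁ ha₁, ht1]
        group
    have hqa : ∀ a ∈ A, q * a = a * q := by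
      intro a ha
      have := htall a ha
      calc q * a = (q * a * q⁻¹ * a⁻¹) * a * q := by group
        _ = a * q := by rw [this, one_mul]
    have hform : ∀ x ∈ Q, x ∈ A ∨ ∃ a ∈ A, x = q * a := by
      intro x hx
      by_cases hxA : x ∈ A
      · exact Or.inl hxA
      · exact Or.inr (hcos x hx hxA)
    intro x hx y hy
    rcases hform x hx with hxA | ⟨a, ha, rfl⟩
    · rcases hform y hy with hyA | ⟨c, hc, rfl⟩
      · exact hcommA x hxA y hyA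
      · calc x * (q * c) = (x * q) * c := by group
          _ = (q * x) * c := by rw [hqa x hxA]
          _ = q * (x * c) := by group
          _ = q * (c * x) := by rw [hcommA x hxA c hc]
          _ = q * c * x := by group
    · rcases hform y hy with hyA | ⟨c, hc, rfl⟩
      · calc q * a * y = q * (a * y) := by group
          _ = q * (y * a) := by rw [hcommA a ha y hyA]
          _ = (q * y) * a := by group
          _ = (y * q) * a := by rw [hqa y hyA]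
          _ = y * (q * a) := by group
      · calc q * a * (q * c) = q * (a * q) * c := by group
          _ = q * (q * a) * c := by rw [hqa a ha]
          _ = q * q * (a * c) := by group
          _ = q * q * (c * a) := by rw [hcommA a ha c hc]
          _ = q * (q * c) * a := by group
          _ = q * (c * q) * a := by rw [hqa c hc]
          _ = q * c * (q * a) := by group
  · -- `τ = s`: `q` inverts `A`
    right
    refine ⟨q, hq, hqA, ?_⟩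
    have hba : b * a₁⁻¹ ∈ W := hPeq b hb a₁ ha₁ (by rw [h1, hPa₁])
    have hsqW : ∀ w ∈ W, ∀ c ∈ A, (w * c) * (w * c) = c * c := by
      intro w hw c hc
      have h2 := hcommA c hc w (hWA hw)
      calc (w * c) * (w * c) = w * (c * w) * c := by group
        _ = w * (w * c) * c := by rw [h2]
        _ = (w * w) * (c * c) := by group
        _ = c * c := by rw [hexpW w hw, one_mul]
    have ht1 : q * a₁ * q⁻¹ * a₁⁻¹ = a₁ * a₁ := by
      rw [← hbb]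
      have : b = (b * a₁⁻¹) * a₁ := by group
      rw [this]
      exact hsqW _ hba a₁ ha₁
    have htall : ∀ a ∈ A, q * a * q⁻¹ * a⁻¹ = a * a := by
      intro a ha
      by_cases hPa : P a = 0
      · have haW := (hPker a ha).mp hPa
        rw [ht_W a haW, hexpW a haW]
      · obtain ⟨g, w, hw, rfl⟩ := hgen a ha hPa
        have hc : g * a₁ * g⁻¹ ∈ A := hAn.conj_mem a₁ ha₁ g
        rw [ht_mul w (hWA hw) _ hc, ht_W w hw, one_mul, ← ht_conj g a₁ ha₁, ht1, hsqW w hw _ hc]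
        group
    intro a ha
    have h2 := htall a ha
    have h3 := hP4 a ha
    calc q * a * q⁻¹ = (q * a * q⁻¹ * a⁻¹) * a := by group
      _ = (a * a) * a := by rw [h2]
      _ = ((a * a) * (a * a)) * a⁻¹ := by group
      _ = a⁻¹ := by rw [h3, one_mul]

end Cfsg.Agent.Lib.Helper4.GH7
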