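import Mathlib
import Cfsg.Agent.Lib.Helper2.GH7Top
import Cfsg.Agent.Lib.Helper6.GH5R2

/-!
# GH7 = S3105, unit BASE: `Φ(Q) = 1` forces `|Q| = 8` or `16`
-/

set_option autoImplicit false
set_option linter.unusedVariables false
set_option linter.unusedSectionVars false

namespace Cfsg.Agent.Lib.Helper4.GH7

open Cfsg.Agent.Lib.Helper3.A8Emb (sqSub)
open Cfsg.Agent.Lib.Helper2.GH7

universe u

variable {G : Type u} [Group G] [Finite G] {Q : Subgroup G} [Q.Normal] {θ : G →* L}

/-- **BASE** (verbatim). -/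
theorem base_case (hF : Frame Q θ) (hΦ : sqSub Q = ⊥) : Nat.card Q = 8 ∨ Nat.card Q = 16 := by
  have : Fact (Nat.Prime 2) := ⟨Nat.prime_two⟩
  have hsq : ∀ q ∈ Q, q * q = 1 := by
    intro q hq
    have h := Cfsg.Agent.Lib.Helper2.GH5.sq_mem_sqSub Q hq
    rw [hΦ, Subgroup.mem_bot] at h
    exact h
  have hinv : ∀ q ∈ Q, q⁻¹ = q := fun q hq => inv_eq_of_mul_eq_one_left (hsq q hq)
  have hab : ∀ a ∈ Q, ∀ b ∈ Q, a * b = b * a := by
    intro a ha b hb
    have h1 := hsq (a * b) (Q.mul_mem ha hb)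
    calc a * b = ((a * b) * (a * b)) * (a * b)⁻¹ := by group
      _ = (a * b)⁻¹ := by rw [h1, one_mul]
      _ = b⁻¹ * a⁻¹ := by group
      _ = b * a := by rw [hinv a ha, hinv b hb]
  -- upper bound
  have hlt : Nat.card Q < 32 := by
    by_contra hcon
    push Not at hcon
    refine Cfsg.Agent.Lib.Helper6.GH5.false_of_sq_section hF.rank Q ⊥ bot_le ?_ ?_ ?_
    · intro h _ m hm
      rw [Subgroup.mem_bot] at hm
      rw [hm, Subgroup.mem_bot]; group
    · intro h hh
      rw [Subgroup.mem_bot]; exact hsq h hh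
    · rw [Subgroup.card_bot]; omega
  -- lower bound: `G ⧸ Q` embeds into the permutations of `Q`
  let f : G →* Equiv.Perm ↥Q := (MulAut.toPerm ↥Q).comp MulAut.conjNormal
  have hfapp : ∀ (g : G) (h : ↥Q), ((f g h : ↥Q) : G) = g * h * g⁻¹ := by
    intro g h
    exact MulAut.conjNormal_apply g h
  have hker : f.ker = Q := by
    ext g
    rw [MonoidHom.mem_ker]
    constructor
    · intro hg
      apply hF.faithful
      intro a ha
      have h1 : ((f g ⟨a, ha⟩ : ↥Q) : G) = a := by rw [hg]; rfl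
      rw [hfapp] at h1
      have h2 : g * a * g⁻¹ = a := h1
      rw [h2, mul_inv_cancel]; exact one_mem _
    · intro hg
      apply Equiv.ext
      intro h
      apply Subtype.ext
      rw [hfapp]
      show g * (h : G) * g⁻¹ = h
      rw [hab g hg h h.2]; group
  have e1 := Subgroup.card_mul_index f.ker
  have e2 := Subgroup.card_mul_index θ.ker
  rw [Subgroup.index_ker, hker] at e1
  rw [Subgroup.index_ker, hF.ker, MonoidHom.range_eq_top.mpr hF.surj, Subgroup.card_top,
    show Nat.card L = 168 from Cfsg.Agent.Lib.Helper1.Dv.card_SL32] at e2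
  have hQpos : 0 < Nat.card Q := Nat.card_pos
  have hr : Nat.card f.range = 168 := by
    have h1 : Nat.card Q * Nat.card f.range = Nat.card Q * 168 := by rw [e1, e2]
    exact Nat.eq_of_mul_eq_mul_left hQpos h1
  have hle : Nat.card f.range ≤ (Nat.card Q).factorial := by
    rw [← Nat.card_perm]
    exact Subgroup.card_le_card_group _
  rw [hr] at hle
  obtain ⟨k, hk⟩ := IsPGroup.iff_card.mp hF.pgroup
  rw [hk] at hlt hle ⊢
  have hk4 : k ≤ 4 := by
    by_contra h
    push Not at h
    have : 2 ^ 5 ≤ 2 ^ k := Nat.pow_le_pow_right (by norm_num) h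
    omega
  interval_cases k
  · norm_num [Nat.factorial] at hle
  · norm_num [Nat.factorial] at hle
  · norm_num [Nat.factorial] at hle
  · left; norm_num
  · right; norm_num

end Cfsg.Agent.Lib.Helper4.GH7
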