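import Mathlib
import Cfsg.Agent.Lib.Helper2.GH7Top
import Cfsg.Agent.Lib.Helper6.S1233A0
import Cfsg.Agent.Lib.Helper4.GH7A2

/-!
# GH7 = S3105, unit ISO-Q: an abelian group of order 32 whose squares generate a subgroup of
order 2 is `Z4 × E8`
-/

set_option autoImplicit false
set_option linter.unusedVariables false
set_option linter.unusedSectionVars false

namespace Cfsg.Agent.Lib.Helper4.GH7

open Cfsg.Agent.Lib.Helper3.A8Emb (sqSub sqSub_le)

universe u

section split

variable {G : Type u} [Group G]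

theorem pow_mod_two_of_sq {u : G} (huu : u * u = 1) (n : ℕ) : u ^ (n % 2) = u ^ n := by
  conv_rhs => rw [← Nat.mod_add_div n 2]
  rw [pow_add, pow_mul, pow_two, huu, one_pow, mul_one]

theorem mem_zpowers_of_sq {u x : G} (huu : u * u = 1) (hx : x ∈ Subgroup.zpowers u) :
    x = 1 ∨ x = u := by
  obtain ⟨k, rfl⟩ := Subgroup.mem_zpowers_iff.mp hx
  have hk : k = 2 * (k / 2) + k % 2 := (Int.mul_ediv_add_emod k 2).symm
  have hz : u ^ (2 : ℤ) = 1 := by
    have : u ^ (2 : ℕ) = 1 := by rw [pow_two, huu]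
    exact_mod_cast this
  rw [hk, zpow_add, zpow_mul, hz, one_zpow, one_mul]
  rcases Int.emod_two_eq_zero_or_one k with h | h <;> rw [h]
  · left; simp
  · right; simp

/-- splitting off an involution -/
theorem split_step (Q K : Subgroup G) (hcomm : ∀ a ∈ Q, ∀ b ∈ Q, a * b = b * a) (hKQ : K ≤ Q)
    (u : G) (huQ : u ∈ Q) (huK : u ∉ K) (huu : u * u = 1) :
    Nonempty (↥(K ⊔ Subgroup.zpowers u) ≃* ↥K × Multiplicative (ZMod 2)) := by
  have hpwQ : ∀ n : ℕ, u ^ n ∈ Q := fun n => Q.pow_mem huQ n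
  have hpw_add : ∀ a b : ZMod 2, u ^ (a + b).val = u ^ a.val * u ^ b.val := by
    intro a b
    rw [ZMod.val_add, pow_mod_two_of_sq huu, pow_add]
  have hmem : ∀ (k : ↥K) (ε : Multiplicative (ZMod 2)),
      (k : G) * u ^ (Multiplicative.toAdd ε).val ∈ K ⊔ Subgroup.zpowers u := by
    intro k ε
    exact Subgroup.mul_mem_sup k.2 (Subgroup.npow_mem_zpowers u _)
  let f : ↥K × Multiplicative (ZMod 2) →* ↥(K ⊔ Subgroup.zpowers u) :=
    { toFun := fun x => ⟨(x.1 : G) * u ^ (Multiplicative.toAdd x.2).val, hmem x.1 x.2⟩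
      map_one' := by
        apply Subtype.ext
        show ((1 : ↥K) : G) * u ^ (Multiplicative.toAdd (1 : Multiplicative (ZMod 2))).val = 1
        simp
      map_mul' := by
        rintro ⟨k, ε⟩ ⟨k', ε'⟩
        apply Subtype.ext
        show ((k * k' : ↥K) : G) * u ^ (Multiplicative.toAdd (ε * ε')).val
          = ((k : G) * u ^ (Multiplicative.toAdd ε).val) *
            ((k' : G) * u ^ (Multiplicative.toAdd ε').val)
        rw [toAdd_mul, hpw_add, Subgroup.coe_mul]
        have hc := hcomm _ (hpwQ (Multiplicative.toAdd ε).val) _ (hKQ k'.2)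
        calc (k : G) * k' * (u ^ (Multiplicative.toAdd ε).val * u ^ (Multiplicative.toAdd ε').val)
            = (k : G) * ((k' : G) * u ^ (Multiplicative.toAdd ε).val) *
                u ^ (Multiplicative.toAdd ε').val := by group
          _ = (k : G) * (u ^ (Multiplicative.toAdd ε).val * (k' : G)) *
                u ^ (Multiplicative.toAdd ε').val := by rw [hc]
          _ = _ := by group }
  have hfapp : ∀ x : ↥K × Multiplicative (ZMod 2),
      ((f x : ↥(K ⊔ Subgroup.zpowers u)) : G) = (x.1 : G) * u ^ (Multiplicative.toAdd x.2).val :=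
    fun x => rfl
  have hval : ∀ a : ZMod 2, a.val = 0 ∨ a.val = 1 := by
    intro a
    have := ZMod.val_lt a
    omega
  have hinj : Function.Injective f := by
    rw [injective_iff_map_eq_one]
    rintro ⟨k, ε⟩ h
    have h1 : (k : G) * u ^ (Multiplicative.toAdd ε).val = 1 := by
      have h2 := hfapp (k, ε)
      rw [h] at h2
      exact h2.symm
    rcases hval (Multiplicative.toAdd ε) with h0 | h0
    · rw [h0, pow_zero, mul_one] at h1
      have hε : Multiplicative.toAdd ε = 0 := (ZMod.val_eq_zero _).mp h0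
      refine Prod.ext (Subtype.ext h1) ?_
      show ε = 1
      rw [← ofAdd_toAdd ε, hε]; rfl
    · exfalso
      rw [h0, pow_one] at h1
      apply huK
      have : u = (k : G)⁻¹ := by
        calc u = (k : G)⁻¹ * ((k : G) * u) := by group
          _ = (k : G)⁻¹ := by rw [h1, mul_one]
      rw [this]; exact K.inv_mem k.2
  have hsurj : Function.Surjective f := by
    rintro ⟨x, hx⟩
    obtain ⟨a, ha, b, hb, rfl⟩ := Cfsg.Agent.Lib.Helper6.S1233A.exists_mul_of_mem_sup
      (L₁ := K) (L₂ := Subgroup.zpowers u) (by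
        intro x hx y hy
        have hyQ : y ∈ Q := by
          rcases mem_zpowers_of_sq huu hy with h | h
          · rw [h]; exact one_mem _
          · rw [h]; exact huQ
        exact hcomm x (hKQ hx) y hyQ) hx
    rcases mem_zpowers_of_sq huu hb with h | h
    · refine ⟨(⟨a, ha⟩, 1), ?_⟩
      apply Subtype.ext
      show ((f (⟨a, ha⟩, 1) : ↥(K ⊔ Subgroup.zpowers u)) : G) = a * b
      rw [hfapp, h]
      simp
    · refine ⟨(⟨a, ha⟩, Multiplicative.ofAdd 1), ?_⟩
      apply Subtype.ext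
      show ((f (⟨a, ha⟩, Multiplicative.ofAdd 1) : ↥(K ⊔ Subgroup.zpowers u)) : G) = a * b
      rw [hfapp, h]
      show a * u ^ (1 : ZMod 2).val = a * u
      rw [ZMod.val_one, pow_one]
  exact ⟨(MulEquiv.ofBijective f ⟨hinj, hsurj⟩).symm⟩

/-- `(M × M × M) ≃* (Fin 3 → M)` -/
def fin3Equiv (M : Type*) [MulOneClass M] : M × M × M ≃* (Fin 3 → M) where
  toFun := fun x => ![x.1, x.2.1, x.2.2]
  invFun := fun f => (f 0, f 1, f 2)
  left_inv := fun x => rfl
  right_inv := fun f => by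
    funext i
    fin_cases i <;> rfl
  map_mul' := fun x y => by
    funext i
    fin_cases i <;> rfl

end split

variable {G : Type u} [Group G] [Finite G]

/-- **ISO-Q** (verbatim). -/
theorem z4e8_iso (Q : Subgroup G) (hcomm : ∀ a ∈ Q, ∀ b ∈ Q, a * b = b * a)
    (hcard : Nat.card Q = 32) (hΦ : Nat.card (sqSub Q) = 2) :
    Nonempty (↥Q ≃* Multiplicative (ZMod 4) × (Fin 3 → Multiplicative (ZMod 2))) := by
  have hΦ2 := sq_one_of_card_two (sqSub Q) hΦ
  -- an element of order 4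
  have hexc : ∃ c ∈ Q, c * c ≠ 1 := by
    by_contra h
    push Not at h
    have hbot : sqSub Q = ⊥ := by
      rw [eq_bot_iff]
      unfold sqSub
      rw [Subgroup.closure_le]
      rintro y ⟨b, hb, rfl⟩
      rw [SetLike.mem_coe, Subgroup.mem_bot, pow_two]
      exact h b hb
    rw [hbot, Subgroup.card_bot] at hΦ
    omega
  obtain ⟨c, hcQ, hcc⟩ := hexc
  have hccΦ : c * c ∈ sqSub Q := Cfsg.Agent.Lib.Helper2.GH5.sq_mem_sqSub Q hcQ
  have hc4 : (c * c) * (c * c) = 1 := hΦ2 _ hccΦ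
  -- every square is `1` or `c * c`
  obtain ⟨n, hn, hnu⟩ := (Nat.card_eq_two_iff' (1 : ↥(sqSub Q))).mp hΦ
  have hsq : ∀ q ∈ Q, q * q = 1 ∨ q * q = c * c := by
    intro q hq
    by_cases h1 : q * q = 1
    · left; exact h1
    · right
      have e1 : (⟨q * q, Cfsg.Agent.Lib.Helper2.GH5.sq_mem_sqSub Q hq⟩ : ↥(sqSub Q)) = n :=
        hnu _ (fun h => h1 (congrArg Subtype.val h))
      have e2 : (⟨c * c, hccΦ⟩ : ↥(sqSub Q)) = n := hnu _ (fun h => hcc (congrArg Subtype.val h))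
      exact congrArg Subtype.val (e1.trans e2.symm)
  -- involutions outside a proper subgroup containing `c`
  have hexu : ∀ K : Subgroup G, K ≤ Q → c ∈ K → Nat.card K < 32 →
      ∃ u ∈ Q, u ∉ K ∧ u * u = 1 := by
    intro K hKQ hcK hK
    have hex : ∃ q ∈ Q, q ∉ K := by
      by_contra h
      push Not at h
      have hle : Q ≤ K := fun x hx => h x hx
      have := Subgroup.card_le_of_le hle
      omega
    obtain ⟨q, hq, hqK⟩ := hex
    rcases hsq q hq with h | h
    · exact ⟨q, hq, hqK, h⟩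
    · refine ⟨q * c⁻¹, Q.mul_mem hq (Q.inv_mem hcQ), ?_, ?_⟩
      · intro hmem
        apply hqK
        have : q = (q * c⁻¹) * c := by group
        rw [this]; exact K.mul_mem hmem hcK
      · have hc1 := hcomm c⁻¹ (Q.inv_mem hcQ) q hq
        calc q * c⁻¹ * (q * c⁻¹) = q * (c⁻¹ * q) * c⁻¹ := by group
          _ = q * (q * c⁻¹) * c⁻¹ := by rw [hc1]
          _ = (q * q) * (c * c)⁻¹ := by group
          _ = 1 := by rw [h, mul_inv_cancel]
  -- the chain
  have : Fact (Nat.Prime 2) := ⟨Nat.prime_two⟩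
  have hord : orderOf c = 4 := by
    have h := orderOf_eq_prime_pow (x := c) (n := 1) (p := 2)
      (by rw [pow_one, pow_two]; exact hcc)
      (by
        show c ^ 2 ^ (1 + 1) = 1
        rw [show (2 : ℕ) ^ (1 + 1) = 4 by norm_num]
        have : c ^ 4 = (c * c) * (c * c) := by simp [pow_succ, mul_assoc]
        rw [this, hc4])
    simpa using h
  have hK0card : Nat.card (Subgroup.zpowers c) = 4 := by rw [Nat.card_zpowers, hord]
  have hK0Q : Subgroup.zpowers c ≤ Q := by rw [Subgroup.zpowers_le]; exact hcQ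
  obtain ⟨u₁, hu₁Q, hu₁K, hu₁u⟩ := hexu (Subgroup.zpowers c) hK0Q (Subgroup.mem_zpowers c)
    (by rw [hK0card]; norm_num)
  obtain ⟨e₁⟩ := split_step Q (Subgroup.zpowers c) hcomm hK0Q u₁ hu₁Q hu₁K hu₁u
  have hK1card : Nat.card ↥(Subgroup.zpowers c ⊔ Subgroup.zpowers u₁) = 8 := by
    rw [Nat.card_congr e₁.toEquiv, Nat.card_prod, hK0card, Nat.card_eq_fintype_card,
      Fintype.card_multiplicative, ZMod.card]
  have hu₁zQ : Subgroup.zpowers u₁ ≤ Q := by rw [Subgroup.zpowers_le]; exact hu₁Q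
  have hK1Q : Subgroup.zpowers c ⊔ Subgroup.zpowers u₁ ≤ Q := sup_le hK0Q hu₁zQ
  obtain ⟨u₂, hu₂Q, hu₂K, hu₂u⟩ := hexu _ hK1Q
    (Subgroup.mem_sup_left (Subgroup.mem_zpowers c)) (by rw [hK1card]; norm_num)
  obtain ⟨e₂⟩ := split_step Q _ hcomm hK1Q u₂ hu₂Q hu₂K hu₂u
  have hK2card : Nat.card ↥(Subgroup.zpowers c ⊔ Subgroup.zpowers u₁ ⊔ Subgroup.zpowers u₂) = 16 := by
    rw [Nat.card_congr e₂.toEquiv, Nat.card_prod, hK1card, Nat.card_eq_fintype_card,
      Fintype.card_multiplicative, ZMod.card]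
  have hu₂zQ : Subgroup.zpowers u₂ ≤ Q := by rw [Subgroup.zpowers_le]; exact hu₂Q
  have hK2Q : Subgroup.zpowers c ⊔ Subgroup.zpowers u₁ ⊔ Subgroup.zpowers u₂ ≤ Q :=
    sup_le hK1Q hu₂zQ
  obtain ⟨u₃, hu₃Q, hu₃K, hu₃u⟩ := hexu _ hK2Q
    (Subgroup.mem_sup_left (Subgroup.mem_sup_left (Subgroup.mem_zpowers c)))
    (by rw [hK2card]; norm_num)
  obtain ⟨e₃⟩ := split_step Q _ hcomm hK2Q u₃ hu₃Q hu₃K hu₃u
  have hK3card : Nat.card ↥(Subgroup.zpowers c ⊔ Subgroup.zpowers u₁ ⊔ Subgroup.zpowers u₂ ⊔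
      Subgroup.zpowers u₃) = 32 := by
    rw [Nat.card_congr e₃.toEquiv, Nat.card_prod, hK2card, Nat.card_eq_fintype_card,
      Fintype.card_multiplicative, ZMod.card]
  have hu₃zQ : Subgroup.zpowers u₃ ≤ Q := by rw [Subgroup.zpowers_le]; exact hu₃Q
  have hK3Q : Subgroup.zpowers c ⊔ Subgroup.zpowers u₁ ⊔ Subgroup.zpowers u₂ ⊔
      Subgroup.zpowers u₃ ≤ Q := sup_le hK2Q hu₃zQ
  have hK3eq : Subgroup.zpowers c ⊔ Subgroup.zpowers u₁ ⊔ Subgroup.zpowers u₂ ⊔
      Subgroup.zpowers u₃ = Q :=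
    Subgroup.eq_of_le_of_card_ge hK3Q (by rw [hK3card, hcard])
  -- the cyclic factor
  let e₀ : ↥(Subgroup.zpowers c) ≃* Multiplicative (ZMod 4) :=
    (zmodCyclicMulEquiv (Subgroup.isCyclic_zpowers c)).symm.trans
      (AddEquiv.toMultiplicative (ZMod.ringEquivCongr hK0card).toAddEquiv)
  -- assemble
  let E1 : ↥Q ≃* ((↥(Subgroup.zpowers c) × Multiplicative (ZMod 2)) × Multiplicative (ZMod 2)) ×
      Multiplicative (ZMod 2) :=
    (MulEquiv.subgroupCongr hK3eq).symm.trans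
      (e₃.trans (MulEquiv.prodCongr (e₂.trans (MulEquiv.prodCongr e₁ (MulEquiv.refl _)))
        (MulEquiv.refl _)))
  let E2 : ((↥(Subgroup.zpowers c) × Multiplicative (ZMod 2)) × Multiplicative (ZMod 2)) ×
      Multiplicative (ZMod 2) ≃*
      ↥(Subgroup.zpowers c) × (Multiplicative (ZMod 2) × Multiplicative (ZMod 2) ×
        Multiplicative (ZMod 2)) :=
    (MulEquiv.prodAssoc).trans (MulEquiv.prodAssoc)
  exact ⟨E1.trans (E2.trans (MulEquiv.prodCongr e₀ (fin3Equiv (Multiplicative (ZMod 2)))))⟩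

end Cfsg.Agent.Lib.Helper4.GH7
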