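import Mathlib
import Cfsg.Agent.Lib.Helper2.GLkDefs

/-! S2478 piece PE (helper2 farm): normalised primary decomposition of the `F[X]`-module of an invertible
matrix. -/

set_option autoImplicit false
set_option maxHeartbeats 4000000
set_option linter.unusedVariables false
set_option linter.unusedSectionVars false
set_option linter.style.longLine false

namespace Cfsg.Agent.Lib.Helper2.GLk

open Polynomial

universe u

variable {F : Type u} [Field F]

/-- dropping trivial factors of a product -/
def h4_dropEquiv {ι : Type*} {R : Type*} [Semiring R] (M : ι → Type*) [∀ i, AddCommMonoid (M i)]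
    [∀ i, Module R (M i)] (P : ι → Prop) [DecidablePred P] (h : ∀ i, ¬ P i → Subsingleton (M i)) :
    (∀ i, M i) ≃ₗ[R] (∀ i : {i // P i}, M i.1) where
  toFun f i := f i.1
  map_add' _ _ := rfl
  map_smul' _ _ := rfl
  invFun g i := if hi : P i then g ⟨i, hi⟩ else 0
  left_inv f := by
    funext i
    by_cases hi : P i
    · simp [hi]
    · have := h i hi
      exact Subsingleton.elim _ _
  right_inv g := by
    funext ⟨i, hi⟩
    simp [hi]

/-- `X` acts injectively on the module of an invertible matrix -/
theorem h4_X_smul_injective {n : ℕ} (A : GL (Fin n) F)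
    (v : Mod (A : Matrix (Fin n) (Fin n) F)) (hv : (X : F[X]) • v = 0) : v = 0 := by
  obtain ⟨w, rfl⟩ := (Module.AEval'.of (Matrix.toLin' (A : Matrix (Fin n) (Fin n) F))).surjective v
  rw [Module.AEval'.X_smul_of, Matrix.toLin'_apply] at hv
  have h1 : (A : Matrix (Fin n) (Fin n) F).mulVec w = 0 := by
    have := (Module.AEval'.of (Matrix.toLin' (A : Matrix (Fin n) (Fin n) F))).injective
      (hv.trans (map_zero _).symm)
    exact this
  have h2 : ((A⁻¹ : GL (Fin n) F) : Matrix (Fin n) (Fin n) F).mulVec
      ((A : Matrix (Fin n) (Fin n) F).mulVec w) = w := by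
    rw [Matrix.mulVec_mulVec, ← Matrix.GeneralLinearGroup.coe_mul, inv_mul_cancel]
    simp
  rw [h1, Matrix.mulVec_zero] at h2
  rw [← h2, map_zero]

/-! ### PE (GLkDecomp): primary decomposition, normalised -/

theorem exists_decomp {n : ℕ} (A : GL (Fin n) F) :
    ∃ (k : ℕ) (p : Fin k → F[X]) (e : Fin k → ℕ),
      (∀ i, (p i).Monic ∧ Irreducible (p i) ∧ (p i).coeff 0 ≠ 0 ∧ 1 ≤ e i) ∧
      (∑ i, e i * (p i).natDegree = n) ∧
      Nonempty (Mod (A : Matrix (Fin n) (Fin n) F) ≃ₗ[F[X]]
        DirectSum (Fin k) (fun i => F[X] ⧸ Submodule.span F[X] {p i ^ e i})) := by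
  classical
  have htors : Module.IsTorsion F[X] (Mod (A : Matrix (Fin n) (Fin n) F)) :=
    Module.AEval.isTorsion_of_finiteDimensional F (Fin n → F) _
  obtain ⟨ι, _, p, hp, e, ⟨E⟩⟩ := Module.equiv_directSum_of_isTorsion htors
  -- Pi form
  let E1 : Mod (A : Matrix (Fin n) (Fin n) F) ≃ₗ[F[X]]
      (∀ i : ι, F[X] ⧸ Submodule.span F[X] {p i ^ e i}) :=
    E.trans (DirectSum.linearEquivFunOnFintype F[X] ι _)
  -- monic associates
  have hp0 : ∀ i, p i ≠ 0 := fun i => (hp i).ne_zero
  have hass : ∀ i, Associated (normalize (p i)) (p i) := fun i => normalize_associated (p i)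
  have hspan : ∀ i, Submodule.span F[X] {p i ^ e i} = Submodule.span F[X] {normalize (p i) ^ e i} := by
    intro i
    exact (Ideal.span_singleton_eq_span_singleton.2 ((hass i).symm.pow_pow))
  let E2 : Mod (A : Matrix (Fin n) (Fin n) F) ≃ₗ[F[X]]
      (∀ i : ι, F[X] ⧸ Submodule.span F[X] {normalize (p i) ^ e i}) :=
    E1.trans (LinearEquiv.piCongrRight (fun i => Submodule.quotEquivOfEq _ _ (hspan i)))
  -- drop the trivial factors
  have hsub : ∀ i, ¬ (e i ≠ 0) →
      Subsingleton (F[X] ⧸ Submodule.span F[X] {normalize (p i) ^ e i}) := by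
    intro i hi
    push Not at hi
    rw [hi, pow_zero, Submodule.Quotient.subsingleton_iff]
    exact Ideal.span_singleton_one
  let E3 := E2.trans (h4_dropEquiv (R := F[X])
    (fun i : ι => F[X] ⧸ Submodule.span F[X] {normalize (p i) ^ e i}) (fun i => e i ≠ 0) hsub)
  -- reindex by `Fin k`
  let σ := Fintype.equivFin {i : ι // e i ≠ 0}
  let E4 := E3.trans (LinearEquiv.piCongrLeft' F[X]
    (fun i : {i : ι // e i ≠ 0} => F[X] ⧸ Submodule.span F[X] {normalize (p i.1) ^ e i.1}) σ)
  refine ⟨Fintype.card {i : ι // e i ≠ 0}, fun j => normalize (p (σ.symm j).1),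
    fun j => e (σ.symm j).1, ?_, ?_, ⟨E4.trans (DirectSum.linearEquivFunOnFintype F[X] _ _).symm⟩⟩
  · intro j
    have hmon : (normalize (p (σ.symm j).1)).Monic := Polynomial.monic_normalize (hp0 _)
    have hirr : Irreducible (normalize (p (σ.symm j).1)) := (hass _).symm.irreducible (hp _)
    have he1 : 1 ≤ e (σ.symm j).1 := Nat.one_le_iff_ne_zero.2 (σ.symm j).2
    refine ⟨hmon, hirr, ?_, he1⟩
    -- the constant term
    intro hc0
    obtain ⟨r, hr⟩ := (Polynomial.X_dvd_iff.2 hc0)
    set P := normalize (p (σ.symm j).1) with hP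
    obtain ⟨m, hm⟩ : ∃ m : ℕ, e (σ.symm j).1 = m + 1 := ⟨e (σ.symm j).1 - 1, by omega⟩
    have hr0 : r ≠ 0 := by
      intro h
      rw [h, mul_zero] at hr
      exact hirr.ne_zero hr
    -- the element `y = r P^m` of the `j`-th factor is killed by `X`
    let y : F[X] ⧸ Submodule.span F[X] {P ^ e (σ.symm j).1} :=
      Submodule.Quotient.mk (r * P ^ m)
    have hXy : (X : F[X]) • y = 0 := by
      show (X : F[X]) • (Submodule.Quotient.mk (r * P ^ m) :
        F[X] ⧸ Submodule.span F[X] {P ^ e (σ.symm j).1}) = 0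
      rw [← Submodule.Quotient.mk_smul, Submodule.Quotient.mk_eq_zero, Submodule.mem_span_singleton]
      refine ⟨1, ?_⟩
      rw [hm, smul_eq_mul, smul_eq_mul, one_mul, pow_succ, ← mul_assoc, ← hr, mul_comm]
    have hy0 : y ≠ 0 := by
      intro h
      have h1 : r * P ^ m ∈ Submodule.span F[X] {P ^ e (σ.symm j).1} :=
        (Submodule.Quotient.mk_eq_zero _).1 h
      rw [Submodule.mem_span_singleton] at h1
      obtain ⟨c, hc⟩ := h1
      rw [hm, smul_eq_mul, pow_succ] at hc
      have hPm : P ^ m ≠ 0 := pow_ne_zero _ hirr.ne_zero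
      have h2 : c * P = r := by
        apply mul_right_cancel₀ hPm
        rw [← hc]; ring
      have h3 : P ∣ r := ⟨c, by rw [← h2, mul_comm]⟩
      have h4 : r.natDegree < P.natDegree := by
        have hr' : P = X * r := hr
        rw [hr', Polynomial.natDegree_X_mul hr0]
        omega
      exact hr0 (Polynomial.eq_zero_of_dvd_of_natDegree_lt h3 h4)
    -- pull back to the module of `A`
    let g : ∀ j' : Fin (Fintype.card {i : ι // e i ≠ 0}),
        F[X] ⧸ Submodule.span F[X] {normalize (p (σ.symm j').1) ^ e (σ.symm j').1} :=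
      Pi.single j y
    have hXg : (X : F[X]) • g = 0 := by
      funext j'
      by_cases hj : j' = j
      · subst hj
        simp only [Pi.smul_apply, Pi.zero_apply, g, Pi.single_eq_same]
        exact hXy
      · simp only [Pi.smul_apply, Pi.zero_apply, g, Pi.single_eq_of_ne hj, smul_zero]
    have h5 : (X : F[X]) • E4.symm g = 0 := by
      rw [← map_smul, hXg, map_zero]
    have h6 := h4_X_smul_injective A _ h5
    have h7 : g = 0 := by
      have := congrArg E4 h6
      rwa [LinearEquiv.apply_symm_apply, map_zero] at this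
    have h8 : g j = 0 := by rw [h7]; rfl
    simp only [g, Pi.single_eq_same] at h8
    exact hy0 h8
  · -- the dimension count
    have hfr1 : Module.finrank F (Mod (A : Matrix (Fin n) (Fin n) F)) = n := by
      have := (Module.AEval'.of (Matrix.toLin' (A : Matrix (Fin n) (Fin n) F))).finrank_eq
      rw [← this, Module.finrank_fin_fun]
    have hfr2 : Module.finrank F (∀ j : Fin (Fintype.card {i : ι // e i ≠ 0}),
        F[X] ⧸ Submodule.span F[X] {normalize (p (σ.symm j).1) ^ e (σ.symm j).1}) = n := by
      rw [← hfr1]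
      exact (E4.restrictScalars F).finrank_eq.symm
    have : ∀ j : Fin (Fintype.card {i : ι // e i ≠ 0}), Module.Finite F
        (F[X] ⧸ Submodule.span F[X] {normalize (p (σ.symm j).1) ^ e (σ.symm j).1}) := by
      intro j
      have hne : normalize (p (σ.symm j).1) ^ e (σ.symm j).1 ≠ 0 :=
        pow_ne_zero _ ((hass _).symm.irreducible (hp _)).ne_zero
      apply Module.finite_of_finrank_pos
      have := finrank_quotient_span_eq_natDegree (f := normalize (p (σ.symm j).1) ^ e (σ.symm j).1)
      have hdeg : 0 < (normalize (p (σ.symm j).1) ^ e (σ.symm j).1).natDegree := by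
        rw [Polynomial.natDegree_pow]
        have h1 : 0 < (normalize (p (σ.symm j).1)).natDegree :=
          ((hass _).symm.irreducible (hp _)).natDegree_pos
        have h2 : 0 < e (σ.symm j).1 := Nat.pos_of_ne_zero (σ.symm j).2
        exact Nat.mul_pos h2 h1
      rw [← this] at hdeg
      exact hdeg
    rw [Module.finrank_pi_fintype] at hfr2
    rw [← hfr2]
    refine Finset.sum_congr rfl (fun j _ => ?_)
    have := finrank_quotient_span_eq_natDegree (f := normalize (p (σ.symm j).1) ^ e (σ.symm j).1)
    rw [Polynomial.natDegree_pow] at this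
    exact this.symm

end Cfsg.Agent.Lib.Helper2.GLk
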