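import Mathlib

/-!
# Farm HD (S1235): interface-independent cores (helper4).

* `card_le_sq_fixed`: an automorphism of order at most two of an elementary abelian 2-group `Z`
  (induced by conjugation with `g`) has at least `√|Z|` fixed points.
* `exists_ne_one_of_card_lt`: two subgroups `B, C ≤ Z` with `|Z| < |B| |C|` meet nontrivially.
* `exists_fixed_in_B`: if moreover `|Z| < |B|²` then `g` centralizes a nonidentity element of `B`.
* `card_le_of_cyclic_index`: if `T` has a cyclic subgroup of index at most `k`, `M ≤ R ≤ T` and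
  all squares of `R` lie in `M`, then `|R| ≤ 2 k |M|`.
-/

set_option autoImplicit false
set_option linter.unusedVariables false

namespace Cfsg.Agent.Lib.Helper4.HDCore2

/-- pigeonhole for subgroups: `B, C ≤ Z`, `|Z| < |B| |C|` forces `B ∩ C ≠ 1`. -/
theorem exists_ne_one_of_card_lt {G : Type*} [Group G] [Finite G] (Z B C : Subgroup G)
    (hBZ : B ≤ Z) (hCZ : C ≤ Z) (hlt : Nat.card ↥Z < Nat.card ↥B * Nat.card ↥C) :
    ∃ b, b ∈ B ∧ b ∈ C ∧ b ≠ 1 := by
  by_contra hcon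
  have htriv : ∀ b, b ∈ B → b ∈ C → b = 1 := by
    intro b hb hc
    by_contra hb1
    exact hcon ⟨b, hb, hc, hb1⟩
  let f : ↥B × ↥C → ↥Z := fun x => ⟨x.1.1 * x.2.1, Z.mul_mem (hBZ x.1.2) (hCZ x.2.2)⟩
  have hf : Function.Injective f := by
    rintro ⟨⟨b, hb⟩, ⟨c, hc⟩⟩ ⟨⟨b', hb'⟩, ⟨c', hc'⟩⟩ h
    have h1 : b * c = b' * c' := congrArg Subtype.val h
    have h2 : b'⁻¹ * b = c' * c⁻¹ := by
      calc b'⁻¹ * b = b'⁻¹ * (b * c) * c⁻¹ := by group
        _ = b'⁻¹ * (b' * c') * c⁻¹ := by rw [h1]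
        _ = c' * c⁻¹ := by group
    have h3 : b'⁻¹ * b = 1 :=
      htriv _ (B.mul_mem (B.inv_mem hb') hb) (h2 ▸ C.mul_mem hc' (C.inv_mem hc))
    have h4 : b = b' := by
      have := eq_of_inv_mul_eq_one h3
      exact this.symm
    subst h4
    have h5 : c = c' := mul_left_cancel h1
    subst h5
    rfl
  have hle := Nat.card_le_card_of_injective f hf
  rw [Nat.card_prod] at hle
  omega

/-- an automorphism of order at most 2 of an elementary abelian 2-group `Z` has at least `√|Z|`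
fixed points. -/
theorem card_le_sq_fixed {G : Type*} [Group G] [Finite G] (Z : Subgroup G)
    (hc : ∀ a ∈ Z, ∀ b ∈ Z, a * b = b * a) (h2 : ∀ a ∈ Z, a ^ 2 = 1) (g : G)
    (hg : ∀ z ∈ Z, g * z * g⁻¹ ∈ Z) (hgg : ∀ z ∈ Z, g * (g * z * g⁻¹) * g⁻¹ = z) :
    Nat.card ↥Z ≤ Nat.card ↥(Z ⊓ Subgroup.centralizer ({g} : Set G)) ^ 2 := by
  classical
  have hinv : ∀ a ∈ Z, a⁻¹ = a := by
    intro a ha
    have h1 := h2 a ha
    rw [sq] at h1
    exact inv_eq_of_mul_eq_one_left h1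
  let φ : ↥Z →* ↥Z := MonoidHom.mk'
    (fun z => ⟨z.1 * (g * z.1 * g⁻¹), Z.mul_mem z.2 (hg z.1 z.2)⟩) (by
      intro a b
      apply Subtype.ext
      show (a.1 * b.1) * (g * (a.1 * b.1) * g⁻¹) =
        (a.1 * (g * a.1 * g⁻¹)) * (b.1 * (g * b.1 * g⁻¹))
      have e2 := hc b.1 b.2 (g * a.1 * g⁻¹) (hg a.1 a.2)
      calc (a.1 * b.1) * (g * (a.1 * b.1) * g⁻¹)
          = a.1 * (b.1 * (g * a.1 * g⁻¹)) * (g * b.1 * g⁻¹) := by group
        _ = a.1 * ((g * a.1 * g⁻¹) * b.1) * (g * b.1 * g⁻¹) := by rw [e2]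
        _ = (a.1 * (g * a.1 * g⁻¹)) * (b.1 * (g * b.1 * g⁻¹)) := by group)
  have hφ : ∀ z : ↥Z, ((φ z : ↥Z) : G) = z.1 * (g * z.1 * g⁻¹) := fun z => rfl
  have hfixmem : ∀ z : G, z ∈ Z → g * z * g⁻¹ = z →
      z ∈ Z ⊓ Subgroup.centralizer ({g} : Set G) := by
    intro z hz hzg
    refine Subgroup.mem_inf.mpr ⟨hz, ?_⟩
    rw [Subgroup.mem_centralizer_iff]
    intro h hh
    rw [Set.mem_singleton_iff] at hh
    subst hh
    calc h * z = h * z * h⁻¹ * h := by group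
      _ = z * h := by rw [hzg]
  -- kernel elements are fixed
  have hker : ∀ z : ↥Z, z ∈ φ.ker → (z : G) ∈ Z ⊓ Subgroup.centralizer ({g} : Set G) := by
    intro z hz
    rw [MonoidHom.mem_ker] at hz
    have h1 : z.1 * (g * z.1 * g⁻¹) = 1 := by
      rw [← hφ, hz]
      rfl
    apply hfixmem z.1 z.2
    have h3 : g * z.1 * g⁻¹ = z.1⁻¹ := (inv_eq_of_mul_eq_one_right h1).symm
    rw [h3, hinv z.1 z.2]
  -- image elements are fixed
  have hran : ∀ z : ↥Z, z ∈ φ.range → (z : G) ∈ Z ⊓ Subgroup.centralizer ({g} : Set G) := by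
    rintro z ⟨w, rfl⟩
    apply hfixmem _ (φ w).2
    rw [hφ]
    have e1 : g * (w.1 * (g * w.1 * g⁻¹)) * g⁻¹ = (g * w.1 * g⁻¹) * (g * (g * w.1 * g⁻¹) * g⁻¹) := by
      group
    rw [e1, hgg w.1 w.2]
    exact hc _ (hg w.1 w.2) _ w.2
  have hcard : Nat.card ↥Z = Nat.card ↥φ.range * Nat.card ↥φ.ker := by
    rw [Subgroup.card_eq_card_quotient_mul_card_subgroup φ.ker]
    congr 1
    exact Nat.card_congr (QuotientGroup.quotientKerEquivRange φ).toEquiv
  have hk : Nat.card ↥φ.ker ≤ Nat.card ↥(Z ⊓ Subgroup.centralizer ({g} : Set G)) := by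
    apply Nat.card_le_card_of_injective
      (fun z : ↥φ.ker => (⟨(z.1 : G), hker z.1 z.2⟩ : ↥(Z ⊓ Subgroup.centralizer ({g} : Set G))))
    intro a b hab
    have h0 := congrArg Subtype.val hab
    have h1 : ((a.1 : ↥Z) : G) = ((b.1 : ↥Z) : G) := h0
    exact Subtype.ext (Subtype.ext h1)
  have hr : Nat.card ↥φ.range ≤ Nat.card ↥(Z ⊓ Subgroup.centralizer ({g} : Set G)) := by
    apply Nat.card_le_card_of_injective
      (fun z : ↥φ.range => (⟨(z.1 : G), hran z.1 z.2⟩ : ↥(Z ⊓ Subgroup.centralizer ({g} : Set G))))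
    intro a b hab
    have h0 := congrArg Subtype.val hab
    have h1 : ((a.1 : ↥Z) : G) = ((b.1 : ↥Z) : G) := h0
    exact Subtype.ext (Subtype.ext h1)
  rw [hcard, sq]
  exact Nat.mul_le_mul hr hk

/-- if moreover `B ≤ Z` with `|Z| < |B|²`, then `g` centralizes a nonidentity element of `B`. -/
theorem exists_fixed_in_B {G : Type*} [Group G] [Finite G] (Z : Subgroup G)
    (hc : ∀ a ∈ Z, ∀ b ∈ Z, a * b = b * a) (h2 : ∀ a ∈ Z, a ^ 2 = 1) (g : G)
    (hg : ∀ z ∈ Z, g * z * g⁻¹ ∈ Z) (hgg : ∀ z ∈ Z, g * (g * z * g⁻¹) * g⁻¹ = z)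
    (B : Subgroup G) (hBZ : B ≤ Z) (hB : Nat.card ↥Z < Nat.card ↥B ^ 2) :
    ∃ b ∈ B, b ≠ 1 ∧ g * b = b * g := by
  have h1 := card_le_sq_fixed Z hc h2 g hg hgg
  have hlt : Nat.card ↥Z <
      Nat.card ↥B * Nat.card ↥(Z ⊓ Subgroup.centralizer ({g} : Set G)) := by
    rcases le_or_gt (Nat.card ↥B) (Nat.card ↥(Z ⊓ Subgroup.centralizer ({g} : Set G))) with h | h
    · calc Nat.card ↥Z < Nat.card ↥B ^ 2 := hB
        _ = Nat.card ↥B * Nat.card ↥B := sq _
        _ ≤ Nat.card ↥B * Nat.card ↥(Z ⊓ Subgroup.centralizer ({g} : Set G)) :=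
          Nat.mul_le_mul_left _ h
    · have hpos : 0 < Nat.card ↥(Z ⊓ Subgroup.centralizer ({g} : Set G)) := Nat.card_pos
      calc Nat.card ↥Z ≤ Nat.card ↥(Z ⊓ Subgroup.centralizer ({g} : Set G)) ^ 2 := h1
        _ = Nat.card ↥(Z ⊓ Subgroup.centralizer ({g} : Set G)) *
            Nat.card ↥(Z ⊓ Subgroup.centralizer ({g} : Set G)) := sq _
        _ < Nat.card ↥B * Nat.card ↥(Z ⊓ Subgroup.centralizer ({g} : Set G)) :=
          Nat.mul_lt_mul_of_pos_right h hpos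
  obtain ⟨b, hbB, hbC, hb1⟩ :=
    exists_ne_one_of_card_lt Z B (Z ⊓ Subgroup.centralizer ({g} : Set G)) hBZ inf_le_left hlt
  refine ⟨b, hbB, hb1, ?_⟩
  have h3 := Subgroup.mem_centralizer_iff.mp hbC.2 g (Set.mem_singleton g)
  exact h3

/-- `T` has a cyclic subgroup `C` of index at most `k`; `M ≤ R ≤ T` with all squares of `R` in
`M`: then `|R| ≤ 2 k |M|`. -/
theorem card_le_of_cyclic_index {G : Type*} [Group G] [Finite G] (T C R M : Subgroup G)
    (hCT : C ≤ T) (hC : IsCyclic ↥C) (k : ℕ) (hidx : Nat.card ↥T ≤ k * Nat.card ↥C)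
    (hRT : R ≤ T) (hMR : M ≤ R) (hsq : ∀ r ∈ R, r ^ 2 ∈ M) :
    Nat.card ↥R ≤ 2 * k * Nat.card ↥M := by
  -- step 1: |R| ≤ k |C ⊓ R|
  have hcardsub : ∀ K : Subgroup G, Nat.card ↥(C.subgroupOf K) = Nat.card ↥(C ⊓ K) := by
    intro K
    rw [← Subgroup.inf_subgroupOf_right C K]
    exact Nat.card_congr (Subgroup.subgroupOfEquivOfLe (inf_le_right : C ⊓ K ≤ K)).toEquiv
  have hR : Nat.card ↥R = Nat.card ↥(C ⊓ R) * C.relIndex R := by
    rw [← hcardsub R]
    exact ((C.subgroupOf R).card_mul_index).symm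
  have hT : Nat.card ↥T = Nat.card ↥C * C.relIndex T := by
    have h1 : Nat.card ↥T = Nat.card ↥(C ⊓ T) * C.relIndex T := by
      rw [← hcardsub T]
      exact ((C.subgroupOf T).card_mul_index).symm
    rw [inf_eq_left.mpr hCT] at h1
    exact h1
  have hCpos : 0 < Nat.card ↥C := Nat.card_pos
  have hrelT : C.relIndex T ≤ k := by
    rw [hT, mul_comm k] at hidx
    exact Nat.le_of_mul_le_mul_left hidx hCpos
  have hne : C.relIndex T ≠ 0 := by
    intro h0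
    rw [h0, mul_zero] at hT
    have : 0 < Nat.card ↥T := Nat.card_pos
    omega
  have hrelR : C.relIndex R ≤ C.relIndex T := Subgroup.relIndex_le_of_le_right hRT hne
  have step1 : Nat.card ↥R ≤ k * Nat.card ↥(C ⊓ R) := by
    rw [hR, mul_comm]
    exact Nat.mul_le_mul_right _ (hrelR.trans hrelT)
  -- step 2: |C ⊓ R| ≤ 2 |M|
  have hK : IsCyclic ↥(C ⊓ R) := Subgroup.isCyclic_of_le (inf_le_left : C ⊓ R ≤ C)
  obtain ⟨c, hc⟩ := hK.exists_generator
  have hord : orderOf c = Nat.card ↥(C ⊓ R) := orderOf_eq_card_of_forall_mem_zpowers hc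
  have hord' : orderOf (c : G) = Nat.card ↥(C ⊓ R) := by
    rw [← hord, Subgroup.orderOf_coe]
  have hc2M : (c : G) ^ 2 ∈ M := hsq _ c.2.2
  have hle : Subgroup.zpowers ((c : G) ^ 2) ≤ M := by
    rw [Subgroup.zpowers_le]
    exact hc2M
  have h2 : orderOf ((c : G) ^ 2) ≤ Nat.card ↥M := by
    rw [← Nat.card_zpowers]
    exact Nat.card_le_card_of_injective (Subgroup.inclusion hle) (Subgroup.inclusion_injective hle)
  have h3 : orderOf (c : G) ≤ 2 * orderOf ((c : G) ^ 2) := by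
    rw [orderOf_pow' (c : G) (two_ne_zero)]
    have hd := Nat.gcd_dvd_left (orderOf (c : G)) 2
    have hg2 : Nat.gcd (orderOf (c : G)) 2 ≤ 2 := Nat.gcd_le_right _ (by norm_num)
    calc orderOf (c : G) = orderOf (c : G) / Nat.gcd (orderOf (c : G)) 2 *
          Nat.gcd (orderOf (c : G)) 2 := (Nat.div_mul_cancel hd).symm
      _ ≤ orderOf (c : G) / Nat.gcd (orderOf (c : G)) 2 * 2 := Nat.mul_le_mul_left _ hg2
      _ = 2 * (orderOf (c : G) / Nat.gcd (orderOf (c : G)) 2) := mul_comm _ _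
  have step2 : Nat.card ↥(C ⊓ R) ≤ 2 * Nat.card ↥M := by
    rw [← hord']
    exact h3.trans (Nat.mul_le_mul_left _ h2)
  calc Nat.card ↥R ≤ k * Nat.card ↥(C ⊓ R) := step1
    _ ≤ k * (2 * Nat.card ↥M) := Nat.mul_le_mul_left _ step2
    _ = 2 * k * Nat.card ↥M := by ring

end Cfsg.Agent.Lib.Helper4.HDCore2
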