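import Mathlib
import Cfsg.Prelude.Def_CaseTheorems
import Cfsg.Prelude.Def_TwoFusion
import Cfsg.Agent.Lib.Helper2.HDDefs
import Cfsg.Agent.Lib.Helper6.HDCore
import Cfsg.Agent.Lib.Helper4.HDCore2

/-!
# Farm HD (S1235): unit U3b (case A: `T` is the whole 2-group).
-/

set_option autoImplicit false

namespace Cfsg.Agent.Lib.Helper4.HD

open Cfsg.Agent.Lib.Helper2.HDDefs

/-- U3b (case A): with such a `Z` of order at most 8, `T` is all of the 2-group `P`. -/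
theorem U3b_top {P : Type*} [Group P] [Finite P] (hP : IsPGroup 2 P)
    (T B Z : Subgroup P) (hB4 : Nat.card B = 4) (hcent : SmallCent T B)
    (hBZ : B ≤ Z) (hZT : Z ≤ T) (hZexp : ∀ z ∈ Z, z * z = 1)
    (hZc : ∀ z ∈ Z, ∀ t ∈ T, z * t = t * z) (hZ8 : Nat.card Z ≤ 8)
    (hZn : ∀ g ∈ Subgroup.normalizer (T : Set P), ∀ z ∈ Z, g * z * g⁻¹ ∈ Z) : T = ⊤ := by
  by_contra hne
  have hP' : IsPGroup 2 ↥(⊤ : Subgroup P) := hP.to_subgroup ⊤
  obtain ⟨g, -, hgT, hgn, hg2⟩ :=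
    Cfsg.Agent.Lib.Helper6.HDCore.exists_normalizing_not_mem (⊤ : Subgroup P) T hP' le_top hne
  have hc : ∀ a ∈ Z, ∀ b ∈ Z, a * b = b * a := fun a ha b hb => hZc a ha b (hZT hb)
  have h2 : ∀ a ∈ Z, a ^ 2 = 1 := fun a ha => by rw [sq]; exact hZexp a ha
  have hg : ∀ z ∈ Z, g * z * g⁻¹ ∈ Z := fun z hz => hZn g hgn z hz
  have hgg : ∀ z ∈ Z, g * (g * z * g⁻¹) * g⁻¹ = z := by
    intro z hz
    have h1 : z * (g * g) = g * g * z := by
      have h0 := hZc z hz (g ^ 2) hg2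
      rw [pow_two] at h0
      exact h0
    calc g * (g * z * g⁻¹) * g⁻¹ = g * g * z * g⁻¹ * g⁻¹ := by group
      _ = z * (g * g) * g⁻¹ * g⁻¹ := by rw [h1]
      _ = z := by group
  have hB : Nat.card ↥Z < Nat.card ↥B ^ 2 := by
    rw [hB4]
    omega
  obtain ⟨b, hbB, hb1, hgb⟩ :=
    Cfsg.Agent.Lib.Helper4.HDCore2.exists_fixed_in_B Z hc h2 g hg hgg B hBZ hB
  exact hgT (hcent b hbB hb1 g hgb)

end Cfsg.Agent.Lib.Helper4.HD
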