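import Cfsg.Agent.Lib.Helper4.ES2C

/-!
# Extraspecial 2-groups (part D): the classification in the ambient form
-/

set_option autoImplicit false

namespace Cfsg.Agent.Lib.Helper4.ES2

variable {G : Type*} [Group G]

/-- `Q` has a pair of involutions with commutator `z` -/
def HasInvPair (Q : Subgroup G) (z : G) : Prop :=
  ∃ u ∈ Q, ∃ v ∈ Q, u * u = 1 ∧ v * v = 1 ∧ cm u v = z

/-- plus type -/
def IsPlus (n : ℕ) (Q : Subgroup G) : Prop :=
  invCount Q = 2 ^ (2 * n) + 2 ^ n ∧ RkLE (n + 1) Q ∧ ¬ RkLE n Q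

/-- minus type -/
def IsMinus (n : ℕ) (Q : Subgroup G) : Prop :=
  1 ≤ n ∧ invCount Q = 2 ^ (2 * n) - 2 ^ n ∧ RkLE n Q ∧ ¬ RkLE (n - 1) Q

namespace Data

variable {Q : Subgroup G} {z : G}

theorem two_le_card [Finite G] (h : Data Q z) : 2 ≤ Nat.card Q := by
  have hsub : ({1, z} : Set G) ⊆ (Q : Set G) := by
    intro c hc
    rcases hc with rfl | rfl
    · exact Q.one_mem
    · exact h.zQ
  calc 2 = ({1, z} : Set G).ncard := (Set.ncard_pair (Ne.symm h.z_ne)).symm
    _ ≤ (Q : Set G).ncard := Set.ncard_le_ncard hsub (Set.toFinite _)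
    _ = Nat.card Q := (Nat.card_coe_set_eq (Q : Set G)).symm

theorem eq_of_card_two [Finite G] (h : Data Q z) (hcard : Nat.card Q = 2) {q : G} (hq : q ∈ Q) :
    q = 1 ∨ q = z := by
  have hsub : ({1, z} : Set G) ⊆ (Q : Set G) := by
    intro c hc
    rcases hc with rfl | rfl
    · exact Q.one_mem
    · exact h.zQ
  have h1 : ({1, z} : Set G) = (Q : Set G) := by
    apply Set.eq_of_subset_of_ncard_le hsub _ (Set.toFinite _)
    rw [Set.ncard_pair (Ne.symm h.z_ne), ← Nat.card_coe_set_eq (Q : Set G)]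
    exact hcard.le
  have h2 : q ∈ ({1, z} : Set G) := by rw [h1]; exact hq
  exact h2

theorem no_pair_inv (h : Data Q z) (hno : ¬ HasInvPair Q z) {q : G} (hq : q ∈ Q) (hqq : q * q = 1) :
    q = 1 ∨ q = z := by
  by_contra hcon
  push Not at hcon
  obtain ⟨v, hv, hvv, huv⟩ := h.exists_inv_pair_of_inv hq hqq hcon.1 hcon.2
  exact hno ⟨q, hq, v, hv, hqq, hvv, huv⟩

theorem invCount_of_inv [Finite G] (h : Data Q z) (hno : ∀ q ∈ Q, q * q = 1 → q = 1 ∨ q = z) :
    invCount Q = 2 := by
  unfold invCount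
  have h1 : {x : G | x ∈ Q ∧ x * x = 1} = {1, z} := by
    ext x
    simp only [Set.mem_setOf_eq, Set.mem_insert_iff, Set.mem_singleton_iff]
    constructor
    · rintro ⟨hx, hxx⟩
      exact hno x hx hxx
    · rintro (rfl | rfl)
      · exact ⟨Q.one_mem, one_mul 1⟩
      · exact ⟨h.zQ, h.z_sq⟩
  rw [h1, Set.ncard_pair (Ne.symm h.z_ne)]

theorem invCount_pos [Finite G] (Q : Subgroup G) : 1 ≤ invCount Q := by
  unfold invCount
  rw [Nat.succ_le_iff, Set.ncard_pos (Set.toFinite _)]
  exact ⟨1, Q.one_mem, one_mul 1⟩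

theorem rk_of_inv [Finite G] (h : Data Q z) (hno : ∀ q ∈ Q, q * q = 1 → q = 1 ∨ q = z) : RkLE 1 Q := by
  intro A hA _ hAs
  have hsub : (A : Set G) ⊆ ({1, z} : Set G) := fun a ha => hno a (hA ha) (hAs a ha)
  calc Nat.card A = (A : Set G).ncard := Nat.card_coe_set_eq (A : Set G)
    _ ≤ ({1, z} : Set G).ncard := Set.ncard_le_ncard hsub (Set.toFinite _)
    _ = 2 ^ 1 := Set.ncard_pair (Ne.symm h.z_ne)

theorem rk_of_card [Finite G] {k : ℕ} (hcard : Nat.card Q ≤ 2 ^ k) : RkLE k Q := by
  intro A hA _ _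
  exact (Subgroup.card_le_of_le hA).trans hcard

/-- the structure theorem -/
theorem structure_thm [Finite G] : ∀ (n : ℕ) (Q : Subgroup G) (z : G), Data Q z →
    Nat.card Q = 2 ^ (2 * n + 1) → IsPlus n Q ∨ IsMinus n Q := by
  intro n
  induction n with
  | zero =>
    intro Q z h hcard
    left
    have hcard' : Nat.card Q = 2 := by simpa using hcard
    refine ⟨?_, ?_, h.not_rk_zero⟩
    · rw [h.invCount_of_inv (fun q hq _ => h.eq_of_card_two hcard' hq)]
      norm_num
    · exact rk_of_card (by rw [hcard']; norm_num)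
  | succ n ih =>
    intro Q z h hcard
    by_cases hp : HasInvPair Q z
    · obtain ⟨u, hu, v, hv, huu, hvv, huv⟩ := hp
      have hC := h.data_cent2 hu hv huv
      have hcardC : Nat.card ↥(cent2 Q u v) = 2 ^ (2 * n + 1) := by
        have h1 := h.card_split hu hv huv
        rw [hcard] at h1
        have h2 : 2 ^ (2 * (n + 1) + 1) = 4 * 2 ^ (2 * n + 1) := by ring
        omega
      have hsplit := h.invCount_split hu hv huu hvv huv
      rcases ih _ z hC hcardC with ⟨hi, hr1, hr2⟩ | ⟨hn1, hi, hr1, hr2⟩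
      · left
        refine ⟨?_, (h.rk_iff hu hv huu huv _).mp hr1, fun h3 => hr2 ((h.rk_iff hu hv huu huv _).mpr h3)⟩
        rw [hsplit, hi, hcardC]
        ring
      · right
        refine ⟨by omega, ?_, (h.rk_iff hu hv huu huv _).mp hr1, ?_⟩
        · rw [hsplit, hi, hcardC]
          have h1 : 2 ^ n ≤ 2 ^ (2 * n) := Nat.pow_le_pow_right (by norm_num) (by omega)
          have h2 : 2 ^ (n + 1) ≤ 2 ^ (2 * (n + 1)) := Nat.pow_le_pow_right (by norm_num) (by omega)
          have h3 : 2 ^ (2 * (n + 1)) = 4 * 2 ^ (2 * n) := by ring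
          have h4 : 2 ^ (n + 1) = 2 * 2 ^ n := by ring
          have h5 : 2 ^ (2 * n + 1) = 2 * 2 ^ (2 * n) := by ring
          omega
        · intro h3
          apply hr2
          have h4 : n + 1 - 1 = (n - 1) + 1 := by omega
          rw [h4] at h3
          exact (h.rk_iff hu hv huu huv _).mpr h3
    · right
      have hinv := fun q (hq : q ∈ Q) (hqq : q * q = 1) => h.no_pair_inv hp hq hqq
      have hn0 : n = 0 := by
        by_contra hn
        have h1 : 32 ≤ Nat.card Q := by
          rw [hcard]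
          calc 32 = 2 ^ 5 := by norm_num
            _ ≤ 2 ^ (2 * (n + 1) + 1) := Nat.pow_le_pow_right (by norm_num) (by omega)
        obtain ⟨u, hu, v, hv, huu, hvv, huv⟩ := h.exists_inv_pair h1
        exact hp ⟨u, hu, v, hv, huu, hvv, huv⟩
      subst hn0
      refine ⟨le_rfl, ?_, h.rk_of_inv hinv, h.not_rk_zero⟩
      rw [h.invCount_of_inv hinv]
      norm_num

theorem plus_minus_excl {n : ℕ} (hp : IsPlus n Q) (hm : IsMinus n Q) : False :=
  hp.2.2 hm.2.2.1

/-- the order of `Q` is an odd power of two -/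
theorem card_eq [Finite G] : ∀ (m : ℕ) (Q : Subgroup G) (z : G), Data Q z → Nat.card Q = m →
    ∃ n : ℕ, Nat.card Q = 2 ^ (2 * n + 1) := by
  intro m
  induction m using Nat.strong_induction_on with
  | _ m ih =>
    intro Q z h hm
    by_cases h2 : Nat.card Q ≤ 2
    · refine ⟨0, ?_⟩
      have := h.two_le_card
      simp only [mul_zero, zero_add, pow_one]
      omega
    · obtain ⟨u, hu, v, hv, huv⟩ := h.exists_pair (by omega)
      have h3 := h.card_split hu hv huv
      have h4 := (h.data_cent2 hu hv huv).two_le_card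
      obtain ⟨n, hn⟩ := ih (Nat.card ↥(cent2 Q u v)) (by omega) _ z (h.data_cent2 hu hv huv) rfl
      refine ⟨n + 1, ?_⟩
      rw [h3, hn]
      ring

end Data

section iso

variable {G' : Type*} [Group G']

/-- the isomorphism theorem -/
theorem iso_thm [Finite G] [Finite G'] : ∀ (n : ℕ) (Q : Subgroup G) (z : G) (Q' : Subgroup G') (z' : G'),
    Data Q z → Data Q' z' → Nat.card Q = 2 ^ (2 * n + 1) → Nat.card Q' = 2 ^ (2 * n + 1) →
    invCount Q = invCount Q' → ∃ φ : Q ≃* Q', ∀ hz : z ∈ Q, ((φ ⟨z, hz⟩ : Q') : G') = z' := by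
  intro n
  induction n with
  | zero =>
    intro Q z Q' z' h h' hcard hcard' _
    have hc : Nat.card Q = 2 := by simpa using hcard
    have hc' : Nat.card Q' = 2 := by simpa using hcard'
    have E : Ext2 Q ⊥ z := by
      refine ⟨fun q => ⟨fun hq => ?_, ?_⟩, by rw [Subgroup.mem_bot]; exact h.z_ne⟩
      · rcases h.eq_of_card_two hc hq with h1 | h1
        · exact Or.inl (Subgroup.mem_bot.mpr h1)
        · right
          rw [Subgroup.mem_bot, h1, inv_mul_cancel]
      · rintro (h1 | h1)
        · rw [Subgroup.mem_bot.mp h1]; exact Q.one_mem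
        · rw [Subgroup.mem_bot] at h1
          have : q = z := by
            have h2 : q = z * (z⁻¹ * q) := by group
            rw [h2, h1, mul_one]
          rw [this]; exact h.zQ
    have E' : Ext2 Q' ⊥ z' := by
      refine ⟨fun q => ⟨fun hq => ?_, ?_⟩, by rw [Subgroup.mem_bot]; exact h'.z_ne⟩
      · rcases h'.eq_of_card_two hc' hq with h1 | h1
        · exact Or.inl (Subgroup.mem_bot.mpr h1)
        · right
          rw [Subgroup.mem_bot, h1, inv_mul_cancel]
      · rintro (h1 | h1)
        · rw [Subgroup.mem_bot.mp h1]; exact Q'.one_mem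
        · rw [Subgroup.mem_bot] at h1
          have : q = z' := by
            have h2 : q = z' * (z'⁻¹ * q) := by group
            rw [h2, h1, mul_one]
          rw [this]; exact h'.zQ
    have hbot : ∀ x : (⊥ : Subgroup G'), (x : G') = 1 := fun x => Subgroup.mem_bot.mp x.2
    obtain ⟨φ, -, hφ⟩ := exists_ext_equiv E E' (MulEquiv.ofUnique) (by rw [hbot, h'.z_sq]) (by
      intro m hm
      rw [hbot, hbot, mul_one, mul_inv_cancel])
    refine ⟨φ, fun hz => ?_⟩
    have h1 := hφ 1 (Subgroup.one_mem _)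
    rw [hbot] at h1
    exact (val_congr (fun x => ((φ x : Q') : G')) (mul_one z).symm _ _).trans (h1.trans (mul_one z'))
  | succ n ih =>
    intro Q z Q' z' h h' hcard hcard' hinv
    -- find pairs of the same kind with isomorphic centralizers
    have hcardC : ∀ (Q : Subgroup G) (z : G), Data Q z → Nat.card Q = 2 ^ (2 * (n + 1) + 1) →
        ∀ u ∈ Q, ∀ v ∈ Q, cm u v = z → Nat.card ↥(cent2 Q u v) = 2 ^ (2 * n + 1) := by
      intro Q z h hcard u hu v hv huv
      have h1 := h.card_split hu hv huv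
      rw [hcard] at h1
      have h2 : 2 ^ (2 * (n + 1) + 1) = 4 * 2 ^ (2 * n + 1) := by ring
      omega
    have hcardC' : ∀ (Q : Subgroup G') (z : G'), Data Q z → Nat.card Q = 2 ^ (2 * (n + 1) + 1) →
        ∀ u ∈ Q, ∀ v ∈ Q, cm u v = z → Nat.card ↥(cent2 Q u v) = 2 ^ (2 * n + 1) := by
      intro Q z h hcard u hu v hv huv
      have h1 := h.card_split hu hv huv
      rw [hcard] at h1
      have h2 : 2 ^ (2 * (n + 1) + 1) = 4 * 2 ^ (2 * n + 1) := by ring
      omega
    have key : ∃ u ∈ Q, ∃ v ∈ Q, ∃ u' ∈ Q', ∃ v' ∈ Q', cm u v = z ∧ cm u' v' = z' ∧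
        (u * u = 1 ↔ u' * u' = 1) ∧ (v * v = 1 ↔ v' * v' = 1) ∧
        invCount (cent2 Q u v) = invCount (cent2 Q' u' v') := by
      by_cases hp : HasInvPair Q z <;> by_cases hp' : HasInvPair Q' z'
      · obtain ⟨u, hu, v, hv, huu, hvv, huv⟩ := hp
        obtain ⟨u', hu', v', hv', huu', hvv', huv'⟩ := hp'
        refine ⟨u, hu, v, hv, u', hu', v', hv', huv, huv', ⟨fun _ => huu', fun _ => huu⟩,
          ⟨fun _ => hvv', fun _ => hvv⟩, ?_⟩
        have h1 := h.invCount_split hu hv huu hvv huv
        have h2 := h'.invCount_split hu' hv' huu' hvv' huv'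
        have h3 := hcardC Q z h hcard u hu v hv huv
        have h4 := hcardC' Q' z' h' hcard' u' hu' v' hv' huv'
        omega
      · exfalso
        obtain ⟨u, hu, v, hv, huu, hvv, huv⟩ := hp
        have h1 := h.invCount_split hu hv huu hvv huv
        have h2 := h'.invCount_of_inv (fun q hq hqq => h'.no_pair_inv hp' hq hqq)
        have h3 := (h.data_cent2 hu hv huv).two_le_card
        have h4 := Data.invCount_pos (cent2 Q u v)
        omega
      · exfalso
        obtain ⟨u, hu, v, hv, huu, hvv, huv⟩ := hp'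
        have h1 := h'.invCount_split hu hv huu hvv huv
        have h2 := h.invCount_of_inv (fun q hq hqq => h.no_pair_inv hp hq hqq)
        have h3 := (h'.data_cent2 hu hv huv).two_le_card
        have h4 := Data.invCount_pos (cent2 Q' u v)
        omega
      · have hn0 : n = 0 := by
          by_contra hn
          have h1 : 32 ≤ Nat.card Q := by
            rw [hcard]
            calc 32 = 2 ^ 5 := by norm_num
              _ ≤ 2 ^ (2 * (n + 1) + 1) := Nat.pow_le_pow_right (by norm_num) (by omega)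
          obtain ⟨u, hu, v, hv, huu, hvv, huv⟩ := h.exists_inv_pair h1
          exact hp ⟨u, hu, v, hv, huu, hvv, huv⟩
        subst hn0
        obtain ⟨u, hu, v, hv, huv⟩ := h.exists_pair (by rw [hcard]; norm_num)
        obtain ⟨u', hu', v', hv', huv'⟩ := h'.exists_pair (by rw [hcard']; norm_num)
        have hns : ∀ (Q : Subgroup G) (z : G), Data Q z → ¬ HasInvPair Q z → ∀ u ∈ Q, ∀ v ∈ Q,
            cm u v = z → u * u ≠ 1 ∧ v * v ≠ 1 := by
          intro Q z h hp u hu v hv huv
          constructor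
          · intro huu
            rcases h.no_pair_inv hp hu huu with h1 | h1
            · rw [h1, cm_one_left] at huv
              exact h.z_ne huv.symm
            · rw [h1, h.cm_z_left hv] at huv
              exact h.z_ne huv.symm
          · intro hvv
            rcases h.no_pair_inv hp hv hvv with h1 | h1
            · rw [h1, cm_one_right] at huv
              exact h.z_ne huv.symm
            · rw [h1, h.cm_z_right hu] at huv
              exact h.z_ne huv.symm
        have hns' : ∀ (Q : Subgroup G') (z : G'), Data Q z → ¬ HasInvPair Q z → ∀ u ∈ Q, ∀ v ∈ Q,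
            cm u v = z → u * u ≠ 1 ∧ v * v ≠ 1 := by
          intro Q z h hp u hu v hv huv
          constructor
          · intro huu
            rcases h.no_pair_inv hp hu huu with h1 | h1
            · rw [h1, cm_one_left] at huv
              exact h.z_ne huv.symm
            · rw [h1, h.cm_z_left hv] at huv
              exact h.z_ne huv.symm
          · intro hvv
            rcases h.no_pair_inv hp hv hvv with h1 | h1
            · rw [h1, cm_one_right] at huv
              exact h.z_ne huv.symm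
            · rw [h1, h.cm_z_right hu] at huv
              exact h.z_ne huv.symm
        obtain ⟨n1, n2⟩ := hns Q z h hp u hu v hv huv
        obtain ⟨n1', n2'⟩ := hns' Q' z' h' hp' u' hu' v' hv' huv'
        refine ⟨u, hu, v, hv, u', hu', v', hv', huv, huv', ⟨fun h1 => absurd h1 n1, fun h1 => absurd h1 n1'⟩,
          ⟨fun h1 => absurd h1 n2, fun h1 => absurd h1 n2'⟩, ?_⟩
        have hC := h.data_cent2 hu hv huv
        have hC' := h'.data_cent2 hu' hv' huv'
        have c1 : Nat.card ↥(cent2 Q u v) = 2 := by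
          have := hcardC Q z h hcard u hu v hv huv
          simpa using this
        have c2 : Nat.card ↥(cent2 Q' u' v') = 2 := by
          have := hcardC' Q' z' h' hcard' u' hu' v' hv' huv'
          simpa using this
        rw [hC.invCount_of_inv (fun q hq _ => hC.eq_of_card_two c1 hq),
          hC'.invCount_of_inv (fun q hq _ => hC'.eq_of_card_two c2 hq)]
    obtain ⟨u, hu, v, hv, u', hu', v', hv', huv, huv', hsu, hsv, hic⟩ := key
    obtain ⟨ψ, hψ⟩ := ih (cent2 Q u v) z (cent2 Q' u' v') z' (h.data_cent2 hu hv huv)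
      (h'.data_cent2 hu' hv' huv') (hcardC Q z h hcard u hu v hv huv)
      (hcardC' Q' z' h' hcard' u' hu' v' hv' huv') hic
    obtain ⟨φ, hφ⟩ := glue h h' hu hv huv hu' hv' huv' hsu hsv ψ (hψ _)
    exact ⟨φ, fun _ => hφ⟩

end iso

end Cfsg.Agent.Lib.Helper4.ES2
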