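import Mathlib
import Cfsg.Agent.Lib.Helper2.LevDefs

/-! S2522 piece P14 (helper2 farm): a transvection is a product of two regular unipotents (dimension ≥ 3).
Basis-free: regular nilpotent maps are built by induction on the dimension from a hyperplane. -/

set_option autoImplicit false
set_option maxHeartbeats 4000000
set_option linter.unusedVariables false
set_option linter.unusedSectionVars false
set_option linter.style.longLine false

namespace Cfsg.Agent.Lib.Helper2.Lev

open Module

universe u v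

variable {K : Type v} [Field K] {V : Type u} [AddCommGroup V] [Module K V]

/-- projection onto the hyperplane `ker α` along `v0` (where `α v0 = 1`) -/
def tvProj (α : Module.Dual K V) (v0 : V) (hv0 : α v0 = 1) : V →ₗ[K] LinearMap.ker α :=
  LinearMap.codRestrict (LinearMap.ker α) (LinearMap.id - LinearMap.smulRight α v0) (by
    intro v
    simp [hv0])

theorem tvProj_coe (α : Module.Dual K V) (v0 : V) (hv0 : α v0 = 1) (v : V) :
    ((tvProj α v0 hv0 v : LinearMap.ker α) : V) = v - α v • v0 := by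
  show ((LinearMap.id - LinearMap.smulRight α v0 : V →ₗ[K] V)) v = v - α v • v0
  simp

theorem tvProj_of_mem (α : Module.Dual K V) (v0 : V) (hv0 : α v0 = 1) (w : LinearMap.ker α) :
    tvProj α v0 hv0 (w : V) = w := by
  apply Subtype.ext
  rw [tvProj_coe]
  have : α (w : V) = 0 := w.2
  rw [this, zero_smul, sub_zero]

theorem tvProj_self (α : Module.Dual K V) (v0 : V) (hv0 : α v0 = 1) :
    tvProj α v0 hv0 v0 = 0 := by
  apply Subtype.ext
  rw [tvProj_coe, hv0, one_smul, sub_self]
  rfl

/-- the map `v ↦ NW (proj v) + α v • z` with values in the hyperplane -/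
def tvLift' (α : Module.Dual K V) (v0 : V) (hv0 : α v0 = 1) (NW : Module.End K (LinearMap.ker α))
    (z : LinearMap.ker α) : V →ₗ[K] LinearMap.ker α :=
  NW ∘ₗ tvProj α v0 hv0 + LinearMap.smulRight α z

/-- the same map as an endomorphism of `V` -/
def tvLift (α : Module.Dual K V) (v0 : V) (hv0 : α v0 = 1) (NW : Module.End K (LinearMap.ker α))
    (z : LinearMap.ker α) : Module.End K V :=
  (LinearMap.ker α).subtype ∘ₗ tvLift' α v0 hv0 NW z

theorem tvLift_apply (α : Module.Dual K V) (v0 : V) (hv0 : α v0 = 1)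
    (NW : Module.End K (LinearMap.ker α)) (z : LinearMap.ker α) (v : V) :
    tvLift α v0 hv0 NW z v = ((tvLift' α v0 hv0 NW z v : LinearMap.ker α) : V) := rfl

theorem tvLift'_apply (α : Module.Dual K V) (v0 : V) (hv0 : α v0 = 1)
    (NW : Module.End K (LinearMap.ker α)) (z : LinearMap.ker α) (v : V) :
    tvLift' α v0 hv0 NW z v = NW (tvProj α v0 hv0 v) + α v • z := by
  simp [tvLift']

theorem tvLift'_of_mem (α : Module.Dual K V) (v0 : V) (hv0 : α v0 = 1)
    (NW : Module.End K (LinearMap.ker α)) (z : LinearMap.ker α) (w : LinearMap.ker α) :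
    tvLift' α v0 hv0 NW z (w : V) = NW w := by
  rw [tvLift'_apply, tvProj_of_mem]
  have : α (w : V) = 0 := w.2
  rw [this, zero_smul, add_zero]

theorem tvLift_pow_of_mem (α : Module.Dual K V) (v0 : V) (hv0 : α v0 = 1)
    (NW : Module.End K (LinearMap.ker α)) (z : LinearMap.ker α) (j : ℕ) (w : LinearMap.ker α) :
    ((tvLift α v0 hv0 NW z) ^ j) (w : V) = (((NW ^ j) w : LinearMap.ker α) : V) := by
  induction j generalizing w with
  | zero => simp
  | succ j ih =>
    rw [pow_succ, Module.End.mul_apply, tvLift_apply, tvLift'_of_mem, ih, pow_succ,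
      Module.End.mul_apply]

theorem tvLift_pow_succ (α : Module.Dual K V) (v0 : V) (hv0 : α v0 = 1)
    (NW : Module.End K (LinearMap.ker α)) (z : LinearMap.ker α) (j : ℕ) (v : V) :
    ((tvLift α v0 hv0 NW z) ^ (j + 1)) v =
      (((NW ^ j) (tvLift' α v0 hv0 NW z v) : LinearMap.ker α) : V) := by
  rw [pow_succ, Module.End.mul_apply, tvLift_apply, tvLift_pow_of_mem]

theorem tvLift_pow_eq_zero (α : Module.Dual K V) (v0 : V) (hv0 : α v0 = 1)
    (NW : Module.End K (LinearMap.ker α)) (z : LinearMap.ker α) (k : ℕ) (hk : NW ^ (k + 1) = 0) :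
    (tvLift α v0 hv0 NW z) ^ (k + 1 + 1) = 0 := by
  ext v
  rw [tvLift_pow_succ, hk]
  simp

theorem tvLift_ker (α : Module.Dual K V) (v0 : V) (hv0 : α v0 = 1)
    (NW : Module.End K (LinearMap.ker α)) (z : LinearMap.ker α) (k : ℕ) (hk : NW ^ (k + 1) = 0)
    (hz : (NW ^ k) z ≠ 0) :
    LinearMap.ker (tvLift α v0 hv0 NW z) = (LinearMap.ker NW).map (LinearMap.ker α).subtype := by
  ext v
  constructor
  · intro hv
    rw [LinearMap.mem_ker, tvLift_apply] at hv
    have h0 : tvLift' α v0 hv0 NW z v = 0 := Subtype.ext hv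
    rw [tvLift'_apply] at h0
    have h1 : (NW ^ k) (NW (tvProj α v0 hv0 v) + α v • z) = 0 := by rw [h0, map_zero]
    rw [map_add, map_smul] at h1
    have h2 : (NW ^ k) (NW (tvProj α v0 hv0 v)) = 0 := by
      have : (NW ^ k) (NW (tvProj α v0 hv0 v)) = (NW ^ (k + 1)) (tvProj α v0 hv0 v) := by
        rw [pow_succ, Module.End.mul_apply]
      rw [this, hk]; simp
    rw [h2, zero_add] at h1
    have hαv : α v = 0 := by
      rcases smul_eq_zero.1 h1 with h | h
      · exact h
      · exact absurd h hz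
    rw [hαv, zero_smul, add_zero] at h0
    have hvmem : v ∈ LinearMap.ker α := hαv
    have hp : tvProj α v0 hv0 v = ⟨v, hvmem⟩ := tvProj_of_mem α v0 hv0 ⟨v, hvmem⟩
    rw [hp] at h0
    exact ⟨⟨v, hvmem⟩, h0, rfl⟩
  · rintro ⟨w, hw, rfl⟩
    rw [LinearMap.mem_ker, Submodule.subtype_apply, tvLift_apply, tvLift'_of_mem]
    have : NW w = 0 := hw
    rw [this]; rfl

theorem tvLift_finrank_ker (α : Module.Dual K V) (v0 : V) (hv0 : α v0 = 1)
    (NW : Module.End K (LinearMap.ker α)) (z : LinearMap.ker α) (k : ℕ) (hk : NW ^ (k + 1) = 0)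
    (hz : (NW ^ k) z ≠ 0) (hker : Module.finrank K (LinearMap.ker NW) = 1) :
    Module.finrank K (LinearMap.ker (tvLift α v0 hv0 NW z)) = 1 := by
  rw [tvLift_ker α v0 hv0 NW z k hk hz, Submodule.finrank_map_subtype_eq, hker]

/-- existence of a regular nilpotent endomorphism killing a given nonzero vector, with a cyclic vector -/
theorem exists_regNil : ∀ (d : ℕ) (W : Type u) [AddCommGroup W] [Module K W] [FiniteDimensional K W],
    Module.finrank K W = d + 1 → ∀ x : W, x ≠ 0 →
    ∃ (N : Module.End K W) (k : ℕ) (y : W), N ^ (k + 1) = 0 ∧ (N ^ k) y ≠ 0 ∧ N x = 0 ∧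
      Module.finrank K (LinearMap.ker N) = 1 := by
  intro d
  induction d with
  | zero =>
    intro W _ _ _ hW x hx
    refine ⟨0, 0, x, by simp, by simpa using hx, by simp, ?_⟩
    rw [LinearMap.ker_zero, finrank_top, hW]
  | succ d ih =>
    intro W _ _ _ hW x hx
    have hlt : Submodule.span K {x} < ⊤ := by
      rw [lt_top_iff_ne_top]
      intro htop
      have h1 : Module.finrank K (Submodule.span K {x}) = 1 := finrank_span_singleton hx
      rw [htop, finrank_top, hW] at h1
      omega
    obtain ⟨β, hβ0, hβ⟩ := Submodule.exists_le_ker_of_lt_top _ hlt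
    have hβx : β x = 0 := hβ (Submodule.mem_span_singleton_self x)
    have hfr : Module.finrank K (LinearMap.ker β) = d + 1 := by
      have := Module.Dual.finrank_ker_add_one_of_ne_zero hβ0
      omega
    have hx0 : (⟨x, hβx⟩ : LinearMap.ker β) ≠ 0 := by
      intro h
      apply hx
      exact congrArg Subtype.val h
    obtain ⟨N0, k, y, hN0, hy, hN0x, hker⟩ := ih (LinearMap.ker β) hfr ⟨x, hβx⟩ hx0
    -- a vector with `β v0 = 1`
    obtain ⟨v1, hv1⟩ : ∃ v1 : W, β v1 ≠ 0 := by
      by_contra hcon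
      push Not at hcon
      exact hβ0 (LinearMap.ext hcon)
    have hv0 : β ((β v1)⁻¹ • v1) = 1 := by
      rw [map_smul, smul_eq_mul, inv_mul_cancel₀ hv1]
    refine ⟨tvLift β _ hv0 N0 y, k + 1, (β v1)⁻¹ • v1, tvLift_pow_eq_zero β _ hv0 N0 y k hN0, ?_, ?_,
      tvLift_finrank_ker β _ hv0 N0 y k hN0 hy hker⟩
    · rw [tvLift_pow_succ, tvLift'_apply, tvProj_self, map_zero, zero_add, hv0, one_smul]
      intro h
      exact hy (Subtype.ext h)
    · have := tvLift'_of_mem β _ hv0 N0 y ⟨x, hβx⟩
      rw [tvLift_apply]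
      have h2 : tvLift' β _ hv0 N0 y x = N0 ⟨x, hβx⟩ := this
      rw [h2, hN0x]; rfl

/-! ### P14 (LevTransv): a transvection is a product of two regular unipotents (dimension at least 3) -/

theorem transvection_case [FiniteDimensional K V] (h3 : 3 ≤ Module.finrank K V) {g : Module.End K V}
    (hdet : LinearMap.det g = 1) (x : V) (α : Module.Dual K V) (hg : g = 1 + LinearMap.smulRight α x)
    (hg1 : g ≠ 1) : ∃ L U : Module.End K V, RegUnip L ∧ RegUnip U ∧ L * U = g := by
  -- `α x = 0`
  have hαx : α x = 0 := by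
    have h1 : g = LinearMap.transvection α x := by
      rw [hg]; ext v; simp [LinearMap.transvection.apply]
    rw [h1, LinearMap.transvection.det] at hdet
    simpa using hdet
  have hα0 : α ≠ 0 := by
    intro h
    apply hg1
    rw [hg, h]; ext v; simp
  have hx0 : x ≠ 0 := by
    intro h
    apply hg1
    rw [hg, h]; ext v; simp
  have hfr : Module.finrank K (LinearMap.ker α) + 1 = Module.finrank K V :=
    Module.Dual.finrank_ker_add_one_of_ne_zero hα0
  obtain ⟨d, hd⟩ : ∃ d : ℕ, Module.finrank K (LinearMap.ker α) = d + 1 + 1 := ⟨Module.finrank K V - 3, by omega⟩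
  have hxW : (⟨x, hαx⟩ : LinearMap.ker α) ≠ 0 := by
    intro h
    exact hx0 (congrArg Subtype.val h)
  obtain ⟨NW, k, y, hNW, hy, hNWx, hker⟩ := exists_regNil (K := K) (d + 1) (LinearMap.ker α) hd ⟨x, hαx⟩ hxW
  -- `k ≥ 1`
  have hk1 : k ≠ 0 := by
    intro hk0
    rw [hk0, zero_add, pow_one] at hNW
    rw [hNW, LinearMap.ker_zero, finrank_top, hd] at hker
    omega
  obtain ⟨k', rfl⟩ : ∃ k' : ℕ, k = k' + 1 := ⟨k - 1, by omega⟩
  obtain ⟨v1, hv1⟩ : ∃ v1 : V, α v1 ≠ 0 := by
    by_contra hcon
    push Not at hcon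
    exact hα0 (LinearMap.ext hcon)
  have hv0 : α ((α v1)⁻¹ • v1) = 1 := by
    rw [map_smul, smul_eq_mul, inv_mul_cancel₀ hv1]
  set v0 := (α v1)⁻¹ • v1 with hv0def
  -- the two regular nilpotent maps
  set N : Module.End K V := tvLift α v0 hv0 NW y with hN
  set N' : Module.End K V := tvLift α v0 hv0 NW (y + ⟨x, hαx⟩) with hN'
  have hNnil : N ^ (k' + 1 + 1 + 1) = 0 := tvLift_pow_eq_zero α v0 hv0 NW y (k' + 1) hNW
  have hNker : Module.finrank K (LinearMap.ker N) = 1 :=
    tvLift_finrank_ker α v0 hv0 NW y (k' + 1) hNW hy hker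
  have hy' : (NW ^ (k' + 1)) (y + ⟨x, hαx⟩) ≠ 0 := by
    rw [map_add]
    have : (NW ^ (k' + 1)) ⟨x, hαx⟩ = 0 := by
      rw [pow_succ, Module.End.mul_apply, hNWx, map_zero]
    rw [this, add_zero]
    exact hy
  have hN'nil : N' ^ (k' + 1 + 1 + 1) = 0 := tvLift_pow_eq_zero α v0 hv0 NW _ (k' + 1) hNW
  have hN'ker : Module.finrank K (LinearMap.ker N') = 1 :=
    tvLift_finrank_ker α v0 hv0 NW _ (k' + 1) hNW hy' hker
  have hN'eq : N' = N + LinearMap.smulRight α x := by
    ext v
    simp only [hN, hN', tvLift_apply, tvLift'_apply, LinearMap.add_apply, LinearMap.smulRight_apply,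
      smul_add, Submodule.coe_add, Submodule.coe_smul]
    abel
  have hNx : N x = 0 := by
    rw [hN, tvLift_apply]
    have h2 : tvLift' α v0 hv0 NW y x = NW ⟨x, hαx⟩ := tvLift'_of_mem α v0 hv0 NW y ⟨x, hαx⟩
    rw [h2, hNWx]; rfl
  -- the inverse of `1 + N`
  have hNil : IsNilpotent N := ⟨_, hNnil⟩
  obtain ⟨uN, huN⟩ := hNil.isUnit_one_add
  have hL1 : ((uN⁻¹ : (Module.End K V)ˣ) : Module.End K V) * (1 + N) = 1 := by
    rw [← huN]; exact Units.inv_mul uN
  have hL2 : (1 + N) * ((uN⁻¹ : (Module.End K V)ˣ) : Module.End K V) = 1 := by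
    rw [← huN]; exact Units.mul_inv uN
  set L : Module.End K V := ((uN⁻¹ : (Module.End K V)ˣ) : Module.End K V) with hL
  -- `(1 + N) g = 1 + N'`
  have hUg : (1 + N) * g = 1 + N' := by
    rw [hN'eq, hg]
    ext v
    simp only [Module.End.mul_apply, LinearMap.add_apply, Module.End.one_apply,
      LinearMap.smulRight_apply, map_add, map_smul, hNx, smul_zero, add_zero]
    abel
  refine ⟨L, 1 + N', ?_, ?_, ?_⟩
  · -- `L` regular unipotent: `L - 1 = - L N`
    have hLN : L - 1 = -(L * N) := by
      have : L * (1 + N) = 1 := hL1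
      rw [mul_add, mul_one] at this
      rw [← this]; abel
    have hcomm : Commute L N := by
      have h1 : Commute (1 + N) N := (Commute.one_left N).add_left (Commute.refl N)
      have h2 : Commute (uN : Module.End K V) N := by rw [huN]; exact h1
      have h3 : Commute ((uN⁻¹ : (Module.End K V)ˣ) : Module.End K V) N := h2.units_inv_left
      exact h3
    constructor
    · rw [hLN]
      have : IsNilpotent (L * N) := Commute.isNilpotent_mul_left hcomm hNil
      exact this.neg
    · have hkerEq : LinearMap.ker (L - 1) = LinearMap.ker N := by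
        ext v
        rw [LinearMap.mem_ker, LinearMap.mem_ker, hLN, LinearMap.neg_apply, neg_eq_zero,
          Module.End.mul_apply]
        constructor
        · intro h
          have : (1 + N) (L (N v)) = 0 := by rw [h, map_zero]
          rw [← Module.End.mul_apply, hL2, Module.End.one_apply] at this
          exact this
        · intro h
          rw [h, map_zero]
      rw [hkerEq, hNker]
  · constructor
    · rw [add_sub_cancel_left]
      exact ⟨_, hN'nil⟩
    · rw [add_sub_cancel_left]
      exact hN'ker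
  · rw [← hUg, ← mul_assoc, hL1, one_mul]

end Cfsg.Agent.Lib.Helper2.Lev
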