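import Mathlib

set_option autoImplicit false
set_option linter.unusedVariables false
set_option linter.style.longLine false

/-!
S2140 farm, unit E0 (second half): a point stabiliser in `PSL_n(F)` has index
`(q^n - 1)/(q - 1)`.
-/

namespace Cfsg.Agent.Lib.Helper4.MinDeg

open Matrix

variable {F : Type*} [Field F]

theorem exists_index_PSL [Fintype F] (n : ℕ) (hn : 2 ≤ n) :
    ∃ H : Subgroup (Matrix.ProjectiveSpecialLinearGroup (Fin n) F),
      H.index = (Fintype.card F ^ n - 1) / (Fintype.card F - 1) := by
  classical
  have hv : (Pi.single (⟨0, by omega⟩ : Fin n) (1 : F) : Fin n → F) ≠ 0 := by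
    intro h
    have := congrFun h ⟨0, by omega⟩
    simp at this
  let x : Projectivization F (Fin n → F) := Projectivization.mk F _ hv
  have htr : MulAction.IsPretransitive (Matrix.ProjectiveSpecialLinearGroup (Fin n) F)
      (Projectivization F (Fin n → F)) := MulAction.IsPreprimitive.toIsPretransitive
  refine ⟨MulAction.stabilizer (Matrix.ProjectiveSpecialLinearGroup (Fin n) F) x, ?_⟩
  rw [MulAction.index_stabilizer_of_transitive, Projectivization.card'' F (Fin n → F),
    Nat.card_eq_fintype_card, Nat.card_eq_fintype_card, Fintype.card_fun, Fintype.card_fin]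

end Cfsg.Agent.Lib.Helper4.MinDeg
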