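import Mathlib

/-!
A computable model of the field with 4 elements: `𝔽₂[ω]` with `ω² = ω + 1`, and the transfer of `PSL₃` along an
isomorphism of fields.
-/

set_option autoImplicit false

namespace Cfsg.Agent.Lib.Helper4.K4Field

/-- the field with 4 elements, as `x + y ω` over `ZMod 2` -/
structure K4 where
  /-- the constant part -/
  lo : ZMod 2
  /-- the coefficient of `ω` -/
  hi : ZMod 2
  deriving DecidableEq, Fintype

namespace K4

instance : Zero K4 := ⟨⟨0, 0⟩⟩
instance : One K4 := ⟨⟨1, 0⟩⟩
instance : Add K4 := ⟨fun a b => ⟨a.lo + b.lo, a.hi + b.hi⟩⟩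
instance : Neg K4 := ⟨fun a => a⟩
instance : Mul K4 := ⟨fun a b => ⟨a.lo * b.lo + a.hi * b.hi, a.lo * b.hi + a.hi * b.lo + a.hi * b.hi⟩⟩
instance : Inv K4 := ⟨fun a => a * a⟩

/-- the primitive cube root of unity -/
def w : K4 := ⟨0, 1⟩

/-- its square -/
def w2 : K4 := ⟨1, 1⟩

instance : CommRing K4 where
  add_assoc := by decide +kernel
  zero_add := by decide +kernel
  add_zero := by decide +kernel
  add_comm := by decide +kernel
  neg_add_cancel := by decide +kernel
  mul_assoc := by decide +kernel
  one_mul := by decide +kernel
  mul_one := by decide +kernel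
  left_distrib := by decide +kernel
  right_distrib := by decide +kernel
  zero_mul := by decide +kernel
  mul_zero := by decide +kernel
  mul_comm := by decide +kernel
  nsmul := nsmulRec
  zsmul := zsmulRec

instance : Field K4 where
  exists_pair_ne := ⟨0, 1, by decide⟩
  mul_inv_cancel := by decide +kernel
  inv_zero := by decide +kernel
  nnqsmul := _
  nnqsmul_def := fun _ _ => rfl
  qsmul := _
  qsmul_def := fun _ _ => rfl

theorem card : Fintype.card K4 = 4 := by decide +kernel

end K4

/-- the isomorphism of special linear groups from an isomorphism of rings -/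
noncomputable def slEquivN (n : ℕ) {R S : Type*} [CommRing R] [CommRing S] (e : R ≃+* S) :
    Matrix.SpecialLinearGroup (Fin n) R ≃* Matrix.SpecialLinearGroup (Fin n) S where
  toFun := Matrix.SpecialLinearGroup.map e.toRingHom
  invFun := Matrix.SpecialLinearGroup.map e.symm.toRingHom
  left_inv := by
    intro g
    apply Subtype.ext
    ext a b
    show e.symm (e (g.1 a b)) = g.1 a b
    simp
  right_inv := by
    intro g
    apply Subtype.ext
    ext a b
    show e (e.symm (g.1 a b)) = g.1 a b
    simp
  map_mul' := map_mul _

/-- an isomorphism of groups maps the centre onto the centre -/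
theorem map_center_equiv {G H : Type*} [Group G] [Group H] (e : G ≃* H) :
    (Subgroup.center G).map e.toMonoidHom = Subgroup.center H := by
  ext y
  constructor
  · rintro ⟨x, hx, rfl⟩
    rw [Subgroup.mem_center_iff]
    intro h
    obtain ⟨g, rfl⟩ := e.surjective h
    have := Subgroup.mem_center_iff.1 hx g
    show e g * e x = e x * e g
    rw [← map_mul, ← map_mul, this]
  · intro hy
    refine ⟨e.symm y, ?_, by simp⟩
    show e.symm y ∈ Subgroup.center G
    rw [Subgroup.mem_center_iff]
    intro g
    have := Subgroup.mem_center_iff.1 hy (e g)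
    apply e.injective
    rw [map_mul, map_mul, MulEquiv.apply_symm_apply]
    exact this

/-- the isomorphism of projective special linear groups from an isomorphism of rings -/
noncomputable def pslEquivN (n : ℕ) {R S : Type*} [CommRing R] [CommRing S] (e : R ≃+* S) :
    Matrix.ProjectiveSpecialLinearGroup (Fin n) R ≃* Matrix.ProjectiveSpecialLinearGroup (Fin n) S :=
  QuotientGroup.congr _ _ (slEquivN n e) (map_center_equiv (slEquivN n e))

end Cfsg.Agent.Lib.Helper4.K4Field
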