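import Mathlib

set_option autoImplicit false

namespace Cfsg.Agent.Lib.Helper4

open Matrix

variable {F : Type*} [Field F] [Fintype F]

/-- number of solutions of a nontrivial linear equation -/
theorem card_dotProduct_eq (m : ℕ) (x : Fin m → F) (hx : x ≠ 0) (c : F) :
    Nat.card {y : Fin m → F // x ⬝ᵥ y = c} * Fintype.card F = Fintype.card F ^ m := by
  classical
  -- the fibers of `y ↦ x ⬝ᵥ y` all have the same size
  obtain ⟨i, hi⟩ : ∃ i, x i ≠ 0 := by
    by_contra hcon
    push Not at hcon
    exact hx (funext hcon)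
  -- bijection `{y // x ⬝ y = c} × F ≃ (Fin m → F)`: (y, t) ↦ y + t • e_i / x_i
  let e : {y : Fin m → F // x ⬝ᵥ y = c} × F ≃ (Fin m → F) :=
    { toFun := fun p => p.1.1 + Pi.single i (p.2 / x i)
      invFun := fun z => (⟨z - Pi.single i ((x ⬝ᵥ z - c) / x i), by
        rw [dotProduct_sub, dotProduct_single]
        field_simp
        ring⟩, x ⬝ᵥ z - c)
      left_inv := by
        rintro ⟨⟨y, hy⟩, t⟩
        have h1 : x ⬝ᵥ (y + Pi.single i (t / x i)) - c = t := by
          rw [dotProduct_add, dotProduct_single, hy]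
          field_simp
          ring
        ext j
        · simp only [h1]
          simp
        · exact h1
      right_inv := by
        intro z
        simp }
  have := Nat.card_congr e
  rw [Nat.card_prod, Nat.card_eq_fintype_card (α := F), Nat.card_eq_fintype_card (α := Fin m → F),
    Fintype.card_fun, Fintype.card_fin] at this
  exact this

theorem card_dotProduct_zero_left [DecidableEq F] (m : ℕ) (c : F) :
    Nat.card {y : Fin m → F // (0 : Fin m → F) ⬝ᵥ y = c} =
      if c = 0 then Fintype.card F ^ m else 0 := by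
  split_ifs with hc
  · subst hc
    have e : {y : Fin m → F // (0 : Fin m → F) ⬝ᵥ y = 0} ≃ (Fin m → F) :=
      Equiv.subtypeUnivEquiv (fun y => by simp)
    rw [Nat.card_congr e, Nat.card_eq_fintype_card, Fintype.card_fun, Fintype.card_fin]
  · have : IsEmpty {y : Fin m → F // (0 : Fin m → F) ⬝ᵥ y = c} := by
      constructor
      rintro ⟨y, hy⟩
      rw [zero_dotProduct] at hy
      exact hc hy.symm
    exact Nat.card_of_isEmpty

/-- the number of zeros of `h w + x ⬝ y` -/
theorem card_triples {W : Type*} [Fintype W] (h : W → F) (m : ℕ) :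
    Nat.card {p : W × (Fin m → F) × (Fin m → F) // h p.1 + p.2.1 ⬝ᵥ p.2.2 = 0} * Fintype.card F =
      Fintype.card W * (Fintype.card F ^ m - 1) * Fintype.card F ^ m +
        Nat.card {w : W // h w = 0} * Fintype.card F ^ m * Fintype.card F := by
  classical
  set q := Fintype.card F with hq
  -- sigma decomposition
  let β : W × (Fin m → F) → Type _ := fun wx => {y : Fin m → F // wx.2 ⬝ᵥ y = -h wx.1}
  let e : {p : W × (Fin m → F) × (Fin m → F) // h p.1 + p.2.1 ⬝ᵥ p.2.2 = 0} ≃ Sigma β :=
    { toFun := fun p => ⟨(p.1.1, p.1.2.1), ⟨p.1.2.2, by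
        have := p.2
        change p.1.2.1 ⬝ᵥ p.1.2.2 = -h p.1.1
        linear_combination this⟩⟩
      invFun := fun s => ⟨(s.1.1, s.1.2, s.2.1), by
        have := s.2.2
        change h s.1.1 + s.1.2 ⬝ᵥ s.2.1 = 0
        rw [this]; ring⟩
      left_inv := fun p => rfl
      right_inv := fun s => rfl }
  rw [Nat.card_congr e, Nat.card_sigma, Finset.sum_mul, Fintype.sum_prod_type]
  have hfib : ∀ (w : W) (x : Fin m → F), Nat.card (β (w, x)) * q =
      if x = 0 then (if h w = 0 then q ^ m * q else 0) else q ^ m := by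
    intro w x
    split_ifs with hx hw
    · subst hx
      change Nat.card {y : Fin m → F // (0 : Fin m → F) ⬝ᵥ y = -h w} * q = _
      rw [card_dotProduct_zero_left, hw, neg_zero, if_pos rfl]
    · subst hx
      change Nat.card {y : Fin m → F // (0 : Fin m → F) ⬝ᵥ y = -h w} * q = _
      rw [card_dotProduct_zero_left]
      simp [hw]
    · exact card_dotProduct_eq m x hx _
  simp only [hfib]
  have hinner : ∀ w : W, (∑ x : Fin m → F, if x = 0 then (if h w = 0 then q ^ m * q else 0)
      else q ^ m) = (q ^ m - 1) * q ^ m + (if h w = 0 then q ^ m * q else 0) := by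
    intro w
    rw [← Finset.sum_erase_add _ _ (Finset.mem_univ (0 : Fin m → F))]
    rw [if_pos rfl]
    congr 1
    rw [Finset.sum_congr rfl (fun x hx => if_neg (Finset.ne_of_mem_erase hx)), Finset.sum_const,
      Finset.card_erase_of_mem (Finset.mem_univ _), Finset.card_univ, Fintype.card_fun,
      Fintype.card_fin, smul_eq_mul]
  simp only [hinner]
  rw [Finset.sum_add_distrib, Finset.sum_const, Finset.card_univ, smul_eq_mul, ← mul_assoc]
  congr 1
  rw [← Finset.sum_filter, Finset.sum_const, smul_eq_mul, Nat.card_eq_fintype_card,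
    Fintype.card_subtype, mul_assoc]

end Cfsg.Agent.Lib.Helper4
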