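import Mathlib

/-! Linear algebra for the order `5040`: a perfect group has no six-dimensional representation in
which an element of order seven has trace `-1` and is inverted by an involution. -/

set_option autoImplicit false

namespace Cfsg.Agent.Lib.Helper4.Ord5040

open Module

theorem multiset_pm_one (R : Multiset ℂ) (h : ∀ μ ∈ R, μ = 1 ∨ μ = -1) :
    ∃ a b : ℕ, R.card = a + b ∧ R.sum = (a : ℂ) - b ∧ R.prod = (-1) ^ b := by
  induction R using Multiset.induction_on with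
  | empty => exact ⟨0, 0, by simp, by simp, by simp⟩
  | cons μ R ih =>
    obtain ⟨a, b, h1, h2, h3⟩ := ih (fun ν hν => h ν (Multiset.mem_cons_of_mem hν))
    rcases h μ (Multiset.mem_cons_self μ R) with rfl | rfl
    · refine ⟨a + 1, b, ?_, ?_, ?_⟩
      · rw [Multiset.card_cons, h1]; ring
      · rw [Multiset.sum_cons, h2]; push_cast; ring
      · rw [Multiset.prod_cons, h3, one_mul]
    · refine ⟨a, b + 1, ?_, ?_, ?_⟩
      · rw [Multiset.card_cons, h1]; ring
      · rw [Multiset.sum_cons, h2]; push_cast; ring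
      · rw [Multiset.prod_cons, h3, pow_succ]; ring

variable {V : Type*} [AddCommGroup V] [Module ℂ V] [FiniteDimensional ℂ V]

theorem det_eq_neg_one_of_sq (f : Module.End ℂ V) (hf : f * f = 1)
    (htr : LinearMap.trace ℂ V f = 0) (hdim : Module.finrank ℂ V = 6) :
    LinearMap.det f = -1 := by
  have hsplit : f.charpoly.Splits := IsAlgClosed.splits f.charpoly
  have hroots : ∀ μ ∈ f.charpoly.roots, μ = 1 ∨ μ = -1 := by
    intro μ hμ
    have h1 : f.charpoly.IsRoot μ :=
      (Polynomial.mem_roots (LinearMap.charpoly_monic f).ne_zero).mp hμ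
    have h2 : f.HasEigenvalue μ := (Module.End.hasEigenvalue_iff_isRoot_charpoly f μ).mpr h1
    obtain ⟨v, hv⟩ := h2.exists_hasEigenvector
    have h3 : f v = μ • v := hv.apply_eq_smul
    have h4 : (f * f) v = (μ * μ) • v := by
      rw [Module.End.mul_apply, h3, map_smul, h3, smul_smul]
    rw [hf, Module.End.one_apply] at h4
    have h5 : (μ * μ - 1) • v = 0 := by rw [sub_smul, one_smul, ← h4, sub_self]
    have hv0 : v ≠ 0 := hv.2
    have h6 : μ * μ - 1 = 0 := by
      rcases smul_eq_zero.mp h5 with h | h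
      · exact h
      · exact absurd h hv0
    have h7 : (μ - 1) * (μ + 1) = 0 := by rw [← h6]; ring
    rcases mul_eq_zero.mp h7 with h | h
    · left; exact sub_eq_zero.mp h
    · right; exact eq_neg_of_add_eq_zero_left h
  obtain ⟨a, b, h1, h2, h3⟩ := multiset_pm_one _ hroots
  have hcard : f.charpoly.roots.card = 6 := by
    rw [← hsplit.natDegree_eq_card_roots, LinearMap.charpoly_natDegree, hdim]
  rw [Module.End.det_eq_prod_roots_charpoly_of_splits hsplit, h3]
  have hsum : f.charpoly.roots.sum = 0 := by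
    rw [← Module.End.trace_eq_sum_roots_charpoly_of_splits hsplit]; exact htr
  rw [h2] at hsum
  have hab : a = b := by
    have : (a : ℂ) = b := sub_eq_zero.mp hsum
    exact_mod_cast this
  have hb : b = 3 := by omega
  rw [hb]; norm_num

theorem det_rep_eq_one {G : Type*} [Group G] (hperf : commutator G = ⊤)
    (ρ : Representation ℂ G V) (g : G) : LinearMap.det (ρ g) = 1 := by
  let φ : G →* ℂ := (LinearMap.det : (V →ₗ[ℂ] V) →* ℂ).comp ρ
  have h1 : commutator G ≤ φ.toHomUnits.ker := Abelianization.commutator_subset_ker φ.toHomUnits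
  have h2 : g ∈ φ.toHomUnits.ker := h1 (by rw [hperf]; exact Subgroup.mem_top g)
  have h3 : φ.toHomUnits g = 1 := MonoidHom.mem_ker.mp h2
  have h4 : ((φ.toHomUnits g : ℂˣ) : ℂ) = 1 := by rw [h3]; rfl
  exact h4

theorem conj_cube_of_inverts {G : Type*} [Group G] {u z : G} (h : u * z * u⁻¹ = z⁻¹)
    (hz : z ^ 7 = 1) : (z * z * z) * u * (z * z * z)⁻¹ = u * z := by
  have h0 : u * z = z⁻¹ * u := mul_inv_eq_iff_eq_mul.mp h
  have h1 : z * u = u * z⁻¹ := by
    have : z * (u * z) = u := by rw [h0]; group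
    calc z * u = z * (u * z) * z⁻¹ := by group
      _ = u * z⁻¹ := by rw [this]
  have h7 : z⁻¹ * z⁻¹ * z⁻¹ * (z⁻¹ * z⁻¹ * z⁻¹) = z := by
    have : z ^ 7 = z * (z * z * z * (z * z * z)) := by
      simp only [pow_succ, pow_zero, one_mul, mul_assoc]
    rw [this] at hz
    calc z⁻¹ * z⁻¹ * z⁻¹ * (z⁻¹ * z⁻¹ * z⁻¹)
        = (z * (z * z * z * (z * z * z))) * (z⁻¹ * z⁻¹ * z⁻¹ * (z⁻¹ * z⁻¹ * z⁻¹)) := by
          rw [hz, one_mul]
      _ = z := by group
  calc (z * z * z) * u * (z * z * z)⁻¹ = z * (z * (z * u)) * (z * z * z)⁻¹ := by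
        simp only [mul_assoc]
    _ = z * (z * (u * z⁻¹)) * (z * z * z)⁻¹ := by rw [h1]
    _ = z * ((z * u) * z⁻¹) * (z * z * z)⁻¹ := by simp only [mul_assoc]
    _ = z * ((u * z⁻¹) * z⁻¹) * (z * z * z)⁻¹ := by rw [h1]
    _ = (z * u) * z⁻¹ * z⁻¹ * (z * z * z)⁻¹ := by simp only [mul_assoc]
    _ = (u * z⁻¹) * z⁻¹ * z⁻¹ * (z * z * z)⁻¹ := by rw [h1]
    _ = u * (z⁻¹ * z⁻¹ * z⁻¹ * (z⁻¹ * z⁻¹ * z⁻¹)) := by
        simp only [mul_inv_rev, mul_assoc]
    _ = u * z := by rw [h7]

theorem trace_eq_zero_of_dihedral {G : Type*} [Group G] (ρ : Representation ℂ G V) (x u : G)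
    (hx : x ^ 7 = 1) (hux : u * x * u⁻¹ = x⁻¹) (hdim : Module.finrank ℂ V = 6)
    (htr : ∀ i : ℕ, 1 ≤ i → i < 7 → LinearMap.trace ℂ V (ρ (x ^ i)) = -1) :
    LinearMap.trace ℂ V (ρ u) = 0 := by
  obtain ⟨A, hA⟩ : ∃ A : Module.End ℂ V, A = ρ x := ⟨_, rfl⟩
  have hA7 : A ^ 7 = 1 := by rw [hA, ← map_pow, hx, map_one]
  have hApow : ∀ i : ℕ, A ^ i = ρ (x ^ i) := by intro i; rw [hA, map_pow]
  obtain ⟨S, hS⟩ : ∃ S : Module.End ℂ V, S = ∑ i ∈ Finset.range 7, A ^ i := ⟨_, rfl⟩
  have hAS : A * S = S := by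
    have h1 := mul_geom_sum A 7
    rw [hA7, sub_self, sub_mul, one_mul, ← hS] at h1
    exact sub_eq_zero.mp h1
  have hAiS : ∀ i : ℕ, A ^ i * S = S := by
    intro i
    induction i with
    | zero => rw [pow_zero, one_mul]
    | succ i ih => rw [pow_succ, mul_assoc, hAS, ih]
  have hSS : S * S = (7 : ℂ) • S := by
    calc S * S = (∑ i ∈ Finset.range 7, A ^ i) * S := by rw [← hS]
      _ = ∑ i ∈ Finset.range 7, A ^ i * S := Finset.sum_mul _ _ _
      _ = ∑ _i ∈ Finset.range 7, S := Finset.sum_congr rfl (fun i _ => hAiS i)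
      _ = (7 : ℕ) • S := by rw [Finset.sum_const, Finset.card_range]
      _ = (7 : ℂ) • S := by rw [← Nat.cast_smul_eq_nsmul ℂ]; norm_num
  have hidem : IsIdempotentElem ((7 : ℂ)⁻¹ • S) := by
    unfold IsIdempotentElem
    rw [smul_mul_smul_comm, hSS, smul_smul]
    congr 1
    norm_num
  have htrS : LinearMap.trace ℂ V S = 0 := by
    rw [hS, map_sum, Finset.sum_range_succ']
    have h1 : ∀ i ∈ Finset.range 6, LinearMap.trace ℂ V (A ^ (i + 1)) = -1 := by
      intro i hi
      rw [hApow]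
      exact htr (i + 1) (by omega) (by have := Finset.mem_range.mp hi; omega)
    rw [Finset.sum_congr rfl h1, pow_zero, LinearMap.trace_one, hdim, Finset.sum_const,
      Finset.card_range]
    norm_num
  have hE0 : (7 : ℂ)⁻¹ • S = 0 := by
    apply LinearMap.IsIdempotentElem.eq_zero_of_trace_eq_zero hidem
    rw [map_smul, htrS, smul_zero]
  have hS0 : S = 0 := by
    rcases smul_eq_zero.mp hE0 with h | h
    · norm_num at h
    · exact h
  have hconj : ∀ i : ℕ, LinearMap.trace ℂ V (ρ u * A ^ i) = LinearMap.trace ℂ V (ρ u) := by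
    intro i
    have hz7 : (x ^ i) ^ 7 = 1 := by rw [← pow_mul, mul_comm, pow_mul, hx, one_pow]
    have huz : u * x ^ i * u⁻¹ = (x ^ i)⁻¹ := by rw [← conj_pow, hux, inv_pow]
    have h1 := conj_cube_of_inverts huz hz7
    have h2 : ρ u * A ^ i = ρ (x ^ i * x ^ i * x ^ i) * ρ u * ρ (x ^ i * x ^ i * x ^ i)⁻¹ := by
      rw [hApow, ← map_mul, ← map_mul, ← map_mul, h1]
    rw [h2, LinearMap.trace_mul_comm, ← mul_assoc, ← map_mul, inv_mul_cancel, map_one, one_mul]
  have h2 : LinearMap.trace ℂ V (ρ u * S) = 7 * LinearMap.trace ℂ V (ρ u) := by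
    rw [hS, Finset.mul_sum, map_sum, Finset.sum_congr rfl (fun i _ => hconj i), Finset.sum_const,
      Finset.card_range]
    simp
  rw [hS0, mul_zero, map_zero] at h2
  have h3 : (7 : ℂ) ≠ 0 := by norm_num
  rcases mul_eq_zero.mp h2.symm with h | h
  · exact absurd h h3
  · exact h

theorem no_rep6 {G : Type*} [Group G] (hperf : commutator G = ⊤) (ρ : Representation ℂ G V)
    (hdim : Module.finrank ℂ V = 6) (x u : G) (hx : x ^ 7 = 1) (hu : u * u = 1)
    (hux : u * x * u⁻¹ = x⁻¹)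
    (htr : ∀ i : ℕ, 1 ≤ i → i < 7 → LinearMap.trace ℂ V (ρ (x ^ i)) = -1) : False := by
  have h1 := trace_eq_zero_of_dihedral ρ x u hx hux hdim htr
  have h2 : ρ u * ρ u = 1 := by rw [← map_mul, hu, map_one]
  have h3 := det_eq_neg_one_of_sq (ρ u) h2 h1 hdim
  have h4 := det_rep_eq_one hperf ρ u
  rw [h3] at h4
  norm_num at h4

end Cfsg.Agent.Lib.Helper4.Ord5040
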