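import Mathlib
import Cfsg.Agent.Lib.Helper9.BmB
import Cfsg.Agent.Lib.Helper6.BlkVanish
import Cfsg.Agent.Lib.Helper6.Regular
import Cfsg.Agent.Lib.Helper6.Multiplicity
import Cfsg.Agent.Lib.Helper4.Ord5040b
import Cfsg.Agent.Lib.Helper4.Ord5040c

/-! There is no simple group of order `5040`. -/

set_option autoImplicit false
set_option linter.unusedSectionVars false
set_option linter.unusedVariables false
set_option linter.style.longLine false
set_option linter.unusedSimpArgs false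

set_option maxHeartbeats 1600000

namespace Cfsg.Agent.Lib.Helper4.Ord5040

open Cfsg Cfsg.Agent.Lib.Helper6 Cfsg.Agent.Lib.Helper9.Bm
open scoped commutatorElement
open Cfsg.Agent.Lib.Lead Cfsg.Agent.Lib.Lead.SylowCount Cfsg.Agent.Lib.Lead.SmallSimple2
  Cfsg.Agent.Lib.Helper7.CountTools Cfsg.Agent.Lib.Helper7.SylPar

/-- the admissible degrees -/
def Adm (d : ℕ) : Prop :=
  d = 1 ∨ d = 6 ∨ d = 7 ∨ d = 8 ∨ d = 14 ∨ d = 15 ∨ d = 20 ∨ d = 21 ∨ d = 28 ∨ d = 35 ∨ d = 36 ∨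
    d = 42 ∨ d = 48 ∨ d = 56 ∨ d = 63 ∨ d = 70

theorem deg_cases (d : ℕ) (h1 : d ∣ 5040) (h2 : d * d ≤ 5040)
    (h3 : d % 7 = 0 ∨ d % 7 = 1 ∨ d % 7 = 6) : Adm d := by
  unfold Adm
  have h4 : d ≤ 70 := by nlinarith
  interval_cases d <;> omega

theorem arith_two (a b : ℕ) (ε ε' : ℤ) (ha : Adm a) (hb : Adm b) (ha1 : a ≠ 1)
    (hε : ε = 1 ∨ ε = -1) (hε' : ε' = 1 ∨ ε' = -1)
    (h1 : (a : ℤ) ≡ ε' [ZMOD 5]) (h2 : (b : ℤ) ≡ ε * 2 [ZMOD 5])
    (h3 : ε * b = 1 + ε' * a) : a = 6 := by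
  unfold Adm at ha hb
  unfold Int.ModEq at h1 h2
  rcases hε with rfl | rfl <;> rcases hε' with rfl | rfl <;>
    rcases ha with rfl | rfl | rfl | rfl | rfl | rfl | rfl | rfl | rfl | rfl | rfl | rfl | rfl |
      rfl | rfl | rfl <;> omega

theorem arith_four {ι : Type*} [DecidableEq ι] (T : Finset ι) (σ : ι → ℤ) (d : ι → ℕ)
    (hT : T.card = 5) (hd : ∀ i ∈ T, Adm (d i))
    (hσ : ∀ i ∈ T, σ i = (d i : ℤ) ∨ σ i = -(d i : ℤ)) (h5 : ∀ i ∈ T, σ i % 5 = 1)
    (i0 : ι) (hi0 : i0 ∈ T) (h0 : σ i0 = 1) (hsum : ∑ i ∈ T, σ i = 0) : ∃ i ∈ T, d i = 6 := by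
  by_contra hno
  push Not at hno
  have h7 : ∀ i ∈ T, σ i % 7 = 0 ∨ σ i % 7 = 1 := by
    intro i hi
    have h1 := hd i hi
    have h2 := hσ i hi
    have h3 := h5 i hi
    have h4 := hno i hi
    unfold Adm at h1
    rcases h1 with h1 | h1 | h1 | h1 | h1 | h1 | h1 | h1 | h1 | h1 | h1 | h1 | h1 | h1 | h1 | h1 <;>
      rcases h2 with h2 | h2 <;> omega
  have hle : ∑ i ∈ T, σ i % 7 ≤ 5 := by
    have := Finset.sum_le_card_nsmul T (fun i => σ i % 7) 1 (fun i hi => by
      rcases h7 i hi with h | h <;> omega)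
    rw [hT] at this
    simpa using this
  have hge : 1 ≤ ∑ i ∈ T, σ i % 7 := by
    have := Finset.single_le_sum (f := fun i => σ i % 7) (fun i hi => by
      rcases h7 i hi with h | h <;> omega) hi0
    simp only [h0] at this
    omega
  have hmod := Finset.sum_int_mod T 7 σ
  rw [hsum] at hmod
  omega

section main

variable {G : Type*} [Group G] [Fintype G]

theorem exists_deg_six [IsSimpleGroup G] (hG : Nat.card G = 5040)
    (hna : ∃ a b : G, a * b ≠ b * a)
    (hAdm : ∀ χ : Cfsg.IrrCharacter G, Adm (Cfsg.charDegree (χ : G → ℂ))) :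
    ∃ χ : Cfsg.IrrCharacter G, Cfsg.charDegree (χ : G → ℂ) = 6 := by
  classical
  haveI : Fact (Nat.Prime 5) := ⟨by norm_num⟩
  have hc5 : ∀ P : Sylow 5 G, Nat.card P = 5 := fun P =>
    card_sylow_of_card_eq 5 1008 (by omega) (by norm_num) P
  obtain ⟨m, k, hC, hN, hk, hk1, hprod, hmod, hn1⟩ := exists_data (G := G) 5 hc5 (by omega)
  obtain ⟨P⟩ : Nonempty (Sylow 5 G) := inferInstance
  have hP := hc5 P
  have hm0 : 0 < 5 * m := by
    rw [← hC P]; exact Nat.card_pos
  have he : (Subgroup.centralizer ((P : Subgroup G) : Set G)).relIndex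
      (Subgroup.normalizer ((P : Subgroup G) : Set G)) = k := by
    have h1 := card_mul_relIndex (Subgroup.centralizer_le_normalizer ((P : Subgroup G) : Set G))
    rw [hC P, hN P] at h1
    exact Nat.eq_of_mul_eq_mul_left hm0 h1
  have hk' : k = 2 ∨ k = 4 := by
    have h1 : k ≤ 4 := Nat.le_of_dvd (by norm_num) hk
    interval_cases k
    · simp at hk
    · exact absurd rfl hk1
    · left; rfl
    · norm_num at hk
    · right; rfl
  obtain ⟨M5, hM5⟩ := exists_isPModular 5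
  obtain ⟨X, Y, hXY, hdisj, hX, hY, εX, ε, hXprop, hε, hYdeg, hYagree, hYrel⟩ :=
    Cfsg.Agent.S4441.result 5 M5 hM5 (by norm_num) P hP k he
  haveI : Fintype (Cfsg.IrrCharacter G) := Fintype.ofFinite _
  obtain ⟨XF, hXFdef⟩ : ∃ XF : Finset (Cfsg.IrrCharacter G),
      XF = Finset.univ.filter (fun χ => χ ∈ X) := ⟨_, rfl⟩
  obtain ⟨YF, hYFdef⟩ : ∃ YF : Finset (Cfsg.IrrCharacter G),
      YF = Finset.univ.filter (fun χ => χ ∈ Y) := ⟨_, rfl⟩
  have hXF : ∀ χ, χ ∈ XF ↔ χ ∈ X := by intro χ; rw [hXFdef]; simp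
  have hYF : ∀ χ, χ ∈ YF ↔ χ ∈ Y := by intro χ; rw [hYFdef]; simp
  have hXFset : (XF : Set (Cfsg.IrrCharacter G)) = X := by ext χ; exact hXF χ
  have hXFcard : XF.card = k := by
    rw [← hX, Nat.card_eq_fintype_card, Fintype.card_subtype, hXFdef]
  have hYFcard : YF.card = 4 / k := by
    rw [← hY, Nat.card_eq_fintype_card, Fintype.card_subtype, hYFdef]
  have hdisjF : Disjoint XF YF := by
    rw [Finset.disjoint_left]
    intro χ h1 h2
    exact (Set.disjoint_left.mp hdisj ((hXF χ).mp h1)) ((hYF χ).mp h2)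
  obtain ⟨d, hd⟩ : ∃ d : Cfsg.IrrCharacter G → ℕ,
      d = fun χ : Cfsg.IrrCharacter G => Cfsg.charDegree (χ : G → ℂ) := ⟨_, rfl⟩
  have hd' : ∀ χ : Cfsg.IrrCharacter G, Cfsg.charDegree (χ : G → ℂ) = d χ := by
    intro χ; rw [hd]
  have hone : ∀ χ : Cfsg.IrrCharacter G, (χ : G → ℂ) 1 = (d χ : ℂ) := by
    intro χ
    rw [← hd']
    exact IsCharacter.apply_one_eq_charDegree (IsIrrCharacter.isCharacter χ.2)
  have hAdm' : ∀ χ : Cfsg.IrrCharacter G, Adm (d χ) := by
    intro χ; rw [← hd']; exact hAdm χ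
  have h1B : oneIrr G ∈ X ∪ Y := by
    rw [← hXY]; exact oneIrr_mem_principalBlock hM5
  have hd1 : d (oneIrr G) = 1 := by
    have := hone (oneIrr G)
    have h2 : ((oneIrr G : Cfsg.IrrCharacter G) : G → ℂ) 1 = 1 := rfl
    rw [h2] at this
    exact_mod_cast this.symm
  have huniq1 : ∀ χ, χ ∈ X ∪ Y → d χ = 1 → χ = oneIrr G := by
    intro χ hχ h1
    have h2 : (χ : G → ℂ) 1 = ((5 : ℕ) : ℂ) ^ 0 := by rw [hone, h1]; simp
    have h3 := Cfsg.Agent.S0910.result 5 M5 hM5 hna χ (by rw [hXY]; exact hχ) 0 h2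
    exact Subtype.ext h3
  have hrel : ∀ θ ∈ Y, ε * (d θ : ℤ) = ∑ χ ∈ XF, εX χ * (d χ : ℤ) := by
    intro θ hθ
    have h := hYrel θ hθ 1 (by rw [orderOf_one]; norm_num)
    rw [← hXFset, finsum_mem_coe_finset] at h
    have : ((ε * (d θ : ℤ) : ℤ) : ℂ) = ((∑ χ ∈ XF, εX χ * (d χ : ℤ) : ℤ) : ℂ) := by
      push_cast
      rw [← hone θ, h]
      apply Finset.sum_congr rfl
      intro χ _
      rw [hone]
    exact_mod_cast this
  have hXdeg : ∀ χ ∈ X, (εX χ = 1 ∨ εX χ = -1) ∧ (d χ : ℤ) ≡ εX χ [ZMOD 5] := by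
    intro χ hχ
    have := hXprop χ hχ
    rw [hd'] at this
    exact ⟨this.1, this.2.1⟩
  have hYdeg' : ∀ θ ∈ Y, (d θ : ℤ) ≡ ε * (k : ℤ) [ZMOD 5] := by
    intro θ hθ
    have := hYdeg θ hθ
    rw [hd'] at this
    exact this
  rcases hk' with rfl | rfl
  · -- `e = 2`
    have h1X : oneIrr G ∈ X := by
      rcases h1B with h | h
      · exact h
      · exfalso
        have h1 := hYdeg' _ h
        rw [hd1] at h1
        unfold Int.ModEq at h1
        rcases hε with rfl | rfl <;> omega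
    have hε1 : εX (oneIrr G) = 1 := by
      obtain ⟨h1, h2⟩ := hXdeg _ h1X
      rw [hd1] at h2
      unfold Int.ModEq at h2
      rcases h1 with h1 | h1
      · exact h1
      · rw [h1] at h2; omega
    obtain ⟨a, b, hab, hXab⟩ := Finset.card_eq_two.mp hXFcard
    have hYne : YF.Nonempty := by
      rw [← Finset.card_pos, hYFcard]; norm_num
    obtain ⟨θ, hθF⟩ := hYne
    have hθ : θ ∈ Y := (hYF θ).mp hθF
    have hr := hrel θ hθ
    rw [hXab, Finset.sum_pair hab] at hr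
    have h1ab : oneIrr G = a ∨ oneIrr G = b := by
      have : oneIrr G ∈ XF := (hXF _).mpr h1X
      rw [hXab] at this
      simpa using this
    have haX : a ∈ X := (hXF a).mp (by rw [hXab]; simp)
    have hbX : b ∈ X := (hXF b).mp (by rw [hXab]; simp)
    rcases h1ab with h | h
    · -- `a` is principal
      have hb1 : d b ≠ 1 := by
        intro h1
        have := huniq1 b (Or.inl hbX) h1
        exact hab (h.symm.trans this.symm)
      rw [← h, hε1, hd1] at hr
      obtain ⟨hs, hm⟩ := hXdeg b hbX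
      have h6 := arith_two (d b) (d θ) ε (εX b) (hAdm' b) (hAdm' θ) hb1 hε hs hm
        (by have := hYdeg' θ hθ; simpa using this) (by rw [hr]; push_cast; ring)
      exact ⟨b, by rw [hd', h6]⟩
    · have ha1 : d a ≠ 1 := by
        intro h1
        have := huniq1 a (Or.inl haX) h1
        exact hab (this.trans h)
      rw [← h, hε1, hd1] at hr
      obtain ⟨hs, hm⟩ := hXdeg a haX
      have h6 := arith_two (d a) (d θ) ε (εX a) (hAdm' a) (hAdm' θ) ha1 hε hs hm
        (by have := hYdeg' θ hθ; simpa using this) (by rw [hr]; push_cast; ring)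
      exact ⟨a, by rw [hd', h6]⟩
  · -- `e = 4`
    obtain ⟨θ, hYθ⟩ := Finset.card_eq_one.mp (by rw [hYFcard] : YF.card = 1)
    have hθ : θ ∈ Y := (hYF θ).mp (by rw [hYθ]; simp)
    have hθX : θ ∉ XF := by
      intro h
      exact Finset.disjoint_left.mp hdisjF h (by rw [hYθ]; simp)
    have hr := hrel θ hθ
    obtain ⟨σ, hσdef⟩ : ∃ σ : Cfsg.IrrCharacter G → ℤ,
        σ = fun χ => if χ ∈ XF then εX χ * (d χ : ℤ) else -(ε * (d χ : ℤ)) := ⟨_, rfl⟩
    have hσX : ∀ χ ∈ XF, σ χ = εX χ * (d χ : ℤ) := by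
      intro χ hχ; rw [hσdef]; simp [hχ]
    have hσθ : σ θ = -(ε * (d θ : ℤ)) := by
      rw [hσdef]; simp [hθX]
    have hT : (insert θ XF).card = 5 := by
      rw [Finset.card_insert_of_notMem hθX, hXFcard]
    have hsum : ∑ χ ∈ insert θ XF, σ χ = 0 := by
      rw [Finset.sum_insert hθX, hσθ, Finset.sum_congr rfl hσX, ← hr]
      ring
    have hmemT : ∀ χ, χ ∈ insert θ XF ↔ χ = θ ∨ χ ∈ X := by
      intro χ; rw [Finset.mem_insert, hXF]
    have hσ5 : ∀ χ ∈ insert θ XF, (σ χ = (d χ : ℤ) ∨ σ χ = -(d χ : ℤ)) ∧ σ χ % 5 = 1 := by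
      intro χ hχ
      rcases (hmemT χ).mp hχ with rfl | hχX
      · rw [hσθ]
        have h1 := hYdeg' _ hθ
        unfold Int.ModEq at h1
        rcases hε with rfl | rfl
        · refine ⟨Or.inr (by ring), ?_⟩
          push_cast at h1; omega
        · refine ⟨Or.inl (by ring), ?_⟩
          push_cast at h1; omega
      · rw [hσX χ ((hXF χ).mpr hχX)]
        obtain ⟨hs, hm⟩ := hXdeg χ hχX
        unfold Int.ModEq at hm
        rcases hs with hs | hs
        · rw [hs] at hm ⊢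
          refine ⟨Or.inl (by ring), ?_⟩
          omega
        · rw [hs] at hm ⊢
          refine ⟨Or.inr (by ring), ?_⟩
          omega
    have h1T : oneIrr G ∈ insert θ XF := by
      rw [hmemT]
      rcases h1B with h | h
      · right; exact h
      · left
        have : oneIrr G ∈ YF := (hYF _).mpr h
        rw [hYθ] at this
        simpa using this
    have hσ1 : σ (oneIrr G) = 1 := by
      obtain ⟨h1, h2⟩ := hσ5 _ h1T
      rw [hd1] at h1
      rcases h1 with h1 | h1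
      · rw [h1]; norm_num
      · rw [h1] at h2; omega
    obtain ⟨χ, _, hχ6⟩ := arith_four (insert θ XF) σ d hT (fun χ _ => hAdm' χ)
      (fun χ hχ => (hσ5 χ hχ).1) (fun χ hχ => (hσ5 χ hχ).2) (oneIrr G) h1T hσ1 hsum
    exact ⟨χ, by rw [hd', hχ6]⟩

theorem false_of_card [IsSimpleGroup G] (hG : Nat.card G = 5040) : False := by
  classical
  haveI : Fact (Nat.Prime 7) := ⟨by norm_num⟩
  have hncomm : ¬ IsMulCommutative G := not_comm hG
  have hna : ∃ a b : G, a * b ≠ b * a := by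
    by_contra hcomm
    push Not at hcomm
    exact hncomm ⟨⟨hcomm⟩⟩
  have hperf : commutator G = ⊤ := by
    rcases (inferInstance : (commutator G).Normal).eq_bot_or_eq_top with h | h
    · exfalso
      apply hncomm
      refine ⟨⟨fun a b => ?_⟩⟩
      have : ⁅a, b⁆ ∈ commutator G := Subgroup.commutator_mem_commutator
        (Subgroup.mem_top a) (Subgroup.mem_top b)
      rw [h, Subgroup.mem_bot] at this
      exact commutatorElement_eq_one_iff_mul_comm.mp this
    · exact h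
  obtain ⟨hn7, hC7, hN7⟩ := sylow7_data hG
  obtain ⟨P⟩ : Nonempty (Sylow 7 G) := inferInstance
  have hP : Nat.card (P : Subgroup G) = 7 := card7 hG P
  have hC : Subgroup.centralizer ((P : Subgroup G) : Set G) = (P : Subgroup G) :=
    (Subgroup.eq_of_le_of_card_ge (sylow_le_centralizer P hP) (by rw [hC7 P, hP])).symm
  have he : (Subgroup.centralizer ((P : Subgroup G) : Set G)).relIndex
      (Subgroup.normalizer ((P : Subgroup G) : Set G)) = 7 - 1 := by
    have h1 := card_mul_relIndex (Subgroup.centralizer_le_normalizer ((P : Subgroup G) : Set G))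
    rw [hC7 P, hN7 P] at h1
    omega
  obtain ⟨M7, hM7⟩ := exists_isPModular 7
  obtain ⟨δ, hcard, hprops, hsum⟩ := brauer_full 7 M7 hM7 (by norm_num) P hP he
  have D : BData 7 M7 P δ := ⟨hP, hC, hcard, fun χ h => (hprops χ h).1,
    fun χ h => (hprops χ h).2.1, fun χ h => (hprops χ h).2.2, hsum⟩
  haveI : Fintype (Cfsg.IrrCharacter G) := Fintype.ofFinite _
  have hone : ∀ χ : Cfsg.IrrCharacter G,
      (χ : G → ℂ) 1 = (Cfsg.charDegree (χ : G → ℂ) : ℂ) := fun χ =>
    IsCharacter.apply_one_eq_charDegree (IsIrrCharacter.isCharacter χ.2)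
  have hsq : ∀ χ : Cfsg.IrrCharacter G,
      Cfsg.charDegree (χ : G → ℂ) * Cfsg.charDegree (χ : G → ℂ) ≤ 5040 := by
    intro χ
    have h1 := sum_sq_degree (G := G)
    rw [hG] at h1
    have h2 : ∑ ψ : Cfsg.IrrCharacter G, Cfsg.charDegree (ψ : G → ℂ) ^ 2 = 5040 := by
      have : ((∑ ψ : Cfsg.IrrCharacter G, Cfsg.charDegree (ψ : G → ℂ) ^ 2 : ℕ) : ℂ)
          = ((5040 : ℕ) : ℂ) := by
        push_cast
        push_cast at h1
        rw [← h1]
        apply Finset.sum_congr rfl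
        intro ψ _
        rw [hone]
      exact_mod_cast this
    have h3 := Finset.single_le_sum (f := fun ψ : Cfsg.IrrCharacter G =>
      Cfsg.charDegree (ψ : G → ℂ) ^ 2) (fun _ _ => Nat.zero_le _) (Finset.mem_univ χ)
    rw [h2, pow_two] at h3
    exact h3
  have hmod7 : ∀ χ : Cfsg.IrrCharacter G, Cfsg.charDegree (χ : G → ℂ) % 7 = 0 ∨
      Cfsg.charDegree (χ : G → ℂ) % 7 = 1 ∨ Cfsg.charDegree (χ : G → ℂ) % 7 = 6 := by
    intro χ
    by_cases hχ : χ ∈ Cfsg.principalBlock M7 G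
    · have h1 := D.deg χ hχ
      unfold Int.ModEq at h1
      rcases D.sign χ hχ with h | h
      · rw [h] at h1; right; left; omega
      · rw [h] at h1; right; right; omega
    · left
      exact Nat.mod_eq_zero_of_dvd (D.dvd_deg χ hχ)
  have hAdm : ∀ χ : Cfsg.IrrCharacter G, Adm (Cfsg.charDegree (χ : G → ℂ)) := by
    intro χ
    apply deg_cases
    · rw [← hG]; exact IsIrrCharacter.charDegree_dvd_card χ.2
    · exact hsq χ
    · exact hmod7 χ
  obtain ⟨χ, hχ6⟩ := exists_deg_six hG hna hAdm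
  have hχB : χ ∈ Cfsg.principalBlock M7 G := by
    by_contra h
    have := D.dvd_deg χ h
    rw [hχ6] at this
    omega
  have hδ : δ χ = -1 := by
    have h1 := D.deg χ hχB
    rw [hχ6] at h1
    unfold Int.ModEq at h1
    rcases D.sign χ hχB with h | h
    · rw [h] at h1; omega
    · exact h
  obtain ⟨n, ρ, hirr, hρ⟩ := χ.2
  have hn : Module.finrank ℂ (Fin n → ℂ) = 6 := by
    have h1 : ρ.character 1 = ((6 : ℕ) : ℂ) := by rw [hρ, hone χ, hχ6]
    rw [Representation.char_one] at h1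
    exact_mod_cast h1
  obtain ⟨x, hxP, hxo⟩ := PB.exists_gen P hP
  have hxmem : x ∈ (P : Subgroup G) := by rw [hxP]; exact Subgroup.mem_zpowers x
  have hx7 : x ^ 7 = 1 := by rw [← hxo]; exact pow_orderOf_eq_one x
  obtain ⟨u, huN, hu2, hu1⟩ := exists_involution
    (Subgroup.normalizer ((P : Subgroup G) : Set G)) (by rw [hN7 P]; norm_num)
  have huC : u ∉ Subgroup.centralizer ((P : Subgroup G) : Set G) := by
    intro h
    apply hu1
    exact eq_one_of_sq_of_odd (by rw [hC7 P]; decide) hu2 h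
  have hux := inverts_of_involution P hP hu2 huN huC hxmem
  apply no_rep6 hperf ρ hn x u hx7 hu2 hux
  intro i hi1 hi7
  have h1 : x ^ i ∈ (P : Subgroup G) := Subgroup.pow_mem _ hxmem i
  have h2 : x ^ i ≠ 1 := pow_ne_one_of_lt_orderOf (by omega) (by rw [hxo]; exact hi7)
  have h3 := D.val χ hχB (x ^ i) h1 h2
  rw [hδ, ← hρ] at h3
  rw [show LinearMap.trace ℂ (Fin n → ℂ) (ρ (x ^ i)) = ρ.character (x ^ i) from rfl, h3]
  norm_num

end main

end Cfsg.Agent.Lib.Helper4.Ord5040
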