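import Mathlib
import Cfsg.Prelude.Def_Solvable
import Cfsg.Agent.Lib.Helper2.FrobCompA
set_option autoImplicit false
set_option maxHeartbeats 1000000
set_option linter.unusedVariables false
set_option linter.unusedSectionVars false
set_option linter.style.longLine false
set_option linter.unusedSimpArgs false
set_option linter.deprecated false
set_option linter.style.haveILetI false
open scoped commutatorElement Pointwise
universe u v

/-! Frobenius complements (not necessarily solvable) have the property `FCP` of helper2's library: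
abelian subgroups are cyclic and an element of prime order normalizing a subgroup of another
prime order centralizes it. -/

namespace Cfsg.Agent.Lib.Helper4.Fc

open Cfsg Cfsg.Agent.Lib.Helper2.FrobComp

/-- a group generated by a normalized cyclic subgroup and a cyclic subgroup is solvable -/
theorem solvable_sup_zpowers {L : Type*} [Group L] [Finite L] (x y : L)
    (hnorm : x * y * x⁻¹ ∈ Subgroup.zpowers y) :
    Group.IsSolvable ↥(Subgroup.zpowers y ⊔ Subgroup.zpowers x) := by
  set Y := Subgroup.zpowers y with hY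
  set X := Subgroup.zpowers x with hX
  set B := Y ⊔ X with hB
  have hxN : x ∈ Subgroup.normalizer (Y : Set L) := by
    apply Cfsg.Agent.Lib.Helper1.mem_normalizer_of_conj_smul_eq
    have h1 : MulAut.conj x • Y = Subgroup.zpowers (x * y * x⁻¹) := by
      rw [hY, Cfsg.Agent.Lib.Helper1.conj_smul_eq_map, MonoidHom.map_zpowers]
      rfl
    have h2 : MulAut.conj x • Y ≤ Y := by
      rw [h1, Subgroup.zpowers_le]; exact hnorm
    exact Subgroup.eq_of_le_of_card_ge h2 (by rw [Cfsg.Agent.Lib.Helper1.card_conj_smul])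
  have hBN : B ≤ Subgroup.normalizer (Y : Set L) := by
    rw [hB]
    apply sup_le
    · exact Subgroup.le_normalizer
    · rw [hX, Subgroup.zpowers_le]; exact hxN
  have hYB : Y ≤ B := le_sup_left
  have hXB : X ≤ B := le_sup_right
  haveI hYn : (Y.subgroupOf B).Normal := Subgroup.normal_subgroupOf_of_le_normalizer hBN
  -- the quotient is cyclic
  have htop : (X.subgroupOf B).map (QuotientGroup.mk' (Y.subgroupOf B)) = ⊤ := by
    have h1 : (X.subgroupOf B) ⊔ (Y.subgroupOf B) = ⊤ := by
      rw [← Subgroup.subgroupOf_sup hXB hYB, sup_comm, ← hB, Subgroup.subgroupOf_self]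
    have h2 : ((X.subgroupOf B) ⊔ (Y.subgroupOf B)).map (QuotientGroup.mk' (Y.subgroupOf B)) = ⊤ := by
      rw [h1, ← MonoidHom.range_eq_map, MonoidHom.range_eq_top]
      exact QuotientGroup.mk'_surjective _
    rw [Subgroup.map_sup] at h2
    have h3 : (Y.subgroupOf B).map (QuotientGroup.mk' (Y.subgroupOf B)) = ⊥ := by
      rw [Subgroup.map_eq_bot_iff, QuotientGroup.ker_mk']
    rw [h3, sup_bot_eq] at h2
    exact h2
  -- the quotient is commutative
  have hcomm : ∀ a b : ↥B ⧸ Y.subgroupOf B, a * b = b * a := by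
    intro a b
    have ha : a ∈ (X.subgroupOf B).map (QuotientGroup.mk' (Y.subgroupOf B)) := by
      rw [htop]; exact Subgroup.mem_top a
    have hb : b ∈ (X.subgroupOf B).map (QuotientGroup.mk' (Y.subgroupOf B)) := by
      rw [htop]; exact Subgroup.mem_top b
    obtain ⟨a', ha', rfl⟩ := ha
    obtain ⟨b', hb', rfl⟩ := hb
    rw [← map_mul, ← map_mul]
    congr 1
    have ha'' : (a' : L) ∈ X := Subgroup.mem_subgroupOf.mp ha'
    have hb'' : (b' : L) ∈ X := Subgroup.mem_subgroupOf.mp hb'
    obtain ⟨i, hi⟩ := Subgroup.mem_zpowers_iff.mp ha''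
    obtain ⟨j, hj⟩ := Subgroup.mem_zpowers_iff.mp hb''
    apply Subtype.ext
    rw [Subgroup.coe_mul, Subgroup.coe_mul, ← hi, ← hj, ← zpow_add, ← zpow_add, add_comm]
  haveI : Group.IsSolvable (↥B ⧸ Y.subgroupOf B) := Group.isSolvable_of_comm hcomm
  haveI : Group.IsSolvable ↥(Y.subgroupOf B) := by
    apply Group.isSolvable_of_comm
    intro a b
    obtain ⟨i, hi⟩ := Subgroup.mem_zpowers_iff.mp (Subgroup.mem_subgroupOf.mp a.2)
    obtain ⟨j, hj⟩ := Subgroup.mem_zpowers_iff.mp (Subgroup.mem_subgroupOf.mp b.2)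
    apply Subtype.ext
    apply Subtype.ext
    rw [Subgroup.coe_mul, Subgroup.coe_mul, Subgroup.coe_mul, Subgroup.coe_mul, ← hi, ← hj,
      ← zpow_add, ← zpow_add, add_comm]
  apply Group.isSolvable_of_ker_le_range (Y.subgroupOf B).subtype (QuotientGroup.mk' (Y.subgroupOf B))
  rw [QuotientGroup.ker_mk', Subgroup.range_subtype]

/-- a Frobenius complement has property `FCP` (no solvability assumption) -/
theorem fcp_of_frobenius_gen {G : Type*} [Group G] [Finite G]
    {L : Type u} [Group L] [Finite L] (H : Subgroup L) (hH : Cfsg.IsFrobeniusComplement H)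
    (e : G ≃* H) : FCP G := by
  obtain ⟨N, hN, hNn, hc⟩ := Cfsg.Agent.Lib.Helper1.frobenius_theorem H hH
  haveI := hNn
  have hNne : N ≠ ⊥ := by
    intro hb
    rw [hb] at hc
    exact hH.2.1 (Subgroup.isComplement'_bot_left.mp hc)
  have hfpf := (Cfsg.Agent.Lib.Helper1.frobenius_iff_fpf N H hc hNne hH.1).mp hH
  have hHN : H ≤ Subgroup.normalizer (N : Set L) := by
    rw [Subgroup.normalizer_eq_top_iff.mpr hNn]; exact le_top
  refine ⟨?_, ?_⟩
  · intro A hA
    haveI := hA
    set A1 : Subgroup ↥H := A.map e.toMonoidHom with hA1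
    set A' : Subgroup L := A1.map H.subtype with hA'
    haveI : IsMulCommutative ↥A1 := Subgroup.map_isMulCommutative A e.toMonoidHom
    haveI : IsMulCommutative ↥A' := Subgroup.map_isMulCommutative A1 H.subtype
    have hA'H : A' ≤ H := Subgroup.map_subtype_le _
    have hA'N : A' ≤ Subgroup.normalizer (N : Set L) := hA'H.trans hHN
    have hfpf' : ∀ a ∈ A', a ≠ 1 → N ⊓ Subgroup.centralizer {a} = ⊥ :=
      fun a ha ha1 => hfpf a (hA'H ha) ha1
    have hcop := Cfsg.Agent.Lib.Helper1.coprime_of_fpf A' N hA'N hfpf'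
    haveI hA'sol : Group.IsSolvable ↥A' :=
      Group.isSolvable_of_comm (fun a b => mul_comm' a b)
    obtain ⟨V, hVne, hVN, hVc, hA'V⟩ :=
      Cfsg.Agent.Lib.Helper1.exists_invariant_abelian_of_coprime A' N hNne hA'N hcop
        (Or.inl hA'sol)
    haveI := hVc
    have hfpfV : ∀ a ∈ A', a ≠ 1 → V ⊓ Subgroup.centralizer {a} = ⊥ := by
      intro a ha ha1
      rw [eq_bot_iff, ← hfpf' a ha ha1]
      exact inf_le_inf_right _ hVN
    haveI : IsCyclic ↥A' :=
      Cfsg.Agent.Lib.Helper1.fpf_on_abelian_cyclic A' V hVne hA'V hfpfV (Or.inl inferInstance)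
    have e1 : ↥A ≃* ↥A1 := Subgroup.equivMapOfInjective A e.toMonoidHom e.injective
    have e2 : ↥A1 ≃* ↥A' := Subgroup.equivMapOfInjective A1 H.subtype H.subtype_injective
    exact (e1.trans e2).isCyclic.mpr inferInstance
  · intro p q x y hp hq hpq hx hy hmem
    set x' : L := ((e x : ↥H) : L) with hx'
    set y' : L := ((e y : ↥H) : L) with hy'
    have hx'o : orderOf x' = p := by
      rw [hx', Subgroup.orderOf_coe, MulEquiv.orderOf_eq]; exact hx
    have hy'o : orderOf y' = q := by
      rw [hy', Subgroup.orderOf_coe, MulEquiv.orderOf_eq]; exact hy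
    have hmem' : x' * y' * x'⁻¹ ∈ Subgroup.zpowers y' := by
      obtain ⟨k, hk⟩ := Subgroup.mem_zpowers_iff.mp hmem
      rw [Subgroup.mem_zpowers_iff]
      refine ⟨k, ?_⟩
      have h1 : e (y ^ k) = e (x * y * x⁻¹) := by rw [hk]
      have h2 := congrArg Subtype.val h1
      simpa [hx', hy'] using h2
    set B : Subgroup L := Subgroup.zpowers y' ⊔ Subgroup.zpowers x' with hB
    have hBsol : Group.IsSolvable ↥B := solvable_sup_zpowers x' y' hmem'
    have hBH : B ≤ H := by
      rw [hB]
      apply sup_le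
      · rw [Subgroup.zpowers_le]; exact (e y).2
      · rw [Subgroup.zpowers_le]; exact (e x).2
    have hxB : x' ∈ B := (le_sup_right : Subgroup.zpowers x' ≤ B) (Subgroup.mem_zpowers x')
    have hyB : y' ∈ B := (le_sup_left : Subgroup.zpowers y' ≤ B) (Subgroup.mem_zpowers y')
    have hcom := Cfsg.Agent.Lib.Helper1.fpf_prime_order_commute B N hNne (hBH.trans hHN)
      (fun h hh hh1 => hfpf h (hBH hh) hh1) hBsol hp hq hpq hyB hxB hy'o hx'o hmem'
    apply e.injective
    apply Subtype.ext
    have : ((e (x * y) : ↥H) : L) = x' * y' := by simp [hx', hy']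
    rw [this, hcom]
    simp [hx', hy']

/-- the statement form: a finite group occurring as a Frobenius complement has `FCP` -/
theorem fcp_of_hFC {G : Type*} [Group G] [Finite G]
    (hFC : ∃ (L : Type) (_ : Group L) (_ : Finite L) (H : Subgroup L),
      Cfsg.IsFrobeniusComplement H ∧ Nonempty (G ≃* H)) : FCP G := by
  obtain ⟨L, _, _, H, hH, ⟨e⟩⟩ := hFC
  exact fcp_of_frobenius_gen H hH e

end Cfsg.Agent.Lib.Helper4.Fc
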