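import Mathlib
set_option autoImplicit false
set_option maxHeartbeats 1000000
set_option linter.unusedVariables false
set_option linter.unusedSectionVars false
set_option linter.style.longLine false
set_option linter.unusedSimpArgs false
set_option linter.deprecated false
set_option linter.style.haveILetI false
open scoped Pointwise
universe u v

/-! Normal subgroups with cyclic Sylow subgroups in `A4`, `S4`, `A5`, `S5` are trivial. -/

namespace Cfsg.Agent.Lib.Helper4.Fc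

/-- two commuting involutions of a finite group with cyclic Sylow subgroups coincide -/
theorem zgroup_comm_invol {Z : Type*} [Group Z] [Finite Z] [IsZGroup Z] {x y : Z}
    (hx : x * x = 1) (hy : y * y = 1) (hxy : x * y = y * x) (hx1 : x ≠ 1) (hy1 : y ≠ 1) :
    x = y := by
  classical
  haveI : Fact (Nat.Prime 2) := ⟨Nat.prime_two⟩
  have hX : IsPGroup 2 ↥(Subgroup.zpowers x) := by
    apply IsPGroup.of_card (n := 1)
    rw [Nat.card_zpowers, pow_one]
    exact orderOf_eq_prime (by rw [sq]; exact hx) hx1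
  have hY : IsPGroup 2 ↥(Subgroup.zpowers y) := by
    apply IsPGroup.of_card (n := 1)
    rw [Nat.card_zpowers, pow_one]
    exact orderOf_eq_prime (by rw [sq]; exact hy) hy1
  have hle : Subgroup.zpowers x ≤ Subgroup.normalizer ((Subgroup.zpowers y : Subgroup Z) : Set Z) := by
    rw [Subgroup.zpowers_le]
    apply Subgroup.centralizer_le_normalizer
    rw [Subgroup.mem_centralizer_iff]
    intro z hz
    obtain ⟨k, rfl⟩ := Subgroup.mem_zpowers_iff.mp hz
    exact ((Commute.zpow_right (show Commute x y from hxy) k).eq).symm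
  have hA : IsPGroup 2 ↥(Subgroup.zpowers x ⊔ Subgroup.zpowers y) :=
    IsPGroup.to_sup_of_normal_right' hX hY hle
  haveI hcyc : IsCyclic ↥(Subgroup.zpowers x ⊔ Subgroup.zpowers y) :=
    IsPGroup.isCyclic_of_isZGroup hA
  set A := Subgroup.zpowers x ⊔ Subgroup.zpowers y with hAdef
  have hxA : x ∈ A := (le_sup_left : Subgroup.zpowers x ≤ A) (Subgroup.mem_zpowers x)
  have hyA : y ∈ A := (le_sup_right : Subgroup.zpowers y ≤ A) (Subgroup.mem_zpowers y)
  haveI : Fintype ↥A := Fintype.ofFinite _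
  have hcard := IsCyclic.card_pow_eq_one_le (α := ↥A) (n := 2) (by norm_num)
  by_contra hne
  have hsub : ({1, ⟨x, hxA⟩, ⟨y, hyA⟩} : Finset ↥A) ⊆ Finset.univ.filter (fun a : ↥A => a ^ 2 = 1) := by
    intro a ha
    simp only [Finset.mem_insert, Finset.mem_singleton] at ha
    rw [Finset.mem_filter]
    refine ⟨Finset.mem_univ _, ?_⟩
    rcases ha with rfl | rfl | rfl
    · simp
    · apply Subtype.ext; simp [sq, hx]
    · apply Subtype.ext; simp [sq, hy]
  have h3 : ({1, ⟨x, hxA⟩, ⟨y, hyA⟩} : Finset ↥A).card = 3 := by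
    rw [Finset.card_insert_of_notMem, Finset.card_insert_of_notMem, Finset.card_singleton]
    · simp only [Finset.mem_singleton]
      intro h; exact hne (congrArg Subtype.val h)
    · simp only [Finset.mem_insert, Finset.mem_singleton]
      rintro (h | h)
      · exact hx1 (congrArg Subtype.val h).symm
      · exact hy1 (congrArg Subtype.val h).symm
  have := Finset.card_le_card hsub
  omega

/-- the double transposition `(0 1)(2 3)` of degree 4 -/
abbrev dA : Equiv.Perm (Fin 4) := Equiv.swap 0 1 * Equiv.swap 2 3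
/-- the double transposition `(0 2)(1 3)` of degree 4 -/
abbrev dB : Equiv.Perm (Fin 4) := Equiv.swap 0 2 * Equiv.swap 1 3
/-- the double transposition `(0 1)(2 3)` of degree 5 -/
abbrev eA : Equiv.Perm (Fin 5) := Equiv.swap 0 1 * Equiv.swap 2 3
/-- the double transposition `(0 2)(1 3)` of degree 5 -/
abbrev eB : Equiv.Perm (Fin 5) := Equiv.swap 0 2 * Equiv.swap 1 3

set_option maxRecDepth 100000 in
theorem four_conj : ∀ g : Equiv.Perm (Fin 4), g ≠ 1 →
    ∃ h₁ h₂ : Equiv.Perm (Fin 4), Equiv.Perm.sign h₁ = 1 ∧ Equiv.Perm.sign h₂ = 1 ∧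
      (h₁ * g * h₁⁻¹ * (h₂ * g * h₂⁻¹) = dA ∨ h₁ * g * h₁⁻¹ * (h₂ * g⁻¹ * h₂⁻¹) = dA) := by
  decide

set_option maxRecDepth 100000 in
theorem four_conj' : ∃ c : Equiv.Perm (Fin 4), Equiv.Perm.sign c = 1 ∧ c * dA * c⁻¹ = dB := by
  decide

theorem dA_sq : dA * dA = 1 := by decide
theorem dB_sq : dB * dB = 1 := by decide
theorem dAB_comm : dA * dB = dB * dA := by decide
theorem dA_ne : dA ≠ 1 := by decide
theorem dB_ne : dB ≠ 1 := by decide
theorem dAB_ne : dA ≠ dB := by decide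
theorem eA_sq : eA * eA = 1 := by decide
theorem eB_sq : eB * eB = 1 := by decide
theorem eAB_comm : eA * eB = eB * eA := by decide
theorem eA_ne : eA ≠ 1 := by decide
theorem eB_ne : eB ≠ 1 := by decide
theorem eAB_ne : eA ≠ eB := by decide

theorem no_normal_z_S4 (Z : Subgroup (Equiv.Perm (Fin 4))) [hZn : Z.Normal] [IsZGroup ↥Z] :
    Z = ⊥ := by
  by_contra hne
  obtain ⟨⟨g, hgZ⟩, hg⟩ := (Subgroup.ne_bot_iff_exists_ne_one).mp hne
  have hg1 : g ≠ 1 := fun h => hg (Subtype.ext h)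
  obtain ⟨h₁, h₂, -, -, hAB⟩ := four_conj g hg1
  have hdA : dA ∈ Z := by
    rcases hAB with h | h
    · rw [← h]
      exact Z.mul_mem (hZn.conj_mem g hgZ h₁) (hZn.conj_mem g hgZ h₂)
    · rw [← h]
      exact Z.mul_mem (hZn.conj_mem g hgZ h₁) (hZn.conj_mem g⁻¹ (Z.inv_mem hgZ) h₂)
  obtain ⟨c, -, hc⟩ := four_conj'
  have hdB : dB ∈ Z := by
    rw [← hc]; exact hZn.conj_mem dA hdA c
  have := zgroup_comm_invol (Z := ↥Z) (x := ⟨dA, hdA⟩) (y := ⟨dB, hdB⟩)
    (Subtype.ext dA_sq) (Subtype.ext dB_sq) (Subtype.ext dAB_comm)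
    (fun h => dA_ne (congrArg Subtype.val h))
    (fun h => dB_ne (congrArg Subtype.val h))
  exact dAB_ne (congrArg Subtype.val this)

theorem no_normal_z_A4 (Z : Subgroup ↥(alternatingGroup (Fin 4))) [hZn : Z.Normal] [IsZGroup ↥Z] :
    Z = ⊥ := by
  by_contra hne
  obtain ⟨⟨g, hgZ⟩, hg⟩ := (Subgroup.ne_bot_iff_exists_ne_one).mp hne
  have hg1 : g ≠ 1 := fun h => hg (Subtype.ext h)
  have hg1' : (g : Equiv.Perm (Fin 4)) ≠ 1 := fun h => hg1 (Subtype.ext h)
  obtain ⟨h₁, h₂, hs₁, hs₂, hAB⟩ := four_conj (g : Equiv.Perm (Fin 4)) hg1'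
  set k₁ : ↥(alternatingGroup (Fin 4)) := ⟨h₁, Equiv.Perm.mem_alternatingGroup.mpr hs₁⟩ with hk₁
  set k₂ : ↥(alternatingGroup (Fin 4)) := ⟨h₂, Equiv.Perm.mem_alternatingGroup.mpr hs₂⟩ with hk₂
  have hdAm : dA ∈ alternatingGroup (Fin 4) := by
    rw [Equiv.Perm.mem_alternatingGroup]; decide
  have hdBm : dB ∈ alternatingGroup (Fin 4) := by
    rw [Equiv.Perm.mem_alternatingGroup]; decide
  have hdA : (⟨dA, hdAm⟩ : ↥(alternatingGroup (Fin 4))) ∈ Z := by
    rcases hAB with h | h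
    · have : (⟨dA, hdAm⟩ : ↥(alternatingGroup (Fin 4))) = k₁ * g * k₁⁻¹ * (k₂ * g * k₂⁻¹) := by
        apply Subtype.ext
        simp only [Subgroup.coe_mul, Subgroup.coe_inv, hk₁, hk₂]
        exact h.symm
      rw [this]
      exact Z.mul_mem (hZn.conj_mem g hgZ k₁) (hZn.conj_mem g hgZ k₂)
    · have : (⟨dA, hdAm⟩ : ↥(alternatingGroup (Fin 4))) = k₁ * g * k₁⁻¹ * (k₂ * g⁻¹ * k₂⁻¹) := by
        apply Subtype.ext
        simp only [Subgroup.coe_mul, Subgroup.coe_inv, hk₁, hk₂]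
        exact h.symm
      rw [this]
      exact Z.mul_mem (hZn.conj_mem g hgZ k₁) (hZn.conj_mem g⁻¹ (Z.inv_mem hgZ) k₂)
  obtain ⟨c, hcs, hc⟩ := four_conj'
  set c' : ↥(alternatingGroup (Fin 4)) := ⟨c, Equiv.Perm.mem_alternatingGroup.mpr hcs⟩ with hc'
  have hdB : (⟨dB, hdBm⟩ : ↥(alternatingGroup (Fin 4))) ∈ Z := by
    have : (⟨dB, hdBm⟩ : ↥(alternatingGroup (Fin 4))) = c' * ⟨dA, hdAm⟩ * c'⁻¹ := by
      apply Subtype.ext
      simp only [Subgroup.coe_mul, Subgroup.coe_inv, hc']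
      exact hc.symm
    rw [this]; exact hZn.conj_mem _ hdA c'
  have := zgroup_comm_invol (Z := ↥Z) (x := ⟨⟨dA, hdAm⟩, hdA⟩) (y := ⟨⟨dB, hdBm⟩, hdB⟩)
    (Subtype.ext (Subtype.ext dA_sq)) (Subtype.ext (Subtype.ext dB_sq))
    (Subtype.ext (Subtype.ext dAB_comm))
    (fun h => dA_ne (congrArg (fun z : ↥Z => ((z : ↥(alternatingGroup (Fin 4))) : Equiv.Perm (Fin 4))) h))
    (fun h => dB_ne (congrArg (fun z : ↥Z => ((z : ↥(alternatingGroup (Fin 4))) : Equiv.Perm (Fin 4))) h))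
  exact dAB_ne (congrArg (fun z : ↥Z => ((z : ↥(alternatingGroup (Fin 4))) : Equiv.Perm (Fin 4))) this)

theorem no_normal_z_A5 (Z : Subgroup ↥(alternatingGroup (Fin 5))) [hZn : Z.Normal] [IsZGroup ↥Z] :
    Z = ⊥ := by
  by_contra hne
  haveI := alternatingGroup.isSimpleGroup_five
  have htop : Z = ⊤ := (hZn.eq_bot_or_eq_top).resolve_left hne
  have heAm : eA ∈ alternatingGroup (Fin 5) := by
    rw [Equiv.Perm.mem_alternatingGroup]; decide
  have heBm : eB ∈ alternatingGroup (Fin 5) := by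
    rw [Equiv.Perm.mem_alternatingGroup]; decide
  have hA : (⟨eA, heAm⟩ : ↥(alternatingGroup (Fin 5))) ∈ Z := by rw [htop]; exact Subgroup.mem_top _
  have hB : (⟨eB, heBm⟩ : ↥(alternatingGroup (Fin 5))) ∈ Z := by rw [htop]; exact Subgroup.mem_top _
  have := zgroup_comm_invol (Z := ↥Z) (x := ⟨⟨eA, heAm⟩, hA⟩) (y := ⟨⟨eB, heBm⟩, hB⟩)
    (Subtype.ext (Subtype.ext eA_sq)) (Subtype.ext (Subtype.ext eB_sq))
    (Subtype.ext (Subtype.ext eAB_comm))
    (fun h => eA_ne (congrArg (fun z : ↥Z => ((z : ↥(alternatingGroup (Fin 5))) : Equiv.Perm (Fin 5))) h))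
    (fun h => eB_ne (congrArg (fun z : ↥Z => ((z : ↥(alternatingGroup (Fin 5))) : Equiv.Perm (Fin 5))) h))
  exact eAB_ne (congrArg (fun z : ↥Z => ((z : ↥(alternatingGroup (Fin 5))) : Equiv.Perm (Fin 5))) this)

theorem no_normal_z_S5 (Z : Subgroup (Equiv.Perm (Fin 5))) [hZn : Z.Normal] [IsZGroup ↥Z] :
    Z = ⊥ := by
  by_contra hne
  have hnt : Nontrivial ↥Z := (Subgroup.nontrivial_iff_ne_bot Z).mpr hne
  have hle : alternatingGroup (Fin 5) ≤ Z :=
    Equiv.Perm.alternatingGroup_le_of_normal (by simp) hnt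
  have heAm : eA ∈ alternatingGroup (Fin 5) := by
    rw [Equiv.Perm.mem_alternatingGroup]; decide
  have heBm : eB ∈ alternatingGroup (Fin 5) := by
    rw [Equiv.Perm.mem_alternatingGroup]; decide
  have := zgroup_comm_invol (Z := ↥Z) (x := ⟨eA, hle heAm⟩) (y := ⟨eB, hle heBm⟩)
    (Subtype.ext eA_sq) (Subtype.ext eB_sq) (Subtype.ext eAB_comm)
    (fun h => eA_ne (congrArg Subtype.val h))
    (fun h => eB_ne (congrArg Subtype.val h))
  exact eAB_ne (congrArg Subtype.val this)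

end Cfsg.Agent.Lib.Helper4.Fc
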