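import Mathlib
set_option autoImplicit false
set_option maxHeartbeats 1000000
set_option linter.unusedVariables false
set_option linter.unusedSectionVars false
set_option linter.style.longLine false
set_option linter.unusedSimpArgs false
set_option linter.deprecated false
set_option linter.style.haveILetI false
open scoped Pointwise
universe u v

/-! Homomorphisms into groups of exponent two from a group whose Sylow 2-subgroup is cyclic or
generalized quaternion have a small image. -/

namespace Cfsg.Agent.Lib.Helper4.Fc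

theorem sq_one_pow {E : Type*} [Group E] {x : E} (hx : x * x = 1) (i : ℕ) :
    x ^ i = 1 ∨ x ^ i = x := by
  induction i with
  | zero => left; simp
  | succ k ih =>
    rcases ih with h | h
    · right; rw [pow_succ, h, one_mul]
    · left; rw [pow_succ, h, hx]

/-- every value of a homomorphism into a group of exponent two is taken on a fixed Sylow
`2`-subgroup -/
theorem exists_sylow_image {G : Type*} [Group G] [Finite G] {E : Type*} [Group E]
    (hE : ∀ x : E, x * x = 1) (F : G →* E) (Q : Sylow 2 G) (g : G) :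
    ∃ q ∈ (Q : Subgroup G), F g = F q := by
  haveI : Fact (Nat.Prime 2) := ⟨Nat.prime_two⟩
  have hcomm : ∀ x y : E, x * y = y * x := by
    intro x y
    have h1 := hE (x * y)
    have hx := hE x
    have hy := hE y
    calc x * y = x * y * (y * x * (y * x)) := by rw [hE (y * x), mul_one]
      _ = x * (y * y) * x * (y * x) := by group
      _ = y * x := by rw [hy, mul_one, hx, one_mul]
  obtain ⟨k, b, hb, hkb⟩ := Nat.exists_eq_two_pow_mul_odd (orderOf_pos g).ne'
  set g' := g ^ b with hg'
  have hFg' : F g' = F g := by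
    rw [hg', map_pow]
    obtain ⟨c, hc⟩ := hb
    rw [hc, pow_succ, pow_mul, sq, hE, one_pow, one_mul]
  have hg'o : g' ^ 2 ^ k = 1 := by
    rw [hg', ← pow_mul, mul_comm, ← hkb, pow_orderOf_eq_one]
  have hZ : IsPGroup 2 ↥(Subgroup.zpowers g') := by
    intro z
    obtain ⟨z, hz⟩ := z
    obtain ⟨i, rfl⟩ := Subgroup.mem_zpowers_iff.mp hz
    refine ⟨k, ?_⟩
    apply Subtype.ext
    simp only [Subgroup.coe_pow, Subgroup.coe_one]
    rw [← zpow_natCast, ← zpow_mul, mul_comm, zpow_mul, zpow_natCast, hg'o, one_zpow]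
  obtain ⟨Q', hQ'⟩ := hZ.exists_le_sylow
  obtain ⟨h, hh⟩ := MulAction.exists_smul_eq G Q' Q
  have hmem : g' ∈ (Q' : Subgroup G) := hQ' (Subgroup.mem_zpowers g')
  have hmem2 : h * g' * h⁻¹ ∈ (Q : Subgroup G) := by
    rw [← hh, Sylow.smul_def, Sylow.pointwise_smul_def]
    have hm := Subgroup.smul_mem_pointwise_smul g' (MulAut.conj h) (Q' : Subgroup G) hmem
    simpa [MulAut.smul_def, MulAut.conj_apply] using hm
  refine ⟨h * g' * h⁻¹, hmem2, ?_⟩
  rw [map_mul, map_mul, map_inv, hcomm (F h) (F g'), mul_assoc, mul_inv_cancel, mul_one, hFg']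

theorem card_range_le_of_finset {G : Type*} [Group G] {E : Type*} [Group E] [DecidableEq E]
    (F : G →* E) (S : Finset E) (hS : ∀ g : G, F g ∈ S) : Nat.card ↥F.range ≤ S.card := by
  have h1 : ((F.range : Subgroup E) : Set E) ⊆ (S : Set E) := by
    rintro _ ⟨g, rfl⟩
    exact hS g
  have h2 := Set.ncard_le_ncard h1 (Finset.finite_toSet S)
  rw [Set.ncard_coe_finset] at h2
  exact h2

theorem sq_one_zpow {E : Type*} [Group E] {x : E} (hx : x * x = 1) (i : ℤ) :
    x ^ i = 1 ∨ x ^ i = x := by
  have hinv : x⁻¹ = x := inv_eq_of_mul_eq_one_right hx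
  rcases Int.natAbs_eq i with h | h
  · rw [h, zpow_natCast]; exact sq_one_pow hx _
  · rw [h, zpow_neg, zpow_natCast]
    rcases sq_one_pow hx i.natAbs with h1 | h1
    · left; rw [h1, inv_one]
    · right; rw [h1, hinv]

theorem a_one_zpow {m : ℕ} (k : ℤ) :
    (QuaternionGroup.a 1 : QuaternionGroup m) ^ k = QuaternionGroup.a (k : ZMod (2 * m)) := by
  induction k using Int.induction_on with
  | zero => rw [zpow_zero, QuaternionGroup.one_def, Int.cast_zero]
  | succ k ih =>
    rw [zpow_add_one, ih, QuaternionGroup.a_mul_a]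
    congr 1
    push_cast; ring
  | pred k ih =>
    have hinv : (QuaternionGroup.a 1 : QuaternionGroup m)⁻¹ = QuaternionGroup.a (-1) := by
      apply inv_eq_of_mul_eq_one_right
      rw [QuaternionGroup.a_mul_a, QuaternionGroup.one_def]
      congr 1; ring
    rw [zpow_sub_one, ih, hinv, QuaternionGroup.a_mul_a]
    congr 1
    push_cast; ring

theorem card_range_le_two {G : Type*} [Group G] [Finite G] {E : Type*} [Group E]
    (hE : ∀ x : E, x * x = 1) (F : G →* E) (Q : Sylow 2 G)
    (hQ : IsCyclic ↥(Q : Subgroup G)) : Nat.card ↥F.range ≤ 2 := by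
  classical
  obtain ⟨c, hc⟩ := hQ.exists_generator
  have key : ∀ g : G, F g ∈ ({1, F (c : G)} : Finset E) := by
    intro g
    obtain ⟨q, hq, hgq⟩ := exists_sylow_image hE F Q g
    obtain ⟨i, hi⟩ := Subgroup.mem_zpowers_iff.mp (hc ⟨q, hq⟩)
    have hq' : q = (c : G) ^ i := by
      have := congrArg Subtype.val hi
      simpa using this.symm
    rw [hgq, hq', map_zpow]
    rcases sq_one_zpow (hE (F (c : G))) i with h | h
    · rw [h]; simp
    · rw [h]; simp
  refine (card_range_le_of_finset F _ key).trans ?_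
  exact (Finset.card_insert_le _ _).trans (by simp)

theorem card_range_le_four {G : Type*} [Group G] [Finite G] {E : Type*} [Group E]
    (hE : ∀ x : E, x * x = 1) (F : G →* E) (Q : Sylow 2 G) (m : ℕ)
    (e : ↥(Q : Subgroup G) ≃* QuaternionGroup m) : Nat.card ↥F.range ≤ 4 := by
  classical
  set u : E := F ((e.symm (QuaternionGroup.a 1) : ↥(Q : Subgroup G)) : G) with hu
  set v : E := F ((e.symm (QuaternionGroup.xa 0) : ↥(Q : Subgroup G)) : G) with hv
  have key : ∀ g : G, F g ∈ ({1, u, v, v * u} : Finset E) := by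
    intro g
    obtain ⟨q, hq, hgq⟩ := exists_sylow_image hE F Q g
    have hai : ∀ i : ZMod (2 * m), F ((e.symm (QuaternionGroup.a i) : ↥(Q : Subgroup G)) : G) = 1 ∨
        F ((e.symm (QuaternionGroup.a i) : ↥(Q : Subgroup G)) : G) = u := by
      intro i
      obtain ⟨k, rfl⟩ := ZMod.intCast_surjective i
      rw [← a_one_zpow, map_zpow, Subgroup.coe_zpow, map_zpow]
      exact sq_one_zpow (hE _) _
    set q' : ↥(Q : Subgroup G) := ⟨q, hq⟩ with hq'
    have hqe : q' = e.symm (e q') := (e.symm_apply_apply q').symm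
    have hq2 : F q = F ((e.symm (e q') : ↥(Q : Subgroup G)) : G) := by rw [← hqe]
    rw [hgq, hq2]
    rcases e q' with i | i
    · rcases hai i with h | h
      · rw [h]; simp
      · rw [h]; simp
    · have h1 : (QuaternionGroup.xa i : QuaternionGroup m) = QuaternionGroup.xa 0 * QuaternionGroup.a i := by
        rw [QuaternionGroup.xa_mul_a, zero_add]
      rw [h1, map_mul, Subgroup.coe_mul, map_mul]
      rcases hai i with h | h
      · rw [h, mul_one, ← hv]; simp
      · rw [h, ← hv]; simp
  refine (card_range_le_of_finset F _ key).trans ?_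
  refine (Finset.card_insert_le _ _).trans ?_
  refine (Nat.succ_le_succ (Finset.card_insert_le _ _)).trans ?_
  refine (Nat.succ_le_succ (Nat.succ_le_succ (Finset.card_insert_le _ _))).trans ?_
  simp

end Cfsg.Agent.Lib.Helper4.Fc
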