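import Mathlib
import Cfsg.Agent.Lib.Helper4.Fc1
import Cfsg.Agent.Lib.Helper4.Fc2
import Cfsg.Agent.Lib.Helper4.Fc3
set_option autoImplicit false
set_option maxHeartbeats 1000000
set_option linter.unusedVariables false
set_option linter.unusedSectionVars false
set_option linter.style.longLine false
set_option linter.unusedSimpArgs false
set_option linter.deprecated false
set_option linter.style.haveILetI false
open scoped Pointwise
universe u v

/-! Uniqueness of the normal subgroup `N` with cyclic Sylow subgroups and quotient in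
`{1, V4, A4, S4, A5, S5}` in a group with property `FCP`. -/

namespace Cfsg.Agent.Lib.Helper4.Fc

open Cfsg Cfsg.Agent.Lib.Helper2.FrobComp

/-- the property of the statement -/
def Good {G : Type*} [Group G] (N : Subgroup G) : Prop :=
  N.Normal ∧ (∀ (p : ℕ) [Fact p.Prime] (P : Sylow p N), IsCyclic P) ∧
      (N = ⊤ ∨
        (∃ f : G →* DihedralGroup 2, Function.Surjective f ∧ f.ker = N) ∨
        (∃ f : G →* alternatingGroup (Fin 4), Function.Surjective f ∧ f.ker = N) ∨
        (∃ f : G →* Equiv.Perm (Fin 4), Function.Surjective f ∧ f.ker = N) ∨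
        (∃ f : G →* alternatingGroup (Fin 5), Function.Surjective f ∧ f.ker = N) ∨
        (∃ f : G →* Equiv.Perm (Fin 5), Function.Surjective f ∧ f.ker = N))

theorem isZGroup_of_sylow {N : Type*} [Group N]
    (h : ∀ (p : ℕ) [Fact p.Prime] (P : Sylow p N), IsCyclic P) : IsZGroup N :=
  ⟨fun p hp P => by haveI : Fact p.Prime := ⟨hp⟩; exact h p P⟩

/-- a normal subgroup with cyclic Sylow subgroups lies in the kernel of every surjection onto a
group without nontrivial normal subgroups of this kind -/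
theorem le_ker_of_noZ {G : Type*} [Group G] [Finite G] {L : Type*} [Group L]
    (hL : ∀ Z : Subgroup L, Z.Normal → IsZGroup ↥Z → Z = ⊥)
    (f : G →* L) (hf : Function.Surjective f) (N' : Subgroup G) (hN' : N'.Normal)
    (hZ : IsZGroup ↥N') : N' ≤ f.ker := by
  have hn : (N'.map f).Normal := hN'.map f hf
  have hz : IsZGroup ↥(N'.map f) :=
    IsZGroup.of_surjective (f := f.subgroupMap N') (f.subgroupMap_surjective N')
  have := hL _ hn hz
  exact (Subgroup.map_eq_bot_iff N').mp this

theorem index_of_surj {G : Type*} [Group G] {L : Type*} [Group L] (f : G →* L)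
    (hf : Function.Surjective f) : f.ker.index = Nat.card L := by
  rw [Subgroup.index_ker, MonoidHom.range_eq_top.mpr hf]
  exact Nat.card_congr Subgroup.topEquiv.toEquiv

theorem good_cases {G : Type*} [Group G] [Finite G] {N : Subgroup G} (h : Good N) :
    N = ⊤ ∨ (∃ f : G →* DihedralGroup 2, Function.Surjective f ∧ f.ker = N) ∨
      (12 ≤ N.index ∧ ∀ N' : Subgroup G, N'.Normal → IsZGroup ↥N' → N' ≤ N) := by
  obtain ⟨hn, hs, h1 | h2 | ⟨f, hf, hk⟩ | ⟨f, hf, hk⟩ | ⟨f, hf, hk⟩ | ⟨f, hf, hk⟩⟩ := h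
  · exact Or.inl h1
  · exact Or.inr (Or.inl h2)
  · right; right
    refine ⟨?_, fun N' hN' hZ => ?_⟩
    · rw [← hk, index_of_surj f hf, nat_card_alternatingGroup]
      simp [Nat.factorial]
    · rw [← hk]
      exact le_ker_of_noZ (fun Z hZn hZz => by haveI := hZn; haveI := hZz; exact no_normal_z_A4 Z)
        f hf N' hN' hZ
  · right; right
    refine ⟨?_, fun N' hN' hZ => ?_⟩
    · rw [← hk, index_of_surj f hf, Nat.card_perm]
      simp [Nat.factorial]
    · rw [← hk]
      exact le_ker_of_noZ (fun Z hZn hZz => by haveI := hZn; haveI := hZz; exact no_normal_z_S4 Z)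
        f hf N' hN' hZ
  · right; right
    refine ⟨?_, fun N' hN' hZ => ?_⟩
    · rw [← hk, index_of_surj f hf, nat_card_alternatingGroup]
      simp [Nat.factorial]
    · rw [← hk]
      exact le_ker_of_noZ (fun Z hZn hZz => by haveI := hZn; haveI := hZz; exact no_normal_z_A5 Z)
        f hf N' hN' hZ
  · right; right
    refine ⟨?_, fun N' hN' hZ => ?_⟩
    · rw [← hk, index_of_surj f hf, Nat.card_perm]
      simp [Nat.factorial]
    · rw [← hk]
      exact le_ker_of_noZ (fun Z hZn hZz => by haveI := hZn; haveI := hZz; exact no_normal_z_S5 Z)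
        f hf N' hN' hZ

theorem dihedral_two_sq : ∀ x : DihedralGroup 2, x * x = 1 := by decide

theorem good_le {G : Type*} [Group G] [Finite G] (hF : FCP G) {N₁ N₂ : Subgroup G}
    (h₁ : Good N₁) (h₂ : Good N₂) : N₁ ≤ N₂ := by
  haveI : Fact (Nat.Prime 2) := ⟨Nat.prime_two⟩
  have hn₁ := h₁.1
  have hn₂ := h₂.1
  have hz₁ : IsZGroup ↥N₁ := isZGroup_of_sylow h₁.2.1
  have hz₂ : IsZGroup ↥N₂ := isZGroup_of_sylow h₂.2.1
  obtain ⟨Q⟩ : Nonempty (Sylow 2 G) := inferInstance
  rcases good_cases h₂ with h2 | ⟨f₂, hf₂, hk₂⟩ | ⟨hi₂, hle₂⟩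
  · rw [h2]; exact le_top
  · rcases good_cases h₁ with h1 | ⟨f₁, hf₁, hk₁⟩ | ⟨hi₁, hle₁⟩
    · -- `G` has cyclic Sylow subgroups but maps onto the four-group
      exfalso
      haveI : IsZGroup G := by
        rw [h1] at hz₁
        exact IsZGroup.of_surjective (f := (⊤ : Subgroup G).subtype)
          (fun g => ⟨⟨g, Subgroup.mem_top g⟩, rfl⟩)
      have hQ : IsCyclic ↥(Q : Subgroup G) := inferInstance
      have := card_range_le_two dihedral_two_sq f₂ Q hQ
      rw [MonoidHom.range_eq_top.mpr hf₂, Nat.card_congr Subgroup.topEquiv.toEquiv,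
        DihedralGroup.nat_card] at this
      omega
    · -- two four-group quotients
      have hE : ∀ x : DihedralGroup 2 × DihedralGroup 2, x * x = 1 := by
        rintro ⟨a, b⟩
        rw [Prod.mk_mul_mk, dihedral_two_sq, dihedral_two_sq]; rfl
      have hker : (f₁.prod f₂).ker = N₁ ⊓ N₂ := by
        rw [MonoidHom.ker_prod, hk₁, hk₂]
      have hcard : Nat.card ↥(f₁.prod f₂).range ≤ 4 := by
        rcases pgroup_cyclic_or_quat hF 2 (Q : Subgroup G) Q.2 with hc | ⟨-, n, ⟨e⟩⟩
        · exact (card_range_le_two hE (f₁.prod f₂) Q hc).trans (by norm_num)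
        · exact card_range_le_four hE (f₁.prod f₂) Q _ e
      rw [← Subgroup.index_ker, hker] at hcard
      have h4 : N₁.index = 4 := by
        rw [← hk₁, index_of_surj f₁ hf₁, DihedralGroup.nat_card]
      have hrel := Subgroup.relIndex_mul_index (inf_le_left : N₁ ⊓ N₂ ≤ N₁)
      rw [h4] at hrel
      have hne : (N₁ ⊓ N₂).index ≠ 0 := Subgroup.index_ne_zero_of_finite
      have hr1 : (N₁ ⊓ N₂).relIndex N₁ = 1 := by
        have hpos : (N₁ ⊓ N₂).relIndex N₁ ≠ 0 := by
          intro h0; rw [h0] at hrel; omega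
        omega
      have := Subgroup.relIndex_eq_one.mp hr1
      exact this.trans inf_le_right
    · exfalso
      have hle : N₂ ≤ N₁ := hle₁ N₂ hn₂ hz₂
      have h4 : N₂.index = 4 := by
        rw [← hk₂, index_of_surj f₂ hf₂, DihedralGroup.nat_card]
      have hd := Subgroup.index_dvd_of_le hle
      rw [h4] at hd
      have := Nat.le_of_dvd (by norm_num) hd
      omega
  · exact hle₂ N₁ hn₁ hz₁

theorem good_unique {G : Type*} [Group G] [Finite G] (hF : FCP G) {N₁ N₂ : Subgroup G}
    (h₁ : Good N₁) (h₂ : Good N₂) : N₁ = N₂ :=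
  le_antisymm (good_le hF h₁ h₂) (good_le hF h₂ h₁)

end Cfsg.Agent.Lib.Helper4.Fc
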