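import Mathlib
import Cfsg.Agent.Lib.Helper4.Fc4
set_option autoImplicit false
set_option maxHeartbeats 1000000
set_option linter.unusedVariables false
set_option linter.unusedSectionVars false
set_option linter.style.longLine false
set_option linter.unusedSimpArgs false
set_option linter.deprecated false
set_option linter.style.haveILetI false
open scoped Pointwise
universe u v

/-! Tools for the existence part: the four-group quotient of a generalized quaternion group,
Sylow subgroups of subgroups of `FCP`-groups, and `2`-subgroups modulo a normal subgroup of odd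
order. -/

namespace Cfsg.Agent.Lib.Helper4.Fc

open Cfsg Cfsg.Agent.Lib.Helper2.FrobComp

/-- the reduction `ZMod (2 * m) → ZMod 2` -/
def red (m : ℕ) : ZMod (2 * m) →+* ZMod 2 := ZMod.castHom (Dvd.intro m rfl) (ZMod 2)

theorem red_m (m : ℕ) (hm : Even m) : red m (m : ZMod (2 * m)) = 0 := by
  rw [map_natCast]
  obtain ⟨k, hk⟩ := hm
  rw [hk]
  push_cast
  rw [← two_mul]
  have : (2 : ZMod 2) = 0 := rfl
  rw [this, zero_mul]

/-- the underlying function of the map from the generalized quaternion group onto the
four-group -/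
def psiFun (m : ℕ) : QuaternionGroup m → DihedralGroup 2
  | QuaternionGroup.a i => DihedralGroup.r (red m i)
  | QuaternionGroup.xa i => DihedralGroup.sr (red m i)

/-- the homomorphism from the generalized quaternion group `QuaternionGroup m`, `m` even, onto
the four-group -/
def psi (m : ℕ) (hm : Even m) : QuaternionGroup m →* DihedralGroup 2 :=
  MonoidHom.mk' (psiFun m) (by
    intro x y
    rcases x with i | i <;> rcases y with j | j
    · show psiFun m (QuaternionGroup.a i * QuaternionGroup.a j) = _
      rw [QuaternionGroup.a_mul_a]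
      simp only [psiFun, map_add, DihedralGroup.r_mul_r]
    · show psiFun m (QuaternionGroup.a i * QuaternionGroup.xa j) = _
      rw [QuaternionGroup.a_mul_xa]
      simp only [psiFun, map_sub, DihedralGroup.r_mul_sr]
    · show psiFun m (QuaternionGroup.xa i * QuaternionGroup.a j) = _
      rw [QuaternionGroup.xa_mul_a]
      simp only [psiFun, map_add, DihedralGroup.sr_mul_r]
    · show psiFun m (QuaternionGroup.xa i * QuaternionGroup.xa j) = _
      rw [QuaternionGroup.xa_mul_xa]
      simp only [psiFun, map_add, map_sub, DihedralGroup.sr_mul_sr, red_m m hm, zero_add])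

theorem psi_a (m : ℕ) (hm : Even m) (i : ZMod (2 * m)) :
    psi m hm (QuaternionGroup.a i) = DihedralGroup.r (red m i) := rfl

theorem psi_xa (m : ℕ) (hm : Even m) (i : ZMod (2 * m)) :
    psi m hm (QuaternionGroup.xa i) = DihedralGroup.sr (red m i) := rfl

theorem psi_surjective (m : ℕ) (hm : Even m) : Function.Surjective (psi m hm) := by
  have hred : Function.Surjective (red m) := ZMod.castHom_surjective _
  intro y
  rcases y with i | i
  · obtain ⟨j, rfl⟩ := hred i
    exact ⟨QuaternionGroup.a j, rfl⟩
  · obtain ⟨j, rfl⟩ := hred i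
    exact ⟨QuaternionGroup.xa j, rfl⟩

theorem psi_ker_le (m : ℕ) (hm : Even m) :
    (psi m hm).ker ≤ Subgroup.zpowers (QuaternionGroup.a 1 : QuaternionGroup m) := by
  intro x hx
  rw [MonoidHom.mem_ker] at hx
  rcases x with i | i
  · obtain ⟨k, rfl⟩ := ZMod.intCast_surjective i
    rw [← a_one_zpow]
    exact Subgroup.zpow_mem _ (Subgroup.mem_zpowers _) k
  · exfalso
    rw [psi_xa, DihedralGroup.one_def] at hx
    cases hx

/-- Sylow subgroups of a subgroup of an `FCP`-group all of whose `2`-subgroups are cyclic -/
theorem sylow_cyclic_of_two {G : Type*} [Group G] [Finite G] (hF : FCP G) (N : Subgroup G)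
    (h2 : ∀ D : Subgroup G, D ≤ N → IsPGroup 2 D → IsCyclic ↥D) :
    ∀ (p : ℕ) [Fact p.Prime] (P : Sylow p ↥N), IsCyclic ↥P := by
  intro p hp P
  set D : Subgroup G := (P : Subgroup ↥N).map N.subtype with hD
  have hDN : D ≤ N := Subgroup.map_subtype_le _
  have hDp : IsPGroup p ↥D := P.2.map N.subtype
  have e : ↥(P : Subgroup ↥N) ≃* ↥D :=
    Subgroup.equivMapOfInjective _ N.subtype N.subtype_injective
  have hc : IsCyclic ↥D := by
    by_cases hp2 : p = 2
    · subst hp2
      exact h2 D hDN hDp
    · rcases pgroup_cyclic_or_quat hF p D hDp with hc | ⟨h2', -⟩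
      · exact hc
      · exact absurd h2' hp2
  exact e.isCyclic.mpr hc

/-- a `2`-subgroup meets a normal subgroup of odd order trivially, so it embeds in the quotient -/
theorem injective_subgroupMap_of_odd {G : Type*} [Group G] [Finite G] (O : Subgroup G) [O.Normal]
    (hO : (Nat.card ↥O).Coprime 2) (D : Subgroup G) (hD : IsPGroup 2 ↥D) :
    Function.Injective ((QuotientGroup.mk' O).subgroupMap D) := by
  haveI : Fact (Nat.Prime 2) := ⟨Nat.prime_two⟩
  have hdisj : D ⊓ O = ⊥ := by
    apply Subgroup.inf_eq_bot_of_coprime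
    obtain ⟨k, hk⟩ := (IsPGroup.iff_card (p := 2)).mp hD
    rw [hk]
    exact Nat.Coprime.pow_left k hO.symm
  rw [injective_iff_map_eq_one]
  intro d hd
  have h1 : QuotientGroup.mk' O (d : G) = 1 := by
    have := congrArg Subtype.val hd
    rw [MonoidHom.subgroupMap_apply_coe] at this
    exact this
  have h2 : (d : G) ∈ O := by
    rw [← QuotientGroup.eq_one_iff]; exact h1
  have h3 : (d : G) ∈ D ⊓ O := ⟨d.2, h2⟩
  rw [hdisj, Subgroup.mem_bot] at h3
  exact Subtype.ext h3

end Cfsg.Agent.Lib.Helper4.Fc
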