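import Mathlib
import Cfsg.Agent.Lib.Helper4.Fc5
import Cfsg.Agent.Lib.Helper2.FrobCompB
import Cfsg.Agent.Lib.Helper1.PLengthOne
set_option autoImplicit false
set_option maxHeartbeats 1000000
set_option linter.unusedVariables false
set_option linter.unusedSectionVars false
set_option linter.style.longLine false
set_option linter.unusedSimpArgs false
set_option linter.deprecated false
set_option linter.style.haveILetI false
open scoped commutatorElement Pointwise
universe u v

/-! The structure of a solvable group `X` with `O(X) = 1` and at most one involution: a normal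
subgroup with cyclic `2`-subgroups and quotient `1`, `V4`, `A4` or `S4`. -/

namespace Cfsg.Agent.Lib.Helper4.Fc

open Cfsg Cfsg.Agent.Lib.Lead.UniqueP Cfsg.Agent.Lib.Helper2.ZS QuaternionGroup
open Cfsg.Agent.Lib.Helper2.QuatSolv Cfsg.Agent.Lib.Helper2.FrobComp

/-- the conclusion for the quotient `X` -/
def GoodX {X : Type*} [Group X] (W : Subgroup X) : Prop :=
  W.Normal ∧ (∀ D : Subgroup X, D ≤ W → IsPGroup 2 D → IsCyclic ↥D) ∧
    (W = ⊤ ∨ (∃ f : X →* DihedralGroup 2, Function.Surjective f ∧ f.ker = W) ∨
      (∃ f : X →* alternatingGroup (Fin 4), Function.Surjective f ∧ f.ker = W) ∨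
      (∃ f : X →* Equiv.Perm (Fin 4), Function.Surjective f ∧ f.ker = W))

/-- a transitive-type permutation representation of degree four with image of order 12 or 24 -/
theorem perm_four_cases {X : Type*} [Group X] [Finite X] (φ : X →* Equiv.Perm (Fin 4))
    (h : φ.ker.index = 12 ∨ φ.ker.index = 24) :
    (∃ f : X →* alternatingGroup (Fin 4), Function.Surjective f ∧ f.ker = φ.ker) ∨
      (∃ f : X →* Equiv.Perm (Fin 4), Function.Surjective f ∧ f.ker = φ.ker) := by
  have hcardP : Nat.card (Equiv.Perm (Fin 4)) = 24 := by
    rw [Nat.card_perm]; simp [Nat.factorial]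
  rw [Subgroup.index_ker] at h
  rcases h with h | h
  · left
    have hidx : φ.range.index = 2 := by
      have := Subgroup.card_mul_index φ.range
      rw [h, hcardP] at this
      omega
    have hr : φ.range = alternatingGroup (Fin 4) := Equiv.Perm.eq_alternatingGroup_of_index_eq_two hidx
    have hmem : ∀ x, φ x ∈ alternatingGroup (Fin 4) := by
      intro x; rw [← hr]; exact ⟨x, rfl⟩
    refine ⟨φ.codRestrict (alternatingGroup (Fin 4)) hmem, ?_, ?_⟩
    · rintro ⟨y, hy⟩
      rw [← hr] at hy
      obtain ⟨x, rfl⟩ := hy
      exact ⟨x, rfl⟩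
    · exact MonoidHom.ker_codRestrict _ _ _
  · right
    refine ⟨φ, ?_, rfl⟩
    rw [← MonoidHom.range_eq_top]
    apply Subgroup.eq_top_of_card_eq
    rw [h, hcardP]

theorem lemmaX {X : Type*} [Group X] [Finite X] [Group.IsSolvable X]
    (hO : Cfsg.pPrimeCore 2 X = ⊥)
    (huniq : ∀ s t : X, orderOf s = 2 → orderOf t = 2 → s = t) :
    ∃ W : Subgroup X, GoodX W := by
  haveI : Fact (Nat.Prime 2) := ⟨Nat.prime_two⟩
  have hU : UOP 2 X := by
    intro x y hx hy hx1
    by_cases hy1 : y = 1
    · rw [hy1]; exact one_mem _
    · have h1 : orderOf x = 2 := orderOf_eq_prime hx hx1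
      have h2 : orderOf y = 2 := orderOf_eq_prime hy hy1
      rw [huniq y x h2 h1]; exact Subgroup.mem_zpowers x
  have hUD : ∀ D : Subgroup X, UOP 2 ↥D := fun D => hU.subgroup D
  have hsmall : ∀ D : Subgroup X, IsPGroup 2 D → Nat.card ↥D ≤ 4 → IsCyclic ↥D := by
    intro D hD hcard
    rcases two_group hD (hUD D) with h | ⟨n, ⟨e⟩⟩
    · exact h
    · have h1 : Nat.card ↥D = 4 * 2 ^ n := by
        rw [Nat.card_congr e.toEquiv, Nat.card_eq_fintype_card, QuaternionGroup.card]
      have h2 : 2 ^ n = 1 := by
        have : 1 ≤ 2 ^ n := Nat.one_le_two_pow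
        omega
      rw [h2] at e
      haveI := QuaternionGroup.quaternionGroup_one_isCyclic
      exact e.isCyclic.mpr inferInstance
  set Q := Cfsg.pCore 2 X with hQ
  have hQn : Q.Normal := Cfsg.Agent.Lib.Helper1.pCore_normal 2
  have hQp : IsPGroup 2 ↥Q := Cfsg.Agent.Lib.Helper1.pCore_isPGroup 2
  have hCQ : Subgroup.centralizer (Q : Set X) ≤ Q :=
    Cfsg.Agent.Lib.Helper1.centralizer_pCore_le 2 hO
  by_cases h2 : IsPGroup 2 X
  · -- `X` is a `2`-group
    have htopcase : IsCyclic X → ∃ W : Subgroup X, GoodX W := by
      intro hc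
      refine ⟨⊤, inferInstance, fun D _ _ => ?_, Or.inl rfl⟩
      haveI := hc
      exact Subgroup.isCyclic D
    rcases two_group h2 hU with hc | ⟨j, ⟨e⟩⟩
    · exact htopcase hc
    · rcases Nat.eq_zero_or_pos j with hj | hj
      · apply htopcase
        have e' : X ≃* QuaternionGroup 1 := by
          rw [hj] at e; simpa using e
        haveI := QuaternionGroup.quaternionGroup_one_isCyclic
        exact e'.isCyclic.mpr inferInstance
      · have hm : Even (2 ^ j) := (Nat.even_pow' hj.ne').mpr even_two
        set f : X →* DihedralGroup 2 := (psi (2 ^ j) hm).comp e.toMonoidHom with hf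
        refine ⟨f.ker, inferInstance, fun D hD hD2 => ?_, Or.inr (Or.inl ⟨f, ?_, rfl⟩)⟩
        · -- `D` embeds into the cyclic group generated by `a 1`
          have hmem : ∀ d : ↥D, e (d : X) ∈ Subgroup.zpowers (QuaternionGroup.a 1 : QuaternionGroup (2 ^ j)) := by
            intro d
            apply psi_ker_le (2 ^ j) hm
            rw [MonoidHom.mem_ker]
            have := hD d.2
            rw [MonoidHom.mem_ker, hf] at this
            exact this
          set ι : ↥D →* ↥(Subgroup.zpowers (QuaternionGroup.a 1 : QuaternionGroup (2 ^ j))) :=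
            (e.toMonoidHom.comp D.subtype).codRestrict _ hmem with hι
          have hinj : Function.Injective ι := by
            intro d₁ d₂ h12
            have h1 := congrArg Subtype.val h12
            simp only [hι, MonoidHom.codRestrict_apply, MonoidHom.comp_apply, Subgroup.subtype_apply,
              MulEquiv.coe_toMonoidHom] at h1
            exact Subtype.ext (e.injective h1)
          exact isCyclic_of_injective ι hinj
        · rw [hf]
          exact (psi_surjective (2 ^ j) hm).comp e.surjective
  · -- `X` is not a `2`-group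
    have hodd : ∃ x : X, Odd (orderOf x) ∧ x ≠ 1 := by
      by_contra hno
      push Not at hno
      apply h2
      intro g
      obtain ⟨k, b, hb, hkb⟩ := Nat.exists_eq_two_pow_mul_odd (orderOf_pos g).ne'
      refine ⟨k, ?_⟩
      apply hno
      have h1 : (g ^ 2 ^ k) ^ b = 1 := by
        rw [← pow_mul, ← hkb, pow_orderOf_eq_one]
      exact Odd.of_dvd_nat hb (orderOf_dvd_of_pow_eq_one h1)
    obtain ⟨x, hxodd, hx1⟩ := hodd
    have hxNQ : x ∈ Subgroup.normalizer (Q : Set X) := by
      rw [Subgroup.normalizer_eq_top_iff.mpr hQn]; exact Subgroup.mem_top x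
    have hcentF : (∀ q ∈ Q, x * q * x⁻¹ = q) → False := by
      intro hxQ
      have hxC : x ∈ Subgroup.centralizer (Q : Set X) := by
        rw [Subgroup.mem_centralizer_iff]
        intro q hq
        have h1 := hxQ q hq
        calc q * x = x * q * x⁻¹ * x := by rw [h1]
          _ = x * q := by group
      have hxQ' : x ∈ Q := hCQ hxC
      obtain ⟨j, hj⟩ := hQp ⟨x, hxQ'⟩
      have hj' : x ^ 2 ^ j = 1 := by
        have := congrArg Subtype.val hj
        simpa using this
      exact hx1 (pow_eq_one_of_coprime hxodd hj' (pow_orderOf_eq_one x))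
    have hcycF : IsCyclic ↥Q → False := fun hcyc =>
      hcentF (odd_centralizes_cyclic Q hQp hcyc hxNQ hxodd)
    have hQ8 : Nonempty (↥Q ≃* QuaternionGroup 2) := by
      rcases two_group hQp (hUD Q) with hc | ⟨k, ⟨e⟩⟩
      · exact (hcycF hc).elim
      · rcases Nat.lt_or_ge k 2 with hk | hk
        · interval_cases k
          · exfalso
            apply hcycF
            have e' : ↥Q ≃* QuaternionGroup 1 := by simpa using e
            haveI := QuaternionGroup.quaternionGroup_one_isCyclic
            exact e'.isCyclic.mpr inferInstance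
          · have e' : ↥Q ≃* QuaternionGroup 2 := by simpa using e
            exact ⟨e'⟩
        · exfalso
          apply hcentF
          have h4 : 4 ≤ 2 ^ k := by
            calc 4 = 2 ^ 2 := by norm_num
              _ ≤ 2 ^ k := Nat.pow_le_pow_right (by norm_num) hk
          exact odd_centralizes_quat Q hQp (2 ^ k) h4 e x hxNQ hxodd
    obtain ⟨e⟩ := hQ8
    have h6 : Q.index ∣ 6 := by
      have h := Cfsg.Agent.Lib.Helper2.QuatAut.quat_relIndex_dvd_six Q e
      have h1 : Cfsg.Agent.Lib.Helper2.QuatAut.QC Q = Q := sup_eq_left.mpr hCQ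
      rw [h1, Subgroup.normalizer_eq_top_iff.mpr hQn, Subgroup.relIndex_top_right] at h
      exact h
    have hcardQ : Nat.card ↥Q = 8 := by
      rw [Nat.card_congr e.toEquiv, Nat.card_eq_fintype_card, QuaternionGroup.card]
    have hcardX : Nat.card X = 8 * Q.index := by
      rw [← hcardQ]; exact (Subgroup.card_mul_index Q).symm
    have hidx : Q.index = 3 ∨ Q.index = 6 := by
      have h7 : Q.index ≤ 6 := Nat.le_of_dvd (by norm_num) h6
      have h8 : Q.index ≠ 1 := by
        intro h
        apply h2
        apply IsPGroup.of_card (n := 3)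
        rw [hcardX, h]; norm_num
      have h9 : Q.index ≠ 2 := by
        intro h
        apply h2
        apply IsPGroup.of_card (n := 4)
        rw [hcardX, h]; norm_num
      have h10 : Q.index ≠ 0 := by
        intro h; rw [h] at h6; omega
      interval_cases hi : Q.index <;> omega
    have hcard : Nat.card X = 24 ∨ Nat.card X = 48 := by
      rcases hidx with h | h
      · left; rw [hcardX, h]
      · right; rw [hcardX, h]
    haveI : Fact (Nat.Prime 3) := ⟨Nat.prime_three⟩
    have h3X : 3 ∣ Nat.card X := by
      rcases hcard with h | h <;> rw [h] <;> norm_num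
    obtain ⟨P⟩ : Nonempty (Sylow 3 X) := inferInstance
    have hPidx : (P : Subgroup X).index ∣ 16 := by
      have h1 : (P : Subgroup X).index ∣ Nat.card X := Subgroup.index_dvd_card _
      have h2' : ¬ 3 ∣ (P : Subgroup X).index := P.not_dvd_index
      have hcop : ((P : Subgroup X).index).Coprime 3 :=
        ((Nat.Prime.coprime_iff_not_dvd Nat.prime_three).mpr h2').symm
      rcases hcard with h | h
      · rw [h] at h1
        have : (P : Subgroup X).index ∣ 8 :=
          hcop.dvd_of_dvd_mul_left (by simpa using h1)
        exact this.trans (by norm_num)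
      · rw [h] at h1
        exact hcop.dvd_of_dvd_mul_left (by simpa using h1)
    have hn3 := card_sylow_modEq_one 3 X
    have hn3d : Nat.card (Sylow 3 X) ∣ 16 := (P.card_dvd_index).trans hPidx
    have hn3eq : Nat.card (Sylow 3 X) =
        (Subgroup.normalizer ((P : Subgroup X) : Set X)).index := P.card_eq_index_normalizer
    set n3 := Nat.card (Sylow 3 X) with hn3def
    have hn3cases : n3 = 1 ∨ n3 = 4 ∨ n3 = 16 := by
      have h7 : n3 ≤ 16 := Nat.le_of_dvd (by norm_num) hn3d
      have h8 : n3 % 3 = 1 := hn3
      interval_cases n3 <;> omega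
    -- an involution, central in `X`
    have h2X : 2 ∣ Nat.card X := by
      rcases hcard with h | h <;> rw [h] <;> norm_num
    obtain ⟨s, hs⟩ := exists_prime_orderOf_dvd_card' 2 h2X
    have hscen : ∀ g : X, g * s * g⁻¹ = s := by
      intro g
      apply huniq _ _ _ hs
      have : g * s * g⁻¹ = MulAut.conj g s := by simp [MulAut.conj_apply]
      rw [this, MulEquiv.orderOf_eq]; exact hs
    have hsN : s ∈ Subgroup.normalizer ((P : Subgroup X) : Set X) := by
      rw [Subgroup.mem_normalizer_iff]
      intro h
      have h1 : s * h * s⁻¹ = h := by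
        have := hscen h⁻¹
        calc s * h * s⁻¹ = h * (h⁻¹ * s * h⁻¹⁻¹) * s⁻¹ := by group
          _ = h := by rw [this]; group
      rw [h1]
    -- the intersection of the Sylow `3`-subgroups is trivial
    have hT : (⨅ P' : Sylow 3 X, (P' : Subgroup X)) = ⊥ := by
      have hTn : (⨅ P' : Sylow 3 X, (P' : Subgroup X)).Normal :=
        Cfsg.Agent.Lib.Helper1.iInf_sylow_normal 3
      have hTp : IsPGroup 3 ↥(⨅ P' : Sylow 3 X, (P' : Subgroup X)) :=
        P.2.to_le (iInf_le _ P)
      obtain ⟨k, hk⟩ := (IsPGroup.iff_card (p := 3)).mp hTp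
      have hcop : (Nat.card ↥(⨅ P' : Sylow 3 X, (P' : Subgroup X))).Coprime 2 := by
        rw [hk]; exact Nat.Coprime.pow_left k (by norm_num)
      have hle := Cfsg.Agent.Lib.Helper1.le_pPrimeCore hTn hcop
      rw [hO] at hle
      exact le_bot_iff.mp hle
    rcases hn3cases with h | h | h
    · -- normal Sylow 3-subgroup: contradiction
      exfalso
      rw [h] at hn3eq
      have hPn : (P : Subgroup X).Normal := by
        rw [← Subgroup.normalizer_eq_top_iff]
        exact Subgroup.index_eq_one.mp hn3eq.symm
      obtain ⟨k, hk⟩ := (IsPGroup.iff_card (p := 3)).mp P.2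
      have hcop : (Nat.card ↥(P : Subgroup X)).Coprime 2 := by
        rw [hk]; exact Nat.Coprime.pow_left k (by norm_num)
      have hle := Cfsg.Agent.Lib.Helper1.le_pPrimeCore hPn hcop
      rw [hO] at hle
      exact P.ne_bot_of_dvd_card h3X (le_bot_iff.mp hle)
    · -- four Sylow `3`-subgroups: the action on them
      rw [h] at hn3eq
      set φ : X →* Equiv.Perm (Sylow 3 X) := MulAction.toPermHom X (Sylow 3 X) with hφ
      set W := φ.ker with hW
      have hWN : ∀ P' : Sylow 3 X, W ≤ Subgroup.normalizer ((P' : Subgroup X) : Set X) := by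
        intro P' w hw
        rw [hW, MonoidHom.mem_ker] at hw
        have h1 : w • P' = P' := by
          have := congrArg (fun σ : Equiv.Perm (Sylow 3 X) => σ P') hw
          simpa [hφ] using this
        exact Sylow.smul_eq_iff_mem_normalizer.mp h1
      -- `3` does not divide the order of `W`
      have h3W : ¬ 3 ∣ Nat.card ↥W := by
        intro hdvd
        obtain ⟨w, hw⟩ := exists_prime_orderOf_dvd_card' 3 hdvd
        have hw' : orderOf (w : X) = 3 := by rw [Subgroup.orderOf_coe]; exact hw
        have hZ3 : IsPGroup 3 ↥(Subgroup.zpowers (w : X)) := by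
          apply IsPGroup.of_card (n := 1)
          rw [Nat.card_zpowers, hw', pow_one]
        have hall : ∀ P' : Sylow 3 X, (w : X) ∈ (P' : Subgroup X) := by
          intro P'
          have h1 := hZ3.inf_normalizer_sylow P'
          have h2 : (w : X) ∈ Subgroup.zpowers (w : X) ⊓ (P' : Subgroup X) := by
            rw [← h1]
            exact ⟨Subgroup.mem_zpowers _, hWN P' w.2⟩
          exact h2.2
        have hwT : (w : X) ∈ (⨅ P' : Sylow 3 X, (P' : Subgroup X)) := by
          rw [Subgroup.mem_iInf]; exact hall
        rw [hT, Subgroup.mem_bot] at hwT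
        rw [hwT, orderOf_one] at hw'
        omega
      -- the index of `W`
      have hcardW := Subgroup.card_mul_index W
      have h4 : 4 ∣ W.index := by
        have := Subgroup.index_dvd_of_le (hWN P)
        rw [← hn3eq] at this
        exact this
      have h3 : 3 ∣ W.index := by
        have h1 : 3 ∣ Nat.card ↥W * W.index := by rw [hcardW]; exact h3X
        exact (Nat.Prime.dvd_mul Nat.prime_three).mp h1 |>.resolve_left h3W
      have h12 : 12 ∣ W.index := by
        have : Nat.Coprime 4 3 := by norm_num
        exact this.mul_dvd_of_dvd_of_dvd h4 h3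
      have h24 : W.index ∣ 24 := by
        rw [hW, Subgroup.index_ker]
        have h1 : Nat.card (Equiv.Perm (Sylow 3 X)) = 24 := by
          rw [Nat.card_perm, ← hn3def, h]; simp [Nat.factorial]
        rw [← h1]
        exact Subgroup.card_subgroup_dvd_card _
      have hWidx : W.index = 12 ∨ W.index = 24 := by
        have h7 : W.index ≤ 24 := Nat.le_of_dvd (by norm_num) h24
        obtain ⟨c, hc⟩ := h12
        have : c = 1 ∨ c = 2 := by
          have hc0 : c ≠ 0 := by
            intro h0; rw [h0, mul_zero] at hc
            exact Subgroup.index_ne_zero_of_finite hc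
          omega
        rcases this with h1 | h1 <;> rw [h1] at hc <;> omega
      have hWcard : Nat.card ↥W ≤ 4 := by
        rcases hcard with hc | hc <;> rcases hWidx with hi | hi <;> rw [hc, hi] at hcardW <;> omega
      -- identify the four Sylow subgroups with `Fin 4`
      have ε : Sylow 3 X ≃ Fin 4 := Finite.equivFinOfCardEq (by rw [← hn3def, h])
      set φ' : X →* Equiv.Perm (Fin 4) := (ε.permCongrHom.toMonoidHom).comp φ with hφ'
      have hker : φ'.ker = W := by
        ext g
        rw [MonoidHom.mem_ker, hφ', MonoidHom.comp_apply, hW, MonoidHom.mem_ker]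
        exact map_eq_one_iff _ ε.permCongrHom.injective
      refine ⟨W, inferInstance, fun D hD hD2 => ?_, ?_⟩
      · apply hsmall D hD2
        exact (Nat.le_of_dvd Nat.card_pos (Subgroup.card_dvd_of_le hD)).trans hWcard
      · right; right
        rw [← hker] at hWidx ⊢
        exact perm_four_cases φ' hWidx
    · -- sixteen Sylow 3-subgroups: contradiction with the central involution
      exfalso
      rw [h] at hn3eq
      have h2' := Subgroup.card_mul_index (Subgroup.normalizer ((P : Subgroup X) : Set X))
      rw [← hn3eq] at h2'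
      have hN3 : Nat.card ↥(Subgroup.normalizer ((P : Subgroup X) : Set X)) = 3 := by
        rcases hcard with hc | hc
        · rw [hc] at h2'; omega
        · rw [hc] at h2'; omega
      have := Subgroup.orderOf_dvd_natCard _ hsN
      rw [hs, hN3] at this
      omega

end Cfsg.Agent.Lib.Helper4.Fc
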