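import Mathlib
import Cfsg.Agent.Lib.Helper4.Fc6
set_option autoImplicit false
set_option maxHeartbeats 1000000
set_option linter.unusedVariables false
set_option linter.unusedSectionVars false
set_option linter.style.longLine false
set_option linter.unusedSimpArgs false
set_option linter.deprecated false
set_option linter.style.haveILetI false
open scoped commutatorElement Pointwise
universe u v

/-! Existence of the normal subgroup `N` for solvable `FCP`-groups. -/

namespace Cfsg.Agent.Lib.Helper4.Fc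

open Cfsg Cfsg.Agent.Lib.Lead.UniqueP Cfsg.Agent.Lib.Helper2.FrobComp

/-- pulling back a surjection with prescribed kernel along a surjection -/
theorem comp_surj_ker {G X L : Type*} [Group G] [Group X] [Group L] (π : G →* X)
    (hπ : Function.Surjective π) (f : X →* L) (hf : Function.Surjective f) (W : Subgroup X)
    (hk : f.ker = W) :
    Function.Surjective (f.comp π) ∧ (f.comp π).ker = W.comap π := by
  refine ⟨hf.comp hπ, ?_⟩
  rw [← hk, MonoidHom.comap_ker]

theorem exists_good_solvable {G : Type*} [Group G] [Finite G] (hsol : Group.IsSolvable G)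
    (h : FCP G) : ∃ N : Subgroup G, Good N := by
  haveI := hsol
  haveI : Fact (Nat.Prime 2) := ⟨Nat.prime_two⟩
  haveI hOn : (Cfsg.pPrimeCore 2 G).Normal := Cfsg.Agent.Lib.Helper1.pPrimeCore_normal (G := G) 2
  have hOodd : (Nat.card ↥(Cfsg.pPrimeCore 2 G)).Coprime 2 :=
    Cfsg.Agent.Lib.Helper1.pPrimeCore_card_coprime 2
  obtain ⟨O, hOdef⟩ : ∃ O : Subgroup G, O = Cfsg.pPrimeCore 2 G := ⟨_, rfl⟩
  rw [← hOdef] at hOodd
  haveI hOn' : O.Normal := by rw [hOdef]; exact hOn
  have hOq : Cfsg.pPrimeCore 2 (G ⧸ O) = ⊥ := by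
    subst hOdef
    exact Cfsg.Agent.Lib.Helper1.pPrimeCore_quotient_eq_bot 2
  have hsurj : Function.Surjective (QuotientGroup.mk' O) := QuotientGroup.mk'_surjective O
  have hlift : ∀ sb : G ⧸ O, orderOf sb = 2 →
      ∃ u : G, orderOf u = 2 ∧ QuotientGroup.mk' O u = sb := by
    intro sb hsb
    obtain ⟨s, rfl⟩ := hsurj sb
    set c := Nat.card ↥O with hc
    have hcodd : Odd c := Nat.coprime_two_right.mp hOodd
    have hsb2 : (QuotientGroup.mk' O s) ^ 2 = 1 := by rw [← hsb]; exact pow_orderOf_eq_one _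
    have hs2 : s ^ 2 ∈ O := by
      rw [← QuotientGroup.eq_one_iff]
      have : ((s ^ 2 : G) : G ⧸ O) = (QuotientGroup.mk' O s) ^ 2 := rfl
      rw [this, hsb2]
    have hs2c : (s ^ 2) ^ c = 1 := by
      have h1 : (⟨s ^ 2, hs2⟩ : ↥O) ^ c = 1 := by rw [hc]; exact pow_card_eq_one'
      have := congrArg Subtype.val h1
      simpa using this
    refine ⟨s ^ c, ?_, ?_⟩
    · have hu2 : (s ^ c) ^ 2 = 1 := by
        rw [← pow_mul, mul_comm, pow_mul]; exact hs2c
      have hπ : QuotientGroup.mk' O (s ^ c) = QuotientGroup.mk' O s := by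
        obtain ⟨k, hk⟩ := hcodd
        rw [map_pow, hk, pow_succ, pow_mul, hsb2, one_pow, one_mul]
      have hu1 : s ^ c ≠ 1 := by
        intro h1
        rw [h1, map_one] at hπ
        rw [← hπ, orderOf_one] at hsb
        omega
      exact orderOf_eq_prime hu2 hu1
    · obtain ⟨k, hk⟩ := hcodd
      rw [map_pow, hk, pow_succ, pow_mul, hsb2, one_pow, one_mul]
  have huniq' : ∀ s t : G ⧸ O, orderOf s = 2 → orderOf t = 2 → s = t := by
    intro s t hs ht
    obtain ⟨u, hu, rfl⟩ := hlift s hs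
    obtain ⟨w, hw, rfl⟩ := hlift t ht
    rw [invol_unique h hu hw]
  obtain ⟨W, hWn, hW2, hWcases⟩ := lemmaX hOq huniq'
  set N : Subgroup G := W.comap (QuotientGroup.mk' O) with hN
  have hNn : N.Normal := hWn.comap _
  have hN2 : ∀ D : Subgroup G, D ≤ N → IsPGroup 2 D → IsCyclic ↥D := by
    intro D hD hDp
    have hDb : D.map (QuotientGroup.mk' O) ≤ W := by
      rw [Subgroup.map_le_iff_le_comap]; exact hD
    haveI hcycDb : IsCyclic ↥(D.map (QuotientGroup.mk' O)) := hW2 _ hDb (hDp.map _)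
    exact isCyclic_of_injective _ (injective_subgroupMap_of_odd O hOodd D hDp)
  refine ⟨N, hNn, sylow_cyclic_of_two h N hN2, ?_⟩
  rcases hWcases with h1 | ⟨f, hf, hk⟩ | ⟨f, hf, hk⟩ | ⟨f, hf, hk⟩
  · left
    rw [hN, h1, Subgroup.comap_top]
  · right; left
    obtain ⟨h1, h2⟩ := comp_surj_ker (QuotientGroup.mk' O) hsurj f hf W hk
    exact ⟨_, h1, h2⟩
  · right; right; left
    obtain ⟨h1, h2⟩ := comp_surj_ker (QuotientGroup.mk' O) hsurj f hf W hk
    exact ⟨_, h1, h2⟩
  · right; right; right; left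
    obtain ⟨h1, h2⟩ := comp_surj_ker (QuotientGroup.mk' O) hsurj f hf W hk
    exact ⟨_, h1, h2⟩

end Cfsg.Agent.Lib.Helper4.Fc
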