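import Mathlib
import Cfsg.Agent.S2119
set_option autoImplicit false
set_option maxHeartbeats 1000000
set_option linter.unusedVariables false
set_option linter.unusedSectionVars false
set_option linter.style.longLine false
set_option linter.unusedSimpArgs false
set_option linter.deprecated false
set_option linter.style.haveILetI false
open scoped Pointwise
universe u v

/-! Generic lemmas for the nonsolvable case: products of commuting subgroups, elements of order
eight, and the recognition of `S5` as an extension of `A5` of degree two containing an element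
of order four. -/

namespace Cfsg.Agent.Lib.Helper4.Fc

/-- elements of the join of two elementwise commuting subgroups are products -/
theorem mem_sup_comm {G : Type*} [Group G] (S M : Subgroup G)
    (hc : ∀ s ∈ S, ∀ x ∈ M, s * x = x * s) {y : G} (hy : y ∈ S ⊔ M) :
    ∃ s ∈ S, ∃ m ∈ M, y = s * m := by
  let T : Subgroup G :=
    { carrier := {y | ∃ s ∈ S, ∃ m ∈ M, y = s * m}
      one_mem' := ⟨1, S.one_mem, 1, M.one_mem, by simp⟩
      mul_mem' := by
        rintro a b ⟨s₁, hs₁, m₁, hm₁, rfl⟩ ⟨s₂, hs₂, m₂, hm₂, rfl⟩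
        refine ⟨s₁ * s₂, S.mul_mem hs₁ hs₂, m₁ * m₂, M.mul_mem hm₁ hm₂, ?_⟩
        have := hc s₂ hs₂ m₁ hm₁
        calc s₁ * m₁ * (s₂ * m₂) = s₁ * (m₁ * s₂) * m₂ := by group
          _ = s₁ * (s₂ * m₁) * m₂ := by rw [this]
          _ = s₁ * s₂ * (m₁ * m₂) := by group
      inv_mem' := by
        rintro a ⟨s, hs, m, hm, rfl⟩
        refine ⟨s⁻¹, S.inv_mem hs, m⁻¹, M.inv_mem hm, ?_⟩
        have := hc s hs m hm
        calc (s * m)⁻¹ = (m * s)⁻¹ := by rw [this]
          _ = s⁻¹ * m⁻¹ := by group }
  have hS : S ≤ T := fun s hs => ⟨s, hs, 1, M.one_mem, by simp⟩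
  have hM : M ≤ T := fun m hm => ⟨1, S.one_mem, m, hm, by simp⟩
  exact (sup_le hS hM) hy

theorem pow_card_of_mem {G : Type*} [Group G] {H : Subgroup G} [Finite ↥H] {x : G} (hx : x ∈ H) :
    x ^ Nat.card ↥H = 1 := by
  have h : (⟨x, hx⟩ : ↥H) ^ Nat.card ↥H = 1 := pow_card_eq_one'
  have h2 := congrArg Subtype.val h
  rw [Subgroup.coe_pow, Subgroup.coe_one] at h2
  exact h2

/-- powers of a product of commuting elements -/
theorem mul_pow_comm {G : Type*} [Group G] {a b : G} (h : a * b = b * a) (n : ℕ) :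
    (a * b) ^ n = a ^ n * b ^ n := (Commute.mul_pow (show Commute a b from h) n)

/-- an element killed by two coprime exponents is trivial -/
theorem eq_one_of_pow_coprime {G : Type*} [Group G] {x : G} {m n : ℕ} (h : Nat.Coprime m n)
    (hm : x ^ m = 1) (hn : x ^ n = 1) : x = 1 := by
  have h1 := orderOf_dvd_of_pow_eq_one hm
  have h2 := orderOf_dvd_of_pow_eq_one hn
  have := Nat.dvd_gcd h1 h2
  rw [Nat.Coprime] at h
  rw [h, Nat.dvd_one] at this
  exact orderOf_eq_one_iff.mp this

/-- a finite group with an element of order `2 ^ j`, `j ≥ 3`, has an element of order eight -/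
theorem exists_orderOf_eight {P : Type*} [Group P] {g : P} {j : ℕ} (hg : orderOf g = 2 ^ j)
    (hj : 3 ≤ j) : ∃ y : P, orderOf y = 8 := by
  refine ⟨g ^ 2 ^ (j - 3), ?_⟩
  have hd : 2 ^ (j - 3) ∣ orderOf g := by rw [hg]; exact Nat.pow_dvd_pow 2 (by omega)
  rw [orderOf_pow_of_dvd (by positivity) hd, hg, Nat.pow_div (by omega) (by norm_num)]
  have : j - (j - 3) = 3 := by omega
  rw [this]

/-- a surjection with prescribed kernel from an isomorphism of the quotient -/
theorem hom_of_quot_equiv {G : Type*} [Group G] (N : Subgroup G) [N.Normal] {L : Type*} [Group L]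
    (ε : G ⧸ N ≃* L) : ∃ f : G →* L, Function.Surjective f ∧ f.ker = N := by
  refine ⟨ε.toMonoidHom.comp (QuotientGroup.mk' N), ?_, ?_⟩
  · exact ε.surjective.comp (QuotientGroup.mk'_surjective N)
  · ext g
    rw [MonoidHom.mem_ker, MonoidHom.comp_apply]
    show ε (QuotientGroup.mk' N g) = 1 ↔ g ∈ N
    rw [map_eq_one_iff ε ε.injective, QuotientGroup.mk'_apply, QuotientGroup.eq_one_iff]

set_option maxRecDepth 100000 in
theorem a5_no_order_four : ∀ g : Equiv.Perm (Fin 5), Equiv.Perm.sign g = 1 → g ^ 4 = 1 → g ^ 2 = 1 := by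
  decide

theorem a5_no_order_four' (g : ↥(alternatingGroup (Fin 5))) (h4 : g ^ 4 = 1) : g ^ 2 = 1 := by
  apply Subtype.ext
  have h1 : ((g : Equiv.Perm (Fin 5))) ^ 4 = 1 := by
    have := congrArg Subtype.val h4
    simpa using this
  have := a5_no_order_four (g : Equiv.Perm (Fin 5)) (Equiv.Perm.mem_alternatingGroup.mp g.2) h1
  simpa using this

/-- an extension of `A5` of degree two containing an element of order four is `S5` -/
theorem iso_S5 {Γ : Type*} [Group Γ] [Finite Γ] (A : Subgroup Γ) [hAn : A.Normal]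
    (hidx : A.index = 2) (eA : ↥A ≃* ↥(alternatingGroup (Fin 5))) (y : Γ) (hy4 : y ^ 4 = 1)
    (hy2 : y ^ 2 ≠ 1) : Nonempty (Γ ≃* Equiv.Perm (Fin 5)) := by
  -- no element of order four in `A`
  have hno4 : ∀ a : Γ, a ∈ A → a ^ 4 = 1 → a ^ 2 = 1 := by
    intro a ha h4
    have h1 : (eA ⟨a, ha⟩) ^ 4 = 1 := by
      rw [← map_pow]
      have : (⟨a, ha⟩ : ↥A) ^ 4 = 1 := Subtype.ext (by simpa using h4)
      rw [this, map_one]
    have h2 := a5_no_order_four' _ h1
    rw [← map_pow, map_eq_one_iff eA eA.injective] at h2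
    have := congrArg Subtype.val h2
    simpa using this
  -- the centre of `A` is trivial
  have hcen : ∀ a : Γ, a ∈ A → (∀ b ∈ A, a * b = b * a) → a = 1 := by
    intro a ha hab
    have h1 : eA ⟨a, ha⟩ ∈ Subgroup.center ↥(alternatingGroup (Fin 5)) := by
      rw [Subgroup.mem_center_iff]
      intro z
      obtain ⟨b, rfl⟩ := eA.surjective z
      rw [← map_mul, ← map_mul]
      congr 1
      apply Subtype.ext
      exact (hab b b.2).symm
    rw [alternatingGroup.center_eq_bot (by simp), Subgroup.mem_bot,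
      map_eq_one_iff eA eA.injective] at h1
    exact congrArg Subtype.val h1
  -- the conjugation action
  set ι : Equiv.Perm (Fin 5) ≃* MulAut ↥(alternatingGroup (Fin 5)) :=
    MulEquiv.ofBijective MulAut.conjNormal (Cfsg.Agent.S2119.result 5 (by norm_num) (by norm_num))
    with hι
  set κ : Γ →* MulAut ↥A := MulAut.conjNormal with hκ
  set χ : Γ →* Equiv.Perm (Fin 5) :=
    (ι.symm.toMonoidHom.comp (MulAut.congr eA).toMonoidHom).comp κ with hχ
  have hχker : ∀ c : Γ, χ c = 1 → ∀ b ∈ A, c * b = b * c := by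
    intro c hc b hb
    have h1 : κ c = 1 := by
      have h2 : (ι.symm.toMonoidHom.comp (MulAut.congr eA).toMonoidHom) (κ c) = 1 := hc
      have hinj : Function.Injective (ι.symm.toMonoidHom.comp (MulAut.congr eA).toMonoidHom) :=
        ι.symm.injective.comp (MulAut.congr eA).injective
      exact (map_eq_one_iff _ hinj).mp h2
    have h3 : (κ c) ⟨b, hb⟩ = ⟨b, hb⟩ := by rw [h1]; rfl
    have h4 := congrArg Subtype.val h3
    rw [hκ, MulAut.conjNormal_apply] at h4
    calc c * b = c * b * c⁻¹ * c := by group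
      _ = b * c := by rw [h4]
  have hinj : Function.Injective χ := by
    rw [injective_iff_map_eq_one]
    intro c hc
    have hcomm := hχker c hc
    by_cases hcA : c ∈ A
    · exact hcen c hcA hcomm
    · exfalso
      have hc2A : c * c ∈ A := (Subgroup.mul_mem_iff_of_index_two hidx).mpr Iff.rfl
      have hc2 : c * c = 1 := by
        apply hcen _ hc2A
        intro b hb
        rw [mul_assoc, hcomm b hb, ← mul_assoc, hcomm b hb, mul_assoc]
      by_cases hyA : y ∈ A
      · exact hy2 (hno4 y hyA hy4)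
      · have hcinv : c⁻¹ ∉ A := fun h => hcA (by simpa using A.inv_mem h)
        have haA : y * c⁻¹ ∈ A :=
          (Subgroup.mul_mem_iff_of_index_two hidx).mpr ⟨fun h => absurd h hyA, fun h => absurd h hcinv⟩
        set a := y * c⁻¹ with ha
        have hya : y = a * c := by rw [ha]; group
        have hac : a * c = c * a := (hcomm a haA).symm
        have hcinv' : c⁻¹ = c := inv_eq_of_mul_eq_one_right hc2
        have hcpow2 : c ^ 2 = 1 := by rw [sq]; exact hc2
        have h2 : y ^ 2 = a ^ 2 := by
          rw [hya, mul_pow_comm hac, hcpow2, mul_one]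
        have h4 : y ^ 4 = a ^ 4 := by
          rw [hya, mul_pow_comm hac]
          have : c ^ 4 = 1 := by
            rw [show 4 = 2 * 2 from rfl, pow_mul, hcpow2, one_pow]
          rw [this, mul_one]
        rw [h4] at hy4
        rw [h2] at hy2
        exact hy2 (hno4 a haA hy4)
  have hcardA : Nat.card ↥A = 60 := by
    rw [Nat.card_congr eA.toEquiv, nat_card_alternatingGroup]
    simp [Nat.factorial]
  have hcardΓ : Nat.card Γ = 120 := by
    rw [← Subgroup.card_mul_index A, hcardA, hidx]
  have hcardP : Nat.card (Equiv.Perm (Fin 5)) = 120 := by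
    rw [Nat.card_perm]; simp [Nat.factorial]
  have hbij : Function.Bijective χ := by
    rw [Nat.bijective_iff_injective_and_card]
    exact ⟨hinj, by rw [hcardΓ, hcardP]⟩
  exact ⟨MulEquiv.ofBijective χ hbij⟩

end Cfsg.Agent.Lib.Helper4.Fc
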