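import Mathlib
import Cfsg.Agent.Lib.Helper4.Fc5
import Cfsg.Agent.Lib.Helper4.Fc8
import Cfsg.Agent.Lib.Helper4.SLCenter
import Cfsg.Agent.S0253
set_option autoImplicit false
set_option maxHeartbeats 1000000
set_option linter.unusedVariables false
set_option linter.unusedSectionVars false
set_option linter.style.longLine false
set_option linter.unusedSimpArgs false
set_option linter.deprecated false
set_option linter.style.haveILetI false
open scoped Pointwise
universe u v

/-! Existence of the normal subgroup `N` for nonsolvable `FCP`-groups with the structure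
`(SL(2,5) × M).(≤ 2)`. -/

namespace Cfsg.Agent.Lib.Helper4.Fc

open Cfsg Cfsg.Agent.Lib.Helper2.FrobComp

theorem exists_good_nonsolvable {G : Type*} [Group G] [Finite G] (hF : FCP G)
    (hS : ∃ G₀ : Subgroup G, G₀.Normal ∧ (G₀.index = 1 ∨ G₀.index = 2) ∧
      ∃ S M : Subgroup G, S ⊔ M = G₀ ∧ S ⊓ M = ⊥ ∧ (∀ s ∈ S, ∀ x ∈ M, s * x = x * s) ∧
        Nonempty (S ≃* Matrix.SpecialLinearGroup (Fin 2) (ZMod 5)) ∧
        (∀ (p : ℕ) [Fact p.Prime] (P : Sylow p M), IsCyclic P) ∧ (Nat.card M).Coprime 30) :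
    ∃ N : Subgroup G, Good N := by
  classical
  haveI : Fact (Nat.Prime 2) := ⟨Nat.prime_two⟩
  haveI : Fact (Nat.Prime 5) := ⟨by norm_num⟩
  obtain ⟨G₀, hG₀n, hidx, S, M, hsup, hinf, hcomm, ⟨e⟩, -, hcop⟩ := hS
  haveI := hG₀n
  -- cardinalities
  have hcardSL : Nat.card (Matrix.SpecialLinearGroup (Fin 2) (ZMod 5)) = 120 := by
    have h := Cfsg.Agent.Lib.Helper4.card_SL2 (F := ZMod 5)
    rw [ZMod.card] at h
    exact h
  have hcardS : Nat.card ↥S = 120 := by rw [Nat.card_congr e.toEquiv, hcardSL]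
  have hcop2 : (Nat.card ↥M).Coprime 2 := hcop.coprime_dvd_right (by norm_num)
  have hcop3 : (Nat.card ↥M).Coprime 3 := hcop.coprime_dvd_right (by norm_num)
  have hcop5 : (Nat.card ↥M).Coprime 5 := hcop.coprime_dvd_right (by norm_num)
  have hcop120 : (Nat.card ↥M).Coprime 120 := by
    have h8 : (Nat.card ↥M).Coprime (2 ^ 3) := hcop2.pow_right 3
    have := (h8.mul_right hcop3).mul_right hcop5
    norm_num at this
    exact this
  -- the involution
  obtain ⟨t', ht'⟩ := exists_prime_orderOf_dvd_card' (G := ↥S) 2 (by rw [hcardS]; norm_num)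
  obtain ⟨t, htdef⟩ : ∃ t : G, t = (t' : G) := ⟨_, rfl⟩
  have hto : orderOf t = 2 := by rw [htdef, Subgroup.orderOf_coe]; exact ht'
  have htS : t ∈ S := by rw [htdef]; exact t'.2
  have htc : ∀ g : G, g * t = t * g := by
    intro g
    have := invol_central hF hto g
    calc g * t = g * t * g⁻¹ * g := by group
      _ = t * g := by rw [this]
  have ht2 : t * t = 1 := by rw [← sq, ← hto]; exact pow_orderOf_eq_one t
  have ht1 : t ≠ 1 := by
    intro h; rw [h, orderOf_one] at hto; omega
  obtain ⟨Z, hZdef⟩ : ∃ Z : Subgroup G, Z = Subgroup.zpowers t := ⟨_, rfl⟩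
  have hZS : Z ≤ S := by rw [hZdef, Subgroup.zpowers_le]; exact htS
  have hZc : ∀ z ∈ Z, ∀ g : G, g * z = z * g := by
    intro z hz g
    rw [hZdef] at hz
    obtain ⟨k, rfl⟩ := Subgroup.mem_zpowers_iff.mp hz
    exact (Commute.zpow_right (show Commute g t from htc g) k).eq
  have hZn : Z.Normal := by
    constructor
    intro z hz g
    have := hZc z hz g
    rw [this, mul_inv_cancel_right]
    exact hz
  have hZcases : ∀ z ∈ Z, z = 1 ∨ z = t := by
    intro z hz
    by_cases h1 : z = 1
    · exact Or.inl h1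
    · right
      rw [hZdef] at hz
      exact eq_of_mem_zpowers_of_orderOf_two hto hz h1
  have hSle : S ≤ G₀ := by rw [← hsup]; exact le_sup_left
  have hMle : M ≤ G₀ := by rw [← hsup]; exact le_sup_right
  -- `M` is normal in `G`
  have hMn : M.Normal := by
    constructor
    intro x hx g
    have hy : g * x * g⁻¹ ∈ S ⊔ M := by
      rw [hsup]; exact hG₀n.conj_mem x (hMle hx) g
    obtain ⟨s, hs, m, hm, hsm⟩ := mem_sup_comm S M hcomm hy
    have hxpow : x ^ Nat.card ↥M = 1 := pow_card_of_mem hx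
    have hypow : (g * x * g⁻¹) ^ Nat.card ↥M = 1 := by
      rw [conj_pow, hxpow, mul_one, mul_inv_cancel]
    have hmpow : m ^ Nat.card ↥M = 1 := pow_card_of_mem hm
    have hspow : s ^ Nat.card ↥M = 1 := by
      rw [hsm, mul_pow_comm (hcomm s hs m hm), hmpow, mul_one] at hypow
      exact hypow
    have hs120 : s ^ 120 = 1 := by
      have := pow_card_of_mem hs
      rw [hcardS] at this
      exact this
    have hs1 : s = 1 := eq_one_of_pow_coprime hcop120 hspow hs120
    rw [hsm, hs1, one_mul]; exact hm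
  obtain ⟨N, hNdef⟩ : ∃ N : Subgroup G, N = Z ⊔ M := ⟨_, rfl⟩
  haveI hNn : N.Normal := by rw [hNdef]; exact Subgroup.sup_normal Z M
  have hZN : Z ≤ N := by rw [hNdef]; exact le_sup_left
  have hMN : M ≤ N := by rw [hNdef]; exact le_sup_right
  have hNG₀ : N ≤ G₀ := by rw [hNdef]; exact sup_le (hZS.trans hSle) hMle
  have hNelt : ∀ y ∈ N, ∃ z ∈ Z, ∃ m ∈ M, y = z * m := by
    intro y hy
    rw [hNdef] at hy
    exact mem_sup_comm Z M (fun z hz m hm => hcomm z (hZS hz) m hm) hy
  have hZM : ∀ x, x ∈ Z → x ∈ M → x = 1 := by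
    intro x hxZ hxM
    have : x ∈ S ⊓ M := ⟨hZS hxZ, hxM⟩
    rw [hinf, Subgroup.mem_bot] at this
    exact this
  -- `2`-elements of `N` lie in `Z`
  have h2elt : ∀ y ∈ N, ∀ k : ℕ, y ^ 2 ^ k = 1 → y ∈ Z := by
    intro y hy k hk
    obtain ⟨z, hz, m, hm, rfl⟩ := hNelt y hy
    have hzm : z * m = m * z := (hZc z hz m).symm
    rw [mul_pow_comm hzm] at hk
    have hm2 : m ^ 2 ^ k = 1 := by
      apply hZM
      · have : m ^ 2 ^ k = (z ^ 2 ^ k)⁻¹ := eq_inv_of_mul_eq_one_right hk
        rw [this]; exact Z.inv_mem (Z.pow_mem hz _)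
      · exact M.pow_mem hm _
    have hmpow : m ^ Nat.card ↥M = 1 := pow_card_of_mem hm
    have hm1 : m = 1 := eq_one_of_pow_coprime (hcop2.pow_right k) hmpow hm2
    rw [hm1, mul_one]; exact hz
  -- elements of `S` in `N` lie in `Z`
  have hSN : ∀ s ∈ S, s ∈ N → s ∈ Z := by
    intro s hs hsN
    obtain ⟨z, hz, m, hm, rfl⟩ := hNelt s hsN
    have hmS : m ∈ S := by
      have : m = z⁻¹ * (z * m) := by group
      rw [this]; exact S.mul_mem (S.inv_mem (hZS hz)) hs
    have : m ∈ S ⊓ M := ⟨hmS, hm⟩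
    rw [hinf, Subgroup.mem_bot] at this
    rw [this, mul_one]; exact hz
  -- `2`-subgroups of `N` are cyclic
  have hN2 : ∀ D : Subgroup G, D ≤ N → IsPGroup 2 D → IsCyclic ↥D := by
    intro D hD hDp
    have hDZ : D ≤ Z := by
      intro d hd
      obtain ⟨k, hk⟩ := hDp ⟨d, hd⟩
      have hk' : d ^ 2 ^ k = 1 := by
        have := congrArg Subtype.val hk
        simpa using this
      exact h2elt d (hD hd) k hk'
    haveI : IsCyclic ↥Z := by rw [hZdef]; infer_instance
    exact Subgroup.isCyclic_of_le hDZ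
  have hNsyl := sylow_cyclic_of_two hF N hN2
  -- the quotient
  set π : G →* G ⧸ N := QuotientGroup.mk' N with hπ
  have hπs : Function.Surjective π := QuotientGroup.mk'_surjective N
  have hπk : π.ker = N := QuotientGroup.ker_mk' N
  set f₀ : ↥S →* G ⧸ N := π.comp S.subtype with hf₀
  have hker : f₀.ker = Subgroup.center ↥S := by
    ext s
    rw [MonoidHom.mem_ker, hf₀, MonoidHom.comp_apply, Subgroup.subtype_apply, ← MonoidHom.mem_ker,
      hπk, Subgroup.mem_center_iff]
    constructor
    · intro hsN w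
      have := hZc (s : G) (hSN s s.2 hsN) (w : G)
      exact Subtype.ext this
    · intro hsc
      -- `e s` is central, so it squares to one
      have hz : e s ∈ Subgroup.center (Matrix.SpecialLinearGroup (Fin 2) (ZMod 5)) := by
        rw [Subgroup.mem_center_iff]
        intro w
        obtain ⟨w', rfl⟩ := e.surjective w
        rw [← map_mul, ← map_mul, hsc w']
      have hz2 : (e s) ^ 2 = 1 := by
        have h1 := pow_card_of_mem hz
        have h2 := Cfsg.Agent.Lib.Helper4.card_center_SL (F := ZMod 5) 2 (by norm_num)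
        rw [ZMod.card] at h2
        have h3 : Nat.card ↥(Subgroup.center (Matrix.SpecialLinearGroup (Fin 2) (ZMod 5))) = 2 := h2
        rw [h3] at h1
        exact h1
      have hs2 : s ^ 2 = 1 := by
        rw [← map_pow, map_eq_one_iff e e.injective] at hz2
        exact hz2
      have hs2' : (s : G) ^ 2 = 1 := by
        have := congrArg Subtype.val hs2
        simpa using this
      by_cases hs1 : (s : G) = 1
      · rw [hs1]; exact N.one_mem
      · have hso : orderOf (s : G) = 2 := orderOf_eq_prime hs2' hs1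
        have : (s : G) = t := invol_unique hF hso hto
        rw [this]
        apply hZN
        rw [hZdef]; exact Subgroup.mem_zpowers t
  have hmapc : (Subgroup.center ↥S).map (e : ↥S →* Matrix.SpecialLinearGroup (Fin 2) (ZMod 5)) =
      Subgroup.center (Matrix.SpecialLinearGroup (Fin 2) (ZMod 5)) := by
    ext z
    constructor
    · rintro ⟨s, hs, rfl⟩
      rw [Subgroup.mem_center_iff]
      intro w
      obtain ⟨w', rfl⟩ := e.surjective w
      have hsc := Subgroup.mem_center_iff.mp hs w'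
      show e w' * e s = e s * e w'
      rw [← map_mul, ← map_mul, hsc]
    · intro hz
      refine ⟨e.symm z, ?_, by simp⟩
      rw [SetLike.mem_coe, Subgroup.mem_center_iff]
      intro w
      have := Subgroup.mem_center_iff.mp hz (e w)
      apply e.injective
      rw [map_mul, map_mul, e.apply_symm_apply, this]
  obtain ⟨ePSL⟩ := Cfsg.Agent.S0253.result (F := ZMod 5) (by simp)
  haveI hkn : f₀.ker.Normal := inferInstance
  have eA : ↥f₀.range ≃* ↥(alternatingGroup (Fin 5)) :=
    (QuotientGroup.quotientKerEquivRange f₀).symm.trans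
      ((QuotientGroup.quotientMulEquivOfEq hker).trans
        ((QuotientGroup.congr (Subgroup.center ↥S)
          (Subgroup.center (Matrix.SpecialLinearGroup (Fin 2) (ZMod 5))) e hmapc).trans ePSL))
  have hrange : f₀.range = G₀.map π := by
    rw [hf₀, MonoidHom.range_comp, Subgroup.range_subtype, ← hsup, Subgroup.map_sup]
    have : M.map π = ⊥ := by
      rw [Subgroup.map_eq_bot_iff, hπk]; exact hMN
    rw [this, sup_bot_eq]
  haveI hAn : (f₀.range).Normal := by rw [hrange]; exact hG₀n.map π hπs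
  have hAidx : f₀.range.index = G₀.index := by
    rw [hrange]
    exact Subgroup.index_map_eq G₀ hπs (by rw [hπk]; exact hNG₀)
  rcases hidx with h1 | h2
  · -- index one
    have htop : f₀.range = ⊤ := Subgroup.index_eq_one.mp (hAidx.trans h1)
    have ε : G ⧸ N ≃* ↥(alternatingGroup (Fin 5)) :=
      (Subgroup.topEquiv.symm.trans (MulEquiv.subgroupCongr htop.symm)).trans eA
    exact ⟨N, hNn, hNsyl,
      Or.inr (Or.inr (Or.inr (Or.inr (Or.inl (hom_of_quot_equiv N ε)))))⟩
  · -- index two: find an element of order eight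
    have h16 : 2 ^ 4 ∣ Nat.card G := by
      have h1 : Nat.card ↥G₀ * 2 = Nat.card G := by rw [← h2]; exact Subgroup.card_mul_index G₀
      have h3 : 120 ∣ Nat.card ↥G₀ := by rw [← hcardS]; exact Subgroup.card_dvd_of_le hSle
      obtain ⟨c, hc⟩ := h3
      rw [← h1, hc]
      exact ⟨15 * c, by ring⟩
    obtain ⟨P⟩ : Nonempty (Sylow 2 G) := inferInstance
    have hP16 : 2 ^ 4 ∣ Nat.card ↥(P : Subgroup G) := P.pow_dvd_card_of_pow_dvd_card h16
    have hy8 : ∃ y : G, orderOf y = 8 := by
      rcases pgroup_cyclic_or_quat hF 2 (P : Subgroup G) P.2 with hc | ⟨-, n, ⟨eQ⟩⟩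
      · obtain ⟨c, hc'⟩ := hc.exists_generator
        have hco : orderOf c = Nat.card ↥(P : Subgroup G) :=
          orderOf_eq_card_of_forall_mem_zpowers hc'
        obtain ⟨k, hk⟩ := (IsPGroup.iff_card (p := 2)).mp P.2
        rw [hk] at hco hP16
        have hk4 : 4 ≤ k := (Nat.pow_dvd_pow_iff_le_right (by norm_num)).mp hP16
        obtain ⟨y, hy⟩ := exists_orderOf_eight hco (by omega)
        exact ⟨(y : G), by rw [Subgroup.orderOf_coe]; exact hy⟩
      · have hcardP : Nat.card ↥(P : Subgroup G) = 4 * 2 ^ n := by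
          rw [Nat.card_congr eQ.toEquiv, Nat.card_eq_fintype_card, QuaternionGroup.card]
        rw [hcardP] at hP16
        have hn2 : 2 ≤ n := by
          have h1 : 2 ^ 4 ∣ 2 ^ (n + 2) := by
            have : 4 * 2 ^ n = 2 ^ (n + 2) := by rw [pow_add]; ring
            rw [← this]; exact hP16
          have := (Nat.pow_dvd_pow_iff_le_right (by norm_num)).mp h1
          omega
        have hao : orderOf (QuaternionGroup.a 1 : QuaternionGroup (2 ^ n)) = 2 ^ (n + 1) := by
          rw [QuaternionGroup.orderOf_a_one, pow_succ]; ring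
        obtain ⟨y, hy⟩ := exists_orderOf_eight hao (by omega)
        refine ⟨((eQ.symm y : ↥(P : Subgroup G)) : G), ?_⟩
        rw [Subgroup.orderOf_coe, MulEquiv.orderOf_eq]; exact hy
    obtain ⟨y, hy⟩ := hy8
    have hy4o : orderOf (y ^ 4) = 2 := by
      rw [orderOf_pow_of_dvd (by norm_num) (by rw [hy]; norm_num), hy]
    have hy4t : y ^ 4 = t := invol_unique hF hy4o hto
    have hy4 : (π y) ^ 4 = 1 := by
      rw [← map_pow, ← MonoidHom.mem_ker, hπk, hy4t]
      apply hZN; rw [hZdef]; exact Subgroup.mem_zpowers t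
    have hy2 : (π y) ^ 2 ≠ 1 := by
      intro h
      rw [← map_pow, ← MonoidHom.mem_ker, hπk] at h
      have h1 : (y ^ 2) ^ 2 ^ 2 = 1 := by
        rw [← pow_mul, show 2 * 2 ^ 2 = 8 from rfl, ← hy]; exact pow_orderOf_eq_one y
      have h2' := h2elt (y ^ 2) h 2 h1
      rcases hZcases _ h2' with h3 | h3
      · have : orderOf y ∣ 2 := orderOf_dvd_of_pow_eq_one h3
        rw [hy] at this; omega
      · have h4 : y ^ 4 = 1 := by
          rw [show 4 = 2 * 2 from rfl, pow_mul, h3, sq, ht2]
        have : orderOf y ∣ 4 := orderOf_dvd_of_pow_eq_one h4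
        rw [hy] at this; omega
    obtain ⟨ε⟩ := iso_S5 f₀.range (hAidx.trans h2) eA (π y) hy4 hy2
    exact ⟨N, hNn, hNsyl,
      Or.inr (Or.inr (Or.inr (Or.inr (Or.inr (hom_of_quot_equiv N ε)))))⟩

end Cfsg.Agent.Lib.Helper4.Fc
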