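import Mathlib
import Cfsg.Agent.Lib.Helper4.Fc7
import Cfsg.Agent.Lib.Helper4.Fc9
set_option autoImplicit false
set_option linter.unusedVariables false
set_option linter.style.longLine false
universe u v

/-! The theorem on Frobenius complements (unique normal subgroup with cyclic Sylow subgroups and
quotient in `{1, V4, A4, S4, A5, S5}`), modulo the structure theorem for nonsolvable Frobenius
complements, which enters as the hypothesis `hNS`. -/

namespace Cfsg.Agent.Lib.Helper4.Fc

open Cfsg Cfsg.Agent.Lib.Helper2.FrobComp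

theorem main_of_structure {G : Type*} [Group G] [Finite G]
    (hFC : (∃ (L : Type) (_ : Group L) (_ : Finite L) (H : Subgroup L),
      Cfsg.IsFrobeniusComplement H ∧ Nonempty (G ≃* H)))
    (hNS : ¬ Group.IsSolvable G →
      ∃ G₀ : Subgroup G, G₀.Normal ∧ (G₀.index = 1 ∨ G₀.index = 2) ∧
      ∃ S M : Subgroup G, S ⊔ M = G₀ ∧ S ⊓ M = ⊥ ∧ (∀ s ∈ S, ∀ x ∈ M, s * x = x * s) ∧
        Nonempty (S ≃* Matrix.SpecialLinearGroup (Fin 2) (ZMod 5)) ∧
        (∀ (p : ℕ) [Fact p.Prime] (P : Sylow p M), IsCyclic P) ∧ (Nat.card M).Coprime 30) :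
    ∃! N : Subgroup G, N.Normal ∧ (∀ (p : ℕ) [Fact p.Prime] (P : Sylow p N), IsCyclic P) ∧
      (N = ⊤ ∨
        (∃ f : G →* DihedralGroup 2, Function.Surjective f ∧ f.ker = N) ∨
        (∃ f : G →* alternatingGroup (Fin 4), Function.Surjective f ∧ f.ker = N) ∨
        (∃ f : G →* Equiv.Perm (Fin 4), Function.Surjective f ∧ f.ker = N) ∨
        (∃ f : G →* alternatingGroup (Fin 5), Function.Surjective f ∧ f.ker = N) ∨
        (∃ f : G →* Equiv.Perm (Fin 5), Function.Surjective f ∧ f.ker = N)) := by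
  have hF := fcp_of_hFC hFC
  have hex : ∃ N : Subgroup G, Good N := by
    by_cases hsol : Group.IsSolvable G
    · exact exists_good_solvable hsol hF
    · exact exists_good_nonsolvable hF (hNS hsol)
  obtain ⟨N, hN⟩ := hex
  exact ⟨N, hN, fun N' hN' => good_unique hF hN' hN⟩

end Cfsg.Agent.Lib.Helper4.Fc
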