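import Mathlib
import Cfsg.Agent.Lib.Helper2.P3TDefs
import Cfsg.Agent.Lib.Helper2.P3TBasis

/-! S2459 piece EA2 (`basis_of_transv`) (helper4). -/

set_option autoImplicit false
set_option linter.unusedVariables false
set_option linter.unusedSectionVars false
set_option linter.style.longLine false
set_option linter.style.haveILetI false

namespace Cfsg.Agent.Lib.Helper2.P3T

open Matrix Module

universe u v

section partA
variable {K : Type v} [Field K] {V : Type u} [AddCommGroup V] [Module K V]

/-- EA2 -/
theorem basis_of_transv [FiniteDimensional K V] (h3 : Module.finrank K V = 3)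
    (g : Module.End K V) (hdet : LinearMap.det g = 1) (x : V) (α : Module.Dual K V)
    (hg : g = 1 + LinearMap.smulRight α x) (hg1 : g ≠ 1) :
    ∃ b : Module.Basis (Fin 3) K V, LinearMap.toMatrix b b g = T1 := by
  have hαx : α x = 0 := by
    have h1 : g = LinearMap.transvection α x := by
      rw [hg]; ext v; simp [LinearMap.transvection.apply]
    rw [h1, LinearMap.transvection.det] at hdet
    simpa using hdet
  have hα0 : α ≠ 0 := by
    intro h
    apply hg1
    rw [hg, h]; ext v; simp
  have hx0 : x ≠ 0 := by
    intro h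
    apply hg1
    rw [hg, h]; ext v; simp
  have hfr : Module.finrank K (LinearMap.ker α) + 1 = Module.finrank K V :=
    Module.Dual.finrank_ker_add_one_of_ne_zero hα0
  obtain ⟨v, hv⟩ : ∃ v, α v ≠ 0 := by
    by_contra h
    push Not at h
    exact hα0 (LinearMap.ext h)
  obtain ⟨v2, hv2⟩ : ∃ v2, α v2 = 1 :=
    ⟨(α v)⁻¹ • v, by rw [map_smul, smul_eq_mul, inv_mul_cancel₀ hv]⟩
  obtain ⟨v3, hv3k, hv3⟩ : ∃ v3, α v3 = 0 ∧ v3 ∉ Submodule.span K {x} := by
    by_contra hno
    push Not at hno
    have hle : LinearMap.ker α ≤ Submodule.span K {x} :=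
      fun y hy => hno y (LinearMap.mem_ker.mp hy)
    have h1 := Submodule.finrank_mono hle
    rw [finrank_span_singleton hx0] at h1
    omega
  have hpair : LinearIndependent K ![x, v3] := by
    rw [LinearIndependent.pair_iff' hx0]
    intro a ha
    exact hv3 (Submodule.mem_span_singleton.mpr ⟨a, ha⟩)
  have hli : LinearIndependent K ![x, v2, v3] := by
    rw [Fintype.linearIndependent_iff]
    intro c hc
    rw [Fin.sum_univ_three] at hc
    simp only [Matrix.cons_val_zero, Matrix.cons_val_one, Matrix.cons_val_two, Matrix.head_cons,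
      Matrix.tail_cons] at hc
    have h1 : c 1 = 0 := by
      have := congrArg α hc
      rw [map_add, map_add, map_smul, map_smul, map_smul, hαx, hv2, hv3k] at this
      simpa using this
    rw [h1, zero_smul, add_zero] at hc
    obtain ⟨h0, h2⟩ := LinearIndependent.pair_iff.mp hpair (c 0) (c 2) hc
    intro i
    fin_cases i
    · exact h0
    · exact h1
    · exact h2
  obtain ⟨b, hb, hM⟩ := exists_basis_toMatrix h3 ![x, v2, v3] hli g T1 (by
    intro j
    rw [Fin.sum_univ_three]
    fin_cases j
    · simp [T1, hg, hαx]
    · simp only [T1, hg, Fin.mk_one, Matrix.cons_val_one, Matrix.cons_val_zero,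
        LinearMap.add_apply, Module.End.one_apply, LinearMap.smulRight_apply, hv2, one_smul]
      simp
      abel
    · simp [T1, hg, hv3k])
  exact ⟨b, hM⟩

end partA

end Cfsg.Agent.Lib.Helper2.P3T
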