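import Mathlib
import Cfsg.Agent.Lib.Helper2.SLkDefs

/-! S2479 piece GDS (helper2 farm): the determinant of a direct sum of endomorphisms. -/

set_option autoImplicit false
set_option linter.unusedVariables false
set_option linter.unusedSectionVars false
set_option linter.style.longLine false
set_option linter.style.haveILetI false

namespace Cfsg.Agent.Lib.Helper2.GLk

open Polynomial

universe u v

variable {F : Type u} [Field F]

/-- the determinant of a product of endomorphisms of a dependent family over `Fin k` -/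
theorem h4_det_piMap : ∀ (k : ℕ) (M : Fin k → Type v) [∀ i, AddCommGroup (M i)]
    [∀ i, Module F (M i)] [∀ i, Module.Finite F (M i)] (φ : ∀ i, M i →ₗ[F] M i),
    LinearMap.det (LinearMap.pi (fun i => (φ i).comp (LinearMap.proj i)) :
      (∀ i, M i) →ₗ[F] (∀ i, M i)) = ∏ i, LinearMap.det (φ i) := by
  intro k
  induction k with
  | zero =>
    intro M _ _ _ φ
    rw [Fin.prod_univ_zero]
    exact LinearMap.det_eq_one_of_subsingleton _
  | succ k ih =>
    intro M _ _ _ φ
    have hrec := ih (fun i : Fin k => M i.succ) (fun i => φ i.succ)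
    let e := Fin.consLinearEquiv F M
    let Ψ' : (∀ i : Fin k, M i.succ) →ₗ[F] (∀ i : Fin k, M i.succ) :=
      LinearMap.pi (fun i => (φ i.succ).comp (LinearMap.proj i))
    have hconj : (e : (M 0 × ∀ i : Fin k, M i.succ) →ₗ[F] (∀ i, M i)) ∘ₗ
        (LinearMap.prodMap (φ 0) Ψ') ∘ₗ (e.symm : (∀ i, M i) →ₗ[F] (M 0 × ∀ i : Fin k, M i.succ)) =
        LinearMap.pi (fun i => (φ i).comp (LinearMap.proj i)) := by
      apply LinearMap.ext
      intro x
      funext i
      refine Fin.cases ?_ (fun j => ?_) i
      · simp [e, Ψ', Fin.consLinearEquiv, Fin.consEquiv]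
      · simp [e, Ψ', Fin.consLinearEquiv, Fin.consEquiv, Fin.tail]
    rw [← hconj, LinearMap.det_conj, LinearMap.det_prodMap, hrec, Fin.prod_univ_succ]

/-- GDS -/
theorem det_lmap {k : ℕ} (M : Fin k → Type v) [∀ i, AddCommGroup (M i)] [∀ i, Module F (M i)]
    [∀ i, Module.Finite F (M i)] (φ : ∀ i, M i →ₗ[F] M i) :
    LinearMap.det (DirectSum.lmap φ) = ∏ i, LinearMap.det (φ i) := by
  classical
  let E := DirectSum.linearEquivFunOnFintype F (Fin k) M
  have hconj : (E : (DirectSum (Fin k) M) →ₗ[F] (∀ i, M i)) ∘ₗ (DirectSum.lmap φ) ∘ₗ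
      (E.symm : (∀ i, M i) →ₗ[F] DirectSum (Fin k) M) =
      LinearMap.pi (fun i => (φ i).comp (LinearMap.proj i)) := by
    apply LinearMap.ext
    intro x
    funext i
    have h1 : (E.symm x) i = x i := by
      have h := congrFun (E.apply_symm_apply x) i
      rw [← h]
      rfl
    show E (DirectSum.lmap φ (E.symm x)) i = (φ i) (x i)
    rw [← h1]
    rfl
  rw [← h4_det_piMap k M φ, ← hconj, LinearMap.det_conj]

end Cfsg.Agent.Lib.Helper2.GLk
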