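import Mathlib
import Cfsg.Agent.Lib.Helper2.SLkDefs
import Cfsg.Agent.Lib.Helper4.SLkDetLmap
import Cfsg.Agent.Lib.Helper9.SLkG2c
import Cfsg.Agent.Lib.Helper5.SLkNorm
import Cfsg.Agent.Lib.Helper2.SLkDetMul

/-! S2479 piece G2asm (helper2 farm): a matrix commuting with `A` of determinant `a ^ e i`. -/

set_option autoImplicit false
set_option maxHeartbeats 1000000
set_option linter.unusedVariables false
set_option linter.unusedSectionVars false
set_option linter.style.longLine false
set_option linter.style.haveILetI false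

namespace Cfsg.Agent.Lib.Helper2.GLk

open Polynomial

universe u v

variable {F : Type u} [Field F]

/-- `F[X]/(f)` is finite-dimensional when `f` has positive degree -/
theorem h4_finite_Qm (f : F[X]) (hf : 0 < f.natDegree) : Module.Finite F (Qm f) := by
  apply Module.finite_of_finrank_pos
  have := finrank_quotient_span_eq_natDegree (f := f)
  rw [← this] at hf
  exact hf

/-- G2asm -/
theorem exists_commuting_det_pow [Fintype F] {n k : ℕ} (A : Matrix (Fin n) (Fin n) F)
    (p : Fin k → F[X]) (e : Fin k → ℕ)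
    (hp : ∀ i, (p i).Monic ∧ Irreducible (p i) ∧ (p i).coeff 0 ≠ 0 ∧ 1 ≤ e i)
    (Φ : Mod A ≃ₗ[F[X]] DirectSum (Fin k) (fun i => F[X] ⧸ Submodule.span F[X] {p i ^ e i}))
    (i : Fin k) (a : Fˣ) :
    ∃ c : GL (Fin n) F, (c : Matrix (Fin n) (Fin n) F) * A = A * (c : Matrix (Fin n) (Fin n) F) ∧
      (c : Matrix (Fin n) (Fin n) F).det = (a : F) ^ e i := by
  classical
  obtain ⟨h, hh⟩ := exists_mulBy_det (p i) (hp i).1 (hp i).2.1 a
  haveI hfin : ∀ j, Module.Finite F (Qm (p j ^ e j)) := by
    intro j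
    apply h4_finite_Qm
    rw [Polynomial.natDegree_pow]
    exact Nat.mul_pos (hp j).2.2.2 (hp j).2.1.natDegree_pos
  -- the `F[X]`-linear endomorphism of the direct sum
  let φX : ∀ j, Qm (p j ^ e j) →ₗ[F[X]] Qm (p j ^ e j) :=
    fun j => if j = i then h • LinearMap.id else LinearMap.id
  let ψD : DirectSum (Fin k) (fun j => Qm (p j ^ e j)) →ₗ[F[X]]
      DirectSum (Fin k) (fun j => Qm (p j ^ e j)) := DirectSum.lmap φX
  let ψ : Mod A →ₗ[F[X]] Mod A :=
    (Φ.symm : _ →ₗ[F[X]] Mod A) ∘ₗ ψD ∘ₗ (Φ : Mod A →ₗ[F[X]] _)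
  -- the `F`-linear side
  let φF : ∀ j, Qm (p j ^ e j) →ₗ[F] Qm (p j ^ e j) :=
    fun j => if j = i then mulBy (p j ^ e j) h else LinearMap.id
  have hψD : ψD.restrictScalars F = DirectSum.lmap φF := by
    apply LinearMap.ext
    intro x
    apply DFinsupp.ext
    intro j
    show (DirectSum.lmap φX x) j = (DirectSum.lmap φF x) j
    rw [DirectSum.lmap_apply, DirectSum.lmap_apply]
    by_cases hj : j = i
    · simp only [φX, φF, hj, if_true]
      rfl
    · simp only [φX, φF, hj, if_false]
      rfl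
  have hdetD : LinearMap.det (M := DirectSum (Fin k) (fun j => Qm (p j ^ e j)))
      (ψD.restrictScalars F) = (a : F) ^ e i := by
    rw [hψD, det_lmap]
    rw [Finset.prod_eq_single i]
    · simp only [φF, if_true]
      rw [det_mulBy_pow _ _ (hp i).1, hh]
    · intro j _ hj
      simp only [φF, hj, if_false]
      exact LinearMap.det_id
    · intro hi
      exact absurd (Finset.mem_univ i) hi
  have hconj : ψ.restrictScalars F =
      ((Φ.restrictScalars F).symm : _ →ₗ[F] Mod A) ∘ₗ (ψD.restrictScalars F) ∘ₗ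
        ((Φ.restrictScalars F) : Mod A →ₗ[F] _) := by
    apply LinearMap.ext
    intro x
    rfl
  have hdet : LinearMap.det (ψ.restrictScalars F) = (a : F) ^ e i := by
    rw [hconj, ← hdetD]
    exact LinearMap.det_conj (M := DirectSum (Fin k) (fun j => Qm (p j ^ e j))) (N := Mod A)
      (ψD.restrictScalars F) (Φ.restrictScalars F).symm
  have hne : LinearMap.det (ψ.restrictScalars F) ≠ 0 := by
    rw [hdet]
    exact pow_ne_zero _ a.ne_zero
  obtain ⟨c, hc1, hc2⟩ := exists_commuting_of_end A ψ hne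
  exact ⟨c, hc1, hc2.trans hdet⟩

end Cfsg.Agent.Lib.Helper2.GLk
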