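import Mathlib
import Cfsg.Agent.Lib.Helper2.PSLkDefs

/-!
# S2480 P1: Burnside over the centre (helper4)
-/

set_option autoImplicit false
set_option linter.unusedVariables false
set_option linter.unusedSectionVars false
set_option linter.style.longLine false
set_option linter.style.haveILetI false

namespace Cfsg.Agent.Lib.Helper2.GLk

universe u v

/-- multiplication by a central element on conjugacy classes -/
def h4_csmul {G : Type v} [Group G] (z : Subgroup.center G) : ConjClasses G → ConjClasses G :=
  Quotient.map (fun x => (z : G) * x) (by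
    intro a b hab
    change IsConj a b at hab
    change IsConj ((z : G) * a) ((z : G) * b)
    rw [isConj_iff] at hab ⊢
    obtain ⟨c, hc⟩ := hab
    refine ⟨c, ?_⟩
    have hz := Subgroup.mem_center_iff.mp z.2 c
    rw [← hc]
    calc c * ((z : G) * a) * c⁻¹ = (c * (z : G)) * a * c⁻¹ := by group
      _ = ((z : G) * c) * a * c⁻¹ := by rw [hz]
      _ = (z : G) * (c * a * c⁻¹) := by group)

theorem h4_csmul_mk {G : Type v} [Group G] (z : Subgroup.center G) (x : G) :
    h4_csmul z (ConjClasses.mk x) = ConjClasses.mk ((z : G) * x) := rfl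

/-- the action of the centre on the conjugacy classes -/
def h4_centerAct (G : Type v) [Group G] : MulAction (Subgroup.center G) (ConjClasses G) where
  smul z C := h4_csmul z C
  one_smul C := by
    obtain ⟨x, rfl⟩ := ConjClasses.mk_surjective C
    change h4_csmul 1 (ConjClasses.mk x) = _
    rw [h4_csmul_mk]
    simp
  mul_smul z w C := by
    obtain ⟨x, rfl⟩ := ConjClasses.mk_surjective C
    change h4_csmul (z * w) (ConjClasses.mk x) = h4_csmul z (h4_csmul w (ConjClasses.mk x))
    rw [h4_csmul_mk, h4_csmul_mk, h4_csmul_mk]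
    simp [mul_assoc]

theorem h4_fixedBy_iff {G : Type v} [Group G] (z : Subgroup.center G) (C : ConjClasses G) :
    h4_csmul z C = C ↔ FixedClass (z : G) C := by
  constructor
  · intro h
    obtain ⟨x, rfl⟩ := ConjClasses.mk_surjective C
    exact ⟨x, rfl, by rw [← h4_csmul_mk]; exact h⟩
  · rintro ⟨x, rfl, hx⟩
    rw [h4_csmul_mk]; exact hx

theorem burnside_center (G : Type v) [Group G] [Finite G] [Fintype (Subgroup.center G)] :
    Nat.card (Subgroup.center G) * Nat.card (ConjClasses (G ⧸ Subgroup.center G)) =
      ∑ z : Subgroup.center G, Nat.card {C : ConjClasses G // FixedClass (z : G) C} := by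
  classical
  letI := h4_centerAct G
  haveI : Fintype G := Fintype.ofFinite G
  haveI : Fintype (ConjClasses G) := Fintype.ofFinite _
  haveI : Fintype (Quotient (MulAction.orbitRel (Subgroup.center G) (ConjClasses G))) :=
    Fintype.ofFinite _
  have hB := MulAction.sum_card_fixedBy_eq_card_orbits_mul_card_group (Subgroup.center G)
    (ConjClasses G)
  have hsmul : ∀ (z : Subgroup.center G) (C : ConjClasses G), z • C = h4_csmul z C :=
    fun z C => rfl
  -- the orbits
  have horb : Nat.card (Quotient (MulAction.orbitRel (Subgroup.center G) (ConjClasses G))) =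
      Nat.card (ConjClasses (G ⧸ Subgroup.center G)) := by
    let φ : Quotient (MulAction.orbitRel (Subgroup.center G) (ConjClasses G)) →
        ConjClasses (G ⧸ Subgroup.center G) :=
      Quotient.lift (ConjClasses.map (QuotientGroup.mk' (Subgroup.center G))) (by
        intro C C' h
        change C ∈ MulAction.orbit (Subgroup.center G) C' at h
        obtain ⟨z, hz⟩ := h
        obtain ⟨x, rfl⟩ := ConjClasses.mk_surjective C'
        change z • ConjClasses.mk x = C at hz
        rw [hsmul, h4_csmul_mk] at hz
        rw [← hz]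
        change ConjClasses.mk (QuotientGroup.mk' (Subgroup.center G) ((z : G) * x)) =
          ConjClasses.mk (QuotientGroup.mk' (Subgroup.center G) x)
        congr 1
        rw [map_mul]
        have : QuotientGroup.mk' (Subgroup.center G) (z : G) = 1 :=
          (QuotientGroup.eq_one_iff _).mpr z.2
        rw [this, one_mul])
    refine Nat.card_congr (Equiv.ofBijective φ ⟨?_, ?_⟩)
    · intro a b hab
      induction a using Quotient.inductionOn with | _ C =>
      induction b using Quotient.inductionOn with | _ C' =>
      obtain ⟨x, rfl⟩ := ConjClasses.mk_surjective C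
      obtain ⟨y, rfl⟩ := ConjClasses.mk_surjective C'
      change ConjClasses.mk (QuotientGroup.mk' (Subgroup.center G) x) =
          ConjClasses.mk (QuotientGroup.mk' (Subgroup.center G) y) at hab
      rw [ConjClasses.mk_eq_mk_iff_isConj, isConj_iff] at hab
      obtain ⟨cbar, hc⟩ := hab
      obtain ⟨c, rfl⟩ := QuotientGroup.mk'_surjective (Subgroup.center G) cbar
      rw [← map_inv, ← map_mul, ← map_mul] at hc
      have hmem : (c * x * c⁻¹)⁻¹ * y ∈ Subgroup.center G := QuotientGroup.eq.mp hc
      obtain ⟨w, hw, hy⟩ : ∃ w ∈ Subgroup.center G, y = c * x * c⁻¹ * w :=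
        ⟨_, hmem, by group⟩
      subst hy
      apply Quotient.sound
      change ConjClasses.mk x ∈ MulAction.orbit (Subgroup.center G)
        (ConjClasses.mk (c * x * c⁻¹ * w))
      refine ⟨(⟨w, hw⟩ : Subgroup.center G)⁻¹, ?_⟩
      change ((⟨w, hw⟩ : Subgroup.center G)⁻¹) • ConjClasses.mk (c * x * c⁻¹ * w) = _
      rw [hsmul, h4_csmul_mk, ConjClasses.mk_eq_mk_iff_isConj, isConj_iff]
      refine ⟨c⁻¹, ?_⟩
      have hcomm := Subgroup.mem_center_iff.mp hw (c * x * c⁻¹)
      simp only [Subgroup.coe_inv, inv_inv]
      rw [hcomm]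
      group
    · intro D
      obtain ⟨C, rfl⟩ := ConjClasses.map_surjective
        (QuotientGroup.mk'_surjective (Subgroup.center G)) D
      exact ⟨Quotient.mk _ C, rfl⟩
  -- fixed points
  have hfix : ∀ z : Subgroup.center G,
      Fintype.card (MulAction.fixedBy (ConjClasses G) z) =
        Nat.card {C : ConjClasses G // FixedClass (z : G) C} := by
    intro z
    rw [← Nat.card_eq_fintype_card]
    refine Nat.card_congr (Equiv.subtypeEquivRight ?_)
    intro C
    rw [MulAction.mem_fixedBy, hsmul]
    exact h4_fixedBy_iff z C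
  rw [Finset.sum_congr rfl (fun z _ => hfix z)] at hB
  rw [hB, ← Nat.card_eq_fintype_card, ← Nat.card_eq_fintype_card, horb, mul_comm]

end Cfsg.Agent.Lib.Helper2.GLk
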