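import Mathlib
import Cfsg.Agent.Lib.Helper2.PSLkDefs

/-!
# S2480 P2: the centre of `SL_n(F)` (helper4)
-/

set_option autoImplicit false
set_option linter.unusedVariables false
set_option linter.unusedSectionVars false
set_option linter.style.longLine false
set_option linter.style.haveILetI false

namespace Cfsg.Agent.Lib.Helper2.GLk

open Polynomial

universe u v

variable {F : Type u} [Field F]

theorem card_center_sl [Fintype F] {n : ℕ} (hn : 1 ≤ n) :
    Nat.card (Subgroup.center (Matrix.SpecialLinearGroup (Fin n) F)) =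
      Nat.gcd n (Fintype.card F - 1) := by
  classical
  have e := Matrix.SpecialLinearGroup.center_equiv_rootsOfUnity' (n := Fin n) (R := F)
    (⟨0, hn⟩ : Fin n)
  rw [Nat.card_congr e.toEquiv, Fintype.card_fin, rootsOfUnity_eq_ker,
    IsCyclic.card_powMonoidHom_ker, Nat.card_eq_fintype_card, Fintype.card_units, Nat.gcd_comm]

theorem center_sl_scalar {n : ℕ} (hn : 1 ≤ n) (z : Matrix.SpecialLinearGroup (Fin n) F)
    (hz : z ∈ Subgroup.center (Matrix.SpecialLinearGroup (Fin n) F)) :
    ∃ ζ : Fˣ, ζ ^ n = 1 ∧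
      (z : Matrix (Fin n) (Fin n) F) = (ζ : F) • (1 : Matrix (Fin n) (Fin n) F) := by
  obtain ⟨r, hr, hrz⟩ := Matrix.SpecialLinearGroup.mem_center_iff.mp hz
  rw [Fintype.card_fin] at hr
  have hn0 : n ≠ 0 := by omega
  refine ⟨Units.ofPowEqOne r n hr hn0, ?_, ?_⟩
  · ext
    simp [hr]
  · rw [← hrz]
    simp [Matrix.smul_one_eq_diagonal]

end Cfsg.Agent.Lib.Helper2.GLk
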