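import Cfsg.Agent.Lib.Helper2.PUBasic3
import Cfsg.Agent.Lib.Helper5.D2NRechoose

/-! Farm D2N (S4385), block A: unit `iia_rho` (A3). -/

set_option autoImplicit false
open Pointwise

namespace Cfsg.Agent.Lib.Helper4.D2N

open Cfsg.Agent.Lib.Helper2.PU

variable {G : Type*} [Group G]
variable {H P T K V Z W : Subgroup G} {y ρ w0 : G} {n : ℕ}

/-- A3 -/
theorem iia_rho [Finite G] (s : Setup H P T K y ρ n) (c : C2 H P T V Z w0)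
    (hW : IsW H V W w0) (u : G) (huP : u ∈ P) (huT : u ∉ T)
    (hu : ∀ x ∈ T, u * x * u⁻¹ * x⁻¹ = 1 ∨ u * x * u⁻¹ * x⁻¹ = w0) :
    ∃ ρ' : G, Setup H P T K y ρ' n ∧ ∀ x ∈ T, ρ' * x * ρ'⁻¹ * x⁻¹ ∈ W := by
  have _ := c
  let N : Subgroup G :=
    { carrier := {g | g ∈ H ∧ ∀ x ∈ T, g * x * g⁻¹ * x⁻¹ ∈ W}
      one_mem' := ⟨H.one_mem, fun x _ => by
        have e : (1 : G) * x * 1⁻¹ * x⁻¹ = 1 := by group
        rw [e]; exact W.one_mem⟩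
      mul_mem' := by
        rintro g g' ⟨hg, hgx⟩ ⟨hg', hgx'⟩
        refine ⟨H.mul_mem hg hg', fun x hx => ?_⟩
        have e : g * g' * x * (g * g')⁻¹ * x⁻¹ =
            (g * (g' * x * g'⁻¹ * x⁻¹) * g⁻¹) * (g * x * g⁻¹ * x⁻¹) := by group
        rw [e]
        exact W.mul_mem (hW.hWn g hg _ (hgx' x hx)) (hgx x hx)
      inv_mem' := by
        rintro g ⟨hg, hgx⟩
        refine ⟨H.inv_mem hg, fun x hx => ?_⟩
        have e : g⁻¹ * x * g⁻¹⁻¹ * x⁻¹ =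
            (g * (g⁻¹ * x * g) * g⁻¹ * (g⁻¹ * x * g)⁻¹)⁻¹ := by group
        rw [e]
        exact W.inv_mem (hgx _ (s.inv_conj_T hg hx)) }
  have hN : ∀ a ∈ H, ∀ x ∈ N, a * x * a⁻¹ ∈ N := by
    rintro a ha g ⟨hg, hgx⟩
    refine ⟨H.mul_mem (H.mul_mem ha hg) (H.inv_mem ha), fun x hx => ?_⟩
    have e : a * g * a⁻¹ * x * (a * g * a⁻¹)⁻¹ * x⁻¹ =
        a * (g * (a⁻¹ * x * a) * g⁻¹ * (a⁻¹ * x * a)⁻¹) * a⁻¹ := by group
    rw [e]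
    exact hW.hWn a ha _ (hgx _ (s.inv_conj_T ha hx))
  have huN : u ∈ N := by
    refine ⟨s.hPH huP, fun x hx => ?_⟩
    rcases hu x hx with h | h <;> rw [h]
    · exact W.one_mem
    · exact hW.hw0W
  obtain ⟨ρ', hρ'N, s'⟩ := Cfsg.Agent.Lib.Helper5.D2N.rechoose s N hN u huP huT huN
  exact ⟨ρ', s', hρ'N.2⟩

end Cfsg.Agent.Lib.Helper4.D2N
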