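import Cfsg.Agent.Lib.Helper2.PUBasic3

/-! Farm D2N (S4385), block A: unit `iia_T0small` (A5). -/

set_option autoImplicit false
set_option linter.unusedVariables false
open Pointwise

namespace Cfsg.Agent.Lib.Helper4.D2N

open Cfsg.Agent.Lib.Helper2.PU

variable {G : Type*} [Group G]
variable {H P T K V Z W T0 : Subgroup G} {y ρ w0 : G} {n : ℕ}

/-- A5 -/
theorem iia_T0small [Finite G] (s : Setup H P T K y ρ n) (c : C2 H P T V Z w0)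
    (hW : IsW H V W w0) (r : RhoW H V Z W ρ w0)
    (hρW : ∀ x ∈ T, ρ * x * ρ⁻¹ * x⁻¹ ∈ W) (t0 : IsT0 H T W T0 ρ)
    (hyw0 : y * w0 * y⁻¹ = w0)
    (hA1 : ∀ v ∈ V, v ∉ Z → (y * v * y⁻¹ ∈ P ∧ y * v * y⁻¹ ∉ T ∧
      ∀ x ∈ T, (y * v * y⁻¹) * x * (y * v * y⁻¹)⁻¹ * x⁻¹ = 1 ∨
        (y * v * y⁻¹) * x * (y * v * y⁻¹)⁻¹ * x⁻¹ = w0)) :
    ∀ c1 ∈ T0, ∀ c2 ∈ T0, c1 = 1 ∨ c2 = 1 ∨ c1 = c2 := by
  obtain ⟨a, ha⟩ : ∃ a, a = ρ * w0 * ρ⁻¹ := ⟨_, rfl⟩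
  have hρH : ρ ∈ H := s.hKH s.hρK
  have haW : a ∈ W := by rw [ha]; exact hW.hWn ρ hρH w0 hW.hw0W
  have haV : a ∈ V := hW.hWV haW
  have haZ : a ∉ Z := by rw [ha]; exact r.haZ
  have hlist : ∀ w ∈ W, w = 1 ∨ w = w0 ∨ w = a ∨ w = a * w0 := by rw [ha]; exact r.hlist
  have haP : a ∈ P := s.hTP (c.hVT haV)
  obtain ⟨huP, huT, hux⟩ := hA1 a haV haZ
  obtain ⟨u, hu⟩ : ∃ u, u = y * a * y⁻¹ := ⟨_, rfl⟩
  rw [← hu] at huP huT hux
  have hT0P : T0 ≤ P := t0.hT0T.trans s.hTP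
  obtain ⟨p0, hp0, hy2⟩ := s.hy2
  -- Step 1: `u` centralizes `T0`
  have hu_c : ∀ d ∈ T0, u * d = d * u := by
    intro d hd
    have h1 : u * d * u⁻¹ * d⁻¹ ∈ T0 :=
      T0.mul_mem (t0.hT0n u (s.hPH huP) d hd) (T0.inv_mem hd)
    have h2 : u * d * u⁻¹ * d⁻¹ ∈ W := by
      rcases hux d (t0.hT0T hd) with h | h <;> rw [h]
      exacts [W.one_mem, hW.hw0W]
    have h3 := t0.hT0W _ h1 h2
    exact mul_inv_eq_iff_eq_mul.mp (mul_inv_eq_one.mp h3)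
  -- Step 2: `y d y⁻¹ ∈ T0 ∪ T0 w0`
  have hstep2 : ∀ d ∈ T0, ∃ c' ∈ T0, y * d * y⁻¹ = c' ∨ y * d * y⁻¹ = c' * w0 := by
    intro d hd
    obtain ⟨g, hg⟩ : ∃ g, g = y * d * y⁻¹ := ⟨_, rfl⟩
    rw [← hg]
    have hgP : g ∈ P := by rw [hg]; exact s.hyP d (hT0P hd)
    have hda : d * a = a * d := (c.hVc a haV d (t0.hT0T hd)).symm
    have hgu : g * u = u * g := by
      calc g * u = y * (d * a) * y⁻¹ := by rw [hg, hu]; group
        _ = y * (a * d) * y⁻¹ := by rw [hda]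
        _ = u * g := by rw [hg, hu]; group
    have hyu : y * u * y⁻¹ = p0 * a * p0⁻¹ := by
      rw [← hy2 a haP, hu]; group
    have hdu := hu_c d hd
    have hg2 : g * (p0 * a * p0⁻¹) = (p0 * a * p0⁻¹) * g := by
      rw [← hyu]
      calc g * (y * u * y⁻¹) = y * (d * u) * y⁻¹ := by rw [hg]; group
        _ = y * (u * d) * y⁻¹ := by rw [hdu]
        _ = (y * u * y⁻¹) * g := by rw [hg]; group
    have hga : g * a = a * g := by
      have e0 : p0 * a * p0⁻¹ = (p0 * a * p0⁻¹ * a⁻¹) * a := by group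
      rcases c.hw0 p0 hp0 a haV with h | h
      · rw [h, one_mul] at e0
        rw [e0] at hg2; exact hg2
      · rw [h] at e0
        rw [e0] at hg2
        have hgw := c.w0_comm_P hgP
        have h3 : w0 * (g * a) = w0 * (a * g) := by
          rw [← mul_assoc, ← hgw, mul_assoc, hg2, mul_assoc]
        exact mul_left_cancel h3
    have hgT : g ∈ T := by
      by_contra hgT
      have h := c.comm_eq_w0 s hgP hgT haV haZ
      rw [hga, mul_inv_cancel_right, mul_inv_cancel] at h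
      exact c.hw01 h.symm
    obtain ⟨c', hc', w, hw, hgw⟩ := t0.hdec g hgT
    have hwu : u * w = w * u := by
      have h1 := hu_c c' hc'
      have hw' : w = c'⁻¹ * g := by rw [hgw]; group
      have h2 : u * c'⁻¹ = c'⁻¹ * u := by
        calc u * c'⁻¹ = c'⁻¹ * (c' * u) * c'⁻¹ := by group
          _ = c'⁻¹ * (u * c') * c'⁻¹ := by rw [h1]
          _ = c'⁻¹ * u := by group
      rw [hw', ← mul_assoc, h2, mul_assoc, ← hgu, mul_assoc]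
    have hwZ : w ∈ Z := c.toC2a.mem_Z_of_comm s huP huT (hW.hWV hw) hwu
    rcases hlist w hw with h | h | h | h
    · exact ⟨c', hc', Or.inl (by rw [hgw, h, mul_one])⟩
    · exact ⟨c', hc', Or.inr (by rw [hgw, h])⟩
    · exact absurd (h ▸ hwZ) haZ
    · exfalso
      apply haZ
      have h1 : a * w0 ∈ Z := h ▸ hwZ
      have h2 := Z.mul_mem h1 c.hw0Z
      rwa [mul_assoc, c.w0_sq, mul_one] at h2
  -- Step 3: the subgroup `Q`
  let Q : Subgroup G :=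
    { carrier := {x | x ∈ T0 ∧ y⁻¹ * x * y ∈ T0}
      one_mem' := ⟨T0.one_mem, by
        have e : y⁻¹ * 1 * y = 1 := by group
        rw [e]; exact T0.one_mem⟩
      mul_mem' := by
        rintro x x' ⟨hx, hxy⟩ ⟨hx', hxy'⟩
        refine ⟨T0.mul_mem hx hx', ?_⟩
        have e : y⁻¹ * (x * x') * y = (y⁻¹ * x * y) * (y⁻¹ * x' * y) := by group
        rw [e]; exact T0.mul_mem hxy hxy'
      inv_mem' := by
        rintro x ⟨hx, hxy⟩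
        refine ⟨T0.inv_mem hx, ?_⟩
        have e : y⁻¹ * x⁻¹ * y = (y⁻¹ * x * y)⁻¹ := by group
        rw [e]; exact T0.inv_mem hxy }
  have hQP : Q ≤ P := fun x hx => hT0P hx.1
  have hQy : ∀ x ∈ Q, y * x * y⁻¹ ∈ Q := by
    rintro x ⟨hx, hxy⟩
    refine ⟨?_, ?_⟩
    · have h := hy2 _ (hT0P hxy)
      have e : y * y * (y⁻¹ * x * y) * y⁻¹ * y⁻¹ = y * x * y⁻¹ := by group
      rw [e] at h
      rw [h]
      exact t0.hT0n p0 (s.hPH hp0) _ hxy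
    · have e : y⁻¹ * (y * x * y⁻¹) * y = x := by group
      rw [e]; exact hx
  have hQPinv : ∀ p ∈ P, ∀ x ∈ Q, p * x * p⁻¹ ∈ Q := by
    rintro p hp x ⟨hx, hxy⟩
    refine ⟨t0.hT0n p (s.hPH hp) x hx, ?_⟩
    have e : y⁻¹ * (p * x * p⁻¹) * y = (y⁻¹ * p * y) * (y⁻¹ * x * y) * (y⁻¹ * p * y)⁻¹ := by group
    rw [e]
    exact t0.hT0n _ (s.hPH (s.hyP' p hp)) _ hxy
  have hQH : ∀ g ∈ H, ∀ x ∈ Q, g * x * g⁻¹ ∈ Q := by
    intro g hg x hx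
    obtain ⟨k, hk, p, hp, rfl⟩ := s.hHK g hg
    obtain ⟨i, x', hx', rfl⟩ := s.hKρ k hk
    have h1 := hQPinv p hp x hx
    have hcomm : Commute ρ (p * x * p⁻¹) := t0.hT0ρ _ h1.1
    have h2 : ρ ^ i * (p * x * p⁻¹) * (ρ ^ i)⁻¹ = p * x * p⁻¹ := by
      rw [(hcomm.pow_left i).eq, mul_inv_cancel_right]
    have e : x' * ρ ^ i * p * x * (x' * ρ ^ i * p)⁻¹ =
        x' * (ρ ^ i * (p * x * p⁻¹) * (ρ ^ i)⁻¹) * x'⁻¹ := by group
    rw [e, h2]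
    exact hQPinv x' (s.hTP hx') _ h1
  have hQbot : Q = ⊥ := s.hyQ Q hQP hQH hQy
  have hQ1 : ∀ d ∈ T0, y * d * y⁻¹ ∈ T0 → d = 1 := by
    intro d hd hyd
    have hmem : y * d * y⁻¹ ∈ Q := by
      refine ⟨hyd, ?_⟩
      have e : y⁻¹ * (y * d * y⁻¹) * y = d := by group
      rw [e]; exact hd
    rw [hQbot, Subgroup.mem_bot] at hmem
    have e : d = y⁻¹ * (y * d * y⁻¹) * y := by group
    rw [e, hmem]; group
  have hstep3 : ∀ d ∈ T0, d ≠ 1 → ∃ c' ∈ T0, y * d * y⁻¹ = c' * w0 := by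
    intro d hd hd1
    obtain ⟨c', hc', h | h⟩ := hstep2 d hd
    · exact absurd (hQ1 d hd (h ▸ hc')) hd1
    · exact ⟨c', hc', h⟩
  intro c1 hc1 c2 hc2
  by_contra hcon
  push Not at hcon
  obtain ⟨h1, h2, h12⟩ := hcon
  obtain ⟨c1', hc1', e1⟩ := hstep3 c1 hc1 h1
  obtain ⟨c2', hc2', e2⟩ := hstep3 c2 hc2 h2
  apply h12
  have hd : c1 * c2⁻¹ ∈ T0 := T0.mul_mem hc1 (T0.inv_mem hc2)
  have hyd : y * (c1 * c2⁻¹) * y⁻¹ ∈ T0 := by
    have e : y * (c1 * c2⁻¹) * y⁻¹ = (y * c1 * y⁻¹) * (y * c2 * y⁻¹)⁻¹ := by group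
    rw [e, e1, e2]
    have e' : c1' * w0 * (c2' * w0)⁻¹ = c1' * c2'⁻¹ := by group
    rw [e']
    exact T0.mul_mem hc1' (T0.inv_mem hc2')
  have := hQ1 _ hd hyd
  exact mul_inv_eq_one.mp this

end Cfsg.Agent.Lib.Helper4.D2N
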