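import Cfsg.Agent.Lib.Helper2.PUBasic2

/-! Farm D2N (S4385), block C: unit `c2_J` (C2, the J-argument). -/

set_option autoImplicit false
open Pointwise

namespace Cfsg.Agent.Lib.Helper4.D2N

open Cfsg.Agent.Lib.Helper2.PU

variable {G : Type*} [Group G]
variable {H P T K : Subgroup G} {y ρ : G} {n : ℕ}

/-- an involution in a nontrivial finite 2-group -/
theorem exists_involution_of_ne_bot [Finite G] {T : Subgroup G} (hT2 : IsPGroup 2 T)
    (hTne : T ≠ ⊥) : ∃ x ∈ T, x ≠ 1 ∧ x * x = 1 := by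
  have : Fact (Nat.Prime 2) := ⟨Nat.prime_two⟩
  have h1 : Nat.card T ≠ 1 := fun h => hTne (Subgroup.card_eq_one.mp h)
  have h2 : 2 ∣ Nat.card T := hT2.card_eq_or_dvd.resolve_left h1
  obtain ⟨x, hx⟩ := exists_prime_orderOf_dvd_card' 2 h2
  refine ⟨x.1, x.2, ?_, ?_⟩
  · intro h
    have : x = 1 := Subtype.ext h
    rw [this, orderOf_one] at hx
    omega
  · have := pow_orderOf_eq_one x
    rw [hx, pow_two] at this
    exact congrArg Subtype.val this

/-- elements of `zpowers x` for `x * x = 1` -/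
theorem mem_zpowers_of_sq {x g : G} (hx : x * x = 1) (hg : g ∈ Subgroup.zpowers x) :
    g = 1 ∨ g = x := by
  obtain ⟨k, rfl⟩ := Subgroup.mem_zpowers_iff.1 hg
  have h2 : x ^ (2 : ℤ) = 1 := by rw [zpow_two]; exact hx
  rcases Int.emod_two_eq_zero_or_one k with h | h
  · left
    have hk : k = 2 * (k / 2) := by omega
    rw [hk, zpow_mul, h2, one_zpow]
  · right
    have hk : k = 2 * (k / 2) + 1 := by omega
    rw [hk, zpow_add, zpow_mul, h2, one_zpow, one_mul, zpow_one]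

/-- C2 (J-argument) -/
theorem c2_J [Finite G] (s : Setup H P T K y ρ n) :
    ∃ A : Subgroup G, A ≤ P ∧ (∀ a ∈ A, a * a = 1) ∧ ¬ A ≤ T ∧
      ∀ B : Subgroup G, B ≤ P → (∀ b ∈ B, b * b = 1) → Nat.card B ≤ Nat.card A := by
  classical
  have : Fact (Nat.Prime 2) := ⟨Nat.prime_two⟩
  let 𝒜 : Set (Subgroup G) := {A | A ≤ P ∧ ∀ a ∈ A, a * a = 1}
  have hfin : 𝒜.Finite := Set.toFinite _
  have hne : 𝒜.Nonempty :=
    ⟨⊥, bot_le, fun a ha => by rw [Subgroup.mem_bot.mp ha, one_mul]⟩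
  obtain ⟨A₀, hA₀, hmax⟩ := Set.exists_max_image 𝒜 (fun A => Nat.card A) hfin hne
  by_contra hcon
  push Not at hcon
  have hmaxT : ∀ A ∈ 𝒜, Nat.card A = Nat.card A₀ → A ≤ T := by
    intro A hA hcard
    by_contra hAT
    obtain ⟨B, hBP, hB2, hlt⟩ := hcon A hA.1 hA.2 hAT
    have h1 : Nat.card B ≤ Nat.card A₀ := hmax B ⟨hBP, hB2⟩
    omega
  let S : Set (Subgroup G) := {A | A ∈ 𝒜 ∧ Nat.card A = Nat.card A₀}
  have hJT : sSup S ≤ T := sSup_le (fun A hA => hmaxT A hA.1 hA.2)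
  have hconj : ∀ g : G, (∀ a ∈ T, g * a * g⁻¹ ∈ P) → ∀ x ∈ sSup S, g * x * g⁻¹ ∈ sSup S := by
    intro g hg
    have hle : sSup S ≤ (sSup S).comap (MulAut.conj g).toMonoidHom := by
      apply sSup_le
      intro A hA x hx
      rw [Subgroup.mem_comap]
      have hAT : A ≤ T := hmaxT A hA.1 hA.2
      have hmem : A.map (MulAut.conj g).toMonoidHom ∈ S := by
        refine ⟨⟨?_, ?_⟩, ?_⟩
        · rintro _ ⟨a, ha, rfl⟩
          exact hg a (hAT ha)
        · rintro _ ⟨a, ha, rfl⟩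
          show g * a * g⁻¹ * (g * a * g⁻¹) = 1
          have e : g * a * g⁻¹ * (g * a * g⁻¹) = g * (a * a) * g⁻¹ := by group
          rw [e, hA.1.2 a ha]; group
        · rw [Subgroup.card_map_of_injective (MulAut.conj g).injective]
          exact hA.2
      exact (le_sSup hmem) (Subgroup.mem_map_of_mem _ hx)
    intro x hx
    have h := hle hx
    rw [Subgroup.mem_comap] at h
    exact h
  have hJbot : sSup S = ⊥ := by
    apply s.hyQ (sSup S) (hJT.trans s.hTP)
    · intro a ha x hx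
      exact hconj a (fun b hb => s.hTP (s.hTn a ha b hb)) x hx
    · intro x hx
      exact hconj y (fun b hb => s.hyP b (s.hTP hb)) x hx
  have hA₀bot : A₀ = ⊥ := by
    have : A₀ ≤ sSup S := le_sSup ⟨hA₀, rfl⟩
    rw [hJbot] at this
    exact le_bot_iff.mp this
  obtain ⟨x, hxT, hx1, hx2⟩ := exists_involution_of_ne_bot s.hT2 s.hTne
  have hzA : Subgroup.zpowers x ∈ 𝒜 := by
    refine ⟨?_, ?_⟩
    · rw [Subgroup.zpowers_le]; exact s.hTP hxT
    · intro a ha
      rcases mem_zpowers_of_sq hx2 ha with h | h <;> rw [h]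
      · rw [one_mul]
      · exact hx2
  have h1 : Nat.card (Subgroup.zpowers x) ≤ Nat.card A₀ := hmax _ hzA
  have h2 : Nat.card (Subgroup.zpowers x) = 2 := by
    rw [Nat.card_zpowers]
    exact orderOf_eq_prime (by rw [pow_two]; exact hx2) hx1
  rw [hA₀bot, Subgroup.card_bot, h2] at h1
  omega

end Cfsg.Agent.Lib.Helper4.D2N
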