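import Cfsg.Agent.Lib.Helper2.PUBasic2
import Cfsg.Agent.Lib.Helper4.D2NC2

/-! Farm D2N (S4385), block C: unit `c2_ZV` (C1). -/

set_option autoImplicit false
open Pointwise

namespace Cfsg.Agent.Lib.Helper4.D2N

open Cfsg.Agent.Lib.Helper2.PU

variable {G : Type*} [Group G]
variable {H P T K : Subgroup G} {y ρ : G} {n : ℕ}

/-- `Ω₁ Z(P)`: the central elements of `P` of square one -/
def omegaZ (P : Subgroup G) : Subgroup G where
  carrier := {z | z ∈ P ∧ z * z = 1 ∧ ∀ p ∈ P, p * z = z * p}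
  one_mem' := ⟨P.one_mem, one_mul 1, fun p _ => by rw [mul_one, one_mul]⟩
  mul_mem' := by
    rintro a b ⟨ha, ha2, hac⟩ ⟨hb, hb2, hbc⟩
    refine ⟨P.mul_mem ha hb, ?_, ?_⟩
    · calc a * b * (a * b) = a * (b * a) * b := by group
        _ = a * (a * b) * b := by rw [hac b hb]
        _ = (a * a) * (b * b) := by group
        _ = 1 := by rw [ha2, hb2, one_mul]
    · intro p hp
      calc p * (a * b) = (p * a) * b := by group
        _ = (a * p) * b := by rw [hac p hp]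
        _ = a * (p * b) := by group
        _ = a * (b * p) := by rw [hbc p hp]
        _ = a * b * p := by group
  inv_mem' := by
    rintro a ⟨ha, ha2, hac⟩
    have h : a⁻¹ = a := inv_eq_of_mul_eq_one_right ha2
    rw [h]; exact ⟨ha, ha2, hac⟩

theorem mem_omegaZ {P : Subgroup G} {z : G} :
    z ∈ omegaZ P ↔ z ∈ P ∧ z * z = 1 ∧ ∀ p ∈ P, p * z = z * p := Iff.rfl

/-- `omegaZ T` is invariant under every `a` normalizing `T` -/
theorem omegaZ_conj {T : Subgroup G} {a : G} (h1 : ∀ x ∈ T, a * x * a⁻¹ ∈ T)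
    (h2 : ∀ x ∈ T, a⁻¹ * x * a ∈ T) : ∀ x ∈ omegaZ T, a * x * a⁻¹ ∈ omegaZ T := by
  rintro x ⟨hx, hx2, hxc⟩
  refine ⟨h1 x hx, ?_, ?_⟩
  · have e : a * x * a⁻¹ * (a * x * a⁻¹) = a * (x * x) * a⁻¹ := by group
    rw [e, hx2]; group
  · intro t ht
    have h3 := hxc _ (h2 t ht)
    calc t * (a * x * a⁻¹) = a * ((a⁻¹ * t * a) * x) * a⁻¹ := by group
      _ = a * (x * (a⁻¹ * t * a)) * a⁻¹ := by rw [h3]
      _ = a * x * a⁻¹ * t := by group

/-- C1 -/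
theorem c2_ZV [Finite G] (s : Setup H P T K y ρ n)
    (hII : ∀ z ∈ P, (∀ x ∈ T, z * x = x * z) → z ∈ T) :
    ∃ V Z : Subgroup G, C2a H P T V Z := by
  have hZΩ : omegaZ P ≤ omegaZ T := by
    rintro z ⟨hz, hz2, hzc⟩
    have hzT : z ∈ T := hII z hz (fun x hx => (hzc x (s.hTP hx)).symm)
    exact ⟨hzT, hz2, fun t ht => hzc t (s.hTP ht)⟩
  have hΩinv : ∀ a ∈ H, ∀ x ∈ omegaZ T, a * x * a⁻¹ ∈ omegaZ T := fun a ha =>
    omegaZ_conj (fun x hx => s.hTn a ha x hx) (fun x hx => s.inv_conj_T ha hx)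
  let F : Set (Subgroup G) := {N | omegaZ P ≤ N ∧ ∀ a ∈ H, ∀ x ∈ N, a * x * a⁻¹ ∈ N}
  have hVΩ : sInf F ≤ omegaZ T := sInf_le ⟨hZΩ, hΩinv⟩
  have hVn : ∀ a ∈ H, ∀ v ∈ sInf F, a * v * a⁻¹ ∈ sInf F := by
    intro a ha v hv
    rw [Subgroup.mem_sInf] at hv ⊢
    intro N hN
    exact hN.2 a ha v (hv N hN)
  have hZV : omegaZ P ≤ sInf F := le_sInf (fun N hN => hN.1)
  refine ⟨sInf F, omegaZ P, ?_⟩
  refine
    { hZP := fun z hz => hz
      hZmem := fun z hz hz2 hzc => ⟨hz, hz2, hzc⟩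
      hZV := hZV
      hVT := fun v hv => (hVΩ hv).1
      hVn := hVn
      hVc := fun v hv x hx => ((hVΩ hv).2.2 x hx).symm
      hV2 := fun v hv => (hVΩ hv).2.1
      hVmin := fun N hZN hN => sInf_le ⟨hZN, hN⟩
      hVZ := ?_ }
  by_contra hcon
  push Not at hcon
  -- `Z` is `H`-invariant and `y`-invariant, hence trivial
  have hZinv : ∀ a ∈ H, ∀ x ∈ omegaZ P, a * x * a⁻¹ ∈ omegaZ P :=
    fun a ha x hx => hcon _ (hVn a ha x (hZV hx))
  have hZy : ∀ x ∈ omegaZ P, y * x * y⁻¹ ∈ omegaZ P :=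
    omegaZ_conj s.hyP s.hyP'
  have hZbot : omegaZ P = ⊥ := s.hyQ (omegaZ P) (fun z hz => hz.1) hZinv hZy
  -- but `Ω₁ Z(P) ≠ 1`
  have hPne : P ≠ ⊥ := by
    intro h
    apply s.hTne
    have := s.hTP
    rw [h] at this
    exact le_bot_iff.mp this
  have : Nontrivial ↥P := (Subgroup.nontrivial_iff_ne_bot P).mpr hPne
  have hcn : Nontrivial (Subgroup.center ↥P) := s.hP2.center_nontrivial
  have hcne : Subgroup.center ↥P ≠ ⊥ := (Subgroup.nontrivial_iff_ne_bot _).mp hcn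
  obtain ⟨x, hxc, hx1, hx2⟩ :=
    exists_involution_of_ne_bot (s.hP2.to_subgroup (Subgroup.center ↥P)) hcne
  have hxZ : (x : G) ∈ omegaZ P := by
    refine ⟨x.2, congrArg Subtype.val hx2, fun p hp => ?_⟩
    have := Subgroup.mem_center_iff.mp hxc ⟨p, hp⟩
    exact congrArg Subtype.val this
  rw [hZbot, Subgroup.mem_bot] at hxZ
  exact hx1 (Subtype.ext hxZ)

end Cfsg.Agent.Lib.Helper4.D2N
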