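import Cfsg.Agent.Lib.Helper2.PUBasic2

/-! Farm D2N (S4385), block C: units `c2_transv` (C4) and `c2_w0H` (C5). -/

set_option autoImplicit false
open Pointwise

namespace Cfsg.Agent.Lib.Helper4.D2N

open Cfsg.Agent.Lib.Helper2.PU

variable {G : Type*} [Group G]
variable {H P T K V Z : Subgroup G} {y ρ w0 : G} {n : ℕ}

/-- elements of `P` outside `T` are `t x` with `x ∈ T` -/
theorem decomp_P (s : Setup H P T K y ρ n) {t p : G} (ht : t ∈ P) (htT : t ∉ T) (hp : p ∈ P)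
    (hpT : p ∉ T) : t⁻¹ * p ∈ T := by
  have h1 : t⁻¹ ∉ T := fun h => htT (by simpa using T.inv_mem h)
  exact s.hidx t⁻¹ (P.inv_mem ht) p hp h1 hpT

/-- C4 -/
theorem c2_transv (s : Setup H P T K y ρ n) (c : C2a H P T V Z)
    (hidx : ∀ v ∈ V, ∀ v' ∈ V, v ∉ Z → v' ∉ Z → v * v' ∈ Z) :
    ∃ w0 : G, w0 ∈ V ∧
      (∀ p ∈ P, ∀ v ∈ V, p * v * p⁻¹ * v⁻¹ = 1 ∨ p * v * p⁻¹ * v⁻¹ = w0) ∧
      (∀ p ∈ P, (∀ v ∈ V, p * v = v * p) → p ∈ T) ∧ w0 ∈ Z ∧ w0 ≠ 1 := by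
  obtain ⟨t, ht, htT⟩ := s.hPT
  obtain ⟨v0, hv0, hv0Z⟩ := c.hVZ
  have hVP : V ≤ P := c.hVT.trans s.hTP
  have hv0s := c.hV2 v0 hv0
  have hv0inv : v0⁻¹ = v0 := inv_eq_of_mul_eq_one_right hv0s
  -- commutator with elements of `T` is trivial
  have hT1 : ∀ p ∈ T, ∀ v ∈ V, p * v * p⁻¹ * v⁻¹ = 1 := by
    intro p hp v hv
    rw [← c.hVc v hv p hp, mul_inv_cancel_right, mul_inv_cancel]
  -- commutator of `t` with elements of `Z` is trivial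
  have hZ1 : ∀ z ∈ Z, t * z * t⁻¹ * z⁻¹ = 1 := by
    intro z hz
    rw [(c.hZP z hz).2.2 t ht, mul_inv_cancel_right, mul_inv_cancel]
  -- commutator of `t` with `v ∉ Z`
  have hV1 : ∀ v ∈ V, v ∉ Z → t * v * t⁻¹ * v⁻¹ = t * v0 * t⁻¹ * v0⁻¹ := by
    intro v hv hvZ
    have hz : v0 * v ∈ Z := hidx v0 hv0 v hv hv0Z hvZ
    have e : v = v0 * (v0 * v) := by rw [← mul_assoc, hv0s, one_mul]
    have hzc := (c.hZP _ hz).2.2 t ht
    calc t * v * t⁻¹ * v⁻¹ = t * (v0 * (v0 * v)) * t⁻¹ * (v0 * (v0 * v))⁻¹ := by rw [← e]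
      _ = t * v0 * (t⁻¹ * (t * (v0 * v)) * t⁻¹ * (v0 * v)⁻¹) * v0⁻¹ := by group
      _ = t * v0 * t⁻¹ * v0⁻¹ := by rw [hzc]; group
  -- the general commutator
  have hgen : ∀ p ∈ P, p ∉ T → ∀ v ∈ V, p * v * p⁻¹ * v⁻¹ = t * v * t⁻¹ * v⁻¹ := by
    intro p hp hpT v hv
    have hx := decomp_P s ht htT hp hpT
    have hc := c.hVc v hv _ hx
    calc p * v * p⁻¹ * v⁻¹ = t * ((t⁻¹ * p) * v) * (t⁻¹ * p)⁻¹ * t⁻¹ * v⁻¹ := by group
      _ = t * (v * (t⁻¹ * p)) * (t⁻¹ * p)⁻¹ * t⁻¹ * v⁻¹ := by rw [hc]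
      _ = t * v * t⁻¹ * v⁻¹ := by group
  have hw0V : t * v0 * t⁻¹ * v0⁻¹ ∈ V :=
    V.mul_mem (c.hVn t (s.hPH ht) v0 hv0) (V.inv_mem hv0)
  have hall : ∀ p ∈ P, ∀ v ∈ V, p * v * p⁻¹ * v⁻¹ = 1 ∨
      p * v * p⁻¹ * v⁻¹ = t * v0 * t⁻¹ * v0⁻¹ := by
    intro p hp v hv
    by_cases hpT : p ∈ T
    · exact Or.inl (hT1 p hpT v hv)
    · rw [hgen p hp hpT v hv]
      by_cases hvZ : v ∈ Z
      · exact Or.inl (hZ1 v hvZ)
      · exact Or.inr (hV1 v hv hvZ)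
  have hne : t * v0 * t⁻¹ * v0⁻¹ ≠ 1 := by
    intro h
    apply hv0Z
    have htv : t * v0 = v0 * t := by
      have := mul_inv_eq_one.mp h
      exact mul_inv_eq_iff_eq_mul.mp this
    apply c.hZmem v0 (hVP hv0) hv0s
    intro p hp
    by_cases hpT : p ∈ T
    · exact (c.hVc v0 hv0 p hpT).symm
    · have hx := decomp_P s ht htT hp hpT
      have hc := c.hVc v0 hv0 _ hx
      calc p * v0 = t * ((t⁻¹ * p) * v0) := by group
        _ = t * (v0 * (t⁻¹ * p)) := by rw [hc]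
        _ = (t * v0) * (t⁻¹ * p) := by group
        _ = (v0 * t) * (t⁻¹ * p) := by rw [htv]
        _ = v0 * p := by group
  refine ⟨t * v0 * t⁻¹ * v0⁻¹, hw0V, hall, ?_, ?_, hne⟩
  · intro p hp hcen
    by_contra hpT
    apply hne
    rw [← hgen p hp hpT v0 hv0, hcen v0 hv0, mul_inv_cancel_right, mul_inv_cancel]
  · set w := t * v0 * t⁻¹ * v0⁻¹ with hw
    have hws := c.hV2 w hw0V
    apply c.hZmem w (hVP hw0V) hws
    intro p hp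
    rcases hall p hp w hw0V with h | h
    · have := mul_inv_eq_one.mp h
      exact mul_inv_eq_iff_eq_mul.mp this
    · exfalso
      apply hne
      -- `p w p⁻¹ w⁻¹ = w` gives `p w p⁻¹ = w w = 1`
      have h1 : p * w * p⁻¹ = w * w := by
        have e1 : p * w * p⁻¹ = (p * w * p⁻¹ * w⁻¹) * w := by group
        rw [e1, h]
      rw [hws] at h1
      have h2 : w = p⁻¹ * (p * w * p⁻¹) * p := by group
      rw [h2, h1]; group

/-- C5 -/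
theorem c2_w0H (s : Setup H P T K y ρ n) (c : C2a H P T V Z) (hw0V : w0 ∈ V)
    (hw0 : ∀ p ∈ P, ∀ v ∈ V, p * v * p⁻¹ * v⁻¹ = 1 ∨ p * v * p⁻¹ * v⁻¹ = w0)
    (hw0Z : w0 ∈ Z) : ¬ ∀ a ∈ H, a * w0 = w0 * a := by
  have _ := hw0Z
  intro hcen
  have hw0s := c.hV2 w0 hw0V
  have hw0inv : w0⁻¹ = w0 := inv_eq_of_mul_eq_one_right hw0s
  have hconj : ∀ a ∈ H, ∀ m : G, (m = 1 ∨ m = w0) → a * m * a⁻¹ = m := by
    intro a ha m hm
    rcases hm with h | h <;> rw [h]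
    · group
    · rw [hcen a ha, mul_inv_cancel_right]
  have hVinv : ∀ a ∈ H, ∀ v ∈ V, a⁻¹ * v * a ∈ V := by
    intro a ha v hv
    have := c.hVn a⁻¹ (H.inv_mem ha) v hv
    simpa using this
  -- the subgroup `N1`
  let N1 : Subgroup G :=
    { carrier := {g | g ∈ H ∧ ∀ v ∈ V, g * v * g⁻¹ * v⁻¹ = 1 ∨ g * v * g⁻¹ * v⁻¹ = w0}
      one_mem' := ⟨H.one_mem, fun v _ => Or.inl (by group)⟩
      mul_mem' := by
        rintro g g' ⟨hg, hgv⟩ ⟨hg', hgv'⟩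
        refine ⟨H.mul_mem hg hg', fun v hv => ?_⟩
        have e : g * g' * v * (g * g')⁻¹ * v⁻¹ =
            (g * (g' * v * g'⁻¹ * v⁻¹) * g⁻¹) * (g * v * g⁻¹ * v⁻¹) := by group
        rw [e, hconj g hg _ (hgv' v hv)]
        rcases hgv' v hv with h1 | h1 <;> rcases hgv v hv with h2 | h2 <;> rw [h1, h2]
        · left; rw [one_mul]
        · right; rw [one_mul]
        · right; rw [mul_one]
        · left; exact hw0s
      inv_mem' := by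
        rintro g ⟨hg, hgv⟩
        refine ⟨H.inv_mem hg, fun v hv => ?_⟩
        have e : g⁻¹ * v * g⁻¹⁻¹ * v⁻¹ = (g * (g⁻¹ * v * g) * g⁻¹ * (g⁻¹ * v * g)⁻¹)⁻¹ := by group
        rw [e]
        rcases hgv _ (hVinv g hg v hv) with h | h <;> rw [h]
        · left; exact inv_one
        · right; exact hw0inv }
  have hN1 : ∀ a ∈ H, ∀ x ∈ N1, a * x * a⁻¹ ∈ N1 := by
    rintro a ha x ⟨hx, hxv⟩
    refine ⟨H.mul_mem (H.mul_mem ha hx) (H.inv_mem ha), fun v hv => ?_⟩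
    have e : a * x * a⁻¹ * v * (a * x * a⁻¹)⁻¹ * v⁻¹ =
        a * (x * (a⁻¹ * v * a) * x⁻¹ * (a⁻¹ * v * a)⁻¹) * a⁻¹ := by group
    rw [e, hconj a ha _ (hxv _ (hVinv a ha v hv))]
    exact hxv _ (hVinv a ha v hv)
  have hPN1 : P ≤ N1 := fun p hp => ⟨s.hPH hp, hw0 p hp⟩
  have hHN1 := s.closure_P N1 hN1 hPN1
  have hρH : ρ ∈ H := s.hKH s.hρK
  -- `ρ²` centralizes `V`
  have hρ2 : ρ ^ (1 + 1) ∈ Subgroup.centralizer (V : Set G) := by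
    rw [Subgroup.mem_centralizer_iff]
    intro v hv
    have h1 := (hHN1 hρH).2 v hv
    have h1' : ρ * v * ρ⁻¹ = (ρ * v * ρ⁻¹ * v⁻¹) * v := by group
    have hm : ρ * (ρ * v * ρ⁻¹ * v⁻¹) * ρ⁻¹ = ρ * v * ρ⁻¹ * v⁻¹ := hconj ρ hρH _ h1
    have e : ρ ^ (1 + 1) * v * (ρ ^ (1 + 1))⁻¹ = v := by
      calc ρ ^ (1 + 1) * v * (ρ ^ (1 + 1))⁻¹ = ρ * (ρ * v * ρ⁻¹) * ρ⁻¹ := by
            rw [pow_add, pow_one]; group
        _ = ρ * ((ρ * v * ρ⁻¹ * v⁻¹) * v) * ρ⁻¹ := by rw [← h1']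
        _ = (ρ * (ρ * v * ρ⁻¹ * v⁻¹) * ρ⁻¹) * (ρ * v * ρ⁻¹) := by group
        _ = (ρ * v * ρ⁻¹ * v⁻¹) * ((ρ * v * ρ⁻¹ * v⁻¹) * v) := by rw [hm, ← h1']
        _ = v := by
            rcases h1 with h | h <;> rw [h]
            · simp
            · rw [← mul_assoc, hw0s, one_mul]
    have := mul_inv_eq_iff_eq_mul.mp e
    exact this.symm
  have hρV := s.rho_pow_of_sq (Subgroup.centralizer (V : Set G)) hρ2
  rw [pow_one, Subgroup.mem_centralizer_iff] at hρV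
  have hρiV : ∀ i : ℕ, ∀ v ∈ V, ρ ^ i * v = v * ρ ^ i := by
    intro i v hv
    have : Commute ρ v := (hρV v hv).symm
    exact (this.pow_left i)
  -- `Z` is `H`-invariant
  have hZinv : ∀ a ∈ H, ∀ z ∈ Z, a * z * a⁻¹ ∈ Z := by
    intro a ha z hz
    obtain ⟨k, hk, p, hp, rfl⟩ := s.hHK a ha
    obtain ⟨i, x, hx, rfl⟩ := s.hKρ k hk
    have hzV : z ∈ V := c.hZV hz
    have h1 : p * z = z * p := (c.hZP z hz).2.2 p hp
    have h2 : ρ ^ i * z = z * ρ ^ i := hρiV i z hzV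
    have h3 : z * x = x * z := c.hVc z hzV x hx
    have e : x * ρ ^ i * p * z * (x * ρ ^ i * p)⁻¹ = z := by
      calc x * ρ ^ i * p * z * (x * ρ ^ i * p)⁻¹
          = x * ρ ^ i * (p * z) * p⁻¹ * (ρ ^ i)⁻¹ * x⁻¹ := by group
        _ = x * (ρ ^ i * z) * (ρ ^ i)⁻¹ * x⁻¹ := by rw [h1]; group
        _ = (x * z) * x⁻¹ := by rw [h2]; group
        _ = z := by rw [← h3]; group
    rw [e]; exact hz
  obtain ⟨v, hv, hvZ⟩ := c.hVZ
  exact hvZ (c.hVmin Z le_rfl hZinv hv)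

end Cfsg.Agent.Lib.Helper4.D2N
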