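import Cfsg.Agent.Lib.Helper2.PUBasic2
import Cfsg.Agent.Lib.Helper4.D2NC45

/-! Farm D2N (S4385), block C: unit `c2_idx` (C3). -/

set_option autoImplicit false
open Pointwise

namespace Cfsg.Agent.Lib.Helper4.D2N

open Cfsg.Agent.Lib.Helper2.PU

variable {G : Type*} [Group G]
variable {H P T K V Z : Subgroup G} {y ρ : G} {n : ℕ}

/-- the product `B V` of a subgroup `B ≤ T` with the subgroup `V` central in `T` -/
def prodBV (B V T : Subgroup G) (hBT : B ≤ T) (hVc : ∀ v ∈ V, ∀ x ∈ T, v * x = x * v) :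
    Subgroup G where
  carrier := {g | ∃ b ∈ B, ∃ u ∈ V, g = b * u}
  one_mem' := ⟨1, B.one_mem, 1, V.one_mem, (mul_one 1).symm⟩
  mul_mem' := by
    rintro _ _ ⟨b, hb, u, hu, rfl⟩ ⟨b', hb', u', hu', rfl⟩
    refine ⟨b * b', B.mul_mem hb hb', u * u', V.mul_mem hu hu', ?_⟩
    have h := hVc u hu b' (hBT hb')
    calc b * u * (b' * u') = b * (u * b') * u' := by group
      _ = b * (b' * u) * u' := by rw [h]
      _ = b * b' * (u * u') := by group
  inv_mem' := by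
    rintro _ ⟨b, hb, u, hu, rfl⟩
    refine ⟨b⁻¹, B.inv_mem hb, u⁻¹, V.inv_mem hu, ?_⟩
    have h := hVc u⁻¹ (V.inv_mem hu) b⁻¹ (hBT (B.inv_mem hb))
    rw [mul_inv_rev, h]

/-- C3 -/
theorem c2_idx [Finite G] (s : Setup H P T K y ρ n) (c : C2a H P T V Z)
    (A : Subgroup G) (hAP : A ≤ P) (hA2 : ∀ a ∈ A, a * a = 1) (hAT : ¬ A ≤ T)
    (hAmax : ∀ B : Subgroup G, B ≤ P → (∀ b ∈ B, b * b = 1) → Nat.card B ≤ Nat.card A) :
    ∀ v ∈ V, ∀ v' ∈ V, v ∉ Z → v' ∉ Z → v * v' ∈ Z := by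
  obtain ⟨t, htA, htT⟩ := SetLike.not_le_iff_exists.mp hAT
  have htP : t ∈ P := hAP htA
  have hVP : V ≤ P := c.hVT.trans s.hTP
  -- `A` is abelian
  have hAcomm : ∀ a ∈ A, ∀ b ∈ A, a * b = b * a := by
    intro a ha b hb
    have h1 : (a * b)⁻¹ = a * b := inv_eq_of_mul_eq_one_right (hA2 _ (A.mul_mem ha hb))
    have h2 : a⁻¹ = a := inv_eq_of_mul_eq_one_right (hA2 a ha)
    have h3 : b⁻¹ = b := inv_eq_of_mul_eq_one_right (hA2 b hb)
    rw [mul_inv_rev, h2, h3] at h1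
    exact h1.symm
  -- `A ⊓ V ≤ Z`
  have hAVZ : ∀ v ∈ A, v ∈ V → v ∈ Z := by
    intro v hvA hvV
    apply c.hZmem v (hAP hvA) (hA2 v hvA)
    intro p hp
    by_cases hpT : p ∈ T
    · exact (c.hVc v hvV p hpT).symm
    · have hx := decomp_P s htP htT hp hpT
      have hc := c.hVc v hvV _ hx
      have htv : t * v = v * t := hAcomm t htA v hvA
      calc p * v = t * ((t⁻¹ * p) * v) := by group
        _ = t * (v * (t⁻¹ * p)) := by rw [hc]
        _ = (t * v) * (t⁻¹ * p) := by group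
        _ = (v * t) * (t⁻¹ * p) := by rw [htv]
        _ = v * p := by group
  -- `B = A ⊓ T` has index 2 in `A`
  have hBA : A ⊓ T ≤ A := inf_le_left
  have hBT : A ⊓ T ≤ T := inf_le_right
  have hidxA : ((A ⊓ T).subgroupOf A).index = 2 := by
    rw [Subgroup.index_eq_two_iff]
    refine ⟨⟨t, htA⟩, fun b => ?_⟩
    simp only [Subgroup.mem_subgroupOf, Subgroup.coe_mul, Subgroup.mem_inf]
    by_cases hb : (b : G) ∈ T
    · right
      refine ⟨⟨b.2, hb⟩, ?_⟩
      rintro ⟨_, h⟩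
      apply htT
      have := T.mul_mem (T.inv_mem hb) h
      rwa [inv_mul_cancel_left] at this
    · left
      refine ⟨⟨A.mul_mem b.2 htA, s.hidx _ (hAP b.2) t htP hb htT⟩, ?_⟩
      rintro ⟨_, h⟩
      exact hb h
  have hcardA : Nat.card A = Nat.card (A ⊓ T : Subgroup G) * 2 := by
    have h1 := Subgroup.card_mul_index ((A ⊓ T).subgroupOf A)
    rw [hidxA, Nat.card_congr (Subgroup.subgroupOfEquivOfLe hBA).toEquiv] at h1
    exact h1.symm
  -- the subgroup `E = B V`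
  let E : Subgroup G := prodBV (A ⊓ T) V T hBT c.hVc
  have hEP : E ≤ P := by
    rintro _ ⟨b, hb, u, hu, rfl⟩
    exact P.mul_mem (hAP hb.1) (hVP hu)
  have hE2 : ∀ g ∈ E, g * g = 1 := by
    rintro _ ⟨b, hb, u, hu, rfl⟩
    have h := c.hVc u hu b hb.2
    calc b * u * (b * u) = b * (u * b) * u := by group
      _ = b * (b * u) * u := by rw [h]
      _ = (b * b) * (u * u) := by group
      _ = 1 := by rw [hA2 b hb.1, c.hV2 u hu, one_mul]
  have hcardE : Nat.card E ≤ Nat.card A := hAmax E hEP hE2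
  have hBE : A ⊓ T ≤ E := fun b hb => ⟨b, hb, 1, V.one_mem, (mul_one b).symm⟩
  have hVE : V ≤ E := fun u hu => ⟨1, (A ⊓ T).one_mem, u, hu, (one_mul u).symm⟩
  intro v hv v' hv' hvZ hv'Z
  have hvB : v ∉ A ⊓ T := fun h => hvZ (hAVZ v h.1 hv)
  have hv'B : v' ∉ A ⊓ T := fun h => hv'Z (hAVZ v' h.1 hv')
  -- the index of `B` in `E` is 2
  have hidxE : ((A ⊓ T).subgroupOf E).index = 2 := by
    have h1 := Subgroup.card_mul_index ((A ⊓ T).subgroupOf E)
    rw [Nat.card_congr (Subgroup.subgroupOfEquivOfLe hBE).toEquiv] at h1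
    have hpos : 0 < Nat.card (A ⊓ T : Subgroup G) := Nat.card_pos
    have hne1 : ((A ⊓ T).subgroupOf E).index ≠ 1 := by
      intro h
      rw [Subgroup.index_eq_one, Subgroup.subgroupOf_eq_top] at h
      exact hvB (h (hVE hv))
    have hne0 : ((A ⊓ T).subgroupOf E).index ≠ 0 := Subgroup.index_ne_zero_of_finite
    have hle : Nat.card (A ⊓ T : Subgroup G) * ((A ⊓ T).subgroupOf E).index ≤
        Nat.card (A ⊓ T : Subgroup G) * 2 := by
      rw [h1, ← hcardA]; exact hcardE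
    have := Nat.le_of_mul_le_mul_left hle hpos
    omega
  have hmem := (Subgroup.mul_mem_iff_of_index_two hidxE
    (a := (⟨v, hVE hv⟩ : ↥E)) (b := ⟨v', hVE hv'⟩)).mpr
    (by
      simp only [Subgroup.mem_subgroupOf]
      exact ⟨fun h => absurd h hvB, fun h => absurd h hv'B⟩)
  rw [Subgroup.mem_subgroupOf] at hmem
  have hvv' : v * v' ∈ A ⊓ T := hmem
  exact hAVZ _ hvv'.1 (V.mul_mem hv hv')

end Cfsg.Agent.Lib.Helper4.D2N
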