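import Cfsg.Prelude.Def_RootSubgroups

set_option autoImplicit false

namespace Cfsg.Agent.Lib.Helper4.RankOneGrp

open Cfsg

variable {G : Type*} [Group G]

theorem mem_conjBy {A : Subgroup G} {g x : G} : x ∈ conjBy A g ↔ g⁻¹ * x * g ∈ A := by
  constructor
  · rintro ⟨y, hy, rfl⟩
    simp only [MulEquiv.toMonoidHom_eq_coe, MonoidHom.coe_coe, MulAut.conj_apply]
    have : g⁻¹ * (g * y * g⁻¹) * g = y := by group
    rw [this]; exact hy
  · intro h
    refine ⟨g⁻¹ * x * g, h, ?_⟩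
    simp only [MulEquiv.toMonoidHom_eq_coe, MonoidHom.coe_coe, MulAut.conj_apply]
    group

theorem conj_mem_conjBy {A : Subgroup G} {g x : G} (hx : x ∈ A) : g * x * g⁻¹ ∈ conjBy A g := by
  rw [mem_conjBy]
  have : g⁻¹ * (g * x * g⁻¹) * g = x := by group
  rw [this]; exact hx

theorem conjBy_conjBy (A : Subgroup G) (g h : G) : conjBy (conjBy A g) h = conjBy A (h * g) := by
  ext x
  simp only [mem_conjBy]
  have : g⁻¹ * (h⁻¹ * x * h) * g = (h * g)⁻¹ * x * (h * g) := by group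
  rw [this]

theorem conjBy_one (A : Subgroup G) : conjBy A 1 = A := by
  ext x
  simp

theorem conjBy_eq_self_iff {A : Subgroup G} {g : G} :
    conjBy A g = A ↔ g ∈ Subgroup.normalizer (A : Set G) :=
  Subgroup.mem_normalizer_iff_map_conj_eq.symm

theorem conjBy_of_mem {A : Subgroup G} {g : G} (hg : g ∈ A) : conjBy A g = A :=
  conjBy_eq_self_iff.mpr (Subgroup.le_normalizer hg)

theorem conjBy_eq_iff {A B : Subgroup G} {g : G} : conjBy A g = B ↔ A = conjBy B g⁻¹ := by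
  constructor
  · rintro rfl
    rw [conjBy_conjBy, inv_mul_cancel, conjBy_one]
  · rintro rfl
    rw [conjBy_conjBy, mul_inv_cancel, conjBy_one]

theorem conjBy_inj {A B : Subgroup G} {g : G} (h : conjBy A g = conjBy B g) : A = B := by
  rw [conjBy_eq_iff, conjBy_conjBy, inv_mul_cancel, conjBy_one] at h
  exact h

theorem conjBy_eq_conjBy_iff {A : Subgroup G} {g h : G} :
    conjBy A g = conjBy A h ↔ h⁻¹ * g ∈ Subgroup.normalizer (A : Set G) := by
  rw [← conjBy_eq_self_iff, ← conjBy_conjBy, conjBy_eq_iff (g := h⁻¹), inv_inv]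

theorem conjBy_le_sup {A N : Subgroup G} {n : G} (hn : n ∈ N) : conjBy A n ≤ N ⊔ A := by
  intro x hx
  rw [mem_conjBy] at hx
  have : x = n * (n⁻¹ * x * n) * n⁻¹ := by group
  rw [this]
  exact mul_mem (mul_mem (Subgroup.mem_sup_left hn) (Subgroup.mem_sup_right hx))
    (inv_mem (Subgroup.mem_sup_left hn))

section pair

variable {A B : Subgroup G}

/-- No non-identity element of `A` normalizes `B`. -/
theorem inf_normalizer (h : IsRankOnePair A B) :
    A ⊓ Subgroup.normalizer (B : Set G) = ⊥ := by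
  rw [eq_bot_iff]
  rintro a ⟨ha, han⟩
  rw [Subgroup.mem_bot]
  by_contra hne
  obtain ⟨b, hb, -, hAB⟩ := h.cond_left a ha hne
  have h1 : conjBy B a⁻¹ = B := conjBy_eq_self_iff.mpr (inv_mem han)
  rw [h1, conjBy_eq_iff, inv_inv, conjBy_of_mem hb] at hAB
  exact h.ne hAB

theorem eq_one_of_mem_normalizer (h : IsRankOnePair A B) {a : G} (ha : a ∈ A)
    (han : a ∈ Subgroup.normalizer (B : Set G)) : a = 1 := by
  have : a ∈ A ⊓ Subgroup.normalizer (B : Set G) := ⟨ha, han⟩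
  rw [inf_normalizer h] at this
  exact this

theorem conjBy_right_inj (h : IsRankOnePair A B) {a a' : G} (ha : a ∈ A) (ha' : a' ∈ A)
    (he : conjBy B a = conjBy B a') : a = a' := by
  rw [conjBy_eq_conjBy_iff] at he
  have := eq_one_of_mem_normalizer h (mul_mem (inv_mem ha') ha) he
  exact (inv_mul_eq_one.mp this).symm

theorem left_ne_bot (h : IsRankOnePair A B) : A ≠ ⊥ := by
  intro hA
  have hB : B ≠ ⊥ := fun hB => h.ne (hA.trans hB.symm)
  obtain ⟨b, hb1⟩ := (Subgroup.ne_bot_iff_exists_ne_one).mp hB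
  obtain ⟨a, ha, ha1, -⟩ := h.cond_right b.1 b.2 (fun h => hb1 (Subtype.ext h))
  rw [hA, Subgroup.mem_bot] at ha
  exact ha1 ha

theorem exists_ne_one_left (h : IsRankOnePair A B) : ∃ a ∈ A, a ≠ 1 := by
  obtain ⟨a, ha1⟩ := (Subgroup.ne_bot_iff_exists_ne_one).mp (left_ne_bot h)
  exact ⟨a.1, a.2, fun h => ha1 (Subtype.ext h)⟩

/-- `B` is a conjugate of `A` under `A ⊔ B`. -/
theorem right_mem_unipotent (h : IsRankOnePair A B) : B ∈ unipotentSubgroups A B := by
  obtain ⟨a, ha, ha1⟩ := exists_ne_one_left h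
  obtain ⟨b, hb, -, hAB⟩ := h.cond_left a ha ha1
  refine ⟨a * b⁻¹, mul_mem (Subgroup.mem_sup_left ha) (Subgroup.mem_sup_right (inv_mem hb)), ?_⟩
  rw [← conjBy_conjBy, hAB, conjBy_conjBy, mul_inv_cancel, conjBy_one]

theorem left_mem_unipotent : A ∈ unipotentSubgroups A B :=
  ⟨1, one_mem _, (conjBy_one A).symm⟩

theorem conjBy_mem_unipotent {C : Subgroup G} (hC : C ∈ unipotentSubgroups A B) {x : G}
    (hx : x ∈ A ⊔ B) : conjBy C x ∈ unipotentSubgroups A B := by
  obtain ⟨y, hy, rfl⟩ := hC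
  exact ⟨x * y, mul_mem hx hy, conjBy_conjBy A y x⟩

/-- The set `{A} ∪ B^A`. -/
def Delta (A B : Subgroup G) : Set (Subgroup G) := {C | C = A ∨ ∃ a ∈ A, C = conjBy B a}

theorem Delta_conj_left {C : Subgroup G} (hC : C ∈ Delta A B) {a : G} (ha : a ∈ A) :
    conjBy C a ∈ Delta A B := by
  rcases hC with rfl | ⟨a', ha', rfl⟩
  · exact Or.inl (conjBy_of_mem ha)
  · exact Or.inr ⟨a * a', mul_mem ha ha', conjBy_conjBy B a' a⟩

theorem Delta_conjA_right (h : IsRankOnePair A B) {b : G} (hb : b ∈ B) :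
    conjBy A b ∈ Delta A B := by
  by_cases hb1 : b = 1
  · rw [hb1, conjBy_one]; exact Or.inl rfl
  · have hb1' : b⁻¹ ≠ 1 := fun h => hb1 (inv_eq_one.mp h)
    obtain ⟨a, ha, -, hBA⟩ := h.cond_right b⁻¹ (inv_mem hb) hb1'
    rw [inv_inv] at hBA
    exact Or.inr ⟨a⁻¹, inv_mem ha, hBA.symm⟩

theorem Delta_conj_right (h : IsRankOnePair A B) {C : Subgroup G} (hC : C ∈ Delta A B) {b : G}
    (hb : b ∈ B) : conjBy C b ∈ Delta A B := by
  rcases hC with rfl | ⟨a, ha, rfl⟩
  · exact Delta_conjA_right h hb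
  · by_cases ha1 : a = 1
    · rw [ha1, conjBy_one, conjBy_of_mem hb]
      exact Or.inr ⟨1, one_mem _, (conjBy_one B).symm⟩
    · have ha1' : a⁻¹ ≠ 1 := fun h => ha1 (inv_eq_one.mp h)
      obtain ⟨b', hb', -, hAB⟩ := h.cond_left a⁻¹ (inv_mem ha) ha1'
      rw [inv_inv] at hAB
      rw [← hAB, conjBy_conjBy]
      exact Delta_conjA_right h (mul_mem hb (inv_mem hb'))

/-- the subgroup of elements stabilising `Delta` (together with their inverses) -/
def DeltaStab (A B : Subgroup G) : Subgroup G where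
  carrier := {x | ∀ C ∈ Delta A B, conjBy C x ∈ Delta A B ∧ conjBy C x⁻¹ ∈ Delta A B}
  one_mem' := by
    intro C hC
    rw [inv_one, conjBy_one]
    exact ⟨hC, hC⟩
  mul_mem' := by
    intro x y hx hy C hC
    constructor
    · rw [← conjBy_conjBy]
      exact (hx _ (hy C hC).1).1
    · rw [mul_inv_rev, ← conjBy_conjBy]
      exact (hy _ (hx C hC).2).2
  inv_mem' := by
    intro x hx C hC
    rw [inv_inv]
    exact ⟨(hx C hC).2, (hx C hC).1⟩

theorem sup_le_DeltaStab (h : IsRankOnePair A B) : A ⊔ B ≤ DeltaStab A B := by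
  rw [sup_le_iff]
  constructor
  · intro a ha C hC
    exact ⟨Delta_conj_left hC ha, Delta_conj_left hC (inv_mem ha)⟩
  · intro b hb C hC
    exact ⟨Delta_conj_right h hC hb, Delta_conj_right h hC (inv_mem hb)⟩

/-- Every unipotent subgroup is `A` or an `A`-conjugate of `B`. -/
theorem unipotent_cases (h : IsRankOnePair A B) {C : Subgroup G}
    (hC : C ∈ unipotentSubgroups A B) : C = A ∨ ∃ a ∈ A, C = conjBy B a := by
  obtain ⟨x, hx, rfl⟩ := hC
  exact (sup_le_DeltaStab h hx A (Or.inl rfl)).1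

theorem conjBy_right_ne_left (h : IsRankOnePair A B) {a : G} (ha : a ∈ A) : conjBy B a ≠ A := by
  intro he
  rw [conjBy_eq_iff, conjBy_of_mem (inv_mem ha)] at he
  exact h.ne he.symm

/-- `A` is regular on the unipotent subgroups other than `A`. -/
theorem regular (h : IsRankOnePair A B) {C D : Subgroup G} (hC : C ∈ unipotentSubgroups A B)
    (hD : D ∈ unipotentSubgroups A B) (hCA : C ≠ A) (hDA : D ≠ A) :
    ∃! a : G, a ∈ A ∧ conjBy C a = D := by
  rcases unipotent_cases h hC with rfl | ⟨a₁, ha₁, rfl⟩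
  · exact absurd rfl hCA
  rcases unipotent_cases h hD with rfl | ⟨a₂, ha₂, rfl⟩
  · exact absurd rfl hDA
  refine ⟨a₂ * a₁⁻¹, ⟨mul_mem ha₂ (inv_mem ha₁), ?_⟩, ?_⟩
  · rw [conjBy_conjBy, inv_mul_cancel_right]
  · rintro a ⟨ha, he⟩
    rw [conjBy_conjBy] at he
    have := conjBy_right_inj h (mul_mem ha ha₁) ha₂ he
    rw [← this, mul_inv_cancel_right]

/-- 2-transitivity, normal form: move a pair of distinct members to `(A, B)`. -/
theorem move_to_AB (h : IsRankOnePair A B) {C₁ C₂ : Subgroup G}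
    (h₁ : C₁ ∈ unipotentSubgroups A B) (h₂ : C₂ ∈ unipotentSubgroups A B) (hne : C₁ ≠ C₂) :
    ∃ x ∈ A ⊔ B, conjBy C₁ x = A ∧ conjBy C₂ x = B := by
  obtain ⟨y, hy, rfl⟩ := h₁
  have h3 : conjBy C₂ y⁻¹ ∈ unipotentSubgroups A B := conjBy_mem_unipotent h₂ (inv_mem hy)
  have h4 : conjBy C₂ y⁻¹ ≠ A := by
    intro he
    rw [conjBy_eq_iff, inv_inv] at he
    exact hne he.symm
  rcases unipotent_cases h h3 with he | ⟨a, ha, he⟩
  · exact absurd he h4
  refine ⟨a⁻¹ * y⁻¹, mul_mem (Subgroup.mem_sup_left (inv_mem ha)) (inv_mem hy), ?_, ?_⟩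
  · rw [conjBy_conjBy, inv_mul_cancel_right, conjBy_of_mem (inv_mem ha)]
  · rw [← conjBy_conjBy, he, conjBy_conjBy, inv_mul_cancel, conjBy_one]

end pair

end Cfsg.Agent.Lib.Helper4.RankOneGrp
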