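import Mathlib

namespace Cfsg.Agent.Lib.Helper4.CoxA

open Equiv

section Rels

variable (n : ℕ)

abbrev W := (CoxeterMatrix.A n).Group

noncomputable def cs : CoxeterSystem (CoxeterMatrix.A n) (W n) := (CoxeterMatrix.A n).toCoxeterSystem

theorem A_apply (i j : Fin n) : (CoxeterMatrix.A n) i j =
    if i = j then 1 else (if (j : ℕ) + 1 = i ∨ (i : ℕ) + 1 = j then 3 else 2) := rfl

/-- generators indexed by ℕ -/
noncomputable def sN (k : ℕ) : W n := if h : k < n then (cs n).simple ⟨k, h⟩ else 1

theorem sN_of_lt {k : ℕ} (h : k < n) : sN n k = (cs n).simple ⟨k, h⟩ := by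
  rw [sN, dif_pos h]

theorem sN_of_not_lt {k : ℕ} (h : ¬ k < n) : sN n k = 1 := by
  rw [sN, dif_neg h]

theorem sN_mul_self (k : ℕ) : sN n k * sN n k = 1 := by
  by_cases h : k < n
  · rw [sN_of_lt n h]
    exact (cs n).simple_mul_simple_self _
  · rw [sN, dif_neg h, mul_one]

theorem sN_comm {a b : ℕ} (h : a + 2 ≤ b) : Commute (sN n a) (sN n b) := by
  by_cases hb : b < n
  · have ha : a < n := by omega
    rw [sN_of_lt n ha, sN_of_lt n hb]
    have h1 := (cs n).simple_mul_simple_pow ⟨a, ha⟩ ⟨b, hb⟩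
    have hM : (CoxeterMatrix.A n) ⟨a, ha⟩ ⟨b, hb⟩ = 2 := by
      rw [A_apply, if_neg (by simp [Fin.ext_iff]; omega), if_neg (by simp; omega)]
    rw [hM, pow_two] at h1
    have h2 := (cs n).simple_mul_simple_self ⟨a, ha⟩
    have h3 := (cs n).simple_mul_simple_self ⟨b, hb⟩
    set x := (cs n).simple ⟨a, ha⟩
    set y := (cs n).simple ⟨b, hb⟩
    -- x y x y = 1, x x = 1, y y = 1 ⇒ x y = y x
    have : x * y = y * x := by
      calc x * y = x * y * (x * y * (y * x)) := by
            rw [show x * y * (y * x) = x * (y * y) * x by group, h3, mul_one, h2, mul_one]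
        _ = (x * y * (x * y)) * (y * x) := by group
        _ = y * x := by rw [h1, one_mul]
    exact this
  · rw [sN_of_not_lt n hb]
    exact Commute.one_right _

theorem sN_braid {a : ℕ} (h : a + 1 < n) :
    sN n a * sN n (a + 1) * sN n a = sN n (a + 1) * sN n a * sN n (a + 1) := by
  have ha : a < n := by omega
  rw [sN_of_lt n ha, sN_of_lt n h]
  have h1 := (cs n).simple_mul_simple_pow ⟨a, ha⟩ ⟨a + 1, h⟩
  have hM : (CoxeterMatrix.A n) ⟨a, ha⟩ ⟨a + 1, h⟩ = 3 := by
    rw [A_apply, if_neg (by simp [Fin.ext_iff]), if_pos (by simp)]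
  rw [hM] at h1
  have h2 := (cs n).simple_mul_simple_self ⟨a, ha⟩
  have h3 := (cs n).simple_mul_simple_self ⟨a + 1, h⟩
  set x := (cs n).simple ⟨a, ha⟩
  set y := (cs n).simple ⟨a + 1, h⟩
  have hx : x⁻¹ = x := inv_eq_of_mul_eq_one_left h2
  have hy : y⁻¹ = y := inv_eq_of_mul_eq_one_left h3
  -- (x y)^3 = 1 ⇒ x y x = (y x y)⁻¹⁻¹...
  have h4 : x * y * x * (y * x * y) = 1 := by
    have : (x * y) ^ 3 = x * y * x * (y * x * y) := by
      rw [pow_succ, pow_two]; group
    rw [← this, h1]
  have h5 : x * y * x = (y * x * y)⁻¹ := eq_inv_of_mul_eq_one_left h4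
  rw [h5, mul_inv_rev, mul_inv_rev, hx, hy, mul_assoc]

/-- descending products `s_{n-1} s_{n-2} ⋯ s_{n-d}` -/
noncomputable def wd : ℕ → W n
  | 0 => 1
  | (d+1) => wd d * sN n (n - 1 - d)

theorem wd_zero : wd n 0 = 1 := rfl
theorem wd_succ (d : ℕ) : wd n (d + 1) = wd n d * sN n (n - 1 - d) := rfl

/-- `s_i` commutes with `wd d` when all indices in `wd d` are at least `i + 2` -/
theorem sN_comm_wd (i d : ℕ) (h : i + d + 2 ≤ n) : Commute (sN n i) (wd n d) := by
  induction d with
  | zero => exact Commute.one_right _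
  | succ d ih =>
    rw [wd_succ]
    exact (ih (by omega)).mul_right (sN_comm n (by omega))

/-- case (4): for `j` larger than the smallest index of `wd d`. -/
theorem wd_mul_sN (j d : ℕ) (hj : j < n) (hd : d ≤ n) (h : n - d < j) :
    wd n d * sN n j = sN n (j - 1) * wd n d := by
  -- induction on d starting from d₀ = n + 1 - j
  induction d with
  | zero => omega
  | succ d ih =>
    by_cases hbase : n - d < j
    · -- use IH, then commute
      have h1 := ih (by omega) hbase
      rw [wd_succ, mul_assoc]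
      have hc : Commute (sN n (n - 1 - d)) (sN n j) := sN_comm n (by omega)
      rw [hc.eq, ← mul_assoc, h1, mul_assoc]
    · -- base: n - d = j, so d ≥ 1
      have hjd : n - d = j := by omega
      obtain ⟨d', rfl⟩ : ∃ d', d = d' + 1 := ⟨d - 1, by omega⟩
      rw [wd_succ, wd_succ]
      have e1 : n - 1 - d' = j := by omega
      have e2 : n - 1 - (d' + 1) = j - 1 := by omega
      rw [e1, e2]
      have hc : Commute (sN n (j - 1)) (wd n d') := sN_comm_wd n (j - 1) d' (by omega)
      have hb := sN_braid n (a := j - 1) (by omega)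
      rw [show j - 1 + 1 = j by omega] at hb
      calc wd n d' * sN n j * sN n (j - 1) * sN n j
          = wd n d' * (sN n j * sN n (j - 1) * sN n j) := by group
        _ = wd n d' * (sN n (j - 1) * sN n j * sN n (j - 1)) := by rw [hb]
        _ = (wd n d' * sN n (j - 1)) * sN n j * sN n (j - 1) := by group
        _ = sN n (j - 1) * wd n d' * sN n j * sN n (j - 1) := by rw [hc.eq]
        _ = sN n (j - 1) * (wd n d' * sN n j * sN n (j - 1)) := by group

end Rels

end Cfsg.Agent.Lib.Helper4.CoxA
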