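import Mathlib
import Cfsg.Agent.Lib.Helper4.CoxA1

namespace Cfsg.Agent.Lib.Helper4.CoxA

open Equiv

section Step

variable (n : ℕ)

theorem liftable_castSucc : (CoxeterMatrix.A n).IsLiftable
    (fun i : Fin n => (cs (n + 1)).simple i.castSucc) := by
  intro i i'
  have h := (cs (n + 1)).simple_mul_simple_pow i.castSucc i'.castSucc
  have hM : (CoxeterMatrix.A (n + 1)) i.castSucc i'.castSucc = (CoxeterMatrix.A n) i i' := by
    rw [A_apply, A_apply]
    simp only [Fin.castSucc_inj, Fin.val_castSucc]
  rw [hM] at h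
  exact h

/-- the inclusion of `W(A_n)` in `W(A_{n+1})` -/
noncomputable def rho : W n →* W (n + 1) :=
  (cs n).lift ⟨fun i : Fin n => (cs (n + 1)).simple i.castSucc, liftable_castSucc n⟩

theorem rho_simple (i : Fin n) : rho n ((cs n).simple i) = (cs (n + 1)).simple i.castSucc :=
  (cs n).lift_apply_simple (liftable_castSucc n) i

theorem sN_mem_range {j : ℕ} (hj : j < n) : sN (n + 1) j ∈ (rho n).range := by
  refine ⟨(cs n).simple ⟨j, hj⟩, ?_⟩
  rw [rho_simple, sN_of_lt (n + 1) (by omega : j < n + 1)]
  rfl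

theorem exists_decomp (w : W (n + 1)) :
    ∃ d, d ≤ n + 1 ∧ ∃ h ∈ (rho n).range, w = h * wd (n + 1) d := by
  induction w using (cs (n + 1)).simple_induction_right with
  | one => exact ⟨0, by omega, 1, Subgroup.one_mem _, by rw [wd_zero, mul_one]⟩
  | mul_simple_right w i ih =>
    obtain ⟨d, hd, h, hh, rfl⟩ := ih
    have hi : (cs (n + 1)).simple i = sN (n + 1) (i : ℕ) := by
      rw [sN_of_lt (n + 1) i.2]
    rw [hi]
    set j := (i : ℕ) with hjdef
    have hj : j < n + 1 := i.2
    rcases lt_trichotomy (j + 1) (n + 1 - d) with h1 | h1 | h1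
    · -- case (1)
      have hc := sN_comm_wd (n + 1) j d (by omega)
      refine ⟨d, hd, h * sN (n + 1) j, Subgroup.mul_mem _ hh (sN_mem_range n (by omega)), ?_⟩
      rw [mul_assoc, ← hc.eq, mul_assoc]
    · -- case (2)
      refine ⟨d + 1, by omega, h, hh, ?_⟩
      rw [wd_succ, show n + 1 - 1 - d = j by omega, mul_assoc]
    · by_cases h2 : j = n + 1 - d
      · -- case (3)
        obtain ⟨d', rfl⟩ : ∃ d', d = d' + 1 := ⟨d - 1, by omega⟩
        refine ⟨d', by omega, h, hh, ?_⟩
        rw [wd_succ, show n + 1 - 1 - d' = j by omega, mul_assoc, mul_assoc, sN_mul_self, mul_one]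
      · -- case (4)
        have h3 : n + 1 - d < j := by omega
        have := wd_mul_sN (n + 1) j d hj hd h3
        refine ⟨d, hd, h * sN (n + 1) (j - 1),
          Subgroup.mul_mem _ hh (sN_mem_range n (by omega)), ?_⟩
        rw [mul_assoc, this, mul_assoc]

end Step

theorem finite_and_card_le (n : ℕ) : Finite (W n) ∧ Nat.card (W n) ≤ (n + 1).factorial := by
  induction n with
  | zero =>
    have hsub : ∀ w : W 0, w = 1 := by
      intro w
      induction w using (cs 0).simple_induction_right with
      | one => rfl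
      | mul_simple_right w i ih => exact i.elim0
    haveI : Subsingleton (W 0) := ⟨fun a b => by rw [hsub a, hsub b]⟩
    refine ⟨inferInstance, ?_⟩
    rw [Nat.card_unique]
    simp
  | succ n ih =>
    obtain ⟨hfin, hcard⟩ := ih
    haveI := hfin
    haveI : Finite (rho n).range := Finite.of_surjective _ (rho n).rangeRestrict_surjective
    let F : ↥(rho n).range × Fin (n + 2) → W (n + 1) := fun p => (p.1 : W (n + 1)) * wd (n + 1) p.2
    have hF : Function.Surjective F := by
      intro w
      obtain ⟨d, hd, h, hh, rfl⟩ := exists_decomp n w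
      exact ⟨(⟨h, hh⟩, ⟨d, by omega⟩), rfl⟩
    haveI : Finite (W (n + 1)) := Finite.of_surjective F hF
    refine ⟨inferInstance, ?_⟩
    have h1 := Nat.card_le_card_of_surjective F hF
    have h2 : Nat.card ↥(rho n).range ≤ Nat.card (W n) :=
      Nat.card_le_card_of_surjective _ (rho n).rangeRestrict_surjective
    rw [Nat.card_prod, Nat.card_eq_fintype_card (α := Fin (n + 2)), Fintype.card_fin] at h1
    calc Nat.card (W (n + 1)) ≤ Nat.card ↥(rho n).range * (n + 2) := h1
      _ ≤ (n + 1).factorial * (n + 2) := Nat.mul_le_mul_right _ (h2.trans hcard)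
      _ = (n + 1 + 1).factorial := by rw [Nat.factorial_succ (n + 1)]; ring

end Cfsg.Agent.Lib.Helper4.CoxA
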