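import Mathlib
import Cfsg.Agent.Lib.Helper4.CoxA2

namespace Cfsg.Agent.Lib.Helper4.CoxA

open Equiv

theorem liftable_swap (n : ℕ) : (CoxeterMatrix.A n).IsLiftable
    (fun i : Fin n => (swap i.castSucc i.succ : Perm (Fin (n + 1)))) := by
  intro i i'
  rw [A_apply]
  change (swap i.castSucc i.succ * swap i'.castSucc i'.succ : Perm (Fin (n + 1))) ^
    (if i = i' then 1 else (if (i' : ℕ) + 1 = i ∨ (i : ℕ) + 1 = i' then 3 else 2)) = 1
  by_cases h : i = i'
  · subst h
    rw [if_pos rfl, pow_one, swap_mul_self]
  · rw [if_neg h]
    by_cases h2 : (i' : ℕ) + 1 = i ∨ (i : ℕ) + 1 = i'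
    · rw [if_pos h2]
      rcases h2 with h2 | h2
      · -- i = i' + 1 : swap (i'+1) (i'+2) * swap i' (i'+1)
        have e : i.castSucc = i'.succ := by
          apply Fin.ext; simp [h2]
        rw [e, swap_comm i'.castSucc i'.succ]
        have h3 : (swap i'.succ i.succ * swap i'.succ i'.castSucc).IsThreeCycle := by
          apply Equiv.Perm.isThreeCycle_swap_mul_swap_same
          · intro h4; have := congrArg Fin.val h4; simp at this; omega
          · intro h4; have := congrArg Fin.val h4; simp at this
          · intro h4; have := congrArg Fin.val h4; simp at this; omega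
        have h5 := pow_orderOf_eq_one (swap i'.succ i.succ * swap i'.succ i'.castSucc)
        rw [h3.orderOf] at h5
        exact h5
      · have e : i'.castSucc = i.succ := by
          apply Fin.ext; simp [h2]
        rw [e, swap_comm i.castSucc i.succ]
        have h3 : (swap i.succ i.castSucc * swap i.succ i'.succ).IsThreeCycle := by
          apply Equiv.Perm.isThreeCycle_swap_mul_swap_same
          · intro h4; have := congrArg Fin.val h4; simp at this
          · intro h4; have := congrArg Fin.val h4; simp at this; omega
          · intro h4; have := congrArg Fin.val h4; simp at this; omega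
        have h5 := pow_orderOf_eq_one (swap i.succ i.castSucc * swap i.succ i'.succ)
        rw [h3.orderOf] at h5
        exact h5
    · rw [if_neg h2]
      have hne : (i : ℕ) ≠ i' := fun h3 => h (Fin.ext h3)
      have hd : Equiv.Perm.Disjoint (swap i.castSucc i.succ) (swap i'.castSucc i'.succ) := by
        apply Equiv.Perm.disjoint_swap_swap
        simp only [List.nodup_cons, List.mem_cons, List.not_mem_nil, or_false, not_or,
          List.nodup_nil, and_true, Fin.ext_iff, Fin.val_castSucc, Fin.val_succ]
        push Not at h2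
        refine ⟨⟨?_, ?_, ?_⟩, ⟨?_, ?_⟩, ?_, not_false⟩ <;> omega
      rw [hd.commute.mul_pow, pow_two, pow_two, swap_mul_self, swap_mul_self, one_mul]

/-- the canonical map to the symmetric group -/
noncomputable def toPerm (n : ℕ) : W n →* Perm (Fin (n + 1)) :=
  (cs n).lift ⟨fun i : Fin n => (swap i.castSucc i.succ : Perm (Fin (n + 1))), liftable_swap n⟩

theorem toPerm_simple (n : ℕ) (i : Fin n) :
    toPerm n ((cs n).simple i) = swap i.castSucc i.succ :=
  (cs n).lift_apply_simple (liftable_swap n) i

theorem toPerm_surjective (n : ℕ) : Function.Surjective (toPerm n) := by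
  rw [← MonoidHom.mrange_eq_top, eq_top_iff, ← Equiv.Perm.mclosure_swap_castSucc_succ n,
    Submonoid.closure_le]
  rintro _ ⟨i, rfl⟩
  exact ⟨(cs n).simple i, toPerm_simple n i⟩

theorem toPerm_bijective (n : ℕ) : Function.Bijective (toPerm n) := by
  obtain ⟨hfin, hcard⟩ := finite_and_card_le n
  haveI := hfin
  apply (toPerm_surjective n).bijective_of_nat_card_le
  rw [Nat.card_eq_fintype_card (α := Perm (Fin (n + 1))), Fintype.card_perm, Fintype.card_fin]
  exact hcard

theorem main (n : ℕ) :
    ∃ c : CoxeterSystem (CoxeterMatrix.A n) (Equiv.Perm (Fin (n + 1))),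
      ∀ i : Fin n, c.simple i = Equiv.swap i.castSucc i.succ := by
  refine ⟨⟨(MulEquiv.ofBijective (toPerm n) (toPerm_bijective n)).symm⟩, fun i => ?_⟩
  change (MulEquiv.ofBijective (toPerm n) (toPerm_bijective n)).symm.symm (PresentedGroup.of i) = _
  rw [MulEquiv.symm_symm]
  exact toPerm_simple n i

end Cfsg.Agent.Lib.Helper4.CoxA
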