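import Mathlib
import Cfsg.Agent.Lib.Helper5.TwAutDefs2
import Cfsg.Agent.Lib.Helper4.AutB1a
import Cfsg.Agent.Lib.Helper4.TwAutT4a
import Cfsg.Agent.Lib.Helper2.TwAutT3

set_option autoImplicit false
set_option linter.unusedVariables false
set_option linter.unusedSectionVars false

/-!
TWISTED-OUT farm, unit B3 (generic part): an automorphism `θ` of the twisted group `G1`
preserving `U ∩ G1`, `V ∩ G1` and `B ∩ G1` maps the minimal parabolic of a node onto the minimal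
parabolic of a node, and the negative node subgroup onto the negative node subgroup.
The inputs of the units B2 (`P_J ∩ V ⊆ X_{-J}`) and T2b (`X_{-J} ∩ G1 = {y_J(t)}`) are
hypotheses here.
-/

namespace Cfsg.Agent.Lib.Helper4.TwAut

open Cfsg Cfsg.Lie Cfsg.Agent.Lib.Helper5.ChevStruct Cfsg.Agent.Lib.Helper5.ChevSym
open Cfsg.Agent.Lib.Helper5.TwAut Cfsg.Agent.Lib.Helper5.RankOneHom

variable {K : Type*} [Field K] [Fintype K] (D : ChevalleyDatum) (hD : D ∈ Seven) (G : GraphData)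
  (hp : checkGraphPerm D G = true) (f : K →+* K) (rho : Equiv.Perm (Fin D.rank))
  (orbs : List (List ℕ)) (G1 : Subgroup (GL D.Idx K)) (m : ℕ)
  (hyp : TwAutHyp D hD G hp f rho orbs G1 m)

include hyp in
/-- `X_{-J} ∩ G1 = P_J ∩ V` -/
theorem h4_mem_negJ_iff
    (hB2 : ∀ (J : List ℕ) (hJ : J ∈ orbs) (g : ↥G1), g ∈ (bnT hyp).parabolic {nT hyp J hJ} →
      (g : GL D.Idx K) ∈ D.negUnipotent K → (g : GL D.Idx K) ∈ rootSetSub D K (negJ D J))
    (hT2 : ∀ (J : List ℕ) (hJ : J ∈ orbs) (g : GL D.Idx K), g ∈ rootSetSub D K (negJ D J) →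
      g ∈ G1 → ∃ t, InK f J t ∧ g = yT D hD f J t)
    (J : List ℕ) (hJ : J ∈ orbs) (g : ↥G1) :
    (g : GL D.Idx K) ∈ rootSetSub D K (negJ D J) ↔
      g ∈ (bnT hyp).parabolic {nT hyp J hJ} ∧ (g : GL D.Idx K) ∈ D.negUnipotent K := by
  have hwd := hyp.bn.hO.wd J hJ
  constructor
  · intro hg
    have hgV : (g : GL D.Idx K) ∈ D.negUnipotent K := by
      apply h4_rootSetSub_le_neg D (negJ D J) _ hg
      rintro r ⟨i, hi, rfl⟩
      exact isNegRoot_neg_simple D hD i (hwd i hi)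
    refine ⟨?_, hgV⟩
    obtain ⟨t, _, hgt⟩ := hT2 J hJ g hg g.2
    have R := Cfsg.Agent.Lib.Helper2.TwAut.relT D hD G hp f rho orbs G1 m hyp J hJ
    -- x := n⁻¹ g n = x_J(-t) ∈ U ⊆ B
    have hx : ((nT hyp J hJ)⁻¹ * g * nT hyp J hJ : ↥G1) ∈ (bnT hyp).B := by
      have hB : (bnT hyp).B = (D.borelSubgroup K ⊓ G1).subgroupOf G1 := rfl
      rw [hB, Subgroup.mem_subgroupOf]
      refine Subgroup.mem_inf.2 ⟨?_, ((nT hyp J hJ)⁻¹ * g * nT hyp J hJ : ↥G1).2⟩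
      have hval : (((nT hyp J hJ)⁻¹ * g * nT hyp J hJ : ↥G1) : GL D.Idx K)
          = xT D hD f J (-t) := by
        have h1 := R.n_x (-t)
        simp only [neg_neg] at h1
        -- h1 : n * X (-t) = Y t * n
        simp only [Subgroup.coe_mul, Subgroup.coe_inv, nT]
        rw [hgt, mul_assoc, ← h1]
        group
      rw [hval]
      exact Subgroup.mem_sup_left (h4_xT_mem_pos D hD f J hwd (-t))
    have hn : nT hyp J hJ ∈ (bnT hyp).parabolic {nT hyp J hJ} :=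
      Cfsg.Agent.Lib.Helper4.AutB1.h4_self_mem_parabolic (bnT hyp) _
    have e : g = nT hyp J hJ * ((nT hyp J hJ)⁻¹ * g * nT hyp J hJ) * (nT hyp J hJ)⁻¹ := by group
    rw [e]
    exact mul_mem (mul_mem hn (Cfsg.Agent.Lib.Helper4.BNPair.B_le_parabolic _ hx)) (inv_mem hn)
  · rintro ⟨hgP, hgV⟩
    exact hB2 J hJ g hgP hgV

include hyp in
/-- B3, generic form -/
theorem h4_exists_node_map
    (hB2 : ∀ (J : List ℕ) (hJ : J ∈ orbs) (g : ↥G1), g ∈ (bnT hyp).parabolic {nT hyp J hJ} →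
      (g : GL D.Idx K) ∈ D.negUnipotent K → (g : GL D.Idx K) ∈ rootSetSub D K (negJ D J))
    (hT2 : ∀ (J : List ℕ) (hJ : J ∈ orbs) (g : GL D.Idx K), g ∈ rootSetSub D K (negJ D J) →
      g ∈ G1 → ∃ t, InK f J t ∧ g = yT D hD f J t)
    (θ : ↥G1 ≃* ↥G1)
    (hBor : MapsT G1 θ (D.borelSubgroup K) (D.borelSubgroup K))
    (hV : MapsT G1 θ (D.negUnipotent K) (D.negUnipotent K)) (J : List ℕ) (hJ : J ∈ orbs) :
    ∃ (J' : List ℕ) (hJ' : J' ∈ orbs),
      ((bnT hyp).parabolic {nT hyp J hJ}).map θ.toMonoidHom = (bnT hyp).parabolic {nT hyp J' hJ'} ∧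
      MapsT G1 θ (rootSetSub D K (negJ D J)) (rootSetSub D K (negJ D J')) := by
  have hB : (bnT hyp).B.map θ.toMonoidHom = (bnT hyp).B := by
    have h0 : (bnT hyp).B = (D.borelSubgroup K ⊓ G1).subgroupOf G1 := rfl
    rw [h0, Subgroup.inf_subgroupOf_right]
    exact (mapsT_iff_map G1 θ _ _).1 hBor
  obtain ⟨s', hs'S, hmap⟩ := Cfsg.Agent.Lib.Helper4.AutB1.h4_exists_singleton (bnT hyp) θ hB
    (nT hyp J hJ) ⟨J, hJ, rfl⟩
  obtain ⟨J', hJ', e⟩ := hs'S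
  have hs' : s' = nT hyp J' hJ' := Subtype.ext e
  subst hs'
  refine ⟨J', hJ', hmap, ?_⟩
  intro g
  rw [h4_mem_negJ_iff D hD G hp f rho orbs G1 m hyp hB2 hT2 J' hJ' (θ g),
    h4_mem_negJ_iff D hD G hp f rho orbs G1 m hyp hB2 hT2 J hJ g, hV g, ← hmap]
  have : θ g ∈ ((bnT hyp).parabolic {nT hyp J hJ}).map θ.toMonoidHom ↔
      g ∈ (bnT hyp).parabolic {nT hyp J hJ} :=
    Subgroup.mem_map_iff_mem (f := θ.toMonoidHom) θ.injective
  rw [this]

end Cfsg.Agent.Lib.Helper4.TwAut
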