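import Mathlib
import Cfsg.Agent.Lib.Helper5.TwAutDefs2
import Cfsg.Agent.Lib.Helper4.TwAutBabs
import Cfsg.Agent.Lib.Helper5.ChevWKer
import Cfsg.Agent.Lib.Helper5.ChevMonoN
import Cfsg.Agent.Lib.Helper5.ChevW0
import Cfsg.Agent.Lib.Helper5.ChevBnB

set_option autoImplicit false
set_option linter.unusedVariables false
set_option linter.unusedSectionVars false

/-!
TWISTED-OUT farm, unit B6: an automorphism of the twisted group `G1` which maps the rank-one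
parabolics of the nodes `J₁, J₂` onto those of `J₁', J₂'` preserves the commutation of the
node reflections in the Weyl group.
-/

namespace Cfsg.Agent.Lib.Helper4.TwAut

open Cfsg Cfsg.Lie Cfsg.Agent.Lib.Helper5.ChevStruct Cfsg.Agent.Lib.Helper5.ChevSym
open Cfsg.Agent.Lib.Helper5.TwAut Cfsg.Agent.Lib.Helper5.RankOneHom

variable {K : Type*} [Field K] [Fintype K] (D : ChevalleyDatum) (hD : D ∈ Seven) (G : GraphData)
  (hp : checkGraphPerm D G = true) (f : K →+* K) (rho : Equiv.Perm (Fin D.rank))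
  (orbs : List (List ℕ)) (G1 : Subgroup (GL D.Idx K)) (m : ℕ)
  (hyp : TwAutHyp D hD G hp f rho orbs G1 m)

include hyp in
/-- the commutator of two node elements lies in `B` iff the node reflections commute -/
theorem h4_comm_mem_iff (J₁ J₂ : List ℕ) (h1 : J₁ ∈ orbs) (h2 : J₂ ∈ orbs) :
    nT hyp J₁ h1 * nT hyp J₂ h2 * (nT hyp J₁ h1)⁻¹ * (nT hyp J₂ h2)⁻¹ ∈ (bnT hyp).B ↔
      CommW D J₁ J₂ := by
  have hwd1 : Wd D J₁ := hyp.bn.hO.wd J₁ h1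
  have hwd2 : Wd D J₂ := hyp.bn.hO.wd J₂ h2
  have hwd12 : Wd D (J₁ ++ J₂) := by
    intro i hi
    rcases List.mem_append.1 hi with h | h
    · exact hwd1 i h
    · exact hwd2 i h
  have hwd21 : Wd D (J₂ ++ J₁) := by
    intro i hi
    rcases List.mem_append.1 hi with h | h
    · exact hwd2 i h
    · exact hwd1 i h
  have hB : (bnT hyp).B = (D.borelSubgroup K ⊓ G1).subgroupOf G1 := rfl
  have hval : ((nT hyp J₁ h1 * nT hyp J₂ h2 * (nT hyp J₁ h1)⁻¹ * (nT hyp J₂ h2)⁻¹ : ↥G1) :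
      GL D.Idx K) = wGL D hD (J₁ ++ J₂) * (wGL D hD (J₂ ++ J₁))⁻¹ := by
    rw [wGL_append, wGL_append, mul_inv_rev]
    simp only [Subgroup.coe_mul, Subgroup.coe_inv, nT]
    group
  rw [hB, Subgroup.mem_subgroupOf, hval, Subgroup.mem_inf]
  constructor
  · rintro ⟨hbor, _⟩
    have hmon : wGL D hD (J₁ ++ J₂) * (wGL D hD (J₂ ++ J₁))⁻¹ ∈ D.monomialSubgroup K :=
      mul_mem (wGL_mem D hD _ hwd12) (inv_mem (wGL_mem D hD _ hwd21))
    have hdiag : wGL D hD (J₁ ++ J₂) * (wGL D hD (J₂ ++ J₁))⁻¹ ∈ D.diagonalSubgroup K := by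
      rw [← borel_inf_monomial D hD]
      exact Subgroup.mem_inf.2 ⟨hbor, hmon⟩
    exact (hrel_iff_act_eq D hD _ _ hwd12 hwd21).1 hdiag
  · intro hc
    refine ⟨diagonal_le_borel D ((hrel_iff_act_eq D hD _ _ hwd12 hwd21).2 hc), ?_⟩
    rw [← hval]
    exact (nT hyp J₁ h1 * nT hyp J₂ h2 * (nT hyp J₁ h1)⁻¹ * (nT hyp J₂ h2)⁻¹ : ↥G1).2

include hyp in
/-- B6 : commutation in the Weyl group is preserved -/
theorem node_commW_iff (θ : ↥G1 ≃* ↥G1)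
    (hB : MapsT G1 θ (D.borelSubgroup K) (D.borelSubgroup K))
    (J₁ J₂ J₁' J₂' : List ℕ) (h1 : J₁ ∈ orbs) (h2 : J₂ ∈ orbs) (h1' : J₁' ∈ orbs) (h2' : J₂' ∈ orbs)
    (e1 : ((bnT hyp).parabolic {nT hyp J₁ h1}).map θ.toMonoidHom
      = (bnT hyp).parabolic {nT hyp J₁' h1'})
    (e2 : ((bnT hyp).parabolic {nT hyp J₂ h2}).map θ.toMonoidHom
      = (bnT hyp).parabolic {nT hyp J₂' h2'}) :
    CommW D J₁ J₂ ↔ CommW D J₁' J₂' := by
  have hs1 : nT hyp J₁ h1 ∈ (bnT hyp).S := ⟨J₁, h1, rfl⟩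
  have hs2 : nT hyp J₂ h2 ∈ (bnT hyp).S := ⟨J₂, h2, rfl⟩
  have hs1' : nT hyp J₁' h1' ∈ (bnT hyp).S := ⟨J₁', h1', rfl⟩
  have hs2' : nT hyp J₂' h2' ∈ (bnT hyp).S := ⟨J₂', h2', rfl⟩
  rw [← h4_comm_mem_iff D hD G hp f rho orbs G1 m hyp J₁ J₂ h1 h2,
    ← h4_comm_mem_iff D hD G hp f rho orbs G1 m hyp J₁' J₂' h1' h2',
    h4_comm_iff_perm (bnT hyp) hs1 hs2, h4_comm_iff_perm (bnT hyp) hs1' hs2']
  exact h4_perm_map θ e1 e2

end Cfsg.Agent.Lib.Helper4.TwAut
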