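import Mathlib
import Cfsg.Prelude.Def_LieExceptional
import Cfsg.Prelude.Def_Exceptional
import Cfsg.Agent.Lib.Helper6.ZassPP2
import Cfsg.Agent.Lib.Helper7.Wagner
import Cfsg.Agent.S0885
import Cfsg.Agent.S0344
import Cfsg.Agent.S0738
import Cfsg.Agent.S1230
import Cfsg.Agent.S0731

/-! ZT-SUZUKI: the classification of simple Zassenhaus groups (S0340), modulo the statement of
S0347 (nonabelian regular normal 2-subgroup ⇒ Suzuki order) as a hypothesis. -/
set_option autoImplicit false

open Cfsg MulAction
open scoped Pointwise

namespace Cfsg.Agent.Lib.Helper4.ZTS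

open Cfsg.Agent.Lib.Helper6.Zs

theorem classification {G Ω : Type*} [Group G] [Finite G] [MulAction G Ω] [Finite Ω]
    (hZ : Cfsg.IsZassenhausGroup G Ω) [IsSimpleGroup G]
    (hSz : ∀ (x : Ω) (U : Subgroup G), U ≤ MulAction.stabilizer G x →
      (U.subgroupOf (MulAction.stabilizer G x)).Normal → IsPGroup 2 U →
      (∃ u v : U, u * v ≠ v * u) →
      (∀ y z : Ω, y ≠ x → z ≠ x → ∃! u : U, (u : G) • y = z) → Cfsg.IsSuzuki G) :
    (∃ (F : Type) (_ : Field F) (_ : Fintype F),
      Nonempty (G ≃* Matrix.ProjectiveSpecialLinearGroup (Fin 2) F)) ∨ Cfsg.IsSuzuki G := by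
  classical
  haveI : Fintype G := Fintype.ofFinite G
  haveI : Fintype Ω := Fintype.ofFinite Ω
  have h0 := ZD.of hZ
  have hn := h0.card_gt
  obtain ⟨g, hg1, a, b, hab, -, -⟩ := h0.fix2
  obtain ⟨K, hK⟩ := h0.exists_kernel a
  have hba : b ≠ a := hab.symm
  have hKn : (K.subgroupOf (stabilizer G a)).Normal := by
    constructor
    intro u hu s
    rw [Subgroup.mem_subgroupOf] at hu ⊢
    have h1 := KD.conj_mem h0 hK hba (s := (s : G)) (mem_stabilizer_iff.1 s.2) hu
    simpa using h1
  have hKreg : ∀ y z : Ω, y ≠ a → z ≠ a → ∃! u : K, (u : G) • y = z := by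
    intro y z hy hz
    obtain ⟨u, hu, huy⟩ := KD.surj hK hy hz
    refine ⟨⟨u, hu⟩, huy, ?_⟩
    intro v hv
    apply Subtype.ext
    exact KD.inj hK hy v.2 hu (hv.trans huy.symm)
  have he1 := h0.one_lt_card_two hab
  have hdvd := h0.card_two_dvd hab
  rcases Nat.even_or_odd (Nat.card ↥(stabilizer G a ⊓ stabilizer G b : Subgroup G))
    with heven | hodd
  · left
    obtain ⟨F, i1, i2, -, hF⟩ := Cfsg.Agent.S0344.result hZ hab heven
    exact ⟨F, i1, i2, hF⟩
  · rcases Cfsg.Agent.S0885.result hZ hab (Fintype.card Ω - 1) _ (by omega) rfl hodd K hK.le
        hK.card hK.fix with hle | ⟨h2, hna, -⟩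
    · obtain ⟨hcomm, p, f, hp, hexp, hcard⟩ :=
        Cfsg.Agent.S0738.result hZ hab (by omega) K hK.le hKn hKreg
      by_cases hp2 : p = 2
      · -- S1230
        subst hp2
        left
        have hcardK : Nat.card K = 2 ^ f := by
          have := hK.card
          omega
        have hf1 : 1 ≤ f := by
          by_contra hf
          have hf0 : f = 0 := by omega
          rw [hf0] at hcard
          simp at hcard
          omega
        have h2K : IsPGroup 2 K := IsPGroup.of_card hcardK
        have hidx : ¬ 2 ∣ K.index := by
          have h1 := Subgroup.card_mul_index K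
          have h3 := h0.card_two_mul hab
          rw [hcardK] at h1
          have h4 : Fintype.card Ω * Fintype.card Ω - Fintype.card Ω = (2 ^ f + 1) * 2 ^ f := by
            rw [hcard, Nat.mul_succ]
            omega
          rw [h4] at h3
          have h5 : K.index = Nat.card ↥(stabilizer G a ⊓ stabilizer G b : Subgroup G)
              * (2 ^ f + 1) := by
            have h6 : 2 ^ f * K.index = 2 ^ f *
                (Nat.card ↥(stabilizer G a ⊓ stabilizer G b : Subgroup G) * (2 ^ f + 1)) := by
              rw [h1, ← h3]
              ring
            exact Nat.eq_of_mul_eq_mul_left (by positivity) h6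
          rw [h5]
          have h7 : Odd (2 ^ f + 1) := by
            have h8 : Even (2 ^ f) := (Nat.even_pow' (by omega)).2 even_two
            exact h8.add_one
          have h9 := hodd.mul h7
          intro h10
          exact (Nat.not_even_iff_odd.2 h9) (even_iff_two_dvd.2 h10)
        let T : Sylow 2 G := h2K.toSylow hidx
        have hT : (T : Subgroup G) = K := IsPGroup.toSylow_coe h2K hidx
        have hnc : ¬ IsCyclic (T : Subgroup G) := by
          rw [hT]
          intro hcyc
          have h1 : Monoid.exponent K ∣ 2 := by
            apply Monoid.exponent_dvd_of_forall_pow_eq_one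
            intro u
            apply Subtype.ext
            have := hexp u u.2
            simpa using this
          rw [IsCyclic.exponent_eq_card, hcardK] at h1
          have h3 : 2 ^ f ≤ 2 := Nat.le_of_dvd (by norm_num) h1
          have h4 : f = 1 := by
            have h5 : f < 2 := by
              by_contra h5
              have h6 : 2 ^ 2 ≤ 2 ^ f := Nat.pow_le_pow_right (by norm_num) (by omega)
              omega
            omega
          rw [h4] at hcard
          rw [hcard] at hdvd
          have h5 := Nat.le_of_dvd (by norm_num) hdvd
          omega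
        have hnn : ¬ (T : Subgroup G).Normal := by
          rw [hT]
          intro hnorm
          rcases hnorm.eq_bot_or_eq_top with h1 | h1
          · rw [h1] at hcardK
            simp at hcardK
            have h3 : 2 ^ 1 ≤ 2 ^ f := Nat.pow_le_pow_right (by norm_num) hf1
            omega
          · obtain ⟨x, hx⟩ := h0.trans a b
            have h3 : x ∈ K := by rw [h1]; exact Subgroup.mem_top x
            have h4 := mem_stabilizer_iff.1 (hK.le h3)
            exact hba (hx.symm.trans h4)
        have hC : ∀ t : G, orderOf t = 2 →
            IsMulCommutative (Subgroup.centralizer ({t} : Set G)) ∧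
            ∀ c ∈ Subgroup.centralizer ({t} : Set G), c ^ 2 = 1 := by
          intro t ht
          have hzp : IsPGroup 2 (Subgroup.zpowers t) := by
            apply IsPGroup.of_card (n := 1)
            rw [Nat.card_zpowers, ht, pow_one]
          obtain ⟨Q, hQ⟩ := hzp.exists_le_sylow
          obtain ⟨x, hx⟩ := MulAction.exists_smul_eq G T Q
          have htQ : t ∈ (Q : Subgroup G) := hQ (Subgroup.mem_zpowers t)
          rw [← hx] at htQ
          have hu : x⁻¹ * t * x ∈ K := by
            have h1 : t ∈ MulAut.conj x • (T : Subgroup G) := by
              rw [← Sylow.pointwise_smul_def, ← Sylow.smul_def]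
              exact htQ
            rw [Subgroup.mem_pointwise_smul_iff_inv_smul_mem, hT] at h1
            simpa [MulAut.smul_def, MulAut.conj_inv_apply] using h1
          have ht1 : t ≠ 1 := by
            intro h1
            rw [h1, orderOf_one] at ht
            omega
          have hu1 : x⁻¹ * t * x ≠ 1 := by
            intro h1
            apply ht1
            have h3 : t = x * (x⁻¹ * t * x) * x⁻¹ := by group
            rw [h3, h1]
            group
          have hCK := KD.centralizer_le h0 hba hK hu hu1
          have hmem : ∀ c ∈ Subgroup.centralizer ({t} : Set G), x⁻¹ * c * x ∈ K := by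
            intro c hc
            apply hCK
            rw [Subgroup.mem_centralizer_iff] at hc ⊢
            intro y hy
            rw [Set.mem_singleton_iff] at hy
            subst hy
            have h1 := hc t (Set.mem_singleton t)
            calc x⁻¹ * t * x * (x⁻¹ * c * x) = x⁻¹ * (t * c) * x := by group
              _ = x⁻¹ * (c * t) * x := by rw [h1]
              _ = x⁻¹ * c * x * (x⁻¹ * t * x) := by group
          constructor
          · refine ⟨⟨fun c c' => ?_⟩⟩
            apply Subtype.ext
            have h1 := hmem c c.2
            have h3 := hmem c' c'.2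
            have h4 := hcomm.is_comm.comm (⟨_, h1⟩ : K) ⟨_, h3⟩
            have h5 : x⁻¹ * (c : G) * x * (x⁻¹ * (c' : G) * x)
                = x⁻¹ * (c' : G) * x * (x⁻¹ * (c : G) * x) := congrArg Subtype.val h4
            show (c : G) * (c' : G) = (c' : G) * (c : G)
            calc (c : G) * (c' : G) = x * (x⁻¹ * (c : G) * x * (x⁻¹ * (c' : G) * x)) * x⁻¹ := by
                  group
              _ = x * (x⁻¹ * (c' : G) * x * (x⁻¹ * (c : G) * x)) * x⁻¹ := by rw [h5]
              _ = (c' : G) * (c : G) := by group
          · intro c hc
            have h1 := hexp _ (hmem c hc)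
            have h3 : (x⁻¹ * c * x) ^ 2 = x⁻¹ * c ^ 2 * x := by
              rw [pow_two, pow_two]
              group
            rw [h3] at h1
            have h4 : c ^ 2 = x * (x⁻¹ * c ^ 2 * x) * x⁻¹ := by group
            rw [h4, h1]
            group
        obtain ⟨F, i1, i2, -, hF⟩ := Cfsg.Agent.S1230.result T hnc hnn hC
        exact ⟨F, i1, i2, hF⟩
      · -- S0731
        rcases Cfsg.Agent.S0731.result hZ a K hK.le hKn hcomm hKreg with ⟨h3, -⟩ |
          ⟨F, i1, i2, -, hF⟩
        · exfalso
          have hpodd : Odd p := hp.odd_of_ne_two hp2
          have hev : Even (Fintype.card Ω - 2) := by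
            have h1 : Fintype.card Ω - 2 = p ^ f - 1 := by omega
            rw [h1]
            exact Nat.Odd.sub_odd (hpodd.pow) odd_one
          -- a third point
          have hex : ∃ c0 : Ω, c0 ≠ a ∧ c0 ≠ b := by
            by_contra hcon
            push Not at hcon
            have h1 : (Finset.univ : Finset Ω) ⊆ {a, b} := by
              intro c _
              by_cases hca : c = a
              · simp [hca]
              · simp [hcon c hca]
            have h4 := Finset.card_le_card h1
            have h5 : ({a, b} : Finset Ω).card ≤ 2 := Finset.card_le_two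
            rw [Finset.card_univ] at h4
            omega
          obtain ⟨c0, hc0a, hc0b⟩ := hex
          have hge : Fintype.card Ω - 2
              ≤ Nat.card ↥(stabilizer G a ⊓ stabilizer G b : Subgroup G) := by
            have hch : ∀ c : {c : Ω // c ≠ a ∧ c ≠ b}, ∃ d : G, d • a = a ∧ d • b = b ∧
                d • c0 = c.1 := by
              intro c
              exact Cfsg.Agent.Lib.Helper7.Wagner.trans3 h3 ⟨hab, hc0a.symm, hc0b.symm⟩
                ⟨hab, c.2.1.symm, c.2.2.symm⟩
            choose φ hφ using hch
            have hinj : Function.Injective (fun c : {c : Ω // c ≠ a ∧ c ≠ b} =>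
                (⟨φ c, Subgroup.mem_inf.2 ⟨mem_stabilizer_iff.2 (hφ c).1,
                  mem_stabilizer_iff.2 (hφ c).2.1⟩⟩ :
                  ↥(stabilizer G a ⊓ stabilizer G b : Subgroup G))) := by
              intro c c' hcc
              have h1 : φ c = φ c' := congrArg Subtype.val hcc
              apply Subtype.ext
              rw [← (hφ c).2.2, ← (hφ c').2.2, h1]
            have h4 := Nat.card_le_card_of_injective _ hinj
            have h5 : Nat.card {c : Ω // c ≠ a ∧ c ≠ b} = Fintype.card Ω - 2 := by
              rw [Nat.card_eq_fintype_card, Fintype.card_subtype]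
              have h6 : (Finset.univ.filter (fun c : Ω => c ≠ a ∧ c ≠ b))
                  = ((Finset.univ : Finset Ω).erase a).erase b := by
                ext c
                simp only [Finset.mem_filter, Finset.mem_univ, true_and, Finset.mem_erase,
                  and_true]
                tauto
              rw [h6, Finset.card_erase_of_mem, Finset.card_erase_of_mem (Finset.mem_univ _),
                Finset.card_univ]
              · omega
              · rw [Finset.mem_erase]
                exact ⟨hba, Finset.mem_univ _⟩
            rw [h5] at h4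
            exact h4
          have heq : Nat.card ↥(stabilizer G a ⊓ stabilizer G b : Subgroup G)
              = Fintype.card Ω - 2 :=
            Nat.le_antisymm (Nat.le_of_dvd (by omega) hdvd) hge
          rw [heq] at hodd
          exact (Nat.not_even_iff_odd.2 hodd) hev
        · left
          exact ⟨F, i1, i2, hF⟩
    · right
      exact hSz a K hK.le hKn h2 hna hKreg

end Cfsg.Agent.Lib.Helper4.ZTS
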