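import Mathlib

/-! ZT-SUZUKI: the counting behind "a unital-type line system of degree `q ^ 2 + 1` cannot exist".
Abstract: if any two points lie on a unique line and all lines have `c` points, then
`c * (c - 1) ∣ n * (n - 1)`. -/
set_option autoImplicit false

namespace Cfsg.Agent.Lib.Helper4.ZTS

theorem design_dvd {Ω : Type*} [Finite Ω] (L : Ω → Ω → Set Ω) (c : ℕ)
    (hl : ∀ α β, α ≠ β → α ∈ L α β) (hr : ∀ α β, α ≠ β → β ∈ L α β)
    (hcard : ∀ α β, α ≠ β → Nat.card (L α β) = c)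
    (huniq : ∀ α β γ δ, α ≠ β → γ ∈ L α β → δ ∈ L α β → γ ≠ δ → L γ δ = L α β) :
    c * (c - 1) ∣ Nat.card Ω * (Nat.card Ω - 1) := by
  classical
  have := Fintype.ofFinite Ω
  have h1 : Nat.card Ω * (Nat.card Ω - 1) = ((Finset.univ : Finset Ω).offDiag).card := by
    rw [Finset.offDiag_card, Finset.card_univ, Nat.card_eq_fintype_card, Nat.mul_sub_one]
  rw [h1]
  rw [Finset.card_eq_sum_card_fiberwise (f := fun p : Ω × Ω => L p.1 p.2)
    (t := ((Finset.univ : Finset Ω).offDiag).image (fun p : Ω × Ω => L p.1 p.2))]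
  · have h2 : ∀ ℓ ∈ ((Finset.univ : Finset Ω).offDiag).image (fun p : Ω × Ω => L p.1 p.2),
        (((Finset.univ : Finset Ω).offDiag).filter (fun p : Ω × Ω => L p.1 p.2 = ℓ)).card
          = c * (c - 1) := by
      intro ℓ hℓ
      obtain ⟨p0, hp0, rfl⟩ := Finset.mem_image.1 hℓ
      rw [Finset.mem_offDiag] at hp0
      have hne0 : p0.1 ≠ p0.2 := hp0.2.2
      have h3 : ((Finset.univ : Finset Ω).offDiag).filter
          (fun p : Ω × Ω => L p.1 p.2 = L p0.1 p0.2)
          = (Finset.univ.filter (fun γ : Ω => γ ∈ L p0.1 p0.2)).offDiag := by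
        ext p
        simp only [Finset.mem_filter, Finset.mem_offDiag, Finset.mem_univ, true_and]
        constructor
        · rintro ⟨hne, heq⟩
          refine ⟨?_, ?_, hne⟩
          · rw [← heq]; exact hl _ _ hne
          · rw [← heq]; exact hr _ _ hne
        · rintro ⟨h4, h5, hne⟩
          exact ⟨hne, huniq _ _ _ _ hne0 h4 h5 hne⟩
      rw [h3, Finset.offDiag_card, Nat.mul_sub_one]
      have h6 : (Finset.univ.filter (fun γ : Ω => γ ∈ L p0.1 p0.2)).card = c := by
        rw [← hcard _ _ hne0, Nat.card_eq_fintype_card, Fintype.card_subtype]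
      rw [h6]
    rw [Finset.sum_congr rfl h2, Finset.sum_const, smul_eq_mul]
    exact dvd_mul_left _ _
  · intro p hp
    exact Finset.mem_coe.2 (Finset.mem_image_of_mem _ hp)

/-- lines with `q + 1` points on `q ^ 2 + 1` points: impossible -/
theorem not_dvd_sq {q : ℕ} (hq : 2 ≤ q) : ¬ (q + 1) * (q + 1 - 1) ∣ (q ^ 2 + 1) * (q ^ 2 + 1 - 1) := by
  intro h
  rw [Nat.add_sub_cancel, Nat.add_sub_cancel] at h
  have h1 : q + 1 ∣ (q ^ 2 + 1) * q ^ 2 := dvd_trans (dvd_mul_right _ _) h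
  have hc : Nat.Coprime (q + 1) (q ^ 2) := by
    apply Nat.Coprime.pow_right
    rw [Nat.coprime_comm]
    exact (Nat.coprime_self_add_right.2 (Nat.coprime_one_right q))
  have h2 : q + 1 ∣ q ^ 2 + 1 := hc.dvd_of_dvd_mul_right h1
  have h3 : q ^ 2 + 1 = (q + 1) * (q - 1) + 2 := by
    obtain ⟨k, rfl⟩ : ∃ k, q = k + 1 := ⟨q - 1, by omega⟩
    simp only [Nat.add_sub_cancel]
    ring
  rw [h3] at h2
  have h4 : q + 1 ∣ 2 := (Nat.dvd_add_right (dvd_mul_right _ _)).1 h2
  have h5 := Nat.le_of_dvd (by norm_num) h4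
  omega

end Cfsg.Agent.Lib.Helper4.ZTS
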