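import Mathlib
import Cfsg.Agent.Lib.Helper6.ZK_TICE3
import Cfsg.Agent.Lib.Helper6.ZK_P1b
import Cfsg.Agent.Lib.Helper6.ZK_P2
import Cfsg.Agent.Lib.Helper9.TICE_A1
import Cfsg.Agent.Lib.Helper4.ZTSDesign

/-! ZT-SUZUKI: for `k = 2` there are no lines, hence `n` is odd. -/
set_option autoImplicit false

namespace Cfsg.Agent.Lib.Helper4.ZTS

open Cfsg.Agent.Lib.Helper5.TICE (IsInv Fpf invSet ZS ZSInv Lines line lineStab lineAct lineAct_coe mem_lineStab SRHyp G3Hyp Esub mem_line left_mem_line right_mem_line smul_mem_line line_eq_of_mem)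
open Cfsg.Agent.Lib.Helper6.ZK

variable {G : Type*} [Group G] {Ω : Type*} [MulAction G Ω] {S T : Ω → Subgroup G} {q : ℕ}

theorem resid_k2_not_lines [Finite G] [Finite Ω] (h : ResidK S T q 2) : ¬ Lines S T := by
  intro hL
  have hq := h.four_le
  have h1 := design_dvd (Ω := Ω) (line T) (q + 1)
    (fun α β _ => left_mem_line α β) (fun α β _ => right_mem_line α β)
    (fun α β hαβ => card_line h hαβ)
    (fun α β γ δ hαβ hγ hδ hγδ => line_unique h hL hαβ hγ hδ hγδ)
  rw [h.card_pts] at h1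
  exact not_dvd_sq (by omega) h1

theorem resid_k2_odd [Finite G] [Finite Ω] (h : ResidK S T q 2) {n : ℕ} (hq : q = 2 ^ n) :
    Odd n := by
  by_contra hn
  rw [Nat.not_odd_iff_even] at hn
  have h3 : 3 ∣ q - 1 := by
    rw [hq]
    exact Cfsg.Agent.Lib.Helper9.TICE.three_dvd_of_even hn
  exact resid_k2_not_lines h
    (Cfsg.Agent.Lib.Helper6.ZK2.lines_of_three_dvd h h3 (Cfsg.Agent.Lib.Helper6.ZK2.D_trans h))

/-- the shape asked for by the endgames (helper6, ZTS7) -/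
theorem hK2 [Finite G] [Finite Ω] :
    ∀ (S T : Ω → Subgroup G) (q n : ℕ), ResidK S T q 2 → q = 2 ^ n → Odd n :=
  fun _ _ _ _ h hq => resid_k2_odd h hq

end Cfsg.Agent.Lib.Helper4.ZTS
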