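import Mathlib
import Cfsg.Agent.Lib.Helper5.TICE0

/-! S4064 Part E: basic counts in a Zassenhaus-type action. -/
set_option autoImplicit false

open Cfsg.Agent.Lib.Helper5.TICE

namespace Cfsg.Agent.Lib.Helper4.TICE

variable {Y : Type*} [Group Y] {Λ : Type*} [MulAction Y Λ] {m e i : ℕ}

/-- the number of `g` with `g α = α'`, `g β = β'` is `e` -/
theorem ZS.card_transporter [Finite Y] (h : ZS Y Λ m e) {α β α' β' : Λ} (hab : α ≠ β)
    (hab' : α' ≠ β') : Nat.card {g : Y // g • α = α' ∧ g • β = β'} = e := by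
  obtain ⟨g0, h1, h2⟩ := h.two_trans α β α' β' hab hab'
  rw [← h.card_D α β hab]
  refine Nat.card_congr ⟨fun g => ⟨g0⁻¹ * g.1, ?_, ?_⟩, fun d => ⟨g0 * d.1, ?_, ?_⟩, ?_, ?_⟩
  · rw [mul_smul, g.2.1, inv_smul_eq_iff, h1]
  · rw [mul_smul, g.2.2, inv_smul_eq_iff, h2]
  · rw [mul_smul, d.2.1, h1]
  · rw [mul_smul, d.2.2, h2]
  · intro g
    apply Subtype.ext
    simp
  · intro d
    apply Subtype.ext
    simp

theorem succ_mul_self_sub (m : ℕ) : (m + 1) * (m + 1) - (m + 1) = (m + 1) * m := by
  rw [Nat.mul_succ]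
  omega

theorem ZS.card_offDiag [Fintype Λ] [DecidableEq Λ] (h : ZS Y Λ m e) :
    ((Finset.univ : Finset Λ).offDiag).card = (m + 1) * m := by
  have h1 : (Finset.univ : Finset Λ).card = m + 1 := by
    rw [Finset.card_univ, ← Nat.card_eq_fintype_card, h.card_pts]
  rw [Finset.offDiag_card, h1, succ_mul_self_sub]

theorem ZS.exists_ne [Finite Λ] (h : ZS Y Λ m e) (hm : 1 ≤ m) (α : Λ) : ∃ β : Λ, β ≠ α := by
  by_contra hne
  push Not at hne
  have h0 : Subsingleton Λ := ⟨fun a b => by rw [hne a, hne b]⟩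
  have h1 : Nat.card Λ ≤ 1 := Finite.card_le_one_iff_subsingleton.2 h0
  rw [h.card_pts] at h1
  omega

theorem ZS.exists_pair [Finite Λ] (h : ZS Y Λ m e) (hm : 1 ≤ m) : ∃ α β : Λ, α ≠ β := by
  have h1 : 0 < Nat.card Λ := by rw [h.card_pts]; omega
  obtain ⟨α⟩ := (Nat.card_pos_iff.1 h1).1
  obtain ⟨β, hβ⟩ := ZS.exists_ne h hm α
  exact ⟨α, β, hβ.symm⟩

/-- C1 -/
theorem ZS.card_group' [Finite Y] [Finite Λ] (h : ZS Y Λ m e) (hm : 1 ≤ m) :
    Nat.card Y = (m + 1) * m * e := by
  classical
  have := Fintype.ofFinite Y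
  have := Fintype.ofFinite Λ
  obtain ⟨α0, β0, h0⟩ := ZS.exists_pair h hm
  rw [Nat.card_eq_fintype_card, ← Finset.card_univ]
  rw [Finset.card_eq_sum_card_fiberwise (f := fun g : Y => (g • α0, g • β0))
    (t := (Finset.univ : Finset Λ).offDiag)]
  · have h1 : ∀ p ∈ (Finset.univ : Finset Λ).offDiag,
        (Finset.univ.filter (fun g : Y => (g • α0, g • β0) = p)).card = e := by
      intro p hp
      rw [Finset.mem_offDiag] at hp
      have h2 := ZS.card_transporter h h0 hp.2.2
      rw [Nat.card_eq_fintype_card, Fintype.card_subtype] at h2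
      rw [← h2]
      congr 1
      ext g
      simp only [Finset.mem_filter, Finset.mem_univ, true_and, Prod.ext_iff]
    rw [Finset.sum_congr rfl h1, Finset.sum_const, ZS.card_offDiag h, smul_eq_mul]
  · intro g _
    rw [Finset.mem_coe, Finset.mem_offDiag]
    refine ⟨Finset.mem_univ _, Finset.mem_univ _, ?_⟩
    intro h2
    exact h0 (MulAction.injective g h2)

/-- point stabilizers have order `m * e` -/
theorem ZS.card_stab [Finite Y] [Finite Λ] (h : ZS Y Λ m e) (hm : 1 ≤ m) (α : Λ) :
    Nat.card {g : Y // g • α = α} = m * e := by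
  classical
  have := Fintype.ofFinite Y
  have := Fintype.ofFinite Λ
  obtain ⟨β0, h0⟩ := ZS.exists_ne h hm α
  rw [Nat.card_eq_fintype_card, Fintype.card_subtype]
  rw [Finset.card_eq_sum_card_fiberwise (f := fun g : Y => g • β0)
    (t := (Finset.univ : Finset Λ).erase α)]
  · have h1 : ∀ β' ∈ (Finset.univ : Finset Λ).erase α,
        ((Finset.univ.filter (fun g : Y => g • α = α)).filter (fun g : Y => g • β0 = β')).card
          = e := by
      intro β' hβ'
      have h2 := ZS.card_transporter h (α := α) (β := β0) (α' := α) (β' := β') h0.symm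
        (Finset.ne_of_mem_erase hβ').symm
      rw [Nat.card_eq_fintype_card, Fintype.card_subtype] at h2
      rw [← h2, Finset.filter_filter]
    have h3 : ((Finset.univ : Finset Λ).erase α).card = m := by
      rw [Finset.card_erase_of_mem (Finset.mem_univ _), Finset.card_univ,
        ← Nat.card_eq_fintype_card, h.card_pts]
      omega
    rw [Finset.sum_congr rfl h1, Finset.sum_const, h3, smul_eq_mul]
  · intro g hg
    rw [Finset.mem_coe, Finset.mem_filter] at hg
    rw [Finset.mem_coe, Finset.mem_erase]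
    refine ⟨?_, Finset.mem_univ _⟩
    intro h2
    apply h0
    have h3 : g • β0 = g • α := by
      have h4 : g • β0 = α := h2
      rw [h4, hg.2]
    exact MulAction.injective g h3

/-- a non-identity element fixes at most two points -/
theorem ZS.card_fix_le [Fintype Λ] [DecidableEq Λ] (h : ZS Y Λ m e) {g : Y} (hg : g ≠ 1) :
    (Finset.univ.filter (fun α : Λ => g • α = α)).card ≤ 2 := by
  by_contra hlt
  push Not at hlt
  obtain ⟨a, b, c, ha, hb, hc, hab, hac, hbc⟩ := Finset.two_lt_card_iff.1 hlt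
  simp only [Finset.mem_filter, Finset.mem_univ, true_and] at ha hb hc
  exact hg (h.three_pt g a b c hab hbc hac ha hb hc)

end Cfsg.Agent.Lib.Helper4.TICE
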