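import Mathlib
import Cfsg.Agent.Lib.Helper5.TICE0
import Cfsg.Agent.Lib.Helper4.TICE_Base

/-! S4064 Part E, piece C2. -/
set_option autoImplicit false

open Cfsg.Agent.Lib.Helper5.TICE

namespace Cfsg.Agent.Lib.Helper4.TICE

variable {Y : Type*} [Group Y] {Λ : Type*} [MulAction Y Λ] {m e i : ℕ}

-- C2
theorem ZS.card_fpf [Finite Y] [Finite Λ] (h : ZS Y Λ m e) (hm : 1 ≤ m) (he : 1 ≤ e) :
    2 * Nat.card {g : Y // Fpf Λ g} + 2 + 2 * ((m + 1) * (m - 1)) + (m + 1) * m * (e - 1)
      = 2 * ((m + 1) * m * e) := by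
  classical
  have := Fintype.ofFinite Y
  have := Fintype.ofFinite Λ
  set fx : Y → ℕ := fun g => (Finset.univ.filter (fun α : Λ => g • α = α)).card with hfx
  -- A
  have hA : ∑ g : Y, fx g = (m + 1) * m * e := by
    have h1 : ∀ g : Y, fx g = ∑ α : Λ, if g • α = α then 1 else 0 := by
      intro g
      simp only [hfx]
      rw [Finset.card_eq_sum_ones, Finset.sum_filter]
    rw [Finset.sum_congr rfl (fun g _ => h1 g), Finset.sum_comm]
    have h2 : ∀ α : Λ, (∑ g : Y, if g • α = α then 1 else 0) = m * e := by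
      intro α
      rw [← Finset.sum_filter, ← Finset.card_eq_sum_ones]
      have h3 := ZS.card_stab h hm α
      rw [Nat.card_eq_fintype_card, Fintype.card_subtype] at h3
      exact h3
    rw [Finset.sum_congr rfl (fun α _ => h2 α), Finset.sum_const, Finset.card_univ,
      ← Nat.card_eq_fintype_card, h.card_pts, smul_eq_mul, mul_assoc]
  -- B
  have hB : ∑ g : Y, fx g * (fx g - 1) = (m + 1) * m * e := by
    have h1 : ∀ g : Y, fx g * (fx g - 1) = ∑ p ∈ (Finset.univ : Finset Λ).offDiag,
        if g • p.1 = p.1 ∧ g • p.2 = p.2 then 1 else 0 := by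
      intro g
      rw [← Finset.sum_filter, ← Finset.card_eq_sum_ones, Nat.mul_sub_one]
      simp only [hfx]
      rw [← Finset.offDiag_card]
      congr 1
      ext p
      simp only [Finset.mem_offDiag, Finset.mem_filter, Finset.mem_univ, true_and]
      tauto
    rw [Finset.sum_congr rfl (fun g _ => h1 g), Finset.sum_comm]
    have h2 : ∀ p ∈ (Finset.univ : Finset Λ).offDiag,
        (∑ g : Y, if g • p.1 = p.1 ∧ g • p.2 = p.2 then 1 else 0) = e := by
      intro p hp
      rw [Finset.mem_offDiag] at hp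
      rw [← Finset.sum_filter, ← Finset.card_eq_sum_ones]
      have h3 := h.card_D p.1 p.2 hp.2.2
      rw [Nat.card_eq_fintype_card, Fintype.card_subtype] at h3
      exact h3
    rw [Finset.sum_congr rfl h2, Finset.sum_const, ZS.card_offDiag h, smul_eq_mul]
  -- |Y|
  have hY : Fintype.card Y = (m + 1) * m * e := by
    rw [← Nat.card_eq_fintype_card]
    exact ZS.card_group' h hm
  -- f0
  have hF : Nat.card {g : Y // Fpf Λ g} = ∑ g : Y, if fx g = 0 then 1 else 0 := by
    rw [Nat.card_eq_fintype_card, Fintype.card_subtype, Finset.card_eq_sum_ones, Finset.sum_filter]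
    refine Finset.sum_congr rfl (fun g _ => ?_)
    have h1 : Fpf Λ g ↔ fx g = 0 := by
      simp only [hfx, Finset.card_eq_zero, Finset.filter_eq_empty_iff, Finset.mem_univ,
        forall_true_left]
      rfl
    by_cases h2 : Fpf Λ g
    · rw [if_pos h2, if_pos (h1.1 h2)]
    · rw [if_neg h2, if_neg (fun h3 => h2 (h1.2 h3))]
  -- per element
  have hper : ∀ g : Y, g ≠ 1 →
      2 * (if fx g = 0 then 1 else 0) + 2 * fx g = fx g * (fx g - 1) + 2 := by
    intro g hg
    have h1 : fx g ≤ 2 := ZS.card_fix_le h hg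
    generalize fx g = k at h1
    interval_cases k <;> simp
  have hfx1 : fx 1 = m + 1 := by
    simp only [hfx, one_smul]
    rw [Finset.filter_true_of_mem (fun _ _ => trivial), Finset.card_univ,
      ← Nat.card_eq_fintype_card, h.card_pts]
  have hsum : ∑ g : Y, (2 * (if fx g = 0 then 1 else 0) + 2 * fx g) + (fx 1 * (fx 1 - 1) + 2)
      = ∑ g : Y, (fx g * (fx g - 1) + 2) + (2 * (if fx 1 = 0 then 1 else 0) + 2 * fx 1) := by
    rw [← Finset.add_sum_erase _ _ (Finset.mem_univ (1 : Y)),
      ← Finset.add_sum_erase (Finset.univ : Finset Y) (fun g => fx g * (fx g - 1) + 2)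
        (Finset.mem_univ (1 : Y))]
    have h1 : ∑ g ∈ (Finset.univ : Finset Y).erase 1,
        (2 * (if fx g = 0 then 1 else 0) + 2 * fx g)
        = ∑ g ∈ (Finset.univ : Finset Y).erase 1, (fx g * (fx g - 1) + 2) :=
      Finset.sum_congr rfl (fun g hg => hper g (Finset.ne_of_mem_erase hg))
    rw [h1]
    ring
  rw [Finset.sum_add_distrib, Finset.sum_add_distrib, ← Finset.mul_sum, ← Finset.mul_sum,
    ← hF, hA, hB, Finset.sum_const, Finset.card_univ, hY, hfx1, if_neg (by omega)] at hsum
  simp only [smul_eq_mul, Nat.add_sub_cancel] at hsum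
  have e1 : (m + 1) * (m - 1) + (m + 1) = (m + 1) * m := by
    obtain ⟨k, rfl⟩ : ∃ k, m = k + 1 := ⟨m - 1, by omega⟩
    simp only [Nat.add_sub_cancel]
    ring
  have e2 : (m + 1) * m * (e - 1) + (m + 1) * m = (m + 1) * m * e := by
    obtain ⟨k, rfl⟩ : ∃ k, e = k + 1 := ⟨e - 1, by omega⟩
    simp only [Nat.add_sub_cancel]
    ring
  generalize (m + 1) * m * e = X at *
  generalize (m + 1) * m * (e - 1) = X' at *
  generalize (m + 1) * (m - 1) = W' at *
  generalize (m + 1) * m = W at *
  omega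

end Cfsg.Agent.Lib.Helper4.TICE
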