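import Mathlib
import Cfsg.Agent.Lib.Helper5.TICE0
import Cfsg.Agent.Lib.Helper4.TICE_Base

/-! S4064 Part E, piece C3. -/
set_option autoImplicit false

open Cfsg.Agent.Lib.Helper5.TICE

namespace Cfsg.Agent.Lib.Helper4.TICE

variable {Y : Type*} [Group Y] {Λ : Type*} [MulAction Y Λ] {m e i : ℕ}

-- C3
theorem ZS.card_pairs [Finite Y] [Finite Λ] (h : ZS Y Λ m e) (hm : 1 ≤ m) (he : 1 ≤ e)
    (hi : ZSInv Y Λ i) :
    2 * Nat.card {p : Y × Y // IsInv p.1 ∧ IsInv p.2 ∧ Fpf Λ (p.1 * p.2)}
        + (m + 1) * m * ((e - 1) * e)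
      = 2 * ((m + 1) * i * (m * i)) := by
  classical
  have := Fintype.ofFinite Y
  have := Fintype.ofFinite Λ
  have hne : Nonempty Λ := by
    have h1 : 0 < Nat.card Λ := by rw [h.card_pts]; omega
    exact (Nat.card_pos_iff.1 h1).1
  set Inv : Finset Y := Finset.univ.filter (fun a => IsInv a) with hInv
  have memInv : ∀ a, a ∈ Inv ↔ IsInv a := by
    intro a
    simp [hInv]
  let fp : Y → Λ := fun a => Classical.epsilon (fun α : Λ => a • α = α)
  have fp_fix : ∀ a, IsInv a → a • fp a = fp a := by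
    intro a ha
    obtain ⟨α, hα, -⟩ := hi.fix_unique a ha
    exact Classical.epsilon_spec (p := fun α : Λ => a • α = α) ⟨α, hα⟩
  have fp_uniq : ∀ a, IsInv a → ∀ γ, a • γ = γ → γ = fp a := by
    intro a ha γ hγ
    obtain ⟨α, hα, hu⟩ := hi.fix_unique a ha
    rw [hu γ hγ, hu (fp a) (fp_fix a ha)]
  have inv_self : ∀ a : Y, IsInv a → a⁻¹ = a := fun a ha => inv_eq_of_mul_eq_one_left ha.1
  have swap : ∀ a : Y, IsInv a → ∀ δ δ' : Λ, a • δ = δ' → a • δ' = δ := by
    intro a ha δ δ' h1
    rw [← h1, ← mul_smul, ha.1, one_smul]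
  -- Q
  set Qset := (Inv ×ˢ Inv).filter (fun p : Y × Y => fp p.1 ≠ fp p.2) with hQ
  have hfib : ∀ α, (Inv.filter (fun a => fp a = α)).card = i := by
    intro α
    have h1 := hi.card_inv α
    rw [Nat.card_eq_fintype_card, Fintype.card_subtype] at h1
    rw [← h1]
    congr 1
    ext a
    simp only [Finset.mem_filter, memInv, Finset.mem_univ, true_and]
    constructor
    · rintro ⟨ha, rfl⟩
      exact ⟨ha, fp_fix a ha⟩
    · rintro ⟨ha, hα⟩
      exact ⟨ha, (fp_uniq a ha α hα).symm⟩
  have hQcard : Qset.card = (m + 1) * m * (i * i) := by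
    rw [Finset.card_eq_sum_card_fiberwise (f := fun p : Y × Y => (fp p.1, fp p.2))
      (t := (Finset.univ : Finset Λ).offDiag)]
    · have h1 : ∀ q ∈ (Finset.univ : Finset Λ).offDiag,
          (Qset.filter (fun p : Y × Y => (fp p.1, fp p.2) = q)).card = i * i := by
        intro q hq
        rw [Finset.mem_offDiag] at hq
        have h2 : Qset.filter (fun p : Y × Y => (fp p.1, fp p.2) = q)
            = (Inv.filter (fun a => fp a = q.1)) ×ˢ (Inv.filter (fun a => fp a = q.2)) := by
          ext p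
          simp only [hQ, Finset.mem_filter, Finset.mem_product, Prod.ext_iff]
          constructor
          · rintro ⟨⟨⟨h1, h2⟩, -⟩, h3, h4⟩
            exact ⟨⟨h1, h3⟩, ⟨h2, h4⟩⟩
          · rintro ⟨⟨h1, h3⟩, ⟨h2, h4⟩⟩
            refine ⟨⟨⟨h1, h2⟩, ?_⟩, h3, h4⟩
            rw [h3, h4]
            exact hq.2.2
        rw [h2, Finset.card_product, hfib, hfib]
      rw [Finset.sum_congr rfl h1, Finset.sum_const, ZS.card_offDiag h, smul_eq_mul]
    · intro p hp
      rw [Finset.mem_coe, Finset.mem_offDiag]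
      simp only [hQ, Finset.mem_coe, Finset.mem_filter] at hp
      exact ⟨Finset.mem_univ _, Finset.mem_univ _, hp.2⟩
  -- P
  set Pset := (Inv ×ˢ Inv).filter (fun p : Y × Y => Fpf Λ (p.1 * p.2)) with hP
  have hPcard : Nat.card {p : Y × Y // IsInv p.1 ∧ IsInv p.2 ∧ Fpf Λ (p.1 * p.2)}
      = Pset.card := by
    rw [Nat.card_eq_fintype_card, Fintype.card_subtype]
    congr 1
    ext p
    simp only [hP, Finset.mem_filter, Finset.mem_univ, true_and, Finset.mem_product, memInv,
      and_assoc]
  have hPQ : Qset.filter (fun p : Y × Y => Fpf Λ (p.1 * p.2)) = Pset := by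
    ext p
    simp only [hQ, hP, Finset.mem_filter, Finset.mem_product, memInv]
    constructor
    · rintro ⟨⟨h1, -⟩, h2⟩
      exact ⟨h1, h2⟩
    · rintro ⟨h1, h2⟩
      refine ⟨⟨h1, ?_⟩, h2⟩
      intro h3
      apply h2 (fp p.1)
      have h4 : p.2 • fp p.1 = fp p.1 := by
        rw [h3]
        exact fp_fix p.2 h1.2
      rw [mul_smul, h4]
      exact fp_fix p.1 h1.1
  set Rset := Qset.filter (fun p : Y × Y => ¬ Fpf Λ (p.1 * p.2)) with hR
  have hsplit : Qset.card = Pset.card + Rset.card := by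
    rw [← hPQ, hR]
    exact (Finset.card_filter_add_card_filter_not _).symm
  -- Sw
  have hSw : ∀ δ δ' : Λ, δ ≠ δ' →
      (Finset.univ.filter (fun a : Y => IsInv a ∧ a • δ = δ')).card = e := by
    intro δ δ' hdd
    obtain ⟨u, huu, hu1, hu2, huinv⟩ := hi.inverted δ δ' hdd
    have h1 := h.card_D δ δ' hdd
    rw [Nat.card_eq_fintype_card, Fintype.card_subtype] at h1
    rw [← h1]
    symm
    refine Finset.card_bij (fun d _ => d * u) ?_ ?_ ?_
    · intro d hd
      simp only [Finset.mem_filter, Finset.mem_univ, true_and] at hd ⊢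
      have h2 : (d * u) • δ = δ' := by rw [mul_smul, hu1, hd.2]
      refine ⟨⟨?_, ?_⟩, h2⟩
      · have h3 := huinv d hd.1 hd.2
        calc d * u * (d * u) = d * (u * d * u⁻¹) * (u * u) := by group
          _ = 1 := by rw [h3, huu]; group
      · intro h3
        rw [h3, one_smul] at h2
        exact hdd h2
    · intro d _ d' _ hdd'
      exact mul_right_cancel hdd'
    · intro a ha
      simp only [Finset.mem_filter, Finset.mem_univ, true_and] at ha ⊢
      refine ⟨a * u, ⟨?_, ?_⟩, ?_⟩
      · rw [mul_smul, hu1]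
        exact swap a ha.1 δ δ' ha.2
      · rw [mul_smul, hu2]
        exact ha.2
      · rw [mul_assoc, huu, mul_one]
  -- elements of Rset fix exactly two points
  have hfx2 : ∀ p ∈ Rset,
      (Finset.univ.filter (fun δ : Λ => (p.1 * p.2) • δ = δ)).card = 2 := by
    intro p hp
    simp only [hR, hQ, Finset.mem_filter, Finset.mem_product, memInv] at hp
    obtain ⟨⟨⟨ha, hb⟩, hfp⟩, hnf⟩ := hp
    have hne1 : p.1 * p.2 ≠ 1 := by
      intro h1
      apply hfp
      have h2 : p.1 = p.2⁻¹ := eq_inv_of_mul_eq_one_left h1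
      rw [h2, inv_self p.2 hb]
    have hle := ZS.card_fix_le h hne1
    have hge : 1 < (Finset.univ.filter (fun δ : Λ => (p.1 * p.2) • δ = δ)).card := by
      rw [Finset.one_lt_card]
      unfold Fpf at hnf
      push Not at hnf
      obtain ⟨δ, hδ⟩ := hnf
      have h2 : p.1 • (p.2 • δ) = δ := by rw [← mul_smul]; exact hδ
      have h3 : p.2 • (p.2 • δ) = δ := swap p.2 hb δ _ rfl
      have h4 : p.1 • δ = p.2 • δ := swap p.1 ha _ δ h2
      refine ⟨δ, by simp [hδ], p.2 • δ, ?_, ?_⟩
      · simp only [Finset.mem_filter, Finset.mem_univ, true_and]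
        rw [mul_smul, h3, h4]
      · intro h5
        apply hfp
        have h6 : p.2 • δ = δ := h5.symm
        have h7 : p.1 • δ = δ := by rw [h4, h6]
        exact (fp_uniq p.1 ha δ h7).symm.trans (fp_uniq p.2 hb δ h6)
    omega
  have hR2 : 2 * Rset.card
      = ∑ δ : Λ, (Rset.filter (fun p : Y × Y => (p.1 * p.2) • δ = δ)).card := by
    calc 2 * Rset.card = ∑ _p ∈ Rset, 2 := by simp [mul_comm]
      _ = ∑ p ∈ Rset, (Finset.univ.filter (fun δ : Λ => (p.1 * p.2) • δ = δ)).card :=
          Finset.sum_congr rfl (fun p hp => (hfx2 p hp).symm)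
      _ = ∑ p ∈ Rset, ∑ δ : Λ, (if (p.1 * p.2) • δ = δ then 1 else 0) := by
          refine Finset.sum_congr rfl (fun p _ => ?_)
          rw [Finset.card_filter]
      _ = ∑ δ : Λ, ∑ p ∈ Rset, (if (p.1 * p.2) • δ = δ then 1 else 0) := Finset.sum_comm
      _ = ∑ δ : Λ, (Rset.filter (fun p : Y × Y => (p.1 * p.2) • δ = δ)).card := by
          refine Finset.sum_congr rfl (fun δ _ => ?_)
          rw [Finset.card_filter]
  have hδ : ∀ δ : Λ, (Rset.filter (fun p : Y × Y => (p.1 * p.2) • δ = δ)).card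
      = m * (e * e - e) := by
    intro δ
    rw [Finset.card_eq_sum_card_fiberwise (f := fun p : Y × Y => p.2 • δ)
      (t := (Finset.univ : Finset Λ).erase δ)]
    · have h1 : ∀ δ' ∈ (Finset.univ : Finset Λ).erase δ,
          ((Rset.filter (fun p : Y × Y => (p.1 * p.2) • δ = δ)).filter
            (fun p : Y × Y => p.2 • δ = δ')).card = e * e - e := by
        intro δ' hδ'
        have hdd : δ ≠ δ' := (Finset.ne_of_mem_erase hδ').symm
        rw [← hSw δ δ' hdd, ← Finset.offDiag_card]
        congr 1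
        ext p
        simp only [hR, hQ, Finset.mem_filter, Finset.mem_product, memInv, Finset.mem_offDiag,
          Finset.mem_univ, true_and]
        constructor
        · rintro ⟨⟨⟨⟨⟨ha, hb⟩, hfp⟩, hnf⟩, hab⟩, hbd⟩
          have h2 : p.1 • δ' = δ := by
            rw [← hbd, ← mul_smul]
            exact hab
          refine ⟨⟨ha, swap p.1 ha δ' δ h2⟩, ⟨hb, hbd⟩, ?_⟩
          intro h3
          apply hfp
          rw [h3]
        · rintro ⟨⟨ha, had⟩, ⟨hb, hbd⟩, hne'⟩
          have hbd' : p.2 • δ' = δ := swap p.2 hb δ δ' hbd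
          have had' : p.1 • δ' = δ := swap p.1 ha δ δ' had
          have hab : (p.1 * p.2) • δ = δ := by rw [mul_smul, hbd, had']
          have hab' : (p.1 * p.2) • δ' = δ' := by rw [mul_smul, hbd', had]
          refine ⟨⟨⟨⟨⟨ha, hb⟩, ?_⟩, ?_⟩, hab⟩, hbd⟩
          · intro hfp
            have g1 := fp_fix p.1 ha
            have g2 : p.2 • fp p.1 = fp p.1 := by
              rw [hfp]
              exact fp_fix p.2 hb
            have g3 : (p.1 * p.2) • fp p.1 = fp p.1 := by rw [mul_smul, g2, g1]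
            have n1 : fp p.1 ≠ δ := by
              intro h4
              rw [h4] at g1
              rw [g1] at had
              exact hdd had
            have n2 : fp p.1 ≠ δ' := by
              intro h4
              rw [h4] at g1
              rw [g1] at had'
              exact hdd had'.symm
            have h5 := h.three_pt (p.1 * p.2) (fp p.1) δ δ' n1 hdd n2 g3 hab hab'
            apply hne'
            have h6 : p.1 = p.2⁻¹ := eq_inv_of_mul_eq_one_left h5
            rw [h6, inv_self p.2 hb]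
          · intro hf
            exact hf δ hab
      have h3 : ((Finset.univ : Finset Λ).erase δ).card = m := by
        rw [Finset.card_erase_of_mem (Finset.mem_univ _), Finset.card_univ,
          ← Nat.card_eq_fintype_card, h.card_pts]
        omega
      rw [Finset.sum_congr rfl h1, Finset.sum_const, h3, smul_eq_mul]
    · intro p hp
      simp only [hR, hQ, Finset.mem_coe, Finset.mem_filter, Finset.mem_product, memInv] at hp
      obtain ⟨⟨⟨⟨ha, hb⟩, hfp⟩, hnf⟩, hab⟩ := hp
      rw [Finset.mem_coe, Finset.mem_erase]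
      refine ⟨?_, Finset.mem_univ _⟩
      intro hbd
      have hbd0 : p.2 • δ = δ := hbd
      have had : p.1 • δ = δ := by
        rw [mul_smul, hbd0] at hab
        exact hab
      exact hfp ((fp_uniq p.1 ha δ had).symm.trans (fp_uniq p.2 hb δ hbd0))
  -- assemble
  have e3 : (e - 1) * e = e * e - e := by rw [Nat.sub_mul, one_mul]
  have hfin : 2 * Pset.card + 2 * Rset.card = 2 * Qset.card := by
    rw [hsplit]
    ring
  rw [hR2, Finset.sum_congr rfl (fun δ _ => hδ δ), Finset.sum_const, Finset.card_univ,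
    ← Nat.card_eq_fintype_card, h.card_pts, smul_eq_mul, hQcard] at hfin
  rw [hPcard, e3]
  have g1 : (m + 1) * m * (e * e - e) = (m + 1) * (m * (e * e - e)) := by ring
  have g2 : 2 * ((m + 1) * i * (m * i)) = 2 * ((m + 1) * m * (i * i)) := by ring
  rw [g1, g2]
  exact hfin

end Cfsg.Agent.Lib.Helper4.TICE
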