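import Mathlib
import Cfsg.Agent.Lib.Helper5.TICE0

/-! S4064 Part E, piece C4. -/
set_option autoImplicit false

open Cfsg.Agent.Lib.Helper5.TICE

namespace Cfsg.Agent.Lib.Helper4.TICE

variable {Y : Type*} [Group Y] {Λ : Type*} [MulAction Y Λ] {m e i : ℕ}

theorem inv_eq_self_of_isInv {a : Y} (ha : IsInv a) : a⁻¹ = a :=
  inv_eq_of_mul_eq_one_left ha.1

-- C4
theorem ZS.card_pairs_eq_sigma [Finite Y] [Finite Λ] (hi : ZSInv Y Λ i) :
    Nat.card {p : Y × Y // IsInv p.1 ∧ IsInv p.2 ∧ Fpf Λ (p.1 * p.2)}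
      = Nat.card (Σ x : {x : Y // Fpf Λ x}, {a : Y // a ∈ invSet x.1}) := by
  refine Nat.card_congr ⟨fun p => ⟨⟨p.1.1 * p.1.2, p.2.2.2⟩, ⟨p.1.1, ?_⟩⟩,
    fun s => ⟨(s.2.1, s.2.1 * s.1.1), ?_⟩, ?_, ?_⟩
  · obtain ⟨⟨a, b⟩, ha, hb, hf⟩ := p
    refine ⟨ha, ?_⟩
    show a * (a * b) * a⁻¹ = (a * b)⁻¹
    have h1 := inv_eq_self_of_isInv ha
    have h2 := inv_eq_self_of_isInv hb
    rw [mul_inv_rev, h1, h2, ← mul_assoc a a b, ha.1, one_mul]
  · obtain ⟨⟨x, hx⟩, ⟨a, ha, hax⟩⟩ := s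
    have h1 := inv_eq_self_of_isInv ha
    have h3 : a * (a * x) = x := by rw [← mul_assoc, ha.1, one_mul]
    refine ⟨ha, ⟨?_, ?_⟩, ?_⟩
    · show a * x * (a * x) = 1
      calc a * x * (a * x) = (a * x * a⁻¹) * x := by rw [h1]; group
        _ = 1 := by rw [hax]; group
    · show a * x ≠ 1
      intro h2
      have h4 : x = a := by
        have h5 : x = a⁻¹ := by
          rw [eq_comm, inv_eq_iff_mul_eq_one]; exact h2
        rw [h5, h1]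
      obtain ⟨α, hα, -⟩ := hi.fix_unique a ha
      exact hx α (h4 ▸ hα)
    · show Fpf Λ (a * (a * x))
      rw [h3]; exact hx
  · rintro ⟨⟨a, b⟩, ha, hb, hf⟩
    apply Subtype.ext
    show (a, a * (a * b)) = (a, b)
    rw [← mul_assoc, ha.1, one_mul]
  · rintro ⟨⟨x, hx⟩, ⟨a, ha, hax⟩⟩
    have h3 : a * (a * x) = x := by rw [← mul_assoc, ha.1, one_mul]
    apply Sigma.subtype_ext
    · exact Subtype.ext h3
    · rfl

end Cfsg.Agent.Lib.Helper4.TICE
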