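import Mathlib

/-!
# S3043, piece ZC2 (counting half of `zcore`)
-/

namespace Cfsg.Agent.Lib.Helper4.S3043

open Subgroup

variable {G : Type*} [Group G] [Finite G]

/-- A subgroup acting freely by conjugation on a set: its order divides the size of the set. -/
theorem card_dvd_of_free_conj (K : Subgroup G) (S : Set G)
    (hS : ∀ c ∈ K, ∀ x ∈ S, c * x * c⁻¹ ∈ S)
    (hfree : ∀ c ∈ K, ∀ x ∈ S, c * x = x * c → c = 1) : Nat.card K ∣ Nat.card S := by
  letI : MulAction K S :=
    { smul := fun c x => ⟨(c : G) * x * (c : G)⁻¹, hS c c.2 x x.2⟩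
      one_smul := fun x => Subtype.ext (by
        show ((1 : K) : G) * (x : G) * ((1 : K) : G)⁻¹ = x
        simp)
      mul_smul := fun a b x => Subtype.ext (by
        show ((a * b : K) : G) * (x : G) * ((a * b : K) : G)⁻¹ =
          (a : G) * ((b : G) * (x : G) * (b : G)⁻¹) * (a : G)⁻¹
        simp [mul_assoc]) }
  have hsm : ∀ (c : K) (x : S), ((c • x : S) : G) = (c : G) * x * (c : G)⁻¹ := fun _ _ => rfl
  have hst : ∀ x : S, MulAction.stabilizer K x = ⊥ := by
    intro x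
    rw [eq_bot_iff]
    intro c hc
    rw [MulAction.mem_stabilizer_iff] at hc
    have h1 : (c : G) * x * (c : G)⁻¹ = x := by rw [← hsm, hc]
    have h2 : (c : G) = 1 := hfree c c.2 x x.2 (by
      calc (c : G) * x = ((c : G) * x * (c : G)⁻¹) * c := by group
        _ = x * c := by rw [h1])
    rw [Subgroup.mem_bot]
    exact Subtype.ext h2
  have e := MulAction.selfEquivOrbitsQuotientProd hst
  rw [Nat.card_congr e, Nat.card_prod]
  exact dvd_mul_left _ _

/-- The conjugacy class of `z` injects the cosets of the centralizer into any set of elements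
closed under conjugation... here the elements of the same order. -/
theorem class_map_injective (z : G) :
    ∃ f : G ⧸ centralizer ({z} : Set G) → {t : G // orderOf t = orderOf z},
      Function.Injective f ∧ ∀ g : G, (f (QuotientGroup.mk g) : G) = g * z * g⁻¹ := by
  have hord : ∀ g : G, orderOf (g * z * g⁻¹) = orderOf z := fun g => by
    have : g * z * g⁻¹ = MulAut.conj g z := by simp [MulAut.conj_apply]
    rw [this, MulEquiv.orderOf_eq]
  have hwd : ∀ a b : G, QuotientGroup.leftRel (centralizer ({z} : Set G)) a b →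
      (⟨a * z * a⁻¹, hord a⟩ : {t : G // orderOf t = orderOf z}) = ⟨b * z * b⁻¹, hord b⟩ := by
    intro a b hab
    rw [QuotientGroup.leftRel_apply, mem_centralizer_singleton_iff] at hab
    apply Subtype.ext
    show a * z * a⁻¹ = b * z * b⁻¹
    calc a * z * a⁻¹ = a * (z * (a⁻¹ * b)) * b⁻¹ := by group
      _ = a * ((a⁻¹ * b) * z) * b⁻¹ := by rw [hab]
      _ = b * z * b⁻¹ := by group
  refine ⟨fun q => Quotient.liftOn' q (fun g => ⟨g * z * g⁻¹, hord g⟩) hwd, ?_, fun g => rfl⟩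
  intro q1 q2
  induction q1 using Quotient.inductionOn' with | _ a => ?_
  induction q2 using Quotient.inductionOn' with | _ b => ?_
  intro h
  have h1 : a * z * a⁻¹ = b * z * b⁻¹ := congrArg Subtype.val h
  apply Quotient.sound'
  rw [QuotientGroup.leftRel_apply, mem_centralizer_singleton_iff]
  calc a⁻¹ * b * z = a⁻¹ * (b * z * b⁻¹) * b := by group
    _ = a⁻¹ * (a * z * a⁻¹) * b := by rw [h1]
    _ = z * (a⁻¹ * b) := by group

/-- card of `M` minus the identity -/
theorem card_diff_one (M : Subgroup G) :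
    Nat.card ({x : G | x ∈ M ∧ x ≠ 1} : Set G) = Nat.card M - 1 := by
  have h1 : ({x : G | x ∈ M ∧ x ≠ 1} : Set G) = (M : Set G) \ {1} := by
    ext x; simp
  rw [h1, Nat.card_coe_set_eq, Set.ncard_sdiff_singleton_of_mem (M.one_mem)]
  rfl

/-- `|N| = |M| |K|` for a factorisation with trivial intersection. -/
theorem card_eq_mul_of_factor (M N K : Subgroup G) (hMN : M ≤ N) (hKN : K ≤ N)
    (hMK : M ⊓ K = ⊥) (hN : ∀ y ∈ N, ∃ x ∈ M, ∃ c ∈ K, y = x * c) :
    Nat.card N = Nat.card M * Nat.card K := by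
  rw [← Nat.card_prod]
  symm
  refine Nat.card_congr (Equiv.ofBijective
    (fun xc : M × K => (⟨(xc.1 : G) * (xc.2 : G), N.mul_mem (hMN xc.1.2) (hKN xc.2.2)⟩ : N))
    ⟨?_, ?_⟩)
  · rintro ⟨x, c⟩ ⟨x', c'⟩ h
    have h1 : (x : G) * c = (x' : G) * c' := congrArg Subtype.val h
    have h2 : (x' : G)⁻¹ * x = (c' : G) * (c : G)⁻¹ := by
      calc (x' : G)⁻¹ * x = (x' : G)⁻¹ * ((x : G) * c) * (c : G)⁻¹ := by group
        _ = (x' : G)⁻¹ * ((x' : G) * c') * (c : G)⁻¹ := by rw [h1]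
        _ = (c' : G) * (c : G)⁻¹ := by group
    have h3 : (x' : G)⁻¹ * x ∈ M ⊓ K :=
      ⟨M.mul_mem (M.inv_mem x'.2) x.2, by rw [h2]; exact K.mul_mem c'.2 (K.inv_mem c.2)⟩
    rw [hMK, Subgroup.mem_bot] at h3
    have h4 : (x : G) = x' := by
      calc (x : G) = x' * ((x' : G)⁻¹ * x) := by group
        _ = x' := by rw [h3, mul_one]
    have h5 : (c : G) = c' := by
      have : (x' : G) * c = (x' : G) * c' := by
        calc (x' : G) * c = (x : G) * c := by rw [h4]
          _ = (x' : G) * c' := h1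
      exact mul_left_cancel this
    exact Prod.ext (Subtype.ext h4) (Subtype.ext h5)
  · rintro ⟨y, hy⟩
    obtain ⟨x, hx, c, hc, rfl⟩ := hN y hy
    exact ⟨(⟨x, hx⟩, ⟨c, hc⟩), rfl⟩

theorem conj_ne_one {c x : G} (hx : x ≠ 1) : c * x * c⁻¹ ≠ 1 := by
  intro h
  apply hx
  calc x = c⁻¹ * (c * x * c⁻¹) * c := by group
    _ = 1 := by rw [h]; group

/-- (d): `M` has prime exponent. -/
theorem exponent_prime (M K : Subgroup G) (hM1 : M ≠ ⊥)
    (hconj : ∀ c ∈ K, ∀ x ∈ M, c * x * c⁻¹ ∈ M)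
    (hMc : ∀ x ∈ M, ∀ y ∈ M, x * y = y * x)
    (h5 : ∀ x ∈ M, x ≠ 1 → ∀ c ∈ K, c * x = x * c → c = 1)
    (h1 : Odd (Nat.card M))
    (hk : Nat.card M - 1 = Nat.card K ∨ Nat.card M - 1 = 2 * Nat.card K) :
    ∃ p j : ℕ, p.Prime ∧ p ≠ 2 ∧ 1 ≤ j ∧ Nat.card M = p ^ j ∧ ∀ x ∈ M, x ^ p = 1 := by
  have hm1 : Nat.card M ≠ 1 := fun h => hM1 (Subgroup.card_eq_one.1 h)
  have hmpos : 0 < Nat.card M := Nat.card_pos
  have hkpos : 0 < Nat.card K := Nat.card_pos
  have hpp : (Nat.card M).minFac.Prime := Nat.minFac_prime hm1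
  have : Fact (Nat.card M).minFac.Prime := ⟨hpp⟩
  have hpd : (Nat.card M).minFac ∣ Nat.card M := Nat.minFac_dvd _
  generalize (Nat.card M).minFac = p at *
  let Mp : Subgroup G :=
    { carrier := {x | x ∈ M ∧ x ^ p = 1}
      one_mem' := ⟨M.one_mem, one_pow _⟩
      mul_mem' := by
        rintro a b ⟨ha, hap⟩ ⟨hb, hbp⟩
        refine ⟨M.mul_mem ha hb, ?_⟩
        rw [(show Commute a b from hMc a ha b hb).mul_pow, hap, hbp, one_mul]
      inv_mem' := by
        rintro a ⟨ha, hap⟩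
        exact ⟨M.inv_mem ha, by rw [inv_pow, hap, inv_one]⟩ }
  have hMpM : Mp ≤ M := fun x hx => hx.1
  obtain ⟨y, hy⟩ := exists_prime_orderOf_dvd_card' p hpd
  have hyp : (y : G) ^ p = 1 := by
    have := pow_orderOf_eq_one y
    rw [hy] at this
    have := congrArg Subtype.val this
    simpa using this
  have hyMp : (y : G) ∈ Mp := ⟨y.2, hyp⟩
  have hy1 : (y : G) ≠ 1 := by
    intro h
    have : y = 1 := Subtype.ext h
    rw [this, orderOf_one] at hy
    exact hpp.one_lt.ne hy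
  have hdvd : Nat.card K ∣ Nat.card Mp - 1 := by
    rw [← card_diff_one Mp]
    apply card_dvd_of_free_conj K
    · rintro c hc x ⟨⟨hxM, hxp⟩, hx1⟩
      refine ⟨⟨hconj c hc x hxM, ?_⟩, conj_ne_one hx1⟩
      rw [conj_pow, hxp, mul_one, mul_inv_cancel]
    · rintro c hc x ⟨⟨hxM, _⟩, hx1⟩ hcx
      exact h5 x hxM hx1 c hc hcx
  have hMpd : Nat.card Mp ∣ Nat.card M := Subgroup.card_dvd_of_le hMpM
  have hMp2 : 2 ≤ Nat.card Mp := by
    have h0 : 0 < Nat.card Mp := Nat.card_pos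
    have h1' : Nat.card Mp ≠ 1 := by
      intro h
      have := Subgroup.card_eq_one.1 h
      rw [this, Subgroup.mem_bot] at hyMp
      exact hy1 hyMp
    omega
  have hcardeq : Nat.card Mp = Nat.card M := by
    have hle : Nat.card Mp ≤ Nat.card M := Nat.le_of_dvd hmpos hMpd
    have h2a : Nat.card Mp = Nat.card M ∨ 2 * Nat.card Mp ≤ Nat.card M := by
      obtain ⟨t, ht⟩ := hMpd
      rcases t with _ | _ | t
      · rw [mul_zero] at ht; omega
      · left; rw [ht]; ring
      · right; rw [ht]; nlinarith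
    obtain ⟨s, hs⟩ := hdvd
    rcases s with _ | _ | s
    · rw [mul_zero] at hs; omega
    · rw [zero_add, mul_one] at hs
      rcases hk with hk | hk
      · omega
      · rcases h2a with h | h
        · exact h
        · omega
    · have h3 : 2 * Nat.card K ≤ Nat.card Mp - 1 := by rw [hs]; nlinarith
      rcases hk with hk | hk
      · omega
      · omega
  have hMpeq : Mp = M := Subgroup.eq_of_le_of_card_ge hMpM (by rw [hcardeq])
  have hexp : ∀ x ∈ M, x ^ p = 1 := fun x hx => by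
    have : x ∈ Mp := by rw [hMpeq]; exact hx
    exact this.2
  have hPG : IsPGroup p M := fun x => ⟨1, by
    rw [pow_one]
    exact Subtype.ext (by simpa using hexp x x.2)⟩
  obtain ⟨j, hj⟩ := IsPGroup.iff_card.1 hPG
  have hj1 : 1 ≤ j := by
    rcases j with _ | j
    · rw [pow_zero] at hj; exact absurd hj hm1
    · omega
  refine ⟨p, j, hpp, ?_, hj1, hj, hexp⟩
  rintro rfl
  rw [hj] at h1
  have : Even (2 ^ j) := (Nat.even_pow' (by omega)).2 even_two
  exact (Nat.not_even_iff_odd.2 h1) this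

/-- ZC2: the counting half, from ZC1's conclusions. -/
theorem zcore2 (M N K : Subgroup G) (z u : G)
    (hM1 : M ≠ ⊥) (hMN : M ≤ N) (hKN : K ≤ N) (hMK : M ⊓ K = ⊥)
    (hN : ∀ y ∈ N, ∃ x ∈ M, ∃ c ∈ K, y = x * c)
    (hnorm : ∀ y ∈ N, ∀ x ∈ M, y * x * y⁻¹ ∈ M)
    (hMc : ∀ x ∈ M, ∀ y ∈ M, x * y = y * x) (hKc : ∀ a ∈ K, ∀ b ∈ K, a * b = b * a)
    (hz : orderOf z = 2) (hzK : z ∈ K)
    (hidx : N.index = Nat.card M + 1)
    (hu : orderOf u = 2) (huN : u ∉ N)
    (huinv : ∀ h ∈ K, u * h * u⁻¹ = h⁻¹)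
    (hCz : Nat.card (centralizer ({z} : Set G)) = 2 * Nat.card K)
    (hcount : Nat.card {t : G // orderOf t = 2} = Nat.card M + Nat.card M * Nat.card K)
    (h1 : Odd (Nat.card M))
    (h2 : ∀ y w : G ⧸ N, y ≠ (QuotientGroup.mk 1 : G ⧸ N) → w ≠ (QuotientGroup.mk 1 : G ⧸ N) →
        ∃! x : M, (x : G) • y = w)
    (h3 : MulAction.IsMultiplyPretransitive G (G ⧸ N) 2)
    (h4 : ∀ h : G, h • (QuotientGroup.mk 1 : G ⧸ N) = QuotientGroup.mk 1 →
      h • (QuotientGroup.mk u : G ⧸ N) = QuotientGroup.mk u → h ∈ K)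
    (h5 : ∀ x ∈ M, x ≠ 1 → ∀ c ∈ K, c * x = x * c → c = 1) :
    ∃ p j : ℕ, p.Prime ∧ p ≠ 2 ∧ 1 ≤ j ∧ Nat.card M = p ^ j ∧ (∀ x ∈ M, x ^ p = 1) ∧
      ((Nat.card K = Nat.card M - 1 ∧ MulAction.IsMultiplyPretransitive G (G ⧸ N) 3 ∧
          ∀ t h : G, ∀ a b : G ⧸ N, a ≠ b → t • a = b → t • b = a → h • a = a → h • b = b →
            t * h * t⁻¹ = h⁻¹) ∨
        (2 * Nat.card K = Nat.card M - 1 ∧ ∀ t : G, orderOf t = 2 → ∃ g : G, t = g * z * g⁻¹)) := by
  classical
  have hm1 : Nat.card M ≠ 1 := fun h => hM1 (Subgroup.card_eq_one.1 h)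
  have hmpos : 0 < Nat.card M := Nat.card_pos
  have hkpos : 0 < Nat.card K := Nat.card_pos
  have hm3 : 3 ≤ Nat.card M := by
    rcases h1 with ⟨r, hr⟩
    omega
  have hconjK : ∀ c ∈ K, ∀ x ∈ M, c * x * c⁻¹ ∈ M := fun c hc x hx => hnorm c (hKN hc) x hx
  have hNcard : Nat.card N = Nat.card M * Nat.card K :=
    card_eq_mul_of_factor M N K hMN hKN hMK hN
  have hGcard : Nat.card G = Nat.card M * Nat.card K * (Nat.card M + 1) := by
    rw [← hNcard, ← hidx]; exact (N.card_mul_index).symm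
  -- (b)
  have hkdvd : Nat.card K ∣ Nat.card M - 1 := by
    rw [← card_diff_one M]
    apply card_dvd_of_free_conj K
    · rintro c hc x ⟨hxM, hx1⟩
      exact ⟨hconjK c hc x hxM, conj_ne_one hx1⟩
    · rintro c hc x ⟨hxM, hx1⟩ hcx
      exact h5 x hxM hx1 c hc hcx
  -- (c)
  obtain ⟨f, hfinj, hf⟩ := class_map_injective z
  have hIcard : Nat.card {t : G // orderOf t = orderOf z} =
      Nat.card M + Nat.card M * Nat.card K := by rw [hz]; exact hcount
  have hidxC : 2 * (centralizer ({z} : Set G)).index = Nat.card M * (Nat.card M + 1) := by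
    have := (centralizer ({z} : Set G)).card_mul_index
    rw [hCz, hGcard] at this
    have h' : Nat.card K * (2 * (centralizer ({z} : Set G)).index) =
        Nat.card K * (Nat.card M * (Nat.card M + 1)) := by
      calc Nat.card K * (2 * (centralizer ({z} : Set G)).index)
          = 2 * Nat.card K * (centralizer ({z} : Set G)).index := by ring
        _ = Nat.card M * Nat.card K * (Nat.card M + 1) := this
        _ = Nat.card K * (Nat.card M * (Nat.card M + 1)) := by ring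
    exact Nat.eq_of_mul_eq_mul_left hkpos h'
  have hle : (centralizer ({z} : Set G)).index ≤ Nat.card M + Nat.card M * Nat.card K := by
    rw [← hIcard, Subgroup.index_eq_card]; exact Nat.card_le_card_of_injective f hfinj
  have hm2k : Nat.card M ≤ 2 * Nat.card K + 1 := by
    have h' : Nat.card M * (Nat.card M + 1) ≤ Nat.card M * (2 * Nat.card K + 2) := by
      rw [← hidxC]
      calc 2 * (centralizer ({z} : Set G)).index
          ≤ 2 * (Nat.card M + Nat.card M * Nat.card K) := Nat.mul_le_mul_left 2 hle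
        _ = Nat.card M * (2 * Nat.card K + 2) := by ring
    have := Nat.le_of_mul_le_mul_left h' hmpos
    omega
  have hcases : Nat.card M - 1 = Nat.card K ∨ Nat.card M - 1 = 2 * Nat.card K := by
    obtain ⟨s, hs⟩ := hkdvd
    rcases s with _ | _ | _ | s
    · rw [mul_zero] at hs; omega
    · left; rw [hs]; ring
    · right; rw [hs]; ring
    · exfalso
      have : 3 * Nat.card K ≤ Nat.card M - 1 := by rw [hs]; nlinarith
      omega
  obtain ⟨p, j, hpp, hp2, hj, hmj, hexp⟩ := exponent_prime M K hM1 hconjK hMc h5 h1 hcases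
  refine ⟨p, j, hpp, hp2, hj, hmj, hexp, ?_⟩
  rcases hcases with hc1 | hc2
  · left
    have hsm : ∀ g h : G, g • (QuotientGroup.mk h : G ⧸ N) = QuotientGroup.mk (g * h) :=
      fun g h => rfl
    have huu : u * u = 1 := by rw [← pow_two, ← hu]; exact pow_orderOf_eq_one u
    have hoq : (QuotientGroup.mk 1 : G ⧸ N) ≠ QuotientGroup.mk u := by
      intro h
      rw [QuotientGroup.eq] at h
      apply huN
      simpa using h
    have hNo : ∀ c ∈ N, c • (QuotientGroup.mk 1 : G ⧸ N) = QuotientGroup.mk 1 := by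
      intro c hc
      rw [hsm, QuotientGroup.eq]
      simpa using hc
    have hKq : ∀ c ∈ K, c • (QuotientGroup.mk u : G ⧸ N) = QuotientGroup.mk u := by
      intro c hc
      rw [hsm, QuotientGroup.eq]
      have h1' : (c * u)⁻¹ * u = c := by
        have := huinv c hc
        calc (c * u)⁻¹ * u = u⁻¹ * (c⁻¹) * u := by group
          _ = u⁻¹ * (u * c * u⁻¹) * u := by rw [this]
          _ = c := by group
      rw [h1']; exact hKN hc
    obtain ⟨x0, hx0M, hx01⟩ : ∃ x0 ∈ M, x0 ≠ 1 := by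
      by_contra hcon
      push Not at hcon
      exact hM1 ((Subgroup.eq_bot_iff_forall _).2 hcon)
    have htrans : ∀ x ∈ M, x ≠ 1 → ∃ c ∈ K, c * x0 * c⁻¹ = x := by
      let fo : K → ({x : G | x ∈ M ∧ x ≠ 1} : Set G) := fun c =>
        ⟨(c : G) * x0 * (c : G)⁻¹, hconjK c c.2 x0 hx0M, conj_ne_one hx01⟩
      have hfo : Function.Injective fo := by
        intro c c' h
        have h1' : (c : G) * x0 * (c : G)⁻¹ = (c' : G) * x0 * (c' : G)⁻¹ :=
          congrArg Subtype.val h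
        have h2' : ((c' : G)⁻¹ * c) * x0 = x0 * ((c' : G)⁻¹ * c) := by
          calc ((c' : G)⁻¹ * c) * x0 = (c' : G)⁻¹ * ((c : G) * x0 * (c : G)⁻¹) * c := by group
            _ = (c' : G)⁻¹ * ((c' : G) * x0 * (c' : G)⁻¹) * c := by rw [h1']
            _ = x0 * ((c' : G)⁻¹ * c) := by group
        have h3' := h5 x0 hx0M hx01 _ (K.mul_mem (K.inv_mem c'.2) c.2) h2'
        rw [inv_mul_eq_one] at h3'
        exact Subtype.ext h3'.symm
      have hbij := hfo.bijective_of_nat_card_le (by rw [card_diff_one M]; omega)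
      intro x hxM hx1
      obtain ⟨c, hc⟩ := hbij.2 ⟨x, hxM, hx1⟩
      exact ⟨c, c.2, congrArg Subtype.val hc⟩
    have hT : ∀ a b c : G ⧸ N, a ≠ b → b ≠ c → a ≠ c → ∃ g : G,
        g • a = QuotientGroup.mk 1 ∧ g • b = QuotientGroup.mk u ∧
        g • c = x0 • (QuotientGroup.mk u : G ⧸ N) := by
      intro a b c hab hbc hac
      obtain ⟨g1, hg1a, hg1b⟩ := (MulAction.is_two_pretransitive_iff.1 h3) hab hoq
      have hw_o : g1 • c ≠ QuotientGroup.mk 1 := by
        rw [← hg1a]; exact fun h => hac (MulAction.injective g1 h).symm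
      have hw_q : g1 • c ≠ QuotientGroup.mk u := by
        rw [← hg1b]; exact fun h => hbc (MulAction.injective g1 h).symm
      obtain ⟨x, hx, -⟩ := h2 (QuotientGroup.mk u) (g1 • c) hoq.symm hw_o
      have hx1 : (x : G) ≠ 1 := by
        intro h
        rw [h, one_smul] at hx
        exact hw_q hx.symm
      obtain ⟨c', hc'K, hc'⟩ := htrans x x.2 hx1
      refine ⟨c'⁻¹ * g1, ?_, ?_, ?_⟩
      · rw [mul_smul, hg1a]; exact hNo _ (N.inv_mem (hKN hc'K))
      · rw [mul_smul, hg1b]; exact hKq _ (K.inv_mem hc'K)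
      · rw [mul_smul, ← hx, ← hc', ← mul_smul]
        have : c'⁻¹ * (c' * x0 * c'⁻¹) = x0 * c'⁻¹ := by group
        rw [this, mul_smul, hKq _ (K.inv_mem hc'K)]
    refine ⟨by omega, ?_, ?_⟩
    · rw [MulAction.isMultiplyPretransitive_iff]
      intro a b
      have ha01 : a 0 ≠ a 1 := a.injective.ne (by decide)
      have ha12 : a 1 ≠ a 2 := a.injective.ne (by decide)
      have ha02 : a 0 ≠ a 2 := a.injective.ne (by decide)
      have hb01 : b 0 ≠ b 1 := b.injective.ne (by decide)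
      have hb12 : b 1 ≠ b 2 := b.injective.ne (by decide)
      have hb02 : b 0 ≠ b 2 := b.injective.ne (by decide)
      obtain ⟨ga, ha0, ha1, ha2⟩ := hT (a 0) (a 1) (a 2) ha01 ha12 ha02
      obtain ⟨gb, hb0, hb1, hb2⟩ := hT (b 0) (b 1) (b 2) hb01 hb12 hb02
      refine ⟨gb⁻¹ * ga, ?_⟩
      ext i
      rw [Function.Embedding.smul_apply, mul_smul]
      fin_cases i
      · show gb⁻¹ • ga • a 0 = b 0
        rw [ha0, ← hb0, inv_smul_smul]
      · show gb⁻¹ • ga • a 1 = b 1
        rw [ha1, ← hb1, inv_smul_smul]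
      · show gb⁻¹ • ga • a 2 = b 2
        rw [ha2, ← hb2, inv_smul_smul]
    · intro t h a b hab hta htb hha hhb
      obtain ⟨g, hga, hgb⟩ := (MulAction.is_two_pretransitive_iff.1 h3) hab hoq
      have hag : g⁻¹ • (QuotientGroup.mk 1 : G ⧸ N) = a := by rw [← hga, inv_smul_smul]
      have hbg : g⁻¹ • (QuotientGroup.mk u : G ⧸ N) = b := by rw [← hgb, inv_smul_smul]
      have hh'K : g * h * g⁻¹ ∈ K := by
        apply h4
        · rw [mul_smul, mul_smul, hag, hha, hga]
        · rw [mul_smul, mul_smul, hbg, hhb, hgb]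
      have hcK : u * (g * t * g⁻¹) ∈ K := by
        apply h4
        · rw [mul_smul, mul_smul, mul_smul, hag, hta, hgb, hsm, huu]
        · rw [mul_smul, mul_smul, mul_smul, hbg, htb, hga, hsm, mul_one]
      have hcomm := hKc _ hcK _ hh'K
      have hinv' := huinv _ hh'K
      have hui : u⁻¹ = u := inv_eq_of_mul_eq_one_right huu
      have key : (g * t * g⁻¹) * (g * h * g⁻¹) * (g * t * g⁻¹)⁻¹ = (g * h * g⁻¹)⁻¹ := by
        calc (g * t * g⁻¹) * (g * h * g⁻¹) * (g * t * g⁻¹)⁻¹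
            = u⁻¹ * ((u * (g * t * g⁻¹)) * (g * h * g⁻¹)) * (u * (g * t * g⁻¹))⁻¹ * u := by group
          _ = u⁻¹ * ((g * h * g⁻¹) * (u * (g * t * g⁻¹))) * (u * (g * t * g⁻¹))⁻¹ * u := by
              rw [hcomm]
          _ = u⁻¹ * (g * h * g⁻¹) * u := by group
          _ = u * (g * h * g⁻¹) * u⁻¹ := by rw [hui]
          _ = (g * h * g⁻¹)⁻¹ := hinv'
      calc t * h * t⁻¹ = g⁻¹ * ((g * t * g⁻¹) * (g * h * g⁻¹) * (g * t * g⁻¹)⁻¹) * g := by group
        _ = g⁻¹ * (g * h * g⁻¹)⁻¹ * g := by rw [key]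
        _ = h⁻¹ := by group
  · right
    refine ⟨by omega, ?_⟩
    have hidxeq : (centralizer ({z} : Set G)).index = Nat.card M + Nat.card M * Nat.card K := by
      have h' : Nat.card M + 1 = 2 * (Nat.card K + 1) := by omega
      rw [h'] at hidxC
      have h'' : 2 * (centralizer ({z} : Set G)).index =
          2 * (Nat.card M + Nat.card M * Nat.card K) := by rw [hidxC]; ring
      exact Nat.eq_of_mul_eq_mul_left two_pos h''
    have hbij := hfinj.bijective_of_nat_card_le (by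
      rw [hIcard, ← Subgroup.index_eq_card, hidxeq])
    intro t ht
    obtain ⟨q, hq⟩ := hbij.2 ⟨t, by rw [ht, hz]⟩
    obtain ⟨g, rfl⟩ := QuotientGroup.mk_surjective q
    refine ⟨g, ?_⟩
    rw [← hf g, hq]

end Cfsg.Agent.Lib.Helper4.S3043
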