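import Mathlib
import Cfsg.Agent.Lib.Helper3.CPDefs
import Cfsg.Agent.Lib.Helper4.CPN2
import Cfsg.Agent.Lib.Helper4.S3043ZC2

/-!
# S3396, sub-piece R-A: a `CC` group has no maximal normal subgroup of order 168
-/

namespace Cfsg.Agent.Lib.Helper4.CP

open Cfsg.Agent.Lib.Helper3.CP

universe u

variable {G : Type u} [Group G] [Finite G]

/-- In a `CC` group, a nonidentity element commuting with an element of order 3 has order 3. -/
theorem orderOf_eq_three_of_commute (hC : CC G) {q c : G} (hq : orderOf q = 3) (hc1 : c ≠ 1)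
    (hcq : q * c = c * q) : orderOf c = 3 := by
  have h3 : ¬ (orderOf c).Coprime 3 := fun hcop =>
    cc_no_mixed hC 3 Nat.prime_three (by norm_num) q c hq hc1 hcop hcq
  have hdvd : 3 ∣ orderOf c := by
    by_contra h
    exact h3 ((Nat.Prime.coprime_iff_not_dvd Nat.prime_three).2 h).symm
  rcases hC c hc1 with ⟨t, ht⟩ | ⟨hp, _⟩
  · exfalso
    rw [ht] at hdvd
    have := (Nat.prime_dvd_prime_iff_eq Nat.prime_three Nat.prime_two).1
      (Nat.prime_three.dvd_of_dvd_pow hdvd)
    norm_num at this
  · exact ((Nat.prime_dvd_prime_iff_eq Nat.prime_three hp).1 hdvd).symm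

/-- In a `CC` group, subgroups of the centralizer of an element of order 3 are 3-groups. -/
theorem isPGroup_three_of_le_centralizer (hC : CC G) {q : G} (hq : orderOf q = 3)
    (H : Subgroup G) (hH : H ≤ Subgroup.centralizer ({q} : Set G)) : IsPGroup 3 H := by
  intro h
  by_cases h1 : h = 1
  · exact ⟨0, by rw [h1, pow_zero, pow_one]⟩
  · refine ⟨1, ?_⟩
    have hh1 : (h : G) ≠ 1 := fun e => h1 (Subtype.ext e)
    have hcomm : q * (h : G) = (h : G) * q :=
      (Subgroup.mem_centralizer_singleton_iff.1 (hH h.2)).symm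
    have := orderOf_eq_three_of_commute hC hq hh1 hcomm
    rw [pow_one]
    apply Subtype.ext
    rw [Subgroup.coe_pow, ← this, pow_orderOf_eq_one]
    rfl

/-- 3-subgroups of a group of order 168 have order at most 3. -/
theorem card_le_three_of_isPGroup (N H : Subgroup G) (hN : Nat.card N = 168) (hHN : H ≤ N)
    (hH : IsPGroup 3 H) : Nat.card H ≤ 3 := by
  haveI : Fact (Nat.Prime 3) := ⟨Nat.prime_three⟩
  obtain ⟨j, hj⟩ := IsPGroup.iff_card.1 hH
  have hdvd : Nat.card H ∣ 168 := by rw [← hN]; exact Subgroup.card_dvd_of_le hHN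
  rw [hj] at hdvd ⊢
  rcases j with _ | _ | j
  · norm_num
  · norm_num
  · exfalso
    have h9 : 9 ∣ 168 := by
      refine dvd_trans ?_ hdvd
      exact ⟨3 ^ j, by ring⟩
    norm_num at h9

/-- `|H| = |H ⊓ N| * |HN : N|`. -/
theorem card_eq_inf_mul_relIndex (N H : Subgroup G) :
    Nat.card H = Nat.card (H ⊓ N : Subgroup G) * N.relIndex H := by
  have h1 := (N.subgroupOf H).card_mul_index
  have h2 : Nat.card (N.subgroupOf H) = Nat.card (H ⊓ N : Subgroup G) := by
    rw [← Subgroup.inf_subgroupOf_left N H]
    exact Nat.card_congr (Subgroup.subgroupOfEquivOfLe inf_le_left).toEquiv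
  rw [← h1, h2]
  rfl

theorem caseA (hC : CC G) (N : Subgroup G) [N.Normal] (hNs : IsSimpleGroup ↥N)
    (hN : Nat.card N = 168) (hlt : N ≠ ⊤)
    (hmax : ∀ H : Subgroup G, N ≤ H → H = N ∨ H = ⊤) : False := by
  classical
  haveI : Fact (Nat.Prime 3) := ⟨Nat.prime_three⟩
  -- index
  have hs2 : 2 ≤ N.index := by
    have h0 : N.index ≠ 0 := Subgroup.index_ne_zero_of_finite
    have h1 : N.index ≠ 1 := fun h => hlt (Subgroup.index_eq_one.1 h)
    omega
  -- relIndex dichotomy
  have hrel : ∀ H : Subgroup G, N.relIndex H = 1 ∨ N.relIndex H = N.index := by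
    intro H
    rcases hmax (H ⊔ N) le_sup_right with h | h
    · left
      rw [Subgroup.relIndex_eq_one]
      rw [← h]; exact le_sup_left
    · right
      rw [← Subgroup.relIndex_sup_right, h, Subgroup.relIndex_top_right]
  -- element of order 3
  obtain ⟨q', hq'⟩ := exists_prime_orderOf_dvd_card' (G := ↥N) 3 (by rw [hN]; norm_num)
  have hq : orderOf (q' : G) = 3 := by rw [Subgroup.orderOf_coe]; exact hq'
  have hqN : (q' : G) ∈ N := q'.2
  generalize (q' : G) = q at hq hqN
  have hQN : Subgroup.zpowers q ≤ N := by rwa [Subgroup.zpowers_le]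
  have hQcard : Nat.card (Subgroup.zpowers q) = 3 := by rw [Nat.card_zpowers, hq]
  have hQC : Subgroup.zpowers q ≤ Subgroup.centralizer ({q} : Set G) := by
    rw [Subgroup.zpowers_le, Subgroup.mem_centralizer_singleton_iff]
  -- 3-subgroups of N containing Q equal Q
  have hQeq : ∀ H : Subgroup G, H ≤ N → IsPGroup 3 H → Subgroup.zpowers q ≤ H →
      H = Subgroup.zpowers q := by
    intro H hHN hH hQH
    symm
    apply Subgroup.eq_of_le_of_card_ge hQH
    rw [hQcard]
    exact card_le_three_of_isPGroup N H hN hHN hH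
  -- C
  have hC3 : IsPGroup 3 (Subgroup.centralizer ({q} : Set G)) :=
    isPGroup_three_of_le_centralizer hC hq _ le_rfl
  have hCN : Subgroup.centralizer ({q} : Set G) ⊓ N = Subgroup.zpowers q :=
    hQeq _ inf_le_right (hC3.to_le inf_le_left) (le_inf hQC hQN)
  have hCcard : Nat.card (Subgroup.centralizer ({q} : Set G)) = 3 ∨
      Nat.card (Subgroup.centralizer ({q} : Set G)) = 3 * N.index := by
    have := card_eq_inf_mul_relIndex N (Subgroup.centralizer ({q} : Set G))
    rw [hCN, hQcard] at this
    rcases hrel (Subgroup.centralizer ({q} : Set G)) with h | h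
    · left; rw [this, h]
    · right; rw [this, h]
  -- a Sylow 3-subgroup of N
  have hQ'3 : IsPGroup 3 ((Subgroup.zpowers q).subgroupOf N) := by
    have : IsPGroup 3 (Subgroup.zpowers q) := hC3.to_le hQC
    exact this.comap_of_injective N.subtype N.subtype_injective
  obtain ⟨P, hP⟩ := hQ'3.exists_le_sylow
  have hPmap : (P : Subgroup N).map N.subtype = Subgroup.zpowers q := by
    apply hQeq _ (Subgroup.map_subtype_le _) (P.isPGroup'.map N.subtype)
    intro x hx
    exact ⟨⟨x, hQN hx⟩, hP (Subgroup.mem_subgroupOf.2 hx), rfl⟩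
  have hPeq : (P : Subgroup N) = (Subgroup.zpowers q).subgroupOf N := by
    rw [← hPmap]
    exact (Subgroup.comap_map_eq_self_of_injective N.subtype_injective _).symm
  have hPcard : Nat.card (P : Subgroup N) = 3 := by
    rw [← Subgroup.card_map_of_injective N.subtype_injective, hPmap, hQcard]
  -- Frattini
  have hF : Subgroup.normalizer (Subgroup.zpowers q : Set G) ⊔ N = ⊤ := by
    have := Sylow.normalizer_sup_eq_top P
    rwa [hPmap] at this
  have hLcard : Nat.card (Subgroup.normalizer (Subgroup.zpowers q : Set G)) =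
      Nat.card (Subgroup.normalizer (Subgroup.zpowers q : Set G) ⊓ N : Subgroup G) * N.index := by
    have := card_eq_inf_mul_relIndex N (Subgroup.normalizer (Subgroup.zpowers q : Set G))
    rwa [← Subgroup.relIndex_sup_right, hF, Subgroup.relIndex_top_right] at this
  -- |N_N(Q)| ≥ 6
  have hNN : 6 ≤ Nat.card (Subgroup.normalizer (Subgroup.zpowers q : Set G) ⊓ N : Subgroup G) := by
    have e1 : Nat.card (Subgroup.normalizer (Subgroup.zpowers q : Set G) ⊓ N : Subgroup G) =
        Nat.card (Subgroup.normalizer ((P : Subgroup N) : Set N)) := by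
      rw [hPeq, ← Subgroup.subgroupOf_normalizer_eq hQN]
      exact (Nat.card_congr (Subgroup.subgroupOfEquivOfLe inf_le_right).toEquiv).symm.trans
        (by rw [Subgroup.inf_subgroupOf_right])
    rw [e1]
    have h1 := Sylow.card_eq_index_normalizer P
    have h2 := card_sylow_modEq_one 3 ↥N
    have h3 := Sylow.card_dvd_index P
    have h4 : (P : Subgroup N).index = 56 := by
      have := (P : Subgroup N).card_mul_index
      rw [hPcard, hN] at this
      omega
    rw [h4] at h3
    have h5 := (Subgroup.normalizer ((P : Subgroup N) : Set N)).card_mul_index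
    have h1' : (Subgroup.normalizer ((P : Subgroup N) : Set N)).index = Nat.card (Sylow 3 ↥N) :=
      h1.symm
    rw [h1', hN] at h5
    have h6 : Nat.card (Sylow 3 ↥N) ≤ 28 := by
      by_contra hgt
      push Not at hgt
      obtain ⟨k, hk⟩ := h3
      rcases k with _ | _ | k
      · omega
      · have hk' : Nat.card (Sylow 3 ↥N) = 56 := by omega
        rw [hk'] at h2
        exact absurd h2 (by decide)
      · nlinarith
    by_contra hlt6
    push Not at hlt6
    nlinarith
  -- |N_G(Q)| ≤ 2 |C_G(q)|
  have hcentQ : Subgroup.centralizer (Subgroup.zpowers q : Set G) =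
      Subgroup.centralizer ({q} : Set G) := by
    apply le_antisymm
    · exact Subgroup.centralizer_le (by
        rintro x rfl
        exact Subgroup.mem_zpowers x)
    · intro c hc
      rw [Subgroup.mem_centralizer_singleton_iff] at hc
      rw [Subgroup.mem_centralizer_iff]
      intro x hx
      obtain ⟨n, rfl⟩ := Subgroup.mem_zpowers_iff.1 hx
      exact ((show Commute c q from hc).zpow_right n).symm.eq
  have hNC : Nat.card (Subgroup.normalizer (Subgroup.zpowers q : Set G)) ≤
      2 * Nat.card (Subgroup.centralizer ({q} : Set G)) := by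
    have key := Subgroup.card_dvd_of_injective _
      (QuotientGroup.kerLift_injective (Subgroup.zpowers q).normalizerMonoidHom)
    rw [Subgroup.normalizerMonoidHom_ker, ← Subgroup.index, ← Subgroup.relIndex,
      IsCyclic.card_mulAut, hQcard, Nat.totient_prime Nat.prime_three, hcentQ] at key
    have h1 := card_eq_inf_mul_relIndex (Subgroup.centralizer ({q} : Set G))
      (Subgroup.normalizer (Subgroup.zpowers q : Set G))
    have h2 : Subgroup.normalizer (Subgroup.zpowers q : Set G) ⊓
        Subgroup.centralizer ({q} : Set G) = Subgroup.centralizer ({q} : Set G) := by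
      rw [inf_eq_right, ← hcentQ]
      exact Subgroup.centralizer_le_normalizer _
    rw [h2] at h1
    rw [h1]
    have h3 : (Subgroup.centralizer ({q} : Set G)).relIndex
        (Subgroup.normalizer (Subgroup.zpowers q : Set G)) ≤ 2 := Nat.le_of_dvd (by norm_num) key
    calc _ ≤ Nat.card (Subgroup.centralizer ({q} : Set G)) * 2 := Nat.mul_le_mul_left _ h3
      _ = _ := by ring
  -- |C| = 3 * index
  have hC3s : Nat.card (Subgroup.centralizer ({q} : Set G)) = 3 * N.index := by
    rcases hCcard with h | h
    · exfalso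
      rw [h, hLcard] at hNC
      nlinarith
    · exact h
  -- free action on N minus Q
  have hdvd : Nat.card (Subgroup.centralizer ({q} : Set G)) ∣
      Nat.card ({x : G | x ∈ N ∧ x ∉ Subgroup.zpowers q} : Set G) := by
    apply Cfsg.Agent.Lib.Helper4.S3043.card_dvd_of_free_conj
    · rintro c hc x ⟨hxN, hxQ⟩
      refine ⟨Subgroup.Normal.conj_mem inferInstance x hxN c, fun h => hxQ ?_⟩
      -- c x c⁻¹ ∈ Q, c centralizes Q
      have hcQ : c ∈ Subgroup.centralizer (Subgroup.zpowers q : Set G) := by rw [hcentQ]; exact hc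
      have h1 := Subgroup.mem_centralizer_iff.1 hcQ _ h
      have h2 : x = c * x * c⁻¹ := by
        calc x = c⁻¹ * ((c * x * c⁻¹) * c) := by group
          _ = c⁻¹ * (c * (c * x * c⁻¹)) := by rw [h1]
          _ = c * x * c⁻¹ := by group
      rw [h2]; exact h
    · rintro c hc x ⟨hxN, hxQ⟩ hcx
      by_contra hc1
      apply hxQ
      have hco : orderOf c = 3 := orderOf_eq_three_of_commute hC hq hc1
        (Subgroup.mem_centralizer_singleton_iff.1 hc).symm
      have hH3 : IsPGroup 3 (Subgroup.centralizer ({c} : Set G) ⊓ N : Subgroup G) :=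
        isPGroup_three_of_le_centralizer hC hco _ inf_le_left
      have hQH : Subgroup.zpowers q ≤ Subgroup.centralizer ({c} : Set G) ⊓ N := by
        refine le_inf ?_ hQN
        rw [Subgroup.zpowers_le, Subgroup.mem_centralizer_singleton_iff]
        exact (Subgroup.mem_centralizer_singleton_iff.1 hc).symm
      have := hQeq _ inf_le_right hH3 hQH
      rw [← this]
      exact ⟨Subgroup.mem_centralizer_singleton_iff.2 hcx.symm, hxN⟩
  have hXcard : Nat.card ({x : G | x ∈ N ∧ x ∉ Subgroup.zpowers q} : Set G) = 165 := by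
    have h1 : ({x : G | x ∈ N ∧ x ∉ Subgroup.zpowers q} : Set G) =
        (N : Set G) \ (Subgroup.zpowers q : Set G) := by
      ext x; simp
    rw [h1, Nat.card_coe_set_eq, Set.ncard_sdiff (by exact_mod_cast hQN)]
    have e1 : (N : Set G).ncard = 168 := by rw [← Nat.card_coe_set_eq]; exact hN
    have e2 : (Subgroup.zpowers q : Set G).ncard = 3 := by
      rw [← Nat.card_coe_set_eq]; exact hQcard
    rw [e1, e2]
  rw [hXcard, hC3s] at hdvd
  -- 3 * s ∣ 165, and 3 * s is a power of 3, s ≥ 2
  obtain ⟨k, hk⟩ := IsPGroup.iff_card.1 hC3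
  rw [hC3s] at hk
  rcases k with _ | _ | k
  · omega
  · omega
  · have h9 : 9 ∣ 165 := by
      refine dvd_trans ?_ hdvd
      rw [hk]
      exact ⟨3 ^ k, by ring⟩
    norm_num at h9

end Cfsg.Agent.Lib.Helper4.CP
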