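import Mathlib

/-! Farm CUB (S4415), units I.4-13 and I.4-5: the primes 13 and 5 do not divide `|R|`
(orbit counting only). -/

set_option autoImplicit false
set_option linter.unusedTactic false
set_option linter.unreachableTactic false

namespace Cfsg.Agent.Lib.Helper4.CUB

section thirteen

variable {R : Type*} [Group R]

/-- Conjugation by `z` on a finite `z`-invariant subgroup `N`, `z` of `r`-power order:
`|N| ≡ |C_N(z)| (mod r)`. -/
theorem card_modEq_card_centralizer (N : Subgroup R) [Finite N] (z : R)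
    (hzN : ∀ m ∈ N, z * m * z⁻¹ ∈ N) (r n : ℕ) [Fact r.Prime] (hzr : z ^ r ^ n = 1) :
    Nat.card ↥N ≡ Nat.card ↥(N ⊓ Subgroup.centralizer ({z} : Set R)) [MOD r] := by
  classical
  have : Fintype ↥N := Fintype.ofFinite _
  let f : Function.End ↥N := fun m => ⟨z * m * z⁻¹, hzN m m.2⟩
  have hpow : ∀ (k : ℕ) (m : ↥N), (((f ^ k) m : ↥N) : R) = z ^ k * m * (z ^ k)⁻¹ := by
    intro k
    induction k with
    | zero =>
      intro m
      simp only [pow_zero, one_mul, inv_one, mul_one]
      rfl
    | succ k ih =>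
      intro m
      have : (f ^ (k + 1)) m = (f ^ k) (f m) := by
        rw [pow_succ]; rfl
      rw [this, ih]
      show z ^ k * (z * m * z⁻¹) * (z ^ k)⁻¹ = _
      rw [pow_succ]; group
  have hf : f ^ r ^ n = 1 := by
    funext m
    apply Subtype.ext
    rw [hpow, hzr]
    show 1 * (m : R) * 1⁻¹ = (m : R)
    simp
  have h1 := Equiv.Perm.card_fixedPoints_modEq (p := r) (n := n) hf
  have e : ↥(Function.fixedPoints f) ≃ ↥(N ⊓ Subgroup.centralizer ({z} : Set R)) :=
    { toFun := fun m => ⟨(m.1 : R), by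
        refine Subgroup.mem_inf.mpr ⟨m.1.2, ?_⟩
        rw [Subgroup.mem_centralizer_singleton_iff]
        have h3 : f m.1 = m.1 := m.2
        have h4 : z * (m.1 : R) * z⁻¹ = m.1 := congrArg Subtype.val h3
        have h5 := mul_inv_eq_iff_eq_mul.mp h4
        exact h5.symm⟩
      invFun := fun c => ⟨⟨(c : R), (Subgroup.mem_inf.mp c.2).1⟩, by
        show f _ = _
        apply Subtype.ext
        show z * (c : R) * z⁻¹ = c
        have h3 := (Subgroup.mem_inf.mp c.2).2
        rw [Subgroup.mem_centralizer_singleton_iff] at h3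
        rw [← h3, mul_inv_cancel_right]⟩
      left_inv := fun m => rfl
      right_inv := fun c => rfl }
  rw [Nat.card_eq_fintype_card]
  have h2 : Fintype.card ↥(Function.fixedPoints f)
      = Nat.card ↥(N ⊓ Subgroup.centralizer ({z} : Set R)) := by
    rw [← Nat.card_eq_fintype_card]
    exact Nat.card_congr e
  rw [← h2]
  exact h1

theorem pow_two_modEq_aux (a c : ℕ) (hca : c < a) (ha : a ≤ 9) (h : 2 ^ a ≡ 2 ^ c [MOD 13]) :
    False := by
  unfold Nat.ModEq at h
  interval_cases a <;> interval_cases c <;> norm_num at h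

/-- (I.4-13) -/
theorem no_thirteen [Finite R] (T : Subgroup R) [hTn : T.Normal] (hT : IsPGroup 2 ↥T)
    (hCT : Subgroup.centralizer (T : Set R) ≤ T) (hcard : Nat.card R ∣ 2 ^ 9 * 5 * 13) :
    ¬ 13 ∣ Nat.card R := by
  intro h13
  have : Fact (Nat.Prime 13) := ⟨by norm_num⟩
  have : Fact (Nat.Prime 2) := ⟨Nat.prime_two⟩
  obtain ⟨x, hx⟩ := exists_prime_orderOf_dvd_card' 13 h13
  obtain ⟨a, ha⟩ := IsPGroup.iff_card.mp hT
  have ha9 : a ≤ 9 := by
    have h1 : 2 ^ a ∣ 2 ^ 9 * 5 * 13 := by
      rw [← ha]; exact (Subgroup.card_subgroup_dvd_card T).trans hcard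
    have h2 : Nat.Coprime (2 ^ a) (5 * 13) := by
      apply Nat.Coprime.pow_left
      norm_num
    have h3 : 2 ^ a ∣ 2 ^ 9 := by
      rw [mul_assoc] at h1
      exact h2.dvd_of_dvd_mul_right h1
    exact (Nat.pow_dvd_pow_iff_le_right (by norm_num)).mp h3
  set C : Subgroup R := T ⊓ Subgroup.centralizer ({x} : Set R) with hC
  have hCle : C ≤ T := inf_le_left
  have hCp : IsPGroup 2 ↥C := hT.to_le hCle
  obtain ⟨c, hc⟩ := IsPGroup.iff_card.mp hCp
  have hx13 : x ^ 13 ^ 1 = 1 := by
    rw [pow_one, ← hx]; exact pow_orderOf_eq_one x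
  have hmod : Nat.card ↥T ≡ Nat.card ↥C [MOD 13] :=
    card_modEq_card_centralizer T x (fun m hm => hTn.conj_mem m hm x) 13 1 hx13
  have hne : C ≠ T := by
    intro heq
    have hxc : x ∈ Subgroup.centralizer (T : Set R) := by
      rw [Subgroup.mem_centralizer_iff]
      intro m hm
      have : m ∈ C := heq ▸ hm
      have h3 := (Subgroup.mem_inf.mp this).2
      rw [Subgroup.mem_centralizer_singleton_iff] at h3
      exact h3
    have hxT : x ∈ T := hCT hxc
    have h4 : orderOf (⟨x, hxT⟩ : ↥T) ∣ Nat.card ↥T := orderOf_dvd_natCard _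
    rw [Subgroup.orderOf_mk, hx, ha] at h4
    have h5 := (Nat.Prime.dvd_of_dvd_pow (by norm_num : Nat.Prime 13) h4)
    norm_num at h5
  have hlt : Nat.card ↥C < Nat.card ↥T := by
    have hle : Nat.card ↥C ≤ Nat.card ↥T := Subgroup.card_le_of_le hCle
    rcases Nat.lt_or_ge (Nat.card ↥C) (Nat.card ↥T) with h | h
    · exact h
    · exact absurd (Subgroup.eq_of_le_of_card_ge hCle h) hne
  rw [ha, hc] at hlt
  have hca : c < a := (Nat.pow_lt_pow_iff_right (by norm_num)).mp hlt
  rw [ha, hc] at hmod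
  exact pow_two_modEq_aux a c hca ha9 hmod

end thirteen

section five

variable {W : Type*} [AddCommGroup W]

/-- fixed points of an additive endomorphism of order dividing 5 on an invariant finite subgroup. -/
theorem card_modEq_fix [Finite W] (U : AddSubgroup W) (x : W →+ W) (hxU : ∀ u ∈ U, x u ∈ U)
    (hx5 : ∀ w, x (x (x (x (x w)))) = w) :
    Nat.card ↥U ≡ Nat.card ↥(U ⊓ (x - AddMonoidHom.id W).ker) [MOD 5] := by
  classical
  have : Fact (Nat.Prime 5) := ⟨by norm_num⟩
  have : Fintype ↥U := Fintype.ofFinite _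
  let f : Function.End ↥U := fun u => ⟨x u, hxU u u.2⟩
  have hf : f ^ 5 ^ 1 = 1 := by
    funext u
    apply Subtype.ext
    show x (x (x (x (x (u : W))))) = u
    exact hx5 u
  have h1 := Equiv.Perm.card_fixedPoints_modEq (p := 5) (n := 1) hf
  have hmem : ∀ w : W, w ∈ (x - AddMonoidHom.id W).ker ↔ x w = w := by
    intro w
    rw [AddMonoidHom.mem_ker, AddMonoidHom.sub_apply, AddMonoidHom.id_apply, sub_eq_zero]
  have e : ↥(Function.fixedPoints f) ≃ ↥(U ⊓ (x - AddMonoidHom.id W).ker) :=
    { toFun := fun m => ⟨(m.1 : W), by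
        refine AddSubgroup.mem_inf.mpr ⟨m.1.2, ?_⟩
        rw [hmem]
        have h3 : f m.1 = m.1 := m.2
        exact congrArg Subtype.val h3⟩
      invFun := fun c => ⟨⟨(c : W), (AddSubgroup.mem_inf.mp c.2).1⟩, by
        show f _ = _
        apply Subtype.ext
        show x (c : W) = c
        exact (hmem _).mp (AddSubgroup.mem_inf.mp c.2).2⟩
      left_inv := fun m => rfl
      right_inv := fun c => rfl }
  rw [Nat.card_eq_fintype_card]
  have h2 : Fintype.card ↥(Function.fixedPoints f)
      = Nat.card ↥(U ⊓ (x - AddMonoidHom.id W).ker) := by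
    rw [← Nat.card_eq_fintype_card]
    exact Nat.card_congr e
  rw [← h2]
  exact h1

/-- (I.4-5) An additive automorphism `x` with `x⁵ = 1` of a group `W` of order 81 commuting with
an endomorphism `b` whose fixed points form a subgroup of order 9 is the identity. -/
theorem no_five [Finite W] (hW : Nat.card W = 81) (x b : W →+ W)
    (hx5 : ∀ w, x (x (x (x (x w)))) = w) (hxb : ∀ w, x (b w) = b (x w))
    (hb : Nat.card {w : W // b w = w} = 9) : ∀ w, x w = w := by
  have hmemb : ∀ w : W, w ∈ (b - AddMonoidHom.id W).ker ↔ b w = w := by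
    intro w
    rw [AddMonoidHom.mem_ker, AddMonoidHom.sub_apply, AddMonoidHom.id_apply, sub_eq_zero]
  have hmemx : ∀ w : W, w ∈ (x - AddMonoidHom.id W).ker ↔ x w = w := by
    intro w
    rw [AddMonoidHom.mem_ker, AddMonoidHom.sub_apply, AddMonoidHom.id_apply, sub_eq_zero]
  set U1 : AddSubgroup W := (b - AddMonoidHom.id W).ker with hU1
  set U2 : AddSubgroup W := (x - AddMonoidHom.id W).ker with hU2
  have hU1card : Nat.card ↥U1 = 9 := by
    rw [← hb]
    apply Nat.card_congr
    exact
      { toFun := fun u => ⟨u.1, (hmemb _).mp u.2⟩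
        invFun := fun u => ⟨u.1, (hmemb _).mpr u.2⟩
        left_inv := fun u => rfl
        right_inv := fun u => rfl }
  have hpow3 : ∀ V : AddSubgroup W, ∃ m ≤ 4, Nat.card ↥V = 3 ^ m := by
    intro V
    have h1 : Nat.card ↥V ∣ 3 ^ 4 := by
      have := AddSubgroup.card_addSubgroup_dvd_card V
      rw [hW] at this
      exact this
    exact (Nat.dvd_prime_pow Nat.prime_three).mp h1
  -- step 1: `x` fixes `U1` pointwise
  have hU1U2 : U1 ≤ U2 := by
    have hmod := card_modEq_fix U1 x (fun u hu => by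
      rw [hmemb] at hu ⊢
      rw [← hxb, hu]) hx5
    obtain ⟨j, hj4, hj⟩ := hpow3 (U1 ⊓ U2)
    have hle : Nat.card ↥(U1 ⊓ U2) ≤ Nat.card ↥U1 :=
      AddSubgroup.card_le_of_le inf_le_left
    rw [hU1card] at hmod hle
    rw [hj] at hmod hle
    have hj2 : j = 2 := by
      unfold Nat.ModEq at hmod
      interval_cases j <;>
        first | rfl | (exfalso; norm_num at hmod; done) | (exfalso; norm_num at hle; done)
    have heq : U1 ⊓ U2 = U1 := by
      apply AddSubgroup.eq_of_le_of_card_ge inf_le_left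
      rw [hU1card, hj, hj2]; norm_num
    rw [← heq]
    exact inf_le_right
  -- step 2: `x` fixes everything
  have hmod := card_modEq_fix (⊤ : AddSubgroup W) x (fun u _ => AddSubgroup.mem_top _) hx5
  rw [top_inf_eq] at hmod
  have htop : Nat.card ↥(⊤ : AddSubgroup W) = 81 := by
    rw [← hW]
    exact Nat.card_congr AddSubgroup.topEquiv.toEquiv
  obtain ⟨k, hk4, hk⟩ := hpow3 U2
  have h9 : 9 ≤ Nat.card ↥U2 := by
    rw [← hU1card]
    exact AddSubgroup.card_le_of_le hU1U2
  rw [htop, hk] at hmod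
  rw [hk] at h9
  have hk4' : k = 4 := by
    unfold Nat.ModEq at hmod
    interval_cases k <;>
      first | rfl | (exfalso; norm_num at hmod; done) | (exfalso; norm_num at h9; done)
  have hU2top : U2 = ⊤ := by
    apply AddSubgroup.eq_top_of_card_eq
    rw [hk, hk4', hW]; norm_num
  intro w
  have : w ∈ U2 := hU2top ▸ AddSubgroup.mem_top w
  exact (hmemx w).mp this

end five

end Cfsg.Agent.Lib.Helper4.CUB
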