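import Mathlib
import Cfsg.Agent.Lib.Helper3.CUBDefs
import Cfsg.Agent.Lib.Helper9.CUBOrders
import Cfsg.Agent.Lib.Helper7.Generation2
import Cfsg.Agent.Lib.Helper4.CUBPrimes

/-! Farm CUB (S4415), units I4ord I4_13 I4_5 I4 (`R` is a 2-group): pre-versions, with the
statements of the units `decomp`, `DIM`, `FIT`, `dim_le_four` as explicit hypotheses. -/

set_option autoImplicit false

namespace Cfsg.Agent.Lib.Helper4.CUB

open Cfsg.Agent.Lib.Helper3.CUB

universe u v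

variable {G : Type u} [Group G] [Finite G] {E : Type v} [AddCommGroup E] [Module (ZMod 3) E]
  [Finite E] {ρ : Representation (ZMod 3) G E} {R : Subgroup G} {b : G} {Q : Subgroup G}

theorem not_three_dvd (c : Cfg ρ R b Q) : ¬ 3 ∣ Nat.card R := by
  intro h
  have h1 : Nat.Coprime 3 (Nat.card R) := c.cop.symm
  exact (Nat.Prime.coprime_iff_not_dvd Nat.prime_three).mp h1 h

theorem I4ord_of (c : Cfg ρ R b Q)
    (hdecomp : commSub ρ R ⊓ fixSub ρ R = ⊥ ∧ commSub ρ R ⊔ fixSub ρ R = ⊤ ∧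
      (∀ r ∈ R, ∀ v ∈ fixSub ρ R, ρ r v = v) ∧
      (∀ g : G, ∀ v ∈ commSub ρ R, ρ g v ∈ commSub ρ R) ∧
      (∀ g : G, (∀ v ∈ commSub ρ R, ρ g v = v) → g = 1) ∧
      (∀ N : Submodule (ZMod 3) E, N ≤ commSub ρ R → (∀ g : G, Inv ρ g N) →
        N = ⊥ ∨ N = commSub ρ R))
    (hdim : Module.finrank (ZMod 3) ↥(commSub ρ R) ≤ 4) :
    Nat.card R ∣ 2 ^ 9 * 5 * 13 := by
  obtain ⟨_, _, _, hinv, hfaith, _⟩ := hdecomp
  exact Cfsg.Agent.Lib.Helper9.CUB.card_dvd_of_faithful_on ρ R (commSub ρ R)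
    (fun r _ v hv => hinv r v hv) (fun r _ h => hfaith r h) hdim (not_three_dvd c)

theorem I4_13_of
    (hFIT : ∃ T : Subgroup G, T.Normal ∧ T ≤ R ∧ IsPGroup 2 T ∧
      ∀ r ∈ R, (∀ t ∈ T, r * t = t * r) → r ∈ T)
    (hord : Nat.card R ∣ 2 ^ 9 * 5 * 13) : ¬ 13 ∣ Nat.card R := by
  obtain ⟨T, hTn, hTR, hT2, hTc⟩ := hFIT
  have hn : (T.subgroupOf R).Normal := hTn.subgroupOf R
  have h2 : IsPGroup 2 ↥(T.subgroupOf R) := by
    rw [← Subgroup.comap_subtype]
    exact hT2.comap_subtype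
  have hC : Subgroup.centralizer ((T.subgroupOf R : Subgroup ↥R) : Set ↥R) ≤ T.subgroupOf R := by
    intro r hr
    rw [Subgroup.mem_subgroupOf]
    apply hTc r r.2
    intro t ht
    rw [Subgroup.mem_centralizer_iff] at hr
    have := hr ⟨t, hTR ht⟩ (by
      rw [SetLike.mem_coe, Subgroup.mem_subgroupOf]; exact ht)
    exact (congrArg Subtype.val this).symm
  exact no_thirteen (T.subgroupOf R) h2 hC hord

omit [Finite G] [Finite E] in
theorem rho_zpow_fix (ρ : Representation (ZMod 3) G E) (g : G) (w : E) (h : ρ g w = w) :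
    ∀ x ∈ Subgroup.zpowers g, ρ x w = w := by
  intro x hx
  obtain ⟨k, rfl⟩ := Subgroup.mem_zpowers_iff.mp hx
  have hinv : ρ g⁻¹ w = w := by
    have : ρ g⁻¹ (ρ g w) = w := by
      rw [← Module.End.mul_apply, ← map_mul, inv_mul_cancel, map_one]; rfl
    rw [h] at this; exact this
  have hnat : ∀ n : ℕ, ρ (g ^ n) w = w := by
    intro n
    induction n with
    | zero => simp
    | succ n ih => rw [pow_succ, map_mul, Module.End.mul_apply, h, ih]
  have hnat' : ∀ n : ℕ, ρ (g⁻¹ ^ n) w = w := by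
    intro n
    induction n with
    | zero => simp
    | succ n ih => rw [pow_succ, map_mul, Module.End.mul_apply, hinv, ih]
  cases k with
  | ofNat n => simpa using hnat n
  | negSucc n =>
    rw [zpow_negSucc, ← inv_pow]
    exact hnat' (n + 1)

theorem I4_5_of (c : Cfg ρ R b Q)
    (hdecomp : commSub ρ R ⊓ fixSub ρ R = ⊥ ∧ commSub ρ R ⊔ fixSub ρ R = ⊤ ∧
      (∀ r ∈ R, ∀ v ∈ fixSub ρ R, ρ r v = v) ∧
      (∀ g : G, ∀ v ∈ commSub ρ R, ρ g v ∈ commSub ρ R) ∧
      (∀ g : G, (∀ v ∈ commSub ρ R, ρ g v = v) → g = 1) ∧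
      (∀ N : Submodule (ZMod 3) E, N ≤ commSub ρ R → (∀ g : G, Inv ρ g N) →
        N = ⊥ ∨ N = commSub ρ R))
    (hDIM : Module.finrank (ZMod 3) ↥(commSub ρ R) =
        Module.finrank (ZMod 3) ↥(commSub ρ R ⊓ fixSub ρ Q) + 3 ∧
      Module.finrank (ZMod 3) ↥(commSub ρ R ⊓ fixSub ρ (Subgroup.zpowers b)) =
        Module.finrank (ZMod 3) ↥(commSub ρ R ⊓ fixSub ρ Q) + 1 ∧
      ∀ q ∈ Q, q ≠ 1 → Module.finrank (ZMod 3) ↥(commSub ρ R ⊓ fixSub ρ (Subgroup.zpowers q)) =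
        Module.finrank (ZMod 3) ↥(commSub ρ R ⊓ fixSub ρ Q) + 1)
    (hdim : Module.finrank (ZMod 3) ↥(commSub ρ R) ≤ 4)
    (hord : Nat.card R ∣ 2 ^ 9 * 5 * 13) : ¬ 5 ∣ Nat.card R := by
  intro h5
  have : Fact (Nat.Prime 5) := ⟨by norm_num⟩
  have : Fact (Nat.Prime 3) := ⟨Nat.prime_three⟩
  obtain ⟨hd1, hd2, hinvR, hinv, hfaith, hirr⟩ := hdecomp
  have h3 : ¬ 3 ∣ Nat.card R := not_three_dvd c
  set W := commSub ρ R with hW
  -- `dim W = 4`
  have hdim4 : Module.finrank (ZMod 3) ↥W = 4 := by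
    by_contra hne
    have hle3 : Module.finrank (ZMod 3) ↥W ≤ 3 := by omega
    have h1 := Cfsg.Agent.Lib.Helper9.CUB.card_dvd_of_faithful_on_three ρ R W
      (fun r _ v hv => hinv r v hv) (fun r _ h => hfaith r h) hle3 h3
    have h2 := h5.trans h1
    norm_num at h2
  -- a `b`-invariant Sylow 5-subgroup
  have hB3 : IsPGroup 3 ↥(Subgroup.zpowers b) :=
    IsPGroup.of_card (n := 1) (by rw [Nat.card_zpowers, c.b3]; norm_num)
  have hBN : Subgroup.zpowers b ≤ Subgroup.normalizer (R : Set G) := by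
    rw [Subgroup.normalizer_eq_top (h := c.normal)]; exact le_top
  obtain ⟨X, hX⟩ := Cfsg.Agent.Lib.Helper7.exists_invariant_sylow (p := 3) (q := 5)
    (Subgroup.zpowers b) R hB3 hBN h3
  set X0 : Subgroup G := (X : Subgroup ↥R).map R.subtype with hX0
  have hX0R : X0 ≤ R := Subgroup.map_subtype_le _
  have hX5 : Nat.card ↥X0 = 5 := by
    rw [hX0, Subgroup.card_subtype, Sylow.card_eq_multiplicity]
    have hfac : (Nat.card ↥R).factorization 5 = 1 := by
      apply le_antisymm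
      · have hne : (2 ^ 9 * 5 * 13 : ℕ) ≠ 0 := by norm_num
        have h1 := (Nat.factorization_le_iff_dvd (Nat.card_pos.ne') hne).mpr hord
        have h2 := h1 5
        have h3 : (2 ^ 9 * 5 * 13 : ℕ).factorization 5 = 1 := by
          have : (2 ^ 9 * 5 * 13 : ℕ) = 5 ^ 1 * 6656 := by norm_num
          rw [this, Nat.factorization_mul (by norm_num) (by norm_num), Nat.Prime.factorization_pow (by norm_num)]
          simp
          rw [Nat.factorization_eq_zero_of_not_dvd (by norm_num)]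
        rw [h3] at h2
        exact h2
      · exact (Nat.Prime.dvd_iff_one_le_factorization (by norm_num) (Nat.card_pos.ne')).mp h5
    rw [hfac, pow_one]
  have hbX0 : b ∈ Subgroup.normalizer (X0 : Set G) := hX (Subgroup.mem_zpowers b)
  have hbconj : ∀ m ∈ X0, b * m * b⁻¹ ∈ X0 := fun m hm =>
    (Subgroup.mem_normalizer_iff.mp hbX0 m).mp hm
  have hb3 : b ^ 3 ^ 1 = 1 := by
    rw [pow_one, ← c.b3]; exact pow_orderOf_eq_one b
  have hmod := card_modEq_card_centralizer X0 b hbconj 3 1 hb3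
  -- `b` centralizes `X0`
  have hcent : X0 ≤ Subgroup.centralizer ({b} : Set G) := by
    have hdvd : Nat.card ↥(X0 ⊓ Subgroup.centralizer ({b} : Set G)) ∣ 5 := by
      rw [← hX5]; exact Subgroup.card_dvd_of_le inf_le_left
    rw [hX5] at hmod
    have hcases := (Nat.dvd_prime (by norm_num : Nat.Prime 5)).mp hdvd
    rcases hcases with h1 | h5'
    · rw [h1] at hmod
      unfold Nat.ModEq at hmod
      norm_num at hmod
    · have : X0 ⊓ Subgroup.centralizer ({b} : Set G) = X0 :=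
        Subgroup.eq_of_le_of_card_ge inf_le_left (by rw [h5', hX5])
      rw [← this]; exact inf_le_right
  -- an element of order 5
  obtain ⟨x, hxX, hx1⟩ : ∃ x ∈ X0, x ≠ 1 := by
    by_contra hcon
    push Not at hcon
    have : X0 = ⊥ := by
      rw [Subgroup.eq_bot_iff_forall]; exact hcon
    rw [this] at hX5
    simp at hX5
  have hx5 : x ^ 5 = 1 := by
    have h1 : (⟨x, hxX⟩ : ↥X0) ^ Nat.card ↥X0 = 1 := pow_card_eq_one'
    rw [hX5] at h1
    have := congrArg Subtype.val h1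
    simpa using this
  have hxb : x * b = b * x := by
    have := hcent hxX
    rw [Subgroup.mem_centralizer_singleton_iff] at this
    exact this
  -- apply `no_five`
  have hWcard : Nat.card ↥W = 81 := by
    rw [Module.natCard_eq_pow_finrank (K := ZMod 3), hdim4, Nat.card_zmod]
    norm_num
  let x' : ↥W →+ ↥W := ((ρ x).restrict (hinv x)).toAddMonoidHom
  let b' : ↥W →+ ↥W := ((ρ b).restrict (hinv b)).toAddMonoidHom
  have hx'v : ∀ w : ↥W, ((x' w : ↥W) : E) = ρ x w := fun w => rfl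
  have hb'v : ∀ w : ↥W, ((b' w : ↥W) : E) = ρ b w := fun w => rfl
  have hx5' : ∀ w : ↥W, x' (x' (x' (x' (x' w)))) = w := by
    intro w
    apply Subtype.ext
    rw [hx'v, hx'v, hx'v, hx'v, hx'v]
    have : ρ (x ^ 5) (w : E) = w := by rw [hx5, map_one]; rfl
    rw [show (5 : ℕ) = 1 + 1 + 1 + 1 + 1 from rfl] at this
    simp only [pow_succ, pow_zero, one_mul, map_mul, Module.End.mul_apply] at this
    exact this
  have hxb' : ∀ w : ↥W, x' (b' w) = b' (x' w) := by
    intro w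
    apply Subtype.ext
    rw [hx'v, hb'v, hb'v, hx'v, ← Module.End.mul_apply, ← map_mul, hxb, map_mul,
      Module.End.mul_apply]
  have hfixcard : Nat.card {w : ↥W // b' w = w} = 9 := by
    obtain ⟨hD1, hD2, _⟩ := hDIM
    have hd : Module.finrank (ZMod 3) ↥(commSub ρ R ⊓ fixSub ρ (Subgroup.zpowers b)) = 2 := by
      rw [hD2]
      have h4 : Module.finrank (ZMod 3) ↥(commSub ρ R) = 4 := hdim4
      rw [h4] at hD1
      omega
    have hcard2 : Nat.card ↥(commSub ρ R ⊓ fixSub ρ (Subgroup.zpowers b)) = 9 := by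
      rw [Module.natCard_eq_pow_finrank (K := ZMod 3), hd, Nat.card_zmod]
      norm_num
    rw [← hcard2]
    apply Nat.card_congr
    exact
      { toFun := fun w => ⟨(w.1 : E), by
          refine Submodule.mem_inf.mpr ⟨w.1.2, ?_⟩
          rw [mem_fixSub]
          apply rho_zpow_fix
          have h := congrArg Subtype.val w.2
          rw [hb'v] at h
          exact h⟩
        invFun := fun u => ⟨⟨(u : E), (Submodule.mem_inf.mp u.2).1⟩, by
          apply Subtype.ext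
          rw [hb'v]
          exact (mem_fixSub.mp (Submodule.mem_inf.mp u.2).2) b (Subgroup.mem_zpowers b)⟩
        left_inv := fun w => rfl
        right_inv := fun u => rfl }
  have hall := no_five hWcard x' b' hx5' hxb' hfixcard
  apply hx1
  apply hfaith x
  intro v hv
  have := hall ⟨v, hv⟩
  have h2 := congrArg Subtype.val this
  rw [hx'v] at h2
  exact h2

theorem I4_of (c : Cfg ρ R b Q)
    (hdecomp : commSub ρ R ⊓ fixSub ρ R = ⊥ ∧ commSub ρ R ⊔ fixSub ρ R = ⊤ ∧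
      (∀ r ∈ R, ∀ v ∈ fixSub ρ R, ρ r v = v) ∧
      (∀ g : G, ∀ v ∈ commSub ρ R, ρ g v ∈ commSub ρ R) ∧
      (∀ g : G, (∀ v ∈ commSub ρ R, ρ g v = v) → g = 1) ∧
      (∀ N : Submodule (ZMod 3) E, N ≤ commSub ρ R → (∀ g : G, Inv ρ g N) →
        N = ⊥ ∨ N = commSub ρ R))
    (hDIM : Module.finrank (ZMod 3) ↥(commSub ρ R) =
        Module.finrank (ZMod 3) ↥(commSub ρ R ⊓ fixSub ρ Q) + 3 ∧
      Module.finrank (ZMod 3) ↥(commSub ρ R ⊓ fixSub ρ (Subgroup.zpowers b)) =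
        Module.finrank (ZMod 3) ↥(commSub ρ R ⊓ fixSub ρ Q) + 1 ∧
      ∀ q ∈ Q, q ≠ 1 → Module.finrank (ZMod 3) ↥(commSub ρ R ⊓ fixSub ρ (Subgroup.zpowers q)) =
        Module.finrank (ZMod 3) ↥(commSub ρ R ⊓ fixSub ρ Q) + 1)
    (hFIT : ∃ T : Subgroup G, T.Normal ∧ T ≤ R ∧ IsPGroup 2 T ∧
      ∀ r ∈ R, (∀ t ∈ T, r * t = t * r) → r ∈ T)
    (hdimle : Module.finrank (ZMod 3) ↥(commSub ρ R) ≤ 4) : IsPGroup 2 R := by
  have hdim := hdimle
  have hord := I4ord_of c hdecomp hdim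
  have h13 := I4_13_of hFIT hord
  have h5 := I4_5_of c hdecomp hDIM hdim hord
  have h1 : Nat.card R ∣ 2 ^ 9 * 5 := by
    have hc : Nat.Coprime (Nat.card R) 13 :=
      ((Nat.Prime.coprime_iff_not_dvd (by norm_num : Nat.Prime 13)).mpr h13).symm
    exact hc.dvd_of_dvd_mul_right hord
  have h2 : Nat.card R ∣ 2 ^ 9 := by
    have hc : Nat.Coprime (Nat.card R) 5 :=
      ((Nat.Prime.coprime_iff_not_dvd (by norm_num : Nat.Prime 5)).mpr h5).symm
    exact hc.dvd_of_dvd_mul_right h1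
  obtain ⟨k, _, hk⟩ := (Nat.dvd_prime_pow Nat.prime_two).mp h2
  exact IsPGroup.of_card hk

end Cfsg.Agent.Lib.Helper4.CUB
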