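import Mathlib

/-! Farm CUB (S4415), unit SUNFLOWER: a family of 3-sets pairwise meeting in at least two points
lies in a 4-set or has a common 2-subset; corollary for translates under a transitive action. -/

set_option autoImplicit false

namespace Cfsg.Agent.Lib.Helper4.CUB

variable {α : Type*} [DecidableEq α]

/-- A 3-set `w` meeting the 3-sets `s`, `t` in at least two points each, and not contained in
`s ∪ t`, contains `s ∩ t`, and `w ∩ (s ∪ t) = s ∩ t`; here `|s ∩ t| = 2`. -/
theorem inter_eq_of_not_subset {s t w : Finset α} (hw : w.card = 3)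
    (hp : (s ∩ t).card = 2) (hws : 2 ≤ (w ∩ s).card) (hwt : 2 ≤ (w ∩ t).card)
    (hnu : ¬ w ⊆ s ∪ t) : w ∩ (s ∪ t) = s ∩ t := by
  obtain ⟨x, hxw, hxu⟩ := Finset.not_subset.mp hnu
  have hxs : x ∉ s := fun h => hxu (Finset.mem_union_left _ h)
  have hxt : x ∉ t := fun h => hxu (Finset.mem_union_right _ h)
  have hcard : (w.erase x).card = 2 := by rw [Finset.card_erase_of_mem hxw, hw]
  have h1 : w ∩ s = w.erase x := by
    apply Finset.eq_of_subset_of_card_le
    · rw [Finset.subset_erase]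
      exact ⟨Finset.inter_subset_left, fun h => hxs (Finset.mem_inter.mp h).2⟩
    · rw [hcard]; exact hws
  have h2 : w ∩ t = w.erase x := by
    apply Finset.eq_of_subset_of_card_le
    · rw [Finset.subset_erase]
      exact ⟨Finset.inter_subset_left, fun h => hxt (Finset.mem_inter.mp h).2⟩
    · rw [hcard]; exact hwt
  have h3 : w.erase x = s ∩ t := by
    apply Finset.eq_of_subset_of_card_le
    · intro y hy
      have hy1 : y ∈ w ∩ s := h1 ▸ hy
      have hy2 : y ∈ w ∩ t := h2 ▸ hy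
      exact Finset.mem_inter.mpr ⟨(Finset.mem_inter.mp hy1).2, (Finset.mem_inter.mp hy2).2⟩
    · rw [hcard, hp]
  rw [← h3]
  ext y
  constructor
  · intro hy
    obtain ⟨hyw, hyu⟩ := Finset.mem_inter.mp hy
    rw [Finset.mem_erase]
    refine ⟨?_, hyw⟩
    rintro rfl
    exact hxu hyu
  · intro hy
    have hyw : y ∈ w := Finset.mem_of_mem_erase hy
    have hyst : y ∈ s ∩ t := h3 ▸ hy
    exact Finset.mem_inter.mpr ⟨hyw, Finset.mem_union_left _ (Finset.mem_inter.mp hyst).1⟩

/-- SUNFLOWER. -/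
theorem sunflower (F : Set (Finset α)) (h3 : ∀ s ∈ F, s.card = 3)
    (h2 : ∀ s ∈ F, ∀ t ∈ F, 2 ≤ (s ∩ t).card) :
    (∃ u : Finset α, u.card ≤ 4 ∧ ∀ s ∈ F, s ⊆ u) ∨
      (∃ p : Finset α, p.card = 2 ∧ ∀ s ∈ F, p ⊆ s) := by
  by_cases hne : ∃ s ∈ F, ∃ t ∈ F, s ≠ t
  · obtain ⟨s, hs, t, ht, hst⟩ := hne
    have hs3 := h3 s hs
    have ht3 := h3 t ht
    have hp : (s ∩ t).card = 2 := by
      have hge := h2 s hs t ht
      have hle : (s ∩ t).card ≤ 3 := hs3 ▸ Finset.card_le_card Finset.inter_subset_left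
      by_contra hne2
      have h33 : (s ∩ t).card = 3 := by omega
      have e1 : s ∩ t = s :=
        Finset.eq_of_subset_of_card_le Finset.inter_subset_left (by rw [h33, hs3])
      have e2 : s ∩ t = t :=
        Finset.eq_of_subset_of_card_le Finset.inter_subset_right (by rw [h33, ht3])
      exact hst (e1.symm.trans e2)
    have hu : (s ∪ t).card = 4 := by
      have := Finset.card_union_add_card_inter s t
      omega
    by_cases hall : ∀ w ∈ F, w ⊆ s ∪ t
    · left
      exact ⟨s ∪ t, by omega, hall⟩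
    · right
      push Not at hall
      obtain ⟨w1, hw1, hw1u⟩ := hall
      have e1 : w1 ∩ (s ∪ t) = s ∩ t :=
        inter_eq_of_not_subset (h3 w1 hw1) hp (h2 w1 hw1 s hs) (h2 w1 hw1 t ht) hw1u
      refine ⟨s ∩ t, hp, ?_⟩
      intro w2 hw2
      by_cases hw2u : w2 ⊆ s ∪ t
      · -- `w1 ∩ w2 ⊆ (s ∩ t) ∩ w2`
        have hsub : w1 ∩ w2 ⊆ (s ∩ t) ∩ w2 := by
          intro y hy
          obtain ⟨hy1, hy2⟩ := Finset.mem_inter.mp hy
          have : y ∈ w1 ∩ (s ∪ t) := Finset.mem_inter.mpr ⟨hy1, hw2u hy2⟩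
          rw [e1] at this
          exact Finset.mem_inter.mpr ⟨this, hy2⟩
        have hc : 2 ≤ ((s ∩ t) ∩ w2).card := (h2 w1 hw1 w2 hw2).trans (Finset.card_le_card hsub)
        have e2 : (s ∩ t) ∩ w2 = s ∩ t :=
          Finset.eq_of_subset_of_card_le Finset.inter_subset_left (by rw [hp]; exact hc)
        rw [← e2]
        exact Finset.inter_subset_right
      · have e2 : w2 ∩ (s ∪ t) = s ∩ t :=
          inter_eq_of_not_subset (h3 w2 hw2) hp (h2 w2 hw2 s hs) (h2 w2 hw2 t ht) hw2u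
        rw [← e2]
        exact Finset.inter_subset_left
  · push Not at hne
    left
    by_cases hF : ∃ s, s ∈ F
    · obtain ⟨s, hs⟩ := hF
      refine ⟨s, by rw [h3 s hs]; norm_num, ?_⟩
      intro t ht
      rw [hne t ht s hs]
    · push Not at hF
      exact ⟨∅, by simp, fun s hs => absurd hs (hF s)⟩

/-- Corollary: if `G` acts transitively on a finite set `Ω` and a 3-subset `D` meets each of its
translates in at least two points, then `|Ω| ≤ 4`. -/
theorem card_le_four_of_translates {G Ω : Type*} [Group G] [MulAction G Ω] [Fintype Ω]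
    [DecidableEq Ω] (htr : MulAction.IsPretransitive G Ω) (D : Finset Ω) (hD : D.card = 3)
    (h : ∀ g : G, 2 ≤ (D ∩ D.image (fun w => g • w)).card) : Fintype.card Ω ≤ 4 := by
  have hinj : ∀ g : G, Function.Injective (fun w : Ω => g • w) := fun g => MulAction.injective g
  let F : Set (Finset Ω) := {s | ∃ g : G, s = D.image (fun w => g • w)}
  have h3 : ∀ s ∈ F, s.card = 3 := by
    rintro s ⟨g, rfl⟩
    rw [Finset.card_image_of_injective _ (hinj g), hD]
  have h2 : ∀ s ∈ F, ∀ t ∈ F, 2 ≤ (s ∩ t).card := by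
    rintro s ⟨g1, rfl⟩ t ⟨g2, rfl⟩
    have e : D.image (fun w => g1 • w) ∩ D.image (fun w => g2 • w)
        = (D ∩ D.image (fun w => (g1⁻¹ * g2) • w)).image (fun w => g1 • w) := by
      ext y
      simp only [Finset.mem_inter, Finset.mem_image]
      constructor
      · rintro ⟨⟨a, ha, rfl⟩, ⟨c, hc, hc2⟩⟩
        refine ⟨a, ⟨ha, c, hc, ?_⟩, rfl⟩
        rw [mul_smul, hc2, inv_smul_smul]
      · rintro ⟨a, ⟨ha, c, hc, rfl⟩, rfl⟩
        refine ⟨⟨_, ha, rfl⟩, c, hc, ?_⟩
        rw [mul_smul, smul_inv_smul]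
    rw [e, Finset.card_image_of_injective _ (hinj g1)]
    exact h _
  have hDne : D.Nonempty := by
    rw [← Finset.card_pos, hD]; norm_num
  obtain ⟨d0, hd0⟩ := hDne
  rcases sunflower F h3 h2 with ⟨u, hu4, hu⟩ | ⟨p, hp2, hp⟩
  · have : (Finset.univ : Finset Ω) ⊆ u := by
      intro ω _
      obtain ⟨g, hg⟩ := htr.exists_smul_eq d0 ω
      apply hu (D.image (fun w => g • w)) ⟨g, rfl⟩
      exact Finset.mem_image.mpr ⟨d0, hd0, hg⟩
    have := Finset.card_le_card this
    rw [Finset.card_univ] at this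
    omega
  · have hpne : p.Nonempty := by
      rw [← Finset.card_pos, hp2]; norm_num
    obtain ⟨ω0, hω0⟩ := hpne
    have : (Finset.univ : Finset Ω) ⊆ D := by
      intro ω _
      obtain ⟨g, hg⟩ := htr.exists_smul_eq ω0 ω
      have h1 : ω0 ∈ D.image (fun w => g⁻¹ • w) := hp _ ⟨g⁻¹, rfl⟩ hω0
      obtain ⟨a, ha, ha2⟩ := Finset.mem_image.mp h1
      have : ω = a := by
        rw [← hg, ← ha2]
        simp
      rw [this]; exact ha
    have := Finset.card_le_card this
    rw [Finset.card_univ, hD] at this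
    omega

end Cfsg.Agent.Lib.Helper4.CUB
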