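import Mathlib
import Cfsg.Prelude.Def_Transfer
import Cfsg.Agent.Lib.Helper7.LY1

/-! Farm CUB (S4415), unit FIN2cd, pure group theory part.

Abstract setting: a finite group `X` (playing `R`), an endomorphism `β` (conjugation by `b`), a
central involution `z`, a four-group `{1, q₁, q₂, q₃}` cycled by `β` with `[X, qᵢ] ≤ {1, z}`, the
centralizer of the four-group being the eight listed elements, and some element not centralizing
the four-group.  Then `X` is extraspecial of order `32` and the centralizer of the four-group is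
elementary abelian of order `8`. -/

set_option autoImplicit false
set_option linter.unusedSectionVars false

namespace Cfsg.Agent.Lib.Helper4.CUB

section Fin2Grp

universe u

variable {X : Type u} [Group X]

/-- the abstract configuration of FIN2cd -/
structure F2 (β : X →* X) (z q₁ q₂ q₃ : X) : Prop where
  z1 : z ≠ 1
  z2 : z * z = 1
  zc : ∀ g : X, z * g = g * z
  βz : β z = z
  q1 : q₁ ≠ 1
  q1s : q₁ * q₁ = 1
  mul : q₁ * q₂ = q₃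
  h12 : β q₁ = q₂
  h23 : β q₂ = q₃
  h31 : β q₃ = q₁
  rq1 : ∀ r : X, r * q₁ * r⁻¹ = q₁ ∨ r * q₁ * r⁻¹ = z * q₁
  rq2 : ∀ r : X, r * q₂ * r⁻¹ = q₂ ∨ r * q₂ * r⁻¹ = z * q₂
  list : ∀ r : X, r * q₁ = q₁ * r → r * q₂ = q₂ * r →
    r = 1 ∨ r = z ∨ r = q₁ ∨ r = q₂ ∨ r = q₃ ∨ r = z * q₁ ∨ r = z * q₂ ∨ r = z * q₃

theorem inv_eq_self_of_mul_self {a : X} (h : a * a = 1) : a⁻¹ = a :=
  inv_eq_of_mul_eq_one_right h

/-- the commutator `r q r⁻¹ q⁻¹` as an endomorphism, when all these commutators are central -/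
def commHom (q : X)
    (h : ∀ r g : X, (r * q * r⁻¹ * q⁻¹) * g = g * (r * q * r⁻¹ * q⁻¹)) : X →* X :=
  MonoidHom.mk' (fun r => r * q * r⁻¹ * q⁻¹) (by
    intro r s
    calc r * s * q * (r * s)⁻¹ * q⁻¹
        = r * ((s * q * s⁻¹ * q⁻¹) * (q * r⁻¹ * q⁻¹)) := by group
      _ = r * ((q * r⁻¹ * q⁻¹) * (s * q * s⁻¹ * q⁻¹)) := by rw [h s]
      _ = (r * q * r⁻¹ * q⁻¹) * (s * q * s⁻¹ * q⁻¹) := by group)

theorem commHom_apply (q : X)
    (h : ∀ r g : X, (r * q * r⁻¹ * q⁻¹) * g = g * (r * q * r⁻¹ * q⁻¹)) (r : X) :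
    commHom q h r = r * q * r⁻¹ * q⁻¹ := rfl

namespace F2

variable {β : X →* X} {z q₁ q₂ q₃ : X}

theorem zinv (d : F2 β z q₁ q₂ q₃) : z⁻¹ = z := inv_eq_self_of_mul_self d.z2

theorem q2s (d : F2 β z q₁ q₂ q₃) : q₂ * q₂ = 1 := by
  rw [← d.h12, ← map_mul, d.q1s, map_one]

theorem q3s (d : F2 β z q₁ q₂ q₃) : q₃ * q₃ = 1 := by
  rw [← d.h23, ← map_mul, d.q2s, map_one]

theorem q1inv (d : F2 β z q₁ q₂ q₃) : q₁⁻¹ = q₁ := inv_eq_self_of_mul_self d.q1s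
theorem q2inv (d : F2 β z q₁ q₂ q₃) : q₂⁻¹ = q₂ := inv_eq_self_of_mul_self d.q2s
theorem q3inv (d : F2 β z q₁ q₂ q₃) : q₃⁻¹ = q₃ := inv_eq_self_of_mul_self d.q3s

theorem comm12 (d : F2 β z q₁ q₂ q₃) : q₁ * q₂ = q₂ * q₁ := by
  have h := d.q3inv
  rw [← d.mul, mul_inv_rev, d.q1inv, d.q2inv] at h
  exact h.symm

theorem q23 (d : F2 β z q₁ q₂ q₃) : q₂ * q₃ = q₁ := by
  rw [← d.mul, d.comm12, ← mul_assoc, d.q2s, one_mul]

theorem q31 (d : F2 β z q₁ q₂ q₃) : q₃ * q₁ = q₂ := by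
  rw [← d.mul, d.comm12, mul_assoc, d.q1s, mul_one]

theorem q2ne (d : F2 β z q₁ q₂ q₃) : q₂ ≠ 1 := by
  intro h
  apply d.q1
  rw [← d.h31, ← d.h23, h, map_one, map_one]

theorem q3ne (d : F2 β z q₁ q₂ q₃) : q₃ ≠ 1 := by
  intro h
  apply d.q1
  rw [← d.h31, h, map_one]

theorem ne12 (d : F2 β z q₁ q₂ q₃) : q₂ ≠ q₁ := by
  intro h
  apply d.q3ne
  rw [← d.mul, h, d.q1s]

theorem ne23 (d : F2 β z q₁ q₂ q₃) : q₃ ≠ q₂ := by
  intro h
  apply d.q1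
  have h1 := d.mul
  rw [h] at h1
  exact mul_right_cancel (h1.trans (one_mul _).symm)

theorem ne31 (d : F2 β z q₁ q₂ q₃) : q₁ ≠ q₃ := by
  intro h
  apply d.q2ne
  have h1 := d.mul
  rw [← h] at h1
  exact mul_left_cancel (h1.trans (mul_one _).symm)

theorem zne1 (d : F2 β z q₁ q₂ q₃) : z ≠ q₁ := by
  intro h
  apply d.ne12
  rw [← d.h12, ← h, d.βz]

theorem zne2 (d : F2 β z q₁ q₂ q₃) : z ≠ q₂ := by
  intro h
  apply d.ne23
  rw [← d.h23, ← h, d.βz]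

theorem zne3 (d : F2 β z q₁ q₂ q₃) : z ≠ q₃ := by
  intro h
  apply d.ne31
  rw [← d.h31, ← h, d.βz]

/-- `β qᵢ ≠ z qᵢ` -/
theorem ne12z (d : F2 β z q₁ q₂ q₃) : q₂ ≠ z * q₁ := by
  intro h
  apply d.zne3
  rw [← d.mul, d.comm12, h, mul_assoc, d.q1s, mul_one]

theorem ne23z (d : F2 β z q₁ q₂ q₃) : q₃ ≠ z * q₂ := by
  intro h
  apply d.zne1
  have h1 := d.q23
  rw [h, ← mul_assoc, ← d.zc, mul_assoc, d.q2s, mul_one] at h1
  exact h1

theorem ne31z (d : F2 β z q₁ q₂ q₃) : q₁ ≠ z * q₃ := by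
  intro h
  apply d.zne2
  have h1 := d.q31
  rw [h, ← mul_assoc, ← d.zc, mul_assoc, d.q3s, mul_one] at h1
  exact h1

/-- the commutators `r qᵢ r⁻¹ qᵢ⁻¹` lie in `{1, z}` -/
theorem c1_mem (d : F2 β z q₁ q₂ q₃) (r : X) :
    r * q₁ * r⁻¹ * q₁⁻¹ = 1 ∨ r * q₁ * r⁻¹ * q₁⁻¹ = z := by
  rcases d.rq1 r with h | h
  · left; rw [h, mul_inv_cancel]
  · right; rw [h, mul_assoc, mul_inv_cancel, mul_one]

theorem c2_mem (d : F2 β z q₁ q₂ q₃) (r : X) :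
    r * q₂ * r⁻¹ * q₂⁻¹ = 1 ∨ r * q₂ * r⁻¹ * q₂⁻¹ = z := by
  rcases d.rq2 r with h | h
  · left; rw [h, mul_inv_cancel]
  · right; rw [h, mul_assoc, mul_inv_cancel, mul_one]

theorem c1_central (d : F2 β z q₁ q₂ q₃) (r g : X) :
    (r * q₁ * r⁻¹ * q₁⁻¹) * g = g * (r * q₁ * r⁻¹ * q₁⁻¹) := by
  rcases d.c1_mem r with h | h
  · rw [h, one_mul, mul_one]
  · rw [h, d.zc]

theorem c2_central (d : F2 β z q₁ q₂ q₃) (r g : X) :
    (r * q₂ * r⁻¹ * q₂⁻¹) * g = g * (r * q₂ * r⁻¹ * q₂⁻¹) := by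
  rcases d.c2_mem r with h | h
  · rw [h, one_mul, mul_one]
  · rw [h, d.zc]

/-- `ψ₁ r = [r, q₁]` -/
def ψ₁ (d : F2 β z q₁ q₂ q₃) : X →* X := commHom q₁ d.c1_central

/-- `ψ₂ r = [r, q₂]` -/
def ψ₂ (d : F2 β z q₁ q₂ q₃) : X →* X := commHom q₂ d.c2_central

theorem ψ₁_apply (d : F2 β z q₁ q₂ q₃) (r : X) : d.ψ₁ r = r * q₁ * r⁻¹ * q₁⁻¹ := rfl
theorem ψ₂_apply (d : F2 β z q₁ q₂ q₃) (r : X) : d.ψ₂ r = r * q₂ * r⁻¹ * q₂⁻¹ := rfl

theorem ψ₁_mem (d : F2 β z q₁ q₂ q₃) (r : X) : d.ψ₁ r = 1 ∨ d.ψ₁ r = z := d.c1_mem r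
theorem ψ₂_mem (d : F2 β z q₁ q₂ q₃) (r : X) : d.ψ₂ r = 1 ∨ d.ψ₂ r = z := d.c2_mem r

theorem conj1 (d : F2 β z q₁ q₂ q₃) (r : X) : r * q₁ * r⁻¹ = d.ψ₁ r * q₁ := by
  rw [ψ₁_apply, inv_mul_cancel_right]

theorem conj2 (d : F2 β z q₁ q₂ q₃) (r : X) : r * q₂ * r⁻¹ = d.ψ₂ r * q₂ := by
  rw [ψ₂_apply, inv_mul_cancel_right]

theorem ψ₁_central (d : F2 β z q₁ q₂ q₃) (r g : X) : d.ψ₁ r * g = g * d.ψ₁ r := d.c1_central r g
theorem ψ₂_central (d : F2 β z q₁ q₂ q₃) (r g : X) : d.ψ₂ r * g = g * d.ψ₂ r := d.c2_central r g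

theorem ψ₁_sq (d : F2 β z q₁ q₂ q₃) (r : X) : d.ψ₁ r * d.ψ₁ r = 1 := by
  rcases d.ψ₁_mem r with h | h <;> rw [h]
  · rw [one_mul]
  · exact d.z2

theorem ψ₂_sq (d : F2 β z q₁ q₂ q₃) (r : X) : d.ψ₂ r * d.ψ₂ r = 1 := by
  rcases d.ψ₂_mem r with h | h <;> rw [h]
  · rw [one_mul]
  · exact d.z2

theorem conj3 (d : F2 β z q₁ q₂ q₃) (r : X) : r * q₃ * r⁻¹ = d.ψ₁ r * d.ψ₂ r * q₃ := by
  calc r * q₃ * r⁻¹ = (r * q₁ * r⁻¹) * (r * q₂ * r⁻¹) := by rw [← d.mul]; group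
    _ = d.ψ₁ r * q₁ * (d.ψ₂ r * q₂) := by rw [d.conj1, d.conj2]
    _ = d.ψ₁ r * (q₁ * d.ψ₂ r) * q₂ := by simp only [mul_assoc]
    _ = d.ψ₁ r * (d.ψ₂ r * q₁) * q₂ := by rw [d.ψ₂_central]
    _ = d.ψ₁ r * d.ψ₂ r * q₃ := by simp only [mul_assoc, d.mul]

theorem β_fix (d : F2 β z q₁ q₂ q₃) {t : X} (h : t = 1 ∨ t = z) : β t = t := by
  rcases h with h | h <;> rw [h]
  · exact map_one β
  · exact d.βz

/-- `ψ₂ (β r) = ψ₁ r` -/
theorem ψ₂_β (d : F2 β z q₁ q₂ q₃) (r : X) : d.ψ₂ (β r) = d.ψ₁ r := by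
  have h := d.β_fix (d.ψ₁_mem r)
  rw [← h, ψ₁_apply, ψ₂_apply, map_mul, map_mul, map_mul, map_inv, map_inv, d.h12]

/-- `ψ₁ (β r) = ψ₁ r * ψ₂ r` -/
theorem ψ₁_β (d : F2 β z q₁ q₂ q₃) (r : X) : d.ψ₁ (β r) = d.ψ₁ r * d.ψ₂ r := by
  -- apply `β` to `r q₃ r⁻¹ = ψ₁ r ψ₂ r q₃`
  have h := congrArg β (d.conj3 r)
  rw [map_mul, map_mul, map_mul, map_mul, map_inv, d.h31, d.β_fix (d.ψ₁_mem r),
    d.β_fix (d.ψ₂_mem r)] at h
  rw [ψ₁_apply (r := β r), h, mul_inv_cancel_right]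

end F2

/-- `g h g⁻¹ h⁻¹ ∈ {1, z}` -/
def CZ (z g h : X) : Prop := g * h * g⁻¹ * h⁻¹ = 1 ∨ g * h * g⁻¹ * h⁻¹ = z

namespace F2

variable {β : X →* X} {z q₁ q₂ q₃ : X}

/-- `A = C_X(Q)` -/
def A (d : F2 β z q₁ q₂ q₃) : Subgroup X := d.ψ₁.ker ⊓ d.ψ₂.ker

theorem mem_A (d : F2 β z q₁ q₂ q₃) {r : X} : r ∈ d.A ↔ d.ψ₁ r = 1 ∧ d.ψ₂ r = 1 := by
  rw [A, Subgroup.mem_inf, MonoidHom.mem_ker, MonoidHom.mem_ker]

theorem ψ₁_eq_one_iff (d : F2 β z q₁ q₂ q₃) (r : X) : d.ψ₁ r = 1 ↔ r * q₁ = q₁ * r := by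
  rw [ψ₁_apply]
  constructor
  · intro h
    exact mul_inv_eq_iff_eq_mul.mp (mul_inv_eq_one.mp h)
  · intro h
    rw [h]; group

theorem ψ₂_eq_one_iff (d : F2 β z q₁ q₂ q₃) (r : X) : d.ψ₂ r = 1 ↔ r * q₂ = q₂ * r := by
  rw [ψ₂_apply]
  constructor
  · intro h
    exact mul_inv_eq_iff_eq_mul.mp (mul_inv_eq_one.mp h)
  · intro h
    rw [h]; group

theorem list' (d : F2 β z q₁ q₂ q₃) {r : X} (hr : r ∈ d.A) :
    r = 1 ∨ r = z ∨ r = q₁ ∨ r = q₂ ∨ r = q₃ ∨ r = z * q₁ ∨ r = z * q₂ ∨ r = z * q₃ :=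
  d.list r ((d.ψ₁_eq_one_iff r).mp (d.mem_A.mp hr).1) ((d.ψ₂_eq_one_iff r).mp (d.mem_A.mp hr).2)

theorem zq_sq (d : F2 β z q₁ q₂ q₃) {q : X} (hq : q * q = 1) : z * q * (z * q) = 1 := by
  calc z * q * (z * q) = z * (q * z) * q := by simp only [mul_assoc]
    _ = z * (z * q) * q := by rw [← d.zc]
    _ = (z * z) * (q * q) := by simp only [mul_assoc]
    _ = 1 := by rw [d.z2, hq, one_mul]

theorem A_sq (d : F2 β z q₁ q₂ q₃) {a : X} (ha : a ∈ d.A) : a * a = 1 := by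
  rcases d.list' ha with h | h | h | h | h | h | h | h <;> rw [h]
  · rw [one_mul]
  · exact d.z2
  · exact d.q1s
  · exact d.q2s
  · exact d.q3s
  · exact d.zq_sq d.q1s
  · exact d.zq_sq d.q2s
  · exact d.zq_sq d.q3s

theorem A_comm (d : F2 β z q₁ q₂ q₃) {a a' : X} (ha : a ∈ d.A) (ha' : a' ∈ d.A) :
    a * a' = a' * a := by
  have c1 : Commute a q₁ := (d.ψ₁_eq_one_iff a).mp (d.mem_A.mp ha).1
  have c2 : Commute a q₂ := (d.ψ₂_eq_one_iff a).mp (d.mem_A.mp ha).2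
  have cz : Commute a z := (d.zc a).symm
  have c3 : Commute a q₃ := by
    have := c1.mul_right c2
    rwa [d.mul] at this
  rcases d.list' ha' with h | h | h | h | h | h | h | h <;> rw [h]
  · exact Commute.one_right a
  · exact cz
  · exact c1
  · exact c2
  · exact c3
  · exact cz.mul_right c1
  · exact cz.mul_right c2
  · exact cz.mul_right c3

theorem z_mem_A (d : F2 β z q₁ q₂ q₃) : z ∈ d.A :=
  d.mem_A.mpr ⟨(d.ψ₁_eq_one_iff z).mpr (d.zc q₁), (d.ψ₂_eq_one_iff z).mpr (d.zc q₂)⟩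

theorem q1_mem_A (d : F2 β z q₁ q₂ q₃) : q₁ ∈ d.A :=
  d.mem_A.mpr ⟨(d.ψ₁_eq_one_iff q₁).mpr rfl, (d.ψ₂_eq_one_iff q₁).mpr d.comm12⟩

theorem q2_mem_A (d : F2 β z q₁ q₂ q₃) : q₂ ∈ d.A :=
  d.mem_A.mpr ⟨(d.ψ₁_eq_one_iff q₂).mpr d.comm12.symm, (d.ψ₂_eq_one_iff q₂).mpr rfl⟩

theorem q3_mem_A (d : F2 β z q₁ q₂ q₃) : q₃ ∈ d.A := by
  have h := d.A.mul_mem d.q1_mem_A d.q2_mem_A
  rwa [d.mul] at h

theorem zconj (d : F2 β z q₁ q₂ q₃) (g : X) : g * z * g⁻¹ = z := by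
  rw [← d.zc, mul_inv_cancel_right]

theorem inZ_mul (d : F2 β z q₁ q₂ q₃) {s t : X} (hs : s = 1 ∨ s = z) (ht : t = 1 ∨ t = z) :
    s * t = 1 ∨ s * t = z := by
  rcases hs with hs | hs <;> rcases ht with ht | ht <;> rw [hs, ht]
  · left; rw [one_mul]
  · right; rw [one_mul]
  · right; rw [mul_one]
  · left; exact d.z2

theorem cz_mul (d : F2 β z q₁ q₂ q₃) {g h h' : X} (h1 : CZ z g h) (h2 : CZ z g h') :
    CZ z g (h * h') := by
  have e : g * (h * h') * g⁻¹ * (h * h')⁻¹ =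
      (g * h * g⁻¹ * h⁻¹) * (h * (g * h' * g⁻¹ * h'⁻¹) * h⁻¹) := by group
  have e2 : h * (g * h' * g⁻¹ * h'⁻¹) * h⁻¹ = g * h' * g⁻¹ * h'⁻¹ := by
    rcases h2 with h2 | h2 <;> rw [h2]
    · rw [mul_one, mul_inv_cancel]
    · exact d.zconj h
  unfold CZ
  rw [e, e2]
  exact d.inZ_mul h1 h2

theorem cz_symm (d : F2 β z q₁ q₂ q₃) {g h : X} (h1 : CZ z g h) : CZ z h g := by
  have e : h * g * h⁻¹ * g⁻¹ = (g * h * g⁻¹ * h⁻¹)⁻¹ := by group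
  unfold CZ
  rw [e]
  rcases h1 with h1 | h1 <;> rw [h1]
  · left; exact inv_one
  · right; exact d.zinv

theorem cz_self (g : X) : CZ z g g := by
  left; group

theorem cz_one (g : X) : CZ z g 1 := by
  left; group

theorem cz_one_left (g : X) : CZ z 1 g := by
  left; group

theorem cz_z (d : F2 β z q₁ q₂ q₃) (g : X) : CZ z g z := by
  left
  rw [d.zconj, mul_inv_cancel]

theorem cz_A (d : F2 β z q₁ q₂ q₃) (g : X) {a : X} (ha : a ∈ d.A) : CZ z g a := by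
  have h3 : CZ z g q₃ := by
    have := d.cz_mul (d.c1_mem g) (d.c2_mem g)
    rwa [d.mul] at this
  rcases d.list' ha with h | h | h | h | h | h | h | h <;> rw [h]
  · exact cz_one g
  · exact d.cz_z g
  · exact d.c1_mem g
  · exact d.c2_mem g
  · exact h3
  · exact d.cz_mul (d.cz_z g) (d.c1_mem g)
  · exact d.cz_mul (d.cz_z g) (d.c2_mem g)
  · exact d.cz_mul (d.cz_z g) h3

theorem cz_β (d : F2 β z q₁ q₂ q₃) {g h : X} (h1 : CZ z g h) : CZ z (β g) (β h) := by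
  have e : β g * β h * (β g)⁻¹ * (β h)⁻¹ = β (g * h * g⁻¹ * h⁻¹) := by
    rw [map_mul, map_mul, map_mul, map_inv, map_inv]
  unfold CZ
  rw [e, d.β_fix h1]
  exact h1

theorem exists_x (d : F2 β z q₁ q₂ q₃) (r₀ : X) (hr₀ : ¬ (d.ψ₁ r₀ = 1 ∧ d.ψ₂ r₀ = 1)) :
    ∃ x, d.ψ₁ x = z ∧ d.ψ₂ x = 1 := by
  rcases d.ψ₁_mem r₀ with h1 | h1 <;> rcases d.ψ₂_mem r₀ with h2 | h2
  · exact absurd ⟨h1, h2⟩ hr₀
  · exact ⟨β r₀, by rw [d.ψ₁_β, h1, h2, one_mul], by rw [d.ψ₂_β, h1]⟩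
  · exact ⟨r₀, h1, h2⟩
  · refine ⟨β (β r₀), ?_, ?_⟩
    · rw [d.ψ₁_β, d.ψ₁_β, d.ψ₂_β, h1, h2, d.z2, one_mul]
    · rw [d.ψ₂_β, d.ψ₁_β, h1, h2, d.z2]

theorem mem_A_of_same (d : F2 β z q₁ q₂ q₃) {r s : X} (h1 : d.ψ₁ r = d.ψ₁ s)
    (h2 : d.ψ₂ r = d.ψ₂ s) : s⁻¹ * r ∈ d.A := by
  rw [mem_A, map_mul, map_mul, map_inv, map_inv, h1, h2, inv_mul_cancel, inv_mul_cancel]
  exact ⟨rfl, rfl⟩

section withx

variable (d : F2 β z q₁ q₂ q₃) {x : X} (hx1 : d.ψ₁ x = z) (hx2 : d.ψ₂ x = 1)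

include hx1 hx2

theorem y1 : d.ψ₁ (β x) = z := by rw [d.ψ₁_β, hx1, hx2, mul_one]
theorem y2 : d.ψ₂ (β x) = z := by rw [d.ψ₂_β, hx1]
theorem w1 : d.ψ₁ (β (β x)) = 1 := by rw [d.ψ₁_β, d.y1 hx1 hx2, d.y2 hx1 hx2, d.z2]
theorem w2 : d.ψ₂ (β (β x)) = z := by rw [d.ψ₂_β, d.y1 hx1 hx2]

theorem cosets (r : X) :
    ∃ u a, (u = 1 ∨ u = x ∨ u = β x ∨ u = β (β x)) ∧ a ∈ d.A ∧ r = u * a := by
  rcases d.ψ₁_mem r with h1 | h1 <;> rcases d.ψ₂_mem r with h2 | h2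
  · exact ⟨1, r, Or.inl rfl, d.mem_A.mpr ⟨h1, h2⟩, (one_mul r).symm⟩
  · refine ⟨β (β x), (β (β x))⁻¹ * r, Or.inr (Or.inr (Or.inr rfl)), d.mem_A_of_same ?_ ?_,
      (mul_inv_cancel_left _ _).symm⟩
    · rw [h1, d.w1 hx1 hx2]
    · rw [h2, d.w2 hx1 hx2]
  · refine ⟨x, x⁻¹ * r, Or.inr (Or.inl rfl), d.mem_A_of_same ?_ ?_,
      (mul_inv_cancel_left _ _).symm⟩
    · rw [h1, hx1]
    · rw [h2, hx2]
  · refine ⟨β x, (β x)⁻¹ * r, Or.inr (Or.inr (Or.inl rfl)), d.mem_A_of_same ?_ ?_,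
      (mul_inv_cancel_left _ _).symm⟩
    · rw [h1, d.y1 hx1 hx2]
    · rw [h2, d.y2 hx1 hx2]

omit hx1 hx2 in
/-- an element of `A` which `β` fixes modulo `z` lies in `{1, z}` -/
theorem β_A_fix {c : X} (hc : c ∈ d.A) (h : β c = c ∨ β c = z * c) : c = 1 ∨ c = z := by
  rcases d.list' hc with e | e | e | e | e | e | e | e
  · exact Or.inl e
  · exact Or.inr e
  · exfalso
    rw [e, d.h12] at h
    rcases h with h | h
    · exact d.ne12 h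
    · exact d.ne12z h
  · exfalso
    rw [e, d.h23] at h
    rcases h with h | h
    · exact d.ne23 h
    · exact d.ne23z h
  · exfalso
    rw [e, d.h31] at h
    rcases h with h | h
    · exact d.ne31 h
    · exact d.ne31z h
  · exfalso
    rw [e, map_mul, d.βz, d.h12] at h
    rcases h with h | h
    · exact d.ne12 (mul_left_cancel h)
    · exact d.ne12z (mul_left_cancel h)
  · exfalso
    rw [e, map_mul, d.βz, d.h23] at h
    rcases h with h | h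
    · exact d.ne23 (mul_left_cancel h)
    · exact d.ne23z (mul_left_cancel h)
  · exfalso
    rw [e, map_mul, d.βz, d.h31] at h
    rcases h with h | h
    · exact d.ne31 (mul_left_cancel h)
    · exact d.ne31z (mul_left_cancel h)

/-- the key step: `[x, β x] ∈ {1, z}` -/
theorem cz_xy : CZ z x (β x) := by
  have hy1 := d.y1 hx1 hx2
  have hy2 := d.y2 hx1 hx2
  have hw1 := d.w1 hx1 hx2
  have hw2 := d.w2 hx1 hx2
  set y := β x with hy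
  set w := β y with hw
  set c := x * y * x⁻¹ * y⁻¹ with hc
  have hcA : c ∈ d.A := by
    rw [mem_A, hc, map_mul, map_mul, map_mul, map_inv, map_inv, map_mul, map_mul, map_mul, map_inv,
      map_inv, hx1, hx2, hy1, hy2]
    constructor <;> group
  have haA : (x * y)⁻¹ * w ∈ d.A := by
    apply d.mem_A_of_same
    · rw [hw1, map_mul, hx1, hy1, d.z2]
    · rw [hw2, map_mul, hx2, hy2, one_mul]
  set a := (x * y)⁻¹ * w with ha
  have hwa : w = x * y * a := by rw [ha, mul_inv_cancel_left]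
  have hζ := d.cz_A y haA
  have hβc : β c = y * w * y⁻¹ * w⁻¹ := by
    rw [hc, map_mul, map_mul, map_mul, map_inv, map_inv]
  have e1 : y * w * y⁻¹ * w⁻¹ = y * x * (y * a * y⁻¹ * a⁻¹) * y⁻¹ * x⁻¹ := by
    rw [hwa]; group
  have hcinv : c⁻¹ = c := inv_eq_self_of_mul_self (d.A_sq hcA)
  have e2 : y * x * y⁻¹ * x⁻¹ = c := by
    rw [← hcinv, hc]; group
  have h : β c = c ∨ β c = z * c := by
    rcases hζ with h | h
    · left
      rw [hβc, e1, h, mul_one, e2]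
    · right
      rw [hβc, e1, h, ← e2]
      have : y * x * z = z * (y * x) := (d.zc (y * x)).symm
      rw [this]
      simp only [mul_assoc]
  exact d.β_A_fix hcA h

theorem cz_all (g h : X) : CZ z g h := by
  have hy1 := d.y1 hx1 hx2
  have hy2 := d.y2 hx1 hx2
  have hw1 := d.w1 hx1 hx2
  have hw2 := d.w2 hx1 hx2
  have hxy : CZ z x (β x) := d.cz_xy hx1 hx2
  have hyw : CZ z (β x) (β (β x)) := d.cz_β hxy
  have hwx' : CZ z (β (β x)) (β (β (β x))) := d.cz_β hyw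
  have haA : x⁻¹ * β (β (β x)) ∈ d.A := by
    apply d.mem_A_of_same
    · rw [d.ψ₁_β, hw1, hw2, one_mul, hx1]
    · rw [d.ψ₂_β, hw1, hx2]
  have hwx : CZ z (β (β x)) x := by
    have h1 : CZ z (β (β x)) (β (β (β x)) * (x⁻¹ * β (β (β x)))⁻¹) :=
      d.cz_mul hwx' (d.cz_A _ (d.A.inv_mem haA))
    have e : β (β (β x)) * (x⁻¹ * β (β (β x)))⁻¹ = x := by group
    rwa [e] at h1
  have T : ∀ u v : X, (u = 1 ∨ u = x ∨ u = β x ∨ u = β (β x)) →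
      (v = 1 ∨ v = x ∨ v = β x ∨ v = β (β x)) → CZ z u v := by
    intro u v hu hv
    rcases hu with hu | hu | hu | hu <;> rcases hv with hv | hv | hv | hv <;> rw [hu, hv]
    · exact cz_one _
    · exact cz_one_left _
    · exact cz_one_left _
    · exact cz_one_left _
    · exact cz_one _
    · exact cz_self _
    · exact hxy
    · exact d.cz_symm hwx
    · exact cz_one _
    · exact d.cz_symm hxy
    · exact cz_self _
    · exact hyw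
    · exact cz_one _
    · exact hwx
    · exact d.cz_symm hyw
    · exact cz_self _
  obtain ⟨u, a, hu, ha, rfl⟩ := d.cosets hx1 hx2 g
  obtain ⟨v, a', hv, ha', rfl⟩ := d.cosets hx1 hx2 h
  refine d.cz_mul (d.cz_symm (d.cz_mul (T v u hv hu) (d.cz_A v ha))) (d.cz_A _ ha')

/-- the center is `{1, z}` -/
theorem center_sub (g : X) (hg : ∀ h, g * h = h * g) : g = 1 ∨ g = z := by
  have hy2 := d.y2 hx1 hx2
  have hgA : g ∈ d.A :=
    d.mem_A.mpr ⟨(d.ψ₁_eq_one_iff g).mpr (hg q₁), (d.ψ₂_eq_one_iff g).mpr (hg q₂)⟩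
  -- `x` does not commute with `q₁`, `q₃`; `β x` does not commute with `q₂`
  have n1 : ¬ x * q₁ = q₁ * x := by
    intro h
    rw [← d.ψ₁_eq_one_iff, hx1] at h
    exact d.z1 h
  have n2 : ¬ β x * q₂ = q₂ * β x := by
    intro h
    rw [← d.ψ₂_eq_one_iff, hy2] at h
    exact d.z1 h
  have n3 : ¬ x * q₃ = q₃ * x := by
    intro h
    have h3 := d.conj3 x
    rw [h, mul_inv_cancel_right, hx1, hx2, mul_one] at h3
    exact d.z1 (mul_right_cancel (h3.symm.trans (one_mul _).symm))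
  have zc' : ∀ (r q : X), z * q * r = r * (z * q) → q * r = r * q := by
    intro r q h
    rw [mul_assoc, ← mul_assoc r, ← d.zc r, mul_assoc] at h
    exact mul_left_cancel h
  rcases d.list' hgA with e | e | e | e | e | e | e | e
  · exact Or.inl e
  · exact Or.inr e
  · exact absurd (e ▸ hg x).symm n1
  · exact absurd (e ▸ hg (β x)).symm n2
  · exact absurd (e ▸ hg x).symm n3
  · exact absurd (zc' x q₁ (e ▸ hg x)).symm n1
  · exact absurd (zc' (β x) q₂ (e ▸ hg (β x))).symm n2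
  · exact absurd (zc' x q₃ (e ▸ hg x)).symm n3

/-- squares lie in `{1, z}` -/
theorem sq_mem (g : X) : g * g = 1 ∨ g * g = z := by
  apply d.center_sub hx1 hx2
  intro h
  have hcz := d.cz_all hx1 hx2 g h
  have e : g * h = (g * h * g⁻¹ * h⁻¹) * (h * g) := by group
  rcases hcz with h1 | h1
  · rw [h1, one_mul] at e
    rw [mul_assoc, e, ← mul_assoc, e, mul_assoc]
  · rw [h1] at e
    calc g * g * h = g * (g * h) := mul_assoc _ _ _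
      _ = g * (z * (h * g)) := by rw [← e]
      _ = z * (g * h) * g := by rw [← mul_assoc g z, ← d.zc g]; simp only [mul_assoc]
      _ = z * (z * (h * g)) * g := by rw [← e]
      _ = (z * z) * (h * (g * g)) := by simp only [mul_assoc]
      _ = h * (g * g) := by rw [d.z2, one_mul]

end withx

end F2

namespace F2

variable {β : X →* X} {z q₁ q₂ q₃ : X}

/-- `κ = (ψ₁, ψ₂)` -/
def κ (d : F2 β z q₁ q₂ q₃) : X →* X × X := d.ψ₁.prod d.ψ₂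

theorem κ_apply (d : F2 β z q₁ q₂ q₃) (r : X) : d.κ r = (d.ψ₁ r, d.ψ₂ r) := rfl

theorem κ_ker (d : F2 β z q₁ q₂ q₃) : d.κ.ker = d.A := by
  ext r
  rw [MonoidHom.mem_ker, mem_A, κ_apply, Prod.mk_eq_one]

theorem κ_range (d : F2 β z q₁ q₂ q₃) {x : X} (hx1 : d.ψ₁ x = z) (hx2 : d.ψ₂ x = 1) :
    d.κ.range = (Subgroup.zpowers z).prod (Subgroup.zpowers z) := by
  ext ⟨s, t⟩
  rw [MonoidHom.mem_range, Subgroup.mem_prod]
  constructor
  · rintro ⟨r, hr⟩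
    rw [κ_apply] at hr
    have h1 : d.ψ₁ r = s := congrArg Prod.fst hr
    have h2 : d.ψ₂ r = t := congrArg Prod.snd hr
    refine ⟨?_, ?_⟩
    · show s ∈ Subgroup.zpowers z
      rw [← h1]
      rcases d.ψ₁_mem r with h | h <;> rw [h]
      · exact one_mem _
      · exact Subgroup.mem_zpowers z
    · show t ∈ Subgroup.zpowers z
      rw [← h2]
      rcases d.ψ₂_mem r with h | h <;> rw [h]
      · exact one_mem _
      · exact Subgroup.mem_zpowers z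
  · rintro ⟨hs, ht⟩
    have hs' : s = 1 ∨ s = z := Cfsg.Agent.Lib.Helper7.LX.mem_zpowers_of_order_two d.z2 hs
    have ht' : t = 1 ∨ t = z := Cfsg.Agent.Lib.Helper7.LX.mem_zpowers_of_order_two d.z2 ht
    rcases hs' with hs' | hs' <;> rcases ht' with ht' | ht' <;> rw [hs', ht']
    · exact ⟨1, map_one _⟩
    · exact ⟨β (β x), by rw [κ_apply, d.w1 hx1 hx2, d.w2 hx1 hx2]⟩
    · exact ⟨x, by rw [κ_apply, hx1, hx2]⟩
    · exact ⟨β x, by rw [κ_apply, d.y1 hx1 hx2, d.y2 hx1 hx2]⟩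

theorem card_X [Finite X] (d : F2 β z q₁ q₂ q₃) {x : X} (hx1 : d.ψ₁ x = z) (hx2 : d.ψ₂ x = 1)
    (hA : Nat.card d.A = 8) : Nat.card X = 32 := by
  have : Fact (Nat.Prime 2) := ⟨Nat.prime_two⟩
  have h1 := Subgroup.card_mul_index d.κ.ker
  rw [Subgroup.index_ker, d.κ_range hx1 hx2, d.κ_ker, hA] at h1
  have h2 : Nat.card ((Subgroup.zpowers z).prod (Subgroup.zpowers z)) = 4 := by
    rw [Nat.card_congr (Subgroup.prodEquiv _ _).toEquiv, Nat.card_prod, Nat.card_zpowers,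
      orderOf_eq_prime (by rw [pow_two]; exact d.z2) d.z1]
  rw [h2] at h1
  omega

theorem card_A [Finite X] (d : F2 β z q₁ q₂ q₃) (Q : Subgroup X) (hQ4 : Nat.card Q = 4)
    (hQ : ∀ q ∈ Q, q = 1 ∨ q = q₁ ∨ q = q₂ ∨ q = q₃) : Nat.card d.A = 8 := by
  classical
  have hQA : Q ≤ d.A := by
    intro q hq
    rcases hQ q hq with h | h | h | h <;> rw [h]
    exacts [one_mem _, d.q1_mem_A, d.q2_mem_A, d.q3_mem_A]
  have hdvd := Subgroup.card_dvd_of_le hQA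
  have hne : Nat.card d.A ≠ 4 := by
    intro h
    have hQA' : Q = d.A := Subgroup.eq_of_le_of_card_ge hQA (by rw [h, hQ4])
    have hz : z ∈ Q := hQA' ▸ d.z_mem_A
    rcases hQ z hz with h | h | h | h
    exacts [d.z1 h, d.zne1 h, d.zne2 h, d.zne3 h]
  have hle : Nat.card d.A ≤ 8 := by
    have hsub : (d.A : Set X) ⊆ ↑([1, z, q₁, q₂, q₃, z * q₁, z * q₂, z * q₃].toFinset) := by
      intro r hr
      have h := d.list' hr
      simp only [List.coe_toFinset, List.mem_cons, List.not_mem_nil, or_false]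
      exact h
    calc Nat.card d.A = (d.A : Set X).ncard := (Nat.card_coe_set_eq _)
      _ ≤ (↑([1, z, q₁, q₂, q₃, z * q₁, z * q₂, z * q₃].toFinset) : Set X).ncard :=
          Set.ncard_le_ncard hsub (Finset.finite_toSet _)
      _ = ([1, z, q₁, q₂, q₃, z * q₁, z * q₂, z * q₃].toFinset).card := Set.ncard_coe_finset _
      _ ≤ [1, z, q₁, q₂, q₃, z * q₁, z * q₂, z * q₃].length := List.toFinset_card_le _
      _ = 8 := rfl
  have hpos : 0 < Nat.card d.A := Nat.card_pos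
  rw [hQ4] at hdvd
  omega

/-- FIN2cd, group-theoretic core -/
theorem fin2_grp [Finite X] (d : F2 β z q₁ q₂ q₃) (Q : Subgroup X) (hQ4 : Nat.card Q = 4)
    (hQ : ∀ q ∈ Q, q = 1 ∨ q = q₁ ∨ q = q₂ ∨ q = q₃) (r₀ : X)
    (hr₀ : r₀ * q₁ ≠ q₁ * r₀ ∨ r₀ * q₂ ≠ q₂ * r₀) :
    Cfsg.IsExtraspecial 2 X ∧ Nat.card X = 32 ∧
      ∃ A : Subgroup X, Cfsg.IsElementaryAbelian 2 A ∧ Nat.card A = 8 := by
  have hr₀' : ¬ (d.ψ₁ r₀ = 1 ∧ d.ψ₂ r₀ = 1) := by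
    rintro ⟨h1, h2⟩
    rcases hr₀ with h | h
    · exact h ((d.ψ₁_eq_one_iff r₀).mp h1)
    · exact h ((d.ψ₂_eq_one_iff r₀).mp h2)
  obtain ⟨x, hx1, hx2⟩ := d.exists_x r₀ hr₀'
  have hA := d.card_A Q hQ4 hQ
  have hX := d.card_X hx1 hx2 hA
  refine ⟨?_, hX, d.A, ⟨⟨⟨fun a b => Subtype.ext (d.A_comm a.2 b.2)⟩⟩,
    fun a ha => by rw [pow_two]; exact d.A_sq ha⟩, hA⟩
  apply Cfsg.Agent.Lib.Helper7.LY.isExtraspecial_of_elementwise z d.z1 d.z2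
  · exact IsPGroup.of_card (n := 5) (by rw [hX]; norm_num)
  · exact fun g hg => d.center_sub hx1 hx2 g hg
  · exact d.zc
  · exact fun a b => d.cz_all hx1 hx2 a b
  · exact fun a => d.sq_mem hx1 hx2 a
  · refine ⟨x, q₁, ?_⟩
    intro h
    rw [← d.ψ₁_eq_one_iff, hx1] at h
    exact d.z1 h

end F2

end Fin2Grp

end Cfsg.Agent.Lib.Helper4.CUB
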