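import Mathlib
import Cfsg.Agent.Lib.Helper3.CUBDefs
import Cfsg.Agent.Lib.Helper4.CUBFin2Grp
import Cfsg.Agent.Lib.Helper5.CUBP5
import Cfsg.Agent.Lib.Helper5.CUBT8
import Cfsg.Agent.Lib.Helper5.CUBHalf

/-! Farm CUB (S4415), unit FIN2cd: assembly, with the units FIN2a' and R0_list (FIN2cd-MOD) as
hypotheses in their stub shapes. -/

set_option autoImplicit false

namespace Cfsg.Agent.Lib.Helper4.CUB

open Cfsg.Agent.Lib.Helper3.CUB

universe u v

variable {G : Type u} [Group G] [Finite G] {E : Type v} [AddCommGroup E] [Module (ZMod 3) E]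
  [Finite E] {ρ : Representation (ZMod 3) G E} {R : Subgroup G} {b : G} {Q : Subgroup G}

/-- if `R` centralizes `Q` then `Q` is normal in `G = R⟨b⟩` -/
theorem normal_of_centralized (c : Cfg ρ R b Q) (hcen : ∀ r ∈ R, ∀ e ∈ Q, r * e * r⁻¹ = e) :
    Q.Normal := by
  rw [← Subgroup.normalizer_eq_top_iff, eq_top_iff, ← c.top, sup_le_iff]
  refine ⟨?_, ?_⟩
  · intro r hr
    rw [Subgroup.mem_normalizer_iff]
    intro q
    constructor
    · intro hq
      rw [hcen r hr q hq]; exact hq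
    · intro hq
      have h := hcen r⁻¹ (R.inv_mem hr) _ hq
      have e : r⁻¹ * (r * q * r⁻¹) * r⁻¹⁻¹ = q := by group
      rw [e] at h
      rw [h]; exact hq
  · rw [Subgroup.zpowers_le]
    exact c.bQ

theorem FIN2cd_of (c : Cfg ρ R b Q)
    (hA' : Q.Normal → Cfsg.IsElementaryAbelian 2 R ∧ Nat.card R = 4)
    (z : G) (hz : NegOne ρ R z)
    (hlist : Module.finrank (ZMod 3) ↥(commSub ρ R) = 4 → ∀ (q₁ q₂ q₃ : G) (e₁ e₂ e₃ : E),
      QFrame ρ b Q q₁ q₂ q₃ e₁ e₂ e₃ → ∀ r ∈ R, r * q₁ = q₁ * r → r * q₂ = q₂ * r →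
        r = 1 ∨ r = z ∨ r = q₁ ∨ r = q₂ ∨ r = q₃ ∨ r = z * q₁ ∨ r = z * q₂ ∨ r = z * q₃)
    (hRQ : ∀ r ∈ R, ∀ e ∈ Q, r * e * r⁻¹ = e ∨ r * e * r⁻¹ = z * e) : RConcl R := by
  obtain ⟨hzR, hz2, hz1, hzc⟩ := Cfsg.Agent.Lib.Helper5.CUB.negOne_props c z hz
  obtain ⟨q₁, q₂, q₃, e₁, e₂, e₃, fr⟩ := Cfsg.Agent.Lib.Helper5.CUB.P5 c
  by_cases hcen : ∀ r ∈ R, ∀ e ∈ Q, r * e * r⁻¹ = e
  · exact Or.inl (hA' (normal_of_centralized c hcen))
  · right
    push Not at hcen
    obtain ⟨r₀, hr₀R, e, he, hne⟩ := hcen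
    have hze : r₀ * e * r₀⁻¹ = z * e := (hRQ r₀ hr₀R e he).resolve_left hne
    have he1 : e ≠ 1 := by
      intro h
      apply hne
      rw [h, mul_one, mul_inv_cancel]
    have hdim := Cfsg.Agent.Lib.Helper5.CUB.HALF c z hz e he he1 r₀ hze
    have list := hlist hdim q₁ q₂ q₃ e₁ e₂ e₃ fr
    have : R.Normal := c.normal
    -- the abstract data
    let β : ↥R →* ↥R := (MulAut.conjNormal b : MulAut ↥R).toMonoidHom
    have hβ : ∀ r : ↥R, ((β r : ↥R) : G) = b * r * b⁻¹ := fun r => MulAut.conjNormal_apply b r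
    have hq1R : q₁ ∈ R := c.QR fr.mem₁
    have hq2R : q₂ ∈ R := c.QR fr.mem₂
    have hq3R : q₃ ∈ R := c.QR fr.mem₃
    have d : F2 β (⟨z, hzR⟩ : ↥R) ⟨q₁, hq1R⟩ ⟨q₂, hq2R⟩ ⟨q₃, hq3R⟩ := by
      refine
        { z1 := fun h => hz1 (congrArg Subtype.val h)
          z2 := Subtype.ext (by rw [← pow_two]; exact hz2)
          zc := fun g => Subtype.ext (hzc g.1)
          βz := ?_
          q1 := fun h => fr.ne₁ (congrArg Subtype.val h)
          q1s := Subtype.ext (by rw [← pow_two]; exact c.Q2 q₁ fr.mem₁)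
          mul := Subtype.ext fr.mul
          h12 := Subtype.ext ((hβ _).trans fr.conj₁)
          h23 := Subtype.ext ((hβ _).trans fr.conj₂)
          h31 := Subtype.ext ((hβ _).trans fr.conj₃)
          rq1 := ?_
          rq2 := ?_
          list := ?_ }
      · apply Subtype.ext
        rw [hβ]
        show b * z * b⁻¹ = z
        rw [← hzc b, mul_inv_cancel_right]
      · intro r
        rcases hRQ r.1 r.2 q₁ fr.mem₁ with h | h
        · left; exact Subtype.ext h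
        · right; exact Subtype.ext h
      · intro r
        rcases hRQ r.1 r.2 q₂ fr.mem₂ with h | h
        · left; exact Subtype.ext h
        · right; exact Subtype.ext h
      · intro r h1 h2
        have h := list r.1 r.2 (congrArg Subtype.val h1) (congrArg Subtype.val h2)
        rcases h with h | h | h | h | h | h | h | h
        · exact Or.inl (Subtype.ext h)
        · exact Or.inr (Or.inl (Subtype.ext h))
        · exact Or.inr (Or.inr (Or.inl (Subtype.ext h)))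
        · exact Or.inr (Or.inr (Or.inr (Or.inl (Subtype.ext h))))
        · exact Or.inr (Or.inr (Or.inr (Or.inr (Or.inl (Subtype.ext h)))))
        · exact Or.inr (Or.inr (Or.inr (Or.inr (Or.inr (Or.inl (Subtype.ext h))))))
        · exact Or.inr (Or.inr (Or.inr (Or.inr (Or.inr (Or.inr (Or.inl (Subtype.ext h)))))))
        · exact Or.inr (Or.inr (Or.inr (Or.inr (Or.inr (Or.inr (Or.inr (Subtype.ext h)))))))
    have hQ4 : Nat.card (Q.subgroupOf R) = 4 := by
      rw [Nat.card_congr (Subgroup.subgroupOfEquivOfLe c.QR).toEquiv]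
      exact c.Q4
    have hQall : ∀ q ∈ Q.subgroupOf R, q = 1 ∨ q = (⟨q₁, hq1R⟩ : ↥R) ∨ q = ⟨q₂, hq2R⟩ ∨
        q = ⟨q₃, hq3R⟩ := by
      intro q hq
      rw [Subgroup.mem_subgroupOf] at hq
      rcases fr.all q.1 hq with h | h | h | h
      · exact Or.inl (Subtype.ext h)
      · exact Or.inr (Or.inl (Subtype.ext h))
      · exact Or.inr (Or.inr (Or.inl (Subtype.ext h)))
      · exact Or.inr (Or.inr (Or.inr (Subtype.ext h)))
    have hr₀ : (⟨r₀, hr₀R⟩ : ↥R) * ⟨q₁, hq1R⟩ ≠ ⟨q₁, hq1R⟩ * ⟨r₀, hr₀R⟩ ∨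
        (⟨r₀, hr₀R⟩ : ↥R) * ⟨q₂, hq2R⟩ ≠ ⟨q₂, hq2R⟩ * ⟨r₀, hr₀R⟩ := by
      by_contra hcon
      push Not at hcon
      obtain ⟨h1, h2⟩ := hcon
      have h1' : r₀ * q₁ = q₁ * r₀ := congrArg Subtype.val h1
      have h2' : r₀ * q₂ = q₂ * r₀ := congrArg Subtype.val h2
      have h3' : r₀ * q₃ = q₃ * r₀ := by
        rw [← fr.mul, ← mul_assoc, h1', mul_assoc, h2', mul_assoc]
      apply hne
      rcases fr.all e he with h | h | h | h
      · exact absurd h he1
      · rw [h, h1', mul_inv_cancel_right]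
      · rw [h, h2', mul_inv_cancel_right]
      · rw [h, h3', mul_inv_cancel_right]
    obtain ⟨hES, hcard, A', hA'ea, hA'card⟩ := d.fin2_grp (Q.subgroupOf R) hQ4 hQall ⟨r₀, hr₀R⟩ hr₀
    refine ⟨hES, hcard, A'.map R.subtype, Subgroup.map_subtype_le A', ⟨?_, ?_⟩, ?_⟩
    · have := hA'ea.1
      infer_instance
    · intro a ha
      obtain ⟨a', ha', rfl⟩ := Subgroup.mem_map.mp ha
      have h := hA'ea.2 a' ha'
      rw [← map_pow, h, map_one]
    · rw [Subgroup.card_map_of_injective R.subtype_injective]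
      exact hA'card

end Cfsg.Agent.Lib.Helper4.CUB
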