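import Mathlib
import Cfsg.Agent.Lib.Helper3.CUBDefs
import Cfsg.Agent.Lib.Helper4.CUBFin2cdPre
import Cfsg.Agent.Lib.Helper8.CUBFin2Mod
import Cfsg.Agent.Lib.Helper9.CUBFin2ap

/-! Farm CUB (S4415), unit FIN2cd, verbatim. -/

set_option autoImplicit false

namespace Cfsg.Agent.Lib.Helper4.CUB

open Cfsg.Agent.Lib.Helper3.CUB

universe u v

variable {G : Type u} [Group G] [Finite G] {E : Type v} [AddCommGroup E] [Module (ZMod 3) E]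
  [Finite E] {ρ : Representation (ZMod 3) G E} {R : Subgroup G} {b : G} {Q : Subgroup G}

/-- FIN2-cd: a four-group `Q` with `[R,Q] ≤ Z`: `R = Q` or `R` is extraspecial of order 32. -/
theorem FIN2cd (c : Cfg ρ R b Q) (z : G) (hz : NegOne ρ R z)
    (hRQ : ∀ r ∈ R, ∀ e ∈ Q, r * e * r⁻¹ = e ∨ r * e * r⁻¹ = z * e) : RConcl R :=
  FIN2cd_of c (Cfsg.Agent.Lib.Helper9.CUB.FIN2a' c) z hz
    (fun hdim q₁ q₂ q₃ e₁ e₂ e₃ fr =>
      Cfsg.Agent.Lib.Helper8.CUB.R0_list c z hz hdim q₁ q₂ q₃ e₁ e₂ e₃ fr) hRQ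

end Cfsg.Agent.Lib.Helper4.CUB
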