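import Mathlib
import Cfsg.Agent.Lib.Helper6.KHom1

set_option autoImplicit false
set_option maxHeartbeats 1000000

/-!
# S0748 (Livingstone–Wagner b), piece B: swapping two points when the 2-part of the point
stabilizers exceeds the 2-part of the two-point stabilizers
-/

namespace Cfsg.Agent.Lib.Helper4.KHom

open MulAction

theorem swap_of_two_part' {M Ω : Type*} [Group M] [Finite M] [MulAction M Ω] (a : ℕ)
    (h2 : ∀ x y : Ω, x ≠ y → ¬ 2 ^ (a + 1) ∣ Nat.card (stabilizer M x ⊓ stabilizer M y : Subgroup M))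
    (h1 : ∀ x : Ω, 2 ^ (a + 1) ∣ Nat.card (stabilizer M x))
    (x y : Ω) (hxy : x ≠ y)
    (h2' : 2 ^ a ∣ Nat.card (stabilizer M x ⊓ stabilizer M y : Subgroup M)) : ∃ u : M, u • x = y ∧ u • y = x := by
  classical
  have : Fact (Nat.Prime 2) := ⟨Nat.prime_two⟩
  -- a Sylow 2-subgroup `R` of the two point stabilizer
  obtain ⟨Dxy, hD⟩ : ∃ D : Subgroup M, D = stabilizer M x ⊓ stabilizer M y := ⟨_, rfl⟩
  have P : Sylow 2 Dxy := default
  obtain ⟨R, hRdef⟩ : ∃ R : Subgroup M, R = (P : Subgroup Dxy).map Dxy.subtype := ⟨_, rfl⟩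
  have hRle : R ≤ Dxy := by rw [hRdef]; exact Subgroup.map_subtype_le _
  have hfa : (Nat.card Dxy).factorization 2 = a := by
    have hne : Nat.card Dxy ≠ 0 := Nat.card_pos.ne'
    have e1 : a ≤ (Nat.card Dxy).factorization 2 :=
      (Nat.prime_two.pow_dvd_iff_le_factorization hne).mp (by rw [hD]; exact h2')
    have e2 : ¬ a + 1 ≤ (Nat.card Dxy).factorization 2 := by
      intro h
      exact h2 x y hxy (by rw [← hD]; exact (Nat.prime_two.pow_dvd_iff_le_factorization hne).mpr h)
    omega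
  have hRcard : Nat.card R = 2 ^ a := by
    rw [hRdef, Subgroup.card_map_of_injective Dxy.subtype_injective, P.card_eq_multiplicity, hfa]
  have hR2 : IsPGroup 2 R := IsPGroup.of_card hRcard
  have hRx : ∀ r ∈ R, r • x = x := by
    intro r hr
    have := hRle hr
    rw [hD, Subgroup.mem_inf] at this
    exact mem_stabilizer_iff.mp this.1
  have hRy : ∀ r ∈ R, r • y = y := by
    intro r hr
    have := hRle hr
    rw [hD, Subgroup.mem_inf] at this
    exact mem_stabilizer_iff.mp this.2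
  -- a 2-subgroup of a two point stabilizer containing `R` is `R`
  have hmax : ∀ (Q : Subgroup M) (z w : Ω), z ≠ w → IsPGroup 2 Q → R ≤ Q →
      Q ≤ stabilizer M z ⊓ stabilizer M w → Q = R := by
    intro Q z w hzw hQ2 hRQ hQle
    obtain ⟨b, hb⟩ := IsPGroup.iff_card.mp hQ2
    have hba : b ≤ a := by
      by_contra hlt
      push Not at hlt
      apply h2 z w hzw
      have h3 : 2 ^ (a + 1) ∣ Nat.card Q := by rw [hb]; exact pow_dvd_pow 2 hlt
      exact h3.trans (Subgroup.card_dvd_of_le hQle)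
    have hcard : Nat.card Q ≤ Nat.card R := by
      rw [hb, hRcard]; exact Nat.pow_le_pow_right (by norm_num) hba
    exact (Subgroup.eq_of_le_of_card_ge hRQ hcard).symm
  -- overgroups of order `2 ^ (a+1)` inside point stabilizers
  have key : ∀ z : Ω, (∀ r ∈ R, r • z = z) →
      ∃ K : Subgroup M, R ≤ K ∧ K ≤ stabilizer M z ∧ Nat.card K = 2 ^ (a + 1) := by
    intro z hz
    have hRz : R ≤ stabilizer M z := fun r hr => mem_stabilizer_iff.mpr (hz r hr)
    have hH : Nat.card (R.subgroupOf (stabilizer M z)) = 2 ^ a := by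
      rw [← hRcard]
      exact Nat.card_congr (Subgroup.subgroupOfEquivOfLe hRz).toEquiv
    obtain ⟨K', hK'card, hK'le⟩ := Sylow.exists_subgroup_card_pow_succ (h1 z) hH
    refine ⟨K'.map (stabilizer M z).subtype, ?_, Subgroup.map_subtype_le _, ?_⟩
    · intro r hr
      refine ⟨⟨r, hRz hr⟩, hK'le ?_, rfl⟩
      rw [Subgroup.mem_subgroupOf]
      exact hr
    · rw [Subgroup.card_map_of_injective (stabilizer M z).subtype_injective, hK'card]
  -- the normalizer of `R` acting on the fixed points of `R`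
  obtain ⟨N, hN⟩ : ∃ N : Subgroup M, N = Subgroup.normalizer (R : Set M) := ⟨_, rfl⟩
  have hNmem : ∀ n : M, n ∈ N → ∀ r ∈ R, n⁻¹ * r * n ∈ R := by
    intro n hn r hr
    rw [hN] at hn
    exact ((Subgroup.mem_normalizer_iff'' (H := R)).mp hn r).mp hr
  let ΦS : SubMulAction N Ω :=
    { carrier := {z | ∀ r ∈ R, r • z = z}
      smul_mem' := by
        intro n z hz r hr
        have h3 := hz _ (hNmem n.1 n.2 r hr)
        show r • ((n : M) • z) = (n : M) • z
        calc r • ((n : M) • z) = (n : M) • (((n : M)⁻¹ * r * (n : M)) • z) := by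
              simp [mul_smul]
          _ = (n : M) • z := by rw [h3] }
  have hΦmem : ∀ z : Ω, z ∈ ΦS ↔ ∀ r ∈ R, r • z = z := fun _ => Iff.rfl
  have hsmul : ∀ (n : N) (z : ΦS), ((n • z : ΦS) : Ω) = (n : M) • (z : Ω) := fun _ _ => rfl
  obtain ⟨f, hf⟩ : ∃ f : N →* Equiv.Perm ΦS, f = MulAction.toPermHom N ΦS := ⟨_, rfl⟩
  have hfapp : ∀ (n : N) (z : ΦS), ((f n z : ΦS) : Ω) = (n : M) • (z : Ω) := by
    intro n z
    rw [hf]
    rfl
  have : Finite f.range := Finite.of_surjective f.rangeRestrict f.rangeRestrict_surjective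
  -- elements of `R` act trivially
  have hRtriv : ∀ (n : N), (n : M) ∈ R → f n = 1 := by
    intro n hn
    ext z
    rw [hfapp]
    exact z.2 _ hn
  have hRN : R ≤ N := by rw [hN]; exact Subgroup.le_normalizer
  -- hypotheses of the dihedral lemma
  have ha : ∀ z : ΦS, ∃ s : f.range, s ≠ 1 ∧ s * s = 1 ∧ s • z = z := by
    intro z
    obtain ⟨K, hRK, hKz, hKcard⟩ := key z z.2
    have hidx : (R.subgroupOf K).index = 2 := by
      have e1 : Nat.card (R.subgroupOf K) = 2 ^ a := by
        rw [← hRcard]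
        exact Nat.card_congr (Subgroup.subgroupOfEquivOfLe hRK).toEquiv
      have e2 := (R.subgroupOf K).card_mul_index
      rw [e1, hKcard, pow_succ] at e2
      exact Nat.eq_of_mul_eq_mul_left (by positivity) e2
    have hnorm := Subgroup.normal_of_index_eq_two hidx
    obtain ⟨s, hsK, hsR⟩ : ∃ s ∈ K, s ∉ R := by
      by_contra hall
      push Not at hall
      have hle : K ≤ R := fun k hk => hall k hk
      have := Subgroup.card_le_of_le hle
      rw [hKcard, hRcard] at this
      exact absurd this (by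
        rw [pow_succ]
        have : 0 < 2 ^ a := by positivity
        omega)
    have hconj : ∀ k ∈ K, ∀ r ∈ R, k * r * k⁻¹ ∈ R := by
      intro k hk r hr
      have h3 : (⟨r, hRK hr⟩ : K) ∈ R.subgroupOf K := by rw [Subgroup.mem_subgroupOf]; exact hr
      have h4 := hnorm.conj_mem _ h3 ⟨k, hk⟩
      rw [Subgroup.mem_subgroupOf] at h4
      simpa using h4
    have hsN : s ∈ N := by
      rw [hN, Subgroup.mem_normalizer_iff]
      intro r
      constructor
      · intro hr; exact hconj s hsK r hr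
      · intro hr
        have := hconj s⁻¹ (K.inv_mem hsK) _ hr
        have e : s⁻¹ * (s * r * s⁻¹) * s⁻¹⁻¹ = r := by group
        rwa [e] at this
    have hss : s * s ∈ R := by
      have := Subgroup.mul_self_mem_of_index_two hidx (⟨s, hsK⟩ : K)
      rw [Subgroup.mem_subgroupOf] at this
      simpa using this
    have hsz : s • (z : Ω) = z := mem_stabilizer_iff.mp (hKz hsK)
    refine ⟨⟨f ⟨s, hsN⟩, ⟨_, rfl⟩⟩, ?_, ?_, ?_⟩
    · -- nontrivial
      intro h1'
      have h1'' : f ⟨s, hsN⟩ = 1 := congrArg Subtype.val h1'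
      have hsfix : ∀ w : Ω, (∀ r ∈ R, r • w = w) → s • w = w := by
        intro w hw
        have := hfapp ⟨s, hsN⟩ ⟨w, hw⟩
        rw [h1''] at this
        exact this.symm
      -- a point among x, y different from z
      obtain ⟨w0, hw0R, hw0z⟩ : ∃ w0 : Ω, (∀ r ∈ R, r • w0 = w0) ∧ (z : Ω) ≠ w0 := by
        by_cases hzx : (z : Ω) = x
        · exact ⟨y, hRy, by rw [hzx]; exact hxy⟩
        · exact ⟨x, hRx, hzx⟩
      apply h2 (z : Ω) w0 hw0z
      have hKle : K ≤ stabilizer M (z : Ω) ⊓ stabilizer M w0 := by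
        intro k hk
        rw [Subgroup.mem_inf]
        refine ⟨hKz hk, ?_⟩
        rw [mem_stabilizer_iff]
        by_cases hkR : k ∈ R
        · exact hw0R k hkR
        · have h5 : (⟨k, hk⟩ : K) * ⟨s, hsK⟩ ∈ R.subgroupOf K := by
            rw [Subgroup.mul_mem_iff_of_index_two hidx]
            simp only [Subgroup.mem_subgroupOf]
            exact ⟨fun h => absurd h hkR, fun h => absurd h hsR⟩
          rw [Subgroup.mem_subgroupOf] at h5
          have h6 : (k * s) • w0 = w0 := hw0R _ (by simpa using h5)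
          have h7 : s • w0 = w0 := hsfix w0 hw0R
          rw [mul_smul, h7] at h6
          exact h6
      rw [← hKcard]
      exact Subgroup.card_dvd_of_le hKle
    · apply Subtype.ext
      show f ⟨s, hsN⟩ * f ⟨s, hsN⟩ = 1
      rw [← map_mul]
      exact hRtriv _ hss
    · apply Subtype.ext
      show ((f ⟨s, hsN⟩ z : ΦS) : Ω) = z
      rw [hfapp]
      exact hsz
  have hb : ∀ z w : ΦS, z ≠ w → ∀ g : f.range, g * g = 1 → g • z = z → g • w = w → g = 1 := by
    intro z w hzw g hgg hgz hgw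
    obtain ⟨n, hn⟩ := g.2
    have hgg' : f n * f n = 1 := by
      have := congrArg Subtype.val hgg
      rw [Subgroup.coe_mul, Subgroup.coe_one, ← hn] at this
      exact this
    have hgz' : (n : M) • (z : Ω) = z := by
      have : (f n z : ΦS) = z := by rw [hn]; exact hgz
      rw [← hfapp]; exact congrArg Subtype.val this
    have hgw' : (n : M) • (w : Ω) = w := by
      have : (f n w : ΦS) = w := by rw [hn]; exact hgw
      rw [← hfapp]; exact congrArg Subtype.val this
    obtain ⟨e, j, hjodd, ho⟩ := Nat.exists_eq_two_pow_mul_odd (orderOf_pos (n : M)).ne'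
    -- the 2-part of n
    have hg0N : (n : M) ^ j ∈ N := N.pow_mem n.2 j
    have hpow : ((n : M) ^ j) ^ (2 ^ e) = 1 := by
      rw [← pow_mul, mul_comm, ← ho, pow_orderOf_eq_one]
    have hfj : f (n ^ j) = f n := by
      obtain ⟨m, hm⟩ := hjodd
      rw [map_pow, hm, pow_succ, pow_mul, pow_two, hgg', one_pow, one_mul]
    have hz2 : IsPGroup 2 (Subgroup.zpowers ((n : M) ^ j)) := by
      have hdvd : orderOf ((n : M) ^ j) ∣ 2 ^ e := orderOf_dvd_of_pow_eq_one hpow
      obtain ⟨k, _, hk⟩ := (Nat.dvd_prime_pow Nat.prime_two).mp hdvd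
      exact IsPGroup.of_card (by rw [Nat.card_zpowers, hk])
    have hzle : Subgroup.zpowers ((n : M) ^ j) ≤ Subgroup.normalizer (R : Set M) := by
      rw [Subgroup.zpowers_le, ← hN]; exact hg0N
    have hQ2 : IsPGroup 2 (R ⊔ Subgroup.zpowers ((n : M) ^ j) : Subgroup M) :=
      IsPGroup.to_sup_of_normal_left' hR2 hz2 hzle
    have hzw' : (z : Ω) ≠ (w : Ω) := fun h => hzw (Subtype.ext h)
    have hQle : (R ⊔ Subgroup.zpowers ((n : M) ^ j) : Subgroup M) ≤
        stabilizer M (z : Ω) ⊓ stabilizer M (w : Ω) := by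
      apply sup_le
      · intro r hr
        rw [Subgroup.mem_inf, mem_stabilizer_iff, mem_stabilizer_iff]
        exact ⟨z.2 r hr, w.2 r hr⟩
      · rw [Subgroup.zpowers_le, Subgroup.mem_inf]
        exact ⟨Subgroup.pow_mem _ (mem_stabilizer_iff.mpr hgz') j,
          Subgroup.pow_mem _ (mem_stabilizer_iff.mpr hgw') j⟩
    have hQR := hmax _ _ _ hzw' hQ2 le_sup_left hQle
    have hg0R : (n : M) ^ j ∈ R := by
      rw [← hQR]
      exact (le_sup_right : Subgroup.zpowers ((n : M) ^ j) ≤ _) (Subgroup.mem_zpowers _)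
    have hf1 : f (n ^ j) = 1 := hRtriv _ (by simpa using hg0R)
    apply Subtype.ext
    rw [← hn, ← hfj, hf1]
    rfl
  -- apply the dihedral lemma
  obtain ⟨u, hux, huy⟩ := Cfsg.Agent.Lib.Helper6.KHom.dihedral_swap (X := f.range) (Φ := ΦS)
    ha hb ⟨x, hRx⟩ ⟨y, hRy⟩ (fun h => hxy (congrArg Subtype.val h))
  obtain ⟨n, hn⟩ := u.2
  refine ⟨(n : M), ?_, ?_⟩
  · have : (f n ⟨x, hRx⟩ : ΦS) = ⟨y, hRy⟩ := by rw [hn]; exact hux
    have h3 := congrArg Subtype.val this
    rw [hfapp] at h3
    exact h3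
  · have : (f n ⟨y, hRy⟩ : ΦS) = ⟨x, hRx⟩ := by rw [hn]; exact huy
    have h3 := congrArg Subtype.val this
    rw [hfapp] at h3
    exact h3

theorem swap_of_two_part {M Ω : Type*} [Group M] [Finite M] [MulAction M Ω] (a : ℕ)
    (h2 : ∀ x y : Ω, x ≠ y → ¬ 2 ^ (a + 1) ∣ Nat.card (stabilizer M x ⊓ stabilizer M y : Subgroup M))
    (h2' : ∀ x y : Ω, x ≠ y → 2 ^ a ∣ Nat.card (stabilizer M x ⊓ stabilizer M y : Subgroup M))
    (h1 : ∀ x : Ω, 2 ^ (a + 1) ∣ Nat.card (stabilizer M x))
    (x y : Ω) (hxy : x ≠ y) : ∃ u : M, u • x = y ∧ u • y = x :=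
  swap_of_two_part' a h2 h1 x y hxy (h2' x y hxy)

end Cfsg.Agent.Lib.Helper4.KHom
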