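import Mathlib

set_option autoImplicit false
set_option maxHeartbeats 1000000

/-!
# S0748 (Livingstone–Wagner b), piece E: no sharply 6-transitive group of degree 13
-/

namespace Cfsg.Agent.Lib.Helper4.KHom

open MulAction

theorem no_sharp_13 {X Ω : Type*} [Group X] [Finite X] [MulAction X Ω] [Fintype Ω] (h13 : Fintype.card Ω = 13) (h6 : IsMultiplyPretransitive X Ω 6)
    (hrig : ∀ (g : X) (s : Finset Ω), 6 ≤ s.card → (∀ x ∈ s, g • x = x) → g = 1) : False := by
  classical
  have e : Ω ≃ Fin 13 := Fintype.equivFinOfCardEq h13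
  have hp : Function.Injective e.symm := e.symm.injective
  have trans6 : ∀ f f' : Fin 6 → Fin 13, Function.Injective f → Function.Injective f' →
      ∃ g : X, ∀ i, g • e.symm (f i) = e.symm (f' i) := by
    intro f f' hf hf'
    obtain ⟨g, hg⟩ := (isMultiplyPretransitive_iff.mp h6)
      (⟨fun i => e.symm (f i), hp.comp hf⟩ : Fin 6 ↪ Ω) ⟨fun i => e.symm (f' i), hp.comp hf'⟩
    refine ⟨g, fun i => ?_⟩
    have := DFunLike.congr_fun hg i
    simpa using this
  have rig : ∀ (g : X) (s : Finset (Fin 13)), 6 ≤ s.card →
      (∀ j ∈ s, g • e.symm j = e.symm j) → g = 1 := by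
    intro g s hs hfix
    apply hrig g (s.image e.symm)
    · rw [Finset.card_image_of_injective _ hp]; exact hs
    · intro x hx
      obtain ⟨j, hj, rfl⟩ := Finset.mem_image.mp hx
      exact hfix j hj
  -- the pointwise stabilizer of the first five points
  let B : Subgroup X :=
    { carrier := {b | ∀ j : Fin 13, j.val < 5 → b • e.symm j = e.symm j}
      mul_mem' := by
        intro a b ha hb j hj
        rw [mul_smul, hb j hj, ha j hj]
      one_mem' := by
        intro j _
        simp
      inv_mem' := by
        intro a ha j hj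
        rw [inv_smul_eq_iff, ha j hj] }
  have memB : ∀ b : X, b ∈ B ↔ ∀ j : Fin 13, j.val < 5 → b • e.symm j = e.symm j :=
    fun _ => Iff.rfl
  -- B is transitive on the other eight points
  have hsurj : ∀ j : Fin 13, 5 ≤ j.val → ∃ b ∈ B, b • e.symm 5 = e.symm j := by
    intro j hj
    have hf : Function.Injective (fun i : Fin 6 => (Fin.castLE (by omega) i : Fin 13)) :=
      Fin.castLE_injective _
    have hf' : Function.Injective
        (fun i : Fin 6 => if i.val < 5 then (Fin.castLE (by omega) i : Fin 13) else j) := by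
      intro a b hab
      simp only at hab
      by_cases ha : a.val < 5 <;> by_cases hb : b.val < 5
      · rw [if_pos ha, if_pos hb] at hab
        exact Fin.castLE_injective _ hab
      · rw [if_pos ha, if_neg hb] at hab
        have := congrArg Fin.val hab
        simp at this
        omega
      · rw [if_neg ha, if_pos hb] at hab
        have := congrArg Fin.val hab
        simp at this
        omega
      · apply Fin.ext
        have := a.isLt
        have := b.isLt
        omega
    obtain ⟨g, hg⟩ := trans6 _ _ hf hf'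
    refine ⟨g, ?_, ?_⟩
    · intro j' hj'
      have := hg ⟨j'.val, by omega⟩
      simp only at this
      rw [if_pos (by simpa using hj')] at this
      have e1 : (Fin.castLE (by omega) (⟨j'.val, by omega⟩ : Fin 6) : Fin 13) = j' := by
        apply Fin.ext; simp
      rwa [e1] at this
    · have := hg ⟨5, by omega⟩
      simp only at this
      rw [if_neg (by simp)] at this
      have e1 : (Fin.castLE (by omega) (⟨5, by omega⟩ : Fin 6) : Fin 13) = 5 := by
        apply Fin.ext; simp
      rwa [e1] at this
  -- B acts semiregularly off the five points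
  have hinj : ∀ b ∈ B, b • e.symm 5 = e.symm 5 → b = 1 := by
    intro b hb h5
    apply rig b (Finset.univ.filter (fun j : Fin 13 => j.val < 6))
    · decide
    · intro j hj
      rw [Finset.mem_filter] at hj
      by_cases h : j.val < 5
      · exact hb j h
      · have : j = 5 := by apply Fin.ext; simp; omega
        rw [this]; exact h5
  -- the element y0
  obtain ⟨y0, hy⟩ := trans6 ![0, 1, 2, 3, 4, 5] ![1, 2, 3, 4, 0, 5] (by decide) (by decide)
  have h0 : y0 • e.symm 0 = e.symm 1 := by simpa using hy 0
  have h1 : y0 • e.symm 1 = e.symm 2 := by simpa using hy 1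
  have h2 : y0 • e.symm 2 = e.symm 3 := by simpa using hy 2
  have h3 : y0 • e.symm 3 = e.symm 4 := by simpa using hy 3
  have h4 : y0 • e.symm 4 = e.symm 0 := by simpa using hy 4
  have h5 : y0 • e.symm 5 = e.symm 5 := by simpa using hy 5
  have hy1 : y0 ≠ 1 := by
    intro h
    rw [h, one_smul] at h0
    have := hp h0
    exact absurd this (by decide)
  have hy5 : y0 ^ 5 = 1 := by
    apply rig (y0 ^ 5) (Finset.univ.filter (fun j : Fin 13 => j.val < 6))
    · decide
    · intro j hj
      rw [Finset.mem_filter] at hj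
      have hj' := hj.2
      have : j = 0 ∨ j = 1 ∨ j = 2 ∨ j = 3 ∨ j = 4 ∨ j = 5 := by
        have := j.isLt
        rcases j with ⟨v, hv⟩
        simp only at hj'
        interval_cases v <;> simp
      rcases this with rfl | rfl | rfl | rfl | rfl | rfl <;>
        simp [pow_succ, mul_smul, h0, h1, h2, h3, h4, h5]
  have hpre : ∀ j : Fin 13, j.val < 5 → ∃ j' : Fin 13, j'.val < 5 ∧ y0 • e.symm j' = e.symm j := by
    intro j hj
    have : j = 0 ∨ j = 1 ∨ j = 2 ∨ j = 3 ∨ j = 4 := by
      rcases j with ⟨v, hv⟩
      simp only at hj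
      interval_cases v <;> simp
    rcases this with rfl | rfl | rfl | rfl | rfl
    · exact ⟨4, by decide, h4⟩
    · exact ⟨0, by decide, h0⟩
    · exact ⟨1, by decide, h1⟩
    · exact ⟨2, by decide, h2⟩
    · exact ⟨3, by decide, h3⟩
  have hnorm : ∀ b ∈ B, y0 * b * y0⁻¹ ∈ B := by
    intro b hb j hj
    obtain ⟨j', hj', hjj⟩ := hpre j hj
    have e1 : y0⁻¹ • e.symm j = e.symm j' := by rw [inv_smul_eq_iff, hjj]
    rw [mul_smul, mul_smul, e1, hb j' hj', hjj]
  -- |B| = 8
  have hout : ∀ b ∈ B, 5 ≤ (e (b • e.symm 5)).val := by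
    intro b hb
    by_contra hlt
    push Not at hlt
    have h1 := hb _ hlt
    rw [Equiv.symm_apply_apply] at h1
    have h2 : b • e.symm 5 = e.symm 5 := by
      have := smul_left_cancel b h1
      exact this
    have h3 : e (b • e.symm 5) = 5 := by rw [h2, Equiv.apply_symm_apply]
    rw [h3] at hlt
    exact absurd hlt (by decide)
  have hcardB : Nat.card B = 8 := by
    have hbij : Function.Bijective
        (fun b : B => (⟨e ((b : X) • e.symm 5), hout b.1 b.2⟩ : {j : Fin 13 // 5 ≤ j.val})) := by
      constructor
      · intro a b hab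
        have h1 : e ((a : X) • e.symm 5) = e ((b : X) • e.symm 5) := congrArg Subtype.val hab
        have h2 : (a : X) • e.symm 5 = (b : X) • e.symm 5 := e.injective h1
        have h3 : ((b : X)⁻¹ * (a : X)) • e.symm 5 = e.symm 5 := by
          rw [mul_smul, h2, inv_smul_smul]
        have h4 := hinj _ (B.mul_mem (B.inv_mem b.2) a.2) h3
        apply Subtype.ext
        have : (a : X) = (b : X) := by
          have := congrArg (fun z => (b : X) * z) h4
          simpa using this
        exact this
      · rintro ⟨j, hj⟩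
        obtain ⟨b, hb, hbj⟩ := hsurj j hj
        refine ⟨⟨b, hb⟩, ?_⟩
        apply Subtype.ext
        simp only
        rw [hbj, Equiv.apply_symm_apply]
    rw [Nat.card_congr (Equiv.ofBijective _ hbij)]
    rw [Nat.card_eq_fintype_card]
    decide
  -- conjugation by y0 on B
  haveI : Fintype B := Fintype.ofFinite _
  let c : Function.End B := fun b => ⟨y0 * b * y0⁻¹, hnorm b.1 b.2⟩
  have hcpow : ∀ (n : ℕ) (b : B), (((c ^ n : Function.End B) b : B) : X) =
      y0 ^ n * b * (y0 ^ n)⁻¹ := by
    intro n
    induction n with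
    | zero =>
      intro b
      have e0 : (c ^ 0 : Function.End B) b = b := by rw [pow_zero]; rfl
      rw [e0]; simp
    | succ n ih =>
      intro b
      have e1 : (c ^ (n + 1) : Function.End B) b = (c ^ n : Function.End B) (c b) := by
        rw [pow_succ]; rfl
      rw [e1, ih]
      show y0 ^ n * (y0 * b * y0⁻¹) * (y0 ^ n)⁻¹ = y0 ^ (n + 1) * b * (y0 ^ (n + 1))⁻¹
      rw [pow_succ]
      group
  have hc5 : c ^ 5 ^ 1 = 1 := by
    rw [pow_one]
    funext b
    apply Subtype.ext
    have e2 : (1 : Function.End B) b = b := rfl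
    rw [e2, hcpow 5 b, hy5]
    simp
  have : Fact (Nat.Prime 5) := ⟨by norm_num⟩
  have hmod := Equiv.Perm.card_fixedPoints_modEq (f := c) (p := 5) (n := 1) hc5
  let C : Subgroup B :=
    { carrier := {b | y0 * (b : X) * y0⁻¹ = b}
      mul_mem' := by
        intro a b ha hb
        change y0 * (a : X) * y0⁻¹ = a at ha; change y0 * (b : X) * y0⁻¹ = b at hb; change y0 * ((a * b : B) : X) * y0⁻¹ = ((a * b : B) : X)
        have : y0 * ((a * b : B) : X) * y0⁻¹ = (y0 * (a : X) * y0⁻¹) * (y0 * (b : X) * y0⁻¹) := by
          simp only [Subgroup.coe_mul]; group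
        rw [this, ha, hb]; rfl
      one_mem' := by simp
      inv_mem' := by
        intro a ha
        change y0 * (a : X) * y0⁻¹ = a at ha; change y0 * ((a⁻¹ : B) : X) * y0⁻¹ = ((a⁻¹ : B) : X)
        have : y0 * ((a⁻¹ : B) : X) * y0⁻¹ = (y0 * (a : X) * y0⁻¹)⁻¹ := by
          simp only [Subgroup.coe_inv]; group
        rw [this, ha]; rfl }
  have hfixC : Function.fixedPoints c = (C : Set B) := by
    ext b
    constructor
    · intro h
      exact congrArg Subtype.val (h : c b = b)
    · intro h
      exact (Subtype.ext h : c b = b)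
  have hcardC : Fintype.card (Function.fixedPoints c) = Nat.card C := by
    rw [← Nat.card_eq_fintype_card]
    exact Nat.card_congr (Equiv.setCongr hfixC)
  have hCdvd : Nat.card C ∣ 8 := by
    rw [← hcardB]; exact Subgroup.card_subgroup_dvd_card C
  have hC8 : Nat.card C = 8 := by
    rw [hcardC] at hmod
    have hB8 : Fintype.card B = 8 := by rw [← Nat.card_eq_fintype_card]; exact hcardB
    rw [hB8] at hmod
    have hle : Nat.card C ≤ 8 := Nat.le_of_dvd (by norm_num) hCdvd
    unfold Nat.ModEq at hmod
    generalize Nat.card C = k at *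
    interval_cases k <;> first | rfl | omega
  have hCtop : C = ⊤ := by
    rw [← Subgroup.card_eq_iff_eq_top, hC8, hcardB]
  have hcomm : ∀ b ∈ B, y0 * b * y0⁻¹ = b := by
    intro b hb
    have : (⟨b, hb⟩ : B) ∈ C := by rw [hCtop]; exact Subgroup.mem_top _
    exact this
  -- y0 fixes the eight other points
  have hfix8 : ∀ j : Fin 13, 5 ≤ j.val → y0 • e.symm j = e.symm j := by
    intro j hj
    obtain ⟨b, hb, hbj⟩ := hsurj j hj
    have h1 : y0 * b = b * y0 := by
      have := hcomm b hb
      calc y0 * b = (y0 * b * y0⁻¹) * y0 := by group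
        _ = b * y0 := by rw [this]
    rw [← hbj, ← mul_smul, h1, mul_smul, h5]
  apply hy1
  apply rig y0 (Finset.univ.filter (fun j : Fin 13 => 5 ≤ j.val))
  · decide
  · intro j hj
    rw [Finset.mem_filter] at hj
    exact hfix8 j hj.2

end Cfsg.Agent.Lib.Helper4.KHom
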