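import Mathlib

/-! Derived series of regular wreath products and of iterated wreath products. -/
set_option autoImplicit false
universe u
open scoped commutatorElement

namespace Cfsg.Agent.Lib.Helper4.SylSym

open RegularWreathProduct

section wreath

variable {D Q : Type u} [Group D] [Group Q]

theorem comm_right (a b : D ≀ᵣ Q) : (⁅a, b⁆).right = ⁅a.right, b.right⁆ := by
  simp only [commutatorElement_def, mul_right, inv_right]

theorem mul_left_of_right_eq_one (a b : D ≀ᵣ Q) (ha : a.right = 1) (x : Q) :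
    (a * b).left x = a.left x * b.left x := by
  rw [mul_left, ha]; simp

theorem inv_left_of_right_eq_one (a : D ≀ᵣ Q) (ha : a.right = 1) (x : Q) :
    (a⁻¹).left x = (a.left x)⁻¹ := by
  rw [inv_left, ha]; simp

theorem comm_left_of_right_eq_one (a b : D ≀ᵣ Q) (ha : a.right = 1) (hb : b.right = 1) (x : Q) :
    (⁅a, b⁆).left x = ⁅a.left x, b.left x⁆ := by
  have h1 : (a * b).right = 1 := by rw [mul_right, ha, hb, one_mul]
  have h2 : (a * b * a⁻¹).right = 1 := by rw [mul_right, h1, inv_right, ha]; simp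
  rw [commutatorElement_def, commutatorElement_def, mul_left_of_right_eq_one _ _ h2,
    mul_left_of_right_eq_one _ _ h1, mul_left_of_right_eq_one _ _ ha,
    inv_left_of_right_eq_one _ ha, inv_left_of_right_eq_one _ hb]

/-- elements of the base group with all coordinates in `H`. -/
def baseSub (H : Subgroup D) : Subgroup (D ≀ᵣ Q) where
  carrier := {w | w.right = 1 ∧ ∀ x, w.left x ∈ H}
  one_mem' := ⟨rfl, fun _ => one_mem _⟩
  mul_mem' := by
    rintro a b ⟨ha, ha'⟩ ⟨hb, hb'⟩
    refine ⟨by rw [mul_right, ha, hb, one_mul], fun x => ?_⟩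
    rw [mul_left_of_right_eq_one a b ha]
    exact mul_mem (ha' x) (hb' x)
  inv_mem' := by
    rintro a ⟨ha, ha'⟩
    refine ⟨by rw [inv_right, ha, inv_one], fun x => ?_⟩
    rw [inv_left_of_right_eq_one a ha]
    exact inv_mem (ha' x)

theorem mem_baseSub {H : Subgroup D} {w : D ≀ᵣ Q} :
    w ∈ baseSub (Q := Q) H ↔ w.right = 1 ∧ ∀ x, w.left x ∈ H := Iff.rfl

theorem commutator_baseSub_le (H : Subgroup D) :
    ⁅baseSub (Q := Q) H, baseSub (Q := Q) H⁆ ≤ baseSub ⁅H, H⁆ := by
  rw [Subgroup.commutator_le]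
  rintro a ⟨ha, ha'⟩ b ⟨hb, hb'⟩
  refine ⟨by rw [comm_right, ha, hb, commutatorElement_one_right], fun x => ?_⟩
  rw [comm_left_of_right_eq_one a b ha hb]
  exact Subgroup.commutator_mem_commutator (ha' x) (hb' x)

theorem derivedSeries_succ_le_baseSub (hQ : ∀ a b : Q, a * b = b * a) (j : ℕ) :
    derivedSeries (D ≀ᵣ Q) (j + 1) ≤ baseSub (derivedSeries D j) := by
  induction j with
  | zero =>
    rw [derivedSeries_succ, derivedSeries_zero, Subgroup.commutator_le]
    intro a _ b _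
    refine ⟨?_, fun x => Subgroup.mem_top _⟩
    rw [comm_right, commutatorElement_eq_one_iff_mul_comm]
    exact hQ _ _
  | succ j ih =>
    rw [derivedSeries_succ, derivedSeries_succ D]
    exact (Subgroup.commutator_mono ih ih).trans (commutator_baseSub_le _)

theorem baseSub_bot : baseSub (Q := Q) (⊥ : Subgroup D) = ⊥ := by
  rw [eq_bot_iff]
  rintro w ⟨hw, hw'⟩
  rw [Subgroup.mem_bot]
  ext x
  · exact Subgroup.mem_bot.mp (hw' x)
  · exact hw

/-- upper bound for the derived length of a wreath product with abelian top group. -/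
theorem derivedSeries_wreath_eq_bot (hQ : ∀ a b : Q, a * b = b * a) (k : ℕ)
    (hD : derivedSeries D k = ⊥) : derivedSeries (D ≀ᵣ Q) (k + 1) = ⊥ := by
  rw [eq_bot_iff]
  refine (derivedSeries_succ_le_baseSub hQ k).trans ?_
  rw [hD, baseSub_bot]

/-- lower bound: the first coordinate of the `(j+1)`-st derived subgroup covers the `j`-th
derived subgroup of `D`. -/
theorem exists_mem_derivedSeries_succ (q₀ : Q) (hq₀ : q₀ ≠ 1) (j : ℕ) :
    ∀ d ∈ derivedSeries D j, ∃ w ∈ derivedSeries (D ≀ᵣ Q) (j + 1), w.right = 1 ∧ w.left 1 = d := by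
  classical
  induction j with
  | zero =>
    intro d _
    refine ⟨⁅(⟨Pi.mulSingle 1 d, 1⟩ : D ≀ᵣ Q), ⟨1, q₀⟩⁆, ?_, ?_, ?_⟩
    · rw [derivedSeries_succ, derivedSeries_zero]
      exact Subgroup.commutator_mem_commutator (Subgroup.mem_top _) (Subgroup.mem_top _)
    · rw [comm_right]; simp
    · simp only [commutatorElement_def, mul_left, inv_left, mul_right, inv_right, Pi.mul_apply,
        Pi.inv_apply]
      have h1 : q₀⁻¹ ≠ 1 := by simpa using hq₀
      simp [Pi.mulSingle_apply, h1]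
  | succ j ih =>
    intro d hd
    rw [derivedSeries_succ] at hd
    rw [Subgroup.commutator_def] at hd
    induction hd using Subgroup.closure_induction with
    | mem d hd =>
      obtain ⟨d₁, hd₁, d₂, hd₂, rfl⟩ := hd
      obtain ⟨w₁, hw₁, hr₁, hl₁⟩ := ih d₁ hd₁
      obtain ⟨w₂, hw₂, hr₂, hl₂⟩ := ih d₂ hd₂
      refine ⟨⁅w₁, w₂⁆, ?_, ?_, ?_⟩
      · rw [derivedSeries_succ]
        exact Subgroup.commutator_mem_commutator hw₁ hw₂
      · rw [comm_right, hr₁, hr₂, commutatorElement_one_right]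
      · rw [comm_left_of_right_eq_one w₁ w₂ hr₁ hr₂, hl₁, hl₂]
    | one => exact ⟨1, one_mem _, rfl, rfl⟩
    | mul d₁ d₂ _ _ h₁ h₂ =>
      obtain ⟨w₁, hw₁, hr₁, hl₁⟩ := h₁
      obtain ⟨w₂, hw₂, hr₂, hl₂⟩ := h₂
      refine ⟨w₁ * w₂, mul_mem hw₁ hw₂, by rw [mul_right, hr₁, hr₂, one_mul], ?_⟩
      rw [mul_left_of_right_eq_one w₁ w₂ hr₁, hl₁, hl₂]
    | inv d _ h =>
      obtain ⟨w, hw, hr, hl⟩ := h
      refine ⟨w⁻¹, inv_mem hw, by rw [inv_right, hr, inv_one], ?_⟩
      rw [inv_left_of_right_eq_one w hr, hl]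

theorem derivedSeries_wreath_ne_bot (q₀ : Q) (hq₀ : q₀ ≠ 1) (j : ℕ)
    (hD : derivedSeries D j ≠ ⊥) : derivedSeries (D ≀ᵣ Q) (j + 1) ≠ ⊥ := by
  obtain ⟨d, hd1⟩ := (Subgroup.ne_bot_iff_exists_ne_one).mp hD
  obtain ⟨w, hw, -, hl⟩ := exists_mem_derivedSeries_succ (Q := Q) q₀ hq₀ j d.1 d.2
  intro h
  rw [h, Subgroup.mem_bot] at hw
  apply hd1
  have : (d : D) = 1 := by rw [← hl, hw]; rfl
  exact Subtype.ext this

end wreath

section iterated

variable (G : Type u) [Group G]

theorem derivedSeries_iterated_eq_bot (hG : ∀ a b : G, a * b = b * a) (n : ℕ) :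
    derivedSeries (IteratedWreathProduct G n) n = ⊥ := by
  induction n with
  | zero =>
    rw [eq_bot_iff]
    intro x _
    rw [Subgroup.mem_bot]
    exact Subsingleton.elim (α := PUnit) _ _
  | succ n ih =>
    exact derivedSeries_wreath_eq_bot (D := IteratedWreathProduct G n) (Q := G) hG n ih

theorem derivedSeries_iterated_ne_bot (g₀ : G) (hg₀ : g₀ ≠ 1) (n : ℕ) :
    derivedSeries (IteratedWreathProduct G (n + 1)) n ≠ ⊥ := by
  induction n with
  | zero =>
    rw [derivedSeries_zero]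
    intro h
    have h1 : ∀ x : IteratedWreathProduct G (0 + 1), x = 1 := fun x => by
      have : x ∈ (⊤ : Subgroup (IteratedWreathProduct G (0 + 1))) := Subgroup.mem_top x
      rw [h] at this
      exact Subgroup.mem_bot.mp this
    have h2 := h1 (⟨1, g₀⟩ : IteratedWreathProduct G 0 ≀ᵣ G)
    exact hg₀ (congrArg RegularWreathProduct.right h2)
  | succ n ih =>
    exact derivedSeries_wreath_ne_bot (D := IteratedWreathProduct G (n + 1)) (Q := G) g₀ hg₀ n ih

end iterated

end Cfsg.Agent.Lib.Helper4.SylSym
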