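import Mathlib
import Cfsg.Agent.Lib.Helper3.MSDefs
import Cfsg.Agent.Lib.Helper2.Cores

/-! S4125 MS farm, piece I1: the hypotheses pass to normal subgroups; faithful implies the non-faithful version. -/

set_option autoImplicit false
set_option linter.unusedVariables false
set_option linter.unusedSectionVars false
set_option linter.style.longLine false

namespace Cfsg.Agent.Lib.Helper3.MS

universe u v

variable {p q : ℕ} {H : Type u} [Group H] {V : Type v} [AddCommGroup V] [DistribMulAction H V]

/-- for a normal subgroup `N` of a finite group, `|N : N ∩ S|` divides `|G : S|` -/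
theorem h4_msi1_relIndex_dvd_index {G : Type*} [Group G] [Finite G] (S N : Subgroup G) [N.Normal] :
    S.relIndex N ∣ S.index := by
  have h0 := Cfsg.Agent.Lib.Helper2.card_sup_mul_card_inf S N
  have h1 : Nat.card S * S.relIndex (S ⊔ N) = Nat.card (S ⊔ N : Subgroup G) := by
    rw [← Subgroup.relIndex_bot_left, Subgroup.relIndex_mul_relIndex _ _ _ bot_le le_sup_left,
      Subgroup.relIndex_bot_left]
  have h2 : Nat.card (S ⊓ N : Subgroup G) * S.relIndex N = Nat.card N := by
    rw [← Subgroup.inf_relIndex_right, ← Subgroup.relIndex_bot_left,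
      Subgroup.relIndex_mul_relIndex _ _ _ bot_le inf_le_right, Subgroup.relIndex_bot_left]
  have h3 : S.relIndex (S ⊔ N) = S.relIndex N := by
    have hS : 0 < Nat.card S := Nat.card_pos
    have hSN : 0 < Nat.card (S ⊓ N : Subgroup G) := Nat.card_pos
    have h4 : Nat.card S * Nat.card (S ⊓ N : Subgroup G) * S.relIndex (S ⊔ N) =
        Nat.card S * Nat.card (S ⊓ N : Subgroup G) * S.relIndex N := by
      calc Nat.card S * Nat.card (S ⊓ N : Subgroup G) * S.relIndex (S ⊔ N)
          = (Nat.card S * S.relIndex (S ⊔ N)) * Nat.card (S ⊓ N : Subgroup G) := by ring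
        _ = Nat.card S * Nat.card N := by rw [h1, h0]
        _ = Nat.card S * (Nat.card (S ⊓ N : Subgroup G) * S.relIndex N) := by rw [h2]
        _ = Nat.card S * Nat.card (S ⊓ N : Subgroup G) * S.relIndex N := by ring
    exact Nat.eq_of_mul_eq_mul_left (Nat.mul_pos hS hSN) h4
  rw [← h3]
  exact Subgroup.relIndex_dvd_index_of_le le_sup_left

theorem Hyp.kerSub_eq_bot (h : Hyp p q H V) : kerSub H V = ⊥ := by
  rw [Subgroup.eq_bot_iff_forall]
  intro x hx
  exact h.faithful x hx

theorem Hyp.toHypNF (h : Hyp p q H V) : HypNF p q H V where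
  hp := h.hp
  hq := h.hq
  finH := h.finH
  finV := h.finV
  cardV := h.cardV
  copNF := by
    rw [h.kerSub_eq_bot, Subgroup.index_bot]
    exact h.cop
  orb := h.orb

theorem Hyp.of_normal (h : Hyp p q H V) (N : Subgroup H) (hN : N.Normal) : Hyp p q ↥N V := by
  have := h.finH
  have hst : ∀ v : V, MulAction.stabilizer ↥N v = (MulAction.stabilizer H v).subgroupOf N := by
    intro v
    ext n
    rw [MulAction.mem_stabilizer_iff, Subgroup.mem_subgroupOf, MulAction.mem_stabilizer_iff]
    rfl
  refine
    { hp := h.hp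
      hq := h.hq
      finH := inferInstance
      finV := h.finV
      cardV := h.cardV
      cop := Nat.Coprime.coprime_dvd_left (Subgroup.card_subgroup_dvd_card N) h.cop
      faithful := ?_
      orb := ?_ }
  · intro n hn
    apply Subtype.ext
    apply h.faithful (n : H)
    intro v
    exact hn v
  · intro v
    obtain ⟨a, ha⟩ := h.orb v
    have h1 : (MulAction.stabilizer ↥N v).index ∣ p ^ a := by
      rw [hst v, ← ha]
      exact h4_msi1_relIndex_dvd_index _ N
    obtain ⟨b, _, hb⟩ := (Nat.dvd_prime_pow h.hp).mp h1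
    exact ⟨b, hb⟩

end Cfsg.Agent.Lib.Helper3.MS
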