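import Mathlib
import Cfsg.Agent.Lib.Helper3.MSDefs

/-! S4125 MS farm, piece I2: the hypotheses (non-faithful version) pass to invariant subgroups of `V`. -/

set_option autoImplicit false
set_option linter.unusedVariables false
set_option linter.unusedSectionVars false
set_option linter.style.longLine false

namespace Cfsg.Agent.Lib.Helper3.MS

universe u v

variable {p q : ℕ} {H : Type u} [Group H] {V : Type v} [AddCommGroup V] [DistribMulAction H V]

theorem Hyp.sub (h : Hyp p q H V) (W : AddSubgroup V) (hW : ∀ x : H, ∀ w ∈ W, x • w ∈ W) :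
    @HypNF p q H _ ↥W _ (subAction W hW) := by
  have := h.finH
  have := h.finV
  letI : DistribMulAction H ↥W := subAction W hW
  refine
    { hp := h.hp
      hq := h.hq
      finH := h.finH
      finV := inferInstance
      cardV := ?_
      copNF := ?_
      orb := ?_ }
  · obtain ⟨n, hn⟩ := h.cardV
    have h1 : Nat.card ↥W ∣ q ^ n := by
      rw [← hn]
      exact AddSubgroup.card_addSubgroup_dvd_card W
    obtain ⟨m, _, hm⟩ := (Nat.dvd_prime_pow h.hq).mp h1
    exact ⟨m, hm⟩
  · exact Nat.Coprime.coprime_dvd_left (Subgroup.index_dvd_card _) h.cop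
  · intro w
    obtain ⟨a, ha⟩ := h.orb (w : V)
    refine ⟨a, ?_⟩
    rw [← ha]
    congr 1
    ext x
    rw [MulAction.mem_stabilizer_iff, MulAction.mem_stabilizer_iff]
    constructor
    · intro hx
      exact congrArg Subtype.val hx
    · intro hx
      exact Subtype.ext hx

end Cfsg.Agent.Lib.Helper3.MS
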