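import Mathlib
import Cfsg.Agent.Lib.Helper3.MSDefs

/-! S4125 MS farm, piece I3: the hypotheses (non-faithful version) pass to quotients of `V` by invariant subgroups. -/

set_option autoImplicit false
set_option linter.unusedVariables false
set_option linter.unusedSectionVars false
set_option linter.style.longLine false

namespace Cfsg.Agent.Lib.Helper3.MS

universe u v

variable {p q : ℕ} {H : Type u} [Group H] {V : Type v} [AddCommGroup V] [DistribMulAction H V]

theorem Hyp.quot (h : Hyp p q H V) (W : AddSubgroup V) (hW : ∀ x : H, ∀ w ∈ W, x • w ∈ W) :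
    @HypNF p q H _ (V ⧸ W) _ (quotAction W hW) := by
  have := h.finH
  have := h.finV
  letI : DistribMulAction H (V ⧸ W) := quotAction W hW
  refine
    { hp := h.hp
      hq := h.hq
      finH := h.finH
      finV := inferInstance
      cardV := ?_
      copNF := ?_
      orb := ?_ }
  · obtain ⟨n, hn⟩ := h.cardV
    have h1 : Nat.card (V ⧸ W) ∣ q ^ n := by
      rw [← hn]
      exact ⟨Nat.card ↥W, AddSubgroup.card_eq_card_quotient_mul_card_addSubgroup W⟩
    obtain ⟨m, _, hm⟩ := (Nat.dvd_prime_pow h.hq).mp h1
    exact ⟨m, hm⟩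
  · exact Nat.Coprime.coprime_dvd_left (Subgroup.index_dvd_card _) h.cop
  · intro zb
    induction zb using QuotientAddGroup.induction_on with
    | H z =>
      obtain ⟨a, ha⟩ := h.orb z
      have hle : MulAction.stabilizer H z ≤ MulAction.stabilizer H (QuotientAddGroup.mk z : V ⧸ W) := by
        intro x hx
        rw [MulAction.mem_stabilizer_iff] at hx ⊢
        have h1 := quotAction_mk W hW x z
        rw [hx] at h1
        exact h1
      have h1 := Subgroup.index_dvd_of_le hle
      rw [ha] at h1
      obtain ⟨b, _, hb⟩ := (Nat.dvd_prime_pow h.hp).mp h1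
      exact ⟨b, hb⟩

end Cfsg.Agent.Lib.Helper3.MS
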