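import Mathlib
import Cfsg.Agent.Lib.Helper3.MSDefs
import Cfsg.Agent.Lib.Helper1.MSF3

/-! S4125 MS farm, piece I4: the kernels on an invariant subgroup and on the quotient intersect trivially. -/

set_option autoImplicit false
set_option linter.unusedVariables false
set_option linter.unusedSectionVars false
set_option linter.style.longLine false

namespace Cfsg.Agent.Lib.Helper3.MS

universe u v

variable {p q : ℕ} {H : Type u} [Group H] {V : Type v} [AddCommGroup V] [DistribMulAction H V]

theorem Hyp.ker_inf_ker (h : Hyp p q H V) (W : AddSubgroup V) (hW : ∀ x : H, ∀ w ∈ W, x • w ∈ W) :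
    @kerSub H _ ↥W _ (subAction W hW) ⊓ @kerSub H _ (V ⧸ W) _ (quotAction W hW) = ⊥ := by
  have := h.finH
  have := h.finV
  rw [Subgroup.eq_bot_iff_forall]
  intro x hx
  obtain ⟨hx1, hx2⟩ := Subgroup.mem_inf.mp hx
  apply h.faithful x
  have h1 : ∀ w ∈ W, x • w = w := by
    intro w hw
    have := (@mem_kerSub H _ ↥W _ (subAction W hW) x).mp hx1 ⟨w, hw⟩
    exact congrArg Subtype.val this
  have h2 : ∀ v : V, x • v - v ∈ W := by
    intro v
    have h3 := (@mem_kerSub H _ (V ⧸ W) _ (quotAction W hW) x).mp hx2 (QuotientAddGroup.mk v)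
    rw [quotAction_mk W hW x v] at h3
    have h4 := QuotientAddGroup.eq.mp h3
    have h5 : x • v - v = -(-(x • v) + v) := by abel
    rw [h5]
    exact W.neg_mem h4
  exact stability_elem q h.cop h.cardV x W h1 h2

end Cfsg.Agent.Lib.Helper3.MS
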