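import Mathlib
import Cfsg.Agent.Lib.Helper3.MSDefs

/-! S4125 MS farm, piece I5: passing to the quotient by the kernel of the action. -/

set_option autoImplicit false
set_option linter.unusedVariables false
set_option linter.unusedSectionVars false
set_option linter.style.longLine false

namespace Cfsg.Agent.Lib.Helper3.MS

universe u v

variable {p q : ℕ} {H : Type u} [Group H] {V : Type v} [AddCommGroup V] [DistribMulAction H V]

theorem HypNF.quotKer (h : HypNF p q H V) :
    @Hyp p q (H ⧸ kerSub H V) _ V _ (quotGroupAction (kerSub H V) (fun k hk v => hk v)) := by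
  have := h.finH
  have := h.finV
  letI : DistribMulAction (H ⧸ kerSub H V) V := quotGroupAction (kerSub H V) (fun k hk v => hk v)
  have hsm : ∀ (x : H) (v : V), (QuotientGroup.mk x : H ⧸ kerSub H V) • v = x • v :=
    fun x v => quotGroupAction_mk (kerSub H V) (fun k hk v => hk v) x v
  refine
    { hp := h.hp
      hq := h.hq
      finH := inferInstance
      finV := h.finV
      cardV := h.cardV
      cop := ?_
      faithful := ?_
      orb := ?_ }
  · rw [← Subgroup.index_eq_card]
    exact h.copNF
  · intro xb hxb
    induction xb using QuotientGroup.induction_on with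
    | H x =>
      rw [QuotientGroup.eq_one_iff]
      intro v
      rw [← hsm x v]
      exact hxb v
  · intro v
    obtain ⟨a, ha⟩ := h.orb v
    refine ⟨a, ?_⟩
    rw [← ha]
    have hcomap : (MulAction.stabilizer (H ⧸ kerSub H V) v).comap (QuotientGroup.mk' (kerSub H V)) =
        MulAction.stabilizer H v := by
      ext x
      rw [Subgroup.mem_comap, MulAction.mem_stabilizer_iff, MulAction.mem_stabilizer_iff,
        QuotientGroup.mk'_apply, hsm]
    rw [← hcomap]
    exact (Subgroup.index_comap_of_surjective _ (QuotientGroup.mk'_surjective _)).symm

end Cfsg.Agent.Lib.Helper3.MS
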