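import Mathlib
import Cfsg.Agent.Lib.Helper3.MSDefs

/-! S4125 MS farm, piece I6: a group embedding in a product of two solvable quotients is solvable. -/

set_option autoImplicit false
set_option linter.unusedVariables false
set_option linter.unusedSectionVars false
set_option linter.style.longLine false

namespace Cfsg.Agent.Lib.Helper3.MS

theorem solvable_of_inf_eq_bot {G : Type*} [Group G] (K1 K2 : Subgroup G) [K1.Normal] [K2.Normal]
    (h12 : K1 ⊓ K2 = ⊥) (h1 : Group.IsSolvable (G ⧸ K1)) (h2 : Group.IsSolvable (G ⧸ K2)) :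
    Group.IsSolvable G := by
  let f : G →* (G ⧸ K1) × (G ⧸ K2) := (QuotientGroup.mk' K1).prod (QuotientGroup.mk' K2)
  have hf : Function.Injective f := by
    rw [injective_iff_map_eq_one]
    intro x hx
    have hx1 : QuotientGroup.mk' K1 x = 1 := congrArg Prod.fst hx
    have hx2 : QuotientGroup.mk' K2 x = 1 := congrArg Prod.snd hx
    rw [QuotientGroup.mk'_apply, QuotientGroup.eq_one_iff] at hx1 hx2
    have : x ∈ K1 ⊓ K2 := ⟨hx1, hx2⟩
    rw [h12, Subgroup.mem_bot] at this
    exact this
  exact Group.isSolvable_of_isSolvable_injective hf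

end Cfsg.Agent.Lib.Helper3.MS
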