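import Mathlib
import Cfsg.Agent.Lib.Helper3.NCSDefs
import Cfsg.Agent.Lib.Helper8.NCSComp

/-! S4135 piece P8 (helper3 farm): subgroups of the component act semiregularly on a class outside its
conjugates. -/

set_option autoImplicit false
set_option maxHeartbeats 4000000
set_option maxRecDepth 100000
set_option linter.unusedVariables false
set_option linter.unusedSectionVars false
set_option linter.style.longLine false

namespace Cfsg.Agent.Lib.Helper3.NCS

open Cfsg.Agent.Lib.Helper7.TC

/-- class equation when all stabilizers have the same index -/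
theorem semireg_dvd_card_of_index {Q : Type*} [Group Q] {β : Type*} [MulAction Q β] [Finite β]
    (k : ℕ) (h : ∀ b : β, (MulAction.stabilizer Q b).index = k) : k ∣ Nat.card β := by
  classical
  have e := MulAction.selfEquivSigmaOrbitsQuotientStabilizer Q β
  have hfin : Finite (MulAction.orbitRel.Quotient Q β) := Quotient.finite _
  haveI := Fintype.ofFinite (MulAction.orbitRel.Quotient Q β)
  have hfin2 : ∀ ω : MulAction.orbitRel.Quotient Q β,
      Finite (Q ⧸ MulAction.stabilizer Q ω.out) := by
    intro ω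
    apply Nat.finite_of_card_ne_zero
    have := h ω.out
    rw [Subgroup.index] at this
    rw [this]
    intro hk
    -- k = 0 impossible: the orbit is finite and nonempty
    have h2 : (MulAction.stabilizer Q ω.out).index = (MulAction.orbit Q ω.out).ncard :=
      MulAction.index_stabilizer Q ω.out
    rw [h ω.out, hk] at h2
    have hne : (MulAction.orbit Q ω.out).Nonempty := ⟨_, MulAction.mem_orbit_self _⟩
    have hfo : (MulAction.orbit Q ω.out).Finite := Set.toFinite _
    have := (Set.ncard_eq_zero hfo).1 h2.symm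
    rw [this] at hne
    exact Set.not_nonempty_empty hne
  rw [Nat.card_congr e, Nat.card_sigma]
  have : ∀ ω : MulAction.orbitRel.Quotient Q β,
      Nat.card (Q ⧸ MulAction.stabilizer Q ω.out) = k := fun ω => h ω.out
  simp only [this, Finset.sum_const, smul_eq_mul]
  exact Dvd.intro_left _ rfl

/-- for `N` normal the relative index of `H` in `N` divides the index of `H` -/
theorem semireg_relIndex_dvd_index {G : Type*} [Group G] [Finite G] (H N : Subgroup G) [N.Normal] :
    H.relIndex N ∣ H.index := by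
  have h1 : (H ⊓ N).relIndex H * H.index = (H ⊓ N).index := Subgroup.relIndex_mul_index inf_le_left
  have h2 : (H ⊓ N).relIndex N * N.index = (H ⊓ N).index := Subgroup.relIndex_mul_index inf_le_right
  rw [Subgroup.inf_relIndex_left] at h1
  rw [Subgroup.inf_relIndex_right] at h2
  obtain ⟨t, ht⟩ := Subgroup.relIndex_dvd_index_of_normal N H
  have hpos : 0 < N.relIndex H := by
    apply Nat.pos_of_ne_zero
    rw [Subgroup.relIndex]
    exact Subgroup.index_ne_zero_of_finite
  refine ⟨t, ?_⟩
  have h3 : N.relIndex H * H.index = N.relIndex H * (H.relIndex N * t) := by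
    rw [h1, ← h2, ht]; ring
  exact Nat.eq_of_mul_eq_mul_left hpos h3

variable {G : Type*} [Group G] [Finite G]

/-! ## P8 : subgroups of the component act semiregularly on a class outside its conjugates -/

theorem semireg_dvd {N : Subgroup G} {m r : ℕ} [Fact r.Prime] (hS : Setup N m r)
    (hNab : ¬ ∀ x ∈ N, ∀ y ∈ N, x * y = y * x) {y : G} (hy : IsComp N r y) {X : Subgroup G}
    (hXN : X ≤ N) (hXC : X ≤ cent y) : (Subgroup.center G).relIndex X ∣ m := by
  have hNn : N.Normal := hS.hyp.normal
  -- step 1: an element of `N` with no `N`-conjugate in `cent y`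
  have hex : ∃ g0 ∈ N, ∀ c ∈ N, c⁻¹ * g0 * c ∉ cent y := by
    by_contra hcon
    push Not at hcon
    have hcov : ∀ g : ↥N, ∃ c : ↥N, c⁻¹ * g * c ∈ (cent y).subgroupOf N := by
      intro g
      obtain ⟨c, hc, hmem⟩ := hcon g g.2
      exact ⟨⟨c, hc⟩, by rw [Subgroup.mem_subgroupOf]; simpa using hmem⟩
    have htop := Cfsg.Agent.Lib.Helper3.eq_top_of_conj_cover ((cent y).subgroupOf N) hcov
    have hle : N ≤ cent y := by
      intro n hn
      have : (⟨n, hn⟩ : ↥N) ∈ (cent y).subgroupOf N := by rw [htop]; exact Subgroup.mem_top _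
      rw [Subgroup.mem_subgroupOf] at this
      exact this
    apply hNab
    intro a ha b hb
    exact comp_central hS hy b hb (hle hb) a (hle ha)
  obtain ⟨g0, hg0N, hg0⟩ := hex
  have hg0Z : g0 ∉ Subgroup.center G := by
    intro hz
    have := hg0 1 N.one_mem
    apply this
    simp only [inv_one, one_mul, mul_one]
    exact center_le_cent y hz
  have hm : (cent g0).index = m := index_eq hS.hyp hg0N hg0Z
  -- the action of `X` (inside `N`) on the cosets of `C_N(g0)` in `N`
  have hstab : ∀ b : ↥N ⧸ (cent g0).subgroupOf N,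
      (MulAction.stabilizer (↥(X.subgroupOf N)) b).index = (Subgroup.center G).relIndex X := by
    intro b
    obtain ⟨n, rfl⟩ := QuotientGroup.mk_surjective b
    have hEq : MulAction.stabilizer (↥(X.subgroupOf N)) (n : ↥N ⧸ (cent g0).subgroupOf N) =
        ((Subgroup.center G).subgroupOf N).subgroupOf (X.subgroupOf N) := by
      ext q
      rw [MulAction.mem_stabilizer_iff, Subgroup.mem_subgroupOf, Subgroup.mem_subgroupOf]
      have hsm : q • (n : ↥N ⧸ (cent g0).subgroupOf N) =
          (((q : ↥N) * n : ↥N) : ↥N ⧸ (cent g0).subgroupOf N) := rfl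
      rw [hsm, QuotientGroup.eq, Subgroup.mem_subgroupOf, mem_cent]
      have hqX : ((q : ↥N) : G) ∈ X := by
        have := q.2
        rw [Subgroup.mem_subgroupOf] at this
        exact this
      constructor
      · intro hcomm
        by_contra hqZ
        -- `q` noncentral in `X`: its centralizer is `cent y`
        have hce := comp_cent_eq hS hy ((q : ↥N) : G) (hXN hqX) (hXC hqX) hqZ
        -- `q` commutes with `n g0 n⁻¹`
        have h1 : (n : G) * g0 * (n : G)⁻¹ ∈ cent (((q : ↥N) : G)) := by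
          rw [mem_cent]
          have h2 : ((((q : ↥N) * n)⁻¹ * n : ↥N) : G) * g0 = g0 * ((((q : ↥N) * n)⁻¹ * n : ↥N) : G) := hcomm
          simp only [Subgroup.coe_mul, Subgroup.coe_inv, mul_inv_rev] at h2
          -- h2 : n⁻¹ q⁻¹ n g0 = g0 n⁻¹ q⁻¹ n
          have h3 : ((q : ↥N) : G)⁻¹ * ((n : G) * g0 * (n : G)⁻¹) =
              ((n : G) * g0 * (n : G)⁻¹) * ((q : ↥N) : G)⁻¹ := by
            calc ((q : ↥N) : G)⁻¹ * ((n : G) * g0 * (n : G)⁻¹)
                = (n : G) * (((n : G)⁻¹ * ((q : ↥N) : G)⁻¹ * (n : G)) * g0) * (n : G)⁻¹ := by group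
              _ = (n : G) * (g0 * ((n : G)⁻¹ * ((q : ↥N) : G)⁻¹ * (n : G))) * (n : G)⁻¹ := by rw [h2]
              _ = ((n : G) * g0 * (n : G)⁻¹) * ((q : ↥N) : G)⁻¹ := by group
          -- invert
          have h4 : ((n : G) * g0 * (n : G)⁻¹) * ((q : ↥N) : G) =
              ((q : ↥N) : G) * ((n : G) * g0 * (n : G)⁻¹) := by
            calc ((n : G) * g0 * (n : G)⁻¹) * ((q : ↥N) : G)
                = ((q : ↥N) : G) * (((q : ↥N) : G)⁻¹ * ((n : G) * g0 * (n : G)⁻¹)) * ((q : ↥N) : G) := by group
              _ = ((q : ↥N) : G) * (((n : G) * g0 * (n : G)⁻¹) * ((q : ↥N) : G)⁻¹) * ((q : ↥N) : G) := by rw [h3]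
              _ = ((q : ↥N) : G) * ((n : G) * g0 * (n : G)⁻¹) := by group
          exact h4
        rw [hce] at h1
        have h5 := hg0 ((n : G)⁻¹) (N.inv_mem n.2)
        apply h5
        simpa using h1
      · intro hqZ
        rw [Subgroup.mem_center_iff] at hqZ
        simp only [Subgroup.coe_mul, Subgroup.coe_inv, mul_inv_rev]
        have hq' : ∀ g : G, g * ((q : ↥N) : G)⁻¹ = ((q : ↥N) : G)⁻¹ * g := by
          intro g
          have := hqZ g
          calc g * ((q : ↥N) : G)⁻¹ = ((q : ↥N) : G)⁻¹ * (((q : ↥N) : G) * g) * ((q : ↥N) : G)⁻¹ := by group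
            _ = ((q : ↥N) : G)⁻¹ * (g * ((q : ↥N) : G)) * ((q : ↥N) : G)⁻¹ := by rw [this]
            _ = ((q : ↥N) : G)⁻¹ * g := by group
        calc (n : G)⁻¹ * ((q : ↥N) : G)⁻¹ * (n : G) * g0
            = ((n : G)⁻¹ * ((q : ↥N) : G)⁻¹) * ((n : G) * g0) := by group
          _ = ((q : ↥N) : G)⁻¹ * (n : G)⁻¹ * ((n : G) * g0) := by rw [hq' ((n : G)⁻¹)]
          _ = ((q : ↥N) : G)⁻¹ * g0 := by group
          _ = g0 * ((q : ↥N) : G)⁻¹ := by rw [hq' g0]
          _ = g0 * ((n : G)⁻¹ * (n : G)) * ((q : ↥N) : G)⁻¹ := by group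
          _ = g0 * (n : G)⁻¹ * ((n : G) * ((q : ↥N) : G)⁻¹) := by group
          _ = g0 * (n : G)⁻¹ * (((q : ↥N) : G)⁻¹ * (n : G)) := by rw [hq' (n : G)]
          _ = g0 * ((n : G)⁻¹ * ((q : ↥N) : G)⁻¹ * (n : G)) := by group
    rw [hEq]
    show ((Subgroup.center G).subgroupOf N).relIndex (X.subgroupOf N) = _
    exact Subgroup.relIndex_subgroupOf hXN
  have h1 := semireg_dvd_card_of_index (Q := ↥(X.subgroupOf N))
    (β := ↥N ⧸ (cent g0).subgroupOf N) _ hstab
  have h2 : Nat.card (↥N ⧸ (cent g0).subgroupOf N) = (cent g0).relIndex N := rfl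
  rw [h2] at h1
  have h3 := semireg_relIndex_dvd_index (cent g0) N
  rw [hm] at h3
  exact h1.trans h3

end Cfsg.Agent.Lib.Helper3.NCS
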