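import Mathlib

/-!
Square matrices over `ZMod p` packed into one natural number, one lane of `b` bits for each entry (row by row),
with a multiplication that needs few kernel steps: the columns of the left factor are spread out by a shift and
a mask, and multiplied by the rows of the right factor as whole numbers (the lanes are wide enough for the
sums of products not to overflow); then the lanes are reduced modulo `p`.
-/

namespace Cfsg.Agent.Lib.Helper4.LaneMat

open Finset

/-- the digit at position `k` in base `B` -/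
def dg (B X k : ℕ) : ℕ := X / B ^ k % B

theorem dg_lt {B : ℕ} (hB : 0 < B) (X k : ℕ) : dg B X k < B := Nat.mod_lt _ hB

theorem sum_lt {B : ℕ} (N : ℕ) (f : ℕ → ℕ) (hf : ∀ k, k < N → f k < B) :
    ∑ k ∈ range N, f k * B ^ k < B ^ N := by
  induction N with
  | zero => simp
  | succ N ih =>
    rw [sum_range_succ, pow_succ]
    have h1 := ih fun k hk => hf k (Nat.lt_succ_of_lt hk)
    have h2 : f N + 1 ≤ B := hf N (Nat.lt_succ_self N)
    have h3 : (f N + 1) * B ^ N ≤ B * B ^ N := Nat.mul_le_mul_right _ h2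
    nlinarith

theorem dg_sum {B : ℕ} (N : ℕ) (f : ℕ → ℕ) (hf : ∀ k, k < N → f k < B) (t : ℕ) (ht : t < N) :
    dg B (∑ k ∈ range N, f k * B ^ k) t = f t := by
  induction N with
  | zero => omega
  | succ N ih =>
    have hB : 0 < B := by have := hf t ht; omega
    have hf' : ∀ k, k < N → f k < B := fun k hk => hf k (Nat.lt_succ_of_lt hk)
    have hlt := sum_lt N f hf'
    rw [sum_range_succ]
    rcases Nat.lt_succ_iff_lt_or_eq.1 ht with h | h
    · have e : f N * B ^ N = B ^ t * (f N * B ^ (N - t - 1) * B) := by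
        have e1 : B ^ N = B ^ t * (B ^ (N - t - 1) * B) := by
          rw [← pow_succ, ← pow_add]; congr 1; omega
        rw [e1]; ring
      unfold dg
      rw [e, Nat.add_mul_div_left _ _ (pow_pos hB t), Nat.add_mul_mod_self_right]
      exact ih hf' h
    · subst h
      unfold dg
      rw [Nat.add_mul_div_right _ _ (pow_pos hB t), Nat.div_eq_of_lt hlt, zero_add]
      exact Nat.mod_eq_of_lt (hf t ht)

theorem dg_succ (B X k : ℕ) : dg B X (k + 1) = dg B (X / B) k := by
  unfold dg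
  rw [pow_succ', Nat.div_div_eq_div_mul]

theorem expand {B : ℕ} (N : ℕ) (X : ℕ) (hX : X < B ^ N) :
    X = ∑ k ∈ range N, dg B X k * B ^ k := by
  induction N generalizing X with
  | zero => simp at hX; simp [hX]
  | succ N ih =>
    have hB : 0 < B := by
      rcases Nat.eq_zero_or_pos B with h | h
      · subst h; simp at hX
      · exact h
    have h1 : X / B < B ^ N := by
      rw [Nat.div_lt_iff_lt_mul hB, ← pow_succ]; exact hX
    rw [sum_range_succ']
    have h2 := ih (X / B) h1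
    have h3 : ∑ k ∈ range N, dg B X (k + 1) * B ^ (k + 1) = B * ∑ k ∈ range N, dg B (X / B) k * B ^ k := by
      rw [mul_sum]
      apply sum_congr rfl
      intro k _
      rw [dg_succ]; ring
    rw [h3, ← h2]
    unfold dg
    rw [pow_zero, Nat.div_one, mul_one, add_comm]
    exact (Nat.mod_add_div X B).symm

theorem dg_div (B X j k : ℕ) : dg B (X / B ^ j) k = dg B X (j + k) := by
  unfold dg
  rw [Nat.div_div_eq_div_mul, ← pow_add]

theorem dg_mod {B : ℕ} (X n k : ℕ) (hk : k < n) : dg B (X % B ^ n) k = dg B X k := by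
  unfold dg
  have e : B ^ n = B ^ k * B ^ (n - k) := by rw [← pow_add]; congr 1; omega
  rw [e, Nat.mod_mul_right_div_self]
  have : B ∣ B ^ (n - k) := dvd_pow_self B (by omega)
  exact Nat.mod_mod_of_dvd _ this

/-- lanes of a bitwise `and` -/
theorem dg_and (b X M k : ℕ) : dg (2 ^ b) (X &&& M) k = dg (2 ^ b) X k &&& dg (2 ^ b) M k := by
  unfold dg
  rw [← pow_mul, ← Nat.shiftRight_eq_div_pow, ← Nat.shiftRight_eq_div_pow, ← Nat.shiftRight_eq_div_pow,
    Nat.shiftRight_and_distrib, Nat.and_mod_two_pow]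

theorem dg_two_level {B : ℕ} (X n i k : ℕ) (hk : k < n) :
    dg B (dg (B ^ n) X i) k = dg B X (n * i + k) := by
  have h : dg (B ^ n) X i = (X / B ^ (n * i)) % B ^ n := by unfold dg; rw [← pow_mul]
  rw [h, dg_mod _ _ _ hk, dg_div]

theorem dg_small {B : ℕ} (d k : ℕ) (hd : d < B) : dg B d k = if k = 0 then d else 0 := by
  unfold dg
  split_ifs with h
  · subst h; simp [Nat.mod_eq_of_lt hd]
  · have h1 : d < B ^ k := lt_of_lt_of_le hd (Nat.le_self_pow h B)
    rw [Nat.div_eq_of_lt h1, Nat.zero_mod]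

theorem sum_map_range {M : Type*} [AddCommMonoid M] (f : ℕ → M) (n : ℕ) :
    ((List.range n).map f).sum = ∑ i ∈ Finset.range n, f i := by
  induction n with
  | zero => simp
  | succ n ih => rw [List.range_succ, List.map_append, List.sum_append, ih, Finset.sum_range_succ]; simp

section Mat

variable (n b : ℕ)

/-- entry `(i, j)`: the lane `n * i + j` -/
def ent (X i j : ℕ) : ℕ := dg (2 ^ b) X (n * i + j)

/-- the mask of the lanes `n * i` -/
def maskCol : ℕ := ((List.range n).map fun i => (2 ^ b - 1) <<< (b * n * i)).sum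

/-- the product without reduction of the lanes -/
def mulU (MC X Y : ℕ) : ℕ :=
  ((List.range n).map fun j => ((X >>> (b * j)) &&& MC) * ((Y >>> (b * n * j)) % 2 ^ (b * n))).sum

/-- reduction of the lanes modulo `p` -/
def redA (p Z : ℕ) : ℕ := ((List.range (n * n)).map fun m => (dg (2 ^ b) Z m % p) <<< (b * m)).sum

/-- the product -/
def mul (p MC X Y : ℕ) : ℕ := redA n b p (mulU n b MC X Y)

/-- the identity matrix -/
def idL : ℕ := ((List.range (n * n)).map fun m => (if m / n = m % n then 1 else 0) <<< (b * m)).sum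

theorem maskCol_eq : maskCol n b = ∑ i ∈ range n, (2 ^ b - 1) * ((2 ^ b) ^ n) ^ i := by
  unfold maskCol
  rw [sum_map_range]
  apply sum_congr rfl
  intro i _
  rw [Nat.shiftLeft_eq, ← pow_mul, ← pow_mul, mul_assoc]

theorem col_spread (hn : 0 < n) (hb : 0 < b) (X j : ℕ) :
    (X >>> (b * j)) &&& maskCol n b = ∑ i ∈ range n, ent n b X i j * ((2 ^ b) ^ n) ^ i := by
  have hB1 : 1 < 2 ^ b := Nat.one_lt_two_pow hb.ne'
  have hBQ : 2 ^ b - 1 < (2 ^ b) ^ n := by
    have : 2 ^ b ≤ (2 ^ b) ^ n := Nat.le_self_pow hn.ne' _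
    omega
  have hMC : maskCol n b < ((2 ^ b) ^ n) ^ n := by
    rw [maskCol_eq]
    exact sum_lt n _ fun _ _ => hBQ
  have hC : (X >>> (b * j)) &&& maskCol n b < ((2 ^ b) ^ n) ^ n := lt_of_le_of_lt Nat.and_le_right hMC
  have hQ : 0 < (2 ^ b) ^ n := by positivity
  rw [expand n _ hC]
  apply sum_congr rfl
  intro i hi
  congr 1
  have h1 : dg ((2 ^ b) ^ n) ((X >>> (b * j)) &&& maskCol n b) i < (2 ^ b) ^ n := dg_lt hQ _ _
  have hd : ∀ k, k < n → dg (2 ^ b) (dg ((2 ^ b) ^ n) ((X >>> (b * j)) &&& maskCol n b) i) k =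
      if k = 0 then ent n b X i j else 0 := by
    intro k hk
    have e1 : dg (2 ^ b) (X >>> (b * j)) (n * i + k) = dg (2 ^ b) X (j + (n * i + k)) := by
      rw [Nat.shiftRight_eq_div_pow, pow_mul, dg_div]
    have e2 : dg (2 ^ b) (maskCol n b) (n * i + k) = if k = 0 then 2 ^ b - 1 else 0 := by
      rw [← dg_two_level (maskCol n b) n i k hk, maskCol_eq, dg_sum n _ (fun _ _ => hBQ) i (mem_range.1 hi),
        dg_small _ _ (by omega)]
    rw [dg_two_level _ _ _ _ hk, dg_and, e1, e2]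
    split_ifs with hk0
    · subst hk0
      rw [Nat.and_two_pow_sub_one_eq_mod, add_zero, ent, add_comm, Nat.mod_eq_of_lt (dg_lt (by positivity) _ _)]
    · exact Nat.and_zero _
  rw [expand n _ h1, sum_congr rfl fun k hk => by rw [hd k (mem_range.1 hk)]]
  rw [sum_eq_single 0]
  · simp
  · intro k _ hk; simp [hk]
  · intro h; exact absurd (mem_range.2 hn) h

theorem row_eq (Y j : ℕ) :
    (Y >>> (b * n * j)) % 2 ^ (b * n) = ∑ k ∈ range n, ent n b Y j k * (2 ^ b) ^ k := by
  have hlt : (Y >>> (b * n * j)) % 2 ^ (b * n) < (2 ^ b) ^ n := by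
    rw [← pow_mul]; exact Nat.mod_lt _ (by positivity)
  rw [expand n _ hlt]
  apply sum_congr rfl
  intro k hk
  congr 1
  rw [pow_mul, dg_mod _ _ _ (mem_range.1 hk), Nat.shiftRight_eq_div_pow, mul_assoc, pow_mul, dg_div]
  rfl

theorem mulU_eq (hn : 0 < n) (hb : 0 < b) (X Y : ℕ) :
    mulU n b (maskCol n b) X Y = ∑ i ∈ range n,
      (∑ k ∈ range n, (∑ j ∈ range n, ent n b X i j * ent n b Y j k) * (2 ^ b) ^ k) * ((2 ^ b) ^ n) ^ i := by
  unfold mulU
  rw [sum_map_range]
  have step1 : ∀ j ∈ range n, ((X >>> (b * j)) &&& maskCol n b) * ((Y >>> (b * n * j)) % 2 ^ (b * n)) =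
      ∑ i ∈ range n, ∑ k ∈ range n, ent n b X i j * ent n b Y j k * (2 ^ b) ^ k * ((2 ^ b) ^ n) ^ i := by
    intro j _
    rw [col_spread n b hn hb, row_eq, sum_mul]
    apply sum_congr rfl
    intro i _
    rw [mul_sum]
    apply sum_congr rfl
    intro k _
    ring
  rw [sum_congr rfl step1, sum_comm]
  apply sum_congr rfl
  intro i _
  rw [sum_comm, sum_mul]
  apply sum_congr rfl
  intro k _
  rw [sum_mul, sum_mul]

theorem idx_lt {n i k : ℕ} (hi : i < n) (hk : k < n) : n * i + k < n * n := by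
  have : n * (i + 1) ≤ n * n := Nat.mul_le_mul_left _ hi
  rw [Nat.mul_add, mul_one] at this
  omega

theorem ent_mulU (hn : 0 < n) (hb : 0 < b) (p X Y : ℕ)
    (hX : ∀ i, i < n → ∀ j, j < n → ent n b X i j < p) (hY : ∀ i, i < n → ∀ j, j < n → ent n b Y i j < p)
    (hp : n * (p - 1) ^ 2 < 2 ^ b) {i k : ℕ} (hi : i < n) (hk : k < n) :
    ent n b (mulU n b (maskCol n b) X Y) i k = ∑ j ∈ range n, ent n b X i j * ent n b Y j k := by
  have hg : ∀ i k, i < n → k < n → (∑ j ∈ range n, ent n b X i j * ent n b Y j k) < 2 ^ b := by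
    intro i k hi hk
    calc (∑ j ∈ range n, ent n b X i j * ent n b Y j k) ≤ ∑ j ∈ range n, (p - 1) * (p - 1) := by
          apply sum_le_sum
          intro j hj
          exact Nat.mul_le_mul (Nat.le_pred_of_lt (hX i hi j (mem_range.1 hj)))
            (Nat.le_pred_of_lt (hY j (mem_range.1 hj) k hk))
      _ = n * (p - 1) ^ 2 := by rw [sum_const, card_range, smul_eq_mul, pow_two]
      _ < 2 ^ b := hp
  have hS : ∀ i, i < n → (∑ k ∈ range n, (∑ j ∈ range n, ent n b X i j * ent n b Y j k) * (2 ^ b) ^ k)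
      < (2 ^ b) ^ n := fun i hi => sum_lt n _ fun k hk => hg i k hi hk
  rw [mulU_eq n b hn hb]
  show dg (2 ^ b) _ (n * i + k) = _
  rw [← dg_two_level _ _ _ _ hk, dg_sum n _ hS i hi, dg_sum n _ (fun k hk => hg i k hi hk) k hk]

theorem ent_redA (p Z : ℕ) (hp0 : 0 < p) (hp : p ≤ 2 ^ b) {i k : ℕ} (hi : i < n) (hk : k < n) :
    ent n b (redA n b p Z) i k = ent n b Z i k % p := by
  unfold ent redA
  rw [sum_map_range]
  have h : ∀ m ∈ range (n * n), (dg (2 ^ b) Z m % p) <<< (b * m) = (dg (2 ^ b) Z m % p) * (2 ^ b) ^ m := by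
    intro m _
    rw [Nat.shiftLeft_eq, pow_mul]
  rw [sum_congr rfl h, dg_sum (n * n) _ (fun m _ => lt_of_lt_of_le (Nat.mod_lt _ hp0) hp) _ (idx_lt hi hk)]

theorem idx_div {n i k : ℕ} (hk : k < n) : (n * i + k) / n = i := by
  have hn : 0 < n := by omega
  rw [Nat.mul_add_div hn, Nat.div_eq_of_lt hk, add_zero]

theorem idx_mod {n i k : ℕ} (hk : k < n) : (n * i + k) % n = k := by
  rw [Nat.mul_add_mod, Nat.mod_eq_of_lt hk]

theorem ent_idL (hb : 0 < b) {i k : ℕ} (hi : i < n) (hk : k < n) :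
    ent n b (idL n b) i k = if i = k then 1 else 0 := by
  have hB1 : 1 < 2 ^ b := Nat.one_lt_two_pow hb.ne'
  unfold ent idL
  rw [sum_map_range]
  have h : ∀ m ∈ range (n * n), (if m / n = m % n then 1 else 0) <<< (b * m) =
      (if m / n = m % n then 1 else 0) * (2 ^ b) ^ m := by
    intro m _
    rw [Nat.shiftLeft_eq, pow_mul]
  rw [sum_congr rfl h, dg_sum (n * n) _ (fun m _ => by split_ifs <;> omega) _ (idx_lt hi hk),
    idx_div hk, idx_mod hk]

/-- the mask of the lowest bit of each lane -/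
def mask1 : ℕ := ((List.range (n * n)).map fun m => 1 <<< (b * m)).sum

theorem ent_and_mask1 (hb : 0 < b) (Z : ℕ) {i k : ℕ} (hi : i < n) (hk : k < n) :
    ent n b (Z &&& mask1 n b) i k = ent n b Z i k % 2 := by
  have hB1 : 1 < 2 ^ b := Nat.one_lt_two_pow hb.ne'
  have h1 : ent n b (mask1 n b) i k = 1 := by
    unfold ent mask1
    rw [sum_map_range]
    have h : ∀ m ∈ range (n * n), 1 <<< (b * m) = 1 * (2 ^ b) ^ m := by
      intro m _
      rw [Nat.shiftLeft_eq, pow_mul]
    rw [sum_congr rfl h, dg_sum (n * n) (fun _ => 1) (fun m _ => hB1) _ (idx_lt hi hk)]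
  show dg (2 ^ b) _ _ = _
  rw [dg_and]
  show ent n b Z i k &&& ent n b (mask1 n b) i k = _
  rw [h1, Nat.and_one_is_mod]

end Mat

/-- a format of packed matrices: dimension, lane width, modulus, column mask, reduction of the lanes -/
structure Cfg where
  n : ℕ
  b : ℕ
  p : ℕ
  MC : ℕ
  red : ℕ → ℕ
  hn : 0 < n
  hb : 0 < b
  hp : 1 < p
  hpb : n * (p - 1) ^ 2 < 2 ^ b
  hMC : MC = maskCol n b
  hred : ∀ Z i k, i < n → k < n → ent n b (red Z) i k = ent n b Z i k % p

namespace Cfg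

variable (C : Cfg)

theorem p_le : C.p ≤ 2 ^ C.b := by
  have h1 := C.hpb
  have h2 := C.hn
  have h3 := C.hp
  have h4 : C.p - 1 ≤ (C.p - 1) ^ 2 := Nat.le_self_pow (by norm_num) _
  have h5 : (C.p - 1) ^ 2 ≤ C.n * (C.p - 1) ^ 2 := Nat.le_mul_of_pos_left _ h2
  omega

/-- the product -/
def mul (X Y : ℕ) : ℕ := C.red (mulU C.n C.b C.MC X Y)

/-- the identity -/
def one : ℕ := idL C.n C.b

/-- all lanes are reduced -/
def Valid (X : ℕ) : Prop := ∀ i, i < C.n → ∀ j, j < C.n → ent C.n C.b X i j < C.p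

instance (X : ℕ) : Decidable (C.Valid X) := by unfold Valid; infer_instance

theorem valid_mul (X Y : ℕ) : C.Valid (C.mul X Y) := by
  intro i hi j hj
  unfold mul
  rw [C.hred _ i j hi hj]
  exact Nat.mod_lt _ (by have := C.hp; omega)

theorem ent_one {i k : ℕ} (hi : i < C.n) (hk : k < C.n) :
    ent C.n C.b C.one i k = if i = k then 1 else 0 := ent_idL C.n C.b C.hb hi hk

theorem valid_one : C.Valid C.one := by
  intro i hi j hj
  rw [C.ent_one hi hj]
  have := C.hp
  split_ifs <;> omega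

theorem ent_mul {X Y : ℕ} (hX : C.Valid X) (hY : C.Valid Y) {i k : ℕ} (hi : i < C.n) (hk : k < C.n) :
    ent C.n C.b (C.mul X Y) i k = (∑ j ∈ range C.n, ent C.n C.b X i j * ent C.n C.b Y j k) % C.p := by
  unfold mul
  rw [C.hred _ i k hi hk, C.hMC, ent_mulU C.n C.b C.hn C.hb C.p X Y hX hY C.hpb hi hk]

section Mat

variable {ι : Type*} [Fintype ι] [DecidableEq ι] (e : ι ≃ Fin C.n)

set_option linter.unusedSectionVars false

/-- the matrix of a packed matrix -/
def toMat (X : ℕ) : Matrix ι ι (ZMod C.p) :=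
  Matrix.of fun i j => ((ent C.n C.b X (e i) (e j) : ℕ) : ZMod C.p)

theorem toMat_apply (X : ℕ) (i j : ι) :
    C.toMat e X i j = ((ent C.n C.b X (e i) (e j) : ℕ) : ZMod C.p) := rfl

theorem toMat_mul {X Y : ℕ} (hX : C.Valid X) (hY : C.Valid Y) :
    C.toMat e (C.mul X Y) = C.toMat e X * C.toMat e Y := by
  ext i k
  rw [toMat_apply, C.ent_mul hX hY (e i).2 (e k).2, ZMod.natCast_mod, Nat.cast_sum, Matrix.mul_apply,
    ← Fin.sum_univ_eq_sum_range (fun j => ((ent C.n C.b X (e i) j * ent C.n C.b Y j (e k) : ℕ) : ZMod C.p)) C.n,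
    ← Equiv.sum_comp e]
  apply Finset.sum_congr rfl
  intro j _
  rw [Nat.cast_mul]
  rfl

theorem toMat_one : C.toMat e C.one = 1 := by
  ext i k
  rw [toMat_apply, C.ent_one (e i).2 (e k).2, Matrix.one_apply]
  by_cases h : i = k
  · subst h; simp
  · have : ((e i : Fin C.n) : ℕ) ≠ ((e k : Fin C.n) : ℕ) := fun h' => h (e.injective (Fin.ext h'))
    simp [h, this]

theorem valid_foldl {β : Type*} (g : β → ℕ) (w : List β) (acc : ℕ) (hacc : C.Valid acc) :
    C.Valid (w.foldl (fun acc l => C.mul acc (g l)) acc) := by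
  induction w generalizing acc with
  | nil => exact hacc
  | cons x w ih => rw [List.foldl_cons]; exact ih _ (C.valid_mul _ _)

theorem toMat_foldl {β : Type*} (g : β → ℕ) (w : List β) (hg : ∀ x ∈ w, C.Valid (g x)) (acc : ℕ)
    (hacc : C.Valid acc) :
    C.toMat e (w.foldl (fun acc l => C.mul acc (g l)) acc) =
      C.toMat e acc * (w.map fun l => C.toMat e (g l)).prod := by
  induction w generalizing acc with
  | nil => simp
  | cons x w ih =>
    rw [List.foldl_cons, ih (fun y hy => hg y (List.mem_cons_of_mem _ hy)) _ (C.valid_mul _ _),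
      C.toMat_mul e hacc (hg x List.mem_cons_self), List.map_cons, List.prod_cons, mul_assoc]

/-- the product of a word of packed matrices -/
def evalW (g : ℕ → ℕ) (w : List ℕ) : ℕ := w.foldl (fun acc l => C.mul acc (g l)) C.one

theorem valid_evalW (g : ℕ → ℕ) (w : List ℕ) : C.Valid (C.evalW g w) := C.valid_foldl g w _ C.valid_one

theorem toMat_evalW (g : ℕ → ℕ) (w : List ℕ) (hg : ∀ x ∈ w, C.Valid (g x)) :
    C.toMat e (C.evalW g w) = (w.map fun l => C.toMat e (g l)).prod := by
  unfold evalW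
  rw [C.toMat_foldl e g w hg _ C.valid_one, C.toMat_one, one_mul]

/-- an invertible matrix from a packed matrix and a packed inverse -/
def toGL (X Xi : ℕ) (hX : C.Valid X) (hXi : C.Valid Xi) (h1 : C.mul X Xi = C.one) (h2 : C.mul Xi X = C.one) :
    GL ι (ZMod C.p) :=
  ⟨C.toMat e X, C.toMat e Xi, by rw [← C.toMat_mul e hX hXi, h1, C.toMat_one],
    by rw [← C.toMat_mul e hXi hX, h2, C.toMat_one]⟩

end Mat

end Cfg

end Cfsg.Agent.Lib.Helper4.LaneMat
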