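import Mathlib
import Cfsg.Agent.Lib.Helper3.RIDefs
import Cfsg.Agent.Lib.Helper3.RIBasic

/-! Piece P5 (RIBlock) of the S5046 farm (helper3): twin classes are blocks for conjugation. -/

set_option autoImplicit false
set_option maxHeartbeats 4000000
set_option linter.unusedVariables false
set_option linter.unusedSectionVars false
set_option linter.style.longLine false

namespace Cfsg.Agent.Lib.Helper3.RootInv

open Cfsg

universe u

variable {G : Type u} [Group G] {D : Set G}

theorem mem_oddPartners_conj (hD : IsRootInvolutionSet D) (g d e : G) :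
    g * e * g⁻¹ ∈ oddPartners D (g * d * g⁻¹) ↔ e ∈ oddPartners D d := by
  unfold oddPartners
  show (g * e * g⁻¹ ∈ D ∧ g * e * g⁻¹ ≠ g * d * g⁻¹ ∧ Odd (orderOf (g * d * g⁻¹ * (g * e * g⁻¹)))) ↔
    (e ∈ D ∧ e ≠ d ∧ Odd (orderOf (d * e)))
  rw [conj_mem_iff hD, orderOf_conj_mul]
  constructor
  · rintro ⟨h1, h2, h3⟩
    exact ⟨h1, fun h => h2 (by rw [h]), h3⟩
  · rintro ⟨h1, h2, h3⟩
    refine ⟨h1, fun h => h2 ?_, h3⟩
    exact mul_left_cancel (mul_right_cancel h)

theorem oddPartners_conj_eq_iff (hD : IsRootInvolutionSet D) (g a b : G) :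
    oddPartners D (g * a * g⁻¹) = oddPartners D (g * b * g⁻¹) ↔ oddPartners D a = oddPartners D b := by
  constructor
  · intro h
    ext e
    rw [← mem_oddPartners_conj hD g a e, ← mem_oddPartners_conj hD g b e, h]
  · intro h
    ext e
    have he : e = g * (g⁻¹ * e * g) * g⁻¹ := by group
    rw [he, mem_oddPartners_conj hD g a, mem_oddPartners_conj hD g b, h]

theorem conj_twinClass (hD : IsRootInvolutionSet D) {a b : G} (g : G) :
    g * b * g⁻¹ ∈ twinClass D (g * a * g⁻¹) ↔ b ∈ twinClass D a := by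
  rw [mem_twinClass, mem_twinClass, conj_mem_iff hD, oddPartners_conj_eq_iff hD]

theorem mem_setNorm_of_conj (hD : IsRootInvolutionSet D) {a t g : G} (ht : t ∈ twinClass D a)
    (h : g * t * g⁻¹ ∈ twinClass D a) : g ∈ setNorm (twinClass D a) := by
  rw [mem_setNorm]
  intro s
  have e1 : twinClass D (g * t * g⁻¹) = twinClass D a := twinClass_eq_of_mem h
  have e2 : twinClass D t = twinClass D a := twinClass_eq_of_mem ht
  rw [← e1, conj_twinClass hD, e2, e1]

theorem mem_setNorm_of_comm (hD : IsRootInvolutionSet D) {a t g : G} (ht : t ∈ twinClass D a)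
    (h : g * t = t * g) : g ∈ setNorm (twinClass D a) := by
  apply mem_setNorm_of_conj hD ht
  have : g * t * g⁻¹ = t := by rw [h]; group
  rw [this]
  exact ht

theorem twin_mem_setNorm (hD : IsRootInvolutionSet D) {a t : G} (ht : t ∈ twinClass D a) :
    t ∈ setNorm (twinClass D a) :=
  mem_setNorm_of_comm hD ht rfl

theorem setNorm_transitive (hD : IsRootInvolutionSet D) (hc : IsConnectedSet (OddAdj D) D) {a t t' : G}
    (ht : t ∈ twinClass D a) (ht' : t' ∈ twinClass D a) :
    ∃ g ∈ setNorm (twinClass D a), g * t * g⁻¹ = t' := by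
  by_cases hne : t = t'
  · exact ⟨1, Subgroup.one_mem _, by rw [hne]; group⟩
  · obtain ⟨c, hcadj⟩ := exists_oddAdj hD hc ht.1 ht'.1 hne
    have ht'' : t' ∈ twinClass D t := by rw [twinClass_eq_of_mem ht]; exact ht'
    have hcadj' : OddAdj D t' c := (oddAdj_twin_iff ht.1 ht'').1 hcadj
    obtain ⟨g1, -, hg1⟩ := exists_conj_of_oddAdj hD hcadj
    obtain ⟨g2, -, hg2⟩ := exists_conj_of_oddAdj hD (oddAdj_symm hcadj')
    have hconj : (g2 * g1) * t * (g2 * g1)⁻¹ = t' := by
      have : (g2 * g1) * t * (g2 * g1)⁻¹ = g2 * (g1 * t * g1⁻¹) * g2⁻¹ := by group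
      rw [this, hg1, hg2]
    refine ⟨g2 * g1, ?_, hconj⟩
    apply mem_setNorm_of_conj hD ht
    rw [hconj]
    exact ht'

/-- F4a: a member of `D` normalizing the twin class is not an odd partner of any of its members. -/
theorem not_oddAdj_of_mem_setNorm (hD : IsRootInvolutionSet D) {a y t : G} (hy : y ∈ D)
    (hyN : y ∈ setNorm (twinClass D a)) (ht : t ∈ twinClass D a) : ¬ OddAdj D y t := by
  intro hadj
  have hadj' : OddAdj D t y := oddAdj_symm hadj
  obtain ⟨g, hg, hgc⟩ := exists_conj_of_oddAdj hD hadj'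
  have hle : Subgroup.closure ({t, y} : Set G) ≤ setNorm (twinClass D a) := by
    rw [Subgroup.closure_le]
    rintro z (rfl | rfl)
    · exact twin_mem_setNorm hD ht
    · exact hyN
  have hgN : g ∈ setNorm (twinClass D a) := hle hg
  have hyT : y ∈ twinClass D a := by
    have := (mem_setNorm.1 hgN t).2 ht
    rwa [hgc] at this
  have hyT' : y ∈ twinClass D t := by rw [twinClass_eq_of_mem ht]; exact hyT
  exact not_oddAdj_of_twin ht.1 hyT' hadj'

end Cfsg.Agent.Lib.Helper3.RootInv
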