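import Mathlib
import Cfsg.Agent.Lib.Helper3.RIDefs
import Cfsg.Agent.Lib.Helper3.RIBasic
import Cfsg.Agent.Lib.Helper3.RIG1
import Cfsg.Agent.Lib.Helper9.RIK1

/-! Piece P4 (RIStepA) of the S5046 farm (helper3): the product of two commuting twins, if a member
of `D`, is again a twin. -/

set_option autoImplicit false
set_option maxHeartbeats 4000000
set_option linter.unusedVariables false
set_option linter.unusedSectionVars false
set_option linter.style.longLine false

namespace Cfsg.Agent.Lib.Helper3.RootInv

open Cfsg

universe u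

variable {G : Type u} [Group G] {D : Set G}

/-- Step A: the product of two commuting twins, if a member of `D`, is a twin. -/
theorem stepA [Finite G] (hD : IsRootInvolutionSet D) (hc : IsConnectedSet (OddAdj D) D) {t t' : G}
    (ht : t ∈ D) (htw : t' ∈ twinClass D t) (hcomm : t * t' = t' * t) (hp : t * t' ∈ D) :
    t * t' ∈ twinClass D t := by
  have ht' : t' ∈ D := htw.1
  have htt : t * t = 1 := sq_one hD ht
  have ht't' : t' * t' = 1 := sq_one hD ht'
  -- algebra
  have e1 : t * (t * t') = t' := by rw [← mul_assoc, htt, one_mul]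
  have e2 : t * (t * t') = (t * t') * t := by
    rw [e1, mul_assoc, ← hcomm, ← mul_assoc, htt, one_mul]
  have e3 : t' * (t * t') = t := by rw [hcomm, ← mul_assoc, ht't', one_mul]
  have e4 : t' * (t * t') = (t * t') * t' := by
    rw [e3, mul_assoc, ht't', mul_one]
  -- inclusion of odd partners
  have hsub : oddPartners D (t * t') ⊆ oddPartners D t := by
    intro z hz
    have hzadj : OddAdj D (t * t') z := (mem_oddPartners_iff hp).1 hz
    have hzD : z ∈ D := hzadj.2.1
    have hzadj' : OddAdj D z (t * t') := oddAdj_symm hzadj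
    rw [mem_oddPartners_iff ht]
    rcases tri hD hzD ht with hcm | hodd | h4
    · -- z commutes with t
      exact absurd hzadj' (g1 hD ht hp e2 (by rw [e1]; exact ht') hzD hcm)
    · exact oddAdj_symm hodd
    · -- z t has order 4
      have hno : ¬ OddAdj D z t := fun h => not_four_of_oddAdj h h4
      rcases tri hD hzD ht' with hcm' | hodd' | h4'
      · exact absurd hzadj' (g1 hD ht' hp e4 (by rw [e3]; exact ht) hzD hcm')
      · exfalso
        apply hno
        exact oddAdj_symm ((oddAdj_twin_iff ht htw).2 (oddAdj_symm hodd'))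
      · have h2 : orderOf (z * (t * (t * t'))) = 4 := by rw [e1]; exact h4'
        exact absurd hzadj' (k1 hD ht hp e2 (by rw [e1]; exact ht') hzD h4 h2)
  have hcard : (oddPartners D t).ncard ≤ (oddPartners D (t * t')).ncard :=
    le_of_eq (ncard_oddPartners hD hc ht hp)
  have heq : oddPartners D (t * t') = oddPartners D t :=
    Set.eq_of_subset_of_ncard_le hsub hcard (Set.toFinite _)
  exact ⟨hp, heq.symm⟩

/-- corollary: if `t y` has order 4 and the conjugate `y t y` is a twin of `t`, then `(t y)^2` is a twin of `t`. -/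
theorem sq_mem_twin [Finite G] (hD : IsRootInvolutionSet D) (hc : IsConnectedSet (OddAdj D) D) {t y : G}
    (ht : t ∈ D) (hy : y ∈ D) (h4 : orderOf (t * y) = 4) (hty : y * t * y ∈ twinClass D t) :
    (t * y) ^ 2 ∈ twinClass D t := by
  obtain ⟨hzD, hza, -, hbab, -, -, -⟩ := four_facts hD ht hy h4
  have hsq : (t * y) ^ 2 = t * (y * t * y) := by rw [pow_two]; group
  have hcomm : t * (y * t * y) = (y * t * y) * t := by
    rw [hbab, mul_assoc t _ t, hza]
  have hp : t * (y * t * y) ∈ D := by rw [← hsq]; exact hzD
  rw [hsq]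
  exact stepA hD hc ht hty hcomm hp

end Cfsg.Agent.Lib.Helper3.RootInv
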