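import Mathlib

/-!
The symplectic groups over isomorphic rings are isomorphic; a group with trivial centre is isomorphic to its
quotient by the centre.
-/

set_option autoImplicit false

namespace Cfsg.Agent.Lib.Helper4.SympEquiv

open Matrix

variable {l : Type*} [DecidableEq l] [Fintype l] {R S : Type*} [CommRing R] [CommRing S]

theorem map_J (f : R →+* S) : f.mapMatrix (J l R) = J l S := by
  ext i j
  rcases i with i | i <;> rcases j with j | j
  · simp [J, RingHom.mapMatrix_apply, Matrix.map_apply]
  · by_cases h : i = j <;> simp [J, RingHom.mapMatrix_apply, Matrix.map_apply, Matrix.one_apply, h]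
  · by_cases h : i = j <;> simp [J, RingHom.mapMatrix_apply, Matrix.map_apply, Matrix.one_apply, h]
  · simp [J, RingHom.mapMatrix_apply, Matrix.map_apply]

theorem map_mem (f : R →+* S) {A : Matrix (l ⊕ l) (l ⊕ l) R} (hA : A ∈ symplecticGroup l R) :
    f.mapMatrix A ∈ symplecticGroup l S := by
  rw [SymplecticGroup.mem_iff] at hA ⊢
  have h := congrArg f.mapMatrix hA
  rw [map_mul, map_mul, map_J] at h
  have hT : f.mapMatrix Aᵀ = (f.mapMatrix A)ᵀ := by
    ext i j
    simp [RingHom.mapMatrix_apply, Matrix.map_apply, Matrix.transpose_apply]
  rw [hT] at h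
  exact h

/-- the map of symplectic groups induced by a ring homomorphism -/
def sympMap (f : R →+* S) : symplecticGroup l R →* symplecticGroup l S where
  toFun A := ⟨f.mapMatrix A.1, map_mem f A.2⟩
  map_one' := Subtype.ext (map_one f.mapMatrix)
  map_mul' A B := Subtype.ext (map_mul f.mapMatrix A.1 B.1)

/-- the isomorphism of symplectic groups induced by a ring isomorphism -/
def sympEquiv (e : R ≃+* S) : symplecticGroup l R ≃* symplecticGroup l S where
  toFun := sympMap (l := l) (e : R →+* S)
  invFun := sympMap (l := l) (e.symm : S →+* R)
  left_inv A := by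
    apply Subtype.ext
    ext i j
    simp [sympMap, RingHom.mapMatrix_apply, Matrix.map_apply]
  right_inv A := by
    apply Subtype.ext
    ext i j
    simp [sympMap, RingHom.mapMatrix_apply, Matrix.map_apply]
  map_mul' := map_mul _

/-- a group with trivial centre is isomorphic to its quotient by the centre -/
noncomputable def quotCenterEquiv {G : Type*} [Group G] (h : Subgroup.center G = ⊥) :
    G ≃* G ⧸ Subgroup.center G :=
  (QuotientGroup.quotientBot (G := G)).symm.trans (QuotientGroup.quotientMulEquivOfEq h.symm)

/-- the centre of a non-commutative simple group is trivial -/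
theorem center_eq_bot_of_simple {G : Type*} [Group G] (hs : IsSimpleGroup G) (a b : G) (hab : a * b ≠ b * a) :
    Subgroup.center G = ⊥ := by
  rcases hs.eq_bot_or_eq_top_of_normal (Subgroup.center G) inferInstance with h | h
  · exact h
  · exfalso
    apply hab
    have : b ∈ Subgroup.center G := by rw [h]; trivial
    exact Subgroup.mem_center_iff.1 this a

/-- isomorphic groups have isomorphic quotients by the centre -/
noncomputable def quotCenterCongr {G H : Type*} [Group G] [Group H] (e : G ≃* H) :
    G ⧸ Subgroup.center G ≃* H ⧸ Subgroup.center H :=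
  QuotientGroup.congr (Subgroup.center G) (Subgroup.center H) e (by
    ext x
    rw [Subgroup.mem_map, Subgroup.mem_center_iff]
    constructor
    · rintro ⟨z, hz, rfl⟩ y
      rw [Subgroup.mem_center_iff] at hz
      have := hz (e.symm y)
      have h2 := congrArg e this
      rw [map_mul, map_mul, e.apply_symm_apply] at h2
      exact h2
    · intro h
      refine ⟨e.symm x, ?_, e.apply_symm_apply x⟩
      rw [Subgroup.mem_center_iff]
      intro y
      apply e.injective
      rw [map_mul, map_mul, e.apply_symm_apply]
      exact h (e y))

end Cfsg.Agent.Lib.Helper4.SympEquiv
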