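import Mathlib
import Cfsg.Agent.Lib.Helper3.SpMinDefs
set_option autoImplicit false
set_option maxHeartbeats 4000000
set_option linter.unusedVariables false
set_option linter.unusedSectionVars false
set_option linter.style.longLine false
open Matrix Cfsg

/-! # S2142 farm, unit B0: the embedding of `F^{2l}` onto `⟨e0,f0⟩^⊥` -/

namespace Cfsg.Agent.Lib.Helper4.SpMin

open Cfsg.Agent.Lib.Helper5 Cfsg.Agent.Lib.Helper5.SympTv Cfsg.Agent.Lib.Helper3.SpMin
  Cfsg.Agent.Lib.Helper5.SympBlock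

variable {F : Type*} [Field F] [Fintype F]

theorem h4_emb_eKL (l : ℕ) (u : Fin l ⊕ Fin l → F) (y : (Fin 1 ⊕ Fin 1) ⊕ (Fin l ⊕ Fin l)) :
    emb l u (eKL 1 l y) = Sum.elim (fun _ => (0 : F)) u y := by
  unfold emb
  rw [Equiv.symm_apply_apply]

theorem h4_emb_inl_cast (l : ℕ) (u : Fin l ⊕ Fin l → F) (i : Fin 1) :
    emb l u (Sum.inl (Fin.castAdd l i)) = 0 :=
  h4_emb_eKL l u (Sum.inl (Sum.inl i))

theorem h4_emb_inr_cast (l : ℕ) (u : Fin l ⊕ Fin l → F) (i : Fin 1) :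
    emb l u (Sum.inr (Fin.castAdd l i)) = 0 :=
  h4_emb_eKL l u (Sum.inl (Sum.inr i))

theorem h4_emb_inl_nat (l : ℕ) (u : Fin l ⊕ Fin l → F) (j : Fin l) :
    emb l u (Sum.inl (Fin.natAdd 1 j)) = u (Sum.inl j) :=
  h4_emb_eKL l u (Sum.inr (Sum.inl j))

theorem h4_emb_inr_nat (l : ℕ) (u : Fin l ⊕ Fin l → F) (j : Fin l) :
    emb l u (Sum.inr (Fin.natAdd 1 j)) = u (Sum.inr j) :=
  h4_emb_eKL l u (Sum.inr (Sum.inr j))

/-- the explicit formula for the symplectic form -/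
theorem h4_sympForm_eq_sum (m : ℕ) (u v : Fin m ⊕ Fin m → F) :
    sympForm m F u v = ∑ i : Fin m, (u (Sum.inr i) * v (Sum.inl i) - u (Sum.inl i) * v (Sum.inr i)) := by
  unfold sympForm
  simp only [dotProduct, mulVec, J, Fintype.sum_sum_type, Matrix.fromBlocks_apply₁₁,
    Matrix.fromBlocks_apply₁₂, Matrix.fromBlocks_apply₂₁, Matrix.fromBlocks_apply₂₂,
    Matrix.zero_apply, zero_mul, Finset.sum_const_zero, zero_add, add_zero, Matrix.neg_apply,
    Matrix.one_apply, neg_mul, ite_mul, one_mul, Finset.sum_neg_distrib, Finset.sum_ite_eq,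
    Finset.mem_univ, if_true, mul_neg]
  rw [Finset.sum_sub_distrib]
  ring

/-- B0a -/
theorem sympForm_emb_emb (l : ℕ) (u u' : Fin l ⊕ Fin l → F) :
    sympForm (1 + l) F (emb l u) (emb l u') = sympForm l F u u' := by
  rw [h4_sympForm_eq_sum, h4_sympForm_eq_sum, Fin.sum_univ_add]
  have h1 : ∑ i : Fin 1, (emb l u (Sum.inr (Fin.castAdd l i)) * emb l u' (Sum.inl (Fin.castAdd l i))
      - emb l u (Sum.inl (Fin.castAdd l i)) * emb l u' (Sum.inr (Fin.castAdd l i))) = 0 := by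
    apply Finset.sum_eq_zero
    intro i _
    rw [h4_emb_inr_cast l u i, h4_emb_inl_cast l u i, zero_mul, zero_mul, sub_zero]
  rw [h1, zero_add]
  apply Finset.sum_congr rfl
  intro j _
  rw [h4_emb_inr_nat, h4_emb_inl_nat, h4_emb_inl_nat, h4_emb_inr_nat]

/-- B0b -/
theorem sympForm_emb_e0 (l : ℕ) (u : Fin l ⊕ Fin l → F) :
    sympForm (1 + l) F (emb l u) (SympCard.e0 F l) = 0 := by
  unfold SympCard.e0
  rw [eKL_inl_inl, SympGen.sympForm_single_inl]
  exact h4_emb_inr_cast l u 0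

/-- B0c -/
theorem sympForm_emb_f0 (l : ℕ) (u : Fin l ⊕ Fin l → F) :
    sympForm (1 + l) F (emb l u) (SympCard.f0 F l) = 0 := by
  unfold SympCard.f0
  rw [eKL_inl_inr, SympGen.sympForm_single_inr, h4_emb_inl_cast l u 0, neg_zero]

/-- B0d -/
theorem emb_add (l : ℕ) (u u' : Fin l ⊕ Fin l → F) : emb l (u + u') = emb l u + emb l u' := by
  funext i
  obtain ⟨y, rfl⟩ := (eKL 1 l).surjective i
  rw [Pi.add_apply, h4_emb_eKL, h4_emb_eKL, h4_emb_eKL]
  rcases y with a | j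
  · simp
  · simp

/-- B0e -/
theorem emb_zero (l : ℕ) : emb l (0 : Fin l ⊕ Fin l → F) = 0 := by
  funext i
  obtain ⟨y, rfl⟩ := (eKL 1 l).surjective i
  rw [h4_emb_eKL]
  rcases y with a | j
  · simp
  · simp

theorem h4_e0_eKL (l : ℕ) (y : (Fin 1 ⊕ Fin 1) ⊕ (Fin l ⊕ Fin l)) :
    SympCard.e0 F l (eKL 1 l y) = if y = Sum.inl (Sum.inl 0) then 1 else 0 := by
  unfold SympCard.e0
  rw [Pi.single_apply]
  by_cases h : y = Sum.inl (Sum.inl 0)
  · rw [if_pos h, if_pos (by rw [h])]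
  · rw [if_neg h, if_neg (fun h' => h ((eKL 1 l).injective h'))]

/-- B0f : `emb u + a e0` determines `u` and `a` -/
theorem emb_add_smul_inj (l : ℕ) (u u' : Fin l ⊕ Fin l → F) (a a' : F)
    (h : emb l u + a • SympCard.e0 F l = emb l u' + a' • SympCard.e0 F l) : u = u' ∧ a = a' := by
  have key : ∀ y : (Fin 1 ⊕ Fin 1) ⊕ (Fin l ⊕ Fin l),
      Sum.elim (fun _ => (0 : F)) u y + a * (if y = Sum.inl (Sum.inl 0) then 1 else 0)
        = Sum.elim (fun _ => (0 : F)) u' y + a' * (if y = Sum.inl (Sum.inl 0) then 1 else 0) := by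
    intro y
    have h1 := congrFun h (eKL 1 l y)
    rw [Pi.add_apply, Pi.add_apply, Pi.smul_apply, Pi.smul_apply, smul_eq_mul, smul_eq_mul,
      h4_emb_eKL, h4_emb_eKL, h4_e0_eKL] at h1
    exact h1
  constructor
  · funext j
    have h2 := key (Sum.inr j)
    simpa using h2
  · have h2 := key (Sum.inl (Sum.inl 0))
    simpa using h2

/-- B0g -/
theorem exists_decomp_perp (l : ℕ) (x : Fin (1 + l) ⊕ Fin (1 + l) → F)
    (hx : sympForm (1 + l) F x (SympCard.e0 F l) = 0) :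
    ∃ (u : Fin l ⊕ Fin l → F) (a : F), x = emb l u + a • SympCard.e0 F l := by
  have hx' : x (eKL 1 l (Sum.inl (Sum.inr 0))) = 0 := by
    unfold SympCard.e0 at hx
    rw [eKL_inl_inl, SympGen.sympForm_single_inl] at hx
    exact hx
  refine ⟨fun j => x (eKL 1 l (Sum.inr j)), x (eKL 1 l (Sum.inl (Sum.inl 0))), ?_⟩
  funext i
  obtain ⟨y, rfl⟩ := (eKL 1 l).surjective i
  rw [Pi.add_apply, Pi.smul_apply, smul_eq_mul, h4_emb_eKL, h4_e0_eKL]
  rcases y with (a | a) | j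
  · have ha : a = 0 := Subsingleton.elim a 0
    rw [ha]
    simp
  · have ha : a = 0 := Subsingleton.elim a 0
    rw [ha, hx']
    simp
  · simp

end Cfsg.Agent.Lib.Helper4.SpMin
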