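import Mathlib
import Cfsg.Agent.Lib.Helper3.SpMinDefs
set_option autoImplicit false
set_option maxHeartbeats 4000000
set_option linter.unusedVariables false
set_option linter.unusedSectionVars false
set_option linter.style.longLine false
open Matrix Cfsg

/-! # S2142 farm, unit T: transvection calculus in `Sp_2m(2)` -/

namespace Cfsg.Agent.Lib.Helper4.SpMin

open Cfsg.Agent.Lib.Helper5 Cfsg.Agent.Lib.Helper5.SympTv Cfsg.Agent.Lib.Helper3.SpMin

variable {F : Type*} [Field F] [Fintype F]

/-- T1 -/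
theorem t_comm (m : ℕ) (u v : Fin m ⊕ Fin m → F) (h : sympForm m F u v = 0) :
    t m u * t m v = t m v * t m u := by
  have h' : sympForm m F v u = 0 := by rw [sympForm_swap, h, neg_zero]
  apply Subtype.ext
  show (t m u).1 * (t m v).1 = (t m v).1 * (t m u).1
  rw [ext_iff_mulVec]
  intro x
  rw [← mulVec_mulVec, ← mulVec_mulVec, t_mulVec, t_mulVec, t_mulVec, t_mulVec]
  simp only [sympForm_add_left, sympForm_smul_left, h, h', mul_zero, add_zero]
  abel

/-- T2 -/
theorem t_ne_one (m : ℕ) (v : Fin m ⊕ Fin m → F) (hv : v ≠ 0) : t m v ≠ 1 := by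
  intro h
  obtain ⟨w, hw⟩ := SympPerfect.exists_partner m v hv
  have h1 := t_mulVec m v w
  rw [h] at h1
  have h2 : ((1 : symplecticGroup (Fin m) F).1) *ᵥ w = w := one_mulVec w
  rw [h2] at h1
  have h3 : sympForm m F w v = -1 := by rw [sympForm_swap, hw]
  rw [h3] at h1
  have h4 : (-1 : F) • v = 0 := by
    have h5 : w + 0 = w + (-1 : F) • v := by rw [add_zero]; exact h1
    exact (add_left_cancel h5).symm
  apply hv
  rw [neg_smul, one_smul, neg_eq_zero] at h4
  exact h4

/-- T3 -/
theorem t_injective (hF : Fintype.card F = 2) (m : ℕ) (v w : Fin m ⊕ Fin m → F)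
    (h : t m v = t m w) : v = w := by
  by_cases hv : v = 0
  · by_contra hne
    have hw : w ≠ 0 := fun hw0 => hne (by rw [hv, hw0])
    apply t_ne_one m w hw
    rw [← h, hv, t_zero]
  by_cases hw : w = 0
  · exfalso
    apply t_ne_one m v hv
    rw [h, hw, t_zero]
  obtain ⟨x, hx⟩ := SympPerfect.exists_partner m v hv
  have h1 : (t m v).1 *ᵥ x = (t m w).1 *ᵥ x := by rw [h]
  rw [t_mulVec, t_mulVec] at h1
  have h2 : sympForm m F x v • v = sympForm m F x w • w := add_left_cancel h1
  have h3 : sympForm m F x v = 1 := by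
    rw [sympForm_swap, hx, neg_eq' hF]
  rw [h3, one_smul] at h2
  rcases eq_zero_or_one hF (sympForm m F x w) with h4 | h4
  · rw [h4, zero_smul] at h2
    exact absurd h2 hv
  · rw [h4, one_smul] at h2
    exact h2

/-- T4 : `z e u` is `x ↦ x + B(x,u) e + B(x,e) u` when `B(u,e) = 0` -/
theorem z_mulVec (hF : Fintype.card F = 2) (m : ℕ) (e u x : Fin m ⊕ Fin m → F)
    (h : sympForm m F u e = 0) :
    (z m e u).1 *ᵥ x = x + sympForm m F x u • e + sympForm m F x e • u := by
  have h' : sympForm m F e u = 0 := by rw [sympForm_swap, h, neg_zero]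
  show ((t m u).1 * (t m e).1 * (t m (u + e)).1) *ᵥ x = _
  rw [← mulVec_mulVec, ← mulVec_mulVec, t_mulVec, t_mulVec, t_mulVec]
  simp only [sympForm_add_left, sympForm_add_right, sympForm_smul_left, sympForm_self, h, h',
    mul_zero, add_zero]
  ext k
  simp only [Pi.add_apply, Pi.smul_apply, smul_eq_mul]
  linear_combination (sympForm m F x u * u k + sympForm m F x e * e k) * (two_eq_zero hF)

/-- T5 : if `H` is transitive on nonzero vectors and contains one transvection then `H = ⊤` -/
theorem eq_top_of_t_mem (hF : Fintype.card F = 2) (m : ℕ) (H : Subgroup (symplecticGroup (Fin m) F))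
    (htr : ∀ v w : Fin m ⊕ Fin m → F, v ≠ 0 → w ≠ 0 → ∃ h ∈ H, h.1 *ᵥ v = w)
    (v : Fin m ⊕ Fin m → F) (hv : v ≠ 0) (ht : t m v ∈ H) : H = ⊤ := by
  have hall : ∀ w : Fin m ⊕ Fin m → F, t m w ∈ H := by
    intro w
    by_cases hw : w = 0
    · rw [hw, t_zero]
      exact H.one_mem
    · obtain ⟨h, hh, hvw⟩ := htr v w hv hw
      rw [← hvw, ← t_conj]
      exact H.mul_mem (H.mul_mem hh ht) (H.inv_mem hh)
  rw [eq_top_iff, ← SympGen.closure_tvSet_eq_top, Subgroup.closure_le]
  rintro A ⟨w, c, hA⟩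
  have hA' : A = SympPerfect.tv m w c := Subtype.ext hA
  rw [hA']
  rcases eq_zero_or_one hF c with hc | hc
  · rw [hc, SympPerfect.tv_zero]
    exact H.one_mem
  · rw [hc]
    exact hall w

end Cfsg.Agent.Lib.Helper4.SpMin
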