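import Mathlib
import Cfsg.Prelude
import Cfsg.Agent.Lib.Helper5.SpPairMax
import Cfsg.Agent.Lib.Helper5.SympPerfect
import Cfsg.Agent.Lib.Helper5.SympPrimitive

set_option autoImplicit false
set_option maxHeartbeats 4000000
set_option maxRecDepth 100000
set_option linter.unusedVariables false
set_option linter.unusedSectionVars false
set_option linter.style.haveILetI false
set_option linter.deprecated false

/-! Maximal subgroups of the symplectic groups: the maximality trick, perfectness of `spGL`,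
and the first properness statements. -/

namespace Cfsg.Agent.Lib.Helper4.MaxS

open Matrix Cfsg Cfsg.Geo
open scoped commutatorElement
open Cfsg.Agent.Lib.Helper5.SympTv Cfsg.Agent.Lib.Helper5.SympGen
  Cfsg.Agent.Lib.Helper5.SympBridge Cfsg.Agent.Lib.Helper5.SpCentres

section trick
variable {G : Type*} [Group G]

theorem eq_inf_of_le {S H X : Subgroup G} (hH : IsMaximalIn S H) (hle : H ≤ X) (hX : ¬ S ≤ X) :
    H = X ⊓ S := by
  rcases hH.2 (X ⊓ S) (le_inf hle hH.1.le) inf_le_right with h | h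
  · exact h.symm
  · exact absurd (inf_eq_right.1 h) hX

/-- a member `X ⊓ S` containing the maximal subgroup `H` equals it, unless `S ≤ X` -/
theorem eq_of_le_inf {S H X : Subgroup G} (hH : IsMaximalIn S H) (hle : H ≤ X ⊓ S)
    (hX : ¬ S ≤ X) : H = X ⊓ S :=
  eq_inf_of_le hH (hle.trans inf_le_left) hX

end trick

variable {F : Type*} [Field F] {m : ℕ}

local notation "V" => (Fin m ⊕ Fin m → F)
local notation "GLV" => Matrix.GeneralLinearGroup (Fin m ⊕ Fin m) F
local notation "MatV" => Matrix (Fin m ⊕ Fin m) (Fin m ⊕ Fin m) F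

theorem range_toGL : (toGL (F := F) (m := m)).range = spGL m F := by
  ext g
  constructor
  · rintro ⟨A, rfl⟩
    rw [mem_spGL_iff]
    intro u v
    exact sympForm_mulVec m A.2 u v
  · intro hg
    have hA : (g : MatV) ∈ symplecticGroup (Fin m) F :=
      (mem_symplectic_iff m _).mpr ((mem_spGL_iff m g).mp hg)
    exact ⟨⟨g.1, hA⟩, Units.ext rfl⟩

theorem toGL_injective : Function.Injective (toGL (F := F) (m := m)) := by
  intro A B h
  apply Subtype.ext
  exact congrArg (fun g : GLV => (g : MatV)) h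

/-- `spGL` is perfect -/
theorem spGL_perfect [Fintype F]
    (h : 3 ≤ m ∨ (m = 2 ∧ 3 ≤ Fintype.card F) ∨ 4 ≤ Fintype.card F) :
    ⁅spGL m F, spGL m F⁆ = spGL m F := by
  have hp := Cfsg.Agent.Lib.Helper5.SympPerfect.perfect (F := F) m h
  have h1 := Subgroup.map_commutator (⊤ : Subgroup (symplecticGroup (Fin m) F)) ⊤
    (toGL (F := F) (m := m))
  rw [← MonoidHom.range_eq_map, range_toGL] at h1
  rw [← h1]
  have h2 : ⁅(⊤ : Subgroup (symplecticGroup (Fin m) F)), ⊤⁆ =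
      (⊤ : Subgroup (symplecticGroup (Fin m) F)) := by
    exact hp
  rw [h2, ← MonoidHom.range_eq_map, range_toGL]

theorem perfect_hyp [Fintype F] (hm : 2 ≤ m) (hex : ¬ (m = 2 ∧ Fintype.card F = 2)) :
    3 ≤ m ∨ (m = 2 ∧ 3 ≤ Fintype.card F) ∨ 4 ≤ Fintype.card F := by
  have h1 : 1 < Fintype.card F := Fintype.one_lt_card
  by_cases h3 : 3 ≤ m
  · exact Or.inl h3
  · right; left
    have : m = 2 := by omega
    refine ⟨this, ?_⟩
    by_contra hc
    exact hex ⟨this, by omega⟩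

/-- the hypothesis of the subgroup structure theorem holds for maximal subgroups -/
theorem sup_scalars_ne [Fintype F] (hm : 2 ≤ m) (hex : ¬ (m = 2 ∧ Fintype.card F = 2))
    {H : Subgroup GLV} (hH : IsMaximalIn (spGL m F) H) :
    H ⊔ (scalars (Fin m ⊕ Fin m) F ⊓ spGL m F) ≠ spGL m F := by
  intro hsup
  have hperf := spGL_perfect (F := F) (m := m) (perfect_hyp hm hex)
  have hcomm : ⁅spGL m F, spGL m F⁆ ≤ H := by
    rw [Subgroup.commutator_le]
    intro g₁ hg₁ g₂ hg₂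
    rw [← hsup] at hg₁ hg₂
    haveI : (scalars (Fin m ⊕ Fin m) F ⊓ spGL m F).Normal := by
      refine ⟨fun z hz g => ?_⟩
      have hzc : g * z = z * g := by
        obtain ⟨c, hc⟩ := (mem_scalars_iff z).1 hz.1
        apply Units.ext
        rw [Units.val_mul, Units.val_mul, hc, Matrix.mul_smul, Matrix.smul_mul, Matrix.mul_one,
          Matrix.one_mul]
      rw [hzc, mul_inv_cancel_right]
      exact hz
    obtain ⟨h₁, hh₁, z₁, hz₁, rfl⟩ := Subgroup.mem_sup_of_normal_right.1 hg₁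
    obtain ⟨h₂, hh₂, z₂, hz₂, rfl⟩ := Subgroup.mem_sup_of_normal_right.1 hg₂
    have hc : ∀ z ∈ scalars (Fin m ⊕ Fin m) F ⊓ spGL m F, ∀ g : GLV, g * z = z * g := by
      intro z hz g
      obtain ⟨c, hc⟩ := (mem_scalars_iff z).1 hz.1
      apply Units.ext
      rw [Units.val_mul, Units.val_mul, hc, Matrix.mul_smul, Matrix.smul_mul, Matrix.mul_one,
        Matrix.one_mul]
    have e : ⁅h₁ * z₁, h₂ * z₂⁆ = ⁅h₁, h₂⁆ := by
      rw [commutatorElement_def, commutatorElement_def]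
      have e1 := hc z₁ hz₁
      have e2 := hc z₂ hz₂
      have e3 : ∀ g : GLV, g * z₁⁻¹ = z₁⁻¹ * g := by
        intro g
        rw [eq_inv_mul_iff_mul_eq, ← mul_assoc, ← e1, mul_assoc, mul_inv_cancel, mul_one]
      have e4 : ∀ g : GLV, g * z₂⁻¹ = z₂⁻¹ * g := by
        intro g
        rw [eq_inv_mul_iff_mul_eq, ← mul_assoc, ← e2, mul_assoc, mul_inv_cancel, mul_one]
      rw [_root_.mul_inv_rev, _root_.mul_inv_rev]
      calc h₁ * z₁ * (h₂ * z₂) * (z₁⁻¹ * h₁⁻¹) * (z₂⁻¹ * h₂⁻¹)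
          = h₁ * (z₁ * h₂) * (z₂ * z₁⁻¹) * h₁⁻¹ * z₂⁻¹ * h₂⁻¹ := by group
        _ = h₁ * (h₂ * z₁) * (z₁⁻¹ * z₂) * h₁⁻¹ * z₂⁻¹ * h₂⁻¹ := by rw [← e1 h₂, e3 z₂]
        _ = h₁ * h₂ * (z₂ * h₁⁻¹) * z₂⁻¹ * h₂⁻¹ := by group
        _ = h₁ * h₂ * (h₁⁻¹ * z₂) * z₂⁻¹ * h₂⁻¹ := by rw [← e2 h₁⁻¹]
        _ = h₁ * h₂ * h₁⁻¹ * h₂⁻¹ := by group
    rw [e]
    exact H.mul_mem (H.mul_mem (H.mul_mem hh₁ hh₂) (H.inv_mem hh₁)) (H.inv_mem hh₂)
  rw [hperf] at hcomm
  exact absurd hcomm (not_le_of_gt hH.1)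

end Cfsg.Agent.Lib.Helper4.MaxS
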