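import Mathlib
import Cfsg.Prelude
import Cfsg.Agent.Lib.Helper4.MaxS1

set_option autoImplicit false
set_option maxHeartbeats 4000000
set_option maxRecDepth 100000
set_option linter.unusedVariables false
set_option linter.unusedSectionVars false
set_option linter.style.haveILetI false
set_option linter.deprecated false

/-! Properness of the members of the geometric classes in the symplectic group, part 1:
subspaces, decompositions, subfield groups, normalisers of fields, quadratic forms. -/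

namespace Cfsg.Agent.Lib.Helper4.MaxS

open Matrix Cfsg Cfsg.Geo
open Cfsg.Agent.Lib.Helper5.SympTv Cfsg.Agent.Lib.Helper5.SympGen
  Cfsg.Agent.Lib.Helper5.SympBridge Cfsg.Agent.Lib.Helper5.SpCentres
  Cfsg.Agent.Lib.Helper5.SpSingularMax

variable {F : Type*} [Field F] {m : ℕ}

local notation "V" => (Fin m ⊕ Fin m → F)
local notation "GLV" => Matrix.GeneralLinearGroup (Fin m ⊕ Fin m) F
local notation "MatV" => Matrix (Fin m ⊕ Fin m) (Fin m ⊕ Fin m) F

theorem not_le_singular (W : Submodule F V) (hW0 : W ≠ ⊥)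
    (hW : IsTotallySingularFor (sympForm m F) W) : ¬ spGL m F ≤ subspaceStabilizer W := fun h =>
  (Cfsg.Agent.Lib.Helper5.SpSingularMax.isMaximalIn W hW0 hW).1.ne (inf_eq_right.2 h)

theorem not_le_nondeg (W : Submodule F V) (hW0 : W ≠ ⊥)
    (hW : IsNondegenerateOn (sympForm m F) W) (hdim : Module.finrank F W < m) :
    ¬ spGL m F ≤ subspaceStabilizer W := fun h =>
  (Cfsg.Agent.Lib.Helper5.SpNondegMax.isMaximalIn W hW0 hW hdim).1.ne (inf_eq_right.2 h)

theorem not_le_decomp [Fintype F] {t k : ℕ} {D : Fin t → Submodule F V}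
    (hD : IsNondegenerateMDecomposition (sympForm m F) k D)
    (hex : ¬ (k = 2 ∧ Fintype.card F = 2)) :
    ¬ spGL m F ≤ decompositionStabilizer D := fun h =>
  (Cfsg.Agent.Lib.Helper5.SpDecompMax.isMaximalIn hD hex).1.ne (inf_eq_right.2 h)

theorem not_le_pair {D : Fin 2 → Submodule F V} (hD : IsMDecomposition m D)
    (hts : ∀ i, IsTotallySingularFor (sympForm m F) (D i)) :
    ¬ spGL m F ≤ decompositionStabilizer D := by
  intro hle
  have hP := Cfsg.Agent.Lib.Helper5.SpPairMax.tsPair hD hts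
  have hne : D 0 ≠ ⊥ := by
    intro h0
    have h1 := hD.finrank_eq 0
    rw [h0, finrank_bot] at h1
    have := hD.pos
    omega
  obtain ⟨u, hu, hu0⟩ := (Submodule.ne_bot_iff (D 0)).1 hne
  have hnot : u ∉ (⊥ : Submodule F V) := by
    rw [Submodule.mem_bot]; exact hu0
  obtain ⟨w, hw, huw, -⟩ := hP.dual_vec ⊥ hu bot_le hnot
  have hwu : sympForm m F w u ≠ 0 := by
    rw [sympForm_swap]; exact neg_ne_zero.mpr huw
  have hmem : tvGL m u 1 ∈ decompositionStabilizer D := hle (tvGL_mem m _ 1)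
  rcases Cfsg.Agent.Lib.Helper5.SpPairMax.stab_cases _ hmem with ⟨-, h1⟩ | ⟨h1, -⟩
  · have h3 := h1 w hw
    rw [tvGL_mulVec, one_mul] at h3
    have h4 : sympForm m F w u • u ∈ D 1 := (Submodule.add_mem_iff_right _ hw).mp h3
    have h5 : u ∈ D 1 := by
      have := (D 1).smul_mem (sympForm m F w u)⁻¹ h4
      rwa [smul_smul, inv_mul_cancel₀ hwu, one_smul] at this
    exact hu0 (hP.inter hu h5)
  · have h3 := h1 u hu
    rw [tvGL_mulVec, sympForm_self, mul_zero, zero_smul, add_zero] at h3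
    exact hu0 (hP.inter hu h3)

/-! ### a non-zero vector orthogonal to two given ones -/

theorem exists_ne_zero_orth (hm : 2 ≤ m) (a b : V) :
    ∃ u : V, u ≠ 0 ∧ sympForm m F a u = 0 ∧ sympForm m F b u = 0 := by
  classical
  have h1 := Cfsg.Agent.Lib.Helper5.SpPairMax.finrank_perp (m := m) (Submodule.span F ({a, b} : Set V))
  have h2 := Cfsg.Agent.Lib.Helper5.SpPairMax.finrank_span_pair_le (m := m) a b
  have h3 : perp m (Submodule.span F ({a, b} : Set V)) ≠ ⊥ := by
    intro h0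
    rw [h0, finrank_bot] at h1
    omega
  obtain ⟨u, hu, hu0⟩ := (Submodule.ne_bot_iff _).1 h3
  rw [mem_perp] at hu
  exact ⟨u, hu0, hu a (Submodule.subset_span (by simp)), hu b (Submodule.subset_span (by simp))⟩

theorem exists_sympForm_ne_zero {u : V} (hu : u ≠ 0) : ∃ z : V, sympForm m F z u = 1 := by
  obtain ⟨w, hw⟩ := Cfsg.Agent.Lib.Helper5.SympPerfect.exists_partner m u hu
  refine ⟨-w, ?_⟩
  rw [sympForm_swap, sympForm_smul_right_neg_aux hw, neg_neg]
where
  sympForm_smul_right_neg_aux {u w : V} (hw : sympForm m F u w = 1) :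
      sympForm m F u (-w) = -1 := by
    have : (-w) = (-1 : F) • w := by rw [neg_one_smul]
    rw [this, sympForm_smul_right, hw, mul_one]

/-! ### normalisers of fields -/

theorem not_le_fieldNormalizer (hm : 2 ≤ m) {r : ℕ} (hr : 2 ≤ r)
    {K : Subalgebra F MatV} (hK : IsFieldSubalgebra r K) :
    ¬ spGL m F ≤ subalgebraNormalizer K := by
  intro hle
  obtain ⟨k, hkK, hk⟩ : ∃ k ∈ K, ¬ ∃ c : F, k = c • (1 : MatV) := by
    by_contra hcon
    push Not at hcon
    have h1 : Module.finrank F K ≤ 1 := by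
      apply finrank_le_one (⟨1, K.one_mem⟩ : K)
      intro w
      obtain ⟨c, hc⟩ := hcon w.1 w.2
      exact ⟨c, Subtype.ext (by simpa using hc.symm)⟩
    rw [hK.finrank_eq] at h1
    omega
  have hzero : ∀ A ∈ K, ∀ x : V, x ≠ 0 → A *ᵥ x = 0 → A = 0 := by
    intro A hA x hx hAx
    by_contra hA0
    obtain ⟨B, hB, hAB⟩ := hK.inv A hA hA0
    have hBA : B * A = 1 := by rw [← hK.comm A hA B hB, hAB]
    apply hx
    calc x = (B * A) *ᵥ x := by rw [hBA, Matrix.one_mulVec]
      _ = 0 := by rw [← Matrix.mulVec_mulVec, hAx, Matrix.mulVec_zero]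
  -- no eigenvectors
  have hnoeig : ∀ x : V, x ≠ 0 → ∀ c : F, k *ᵥ x ≠ c • x := by
    intro x hx c hc
    have hmem : k - c • (1 : MatV) ∈ K := K.sub_mem hkK (K.smul_mem K.one_mem c)
    have h0 : (k - c • (1 : MatV)) *ᵥ x = 0 := by
      rw [Matrix.sub_mulVec, Matrix.smul_mulVec, Matrix.one_mulVec, hc, sub_self]
    exact hk ⟨c, sub_eq_zero.1 (hzero _ hmem x hx h0)⟩
  obtain ⟨v, hv0⟩ : ∃ v : V, v ≠ 0 := by
    refine ⟨Pi.single (Sum.inl ⟨0, by omega⟩) 1, ?_⟩
    intro h
    have := congrFun h (Sum.inl ⟨0, by omega⟩)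
    simp at this
  obtain ⟨u, hu0, hvu, hkvu⟩ := exists_ne_zero_orth hm v (k *ᵥ v)
  set g : GLV := tvGL m u 1 with hg
  have hgN := hle (tvGL_mem m u 1)
  have hk' : (g : MatV) * k * ((g⁻¹ : GLV) : MatV) ∈ K := (hgN k).1 hkK
  have hgv : (g : MatV) *ᵥ v = v := by
    rw [hg, tvGL_mulVec, hvu, mul_zero, zero_smul, add_zero]
  have hgw : (g : MatV) *ᵥ (k *ᵥ v) = k *ᵥ v := by
    rw [hg, tvGL_mulVec, hkvu, mul_zero, zero_smul, add_zero]
  have hginv : ∀ x, ((g⁻¹ : GLV) : MatV) *ᵥ ((g : MatV) *ᵥ x) = x := by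
    intro x
    rw [Matrix.mulVec_mulVec, ← Units.val_mul, inv_mul_cancel, Units.val_one, Matrix.one_mulVec]
  have hginvv : ((g⁻¹ : GLV) : MatV) *ᵥ v = v := by
    conv_lhs => rw [← hgv]
    exact hginv v
  have h1 : ((g : MatV) * k * ((g⁻¹ : GLV) : MatV) - k) *ᵥ v = 0 := by
    rw [Matrix.sub_mulVec, ← Matrix.mulVec_mulVec, ← Matrix.mulVec_mulVec, hginvv, hgw, sub_self]
  have hkk : (g : MatV) * k * ((g⁻¹ : GLV) : MatV) = k :=
    sub_eq_zero.1 (hzero _ (K.sub_mem hk' hkK) v hv0 h1)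
  have hcomm : (g : MatV) * k = k * (g : MatV) := by
    calc (g : MatV) * k
        = (g : MatV) * k * (((g⁻¹ : GLV) : MatV) * (g : MatV)) := by
          rw [← Units.val_mul, inv_mul_cancel, Units.val_one, mul_one]
      _ = (g : MatV) * k * ((g⁻¹ : GLV) : MatV) * (g : MatV) := by
          rw [mul_assoc, mul_assoc, mul_assoc]
      _ = k * (g : MatV) := by rw [hkk]
  obtain ⟨z, hz⟩ := exists_sympForm_ne_zero hu0
  have h2 : (g : MatV) *ᵥ (k *ᵥ z) = k *ᵥ z + k *ᵥ u := by
    rw [Matrix.mulVec_mulVec, hcomm, ← Matrix.mulVec_mulVec, hg, tvGL_mulVec, hz, mul_one,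
      one_smul, Matrix.mulVec_add]
  rw [hg, tvGL_mulVec, one_mul] at h2
  have h3 : k *ᵥ u = sympForm m F (k *ᵥ z) u • u := (add_left_cancel h2).symm
  exact hnoeig u hu0 _ h3

end Cfsg.Agent.Lib.Helper4.MaxS
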