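import Mathlib
import Cfsg.Prelude
import Cfsg.Agent.Lib.Helper4.MaxS2

set_option autoImplicit false
set_option maxHeartbeats 4000000
set_option maxRecDepth 100000
set_option linter.unusedVariables false
set_option linter.unusedSectionVars false
set_option linter.style.haveILetI false
set_option linter.deprecated false

/-! Properness of the members of the geometric classes in the symplectic group, part 2:
transported transvections, subfield groups, tensor products, quadratic forms. -/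

namespace Cfsg.Agent.Lib.Helper4.MaxS

open Matrix Cfsg Cfsg.Geo
open Cfsg.Agent.Lib.Helper5.SympTv Cfsg.Agent.Lib.Helper5.SympGen
  Cfsg.Agent.Lib.Helper5.SympBridge Cfsg.Agent.Lib.Helper5.SpCentres
  Cfsg.Agent.Lib.Helper5.SpSingularMax

variable {F : Type*} [Field F] {m : ℕ}

local notation "V" => (Fin m ⊕ Fin m → F)
local notation "GLV" => Matrix.GeneralLinearGroup (Fin m ⊕ Fin m) F
local notation "MatV" => Matrix (Fin m ⊕ Fin m) (Fin m ⊕ Fin m) F

section transport
variable {ι κ : Type} [Fintype ι] [DecidableEq ι] [Fintype κ] [DecidableEq κ]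

theorem gl_mulVec_injective (P : Matrix.GeneralLinearGroup ι F) {x y : ι → F}
    (h : (P : Matrix ι ι F) *ᵥ x = (P : Matrix ι ι F) *ᵥ y) : x = y := by
  have h1 := congrArg (fun z => ((P⁻¹ : Matrix.GeneralLinearGroup ι F) : Matrix ι ι F) *ᵥ z) h
  simpa only [Matrix.mulVec_mulVec, ← Units.val_mul, inv_mul_cancel, Units.val_one,
    Matrix.one_mulVec] using h1

theorem gl_mulVec_inv (P : Matrix.GeneralLinearGroup ι F) (y : ι → F) :
    (P : Matrix ι ι F) *ᵥ (((P⁻¹ : Matrix.GeneralLinearGroup ι F) : Matrix ι ι F) *ᵥ y) = y := by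
  rw [Matrix.mulVec_mulVec, ← Units.val_mul, mul_inv_cancel, Units.val_one, Matrix.one_mulVec]

theorem coe_transport (e : ι ≃ κ) (P : Matrix.GeneralLinearGroup ι F)
    (x : Matrix.GeneralLinearGroup κ F) :
    ((P * glReindex e.symm x * P⁻¹ : Matrix.GeneralLinearGroup ι F) : Matrix ι ι F) =
      (P : Matrix ι ι F) * (x : Matrix κ κ F).submatrix e e *
        ((P⁻¹ : Matrix.GeneralLinearGroup ι F) : Matrix ι ι F) := rfl

/-- the action of a transported element on transported vectors -/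
theorem transport_mulVec (e : ι ≃ κ) (P : Matrix.GeneralLinearGroup ι F)
    (x : Matrix.GeneralLinearGroup κ F) (v : κ → F) :
    ((P * glReindex e.symm x * P⁻¹ : Matrix.GeneralLinearGroup ι F) : Matrix ι ι F) *ᵥ
      ((P : Matrix ι ι F) *ᵥ (v ∘ e)) =
      (P : Matrix ι ι F) *ᵥ (((x : Matrix κ κ F) *ᵥ v) ∘ e) := by
  rw [coe_transport, Matrix.mulVec_mulVec, Matrix.mul_assoc, Matrix.mul_assoc, ← Units.val_mul,
    inv_mul_cancel, Units.val_one, Matrix.mul_one, ← Matrix.mulVec_mulVec]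
  congr 1
  rw [Matrix.submatrix_mulVec_equiv]
  congr 2
  ext i
  simp

theorem comp_equiv_injective (e : ι ≃ κ) {v w : κ → F} (h : v ∘ e = w ∘ e) : v = w := by
  ext k
  have := congrFun h (e.symm k)
  simpa using this

end transport

section tv
variable {κ : Type} [Fintype κ] [DecidableEq κ]

/-- a transvection whose centre is a transported basis vector, read in the transported frame -/
theorem transport_tv (e : (Fin m ⊕ Fin m) ≃ κ) (P : GLV) (x : Matrix.GeneralLinearGroup κ F)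
    (a0 : κ) (c : F)
    (h : tvGL m ((P : MatV) *ᵥ ((Pi.single a0 (1 : F) : κ → F) ∘ e)) c =
      P * glReindex e.symm x * P⁻¹) (w : κ → F) :
    (x : Matrix κ κ F) *ᵥ w = w + (c * sympForm m F ((P : MatV) *ᵥ (w ∘ e))
      ((P : MatV) *ᵥ ((Pi.single a0 (1 : F) : κ → F) ∘ e))) • (Pi.single a0 (1 : F) : κ → F) := by
  apply comp_equiv_injective e
  apply gl_mulVec_injective P
  rw [← transport_mulVec, ← h, tvGL_mulVec]
  have : (w + (c * sympForm m F ((P : MatV) *ᵥ (w ∘ e))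
      ((P : MatV) *ᵥ ((Pi.single a0 (1 : F) : κ → F) ∘ e))) • (Pi.single a0 (1 : F) : κ → F)) ∘ e =
      w ∘ e + (c * sympForm m F ((P : MatV) *ᵥ (w ∘ e))
      ((P : MatV) *ᵥ ((Pi.single a0 (1 : F) : κ → F) ∘ e))) • ((Pi.single a0 (1 : F) : κ → F) ∘ e) := by
    ext i
    simp
  rw [this, Matrix.mulVec_add, Matrix.mulVec_smul]

/-- a transported vector pairing to one with the transported basis vector, with vanishing
coordinate at that basis vector -/
theorem exists_transport_dual (e : (Fin m ⊕ Fin m) ≃ κ) (P : GLV) (a0 : κ) :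
    ∃ w : κ → F, w a0 = 0 ∧ sympForm m F ((P : MatV) *ᵥ (w ∘ e))
      ((P : MatV) *ᵥ ((Pi.single a0 (1 : F) : κ → F) ∘ e)) = 1 := by
  set v₀ : V := (P : MatV) *ᵥ ((Pi.single a0 (1 : F) : κ → F) ∘ e) with hv₀
  have hv₀0 : v₀ ≠ 0 := by
    intro h0
    have h1 : (P : MatV) *ᵥ ((Pi.single a0 (1 : F) : κ → F) ∘ e) = (P : MatV) *ᵥ 0 := by
      rw [Matrix.mulVec_zero]; exact h0
    have h2 := gl_mulVec_injective P h1
    have h3 := congrFun h2 (e.symm a0)
    simp at h3
  obtain ⟨y, hy⟩ := exists_sympForm_ne_zero hv₀0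
  set w₁ : κ → F := (((P⁻¹ : GLV) : MatV) *ᵥ y) ∘ e.symm with hw₁
  have hw₁e : w₁ ∘ e = ((P⁻¹ : GLV) : MatV) *ᵥ y := by
    ext i
    simp [hw₁]
  have hPw₁ : (P : MatV) *ᵥ (w₁ ∘ e) = y := by rw [hw₁e, gl_mulVec_inv]
  refine ⟨w₁ - w₁ a0 • (Pi.single a0 (1 : F) : κ → F), by simp, ?_⟩
  have : (w₁ - w₁ a0 • (Pi.single a0 (1 : F) : κ → F)) ∘ e =
      w₁ ∘ e - w₁ a0 • ((Pi.single a0 (1 : F) : κ → F) ∘ e) := by
    ext i
    simp
  rw [this, Matrix.mulVec_sub, Matrix.mulVec_smul, hPw₁, ← hv₀, sympForm_sub_left,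
    sympForm_smul_left, sympForm_self, mul_zero, sub_zero, hy]

/-- a basis vector whose transport pairs non-trivially with the transported basis vector -/
theorem exists_transport_dual_single (e : (Fin m ⊕ Fin m) ≃ κ) (P : GLV) (a0 : κ) :
    ∃ j : κ, j ≠ a0 ∧ sympForm m F ((P : MatV) *ᵥ ((Pi.single j (1 : F) : κ → F) ∘ e))
      ((P : MatV) *ᵥ ((Pi.single a0 (1 : F) : κ → F) ∘ e)) ≠ 0 := by
  obtain ⟨w, -, hw⟩ := exists_transport_dual e P a0
  set v₀ : V := (P : MatV) *ᵥ ((Pi.single a0 (1 : F) : κ → F) ∘ e) with hv₀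
  by_contra hcon
  push Not at hcon
  let L : (κ → F) →ₗ[F] F :=
    { toFun := fun w => sympForm m F ((P : MatV) *ᵥ (w ∘ e)) v₀
      map_add' := by
        intro x y
        rw [show (x + y) ∘ e = x ∘ e + y ∘ e from rfl, Matrix.mulVec_add, sympForm_add_left]
      map_smul' := by
        intro c x
        rw [show (c • x) ∘ e = c • (x ∘ e) from rfl, Matrix.mulVec_smul, sympForm_smul_left]
        rfl }
  have hL : L = 0 := by
    apply LinearMap.pi_ext
    intro j x
    have h1 : (Pi.single j x : κ → F) = x • (Pi.single j (1 : F) : κ → F) := by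
      ext k
      simp [Pi.single_apply]
    rw [h1, map_smul, LinearMap.zero_apply]
    have h2 : L (Pi.single j (1 : F)) = 0 := by
      by_cases hj : j = a0
      · subst hj
        exact sympForm_self m _
      · exact hcon j hj
    rw [h2, smul_zero]
  have h3 : L w = 1 := hw
  rw [hL, LinearMap.zero_apply] at h3
  exact zero_ne_one h3

end tv

/-! ### subfield groups -/

theorem not_le_subfield (hm : 1 ≤ m) (F₀ : Subfield F) (hF₀ : F₀ ≠ ⊤) (P : GLV) :
    ¬ spGL m F ≤ subfieldSubgroup F₀ P := by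
  classical
  intro hle
  obtain ⟨a, ha⟩ : ∃ a : F, a ∉ F₀ := by
    by_contra hcon
    push Not at hcon
    exact hF₀ (eq_top_iff.2 fun x _ => hcon x)
  set i₀ : Fin m ⊕ Fin m := Sum.inl ⟨0, by omega⟩ with hi₀
  set i₁ : Fin m ⊕ Fin m := Sum.inr ⟨0, by omega⟩ with hi₁
  have hne : i₁ ≠ i₀ := by simp [hi₀, hi₁]
  obtain ⟨j, hj, hφ⟩ := exists_transport_dual_single (Equiv.refl (Fin m ⊕ Fin m)) P i₀
  set φj := sympForm m F ((P : MatV) *ᵥ ((Pi.single j (1 : F) : Fin m ⊕ Fin m → F) ∘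
    (Equiv.refl (Fin m ⊕ Fin m)))) ((P : MatV) *ᵥ ((Pi.single i₀ (1 : F) : Fin m ⊕ Fin m → F) ∘
    (Equiv.refl (Fin m ⊕ Fin m)))) with hφj
  have ht := hle (tvGL_mem m ((P : MatV) *ᵥ ((Pi.single i₀ (1 : F) : Fin m ⊕ Fin m → F) ∘
    (Equiv.refl (Fin m ⊕ Fin m)))) (a / φj))
  obtain ⟨u, hu, hut⟩ := ht
  have hut' : tvGL m ((P : MatV) *ᵥ ((Pi.single i₀ (1 : F) : Fin m ⊕ Fin m → F) ∘
      (Equiv.refl (Fin m ⊕ Fin m)))) (a / φj) =
      P * glReindex (Equiv.refl (Fin m ⊕ Fin m)).symm u * P⁻¹ := by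
    rw [← hut]
    have : glReindex (F := F) (Equiv.refl (Fin m ⊕ Fin m)).symm u = u := by
      apply Units.ext
      ext i j
      rfl
    rw [this]
    rfl
  have hact := transport_tv (Equiv.refl (Fin m ⊕ Fin m)) P u i₀ (a / φj) hut'
  obtain ⟨y, ⟨y₀, rfl⟩, z, hz, hyz⟩ := Subgroup.mem_sup_of_normal_right.1 hu
  obtain ⟨c, hc⟩ := (mem_scalars_iff z).1 hz
  have hmat : (u : MatV) =
      ((Matrix.GeneralLinearGroup.map (F₀.subtype : F₀ →+* F) y₀ : GLV) : MatV) *
        ((c : F) • (1 : MatV)) := by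
    rw [← hyz, Units.val_mul, hc]
  have hentry : ∀ i j, (u : MatV) i j =
      ((Matrix.GeneralLinearGroup.map (F₀.subtype : F₀ →+* F) y₀ : GLV) : MatV) i j * (c : F) := by
    intro i j
    rw [hmat, Matrix.mul_smul, Matrix.mul_one, Matrix.smul_apply, smul_eq_mul, mul_comm]
  have hymem : ∀ i j, ((Matrix.GeneralLinearGroup.map (F₀.subtype : F₀ →+* F) y₀ : GLV) : MatV) i j
      ∈ F₀ := by
    intro i j
    show F₀.subtype _ ∈ F₀
    exact Subtype.prop _
  -- the entry at `(i₁, i₁)` is one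
  have e1 : (u : MatV) i₁ i₁ = 1 := by
    have := congrFun (hact (Pi.single i₁ 1)) i₁
    rw [Matrix.mulVec_single_one, Matrix.col_apply] at this
    rw [this]
    simp [hne]
  -- the entry at `(i₀, j)`
  have e2 : (u : MatV) i₀ j = a := by
    have := congrFun (hact (Pi.single j 1)) i₀
    rw [Matrix.mulVec_single_one, Matrix.col_apply] at this
    rw [this, ← hφj, div_mul_cancel₀ a hφ]
    simp [hj.symm]
  have hcF : (c : F) ∈ F₀ := by
    have h1 := hentry i₁ i₁
    rw [e1] at h1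
    have h00 : ((Matrix.GeneralLinearGroup.map (F₀.subtype : F₀ →+* F) y₀ : GLV) : MatV) i₁ i₁ ≠ 0 := by
      intro h0
      rw [h0, zero_mul] at h1
      exact one_ne_zero h1
    have : (c : F) = (((Matrix.GeneralLinearGroup.map (F₀.subtype : F₀ →+* F) y₀ : GLV) : MatV)
        i₁ i₁)⁻¹ := eq_inv_of_mul_eq_one_right h1.symm
    rw [this]
    exact F₀.inv_mem (hymem _ _)
  apply ha
  rw [← e2, hentry]
  exact F₀.mul_mem (hymem _ _) hcF

end Cfsg.Agent.Lib.Helper4.MaxS
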