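import Mathlib
import Cfsg.Prelude

set_option autoImplicit false
set_option maxHeartbeats 4000000
set_option maxRecDepth 100000
set_option linter.unusedVariables false
set_option linter.unusedSectionVars false
set_option linter.style.haveILetI false
set_option linter.deprecated false

/-! Symmetric bilinear forms in dimension three over the field with three elements: orthogonal
frames of constant norm, and the monomial shape of their similarities.
(The arithmetic lemmas over the field with three elements follow helper5's `OrthFrameThree` and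
`AschO.Three`.) -/

namespace Cfsg.Agent.Lib.Helper4.MaxS

open Matrix Cfsg Cfsg.Geo Module

section bil

variable {F : Type*} [Field F] {κ : Type} [Fintype κ] [DecidableEq κ]

/-- a bilinear form given as a function, as a bilinear map -/
noncomputable def toBil (f : (κ → F) → (κ → F) → F) (hf : IsBilinearForm f) :
    LinearMap.BilinForm F (κ → F) :=
  LinearMap.mk₂ F f hf.add_left hf.smul_left hf.add_right hf.smul_right

@[simp] theorem toBil_apply (f : (κ → F) → (κ → F) → F) (hf : IsBilinearForm f) (u v : κ → F) :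
    toBil f hf u v = f u v := rfl

theorem bil_zero_left {f : (κ → F) → (κ → F) → F} (hf : IsBilinearForm f) (v : κ → F) :
    f 0 v = 0 := by
  rw [← toBil_apply f hf, map_zero, LinearMap.zero_apply]

theorem bil_zero_right {f : (κ → F) → (κ → F) → F} (hf : IsBilinearForm f) (v : κ → F) :
    f v 0 = 0 := by
  rw [← toBil_apply f hf, map_zero]

theorem bil_neg_left {f : (κ → F) → (κ → F) → F} (hf : IsBilinearForm f) (u v : κ → F) :
    f (-u) v = - f u v := by
  rw [← toBil_apply f hf, map_neg, LinearMap.neg_apply, toBil_apply]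

theorem bil_neg_right {f : (κ → F) → (κ → F) → F} (hf : IsBilinearForm f) (u v : κ → F) :
    f u (-v) = - f u v := by
  rw [← toBil_apply f hf, map_neg, toBil_apply]

theorem bil_sum_left {f : (κ → F) → (κ → F) → F} (hf : IsBilinearForm f) {α : Type*}
    (s : Finset α) (g : α → κ → F) (v : κ → F) : f (∑ i ∈ s, g i) v = ∑ i ∈ s, f (g i) v := by
  rw [← toBil_apply f hf, map_sum, LinearMap.sum_apply]
  rfl

theorem bil_sum_right {f : (κ → F) → (κ → F) → F} (hf : IsBilinearForm f) {α : Type*}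
    (s : Finset α) (v : κ → F) (g : α → κ → F) : f v (∑ i ∈ s, g i) = ∑ i ∈ s, f v (g i) := by
  rw [← toBil_apply f hf, map_sum]
  rfl

/-- a bilinear form is the form of its Gram matrix -/
theorem formOfGram_gram {f : (κ → F) → (κ → F) → F} (hf : IsBilinearForm f) (x y : κ → F) :
    formOfGram id (gramMatrix f) x y = f x y := by
  have h1 : gramMatrix f = LinearMap.BilinForm.toMatrix' (toBil f hf) := by
    ext a b
    rw [LinearMap.BilinForm.toMatrix'_apply]
    rfl
  rw [← toBil_apply f hf, ← Matrix.toBilin'_toMatrix' (toBil f hf), Matrix.toBilin'_apply, ← h1]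
  rfl

end bil

section three

variable {F : Type*} [Field F] [Fintype F] (hq : Fintype.card F = 3)

include hq in
theorem three_eq_zero3 : (3 : F) = 0 := by
  have := FiniteField.cast_card_eq_zero F
  rw [hq] at this
  exact_mod_cast this

include hq in
theorem two_ne_zero3 : (2 : F) ≠ 0 := by
  intro h
  have h3 := three_eq_zero3 hq
  have : (1 : F) = 0 := by linear_combination h3 - h
  exact one_ne_zero this

include hq in
theorem cases3 (x : F) : x = 0 ∨ x = 1 ∨ x = -1 := by
  classical
  by_contra hcon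
  push Not at hcon
  obtain ⟨h0, h1, h2⟩ := hcon
  have hne : (1 : F) ≠ -1 := by
    intro h
    have : (2 : F) = 0 := by linear_combination h
    exact two_ne_zero3 hq this
  have hcard : ({0, 1, -1, x} : Finset F).card = 4 := by
    rw [Finset.card_insert_of_notMem, Finset.card_insert_of_notMem, Finset.card_insert_of_notMem,
      Finset.card_singleton]
    · simp only [Finset.mem_singleton]; exact fun h => h2 h.symm
    · simp only [Finset.mem_insert, Finset.mem_singleton, not_or]
      exact ⟨hne, fun h => h1 h.symm⟩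
    · simp only [Finset.mem_insert, Finset.mem_singleton, not_or]
      refine ⟨zero_ne_one, ?_, fun h => h0 h.symm⟩
      intro h
      exact one_ne_zero (neg_eq_zero.mp h.symm)
  have := Finset.card_le_univ ({0, 1, -1, x} : Finset F)
  omega

include hq in
theorem sq_sum3 (x y z : F) (h : x * x + y * y + z * z = 1) :
    (x ≠ 0 ∧ y = 0 ∧ z = 0) ∨ (x = 0 ∧ y ≠ 0 ∧ z = 0) ∨ (x = 0 ∧ y = 0 ∧ z ≠ 0) := by
  have h3 := three_eq_zero3 hq
  have h10 : (1 : F) ≠ 0 := one_ne_zero
  have hm10 : (-1 : F) ≠ 0 := neg_ne_zero.mpr one_ne_zero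
  rcases cases3 hq x with rfl | rfl | rfl <;> rcases cases3 hq y with rfl | rfl | rfl <;>
    rcases cases3 hq z with rfl | rfl | rfl <;>
    first
    | (left; exact ⟨by assumption, rfl, rfl⟩)
    | (right; left; exact ⟨rfl, by assumption, rfl⟩)
    | (right; right; exact ⟨rfl, rfl, by assumption⟩)
    | (exfalso; apply h10; linear_combination -h)
    | (exfalso; apply h10; linear_combination h)
    | (exfalso; apply h10; linear_combination h - h3)
    | (exfalso; apply h10; linear_combination -h + h3)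

include hq in
theorem eq_or_neg_of_ne_zero3 {a b : F} (ha : a ≠ 0) (hb : b ≠ 0) : b = a ∨ b = -a := by
  rcases cases3 hq a with rfl | rfl | rfl
  · exact absurd rfl ha
  · rcases cases3 hq b with rfl | rfl | rfl
    · exact absurd rfl hb
    · exact Or.inl rfl
    · exact Or.inr rfl
  · rcases cases3 hq b with rfl | rfl | rfl
    · exact absurd rfl hb
    · exact Or.inr (neg_neg 1).symm
    · exact Or.inl rfl

include hq in
/-- orthogonal-up-to-scalar matrices of size three over the field with three elements -/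
theorem mono3 (X : Matrix (Fin 3) (Fin 3) F) (l : F)
    (hX : Xᵀ * X = l • (1 : Matrix (Fin 3) (Fin 3) F)) (hl : l ≠ 0) :
    ∀ β, ∃ α, X α β ≠ 0 ∧ ∀ α', α' ≠ α → X α' β = 0 := by
  have hdet : X.det * X.det = l ^ 3 := by
    have := congrArg Matrix.det hX
    rw [Matrix.det_mul, Matrix.det_transpose, Matrix.det_smul, Matrix.det_one, mul_one,
      Fintype.card_fin] at this
    exact this
  have hl3 : l ^ 3 = l := by
    rcases cases3 hq l with rfl | rfl | rfl
    · simp
    · simp
    · ring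
  rw [hl3] at hdet
  have hl1 : l = 1 := by
    rcases cases3 hq X.det with h | h | h
    · rw [h, mul_zero] at hdet
      exact absurd hdet.symm hl
    · rw [h, mul_one] at hdet
      exact hdet.symm
    · rw [h] at hdet
      rw [← hdet]
      ring
  intro β
  have hcol : X 0 β * X 0 β + X 1 β * X 1 β + X 2 β * X 2 β = 1 := by
    have := congrFun (congrFun hX β) β
    rw [Matrix.mul_apply, Fin.sum_univ_three, hl1, one_smul, Matrix.one_apply_eq] at this
    simpa [Matrix.transpose_apply] using this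
  rcases sq_sum3 hq _ _ _ hcol with ⟨h0, h1, h2'⟩ | ⟨h0, h1, h2'⟩ | ⟨h0, h1, h2'⟩
  · refine ⟨0, h0, fun α' hα' => ?_⟩
    fin_cases α'
    · exact absurd rfl hα'
    · exact h1
    · exact h2'
  · refine ⟨1, h1, fun α' hα' => ?_⟩
    fin_cases α'
    · exact h0
    · exact absurd rfl hα'
    · exact h2'
  · refine ⟨2, h2', fun α' hα' => ?_⟩
    fin_cases α'
    · exact h0
    · exact h1
    · exact absurd rfl hα'

/-- an orthogonal frame of constant norm -/
structure IsFrame3 (f₂ : (Fin 3 → F) → (Fin 3 → F) → F) (ε : F) (b : Fin 3 → (Fin 3 → F)) :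
    Prop where
  ne : ε ≠ 0
  norm : ∀ i, f₂ (b i) (b i) = ε
  orth : ∀ i j, i ≠ j → f₂ (b i) (b j) = 0
  span : ∀ w : Fin 3 → F, ∃ x : Fin 3 → F, w = ∑ j, x j • b j

theorem IsFrame3.pair {f₂ : (Fin 3 → F) → (Fin 3 → F) → F} {ε : F} {b : Fin 3 → (Fin 3 → F)}
    (h : IsFrame3 f₂ ε b) (i j : Fin 3) : f₂ (b i) (b j) = if i = j then ε else 0 := by
  by_cases hij : i = j
  · subst hij
    rw [if_pos rfl, h.norm]
  · rw [if_neg hij, h.orth i j hij]

/-- the value of the form on two combinations of frame vectors -/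
theorem IsFrame3.form_comb {f₂ : (Fin 3 → F) → (Fin 3 → F) → F} (hf : IsBilinearForm f₂) {ε : F}
    {b : Fin 3 → (Fin 3 → F)} (h : IsFrame3 f₂ ε b) (x y : Fin 3 → F) :
    f₂ (∑ j, x j • b j) (∑ j, y j • b j) = ε * ∑ j, x j * y j := by
  rw [bil_sum_left hf, Finset.mul_sum]
  refine Finset.sum_congr rfl fun i _ => ?_
  rw [hf.smul_left, bil_sum_right hf, Finset.sum_eq_single i]
  · rw [hf.smul_right, h.norm]
    ring
  · intro j _ hji
    rw [hf.smul_right, h.orth i j (Ne.symm hji), mul_zero]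
  · intro hi
    exact absurd (Finset.mem_univ _) hi

/-- the coordinates of a vector in a frame -/
theorem IsFrame3.expand {f₂ : (Fin 3 → F) → (Fin 3 → F) → F} (hf : IsBilinearForm f₂) {ε : F}
    {b : Fin 3 → (Fin 3 → F)} (h : IsFrame3 f₂ ε b) (w : Fin 3 → F) :
    w = ∑ j, (f₂ w (b j) * ε⁻¹) • b j := by
  obtain ⟨x, hx⟩ := h.span w
  have hc : ∀ j, f₂ w (b j) * ε⁻¹ = x j := by
    intro j
    have h1 : b j = ∑ k, (if k = j then (1 : F) else 0) • b k := by
      rw [Finset.sum_eq_single j]
      · rw [if_pos rfl, one_smul]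
      · intro k _ hk
        rw [if_neg hk, zero_smul]
      · intro hj
        exact absurd (Finset.mem_univ _) hj
    have h2 : f₂ w (b j) = ε * x j := by
      conv_lhs => rw [hx, h1]
      rw [h.form_comb hf]
      congr 1
      rw [Finset.sum_eq_single j]
      · rw [if_pos rfl, mul_one]
      · intro k _ hk
        rw [if_neg hk, mul_zero]
      · intro hj
        exact absurd (Finset.mem_univ _) hj
    rw [h2, mul_comm ε, mul_assoc, mul_inv_cancel₀ h.ne, mul_one]
  conv_lhs => rw [hx]
  exact Finset.sum_congr rfl fun j _ => by rw [hc]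

theorem IsFrame3.ne_zero {f₂ : (Fin 3 → F) → (Fin 3 → F) → F} (hf : IsBilinearForm f₂) {ε : F}
    {b : Fin 3 → (Fin 3 → F)} (h : IsFrame3 f₂ ε b) (i : Fin 3) : b i ≠ 0 := by
  intro h0
  have := h.norm i
  rw [h0, bil_zero_left hf] at this
  exact h.ne this.symm

include hq in
/-- a family of vectors with the Gram matrix of a frame up to a non-zero scalar is monomial in
the frame -/
theorem IsFrame3.monomial {f₂ : (Fin 3 → F) → (Fin 3 → F) → F} (hf : IsBilinearForm f₂) {ε : F}
    {b : Fin 3 → (Fin 3 → F)} (h : IsFrame3 f₂ ε b) (c : Fin 3 → (Fin 3 → F)) (μ : F)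
    (hμ : μ ≠ 0) (hc : ∀ i j, f₂ (c i) (c j) = μ * f₂ (b i) (b j)) :
    ∀ j, ∃ (α : Fin 3) (d : F), d ≠ 0 ∧ c j = d • b α := by
  classical
  set X : Matrix (Fin 3) (Fin 3) F := fun k j => f₂ (c j) (b k) * ε⁻¹ with hX
  have hexp : ∀ j, c j = ∑ k, X k j • b k := fun j => h.expand hf (c j)
  have hXX : Xᵀ * X = μ • (1 : Matrix (Fin 3) (Fin 3) F) := by
    ext i j
    rw [Matrix.mul_apply, Matrix.smul_apply, Matrix.one_apply, smul_eq_mul]
    have h1 := hc i j
    rw [h.pair] at h1
    conv_lhs at h1 => rw [hexp i, hexp j]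
    rw [h.form_comb hf] at h1
    have h2 : ∑ k, Xᵀ i k * X k j = ∑ k, X k i * X k j :=
      Finset.sum_congr rfl fun k _ => by rw [Matrix.transpose_apply]
    rw [h2]
    have h3 : ε * ∑ k, X k i * X k j = ε * (μ * if i = j then 1 else 0) := by
      rw [h1]
      split_ifs <;> ring
    exact mul_left_cancel₀ h.ne h3
  intro j
  obtain ⟨α, hα, hα'⟩ := mono3 hq X μ hXX hμ j
  refine ⟨α, X α j, hα, ?_⟩
  rw [hexp j, Finset.sum_eq_single α]
  · intro k _ hk
    rw [hα' k hk, zero_smul]
  · intro hk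
    exact absurd (Finset.mem_univ _) hk

/-- a frame from three vectors -/
theorem frame3_of_triple {f₂ : (Fin 3 → F) → (Fin 3 → F) → F} (hsymm : ∀ u v, f₂ u v = f₂ v u)
    {ε : F} (hε : ε ≠ 0) {v₁ v₂ v₃ : Fin 3 → F} (n1 : f₂ v₁ v₁ = ε) (n2 : f₂ v₂ v₂ = ε)
    (n3 : f₂ v₃ v₃ = ε) (h12 : f₂ v₁ v₂ = 0) (h13 : f₂ v₁ v₃ = 0) (h23 : f₂ v₂ v₃ = 0)
    (hspan : ∀ w : Fin 3 → F, ∃ x y z : F, w = x • v₁ + y • v₂ + z • v₃) :
    IsFrame3 f₂ ε ![v₁, v₂, v₃] := by
  have h21 : f₂ v₂ v₁ = 0 := by rw [hsymm]; exact h12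
  have h31 : f₂ v₃ v₁ = 0 := by rw [hsymm]; exact h13
  have h32 : f₂ v₃ v₂ = 0 := by rw [hsymm]; exact h23
  refine ⟨hε, ?_, ?_, ?_⟩
  · intro i
    fin_cases i
    · exact n1
    · exact n2
    · exact n3
  · intro i j hij
    fin_cases i <;> fin_cases j
    · exact absurd rfl hij
    · exact h12
    · exact h13
    · exact h21
    · exact absurd rfl hij
    · exact h23
    · exact h31
    · exact h32
    · exact absurd rfl hij
  · intro w
    obtain ⟨x, y, z, rfl⟩ := hspan w
    refine ⟨![x, y, z], ?_⟩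
    rw [Fin.sum_univ_three]
    rfl

include hq in
/-- norms `(a, a, ±a)` -/
theorem frame_of_orth3 {f₂ : (Fin 3 → F) → (Fin 3 → F) → F} (hf : IsBilinearForm f₂)
    (hsymm : ∀ u v, f₂ u v = f₂ v u) {u₁ u₂ u₃ : Fin 3 → F}
    (hQ1 : f₂ u₁ u₁ ≠ 0) (hQ3 : f₂ u₃ u₃ ≠ 0) (hQ12 : f₂ u₂ u₂ = f₂ u₁ u₁)
    (h12 : f₂ u₁ u₂ = 0) (h13 : f₂ u₁ u₃ = 0) (h23 : f₂ u₂ u₃ = 0)
    (hspan : ∀ w : Fin 3 → F, ∃ x y z : F, w = x • u₁ + y • u₂ + z • u₃) :
    ∃ ε b, IsFrame3 f₂ ε b := by
  have h3z := three_eq_zero3 hq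
  have h21 : f₂ u₂ u₁ = 0 := by rw [hsymm]; exact h12
  rcases eq_or_neg_of_ne_zero3 hq hQ1 hQ3 with h | h
  · exact ⟨f₂ u₁ u₁, _, frame3_of_triple hsymm hQ1 rfl hQ12 h h12 h13 h23 hspan⟩
  · refine ⟨-f₂ u₁ u₁, _, frame3_of_triple hsymm (neg_ne_zero.mpr hQ1) (v₁ := u₁ + u₂)
      (v₂ := u₁ - u₂) (v₃ := u₃) ?_ ?_ h ?_ ?_ ?_ ?_⟩
    · rw [hf.add_left, hf.add_right, hf.add_right, h12, h21, hQ12]
      linear_combination (f₂ u₁ u₁) * h3z
    · rw [sub_eq_add_neg, hf.add_left, hf.add_right, hf.add_right, bil_neg_left hf,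
        bil_neg_left hf, bil_neg_right hf, bil_neg_right hf, h12, h21, hQ12]
      linear_combination (f₂ u₁ u₁) * h3z
    · rw [sub_eq_add_neg, hf.add_left, hf.add_right, hf.add_right, bil_neg_right hf,
        bil_neg_right hf, h12, h21, hQ12]
      ring
    · rw [hf.add_left, h13, h23, add_zero]
    · rw [sub_eq_add_neg, hf.add_left, bil_neg_left hf, h13, h23, neg_zero, add_zero]
    · intro w
      obtain ⟨x, y, z, rfl⟩ := hspan w
      refine ⟨-(x + y), -(x - y), z, ?_⟩
      have e1 : x • u₁ = (-(x + y)) • u₁ + (-(x - y)) • u₁ := by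
        rw [← add_smul]
        congr 1
        linear_combination x * h3z
      have e2 : y • u₂ = (-(x + y)) • u₂ - (-(x - y)) • u₂ := by
        rw [← sub_smul]
        congr 1
        linear_combination y * h3z
      rw [smul_add, smul_sub, e1, e2]
      abel

include hq in
/-- non-degenerate symmetric forms in dimension three over the field with three elements have a
frame -/
theorem exists_frame3 {f₂ : (Fin 3 → F) → (Fin 3 → F) → F} (hf₂ : IsSymmetricForm f₂) :
    ∃ ε b, IsFrame3 f₂ ε b := by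
  classical
  have hf := hf₂.bilinear
  have hsymm := hf₂.symm
  haveI : Invertible (2 : F) := invertibleOfNonzero (two_ne_zero3 hq)
  have hB : LinearMap.IsSymm (toBil f₂ hf) := by
    constructor
    intro x y
    exact hsymm x y
  obtain ⟨v0, hv0⟩ := LinearMap.BilinForm.exists_orthogonal_basis hB
  have hd : finrank F (Fin 3 → F) = 3 := Module.finrank_fin_fun F
  let v : Basis (Fin 3) F (Fin 3 → F) := v0.reindex (finCongr hd)
  have horth : ∀ i j, i ≠ j → f₂ (v i) (v j) = 0 := by
    intro i j hij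
    have h1 : (finCongr hd).symm i ≠ (finCongr hd).symm j := fun h => hij ((finCongr hd).symm.injective h)
    have := hv0 h1
    rw [Basis.reindex_apply, Basis.reindex_apply]
    exact this
  have hne : ∀ i, f₂ (v i) (v i) ≠ 0 := by
    intro i h0
    obtain ⟨x, hx⟩ := (hf₂.nondegenerate (v i) (v.ne_zero i)).2
    apply hx
    rw [← v.sum_repr x, bil_sum_right hf]
    refine Finset.sum_eq_zero fun j _ => ?_
    rw [hf.smul_right]
    by_cases hij : i = j
    · subst hij
      rw [h0, mul_zero]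
    · rw [horth i j hij, mul_zero]
  have hspan : ∀ w : Fin 3 → F, ∃ x y z : F, w = x • v 0 + y • v 1 + z • v 2 := by
    intro w
    refine ⟨v.repr w 0, v.repr w 1, v.repr w 2, ?_⟩
    conv_lhs => rw [← v.sum_repr w]
    rw [Fin.sum_univ_three]
  have h01 := horth 0 1 (by decide)
  have h02 := horth 0 2 (by decide)
  have h12 := horth 1 2 (by decide)
  have h10 := horth 1 0 (by decide)
  have h20 := horth 2 0 (by decide)
  have h21 := horth 2 1 (by decide)
  by_cases hA : f₂ (v 1) (v 1) = f₂ (v 0) (v 0)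
  · exact frame_of_orth3 hq hf hsymm (hne 0) (hne 2) hA h01 h02 h12 hspan
  · by_cases hB' : f₂ (v 2) (v 2) = f₂ (v 0) (v 0)
    · refine frame_of_orth3 hq hf hsymm (hne 0) (hne 1) hB' h02 h01 h21 ?_
      intro w
      obtain ⟨x, y, z, rfl⟩ := hspan w
      exact ⟨x, z, y, by abel⟩
    · have hC : f₂ (v 2) (v 2) = f₂ (v 1) (v 1) := by
        rcases eq_or_neg_of_ne_zero3 hq (hne 0) (hne 1) with h | h
        · exact absurd h hA
        · rcases eq_or_neg_of_ne_zero3 hq (hne 0) (hne 2) with h' | h'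
          · exact absurd h' hB'
          · rw [h, h']
      refine frame_of_orth3 hq hf hsymm (hne 1) (hne 0) hC h12 h10 h20 ?_
      intro w
      obtain ⟨x, y, z, rfl⟩ := hspan w
      exact ⟨y, z, x, by abel⟩

end three

end Cfsg.Agent.Lib.Helper4.MaxS
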