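import Mathlib
import Cfsg.Prelude
import Cfsg.Agent.Lib.Helper4.MaxS3
import Cfsg.Agent.Lib.Helper5.TensorSub

set_option autoImplicit false
set_option maxHeartbeats 4000000
set_option maxRecDepth 100000
set_option linter.unusedVariables false
set_option linter.unusedSectionVars false
set_option linter.style.haveILetI false
set_option linter.deprecated false

/-! Properness of the members of the geometric classes in the symplectic group, part 3:
tensor products and quadratic forms. -/

namespace Cfsg.Agent.Lib.Helper4.MaxS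

open Matrix Cfsg Cfsg.Geo
open Cfsg.Agent.Lib.Helper5.SympTv Cfsg.Agent.Lib.Helper5.SympGen
  Cfsg.Agent.Lib.Helper5.SympBridge Cfsg.Agent.Lib.Helper5.SpCentres
  Cfsg.Agent.Lib.Helper5.SpSingularMax

variable {F : Type*} [Field F] {m : ℕ}

local notation "V" => (Fin m ⊕ Fin m → F)
local notation "GLV" => Matrix.GeneralLinearGroup (Fin m ⊕ Fin m) F
local notation "MatV" => Matrix (Fin m ⊕ Fin m) (Fin m ⊕ Fin m) F

section tensor
open Kronecker Cfsg.Agent.Lib.Helper5.TensorSub

theorem not_le_tensor {n₁ n₂ : ℕ} (h1 : 2 ≤ n₁) (h2 : 2 ≤ n₂)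
    (e : (Fin m ⊕ Fin m) ≃ Fin n₁ × Fin n₂) (P : GLV) :
    ¬ spGL m F ≤ tensorProductSubgroup n₁ n₂ e P := by
  classical
  intro hle
  set p0 : Fin n₁ := ⟨0, by omega⟩ with hp0
  set p1 : Fin n₁ := ⟨1, by omega⟩ with hp1
  set q0 : Fin n₂ := ⟨0, by omega⟩ with hq0
  set q1 : Fin n₂ := ⟨1, by omega⟩ with hq1
  have hp : p1 ≠ p0 := by simp [hp0, hp1, Fin.ext_iff]
  have hq : q1 ≠ q0 := by simp [hq0, hq1, Fin.ext_iff]
  obtain ⟨w, hw0, hw1⟩ := exists_transport_dual e P ((p0, q0) : Fin n₁ × Fin n₂)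
  have ht := hle (tvGL_mem m ((P : MatV) *ᵥ ((Pi.single ((p0, q0) : Fin n₁ × Fin n₂) (1 : F) :
    Fin n₁ × Fin n₂ → F) ∘ e)) 1)
  obtain ⟨a, b, hab⟩ := (mem_tensor e P _).1 ht
  have hab' : tvGL m ((P : MatV) *ᵥ ((Pi.single ((p0, q0) : Fin n₁ × Fin n₂) (1 : F) :
      Fin n₁ × Fin n₂ → F) ∘ e)) 1 = P * glReindex e.symm (kron a b) * P⁻¹ := hab
  have hact := transport_tv e P (kron a b) (p0, q0) 1 hab'
  -- entries of the Kronecker product
  have hentry : ∀ p q p' q', (a : Matrix (Fin n₁) (Fin n₁) F) p' p *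
      (b : Matrix (Fin n₂) (Fin n₂) F) q' q =
      ((kron a b : Matrix.GeneralLinearGroup (Fin n₁ × Fin n₂) F) :
        Matrix (Fin n₁ × Fin n₂) (Fin n₁ × Fin n₂) F) (p', q') (p, q) := by
    intro p q p' q'
    rw [coe_kron]
    rfl
  have hcol : ∀ p q p' q', (p', q') ≠ ((p0, q0) : Fin n₁ × Fin n₂) →
      (a : Matrix (Fin n₁) (Fin n₁) F) p' p * (b : Matrix (Fin n₂) (Fin n₂) F) q' q =
      if (p', q') = (p, q) then 1 else 0 := by
    intro p q p' q' hne
    rw [hentry]
    have := congrFun (hact (Pi.single (p, q) 1)) (p', q')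
    rw [Matrix.mulVec_single_one, Matrix.col_apply] at this
    rw [this]
    simp only [Pi.add_apply, Pi.smul_apply, Pi.single_apply, if_neg hne, smul_eq_mul, mul_zero,
      add_zero]
  -- `a` is diagonal
  have ha : ∀ p p', p' ≠ p → (a : Matrix (Fin n₁) (Fin n₁) F) p' p = 0 := by
    intro p p' hpp
    have h3 := hcol p q1 p' q1 (fun h => hq (congrArg Prod.snd h))
    have h4 := hcol p q1 p q1 (fun h => hq (congrArg Prod.snd h))
    rw [if_neg (fun h => hpp (congrArg Prod.fst h))] at h3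
    rw [if_pos rfl] at h4
    have hb : (b : Matrix (Fin n₂) (Fin n₂) F) q1 q1 ≠ 0 := by
      intro h0
      rw [h0, mul_zero] at h4
      exact zero_ne_one h4
    exact (mul_eq_zero.1 h3).resolve_right hb
  -- `b` is diagonal
  have hb : ∀ q q', q' ≠ q → (b : Matrix (Fin n₂) (Fin n₂) F) q' q = 0 := by
    intro q q' hqq
    have h3 := hcol p1 q p1 q' (fun h => hp (congrArg Prod.fst h))
    have h4 := hcol p1 q p1 q (fun h => hp (congrArg Prod.fst h))
    rw [if_neg (fun h => hqq (congrArg Prod.snd h))] at h3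
    rw [if_pos rfl] at h4
    have ha' : (a : Matrix (Fin n₁) (Fin n₁) F) p1 p1 ≠ 0 := by
      intro h0
      rw [h0, zero_mul] at h4
      exact zero_ne_one h4
    exact (mul_eq_zero.1 h3).resolve_left ha'
  -- the coordinate `(p0, q0)` of the image of `w`
  have h5 := congrFun (hact w) (p0, q0)
  rw [hw1, mul_one] at h5
  simp only [Pi.add_apply, Pi.smul_apply, Pi.single_apply, if_pos, hw0, zero_add, smul_eq_mul,
    mul_one] at h5
  have h6 : (((kron a b : Matrix.GeneralLinearGroup (Fin n₁ × Fin n₂) F) :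
      Matrix (Fin n₁ × Fin n₂) (Fin n₁ × Fin n₂) F) *ᵥ w) (p0, q0) = 0 := by
    simp only [Matrix.mulVec, dotProduct]
    refine Finset.sum_eq_zero fun x _ => ?_
    obtain ⟨p, q⟩ := x
    rw [← hentry]
    by_cases hpp : p0 = p
    · by_cases hqq : q0 = q
      · subst hpp; subst hqq
        rw [hw0, mul_zero]
      · rw [hb q q0 hqq, mul_zero, zero_mul]
    · rw [ha p p0 hpp, zero_mul, zero_mul]
  rw [h6] at h5
  exact zero_ne_one h5

end tensor

/-! ### quadratic forms -/

section quad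

theorem quad_add {Q : V → F} (hpol : ∀ u v, QuadraticMap.polar Q u v = sympForm m F u v) (u v : V) :
    Q (u + v) = Q u + Q v + sympForm m F u v := by
  rw [← hpol]
  unfold QuadraticMap.polar
  ring

/-- the value of the quadratic form on the image under a transvection -/
theorem quad_tv {Q : V → F} (hQ : IsNondegenerateQuadraticForm Q)
    (hpol : ∀ u v, QuadraticMap.polar Q u v = sympForm m F u v) (v : V) (c : F) (x : V) :
    Q ((tvGL m v c : MatV) *ᵥ x) =
      Q x + (sympForm m F x v) ^ 2 * (c ^ 2 * Q v + c) := by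
  rw [tvGL_mulVec, quad_add hpol, hQ.smul, sympForm_smul_right]
  ring

theorem two_eq_zero_of_polar (hm : 1 ≤ m) {Q : V → F} (hQ : IsNondegenerateQuadraticForm Q)
    (hpol : ∀ u v, QuadraticMap.polar Q u v = sympForm m F u v) : (2 : F) = 0 := by
  by_contra h2
  -- then `Q = 0`
  have hQ0 : ∀ x, Q x = 0 := by
    intro x
    have h1 := quad_add hpol x x
    rw [sympForm_self, add_zero] at h1
    have h3 : Q (x + x) = 4 * Q x := by
      have : x + x = (2 : F) • x := by rw [two_smul]
      rw [this, hQ.smul]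
      ring
    rw [h3] at h1
    have : (2 : F) * Q x = 0 := by linear_combination h1
    exact (mul_eq_zero.1 this).resolve_left h2
  set v : V := Pi.single (Sum.inl ⟨0, by omega⟩) 1 with hv
  have hv0 : v ≠ 0 := by
    intro h
    have := congrFun h (Sum.inl ⟨0, by omega⟩)
    simp [hv] at this
  obtain ⟨z, hz⟩ := exists_sympForm_ne_zero hv0
  have := quad_add hpol z v
  rw [hQ0, hQ0, hQ0, hz] at this
  simp at this

/-- a non-zero singular vector -/
theorem exists_singular [Fintype F] (hm : 2 ≤ m) {Q : V → F} (hQ : IsNondegenerateQuadraticForm Q)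
    (hpol : ∀ u v, QuadraticMap.polar Q u v = sympForm m F u v) :
    ∃ v : V, v ≠ 0 ∧ Q v = 0 := by
  have h2 : (2 : F) = 0 := two_eq_zero_of_polar (by omega) hQ hpol
  haveI : CharP F 2 := by
    have : ringChar F = 2 := by
      have hdvd : ringChar F ∣ 2 := by
        apply (CharP.cast_eq_zero_iff F (ringChar F) 2).1
        exact_mod_cast h2
      have hp : (ringChar F).Prime := CharP.char_is_prime F (ringChar F)
      exact (Nat.prime_dvd_prime_iff_eq hp Nat.prime_two).1 hdvd
    exact this ▸ ringChar.charP F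
  set u : V := Pi.single (Sum.inl ⟨0, by omega⟩) 1 with hu
  have hu0 : u ≠ 0 := by
    intro h
    have := congrFun h (Sum.inl ⟨0, by omega⟩)
    simp [hu] at this
  by_cases hQu : Q u = 0
  · exact ⟨u, hu0, hQu⟩
  obtain ⟨z, hz⟩ := exists_sympForm_ne_zero hu0
  obtain ⟨w, hw0, huw, hzw⟩ := exists_ne_zero_orth hm u z
  obtain ⟨a, ha⟩ : ∃ a : F, a * a = Q w / Q u := by
    obtain ⟨a, ha⟩ := FiniteField.isSquare_of_char_two (F := F) (CharP.ringChar_of_prime_eq_zero Nat.prime_two h2) (Q w / Q u)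
    exact ⟨a, ha.symm⟩
  refine ⟨a • u + w, ?_, ?_⟩
  · intro h0
    have h3 : sympForm m F z (a • u + w) = 0 := by
      rw [h0]
      exact Cfsg.Agent.Lib.Helper5.SpDecompMax.sympForm_zero_right z
    rw [sympForm_add_right, sympForm_smul_right, hz, hzw, mul_one, add_zero] at h3
    rw [h3, zero_smul, zero_add] at h0
    exact hw0 h0
  · rw [quad_add hpol, hQ.smul, sympForm_smul_left, huw, mul_zero, add_zero, pow_two, ha,
      div_mul_cancel₀ _ hQu]
    linear_combination Q w * h2

theorem not_le_quadSim [Fintype F] (hm : 2 ≤ m) {Q : V → F} (hQ : IsNondegenerateQuadraticForm Q)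
    (hpol : ∀ u v, QuadraticMap.polar Q u v = sympForm m F u v) :
    ¬ spGL m F ≤ quadSimilarityGroup Q := by
  intro hle
  obtain ⟨v, hv0, hQv⟩ := exists_singular hm hQ hpol
  obtain ⟨μ, hμ⟩ := hle (tvGL_mem m v 1)
  obtain ⟨x, hx⟩ := exists_sympForm_ne_zero hv0
  have e1 := hμ x
  have e2 := hμ (x + v)
  rw [quad_tv hQ hpol, hQv, hx] at e1
  rw [quad_tv hQ hpol, hQv, sympForm_add_left, hx, sympForm_self, quad_add hpol, hQv, hx] at e2
  have hμ1 : (μ : F) = 1 := by linear_combination e1 - e2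
  rw [hμ1] at e1
  have : (1 : F) = 0 := by linear_combination e1
  exact one_ne_zero this

end quad

end Cfsg.Agent.Lib.Helper4.MaxS
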