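import Mathlib
import Cfsg.Prelude
import Cfsg.Agent.Lib.Helper4.MaxS4
import Cfsg.Agent.Lib.Helper4.MaxS12

set_option autoImplicit false
set_option maxHeartbeats 4000000
set_option maxRecDepth 100000
set_option linter.unusedVariables false
set_option linter.unusedSectionVars false
set_option linter.style.haveILetI false
set_option linter.deprecated false

/-! Tensor decompositions with a three-dimensional symmetric factor over the field with three
elements stabilise a non-degenerate decomposition into three blocks. -/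

namespace Cfsg.Agent.Lib.Helper4.MaxS

open Matrix Cfsg Cfsg.Geo Module
open Cfsg.Agent.Lib.Helper5.SympTv Cfsg.Agent.Lib.Helper5.SympGen
  Cfsg.Agent.Lib.Helper5.SympBridge Cfsg.Agent.Lib.Helper5.SpCentres
  Cfsg.Agent.Lib.Helper5.SpSingularMax
open Kronecker Cfsg.Agent.Lib.Helper5.TensorSub

section pure

variable {F : Type*} [Field F] {n₁ n₂ : ℕ}

/-- pure tensors -/
def pt (u : Fin n₁ → F) (w : Fin n₂ → F) : Fin n₁ × Fin n₂ → F := fun p => u p.1 * w p.2

theorem pt_apply (u : Fin n₁ → F) (w : Fin n₂ → F) (p : Fin n₁ × Fin n₂) :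
    pt u w p = u p.1 * w p.2 := rfl

/-- pure tensors with a fixed second factor, as a linear map -/
def ptL (w : Fin n₂ → F) : (Fin n₁ → F) →ₗ[F] (Fin n₁ × Fin n₂ → F) where
  toFun u := pt u w
  map_add' u u' := by
    ext p
    simp only [pt_apply, Pi.add_apply]
    ring
  map_smul' c u := by
    ext p
    simp only [pt_apply, Pi.smul_apply, smul_eq_mul, RingHom.id_apply]
    ring

theorem ptL_apply (w : Fin n₂ → F) (u : Fin n₁ → F) : ptL w u = pt u w := rfl

theorem pt_smul_right (c : F) (u : Fin n₁ → F) (w : Fin n₂ → F) :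
    pt u (c • w) = pt (c • u) w := by
  ext p
  simp only [pt_apply, Pi.smul_apply, smul_eq_mul]
  ring

theorem pt_zero_left (w : Fin n₂ → F) : pt (0 : Fin n₁ → F) w = 0 := by
  ext p
  simp [pt_apply]

theorem ptL_injective {w : Fin n₂ → F} (hw : w ≠ 0) :
    Function.Injective (ptL (n₁ := n₁) w) := by
  intro u u' h
  obtain ⟨q, hq⟩ : ∃ q, w q ≠ 0 := by
    by_contra hcon
    push Not at hcon
    exact hw (funext hcon)
  ext p
  have := congrFun h (p, q)
  simp only [ptL_apply, pt_apply] at this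
  exact mul_right_cancel₀ hq this

theorem kron_mulVec_pt (A : Matrix (Fin n₁) (Fin n₁) F) (B : Matrix (Fin n₂) (Fin n₂) F)
    (u : Fin n₁ → F) (w : Fin n₂ → F) : (A ⊗ₖ B) *ᵥ pt u w = pt (A *ᵥ u) (B *ᵥ w) := by
  ext ⟨i, j⟩
  simp only [Matrix.mulVec, dotProduct, pt_apply]
  rw [Fintype.sum_prod_type, Finset.sum_mul_sum]
  refine Finset.sum_congr rfl fun i' _ => Finset.sum_congr rfl fun j' _ => ?_
  rw [Matrix.kroneckerMap_apply]
  ring

theorem formOfGram_pt (G₁ : Matrix (Fin n₁) (Fin n₁) F) (G₂ : Matrix (Fin n₂) (Fin n₂) F)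
    (u u' : Fin n₁ → F) (w w' : Fin n₂ → F) :
    formOfGram id (G₁ ⊗ₖ G₂) (pt u w) (pt u' w') =
      formOfGram id G₁ u u' * formOfGram id G₂ w w' := by
  unfold formOfGram
  simp only [Fintype.sum_prod_type]
  rw [Finset.sum_mul_sum]
  refine Finset.sum_congr rfl fun i _ => Finset.sum_congr rfl fun j _ => ?_
  rw [Finset.sum_mul_sum]
  refine Finset.sum_congr rfl fun i' _ => Finset.sum_congr rfl fun j' _ => ?_
  simp only [pt_apply, Matrix.kroneckerMap_apply, id]
  ring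

end pure

section main

variable {F : Type*} [Field F] {m : ℕ}

local notation "V" => (Fin m ⊕ Fin m → F)
local notation "GLV" => Matrix.GeneralLinearGroup (Fin m ⊕ Fin m) F
local notation "MatV" => Matrix (Fin m ⊕ Fin m) (Fin m ⊕ Fin m) F

/-- the coordinate isomorphism of a tensor structure -/
noncomputable def tau {κ : Type} [Fintype κ] [DecidableEq κ] (e : (Fin m ⊕ Fin m) ≃ κ) (P : GLV) :
    (κ → F) →ₗ[F] V where
  toFun x := (P : MatV) *ᵥ (x ∘ e)
  map_add' x y := by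
    rw [← Matrix.mulVec_add]
    rfl
  map_smul' c x := by
    rw [RingHom.id_apply, ← Matrix.mulVec_smul]
    rfl

theorem tau_apply {κ : Type} [Fintype κ] [DecidableEq κ] (e : (Fin m ⊕ Fin m) ≃ κ) (P : GLV)
    (x : κ → F) : tau e P x = (P : MatV) *ᵥ (x ∘ e) := rfl

theorem tau_injective {κ : Type} [Fintype κ] [DecidableEq κ] (e : (Fin m ⊕ Fin m) ≃ κ) (P : GLV) :
    Function.Injective (tau e P) :=
  fun x y h => comp_equiv_injective e (gl_mulVec_injective P h)

theorem tau_surjective {κ : Type} [Fintype κ] [DecidableEq κ] (e : (Fin m ⊕ Fin m) ≃ κ) (P : GLV) :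
    Function.Surjective (tau e P) := by
  intro v
  refine ⟨(((P⁻¹ : GLV) : MatV) *ᵥ v) ∘ e.symm, ?_⟩
  rw [tau_apply]
  have : ((((P⁻¹ : GLV) : MatV) *ᵥ v) ∘ e.symm) ∘ e = ((P⁻¹ : GLV) : MatV) *ᵥ v := by
    ext i
    simp
  rw [this, gl_mulVec_inv]

/-- the block of a vector of the second factor -/
noncomputable def blk {n₁ n₂ : ℕ} (e : (Fin m ⊕ Fin m) ≃ Fin n₁ × Fin n₂) (P : GLV)
    (w : Fin n₂ → F) : Submodule F V :=
  LinearMap.range ((tau e P).comp (ptL (n₁ := n₁) w))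

theorem mem_blk {n₁ n₂ : ℕ} (e : (Fin m ⊕ Fin m) ≃ Fin n₁ × Fin n₂) (P : GLV)
    (w : Fin n₂ → F) (v : V) : v ∈ blk e P w ↔ ∃ u : Fin n₁ → F, tau e P (pt u w) = v := by
  unfold blk
  rw [LinearMap.mem_range]
  rfl

theorem act_tau_pt {n₁ n₂ : ℕ} (e : (Fin m ⊕ Fin m) ≃ Fin n₁ × Fin n₂) (P : GLV)
    (a : Matrix.GeneralLinearGroup (Fin n₁) F) (b : Matrix.GeneralLinearGroup (Fin n₂) F)
    (u : Fin n₁ → F) (w : Fin n₂ → F) :
    ((Phi e P (kron a b) : GLV) : MatV) *ᵥ tau e P (pt u w) =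
      tau e P (pt ((a : Matrix (Fin n₁) (Fin n₁) F) *ᵥ u)
        ((b : Matrix (Fin n₂) (Fin n₂) F) *ᵥ w)) := by
  rw [tau_apply, Phi_mulVec, coe_kron, kron_mulVec_pt]
  rfl

/-- the form on images of pure tensors -/
theorem form_tau_pt {n₁ n₂ : ℕ} {e : (Fin m ⊕ Fin m) ≃ Fin n₁ × Fin n₂} {P : GLV}
    {f₁ : (Fin n₁ → F) → (Fin n₁ → F) → F} {f₂ : (Fin n₂ → F) → (Fin n₂ → F) → F}
    (hf₁ : IsBilinearForm f₁) (hf₂ : IsBilinearForm f₂) {c : F}
    (hform : ∀ x y : Fin n₁ × Fin n₂ → F,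
      sympForm m F ((P : MatV) *ᵥ (x ∘ e)) ((P : MatV) *ᵥ (y ∘ e)) =
        c * formOfGram id (gramMatrix f₁ ⊗ₖ gramMatrix f₂) x y)
    (u u' : Fin n₁ → F) (w w' : Fin n₂ → F) :
    sympForm m F (tau e P (pt u w)) (tau e P (pt u' w')) = c * (f₁ u u' * f₂ w w') := by
  rw [tau_apply, tau_apply, hform, formOfGram_pt, formOfGram_gram hf₁, formOfGram_gram hf₂]

variable [Fintype F]

/-- over the field with three elements, a tensor decomposition with a three-dimensional symmetric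
factor stabilises a non-degenerate decomposition into three blocks -/
theorem decomp_of_tensor_three (hq : Fintype.card F = 3) {n₁ : ℕ} (hn₁ : 0 < n₁)
    (e : (Fin m ⊕ Fin m) ≃ Fin n₁ × Fin 3) (P : GLV)
    (f₁ : (Fin n₁ → F) → (Fin n₁ → F) → F) (f₂ : (Fin 3 → F) → (Fin 3 → F) → F)
    (hf₁ : IsSymplecticForm f₁) (hf₂ : IsSymmetricForm f₂)
    (hten : IsTensorFormStructure id (sympForm m F) f₁ f₂ e P) :
    ∃ D : Fin 3 → Submodule F V, IsNondegenerateMDecomposition (sympForm m F) n₁ D ∧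
      tensorProductSubgroup n₁ 3 e P ⊓ spGL m F ≤ decompositionStabilizer D := by
  classical
  obtain ⟨c, hc0, hform⟩ := hten
  obtain ⟨ε, b, hb⟩ := exists_frame3 hq hf₂
  have hb1 := hf₁.bilinear
  have hb2 := hf₂.bilinear
  have hpair : ∀ (u u' : Fin n₁ → F) (w w' : Fin 3 → F),
      sympForm m F (tau e P (pt u w)) (tau e P (pt u' w')) = c * (f₁ u u' * f₂ w w') :=
    fun u u' w w' => form_tau_pt hb1 hb2 hform u u' w w'
  set D : Fin 3 → Submodule F V := fun j => blk e P (b j) with hD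
  have hmemD : ∀ j (v : V), v ∈ D j ↔ ∃ u : Fin n₁ → F, tau e P (pt u (b j)) = v :=
    fun j v => mem_blk e P (b j) v
  -- non-degeneracy of the blocks
  have hnondeg : ∀ i, IsNondegenerateOn (sympForm m F) (D i) := by
    intro i w hw hw0
    obtain ⟨u, rfl⟩ := (hmemD i w).1 hw
    have hu0 : u ≠ 0 := by
      rintro rfl
      apply hw0
      rw [pt_zero_left, map_zero]
    obtain ⟨⟨u', hu'⟩, ⟨u'', hu''⟩⟩ := hf₁.nondegenerate u hu0
    constructor
    · refine ⟨tau e P (pt u' (b i)), (hmemD i _).2 ⟨u', rfl⟩, ?_⟩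
      rw [hpair, hb.norm]
      exact mul_ne_zero hc0 (mul_ne_zero hu' hb.ne)
    · refine ⟨tau e P (pt u'' (b i)), (hmemD i _).2 ⟨u'', rfl⟩, ?_⟩
      rw [hpair, hb.norm]
      exact mul_ne_zero hc0 (mul_ne_zero hu'' hb.ne)
  have horth : ∀ i j, i ≠ j → AreOrthogonalFor (sympForm m F) (D i) (D j) := by
    intro i j hij x hx y hy
    obtain ⟨u, rfl⟩ := (hmemD i x).1 hx
    obtain ⟨u', rfl⟩ := (hmemD j y).1 hy
    rw [hpair, hb.orth i j hij, mul_zero, mul_zero]
  -- the decomposition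
  have hdec : IsMDecomposition n₁ D := by
    refine ⟨by norm_num, hn₁, ?_, ?_, ?_⟩
    · intro i
      show finrank F (LinearMap.range ((tau e P).comp (ptL (n₁ := n₁) (b i)))) = n₁
      rw [LinearMap.finrank_range_of_inj, Module.finrank_fin_fun]
      exact (tau_injective e P).comp (ptL_injective (hb.ne_zero hb2 i))
    · rw [iSupIndep_def]
      intro i
      rw [Submodule.disjoint_def]
      intro x hxi hxs
      by_contra hx0
      obtain ⟨y, hy, hyx⟩ := (hnondeg i x hxi hx0).1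
      apply hyx
      have hle : (⨆ (j) (_ : j ≠ i), D j) ≤ perp m (D i) := by
        refine iSup₂_le fun j hj => ?_
        intro z hz
        rw [mem_perp]
        intro w hw
        exact horth i j (Ne.symm hj) w hw z hz
      exact (mem_perp (D i) x).1 (hle hxs) y hy
    · rw [eq_top_iff]
      intro v _
      obtain ⟨x, rfl⟩ := tau_surjective e P v
      have hx : x = ∑ j, pt (fun p => f₂ (fun q => x (p, q)) (b j) * ε⁻¹) (b j) := by
        ext ⟨p, q⟩
        rw [Finset.sum_apply]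
        have h1 := hb.expand hb2 (fun q => x (p, q))
        have h2 := congrFun h1 q
        rw [Finset.sum_apply] at h2
        exact h2
      rw [hx, map_sum]
      refine Submodule.sum_mem _ fun j _ => ?_
      exact Submodule.mem_iSup_of_mem j ((hmemD j _).2 ⟨_, rfl⟩)
  refine ⟨D, ⟨hdec, hnondeg, horth⟩, ?_⟩
  -- the stabiliser
  rintro g ⟨hgt, hgs⟩
  obtain ⟨a, bb, rfl⟩ := (mem_tensor e P g).1 hgt
  have hsp := (mem_spGL_iff m _).1 hgs
  set A : Matrix (Fin n₁) (Fin n₁) F := (a : Matrix (Fin n₁) (Fin n₁) F) with hA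
  set B : Matrix (Fin 3) (Fin 3) F := (bb : Matrix (Fin 3) (Fin 3) F) with hB
  have hstar : ∀ (u u' : Fin n₁ → F) (w w' : Fin 3 → F),
      f₁ (A *ᵥ u) (A *ᵥ u') * f₂ (B *ᵥ w) (B *ᵥ w') = f₁ u u' * f₂ w w' := by
    intro u u' w w'
    have h1 := hsp (tau e P (pt u w)) (tau e P (pt u' w'))
    rw [act_tau_pt, act_tau_pt, hpair, hpair] at h1
    exact mul_left_cancel₀ hc0 h1
  -- a pair of vectors on which the first form does not vanish
  obtain ⟨u₀, u₀', hu₀⟩ : ∃ u₀ u₀' : Fin n₁ → F, f₁ u₀ u₀' ≠ 0 := by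
    have hne : (Pi.single (⟨0, hn₁⟩ : Fin n₁) (1 : F) : Fin n₁ → F) ≠ 0 := by
      intro h
      have := congrFun h ⟨0, hn₁⟩
      simp at this
    obtain ⟨-, ⟨x, hx⟩⟩ := hf₁.nondegenerate _ hne
    exact ⟨_, x, hx⟩
  set l : F := f₁ (A *ᵥ u₀) (A *ᵥ u₀') with hl
  have hl0 : l ≠ 0 := by
    intro h0
    have h1 := hstar u₀ u₀' (b 0) (b 0)
    rw [← hl, h0, zero_mul, hb.norm] at h1
    exact mul_ne_zero hu₀ hb.ne h1.symm
  set μ : F := f₁ u₀ u₀' * l⁻¹ with hμ
  have hμ0 : μ ≠ 0 := mul_ne_zero hu₀ (inv_ne_zero hl0)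
  have hsim : ∀ w w' : Fin 3 → F, f₂ (B *ᵥ w) (B *ᵥ w') = μ * f₂ w w' := by
    intro w w'
    have h1 := hstar u₀ u₀' w w'
    rw [← hl] at h1
    rw [hμ, mul_assoc, mul_comm l⁻¹, ← mul_assoc, ← h1, mul_comm l, mul_assoc,
      mul_inv_cancel₀ hl0, mul_one]
  have hmono := hb.monomial hq hb2 (fun j => B *ᵥ b j) μ hμ0 (fun i j => hsim (b i) (b j))
  choose σ₀ d hd hσ using hmono
  have hinj : Function.Injective σ₀ := by
    intro j j' hjj
    by_contra hne
    have h1 := hsim (b j) (b j')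
    rw [hb.orth j j' hne, mul_zero, hσ j, hσ j', hjj, hb2.smul_left, hb2.smul_right,
      hb.norm] at h1
    exact mul_ne_zero (hd j) (mul_ne_zero (hd j') hb.ne) h1
  set σ : Equiv.Perm (Fin 3) := Equiv.ofBijective σ₀ (Finite.injective_iff_bijective.1 hinj)
    with hσdef
  have hact : ∀ j (u : Fin n₁ → F),
      ((Phi e P (kron a bb) : GLV) : MatV) *ᵥ tau e P (pt u (b j)) =
        tau e P (pt (d j • (A *ᵥ u)) (b (σ j))) := by
    intro j u
    rw [act_tau_pt, ← hB, hσ j, pt_smul_right]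
    rfl
  refine ⟨σ, fun j => ?_⟩
  apply le_antisymm
  · rintro x ⟨y, hy, rfl⟩
    obtain ⟨u, rfl⟩ := (hmemD j y).1 hy
    rw [Matrix.toLin'_apply, hact]
    exact (hmemD (σ j) _).2 ⟨_, rfl⟩
  · intro y hy
    obtain ⟨u', rfl⟩ := (hmemD (σ j) y).1 hy
    refine ⟨tau e P (pt ((d j)⁻¹ • (((a⁻¹ : Matrix.GeneralLinearGroup (Fin n₁) F) :
      Matrix (Fin n₁) (Fin n₁) F) *ᵥ u')) (b j)), (hmemD j _).2 ⟨_, rfl⟩, ?_⟩
    rw [Matrix.toLin'_apply, hact]
    congr 2
    rw [Matrix.mulVec_smul, smul_smul, mul_inv_cancel₀ (hd j), one_smul, hA, gl_mulVec_inv]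

end main

end Cfsg.Agent.Lib.Helper4.MaxS
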