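import Mathlib
import Cfsg.Prelude
import Cfsg.Agent.Lib.Helper4.MaxS4
import Cfsg.Agent.Lib.Helper5.AltForm

set_option autoImplicit false
set_option maxHeartbeats 4000000
set_option maxRecDepth 100000
set_option linter.unusedVariables false
set_option linter.unusedSectionVars false
set_option linter.style.haveILetI false
set_option linter.deprecated false

/-! Parameters of the members of the geometric classes of the symplectic group. -/

namespace Cfsg.Agent.Lib.Helper4.MaxS

open Matrix Cfsg Cfsg.Geo Module
open Cfsg.Agent.Lib.Helper5.SympTv Cfsg.Agent.Lib.Helper5.SympGen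
  Cfsg.Agent.Lib.Helper5.SympBridge Cfsg.Agent.Lib.Helper5.SpCentres
  Cfsg.Agent.Lib.Helper5.SpSingularMax

universe u

variable {F : Type u} [Field F] {m : ℕ}

local notation "V" => (Fin m ⊕ Fin m → F)
local notation "GLV" => Matrix.GeneralLinearGroup (Fin m ⊕ Fin m) F
local notation "MatV" => Matrix (Fin m ⊕ Fin m) (Fin m ⊕ Fin m) F

theorem finrank_V : finrank F V = 2 * m := by
  rw [Module.finrank_fintype_fun_eq_card, Fintype.card_sum, Fintype.card_fin, two_mul]

/-- an alternating form with trivial kernel lives in even dimension -/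
theorem even_finrank_of_alt {W : Type u} [AddCommGroup W] [Module F W] [FiniteDimensional F W]
    (B : LinearMap.BilinForm F W) (hA : B.IsAlt) (hker : LinearMap.ker B = ⊥) :
    Even (finrank F W) := by
  obtain ⟨r, k', b, h1, h2, h3, h4, h5, h6⟩ :=
    Cfsg.Agent.Lib.Helper5.AltForm.exists_darboux_basis B hA
  rw [hker, finrank_bot] at h6
  exact ⟨r, by omega⟩

/-- a subspace on which the symplectic form is non-degenerate has even dimension -/
theorem even_finrank_of_nondegOn (W : Submodule F V) (hW : IsNondegenerateOn (sympForm m F) W) :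
    Even (finrank F W) := by
  have hA : ((sympBilin F m).restrict W).IsAlt := fun x => sympForm_self m x.1
  apply even_finrank_of_alt ((sympBilin F m).restrict W) hA
  rw [eq_bot_iff]
  intro x hx
  rw [Submodule.mem_bot]
  by_contra hx0
  have hx0' : x.1 ≠ 0 := fun h => hx0 (Subtype.ext h)
  obtain ⟨y, hy, hxy⟩ := (hW x.1 x.2 hx0').2
  rw [LinearMap.mem_ker] at hx
  have := LinearMap.congr_fun hx ⟨y, hy⟩
  exact hxy this

/-- a non-degenerate symplectic form on `F^n` forces `n` to be even -/
theorem even_of_symplecticForm {n : ℕ} {f₁ : (Fin n → F) → (Fin n → F) → F}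
    (h : IsSymplecticForm f₁) : Even n := by
  let B : LinearMap.BilinForm F (Fin n → F) :=
    LinearMap.mk₂ F f₁ h.bilinear.add_left
      (fun c u v => by rw [h.bilinear.smul_left, smul_eq_mul]) h.bilinear.add_right
      (fun c u v => by rw [h.bilinear.smul_right, smul_eq_mul])
  have hA : B.IsAlt := fun v => h.alternating v
  have hker : LinearMap.ker B = ⊥ := by
    rw [eq_bot_iff]
    intro x hx
    rw [Submodule.mem_bot]
    by_contra hx0
    obtain ⟨y, hy⟩ := (h.nondegenerate x hx0).2
    rw [LinearMap.mem_ker] at hx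
    exact hy (LinearMap.congr_fun hx y)
  have := even_finrank_of_alt B hA hker
  rwa [Module.finrank_fin_fun] at this

/-- the parameters of a non-degenerate decomposition -/
theorem decomp_params {t k : ℕ} {D : Fin t → Submodule F V}
    (hD : IsNondegenerateMDecomposition (sympForm m F) k D) : t * k = 2 * m ∧ Even k := by
  classical
  constructor
  · have hint : DirectSum.IsInternal D :=
      DirectSum.isInternal_submodule_of_iSupIndep_of_iSup_eq_top hD.decomp.indep
        hD.decomp.iSup_eq_top
    have e := LinearEquiv.ofBijective (DirectSum.coeLinearMap D) hint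
    have h1 : finrank F V = t * k := by
      rw [← e.finrank_eq, Module.finrank_directSum]
      simp [hD.decomp.finrank_eq]
    rw [← h1, finrank_V]
  · have i : Fin t := ⟨0, by have := hD.decomp.two_le; omega⟩
    have := even_finrank_of_nondegOn (D i) (hD.nondegenerate i)
    rwa [hD.decomp.finrank_eq] at this

/-- the parameters of a pair of totally singular subspaces -/
theorem pair_params {k : ℕ} {D : Fin 2 → Submodule F V} (hD : IsMDecomposition k D) : k = m := by
  classical
  have hint : DirectSum.IsInternal D :=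
    DirectSum.isInternal_submodule_of_iSupIndep_of_iSup_eq_top hD.indep hD.iSup_eq_top
  have e := LinearEquiv.ofBijective (DirectSum.coeLinearMap D) hint
  have h1 : finrank F V = 2 * k := by
    rw [← e.finrank_eq, Module.finrank_directSum]
    simp [hD.finrank_eq]
  rw [finrank_V] at h1
  omega

section fielddeg
variable {ι : Type} [Fintype ι] [DecidableEq ι]

/-- the degree of a field acting on `F^ι` divides the dimension -/
theorem finrank_dvd_of_algHom' {L : Type*} [Field L] [Algebra F L]
    (φ : L →ₐ[F] Matrix ι ι F) (hpos : 0 < finrank F L) : finrank F L ∣ Fintype.card ι := by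
  letI modL : Module L (ι → F) := Module.compHom (ι → F)
    ((((Matrix.toLinAlgEquiv' : Matrix ι ι F ≃ₐ[F] Module.End F (ι → F)) :
      Matrix ι ι F →ₐ[F] Module.End F (ι → F)).comp φ) : L →+* Module.End F (ι → F))
  have hsmul : ∀ (l : L) (x : ι → F), l • x = (φ l) *ᵥ x := fun l x => rfl
  haveI : IsScalarTower F L (ι → F) := by
    refine ⟨fun c l x => ?_⟩
    rw [hsmul, hsmul, map_smul, Matrix.smul_mulVec]
  haveI : FiniteDimensional F L := Module.finite_of_finrank_pos hpos
  haveI : FiniteDimensional L (ι → F) :=
    Module.Finite.of_restrictScalars_finite F L (ι → F)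
  have hmul : finrank F L * finrank L (ι → F) = Fintype.card ι := by
    rw [Module.finrank_mul_finrank F L (ι → F)]
    simp
  exact ⟨_, hmul.symm⟩

theorem isField_of_fieldSubalgebra {r : ℕ} (hr : 0 < r) {K : Subalgebra F (Matrix ι ι F)}
    (hK : IsFieldSubalgebra r K) : IsField ↥K := by
  refine ⟨?_, ?_, ?_⟩
  · haveI : Nontrivial ↥K := by
      apply (Module.finrank_pos_iff (R := F)).mp
      rw [hK.finrank_eq]
      exact hr
    exact exists_pair_ne ↥K
  · intro x y
    exact Subtype.ext (hK.comm x.1 x.2 y.1 y.2)
  · intro a ha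
    have ha' : a.1 ≠ 0 := fun h => ha (Subtype.ext h)
    obtain ⟨y, hy, hay⟩ := hK.inv a.1 a.2 ha'
    exact ⟨⟨y, hy⟩, Subtype.ext hay⟩

theorem dvd_of_fieldSubalgebra' {r : ℕ} (hr : 0 < r) {K : Subalgebra F (Matrix ι ι F)}
    (hK : IsFieldSubalgebra r K) : r ∣ Fintype.card ι := by
  classical
  letI : Field ↥K := (isField_of_fieldSubalgebra hr hK).toField
  have hfr : Module.finrank F ↥K = r := hK.finrank_eq
  have h := finrank_dvd_of_algHom' (F := F) (L := ↥K) (ι := ι) K.val (by rw [hfr]; exact hr)
  rwa [hfr] at h

end fielddeg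

theorem field_dvd {r : ℕ} (hr : 0 < r) {K : Subalgebra F MatV} (hK : IsFieldSubalgebra r K) :
    r ∣ 2 * m := by
  have := dvd_of_fieldSubalgebra' hr hK
  rwa [Fintype.card_sum, Fintype.card_fin, ← two_mul] at this

theorem tensor_card {n₁ n₂ : ℕ} (e : (Fin m ⊕ Fin m) ≃ Fin n₁ × Fin n₂) : n₁ * n₂ = 2 * m := by
  have := Fintype.card_congr e
  rw [Fintype.card_sum, Fintype.card_fin, Fintype.card_prod, Fintype.card_fin, Fintype.card_fin]
    at this
  omega

theorem wreath_card {k t : ℕ} (e : (Fin m ⊕ Fin m) ≃ (Fin t → Fin k)) : k ^ t = 2 * m := by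
  have := Fintype.card_congr e
  rw [Fintype.card_sum, Fintype.card_fin, Fintype.card_fun, Fintype.card_fin, Fintype.card_fin]
    at this
  omega

end Cfsg.Agent.Lib.Helper4.MaxS
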