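import Mathlib
import Cfsg.Prelude
import Cfsg.Agent.Lib.Helper4.MaxS5

set_option autoImplicit false
set_option maxHeartbeats 4000000
set_option maxRecDepth 100000
set_option linter.unusedVariables false
set_option linter.unusedSectionVars false
set_option linter.style.haveILetI false
set_option linter.deprecated false

/-! A self-adjoint quadratic field all of whose elements are alternating for the symplectic form
exists only when the dimension is divisible by four. -/

namespace Cfsg.Agent.Lib.Helper4.MaxS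

open Matrix Cfsg Cfsg.Geo Module
open Cfsg.Agent.Lib.Helper5.SympTv Cfsg.Agent.Lib.Helper5.SympGen
  Cfsg.Agent.Lib.Helper5.SympBridge Cfsg.Agent.Lib.Helper5.SpCentres
  Cfsg.Agent.Lib.Helper5.SpSingularMax

universe u

variable {F : Type u} [Field F] {m : ℕ}

local notation "V" => (Fin m ⊕ Fin m → F)
local notation "GLV" => Matrix.GeneralLinearGroup (Fin m ⊕ Fin m) F
local notation "MatV" => Matrix (Fin m ⊕ Fin m) (Fin m ⊕ Fin m) F

/-- a two-dimensional subalgebra is spanned by `1` and any non-scalar element -/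
theorem exists_quadratic_gen {K : Subalgebra F MatV} (hK : IsFieldSubalgebra 2 K) :
    ∃ θ ∈ K, (∀ a b : F, a • (1 : MatV) + b • θ = 0 → a = 0 ∧ b = 0) ∧
      (∀ κ ∈ K, ∃ a b : F, κ = a • (1 : MatV) + b • θ) := by
  classical
  obtain ⟨θ, hθK, hθ⟩ : ∃ k ∈ K, ¬ ∃ c : F, k = c • (1 : MatV) := by
    by_contra hcon
    push Not at hcon
    have h1 : Module.finrank F K ≤ 1 := by
      apply finrank_le_one (⟨1, K.one_mem⟩ : K)
      intro w
      obtain ⟨c, hc⟩ := hcon w.1 w.2
      exact ⟨c, Subtype.ext (by simpa using hc.symm)⟩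
    rw [hK.finrank_eq] at h1
    omega
  have hindep : ∀ a b : F, a • (1 : MatV) + b • θ = 0 → a = 0 ∧ b = 0 := by
    intro a b hab
    have hb : b = 0 := by
      by_contra hb
      apply hθ
      refine ⟨-(a / b), ?_⟩
      have h1 : b • θ = -(a • (1 : MatV)) := eq_neg_of_add_eq_zero_right hab
      have h2 : θ = b⁻¹ • (b • θ) := by rw [smul_smul, inv_mul_cancel₀ hb, one_smul]
      rw [h2, h1, smul_neg, smul_smul, neg_smul, div_eq_inv_mul]
    subst hb
    rw [zero_smul, add_zero] at hab
    refine ⟨?_, rfl⟩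
    by_contra ha
    have h3 : (1 : MatV) = 0 := by
      have := congrArg (fun M => a⁻¹ • M) hab
      simpa [smul_smul, inv_mul_cancel₀ ha] using this
    -- then `θ = 0` is a scalar
    apply hθ
    refine ⟨0, ?_⟩
    rw [zero_smul]
    calc θ = θ * 1 := (mul_one θ).symm
      _ = 0 := by rw [h3, mul_zero]
  refine ⟨θ, hθK, hindep, ?_⟩
  -- spanning: the two elements are linearly independent in a space of dimension two
  let v : Fin 2 → K := ![⟨1, K.one_mem⟩, ⟨θ, hθK⟩]
  have hli : LinearIndependent F v := by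
    rw [Fintype.linearIndependent_iff]
    intro g hg
    have h1 : g 0 • (1 : MatV) + g 1 • θ = 0 := by
      have := congrArg Subtype.val hg
      simpa [v, Fin.sum_univ_two] using this
    obtain ⟨h0, h1'⟩ := hindep _ _ h1
    intro i
    fin_cases i
    · exact h0
    · exact h1'
  have hcard : Fintype.card (Fin 2) = finrank F K := by rw [hK.finrank_eq]; rfl
  let b := basisOfLinearIndependentOfCardEqFinrank hli hcard
  intro κ hκ
  have := b.sum_repr ⟨κ, hκ⟩
  have h2 := congrArg Subtype.val this
  rw [Fin.sum_univ_two] at h2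
  simp only [b, coe_basisOfLinearIndependentOfCardEqFinrank] at h2
  have hv : ∀ c0 c1 : F, ((c0 • v 0 + c1 • v 1 : ↥K) : MatV) = c0 • (1 : MatV) + c1 • θ := by
    intro c0 c1
    simp [v]
  exact ⟨_, _, h2.symm.trans (hv _ _)⟩

theorem even_of_quadratic_aux {L : Type u} [Field L] [Algebra F L] (φ : L →ₐ[F] MatV)
    (hfr : finrank F L = 2) (θ : L)
    (hindep : ∀ a b : F, a • (1 : L) + b • θ = 0 → a = 0 ∧ b = 0)
    (hspan : ∀ κ : L, ∃ a b : F, κ = a • (1 : L) + b • θ)
    (hsaθ : ∀ x y : V, sympForm m F (φ θ *ᵥ x) y = sympForm m F x (φ θ *ᵥ y))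
    (haltθ : ∀ v : V, sympForm m F (φ θ *ᵥ v) v = 0) : Even m := by
  classical
  obtain ⟨t, s, hθθ⟩ := hspan (θ * θ)
  letI modL : Module L V := Module.compHom V
    ((((Matrix.toLinAlgEquiv' : MatV ≃ₐ[F] Module.End F V) :
      MatV →ₐ[F] Module.End F V).comp φ) : L →+* Module.End F V)
  have hsmul : ∀ (l : L) (x : V), l • x = (φ l) *ᵥ x := fun l x => rfl
  haveI : IsScalarTower F L V := by
    refine ⟨fun c l x => ?_⟩
    rw [hsmul, hsmul, map_smul, Matrix.smul_mulVec]
  haveI : FiniteDimensional F L := Module.finite_of_finrank_pos (by rw [hfr]; norm_num)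
  haveI : FiniteDimensional L V := Module.Finite.of_restrictScalars_finite F L V
  -- the form with values in `L`
  let Bf : V → V → L := fun x y =>
    (sympForm m F (φ θ *ᵥ x) y - s * sympForm m F x y) • (1 : L) + sympForm m F x y • θ
  have hθsq : ∀ x : V, φ θ *ᵥ (φ θ *ᵥ x) = t • x + s • (φ θ *ᵥ x) := by
    intro x
    rw [Matrix.mulVec_mulVec, ← map_mul, hθθ, map_add, map_smul, map_smul, map_one,
      Matrix.add_mulVec, Matrix.smul_mulVec, Matrix.smul_mulVec, Matrix.one_mulVec]
  have hBadd_left : ∀ x x' y, Bf (x + x') y = Bf x y + Bf x' y := by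
    intro x x' y
    simp only [Bf, Matrix.mulVec_add, sympForm_add_left]
    module
  have hBadd_right : ∀ x y y', Bf x (y + y') = Bf x y + Bf x y' := by
    intro x y y'
    simp only [Bf, sympForm_add_right]
    module
  have hBsmulF_left : ∀ (c : F) x y, Bf (c • x) y = c • Bf x y := by
    intro c x y
    simp only [Bf, Matrix.mulVec_smul, sympForm_smul_left]
    module
  have hBsmulF_right : ∀ (c : F) x y, Bf x (c • y) = c • Bf x y := by
    intro c x y
    simp only [Bf, sympForm_smul_right]
    module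
  have hBθ_left : ∀ x y, Bf (φ θ *ᵥ x) y = θ * Bf x y := by
    intro x y
    simp only [Bf]
    rw [hθsq, sympForm_add_left, sympForm_smul_left, sympForm_smul_left, mul_add, mul_smul_comm,
      mul_smul_comm, mul_one, hθθ]
    module
  have hBθ_right : ∀ x y, Bf x (φ θ *ᵥ y) = θ * Bf x y := by
    intro x y
    rw [← hBθ_left]
    simp only [Bf]
    rw [← hsaθ x y, ← hsaθ (φ θ *ᵥ x) y]
  have hsmulV : ∀ (a b : F) (x : V), (a • (1 : L) + b • θ) • x = a • x + b • (φ θ *ᵥ x) := by
    intro a b x
    rw [hsmul, map_add, map_smul, map_smul, map_one, Matrix.add_mulVec, Matrix.smul_mulVec,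
      Matrix.smul_mulVec, Matrix.one_mulVec]
  let B : LinearMap.BilinForm L V :=
    LinearMap.mk₂ L Bf hBadd_left
      (by
        intro κ x y
        obtain ⟨a, b, rfl⟩ := hspan κ
        rw [hsmulV, hBadd_left, hBsmulF_left, hBsmulF_left, hBθ_left, smul_eq_mul]
        rw [add_mul, smul_mul_assoc, smul_mul_assoc, one_mul])
      hBadd_right
      (by
        intro κ x y
        obtain ⟨a, b, rfl⟩ := hspan κ
        rw [hsmulV, hBadd_right, hBsmulF_right, hBsmulF_right, hBθ_right, smul_eq_mul]
        rw [add_mul, smul_mul_assoc, smul_mul_assoc, one_mul])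
  have hBapply : ∀ x y, B x y = Bf x y := fun x y => rfl
  have hA : B.IsAlt := by
    intro x
    rw [hBapply]
    simp only [Bf]
    rw [haltθ x, sympForm_self]
    simp
  have hker : LinearMap.ker B = ⊥ := by
    rw [eq_bot_iff]
    intro x hx
    rw [Submodule.mem_bot]
    apply eq_zero_of_sympForm_right m x
    intro y
    rw [LinearMap.mem_ker] at hx
    have h1 : Bf x y = 0 := by
      rw [← hBapply, hx]; rfl
    exact (hindep _ _ h1).2
  have heven := even_finrank_of_alt B hA hker
  have hmul : finrank F L * finrank L V = finrank F V := Module.finrank_mul_finrank F L V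
  rw [hfr, finrank_V] at hmul
  obtain ⟨j, hj⟩ := heven
  exact ⟨j, by omega⟩

theorem even_of_selfAdjoint_two {K : Subalgebra F MatV} (hK : IsFieldSubalgebra 2 K)
    (hsa : IsSelfAdjointFor (sympForm m F) K)
    (halt : ∀ k ∈ K, ∀ v, sympForm m F (k *ᵥ v) v = 0) : Even m := by
  classical
  obtain ⟨θ, hθK, hindep, hspan⟩ := exists_quadratic_gen hK
  letI : Field ↥K := (isField_of_fieldSubalgebra (by norm_num) hK).toField
  refine even_of_quadratic_aux (L := ↥K) K.val hK.finrank_eq ⟨θ, hθK⟩ ?_ ?_ (hsa θ hθK)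
    (halt θ hθK)
  · intro a b hab
    exact hindep a b (congrArg Subtype.val hab)
  · intro κ
    obtain ⟨a, b, hab⟩ := hspan κ.1 κ.2
    exact ⟨a, b, Subtype.ext hab⟩

end Cfsg.Agent.Lib.Helper4.MaxS
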