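import Mathlib
import Cfsg.Prelude
import Cfsg.Agent.Lib.Helper4.MaxS5

set_option autoImplicit false
set_option maxHeartbeats 4000000
set_option maxRecDepth 100000
set_option linter.unusedVariables false
set_option linter.unusedSectionVars false
set_option linter.style.haveILetI false
set_option linter.deprecated false

/-! Components of a vector with respect to a decomposition, and their behaviour under the
stabiliser of the decomposition. -/

namespace Cfsg.Agent.Lib.Helper4.MaxS

open Matrix Cfsg Cfsg.Geo Module
open scoped Classical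

universe u

variable {F : Type u} [Field F]

section comp
variable {W : Type*} [AddCommGroup W] [Module F W] {t : ℕ} (D : Fin t → Submodule F W)
  [DirectSum.Decomposition D]

/-- the component of a vector in a member of the decomposition -/
noncomputable def cmp (i : Fin t) (v : W) : W := (DirectSum.decompose D v i : W)

theorem cmp_mem (i : Fin t) (v : W) : cmp D i v ∈ D i := (DirectSum.decompose D v i).2

theorem cmp_add (i : Fin t) (v w : W) : cmp D i (v + w) = cmp D i v + cmp D i w := by
  unfold cmp
  rw [DirectSum.decompose_add]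
  rfl

theorem cmp_smul (i : Fin t) (c : F) (v : W) : cmp D i (c • v) = c • cmp D i v := by
  unfold cmp
  rw [DirectSum.decompose_smul]
  rfl

theorem cmp_zero (i : Fin t) : cmp D i (0 : W) = 0 := by
  unfold cmp
  rw [DirectSum.decompose_zero]
  rfl

theorem cmp_sum {κ : Type*} (s : Finset κ) (f : κ → W) (i : Fin t) :
    cmp D i (∑ j ∈ s, f j) = ∑ j ∈ s, cmp D i (f j) := by
  classical
  induction s using Finset.induction_on with
  | empty => simp [cmp_zero]
  | insert a s ha ih => rw [Finset.sum_insert ha, Finset.sum_insert ha, cmp_add, ih]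

theorem cmp_of_mem_same {i : Fin t} {x : W} (hx : x ∈ D i) : cmp D i x = x :=
  DirectSum.decompose_of_mem_same D hx

theorem cmp_of_mem_ne {i j : Fin t} {x : W} (hx : x ∈ D i) (hij : i ≠ j) : cmp D j x = 0 :=
  DirectSum.decompose_of_mem_ne D hx hij

theorem sum_cmp (v : W) : ∑ i, cmp D i v = v := by
  classical
  have h := DirectSum.sum_support_decompose D v
  have h2 : ∑ i ∈ DFinsupp.support ((DirectSum.decompose D) v),
      ((DirectSum.decompose D v i : D i) : W) = ∑ i, cmp D i v := by
    apply Finset.sum_subset (Finset.subset_univ _)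
    intro i _ hi
    rw [DFinsupp.notMem_support_iff] at hi
    rw [hi]
    rfl
  rw [← h2, h]

/-- the components of a sum of vectors lying in permuted members -/
theorem cmp_sum_perm (σ : Equiv.Perm (Fin t)) (w : Fin t → W) (hw : ∀ j, w j ∈ D (σ j))
    (j : Fin t) : cmp D (σ j) (∑ l, w l) = w j := by
  classical
  rw [cmp_sum, Finset.sum_eq_single j]
  · exact cmp_of_mem_same D (hw j)
  · intro l _ hl
    exact cmp_of_mem_ne D (hw l) (fun h => hl (σ.injective h))
  · intro h
    exact absurd (Finset.mem_univ j) h

end comp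

section stab
variable {ι : Type} [Fintype ι] [DecidableEq ι] {t : ℕ} (D : Fin t → Submodule F (ι → F))
  [DirectSum.Decomposition D]

/-- the stabiliser of the decomposition permutes the components -/
theorem cmp_stab (g : Matrix.GeneralLinearGroup ι F) (σ : Equiv.Perm (Fin t))
    (hσ : ∀ i, (D i).map (Matrix.toLin' (g : Matrix ι ι F)) = D (σ i)) (v : ι → F) (j : Fin t) :
    cmp D (σ j) ((g : Matrix ι ι F) *ᵥ v) = (g : Matrix ι ι F) *ᵥ cmp D j v := by
  have h1 : (g : Matrix ι ι F) *ᵥ v = ∑ l, (g : Matrix ι ι F) *ᵥ cmp D l v := by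
    conv_lhs => rw [← sum_cmp D v]
    rw [Matrix.mulVec_sum]
  rw [h1]
  apply cmp_sum_perm D σ
  intro l
  rw [← hσ l]
  exact ⟨cmp D l v, cmp_mem D l v, Matrix.toLin'_apply _ _⟩

/-- the number of non-zero components is invariant under the stabiliser -/
theorem card_support_stab (g : Matrix.GeneralLinearGroup ι F)
    (hg : g ∈ decompositionStabilizer D) (v : ι → F) :
    (Finset.univ.filter (fun i => cmp D i ((g : Matrix ι ι F) *ᵥ v) ≠ 0)).card =
      (Finset.univ.filter (fun i => cmp D i v ≠ 0)).card := by
  classical
  obtain ⟨σ, hσ⟩ := hg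
  symm
  apply Finset.card_bij (fun i _ => σ i)
  · intro i hi
    rw [Finset.mem_filter] at hi ⊢
    refine ⟨Finset.mem_univ _, ?_⟩
    rw [cmp_stab D g σ hσ]
    intro h0
    exact hi.2 (gl_mulVec_injective g (by rw [h0, Matrix.mulVec_zero]))
  · intro i _ j _ hij
    exact σ.injective hij
  · intro i hi
    rw [Finset.mem_filter] at hi
    refine ⟨σ.symm i, ?_, σ.apply_symm_apply i⟩
    rw [Finset.mem_filter]
    refine ⟨Finset.mem_univ _, ?_⟩
    intro h0
    apply hi.2
    have := cmp_stab D g σ hσ v (σ.symm i)
    rw [σ.apply_symm_apply] at this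
    rw [this, h0, Matrix.mulVec_zero]

end stab

end Cfsg.Agent.Lib.Helper4.MaxS
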