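import Mathlib
import Cfsg.Prelude
import Cfsg.Agent.Lib.Helper4.MaxS7

set_option autoImplicit false
set_option maxHeartbeats 4000000
set_option maxRecDepth 100000
set_option linter.unusedVariables false
set_option linter.unusedSectionVars false
set_option linter.style.haveILetI false
set_option linter.deprecated false

/-! Over the field with two elements the stabiliser of a decomposition into non-degenerate
two-dimensional subspaces preserves a quadratic form whose polar form is the symplectic form. -/

namespace Cfsg.Agent.Lib.Helper4.MaxS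

open Matrix Cfsg Cfsg.Geo Module
open scoped Classical
open Cfsg.Agent.Lib.Helper5.SympTv Cfsg.Agent.Lib.Helper5.SympGen
  Cfsg.Agent.Lib.Helper5.SympBridge Cfsg.Agent.Lib.Helper5.SpCentres
  Cfsg.Agent.Lib.Helper5.SpSingularMax

universe u

variable {F : Type u} [Field F] {m : ℕ}

local notation "V" => (Fin m ⊕ Fin m → F)
local notation "GLV" => Matrix.GeneralLinearGroup (Fin m ⊕ Fin m) F
local notation "MatV" => Matrix (Fin m ⊕ Fin m) (Fin m ⊕ Fin m) F

theorem eq_zero_or_one_of_card_two [Fintype F] (hq : Fintype.card F = 2) (a : F) :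
    a = 0 ∨ a = 1 := by
  by_contra hcon
  push Not at hcon
  have h3 : ({0, 1, a} : Finset F).card = 3 := by
    rw [Finset.card_insert_of_notMem, Finset.card_insert_of_notMem, Finset.card_singleton]
    · simp only [Finset.mem_singleton]
      exact fun h => hcon.2 h.symm
    · simp only [Finset.mem_insert, Finset.mem_singleton, not_or]
      exact ⟨zero_ne_one, fun h => hcon.1 h.symm⟩
  have := Finset.card_le_univ ({0, 1, a} : Finset F)
  omega

theorem two_eq_zero_of_card_two [Fintype F] (hq : Fintype.card F = 2) : (2 : F) = 0 := by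
  have := Nat.cast_card_eq_zero F
  rw [hq] at this
  exact_mod_cast this

/-- the quadratic form attached to a decomposition into non-degenerate planes over the field
with two elements -/
theorem exists_quad_of_planes [Fintype F] {t : ℕ} {D : Fin t → Submodule F V}
    (hq : Fintype.card F = 2)
    (hD : IsNondegenerateMDecomposition (sympForm m F) 2 D) :
    ∃ Q : V → F, IsNondegenerateQuadraticForm Q ∧
      (∀ u v, QuadraticMap.polar Q u v = sympForm m F u v) ∧
      decompositionStabilizer D ≤ quadSimilarityGroup Q := by
  have h2 : (2 : F) = 0 := two_eq_zero_of_card_two hq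
  have h01 := eq_zero_or_one_of_card_two hq
  have hint : DirectSum.IsInternal D :=
    DirectSum.isInternal_submodule_of_iSupIndep_of_iSup_eq_top hD.decomp.indep
      hD.decomp.iSup_eq_top
  letI := hint.chooseDecomposition
  have hβ : ∀ i, ∃ b : Module.Basis (Fin 1 ⊕ Fin 1) F (D i),
      (∀ a c, sympForm m F (b (Sum.inl a)) (b (Sum.inr c)) = if a = c then 1 else 0) ∧
      (∀ a c, sympForm m F (b (Sum.inl a)) (b (Sum.inl c)) = 0) ∧
      (∀ a c, sympForm m F (b (Sum.inr a)) (b (Sum.inr c)) = 0) :=
    fun i => Cfsg.Agent.Lib.Helper5.SpDecompMax.exists_darboux_block hD i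
  choose β hβ1 hβ2 hβ3 using hβ
  -- the projections
  let P : ∀ i, V →ₗ[F] D i := fun i =>
    { toFun := fun v => ⟨cmp D i v, cmp_mem D i v⟩
      map_add' := fun v w => Subtype.ext (cmp_add D i v w)
      map_smul' := fun c v => Subtype.ext (cmp_smul D i c v) }
  let x : Fin t → V →ₗ[F] F := fun i => ((β i).coord (Sum.inl 0)).comp (P i)
  let y : Fin t → V →ₗ[F] F := fun i => ((β i).coord (Sum.inr 0)).comp (P i)
  set a : Fin t → V := fun i => (β i (Sum.inl 0) : V) with ha
  set b : Fin t → V := fun i => (β i (Sum.inr 0) : V) with hb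
  have hcmp : ∀ i v, cmp D i v = x i v • a i + y i v • b i := by
    intro i v
    have h := (β i).sum_repr (P i v)
    have h' := congrArg Subtype.val h
    rw [Fintype.sum_sum_type, Fin.sum_univ_one, Fin.sum_univ_one] at h'
    simp only [Submodule.coe_add, Submodule.coe_smul] at h'
    exact h'.symm
  have hab : ∀ i, sympForm m F (a i) (b i) = 1 := by
    intro i
    have := hβ1 i 0 0
    simpa using this
  have hba : ∀ i, sympForm m F (b i) (a i) = -1 := by
    intro i
    rw [sympForm_swap, hab]
  have haa : ∀ i, sympForm m F (a i) (a i) = 0 := fun i => sympForm_self m _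
  have hbb : ∀ i, sympForm m F (b i) (b i) = 0 := fun i => sympForm_self m _
  -- the form on components
  have hfcmp : ∀ i u v, sympForm m F (cmp D i u) (cmp D i v) =
      x i u * y i v - y i u * x i v := by
    intro i u v
    rw [hcmp i u, hcmp i v]
    simp only [sympForm_add_left, sympForm_add_right, sympForm_smul_left, sympForm_smul_right,
      hab, hba, haa, hbb]
    ring
  have hf : ∀ u v, sympForm m F u v = ∑ i, (x i u * y i v - y i u * x i v) := by
    intro u v
    conv_lhs => rw [← sum_cmp D u, ← sum_cmp D v]
    rw [← sympBilin_apply, LinearMap.BilinForm.sum_left]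
    refine Finset.sum_congr rfl fun i _ => ?_
    rw [LinearMap.BilinForm.sum_right, Finset.sum_eq_single i]
    · rw [sympBilin_apply, hfcmp]
    · intro j _ hji
      rw [sympBilin_apply]
      exact hD.orthogonal i j hji.symm _ (cmp_mem D i u) _ (cmp_mem D j v)
    · intro h
      exact absurd (Finset.mem_univ i) h
  let Q : V → F := fun v => ∑ i, (x i v ^ 2 + x i v * y i v + y i v ^ 2)
  have hpolar : ∀ u v, QuadraticMap.polar Q u v = sympForm m F u v := by
    intro u v
    rw [hf]
    unfold QuadraticMap.polar
    simp only [Q]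
    rw [← Finset.sum_sub_distrib, ← Finset.sum_sub_distrib]
    refine Finset.sum_congr rfl fun i _ => ?_
    rw [map_add, map_add]
    linear_combination (x i u * x i v + y i u * y i v + y i u * x i v) * h2
  -- the value of `Q` counts the non-zero components
  have hterm : ∀ i v, x i v ^ 2 + x i v * y i v + y i v ^ 2 =
      if cmp D i v ≠ 0 then 1 else 0 := by
    intro i v
    by_cases h0 : cmp D i v = 0
    · have hP : P i v = 0 := Subtype.ext h0
      have hx : x i v = 0 := by
        show (β i).coord (Sum.inl 0) (P i v) = 0
        rw [hP, map_zero]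
      have hy : y i v = 0 := by
        show (β i).coord (Sum.inr 0) (P i v) = 0
        rw [hP, map_zero]
      rw [hx, hy, if_neg (not_not.2 h0)]
      ring
    · rw [if_pos h0]
      have hxy : ¬ (x i v = 0 ∧ y i v = 0) := by
        rintro ⟨hx, hy⟩
        apply h0
        rw [hcmp, hx, hy, zero_smul, zero_smul, add_zero]
      rcases h01 (x i v) with hx | hx <;> rcases h01 (y i v) with hy | hy
      · exact absurd ⟨hx, hy⟩ hxy
      · rw [hx, hy]; ring
      · rw [hx, hy]; ring
      · rw [hx, hy]
        linear_combination h2
  have hQcard : ∀ v, Q v = ((Finset.univ.filter (fun i => cmp D i v ≠ 0)).card : F) := by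
    intro v
    simp only [Q]
    rw [Finset.sum_congr rfl (fun i _ => hterm i v), Finset.sum_boole]
  refine ⟨Q, ⟨?_, ?_, ?_⟩, hpolar, ?_⟩
  · intro c v
    simp only [Q]
    rw [Finset.mul_sum]
    refine Finset.sum_congr rfl fun i _ => ?_
    rw [map_smul, map_smul, smul_eq_mul, smul_eq_mul]
    ring
  · have : QuadraticMap.polar Q = sympForm m F := by
      funext u v
      exact hpolar u v
    rw [this]
    exact ⟨sympForm_add_left m, sympForm_smul_left m, sympForm_add_right m, sympForm_smul_right m⟩
  · have : QuadraticMap.polar Q = sympForm m F := by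
      funext u v
      exact hpolar u v
    rw [this]
    intro v hv
    obtain ⟨z, hz⟩ := exists_sympForm_ne_zero hv
    refine ⟨⟨z, by rw [hz]; exact one_ne_zero⟩, ⟨z, ?_⟩⟩
    rw [sympForm_swap, hz]
    exact neg_ne_zero.2 one_ne_zero
  · intro g hg
    refine ⟨1, fun v => ?_⟩
    rw [Units.val_one, one_mul, hQcard, hQcard, card_support_stab D g hg v]

end Cfsg.Agent.Lib.Helper4.MaxS
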