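import Mathlib
import Cfsg.Prelude
import Cfsg.Agent.Lib.Helper4.MaxS6
import Cfsg.Agent.Lib.Helper4.MaxS8

set_option autoImplicit false
set_option maxHeartbeats 4000000
set_option maxRecDepth 100000
set_option linter.unusedVariables false
set_option linter.unusedSectionVars false
set_option linter.style.haveILetI false
set_option linter.deprecated false

/-! The possible types of a maximal subgroup of the symplectic group, with their parameters. -/

namespace Cfsg.Agent.Lib.Helper4.MaxS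

open Matrix Cfsg Cfsg.Geo Module
open Cfsg.Agent.Lib.Helper5.SympTv Cfsg.Agent.Lib.Helper5.SympGen
  Cfsg.Agent.Lib.Helper5.SympBridge Cfsg.Agent.Lib.Helper5.SpCentres
  Cfsg.Agent.Lib.Helper5.SpSingularMax

universe u

variable {F : Type u} [Field F] {m : ℕ}

local notation "V" => (Fin m ⊕ Fin m → F)
local notation "GLV" => Matrix.GeneralLinearGroup (Fin m ⊕ Fin m) F
local notation "MatV" => Matrix (Fin m ⊕ Fin m) (Fin m ⊕ Fin m) F

theorem subfield_ne_top' [Fintype F] (F₀ : Subfield F) {r : ℕ} (hr : r.Prime)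
    (hcard : Fintype.card F = Nat.card F₀ ^ r) : F₀ ≠ ⊤ := by
  rintro rfl
  have h1 : Nat.card (⊤ : Subfield F) = Fintype.card F := by
    rw [← Nat.card_eq_fintype_card]
    exact Nat.card_congr (Subfield.topEquiv (K := F)).toEquiv
  rw [h1] at hcard
  have h2 : 1 < Fintype.card F := Fintype.one_lt_card
  have h3 : (Fintype.card F) ^ 1 = (Fintype.card F) ^ r := by rw [pow_one]; exact hcard
  have := Nat.pow_right_injective h2 h3
  exact hr.one_lt.ne this

/-- the possible types of a maximal subgroup of the symplectic group -/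
theorem cases_of_max [Fintype F] (hm : 2 ≤ m) (H : Subgroup GLV)
    (hH : IsMaximalIn (spGL m F) H)
    (hA : (∃ M : Subgroup GLV, InSymplecticClass m F M ∧ H ≤ M) ∨ InSymplecticResidualClass H) :
    (∃ W : Submodule F V, W ≠ ⊥ ∧ IsTotallySingularFor (sympForm m F) W ∧
      H = subspaceStabilizer W ⊓ spGL m F) ∨
    (∃ W : Submodule F V, W ≠ ⊥ ∧ IsNondegenerateOn (sympForm m F) W ∧ finrank F W < m ∧
      Even (finrank F W) ∧ H = subspaceStabilizer W ⊓ spGL m F) ∨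
    (∃ (t k : ℕ) (D : Fin t → Submodule F V), IsNondegenerateMDecomposition (sympForm m F) k D ∧
      t * k = 2 * m ∧ Even k ∧ ¬ (k = 2 ∧ Fintype.card F = 2) ∧
      H = decompositionStabilizer D ⊓ spGL m F) ∨
    (Odd (Fintype.card F) ∧ ∃ D : Fin 2 → Submodule F V, IsMDecomposition m D ∧
      (∀ i, IsTotallySingularFor (sympForm m F) (D i)) ∧
      H = decompositionStabilizer D ⊓ spGL m F) ∨
    (∃ (F₀ : Subfield F) (r : ℕ) (P : GLV) (ζ : F), r.Prime ∧
      Fintype.card F = Nat.card F₀ ^ r ∧ ζ ≠ 0 ∧ IsFormRationalStructure (sympForm m F) F₀ ζ P ∧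
      H = subfieldSubgroup F₀ P ⊓ spGL m F) ∨
    (∃ (R : Subgroup GLV) (p k : ℕ), IsSymplecticTypeGroup 2 R ∧
      ActsAbsolutelyIrreducibly (matrixSet R) ∧ R ≤ similarityGroup (sympForm m F) ∧ p.Prime ∧
      Odd p ∧ Fintype.card F = p ∧ Nat.card R = 2 ^ (1 + 2 * k) ∧
      Nat.card (Subgroup.center R) = 2 ∧ IsOfMinusType k R ∧
      H ≤ subgroupNormalizer R ⊓ spGL m F) ∨
    (¬ Odd (Fintype.card F) ∧ ∃ Q : V → F, IsNondegenerateQuadraticForm Q ∧
      (∀ u v, QuadraticMap.polar Q u v = sympForm m F u v) ∧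
      H = quadSimilarityGroup Q ⊓ spGL m F) ∨
    (∃ (r : ℕ) (K : Subalgebra F MatV), r.Prime ∧ r ∣ 2 * m ∧ (r = 2 → Even m) ∧
      IsFieldSubalgebra r K ∧ IsSelfAdjointFor (sympForm m F) K ∧
      (∀ k ∈ K, ∀ v, sympForm m F (k *ᵥ v) v = 0) ∧ H = subalgebraNormalizer K ⊓ spGL m F) ∨
    (Odd (Fintype.card F) ∧ ∃ K : Subalgebra F MatV, IsFieldSubalgebra 2 K ∧
      IsAdjointClosedFor (sympForm m F) K ∧ ¬ IsSelfAdjointFor (sympForm m F) K ∧
      H = subalgebraNormalizer K ⊓ spGL m F) ∨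
    (Odd (Fintype.card F) ∧ ∃ (n₁ n₂ : ℕ) (e : (Fin m ⊕ Fin m) ≃ Fin n₁ × Fin n₂) (P : GLV)
      (f₁ : (Fin n₁ → F) → (Fin n₁ → F) → F) (f₂ : (Fin n₂ → F) → (Fin n₂ → F) → F),
      3 ≤ n₂ ∧ n₁ * n₂ = 2 * m ∧ Even n₁ ∧ IsSymplecticForm f₁ ∧ IsSymmetricForm f₂ ∧
      IsTensorFormStructure id (sympForm m F) f₁ f₂ e P ∧
      H = tensorProductSubgroup n₁ n₂ e P ⊓ spGL m F) ∨
    (Odd (Fintype.card F) ∧ ∃ (k t : ℕ) (e : (Fin m ⊕ Fin m) ≃ (Fin t → Fin k)) (P : GLV)
      (f₁ : (Fin k → F) → (Fin k → F) → F), Odd t ∧ 3 ≤ t ∧ ¬ (Fintype.card F = 3 ∧ k = 2) ∧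
      k ^ t = 2 * m ∧ Even k ∧ IsSymplecticForm f₁ ∧
      IsTensorPowerFormStructure id (sympForm m F) f₁ e P ∧
      H ≤ tensorWreathSubgroup k t e P ⊓ spGL m F) ∨
    InSymplecticResidualClass H := by
  classical
  rcases hA with ⟨M, hM, hle⟩ | hres
  swap
  · iterate 11 right
    exact hres
  rcases hM with hpart | ⟨r, K, hr, hK, hsa, halt, rfl⟩ | ⟨K, hodd, hK, hac, hnsa, rfl⟩ |
    ⟨n₁, n₂, e, P, f₁, f₂, hodd, h3, hf₁, hf₂, hten, rfl⟩ |
    ⟨k, t, e, P, f₁, hodd, hot, h3t, hex, hf₁, hten, rfl⟩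
  · rcases hpart with ⟨W, h0, hW, rfl⟩ | ⟨W, h0, hW, hdim, rfl⟩ | ⟨t, k, D, hD, rfl⟩ |
      ⟨D, hodd, hD, hts, rfl⟩ | ⟨F₀, r, P, ζ, hr, hcard, hζ, hrat, rfl⟩ |
      ⟨R, p, k, hR, hirr, hsim, hp, hpodd, hcard, hcR, hcZ, hminus, rfl⟩ |
      ⟨Q, heven, hQ, hpol, rfl⟩
    · left
      exact ⟨W, h0, hW, eq_of_le_inf hH hle (not_le_singular W h0 hW)⟩
    · right; left
      exact ⟨W, h0, hW, hdim, even_finrank_of_nondegOn W hW,
        eq_of_le_inf hH hle (not_le_nondeg W h0 hW hdim)⟩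
    · obtain ⟨htk, hk⟩ := decomp_params hD
      by_cases hex : k = 2 ∧ Fintype.card F = 2
      · -- diversion to the quadratic form
        obtain ⟨rfl, hq⟩ := hex
        obtain ⟨Q, hQ, hpol, hstab⟩ := exists_quad_of_planes hq hD
        iterate 6 right
        left
        refine ⟨by rw [hq]; decide, Q, hQ, hpol, ?_⟩
        exact eq_inf_of_le hH ((hle.trans inf_le_left).trans hstab) (not_le_quadSim hm hQ hpol)
      · right; right; left
        exact ⟨t, k, D, hD, htk, hk, hex, eq_of_le_inf hH hle (not_le_decomp hD hex)⟩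
    · iterate 3 right
      left
      exact ⟨hodd, D, hD, hts, eq_of_le_inf hH hle (not_le_pair hD hts)⟩
    · iterate 4 right
      left
      exact ⟨F₀, r, P, ζ, hr, hcard, hζ, hrat, eq_of_le_inf hH hle
        (not_le_subfield (by omega) F₀ (subfield_ne_top' F₀ hr hcard) P)⟩
    · iterate 5 right
      left
      exact ⟨R, p, k, hR, hirr, hsim, hp, hpodd, hcard, hcR, hcZ, hminus, hle⟩
    · iterate 6 right
      left
      exact ⟨heven, Q, hQ, hpol, eq_of_le_inf hH hle (not_le_quadSim hm hQ hpol)⟩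
  · iterate 7 right
    left
    refine ⟨r, K, hr, field_dvd hr.pos hK, ?_, hK, hsa, halt,
      eq_of_le_inf hH hle (not_le_fieldNormalizer hm hr.two_le hK)⟩
    rintro rfl
    exact even_of_selfAdjoint_two hK hsa halt
  · iterate 8 right
    left
    exact ⟨hodd, K, hK, hac, hnsa,
      eq_of_le_inf hH hle (not_le_fieldNormalizer hm (le_refl 2) hK)⟩
  · iterate 9 right
    left
    have hcard := tensor_card e
    have hev := even_of_symplecticForm hf₁
    have hn₁ : 2 ≤ n₁ := by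
      obtain ⟨j, hj⟩ := hev
      have : n₁ ≠ 0 := by
        rintro rfl
        omega
      omega
    exact ⟨hodd, n₁, n₂, e, P, f₁, f₂, h3, hcard, hev, hf₁, hf₂, hten,
      eq_of_le_inf hH hle (not_le_tensor hn₁ (by omega) e P)⟩
  · iterate 10 right
    left
    exact ⟨hodd, k, t, e, P, f₁, hot, h3t, hex, wreath_card e, even_of_symplecticForm hf₁, hf₁,
      hten, hle⟩

end Cfsg.Agent.Lib.Helper4.MaxS
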