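import Mathlib
import Cfsg.Prelude
import Cfsg.Agent.Lib.Helper4.MaxS9

set_option autoImplicit false
set_option maxHeartbeats 4000000
set_option maxRecDepth 100000
set_option linter.unusedVariables false
set_option linter.unusedSectionVars false
set_option linter.style.haveILetI false
set_option linter.deprecated false

/-! The maximal subgroups of the four-dimensional symplectic group in even characteristic. -/

namespace Cfsg.Agent.Lib.Helper4.MaxS

open Matrix Cfsg Cfsg.Geo Module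

universe u

variable {F : Type u} [Field F]

/-- the form of the subgroup structure theorem used for the rows -/
def AschHyp (m : ℕ) (F : Type u) [Field F] [Fintype F] : Prop :=
  ∀ H : Subgroup (Matrix.GeneralLinearGroup (Fin m ⊕ Fin m) F), H ≤ spGL m F →
    H ⊔ (scalars (Fin m ⊕ Fin m) F ⊓ spGL m F) ≠ spGL m F →
    (∃ M : Subgroup (Matrix.GeneralLinearGroup (Fin m ⊕ Fin m) F),
      InSymplecticClass m F M ∧ H ≤ M) ∨ InSymplecticResidualClass H

theorem asch_of_max [Fintype F] {m : ℕ} (hm : 2 ≤ m) (hex : ¬ (m = 2 ∧ Fintype.card F = 2))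
    (hA : AschHyp m F) {H : Subgroup (Matrix.GeneralLinearGroup (Fin m ⊕ Fin m) F)}
    (hH : IsMaximalIn (spGL m F) H) :
    (∃ M : Subgroup (Matrix.GeneralLinearGroup (Fin m ⊕ Fin m) F),
      InSymplecticClass m F M ∧ H ≤ M) ∨ InSymplecticResidualClass H :=
  hA H hH.1.le (sup_scalars_ne hm hex hH)

theorem prime_dvd_four {r : ℕ} (hr : r.Prime) (h : r ∣ 2 * 2) : r = 2 := by
  have h4 : r ∣ 2 ^ 2 := by norm_num at h ⊢; exact h
  exact (Nat.prime_dvd_prime_iff_eq hr Nat.prime_two).1 (hr.dvd_of_dvd_pow h4)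

theorem row_sp4_even [Fintype F] (hA : AschHyp 2 F) (heven : ¬ Odd (Fintype.card F))
    (h4 : 4 ≤ Fintype.card F) (H : Subgroup (Matrix.GeneralLinearGroup (Fin 2 ⊕ Fin 2) F))
    (hH : IsMaximalIn (spGL 2 F) H) :
    (∃ W : Submodule F (Fin 2 ⊕ Fin 2 → F), W ≠ ⊥ ∧ IsTotallySingularFor (sympForm 2 F) W ∧
      H = subspaceStabilizer W ⊓ spGL 2 F) ∨
    (∃ D : Fin 2 → Submodule F (Fin 2 ⊕ Fin 2 → F),
      IsNondegenerateMDecomposition (sympForm 2 F) 2 D ∧
      H = decompositionStabilizer D ⊓ spGL 2 F) ∨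
    (∃ K : Subalgebra F (Matrix (Fin 2 ⊕ Fin 2) (Fin 2 ⊕ Fin 2) F), IsFieldSubalgebra 2 K ∧
      IsSelfAdjointFor (sympForm 2 F) K ∧
      (∀ k ∈ K, ∀ v : (Fin 2 ⊕ Fin 2 → F), (sympForm 2 F) (Matrix.mulVec k v) v = 0) ∧
      H = subalgebraNormalizer K ⊓ spGL 2 F) ∨
    (∃ (F₀ : Subfield F) (r : ℕ) (P : Matrix.GeneralLinearGroup (Fin 2 ⊕ Fin 2) F) (ζ : F),
      r.Prime ∧ Fintype.card F = Nat.card F₀ ^ r ∧ ζ ≠ 0 ∧
      IsFormRationalStructure (sympForm 2 F) F₀ ζ P ∧ H = subfieldSubgroup F₀ P ⊓ spGL 2 F) ∨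
    (∃ Q : (Fin 2 ⊕ Fin 2 → F) → F, IsNondegenerateQuadraticForm Q ∧
      (∀ u v : (Fin 2 ⊕ Fin 2 → F), QuadraticMap.polar Q u v = (sympForm 2 F) u v) ∧
      H = quadSimilarityGroup Q ⊓ spGL 2 F) ∨
    InSymplecticResidualClass H := by
  have hex : ¬ ((2 : ℕ) = 2 ∧ Fintype.card F = 2) := by
    rintro ⟨-, h⟩
    omega
  rcases cases_of_max (le_refl 2) H hH (asch_of_max (le_refl 2) hex hA hH) with
    h | ⟨W, h0, hW, hdim, hev, -⟩ | ⟨t, k, D, hD, htk, hk, -, hHD⟩ | ⟨hodd, -⟩ | h |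
    ⟨R, p, k, -, -, -, -, hpodd, hcard, -⟩ | ⟨-, h⟩ | ⟨r, K, hr, hdvd, -, hK, hsa, halt, hHK⟩ |
    ⟨hodd, -⟩ | ⟨hodd, -⟩ | ⟨hodd, -⟩ | h
  · exact Or.inl h
  · exfalso
    obtain ⟨j, hj⟩ := hev
    have h1 : finrank F W = 0 := by omega
    exact h0 (Submodule.finrank_eq_zero.1 h1)
  · right; left
    have ht := hD.decomp.two_le
    have hkpos := hD.decomp.pos
    obtain ⟨j, hj⟩ := hk
    have hk2 : k = 2 := by
      have : t * (j + j) = 4 := by rw [← hj]; omega
      have hj1 : j = 1 := by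
        have hjpos : 0 < j := by omega
        by_contra hne
        have : 2 ≤ j := by omega
        nlinarith
      omega
    subst hk2
    have ht2 : t = 2 := by omega
    subst ht2
    exact ⟨D, hD, hHD⟩
  · exact absurd hodd heven
  · iterate 3 right
    left
    exact h
  · exfalso
    rw [hcard] at heven
    exact heven hpodd
  · iterate 4 right
    left
    exact h
  · right; right; left
    obtain rfl := prime_dvd_four hr hdvd
    exact ⟨K, hK, hsa, halt, hHK⟩
  · exact absurd hodd heven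
  · exact absurd hodd heven
  · exact absurd hodd heven
  · iterate 5 right
    exact h

end Cfsg.Agent.Lib.Helper4.MaxS
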