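import Mathlib
import Cfsg.Prelude
import Cfsg.Agent.Lib.Helper8.Asch6
import Cfsg.Agent.Lib.Helper3.MaxC3

set_option autoImplicit false
set_option maxHeartbeats 4000000
set_option maxRecDepth 100000
set_option linter.unusedVariables false
set_option linter.unusedSectionVars false
set_option linter.style.haveILetI false
set_option linter.deprecated false

/-! Burnside's theorem for absolutely irreducible sets of matrices, and the dimension of an
absolutely irreducible 2-group of exponent 4 in odd characteristic. -/

namespace Cfsg.Agent.Lib.Helper4.MaxS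

open Matrix Cfsg Cfsg.Geo Module

universe u

section burn

variable {F : Type u} [Field F] {ι : Type} [Fintype ι] [DecidableEq ι]

/-- the image of the algebra generated by a set of matrices inside the endomorphism algebra -/
noncomputable def endAlg (S : Set (Matrix ι ι F)) : Subalgebra F (Module.End F (ι → F)) :=
  (Algebra.adjoin F S).map (Matrix.toLinAlgEquiv' : Matrix ι ι F ≃ₐ[F] Module.End F (ι → F)).toAlgHom

theorem mem_endAlg {S : Set (Matrix ι ι F)} {x : Module.End F (ι → F)} :
    x ∈ endAlg S ↔ ∃ M ∈ Algebra.adjoin F S, Matrix.toLin' M = x := by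
  unfold endAlg
  rw [Subalgebra.mem_map]
  rfl

theorem toLin_mem_endAlg {S : Set (Matrix ι ι F)} {M : Matrix ι ι F} (hM : M ∈ S) :
    Matrix.toLin' M ∈ endAlg S :=
  mem_endAlg.2 ⟨M, Algebra.subset_adjoin hM, rfl⟩

theorem burnside_adjoin [Nonempty ι] (S : Set (Matrix ι ι F)) (hS : ActsAbsolutelyIrreducibly S) :
    Algebra.adjoin F S = ⊤ := by
  classical
  set A := endAlg S with hA
  -- simplicity
  haveI hsimple : IsSimpleModule A (ι → F) := by
    haveI : Nontrivial (Submodule A (ι → F)) := by
      refine ⟨⊥, ⊤, ?_⟩
      intro h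
      obtain ⟨i⟩ := ‹Nonempty ι›
      have h1 : (Pi.single i 1 : ι → F) ∈ (⊤ : Submodule A (ι → F)) := Submodule.mem_top
      rw [← h] at h1
      have h2 := (Submodule.mem_bot A).1 h1
      have h3 := congrFun h2 i
      simp at h3
    refine @IsSimpleModule.mk _ _ _ _ _ ⟨fun W => ?_⟩
    -- W as an F-submodule
    let W' : Submodule F (ι → F) :=
      { carrier := W
        add_mem' := fun ha hb => W.add_mem ha hb
        zero_mem' := W.zero_mem
        smul_mem' := by
          intro c x hx
          have h1 : (algebraMap F A c) • x ∈ W := W.smul_mem _ hx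
          have h2 : (algebraMap F A c) • x = c • x := by
            show ((algebraMap F A c : A) : Module.End F (ι → F)) x = c • x
            rw [Subalgebra.coe_algebraMap]
            rfl
          rw [← h2]
          exact h1 }
    have hW' : ∀ s ∈ S, W'.map (Matrix.toLin' s) ≤ W' := by
      rintro s hs y ⟨x, hx, rfl⟩
      have h1 : (⟨Matrix.toLin' s, toLin_mem_endAlg hs⟩ : A) • x ∈ W := W.smul_mem _ hx
      exact h1
    rcases hS.1 W' hW' with h | h
    · left
      rw [eq_bot_iff]
      intro x hx
      have : x ∈ W' := hx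
      rw [h] at this
      exact (Submodule.mem_bot A).2 ((Submodule.mem_bot F).1 this)
    · right
      rw [eq_top_iff]
      intro x _
      have : x ∈ W' := by rw [h]; exact Submodule.mem_top
      exact this
  -- endomorphisms are scalars
  have hD : ∀ δ : Module.End A (ι → F), ∃ c : F, ∀ s, δ s = c • s := by
    intro δ
    let δF : Module.End F (ι → F) :=
      { toFun := δ
        map_add' := δ.map_add
        map_smul' := by
          intro c x
          have h2 : ∀ y : ι → F, (algebraMap F A c) • y = c • y := by
            intro y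
            show ((algebraMap F A c : A) : Module.End F (ι → F)) y = c • y
            rw [Subalgebra.coe_algebraMap]
            rfl
          rw [← h2 x, δ.map_smul, h2]
          rfl }
    have hcomm : ∀ s ∈ S, LinearMap.toMatrix' δF * s = s * LinearMap.toMatrix' δF := by
      intro s hs
      apply Matrix.toLin'.injective
      rw [Matrix.toLin'_mul, Matrix.toLin'_mul, Matrix.toLin'_toMatrix']
      apply LinearMap.ext
      intro x
      show δ (Matrix.toLin' s x) = Matrix.toLin' s (δ x)
      have := δ.map_smul (⟨Matrix.toLin' s, toLin_mem_endAlg hs⟩ : A) x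
      exact this
    obtain ⟨c, hc⟩ := hS.2 _ hcomm
    refine ⟨c, fun s => ?_⟩
    have h1 : δF = c • (1 : Module.End F (ι → F)) := by
      apply Matrix.toLin'.symm.injective
      show LinearMap.toMatrix' δF = LinearMap.toMatrix' (c • (1 : Module.End F (ι → F)))
      rw [hc, map_smul]
      congr 1
      exact (LinearMap.toMatrix'_one).symm
    have := LinearMap.congr_fun h1 s
    exact this
  rw [eq_top_iff]
  intro M _
  obtain ⟨a, ha⟩ := Cfsg.Agent.Lib.Helper8.Asch.burnside (F := F) (R := A) (S := ι → F) hD
    (Matrix.toLin' M)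
  obtain ⟨M', hM', hM'a⟩ := mem_endAlg.1 a.2
  have : M' = M := by
    apply Matrix.toLin'.injective
    rw [hM'a]
    apply LinearMap.ext
    intro s
    exact ha s
  rw [← this]
  exact hM'

end burn

section class6

variable {F : Type u} [Field F] {ι : Type} [Fintype ι] [DecidableEq ι]

/-- the base change of the natural representation to an extension field -/
noncomputable def extRep (K : Type u) [Field K] [Algebra F K] (R : Subgroup (GL ι F)) :
    R →* Module.End K (ι → K) where
  toFun g := Matrix.toLin' ((g.1 : Matrix ι ι F).map (algebraMap F K))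
  map_one' := by
    show Matrix.toLin' (((1 : GL ι F) : Matrix ι ι F).map (algebraMap F K)) = 1
    rw [Units.val_one, Matrix.map_one _ (map_zero _) (map_one _), Matrix.toLin'_one]
    rfl
  map_mul' := by
    intro g h
    show Matrix.toLin' (((g.1 * h.1 : GL ι F) : Matrix ι ι F).map (algebraMap F K)) = _
    rw [Units.val_mul, Matrix.map_mul, Matrix.toLin'_mul]
    rfl

theorem extRep_irr [Nonempty ι] (K : Type u) [Field K] [Algebra F K] (R : Subgroup (GL ι F))
    (hR : ActsAbsolutelyIrreducibly (matrixSet R)) :
    Cfsg.Agent.Lib.Helper3.MaxC.RepIrr (extRep K R) := by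
  classical
  intro W hW
  have hadj := burnside_adjoin (matrixSet R) hR
  -- W is stable under every matrix over F
  have hstab : ∀ M : Matrix ι ι F, ∀ x ∈ W, (M.map (algebraMap F K)) *ᵥ x ∈ W := by
    intro M
    have hM : M ∈ Algebra.adjoin F (matrixSet R) := by rw [hadj]; exact Algebra.mem_top
    induction hM using Algebra.adjoin_induction with
    | mem s hs =>
      obtain ⟨g, hg, rfl⟩ := hs
      intro x hx
      exact hW ⟨g, hg⟩ x hx
    | algebraMap c =>
      intro x hx
      have : ((algebraMap F (Matrix ι ι F) c).map (algebraMap F K)) =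
          (algebraMap F K c) • (1 : Matrix ι ι K) := by
        ext i j
        rw [Matrix.map_apply, Matrix.algebraMap_matrix_apply, Matrix.smul_apply, Matrix.one_apply]
        split_ifs <;> simp
      rw [this, Matrix.smul_mulVec, Matrix.one_mulVec]
      exact W.smul_mem _ hx
    | add a b _ _ iha ihb =>
      intro x hx
      rw [Matrix.map_add _ (map_add _), Matrix.add_mulVec]
      exact W.add_mem (iha x hx) (ihb x hx)
    | mul a b _ _ iha ihb =>
      intro x hx
      rw [Matrix.map_mul, ← Matrix.mulVec_mulVec]
      exact iha _ (ihb x hx)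
  by_cases hbot : W = ⊥
  · left; exact hbot
  right
  obtain ⟨w, hwW, hw0⟩ := (Submodule.ne_bot_iff W).1 hbot
  have : ∃ j, w j ≠ 0 := by
    by_contra h
    push Not at h
    exact hw0 (funext h)
  obtain ⟨j, hj⟩ := this
  rw [eq_top_iff]
  intro x _
  have hx : x = ∑ i, (x i * (w j)⁻¹) • (((Matrix.single i j (1 : F)).map (algebraMap F K)) *ᵥ w) := by
    ext i'
    rw [Finset.sum_apply]
    simp only [Pi.smul_apply, smul_eq_mul]
    rw [Finset.sum_eq_single i']
    · rw [Matrix.mulVec, dotProduct, Finset.sum_eq_single j]
      · rw [Matrix.map_apply, Matrix.single_apply_same, map_one, one_mul, mul_assoc,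
          inv_mul_cancel₀ hj, mul_one]
      · intro b _ hb
        rw [Matrix.map_apply, Matrix.single_apply_of_col_ne _ _ (Ne.symm hb), map_zero, zero_mul]
      · intro h; exact absurd (Finset.mem_univ _) h
    · intro b _ hb
      rw [Matrix.mulVec, dotProduct]
      rw [Finset.sum_eq_zero, mul_zero]
      intro k _
      rw [Matrix.map_apply, Matrix.single_apply_of_row_ne hb, map_zero, zero_mul]
    · intro h; exact absurd (Finset.mem_univ _) h
  rw [hx]
  exact W.sum_mem fun i _ => W.smul_mem _ (hstab _ w hwW)

/-- a primitive fourth root of unity in the algebraic closure, in characteristic not two -/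
theorem exists_primitive_four (K : Type u) [Field K] [IsAlgClosed K] (h2 : (2 : K) ≠ 0) :
    ∃ ζ : K, IsPrimitiveRoot ζ 4 := by
  obtain ⟨z, hz⟩ := IsAlgClosed.exists_pow_nat_eq (-1 : K) (n := 2) (by norm_num)
  refine ⟨z, ?_⟩
  have h11 : (-1 : K) ≠ 1 := by
    intro h
    apply h2
    have : (2 : K) = 1 - (-1) := by ring
    rw [this, h, sub_self]
  have hz4 : z ^ 4 = 1 := by
    have : z ^ 4 = (z ^ 2) ^ 2 := by ring
    rw [this, hz]; ring
  refine IsPrimitiveRoot.mk_of_lt z (by norm_num) hz4 ?_
  intro l hl0 hl4 hl
  interval_cases l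
  · rw [pow_one] at hl
    rw [hl, one_pow] at hz
    exact h11 hz.symm
  · rw [hz] at hl
    exact h11 hl
  · have h3 : z ^ 3 = z ^ 2 * z := by ring
    rw [h3, hz] at hl
    have hz' : z = -1 := by
      have : z = -(-1 * z) := by ring
      rw [this, hl]
    rw [hz'] at hz
    have : ((-1 : K)) ^ 2 = 1 := by ring
    rw [this] at hz
    exact h11 hz.symm

/-- the dimension of an absolutely irreducible 2-group of exponent four in odd characteristic
is a power of two -/
theorem card_pow_two_of_class6 [Nonempty ι] (h2 : (2 : F) ≠ 0) (R : Subgroup (GL ι F)) [Finite R]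
    (hsymp : IsSymplecticTypeGroup 2 R) (hR : ActsAbsolutelyIrreducibly (matrixSet R)) :
    ∃ k, Fintype.card ι = 2 ^ k := by
  classical
  let K := AlgebraicClosure F
  have h2K : (2 : K) ≠ 0 := by
    intro h
    apply h2
    have : algebraMap F K 2 = 0 := by rw [map_ofNat]; exact h
    exact (map_eq_zero (algebraMap F K)).1 this
  obtain ⟨ζ, hζ⟩ := exists_primitive_four K h2K
  haveI : Fact (Nat.Prime 2) := ⟨Nat.prime_two⟩
  have hexp : ∀ g : R, g ^ 4 = 1 := by
    intro g
    have h := hsymp.exponent_eq
    have h4 : Monoid.exponent R = 4 := by rw [h]; rfl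
    rw [← h4]
    exact Monoid.pow_exponent_eq_one g
  have hnt : Nontrivial (ι → K) := inferInstance
  exact Cfsg.Agent.Lib.Helper3.MaxC.finrank_pow_aux 2 4 (by norm_num) ζ hζ (Fintype.card ι) R
    (ι → K) (extRep K R) hsymp.pGroup hexp hnt (extRep_irr K R hR) (Module.finrank_fintype_fun_eq_card K)

end class6

end Cfsg.Agent.Lib.Helper4.MaxS
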