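import Mathlib
import Cfsg.Prelude
import Cfsg.Agent.Lib.Helper4.MaxS10
import Cfsg.Agent.Lib.Helper4.MaxS11
import Cfsg.Agent.Lib.Helper4.MaxS13

set_option autoImplicit false
set_option maxHeartbeats 4000000
set_option maxRecDepth 100000
set_option linter.unusedVariables false
set_option linter.unusedSectionVars false
set_option linter.style.haveILetI false
set_option linter.deprecated false

/-! The maximal subgroups of the symplectic groups of dimension 6, 10 and 12. -/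

namespace Cfsg.Agent.Lib.Helper4.MaxS

open Matrix Cfsg Cfsg.Geo Module

universe u

variable {F : Type u} [Field F]

/-- no proper power equals 6, 10 or 12 -/
theorem pow_small_false {k t n : ℕ} (h : k ^ t = n) (ht : 3 ≤ t)
    (hn : n = 6 ∨ n = 10 ∨ n = 12) : False := by
  have hn12 : n ≤ 12 := by omega
  rcases Nat.lt_or_ge k 2 with hk | hk
  · interval_cases k
    · rw [zero_pow (by omega)] at h
      omega
    · rw [one_pow] at h
      omega
  · rcases Nat.lt_or_ge k 3 with hk3 | hk3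
    · obtain rfl : k = 2 := by omega
      rcases Nat.lt_or_ge t 4 with ht4 | ht4
      · obtain rfl : t = 3 := by omega
        norm_num at h
        omega
      · have : 2 ^ 4 ≤ 2 ^ t := Nat.pow_le_pow_right (by norm_num) ht4
        omega
    · have h1 : 3 ^ 3 ≤ k ^ 3 := Nat.pow_le_pow_left hk3 3
      have h2 : k ^ 3 ≤ k ^ t := Nat.pow_le_pow_right (by omega) ht
      omega

/-- a power of two is not 6, 10 or 12 -/
theorem two_pow_small_false {j n : ℕ} (h : n = 2 ^ j) (hn : n = 6 ∨ n = 10 ∨ n = 12) : False := by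
  rcases Nat.lt_or_ge j 4 with hj | hj
  · interval_cases j <;> omega
  · have : 2 ^ 4 ≤ 2 ^ j := Nat.pow_le_pow_right (by norm_num) hj
    omega

theorem two_ne_zero_of_odd_card [Fintype F] (hodd : Odd (Fintype.card F)) : (2 : F) ≠ 0 := by
  intro h
  have h1 : ringChar F = 2 := CharP.ringChar_of_prime_eq_zero Nat.prime_two (by exact_mod_cast h)
  have h2 := FiniteField.even_card_iff_char_two.1 h1
  obtain ⟨k, hk⟩ := hodd
  omega

/-- class 6 does not occur in dimension 6, 10 or 12 -/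
theorem class6_false [Fintype F] {m : ℕ} (hm : 2 * m = 6 ∨ 2 * m = 10 ∨ 2 * m = 12)
    {R : Subgroup (Matrix.GeneralLinearGroup (Fin m ⊕ Fin m) F)} {p : ℕ}
    (hR : IsSymplecticTypeGroup 2 R) (hirr : ActsAbsolutelyIrreducibly (matrixSet R))
    (hpodd : Odd p) (hcard : Fintype.card F = p) : False := by
  classical
  have h2 : (2 : F) ≠ 0 := two_ne_zero_of_odd_card (by rw [hcard]; exact hpodd)
  haveI : Nonempty (Fin m ⊕ Fin m) := ⟨Sum.inl ⟨0, by omega⟩⟩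
  haveI : Finite R := inferInstance
  obtain ⟨j, hj⟩ := card_pow_two_of_class6 h2 R hR hirr
  rw [Fintype.card_sum, Fintype.card_fin] at hj
  exact two_pow_small_false (j := j) (n := 2 * m) (by omega) hm

theorem three_le_card_of_ne_two [Fintype F] (h : Fintype.card F ≠ 2) : 3 ≤ Fintype.card F := by
  have := Fintype.one_lt_card (α := F)
  omega

theorem row_sp10 [Fintype F] (hA : AschHyp 5 F)
    (H : Subgroup (Matrix.GeneralLinearGroup (Fin 5 ⊕ Fin 5) F))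
    (hH : IsMaximalIn (spGL 5 F) H) :
    (∃ W : Submodule F (Fin 5 ⊕ Fin 5 → F), W ≠ ⊥ ∧ IsTotallySingularFor (sympForm 5 F) W ∧
      H = subspaceStabilizer W ⊓ spGL 5 F) ∨
    (∃ W : Submodule F (Fin 5 ⊕ Fin 5 → F), W ≠ ⊥ ∧ IsNondegenerateOn (sympForm 5 F) W ∧
      Module.finrank F W < 5 ∧ H = subspaceStabilizer W ⊓ spGL 5 F) ∨
    (3 ≤ Fintype.card F ∧ ∃ D : Fin 5 → Submodule F (Fin 5 ⊕ Fin 5 → F),
      IsNondegenerateMDecomposition (sympForm 5 F) 2 D ∧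
      H = decompositionStabilizer D ⊓ spGL 5 F) ∨
    (Odd (Fintype.card F) ∧ ∃ D : Fin 2 → Submodule F (Fin 5 ⊕ Fin 5 → F),
      IsMDecomposition 5 D ∧ (∀ i, IsTotallySingularFor (sympForm 5 F) (D i)) ∧
      H = decompositionStabilizer D ⊓ spGL 5 F) ∨
    (∃ K : Subalgebra F (Matrix (Fin 5 ⊕ Fin 5) (Fin 5 ⊕ Fin 5) F), IsFieldSubalgebra 5 K ∧
      IsSelfAdjointFor (sympForm 5 F) K ∧
      (∀ k ∈ K, ∀ v : (Fin 5 ⊕ Fin 5 → F), (sympForm 5 F) (Matrix.mulVec k v) v = 0) ∧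
      H = subalgebraNormalizer K ⊓ spGL 5 F) ∨
    (Odd (Fintype.card F) ∧ ∃ K : Subalgebra F (Matrix (Fin 5 ⊕ Fin 5) (Fin 5 ⊕ Fin 5) F),
      IsFieldSubalgebra 2 K ∧ IsAdjointClosedFor (sympForm 5 F) K ∧
      ¬ IsSelfAdjointFor (sympForm 5 F) K ∧ H = subalgebraNormalizer K ⊓ spGL 5 F) ∨
    (Odd (Fintype.card F) ∧ ∃ (e : (Fin 5 ⊕ Fin 5) ≃ Fin 2 × Fin 5)
      (P : Matrix.GeneralLinearGroup (Fin 5 ⊕ Fin 5) F)
      (f₁ : (Fin 2 → F) → (Fin 2 → F) → F) (f₂ : (Fin 5 → F) → (Fin 5 → F) → F),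
      IsSymplecticForm f₁ ∧ IsSymmetricForm f₂ ∧
      IsTensorFormStructure id (sympForm 5 F) f₁ f₂ e P ∧
      H = tensorProductSubgroup 2 5 e P ⊓ spGL 5 F) ∨
    (∃ (F₀ : Subfield F) (r : ℕ) (P : Matrix.GeneralLinearGroup (Fin 5 ⊕ Fin 5) F) (ζ : F),
      r.Prime ∧ Fintype.card F = Nat.card F₀ ^ r ∧ ζ ≠ 0 ∧
      IsFormRationalStructure (sympForm 5 F) F₀ ζ P ∧ H = subfieldSubgroup F₀ P ⊓ spGL 5 F) ∨
    (¬ Odd (Fintype.card F) ∧ ∃ Q : (Fin 5 ⊕ Fin 5 → F) → F, IsNondegenerateQuadraticForm Q ∧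
      (∀ u v : (Fin 5 ⊕ Fin 5 → F), QuadraticMap.polar Q u v = (sympForm 5 F) u v) ∧
      H = quadSimilarityGroup Q ⊓ spGL 5 F) ∨
    InSymplecticResidualClass H := by
  have hex : ¬ ((5 : ℕ) = 2 ∧ Fintype.card F = 2) := by
    rintro ⟨h, -⟩
    omega
  rcases cases_of_max (by norm_num) H hH (asch_of_max (by norm_num) hex hA hH) with
    h | ⟨W, h0, hW, hdim, -, hHW⟩ | ⟨t, k, D, hD, htk, hk, hkq, hHD⟩ | h | h |
    ⟨R, p, k, hR, hirr, -, -, hpodd, hcard, -⟩ | h | ⟨r, K, hr, hdvd, hr2, hK, hsa, halt, hHK⟩ |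
    h | ⟨hodd, n₁, n₂, e, P, f₁, f₂, h3, hn, hev, hf₁, hf₂, hten, hHT⟩ |
    ⟨-, k, t, -, -, -, -, h3t, -, hkt, -⟩ | h
  · exact Or.inl h
  · right; left
    exact ⟨W, h0, hW, hdim, hHW⟩
  · right; right; left
    have ht := hD.decomp.two_le
    have hkpos := hD.decomp.pos
    obtain ⟨j, hj⟩ := hk
    have ht5 : t ≤ 5 := by
      have : t * 2 ≤ t * k := Nat.mul_le_mul_left t (by omega)
      omega
    obtain ⟨rfl, rfl⟩ : t = 5 ∧ k = 2 := by
      interval_cases t <;> omega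
    refine ⟨three_le_card_of_ne_two fun h => hkq ⟨rfl, h⟩, D, hD, hHD⟩
  · iterate 3 right
    left
    exact h
  · iterate 7 right
    left
    exact h
  · exact (class6_false (m := 5) (by norm_num) hR hirr hpodd hcard).elim
  · iterate 8 right
    left
    exact h
  · iterate 4 right
    left
    have hr10 : r ≤ 10 := Nat.le_of_dvd (by norm_num) hdvd
    have hrcases : r = 2 ∨ r = 5 := by
      interval_cases r <;> first | omega | (exfalso; revert hr; decide)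
    rcases hrcases with rfl | rfl
    · exfalso
      obtain ⟨j, hj⟩ := hr2 rfl
      omega
    · exact ⟨K, hK, hsa, halt, hHK⟩
  · iterate 5 right
    left
    exact h
  · iterate 6 right
    left
    obtain ⟨j, hj⟩ := hev
    have hn₂ : n₂ ≤ 10 := by
      have hpos : 1 ≤ n₁ := by
        rcases Nat.eq_zero_or_pos n₁ with h | h
        · rw [h, zero_mul] at hn
          omega
        · exact h
      have : 1 * n₂ ≤ n₁ * n₂ := Nat.mul_le_mul_right n₂ hpos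
      omega
    obtain ⟨rfl, rfl⟩ : n₁ = 2 ∧ n₂ = 5 := by
      interval_cases n₂ <;> omega
    exact ⟨hodd, e, P, f₁, f₂, hf₁, hf₂, hten, hHT⟩
  · exact (pow_small_false hkt h3t (by norm_num)).elim
  · iterate 9 right
    exact h

/-- an odd field order below five is three -/
theorem card_eq_three_of_odd_lt_five [Fintype F] (hodd : Odd (Fintype.card F))
    (h5 : ¬ 5 ≤ Fintype.card F) : Fintype.card F = 3 := by
  have := Fintype.one_lt_card (α := F)
  obtain ⟨k, hk⟩ := hodd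
  omega

theorem row_sp6 [Fintype F] (hA : AschHyp 3 F)
    (H : Subgroup (Matrix.GeneralLinearGroup (Fin 3 ⊕ Fin 3) F))
    (hH : IsMaximalIn (spGL 3 F) H) :
    (∃ W : Submodule F (Fin 3 ⊕ Fin 3 → F), W ≠ ⊥ ∧ IsTotallySingularFor (sympForm 3 F) W ∧
      H = subspaceStabilizer W ⊓ spGL 3 F) ∨
    (∃ W : Submodule F (Fin 3 ⊕ Fin 3 → F), W ≠ ⊥ ∧ IsNondegenerateOn (sympForm 3 F) W ∧
      Module.finrank F W < 3 ∧ H = subspaceStabilizer W ⊓ spGL 3 F) ∨
    (3 ≤ Fintype.card F ∧ ∃ D : Fin 3 → Submodule F (Fin 3 ⊕ Fin 3 → F),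
      IsNondegenerateMDecomposition (sympForm 3 F) 2 D ∧
      H = decompositionStabilizer D ⊓ spGL 3 F) ∨
    (Odd (Fintype.card F) ∧ ∃ D : Fin 2 → Submodule F (Fin 3 ⊕ Fin 3 → F),
      IsMDecomposition 3 D ∧ (∀ i, IsTotallySingularFor (sympForm 3 F) (D i)) ∧
      H = decompositionStabilizer D ⊓ spGL 3 F) ∨
    (∃ K : Subalgebra F (Matrix (Fin 3 ⊕ Fin 3) (Fin 3 ⊕ Fin 3) F), IsFieldSubalgebra 3 K ∧
      IsSelfAdjointFor (sympForm 3 F) K ∧
      (∀ k ∈ K, ∀ v : (Fin 3 ⊕ Fin 3 → F), (sympForm 3 F) (Matrix.mulVec k v) v = 0) ∧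
      H = subalgebraNormalizer K ⊓ spGL 3 F) ∨
    (Odd (Fintype.card F) ∧ ∃ K : Subalgebra F (Matrix (Fin 3 ⊕ Fin 3) (Fin 3 ⊕ Fin 3) F),
      IsFieldSubalgebra 2 K ∧ IsAdjointClosedFor (sympForm 3 F) K ∧
      ¬ IsSelfAdjointFor (sympForm 3 F) K ∧ H = subalgebraNormalizer K ⊓ spGL 3 F) ∨
    (Odd (Fintype.card F) ∧ 5 ≤ Fintype.card F ∧ ∃ (e : (Fin 3 ⊕ Fin 3) ≃ Fin 2 × Fin 3)
      (P : Matrix.GeneralLinearGroup (Fin 3 ⊕ Fin 3) F)
      (f₁ : (Fin 2 → F) → (Fin 2 → F) → F) (f₂ : (Fin 3 → F) → (Fin 3 → F) → F),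
      IsSymplecticForm f₁ ∧ IsSymmetricForm f₂ ∧
      IsTensorFormStructure id (sympForm 3 F) f₁ f₂ e P ∧
      H = tensorProductSubgroup 2 3 e P ⊓ spGL 3 F) ∨
    (∃ (F₀ : Subfield F) (r : ℕ) (P : Matrix.GeneralLinearGroup (Fin 3 ⊕ Fin 3) F) (ζ : F),
      r.Prime ∧ Fintype.card F = Nat.card F₀ ^ r ∧ ζ ≠ 0 ∧
      IsFormRationalStructure (sympForm 3 F) F₀ ζ P ∧ H = subfieldSubgroup F₀ P ⊓ spGL 3 F) ∨
    (¬ Odd (Fintype.card F) ∧ ∃ Q : (Fin 3 ⊕ Fin 3 → F) → F, IsNondegenerateQuadraticForm Q ∧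
      (∀ u v : (Fin 3 ⊕ Fin 3 → F), QuadraticMap.polar Q u v = (sympForm 3 F) u v) ∧
      H = quadSimilarityGroup Q ⊓ spGL 3 F) ∨
    InSymplecticResidualClass H := by
  have hex : ¬ ((3 : ℕ) = 2 ∧ Fintype.card F = 2) := by
    rintro ⟨h, -⟩
    omega
  rcases cases_of_max (by norm_num) H hH (asch_of_max (by norm_num) hex hA hH) with
    h | ⟨W, h0, hW, hdim, -, hHW⟩ | ⟨t, k, D, hD, htk, hk, hkq, hHD⟩ | h | h |
    ⟨R, p, k, hR, hirr, -, -, hpodd, hcard, -⟩ | h | ⟨r, K, hr, hdvd, hr2, hK, hsa, halt, hHK⟩ |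
    h | ⟨hodd, n₁, n₂, e, P, f₁, f₂, h3, hn, hev, hf₁, hf₂, hten, hHT⟩ |
    ⟨-, k, t, -, -, -, -, h3t, -, hkt, -⟩ | h
  · exact Or.inl h
  · right; left
    exact ⟨W, h0, hW, hdim, hHW⟩
  · right; right; left
    have ht := hD.decomp.two_le
    have hkpos := hD.decomp.pos
    obtain ⟨j, hj⟩ := hk
    have ht5 : t ≤ 3 := by
      have : t * 2 ≤ t * k := Nat.mul_le_mul_left t (by omega)
      omega
    obtain ⟨rfl, rfl⟩ : t = 3 ∧ k = 2 := by
      interval_cases t <;> omega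
    refine ⟨three_le_card_of_ne_two fun h => hkq ⟨rfl, h⟩, D, hD, hHD⟩
  · iterate 3 right
    left
    exact h
  · iterate 7 right
    left
    exact h
  · exact (class6_false (m := 3) (by norm_num) hR hirr hpodd hcard).elim
  · iterate 8 right
    left
    exact h
  · iterate 4 right
    left
    have hr10 : r ≤ 6 := Nat.le_of_dvd (by norm_num) hdvd
    have hrcases : r = 2 ∨ r = 3 := by
      interval_cases r <;> first | omega | (exfalso; revert hr; decide)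
    rcases hrcases with rfl | rfl
    · exfalso
      obtain ⟨j, hj⟩ := hr2 rfl
      omega
    · exact ⟨K, hK, hsa, halt, hHK⟩
  · iterate 5 right
    left
    exact h
  · obtain ⟨j, hj⟩ := hev
    have hn₂ : n₂ ≤ 6 := by
      have hpos : 1 ≤ n₁ := by
        rcases Nat.eq_zero_or_pos n₁ with h | h
        · rw [h, zero_mul] at hn
          omega
        · exact h
      have : 1 * n₂ ≤ n₁ * n₂ := Nat.mul_le_mul_right n₂ hpos
      omega
    obtain ⟨rfl, rfl⟩ : n₁ = 2 ∧ n₂ = 3 := by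
      interval_cases n₂ <;> omega
    by_cases h5 : 5 ≤ Fintype.card F
    · iterate 6 right
      left
      exact ⟨hodd, h5, e, P, f₁, f₂, hf₁, hf₂, hten, hHT⟩
    · -- the field has three elements: a decomposition into three planes
      have hq := card_eq_three_of_odd_lt_five hodd h5
      obtain ⟨D, hD, hle⟩ := decomp_of_tensor_three hq (by norm_num) e P f₁ f₂ hf₁ hf₂ hten
      right; right; left
      refine ⟨by omega, D, hD, ?_⟩
      refine eq_inf_of_le hH (hHT.le.trans hle) (not_le_decomp hD ?_)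
      rintro ⟨-, h⟩
      omega
  · exact (pow_small_false hkt h3t (by norm_num)).elim
  · iterate 9 right
    exact h

theorem row_sp12 [Fintype F] (hA : AschHyp 6 F)
    (H : Subgroup (Matrix.GeneralLinearGroup (Fin 6 ⊕ Fin 6) F))
    (hH : IsMaximalIn (spGL 6 F) H) :
    (∃ W : Submodule F (Fin 6 ⊕ Fin 6 → F), W ≠ ⊥ ∧ IsTotallySingularFor (sympForm 6 F) W ∧
      H = subspaceStabilizer W ⊓ spGL 6 F) ∨
    (∃ W : Submodule F (Fin 6 ⊕ Fin 6 → F), W ≠ ⊥ ∧ IsNondegenerateOn (sympForm 6 F) W ∧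
      Module.finrank F W < 6 ∧ H = subspaceStabilizer W ⊓ spGL 6 F) ∨
    (3 ≤ Fintype.card F ∧ ∃ D : Fin 6 → Submodule F (Fin 6 ⊕ Fin 6 → F),
      IsNondegenerateMDecomposition (sympForm 6 F) 2 D ∧
      H = decompositionStabilizer D ⊓ spGL 6 F) ∨
    (∃ D : Fin 3 → Submodule F (Fin 6 ⊕ Fin 6 → F),
      IsNondegenerateMDecomposition (sympForm 6 F) 4 D ∧
      H = decompositionStabilizer D ⊓ spGL 6 F) ∨
    (∃ D : Fin 2 → Submodule F (Fin 6 ⊕ Fin 6 → F),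
      IsNondegenerateMDecomposition (sympForm 6 F) 6 D ∧
      H = decompositionStabilizer D ⊓ spGL 6 F) ∨
    (Odd (Fintype.card F) ∧ ∃ D : Fin 2 → Submodule F (Fin 6 ⊕ Fin 6 → F),
      IsMDecomposition 6 D ∧ (∀ i, IsTotallySingularFor (sympForm 6 F) (D i)) ∧
      H = decompositionStabilizer D ⊓ spGL 6 F) ∨
    (∃ K : Subalgebra F (Matrix (Fin 6 ⊕ Fin 6) (Fin 6 ⊕ Fin 6) F), IsFieldSubalgebra 2 K ∧
      IsSelfAdjointFor (sympForm 6 F) K ∧
      (∀ k ∈ K, ∀ v : (Fin 6 ⊕ Fin 6 → F), (sympForm 6 F) (Matrix.mulVec k v) v = 0) ∧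
      H = subalgebraNormalizer K ⊓ spGL 6 F) ∨
    (∃ K : Subalgebra F (Matrix (Fin 6 ⊕ Fin 6) (Fin 6 ⊕ Fin 6) F), IsFieldSubalgebra 3 K ∧
      IsSelfAdjointFor (sympForm 6 F) K ∧
      (∀ k ∈ K, ∀ v : (Fin 6 ⊕ Fin 6 → F), (sympForm 6 F) (Matrix.mulVec k v) v = 0) ∧
      H = subalgebraNormalizer K ⊓ spGL 6 F) ∨
    (Odd (Fintype.card F) ∧ ∃ K : Subalgebra F (Matrix (Fin 6 ⊕ Fin 6) (Fin 6 ⊕ Fin 6) F),
      IsFieldSubalgebra 2 K ∧ IsAdjointClosedFor (sympForm 6 F) K ∧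
      ¬ IsSelfAdjointFor (sympForm 6 F) K ∧ H = subalgebraNormalizer K ⊓ spGL 6 F) ∨
    (Odd (Fintype.card F) ∧ ∃ (e : (Fin 6 ⊕ Fin 6) ≃ Fin 2 × Fin 6)
      (P : Matrix.GeneralLinearGroup (Fin 6 ⊕ Fin 6) F)
      (f₁ : (Fin 2 → F) → (Fin 2 → F) → F) (f₂ : (Fin 6 → F) → (Fin 6 → F) → F),
      IsSymplecticForm f₁ ∧ IsSymmetricForm f₂ ∧
      IsTensorFormStructure id (sympForm 6 F) f₁ f₂ e P ∧
      H = tensorProductSubgroup 2 6 e P ⊓ spGL 6 F) ∨
    (Odd (Fintype.card F) ∧ 5 ≤ Fintype.card F ∧ ∃ (e : (Fin 6 ⊕ Fin 6) ≃ Fin 4 × Fin 3)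
      (P : Matrix.GeneralLinearGroup (Fin 6 ⊕ Fin 6) F)
      (f₁ : (Fin 4 → F) → (Fin 4 → F) → F) (f₂ : (Fin 3 → F) → (Fin 3 → F) → F),
      IsSymplecticForm f₁ ∧ IsSymmetricForm f₂ ∧
      IsTensorFormStructure id (sympForm 6 F) f₁ f₂ e P ∧
      H = tensorProductSubgroup 4 3 e P ⊓ spGL 6 F) ∨
    (∃ (F₀ : Subfield F) (r : ℕ) (P : Matrix.GeneralLinearGroup (Fin 6 ⊕ Fin 6) F) (ζ : F),
      r.Prime ∧ Fintype.card F = Nat.card F₀ ^ r ∧ ζ ≠ 0 ∧
      IsFormRationalStructure (sympForm 6 F) F₀ ζ P ∧ H = subfieldSubgroup F₀ P ⊓ spGL 6 F) ∨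
    (¬ Odd (Fintype.card F) ∧ ∃ Q : (Fin 6 ⊕ Fin 6 → F) → F, IsNondegenerateQuadraticForm Q ∧
      (∀ u v : (Fin 6 ⊕ Fin 6 → F), QuadraticMap.polar Q u v = (sympForm 6 F) u v) ∧
      H = quadSimilarityGroup Q ⊓ spGL 6 F) ∨
    InSymplecticResidualClass H := by
  have hex : ¬ ((6 : ℕ) = 2 ∧ Fintype.card F = 2) := by
    rintro ⟨h, -⟩
    omega
  rcases cases_of_max (by norm_num) H hH (asch_of_max (by norm_num) hex hA hH) with
    h | ⟨W, h0, hW, hdim, -, hHW⟩ | ⟨t, k, D, hD, htk, hk, hkq, hHD⟩ | h | h |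
    ⟨R, p, k, hR, hirr, -, -, hpodd, hcard, -⟩ | h | ⟨r, K, hr, hdvd, hr2, hK, hsa, halt, hHK⟩ |
    h | ⟨hodd, n₁, n₂, e, P, f₁, f₂, h3, hn, hev, hf₁, hf₂, hten, hHT⟩ |
    ⟨-, k, t, -, -, -, -, h3t, -, hkt, -⟩ | h
  · exact Or.inl h
  · right; left
    exact ⟨W, h0, hW, hdim, hHW⟩
  · have ht := hD.decomp.two_le
    have hkpos := hD.decomp.pos
    obtain ⟨j, hj⟩ := hk
    have ht5 : t ≤ 6 := by
      have : t * 2 ≤ t * k := Nat.mul_le_mul_left t (by omega)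
      omega
    have hcases : (t = 6 ∧ k = 2) ∨ (t = 3 ∧ k = 4) ∨ (t = 2 ∧ k = 6) := by
      interval_cases t <;> omega
    rcases hcases with ⟨rfl, rfl⟩ | ⟨rfl, rfl⟩ | ⟨rfl, rfl⟩
    · right; right; left
      exact ⟨three_le_card_of_ne_two fun h => hkq ⟨rfl, h⟩, D, hD, hHD⟩
    · iterate 3 right
      left
      exact ⟨D, hD, hHD⟩
    · iterate 4 right
      left
      exact ⟨D, hD, hHD⟩
  · iterate 5 right
    left
    exact h
  · iterate 11 right
    left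
    exact h
  · exact (class6_false (m := 6) (by norm_num) hR hirr hpodd hcard).elim
  · iterate 12 right
    left
    exact h
  · have hr10 : r ≤ 12 := Nat.le_of_dvd (by norm_num) hdvd
    have hrcases : r = 2 ∨ r = 3 := by
      interval_cases r <;> first | omega | (exfalso; revert hr; decide)
    rcases hrcases with rfl | rfl
    · iterate 6 right
      left
      exact ⟨K, hK, hsa, halt, hHK⟩
    · iterate 7 right
      left
      exact ⟨K, hK, hsa, halt, hHK⟩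
  · iterate 8 right
    left
    exact h
  · obtain ⟨j, hj⟩ := hev
    have hn₂ : n₂ ≤ 12 := by
      have hpos : 1 ≤ n₁ := by
        rcases Nat.eq_zero_or_pos n₁ with h | h
        · rw [h, zero_mul] at hn
          omega
        · exact h
      have : 1 * n₂ ≤ n₁ * n₂ := Nat.mul_le_mul_right n₂ hpos
      omega
    have hcases : (n₁ = 2 ∧ n₂ = 6) ∨ (n₁ = 4 ∧ n₂ = 3) := by
      interval_cases n₂ <;> omega
    rcases hcases with ⟨rfl, rfl⟩ | ⟨rfl, rfl⟩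
    · iterate 9 right
      left
      exact ⟨hodd, e, P, f₁, f₂, hf₁, hf₂, hten, hHT⟩
    · by_cases h5 : 5 ≤ Fintype.card F
      · iterate 10 right
        left
        exact ⟨hodd, h5, e, P, f₁, f₂, hf₁, hf₂, hten, hHT⟩
      · -- the field has three elements: a decomposition into three blocks of dimension four
        have hq := card_eq_three_of_odd_lt_five hodd h5
        obtain ⟨D, hD, hle⟩ := decomp_of_tensor_three hq (by norm_num) e P f₁ f₂ hf₁ hf₂ hten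
        iterate 3 right
        left
        refine ⟨D, hD, ?_⟩
        refine eq_inf_of_le hH (hHT.le.trans hle) (not_le_decomp hD ?_)
        rintro ⟨h, -⟩
        omega
  · exact (pow_small_false hkt h3t (by norm_num)).elim
  · iterate 13 right
    exact h

end Cfsg.Agent.Lib.Helper4.MaxS
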