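import Mathlib
import Cfsg.Prelude
import Cfsg.Agent.Lib.Helper4.MaxS14

set_option autoImplicit false
set_option maxHeartbeats 4000000
set_option maxRecDepth 100000
set_option linter.unusedVariables false
set_option linter.unusedSectionVars false
set_option linter.style.haveILetI false
set_option linter.deprecated false

/-! Properness of the normalisers of absolutely irreducible 2-groups in the symplectic group. -/

namespace Cfsg.Agent.Lib.Helper4.MaxS

open Matrix Cfsg Cfsg.Geo Module
open Cfsg.Agent.Lib.Helper5.SympTv Cfsg.Agent.Lib.Helper5.SympGen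
  Cfsg.Agent.Lib.Helper5.SympBridge Cfsg.Agent.Lib.Helper5.SpCentres
  Cfsg.Agent.Lib.Helper5.SpSingularMax

universe u

section scalar

variable {F : Type*} [Field F] {ι : Type*} [Fintype ι] [DecidableEq ι]

/-- a matrix mapping every vector into its span is scalar -/
theorem scalar_of_forall_mem_span' [Nonempty ι] (A : Matrix ι ι F)
    (h : ∀ v : ι → F, A *ᵥ v ∈ Submodule.span F ({v} : Set (ι → F))) :
    ∃ c : F, A = c • (1 : Matrix ι ι F) := by
  have hcoef : ∀ v : ι → F, ∃ c : F, A *ᵥ v = c • v := by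
    intro v
    obtain ⟨c, hc⟩ := Submodule.mem_span_singleton.mp (h v)
    exact ⟨c, hc.symm⟩
  have hoff : ∀ i j : ι, i ≠ j → A i j = 0 := by
    intro i j hij
    obtain ⟨c, hc⟩ := hcoef (Pi.single j 1)
    have := congrFun hc i
    rw [Matrix.mulVec_single_one] at this
    simpa [Pi.single_apply, hij] using this
  have hdiag : ∀ i j : ι, A i i = A j j := by
    intro i j
    by_cases hij : i = j
    · rw [hij]
    obtain ⟨c, hc⟩ := hcoef (Pi.single i 1 + Pi.single j 1)
    have h1 := congrFun hc i
    have h2 := congrFun hc j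
    rw [Matrix.mulVec_add, Matrix.mulVec_single_one, Matrix.mulVec_single_one] at h1 h2
    simp only [Pi.add_apply, Pi.smul_apply, Pi.single_apply, smul_eq_mul] at h1 h2
    have hji : j ≠ i := fun h => hij h.symm
    simp only [col_apply, hoff i j hij, hoff j i hji, hij, hji, if_true, if_false, add_zero,
      zero_add, mul_one] at h1 h2
    rw [h1, h2]
  obtain ⟨i₀⟩ := ‹Nonempty ι›
  refine ⟨A i₀ i₀, ?_⟩
  ext i j
  by_cases hij : i = j
  · subst hij
    simp [hdiag i i₀]
  · simp [hoff i j hij, hij]

end scalar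

variable {F : Type u} [Field F] {m : ℕ}

local notation "V" => (Fin m ⊕ Fin m → F)
local notation "GLV" => Matrix.GeneralLinearGroup (Fin m ⊕ Fin m) F
local notation "MatV" => Matrix (Fin m ⊕ Fin m) (Fin m ⊕ Fin m) F

/-- a matrix commuting with all symplectic transvections is scalar -/
theorem scalar_of_commute_tv (hm : 1 ≤ m) (M : MatV)
    (h : ∀ a : V, M * (tvGL m a 1 : MatV) = (tvGL m a 1 : MatV) * M) :
    ∃ c : F, M = c • (1 : MatV) := by
  haveI : Nonempty (Fin m ⊕ Fin m) := ⟨Sum.inl ⟨0, by omega⟩⟩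
  apply scalar_of_forall_mem_span'
  intro a
  by_cases ha : a = 0
  · rw [ha, Matrix.mulVec_zero]
    exact Submodule.zero_mem _
  obtain ⟨x, hx⟩ := exists_sympForm_ne_zero ha
  have h1 := congrArg (fun N : MatV => N *ᵥ x) (h a)
  simp only [← Matrix.mulVec_mulVec] at h1
  rw [tvGL_mulVec, tvGL_mulVec, one_mul, one_mul, hx, one_smul, Matrix.mulVec_add] at h1
  have h2 : M *ᵥ a = sympForm m F (M *ᵥ x) a • a := add_left_cancel h1
  rw [h2]
  exact Submodule.smul_mem _ _ (Submodule.mem_span_singleton_self a)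

/-- the similarity group normalises the isometry group -/
theorem sim_conj_mem {g s : GLV} (hg : g ∈ similarityGroup (sympForm m F)) (hs : s ∈ spGL m F) :
    g * s * g⁻¹ ∈ spGL m F := by
  obtain ⟨c, hc⟩ := hg
  rw [mem_spGL_iff]
  intro u v
  have hs' := (mem_spGL_iff m s).1 hs
  rw [Units.val_mul, Units.val_mul, ← Matrix.mulVec_mulVec, ← Matrix.mulVec_mulVec,
    ← Matrix.mulVec_mulVec, ← Matrix.mulVec_mulVec, hc, hs']
  have h1 := hc (((g⁻¹ : GLV) : MatV) *ᵥ u) (((g⁻¹ : GLV) : MatV) *ᵥ v)
  rw [gl_mulVec_inv, gl_mulVec_inv] at h1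
  exact h1.symm

theorem tvGL_pow (v : V) (c : F) (n : ℕ) : (tvGL m v c) ^ n = tvGL m v (n * c) := by
  induction n with
  | zero =>
    rw [pow_zero, Nat.cast_zero, zero_mul]
    apply Units.ext
    exact (sympTransvection_zero m v).symm
  | succ n ih =>
    rw [pow_succ, ih]
    apply Units.ext
    show sympTransvection m v (n * c) * sympTransvection m v c = sympTransvection m v (↑(n + 1) * c)
    rw [sympTransvection_mul, Nat.cast_succ]
    congr 1
    ring

/-- the isometry group does not normalise an absolutely irreducible 2-group of similarities -/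
theorem not_le_class6 [Fintype F] (hm : 2 ≤ m) (hodd : Odd (Fintype.card F)) {R : Subgroup GLV}
    (hR2 : IsPGroup 2 R) (hirr : ActsAbsolutelyIrreducibly (matrixSet R))
    (hsim : R ≤ similarityGroup (sympForm m F)) : ¬ spGL m F ≤ subgroupNormalizer R := by
  classical
  intro hle
  have h2F : (2 : F) ≠ 0 := two_ne_zero_of_odd_card hodd
  have hnorm : ∀ s ∈ spGL m F, ∀ g ∈ R, s * g * s⁻¹ ∈ R := by
    intro s hs g hg
    exact (Subgroup.mem_normalizer_iff.1 (hle hs) g).1 hg
  have hq3 : 3 ≤ Fintype.card F := by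
    have := Fintype.one_lt_card (α := F)
    obtain ⟨k, hk⟩ := hodd
    omega
  have hperf := Cfsg.Agent.Lib.Helper5.SympPerfect.perfect (F := F) m (by
    by_cases h3 : 3 ≤ m
    · exact Or.inl h3
    · right; left
      exact ⟨by omega, hq3⟩)
  have htoGL : ∀ s : symplecticGroup (Fin m) F, toGL s ∈ spGL m F := by
    intro s
    rw [← range_toGL]
    exact ⟨s, rfl⟩
  set N : Subgroup (symplecticGroup (Fin m) F) := R.comap (toGL (F := F) (m := m)) with hN
  haveI hNn : N.Normal := by
    refine ⟨fun x hx s => ?_⟩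
    show toGL (s * x * s⁻¹) ∈ R
    rw [map_mul, map_mul, map_inv]
    exact hnorm _ (htoGL s) _ hx
  set i0 : Fin m ⊕ Fin m := Sum.inl ⟨0, by omega⟩ with hi0
  set i1 : Fin m ⊕ Fin m := Sum.inr ⟨0, by omega⟩ with hi1
  have hne : i0 ≠ i1 := by simp [hi0, hi1]
  rcases Cfsg.Agent.Lib.Helper5.SympPrimitive.normal_le_center_or_eq_top m hperf N with h | h
  · -- every element of `R` is a scalar
    have hscal : ∀ g ∈ R, ∃ c : F, (g : MatV) = c • (1 : MatV) := by
      intro g hg
      haveI : Nonempty (Fin m ⊕ Fin m) := ⟨i0⟩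
      apply scalar_of_forall_mem_span'
      intro a
      by_cases ha : a = 0
      · rw [ha, Matrix.mulVec_zero]
        exact Submodule.zero_mem _
      set τ : GLV := tvGL m a 1 with hτ
      have hτS : τ ∈ spGL m F := tvGL_mem m a 1
      set c₀ : GLV := τ * g * τ⁻¹ * g⁻¹ with hc₀
      have hc₀R : c₀ ∈ R := R.mul_mem (hnorm τ hτS g hg) (R.inv_mem hg)
      have hc₀S : c₀ ∈ spGL m F := by
        have h1 : g * τ⁻¹ * g⁻¹ ∈ spGL m F := sim_conj_mem (hsim hg) ((spGL m F).inv_mem hτS)
        have h2 : c₀ = τ * (g * τ⁻¹ * g⁻¹) := by rw [hc₀]; group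
        rw [h2]
        exact (spGL m F).mul_mem hτS h1
      rw [← range_toGL] at hc₀S
      obtain ⟨c', hc'⟩ := hc₀S
      have hc'N : c' ∈ N := by
        show toGL c' ∈ R
        rw [hc']
        exact hc₀R
      have hcen := h hc'N
      have hcomm : ∀ b : V, (c₀ : MatV) * (tvGL m b 1 : MatV) = (tvGL m b 1 : MatV) * (c₀ : MatV) := by
        intro b
        have hb := tvGL_mem m b (1 : F)
        rw [← range_toGL] at hb
        obtain ⟨t', ht'⟩ := hb
        have h1 := Subgroup.mem_center_iff.1 hcen t'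
        have h2 := congrArg (fun s : symplecticGroup (Fin m) F => ((toGL s : GLV) : MatV)) h1
        simp only [map_mul, Units.val_mul] at h2
        rw [hc', ht'] at h2
        exact h2.symm
      obtain ⟨ε, hε⟩ := scalar_of_commute_tv (by omega) (c₀ : MatV) hcomm
      -- `τ g = ε g τ`
      have hrel : (τ : MatV) * (g : MatV) = ε • ((g : MatV) * (τ : MatV)) := by
        have h1 : c₀ * (g * τ) = τ * g := by rw [hc₀]; group
        have h2 := congrArg (fun s : GLV => (s : MatV)) h1
        simp only [Units.val_mul] at h2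
        rw [hε, Matrix.smul_mul, Matrix.one_mul] at h2
        exact h2.symm
      have h3 := congrArg (fun N : MatV => N *ᵥ a) hrel
      simp only [Matrix.smul_mulVec, ← Matrix.mulVec_mulVec] at h3
      rw [hτ, tvGL_mulVec, tvGL_mulVec, sympForm_self, mul_zero, zero_smul, add_zero, one_mul] at h3
      by_cases hε1 : ε = 1
      · obtain ⟨x, hx⟩ := exists_sympForm_ne_zero ha
        have h4 := congrArg (fun N : MatV => N *ᵥ x) hrel
        simp only [Matrix.smul_mulVec, ← Matrix.mulVec_mulVec] at h4
        rw [hτ, tvGL_mulVec, tvGL_mulVec, hε1, one_smul, one_mul, one_mul, hx, one_smul,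
          Matrix.mulVec_add] at h4
        have h5 : (g : MatV) *ᵥ a = sympForm m F ((g : MatV) *ᵥ x) a • a := (add_left_cancel h4).symm
        rw [h5]
        exact Submodule.smul_mem _ _ (Submodule.mem_span_singleton_self a)
      · have hε0 : ε - 1 ≠ 0 := sub_ne_zero.2 hε1
        have h5 : (g : MatV) *ᵥ a =
            ((ε - 1)⁻¹ * sympForm m F ((g : MatV) *ᵥ a) a) • a := by
          have h6 : (ε - 1) • ((g : MatV) *ᵥ a) = sympForm m F ((g : MatV) *ᵥ a) a • a := by
            rw [sub_smul, one_smul, ← h3]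
            abel
          rw [mul_smul, ← h6, smul_smul, inv_mul_cancel₀ hε0, one_smul]
        rw [h5]
        exact Submodule.smul_mem _ _ (Submodule.mem_span_singleton_self a)
    obtain ⟨c, hc⟩ := hirr.2 (Matrix.single i0 i1 (1 : F)) (by
      rintro s ⟨g, hg, rfl⟩
      obtain ⟨c, hc⟩ := hscal g hg
      show Matrix.single i0 i1 (1 : F) * (g : MatV) = (g : MatV) * Matrix.single i0 i1 (1 : F)
      rw [hc, Matrix.mul_smul, Matrix.smul_mul, Matrix.mul_one, Matrix.one_mul])
    have := congrFun (congrFun hc i0) i1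
    simp [Matrix.single_apply, hne] at this
  · -- `R` contains the isometry group: a transvection has odd order
    set v : V := Pi.single i0 1 with hv
    have hv0 : v ≠ 0 := by
      intro h0
      have := congrFun h0 i0
      simp [hv] at this
    have hmem : tvGL m v 1 ∈ R := by
      have hb := tvGL_mem m v (1 : F)
      rw [← range_toGL] at hb
      obtain ⟨t', ht'⟩ := hb
      have : t' ∈ N := by rw [h]; exact Subgroup.mem_top _
      rw [← ht']
      exact this
    obtain ⟨k, hk⟩ := hR2 ⟨_, hmem⟩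
    have hk' : (tvGL m v 1) ^ (2 ^ k) = 1 := by
      have := congrArg Subtype.val hk
      simpa using this
    rw [tvGL_pow, mul_one] at hk'
    obtain ⟨x, hx⟩ := exists_sympForm_ne_zero hv0
    have h1 := congrArg (fun s : GLV => (s : MatV) *ᵥ x) hk'
    simp only [Units.val_one, Matrix.one_mulVec] at h1
    rw [tvGL_mulVec, hx, mul_one] at h1
    have h2 : ((2 ^ k : ℕ) : F) • v = 0 := by
      have : x + ((2 ^ k : ℕ) : F) • v = x + 0 := by rw [h1, add_zero]
      exact add_left_cancel this
    have h3 : ((2 ^ k : ℕ) : F) = 0 := by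
      rcases smul_eq_zero.1 h2 with h | h
      · exact h
      · exact absurd h hv0
    rw [Nat.cast_pow, Nat.cast_ofNat] at h3
    exact h2F (pow_eq_zero_iff (by
      intro hk0
      rw [hk0, pow_zero] at h3
      exact one_ne_zero h3) |>.1 h3)

end Cfsg.Agent.Lib.Helper4.MaxS
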