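import Mathlib
import Cfsg.Agent.Lib.Helper3.TGSDefs

/-!
# Farm TGS (S3161): unit U6a2 (coordinates on an elementary abelian `B ≠ Fix α'` with (H)).
-/

set_option autoImplicit false

namespace Cfsg.Agent.Lib.Helper4.TGSU6a2

open Cfsg.Agent.Lib.Helper3.TGSDefs

variable {F : Type} [Field F] [Fintype F] [CharP F 2] {mu : F}

/-- U6a2: coordinates on elementary abelian `B ≠ Fix α'` with (H). -/
theorem U6a2_coord (hmu : ∀ x : F, x ≠ 0 → ∃ k : ℕ, x = mu ^ k)
    {B : Type*} [Group B] [Finite B] {α' ρ' : MulAut B} {ι' : F → B} (h' : Hyp mu α' ρ' ι')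
    (hel : ∀ b : B, b ^ 2 = 1) (hne : ∃ b, α' b ≠ b)
    (hcompl : ∃ W : Subgroup B, (∀ w ∈ W, ρ' w ∈ W) ∧
      fixSub α' ⊓ W = ⊥ ∧ fixSub α' ⊔ W = ⊤) :
    ∃ X W : B → F, Coord2Data mu α' ρ' ι' X W := by
  obtain ⟨W0, hWρ, hinf, hsup⟩ := hcompl
  -- basic facts on the elementary abelian group `B`
  have hmm : ∀ b : B, b * b = 1 := fun b => by
    have := hel b
    rwa [sq] at this
  have hinv : ∀ b : B, b⁻¹ = b := fun b => inv_eq_of_mul_eq_one_left (hmm b)
  have hcomm : ∀ a b : B, a * b = b * a := by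
    intro a b
    have h1 : (a * b)⁻¹ = a * b := hinv _
    rw [mul_inv_rev, hinv, hinv] at h1
    exact h1.symm
  have h4 : ∀ p q r s : B, (p * q) * (r * s) = (p * r) * (q * s) := by
    intro p q r s
    rw [mul_assoc p q (r * s), ← mul_assoc q r s, hcomm q r, mul_assoc r q s,
      ← mul_assoc p r (q * s)]
  have hι0 : ι' 0 = 1 := by
    have h1 := h'.iota_add 0 0
    rw [add_zero] at h1
    have h2 : ι' 0 * ι' 0 = ι' 0 * 1 := by rw [mul_one]; exact h1.symm
    exact mul_left_cancel h2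
  have hJ : ∀ b, α' (b * α' b) = b * α' b := fun b => by
    rw [map_mul, h'.alpha_sq, hcomm]
  have hfixι : ∀ a, α' (ι' a) = ι' a := fun a => (h'.iota_fix _).mpr ⟨a, rfl⟩
  have hαw : ∀ w, α' w = w * (w * α' w) := fun w => by
    rw [← mul_assoc, hmm, one_mul]
  have hjmul : ∀ a b : B, (a * b) * α' (a * b) = (a * α' a) * (b * α' b) := by
    intro a b
    rw [map_mul, h4]
  have hinf' : ∀ u, α' u = u → u ∈ W0 → u = 1 := by
    intro u h1 h2
    have h3 : u ∈ fixSub α' ⊓ W0 := Subgroup.mem_inf.mpr ⟨(mem_fixSub α' u).mpr h1, h2⟩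
    rw [hinf] at h3
    exact Subgroup.mem_bot.mp h3
  -- `W0` is nontrivial
  have hW0 : ∃ w ∈ W0, w ≠ 1 := by
    by_contra hcon
    have hcon' : ∀ w ∈ W0, w = 1 := fun w hw => by_contra fun hw1 => hcon ⟨w, hw, hw1⟩
    have hbot : W0 = ⊥ := (Subgroup.eq_bot_iff_forall _).mpr hcon'
    rw [hbot, sup_bot_eq] at hsup
    obtain ⟨b, hb⟩ := hne
    apply hb
    have h1 : b ∈ fixSub α' := by
      rw [hsup]
      exact Subgroup.mem_top b
    exact h1
  -- uniqueness for `j w = w * α' w` on `W0`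
  have huniq : ∀ w1 ∈ W0, ∀ w2 ∈ W0, w1 * α' w1 = w2 * α' w2 → w1 = w2 := by
    intro w1 h1 w2 h2 h12
    have hu : α' (w1 * w2) = w1 * w2 := by
      have e1 : α' w1 = w1 * (w2 * α' w2) := by
        rw [← h12]
        exact hαw w1
      rw [map_mul, e1, mul_assoc w1, mul_assoc w2, hmm, mul_one]
    have h3 := hinf' _ hu (W0.mul_mem h1 h2)
    have h4 : w1 = w2⁻¹ := eq_inv_of_mul_eq_one_left h3
    rw [h4, hinv]
  -- surjectivity of `j` from `W0` onto `range ι'`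
  have hstep : ∀ (k : ℕ) (x : F), (∃ w ∈ W0, w * α' w = ι' x) →
      ∃ w ∈ W0, w * α' w = ι' ((mu ^ 2) ^ k * x) := by
    intro k
    induction k with
    | zero =>
      intro x hx
      simpa using hx
    | succ k ih =>
      intro x hx
      obtain ⟨w, hw, hj⟩ := ih x hx
      refine ⟨ρ' w, hWρ w hw, ?_⟩
      rw [h'.comm w, ← map_mul ρ' w (α' w), hj, h'.iota_rho]
      congr 1
      ring
  have hsurj : ∀ x : F, ∃ w ∈ W0, w * α' w = ι' x := by
    obtain ⟨w0, hw0, hw01⟩ := hW0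
    obtain ⟨x0, hx0⟩ := (h'.iota_fix _).mp (hJ w0)
    have hx0ne : x0 ≠ 0 := by
      rintro rfl
      rw [hι0] at hx0
      apply hw01
      apply hinf' w0 _ hw0
      have h1 : α' w0 = w0⁻¹ := eq_inv_of_mul_eq_one_right hx0.symm
      rw [h1, hinv]
    intro x
    by_cases hx : x = 0
    · subst hx
      exact ⟨1, W0.one_mem, by rw [map_one, mul_one, hι0]⟩
    · have hq : x / x0 ≠ 0 := div_ne_zero hx hx0ne
      obtain ⟨k, hk⟩ := gen_sq hmu _ hq
      have h1 := hstep k x0 ⟨w0, hw0, hx0.symm⟩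
      rw [← hk, div_mul_cancel₀ x hx0ne] at h1
      exact h1
  choose wt hwtW hwtj using hsurj
  have hwt_inj : ∀ x y, wt x = wt y → x = y := by
    intro x y hxy
    apply h'.iota_inj
    rw [← hwtj x, ← hwtj y, hxy]
  have hwt_add : ∀ x y, wt (x + y) = wt x * wt y := by
    intro x y
    apply huniq _ (hwtW _) _ (W0.mul_mem (hwtW x) (hwtW y))
    rw [hwtj, hjmul, hwtj, hwtj, h'.iota_add]
  have hwt0 : wt 0 = 1 := by
    apply huniq _ (hwtW 0) 1 W0.one_mem
    rw [hwtj, map_one, mul_one, hι0]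
  have hwt_rho : ∀ x, ρ' (wt x) = wt (mu ^ 2 * x) := by
    intro x
    apply huniq _ (hWρ _ (hwtW x)) _ (hwtW _)
    rw [hwtj, h'.comm, ← map_mul ρ', hwtj, h'.iota_rho]
  have hwt_alpha : ∀ y, α' (wt y) = ι' y * wt y := by
    intro y
    rw [hαw (wt y), hwtj]
    exact hcomm _ _
  -- the coordinate `W`
  obtain ⟨Wf, hWf⟩ : ∃ Wf : B → F, ∀ b, ι' (Wf b) = b * α' b := by
    have h1 : ∀ b, ∃ a, ι' a = b * α' b := fun b => (h'.iota_fix _).mp (hJ b)
    choose Wf hWf using h1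
    exact ⟨Wf, hWf⟩
  have hFX : ∀ b, α' (b * wt (Wf b)) = b * wt (Wf b) := by
    intro b
    have e1 : α' b = b * ι' (Wf b) := by
      rw [hWf]
      exact hαw b
    rw [map_mul α', hwt_alpha, e1, mul_assoc b, ← mul_assoc (ι' (Wf b)), hmm, one_mul]
  -- the coordinate `X`
  obtain ⟨X, hX⟩ : ∃ X : B → F, ∀ b, ι' (X b) = b * wt (Wf b) := by
    have h1 : ∀ b, ∃ a, ι' a = b * wt (Wf b) := fun b => (h'.iota_fix _).mp (hFX b)
    choose X hX using h1
    exact ⟨X, hX⟩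
  have hdec : ∀ b, b = ι' (X b) * wt (Wf b) := by
    intro b
    rw [hX, mul_assoc, hmm, mul_one]
  have huni : ∀ (a1 a2 : F) (w1 w2 : B), w1 ∈ W0 → w2 ∈ W0 → ι' a1 * w1 = ι' a2 * w2 →
      a1 = a2 ∧ w1 = w2 := by
    intro a1 a2 w1 w2 h1 h2 he
    have e : w2 * w1 = ι' (a2 + a1) := by
      rw [h'.iota_add]
      have h3 : ι' a2 * (ι' a1 * w1) * w1 = ι' a2 * (ι' a2 * w2) * w1 := by rw [he]
      rw [mul_assoc (ι' a2) (ι' a1 * w1) w1, mul_assoc (ι' a1) w1 w1, hmm w1, mul_one,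
        ← mul_assoc (ι' a2) (ι' a2) w2, hmm (ι' a2), one_mul] at h3
      exact h3.symm
    have hfix : α' (w2 * w1) = w2 * w1 := by
      rw [e]
      exact hfixι _
    have h21 := hinf' _ hfix (W0.mul_mem h2 h1)
    constructor
    · have h5 : ι' (a2 + a1) = ι' 0 := by rw [← e, h21, hι0]
      have h6 := h'.iota_inj h5
      have h7 : a2 = -a1 := eq_neg_of_add_eq_zero_left h6
      rw [h7, CharTwo.neg_eq]
    · have h7 : w2 = w1⁻¹ := eq_inv_of_mul_eq_one_left h21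
      rw [h7, hinv]
  have hch : ∀ (b : B) (a w : F), b = ι' a * wt w → X b = a ∧ Wf b = w := by
    intro b a w hb
    have h1 := huni (X b) a (wt (Wf b)) (wt w) (hwtW _) (hwtW _) ((hdec b).symm.trans hb)
    exact ⟨h1.1, hwt_inj _ _ h1.2⟩
  have hmul : ∀ b c, b * c = ι' (X b + X c) * wt (Wf b + Wf c) := by
    intro b c
    rw [h'.iota_add, hwt_add, ← h4 (ι' (X b)) (wt (Wf b)) (ι' (X c)) (wt (Wf c)),
      ← hdec b, ← hdec c]
  have hrho : ∀ b, ρ' b = ι' (mu ^ 2 * X b) * wt (mu ^ 2 * Wf b) := by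
    intro b
    rw [← h'.iota_rho, ← hwt_rho, ← map_mul ρ', ← hdec b]
  have halpha : ∀ b, α' b = ι' (X b + Wf b) * wt (Wf b) := by
    intro b
    have h1 : α' b = α' (ι' (X b) * wt (Wf b)) := by rw [← hdec b]
    rw [h1, map_mul α', hfixι, hwt_alpha, h'.iota_add, mul_assoc]
  refine ⟨X, Wf, ?_⟩
  exact
    { X_mul := fun b c => (hch (b * c) _ _ (hmul b c)).1
      W_mul := fun b c => (hch (b * c) _ _ (hmul b c)).2
      surj := fun x w => ⟨ι' x * wt w, (hch _ x w rfl).1, (hch _ x w rfl).2⟩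
      inj := fun b hx hw => by
        calc b = ι' (X b) * wt (Wf b) := hdec b
          _ = 1 := by rw [hx, hw, hι0, hwt0, mul_one]
      X_iota := fun x => (hch (ι' x) x 0 (by rw [hwt0, mul_one])).1
      W_iota := fun x => (hch (ι' x) x 0 (by rw [hwt0, mul_one])).2
      X_rho := fun b => (hch (ρ' b) _ _ (hrho b)).1
      W_rho := fun b => (hch (ρ' b) _ _ (hrho b)).2
      X_alpha := fun b => (hch (α' b) _ _ (halpha b)).1
      W_alpha := fun b => (hch (α' b) _ _ (halpha b)).2 }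

end Cfsg.Agent.Lib.Helper4.TGSU6a2
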