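import Mathlib
import Cfsg.Prelude.Def_SporCoxeter

/-!
A presentation of the alternating group of degree 12 (Carmichael, Coxeter–Moser): generators `a` of order 3
and involutions `b`, …, `j` forming a Coxeter path `b – c – … – j` (labels 3), with `(a b)^3 = 1` and
`(a x)^2 = 1` for `x = c, …, j`.  It is realised by `a = (1 2 3)`, `b = (1 2)(3 4)`, `c = (1 2)(4 5)`, …,
`j = (1 2)(11 12)`.
-/

namespace Cfsg.Agent.Lib.Helper4

namespace A12p

/-- the ten generators -/
inductive Gen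
  | a
  | b
  | c
  | d
  | e
  | f
  | g
  | h
  | i
  | j
  deriving DecidableEq

abbrev a : FreeGroup Gen := FreeGroup.of Gen.a
abbrev b : FreeGroup Gen := FreeGroup.of Gen.b
abbrev c : FreeGroup Gen := FreeGroup.of Gen.c
abbrev d : FreeGroup Gen := FreeGroup.of Gen.d
abbrev e : FreeGroup Gen := FreeGroup.of Gen.e
abbrev f : FreeGroup Gen := FreeGroup.of Gen.f
abbrev g : FreeGroup Gen := FreeGroup.of Gen.g
abbrev h : FreeGroup Gen := FreeGroup.of Gen.h
abbrev i : FreeGroup Gen := FreeGroup.of Gen.i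
abbrev j : FreeGroup Gen := FreeGroup.of Gen.j

/-- the Coxeter graph on the involutions -/
def edges : List (Gen × ℕ × Gen) :=
  [(.b, 3, .c), (.c, 3, .d), (.d, 3, .e), (.e, 3, .f), (.f, 3, .g), (.g, 3, .h), (.h, 3, .i), (.i, 3, .j)]

/-- the relators involving `a` -/
def extra : List (FreeGroup Gen) := [
  a ^ 3,
  (a * b) ^ 3,
  (a * c) ^ 2,
  (a * d) ^ 2,
  (a * e) ^ 2,
  (a * f) ^ 2,
  (a * g) ^ 2,
  (a * h) ^ 2,
  (a * i) ^ 2,
  (a * j) ^ 2 ]

end A12p

end Cfsg.Agent.Lib.Helper4
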