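import Cfsg.Agent.Lib.Helper4.TCD_A12pL_C0
import Cfsg.Agent.Lib.Helper4.TC13

namespace Cfsg.Agent.Lib.Helper4.TCD.A12pL

open Cfsg.Agent.Lib.Helper4.TC Cfsg.Agent.Lib.Helper4.TCD.A12pR

theorem h_p11 : ∀ p, 0 ≤ p → p < 12 → chk11 p = true :=
  (range_of_allRange c_p11_0)
theorem h_p12 : ∀ p, 0 ≤ p → p < 12 → chk12 p = true :=
  (range_of_allRange c_p12_0)
theorem h_p13 : ∀ p, 0 ≤ p → p < 12 → chk13 p = true :=
  (range_of_allRange c_p13_0)
theorem h_p14 : ∀ p, 0 ≤ p → p < 12 → chk14 p = true :=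
  (range_of_allRange c_p14_0)
theorem h_p15 : ∀ p, 0 ≤ p → p < 12 → chk15 p = true :=
  (range_of_allRange c_p15_0)
theorem h_p16 : ∀ p, 0 ≤ p → p < 12 → chk16 p = true :=
  (range_of_allRange c_p16_0)
theorem h_p17 : ∀ p, 0 ≤ p → p < 12 → chk17 p = true :=
  (range_of_allRange c_p17_0)
theorem h_p18 : ∀ p, 0 ≤ p → p < 12 → chk18 p = true :=
  (range_of_allRange c_p18_0)
theorem h_p19 : ∀ p, 0 ≤ p → p < 12 → chk19 p = true :=
  (range_of_allRange c_p19_0)
theorem h_p20 : ∀ p, 0 ≤ p → p < 12 → chk20 p = true :=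
  (range_of_allRange c_p20_0)
theorem h_p21 : ∀ p, 0 ≤ p → p < 12 → chk21 p = true :=
  (range_of_allRange c_p21_0)
theorem h_p22 : ∀ p, 0 ≤ p → p < 12 → chk22 p = true :=
  (range_of_allRange c_p22_0)
theorem h_p23 : ∀ p, 0 ≤ p → p < 12 → chk23 p = true :=
  (range_of_allRange c_p23_0)
theorem h_p24 : ∀ p, 0 ≤ p → p < 12 → chk24 p = true :=
  (range_of_allRange c_p24_0)
theorem h_p25 : ∀ p, 0 ≤ p → p < 12 → chk25 p = true :=
  (range_of_allRange c_p25_0)
theorem h_p26 : ∀ p, 0 ≤ p → p < 12 → chk26 p = true :=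
  (range_of_allRange c_p26_0)
theorem h_p27 : ∀ p, 0 ≤ p → p < 12 → chk27 p = true :=
  (range_of_allRange c_p27_0)
theorem h_p28 : ∀ p, 0 ≤ p → p < 12 → chk28 p = true :=
  (range_of_allRange c_p28_0)
theorem h_p29 : ∀ p, 0 ≤ p → p < 12 → chk29 p = true :=
  (range_of_allRange c_p29_0)
theorem h_p30 : ∀ p, 0 ≤ p → p < 12 → chk30 p = true :=
  (range_of_allRange c_p30_0)
theorem h_p31 : ∀ p, 0 ≤ p → p < 12 → chk31 p = true :=
  (range_of_allRange c_p31_0)
theorem h_p32 : ∀ p, 0 ≤ p → p < 12 → chk32 p = true :=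
  (range_of_allRange c_p32_0)
theorem h_nd0 : ∀ idx, 0 ≤ idx → idx < 12 → S.nodeOK 0 idx = true :=
  (range_of_allRange c_nd0_0)
theorem h_nd1 : ∀ idx, 0 ≤ idx → idx < 11 → S.nodeOK 1 idx = true :=
  (range_of_allRange c_nd1_0)
theorem h_nd2 : ∀ idx, 0 ≤ idx → idx < 10 → S.nodeOK 2 idx = true :=
  (range_of_allRange c_nd2_0)
theorem h_nd3 : ∀ idx, 0 ≤ idx → idx < 9 → S.nodeOK 3 idx = true :=
  (range_of_allRange c_nd3_0)
theorem h_nd4 : ∀ idx, 0 ≤ idx → idx < 8 → S.nodeOK 4 idx = true :=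
  (range_of_allRange c_nd4_0)
theorem h_nd5 : ∀ idx, 0 ≤ idx → idx < 7 → S.nodeOK 5 idx = true :=
  (range_of_allRange c_nd5_0)
theorem h_nd6 : ∀ idx, 0 ≤ idx → idx < 6 → S.nodeOK 6 idx = true :=
  (range_of_allRange c_nd6_0)
theorem h_nd7 : ∀ idx, 0 ≤ idx → idx < 5 → S.nodeOK 7 idx = true :=
  (range_of_allRange c_nd7_0)
theorem h_nd8 : ∀ idx, 0 ≤ idx → idx < 4 → S.nodeOK 8 idx = true :=
  (range_of_allRange c_nd8_0)
theorem h_nd9 : ∀ idx, 0 ≤ idx → idx < 3 → S.nodeOK 9 idx = true :=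
  (range_of_allRange c_nd9_0)

theorem ok : S.OK where
  hkm := by decide
  hperm := by
    intro i p h1 h2 hp
    have h1 : 11 ≤ i := h1
    have h2 : i < 33 := h2
    have hp : p < 12 := hp
    interval_cases i
    · rw [← chk11_eq]; exact h_p11 p (Nat.zero_le _) hp
    · rw [← chk12_eq]; exact h_p12 p (Nat.zero_le _) hp
    · rw [← chk13_eq]; exact h_p13 p (Nat.zero_le _) hp
    · rw [← chk14_eq]; exact h_p14 p (Nat.zero_le _) hp
    · rw [← chk15_eq]; exact h_p15 p (Nat.zero_le _) hp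
    · rw [← chk16_eq]; exact h_p16 p (Nat.zero_le _) hp
    · rw [← chk17_eq]; exact h_p17 p (Nat.zero_le _) hp
    · rw [← chk18_eq]; exact h_p18 p (Nat.zero_le _) hp
    · rw [← chk19_eq]; exact h_p19 p (Nat.zero_le _) hp
    · rw [← chk20_eq]; exact h_p20 p (Nat.zero_le _) hp
    · rw [← chk21_eq]; exact h_p21 p (Nat.zero_le _) hp
    · rw [← chk22_eq]; exact h_p22 p (Nat.zero_le _) hp
    · rw [← chk23_eq]; exact h_p23 p (Nat.zero_le _) hp
    · rw [← chk24_eq]; exact h_p24 p (Nat.zero_le _) hp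
    · rw [← chk25_eq]; exact h_p25 p (Nat.zero_le _) hp
    · rw [← chk26_eq]; exact h_p26 p (Nat.zero_le _) hp
    · rw [← chk27_eq]; exact h_p27 p (Nat.zero_le _) hp
    · rw [← chk28_eq]; exact h_p28 p (Nat.zero_le _) hp
    · rw [← chk29_eq]; exact h_p29 p (Nat.zero_le _) hp
    · rw [← chk30_eq]; exact h_p30 p (Nat.zero_le _) hp
    · rw [← chk31_eq]; exact h_p31 p (Nat.zero_le _) hp
    · rw [← chk32_eq]; exact h_p32 p (Nat.zero_le _) hp
  hwords := fun i h1 h2 => range_of_allRange c_words i h1 h2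
  hfix := fun i t hi ht => range_of_allGrid c_fix i (Nat.zero_le _) (by have h : i < 33 := hi; omega) t ht
  hroot := fun j hj => ble_succ (allBelow_eq_true.1 c_root j hj)
  hnode := by
    intro j idx hj hidx
    have hj : j < 10 := hj
    interval_cases j
    · rw [c_n0] at hidx; exact h_nd0 idx (Nat.zero_le _) hidx
    · rw [c_n1] at hidx; exact h_nd1 idx (Nat.zero_le _) hidx
    · rw [c_n2] at hidx; exact h_nd2 idx (Nat.zero_le _) hidx
    · rw [c_n3] at hidx; exact h_nd3 idx (Nat.zero_le _) hidx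
    · rw [c_n4] at hidx; exact h_nd4 idx (Nat.zero_le _) hidx
    · rw [c_n5] at hidx; exact h_nd5 idx (Nat.zero_le _) hidx
    · rw [c_n6] at hidx; exact h_nd6 idx (Nat.zero_le _) hidx
    · rw [c_n7] at hidx; exact h_nd7 idx (Nat.zero_le _) hidx
    · rw [c_n8] at hidx; exact h_nd8 idx (Nat.zero_le _) hidx
    · rw [c_n9] at hidx; exact h_nd9 idx (Nat.zero_le _) hidx

theorem htab0 : ∀ i, i < S.k → ∀ p, p < S.N → S.tab i p = T.tbl p (D.inv i) := by
  intro i hi p _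
  have hi : i < 11 := hi
  interval_cases i <;> rfl

theorem prod_eq : S.prodFrom S.r 0 = 239500800 := by decide +kernel

end Cfsg.Agent.Lib.Helper4.TCD.A12pL
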