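import Cfsg.Agent.Lib.Helper4.TCD_A12pU9_C0

namespace Cfsg.Agent.Lib.Helper4.TCD.A12pU9

open Cfsg.Agent.Lib.Helper4.TC

theorem h_rel : ∀ t, 27 ≤ t → t < 100 → D.relOK t = true :=
  (range_of_allRange c_rel_0)
theorem h_names : ∀ t, 1 ≤ t → t < 11 → D.nameOK t = true :=
  (range_of_allRange c_names_0)
theorem h_cls : ∀ t, 1 ≤ t → t < 11 → T.clsOK D t = true :=
  (range_of_allRange c_cls_0)
theorem h_rep : ∀ t, 0 ≤ t → t < 11 → T.repOK D t = true :=
  (range_of_allRange c_rep_0)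
theorem h_fin : ∀ i, 0 ≤ i → i < 11 → ∀ x, x < 10 → T.finOK D i x = true :=
  (range_of_allGrid c_fin_0)
theorem h_perm : ∀ i, 0 ≤ i → i < 11 → ∀ x, x < 10 → T.permOK1 D i x = true :=
  (range_of_allGrid c_perm_0)

theorem checked : T.Checked D where
  hz := c_zero
  hn := fun d h0 hd => h_names d h0 hd
  hb := fun j hj => allBelow_eq_true.1 c_base j hj
  hr := fun t h1 h2 => h_rel t h1 h2
  hfin := fun i x hi hx => h_fin i (Nat.zero_le _) hi x hx
  hperm := fun i x hi hx => h_perm i (Nat.zero_le _) hi x hx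
  hlet := fun x hx => allBelow_eq_true.1 c_let x hx
  hcls := fun d h0 hd => h_cls d h0 hd
  hrep := fun i hi => h_rep i (Nat.zero_le _) hi
  hcls0 := c_cls0
  hname0 := c_name0
  hN := by decide
  hM := by decide

theorem sinst : SubInst PA12p.P emb T D subs realLoc invLoc where
  hP := PA12p.valid
  hk := rfl
  hinv := rfl
  hemb := by decide
  hinvLoc := by decide
  hreal := by decide +kernel
  hsubs := by
    intro u hu x hx
    have h1 := List.all_eq_true.1 c_subs u hu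
    exact ble_succ (List.all_eq_true.1 h1 x hx)
  htab := c_tab
  hC := checked

theorem card_le (hfin : Finite (letG PA12p.P [0, 2, 3, 4, 5, 6, 7, 8])) :
    Finite (letG PA12p.P [0, 1, 2, 3, 4, 5, 6, 7, 8, 9]) ∧ Nat.card (letG PA12p.P [0, 1, 2, 3, 4, 5, 6, 7, 8, 9]) ≤ 11 * Nat.card (letG PA12p.P [0, 2, 3, 4, 5, 6, 7, 8]) := by
  have h1 : SubInst.subH PA12p.P emb subs = letG PA12p.P [0, 2, 3, 4, 5, 6, 7, 8] := sinst.subH_eq_letG _ (by decide)
  have h2 := sinst.card_le (by rw [h1]; exact hfin)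
  rw [h1] at h2
  exact h2

end Cfsg.Agent.Lib.Helper4.TCD.A12pU9
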