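import Mathlib
import Cfsg.Agent.Lib.Helper4.TCD_A12pU1_Fin
import Cfsg.Agent.Lib.Helper4.TCD_A12pU2_Fin
import Cfsg.Agent.Lib.Helper4.TCD_A12pU3_Fin
import Cfsg.Agent.Lib.Helper4.TCD_A12pU4_Fin
import Cfsg.Agent.Lib.Helper4.TCD_A12pU5_Fin
import Cfsg.Agent.Lib.Helper4.TCD_A12pU6_Fin
import Cfsg.Agent.Lib.Helper4.TCD_A12pU7_Fin
import Cfsg.Agent.Lib.Helper4.TCD_A12pU8_Fin
import Cfsg.Agent.Lib.Helper4.TCD_A12pU9_Fin
import Cfsg.Agent.Lib.Helper4.TCD_A12pU10_Fin
import Cfsg.Agent.Lib.Helper4.TCD_A12pR_Fin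
import Cfsg.Agent.Lib.Helper4.TCD_A12pL_Fin
import Cfsg.Agent.Lib.Helper4.TC19

/-! The presented group `A12p` is isomorphic to the alternating group of degree 12 (generated). -/

namespace Cfsg.Agent.Lib.Helper4.A12pMain

open Cfsg.Agent.Lib.Helper4.TC Cfsg.Agent.Lib.Helper4.TCD Cfsg.Agent.Lib.Helper4.TC.Log

theorem g1 : PA12p.P.gR 1 = (PA12p.P.gR 0)⁻¹ := (PA12p.valid.invR_sound 0 (by decide)).2

theorem letG_fix (L : List ℕ) : letG PA12p.P (0 :: L) = letG PA12p.P (0 :: 1 :: L) := by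
  rw [← letG_cons_inv PA12p.P (0 :: L) 0 1 List.mem_cons_self g1]
  apply letG_congr
  intro x
  simp only [List.mem_cons]
  tauto

/-- the order and the faithful permutation representation on 12 points -/
theorem order_aux : Finite PA12p.P.Grp ∧ Function.Injective A12pR.prep.phi ∧ Nat.card PA12p.P.Grp = 239500800 := by
  have e0 : letG PA12p.P [] = ⊥ := letG_nil _
  have f0 : Finite (letG PA12p.P []) := by rw [e0]; infer_instance
  have c0 : Nat.card (letG PA12p.P []) = 1 := by rw [e0]; exact Subgroup.card_bot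
  obtain ⟨f1, c1⟩ := A12pU1.card_le f0
  rw [← letG_fix] at f1 c1
  obtain ⟨f2, c2⟩ := A12pU2.card_le f1
  rw [← letG_fix] at f2 c2
  obtain ⟨f3, c3⟩ := A12pU3.card_le f2
  rw [← letG_fix] at f3 c3
  obtain ⟨f4, c4⟩ := A12pU4.card_le f3
  rw [← letG_fix] at f4 c4
  obtain ⟨f5, c5⟩ := A12pU5.card_le f4
  rw [← letG_fix] at f5 c5
  obtain ⟨f6, c6⟩ := A12pU6.card_le f5
  rw [← letG_fix] at f6 c6
  obtain ⟨f7, c7⟩ := A12pU7.card_le f6
  rw [← letG_fix] at f7 c7
  obtain ⟨f8, c8⟩ := A12pU8.card_le f7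
  rw [← letG_fix] at f8 c8
  obtain ⟨f9, c9⟩ := A12pU9.card_le f8
  rw [← letG_fix] at f9 c9
  obtain ⟨f10, c10⟩ := A12pU10.card_le f9
  have htop : letG PA12p.P [0, 1, 2, 3, 4, 5, 6, 7, 8, 9, 10] = ⊤ := letG_all PA12p.P PA12p.valid
  have fG : Finite PA12p.P.Grp := by
    have h := f10
    rw [htop] at h
    exact Finite.of_equiv _ (Subgroup.topEquiv (G := PA12p.P.Grp)).toEquiv
  have hub : Nat.card PA12p.P.Grp ≤ 239500800 := by
    rw [← Subgroup.card_top (G := PA12p.P.Grp), ← htop]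
    omega
  obtain ⟨hinj, hcard⟩ := A12pR.prep.card_eq A12pL.S rfl rfl A12pL.htab0 A12pL.ok 239500800 (by decide)
    A12pL.prod_eq fG hub
  exact ⟨fG, hinj, hcard⟩

/-- the permutation representation on 12 points -/
noncomputable def phi12 : PA12p.P.Grp →* Equiv.Perm (Fin 12) := A12pR.prep.phi

theorem phi12_inj : Function.Injective phi12 := order_aux.2.1

/-- the permutations of the generators -/
def q : ℕ → Equiv.Perm (Fin 12)
  | 0 => Equiv.swap 0 1 * Equiv.swap 0 2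
  | 1 => Equiv.swap 0 2 * Equiv.swap 0 1
  | 2 => Equiv.swap 0 1 * Equiv.swap 2 3
  | 3 => Equiv.swap 0 1 * Equiv.swap 3 4
  | 4 => Equiv.swap 0 1 * Equiv.swap 4 5
  | 5 => Equiv.swap 0 1 * Equiv.swap 5 6
  | 6 => Equiv.swap 0 1 * Equiv.swap 6 7
  | 7 => Equiv.swap 0 1 * Equiv.swap 7 8
  | 8 => Equiv.swap 0 1 * Equiv.swap 8 9
  | 9 => Equiv.swap 0 1 * Equiv.swap 9 10
  | 10 => Equiv.swap 0 1 * Equiv.swap 10 11
  | _ => 1

theorem q_mem (x : ℕ) : q x ∈ alternatingGroup (Fin 12) := by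
  rw [Equiv.Perm.mem_alternatingGroup]
  unfold q
  split <;> simp [Equiv.Perm.sign_mul, Equiv.Perm.sign_swap]

theorem q_tab : ∀ x : Fin 11, ∀ i : Fin 12, ((q x.1 i).1 : ℕ) = A12pR.T.tbl i.1 (A12pR.D.inv x.1) := by
  decide +kernel

theorem phi_eq_q (x : ℕ) (hx : x < 11) : phi12 (PA12p.P.gR x) = q x := by
  ext i
  have h := A12pR.prep.phi_gR x hx i
  exact h.trans (q_tab ⟨x, hx⟩ i).symm

theorem range_le : phi12.range ≤ alternatingGroup (Fin 12) := by
  rw [MonoidHom.range_eq_map, ← PA12p.valid.gen_top, MonoidHom.map_closure, Subgroup.closure_le]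
  rintro _ ⟨_, ⟨x, hx, rfl⟩, rfl⟩
  have hx : x < 11 := hx
  rw [phi_eq_q x hx]
  exact q_mem x

theorem card_alt : Nat.card (alternatingGroup (Fin 12)) = 239500800 := by
  have h := two_mul_card_alternatingGroup (α := Fin 12)
  rw [Nat.card_eq_fintype_card]
  have h2 : Fintype.card (Equiv.Perm (Fin 12)) = 479001600 := by
    rw [Fintype.card_perm, Fintype.card_fin]
    rfl
  omega

theorem range_eq : phi12.range = alternatingGroup (Fin 12) := by
  obtain ⟨fG, _, hcard⟩ := order_aux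
  apply Subgroup.eq_of_le_of_card_ge range_le
  rw [card_alt, ← hcard]
  exact le_of_eq (Nat.card_congr (MonoidHom.ofInjective phi12_inj).toEquiv)

/-- the presented group is the alternating group -/
noncomputable def equivAlt : PA12p.P.Grp ≃* alternatingGroup (Fin 12) :=
  (MonoidHom.ofInjective phi12_inj).trans (MulEquiv.subgroupCongr range_eq)

theorem simple : IsSimpleGroup PA12p.P.Grp := by
  have h : IsSimpleGroup (alternatingGroup (Fin 12)) := alternatingGroup.isSimpleGroup (by simp)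
  exact RepLib.simple_of_equiv equivAlt.symm h

end Cfsg.Agent.Lib.Helper4.A12pMain
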