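import Mathlib
import Cfsg.Agent.Lib.Helper4.TC18

/-!
Presented groups given relative to a subgroup: general lemmas.  A homomorphism to a permutation group for which
the orbit of a point fixed by the subgroup of an instance is as large as the index is injective (when the coset
action is faithful); nontrivial homomorphisms from simple groups are injective; simple nonabelian groups are
perfect; a generator normalised nontrivially by some element lies in the commutator subgroup.
-/

set_option autoImplicit false

namespace Cfsg.Agent.Lib.Helper4.TC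

open Log
open scoped commutatorElement

theorem injective_of_simple {G H : Type*} [Group G] [Group H] (hs : IsSimpleGroup G) (f : G →* H) (x : G)
    (hx : f x ≠ 1) : Function.Injective f := by
  rw [← MonoidHom.ker_eq_bot_iff]
  rcases hs.eq_bot_or_eq_top_of_normal f.ker inferInstance with h | h
  · exact h
  · exfalso
    apply hx
    have : x ∈ f.ker := by rw [h]; trivial
    exact MonoidHom.mem_ker.1 this

theorem commutator_eq_top_of_simple {G : Type*} [Group G] (hs : IsSimpleGroup G) (a b : G)
    (hab : a * b ≠ b * a) : commutator G = ⊤ := by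
  rcases hs.eq_bot_or_eq_top_of_normal (commutator G) inferInstance with h | h
  · exfalso
    apply hab
    have h1 : ⁅a, b⁆ ∈ commutator G := by
      rw [commutator_def]
      exact Subgroup.commutator_mem_commutator (Subgroup.mem_top a) (Subgroup.mem_top b)
    rw [h, Subgroup.mem_bot, commutatorElement_def] at h1
    calc a * b = (a * b * a⁻¹ * b⁻¹) * (b * a) := by group
      _ = b * a := by rw [h1, one_mul]
  · exact h

theorem mem_commutator_of_normalizer {G : Type*} [Group G] (g y : G) (k n m : ℕ)
    (h1 : y⁻¹ * g * y = g ^ k) (h2 : g ^ n = 1) (hm : (k * m) % n = (m + 1) % n) :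
    g ∈ commutator G := by
  have hc : g ^ k * g⁻¹ ∈ commutator G := by
    have : g ^ k * g⁻¹ = ⁅y⁻¹, g⁆ := by
      rw [commutatorElement_def, inv_inv, h1]
    rw [this, commutator_def]
    exact Subgroup.commutator_mem_commutator (Subgroup.mem_top _) (Subgroup.mem_top _)
  have hcm : (g ^ k * g⁻¹) ^ m = g := by
    have hcomm : Commute (g ^ k) g⁻¹ := ((Commute.refl g).pow_left k).inv_right
    rw [hcomm.mul_pow, ← pow_mul, pow_eq_pow_mod (k * m) h2, hm, ← pow_eq_pow_mod (m + 1) h2, inv_pow, pow_succ]
    group
  rw [← hcm]
  exact Subgroup.pow_mem _ hc m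

variable {α : Type} [DecidableEq α]

/-- a presented group all of whose letters are products of commutators is perfect -/
theorem commutator_eq_top_of_letters (P : CoxEnc α) (hP : P.Valid)
    (h : ∀ l, l < P.k → P.gR l ∈ commutator P.Grp) : commutator P.Grp = ⊤ := by
  rw [eq_top_iff, ← hP.gen_top, Subgroup.closure_le]
  rintro _ ⟨l, hl, rfl⟩
  exact h l hl

/-- the image of a perfect group lies in the commutator subgroup -/
theorem map_mem_commutator {K G : Type*} [Group K] [Group G] (f : K →* G) (hK : commutator K = ⊤) (x : K) :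
    f x ∈ commutator G := by
  have h1 : f x ∈ (commutator K).map f := ⟨x, by rw [hK]; trivial, rfl⟩
  have h2 : (commutator K).map f ≤ commutator G := by
    rw [commutator_def, Subgroup.map_commutator, commutator_def]
    exact Subgroup.commutator_mono le_top le_top
  exact h2 h1

namespace Inst

variable {P : CoxEnc α} {T : Tab} {D : Log} {subs : List (List ℕ)}

/-- words act through the table -/
theorem phi_word' (I : Inst P T D subs) (u : List ℕ) (hu : ∀ x ∈ u, x < D.k) (p : Fin T.N) :
    (I.phi (wordP P.gR u) p).1 = Tab.act T D u p.1 := by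
  have hu' : ∀ x ∈ u, x < P.k := fun x hx => by rw [← I.hk]; exact hu x hx
  rw [← I.gE_word _ hu']
  exact I.hC.phi_word I.phi I.hphi u hu p

/-- a word that moves a row of the table is not trivial -/
theorem word_ne_one (I : Inst P T D subs) (u : List ℕ) (hu : ∀ x ∈ u, x < D.k) (i : ℕ) (hi : i < T.N)
    (h : Tab.act T D u i ≠ i) : wordP P.gR u ≠ 1 := by
  intro h1
  have h2 := I.phi_word' u hu ⟨i, hi⟩
  rw [h1, map_one] at h2
  exact h h2.symm

/-- two words that act differently on a row of the table are different -/
theorem word_ne_word (I : Inst P T D subs) (u v : List ℕ) (hu : ∀ x ∈ u, x < D.k) (hv : ∀ x ∈ v, x < D.k)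
    (i : ℕ) (hi : i < T.N) (h : Tab.act T D u i ≠ Tab.act T D v i) : wordP P.gR u ≠ wordP P.gR v := by
  intro h1
  have h2 := I.phi_word' u hu ⟨i, hi⟩
  have h3 := I.phi_word' v hv ⟨i, hi⟩
  rw [h1, h3] at h2
  exact h h2.symm

/-- two words that act in the same way on the table of a faithful representation are equal -/
theorem word_eq_word (I : Inst P T D subs) (hinj : Function.Injective I.phi) (u v : List ℕ)
    (hu : ∀ x ∈ u, x < D.k) (hv : ∀ x ∈ v, x < D.k)
    (h : ∀ i, i < T.N → Tab.act T D u i = Tab.act T D v i) : wordP P.gR u = wordP P.gR v := by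
  apply hinj
  ext i
  rw [I.phi_word' u hu i, I.phi_word' v hv i]
  exact h i.1 i.2

/-- a normal subgroup inside the subgroup of a faithful instance is trivial -/
theorem eq_bot_of_normal_le (I : Inst P T D subs) (hinj : Function.Injective I.phi) (N : Subgroup P.Grp)
    [N.Normal] (hN : N ≤ subG P subs) : N = ⊥ := by
  rw [eq_bot_iff]
  intro γ hγ
  rw [Subgroup.mem_bot]
  apply hinj
  rw [map_one]
  ext i
  have h1 : γ • I.equiv i = I.equiv i := by
    obtain ⟨c, hc⟩ := QuotientGroup.mk_surjective (I.equiv i)
    rw [← hc]
    show ((γ * c : P.Grp) : P.Grp ⧸ subG P subs) = (c : P.Grp ⧸ subG P subs)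
    rw [QuotientGroup.eq]
    have : (γ * c)⁻¹ * c = c⁻¹ * γ⁻¹ * c⁻¹⁻¹ := by group
    rw [this]
    exact hN (Subgroup.Normal.conj_mem inferInstance _ (N.inv_mem hγ) _)
  rw [I.smul_equiv] at h1
  have := I.equiv.injective h1
  rw [this]
  rfl

/-- a homomorphism to a permutation group is injective when the orbit of a point fixed by the subgroup is as
large as the index -/
theorem injective_of_orbit (I : Inst P T D subs) (hinj : Function.Injective I.phi) (hN0 : 0 < T.N)
    {X : Type*} (f : P.Grp →* Equiv.Perm X) (x0 : X)
    (hfix : ∀ h ∈ subG P subs, f h x0 = x0)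
    (pts : Fin T.N → P.Grp) (hpts : Function.Injective fun j => f (pts j) x0) : Function.Injective f := by
  let S : Subgroup P.Grp := (MulAction.stabilizer (Equiv.Perm X) x0).comap f
  have hmemS : ∀ γ, γ ∈ S ↔ f γ x0 = x0 := by
    intro γ
    show f γ ∈ MulAction.stabilizer (Equiv.Perm X) x0 ↔ _
    rw [MulAction.mem_stabilizer_iff]
    rfl
  have hHS : subG P subs ≤ S := fun h hh => (hmemS h).2 (hfix h hh)
  have hidx : (subG P subs).index = T.N := I.index_eq
  have hSdvd : S.index ∣ T.N := by
    rw [← hidx]
    exact Subgroup.index_dvd_of_le hHS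
  have hSle : S.index ≤ T.N := Nat.le_of_dvd hN0 hSdvd
  have hSne : S.index ≠ 0 := fun h0 => by
    rw [h0, Nat.zero_dvd] at hSdvd
    omega
  have hSge : T.N ≤ S.index := by
    have : S.FiniteIndex := ⟨hSne⟩
    have : Finite (P.Grp ⧸ S) := Subgroup.finite_quotient_of_finiteIndex
    have hq : Function.Injective fun j : Fin T.N => ((pts j : P.Grp) : P.Grp ⧸ S) := by
      intro i j hij
      apply hpts
      have h1 : (pts i)⁻¹ * pts j ∈ S := QuotientGroup.eq.1 hij
      rw [hmemS, map_mul, map_inv] at h1
      show f (pts i) x0 = f (pts j) x0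
      have h2 : (f (pts i))⁻¹ (f (pts j) x0) = x0 := h1
      rw [Equiv.Perm.inv_eq_iff_eq] at h2
      exact h2.symm
    have := Nat.card_le_card_of_injective _ hq
    rw [Nat.card_eq_fintype_card, Fintype.card_fin] at this
    exact this
  have hrel : (subG P subs).relIndex S = 1 := by
    have h1 := Subgroup.relIndex_mul_index hHS
    rw [hidx, le_antisymm hSle hSge] at h1
    have : (subG P subs).relIndex S * T.N = 1 * T.N := by rw [h1, one_mul]
    exact Nat.eq_of_mul_eq_mul_right hN0 this
  have hSH : S ≤ subG P subs := Subgroup.relIndex_eq_one.1 hrel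
  have hker : f.ker = ⊥ := by
    apply I.eq_bot_of_normal_le hinj
    intro γ hγ
    apply hSH
    rw [hmemS, MonoidHom.mem_ker.1 hγ]
    rfl
  exact (MonoidHom.ker_eq_bot_iff f).1 hker

end Inst

end Cfsg.Agent.Lib.Helper4.TC
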