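import Mathlib
import Cfsg.Agent.Lib.Helper4.A6pMain
import Cfsg.Agent.Lib.Helper4.RelLib
import Cfsg.Agent.Lib.Helper4.StemLib5

/-!
The presented group `A6p` is isomorphic to the alternating group of degree 6.
-/

set_option autoImplicit false

namespace Cfsg.Agent.Lib.Helper4.A6pIso

open Cfsg.Agent.Lib.Helper4.TC Cfsg.Agent.Lib.Helper4.TCD Cfsg.Agent.Lib.Helper4.TC.Log

/-- the image of `a` -/
def pa : Equiv.Perm (Fin 6) := ⟨![0, 4, 3, 2, 1, 5], ![0, 4, 3, 2, 1, 5], by decide, by decide⟩

/-- the image of `b` -/
def pb : Equiv.Perm (Fin 6) := ⟨![1, 2, 3, 0, 5, 4], ![3, 0, 1, 2, 5, 4], by decide, by decide⟩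

theorem pa_mem : pa ∈ alternatingGroup (Fin 6) := by
  rw [Equiv.Perm.mem_alternatingGroup]
  decide +kernel

theorem pb_mem : pb ∈ alternatingGroup (Fin 6) := by
  rw [Equiv.Perm.mem_alternatingGroup]
  decide +kernel

/-- the images of the letters -/
def gU (l : ℕ) : Equiv.Perm (Fin 6) := [pa, pa⁻¹, pb, pb⁻¹].getD l 1

theorem gU_mem (l : ℕ) : gU l ∈ alternatingGroup (Fin 6) := by
  by_cases hl : l < 4
  · interval_cases l
    · exact pa_mem
    · exact (alternatingGroup (Fin 6)).inv_mem pa_mem
    · exact pb_mem
    · exact (alternatingGroup (Fin 6)).inv_mem pb_mem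
  · have : gU l = 1 := by
      unfold gU
      rw [List.getD_eq_default]
      simp only [List.length_cons, List.length_nil]
      omega
    rw [this]
    exact (alternatingGroup (Fin 6)).one_mem

/-- the images of the letters in the alternating group -/
def gS (l : ℕ) : ↥(alternatingGroup (Fin 6)) := ⟨gU l, gU_mem l⟩

theorem coe_wordP (L : List ℕ) :
    ((wordP gS L : ↥(alternatingGroup (Fin 6))) : Equiv.Perm (Fin 6)) = wordP gU L := by
  have := wordP_hom (alternatingGroup (Fin 6)).subtype gS L
  exact this.symm

theorem rel_ok : ∀ L ∈ PA6p.P.real, wordP gU L = 1 := by decide +kernel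

theorem inv_ok : ∀ l, l < PA6p.P.k → gU l * gU (PA6p.P.invR l) = 1 := by
  intro l hl
  have hl : l < 4 := hl
  interval_cases l
  · exact mul_inv_cancel pa
  · exact inv_mul_cancel pa
  · exact mul_inv_cancel pb
  · exact inv_mul_cancel pb

theorem exists_hom : ∃ f : PA6p.P.Grp →* ↥(alternatingGroup (Fin 6)),
    ∀ l, l < PA6p.P.k → f (PA6p.P.gR l) = gS l := by
  apply exists_hom_of_letters PA6p.P PA6p.valid gS
  · intro l hl
    apply Subtype.ext
    exact inv_ok l hl
  · intro L hL
    apply Subtype.ext
    rw [coe_wordP]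
    exact rel_ok L hL

/-- the homomorphism to the alternating group -/
noncomputable def f : PA6p.P.Grp →* ↥(alternatingGroup (Fin 6)) := Classical.choose exists_hom

theorem f_gR (l : ℕ) (hl : l < 4) : f (PA6p.P.gR l) = gS l := Classical.choose_spec exists_hom l hl

theorem f_word (u : List ℕ) (hu : ∀ x ∈ u, x < 4) :
    ((f (wordP PA6p.P.gR u) : ↥(alternatingGroup (Fin 6))) : Equiv.Perm (Fin 6)) = wordP gU u := by
  rw [← wordP_hom, ← coe_wordP]
  congr 1
  apply Stem.wordP_congr
  intro l hl
  exact f_gR l (hu l hl)

/-- the representatives of the cosets of the point stabiliser -/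
def reps : List (List ℕ) :=
  [[3, 0, 2], [0, 2], [2, 0, 2], [0, 2, 0, 2], [2], []]

theorem reps_lt : ∀ u ∈ reps, ∀ x ∈ u, x < 4 := by decide

theorem reps_inj : Function.Injective fun j : Fin 6 => wordP gU (reps.getD j.1 []) 5 := by decide +kernel

theorem f_injective : Function.Injective f := by
  obtain ⟨fG, hinj, hcard⟩ := A6pMain.order_aux
  have hX : Function.Injective ((alternatingGroup (Fin 6)).subtype.comp f) := by
    apply A6pA.inst.injective_of_orbit hinj (by decide) ((alternatingGroup (Fin 6)).subtype.comp f) (5 : Fin 6)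
      _ (fun j => wordP PA6p.P.gR (reps.getD j.1 []))
    · intro i j hij
      apply reps_inj
      have hi : ∀ x ∈ reps.getD i.1 [], x < 4 := by
        apply reps_lt
        rw [List.getD_eq_getElem _ _ (show (i : ℕ) < reps.length from i.2)]
        exact List.getElem_mem _
      have hj : ∀ x ∈ reps.getD j.1 [], x < 4 := by
        apply reps_lt
        rw [List.getD_eq_getElem _ _ (show (j : ℕ) < reps.length from j.2)]
        exact List.getElem_mem _
      simp only [MonoidHom.comp_apply, Subgroup.subtype_apply] at hij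
      rw [f_word _ hi, f_word _ hj] at hij
      exact hij
    · intro h hh
      induction hh using Subgroup.closure_induction with
      | mem s hs =>
        obtain ⟨u, hu, rfl⟩ := hs
        have hu' : u = [0] ∨ u = [3, 1, 3, 1, 2, 2, 0, 2] := by
          simpa [A6pA.subs] using hu
        rcases hu' with rfl | rfl
        · simp only [MonoidHom.comp_apply, Subgroup.subtype_apply]
          rw [f_word _ (by decide)]
          decide +kernel
        · simp only [MonoidHom.comp_apply, Subgroup.subtype_apply]
          rw [f_word _ (by decide)]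
          decide +kernel
      | one => simp
      | mul a b _ _ iha ihb =>
        rw [map_mul, Equiv.Perm.mul_apply, ihb, iha]
      | inv a _ iha =>
        rw [map_inv, Equiv.Perm.inv_eq_iff_eq, iha]
  intro x y hxy
  apply hX
  simp only [MonoidHom.comp_apply, hxy]

theorem card_alt : Nat.card ↥(alternatingGroup (Fin 6)) = 360 := by
  rw [nat_card_alternatingGroup, Nat.card_eq_fintype_card, Fintype.card_fin]
  decide

/-- the presented group `A6p` is the alternating group of degree 6 -/
theorem iso : Nonempty (PA6p.P.Grp ≃* ↥(alternatingGroup (Fin 6))) := by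
  obtain ⟨fG, hinj, hcard⟩ := A6pMain.order_aux
  have := fG
  have hb : Function.Bijective f :=
    f_injective.bijective_of_nat_card_le (by rw [card_alt, hcard])
  exact ⟨MulEquiv.ofBijective f hb⟩

end Cfsg.Agent.Lib.Helper4.A6pIso
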