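import Mathlib
import Cfsg.Prelude.Def_SporCoxeter

/-! The alternating group A7 presented on `a` of order 3 and `b` of order 5 with `ab` of order 7 (generated). -/

namespace Cfsg.Agent.Lib.Helper4

namespace A7p

/-- the generators -/
inductive Gen
  | a
  | b
  deriving DecidableEq

abbrev a : FreeGroup Gen := FreeGroup.of Gen.a
abbrev b : FreeGroup Gen := FreeGroup.of Gen.b

/-- no Coxeter graph -/
def edges : List (Gen × ℕ × Gen) := []

/-- the relators -/
def extra : List (FreeGroup Gen) := [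
  a ^ 3,
  b ^ 5,
  (a * b) ^ 7,
  (a * b⁻¹ * a * b) ^ 2,
  (a * b⁻¹ * b⁻¹ * a * b * b) ^ 2 ]

end A7p

end Cfsg.Agent.Lib.Helper4
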