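import Mathlib
import Cfsg.Agent.Lib.Helper4.A6pIso
import Cfsg.Agent.Lib.Helper4.A7pIso

/-! The presented groups `A6p` and `A7p` are simple (Mathlib's simplicity of the alternating groups). -/

set_option autoImplicit false

namespace Cfsg.Agent.Lib.Helper4.A7pSimple

open Cfsg.Agent.Lib.Helper4.TC

theorem simple_aux : IsSimpleGroup PA7p.P.Grp := by
  obtain ⟨e⟩ := A7pIso.iso
  have h5 : 5 ≤ Nat.card (Fin 7) := by
    rw [Nat.card_eq_fintype_card, Fintype.card_fin]
    decide
  have : IsSimpleGroup ↥(alternatingGroup (Fin 7)) := alternatingGroup.isSimpleGroup h5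
  exact e.isSimpleGroup

theorem simple6 : IsSimpleGroup PA6p.P.Grp := by
  obtain ⟨e⟩ := A6pIso.iso
  have h5 : 5 ≤ Nat.card (Fin 6) := by
    rw [Nat.card_eq_fintype_card, Fintype.card_fin]
    decide
  have : IsSimpleGroup ↥(alternatingGroup (Fin 6)) := alternatingGroup.isSimpleGroup h5
  exact e.isSimpleGroup

end Cfsg.Agent.Lib.Helper4.A7pSimple
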