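import Mathlib
import Cfsg.Agent.Lib.Helper2.GH5U1
import Cfsg.Agent.Lib.Helper7.GH5CardV
import Cfsg.Agent.Lib.Helper7.A8P2Defs

set_option autoImplicit false
set_option linter.unusedVariables false
set_option linter.unusedSectionVars false
set_option linter.style.longLine false
set_option linter.unusedSimpArgs false
set_option linter.style.haveILetI false
set_option maxHeartbeats 1000000

/-! # S3104 part (2), unit P2-T: the extension `V → G → S` with `G = X / Φ`, `V = O₂(X) / Φ` -/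

namespace Cfsg.Agent.Lib.Helper4.A8P2T

open Cfsg.Agent.Lib.Helper3.A8Emb (sqSub sqSub_le)
open Cfsg.Agent.Lib.Helper6.GH5
open Cfsg.Agent.Lib.Helper9.A8Emb (exists_conjQuot)
open Cfsg.Agent.Lib.Helper2.GH5
open Cfsg.Agent.Lib.Helper7.A8P2

universe u

/-- `|O₂(X)| = 16 |Φ|` as soon as `X / O₂(X)` contains an `A₅` -/
theorem card_pCore {X : Type u} [Group X] [Finite X]
    (hc : Cfsg.IsPConstrained 2 X) (hO : Cfsg.oddCore X = ⊥) (h4 : Cfsg.SectionalPRankLE 2 4 X)
    (hQ : ∃ A : Subgroup (X ⧸ Cfsg.pCore 2 X), Nonempty (↥A ≃* ↥(alternatingGroup (Fin 5)))) :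
    Nat.card ↥(Cfsg.pCore 2 X) = 16 * Nat.card ↥(sqSub (Cfsg.pCore 2 X)) := by
  haveI : Fact (Nat.Prime 2) := ⟨Nat.prime_two⟩
  obtain ⟨A, ⟨eA⟩⟩ := hQ
  set QX : Subgroup X := Cfsg.pCore 2 X with hQXdef
  have hQXp : IsPGroup 2 QX := Cfsg.Agent.Lib.Helper1.pCore_isPGroup 2
  have hcent := Cfsg.Agent.Lib.Helper3.A8Emb.centralizer_pCore_le hc hO
  have hmaxQ : ∀ N : Subgroup X, N.Normal → IsPGroup 2 N → N ≤ QX :=
    fun N hN hN2 => Cfsg.Agent.Lib.Helper1.le_pCore hN hN2
  let Y : Subgroup X := A.comap (QuotientGroup.mk' QX)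
  have hQY : QX ≤ Y := by
    intro x hx
    show QuotientGroup.mk' QX x ∈ A
    have : QuotientGroup.mk' QX x = 1 := (QuotientGroup.eq_one_iff x).mpr hx
    rw [this]; exact A.one_mem
  let Q : Subgroup ↥Y := QX.subgroupOf Y
  haveI hQn : Q.Normal := Subgroup.normal_subgroupOf
  let f : ↥Y →* ↥A := ((QuotientGroup.mk' QX).comp Y.subtype).codRestrict A (fun y => y.2)
  have hf : Function.Surjective f := by
    rintro ⟨a, ha⟩
    obtain ⟨x, rfl⟩ := QuotientGroup.mk'_surjective QX a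
    exact ⟨⟨x, ha⟩, rfl⟩
  have hker : f.ker = Q := by
    ext y
    rw [MonoidHom.mem_ker, Subgroup.mem_subgroupOf]
    constructor
    · intro h
      have h' := congrArg Subtype.val h
      exact (QuotientGroup.eq_one_iff (y : X)).mp h'
    · intro h
      apply Subtype.ext
      exact (QuotientGroup.eq_one_iff (y : X)).mpr h
  have hmapQ : Q.map Y.subtype = QX := Subgroup.map_subgroupOf_eq_of_le hQY
  have hD : GH5Data Q := by
    refine ⟨hQXp.comap_subtype, ?_, sectional_subgroup h4 Y, ?_⟩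
    · exact ⟨(QuotientGroup.quotientMulEquivOfEq hker.symm).trans
        ((QuotientGroup.quotientKerEquivOfSurjective f hf).trans eA)⟩
    · intro g hg
      obtain ⟨φ, hφ⟩ := exists_conjQuot QX (sqSub QX) (sqSub_le QX)
      have hkerle := Cfsg.Agent.Lib.Helper3.A8Emb.ker_le QX hQXp hcent hmaxQ φ hφ
      rw [Subgroup.mem_subgroupOf]
      apply hkerle
      rw [MonoidHom.mem_ker]
      apply MulEquiv.ext
      intro v
      induction v using QuotientGroup.induction_on with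
      | H a =>
        rw [hφ, MulAut.one_apply]
        apply QuotientGroup.eq.mpr
        rw [Subgroup.mem_subgroupOf]
        have h5 := hg ⟨(a : X), hQY a.2⟩ (by rw [Subgroup.mem_subgroupOf]; exact a.2)
        have h6 : ((g * ⟨(a : X), hQY a.2⟩ * g⁻¹ * (⟨(a : X), hQY a.2⟩ : ↥Y)⁻¹ : ↥Y) : X) ∈
            (sqSub Q).map Y.subtype := Subgroup.mem_map_of_mem _ h5
        rw [← sqSub_map, hmapQ] at h6
        have h7 : ((g : X) * (a : X) * (g : X)⁻¹ * (a : X)⁻¹) ∈ sqSub QX := by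
          simpa using h6
        have h8 := (sqSub_normal' QX).conj_mem _ ((sqSub QX).inv_mem h7) (a : X)⁻¹
        have h9 : (a : X)⁻¹ * ((g : X) * (a : X) * (g : X)⁻¹ * (a : X)⁻¹)⁻¹ * ((a : X)⁻¹)⁻¹ =
            ((g : X) * (a : X) * (g : X)⁻¹)⁻¹ * (a : X) := by group
        rw [h9] at h8
        simpa using h8
  have hcv := Cfsg.Agent.Lib.Helper7.GH5BRA.cardV ↥Y Q hD
  have e1 : Nat.card ↥Q = Nat.card ↥QX :=
    Nat.card_congr (Subgroup.subgroupOfEquivOfLe hQY).toEquiv
  have e2 : Nat.card ↥(sqSub Q) = Nat.card ↥(sqSub QX) := by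
    rw [← hmapQ, sqSub_map]
    exact (Subgroup.card_map_of_injective Y.subtype_injective).symm
  rw [← e1, ← e2]
  exact hcv

theorem setup {X : Type u} [Group X] [Finite X] (hc : Cfsg.IsPConstrained 2 X)
    (hO : Cfsg.oddCore X = ⊥)
    (h4 : Cfsg.SectionalPRankLE 2 4 X) {S : Type} [Group S] (e : X ⧸ Cfsg.pCore 2 X ≃* S)
    (hA : ∃ A : Subgroup S, Nonempty (↥A ≃* ↥(alternatingGroup (Fin 5)))) :
    ∃ (G : Type u) (_ : Group G) (_ : Finite G) (V : Subgroup G) (θ : G →* S),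
      Ext V θ ∧ Cfsg.SectionalPRankLE 2 4 G := by
  haveI : Fact (Nat.Prime 2) := ⟨Nat.prime_two⟩
  set QX : Subgroup X := Cfsg.pCore 2 X with hQXdef
  have hQXp : IsPGroup 2 QX := Cfsg.Agent.Lib.Helper1.pCore_isPGroup 2
  have hcent := Cfsg.Agent.Lib.Helper3.A8Emb.centralizer_pCore_le hc hO
  have hmaxQ : ∀ N : Subgroup X, N.Normal → IsPGroup 2 N → N ≤ QX :=
    fun N hN hN2 => Cfsg.Agent.Lib.Helper1.le_pCore hN hN2
  -- the `A₅` inside `X / O₂(X)`
  have hQ : ∃ A : Subgroup (X ⧸ QX), Nonempty (↥A ≃* ↥(alternatingGroup (Fin 5))) := by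
    obtain ⟨A, ⟨eA⟩⟩ := hA
    exact ⟨A.map e.symm.toMonoidHom, ⟨(e.symm.subgroupMap A).symm.trans eA⟩⟩
  have hcard := card_pCore hc hO h4 hQ
  set N : Subgroup X := sqSub QX with hNdef
  have hNQ : N ≤ QX := sqSub_le QX
  have hmapcard := card_map_mk N QX hNQ
  let π : X ⧸ N →* X ⧸ QX := QuotientGroup.map N QX (MonoidHom.id X) hNQ
  have hπ : ∀ x : X, π (x : X ⧸ N) = (x : X ⧸ QX) := fun x => rfl
  refine ⟨X ⧸ N, inferInstance, inferInstance, QX.map (QuotientGroup.mk' N),
    e.toMonoidHom.comp π, ?_, sectional_quotient6 h4 N⟩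
  have hmemV : ∀ x : X, (x : X ⧸ N) ∈ QX.map (QuotientGroup.mk' N) ↔ x ∈ QX := by
    intro x
    constructor
    · rintro ⟨q, hq, hqx⟩
      have h1 : q⁻¹ * x ∈ N := QuotientGroup.eq.mp hqx
      have : x = q * (q⁻¹ * x) := by group
      rw [this]
      exact QX.mul_mem hq (hNQ h1)
    · intro hx
      exact ⟨x, hx, rfl⟩
  refine ⟨?_, ?_, ?_, ?_, ?_, ?_⟩
  · -- kernel
    ext g
    induction g using QuotientGroup.induction_on with
    | H x =>
      rw [MonoidHom.mem_ker, hmemV]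
      change e (π (x : X ⧸ N)) = 1 ↔ _
      rw [hπ, EmbeddingLike.map_eq_one_iff, QuotientGroup.eq_one_iff]
  · -- surjective
    intro s
    obtain ⟨x, hx⟩ := QuotientGroup.mk'_surjective QX (e.symm s)
    refine ⟨(x : X ⧸ N), ?_⟩
    change e (π (x : X ⧸ N)) = s
    rw [hπ]
    change e (QuotientGroup.mk' QX x) = s
    rw [hx, MulEquiv.apply_symm_apply]
  · -- squares
    rintro v ⟨q, hq, rfl⟩
    change ((q * q : X) : X ⧸ N) = 1
    rw [QuotientGroup.eq_one_iff]
    exact sq_mem_sqSub QX hq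
  · -- commutativity
    have hsq : ∀ v ∈ QX.map (QuotientGroup.mk' N), v * v = 1 := by
      rintro v ⟨q, hq, rfl⟩
      change ((q * q : X) : X ⧸ N) = 1
      rw [QuotientGroup.eq_one_iff]
      exact sq_mem_sqSub QX hq
    intro v hv w hw
    have h1 := hsq v hv
    have h2 := hsq w hw
    have h3 := hsq (v * w) (Subgroup.mul_mem _ hv hw)
    have hv' : v⁻¹ = v := inv_eq_of_mul_eq_one_left h1
    have hw' : w⁻¹ = w := inv_eq_of_mul_eq_one_left h2
    have hvw' : (v * w)⁻¹ = v * w := inv_eq_of_mul_eq_one_left h3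
    rw [← hvw', mul_inv_rev, hv', hw']
  · -- order 16
    rw [hcard] at hmapcard
    have hpos : 0 < Nat.card ↥N := Nat.card_pos
    have : Nat.card ↥N * 16 = Nat.card ↥N * Nat.card ↥(QX.map (QuotientGroup.mk' N)) := by
      rw [← hmapcard, mul_comm]
    exact (Nat.eq_of_mul_eq_mul_left hpos this).symm
  · -- faithful
    intro g hg
    induction g using QuotientGroup.induction_on with
    | H x =>
      rw [hmemV]
      obtain ⟨φ, hφ⟩ := exists_conjQuot QX (sqSub QX) (sqSub_le QX)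
      have hkerle := Cfsg.Agent.Lib.Helper3.A8Emb.ker_le QX hQXp hcent hmaxQ φ hφ
      apply hkerle
      rw [MonoidHom.mem_ker]
      apply MulEquiv.ext
      intro v
      induction v using QuotientGroup.induction_on with
      | H a =>
        rw [hφ, MulAut.one_apply]
        apply QuotientGroup.eq.mpr
        rw [Subgroup.mem_subgroupOf]
        have h5 := hg ((a : X) : X ⧸ N) ((hmemV _).mpr a.2)
        have h6 : (((x * (a : X) : X) : X ⧸ N)) = (((a : X) * x : X) : X ⧸ N) := h5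
        have h7 : ((a : X) * x)⁻¹ * (x * (a : X)) ∈ N := QuotientGroup.eq.mp h6.symm
        have h8 := (sqSub_normal' QX).conj_mem _ ((sqSub QX).inv_mem h7) x
        have h9 : x * (((a : X) * x)⁻¹ * (x * (a : X)))⁻¹ * x⁻¹ =
            (x * (a : X) * x⁻¹)⁻¹ * (a : X) := by group
        rw [h9] at h8
        simpa using h8

end Cfsg.Agent.Lib.Helper4.A8P2T
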