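import Cfsg.Agent.Lib.Helper4.A8Sub6

/-!
# Farm S3104, unit U3 (b): six points, coordinator's shape
-/

set_option autoImplicit false

namespace Cfsg.Agent.Lib.Helper4.A8Six

theorem case_six {Y : Type*} [Group Y] [Finite Y] (g : Y →* Equiv.Perm (Fin 6))
    (hg : Function.Injective g) (hns : ¬ Group.IsSolvable Y)
    (hO2 : ∀ N : Subgroup Y, N.Normal → IsPGroup 2 ↥N → N = ⊥) :
    Nonempty (Y ≃* ↥(alternatingGroup (Fin 5))) ∨ Nonempty (Y ≃* Equiv.Perm (Fin 5)) ∨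
      Nonempty (Y ≃* ↥(alternatingGroup (Fin 6))) ∨ Nonempty (Y ≃* Equiv.Perm (Fin 6)) :=
  Cfsg.Agent.Lib.Helper4.A8Sub6.sub_S6_hom g hg hns hO2

end Cfsg.Agent.Lib.Helper4.A8Six
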