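import Cfsg.Agent.Lib.Helper4.A8Sub6a

/-!
# Farm S3104, unit (b): nonsolvable subgroups of `S₆` without normal 2-subgroups
-/

set_option autoImplicit false

namespace Cfsg.Agent.Lib.Helper4.A8Sub6

open Cfsg.Agent.Lib.Helper4

universe u

theorem card_alt6 : Nat.card (alternatingGroup (Fin 6)) = 360 := by
  rw [nat_card_alternatingGroup, Nat.card_fin]; rfl

/-- a proper subgroup of `A₆` has order at most 60 -/
theorem card_le_sixty_of_ne_top (K : Subgroup (alternatingGroup (Fin 6))) (hK : K ≠ ⊤) :
    Nat.card K ≤ 60 := by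
  have : IsSimpleGroup (alternatingGroup (Fin 6)) :=
    alternatingGroup.isSimpleGroup (by simp)
  have h1 := card_dvd_factorial_index K hK
  rw [card_alt6] at h1
  have hmul := K.card_mul_index
  rw [card_alt6] at hmul
  have h0 : K.index ≠ 0 := Subgroup.index_ne_zero_of_finite
  by_contra hlt
  push Not at hlt
  have h6 : K.index < 6 := by
    by_contra h6
    push Not at h6
    have : 61 * 6 ≤ Nat.card K * K.index := Nat.mul_le_mul hlt h6
    omega
  interval_cases hk : K.index
  · exact h0 rfl
  all_goals (revert h1; decide)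

/-- nonsolvable groups embedded in `S₆` without nontrivial normal 2-subgroups -/
theorem sub_S6_hom {Y : Type u} [Group Y] (f : Y →* Equiv.Perm (Fin 6))
    (hf : Function.Injective f) (hns : ¬ Group.IsSolvable Y)
    (hO2 : ∀ N : Subgroup Y, N.Normal → IsPGroup 2 N → N = ⊥) :
    Nonempty (Y ≃* alternatingGroup (Fin 5)) ∨ Nonempty (Y ≃* Equiv.Perm (Fin 5)) ∨
      Nonempty (Y ≃* alternatingGroup (Fin 6)) ∨ Nonempty (Y ≃* Equiv.Perm (Fin 6)) := by
  classical
  have : Finite Y := Finite.of_injective f hf
  set Y0 : Subgroup Y := (alternatingGroup (Fin 6)).comap f with hY0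
  have hY0n : Y0.Normal := Subgroup.Normal.comap inferInstance f
  -- the index of `Y0` is 1 or 2
  have hidx : Y0.index = 1 ∨ Y0.index = 2 := by
    have h1 : Y0.index ∣ 2 := by
      rw [hY0, Subgroup.index_comap, ← alternatingGroup.index_eq_two (α := Fin 6)]
      exact Subgroup.relIndex_dvd_index_of_normal _ _
    have := Nat.le_of_dvd (by norm_num) h1
    have h0 : Y0.index ≠ 0 := Subgroup.index_ne_zero_of_finite
    omega
  -- `Y0` is not solvable
  have hns0 : ¬ Group.IsSolvable Y0 := by
    intro hs
    apply hns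
    rw [Group.isSolvable_iff_subgroup_quotient Y0]
    refine ⟨hs, ?_⟩
    have hq : Nat.card (Y ⧸ Y0) = Y0.index := rfl
    rcases hidx with h | h
    · have : Subsingleton (Y ⧸ Y0) := by
        rw [← Finite.card_le_one_iff_subsingleton, hq, h]
      infer_instance
    · have : Fact (Nat.Prime 2) := ⟨Nat.prime_two⟩
      have : IsCyclic (Y ⧸ Y0) := isCyclic_of_prime_card (p := 2) (by rw [hq, h])
      exact Group.isSolvable_of_comm
        (fun a b => (IsCyclic.isMulCommutative (α := Y ⧸ Y0)).is_comm.comm a b)
  -- the embedding of `Y0` in `A₆`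
  let g : Y0 →* alternatingGroup (Fin 6) :=
    { toFun := fun y => ⟨f y, y.2⟩
      map_one' := by ext; simp
      map_mul' := fun a b => by ext; simp }
  have hg : Function.Injective g := by
    intro a b hab
    have : f a = f b := congrArg Subtype.val hab
    exact Subtype.ext (hf this)
  have hcardK : Nat.card g.range = Nat.card Y0 :=
    (Nat.card_congr (MonoidHom.ofInjective hg).toEquiv).symm
  have hYcard : Nat.card Y = Nat.card Y0 * Y0.index := Y0.card_mul_index.symm
  by_cases hK : g.range = ⊤
  · -- `Y0 ≅ A₆`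
    have hgs : Function.Surjective g := MonoidHom.range_eq_top.mp hK
    have e0 : Y0 ≃* alternatingGroup (Fin 6) := MulEquiv.ofBijective g ⟨hg, hgs⟩
    rcases hidx with h | h
    · right; right; left
      have htop : Y0 = ⊤ := Subgroup.index_eq_one.mp h
      exact ⟨(Subgroup.topEquiv.symm.trans (MulEquiv.subgroupCongr htop.symm)).trans e0⟩
    · right; right; right
      have h720 : Nat.card Y = 720 := by
        rw [hYcard, h, ← hcardK, hK, Subgroup.card_top, card_alt6]
      have hbij : Function.Bijective f := by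
        rw [Nat.bijective_iff_injective_and_card]
        refine ⟨hf, ?_⟩
        rw [h720, Nat.card_perm, Nat.card_fin]; rfl
      exact ⟨MulEquiv.ofBijective f hbij⟩
  · have hle : Nat.card Y0 ≤ 60 := by
      rw [← hcardK]; exact card_le_sixty_of_ne_top _ hK
    obtain ⟨h60, hsimple⟩ := simple_sixty_of_not_solvable hle hns0
    have := hsimple
    rcases hidx with h | h
    · left
      have htop : Y0 = ⊤ := Subgroup.index_eq_one.mp h
      obtain ⟨e⟩ := simple_sixty_iso h60
      exact ⟨(Subgroup.topEquiv.symm.trans (MulEquiv.subgroupCongr htop.symm)).trans e⟩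
    · right; left
      exact iso_S5_of_index_two Y0 h60 h hO2

/-- subgroup form -/
theorem sub_S6 (H : Subgroup (Equiv.Perm (Fin 6))) (hns : ¬ Group.IsSolvable H)
    (hO2 : ∀ N : Subgroup H, N.Normal → IsPGroup 2 N → N = ⊥) :
    Nonempty (H ≃* alternatingGroup (Fin 5)) ∨ Nonempty (H ≃* Equiv.Perm (Fin 5)) ∨
      Nonempty (H ≃* alternatingGroup (Fin 6)) ∨ Nonempty (H ≃* Equiv.Perm (Fin 6)) :=
  sub_S6_hom H.subtype H.subtype_injective hns hO2

end Cfsg.Agent.Lib.Helper4.A8Sub6
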