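import Mathlib
import Cfsg.Agent.S0493
import Cfsg.Agent.S0494
import Cfsg.Agent.Lib.Helper4.Simple60

/-!
# Farm S3104, unit (b), part 1: groups of order `< 60` are solvable; a simple group of order 60
has exactly five Sylow 2-subgroups; a group with a simple normal subgroup of order 60 and index 2
and no normal 2-subgroup is `S₅`.
-/

set_option autoImplicit false

namespace Cfsg.Agent.Lib.Helper4.A8Sub6

open Cfsg.Agent.Lib.Helper4

universe u

theorem lt_of_mul_aux {q c t : ℕ} (h : t = q * c) (hq0 : 0 < q) (hq1 : q ≠ 1) (hc : 1 < c) :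
    c < t ∧ q < t := by
  have hq2 : 2 ≤ q := by omega
  constructor
  · calc c < 2 * c := by omega
      _ ≤ q * c := Nat.mul_le_mul_right _ hq2
      _ = t := h.symm
  · calc q < q * 2 := by omega
      _ ≤ q * c := Nat.mul_le_mul_left _ hc
      _ = t := h.symm

/-- groups of order `< 60` are solvable -/
theorem solvable_of_card_lt_sixty : ∀ n : ℕ, n < 60 → ∀ (H : Type u) [Group H] [Finite H],
    Nat.card H = n → Group.IsSolvable H := by
  intro n
  induction n using Nat.strong_induction_on with
  | _ n ih =>
    intro hn H _ _ hcard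
    by_cases hsub : Subsingleton H
    · infer_instance
    have hnt : Nontrivial H := not_subsingleton_iff_nontrivial.mp hsub
    by_cases hs : ∀ N : Subgroup H, N.Normal → N = ⊥ ∨ N = ⊤
    · have : IsSimpleGroup H :=
        { toNontrivial := hnt, eq_bot_or_eq_top_of_normal := hs }
      by_cases hc : IsCyclic H
      · exact Group.isSolvable_of_comm (fun a b => (IsCyclic.isMulCommutative (α := H)).is_comm.comm a b)
      · have := Cfsg.Agent.S0493.result hc (by omega : Nat.card H ≤ 100)
        omega
    · push Not at hs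
      obtain ⟨N, hN, hbot, htop⟩ := hs
      have := hN
      have hmul := Subgroup.card_eq_card_quotient_mul_card_subgroup N
      have h1 : 1 < Nat.card N := (Subgroup.one_lt_card_iff_ne_bot N).mpr hbot
      have h2 : Nat.card N ≠ Nat.card H := fun h => htop (Subgroup.card_eq_iff_eq_top N |>.mp h)
      have hq0 : 0 < Nat.card (H ⧸ N) := Nat.card_pos
      have hq1 : Nat.card (H ⧸ N) ≠ 1 := by
        intro h; rw [h, one_mul] at hmul; exact h2 hmul.symm
      have hN0 : 0 < Nat.card N := Nat.card_pos
      obtain ⟨hlt1, hlt2⟩ := lt_of_mul_aux hmul hq0 hq1 h1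
      rw [hcard] at hlt1 hlt2
      rw [Group.isSolvable_iff_subgroup_quotient N]
      exact ⟨ih _ hlt1 (by omega) N rfl, ih _ hlt2 (by omega) (H ⧸ N) rfl⟩

/-- a nonsolvable group of order at most 60 is simple of order 60 -/
theorem simple_sixty_of_not_solvable {K : Type u} [Group K] [Finite K] (hle : Nat.card K ≤ 60)
    (hns : ¬ Group.IsSolvable K) : Nat.card K = 60 ∧ IsSimpleGroup K := by
  have h60 : Nat.card K = 60 := by
    by_contra h
    exact hns (solvable_of_card_lt_sixty _ (by omega) K rfl)
  refine ⟨h60, ?_⟩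
  have : Nontrivial K := Finite.one_lt_card_iff_nontrivial.1 (by rw [h60]; norm_num)
  refine { toNontrivial := inferInstance, eq_bot_or_eq_top_of_normal := fun N hN => ?_ }
  have := hN
  by_contra hcon
  push Not at hcon
  obtain ⟨hbot, htop⟩ := hcon
  have hmul := Subgroup.card_eq_card_quotient_mul_card_subgroup N
  have h1 : 1 < Nat.card N := (Subgroup.one_lt_card_iff_ne_bot N).mpr hbot
  have h2 : Nat.card N ≠ Nat.card K := fun h => htop (Subgroup.card_eq_iff_eq_top N |>.mp h)
  have hq0 : 0 < Nat.card (K ⧸ N) := Nat.card_pos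
  have hq1 : Nat.card (K ⧸ N) ≠ 1 := by
    intro h; rw [h, one_mul] at hmul; exact h2 hmul.symm
  have hN0 : 0 < Nat.card N := Nat.card_pos
  obtain ⟨hlt1, hlt2⟩ := lt_of_mul_aux hmul hq0 hq1 h1
  rw [h60] at hlt1 hlt2
  apply hns
  rw [Group.isSolvable_iff_subgroup_quotient N]
  exact ⟨solvable_of_card_lt_sixty _ hlt1 N rfl, solvable_of_card_lt_sixty _ hlt2 (K ⧸ N) rfl⟩


section sixty
variable {G : Type u} [Group G] [Finite G] [IsSimpleGroup G]

/-- in a simple group of order 60 the normalizer of a Sylow 2-subgroup has order 12 -/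
theorem card_normalizer_sylow2 (h : Nat.card G = 60) (P : Sylow 2 G) :
    Nat.card (Subgroup.normalizer ((P : Subgroup G) : Set G)) = 12 := by
  have : Fact (Nat.Prime 2) := ⟨Nat.prime_two⟩
  have hP4 : Nat.card P = 4 := by
    have := sylow_card_of_eq 2 2 15 (by rw [h]; norm_num) (by norm_num) P
    simpa using this
  have hNtop : Subgroup.normalizer ((P : Subgroup G) : Set G) ≠ ⊤ :=
    sylow_not_normal h 2 P 4 hP4 (by norm_num) (by norm_num)
  have h5 := five_le_index h _ hNtop
  have hmul := (Subgroup.normalizer ((P : Subgroup G) : Set G)).card_mul_index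
  have hdvd : Nat.card P ∣ Nat.card (Subgroup.normalizer ((P : Subgroup G) : Set G)) :=
    Subgroup.card_dvd_of_le Subgroup.le_normalizer
  rw [hP4] at hdvd
  obtain ⟨k, hk⟩ := hdvd
  rw [h, hk] at hmul
  have hki : k * (Subgroup.normalizer ((P : Subgroup G) : Set G)).index = 15 := by
    have : 4 * (k * (Subgroup.normalizer ((P : Subgroup G) : Set G)).index) = 4 * 15 := by
      rw [← mul_assoc, hmul]
    exact Nat.eq_of_mul_eq_mul_left (by norm_num) this
  have hk13 : k = 1 ∨ k = 3 := by
    have hk' : k ∣ 15 := Dvd.intro _ hki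
    have hmem : k ∈ Nat.divisors 15 := Nat.mem_divisors.mpr ⟨hk', by norm_num⟩
    have hdiv : Nat.divisors 15 = {1, 3, 5, 15} := by decide
    rw [hdiv] at hmem
    simp only [Finset.mem_insert, Finset.mem_singleton] at hmem
    rcases hmem with rfl | rfl | rfl | rfl
    · left; rfl
    · right; rfl
    · omega
    · omega
  rcases hk13 with rfl | rfl
  · exfalso
    have hNP : (P : Subgroup G) = Subgroup.normalizer ((P : Subgroup G) : Set G) :=
      Subgroup.eq_of_le_of_card_ge Subgroup.le_normalizer (by rw [hk, hP4])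
    have hcomm : ∀ a b : (P : Subgroup G), a * b = b * a :=
      (IsPGroup.isMulCommutative_of_card_eq_prime_sq (p := 2) (by rw [hP4]; norm_num)).is_comm.comm
    have hPC : Subgroup.normalizer ((P : Subgroup G) : Set G)
        ≤ Subgroup.centralizer ((P : Subgroup G) : Set G) := by
      rw [← hNP]
      intro x hx
      rw [Subgroup.mem_centralizer_iff]
      intro y hy
      exact congrArg Subtype.val (hcomm ⟨y, hy⟩ ⟨x, hx⟩)
    have hcomp := MonoidHom.ker_transferSylow_isComplement' P hPC
    have hcard := hcomp.card_mul_card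
    rcases (inferInstance : (MonoidHom.transferSylow P hPC).ker.Normal).eq_bot_or_eq_top
      with hb | ht
    · rw [hb, Subgroup.card_bot, hP4, h] at hcard; omega
    · rw [ht, Subgroup.card_top, hP4, h] at hcard; omega
  · rw [hk]

end sixty

/-- a group with a simple normal subgroup of order 60 and index 2 and without nontrivial normal
2-subgroups is the symmetric group of degree 5 -/
theorem iso_S5_of_index_two {H : Type u} [Group H] [Finite H] (H0 : Subgroup H) [H0.Normal]
    [IsSimpleGroup H0] (h60 : Nat.card H0 = 60) (hidx : H0.index = 2)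
    (hO2 : ∀ N : Subgroup H, N.Normal → IsPGroup 2 N → N = ⊥) :
    Nonempty (H ≃* Equiv.Perm (Fin 5)) := by
  classical
  have : Fact (Nat.Prime 2) := ⟨Nat.prime_two⟩
  have hH120 : Nat.card H = 120 := by
    rw [← H0.card_mul_index, h60, hidx]
  obtain ⟨P⟩ : Nonempty (Sylow 2 H0) := inferInstance
  have hP'le : (P : Subgroup H0).map H0.subtype ≤ H0 := Subgroup.map_subtype_le _
  have hfr : Subgroup.normalizer (((P : Subgroup H0).map H0.subtype : Subgroup H) : Set H) ⊔ H0
      = ⊤ := Sylow.normalizer_sup_eq_top P
  set M : Subgroup H :=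
    Subgroup.normalizer (((P : Subgroup H0).map H0.subtype : Subgroup H) : Set H) with hM
  -- `M ∩ H0` has order 12
  have c1 : Nat.card (M.subgroupOf H0) = 12 := by
    rw [hM, Subgroup.subgroupOf_normalizer_eq hP'le]
    have : ((P : Subgroup H0).map H0.subtype).subgroupOf H0 = (P : Subgroup H0) :=
      Subgroup.comap_map_eq_self_of_injective H0.subtype_injective _
    rw [this]
    exact card_normalizer_sylow2 h60 P
  have c2 : Nat.card (M ⊓ H0 : Subgroup H) = 12 := by
    rw [← c1, ← Subgroup.subgroupOf_map_subtype M H0]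
    exact Subgroup.card_map_of_injective H0.subtype_injective
  have c3 : H0.relIndex M = 2 := by
    rw [← Subgroup.relIndex_sup_right M H0, hfr, Subgroup.relIndex_top_right, hidx]
  have c4 : Nat.card M = 24 := by
    have h1 := (H0.subgroupOf M).card_mul_index
    have h2 : Nat.card (H0.subgroupOf M) = 12 := by
      rw [← c2, inf_comm, ← Subgroup.subgroupOf_map_subtype H0 M]
      exact (Subgroup.card_map_of_injective M.subtype_injective).symm
    have h3 : (H0.subgroupOf M).index = 2 := c3
    rw [h2, h3] at h1
    omega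
  have c5 : M.index = 5 := by
    have := M.card_mul_index
    rw [c4, hH120] at this
    omega
  -- the core of `M` is trivial
  have hcore : M.normalCore = ⊥ := by
    apply hO2 _ (Subgroup.normalCore_normal M)
    have hK0 : (M.normalCore).subgroupOf H0 = ⊥ := by
      rcases (inferInstance : ((M.normalCore).subgroupOf H0).Normal).eq_bot_or_eq_top
        with hb | ht
      · exact hb
      · exfalso
        have hle : H0 ≤ M := (Subgroup.subgroupOf_eq_top.mp ht).trans (Subgroup.normalCore_le M)
        have := Subgroup.card_le_of_le hle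
        rw [h60, c4] at this
        omega
    have hdvd : H0.relIndex M.normalCore ∣ H0.index := Subgroup.relIndex_dvd_index_of_normal _ _
    have hbot : H0.subgroupOf M.normalCore = ⊥ := by
      rw [Subgroup.subgroupOf_eq_bot] at hK0 ⊢
      rwa [disjoint_comm]
    have hri : H0.relIndex M.normalCore = Nat.card M.normalCore := by
      unfold Subgroup.relIndex
      rw [hbot, Subgroup.index_bot]
    rw [hri, hidx] at hdvd
    have h12 : Nat.card M.normalCore = 1 ∨ Nat.card M.normalCore = 2 := by
      have := Nat.le_of_dvd (by norm_num) hdvd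
      have hpos : 0 < Nat.card M.normalCore := Nat.card_pos
      omega
    rcases h12 with h | h
    · exact IsPGroup.of_card (n := 0) (by rw [h]; norm_num)
    · exact IsPGroup.of_card (n := 1) (by rw [h]; norm_num)
  have hinj : Function.Injective (MulAction.toPermHom H (H ⧸ M)) := by
    rw [← MonoidHom.ker_eq_bot_iff, ← Subgroup.normalCore_eq_ker]
    exact hcore
  have hfin : Nat.card (H ⧸ M) = 5 := c5
  let e : (H ⧸ M) ≃ Fin 5 := Finite.equivFinOfCardEq hfin
  let ψ : H →* Equiv.Perm (Fin 5) :=
    e.permCongrHom.toMonoidHom.comp (MulAction.toPermHom H (H ⧸ M))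
  have hψ : Function.Injective ψ := fun a b hab => hinj (e.permCongrHom.injective hab)
  have hbij : Function.Bijective ψ := by
    rw [Nat.bijective_iff_injective_and_card]
    refine ⟨hψ, ?_⟩
    rw [hH120, Nat.card_perm, Nat.card_fin]
    rfl
  exact ⟨MulEquiv.ofBijective ψ hbij⟩

end Cfsg.Agent.Lib.Helper4.A8Sub6
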