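import Mathlib

set_option autoImplicit false

/-! The affine group of `F₂³` and the even block-preserving permutations. (helper4) -/

namespace Cfsg.Agent.Lib.Helper4.AGL32

open Equiv

/-- the base `F₂²` -/
abbrev B := ZMod 2 × ZMod 2
/-- the space `F₂³ = F₂² × F₂` -/
abbrev V := B × ZMod 2

/-- affine permutations of `V` -/
def affV : Subgroup (Perm V) where
  carrier := {g | ∀ x y z : V, g (x + y + z) = g x + g y + g z}
  one_mem' := by intro x y z; rfl
  mul_mem' := by
    intro g h hg hh x y z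
    rw [Perm.mul_apply, hh, hg]; rfl
  inv_mem' := by
    intro g hg x y z
    apply g.injective
    rw [hg]; simp

theorem mem_affV {g : Perm V} : g ∈ affV ↔ ∀ x y z : V, g (x + y + z) = g x + g y + g z := Iff.rfl

theorem perm_B_affine : ∀ σ : Perm B, ∀ i₁ i₂ i₃ : B, σ (i₁ + i₂ + i₃) = σ i₁ + σ i₂ + σ i₃ := by
  decide

theorem eps_affine : ∀ ε : B → ZMod 2, (∑ i, ε i = 0) →
    ∀ i₁ i₂ i₃ : B, ε (i₁ + i₂ + i₃) = ε i₁ + ε i₂ + ε i₃ := by
  decide

theorem eps_sign : ∀ ε : B → ZMod 2, (∏ i, Perm.sign (Equiv.addLeft (ε i)) = 1) →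
    ∑ i, ε i = 0 := by
  decide

theorem zmod2_ne : ∀ a b : ZMod 2, a ≠ b → a = b + 1 := by decide


/-- An even permutation of `V` preserving the partition into the fibres of the first projection
is affine. -/
theorem affine_of_even (g : Perm V) (hW : ∀ x y : V, x.1 = y.1 ↔ (g x).1 = (g y).1)
    (hs : Perm.sign g = 1) : g ∈ affV := by
  have hT : ∀ v : V, g (v.1, v.2 + 1) = ((g v).1, (g v).2 + 1) := by
    intro v
    have h1 : (g (v.1, v.2 + 1)).1 = (g v).1 := (hW (v.1, v.2 + 1) v).mp rfl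
    have h2 : (g (v.1, v.2 + 1)).2 ≠ (g v).2 := by
      intro h
      have h3 : g (v.1, v.2 + 1) = g v := Prod.ext h1 h
      have h4 := congrArg Prod.snd (g.injective h3)
      simp at h4
    exact Prod.ext h1 (zmod2_ne _ _ h2)
  obtain ⟨σf, hσf⟩ : ∃ σf : B → B, σf = fun i => (g (i, 0)).1 := ⟨_, rfl⟩
  obtain ⟨ε, hε⟩ : ∃ ε : B → ZMod 2, ε = fun i => (g (i, 0)).2 := ⟨_, rfl⟩
  have hg : ∀ (i : B) (j : ZMod 2), g (i, j) = (σf i, ε i + j) := by
    intro i j
    have h0 : g (i, 0) = (σf i, ε i + 0) := by rw [hσf, hε]; simp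
    have h1 : g (i, 1) = (σf i, ε i + 1) := by
      have := hT (i, 0)
      rw [hσf, hε]
      simpa using this
    have : j = 0 ∨ j = 1 := by revert j; decide
    rcases this with rfl | rfl
    · exact h0
    · exact h1
  have hinj : Function.Injective σf := by
    intro i i' h
    have := (hW (i, 0) (i', 0)).mpr (by rw [hg, hg]; exact h)
    exact this
  let σ : Perm B := Equiv.ofBijective σf (Finite.injective_iff_bijective.mp hinj)
  have hdecomp : g = (prodCongrLeft (fun _ : ZMod 2 => σ)) *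
      (prodCongrRight (fun i => Equiv.addLeft (ε i))) := by
    ext ⟨i, j⟩ <;> simp [hg, σ]
  have hsign : ∏ i, Perm.sign (Equiv.addLeft (ε i)) = 1 := by
    rw [hdecomp, map_mul, Perm.sign_prodCongrLeft, Perm.sign_prodCongrRight] at hs
    have h2 : ∏ _k : ZMod 2, Perm.sign σ = 1 := by
      rw [Finset.prod_const]
      have : (Finset.univ : Finset (ZMod 2)).card = 2 := rfl
      rw [this, pow_two, Int.units_mul_self]
    rwa [h2, one_mul] at hs
  have hεa := eps_affine ε (eps_sign ε hsign)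
  rw [mem_affV]
  rintro ⟨i₁, j₁⟩ ⟨i₂, j₂⟩ ⟨i₃, j₃⟩
  have e : ((i₁, j₁) + (i₂, j₂) + (i₃, j₃) : V) = (i₁ + i₂ + i₃, j₁ + j₂ + j₃) := rfl
  rw [e, hg, hg, hg, hg]
  refine Prod.ext ?_ ?_
  · exact perm_B_affine σ i₁ i₂ i₃
  · show ε (i₁ + i₂ + i₃) + (j₁ + j₂ + j₃) = (ε i₁ + j₁) + (ε i₂ + j₂) + (ε i₃ + j₃)
    rw [hεa]; ring

/-- an even affine map not preserving the partition -/
def tV : Perm V where
  toFun v := ((v.1.1, v.2), v.1.2)
  invFun v := ((v.1.1, v.2), v.1.2)
  left_inv v := rfl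
  right_inv v := rfl

theorem tV_mem : tV ∈ affV := by
  rw [mem_affV]; decide

theorem tV_sign : Perm.sign tV = 1 := by decide

theorem tV_not : ¬ ∀ x y : V, x.1 = y.1 ↔ (tV x).1 = (tV y).1 := by decide

/-- a three-cycle is not affine -/
theorem c3_not_mem : swap ((0, 0), 0) ((0, 0), 1) * swap ((0, 0), 1) ((0, 1), 0) ∉ affV := by
  rw [mem_affV]; decide

end Cfsg.Agent.Lib.Helper4.AGL32
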