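import Mathlib

/-!
# Agreement counts of permutations and averaging over the alternating group
-/

namespace Cfsg.Agent.Lib.Helper4.AH

open Equiv Finset

variable {Ω : Type*} [Fintype Ω] [DecidableEq Ω]

/-- Number of points where `γ` and `α` agree. -/
def agr (α γ : Perm Ω) : ℕ := (univ.filter fun x => γ x = α x).card

/-- The even permutations as a finset. -/
def AF (Ω : Type*) [Fintype Ω] [DecidableEq Ω] : Finset (Perm Ω) :=
  univ.filter fun k => Perm.sign k = 1

/-- Fixed points as a finset. -/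
def fixF (σ : Perm Ω) : Finset Ω := univ.filter fun x => σ x = x

theorem mem_AF {k : Perm Ω} : k ∈ AF Ω ↔ Perm.sign k = 1 := by
  unfold AF; simp

theorem mem_fixF {σ : Perm Ω} {x : Ω} : x ∈ fixF σ ↔ σ x = x := by
  unfold fixF; simp

theorem card_fixF_add (σ : Perm Ω) : (fixF σ).card + σ.support.card = Fintype.card Ω := by
  have : fixF σ = σ.supportᶜ := by
    ext x
    rw [mem_fixF, mem_compl, Perm.mem_support, not_not]
  rw [this, card_compl]
  have := card_le_univ σ.support
  omega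

theorem inv_app (k : Perm Ω) (x : Ω) : k⁻¹ (k x) = x := by simp

theorem app_inv (k : Perm Ω) (x : Ω) : k (k⁻¹ x) = x := by simp

theorem agr_comm (α γ : Perm Ω) : agr α γ = agr γ α := by
  unfold agr
  congr 1
  ext x
  simp only [mem_filter, mem_univ, true_and]
  exact eq_comm

theorem agr_conj (α γ c : Perm Ω) : agr α (c * γ * c⁻¹) = agr (c⁻¹ * α * c) γ := by
  unfold agr
  apply Finset.card_equiv c⁻¹
  intro x
  rw [mem_filter, mem_filter]
  simp only [mem_univ, true_and, Perm.mul_apply, app_inv]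
  constructor
  · intro h; rw [← h, inv_app]
  · intro h; rw [h, app_inv]

theorem agr_conj' (α γ c : Perm Ω) : agr (c * α * c⁻¹) γ = agr α (c⁻¹ * γ * c) := by
  have := agr_conj (c * α * c⁻¹) (c⁻¹ * γ * c) c
  have h1 : c * (c⁻¹ * γ * c) * c⁻¹ = γ := by group
  have h2 : c⁻¹ * (c * α * c⁻¹) * c = α := by group
  rw [h1, h2] at this
  exact this

/-- Extension of a partial injection defined on at most `n - 2` points to an even permutation. -/
theorem exists_even_extension (s : Finset Ω) (f : Ω → Ω) (hf : Set.InjOn f s)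
    (hs : s.card + 2 ≤ Fintype.card Ω) :
    ∃ k : Perm Ω, Perm.sign k = 1 ∧ ∀ i ∈ s, k i = f i := by
  obtain ⟨σ, hσ⟩ := Perm.exists_extending_pair (fun i : s => (i : Ω)) (fun i : s => f i)
    Subtype.val_injective (fun i j hij => Subtype.ext (hf i.2 j.2 hij))
  have hσ' : ∀ i ∈ s, σ i = f i := fun i hi => hσ ⟨i, hi⟩
  rcases Int.units_eq_one_or (Perm.sign σ) with h | h
  · exact ⟨σ, h, hσ'⟩
  · have hc : 1 < sᶜ.card := by
      rw [card_compl]; omega
    obtain ⟨p, hp, q, hq, hpq⟩ := Finset.one_lt_card.mp hc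
    rw [mem_compl] at hp hq
    refine ⟨σ * swap p q, by rw [map_mul, h, Perm.sign_swap hpq]; decide, ?_⟩
    intro i hi
    rw [Perm.mul_apply, swap_apply_of_ne_of_ne, hσ' i hi]
    · rintro rfl; exact hp hi
    · rintro rfl; exact hq hi

theorem exists_even_apply (h3 : 3 ≤ Fintype.card Ω) (x z : Ω) :
    ∃ g : Perm Ω, Perm.sign g = 1 ∧ g x = z := by
  obtain ⟨g, hg, h⟩ := exists_even_extension {x} (fun _ => z)
    (by intro a ha b hb _; rw [mem_coe, mem_singleton] at ha hb; rw [ha, hb])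
    (by rw [card_singleton]; omega)
  exact ⟨g, hg, h x (mem_singleton_self x)⟩

theorem exists_even_apply₂ (h4 : 4 ≤ Fintype.card Ω) {x x' z z' : Ω} (hx : x ≠ x')
    (hz : z ≠ z') : ∃ g : Perm Ω, Perm.sign g = 1 ∧ g x = z ∧ g x' = z' := by
  obtain ⟨g, hg, h⟩ := exists_even_extension {x, x'} (fun i => if i = x then z else z')
    (by
      intro a ha b hb hab
      rw [mem_coe, mem_insert, mem_singleton] at ha hb
      rcases ha with rfl | rfl <;> rcases hb with rfl | rfl
      · rfl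
      · simp only [if_true, if_neg hx.symm] at hab; exact absurd hab hz
      · simp only [if_true, if_neg hx.symm] at hab; exact absurd hab.symm hz
      · rfl)
    (by rw [card_pair hx]; omega)
  refine ⟨g, hg, ?_, ?_⟩
  · have := h x (by simp); simpa using this
  · have := h x' (by simp); simpa [hx.symm] using this

/-- `#{k even | k β k⁻¹ x = x'}`. -/
def cnt (β : Perm Ω) (x x' : Ω) : ℕ := ((AF Ω).filter fun k => (k * β * k⁻¹) x = x').card

/-- `#{k even | k y = x}`. -/
def tcnt (Ω : Type*) [Fintype Ω] [DecidableEq Ω] (x y : Ω) : ℕ :=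
  ((AF Ω).filter fun k => k y = x).card

theorem sum_agr (α β : Perm Ω) :
    ∑ k ∈ AF Ω, agr α (k * β * k⁻¹) = ∑ x, cnt β x (α x) := by
  have := Finset.sum_card_bipartiteAbove_eq_sum_card_bipartiteBelow
    (fun (k : Perm Ω) (x : Ω) => (k * β * k⁻¹) x = α x) (s := AF Ω) (t := univ)
  exact this

theorem cnt_smul (β : Perm Ω) {g : Perm Ω} (hg : Perm.sign g = 1) (x x' : Ω) :
    cnt β (g x) (g x') = cnt β x x' := by
  unfold cnt
  symm
  apply Finset.card_equiv (Equiv.mulLeft g)
  intro k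
  rw [mem_filter, mem_filter]
  simp only [mem_AF, Equiv.coe_mulLeft, map_mul, hg, one_mul, mul_inv_rev,
    Perm.mul_apply, inv_app, EmbeddingLike.apply_eq_iff_eq]

theorem sum_cnt (β : Perm Ω) (x : Ω) : ∑ x', cnt β x x' = (AF Ω).card := by
  unfold cnt
  rw [Finset.card_eq_sum_card_fiberwise (f := fun k : Perm Ω => (k * β * k⁻¹) x) (s := AF Ω)
    (t := univ) (fun _ _ => mem_univ _)]

theorem tcnt_smul {g : Perm Ω} (hg : Perm.sign g = 1) (x y : Ω) :
    tcnt Ω (g x) y = tcnt Ω x y := by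
  unfold tcnt
  symm
  apply Finset.card_equiv (Equiv.mulLeft g)
  intro k
  rw [mem_filter, mem_filter]
  simp only [mem_AF, Equiv.coe_mulLeft, map_mul, hg, one_mul,
    Perm.mul_apply, EmbeddingLike.apply_eq_iff_eq]

theorem sum_tcnt (y : Ω) : ∑ x, tcnt Ω x y = (AF Ω).card := by
  unfold tcnt
  rw [Finset.card_eq_sum_card_fiberwise (f := fun k : Perm Ω => k y) (s := AF Ω)
    (t := univ) (fun _ _ => mem_univ _)]

theorem card_mul_tcnt (h3 : 3 ≤ Fintype.card Ω) (x y : Ω) :
    Fintype.card Ω * tcnt Ω x y = (AF Ω).card := by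
  rw [← sum_tcnt y]
  have : ∀ x' ∈ (univ : Finset Ω), tcnt Ω x' y = tcnt Ω x y := by
    intro x' _
    obtain ⟨g, hg, hgx⟩ := exists_even_apply h3 x x'
    rw [← hgx, tcnt_smul hg]
  rw [Finset.sum_congr rfl this, Finset.sum_const, card_univ, smul_eq_mul]

theorem cnt_diag (β : Perm Ω) (x : Ω) :
    cnt β x x = ∑ y ∈ fixF β, tcnt Ω x y := by
  unfold cnt tcnt
  rw [Finset.card_eq_sum_card_fiberwise (f := fun k : Perm Ω => k⁻¹ x)
    (s := (AF Ω).filter fun k => (k * β * k⁻¹) x = x) (t := fixF β)]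
  · apply Finset.sum_congr rfl
    intro y hy
    rw [mem_fixF] at hy
    congr 1
    ext k
    rw [mem_filter, mem_filter, mem_filter]
    simp only [Perm.mul_apply]
    constructor
    · rintro ⟨⟨hk, -⟩, h2⟩
      exact ⟨hk, by rw [← h2, app_inv]⟩
    · rintro ⟨hk, h2⟩
      have h3 : k⁻¹ x = y := by rw [← h2, inv_app]
      exact ⟨⟨hk, by rw [h3, hy, h2]⟩, h3⟩
  · intro k hk
    rw [mem_coe, mem_filter, Perm.mul_apply, Perm.mul_apply] at hk
    rw [mem_coe, mem_fixF]
    have := congrArg (k⁻¹ ·) hk.2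
    simpa using this

end Cfsg.Agent.Lib.Helper4.AH
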