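import Mathlib
import Cfsg.Agent.Lib.Helper4.AH1

/-!
# The averaging identity
-/

namespace Cfsg.Agent.Lib.Helper4.AH

open Equiv Finset

variable {Ω : Type*} [Fintype Ω] [DecidableEq Ω]

theorem card_mul_cnt_diag (h3 : 3 ≤ Fintype.card Ω) (β : Perm Ω) (x : Ω) :
    Fintype.card Ω * cnt β x x = (fixF β).card * (AF Ω).card := by
  rw [cnt_diag, Finset.mul_sum]
  rw [Finset.sum_congr rfl (fun y _ => card_mul_tcnt h3 x y), Finset.sum_const, smul_eq_mul]

theorem cnt_offdiag_eq (h4 : 4 ≤ Fintype.card Ω) (β : Perm Ω) {x x' z z' : Ω} (hx : x ≠ x')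
    (hz : z ≠ z') : cnt β x x' = cnt β z z' := by
  obtain ⟨g, hg, h1, h2⟩ := exists_even_apply₂ h4 hx hz
  rw [← h1, ← h2, cnt_smul β hg]

theorem card_mul_cnt_offdiag (h4 : 4 ≤ Fintype.card Ω) (β : Perm Ω) {x x' : Ω} (hx : x ≠ x') :
    Fintype.card Ω * (Fintype.card Ω - 1) * cnt β x x' = β.support.card * (AF Ω).card := by
  have hsum := sum_cnt β x
  rw [← Finset.add_sum_erase univ _ (mem_univ x)] at hsum
  have hconst : ∀ x'' ∈ univ.erase x, cnt β x x'' = cnt β x x' := by
    intro x'' hx''
    exact cnt_offdiag_eq h4 β (ne_of_mem_erase hx'').symm hx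
  rw [Finset.sum_congr rfl hconst, Finset.sum_const, smul_eq_mul, card_erase_of_mem (mem_univ x),
    card_univ] at hsum
  have hd := card_mul_cnt_diag (by omega) β x
  have hfs := card_fixF_add β
  set n := Fintype.card Ω
  set A := (AF Ω).card
  set D := cnt β x x
  set O := cnt β x x'
  set f := (fixF β).card
  set s := β.support.card
  have h1 : n * D + n * ((n - 1) * O) = n * A := by rw [← mul_add, hsum]
  have h2 : n * A = f * A + s * A := by rw [← add_mul, hfs]
  rw [mul_assoc]
  linarith

theorem averaging (h4 : 4 ≤ Fintype.card Ω) (α β : Perm Ω) :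
    Fintype.card Ω * (Fintype.card Ω - 1) * ∑ k ∈ AF Ω, agr α (k * β * k⁻¹) =
      (AF Ω).card * ((fixF α).card * (fixF β).card * (Fintype.card Ω - 1)
        + α.support.card * β.support.card) := by
  rw [sum_agr, Finset.mul_sum]
  have hterm : ∀ x ∈ (univ : Finset Ω),
      Fintype.card Ω * (Fintype.card Ω - 1) * cnt β x (α x) =
        if α x = x then (Fintype.card Ω - 1) * ((fixF β).card * (AF Ω).card)
        else β.support.card * (AF Ω).card := by
    intro x _
    split_ifs with h
    · rw [h, mul_comm (Fintype.card Ω) (Fintype.card Ω - 1), mul_assoc,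
        card_mul_cnt_diag (by omega) β x]
    · exact card_mul_cnt_offdiag h4 β (Ne.symm h)
  rw [Finset.sum_congr rfl hterm, Finset.sum_ite, Finset.sum_const, Finset.sum_const,
    smul_eq_mul, smul_eq_mul]
  have h1 : (univ.filter fun x => α x = x) = fixF α := rfl
  have h2 : (univ.filter fun x => ¬ α x = x) = α.support := by
    ext x
    rw [mem_filter, Perm.mem_support]
    simp
  rw [h1, h2]
  ring

/-- If the agreement count is constant `c` on the `A_n`-class of `β`, then
`c n (n-1) = f_α f_β (n-1) + s_α s_β`. -/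
theorem const_eq (h4 : 4 ≤ Fintype.card Ω) (α β : Perm Ω) (c : ℕ)
    (hc : ∀ k : Perm Ω, Perm.sign k = 1 → agr α (k * β * k⁻¹) = c) :
    Fintype.card Ω * (Fintype.card Ω - 1) * c =
      (fixF α).card * (fixF β).card * (Fintype.card Ω - 1)
        + α.support.card * β.support.card := by
  have h := averaging h4 α β
  rw [Finset.sum_congr rfl (fun k hk => hc k (mem_AF.mp hk)), Finset.sum_const, smul_eq_mul] at h
  have hA : 0 < (AF Ω).card := Finset.card_pos.mpr ⟨1, mem_AF.mpr (map_one _)⟩
  have h' : (AF Ω).card * (Fintype.card Ω * (Fintype.card Ω - 1) * c) =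
      (AF Ω).card * ((fixF α).card * (fixF β).card * (Fintype.card Ω - 1)
        + α.support.card * β.support.card) := by
    rw [← h]; ring
  exact Nat.eq_of_mul_eq_mul_left hA h'

end Cfsg.Agent.Lib.Helper4.AH
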