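import Mathlib
import Cfsg.Agent.Lib.Helper4.AH2

/-!
# Configurations with many agreements
-/

namespace Cfsg.Agent.Lib.Helper4.AH

open Equiv Finset

variable {Ω : Type*} [Fintype Ω] [DecidableEq Ω]

/-- The agreement count is constant `c` on the `A_n`-class of `β`. -/
def Const (α β : Perm Ω) (c : ℕ) : Prop :=
  ∀ k : Perm Ω, Perm.sign k = 1 → agr α (k * β * k⁻¹) = c

theorem Const.symm {α β : Perm Ω} {c : ℕ} (h : Const α β c) : Const β α c := by
  intro k hk
  rw [agr_conj, agr_comm]
  have := h k⁻¹ (by rw [map_inv, hk, inv_one])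
  rw [inv_inv] at this
  exact this

theorem card_le_agr {α γ : Perm Ω} (S : Finset Ω) (h : ∀ x ∈ S, γ x = α x) :
    S.card ≤ agr α γ := by
  unfold agr
  apply Finset.card_le_card
  intro x hx
  rw [mem_filter]
  exact ⟨mem_univ _, h x hx⟩

theorem conj_apply_of_eq {k β : Perm Ω} {y x : Ω} (h : k y = x) :
    (k * β * k⁻¹) x = k (β y) := by
  rw [Perm.mul_apply, Perm.mul_apply, ← h, inv_app]

theorem two_le_support {σ : Perm Ω} (h : σ ≠ 1) : 2 ≤ σ.support.card :=
  Perm.two_le_card_support_of_ne_one h

theorem exists_mem_support {σ : Perm Ω} (h : σ ≠ 1) : ∃ u, σ u ≠ u := by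
  by_contra hcon
  push Not at hcon
  exact h (Perm.ext hcon)

/-- Configuration 1: fixed points of `β` placed inside the fixed points of `α`. -/
theorem config_fix {α β : Perm Ω} (hβ : β ≠ 1) (hle : (fixF β).card ≤ (fixF α).card) :
    ∃ k : Perm Ω, Perm.sign k = 1 ∧ (fixF β).card ≤ agr α (k * β * k⁻¹) := by
  obtain ⟨U, hU, hUc⟩ := Finset.exists_subset_card_eq hle
  let e : fixF β ≃ U := Finset.equivOfCardEq hUc.symm
  let f : Ω → Ω := fun i => if h : i ∈ fixF β then ((e ⟨i, h⟩ : U) : Ω) else i
  have hf : Set.InjOn f (fixF β) := by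
    intro a ha b hb hab
    rw [mem_coe] at ha hb
    simp only [f, dif_pos ha, dif_pos hb] at hab
    have := e.injective (Subtype.ext hab)
    exact congrArg Subtype.val this
  have hs := two_le_support hβ
  have hcard := card_fixF_add β
  obtain ⟨k, hk, hkf⟩ := exists_even_extension (fixF β) f hf (by omega)
  refine ⟨k, hk, ?_⟩
  have h1 : ((fixF β).image k).card = (fixF β).card :=
    Finset.card_image_of_injective _ k.injective
  rw [← h1]
  apply card_le_agr
  intro x hx
  obtain ⟨y, hy, rfl⟩ := Finset.mem_image.mp hx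
  rw [conj_apply_of_eq rfl, mem_fixF.mp hy]
  have h2 : k y ∈ U := by
    rw [hkf y hy]
    simp only [f, dif_pos hy]
    exact (e ⟨y, hy⟩).2
  exact (mem_fixF.mp (hU h2)).symm

/-- Configuration 2: a common fixed point and a common arrow. -/
theorem config_fix_arrow (h5 : 5 ≤ Fintype.card Ω) {α β : Perm Ω} {zα u zβ w : Ω}
    (hzα : α zα = zα) (hu : α u ≠ u) (hzβ : β zβ = zβ) (hw : β w ≠ w) :
    ∃ k : Perm Ω, Perm.sign k = 1 ∧ 2 ≤ agr α (k * β * k⁻¹) := by
  have d1 : zβ ≠ w := by rintro rfl; exact hw hzβ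
  have d2 : zβ ≠ β w := by
    intro h
    have : β zβ = β w := by rw [hzβ]; exact h
    exact d1 (β.injective this)
  have d3 : w ≠ β w := fun h => hw h.symm
  have e1 : zα ≠ u := by rintro rfl; exact hu hzα
  have e2 : zα ≠ α u := by
    intro h
    have : α zα = α u := by rw [hzα]; exact h
    exact e1 (α.injective this)
  have e3 : u ≠ α u := fun h => hu h.symm
  let f : Ω → Ω := fun i => if i = zβ then zα else if i = w then u else α u
  have fz : f zβ = zα := by simp [f]
  have fw : f w = u := by simp [f, d1.symm]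
  have fbw : f (β w) = α u := by simp [f, d2.symm, d3.symm]
  have hf : Set.InjOn f (({zβ, w, β w} : Finset Ω) : Set Ω) := by
    intro a ha b hb hab
    rw [mem_coe, mem_insert, mem_insert, mem_singleton] at ha hb
    rcases ha with rfl | rfl | rfl <;> rcases hb with rfl | rfl | rfl <;>
      first
      | rfl
      | (exfalso; simp only [fz, fw, fbw] at hab; first
          | exact e1 hab | exact e1 hab.symm | exact e2 hab | exact e2 hab.symm
          | exact e3 hab | exact e3 hab.symm)
  have hcard : ({zβ, w, β w} : Finset Ω).card = 3 := by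
    rw [card_insert_of_notMem, card_pair d3]
    rw [mem_insert, mem_singleton]; push Not; exact ⟨d1, d2⟩
  obtain ⟨k, hk, hkf⟩ := exists_even_extension _ f hf (by rw [hcard]; omega)
  have kz : k zβ = zα := by rw [hkf zβ (by simp), fz]
  have kw : k w = u := by rw [hkf w (by simp), fw]
  have kbw : k (β w) = α u := by rw [hkf (β w) (by simp), fbw]
  refine ⟨k, hk, ?_⟩
  have : ({zα, u} : Finset Ω).card = 2 := card_pair e1
  rw [← this]
  apply card_le_agr
  intro x hx
  rw [mem_insert, mem_singleton] at hx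
  rcases hx with rfl | rfl
  · rw [conj_apply_of_eq kz, hzβ, kz, hzα]
  · rw [conj_apply_of_eq kw, kbw]

/-- Configuration 3: a common path of length two. -/
theorem config_path (h5 : 5 ≤ Fintype.card Ω) {α β : Perm Ω} {u w : Ω}
    (hu : α (α u) ≠ u) (hw : β (β w) ≠ w) :
    ∃ k : Perm Ω, Perm.sign k = 1 ∧ 2 ≤ agr α (k * β * k⁻¹) := by
  have d1 : w ≠ β w := by
    intro h; apply hw; rw [← h, ← h]
  have d2 : w ≠ β (β w) := fun h => hw h.symm
  have d3 : β w ≠ β (β w) := fun h => d1 (β.injective h)
  have e1 : u ≠ α u := by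
    intro h; apply hu; rw [← h, ← h]
  have e2 : u ≠ α (α u) := fun h => hu h.symm
  have e3 : α u ≠ α (α u) := fun h => e1 (α.injective h)
  let f : Ω → Ω := fun i => if i = w then u else if i = β w then α u else α (α u)
  have fw : f w = u := by simp [f]
  have fbw : f (β w) = α u := by simp [f, d1.symm]
  have fbbw : f (β (β w)) = α (α u) := by simp [f, d2.symm, d3.symm]
  have hf : Set.InjOn f (({w, β w, β (β w)} : Finset Ω) : Set Ω) := by
    intro a ha b hb hab
    rw [mem_coe, mem_insert, mem_insert, mem_singleton] at ha hb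
    rcases ha with rfl | rfl | rfl <;> rcases hb with rfl | rfl | rfl <;>
      first
      | rfl
      | (exfalso; simp only [fw, fbw, fbbw] at hab; first
          | exact e1 hab | exact e1 hab.symm | exact e2 hab | exact e2 hab.symm
          | exact e3 hab | exact e3 hab.symm)
  have hcard : ({w, β w, β (β w)} : Finset Ω).card = 3 := by
    rw [card_insert_of_notMem, card_pair d3]
    rw [mem_insert, mem_singleton]; push Not; exact ⟨d1, d2⟩
  obtain ⟨k, hk, hkf⟩ := exists_even_extension _ f hf (by rw [hcard]; omega)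
  have kw : k w = u := by rw [hkf w (by simp), fw]
  have kbw : k (β w) = α u := by rw [hkf (β w) (by simp), fbw]
  have kbbw : k (β (β w)) = α (α u) := by rw [hkf (β (β w)) (by simp), fbbw]
  refine ⟨k, hk, ?_⟩
  have : ({u, α u} : Finset Ω).card = 2 := card_pair e1
  rw [← this]
  apply card_le_agr
  intro x hx
  rw [mem_insert, mem_singleton] at hx
  rcases hx with rfl | rfl
  · rw [conj_apply_of_eq kw, kbw]
  · rw [conj_apply_of_eq kbw, kbbw]

/-- Two disjoint arrows in a permutation with at least four moved points. -/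
theorem two_arrows {σ : Perm Ω} (h : 4 ≤ σ.support.card) :
    ∃ u u', u ≠ σ u ∧ u' ≠ σ u' ∧ u ≠ u' ∧ u ≠ σ u' ∧ σ u ≠ u' ∧ σ u ≠ σ u' := by
  have hpos : 0 < σ.support.card := by omega
  obtain ⟨u, hu⟩ := Finset.card_pos.mp hpos
  have hc : 0 < (σ.support \ {u, σ u, σ⁻¹ u}).card := by
    have h1 := Finset.le_card_sdiff ({u, σ u, σ⁻¹ u} : Finset Ω) σ.support
    have h2 : ({u, σ u, σ⁻¹ u} : Finset Ω).card ≤ 3 := Finset.card_le_three
    omega
  obtain ⟨u', hu'⟩ := Finset.card_pos.mp hc
  rw [mem_sdiff, mem_insert, mem_insert, mem_singleton] at hu'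
  push Not at hu'
  obtain ⟨hu's, h1, h2, h3⟩ := hu'
  rw [Perm.mem_support] at hu hu's
  refine ⟨u, u', fun h => hu h.symm, fun h => hu's h.symm, h1.symm, ?_, h2.symm, ?_⟩
  · intro h
    apply h3
    rw [h, inv_app]
  · intro h
    exact h1 (σ.injective h).symm

/-- Configuration 4: two common disjoint arrows (no parity control). -/
theorem config_arrows {α β : Perm Ω} (hα : 4 ≤ α.support.card) (hβ : 4 ≤ β.support.card) :
    ∃ k : Perm Ω, 2 ≤ agr α (k * β * k⁻¹) := by
  obtain ⟨u, u', e1, e2, e3, e4, e5, e6⟩ := two_arrows hα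
  obtain ⟨w, w', d1, d2, d3, d4, d5, d6⟩ := two_arrows hβ
  let f : Ω → Ω := fun i => if i = w then u else if i = β w then α u else
    if i = w' then u' else α u'
  have fw : f w = u := by simp [f]
  have fbw : f (β w) = α u := by simp [f, d1.symm]
  have fw' : f w' = u' := by simp [f, d3.symm, d5.symm]
  have fbw' : f (β w') = α u' := by simp [f, d4.symm, d6.symm, d2.symm]
  have hf : Function.Injective (fun i : ({w, β w, w', β w'} : Finset Ω) => f i) := by
    rintro ⟨a, ha⟩ ⟨b, hb⟩ hab
    apply Subtype.ext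
    simp only at hab ⊢
    rw [mem_insert, mem_insert, mem_insert, mem_singleton] at ha hb
    rcases ha with rfl | rfl | rfl | rfl <;> rcases hb with rfl | rfl | rfl | rfl <;>
      first
      | rfl
      | (exfalso; simp only [fw, fbw, fw', fbw'] at hab; first
          | exact e1 hab | exact e1 hab.symm | exact e2 hab | exact e2 hab.symm
          | exact e3 hab | exact e3 hab.symm | exact e4 hab | exact e4 hab.symm
          | exact e5 hab | exact e5 hab.symm | exact e6 hab | exact e6 hab.symm)
  obtain ⟨k, hk⟩ := Perm.exists_extending_pair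
    (fun i : ({w, β w, w', β w'} : Finset Ω) => (i : Ω))
    (fun i : ({w, β w, w', β w'} : Finset Ω) => f i) Subtype.val_injective hf
  have kw : k w = u := by rw [← fw]; exact hk ⟨w, by simp⟩
  have kbw : k (β w) = α u := by rw [← fbw]; exact hk ⟨β w, by simp⟩
  have kw' : k w' = u' := by rw [← fw']; exact hk ⟨w', by simp⟩
  have kbw' : k (β w') = α u' := by rw [← fbw']; exact hk ⟨β w', by simp⟩
  refine ⟨k, ?_⟩
  have : ({u, u'} : Finset Ω).card = 2 := card_pair e3
  rw [← this]
  apply card_le_agr
  intro x hx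
  rw [mem_insert, mem_singleton] at hx
  rcases hx with rfl | rfl
  · rw [conj_apply_of_eq kw, kbw]
  · rw [conj_apply_of_eq kw', kbw']

end Cfsg.Agent.Lib.Helper4.AH
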