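import Mathlib
import Cfsg.Agent.Lib.Helper4.AH3

/-!
# Non-constancy of the agreement count on `A_n`-classes
-/

namespace Cfsg.Agent.Lib.Helper4.AH

open Equiv Finset

variable {Ω : Type*} [Fintype Ω] [DecidableEq Ω]

theorem even_of_commute_right {α β c₀ : Perm Ω} (hc : Perm.sign c₀ = -1)
    (hcomm : c₀ * β = β * c₀) (k : Perm Ω) :
    ∃ k' : Perm Ω, Perm.sign k' = 1 ∧ agr α (k' * β * k'⁻¹) = agr α (k * β * k⁻¹) := by
  rcases Int.units_eq_one_or (Perm.sign k) with h | h
  · exact ⟨k, h, rfl⟩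
  · refine ⟨k * c₀, by rw [map_mul, h, hc]; decide, ?_⟩
    have : k * c₀ * β * (k * c₀)⁻¹ = k * β * k⁻¹ := by
      rw [mul_inv_rev, mul_assoc k c₀ β, hcomm]
      group
    rw [this]

theorem even_of_commute_left {α β c₀ : Perm Ω} (hc : Perm.sign c₀ = -1)
    (hcomm : c₀ * α = α * c₀) (k : Perm Ω) :
    ∃ k' : Perm Ω, Perm.sign k' = 1 ∧ agr α (k' * β * k'⁻¹) = agr α (k * β * k⁻¹) := by
  rcases Int.units_eq_one_or (Perm.sign k) with h | h
  · exact ⟨k, h, rfl⟩
  · refine ⟨c₀ * k, by rw [map_mul, h, hc]; decide, ?_⟩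
    have h1 : c₀ * k * β * (c₀ * k)⁻¹ = c₀ * (k * β * k⁻¹) * c₀⁻¹ := by
      rw [mul_inv_rev]; group
    have h2 : c₀⁻¹ * α * c₀ = α := by
      rw [mul_assoc, ← hcomm]; group
    rw [h1, agr_conj, h2]

theorem exists_path_of_centralizer_le {σ : Perm Ω} (hσ : σ ≠ 1)
    (h : Subgroup.centralizer {σ} ≤ alternatingGroup Ω) : ∃ u, σ (σ u) ≠ u := by
  by_contra hcon
  push Not at hcon
  have h2 : σ ^ 2 = 1 := by
    ext u
    rw [pow_two, Perm.mul_apply, hcon, Perm.one_apply]
  have hord : orderOf σ = 2 := orderOf_eq_prime h2 hσ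
  obtain ⟨k, hk⟩ := Perm.cycleType_prime_order (σ := σ) (by rw [hord]; exact Nat.prime_two)
  rw [hord] at hk
  have hodd := (Perm.centralizer_le_alternating_iff.mp h).1 2
    (by rw [hk]; exact Multiset.mem_replicate.mpr ⟨by omega, rfl⟩)
  exact absurd hodd (by decide)

theorem exists_odd_commute {σ : Perm Ω}
    (h : ¬ Subgroup.centralizer {σ} ≤ alternatingGroup Ω) :
    ∃ c₀ : Perm Ω, Perm.sign c₀ = -1 ∧ c₀ * σ = σ * c₀ := by
  obtain ⟨τ, hτc, hτ⟩ := SetLike.not_le_iff_exists.mp h
  rw [Subgroup.mem_centralizer_singleton_iff] at hτc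
  rw [Perm.mem_alternatingGroup] at hτ
  exact ⟨τ, (Int.units_eq_one_or _).resolve_left hτ, hτc⟩

/-- Two agreements, with an even conjugator, when both supports have at least four points. -/
theorem config_big (h5 : 5 ≤ Fintype.card Ω) {α β : Perm Ω} (hα1 : α ≠ 1) (hβ1 : β ≠ 1)
    (hα : 4 ≤ α.support.card) (hβ : 4 ≤ β.support.card) :
    ∃ k : Perm Ω, Perm.sign k = 1 ∧ 2 ≤ agr α (k * β * k⁻¹) := by
  by_cases h1 : Subgroup.centralizer {α} ≤ alternatingGroup Ω
  · by_cases h2 : Subgroup.centralizer {β} ≤ alternatingGroup Ω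
    · obtain ⟨u, hu⟩ := exists_path_of_centralizer_le hα1 h1
      obtain ⟨w, hw⟩ := exists_path_of_centralizer_le hβ1 h2
      exact config_path h5 hu hw
    · obtain ⟨c₀, hc, hcomm⟩ := exists_odd_commute h2
      obtain ⟨k, hk⟩ := config_arrows hα hβ
      obtain ⟨k', hk', he⟩ := even_of_commute_right (α := α) hc hcomm k
      exact ⟨k', hk', by rw [he]; exact hk⟩
  · obtain ⟨c₀, hc, hcomm⟩ := exists_odd_commute h1
    obtain ⟨k, hk⟩ := config_arrows hα hβ
    obtain ⟨k', hk', he⟩ := even_of_commute_left (β := β) hc hcomm k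
    exact ⟨k', hk', by rw [he]; exact hk⟩

theorem no_const_of_le (h5 : 5 ≤ Fintype.card Ω) {α β : Perm Ω} (hα : α ≠ 1) (hβ : β ≠ 1)
    {c : ℕ} (hc : Const α β c) (hle : (fixF β).card ≤ (fixF α).card) : False := by
  have heq := const_eq (by omega) α β c hc
  have hfa := card_fixF_add α
  have hfb := card_fixF_add β
  have hsa := two_le_support hα
  have hsb := two_le_support hβ
  set n := Fintype.card Ω with hn
  set fa := (fixF α).card with hfa'
  set fb := (fixF β).card with hfb'
  set sa := α.support.card with hsa'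
  set sb := β.support.card with hsb'
  obtain ⟨m, hm⟩ : ∃ m, n = m + 1 := ⟨n - 1, by omega⟩
  have hm1 : n - 1 = m := by omega
  rw [hm1] at heq
  rcases Nat.lt_or_ge fb 2 with hfb2 | hfb2
  · interval_cases hfbv : fb
    · -- fb = 0
      have hsbn : sb = n := by omega
      rw [hsbn] at heq
      simp only [mul_zero, zero_mul, zero_add] at heq
      -- n * m * c = sa * n
      have h1 : m * c = sa := by
        have : n * (m * c) = n * sa := by rw [← mul_assoc, heq, mul_comm]
        exact Nat.eq_of_mul_eq_mul_left (by omega) this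
      have hc1 : c = 1 := by
        rcases Nat.lt_or_ge c 1 with h | h
        · have : c = 0 := by omega
          rw [this, mul_zero] at h1; omega
        · rcases Nat.lt_or_ge c 2 with h' | h'
          · omega
          · exfalso
            have : m * 2 ≤ m * c := Nat.mul_le_mul_left m h'
            omega
      rw [hc1, mul_one] at h1
      obtain ⟨k, hk, h2⟩ := config_big h5 hα hβ (by omega) (by omega)
      have := hc k hk
      omega
    · -- fb = 1
      have hsbm : sb = m := by omega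
      rw [hsbm] at heq
      have h1 : n * m * c = n * m := by
        rw [heq]
        have : fa * 1 * m + sa * m = (fa + sa) * m := by ring
        rw [this, hfa]
      have hc1 : c = 1 := by
        have hpos : 0 < n * m := Nat.mul_pos (by omega) (by omega)
        have : n * m * c = n * m * 1 := by rw [h1, mul_one]
        exact Nat.eq_of_mul_eq_mul_left hpos this
      have hfa1 : 0 < fa := by omega
      obtain ⟨zα, hzα⟩ := Finset.card_pos.mp hfa1
      have hfb1 : 0 < (fixF β).card := by omega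
      obtain ⟨zβ, hzβ⟩ := Finset.card_pos.mp hfb1
      obtain ⟨u, hu⟩ := exists_mem_support hα
      obtain ⟨w, hw⟩ := exists_mem_support hβ
      obtain ⟨k, hk, h2⟩ := config_fix_arrow h5 (mem_fixF.mp hzα) hu (mem_fixF.mp hzβ) hw
      have := hc k hk
      omega
  · -- fb ≥ 2
    obtain ⟨k, hk, h2⟩ := config_fix hβ hle
    rw [hc k hk] at h2
    have hsb_lt : sb < m * fb := by
      have h1 : m * 2 ≤ m * fb := Nat.mul_le_mul_left m hfb2
      omega
    have h3 : sa * sb < sa * (m * fb) := Nat.mul_lt_mul_of_pos_left hsb_lt (by omega)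
    have h4 : n * m * fb ≤ n * m * c := Nat.mul_le_mul_left _ h2
    have h5' : n * m * fb = fa * fb * m + sa * (m * fb) := by
      rw [← hfa]; ring
    omega

/-- **Main theorem**: the agreement count is not constant on the `A_n`-class of `β`. -/
theorem exists_agr_ne (h5 : 5 ≤ Fintype.card Ω) {α β : Perm Ω} (hα : α ≠ 1) (hβ : β ≠ 1) :
    ∃ k₁ k₂ : Perm Ω, Perm.sign k₁ = 1 ∧ Perm.sign k₂ = 1 ∧
      agr α (k₁ * β * k₁⁻¹) ≠ agr α (k₂ * β * k₂⁻¹) := by
  by_contra hcon
  push Not at hcon
  have hc : Const α β (agr α β) := by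
    intro k hk
    have := hcon k 1 hk (map_one _)
    simpa using this
  rcases le_total (fixF β).card (fixF α).card with h | h
  · exact no_const_of_le h5 hα hβ hc h
  · exact no_const_of_le h5 hβ hα hc.symm h

end Cfsg.Agent.Lib.Helper4.AH
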