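import Mathlib
import Cfsg.Agent.Lib.Helper4.AH4

/-!
# Fixed points of products of conjugates
-/

namespace Cfsg.Agent.Lib.Helper4.AH

open Equiv Finset

theorem card_fixedPoints_mul {Ω : Type*} [Fintype Ω] [DecidableEq Ω] (a γ : Perm Ω) :
    Nat.card (Function.fixedPoints ⇑(a * γ)) = agr a⁻¹ γ := by
  classical
  rw [Nat.card_eq_fintype_card, Fintype.card_subtype]
  unfold agr
  congr 1
  ext x
  rw [mem_filter, mem_filter]
  simp only [mem_univ, true_and, Function.mem_fixedPoints, Function.IsFixedPt, Perm.mul_apply]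
  constructor
  · intro h
    rw [← h, inv_app, h]
  · intro h
    rw [h, app_inv]

theorem exists_fixedPoints_ne {Ω : Type*} [Fintype Ω] [DecidableEq Ω]
    (h5 : 5 ≤ Fintype.card Ω) {a b : Perm Ω} (ha : a ≠ 1) (hb : b ≠ 1) :
    ∃ k₁ k₂ : Perm Ω, Perm.sign k₁ = 1 ∧ Perm.sign k₂ = 1 ∧
      Nat.card (Function.fixedPoints ⇑(a * (k₁ * b * k₁⁻¹))) ≠
        Nat.card (Function.fixedPoints ⇑(a * (k₂ * b * k₂⁻¹))) := by
  have ha' : a⁻¹ ≠ 1 := by
    intro h; apply ha; rw [← inv_inv a, h, inv_one]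
  obtain ⟨k₁, k₂, h1, h2, hne⟩ := exists_agr_ne h5 ha' hb
  refine ⟨k₁, k₂, h1, h2, ?_⟩
  rw [card_fixedPoints_mul, card_fixedPoints_mul]
  exact hne

end Cfsg.Agent.Lib.Helper4.AH
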