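import Mathlib
import Cfsg.Agent.Lib.Helper6.APFDefs

/-!
# S2276 farm, piece LF (backup copy by helper4): splitting a chunk off a cycle
-/

set_option autoImplicit false

open Equiv Equiv.Perm
open Cfsg.Agent.Lib.Helper6.APF

namespace Cfsg.Agent.Lib.Helper4.APF

theorem lf_swap_comm {Ω : Type*} [DecidableEq Ω] (b b' : Ω) (post : List Ω) (hbb' : b ≠ b')
    (hb : b ∉ post) (hb' : b' ∉ post) :
    swap b b' * (b' :: post).formPerm = (b :: post).formPerm * swap b b' := by
  cases post with
  | nil => simp
  | cons y post' =>
    rw [List.formPerm_cons_cons, List.formPerm_cons_cons]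
    have hFb : (y :: post').formPerm b = b := List.formPerm_apply_of_notMem hb
    have hFb' : (y :: post').formPerm b' = b' := List.formPerm_apply_of_notMem hb'
    have hF : (y :: post').formPerm * swap b b' = swap b b' * (y :: post').formPerm := by
      have := Equiv.swap_apply_apply (y :: post').formPerm b b'
      rw [hFb, hFb'] at this
      calc (y :: post').formPerm * swap b b'
          = ((y :: post').formPerm * swap b b' * (y :: post').formPerm⁻¹) *
              (y :: post').formPerm := by group
        _ = swap b b' * (y :: post').formPerm := by rw [← this]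
    have hyb : y ≠ b := by
      rintro rfl; exact hb (List.mem_cons_self ..)
    have hyb' : y ≠ b' := by
      rintro rfl; exact hb' (List.mem_cons_self ..)
    have hs : swap b b' * swap b' y = swap b y * swap b b' := by
      have := Equiv.swap_apply_apply (swap b b') b' y
      rw [swap_apply_right, swap_apply_of_ne_of_ne hyb hyb', swap_inv] at this
      rw [this]
      simp only [mul_assoc, swap_mul_self, mul_one]
    calc swap b b' * (swap b' y * (y :: post').formPerm)
        = (swap b b' * swap b' y) * (y :: post').formPerm := by rw [mul_assoc]
      _ = swap b y * (swap b b' * (y :: post').formPerm) := by rw [hs, mul_assoc]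
      _ = swap b y * ((y :: post').formPerm * swap b b') := by rw [hF]
      _ = swap b y * (y :: post').formPerm * swap b b' := by rw [mul_assoc]

theorem lf_base {Ω : Type*} [DecidableEq Ω] (b : Ω) (bs post : List Ω)
    (h : ((b :: bs) ++ post).Nodup) :
    ((b :: bs) ++ post).formPerm = (b :: post).formPerm * (b :: bs).formPerm := by
  induction bs generalizing b with
  | nil => simp
  | cons b' bs' ih =>
    have h0 : (b :: (b' :: (bs' ++ post))).Nodup := by simpa using h
    have h1 := List.nodup_cons.mp h0
    have hnd' : ((b' :: bs') ++ post).Nodup := by simpa using h1.2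
    have h2 := List.nodup_cons.mp h1.2
    have ih' := ih b' hnd'
    have hL : ((b :: b' :: bs') ++ post).formPerm =
        swap b b' * ((b' :: bs') ++ post).formPerm := by
      simp only [List.cons_append, List.formPerm_cons_cons]
    have hR : (b :: b' :: bs').formPerm = swap b b' * (b' :: bs').formPerm :=
      List.formPerm_cons_cons _ _ _
    have hbb' : b ≠ b' := by
      rintro rfl; exact h1.1 (List.mem_cons_self ..)
    have hb : b ∉ post := fun hx =>
      h1.1 (List.mem_cons_of_mem _ (List.mem_append_right _ hx))
    have hb' : b' ∉ post := fun hx => h2.1 (List.mem_append_right _ hx)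
    rw [hL, ih', hR, ← mul_assoc, lf_swap_comm b b' post hbb' hb hb', mul_assoc]

theorem formPerm_append_cons_append {Ω : Type*} [DecidableEq Ω] (pre : List Ω) (b : Ω) (bs post : List Ω) (h : (pre ++ (b :: bs) ++ post).Nodup) :
    (pre ++ (b :: bs) ++ post).formPerm = (pre ++ (b :: post)).formPerm * (b :: bs).formPerm := by
  induction pre with
  | nil =>
    simp only [List.nil_append]
    exact lf_base b bs post (by simpa using h)
  | cons a pre' ih =>
    have h0 : (a :: (pre' ++ (b :: bs) ++ post)).Nodup := by simpa using h
    have ih' := ih (List.nodup_cons.mp h0).2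
    cases pre' with
    | nil =>
      simp only [List.nil_append] at ih' ⊢
      simp only [List.cons_append, List.nil_append, List.formPerm_cons_cons] at ih' ⊢
      rw [ih', mul_assoc]
    | cons a' pre'' =>
      simp only [List.cons_append, List.formPerm_cons_cons] at ih' ⊢
      rw [ih', mul_assoc]

end Cfsg.Agent.Lib.Helper4.APF
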