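import Mathlib
import Cfsg.Agent.Lib.Helper6.APFDefs
import Cfsg.Agent.Lib.Helper6.APFEll
import Cfsg.Agent.Lib.Helper9.APFAR
import Cfsg.Agent.Lib.Helper3.APFT
import Cfsg.Agent.Lib.Helper4.APFLF
import Cfsg.Agent.Lib.Helper6.APFCH

/-!
# S2276 farm, piece A: `coreA`
-/

set_option autoImplicit false

open Equiv Equiv.Perm
open Cfsg.Agent.Lib.Helper6.APF

namespace Cfsg.Agent.Lib.Helper4.APF

theorem apfA_even_sum (l : List ℕ) (h : ∀ b ∈ l, Odd b) :
    Even (l.map (fun b => b - 1)).sum := by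
  induction l with
  | nil => simp
  | cons b l ih =>
    rw [List.map_cons, List.sum_cons]
    have hb : Odd b := h b (List.mem_cons_self ..)
    have h1 : Even (b - 1) := by
      obtain ⟨k, rfl⟩ := hb
      exact ⟨k, by omega⟩
    exact h1.add (ih (fun b hb => h b (List.mem_cons_of_mem _ hb)))

theorem apfA_cycleType_formPerm {Ω : Type*} [DecidableEq Ω] [Fintype Ω] (l : List Ω)
    (hl : l.Nodup) (hn : 2 ≤ l.length) : (l.formPerm).cycleType = {l.length} := by
  have hcyc := List.isCycle_formPerm hl hn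
  rw [hcyc.cycleType, List.support_formPerm_of_nodup l hl (by
    intro x hx; rw [hx] at hn; simp at hn), List.toFinset_card_of_nodup hl]

theorem apfA_list {Ω : Type*} [DecidableEq Ω] [Fintype Ω] (c : Perm Ω) (hc : c.IsCycle) (x₀ : Ω)
    (hx₀ : x₀ ∈ c.support) (μ : ℕ) (hμ1 : 1 ≤ μ) (hμm : μ ≤ c.support.card) :
    ∃ (bs R : List Ω), (x₀ :: bs ++ R).Nodup ∧ (x₀ :: bs ++ R).formPerm = c ∧
      (x₀ :: bs).length = μ ∧ R.length = c.support.card - μ ∧
      (∀ i (hi : i < (x₀ :: bs).length), (x₀ :: bs)[i] = ell c x₀ i) ∧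
      (∀ x, x ∈ (x₀ :: bs ++ R) ↔ x ∈ c.support) := by
  have hx₀ne : c x₀ ≠ x₀ := mem_support.mp hx₀
  have hcyc : c.cycleOf x₀ = c := hc.cycleOf_eq hx₀ne
  obtain ⟨L, hL⟩ : ∃ L, L = c.toList x₀ := ⟨_, rfl⟩
  have hLnd : L.Nodup := hL ▸ nodup_toList c x₀
  have hLlen : L.length = c.support.card := by rw [hL, length_toList, hcyc]
  have hLform : L.formPerm = c := by rw [hL, formPerm_toList, hcyc]
  have hLget : ∀ i (hi : i < L.length), L[i] = ell c x₀ i := by
    intro i hi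
    subst hL
    exact getElem_toList c x₀ i hi
  have hLmem : ∀ x, x ∈ L ↔ x ∈ c.support := by
    intro x
    constructor
    · intro hx
      obtain ⟨i, hi, rfl⟩ := List.getElem_of_mem hx
      rw [hLget i hi]
      exact ell_mem_support c hc x₀ hx₀ i
    · intro hx
      rw [hL, mem_toList_iff]
      exact ⟨hc.sameCycle hx₀ne (mem_support.mp hx), hx₀⟩
  obtain ⟨chunk, hchunk⟩ : ∃ chunk, chunk = L.take μ := ⟨_, rfl⟩
  have hsplit : chunk ++ L.drop μ = L := by rw [hchunk]; exact List.take_append_drop μ L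
  have hchunklen : chunk.length = μ := by rw [hchunk, List.length_take, hLlen]; omega
  have hchunkget : ∀ i (hi : i < chunk.length), chunk[i] = ell c x₀ i := by
    intro i hi
    subst hchunk
    rw [List.getElem_take]
    exact hLget i _
  cases chunk with
  | nil => simp at hchunklen; omega
  | cons hd bs =>
    have hhd : hd = x₀ := by
      have := hchunkget 0 (by simp)
      simpa [ell_zero] using this
    subst hhd
    refine ⟨bs, L.drop μ, ?_, ?_, hchunklen, ?_, hchunkget, ?_⟩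
    · rw [hsplit]; exact hLnd
    · rw [hsplit]; exact hLform
    · rw [List.length_drop, hLlen]
    · intro x; rw [hsplit]; exact hLmem x

theorem coreA {Ω : Type*} [DecidableEq Ω] [Fintype Ω] (p : ℕ) (hp : p.Prime) (hp2 : p ≠ 2) (c : Perm Ω) (hc : c.IsCycle) (hodd : Odd c.support.card)
    (β : Multiset ℕ) (hβ : ∀ b ∈ β, Odd b ∧ 2 ≤ b) (μ : ℕ) (hμ : μ ∈ β) (hμ5 : 5 ≤ μ) (hsum : β.sum ≤ c.support.card) :
    ∃ v : Perm Ω, v.cycleType = β ∧ (∀ x, x ∉ c.support → v x = x) ∧ Good p c v := by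
  classical
  obtain ⟨x₀, hx₀ne, -⟩ := id hc
  have hx₀ : x₀ ∈ c.support := mem_support.mpr hx₀ne
  obtain ⟨β', hββ'⟩ := Multiset.exists_cons_of_mem hμ
  have hβsum : β.sum = μ + β'.sum := by rw [hββ', Multiset.sum_cons]
  have hμm : μ ≤ c.support.card := by omega
  have hm5 : 5 ≤ c.support.card := by omega
  obtain ⟨bs, R, hnd, hform, hlen, hRlen, hget, hmem⟩ :=
    apfA_list c hc x₀ hx₀ μ (by omega) hμm
  have hndapp := List.nodup_append.mp hnd
  have hchunknd : (x₀ :: bs).Nodup := hndapp.1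
  have hdisjCR : ∀ x, x ∈ (x₀ :: bs) → x ∉ R := fun x hx hxR => hndapp.2.2 x hx x hxR rfl
  have hellchunk : ∀ i, i < μ → ell c x₀ i ∈ (x₀ :: bs) := by
    intro i hi
    have hi' : i < (x₀ :: bs).length := by omega
    rw [← hget i hi']
    exact List.getElem_mem _
  -- LF
  have hLF := formPerm_append_cons_append [] x₀ bs R (by simpa using hnd)
  simp only [List.nil_append] at hLF
  -- CH
  have hsub : ([x₀] ++ R).Sublist (x₀ :: bs ++ R) :=
    List.Sublist.append (List.singleton_sublist.mpr (List.mem_cons_self ..)) (List.Sublist.refl R)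
  have hndR : ([x₀] ++ R).Nodup := hnd.sublist hsub
  have hβ'2 : ∀ b ∈ β'.toList, 2 ≤ b := by
    intro b hb
    exact (hβ b (by rw [hββ']; exact Multiset.mem_cons_of_mem (Multiset.mem_toList.mp hb))).2
  have hβ'odd : ∀ b ∈ β'.toList, Odd b := by
    intro b hb
    exact (hβ b (by rw [hββ']; exact Multiset.mem_cons_of_mem (Multiset.mem_toList.mp hb))).1
  obtain ⟨v₀', K, hCH, hv₀'ct, hKsub, hKlen, hv₀'fix⟩ :=
    exists_factor_of_chunks β'.toList hβ'2 [x₀] R hndR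
      (by rw [Multiset.sum_toList, hRlen]; omega)
  rw [Multiset.coe_toList] at hv₀'ct
  obtain ⟨κ, hκ⟩ : ∃ κ, κ = ([x₀] ++ K).formPerm := ⟨_, rfl⟩
  obtain ⟨ζ₁, hζ₁⟩ : ∃ ζ₁, ζ₁ = (x₀ :: bs).formPerm := ⟨_, rfl⟩
  have hcκ : c = κ * (v₀' * ζ₁) := by
    rw [← hform, hLF, show (x₀ :: R) = [x₀] ++ R from rfl, hCH, ← hκ, ← hζ₁, mul_assoc]
  have hζ₁fix : ∀ x, x ∉ (x₀ :: bs) → ζ₁ x = x := by
    intro x hx; rw [hζ₁]; exact List.formPerm_apply_of_notMem hx
  have hζ₁ell : ∀ i, i + 1 < μ → ζ₁ (ell c x₀ i) = ell c x₀ (i + 1) := by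
    intro i hi
    have h1 : i + 1 < (x₀ :: bs).length := by omega
    rw [← hget i (by omega), ← hget (i + 1) h1, hζ₁]
    exact List.formPerm_apply_lt_getElem _ hchunknd i h1
  have hζ₁ct : ζ₁.cycleType = {μ} := by
    rw [hζ₁, apfA_cycleType_formPerm _ hchunknd (by omega), hlen]
  have hdisj : Disjoint v₀' ζ₁ := by
    intro x
    by_cases hx : x ∈ R
    · right; exact hζ₁fix x (fun h => hdisjCR x h hx)
    · left; exact hv₀'fix x hx
  have hv₀ct : (v₀' * ζ₁).cycleType = β := by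
    rw [hdisj.cycleType_mul, hv₀'ct, hζ₁ct, hββ', add_comm, Multiset.singleton_add]
  have hv₀ell : ∀ i, i + 1 < μ → (v₀' * ζ₁) (ell c x₀ i) = ell c x₀ (i + 1) := by
    intro i hi
    rw [Perm.mul_apply, hζ₁ell i hi]
    exact hv₀'fix _ (hdisjCR _ (hellchunk (i + 1) hi))
  have hKnd : ([x₀] ++ K).Nodup :=
    hndR.sublist (List.Sublist.append (List.Sublist.refl _) hKsub)
  have hκpow : κ ^ (K.length + 1) = 1 := by
    have := List.formPerm_pow_length_eq_one_of_nodup _ hKnd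
    rw [← hκ] at this
    simpa [add_comm] using this
  have hκfix : ∀ i, 1 ≤ i → i < μ → κ (ell c x₀ i) = ell c x₀ i := by
    intro i hi1 hi
    rw [hκ]
    apply List.formPerm_apply_of_notMem
    rw [List.mem_append, List.mem_singleton]
    rintro (h | h)
    · have := ell_ne c hc x₀ hx₀ (i := 0) (j := i) (by omega) (by omega)
      rw [ell_zero] at this
      exact this h.symm
    · exact hdisjCR _ (hellchunk i hi) (hKsub.subset h)
  have hkodd : Odd (K.length + 1) := by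
    have heven := apfA_even_sum β'.toList hβ'odd
    have hμodd : Odd μ := (hβ μ hμ).1
    rw [hRlen] at hKlen
    rw [Nat.odd_iff] at hodd hμodd ⊢
    rw [Nat.even_iff] at heven
    omega
  have hne : ∀ i j, i < j → j < 5 → ell c x₀ i ≠ ell c x₀ j := by
    intro i j hij hj
    exact ell_ne c hc x₀ hx₀ hij (by omega)
  have hv1 : (v₀' * ζ₁) (ell c x₀ 1) = ell c x₀ 2 := hv₀ell 1 (by omega)
  have hv3 : (v₀' * ζ₁) (ell c x₀ 3) = ell c x₀ 4 := hv₀ell 3 (by omega)
  obtain ⟨hT1, hT2, hT3⟩ := Cfsg.Agent.Lib.Helper3.APF.core_mech p hp hp2 c κ (v₀' * ζ₁) hcκ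
    (K.length + 1) hkodd hκpow
    (ell c x₀ 1) (ell c x₀ 3) (hne 1 3 (by omega) (by omega))
    (by rw [hv1]; exact (hne 1 2 (by omega) (by omega)).symm)
    (by rw [hv1]; exact hne 2 3 (by omega) (by omega))
    (by rw [hv3]; exact (hne 1 4 (by omega) (by omega)).symm)
    (by rw [hv3]; exact (hne 3 4 (by omega) (by omega)).symm)
    (hκfix 1 (by omega) (by omega)) (hκfix 3 (by omega) (by omega))
    (by rw [hv1]; exact hκfix 2 (by omega) (by omega))
    (by rw [hv3]; exact hκfix 4 (by omega) (by omega))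
  rw [hv1, hv3] at hT3
  obtain ⟨v, hv⟩ : ∃ v, v = swap (ell c x₀ 1) (ell c x₀ 3) * (v₀' * ζ₁)⁻¹ *
      swap (ell c x₀ 1) (ell c x₀ 3) := ⟨_, rfl⟩
  rw [← hv] at hT1 hT2 hT3
  refine ⟨v, ?_, ?_, ?_⟩
  · have hv' : v = swap (ell c x₀ 1) (ell c x₀ 3) * (v₀' * ζ₁)⁻¹ *
        (swap (ell c x₀ 1) (ell c x₀ 3))⁻¹ := by
      rw [hv, swap_inv]
    rw [hv', cycleType_conj, cycleType_inv, hv₀ct]
  · intro x hx
    have hxL : x ∉ (x₀ :: bs ++ R) := fun h => hx ((hmem x).mp h)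
    have hx1 : x ∉ (x₀ :: bs) := fun h => hxL (List.mem_append_left _ h)
    have hx2 : x ∉ R := fun h => hxL (List.mem_append_right _ h)
    have hsw : swap (ell c x₀ 1) (ell c x₀ 3) x = x :=
      swap_ell_apply_of_notMem c hc x₀ hx₀ hx 1 3
    have hv₀x : (v₀' * ζ₁) x = x := by rw [Perm.mul_apply, hζ₁fix x hx1, hv₀'fix x hx2]
    have hv₀ix : (v₀' * ζ₁)⁻¹ x = x := by rw [Perm.inv_eq_iff_eq]; exact hv₀x.symm
    rw [hv, Perm.mul_apply, Perm.mul_apply, hsw, hv₀ix, hsw]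
  · unfold Good
    refine ⟨hT2, ?_⟩
    have hcH : c ∈ Subgroup.closure ({c, v} : Set (Perm Ω)) :=
      Subgroup.subset_closure (by simp)
    have h13 : c * swap (ell c x₀ 1) (ell c x₀ 3) * c⁻¹ = swap (ell c x₀ 2) (ell c x₀ 4) :=
      conj_swap_ell c x₀ 1 3
    have h24 : c * swap (ell c x₀ 2) (ell c x₀ 4) * c⁻¹ = swap (ell c x₀ 3) (ell c x₀ 5) :=
      conj_swap_ell c x₀ 2 4
    have hconj : c * (swap (ell c x₀ 1) (ell c x₀ 3) * swap (ell c x₀ 2) (ell c x₀ 4)) * c⁻¹ =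
        swap (ell c x₀ 2) (ell c x₀ 4) * swap (ell c x₀ 3) (ell c x₀ 5) := by
      calc c * (swap (ell c x₀ 1) (ell c x₀ 3) * swap (ell c x₀ 2) (ell c x₀ 4)) * c⁻¹
          = (c * swap (ell c x₀ 1) (ell c x₀ 3) * c⁻¹) *
              (c * swap (ell c x₀ 2) (ell c x₀ 4) * c⁻¹) := by group
        _ = _ := by rw [h13, h24]
    have hconjH : swap (ell c x₀ 2) (ell c x₀ 4) * swap (ell c x₀ 3) (ell c x₀ 5) ∈
        Subgroup.closure ({c, v} : Set (Perm Ω)) := by
      rw [← hconj]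
      exact Subgroup.mul_mem _ (Subgroup.mul_mem _ hcH hT3) (Subgroup.inv_mem _ hcH)
    have hprod : swap (ell c x₀ 1) (ell c x₀ 3) * swap (ell c x₀ 3) (ell c x₀ 5) ∈
        Subgroup.closure ({c, v} : Set (Perm Ω)) := by
      have := Subgroup.mul_mem _ hT3 hconjH
      have heq : swap (ell c x₀ 1) (ell c x₀ 3) * swap (ell c x₀ 2) (ell c x₀ 4) *
          (swap (ell c x₀ 2) (ell c x₀ 4) * swap (ell c x₀ 3) (ell c x₀ 5)) =
          swap (ell c x₀ 1) (ell c x₀ 3) * swap (ell c x₀ 3) (ell c x₀ 5) := by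
        rw [mul_assoc, ← mul_assoc (swap (ell c x₀ 2) (ell c x₀ 4)), swap_mul_self, one_mul]
      rwa [heq] at this
    exact Cfsg.Agent.Lib.Helper9.APF.not_solvable_of_cycle_three c hc hm5 hodd x₀ hx₀ _ hcH hprod

end Cfsg.Agent.Lib.Helper4.APF
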