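import Mathlib
import Cfsg.Agent.Lib.Helper6.APFDefs

/-!
# S2276 farm, piece EX: completing a permutation supported in `S` to a conjugate of `w`
-/

set_option autoImplicit false

open Equiv Equiv.Perm
open Cfsg.Agent.Lib.Helper6.APF

namespace Cfsg.Agent.Lib.Helper4.APF

theorem exists_conj_eq_mul {Ω : Type*} [DecidableEq Ω] [Fintype Ω] (w v : Perm Ω) (S : Finset Ω) (hv : ∀ x, x ∉ S → v x = x) (hle : v.cycleType ≤ w.cycleType)
    (hcard : S.card - v.cycleType.sum ≤ Fintype.card Ω - w.cycleType.sum) : ∃ g wr : Perm Ω, (∀ x, x ∈ S → wr x = x) ∧ g * w * g⁻¹ = v * wr := by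
  classical
  set γ := w.cycleType - v.cycleType with hγ
  have hvS : v.cycleType.sum ≤ S.card := by
    rw [sum_cycleType]
    apply Finset.card_le_card
    intro x hx
    rw [mem_support] at hx
    by_contra hxS
    exact hx (hv x hxS)
  have hwle : w.cycleType.sum ≤ Fintype.card Ω := sum_cycleType_le w
  have hγsum : γ.sum + v.cycleType.sum = w.cycleType.sum := by
    rw [← Multiset.sum_add, hγ, tsub_add_cancel_of_le hle]
  have hSle : S.card ≤ Fintype.card Ω := Finset.card_le_univ S
  have hcardT : Fintype.card {x // x ∉ S} = Fintype.card Ω - S.card := by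
    rw [Fintype.card_subtype_compl, Fintype.card_coe]
  have hγ2 : ∀ a ∈ γ, 2 ≤ a := by
    intro a ha
    have : a ∈ w.cycleType := Multiset.mem_of_le (Multiset.sub_le_self _ _) ha
    exact two_le_of_mem_cycleType this
  obtain ⟨σ, hσ⟩ := (Equiv.Perm.exists_with_cycleType_iff {x // x ∉ S}).mpr
    ⟨by rw [hcardT]; omega, hγ2⟩
  set wr : Perm Ω := ofSubtype σ with hwr
  have hwrS : ∀ x, x ∈ S → wr x = x := by
    intro x hx
    exact ofSubtype_apply_of_not_mem σ (by simpa using hx)
  have hdisj : Disjoint v wr := by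
    intro x
    by_cases hx : x ∈ S
    · right; exact hwrS x hx
    · left; exact hv x hx
  have hct : (v * wr).cycleType = w.cycleType := by
    rw [hdisj.cycleType_mul, hwr, cycleType_ofSubtype, hσ, hγ, add_tsub_cancel_of_le hle]
  have hconj : IsConj w (v * wr) := isConj_iff_cycleType_eq.mpr hct.symm
  obtain ⟨g, hg⟩ := isConj_iff.mp hconj
  exact ⟨g, wr, hwrS, hg⟩

end Cfsg.Agent.Lib.Helper4.APF
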