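import Mathlib
import Cfsg.Agent.Lib.Helper6.APFDefs

/-!
# S2276 farm, piece PK: packing powers of `p` (multiset arithmetic)
-/

set_option autoImplicit false

open Equiv Equiv.Perm
open Cfsg.Agent.Lib.Helper6.APF

namespace Cfsg.Agent.Lib.Helper4.APF

theorem pk_sum_le_of_le {M N : Multiset ℕ} (h : M ≤ N) : M.sum ≤ N.sum := by
  obtain ⟨u, rfl⟩ := Multiset.le_iff_exists_add.mp h
  rw [Multiset.sum_add]
  exact Nat.le_add_right _ _

theorem exists_sub_sum_eq (p : ℕ) (hp : 2 ≤ p) (a : ℕ) (M : Multiset ℕ) (hM : ∀ x ∈ M, ∃ i, i ≤ a ∧ x = p ^ i) (t : ℕ) (ht : t * p ^ a ≤ M.sum) : ∃ M', M' ≤ M ∧ M'.sum = t * p ^ a := by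
  induction a generalizing M t with
  | zero =>
    have hM1 : M = Multiset.replicate (Multiset.card M) 1 := by
      rw [Multiset.eq_replicate]
      refine ⟨rfl, ?_⟩
      intro x hx
      obtain ⟨i, hi, rfl⟩ := hM x hx
      have : i = 0 := by omega
      subst this
      simp
    have hsum : M.sum = Multiset.card M := by
      conv_lhs => rw [hM1]
      simp
    refine ⟨Multiset.replicate t 1, ?_, by simp⟩
    rw [hM1]
    apply Multiset.replicate_le_replicate 1 |>.mpr
    rw [hsum] at ht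
    simpa using ht
  | succ a ih =>
    set q := p ^ (a + 1) with hq
    have hsplit : M.filter (· = q) + M.filter (fun x => ¬ x = q) = M :=
      Multiset.filter_add_not _ _
    have hM1 : M.filter (· = q) = Multiset.replicate (M.count q) q := Multiset.filter_eq' M q
    set r := M.count q with hr
    have hsum1 : (M.filter (· = q)).sum = r * q := by
      rw [hM1]; simp
    have hsumM : M.sum = r * q + (M.filter (fun x => ¬ x = q)).sum := by
      conv_lhs => rw [← hsplit]
      rw [Multiset.sum_add, hsum1]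
    by_cases htr : t ≤ r
    · refine ⟨Multiset.replicate t q, ?_, by simp⟩
      calc Multiset.replicate t q ≤ Multiset.replicate r q :=
            (Multiset.replicate_le_replicate q).mpr htr
        _ = M.filter (· = q) := hM1.symm
        _ ≤ M := Multiset.filter_le _ _
    · have htr' : r < t := by omega
      have hM2 : ∀ x ∈ M.filter (fun x => ¬ x = q), ∃ i, i ≤ a ∧ x = p ^ i := by
        intro x hx
        rw [Multiset.mem_filter] at hx
        obtain ⟨i, hi, rfl⟩ := hM x hx.1
        refine ⟨i, ?_, rfl⟩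
        by_contra hia
        have : i = a + 1 := by omega
        subst this
        exact hx.2 rfl
      have hqq : q = p * p ^ a := by rw [hq, pow_succ, mul_comm]
      have ht2 : (t - r) * p * p ^ a ≤ (M.filter (fun x => ¬ x = q)).sum := by
        have h1 : (t - r) * p * p ^ a = (t - r) * q := by rw [hqq, mul_assoc]
        rw [h1, Nat.sub_mul]
        omega
      obtain ⟨M'', hM''le, hM''sum⟩ := ih (M.filter (fun x => ¬ x = q)) hM2 ((t - r) * p) ht2
      refine ⟨M.filter (· = q) + M'', ?_, ?_⟩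
      · calc M.filter (· = q) + M'' ≤ M.filter (· = q) + M.filter (fun x => ¬ x = q) :=
              by gcongr
          _ = M := hsplit
      · rw [Multiset.sum_add, hsum1, hM''sum]
        have h1 : (t - r) * p * p ^ a = (t - r) * q := by rw [hqq, mul_assoc]
        rw [h1, ← Nat.add_mul]
        congr 1
        omega

theorem exists_pack {Ω : Type*} [DecidableEq Ω] [Fintype Ω] (p : ℕ) (hp : p.Prime) (w : Perm Ω) (hw : w ≠ 1) (hw' : ∃ k : ℕ, orderOf w = p ^ k) (a : ℕ)
    (hmax : ∀ b ∈ w.cycleType, b ≤ p ^ a) (hn : p ^ a ≤ Fintype.card Ω) :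
    ∃ (β : Multiset ℕ) (μ : ℕ), β ≤ w.cycleType ∧ μ ∈ β ∧ (∀ b ∈ w.cycleType, b ≤ μ) ∧ β.sum ≤ p ^ a ∧ p ^ a - β.sum ≤ Fintype.card Ω - w.cycleType.sum := by
  obtain ⟨k, hk⟩ := hw'
  have hp2 : 2 ≤ p := hp.two_le
  have hpow : ∀ b ∈ w.cycleType, ∃ i, 1 ≤ i ∧ b = p ^ i := by
    intro b hb
    have hdvd : b ∣ p ^ k := hk ▸ dvd_of_mem_cycleType hb
    obtain ⟨i, hik, rfl⟩ := (Nat.dvd_prime_pow hp).mp hdvd
    refine ⟨i, ?_, rfl⟩
    have h2 := two_le_of_mem_cycleType hb
    by_contra h0
    have : i = 0 := by omega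
    subst this
    simp at h2
  have hne : w.cycleType ≠ 0 := by
    rwa [Ne, cycleType_eq_zero]
  obtain ⟨μ, hμmem, hμmax⟩ : ∃ μ ∈ w.cycleType, ∀ b ∈ w.cycleType, b ≤ μ := by
    have hne' : w.cycleType.toFinset.Nonempty := by
      rw [Multiset.toFinset_nonempty]; exact hne
    obtain ⟨μ, hμ, hmax'⟩ := w.cycleType.toFinset.exists_max_image id hne'
    exact ⟨μ, Multiset.mem_toFinset.mp hμ, fun b hb => hmax' b (Multiset.mem_toFinset.mpr hb)⟩
  obtain ⟨b₀, hb₀1, hμeq⟩ := hpow μ hμmem
  have hb₀a : b₀ ≤ a := by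
    have := hmax μ hμmem
    rw [hμeq] at this
    exact (Nat.pow_le_pow_iff_right (by omega)).mp this
  set f := Fintype.card Ω - w.cycleType.sum with hf
  have hsumle : w.cycleType.sum ≤ Fintype.card Ω := sum_cycleType_le w
  set M := w.cycleType.erase μ + Multiset.replicate f 1 with hMdef
  have hMpow : ∀ x ∈ M, ∃ i, i ≤ b₀ ∧ x = p ^ i := by
    intro x hx
    rw [hMdef, Multiset.mem_add] at hx
    rcases hx with hx | hx
    · have hx' := Multiset.mem_of_mem_erase hx
      obtain ⟨i, _, rfl⟩ := hpow x hx'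
      refine ⟨i, ?_, rfl⟩
      have := hμmax _ hx'
      rw [hμeq] at this
      exact (Nat.pow_le_pow_iff_right (by omega)).mp this
    · rw [Multiset.mem_replicate] at hx
      exact ⟨0, Nat.zero_le _, by simp [hx.2]⟩
  have hsumerase : (w.cycleType.erase μ).sum + μ = w.cycleType.sum := by
    conv_rhs => rw [← Multiset.cons_erase hμmem]
    rw [Multiset.sum_cons, add_comm]
  have hMsum : M.sum = Fintype.card Ω - μ := by
    rw [hMdef, Multiset.sum_add, Multiset.sum_replicate, smul_eq_mul, mul_one]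
    omega
  have hpa : p ^ a = p ^ (a - b₀) * p ^ b₀ := by
    rw [← pow_add]; congr 1; omega
  have hpos : 1 ≤ p ^ (a - b₀) := Nat.one_le_pow _ _ (by omega)
  have hμle : μ ≤ p ^ a := hmax μ hμmem
  have ht : (p ^ (a - b₀) - 1) * p ^ b₀ ≤ M.sum := by
    rw [hMsum, Nat.sub_mul, one_mul, ← hpa, ← hμeq]
    omega
  obtain ⟨M'', hM''le, hM''sum⟩ := exists_sub_sum_eq p hp2 b₀ M hMpow _ ht
  have hM''sum' : M''.sum + μ = p ^ a := by
    rw [hM''sum, Nat.sub_mul, one_mul, ← hpa, ← hμeq]
    omega
  refine ⟨μ ::ₘ M''.filter (2 ≤ ·), μ, ?_, Multiset.mem_cons_self _ _, hμmax, ?_, ?_⟩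
  · have h1 : M''.filter (2 ≤ ·) ≤ M.filter (2 ≤ ·) := Multiset.filter_le_filter _ hM''le
    have h2 : M.filter (2 ≤ ·) = w.cycleType.erase μ := by
      rw [hMdef, Multiset.filter_add]
      have h3 : (Multiset.replicate f 1).filter (2 ≤ ·) = 0 := by
        rw [Multiset.filter_eq_nil]
        intro x hx
        rw [Multiset.mem_replicate] at hx
        omega
      have h4 : (w.cycleType.erase μ).filter (2 ≤ ·) = w.cycleType.erase μ := by
        rw [Multiset.filter_eq_self]
        intro x hx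
        exact two_le_of_mem_cycleType (Multiset.mem_of_mem_erase hx)
      rw [h3, h4, add_zero]
    rw [h2] at h1
    calc μ ::ₘ M''.filter (2 ≤ ·) ≤ μ ::ₘ w.cycleType.erase μ := (Multiset.cons_le_cons_iff _).mpr h1
      _ = w.cycleType := Multiset.cons_erase hμmem
  · rw [Multiset.sum_cons]
    have : (M''.filter (2 ≤ ·)).sum ≤ M''.sum := pk_sum_le_of_le (Multiset.filter_le _ _)
    omega
  · rw [Multiset.sum_cons]
    have hsplit : M''.filter (2 ≤ ·) + M''.filter (fun x => ¬ 2 ≤ x) = M'' :=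
      Multiset.filter_add_not _ _
    have hs : (M''.filter (2 ≤ ·)).sum + (M''.filter (fun x => ¬ 2 ≤ x)).sum = M''.sum := by
      rw [← Multiset.sum_add, hsplit]
    have h5 : M''.filter (fun x => ¬ 2 ≤ x) ≤ M.filter (fun x => ¬ 2 ≤ x) :=
      Multiset.filter_le_filter _ hM''le
    have h6 : M.filter (fun x => ¬ 2 ≤ x) = Multiset.replicate f 1 := by
      rw [hMdef, Multiset.filter_add]
      have h3 : (Multiset.replicate f 1).filter (fun x => ¬ 2 ≤ x) = Multiset.replicate f 1 := by
        rw [Multiset.filter_eq_self]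
        intro x hx
        rw [Multiset.mem_replicate] at hx
        omega
      have h4 : (w.cycleType.erase μ).filter (fun x => ¬ 2 ≤ x) = 0 := by
        rw [Multiset.filter_eq_nil]
        intro x hx
        have := two_le_of_mem_cycleType (Multiset.mem_of_mem_erase hx)
        omega
      rw [h3, h4, zero_add]
    have h7 : (M''.filter (fun x => ¬ 2 ≤ x)).sum ≤ f := by
      have := pk_sum_le_of_le h5
      rw [h6] at this
      simpa using this
    omega

end Cfsg.Agent.Lib.Helper4.APF
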