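import Mathlib
import Cfsg.Agent.Lib.Helper1.ClassTwo
import Cfsg.Agent.Lib.Helper1.Rk3

/-! Groups of order `p^4`: derived subgroup of order `p` iff centre of index `p^2`. -/

open scoped commutatorElement

namespace Cfsg.Agent.Lib.Helper4.POrd4

open Cfsg.Agent.Lib.Helper1

variable {P : Type*} [Group P] [Finite P] {p : ℕ} [hp : Fact p.Prime]

theorem card_sub_pow {n : ℕ} (hP : Nat.card P = p ^ n) (H : Subgroup P) :
    ∃ i ≤ n, Nat.card H = p ^ i := by
  have := H.card_subgroup_dvd_card
  rw [hP] at this
  exact (Nat.dvd_prime_pow hp.out).mp this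

theorem relIndex_mul_card' {D C : Subgroup P} (h : D ≤ C) :
    D.relIndex C * Nat.card D = Nat.card C := by
  have h1 := Subgroup.card_mul_index (D.subgroupOf C)
  rw [Nat.card_congr (Subgroup.subgroupOfEquivOfLe h).toEquiv] at h1
  rw [Subgroup.relIndex, mul_comm]
  exact h1

theorem comm_of_relIndex_dvd (C D : Subgroup P) (hDC : D ≤ C)
    (hcent : ∀ d ∈ D, ∀ c ∈ C, d * c = c * d) (hidx : D.relIndex C ∣ p) :
    ∀ u ∈ C, ∀ v ∈ C, u * v = v * u := by
  have hD' : D.subgroupOf C ≤ Subgroup.center C := by
    intro d hd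
    rw [Subgroup.mem_center_iff]
    intro c
    apply Subtype.ext
    have := hcent d.1 (Subgroup.mem_subgroupOf.mp hd) c.1 c.2
    simpa using this.symm
  have h1 : (Subgroup.center C).index ∣ p :=
    (Subgroup.index_dvd_of_le hD').trans hidx
  haveI : IsCyclic (C ⧸ Subgroup.center C) := by
    apply isCyclic_of_card_dvd_prime (p := p)
    rw [← Subgroup.index_eq_card]
    exact h1
  intro u hu v hv
  have := commutative_of_cyclic_center_quotient (QuotientGroup.mk' (Subgroup.center C))
    (by rw [QuotientGroup.ker_mk']) ⟨u, hu⟩ ⟨v, hv⟩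
  exact congrArg Subtype.val this

/-- The "centre" of a subgroup, as a subgroup of the big group. -/
theorem sub_abelian_of_card (C : Subgroup P) (Z : Subgroup P) {i j : ℕ} (hZC : Z ≤ C)
    (hZ : ∀ z ∈ Z, ∀ c ∈ C, z * c = c * z) (x : P) (hxC : x ∈ C)
    (hx : ∀ c ∈ C, x * c = c * x) (hxZ : x ∉ Z)
    (hZcard : Nat.card Z = p ^ i) (hCcard : Nat.card C = p ^ j) (hij : j ≤ i + 2)
    (hP : ∃ n, Nat.card P = p ^ n) :
    ∀ u ∈ C, ∀ v ∈ C, u * v = v * u := by
  obtain ⟨n, hP⟩ := hP
  set D : Subgroup P := Subgroup.centralizer (C : Set P) ⊓ C with hD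
  have hDC : D ≤ C := inf_le_right
  have hZD : Z ≤ D := by
    intro z hz
    refine Subgroup.mem_inf.mpr ⟨?_, hZC hz⟩
    rw [Subgroup.mem_centralizer_iff]
    intro c hc
    exact (hZ z hz c hc).symm
  have hxD : x ∈ D := by
    refine Subgroup.mem_inf.mpr ⟨?_, hxC⟩
    rw [Subgroup.mem_centralizer_iff]
    intro c hc
    exact (hx c hc).symm
  have hZD' : Z < D := lt_of_le_of_ne hZD (fun h => hxZ (h ▸ hxD))
  obtain ⟨k, -, hk⟩ := card_sub_pow hP D
  have h1 : Nat.card Z < Nat.card D := by
    by_contra hcon
    exact absurd (Subgroup.eq_of_le_of_card_ge hZD (not_lt.mp hcon)) hZD'.ne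
  rw [hZcard, hk] at h1
  have hik : i < k := (Nat.pow_lt_pow_iff_right hp.out.one_lt).mp h1
  have h2 := relIndex_mul_card' hDC
  rw [hk, hCcard] at h2
  have hkj : k ≤ j := by
    have : p ^ k ∣ p ^ j := Dvd.intro_left _ h2
    exact (Nat.pow_dvd_pow_iff_le_right hp.out.one_lt).mp this
  have h3 : D.relIndex C = p ^ (j - k) := by
    have : p ^ j = p ^ (j - k) * p ^ k := by rw [← pow_add, Nat.sub_add_cancel hkj]
    rw [this] at h2
    exact Nat.eq_of_mul_eq_mul_right (pow_pos hp.out.pos k) h2
  have h4 : D.relIndex C ∣ p := by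
    rw [h3]
    have : j - k ≤ 1 := by omega
    calc p ^ (j - k) ∣ p ^ 1 := pow_dvd_pow p this
      _ = p := pow_one p
  refine comm_of_relIndex_dvd C D hDC ?_ h4
  intro d hd c hc
  have := Subgroup.mem_centralizer_iff.mp hd.1 c hc
  exact this.symm

/-- In a class two group with derived subgroup of order dividing `p`, centralizers of elements
have index dividing `p`. -/
theorem index_centralizer_dvd (hcc : CommCentral P) (hc : Nat.card (commutator P) ∣ p) (x : P) :
    (Subgroup.centralizer ({x} : Set P)).index ∣ p := by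
  let φ : P →* P :=
    { toFun := fun y => ⁅x, y⁆
      map_one' := by simp [commutatorElement_def]
      map_mul' := fun y z => hcc.comm_mul_right x y z }
  have hker : φ.ker = Subgroup.centralizer ({x} : Set P) := by
    ext y
    rw [MonoidHom.mem_ker, Subgroup.mem_centralizer_singleton_iff]
    change ⁅x, y⁆ = 1 ↔ _
    rw [commutatorElement_eq_one_iff_mul_comm]
    exact eq_comm
  have hrange : φ.range ≤ commutator P := by
    rintro _ ⟨y, rfl⟩
    change ⁅x, y⁆ ∈ commutator P
    rw [commutator_def]
    exact Subgroup.commutator_mem_commutator (Subgroup.mem_top x) (Subgroup.mem_top y)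
  rw [← hker, Subgroup.index_ker]
  exact (Subgroup.card_dvd_of_le hrange).trans hc

theorem center_index_of_commutator_card (hP : Nat.card P = p ^ 4)
    (hc : Nat.card (commutator P) = p) : (Subgroup.center P).index = p ^ 2 := by
  have hpp := hp.out
  haveI : Group.IsNilpotent P := (IsPGroup.of_card hP).isNilpotent
  have hPZ : commutator P ≤ Subgroup.center P :=
    Rk.le_center_of_normal_card_prime (commutator P) hc
  have hcc : CommCentral P := commCentral_of_commutator_le_center hPZ
  have hZtop : Subgroup.center P ≠ ⊤ := by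
    intro h
    rw [← commutator_eq_bot_iff_center_eq_top] at h
    rw [h, Subgroup.card_bot] at hc
    exact hpp.one_lt.ne hc
  obtain ⟨i, hi4, hi⟩ := card_sub_pow hP (Subgroup.center P)
  have hidx : (Subgroup.center P).index = p ^ (4 - i) := by
    have h1 := Subgroup.card_mul_index (Subgroup.center P)
    rw [hi, hP] at h1
    have : p ^ 4 = p ^ i * p ^ (4 - i) := by rw [← pow_add, Nat.add_sub_cancel' hi4]
    rw [this] at h1
    exact Nat.eq_of_mul_eq_mul_left (pow_pos hpp.pos i) h1
  have hi4' : i ≠ 4 := by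
    rintro rfl
    apply hZtop
    rw [← Subgroup.card_eq_iff_eq_top, hi, hP]
  have hi3 : i ≠ 3 := by
    rintro rfl
    apply hZtop
    have hcomm := comm_of_relIndex_dvd (p := p) ⊤ (Subgroup.center P) le_top
      (fun d hd c _ => (Subgroup.mem_center_iff.mp hd c).symm)
      (by rw [Subgroup.relIndex_top_right, hidx]; simp)
    rw [eq_top_iff]
    intro z _
    rw [Subgroup.mem_center_iff]
    intro g
    exact hcomm g (Subgroup.mem_top g) z (Subgroup.mem_top z)
  have hi0 : i ≠ 0 := by
    rintro rfl
    have h1 := Subgroup.card_dvd_of_le hPZ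
    rw [hc, hi, pow_zero, Nat.dvd_one] at h1
    exact hpp.one_lt.ne' h1
  have hi1 : i ≠ 1 := by
    rintro rfl
    rw [pow_one] at hi
    obtain ⟨x, hx⟩ : ∃ x : P, x ∉ Subgroup.center P := by
      by_contra hcon
      push Not at hcon
      exact hZtop (eq_top_iff.mpr (fun g _ => hcon g))
    have hCidx : ∀ y : P, y ∉ Subgroup.center P →
        Nat.card (Subgroup.centralizer ({y} : Set P)) = p ^ 3 := by
      intro y hy
      have h1 := index_centralizer_dvd hcc (by rw [hc]) y
      have h2 := Subgroup.card_mul_index (Subgroup.centralizer ({y} : Set P))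
      rcases (Nat.dvd_prime hpp).mp h1 with h | h
      · exfalso
        apply hy
        rw [Subgroup.index_eq_one] at h
        rw [Subgroup.mem_center_iff]
        intro g
        have : g ∈ Subgroup.centralizer ({y} : Set P) := h ▸ Subgroup.mem_top g
        exact (Subgroup.mem_centralizer_singleton_iff.mp this)
      · rw [h, hP] at h2
        have : p ^ 4 = p ^ 3 * p := by ring
        rw [this] at h2
        exact Nat.eq_of_mul_eq_mul_right hpp.pos h2
    set C := Subgroup.centralizer ({x} : Set P) with hC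
    have hCcard := hCidx x hx
    have hZC : Subgroup.center P ≤ C := Subgroup.center_le_centralizer _
    have hxC : x ∈ C := Subgroup.mem_centralizer_singleton_iff.mpr rfl
    have hCab : ∀ u ∈ C, ∀ v ∈ C, u * v = v * u := by
      refine sub_abelian_of_card (p := p) (i := 1) (j := 3) C (Subgroup.center P) hZC
        (fun z hz c _ => (Subgroup.mem_center_iff.mp hz c).symm) x hxC ?_ hx
        (by rw [hi, pow_one]) hCcard (by norm_num) ⟨4, hP⟩
      intro c hc
      exact (Subgroup.mem_centralizer_singleton_iff.mp hc).symm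
    have hCtop : C ≠ ⊤ := by
      intro h
      rw [← Subgroup.card_eq_iff_eq_top, hCcard, hP] at h
      exact absurd (Nat.pow_right_injective hpp.two_le h) (by norm_num)
    obtain ⟨y, hy⟩ : ∃ y : P, y ∉ C := by
      by_contra hcon
      push Not at hcon
      exact hCtop (eq_top_iff.mpr (fun g _ => hcon g))
    have hyZ : y ∉ Subgroup.center P := fun h => hy (hZC h)
    set Cy := Subgroup.centralizer ({y} : Set P) with hCy
    have hCycard := hCidx y hyZ
    set W := C ⊓ Cy with hW
    have hWZ : W ≤ Subgroup.center P := by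
      intro w hw
      have hwC : C ≤ Subgroup.centralizer ({w} : Set P) := by
        intro c hc
        rw [Subgroup.mem_centralizer_singleton_iff]
        exact hCab c hc w hw.1
      have hyw : y ∈ Subgroup.centralizer ({w} : Set P) := by
        rw [Subgroup.mem_centralizer_singleton_iff]
        exact (Subgroup.mem_centralizer_singleton_iff.mp hw.2).symm
      obtain ⟨k, hk4, hk⟩ := card_sub_pow hP (Subgroup.centralizer ({w} : Set P))
      have hlt : Nat.card C < Nat.card (Subgroup.centralizer ({w} : Set P)) := by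
        by_contra hcon
        have := Subgroup.eq_of_le_of_card_ge hwC (not_lt.mp hcon)
        exact hy (this ▸ hyw)
      rw [hCcard, hk] at hlt
      have h3k : 3 < k := (Nat.pow_lt_pow_iff_right hpp.one_lt).mp hlt
      have hk4' : k = 4 := by omega
      have htop : Subgroup.centralizer ({w} : Set P) = ⊤ := by
        rw [← Subgroup.card_eq_iff_eq_top, hk, hk4', hP]
      rw [Subgroup.mem_center_iff]
      intro g
      have : g ∈ Subgroup.centralizer ({w} : Set P) := htop ▸ Subgroup.mem_top g
      exact (Subgroup.mem_centralizer_singleton_iff.mp this)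
    have hWidx : W.index ≤ p * p := by
      have h1 := Subgroup.index_inf_le (H := C) (K := Cy)
      have hCi : C.index = p := by
        have h2 := Subgroup.card_mul_index C
        rw [hCcard, hP] at h2
        have : p ^ 4 = p ^ 3 * p := by ring
        rw [this] at h2
        exact Nat.eq_of_mul_eq_mul_left (pow_pos hpp.pos 3) h2
      have hCyi : Cy.index = p := by
        have h2 := Subgroup.card_mul_index Cy
        rw [hCycard, hP] at h2
        have : p ^ 4 = p ^ 3 * p := by ring
        rw [this] at h2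
        exact Nat.eq_of_mul_eq_mul_left (pow_pos hpp.pos 3) h2
      rw [hCi, hCyi] at h1
      exact h1
    have hWcard : Nat.card W ≤ p := by
      rw [← hi]
      exact Nat.le_of_dvd Nat.card_pos (Subgroup.card_dvd_of_le hWZ)
    have h5 := Subgroup.card_mul_index W
    rw [hP] at h5
    have : p ^ 4 ≤ p * (p * p) := by
      rw [← h5]
      exact Nat.mul_le_mul hWcard hWidx
    have h6 : p ^ 4 = p * (p * p) * p := by ring
    have h7 : 0 < p * (p * p) := Nat.mul_pos hpp.pos (Nat.mul_pos hpp.pos hpp.pos)
    have := hpp.one_lt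
    nlinarith
  have : i = 2 := by omega
  rw [hidx, this]

theorem commutator_card_of_center_index (hP : Nat.card P = p ^ 4)
    (hZ : (Subgroup.center P).index = p ^ 2) : Nat.card (commutator P) = p := by
  have hpp := hp.out
  have hZcard : Nat.card (Subgroup.center P) = p ^ 2 := by
    have h1 := Subgroup.card_mul_index (Subgroup.center P)
    rw [hZ, hP] at h1
    have : p ^ 4 = p ^ 2 * p ^ 2 := by ring
    rw [this] at h1
    exact Nat.eq_of_mul_eq_mul_right (pow_pos hpp.pos 2) h1
  have hZtop : Subgroup.center P ≠ ⊤ := by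
    intro h
    rw [← Subgroup.card_eq_iff_eq_top, hZcard, hP] at h
    exact absurd (Nat.pow_right_injective hpp.two_le h) (by norm_num)
  -- commutators are central
  have hQ : Nat.card (P ⧸ Subgroup.center P) = p ^ 2 := by
    rw [← Subgroup.index_eq_card, hZ]
  have hPZ : commutator P ≤ Subgroup.center P := by
    rw [commutator_def, Subgroup.commutator_le]
    intro x _ y _
    rw [← QuotientGroup.eq_one_iff]
    have := IsPGroup.commutative_of_card_eq_prime_sq hQ (x : P ⧸ Subgroup.center P) (y : P ⧸ Subgroup.center P)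
    rw [commutatorElement_def]
    simp only [QuotientGroup.mk_mul, QuotientGroup.mk_inv]
    rw [this]
    group
  have hcc : CommCentral P := commCentral_of_commutator_le_center hPZ
  obtain ⟨a, ha⟩ : ∃ x : P, x ∉ Subgroup.center P := by
    by_contra hcon
    push Not at hcon
    exact hZtop (eq_top_iff.mpr (fun g _ => hcon g))
  set C := Subgroup.centralizer ({a} : Set P) with hC
  have hZC : Subgroup.center P ≤ C := Subgroup.center_le_centralizer _
  have haC : a ∈ C := Subgroup.mem_centralizer_singleton_iff.mpr rfl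
  have hCtop : C ≠ ⊤ := by
    intro h
    apply ha
    rw [Subgroup.mem_center_iff]
    intro g
    have : g ∈ C := h ▸ Subgroup.mem_top g
    exact (Subgroup.mem_centralizer_singleton_iff.mp this)
  obtain ⟨k, hk4, hk⟩ := card_sub_pow hP C
  have hCcard : Nat.card C = p ^ 3 := by
    have h1 : Nat.card (Subgroup.center P) < Nat.card C := by
      by_contra hcon
      have := Subgroup.eq_of_le_of_card_ge hZC (not_lt.mp hcon)
      exact ha (this ▸ haC)
    rw [hZcard, hk] at h1
    have h2k : 2 < k := (Nat.pow_lt_pow_iff_right hpp.one_lt).mp h1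
    have hk4' : k ≠ 4 := by
      rintro rfl
      apply hCtop
      rw [← Subgroup.card_eq_iff_eq_top, hk, hP]
    have : k = 3 := by omega
    rw [hk, this]
  have hCab : ∀ u ∈ C, ∀ v ∈ C, u * v = v * u := by
    refine sub_abelian_of_card (p := p) (i := 2) (j := 3) C (Subgroup.center P) hZC
      (fun z hz c _ => (Subgroup.mem_center_iff.mp hz c).symm) a haC ?_ ha
      hZcard hCcard (by norm_num) ⟨4, hP⟩
    intro c hc
    exact (Subgroup.mem_centralizer_singleton_iff.mp hc).symm
  haveI hCn : C.Normal := by
    constructor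
    intro n hn g
    have h1 : g * n * g⁻¹ = ⁅g, n⁆ * n := by
      rw [commutatorElement_def]; group
    rw [h1]
    refine C.mul_mem (hZC (hPZ ?_)) hn
    rw [commutator_def]
    exact Subgroup.commutator_mem_commutator (Subgroup.mem_top g) (Subgroup.mem_top n)
  obtain ⟨b, hb⟩ : ∃ y : P, y ∉ C := by
    by_contra hcon
    push Not at hcon
    exact hCtop (eq_top_iff.mpr (fun g _ => hcon g))
  -- the homomorphism
  let ψ : C →* P :=
    { toFun := fun u => ⁅(u : P), b⁆
      map_one' := by simp [commutatorElement_def]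
      map_mul' := fun u v => hcc.comm_mul_left (u : P) (v : P) b }
  have hψ : ∀ u : C, ψ u = ⁅(u : P), b⁆ := fun _ => rfl
  have hker : (Subgroup.center P).subgroupOf C ≤ ψ.ker := by
    intro u hu
    rw [MonoidHom.mem_ker, hψ, commutatorElement_eq_one_iff_mul_comm]
    exact (Subgroup.mem_center_iff.mp (Subgroup.mem_subgroupOf.mp hu) b).symm
  have hrel : (Subgroup.center P).relIndex C = p := by
    have h1 := relIndex_mul_card' hZC
    rw [hZcard, hCcard] at h1
    have : p ^ 3 = p * p ^ 2 := by ring
    rw [this] at h1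
    exact Nat.eq_of_mul_eq_mul_right (pow_pos hpp.pos 2) h1
  have hrange : Nat.card ψ.range ∣ p := by
    rw [← Subgroup.index_ker, ← hrel]
    exact Subgroup.index_dvd_of_le hker
  have hCQ : Nat.card (P ⧸ C) = p := by
    rw [← Subgroup.index_eq_card]
    have h2 := Subgroup.card_mul_index C
    rw [hCcard, hP] at h2
    have : p ^ 4 = p ^ 3 * p := by ring
    rw [this] at h2
    exact Nat.eq_of_mul_eq_mul_left (pow_pos hpp.pos 3) h2
  have hb1 : (b : P ⧸ C) ≠ 1 := by
    intro h
    exact hb ((QuotientGroup.eq_one_iff b).mp h)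
  have hdecomp : ∀ x : P, ∃ i : ℕ, ∃ u ∈ C, x = b ^ i * u := by
    intro x
    obtain ⟨i, hi⟩ := mem_powers_of_prime_card hCQ hb1 (g' := (x : P ⧸ C))
    refine ⟨i, (b ^ i)⁻¹ * x, ?_, by group⟩
    have hi' : ((b ^ i : P) : P ⧸ C) = (x : P ⧸ C) := by
      rw [QuotientGroup.mk_pow]; exact hi
    exact QuotientGroup.eq.mp hi'
  have hle : commutator P ≤ ψ.range := by
    rw [commutator_def, Subgroup.commutator_le]
    intro x _ y _
    obtain ⟨i, u, hu, rfl⟩ := hdecomp x
    obtain ⟨j, v, hv, rfl⟩ := hdecomp y
    have e1 : ⁅b ^ i * u, b ^ j * v⁆ = ⁅b, v⁆ ^ i * ⁅u, b⁆ ^ j := by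
      rw [hcc.comm_mul_left, hcc.comm_mul_right, hcc.comm_mul_right, hcc.comm_pow_left,
        hcc.comm_pow_left, hcc.comm_pow_right, hcc.comm_pow_right]
      have h1 : ⁅b, b⁆ = 1 := by simp [commutatorElement_def]
      have h2 : ⁅u, v⁆ = 1 := by
        rw [commutatorElement_eq_one_iff_mul_comm]; exact hCab u hu v hv
      rw [h1, h2]
      simp
    rw [e1]
    refine ψ.range.mul_mem (ψ.range.pow_mem ?_ i) (ψ.range.pow_mem ?_ j)
    · have : ⁅b, v⁆ = (ψ ⟨v, hv⟩)⁻¹ := by
        rw [hψ, commutatorElement_inv]
      rw [this]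
      exact ψ.range.inv_mem ⟨_, rfl⟩
    · exact ⟨⟨u, hu⟩, rfl⟩
  have h1 : Nat.card (commutator P) ∣ p := (Subgroup.card_dvd_of_le hle).trans hrange
  rcases (Nat.dvd_prime hpp).mp h1 with h | h
  · exfalso
    apply hZtop
    rw [← commutator_eq_bot_iff_center_eq_top]
    exact Subgroup.card_eq_one.mp h
  · exact h

end Cfsg.Agent.Lib.Helper4.POrd4
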