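import Mathlib
import Cfsg.Agent.Lib.Helper4.POrd4

/-! Groups of order `p^4`: `|P : P'| = p^2` iff class exactly 3. -/

open scoped commutatorElement

namespace Cfsg.Agent.Lib.Helper4.POrd4

open Cfsg.Agent.Lib.Helper1

section nil
variable {G : Type*} [Group G]

theorem comm_top_lt [hG : Group.IsNilpotent G] (H : Subgroup G) [H.Normal] (hH : H ≠ ⊥) :
    ⁅H, (⊤ : Subgroup G)⁆ < H := by
  refine lt_of_le_of_ne (Subgroup.commutator_le_left H ⊤) ?_
  intro heq
  obtain ⟨n, hn⟩ := Subgroup.nilpotent_iff_lowerCentralSeries.mp hG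
  have : ∀ m, H ≤ (⊤ : Subgroup G).lowerCentralSeries m := by
    intro m
    induction m with
    | zero => exact le_top
    | succ m ih =>
      calc H = ⁅H, (⊤ : Subgroup G)⁆ := heq.symm
        _ ≤ ⁅(⊤ : Subgroup G).lowerCentralSeries m, ⊤⁆ := Subgroup.commutator_mono ih le_rfl
  apply hH
  rw [eq_bot_iff, ← hn]
  exact this n

theorem commutator_eq_bot_of_gen [hG : Group.IsNilpotent G] (b : G)
    (hb : ∀ x : G, ∃ i : ℕ, ∃ u ∈ commutator G, x = b ^ i * u) : commutator G = ⊥ := by
  by_contra hne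
  have hlt := comm_top_lt (commutator G) hne
  apply hlt.ne
  refine le_antisymm hlt.le ?_
  obtain ⟨N, hN⟩ : ∃ N : Subgroup G, N = ⁅commutator G, (⊤ : Subgroup G)⁆ := ⟨_, rfl⟩
  rw [← hN]
  haveI hNn : N.Normal := by rw [hN]; infer_instance
  have huN : ∀ u ∈ commutator G, ∀ g : G, ⁅u, g⁆ ∈ N := fun u hu g => by
    rw [hN]; exact Subgroup.commutator_mem_commutator hu (Subgroup.mem_top g)
  have hNu : ∀ u ∈ commutator G, ∀ g : G, ⁅g, u⁆ ∈ N := by
    intro u hu g
    rw [← commutatorElement_inv]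
    exact N.inv_mem (huN u hu g)
  rw [commutator_def, Subgroup.commutator_le]
  intro x _ y _
  obtain ⟨i, u, hu, rfl⟩ := hb x
  obtain ⟨j, v, hv, rfl⟩ := hb y
  have e1 : ∀ y : G, ⁅b ^ i * u, y⁆ = (b ^ i * ⁅u, y⁆ * (b ^ i)⁻¹) * ⁅b ^ i, y⁆ := by
    intro y; simp only [commutatorElement_def]; group
  have e2 : ⁅b ^ i, b ^ j * v⁆ = ⁅b ^ i, b ^ j⁆ * (b ^ j * ⁅b ^ i, v⁆ * (b ^ j)⁻¹) := by
    simp only [commutatorElement_def]; group
  have e3 : ⁅b ^ i, b ^ j⁆ = 1 := by
    rw [commutatorElement_eq_one_iff_mul_comm, ← pow_add, ← pow_add, add_comm]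
  rw [e1, e2, e3, one_mul]
  exact N.mul_mem (hNn.conj_mem _ (huN u hu _) _) (hNn.conj_mem _ (hNu v hv _) _)

end nil

variable {P : Type*} [Group P] [Finite P] {p : ℕ} [hp : Fact p.Prime]

theorem card_lt_of_lt' {H K : Subgroup P} (h : H < K) : Nat.card H < Nat.card K := by
  by_contra hcon
  exact h.ne (Subgroup.eq_of_le_of_card_ge h.le (not_lt.mp hcon))

theorem class_three_of_index (hP : Nat.card P = p ^ 4) (h : (commutator P).index = p ^ 2) :
    Group.nilpotencyClass P = 3 := by
  have hpp := hp.out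
  haveI hnil : Group.IsNilpotent P := (IsPGroup.of_card hP).isNilpotent
  have hc : Nat.card (commutator P) = p ^ 2 := by
    have h1 := Subgroup.card_mul_index (commutator P)
    rw [h, hP] at h1
    have : p ^ 4 = p ^ 2 * p ^ 2 := by ring
    rw [this] at h1
    exact Nat.eq_of_mul_eq_mul_right (pow_pos hpp.pos 2) h1
  obtain ⟨L, hL⟩ : ∃ L : ℕ → Subgroup P, L = (⊤ : Subgroup P).lowerCentralSeries := ⟨_, rfl⟩
  have hL2 : L 2 = ⁅commutator P, ⊤⁆ := by rw [hL]; rfl
  have hL3 : L 3 = ⁅L 2, ⊤⁆ := by rw [hL]; rfl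
  haveI hL2n : (L 2).Normal := by rw [hL]; infer_instance
  have hne1 : commutator P ≠ ⊥ := by
    intro h0
    rw [h0, Subgroup.card_bot] at hc
    have := Nat.one_lt_pow (n := 2) (by norm_num) hpp.one_lt
    omega
  have hlt1 : L 2 < commutator P := by rw [hL2]; exact comm_top_lt (commutator P) hne1
  obtain ⟨k, hk4, hk⟩ := card_sub_pow hP (L 2)
  have hk1 : k ≤ 1 := by
    have := card_lt_of_lt' hlt1
    rw [hk, hc] at this
    have := (Nat.pow_lt_pow_iff_right hpp.one_lt).mp this
    omega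
  have h3 : L 3 = ⊥ := by
    by_cases h2 : L 2 = ⊥
    · rw [hL3, h2]; exact Subgroup.commutator_bot_left _
    · have hlt2 : L 3 < L 2 := by rw [hL3]; exact comm_top_lt (L 2) h2
      obtain ⟨j, hj4, hj⟩ := card_sub_pow hP (L 3)
      have := card_lt_of_lt' hlt2
      rw [hk, hj] at this
      have := (Nat.pow_lt_pow_iff_right hpp.one_lt).mp this
      have hj0 : j = 0 := by omega
      rw [hj0, pow_zero] at hj
      exact Subgroup.card_eq_one.mp hj
  have h2 : L 2 ≠ ⊥ := by
    intro h2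
    rw [hL2] at h2
    have hcc : CommCentral P := commCentral_of_commutator_commutator_eq_bot h2
    have hPZ : commutator P ≤ Subgroup.center P := by
      rw [commutator_def, Subgroup.commutator_le]
      intro x _ y _
      rw [Subgroup.mem_center_iff]
      intro g
      exact (hcc x y g).symm
    have hZtop : Subgroup.center P ≠ ⊤ := by
      intro h0
      rw [← commutator_eq_bot_iff_center_eq_top] at h0
      exact hne1 h0
    have hidx : (Subgroup.center P).index ∣ p ^ 2 := h ▸ Subgroup.index_dvd_of_le hPZ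
    obtain ⟨j, hj2, hj⟩ := (Nat.dvd_prime_pow hpp).mp hidx
    interval_cases j
    · rw [pow_zero, Subgroup.index_eq_one] at hj
      exact hZtop hj
    · apply hZtop
      have hcomm := comm_of_relIndex_dvd (p := p) ⊤ (Subgroup.center P) le_top
        (fun d hd c _ => (Subgroup.mem_center_iff.mp hd c).symm)
        (by rw [Subgroup.relIndex_top_right, hj]; simp)
      rw [eq_top_iff]
      intro z _
      rw [Subgroup.mem_center_iff]
      intro g
      exact hcomm g (Subgroup.mem_top g) z (Subgroup.mem_top z)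
    · have := commutator_card_of_center_index hP hj
      rw [hc] at this
      have h5 : p ^ 2 = p ^ 1 := by rw [pow_one]; exact this
      exact absurd (Nat.pow_right_injective hpp.two_le h5) (by norm_num)
  have hle3 : Group.nilpotencyClass P ≤ 3 :=
    lowerCentralSeries_eq_bot_iff_nilpotencyClass_le.mp (hL ▸ h3)
  have hnle2 : ¬ Group.nilpotencyClass P ≤ 2 := fun hle =>
    h2 (hL ▸ lowerCentralSeries_eq_bot_iff_nilpotencyClass_le.mpr hle)
  omega

theorem index_of_class_three (hP : Nat.card P = p ^ 4) (h : Group.nilpotencyClass P = 3) :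
    (commutator P).index = p ^ 2 := by
  have hpp := hp.out
  haveI hnil : Group.IsNilpotent P := (IsPGroup.of_card hP).isNilpotent
  obtain ⟨L, hL⟩ : ∃ L : ℕ → Subgroup P, L = (⊤ : Subgroup P).lowerCentralSeries := ⟨_, rfl⟩
  have hL2 : L 2 = ⁅commutator P, ⊤⁆ := by rw [hL]; rfl
  have hL3 : L 3 = ⁅L 2, ⊤⁆ := by rw [hL]; rfl
  have h3 : L 3 = ⊥ := by
    rw [hL]
    exact lowerCentralSeries_eq_bot_iff_nilpotencyClass_le.mpr h.le
  have h2 : L 2 ≠ ⊥ := by
    intro h2
    rw [hL] at h2
    have := lowerCentralSeries_eq_bot_iff_nilpotencyClass_le.mp h2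
    omega
  have hne1 : commutator P ≠ ⊥ := by
    intro h0
    apply h2
    rw [hL2, h0]
    exact Subgroup.commutator_bot_left _
  have hlt1 : L 2 < commutator P := by rw [hL2]; exact comm_top_lt (commutator P) hne1
  obtain ⟨k, hk4, hk⟩ := card_sub_pow hP (L 2)
  obtain ⟨i, hi4, hi⟩ := card_sub_pow hP (commutator P)
  have hk0 : k ≠ 0 := by
    rintro rfl
    rw [pow_zero] at hk
    exact h2 (Subgroup.card_eq_one.mp hk)
  have hki : k < i := by
    have := card_lt_of_lt' hlt1
    rw [hk, hi] at this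
    exact (Nat.pow_lt_pow_iff_right hpp.one_lt).mp this
  have hidx : (commutator P).index = p ^ (4 - i) := by
    have h1 := Subgroup.card_mul_index (commutator P)
    rw [hi, hP] at h1
    have : p ^ 4 = p ^ i * p ^ (4 - i) := by rw [← pow_add, Nat.add_sub_cancel' hi4]
    rw [this] at h1
    exact Nat.eq_of_mul_eq_mul_left (pow_pos hpp.pos i) h1
  have hi2 : i ≤ 2 := by
    by_contra hcon
    push Not at hcon
    apply hne1
    have hdvd : Nat.card (P ⧸ commutator P) ∣ p := by
      rw [← Subgroup.index_eq_card, hidx]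
      have : 4 - i ≤ 1 := by omega
      calc p ^ (4 - i) ∣ p ^ 1 := pow_dvd_pow p this
        _ = p := pow_one p
    haveI : IsCyclic (P ⧸ commutator P) := isCyclic_of_card_dvd_prime hdvd
    obtain ⟨g, hg⟩ := IsCyclic.exists_generator (α := P ⧸ commutator P)
    obtain ⟨b, rfl⟩ := QuotientGroup.mk_surjective g
    apply commutator_eq_bot_of_gen b
    intro x
    have hx := hg (x : P ⧸ commutator P)
    rw [← mem_powers_iff_mem_zpowers] at hx
    obtain ⟨i, hi⟩ := hx
    refine ⟨i, (b ^ i)⁻¹ * x, ?_, by group⟩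
    have hi' : ((b ^ i : P) : P ⧸ commutator P) = (x : P ⧸ commutator P) := by
      rw [QuotientGroup.mk_pow]; exact hi
    exact QuotientGroup.eq.mp hi'
  have : i = 2 := by omega
  rw [hidx, this]

end Cfsg.Agent.Lib.Helper4.POrd4
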