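import Mathlib
import Cfsg.Agent.Lib.Helper4.POrd4b

/-! Order bound for abelian `p`-subgroups of symmetric groups in terms of the rank. -/

namespace Cfsg.Agent.Lib.Helper4.AbSymP

open Cfsg.Agent.Lib.Helper4.POrd4

/-- weighted AM-GM for naturals -/
theorem wamgm (x y r j : ℕ) :
    x ^ r * y ^ j * (r + j) ^ (r + j) ≤ r ^ r * j ^ j * (x + y) ^ (r + j) := by
  rcases Nat.eq_zero_or_pos r with rfl | hr
  · simp only [pow_zero, one_mul, zero_add]
    rw [mul_comm]
    exact Nat.mul_le_mul_left _ (Nat.pow_le_pow_left (by omega) _)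
  rcases Nat.eq_zero_or_pos j with rfl | hj
  · simp only [pow_zero, mul_one, add_zero]
    rw [mul_comm]
    exact Nat.mul_le_mul_left _ (Nat.pow_le_pow_left (by omega) _)
  have hrR : (0 : ℝ) < r := by exact_mod_cast hr
  have hjR : (0 : ℝ) < j := by exact_mod_cast hj
  have hkR : (0 : ℝ) < (r : ℝ) + j := by positivity
  have hx : (0 : ℝ) ≤ (x : ℝ) / r := by positivity
  have hy : (0 : ℝ) ≤ (y : ℝ) / j := by positivity
  have h := Real.geom_mean_le_arith_mean2_weighted (w₁ := (r : ℝ) / (r + j))
    (w₂ := (j : ℝ) / (r + j)) (p₁ := (x : ℝ) / r) (p₂ := (y : ℝ) / j)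
    (by positivity) (by positivity) hx hy (by field_simp)
  have hrhs : (r : ℝ) / (r + j) * ((x : ℝ) / r) + (j : ℝ) / (r + j) * ((y : ℝ) / j)
      = ((x : ℝ) + y) / (r + j) := by field_simp
  rw [hrhs] at h
  have h2 := pow_le_pow_left₀ (by positivity) h (r + j)
  have hlhs : (((x : ℝ) / r) ^ ((r : ℝ) / (r + j)) * ((y : ℝ) / j) ^ ((j : ℝ) / (r + j))) ^ (r + j)
      = ((x : ℝ) / r) ^ r * ((y : ℝ) / j) ^ j := by
    rw [mul_pow, ← Real.rpow_natCast, ← Real.rpow_natCast, ← Real.rpow_mul hx,
      ← Real.rpow_mul hy]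
    have e1 : (r : ℝ) / (r + j) * ((r + j : ℕ) : ℝ) = r := by
      push_cast; field_simp
    have e2 : (j : ℝ) / (r + j) * ((r + j : ℕ) : ℝ) = j := by
      push_cast; field_simp
    rw [e1, e2, Real.rpow_natCast, Real.rpow_natCast]
  rw [hlhs, div_pow, div_pow, div_pow, div_mul_div_comm, div_le_div_iff₀ (by positivity)
    (by positivity)] at h2
  have h3 : ((x ^ r * y ^ j * (r + j) ^ (r + j) : ℕ) : ℝ)
      ≤ ((r ^ r * j ^ j * (x + y) ^ (r + j) : ℕ) : ℝ) := by
    push_cast
    nlinarith [h2]
  exact_mod_cast h3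

theorem pow_mul_le (p a r : ℕ) (hp : 2 ≤ p) (hr : 1 ≤ r) (hra : r ≤ a) :
    p ^ a * r ^ r ≤ (p ^ a) ^ r := by
  obtain ⟨r', rfl⟩ : ∃ r', r = r' + 1 := ⟨r - 1, by omega⟩
  have h1 : r' + 1 ≤ 2 ^ r' := Nat.lt_two_pow_self
  have h2 : r' + 1 ≤ p ^ r' := h1.trans (Nat.pow_le_pow_left hp _)
  have h3 : (r' + 1) ^ (r' + 1) ≤ p ^ (r' * a) := by
    calc (r' + 1) ^ (r' + 1) ≤ (p ^ r') ^ (r' + 1) := Nat.pow_le_pow_left h2 _
      _ = p ^ (r' * (r' + 1)) := by rw [← pow_mul]
      _ ≤ p ^ (r' * a) := Nat.pow_le_pow_right (by omega) (Nat.mul_le_mul_left _ hra)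
  calc p ^ a * (r' + 1) ^ (r' + 1) ≤ p ^ a * p ^ (r' * a) := Nat.mul_le_mul_left _ h3
    _ = (p ^ a) ^ (r' + 1) := by rw [← pow_add, ← pow_mul]; congr 1; ring

theorem arith (p a r j s y n : ℕ) (hp : 2 ≤ p) (hr : 1 ≤ r) (hra : r ≤ a)
    (hs : s * j ^ j ≤ y ^ j) (hn : p ^ a + y ≤ n) :
    p ^ a * s * (r + j) ^ (r + j) ≤ n ^ (r + j) := by
  have h1 := pow_mul_le p a r hp hr hra
  have h2 := wamgm (p ^ a) y r j
  have hpos : 0 < r ^ r * j ^ j := by
    apply Nat.mul_pos
    · exact Nat.pow_pos (by omega)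
    · rcases Nat.eq_zero_or_pos j with rfl | hj
      · simp
      · exact Nat.pow_pos hj
  have h3 : p ^ a * s * (r + j) ^ (r + j) * (r ^ r * j ^ j)
      ≤ (p ^ a + y) ^ (r + j) * (r ^ r * j ^ j) := by
    calc p ^ a * s * (r + j) ^ (r + j) * (r ^ r * j ^ j)
        = (p ^ a * r ^ r) * (s * j ^ j) * (r + j) ^ (r + j) := by ring
      _ ≤ (p ^ a) ^ r * y ^ j * (r + j) ^ (r + j) :=
          Nat.mul_le_mul_right _ (Nat.mul_le_mul h1 hs)
      _ ≤ r ^ r * j ^ j * (p ^ a + y) ^ (r + j) := h2
      _ = (p ^ a + y) ^ (r + j) * (r ^ r * j ^ j) := by ring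
  exact (Nat.le_of_mul_le_mul_right h3 hpos).trans (Nat.pow_le_pow_left hn _)

section omega
variable {G : Type*} [Group G]

/-- Elements of order dividing `p` in an abelian subgroup. -/
def omegaP (A : Subgroup G) (hcomm : ∀ a ∈ A, ∀ b ∈ A, a * b = b * a) (p : ℕ) : Subgroup G where
  carrier := {a | a ∈ A ∧ a ^ p = 1}
  mul_mem' := fun {a b} ha hb => ⟨A.mul_mem ha.1 hb.1, by
    have hc : Commute a b := hcomm a ha.1 b hb.1
    rw [hc.mul_pow, ha.2, hb.2, one_mul]⟩
  one_mem' := ⟨A.one_mem, one_pow _⟩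
  inv_mem' := fun {a} ha => ⟨A.inv_mem ha.1, by rw [inv_pow, ha.2, inv_one]⟩

theorem mem_omegaP {A : Subgroup G} {hcomm : ∀ a ∈ A, ∀ b ∈ A, a * b = b * a} {p : ℕ} {a : G} :
    a ∈ omegaP A hcomm p ↔ a ∈ A ∧ a ^ p = 1 := Iff.rfl

theorem omegaP_le {A : Subgroup G} {hcomm : ∀ a ∈ A, ∀ b ∈ A, a * b = b * a} {p : ℕ} :
    omegaP A hcomm p ≤ A := fun _ h => h.1

end omega

open Equiv

/-- Upper bound. -/
theorem card_mul_le {α : Type*} [Fintype α] [DecidableEq α] (p : ℕ) [hp : Fact p.Prime] :
    ∀ (n : ℕ) (T : Finset α) (A : Subgroup (Perm α))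
      (hcomm : ∀ a ∈ A, ∀ b ∈ A, a * b = b * a), T.card = n → IsPGroup p A →
      (∀ a ∈ A, ∀ y, y ∉ T → a y = y) → ∀ k, Nat.card (omegaP A hcomm p) = p ^ k →
      Nat.card A * k ^ k ≤ n ^ k := by
  have hpp := hp.out
  intro n
  induction n using Nat.strong_induction_on with
  | _ n ih =>
    intro T A hcomm hT hA hsupp k hk
    obtain ⟨m, hm⟩ := IsPGroup.iff_card.mp hA
    rcases Nat.eq_zero_or_pos k with rfl | hkpos
    · -- rank zero: trivial group
      rw [pow_zero] at hk
      have hA1 : Nat.card A = 1 := by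
        by_contra hne
        have hm0 : m ≠ 0 := by
          rintro rfl
          exact hne (by rw [hm, pow_zero])
        have hdvd : p ∣ Nat.card A := by rw [hm]; exact dvd_pow_self p hm0
        obtain ⟨a, ha⟩ := exists_prime_orderOf_dvd_card' p hdvd
        have ha1 : (a : Perm α) ∈ omegaP A hcomm p := by
          refine ⟨a.2, ?_⟩
          have := pow_orderOf_eq_one a
          rw [ha] at this
          exact_mod_cast congrArg Subtype.val this
        have hbot := Subgroup.card_eq_one.mp hk
        rw [hbot, Subgroup.mem_bot] at ha1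
        have : a = 1 := Subtype.ext ha1
        rw [this, orderOf_one] at ha
        exact hpp.one_lt.ne ha
      simp [hA1]
    · -- positive rank
      have hE1 : 1 < Nat.card (omegaP A hcomm p) := by
        rw [hk]; exact Nat.one_lt_pow hkpos.ne' hpp.one_lt
      obtain ⟨a, haE, ha1⟩ : ∃ a ∈ omegaP A hcomm p, a ≠ 1 := by
        by_contra hcon
        push Not at hcon
        have : omegaP A hcomm p = ⊥ := by
          rw [eq_bot_iff]
          intro a ha
          rw [Subgroup.mem_bot]
          exact hcon a ha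
        rw [this, Subgroup.card_bot] at hE1
        exact lt_irrefl _ hE1
      obtain ⟨x, hax⟩ : ∃ x, a x ≠ x := by
        by_contra hcon
        push Not at hcon
        exact ha1 (Equiv.ext hcon)
      have haA : a ∈ A := haE.1
      have hx : x ∈ T := by
        by_contra hxT
        exact hax (hsupp a haA x hxT)
      classical
      let S : Subgroup (Perm α) := (MulAction.stabilizer A x).map A.subtype
      have hSmem : ∀ b, b ∈ S ↔ b ∈ A ∧ b x = x := by
        intro b
        constructor
        · rintro ⟨⟨c, hc⟩, hcs, rfl⟩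
          refine ⟨hc, ?_⟩
          have := MulAction.mem_stabilizer_iff.mp hcs
          exact this
        · rintro ⟨hb, hbx⟩
          exact ⟨⟨b, hb⟩, MulAction.mem_stabilizer_iff.mpr hbx, rfl⟩
      have hSA : S ≤ A := fun b hb => ((hSmem b).mp hb).1
      have hScard : Nat.card S = Nat.card (MulAction.stabilizer A x) :=
        Subgroup.card_map_of_injective A.subtype_injective
      have horb : Nat.card (MulAction.orbit A x) * Nat.card (MulAction.stabilizer A x)
          = Nat.card A := by
        rw [← Nat.card_prod]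
        exact Nat.card_congr (MulAction.orbitProdStabilizerEquivGroup A x)
      let O : Finset α := (MulAction.orbit A x).toFinset
      have hOmem : ∀ y, y ∈ O ↔ ∃ a ∈ A, a x = y := by
        intro y
        simp only [O, Set.mem_toFinset, MulAction.mem_orbit_iff]
        constructor
        · rintro ⟨⟨a, ha⟩, rfl⟩
          exact ⟨a, ha, rfl⟩
        · rintro ⟨a, ha, rfl⟩
          exact ⟨⟨a, ha⟩, rfl⟩
      have hOT : O ⊆ T := by
        intro y hy
        obtain ⟨a, ha, rfl⟩ := (hOmem y).mp hy
        by_contra hnot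
        have h1 := hsupp a ha (a x) hnot
        have h2 : a x = x := a.injective h1
        rw [h2] at hnot
        exact hnot hx
      have hOcard : O.card = Nat.card (MulAction.orbit A x) := by
        simp only [O, Set.toFinset_card, Nat.card_eq_fintype_card]
      have hOle : O.card ≤ n := hT ▸ Finset.card_le_card hOT
      have hxO : x ∈ O := (hOmem x).mpr ⟨1, A.one_mem, rfl⟩
      have hOpos : 1 ≤ O.card := Finset.card_pos.mpr ⟨x, hxO⟩
      have hT' : (T \ O).card = n - O.card := by
        rw [Finset.card_sdiff_of_subset hOT, hT]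
      have hcommS : ∀ a ∈ S, ∀ b ∈ S, a * b = b * a :=
        fun a ha b hb => hcomm a (hSA ha) b (hSA hb)
      have hSp : IsPGroup p S := hA.to_le hSA
      have hSsupp : ∀ b ∈ S, ∀ y, y ∉ T \ O → b y = y := by
        intro b hb y hy
        obtain ⟨hbA, hbx⟩ := (hSmem b).mp hb
        by_cases hyT : y ∈ T
        · have hyO : y ∈ O := by
            by_contra hyO
            exact hy (Finset.mem_sdiff.mpr ⟨hyT, hyO⟩)
          obtain ⟨a, ha, rfl⟩ := (hOmem y).mp hyO
          have := hcomm b hbA a ha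
          have h2 := congrArg (fun f : Perm α => f x) this
          simp only [Perm.mul_apply] at h2
          rw [h2, hbx]
        · exact hsupp b hbA y hyT
      -- ranks
      have hES : omegaP S hcommS p = S ⊓ omegaP A hcomm p := by
        ext b
        rw [Subgroup.mem_inf, mem_omegaP, mem_omegaP]
        constructor
        · rintro ⟨h1, h2⟩
          exact ⟨h1, hSA h1, h2⟩
        · rintro ⟨h1, _, h2⟩
          exact ⟨h1, h2⟩
      have hESle : omegaP S hcommS p ≤ omegaP A hcomm p := by
        rw [hES]; exact inf_le_right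
      obtain ⟨j, hjk, hj⟩ : ∃ j ≤ k, Nat.card (omegaP S hcommS p) = p ^ j := by
        have := Subgroup.card_dvd_of_le hESle
        rw [hk] at this
        exact (Nat.dvd_prime_pow hpp).mp this
      have haS : a ∉ S := fun h => hax ((hSmem a).mp h).2
      have hjk' : j < k := by
        have hlt : omegaP S hcommS p < omegaP A hcomm p := by
          refine lt_of_le_of_ne hESle ?_
          intro heq
          have : a ∈ omegaP S hcommS p := heq ▸ haE
          exact haS this.1
        have := card_lt_of_lt' hlt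
        rw [hj, hk] at this
        exact (Nat.pow_lt_pow_iff_right hpp.one_lt).mp this
      -- relative indices
      have hrel1 : S.relIndex (omegaP A hcomm p) = p ^ (k - j) := by
        have h1 := relIndex_mul_card' (inf_le_right : S ⊓ omegaP A hcomm p ≤ omegaP A hcomm p)
        rw [Subgroup.inf_relIndex_right, ← hES, hj, hk] at h1
        have : p ^ k = p ^ (k - j) * p ^ j := by rw [← pow_add, Nat.sub_add_cancel hjk]
        rw [this] at h1
        exact Nat.eq_of_mul_eq_mul_right (pow_pos hpp.pos j) h1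
      have hrel2 : S.relIndex A = O.card := by
        have h1 := relIndex_mul_card' hSA
        rw [← horb, ← hScard, ← hOcard] at h1
        exact Nat.eq_of_mul_eq_mul_right Nat.card_pos h1
      have hrelle : S.relIndex (omegaP A hcomm p) ≤ S.relIndex A := by
        apply Subgroup.relIndex_le_of_le_right omegaP_le
        rw [hrel2]
        omega
      obtain ⟨e, -, he⟩ : ∃ e ≤ m, O.card = p ^ e := by
        have : O.card ∣ p ^ m := by
          rw [← hm, ← horb, hOcard]
          exact Dvd.intro _ rfl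
        exact (Nat.dvd_prime_pow hpp).mp this
      have hre : k - j ≤ e := by
        rw [hrel1, hrel2, he] at hrelle
        exact (Nat.pow_le_pow_iff_right hpp.one_lt).mp hrelle
      have hS := ih (n - O.card) (by omega) (T \ O) S hcommS hT' hSp hSsupp j hj
      have hAcard : Nat.card A = p ^ e * Nat.card S := by
        rw [← horb, ← hScard, ← hOcard, he]
      have hfinal := arith p e (k - j) j (Nat.card S) (n - O.card) n hpp.two_le (by omega) hre hS
        (by rw [← he]; omega)
      rw [Nat.sub_add_cancel hjk] at hfinal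
      rw [hAcard]
      exact hfinal

end Cfsg.Agent.Lib.Helper4.AbSymP
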