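import Mathlib
import Cfsg.Agent.Lib.Helper4.RelLib

/-!
Certificates for a letter of a presented group to lie in the commutator subgroup: a product of relators and of
inverses of relators which is a rearrangement of the letter and of cancelling pairs of letters.
Also: the order of an element with given prime-power tests.
-/

set_option autoImplicit false

namespace Cfsg.Agent.Lib.Helper4.AbelCert

open Cfsg.Agent.Lib.Helper4.TC Cfsg.Agent.Lib.Helper4.TC.Log

variable {α : Type} [DecidableEq α]

theorem wordP_flatten {Γ : Type*} [Group Γ] (g : ℕ → Γ) (Rs : List (List ℕ))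
    (h : ∀ r ∈ Rs, wordP g r = 1) : wordP g Rs.flatten = 1 := by
  induction Rs with
  | nil => rfl
  | cons r Rs ih =>
    rw [List.flatten_cons, wordP_append, h r List.mem_cons_self,
      ih fun r' hr' => h r' (List.mem_cons_of_mem _ hr'), one_mul]

theorem wordP_pairs {Γ : Type*} [Group Γ] (g : ℕ → Γ) (inv : ℕ → ℕ) (pairs : List ℕ)
    (h : ∀ x ∈ pairs, g (inv x) = (g x)⁻¹) : wordP g (pairs.flatMap fun x => [x, inv x]) = 1 := by
  induction pairs with
  | nil => rfl
  | cons x pairs ih =>
    rw [List.flatMap_cons, wordP_append, ih fun y hy => h y (List.mem_cons_of_mem _ hy), mul_one,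
      wordP_cons, wordP_cons, wordP_nil, mul_one, h x List.mem_cons_self, mul_inv_cancel]

theorem wordP_perm {Γ : Type*} [CommGroup Γ] (g : ℕ → Γ) (L L' : List ℕ) (h : List.Perm L L') :
    wordP g L = wordP g L' := by
  unfold wordP
  exact (h.map g).prod_eq

/-- a letter which, together with cancelling pairs, is a rearrangement of a product of relators and inverses of
relators lies in the commutator subgroup -/
theorem mem_commutator_of_perm (P : CoxEnc α) (hP : P.Valid) (l : ℕ) (Rs : List (List ℕ))
    (hlt : ∀ r ∈ Rs, ∀ x ∈ r, x ≤ P.k)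
    (hRs : ∀ r ∈ Rs, r ∈ P.real ∨ invWord P.invR r ∈ P.real)
    (pairs : List ℕ) (hpairs : ∀ x ∈ pairs, x ≤ P.k)
    (hperm : List.Perm Rs.flatten (l :: pairs.flatMap fun x => [x, P.invR x])) :
    P.gR l ∈ commutator P.Grp := by
  have h1 : ∀ r ∈ Rs, wordP P.gR r = 1 := by
    intro r hr
    rcases hRs r hr with h | h
    · exact (hP.real_sound r h).2
    · have h2 := (hP.real_sound _ h).2
      rw [Chain.wordP_invWord' P.gR P.invR r fun x hx => (hP.invR_sound x (hlt r hr x hx)).2] at h2
      exact inv_eq_one.1 h2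
  have h2 : wordP P.gR Rs.flatten = 1 := wordP_flatten P.gR Rs h1
  let q : P.Grp →* Abelianization P.Grp := Abelianization.of
  have h3 : wordP (fun x => q (P.gR x)) Rs.flatten = 1 := by
    rw [wordP_hom, h2, map_one]
  rw [wordP_perm _ _ _ hperm, wordP_cons,
    wordP_pairs (fun x => q (P.gR x)) P.invR pairs (fun x hx => by
      show q (P.gR (P.invR x)) = (q (P.gR x))⁻¹
      rw [(hP.invR_sound x (hpairs x hx)).2, map_inv]), mul_one] at h3
  have h4 : P.gR l ∈ q.ker := MonoidHom.mem_ker.2 h3
  rwa [Abelianization.ker_of] at h4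

/-- an element of order dividing `n` whose powers `n / p` are not trivial has order `n` -/
theorem orderOf_eq_of_pow {G : Type*} [Group G] (z : G) (n : ℕ) (hn : 0 < n) (h1 : z ^ n = 1)
    (h2 : ∀ p, p.Prime → p ∣ n → z ^ (n / p) ≠ 1) : orderOf z = n :=
  orderOf_eq_of_pow_and_pow_div_prime hn h1 h2

end Cfsg.Agent.Lib.Helper4.AbelCert
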