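import Mathlib

set_option autoImplicit false

namespace Cfsg.Agent.Lib.Helper4.NilSeries

open scoped commutatorElement

variable {G : Type*} [Group G]

/-- conjugation by a normalizing element -/
theorem conj_mem_of_mem_normalizer {N : Subgroup G} {x n : G}
    (hx : x ∈ Subgroup.normalizer (N : Set G)) (hn : n ∈ N) : x * n * x⁻¹ ∈ N :=
  (Subgroup.mem_normalizer_iff.mp hx n).mp hn

theorem conj_mem_of_mem_normalizer' {N : Subgroup G} {x n : G}
    (hx : x ∈ Subgroup.normalizer (N : Set G)) (hn : n ∈ N) : x⁻¹ * n * x ∈ N := by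
  have := conj_mem_of_mem_normalizer (inv_mem hx) hn
  rwa [inv_inv] at this

/-- Commutators of generators in a subgroup normalized by both sides. -/
theorem commutator_closure_le {sH sK : Set G} {N : Subgroup G}
    (hN₁ : Subgroup.closure sH ≤ Subgroup.normalizer (N : Set G))
    (hN₂ : Subgroup.closure sK ≤ Subgroup.normalizer (N : Set G))
    (h : ∀ x ∈ sH, ∀ y ∈ sK, ⁅x, y⁆ ∈ N) :
    ⁅Subgroup.closure sH, Subgroup.closure sK⁆ ≤ N := by
  rw [Subgroup.commutator_le]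
  have right : ∀ x ∈ sH, ∀ g₂ ∈ Subgroup.closure sK, ⁅x, g₂⁆ ∈ N := by
    intro x hx g₂ hg₂
    induction hg₂ using Subgroup.closure_induction with
    | mem y hy => exact h x hx y hy
    | one => rw [commutatorElement_one_right]; exact one_mem _
    | mul y z hy _ hy' hz' =>
      have e : ⁅x, y * z⁆ = ⁅x, y⁆ * (y * ⁅x, z⁆ * y⁻¹) := by
        simp only [commutatorElement_def]; group
      rw [e]
      exact mul_mem hy' (conj_mem_of_mem_normalizer (hN₂ hy) hz')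
    | inv y hy hy' =>
      have e : ⁅x, y⁻¹⁆ = y⁻¹ * ⁅x, y⁆⁻¹ * y := by
        simp only [commutatorElement_def]; group
      rw [e]
      exact conj_mem_of_mem_normalizer' (hN₂ hy) (inv_mem hy')
  intro g₁ hg₁
  induction hg₁ using Subgroup.closure_induction with
  | mem x hx => exact right x hx
  | one =>
    intro g₂ _
    rw [commutatorElement_one_left]; exact one_mem _
  | mul x y hx _ hx' hy' =>
    intro g₂ hg₂
    have e : ⁅x * y, g₂⁆ = x * ⁅y, g₂⁆ * x⁻¹ * ⁅x, g₂⁆ := by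
      simp only [commutatorElement_def]; group
    rw [e]
    exact mul_mem (conj_mem_of_mem_normalizer (hN₁ hx) (hy' g₂ hg₂)) (hx' g₂ hg₂)
  | inv x hx hx' =>
    intro g₂ hg₂
    have e : ⁅x⁻¹, g₂⁆ = x⁻¹ * ⁅x, g₂⁆⁻¹ * x := by
      simp only [commutatorElement_def]; group
    rw [e]
    exact conj_mem_of_mem_normalizer' (hN₁ hx) (inv_mem (hx' g₂ hg₂))

/-- version for subgroups given as closures -/
theorem commutator_le_of_gens {H K N : Subgroup G} {sH sK : Set G}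
    (hH : H = Subgroup.closure sH) (hK : K = Subgroup.closure sK)
    (hN₁ : H ≤ Subgroup.normalizer (N : Set G)) (hN₂ : K ≤ Subgroup.normalizer (N : Set G))
    (h : ∀ x ∈ sH, ∀ y ∈ sK, ⁅x, y⁆ ∈ N) : ⁅H, K⁆ ≤ N := by
  subst hH hK
  exact commutator_closure_le hN₁ hN₂ h

/-- A subgroup with a finite descending series of subgroups of the ambient group is nilpotent. -/
theorem isNilpotent_of_series (R : Subgroup G) (K : ℕ → Subgroup G) (N : ℕ) (h0 : K 0 = R)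
    (hstep : ∀ n, ⁅K n, R⁆ ≤ K (n + 1)) (hN : K N = ⊥) : Group.IsNilpotent ↥R := by
  rw [Subgroup.nilpotent_iff_finite_descending_central_series]
  refine ⟨N, fun n => (K n).subgroupOf R, ⟨?_, ?_⟩, ?_⟩
  · show (K 0).subgroupOf R = ⊤
    rw [h0]
    exact Subgroup.subgroupOf_self R
  · intro x n hx g
    rw [Subgroup.mem_subgroupOf] at hx ⊢
    have := Subgroup.commutator_mem_commutator hx g.2
    exact hstep n this
  · show (K N).subgroupOf R = ⊥
    rw [hN]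
    exact Subgroup.bot_subgroupOf R


theorem le_normalizer_of_conj_mem {H N : Subgroup G}
    (h : ∀ x ∈ H, ∀ n ∈ N, x * n * x⁻¹ ∈ N) : H ≤ Subgroup.normalizer (N : Set G) := by
  intro x hx
  rw [Subgroup.mem_normalizer_iff]
  intro n
  constructor
  · exact h x hx n
  · intro hn
    have := h x⁻¹ (inv_mem hx) _ hn
    rw [inv_inv] at this
    have e : x⁻¹ * (x * n * x⁻¹) * x = n := by group
    rwa [e] at this

theorem conj_sup_mem {P₁ P₂ N : Subgroup G} {x : G} (h₁ : ∀ n ∈ P₁, x * n * x⁻¹ ∈ N)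
    (h₂ : ∀ n ∈ P₂, x * n * x⁻¹ ∈ N) : ∀ n ∈ P₁ ⊔ P₂, x * n * x⁻¹ ∈ N := by
  have hle : P₁ ⊔ P₂ ≤ Subgroup.comap (MulAut.conj x).toMonoidHom N := by
    apply sup_le
    · intro n hn
      exact h₁ n hn
    · intro n hn
      exact h₂ n hn
  intro n hn
  exact hle hn

/-- elementwise central subgroups are normalized -/
theorem le_normalizer_of_commutes {H N : Subgroup G} (h : ∀ n ∈ N, ∀ x ∈ H, n * x = x * n) :
    H ≤ Subgroup.normalizer (N : Set G) := by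
  apply le_normalizer_of_conj_mem
  intro x hx n hn
  rw [← h n hn x hx, mul_inv_cancel_right]
  exact hn

section class2

variable {Q : Subgroup G} (hc : ∀ z ∈ ⁅Q, Q⁆, ∀ q ∈ Q, z * q = q * z)
include hc

theorem comm_mul_left {x y z : G} (hx : x ∈ Q) (hy : y ∈ Q) (hz : z ∈ Q) :
    ⁅x * y, z⁆ = ⁅x, z⁆ * ⁅y, z⁆ := by
  have h1 : ⁅y, z⁆ * x = x * ⁅y, z⁆ := hc _ (Subgroup.commutator_mem_commutator hy hz) x hx
  have h2 : ⁅y, z⁆ * ⁅x, z⁆ = ⁅x, z⁆ * ⁅y, z⁆ :=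
    hc _ (Subgroup.commutator_mem_commutator hy hz) _
      (Subgroup.commutator_le_self Q (Subgroup.commutator_mem_commutator hx hz))
  have e : ⁅x * y, z⁆ = x * ⁅y, z⁆ * x⁻¹ * ⁅x, z⁆ := by
    simp only [commutatorElement_def]; group
  rw [e, ← h1, mul_inv_cancel_right, h2]

theorem comm_mul_right {x y z : G} (hx : x ∈ Q) (hy : y ∈ Q) (hz : z ∈ Q) :
    ⁅x, y * z⁆ = ⁅x, y⁆ * ⁅x, z⁆ := by
  have h1 : ⁅x, z⁆ * y = y * ⁅x, z⁆ := hc _ (Subgroup.commutator_mem_commutator hx hz) y hy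
  have e : ⁅x, y * z⁆ = ⁅x, y⁆ * (y * ⁅x, z⁆ * y⁻¹) := by
    simp only [commutatorElement_def]; group
  rw [e, ← h1, mul_inv_cancel_right]

end class2

/-- A nilpotency criterion: `Q = A ⊔ C ⊔ T` of class at most two, normalized by the abelian
group `B`, which centralizes `T` and moves `A`, `C` into `T`. -/
theorem nil_of_structure {A B C T : Subgroup G}
    (hBcomm : ∀ b ∈ B, ∀ b' ∈ B, b * b' = b' * b)
    (hBQ : B ≤ Subgroup.normalizer ((A ⊔ C ⊔ T : Subgroup G) : Set G))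
    (hTB : ∀ t ∈ T, ∀ b ∈ B, t * b = b * t)
    (hclass : ∀ z ∈ ⁅A ⊔ C ⊔ T, A ⊔ C ⊔ T⁆, ∀ q ∈ A ⊔ C ⊔ T, z * q = q * z)
    (hAB : ∀ a ∈ A, ∀ b ∈ B, ⁅a, b⁆ ∈ T)
    (hCB : ∀ c ∈ C, ∀ b ∈ B, ⁅c, b⁆ ∈ T) :
    Group.IsNilpotent ↥(A ⊔ C ⊔ T ⊔ B) := by
  set Q : Subgroup G := A ⊔ C ⊔ T with hQ
  have hAQ : A ≤ Q := le_sup_left.trans le_sup_left
  have hCQ : C ≤ Q := le_sup_right.trans le_sup_left
  have hTQ : T ≤ Q := le_sup_right
  have hQ'Q : ⁅Q, Q⁆ ≤ Q := Subgroup.commutator_le_self Q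
  -- normalizers
  have hQnQ' : Q ≤ Subgroup.normalizer ((⁅Q, Q⁆ : Subgroup G) : Set G) :=
    Subgroup.normalizer_commutator_ge_left Q Q
  have hmapQ : ∀ b ∈ B, Subgroup.map (MulAut.conj b : G →* G) Q = Q := fun b hb =>
    Subgroup.mem_normalizer_iff_map_conj_eq.mp (hBQ hb)
  have hBnQ' : B ≤ Subgroup.normalizer ((⁅Q, Q⁆ : Subgroup G) : Set G) := by
    intro b hb
    rw [Subgroup.mem_normalizer_iff_map_conj_eq, Subgroup.map_commutator, hmapQ b hb]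
  have hBT : ∀ b ∈ B, ∀ t ∈ T, b * t * b⁻¹ = t := by
    intro b hb t ht
    rw [← hTB t ht b hb, mul_inv_cancel_right]
  have hmapT : ∀ b ∈ B, Subgroup.map (MulAut.conj b : G →* G) T = T := by
    intro b hb
    ext x
    constructor
    · rintro ⟨t, ht, rfl⟩
      simp only [MonoidHom.coe_coe, MulAut.conj_apply]
      rw [hBT b hb t ht]; exact ht
    · intro hx
      refine ⟨x, hx, ?_⟩
      simp only [MonoidHom.coe_coe, MulAut.conj_apply]
      exact hBT b hb x hx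
  have hK1 : Q ⊔ B ≤ Subgroup.normalizer ((T ⊔ ⁅Q, Q⁆ : Subgroup G) : Set G) := by
    apply sup_le
    · apply le_normalizer_of_conj_mem
      intro q hq
      apply conj_sup_mem
      · intro t ht
        have e : q * t * q⁻¹ = ⁅q, t⁆ * t := by simp only [commutatorElement_def]; group
        rw [e]
        exact mul_mem (Subgroup.mem_sup_right (Subgroup.commutator_mem_commutator hq (hTQ ht)))
          (Subgroup.mem_sup_left ht)
      · intro z hz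
        exact Subgroup.mem_sup_right (conj_mem_of_mem_normalizer (hQnQ' hq) hz)
    · apply le_normalizer_of_conj_mem
      intro b hb
      apply conj_sup_mem
      · intro t ht
        rw [hBT b hb t ht]; exact Subgroup.mem_sup_left ht
      · intro z hz
        exact Subgroup.mem_sup_right (conj_mem_of_mem_normalizer (hBnQ' hb) hz)
  have hK2 : Q ⊔ B ≤ Subgroup.normalizer ((⁅Q, Q⁆ : Subgroup G) : Set G) := sup_le hQnQ' hBnQ'
  have hQTle : ⁅Q, T⁆ ≤ ⁅Q, Q⁆ := Subgroup.commutator_mono le_rfl hTQ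
  have hTTle : ⁅T, T⁆ ≤ ⁅Q, T⁆ := Subgroup.commutator_mono hTQ le_rfl
  have hK3 : Q ⊔ B ≤ Subgroup.normalizer ((⁅Q, T⁆ : Subgroup G) : Set G) := by
    apply sup_le
    · exact le_normalizer_of_commutes (fun n hn x hx => hclass n (hQTle hn) x hx)
    · intro b hb
      rw [Subgroup.mem_normalizer_iff_map_conj_eq, Subgroup.map_commutator, hmapT b hb,
        hmapQ b hb]
  have hK4 : Q ⊔ B ≤ Subgroup.normalizer ((⁅T, T⁆ : Subgroup G) : Set G) := by
    apply sup_le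
    · exact le_normalizer_of_commutes (fun n hn x hx => hclass n (hQTle (hTTle hn)) x hx)
    · intro b hb
      rw [Subgroup.mem_normalizer_iff_map_conj_eq, Subgroup.map_commutator, hmapT b hb]
  -- closures
  have hRcl : Q ⊔ B = Subgroup.closure ((A : Set G) ∪ C ∪ T ∪ B) := by
    simp only [Subgroup.closure_union, Subgroup.closure_eq, hQ]
  have hRcl' : Q ⊔ B = Subgroup.closure ((Q : Set G) ∪ B) := by
    simp only [Subgroup.closure_union, Subgroup.closure_eq]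
  -- step (b)
  have hgenB : ∀ x ∈ (A : Set G) ∪ C ∪ T, ∀ b ∈ B, ⁅x, b⁆ ∈ T := by
    rintro x ((hx | hx) | hx) b hb
    · exact hAB x hx b hb
    · exact hCB x hx b hb
    · have : ⁅x, b⁆ = 1 := by
        rw [commutatorElement_eq_one_iff_mul_comm]; exact hTB x hx b hb
      rw [this]; exact one_mem _
  have hgenQ : ∀ x ∈ (A : Set G) ∪ C ∪ T, x ∈ Q := by
    rintro x ((hx | hx) | hx)
    · exact hAQ hx
    · exact hCQ hx
    · exact hTQ hx
  have step1 : ⁅Q ⊔ B, Q ⊔ B⁆ ≤ T ⊔ ⁅Q, Q⁆ := by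
    apply commutator_le_of_gens hRcl hRcl hK1 hK1
    rintro x (hx | hx) y (hy | hy)
    · exact Subgroup.mem_sup_right (Subgroup.commutator_mem_commutator (hgenQ x hx) (hgenQ y hy))
    · exact Subgroup.mem_sup_left (hgenB x hx y hy)
    · rw [← commutatorElement_inv]
      exact Subgroup.mem_sup_left (inv_mem (hgenB y hy x hx))
    · have : ⁅x, y⁆ = 1 := by
        rw [commutatorElement_eq_one_iff_mul_comm]; exact hBcomm x hx y hy
      rw [this]; exact one_mem _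
  -- step (c)
  have hK1cl : T ⊔ ⁅Q, Q⁆ = Subgroup.closure ((T : Set G) ∪ (⁅Q, Q⁆ : Subgroup G)) := by
    simp only [Subgroup.closure_union, Subgroup.closure_eq]
  have hK1Q : T ⊔ ⁅Q, Q⁆ ≤ Q := sup_le hTQ hQ'Q
  have step2 : ⁅T ⊔ ⁅Q, Q⁆, Q ⊔ B⁆ ≤ ⁅Q, Q⁆ := by
    apply commutator_le_of_gens hK1cl hRcl' (hK1Q.trans hQnQ') hK2
    rintro x (hx | hx) y (hy | hy)
    · exact Subgroup.commutator_mem_commutator (hTQ hx) hy
    · have : ⁅x, y⁆ = 1 := by
        rw [commutatorElement_eq_one_iff_mul_comm]; exact hTB x hx y hy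
      rw [this]; exact one_mem _
    · exact Subgroup.commutator_mem_commutator (hQ'Q hx) hy
    · have e : ⁅x, y⁆ = x * (y * x⁻¹ * y⁻¹) := by simp only [commutatorElement_def]; group
      rw [e]
      exact mul_mem hx (conj_mem_of_mem_normalizer (hBnQ' hy) (inv_mem hx))
  -- auxiliary commutator bounds
  have aux1 : ⁅T ⊔ ⁅Q, Q⁆, Q⁆ ≤ ⁅Q, T⁆ := by
    have hQcl : Q = Subgroup.closure (Q : Set G) := (Subgroup.closure_eq Q).symm
    apply commutator_le_of_gens hK1cl hQcl (hK1Q.trans (le_sup_left.trans hK3))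
      (le_sup_left.trans hK3)
    rintro x (hx | hx) y hy
    · rw [← commutatorElement_inv]
      exact inv_mem (Subgroup.commutator_mem_commutator hy hx)
    · have : ⁅x, y⁆ = 1 := by
        rw [commutatorElement_eq_one_iff_mul_comm]; exact hclass x hx y hy
      rw [this]; exact one_mem _
  have aux2 : ⁅T ⊔ ⁅Q, Q⁆, T⁆ ≤ ⁅T, T⁆ := by
    have hTcl : T = Subgroup.closure (T : Set G) := (Subgroup.closure_eq T).symm
    apply commutator_le_of_gens hK1cl hTcl (hK1Q.trans (le_sup_left.trans hK4))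
      (hTQ.trans (le_sup_left.trans hK4))
    rintro x (hx | hx) y hy
    · exact Subgroup.commutator_mem_commutator hx hy
    · have : ⁅x, y⁆ = 1 := by
        rw [commutatorElement_eq_one_iff_mul_comm]; exact hclass x hx y (hTQ hy)
      rw [this]; exact one_mem _
  -- conjugates under `B`
  have hconjQ : ∀ b ∈ B, ∀ q ∈ Q, ⁅b, q⁆ ∈ T ⊔ ⁅Q, Q⁆ ∧ ⁅b, q⁆ ∈ Q := by
    intro b hb q hq
    constructor
    · exact step1 (Subgroup.commutator_mem_commutator (Subgroup.mem_sup_right hb)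
        (Subgroup.mem_sup_left hq))
    · have e : ⁅b, q⁆ = (b * q * b⁻¹) * q⁻¹ := by simp only [commutatorElement_def]
      rw [e]
      exact mul_mem (conj_mem_of_mem_normalizer (hBQ hb) hq) (inv_mem hq)
  -- step (d)
  have step3 : ⁅⁅Q, Q⁆, Q ⊔ B⁆ ≤ ⁅Q, T⁆ := by
    apply commutator_le_of_gens (Subgroup.commutator_def Q Q) hRcl'
      ((hQ'Q.trans le_sup_left).trans hK3) hK3
    rintro w ⟨q₁, hq₁, q₂, hq₂, rfl⟩ y (hy | hy)
    · have : ⁅⁅q₁, q₂⁆, y⁆ = 1 := by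
        rw [commutatorElement_eq_one_iff_mul_comm]
        exact hclass _ (Subgroup.commutator_mem_commutator hq₁ hq₂) y hy
      rw [this]; exact one_mem _
    · obtain ⟨hm₁, hm₁Q⟩ := hconjQ y hy q₁ hq₁
      obtain ⟨hm₂, hm₂Q⟩ := hconjQ y hy q₂ hq₂
      have e1 : y * q₁ * y⁻¹ = ⁅y, q₁⁆ * q₁ := by simp only [commutatorElement_def]; group
      have e2 : y * q₂ * y⁻¹ = ⁅y, q₂⁆ * q₂ := by simp only [commutatorElement_def]; group
      have e3 : y * ⁅q₁, q₂⁆ * y⁻¹ = ⁅⁅y, q₁⁆ * q₁, ⁅y, q₂⁆ * q₂⁆ := by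
        rw [conjugate_commutatorElement, e1, e2]
      have e4 : ⁅⁅y, q₁⁆ * q₁, ⁅y, q₂⁆ * q₂⁆ =
          ⁅⁅y, q₁⁆, ⁅y, q₂⁆⁆ * ⁅⁅y, q₁⁆, q₂⁆ * (⁅q₁, ⁅y, q₂⁆⁆ * ⁅q₁, q₂⁆) := by
        rw [comm_mul_left hclass hm₁Q hq₁ (mul_mem hm₂Q hq₂),
          comm_mul_right hclass hm₁Q hm₂Q hq₂, comm_mul_right hclass hq₁ hm₂Q hq₂]
      have h1 : ⁅⁅y, q₁⁆, ⁅y, q₂⁆⁆ ∈ ⁅Q, T⁆ :=
        aux1 (Subgroup.commutator_mem_commutator hm₁ hm₂Q)
      have h2 : ⁅⁅y, q₁⁆, q₂⁆ ∈ ⁅Q, T⁆ := aux1 (Subgroup.commutator_mem_commutator hm₁ hq₂)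
      have h3 : ⁅q₁, ⁅y, q₂⁆⁆ ∈ ⁅Q, T⁆ := by
        rw [← commutatorElement_inv]
        exact inv_mem (aux1 (Subgroup.commutator_mem_commutator hm₂ hq₁))
      have e5 : ⁅⁅q₁, q₂⁆, y⁆ = ⁅q₁, q₂⁆ * (y * ⁅q₁, q₂⁆ * y⁻¹)⁻¹ := by
        simp only [commutatorElement_def]; group
      rw [e5, e3, e4]
      have e6 : ⁅q₁, q₂⁆ * (⁅⁅y, q₁⁆, ⁅y, q₂⁆⁆ * ⁅⁅y, q₁⁆, q₂⁆ * (⁅q₁, ⁅y, q₂⁆⁆ * ⁅q₁, q₂⁆))⁻¹
          = ⁅q₁, q₂⁆ * ⁅q₁, q₂⁆⁻¹ * (⁅⁅y, q₁⁆, ⁅y, q₂⁆⁆ * ⁅⁅y, q₁⁆, q₂⁆ * ⁅q₁, ⁅y, q₂⁆⁆)⁻¹ := by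
        group
      rw [e6, mul_inv_cancel, one_mul]
      exact inv_mem (mul_mem (mul_mem h1 h2) h3)
  -- step (e)
  have step4 : ⁅⁅Q, T⁆, Q ⊔ B⁆ ≤ ⁅T, T⁆ := by
    apply commutator_le_of_gens (Subgroup.commutator_def Q T) hRcl'
      (((hQTle.trans hQ'Q).trans le_sup_left).trans hK4) hK4
    rintro w ⟨q, hq, t, ht, rfl⟩ y (hy | hy)
    · have : ⁅⁅q, t⁆, y⁆ = 1 := by
        rw [commutatorElement_eq_one_iff_mul_comm]
        exact hclass _ (hQTle (Subgroup.commutator_mem_commutator hq ht)) y hy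
      rw [this]; exact one_mem _
    · obtain ⟨hm, hmQ⟩ := hconjQ y hy q hq
      have e1 : y * q * y⁻¹ = ⁅y, q⁆ * q := by simp only [commutatorElement_def]; group
      have e3 : y * ⁅q, t⁆ * y⁻¹ = ⁅⁅y, q⁆ * q, t⁆ := by
        rw [conjugate_commutatorElement, e1, hBT y hy t ht]
      have e4 : ⁅⁅y, q⁆ * q, t⁆ = ⁅⁅y, q⁆, t⁆ * ⁅q, t⁆ :=
        comm_mul_left hclass hmQ hq (hTQ ht)
      have h1 : ⁅⁅y, q⁆, t⁆ ∈ ⁅T, T⁆ := aux2 (Subgroup.commutator_mem_commutator hm ht)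
      have e5 : ⁅⁅q, t⁆, y⁆ = ⁅q, t⁆ * (y * ⁅q, t⁆ * y⁻¹)⁻¹ := by
        simp only [commutatorElement_def]; group
      rw [e5, e3, e4]
      have e6 : ⁅q, t⁆ * (⁅⁅y, q⁆, t⁆ * ⁅q, t⁆)⁻¹ = ⁅q, t⁆ * ⁅q, t⁆⁻¹ * ⁅⁅y, q⁆, t⁆⁻¹ := by group
      rw [e6, mul_inv_cancel, one_mul]
      exact inv_mem h1
  -- step (f)
  have step5 : ⁅⁅T, T⁆, Q ⊔ B⁆ ≤ ⊥ := by
    have hbot : Q ⊔ B ≤ Subgroup.normalizer (((⊥ : Subgroup G) : Subgroup G) : Set G) := by
      intro x _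
      rw [Subgroup.mem_normalizer_iff]
      intro n
      simp only [Subgroup.mem_bot]
      constructor
      · rintro rfl; group
      · intro h
        have : n = x⁻¹ * (x * n * x⁻¹) * x := by group
        rw [this, h]; group
    apply commutator_le_of_gens (Subgroup.commutator_def T T) hRcl'
      ((((hTTle.trans hQTle).trans hQ'Q).trans le_sup_left).trans hbot) hbot
    rintro w ⟨t, ht, t', ht', rfl⟩ y (hy | hy)
    · rw [Subgroup.mem_bot, commutatorElement_eq_one_iff_mul_comm]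
      exact hclass _ (hQTle (hTTle (Subgroup.commutator_mem_commutator ht ht'))) y hy
    · rw [Subgroup.mem_bot, commutatorElement_eq_one_iff_mul_comm]
      have h1 := hTB t ht y hy
      have h2 := hTB t' ht' y hy
      have h3 : y * ⁅t, t'⁆ * y⁻¹ = ⁅t, t'⁆ := by
        rw [conjugate_commutatorElement, hBT y hy t ht, hBT y hy t' ht']
      calc ⁅t, t'⁆ * y = (y * ⁅t, t'⁆ * y⁻¹) * y := by rw [h3]
        _ = y * ⁅t, t'⁆ := by group
  -- the series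
  let K : ℕ → Subgroup G := fun n =>
    match n with
    | 0 => Q ⊔ B
    | 1 => T ⊔ ⁅Q, Q⁆
    | 2 => ⁅Q, Q⁆
    | 3 => ⁅Q, T⁆
    | 4 => ⁅T, T⁆
    | _ => ⊥
  apply isNilpotent_of_series (Q ⊔ B) K 5 rfl _ rfl
  intro n
  match n with
  | 0 => exact step1
  | 1 => exact step2
  | 2 => exact step3
  | 3 => exact step4
  | 4 => exact step5
  | (n + 5) =>
    show ⁅(⊥ : Subgroup G), Q ⊔ B⁆ ≤ ⊥
    rw [Subgroup.commutator_bot_left]

end Cfsg.Agent.Lib.Helper4.NilSeries
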