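import Mathlib
import Cfsg.Agent.Lib.Helper4.NilSeries

/-! Index of the derived subgroup of `P = ⟨x⟩ N` with `N` normal of prime index. -/

open scoped commutatorElement

namespace Cfsg.Agent.Lib.Helper4.AbelIndex

open Cfsg.Agent.Lib.Helper4.NilSeries

variable {P : Type*} [Group P]

section
variable (N : Subgroup P) [hN : N.Normal] (x : P)

theorem mk_conj_eq {n y : P} (hn : n ∈ N) (hy : y ∈ N) :
    (QuotientGroup.mk (n * y * n⁻¹) : P ⧸ ⁅N, N⁆) = QuotientGroup.mk y := by
  symm
  rw [QuotientGroup.eq]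
  have : y⁻¹ * (n * y * n⁻¹) = ⁅y⁻¹, n⁆ := by rw [commutatorElement_def]; group
  rw [this]
  exact Subgroup.commutator_mem_commutator (N.inv_mem hy) hn

include hN in
theorem comm_mem {n : P} (hn : n ∈ N) : ⁅x, n⁆ ∈ N := by
  rw [commutatorElement_def]
  exact N.mul_mem (hN.conj_mem n hn x) (N.inv_mem hn)

/-- The commutator-with-`x` homomorphism to the quotient by `N'`. -/
noncomputable def phi : N →* P ⧸ ⁅N, N⁆ where
  toFun n := QuotientGroup.mk ⁅x, (n : P)⁆
  map_one' := by simp
  map_mul' n m := by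
    have e : ⁅x, (n : P) * (m : P)⁆ = ⁅x, (n : P)⁆ * ((n : P) * ⁅x, (m : P)⁆ * (n : P)⁻¹) := by
      simp only [commutatorElement_def]; group
    rw [Subgroup.coe_mul, e, QuotientGroup.mk_mul, mk_conj_eq N n.2 (comm_mem N x m.2)]

theorem phi_apply (n : N) : phi N x n = QuotientGroup.mk ⁅x, (n : P)⁆ := rfl

/-- The candidate for the derived subgroup. -/
noncomputable def R : Subgroup P := (phi N x).range.comap (QuotientGroup.mk' ⁅N, N⁆)

theorem mem_R {g : P} : g ∈ R N x ↔ ∃ n ∈ N, ⁅x, n⁆⁻¹ * g ∈ ⁅N, N⁆ := by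
  rw [R, Subgroup.mem_comap, MonoidHom.mem_range]
  constructor
  · rintro ⟨n, hn⟩
    refine ⟨n, n.2, ?_⟩
    rw [phi_apply, QuotientGroup.mk'_apply, QuotientGroup.eq] at hn
    exact hn
  · rintro ⟨n, hn, h⟩
    refine ⟨⟨n, hn⟩, ?_⟩
    rw [phi_apply, QuotientGroup.mk'_apply, QuotientGroup.eq]
    exact h

theorem der_le_R : ⁅N, N⁆ ≤ R N x := by
  intro m hm
  rw [mem_R]
  refine ⟨1, N.one_mem, ?_⟩
  simpa using hm

theorem comm_mem_R {n : P} (hn : n ∈ N) : ⁅x, n⁆ ∈ R N x := by
  rw [mem_R]
  exact ⟨n, hn, by rw [inv_mul_cancel]; exact Subgroup.one_mem _⟩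

theorem R_le_commutator : R N x ≤ commutator P := by
  intro g hg
  obtain ⟨n, hn, h⟩ := (mem_R N x).mp hg
  have h1 : ⁅x, n⁆ ∈ commutator P := by
    rw [commutator_def]
    exact Subgroup.commutator_mem_commutator (Subgroup.mem_top x) (Subgroup.mem_top n)
  have h2 : ⁅N, N⁆ ≤ commutator P := by
    rw [commutator_def]
    exact Subgroup.commutator_mono le_top le_top
  have : g = ⁅x, n⁆ * (⁅x, n⁆⁻¹ * g) := by group
  rw [this]
  exact (commutator P).mul_mem h1 (h2 h)

theorem R_le_N : R N x ≤ N := by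
  intro g hg
  obtain ⟨n, hn, h⟩ := (mem_R N x).mp hg
  have : g = ⁅x, n⁆ * (⁅x, n⁆⁻¹ * g) := by group
  rw [this]
  exact N.mul_mem (comm_mem N x hn) (Subgroup.commutator_le_self N h)

/-- conjugation by elements of `N` preserves `R`. -/
theorem conj_N_mem_R {g r : P} (hg : g ∈ N) (hr : r ∈ R N x) : g * r * g⁻¹ ∈ R N x := by
  have hrN := R_le_N N x hr
  have : g * r * g⁻¹ = r * ⁅r⁻¹, g⁆ := by rw [commutatorElement_def]; group
  rw [this]
  exact (R N x).mul_mem hr
    (der_le_R N x (Subgroup.commutator_mem_commutator (N.inv_mem hrN) hg))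

theorem conj_x_mem_R {r : P} (hr : r ∈ R N x) : x * r * x⁻¹ ∈ R N x := by
  obtain ⟨n, hn, h⟩ := (mem_R N x).mp hr
  have hMn : (⁅N, N⁆ : Subgroup P).Normal := inferInstance
  have : x * r * x⁻¹ = ⁅x, x * n * x⁻¹⁆ * (x * (⁅x, n⁆⁻¹ * r) * x⁻¹) := by
    simp only [commutatorElement_def]; group
  rw [this]
  exact (R N x).mul_mem (comm_mem_R N x (hN.conj_mem n hn x))
    (der_le_R N x (hMn.conj_mem _ h x))

theorem conj_x_inv_mem_R {r : P} (hr : r ∈ R N x) : x⁻¹ * r * x ∈ R N x := by
  obtain ⟨n, hn, h⟩ := (mem_R N x).mp hr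
  have hMn : (⁅N, N⁆ : Subgroup P).Normal := inferInstance
  have : x⁻¹ * r * x = ⁅x, x⁻¹ * n * x⁆ * (x⁻¹ * (⁅x, n⁆⁻¹ * r) * x⁻¹⁻¹) := by
    simp only [commutatorElement_def]; group
  rw [this]
  refine (R N x).mul_mem (comm_mem_R N x ?_) (der_le_R N x (hMn.conj_mem _ h x⁻¹))
  have := hN.conj_mem n hn x⁻¹
  rwa [inv_inv] at this

theorem closure_le_normalizer :
    Subgroup.closure ((N : Set P) ∪ {x}) ≤ Subgroup.normalizer (R N x : Set P) := by
  have key : ∀ g ∈ Subgroup.closure ((N : Set P) ∪ {x}),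
      (∀ r ∈ R N x, g * r * g⁻¹ ∈ R N x) ∧ (∀ r ∈ R N x, g⁻¹ * r * g ∈ R N x) := by
    intro g hg
    induction hg using Subgroup.closure_induction with
    | mem g hg =>
      rcases hg with hg | hg
      · refine ⟨fun r hr => conj_N_mem_R N x hg hr, fun r hr => ?_⟩
        have := conj_N_mem_R N x (N.inv_mem hg) hr
        rwa [inv_inv] at this
      · rw [Set.mem_singleton_iff] at hg
        subst hg
        exact ⟨fun r hr => conj_x_mem_R N g hr, fun r hr => conj_x_inv_mem_R N g hr⟩
    | one => simp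
    | mul g h _ _ ihg ihh =>
      constructor
      · intro r hr
        have := ihg.1 _ (ihh.1 r hr)
        have e : g * h * r * (g * h)⁻¹ = g * (h * r * h⁻¹) * g⁻¹ := by group
        rw [e]; exact this
      · intro r hr
        have := ihh.2 _ (ihg.2 r hr)
        have e : (g * h)⁻¹ * r * (g * h) = h⁻¹ * (g⁻¹ * r * g) * h := by group
        rw [e]; exact this
    | inv g _ ih =>
      refine ⟨fun r hr => ?_, fun r hr => ?_⟩
      · have := ih.2 r hr
        rwa [inv_inv]
      · have := ih.1 r hr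
        rwa [inv_inv]
  apply le_normalizer_of_conj_mem
  intro g hg r hr
  exact (key g hg).1 r hr

theorem commutator_closure_le_R :
    ⁅Subgroup.closure ((N : Set P) ∪ {x}), Subgroup.closure ((N : Set P) ∪ {x})⁆ ≤ R N x := by
  apply commutator_closure_le (closure_le_normalizer N x) (closure_le_normalizer N x)
  intro a ha b hb
  rcases ha with ha | ha <;> rcases hb with hb | hb
  · exact der_le_R N x (Subgroup.commutator_mem_commutator ha hb)
  · rw [Set.mem_singleton_iff] at hb
    rw [hb, ← commutatorElement_inv]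
    exact (R N x).inv_mem (comm_mem_R N x ha)
  · rw [Set.mem_singleton_iff] at ha
    rw [ha]
    exact comm_mem_R N x hb
  · rw [Set.mem_singleton_iff] at ha hb
    rw [ha, hb, commutatorElement_self]
    exact (R N x).one_mem

end

variable [Finite P] {p : ℕ} [hp : Fact p.Prime]

theorem closure_eq_top (N : Subgroup P) (hidx : N.index = p) (x : P) (hx : x ∉ N) :
    Subgroup.closure ((N : Set P) ∪ {x}) = ⊤ := by
  set C := Subgroup.closure ((N : Set P) ∪ {x}) with hC
  have hNC : N ≤ C := fun n hn => Subgroup.subset_closure (Or.inl hn)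
  have hxC : x ∈ C := Subgroup.subset_closure (Or.inr rfl)
  have h1 : C.index ∣ p := hidx ▸ Subgroup.index_dvd_of_le hNC
  rcases (Nat.dvd_prime hp.out).mp h1 with h | h
  · exact Subgroup.index_eq_one.mp h
  · exfalso
    have h2 := Subgroup.card_mul_index C
    have h3 := Subgroup.card_mul_index N
    rw [h] at h2
    rw [hidx, ← h2] at h3
    have h4 : Nat.card N = Nat.card C := Nat.eq_of_mul_eq_mul_right hp.out.pos h3
    have := Subgroup.eq_of_le_of_card_ge hNC h4.ge
    exact hx (this ▸ hxC)

theorem commutator_eq_R (N : Subgroup P) [hN : N.Normal] (hidx : N.index = p) (x : P)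
    (hx : x ∉ N) : commutator P = R N x := by
  apply le_antisymm
  · have := commutator_closure_le_R N x
    rw [closure_eq_top N hidx x hx] at this
    rw [commutator_def]
    exact this
  · exact R_le_commutator N x

theorem index_mul_card (N : Subgroup P) [hN : N.Normal] (hidx : N.index = p) (x : P)
    (hx : x ∉ N) :
    (commutator P).index * Nat.card (commutator N) =
      p * Nat.card {n : N // x * n * x⁻¹ * (n : P)⁻¹ ∈ (commutator N).map N.subtype} := by
  obtain ⟨M, hM⟩ : ∃ M : Subgroup P, M = ⁅N, N⁆ := ⟨_, rfl⟩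
  have hMmap : (commutator N).map N.subtype = M := by rw [hM, Subgroup.map_subtype_commutator]
  have hMcard : Nat.card (commutator N) = Nat.card M := by
    rw [← hMmap]
    exact (Subgroup.card_map_of_injective N.subtype_injective).symm
  -- the kernel
  have hker : Nat.card {n : N // x * n * x⁻¹ * (n : P)⁻¹ ∈ (commutator N).map N.subtype}
      = Nat.card (phi N x).ker := by
    apply Nat.card_congr
    apply Equiv.subtypeEquivRight
    intro n
    rw [MonoidHom.mem_ker, phi_apply, QuotientGroup.eq_one_iff, commutatorElement_def,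
      Subgroup.map_subtype_commutator]
  have hcomap : (R N x).index = (phi N x).range.index :=
    Subgroup.index_comap_of_surjective (H := (phi N x).range) (f := QuotientGroup.mk' ⁅N, N⁆)
      (QuotientGroup.mk'_surjective _)
  rw [hker, commutator_eq_R N hidx x hx, hcomap, hMcard]
  have h1 := Subgroup.card_mul_index (phi N x).ker
  rw [Subgroup.index_ker] at h1
  have h2 := Subgroup.card_mul_index (phi N x).range
  have h3 := Subgroup.card_mul_index M
  have h4 := Subgroup.card_mul_index N
  rw [hidx] at h4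
  have h5 : Nat.card (P ⧸ ⁅N, N⁆) = M.index := by
    rw [hM, Subgroup.index_eq_card]
  rw [h5] at h2
  -- arithmetic
  have hNpos : 0 < Nat.card N := Nat.card_pos
  have hrpos : 0 < Nat.card (phi N x).range := Nat.card_pos
  have : ((phi N x).range.index * Nat.card M) * (Nat.card (phi N x).ker * Nat.card (phi N x).range)
      = (p * Nat.card (phi N x).ker) * (Nat.card (phi N x).ker * Nat.card (phi N x).range) := by
    calc ((phi N x).range.index * Nat.card M) *
          (Nat.card (phi N x).ker * Nat.card (phi N x).range)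
        = (Nat.card (phi N x).range * (phi N x).range.index) * Nat.card M
          * Nat.card (phi N x).ker := by ring
      _ = M.index * Nat.card M * Nat.card (phi N x).ker := by rw [h2]
      _ = (Nat.card M * M.index) * Nat.card (phi N x).ker := by ring
      _ = Nat.card P * Nat.card (phi N x).ker := by rw [h3]
      _ = (Nat.card N * p) * Nat.card (phi N x).ker := by rw [h4]
      _ = (p * Nat.card (phi N x).ker) * Nat.card N := by ring
      _ = (p * Nat.card (phi N x).ker) *
          (Nat.card (phi N x).ker * Nat.card (phi N x).range) := by rw [h1]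
  exact Nat.eq_of_mul_eq_mul_right (by rw [h1]; exact hNpos) this

theorem main (N : Subgroup P) [hN : N.Normal] (hidx : N.index = p) :
    ((commutator P).index = p ^ 2 ↔ ∀ x : P, x ∉ N →
        Nat.card {n : N // x * n * x⁻¹ * (n : P)⁻¹ ∈ (commutator N).map N.subtype}
          = p * Nat.card (commutator N)) ∧
    ((commutator P).index = p ^ 2 ↔ ∃ x : P, x ∉ N ∧
        Nat.card {n : N // x * n * x⁻¹ * (n : P)⁻¹ ∈ (commutator N).map N.subtype}
          = p * Nat.card (commutator N)) := by
  have hpp := hp.out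
  have hmpos : 0 < Nat.card (commutator N) := Nat.card_pos
  have key : ∀ x : P, x ∉ N → ((commutator P).index = p ^ 2 ↔
      Nat.card {n : N // x * n * x⁻¹ * (n : P)⁻¹ ∈ (commutator N).map N.subtype}
          = p * Nat.card (commutator N)) := by
    intro x hx
    have h := index_mul_card N hidx x hx
    constructor
    · intro h1
      rw [h1] at h
      have : p * (p * Nat.card (commutator N)) = p * Nat.card {n : N //
          x * n * x⁻¹ * (n : P)⁻¹ ∈ (commutator N).map N.subtype} := by
        rw [← h]; ring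
      exact (Nat.eq_of_mul_eq_mul_left hpp.pos this).symm
    · intro h1
      rw [h1] at h
      have : (commutator P).index * Nat.card (commutator N) = p ^ 2 * Nat.card (commutator N) := by
        rw [h]; ring
      exact Nat.eq_of_mul_eq_mul_right hmpos this
  obtain ⟨x₀, hx₀⟩ : ∃ x : P, x ∉ N := by
    by_contra hcon
    push Not at hcon
    have : N = ⊤ := eq_top_iff.mpr (fun g _ => hcon g)
    rw [this, Subgroup.index_top] at hidx
    exact hpp.one_lt.ne hidx
  refine ⟨⟨fun h x hx => (key x hx).mp h, fun h => (key x₀ hx₀).mpr (h x₀ hx₀)⟩,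
    ⟨fun h => ⟨x₀, hx₀, (key x₀ hx₀).mp h⟩, fun ⟨x, hx, h⟩ => (key x hx).mpr h⟩⟩

end Cfsg.Agent.Lib.Helper4.AbelIndex
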