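import Mathlib

/-!
Small lemmas on abelian groups generated by two or three elements of known orders: a bound for the order of
the subgroup generated by two commuting elements, and the homomorphism from a product of three cyclic groups.
-/

set_option autoImplicit false

namespace Cfsg.Agent.Lib.Helper4.AbelKer

/-- the subgroup generated by two commuting elements `t`, `v` with `t ^ m = 1`, `v ^ n = 1` has at most `m n`
elements -/
theorem card_closure_pair_le {G : Type*} [Group G] (t v : G) (m n : ℕ) (hm : 0 < m) (hn : 0 < n)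
    (ht : t ^ m = 1) (hv : v ^ n = 1) (hc : Commute t v) :
    Finite (Subgroup.closure ({t, v} : Set G)) ∧ Nat.card (Subgroup.closure ({t, v} : Set G)) ≤ m * n := by
  let f : Fin m × Fin n → G := fun p => t ^ p.1.1 * v ^ p.2.1
  have hmem : ∀ i j : ℕ, t ^ i * v ^ j ∈ Set.range f := by
    intro i j
    refine ⟨(⟨i % m, Nat.mod_lt _ hm⟩, ⟨j % n, Nat.mod_lt _ hn⟩), ?_⟩
    show t ^ (i % m) * v ^ (j % n) = _
    rw [← pow_eq_pow_mod i ht, ← pow_eq_pow_mod j hv]
  let S : Subgroup G :=
    { carrier := Set.range f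
      one_mem' := by
        have := hmem 0 0
        simpa using this
      mul_mem' := by
        rintro _ _ ⟨p, rfl⟩ ⟨q, rfl⟩
        have e : f p * f q = t ^ (p.1.1 + q.1.1) * v ^ (p.2.1 + q.2.1) := by
          show t ^ p.1.1 * v ^ p.2.1 * (t ^ q.1.1 * v ^ q.2.1) = _
          have h1 : v ^ p.2.1 * t ^ q.1.1 = t ^ q.1.1 * v ^ p.2.1 := ((hc.pow_pow q.1.1 p.2.1).eq).symm
          calc t ^ p.1.1 * v ^ p.2.1 * (t ^ q.1.1 * v ^ q.2.1)
              = t ^ p.1.1 * (v ^ p.2.1 * t ^ q.1.1) * v ^ q.2.1 := by group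
            _ = t ^ p.1.1 * (t ^ q.1.1 * v ^ p.2.1) * v ^ q.2.1 := by rw [h1]
            _ = t ^ (p.1.1 + q.1.1) * v ^ (p.2.1 + q.2.1) := by rw [pow_add, pow_add]; group
        rw [e]
        exact hmem _ _
      inv_mem' := by
        rintro _ ⟨p, rfl⟩
        have e : (f p)⁻¹ = t ^ (m - p.1.1) * v ^ (n - p.2.1) := by
          show (t ^ p.1.1 * v ^ p.2.1)⁻¹ = _
          have h1 : t ^ p.1.1 * t ^ (m - p.1.1) = 1 := by
            rw [← pow_add, Nat.add_sub_cancel' (le_of_lt p.1.2), ht]
          have h2 : v ^ p.2.1 * v ^ (n - p.2.1) = 1 := by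
            rw [← pow_add, Nat.add_sub_cancel' (le_of_lt p.2.2), hv]
          have h3 : v ^ p.2.1 * t ^ (m - p.1.1) = t ^ (m - p.1.1) * v ^ p.2.1 :=
            ((hc.pow_pow (m - p.1.1) p.2.1).eq).symm
          apply inv_eq_of_mul_eq_one_right
          calc t ^ p.1.1 * v ^ p.2.1 * (t ^ (m - p.1.1) * v ^ (n - p.2.1))
              = t ^ p.1.1 * (v ^ p.2.1 * t ^ (m - p.1.1)) * v ^ (n - p.2.1) := by group
            _ = t ^ p.1.1 * (t ^ (m - p.1.1) * v ^ p.2.1) * v ^ (n - p.2.1) := by rw [h3]
            _ = (t ^ p.1.1 * t ^ (m - p.1.1)) * (v ^ p.2.1 * v ^ (n - p.2.1)) := by group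
            _ = 1 := by rw [h1, h2, one_mul]
        rw [e]
        exact hmem _ _ }
  have hle : Subgroup.closure ({t, v} : Set G) ≤ S := by
    rw [Subgroup.closure_le]
    rintro x hx
    rcases hx with rfl | rfl
    · have h := hmem 1 0
      rw [pow_one, pow_zero, mul_one] at h
      exact h
    · have h := hmem 0 1
      rw [pow_one, pow_zero, one_mul] at h
      exact h
  have hfinS : Finite S := by
    have : Finite (Set.range f) := Set.finite_range f
    exact this
  have hcardS : Nat.card S ≤ m * n := by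
    have h1 : Nat.card (Set.range f) ≤ Nat.card (Fin m × Fin n) :=
      Nat.card_le_card_of_surjective (Set.rangeFactorization f) Set.rangeFactorization_surjective
    have h2 : Nat.card (Fin m × Fin n) = m * n := by
      rw [Nat.card_prod, Nat.card_fin, Nat.card_fin]
    rw [h2] at h1
    exact h1
  have hinj : Function.Injective (Subgroup.inclusion hle) := Subgroup.inclusion_injective hle
  refine ⟨Finite.of_injective _ hinj, ?_⟩
  exact le_trans (Nat.card_le_card_of_injective _ hinj) hcardS

section Triple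

variable {C : Type*} [CommGroup C] (x y z : C) (a b c : ℕ) [NeZero a] [NeZero b] [NeZero c]

/-- the map from the product of three cyclic groups given by three elements of a commutative group -/
def tripleFun (p : ZMod a × ZMod b × ZMod c) : C := x ^ p.1.val * y ^ p.2.1.val * z ^ p.2.2.val

theorem tripleFun_add (hx : x ^ a = 1) (hy : y ^ b = 1) (hz : z ^ c = 1) (p q : ZMod a × ZMod b × ZMod c) :
    tripleFun x y z a b c (p + q) = tripleFun x y z a b c p * tripleFun x y z a b c q := by
  unfold tripleFun
  have e1 : (p + q).1.val = (p.1.val + q.1.val) % a := ZMod.val_add _ _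
  have e2 : (p + q).2.1.val = (p.2.1.val + q.2.1.val) % b := ZMod.val_add _ _
  have e3 : (p + q).2.2.val = (p.2.2.val + q.2.2.val) % c := ZMod.val_add _ _
  rw [e1, e2, e3, ← pow_eq_pow_mod _ hx, ← pow_eq_pow_mod _ hy, ← pow_eq_pow_mod _ hz, pow_add, pow_add, pow_add]
  simp only [mul_comm, mul_left_comm, mul_assoc]

/-- the homomorphism from the product of three cyclic groups given by three elements of a commutative group -/
def tripleHom (hx : x ^ a = 1) (hy : y ^ b = 1) (hz : z ^ c = 1) :
    Multiplicative (ZMod a × ZMod b × ZMod c) →* C :=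
  MonoidHom.mk' (fun p => tripleFun x y z a b c (Multiplicative.toAdd p))
    (fun p q => tripleFun_add x y z a b c hx hy hz _ _)

theorem tripleHom_apply (hx : x ^ a = 1) (hy : y ^ b = 1) (hz : z ^ c = 1)
    (p : Multiplicative (ZMod a × ZMod b × ZMod c)) :
    tripleHom x y z a b c hx hy hz p = tripleFun x y z a b c (Multiplicative.toAdd p) := rfl

end Triple

end Cfsg.Agent.Lib.Helper4.AbelKer
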