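import Mathlib

/-!
The homomorphism from a product of two cyclic groups given by two elements of a commutative group.
-/

set_option autoImplicit false

namespace Cfsg.Agent.Lib.Helper4.AbelKer

section Pair

variable {C : Type*} [CommGroup C] (x y : C) (a b : ℕ) [NeZero a] [NeZero b]

/-- the map from the product of two cyclic groups given by two elements of a commutative group -/
def pairFun (p : ZMod a × ZMod b) : C := x ^ p.1.val * y ^ p.2.val

theorem pairFun_add (hx : x ^ a = 1) (hy : y ^ b = 1) (p q : ZMod a × ZMod b) :
    pairFun x y a b (p + q) = pairFun x y a b p * pairFun x y a b q := by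
  unfold pairFun
  have e1 : (p + q).1.val = (p.1.val + q.1.val) % a := ZMod.val_add _ _
  have e2 : (p + q).2.val = (p.2.val + q.2.val) % b := ZMod.val_add _ _
  rw [e1, e2, ← pow_eq_pow_mod _ hx, ← pow_eq_pow_mod _ hy, pow_add, pow_add]
  simp only [mul_left_comm, mul_assoc]

/-- the homomorphism from the product of two cyclic groups given by two elements of a commutative group -/
def pairHom (hx : x ^ a = 1) (hy : y ^ b = 1) :
    Multiplicative (ZMod a × ZMod b) →* C :=
  MonoidHom.mk' (fun p => pairFun x y a b (Multiplicative.toAdd p))
    (fun _ _ => pairFun_add x y a b hx hy _ _)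

theorem pairHom_apply (hx : x ^ a = 1) (hy : y ^ b = 1)
    (p : Multiplicative (ZMod a × ZMod b)) :
    pairHom x y a b hx hy p = pairFun x y a b (Multiplicative.toAdd p) := rfl

end Pair

end Cfsg.Agent.Lib.Helper4.AbelKer
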