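import Mathlib

set_option autoImplicit false

namespace Cfsg.Agent.Lib.Helper4

/-- every `p`-subgroup is commutative -/
def AbP (p : ℕ) (G : Type*) [Group G] : Prop :=
  ∀ P : Subgroup G, IsPGroup p P → ∀ x ∈ P, ∀ y ∈ P, x * y = y * x

variable {p : ℕ} [Fact p.Prime]

theorem AbP.of_surjective {G H : Type*} [Group G] [Group H] [Finite G] (f : G →* H)
    (hf : Function.Surjective f) (h : AbP p G) : AbP p H := by
  intro Q hQ x hx y hy
  -- the preimage
  let L : Subgroup G := Q.comap f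
  let S : Sylow p L := Sylow.nonempty.some
  let fL : L →* Q := (f.subgroupComap Q)
  have hfL : Function.Surjective fL := f.subgroupComap_surjective_of_surjective Q hf
  let T : Sylow p Q := S.mapSurjective hfL
  have hT : (T : Subgroup Q) = ⊤ := by
    have := T.is_maximal' (Q := ⊤) (by
      intro g
      obtain ⟨k, hk⟩ := hQ g.1
      exact ⟨k, by ext; simpa using congrArg Subtype.val hk⟩) le_top
    exact this.symm
  have hx' : (⟨x, hx⟩ : Q) ∈ (T : Subgroup Q) := by rw [hT]; trivial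
  have hy' : (⟨y, hy⟩ : Q) ∈ (T : Subgroup Q) := by rw [hT]; trivial
  rw [Sylow.coe_mapSurjective] at hx' hy'
  obtain ⟨a, ha, hax⟩ := hx'
  obtain ⟨b, hb, hby⟩ := hy'
  have hS : IsPGroup p ((S : Subgroup L).map L.subtype) := S.2.map _
  have hc := h _ hS a.1 ⟨a, ha, rfl⟩ b.1 ⟨b, hb, rfl⟩
  have hxa : x = f a.1 := by
    have := congrArg Subtype.val hax
    exact this.symm
  have hyb : y = f b.1 := by
    have := congrArg Subtype.val hby
    exact this.symm
  rw [hxa, hyb, ← map_mul, ← map_mul, hc]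

omit [Fact p.Prime] in
theorem AbP.subgroup {G : Type*} [Group G] (H : Subgroup G) (h : AbP p G) : AbP p H := by
  intro Q hQ x hx y hy
  have hS : IsPGroup p (Q.map H.subtype) := hQ.map _
  have hc := h _ hS x.1 ⟨x, hx, rfl⟩ y.1 ⟨y, hy, rfl⟩
  ext
  simpa using hc

/-- if some Sylow `p`-subgroup is commutative, all `p`-subgroups are -/
theorem AbP.of_sylow {G : Type*} [Group G] [Finite G] (S : Sylow p G)
    (hS : ∀ x ∈ S, ∀ y ∈ S, x * y = y * x) : AbP p G := by
  intro P hP x hx y hy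
  obtain ⟨Q, hPQ⟩ := hP.exists_le_sylow
  let e : Q ≃* S := Sylow.equiv Q S
  have h1 := hS (e ⟨x, hPQ hx⟩).1 (e ⟨x, hPQ hx⟩).2 (e ⟨y, hPQ hy⟩).1 (e ⟨y, hPQ hy⟩).2
  have h2 : e ⟨x, hPQ hx⟩ * e ⟨y, hPQ hy⟩ = e ⟨y, hPQ hy⟩ * e ⟨x, hPQ hx⟩ := by
    ext; simpa using h1
  rw [← map_mul, ← map_mul] at h2
  have h3 := e.injective h2
  simpa using congrArg Subtype.val h3

end Cfsg.Agent.Lib.Helper4
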