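import Mathlib

/-!
# A small group acting on a large set centralizes a large symmetric group
-/

namespace Cfsg.Agent.Lib.Helper4.AltCent

open Equiv MulAction

variable {H : Type*} [Group H] {Ω : Type*} [MulAction H Ω]

/-- The map `hL ↦ h • x`. -/
def orbMap (L : Subgroup H) (x : Ω) (hx : L ≤ stabilizer H x) : H ⧸ L → Ω :=
  Quotient.lift (fun h : H => h • x) (by
    intro a b hab
    have hab' : a⁻¹ * b ∈ L := QuotientGroup.leftRel_apply.mp hab
    have := hx hab'
    rw [mem_stabilizer_iff, mul_smul] at this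
    show a • x = b • x
    rw [← this, smul_inv_smul, this])

theorem orbMap_mk (L : Subgroup H) (x : Ω) (hx : L ≤ stabilizer H x) (h : H) :
    orbMap L x hx (h : H ⧸ L) = h • x := rfl

/-- The product hom `σ ↦ id × σ`. -/
def prodRightHom (Q B : Type*) : Perm B →* Perm (Q × B) where
  toFun σ := Equiv.prodCongr (Equiv.refl Q) σ
  map_one' := by ext ⟨q, b⟩ <;> rfl
  map_mul' σ τ := by ext ⟨q, b⟩ <;> rfl

theorem prodRightHom_apply (Q B : Type*) (σ : Perm B) (q : Q) (b : B) :
    prodRightHom Q B σ (q, b) = (q, σ b) := rfl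

theorem prodRightHom_injective (Q B : Type*) [Nonempty Q] :
    Function.Injective (prodRightHom Q B) := by
  intro σ τ h
  ext b
  obtain ⟨q⟩ := ‹Nonempty Q›
  have := congrArg (fun e : Perm (Q × B) => (e (q, b)).2) h
  simpa [prodRightHom_apply] using this

/-- The abstract construction. -/
theorem exists_hom_of_points {r : ℕ} (L : Subgroup H) (x : Fin r → Ω)
    (hx : ∀ i, stabilizer H (x i) = L)
    (hq : Function.Injective fun i => (Quotient.mk (orbitRel H Ω) (x i))) :
    ∃ Ψ : Perm (Fin r) →* Perm Ω, Function.Injective Ψ ∧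
      ∀ (σ : Perm (Fin r)) (h : H) (y : Ω), Ψ σ (h • y) = h • Ψ σ y := by
  classical
  let ι₀ : (H ⧸ L) × Fin r → Ω := fun z => orbMap L (x z.2) (hx z.2).ge z.1
  have hι₀ : Function.Injective ι₀ := by
    rintro ⟨q, i⟩ ⟨q', j⟩ h
    induction q using QuotientGroup.induction_on with | _ a => ?_
    induction q' using QuotientGroup.induction_on with | _ b => ?_
    simp only [ι₀, orbMap_mk] at h
    have hij : i = j := by
      apply hq
      simp only
      apply Quotient.sound
      apply orbitRel_apply.mpr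
      refine ⟨a⁻¹ * b, ?_⟩
      show (a⁻¹ * b) • x j = x i
      rw [mul_smul, ← h, inv_smul_smul]
    subst hij
    congr 1
    rw [QuotientGroup.eq, ← hx i, mem_stabilizer_iff, mul_smul, ← h, inv_smul_smul]
  let ι : (H ⧸ L) × Fin r ↪ Ω := ⟨ι₀, hι₀⟩
  have hsmul : ∀ (g : H) (z : (H ⧸ L) × Fin r), g • ι z = ι (g • z.1, z.2) := by
    rintro g ⟨q, i⟩
    induction q using QuotientGroup.induction_on with | _ a => ?_
    show g • orbMap L (x i) (hx i).ge (a : H ⧸ L) = orbMap L (x i) (hx i).ge (g • (a : H ⧸ L))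
    rw [MulAction.Quotient.smul_mk, orbMap_mk, orbMap_mk, smul_eq_mul, mul_smul]
  let Ψ : Perm (Fin r) →* Perm Ω :=
    (Perm.viaEmbeddingHom ι).comp (prodRightHom (H ⧸ L) (Fin r))
  have hΨ : ∀ σ z, Ψ σ (ι z) = ι (z.1, σ z.2) := by
    intro σ z
    show Perm.viaEmbeddingHom ι (prodRightHom (H ⧸ L) (Fin r) σ) (ι z) = _
    rw [Perm.viaEmbeddingHom_apply, Perm.viaEmbedding_apply]
    rfl
  have hΨ' : ∀ σ y, y ∉ Set.range ι → Ψ σ y = y := by
    intro σ y hy
    show Perm.viaEmbeddingHom ι (prodRightHom (H ⧸ L) (Fin r) σ) y = _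
    rw [Perm.viaEmbeddingHom_apply, Perm.viaEmbedding_apply_of_notMem _ _ _ hy]
  refine ⟨Ψ, ?_, ?_⟩
  · exact (Perm.viaEmbeddingHom_injective ι).comp (prodRightHom_injective _ _)
  · intro σ h y
    by_cases hy : y ∈ Set.range ι
    · obtain ⟨z, rfl⟩ := hy
      rw [hsmul, hΨ, hΨ, hsmul]
    · have hy' : h • y ∉ Set.range ι := by
        rintro ⟨z, hz⟩
        apply hy
        refine ⟨(h⁻¹ • z.1, z.2), ?_⟩
        have := hsmul h⁻¹ z
        rw [← this, hz, inv_smul_smul]
      rw [hΨ' σ y hy, hΨ' σ _ hy']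

end Cfsg.Agent.Lib.Helper4.AltCent
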