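import Mathlib
import Cfsg.Agent.Lib.Helper4.AltCent1

/-!
# Pigeonhole: many points with the same stabilizer in distinct orbits
-/

namespace Cfsg.Agent.Lib.Helper4.AltCent

open Equiv MulAction Finset

variable {H : Type*} [Group H] {Ω : Type*} [MulAction H Ω]

theorem exists_points [Finite H] [Fintype Ω] [DecidableEq Ω] (r : ℕ)
    (hcard : 2 ^ Nat.card H * (Nat.card H * r) < Fintype.card Ω) :
    ∃ (L : Subgroup H) (x : Fin r → Ω), (∀ i, stabilizer H (x i) = L) ∧
      Function.Injective fun i => (Quotient.mk (orbitRel H Ω) (x i)) := by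
  classical
  haveI : Fintype H := Fintype.ofFinite H
  haveI : Fintype (Subgroup H) := Fintype.ofFinite _
  have hn : Nat.card H = Fintype.card H := Nat.card_eq_fintype_card
  have hsub : Fintype.card (Subgroup H) ≤ 2 ^ Nat.card H := by
    rw [hn, ← Fintype.card_set]
    exact Fintype.card_le_of_injective (fun K : Subgroup H => (K : Set H)) SetLike.coe_injective
  have hpig : (univ : Finset (Subgroup H)).card * (Nat.card H * r) < (univ : Finset Ω).card := by
    rw [card_univ, card_univ]
    exact lt_of_le_of_lt (Nat.mul_le_mul_right _ hsub) hcard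
  obtain ⟨L, -, hL⟩ := Finset.exists_lt_card_fiber_of_mul_lt_card_of_maps_to
    (f := fun x : Ω => stabilizer H x) (fun a _ => mem_univ _) hpig
  set X := (univ : Finset Ω).filter (fun x => stabilizer H x = L) with hX
  let q : Ω → Quotient (orbitRel H Ω) := fun x => Quotient.mk (orbitRel H Ω) x
  have hfib : ∀ b ∈ X.image q, (X.filter (fun a => q a = b)).card ≤ Nat.card H := by
    intro b hb
    obtain ⟨x₀, -, rfl⟩ := mem_image.mp hb
    have hsub : X.filter (fun a => q a = q x₀) ⊆ (univ : Finset H).image (fun h => h • x₀) := by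
      intro a ha
      rw [mem_filter] at ha
      have h1 : (orbitRel H Ω) a x₀ := Quotient.exact ha.2
      rw [orbitRel_apply] at h1
      obtain ⟨h, hh⟩ := h1
      exact mem_image.mpr ⟨h, mem_univ _, hh⟩
    calc (X.filter (fun a => q a = q x₀)).card
        ≤ ((univ : Finset H).image (fun h => h • x₀)).card := card_le_card hsub
      _ ≤ (univ : Finset H).card := card_image_le
      _ = Nat.card H := by rw [card_univ, hn]
  have h1 := Finset.card_le_mul_card_image X (Nat.card H) hfib
  have hnpos : 0 < Nat.card H := Nat.card_pos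
  have hr : r ≤ (X.image q).card := by
    have : Nat.card H * r < Nat.card H * (X.image q).card := lt_of_lt_of_le hL h1
    exact (Nat.lt_of_mul_lt_mul_left this).le
  obtain ⟨T, hT, hTc⟩ := Finset.exists_subset_card_eq hr
  let e : Fin r ≃ T := (Finset.equivFinOfCardEq hTc).symm
  have hex : ∀ i : Fin r, ∃ x ∈ X, q x = (e i : Quotient (orbitRel H Ω)) := by
    intro i
    exact mem_image.mp (hT (e i).2)
  choose x hxX hxq using hex
  refine ⟨L, x, ?_, ?_⟩
  · intro i
    have := hxX i
    rw [hX, mem_filter] at this
    exact this.2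
  · intro i j hij
    have : (e i : Quotient (orbitRel H Ω)) = e j := by
      rw [← hxq i, ← hxq j]; exact hij
    exact e.injective (Subtype.ext this)

/-- A small group acting on a large set centralizes a copy of `Perm (Fin r)`. -/
theorem exists_commuting_hom [Finite H] [Fintype Ω] [DecidableEq Ω] (r : ℕ)
    (hcard : 2 ^ Nat.card H * (Nat.card H * r) < Fintype.card Ω) :
    ∃ Ψ : Perm (Fin r) →* Perm Ω, Function.Injective Ψ ∧
      ∀ (σ : Perm (Fin r)) (h : H) (y : Ω), Ψ σ (h • y) = h • Ψ σ y := by
  obtain ⟨L, x, hx, hq⟩ := exists_points (H := H) (Ω := Ω) r hcard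
  exact exists_hom_of_points L x hx hq

end Cfsg.Agent.Lib.Helper4.AltCent
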