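import Mathlib
import Cfsg.Agent.Lib.Helper4.AltCent2

/-!
# Subgroups of bounded order in large alternating groups centralize alternating subgroups
-/

namespace Cfsg.Agent.Lib.Helper4.AltCent

open Equiv MulAction

/-- Any homomorphism between symmetric groups maps even permutations to even permutations. -/
theorem map_mem_alternatingGroup {A B : Type*} [Fintype A] [DecidableEq A] [Fintype B]
    [DecidableEq B] (Ψ : Perm A →* Perm B) {σ : Perm A} (hσ : σ ∈ alternatingGroup A) :
    Ψ σ ∈ alternatingGroup B := by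
  let φ : Perm A →* ℤˣ := Perm.sign.comp Ψ
  have hle : alternatingGroup A ≤ φ.ker := by
    rw [← Perm.closure_three_cycles_eq_alternating, Subgroup.closure_le]
    intro c hc
    have h3 : c ^ 3 = 1 := by
      rw [← hc.orderOf]; exact pow_orderOf_eq_one c
    have h3' : φ c ^ 3 = 1 := by rw [← map_pow, h3, map_one]
    rw [SetLike.mem_coe, MonoidHom.mem_ker]
    rcases Int.units_eq_one_or (φ c) with h | h
    · exact h
    · rw [h] at h3'
      exact absurd h3' (by decide)
  have := hle hσ
  rw [MonoidHom.mem_ker] at this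
  exact Perm.mem_alternatingGroup.mpr this

/-- The bounding function. -/
def bound (n r : ℕ) : ℕ := 2 ^ n * (n * r) + 1

theorem exists_alt_centralizing {m r : ℕ} (H : Subgroup (alternatingGroup (Fin m)))
    (hm : bound (Nat.card H) r ≤ m) :
    ∃ K : Subgroup (alternatingGroup (Fin m)),
      Nonempty (K ≃* alternatingGroup (Fin r)) ∧
        K ≤ Subgroup.centralizer (H : Set (alternatingGroup (Fin m))) := by
  have hcard : 2 ^ Nat.card H * (Nat.card H * r) < Fintype.card (Fin m) := by
    rw [Fintype.card_fin]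
    unfold bound at hm
    omega
  obtain ⟨Ψ, hΨinj, hΨ⟩ := exists_commuting_hom (H := H) (Ω := Fin m) r hcard
  let Φ : alternatingGroup (Fin r) →* alternatingGroup (Fin m) :=
    (Ψ.comp (alternatingGroup (Fin r)).subtype).codRestrict (alternatingGroup (Fin m))
      (fun σ => map_mem_alternatingGroup Ψ σ.2)
  have hΦinj : Function.Injective Φ := by
    intro σ τ h
    have h1 : Ψ (σ : Perm (Fin r)) = Ψ (τ : Perm (Fin r)) := congrArg Subtype.val h
    exact Subtype.ext (hΨinj h1)
  refine ⟨Φ.range, ⟨(MonoidHom.ofInjective hΦinj).symm⟩, ?_⟩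
  rintro k ⟨σ, rfl⟩
  rw [Subgroup.mem_centralizer_iff]
  intro h hh
  apply Subtype.ext
  ext y
  have := hΨ (σ : Perm (Fin r)) ⟨h, hh⟩ y
  simp only [Subgroup.coe_mul, Perm.mul_apply]
  have e1 : ((Φ σ : alternatingGroup (Fin m)) : Perm (Fin m)) = Ψ (σ : Perm (Fin r)) := rfl
  rw [e1]
  have e2 : ((⟨h, hh⟩ : H) • y : Fin m) = (h : Perm (Fin m)) y := rfl
  rw [e2] at this
  have e3 : ((⟨h, hh⟩ : H) • (Ψ (σ : Perm (Fin r)) y) : Fin m)
      = (h : Perm (Fin m)) (Ψ (σ : Perm (Fin r)) y) := rfl
  rw [e3] at this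
  rw [this]

end Cfsg.Agent.Lib.Helper4.AltCent
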