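import Mathlib

/-!
# Subgroups `Alt(s)` of `Alt(α)` supported on a finset `s`
-/

namespace Cfsg.Agent.Lib.Helper4.AltStd

open Equiv Subgroup
open scoped Pointwise

variable {α : Type*} [Fintype α] [DecidableEq α]

/-- The even permutations supported on `s`. -/
def altOn (s : Finset α) : Subgroup (alternatingGroup α) := (alternatingGroup.ofSubtype s).range

theorem mem_altOn {s : Finset α} {k : alternatingGroup α} :
    k ∈ altOn s ↔ (k : Perm α).support ⊆ s :=
  alternatingGroup.mem_range_ofSubtype_iff s k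

theorem mem_altOn' {s : Finset α} {k : alternatingGroup α} :
    k ∈ altOn s ↔ ∀ i, i ∉ s → (k : Perm α) i = i := by
  rw [mem_altOn]
  constructor
  · intro h i hi
    by_contra hne
    exact hi (h (Perm.mem_support.mpr hne))
  · intro h i hi
    by_contra his
    exact (Perm.mem_support.mp hi) (h i his)

theorem altOn_mono {s t : Finset α} (h : s ⊆ t) : altOn s ≤ altOn t := by
  intro k hk
  rw [mem_altOn] at hk ⊢
  exact hk.trans h

theorem altOn_inf (s t : Finset α) : altOn s ⊓ altOn t = altOn (s ∩ t) := by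
  ext k
  rw [mem_inf, mem_altOn, mem_altOn, mem_altOn, Finset.subset_inter_iff]

theorem map_conj_altOn (g : alternatingGroup α) (s : Finset α) :
    (altOn s).map (MulAut.conj g).toMonoidHom = altOn (g • s) :=
  alternatingGroup.conj_smul_range_ofSubtype s g

/-- `Alt(s) ≃* alternatingGroup s`. -/
noncomputable def altOnEquiv (s : Finset α) : alternatingGroup s ≃* altOn s :=
  MonoidHom.ofInjective alternatingGroup.ofSubtype_injective

/-- The three-cycle `c ↦ a ↦ b ↦ c`. -/
def tc (a b c : α) : Perm α := swap b a * swap b c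

theorem tc_apply_c {a b c : α} (hab : a ≠ b) (hbc : b ≠ c) (hac : a ≠ c) : tc a b c c = a := by
  unfold tc
  rw [Perm.mul_apply, swap_apply_right, swap_apply_left]

theorem tc_apply_of_ne {a b c i : α} (ha : i ≠ a) (hb : i ≠ b) (hc : i ≠ c) : tc a b c i = i := by
  unfold tc
  rw [Perm.mul_apply, swap_apply_of_ne_of_ne hb hc, swap_apply_of_ne_of_ne hb ha]

theorem tc_mem_alt {a b c : α} (hab : a ≠ b) (hbc : b ≠ c) (hac : a ≠ c) :
    tc a b c ∈ alternatingGroup α :=
  (Perm.isThreeCycle_swap_mul_swap_same hab.symm hbc hac).mem_alternatingGroup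

/-- In `Alt(s)` with `|s| ≥ 3` any point of `s` can be moved to any other point of `s`. -/
theorem exists_mem_altOn_apply {s : Finset α} (hs : 3 ≤ s.card) {c a : α} (hc : c ∈ s)
    (ha : a ∈ s) (hca : c ≠ a) : ∃ σ ∈ altOn s, ((σ : alternatingGroup α) : Perm α) c = a := by
  have h1 : 0 < ((s.erase c).erase a).card := by
    rw [Finset.card_erase_of_mem (Finset.mem_erase.mpr ⟨hca.symm, ha⟩),
      Finset.card_erase_of_mem hc]
    omega
  obtain ⟨b, hb⟩ := Finset.card_pos.mp h1
  rw [Finset.mem_erase, Finset.mem_erase] at hb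
  obtain ⟨hba, hbc, hbs⟩ := hb
  refine ⟨⟨tc a b c, tc_mem_alt hba.symm hbc hca.symm⟩, ?_, tc_apply_c hba.symm hbc hca.symm⟩
  rw [mem_altOn']
  intro i hi
  apply tc_apply_of_ne
  · rintro rfl; exact hi ha
  · rintro rfl; exact hi hbs
  · rintro rfl; exact hi hc

/-- In `Alt(s)` with `|s| ≥ 4`, for `i ≠ j ∈ s` some element fixes `i` and moves `j`. -/
theorem exists_mem_altOn_fix_move {s : Finset α} (hs : 4 ≤ s.card) {i j : α} (hi : i ∈ s)
    (hj : j ∈ s) (hij : i ≠ j) :
    ∃ σ ∈ altOn s, ((σ : alternatingGroup α) : Perm α) i = i ∧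
      ((σ : alternatingGroup α) : Perm α) j ≠ j := by
  have h3 : 3 ≤ (s.erase i).card := by
    rw [Finset.card_erase_of_mem hi]; omega
  have hj' : j ∈ s.erase i := Finset.mem_erase.mpr ⟨hij.symm, hj⟩
  have h1 : 0 < ((s.erase i).erase j).card := by
    rw [Finset.card_erase_of_mem hj']; omega
  obtain ⟨a, ha⟩ := Finset.card_pos.mp h1
  rw [Finset.mem_erase] at ha
  obtain ⟨haj, ha'⟩ := ha
  obtain ⟨σ, hσ, hσj⟩ := exists_mem_altOn_apply h3 hj' ha' haj.symm
  refine ⟨σ, altOn_mono (Finset.erase_subset _ _) hσ, ?_, ?_⟩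
  · rw [mem_altOn'] at hσ
    exact hσ i (Finset.notMem_erase i s)
  · rw [hσj]; exact haj

/-- The centralizer of `Alt(s)`, `|s| ≥ 4`, is `Alt(sᶜ)`. -/
theorem centralizer_altOn {s : Finset α} (hs : 4 ≤ s.card) :
    centralizer ((altOn s : Subgroup (alternatingGroup α)) : Set (alternatingGroup α))
      = altOn sᶜ := by
  ext σ
  rw [mem_centralizer_iff, mem_altOn']
  constructor
  · intro h i hi
    rw [Finset.mem_compl, not_not] at hi
    by_contra hne
    set j := (σ : Perm α) i with hj
    by_cases hjs : j ∈ s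
    · obtain ⟨x, hx, hxi, hxj⟩ := exists_mem_altOn_fix_move hs hi hjs (Ne.symm hne)
      have h1 := h x hx
      have h2 : ((x * σ : alternatingGroup α) : Perm α) i = ((σ * x : alternatingGroup α) : Perm α) i := by
        rw [h1]
      simp only [Subgroup.coe_mul, Perm.mul_apply] at h2
      rw [hxi, ← hj] at h2
      exact hxj h2
    · have h3 : 3 ≤ s.card := by omega
      have h1' : 0 < (s.erase i).card := by
        rw [Finset.card_erase_of_mem hi]; omega
      obtain ⟨i', hi'⟩ := Finset.card_pos.mp h1'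
      rw [Finset.mem_erase] at hi'
      obtain ⟨x, hx, hxi⟩ := exists_mem_altOn_apply h3 hi hi'.2 hi'.1.symm
      have h1 := h x hx
      have h2 : ((x * σ : alternatingGroup α) : Perm α) i = ((σ * x : alternatingGroup α) : Perm α) i := by
        rw [h1]
      simp only [Subgroup.coe_mul, Perm.mul_apply] at h2
      rw [hxi, ← hj] at h2
      rw [mem_altOn'] at hx
      rw [hx j hjs] at h2
      -- j = σ i'
      have := (σ : Perm α).injective (hj.symm.trans h2)
      exact hi'.1 this.symm
  · intro h x hx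
    rw [SetLike.mem_coe, mem_altOn'] at hx
    apply Subtype.ext
    simp only [Subgroup.coe_mul]
    have hd : Perm.Disjoint (x : Perm α) (σ : Perm α) := by
      intro i
      by_cases his : i ∈ s
      · right; exact h i (by rw [Finset.mem_compl, not_not]; exact his)
      · left; exact hx i his
    exact hd.commute.eq

/-- `Alt(s)` has odd order when `|s| ≤ 3`. -/
theorem odd_card_altOn {s : Finset α} (hs : s.card ≤ 3) : Odd (Nat.card (altOn s)) := by
  rw [← Nat.not_even_iff_odd]
  intro heven
  obtain ⟨x, hx⟩ := exists_prime_orderOf_dvd_card' 2 heven.two_dvd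
  have hx' : orderOf (((x : altOn s) : alternatingGroup α) : Perm α) = 2 := by
    rw [Subgroup.orderOf_coe, Subgroup.orderOf_coe]; exact hx
  set σ : Perm α := (((x : altOn s) : alternatingGroup α) : Perm α) with hσ
  obtain ⟨k, hk⟩ := Perm.cycleType_prime_order (σ := σ) (by rw [hx']; exact Nat.prime_two)
  rw [hx'] at hk
  have hsign : Perm.sign σ = 1 := Perm.mem_alternatingGroup.mp ((x : altOn s) : alternatingGroup α).2
  rw [Perm.sign_of_cycleType, hk] at hsign
  simp only [Multiset.sum_replicate, Multiset.card_replicate, smul_eq_mul] at hsign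
  have hsupp : σ.support.card ≤ 3 :=
    (Finset.card_le_card (mem_altOn.mp x.2)).trans hs
  rw [← Perm.sum_cycleType, hk] at hsupp
  simp only [Multiset.sum_replicate, smul_eq_mul] at hsupp
  have hk0 : k = 0 := by omega
  subst hk0
  norm_num at hsign

end Cfsg.Agent.Lib.Helper4.AltStd
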