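import Mathlib
import Cfsg.Prelude.Def_Local
import Cfsg.Agent.Lib.Helper4.AltStd1
import Cfsg.Agent.Lib.Helper2.Components2

/-!
# `Alt(T)` is a standard subgroup of `Alt(α)` when `|α \ T| = 4`, `|T| ≥ 5`, `2|T| > |α|`
-/

namespace Cfsg.Agent.Lib.Helper4.AltStd

open Equiv Subgroup
open scoped Pointwise commutatorElement

theorem normalizer_le_normalizer_centralizer {G : Type*} [Group G] (H : Subgroup G) :
    normalizer (H : Set G) ≤ normalizer ((centralizer (H : Set G) : Subgroup G) : Set G) := by
  intro g hg
  have key : ∀ g : G, g ∈ normalizer (H : Set G) → ∀ x ∈ centralizer (H : Set G),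
      g * x * g⁻¹ ∈ centralizer (H : Set G) := by
    intro g hg x hx
    rw [mem_centralizer_iff] at hx ⊢
    intro l hl
    have hl' : g⁻¹ * l * g ∈ H := by
      have := (mem_normalizer_iff.mp (inv_mem hg) l).mp hl
      simpa using this
    have := hx _ hl'
    calc l * (g * x * g⁻¹) = g * ((g⁻¹ * l * g) * x) * g⁻¹ := by group
      _ = g * (x * (g⁻¹ * l * g)) * g⁻¹ := by rw [this]
      _ = g * x * g⁻¹ * l := by group
  rw [mem_normalizer_iff]
  intro x
  constructor
  · exact key g hg x
  · intro hx
    have := key g⁻¹ (inv_mem hg) _ hx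
    simpa [mul_assoc] using this

theorem mem_normalizer_of_map_conj_eq {G : Type*} [Group G] (H : Subgroup G) (g : G)
    (h : H.map (MulAut.conj g).toMonoidHom = H) : g ∈ normalizer (H : Set G) := by
  rw [mem_normalizer_iff]
  intro x
  constructor
  · intro hx
    rw [← h]
    exact ⟨x, hx, rfl⟩
  · intro hx
    rw [← h] at hx
    obtain ⟨y, hy, hyx⟩ := hx
    have : y = x := by
      have : g * y * g⁻¹ = g * x * g⁻¹ := hyx
      simpa using this
    rw [← this]; exact hy

variable {α : Type*} [Fintype α] [DecidableEq α]

theorem isStandard_altOn (T : Finset α) (hT : 5 ≤ T.card) (hS : Tᶜ.card = 4)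
    (h2 : Fintype.card α < 2 * T.card) : Cfsg.IsStandardSubgroup (altOn T) := by
  have hCL : centralizer ((altOn T : Subgroup (alternatingGroup α)) : Set (alternatingGroup α))
      = altOn Tᶜ := centralizer_altOn (by omega)
  have hCK : centralizer ((altOn Tᶜ : Subgroup (alternatingGroup α)) : Set (alternatingGroup α))
      = altOn T := by rw [centralizer_altOn (by omega), compl_compl]
  refine ⟨?_, ?_, ?_, ?_⟩
  · -- quasisimple
    haveI : IsSimpleGroup (alternatingGroup T) :=
      alternatingGroup.isSimpleGroup (by rw [Nat.card_eq_fintype_card, Fintype.card_coe]; exact hT)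
    have hna : ¬ ∀ a b : alternatingGroup T, a * b = b * a := by
      intro h
      have h1 : IsMulCommutative (alternatingGroup T) := ⟨⟨h⟩⟩
      rw [alternatingGroup.isMulCommutative_iff_card_le_three, Nat.card_eq_fintype_card,
        Fintype.card_coe] at h1
      omega
    exact Cfsg.Agent.Lib.Helper2.isQuasisimple_of_mulEquiv (altOnEquiv T).symm
      (Cfsg.Agent.Lib.Helper2.isQuasisimple_of_simple hna)
  · -- tightly embedded
    rw [hCL]
    constructor
    · rw [← Nat.card_congr (altOnEquiv Tᶜ).toEquiv]
      haveI : Nontrivial (Tᶜ : Finset α) := by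
        rw [← Fintype.one_lt_card_iff_nontrivial, Fintype.card_coe]; omega
      have h := two_mul_card_alternatingGroup (α := (Tᶜ : Finset α))
      rw [Fintype.card_perm, Fintype.card_coe, hS] at h
      rw [Nat.card_eq_fintype_card]
      have : (4 : ℕ).factorial = 24 := by decide
      exact ⟨6, by omega⟩
    · intro g hg
      rw [map_conj_altOn, altOn_inf]
      apply odd_card_altOn
      by_contra hcard
      push Not at hcard
      have h1 : Tᶜ ∩ g • Tᶜ = Tᶜ :=
        Finset.eq_of_subset_of_card_le Finset.inter_subset_left (by omega)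
      have hsub : Tᶜ ⊆ g • Tᶜ := Finset.inter_eq_left.mp h1
      have heq : Tᶜ = g • Tᶜ :=
        Finset.eq_of_subset_of_card_le hsub (by rw [Finset.card_smul_finset])
      apply hg
      apply mem_normalizer_of_map_conj_eq
      rw [map_conj_altOn, ← heq]
  · intro g hg
    rw [map_conj_altOn] at hg ⊢
    have hne : g • T ≠ T := fun h => hg (by rw [h])
    have hns : ¬ T ⊆ g • T := fun h =>
      hne (Finset.eq_of_subset_of_card_le h (by rw [Finset.card_smul_finset])).symm
    obtain ⟨a, haT, hag⟩ := Finset.not_subset.mp hns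
    have hne' : (T ∩ g • T).Nonempty := by
      by_contra h
      rw [Finset.not_nonempty_iff_eq_empty] at h
      have h3 := Finset.card_union_of_disjoint (Finset.disjoint_iff_inter_eq_empty.mpr h)
      rw [Finset.card_smul_finset] at h3
      have h4 := Finset.card_le_univ (T ∪ g • T)
      omega
    obtain ⟨c, hc⟩ := hne'
    rw [Finset.mem_inter] at hc
    have hca : c ≠ a := by
      rintro rfl; exact hag hc.2
    obtain ⟨x, hx, hxc⟩ := exists_mem_altOn_apply (by omega : 3 ≤ T.card) hc.1 haT hca
    -- y in Alt(gT) moving c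
    have hgT : 3 ≤ (g • T).card := by rw [Finset.card_smul_finset]; omega
    have h1' : 0 < ((g • T).erase c).card := by
      rw [Finset.card_erase_of_mem hc.2]; omega
    obtain ⟨c', hc'⟩ := Finset.card_pos.mp h1'
    rw [Finset.mem_erase] at hc'
    obtain ⟨y, hy, hyc⟩ := exists_mem_altOn_apply hgT hc.2 hc'.2 hc'.1.symm
    have hya : ((y : alternatingGroup α) : Perm α) a = a := (mem_altOn'.mp hy) a hag
    intro hbot
    have hcomm : ⁅x, y⁆ ∈ (⊥ : Subgroup (alternatingGroup α)) := by
      rw [← hbot]; exact commutator_mem_commutator hx hy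
    rw [mem_bot, commutatorElement_eq_one_iff_mul_comm] at hcomm
    have h5 : ((x * y : alternatingGroup α) : Perm α) c = ((y * x : alternatingGroup α) : Perm α) c := by
      rw [hcomm]
    simp only [Subgroup.coe_mul, Perm.mul_apply] at h5
    rw [hxc, hya, ← hxc] at h5
    have := (x : Perm α).injective h5
    rw [hyc] at this
    exact hc'.1 this
  · rw [hCL]
    apply le_antisymm
    · have := normalizer_le_normalizer_centralizer (altOn T : Subgroup (alternatingGroup α))
      rw [hCL] at this
      exact this
    · have := normalizer_le_normalizer_centralizer (altOn Tᶜ : Subgroup (alternatingGroup α))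
      rw [hCK] at this
      exact this

end Cfsg.Agent.Lib.Helper4.AltStd
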