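import Mathlib
import Cfsg.Agent.Lib.Helper4.ES2F
import Cfsg.Agent.Lib.Helper9.Extraspecial1

set_option autoImplicit false

/-!
# The automorphism group of the extraspecial group `2 ^ (1 + 4)` of minus type

A concrete model `M32` of the group, the action of its automorphisms on the five pairs of
non-central involutions, and the identification of the outer automorphism group with `S₅`.
-/

namespace Cfsg.Agent.Lib.Helper4.Aut32

open Cfsg.Agent.Lib.Helper4.ES2

/-- The model: `(z; a, b, c, d)` with the product twisted by a bilinear form whose diagonal is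
the quadratic form `a b + c + c d + d` of minus type. -/
structure M32 where
  z : ZMod 2
  a : ZMod 2
  b : ZMod 2
  c : ZMod 2
  d : ZMod 2
  deriving DecidableEq, Fintype

namespace M32

theorem ext' {x y : M32} (hz : x.z = y.z) (ha : x.a = y.a) (hb : x.b = y.b) (hc : x.c = y.c)
    (hd : x.d = y.d) : x = y := by
  cases x; cases y; simp_all

instance : Mul M32 := ⟨fun x y => ⟨x.z + y.z + (x.a * y.b + x.c * y.c + x.c * y.d + x.d * y.d),
  x.a + y.a, x.b + y.b, x.c + y.c, x.d + y.d⟩⟩
instance : One M32 := ⟨⟨0, 0, 0, 0, 0⟩⟩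
instance : Inv M32 := ⟨fun x => ⟨x.z + (x.a * x.b + x.c * x.c + x.c * x.d + x.d * x.d),
  x.a, x.b, x.c, x.d⟩⟩

theorem mul_def (x y : M32) : x * y =
    ⟨x.z + y.z + (x.a * y.b + x.c * y.c + x.c * y.d + x.d * y.d),
      x.a + y.a, x.b + y.b, x.c + y.c, x.d + y.d⟩ := rfl

instance : Group M32 where
  mul_assoc x y w := by
    simp only [mul_def]
    apply ext' <;> ring
  one_mul x := by
    show (⟨_, _, _, _, _⟩ : M32) = x
    apply ext' <;> simp [show (1 : M32).z = 0 from rfl, show (1 : M32).a = 0 from rfl,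
      show (1 : M32).b = 0 from rfl, show (1 : M32).c = 0 from rfl, show (1 : M32).d = 0 from rfl]
  mul_one x := by
    show (⟨_, _, _, _, _⟩ : M32) = x
    apply ext' <;> simp [show (1 : M32).z = 0 from rfl, show (1 : M32).a = 0 from rfl,
      show (1 : M32).b = 0 from rfl, show (1 : M32).c = 0 from rfl, show (1 : M32).d = 0 from rfl]
  inv_mul_cancel x := by
    show (⟨_, _, _, _, _⟩ : M32) = ⟨0, 0, 0, 0, 0⟩
    have h2 : ∀ t : ZMod 2, t + t = 0 := by decide
    apply ext'
    · show x.z + (x.a * x.b + x.c * x.c + x.c * x.d + x.d * x.d) + x.z +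
        (x.a * x.b + x.c * x.c + x.c * x.d + x.d * x.d) = 0
      have := h2 (x.z + (x.a * x.b + x.c * x.c + x.c * x.d + x.d * x.d))
      rw [← this]; ring
    · exact h2 _
    · exact h2 _
    · exact h2 _
    · exact h2 _

/-- the central involution -/
def zM : M32 := ⟨1, 0, 0, 0, 0⟩

/-- representatives of the five pairs of non-central involutions -/
def s : Fin 5 → M32
  | 0 => ⟨0, 1, 0, 0, 0⟩
  | 1 => ⟨0, 0, 1, 0, 0⟩
  | 2 => ⟨0, 1, 1, 1, 0⟩
  | 3 => ⟨0, 1, 1, 0, 1⟩
  | 4 => ⟨0, 1, 1, 1, 1⟩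

/-- the index of the pair containing a non-central involution -/
def idx (x : M32) : Fin 5 :=
  if x.a = 1 ∧ x.b = 0 then 0
  else if x.a = 0 ∧ x.b = 1 then 1
  else if x.c = 1 ∧ x.d = 0 then 2
  else if x.c = 0 ∧ x.d = 1 then 3
  else 4

/-- the twist exchanging the pairs `i` and `j` -/
def tau (i j : Fin 5) (x : M32) : M32 :=
  if x * (s i * s j) = (s i * s j) * x then x else x * (s i * s j)

/-- auxiliary power -/
def pw (g : M32) (e : Bool) : M32 := if e then g else 1

set_option maxRecDepth 100000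

theorem card_eq : Fintype.card M32 = 32 := by decide

theorem center_cases : ∀ x : M32, (∀ y : M32, x * y = y * x) → x = 1 ∨ x = zM := by decide

theorem zM_comm : ∀ x : M32, x * zM = zM * x := by decide

theorem zM_sq : zM * zM = 1 := by decide

theorem zM_ne : zM ≠ 1 := by decide

theorem cm_cases : ∀ x y : M32, x * y * x⁻¹ * y⁻¹ = 1 ∨ x * y * x⁻¹ * y⁻¹ = zM := by decide

theorem sq_cases : ∀ x : M32, x * x = 1 ∨ x * x = zM := by decide

theorem exists_cm : ∃ x y : M32, x * y * x⁻¹ * y⁻¹ = zM := by decide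

theorem inv_cases : ∀ x : M32, x * x = 1 → x ≠ 1 → x ≠ zM →
    (x = s (idx x) ∨ x = s (idx x) * zM) := by decide

theorem s_facts : ∀ i : Fin 5, idx (s i) = i ∧ idx (s i * zM) = i ∧ s i * s i = 1 ∧ s i ≠ 1 ∧
    s i ≠ zM := by decide

theorem gen : ∀ x : M32, ∃ e a b c d : Bool,
    x = pw zM e * pw (s 0) a * pw (s 1) b * pw (s 0 * s 1 * s 2) c * pw (s 0 * s 1 * s 3) d := by
  decide

theorem zM_eq : zM = (s 0 * s 1) * (s 0 * s 1) := by decide

theorem conj_idx : ∀ (g : M32) (i : Fin 5), idx (g * s i * g⁻¹) = i := by decide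

theorem tau_mul : ∀ (i j : Fin 5) (x y : M32), tau i j (x * y) = tau i j x * tau i j y := by
  decide +kernel

theorem tau_four : ∀ (i j : Fin 5) (x : M32), tau i j (tau i j (tau i j (tau i j x))) = x := by
  decide +kernel

theorem tau_idx : ∀ i j : Fin 5, i ≠ j → ∀ k : Fin 5, idx (tau i j (s k)) = Equiv.swap i j k := by
  decide

theorem count_inv : (Finset.univ.filter (fun x : M32 => x ^ 2 = 1)).card = 12 := by decide

end M32

end Cfsg.Agent.Lib.Helper4.Aut32
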