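import Mathlib
import Cfsg.Agent.Lib.Helper4.Aut32

set_option autoImplicit false

namespace Cfsg.Agent.Lib.Helper4.Aut32

open Cfsg.Agent.Lib.Helper4.ES2 M32

theorem m32_data : Data (⊤ : Subgroup M32) zM where
  zQ := Subgroup.mem_top _
  z_ne := zM_ne
  z_sq := zM_sq
  z_comm := fun q _ => zM_comm q
  center_sub := fun c _ hc => center_cases c (fun y => (hc y (Subgroup.mem_top _)).symm)
  comm_mem := fun a _ b _ => cm_cases a b
  sq_mem := fun a _ => sq_cases a

theorem m32_extraspecial : Cfsg.IsExtraspecial 2 M32 :=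
  extraspecial_of_data_top m32_data exists_cm

/-- automorphisms fix the central involution -/
theorem map_zM (φ : MulAut M32) : φ zM = zM := by
  have hc : ∀ y, φ zM * y = y * φ zM := by
    intro y
    have h1 := zM_comm (φ⁻¹ y)
    have h2 := congrArg φ h1
    rw [map_mul, map_mul, MulAut.apply_inv_self] at h2
    exact h2.symm
  rcases center_cases _ hc with h | h
  · exfalso
    apply zM_ne
    apply φ.injective
    rw [h, map_one]
  · exact h

theorem map_s (φ : MulAut M32) (i : Fin 5) :
    φ (s i) = s (idx (φ (s i))) ∨ φ (s i) = s (idx (φ (s i))) * zM := by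
  obtain ⟨-, -, h3, h4, h5⟩ := s_facts i
  apply inv_cases
  · rw [← map_mul, h3, map_one]
  · intro h
    apply h4
    apply φ.injective
    rw [h, map_one]
  · intro h
    apply h5
    apply φ.injective
    rw [h, map_zM]

/-- the induced map on the five pairs -/
def permFun (φ : MulAut M32) (i : Fin 5) : Fin 5 := idx (φ (s i))

theorem permFun_one (i : Fin 5) : permFun 1 i = i := (s_facts i).1

theorem permFun_mul (φ ψ : MulAut M32) (i : Fin 5) :
    permFun (φ * ψ) i = permFun φ (permFun ψ i) := by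
  unfold permFun
  rw [MulAut.mul_apply]
  have h := map_s ψ i
  obtain ⟨j, hj⟩ : ∃ j, j = idx (ψ (s i)) := ⟨_, rfl⟩
  rw [← hj] at h ⊢
  rcases h with h | h
  · rw [h]
  · rw [h, map_mul, map_zM]
    have h' := map_s φ j
    obtain ⟨k, hk⟩ : ∃ k, k = idx (φ (s j)) := ⟨_, rfl⟩
    rw [← hk] at h' ⊢
    rcases h' with h' | h'
    · rw [h']
      exact (s_facts k).2.1
    · rw [h', mul_assoc, zM_sq, mul_one]
      exact (s_facts k).1

theorem permFun_inv_left (φ : MulAut M32) (i : Fin 5) : permFun φ⁻¹ (permFun φ i) = i := by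
  rw [← permFun_mul, inv_mul_cancel, permFun_one]

theorem permFun_inv_right (φ : MulAut M32) (i : Fin 5) : permFun φ (permFun φ⁻¹ i) = i := by
  rw [← permFun_mul, mul_inv_cancel, permFun_one]

/-- the action on the five pairs of non-central involutions -/
def permHom : MulAut M32 →* Equiv.Perm (Fin 5) where
  toFun φ := ⟨permFun φ, permFun φ⁻¹, permFun_inv_left φ, permFun_inv_right φ⟩
  map_one' := Equiv.ext (fun i => permFun_one i)
  map_mul' φ ψ := Equiv.ext (fun i => permFun_mul φ ψ i)

theorem permHom_apply (φ : MulAut M32) (i : Fin 5) : permHom φ i = idx (φ (s i)) := rfl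

/-- the twist as an automorphism -/
def tauEquiv (i j : Fin 5) : MulAut M32 where
  toFun := tau i j
  invFun := fun x => tau i j (tau i j (tau i j x))
  left_inv := fun x => tau_four i j x
  right_inv := fun x => tau_four i j x
  map_mul' := tau_mul i j

theorem permHom_tau {i j : Fin 5} (hij : i ≠ j) : permHom (tauEquiv i j) = Equiv.swap i j := by
  apply Equiv.ext
  intro k
  rw [permHom_apply]
  exact tau_idx i j hij k

theorem permHom_surjective : Function.Surjective permHom := by
  rw [← MonoidHom.range_eq_top, eq_top_iff, ← Equiv.Perm.closure_isSwap, Subgroup.closure_le]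
  rintro σ ⟨i, j, hij, rfl⟩
  exact ⟨tauEquiv i j, permHom_tau hij⟩

theorem good_mul (φ : MulAut M32) {x y : M32} (hx : φ x = x ∨ φ x = x * zM)
    (hy : φ y = y ∨ φ y = y * zM) : φ (x * y) = x * y ∨ φ (x * y) = x * y * zM := by
  rw [map_mul]
  rcases hx with hx | hx <;> rcases hy with hy | hy <;> rw [hx, hy]
  · left; rfl
  · right; rw [mul_assoc]
  · right
    rw [mul_assoc, ← zM_comm y, ← mul_assoc]
  · left
    rw [mul_assoc, ← mul_assoc zM, ← zM_comm y, mul_assoc y, zM_sq, mul_one]

theorem good_pw (φ : MulAut M32) {g : M32} (hg : φ g = g ∨ φ g = g * zM) (e : Bool) :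
    φ (pw g e) = pw g e ∨ φ (pw g e) = pw g e * zM := by
  cases e
  · left
    show φ 1 = 1
    exact map_one φ
  · exact hg

theorem ker_le_inn (φ : MulAut M32) (h : permHom φ = 1) :
    φ ∈ (MulAut.conj : M32 →* MulAut M32).range := by
  have hs : ∀ i, φ (s i) = s i ∨ φ (s i) = s i * zM := by
    intro i
    have h1 := map_s φ i
    have hi : idx (φ (s i)) = i := by
      rw [← permHom_apply, h]
      rfl
    rwa [hi] at h1
  have hz : φ zM = zM ∨ φ zM = zM * zM := Or.inl (map_zM φ)
  have hT : ∀ x, φ x = x ∨ φ x = x * zM := by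
    intro x
    obtain ⟨e, a, b, c, d, rfl⟩ := gen x
    exact good_mul φ (good_mul φ (good_mul φ (good_mul φ (good_pw φ hz e) (good_pw φ (hs 0) a))
      (good_pw φ (hs 1) b)) (good_pw φ (good_mul φ (good_mul φ (hs 0) (hs 1)) (hs 2)) c))
      (good_pw φ (good_mul φ (good_mul φ (hs 0) (hs 1)) (hs 3)) d)
  have hzc : zM ∈ Subgroup.center M32 := by
    rw [Subgroup.mem_center_iff]
    intro g
    exact zM_comm g
  obtain ⟨g, hg⟩ := Cfsg.Agent.Lib.Helper9.inner_of_trivial_mod_center m32_extraspecial φ (by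
    intro x
    rcases hT x with h1 | h1
    · rw [h1, mul_inv_cancel]; exact one_mem _
    · rw [h1, zM_comm, mul_assoc, mul_inv_cancel, mul_one]; exact hzc)
  refine ⟨g, ?_⟩
  apply MulEquiv.ext
  intro x
  rw [MulAut.conj_apply, hg x]

theorem inn_le_ker (φ : MulAut M32) (h : φ ∈ (MulAut.conj : M32 →* MulAut M32).range) :
    permHom φ = 1 := by
  obtain ⟨g, rfl⟩ := h
  apply Equiv.ext
  intro i
  rw [permHom_apply, MulAut.conj_apply]
  exact conj_idx g i

theorem ker_permHom : permHom.ker = (MulAut.conj : M32 →* MulAut M32).range := by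
  ext φ
  rw [MonoidHom.mem_ker]
  exact ⟨ker_le_inn φ, inn_le_ker φ⟩

end Cfsg.Agent.Lib.Helper4.Aut32
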