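import Mathlib
import Cfsg.Agent.Lib.Helper4.Aut32b

set_option autoImplicit false

namespace Cfsg.Agent.Lib.Helper4.Aut32

open Cfsg.Agent.Lib.Helper4.ES2 M32

theorem conj_ker (P : Type*) [Group P] :
    (MulAut.conj : P →* MulAut P).ker = Subgroup.center P := by
  ext g
  rw [MonoidHom.mem_ker, Subgroup.mem_center_iff]
  constructor
  · intro h x
    have := congrArg (fun f : MulAut P => f x) h
    simp only [MulAut.conj_apply, MulAut.one_apply] at this
    calc x * g = (g * x * g⁻¹) * g := by rw [this]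
      _ = g * x := by group
  · intro h
    apply MulEquiv.ext
    intro x
    rw [MulAut.conj_apply, MulAut.one_apply, ← h x, mul_inv_cancel_right]

theorem card_inn {P : Type*} [Group P] [Finite P] (hex : Cfsg.IsExtraspecial 2 P)
    (h32 : Nat.card P = 32) : Nat.card ↥(MulAut.conj : P →* MulAut P).range = 16 := by
  have h1 := Subgroup.index_ker (MulAut.conj : P →* MulAut P)
  rw [conj_ker] at h1
  have h2 := Subgroup.card_mul_index (Subgroup.center P)
  rw [hex.2, h32, h1] at h2
  omega

theorem card_m32 : Nat.card M32 = 32 := by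
  rw [Nat.card_eq_fintype_card]; exact card_eq

theorem count_m32 : Nat.card {x : M32 // x ^ 2 = 1} = 12 := by
  rw [Nat.card_eq_fintype_card, Fintype.card_subtype]; exact count_inv

theorem count_P {P : Type*} [Group P] [Finite P] (hex : Cfsg.IsExtraspecial 2 P)
    (h32 : Nat.card P = 32)
    (hminus : ∀ A : Subgroup P, Cfsg.IsElementaryAbelian 2 A → Nat.card ↥A ≤ 4) :
    Nat.card {x : P // x ^ 2 = 1} = 12 := by
  obtain ⟨n, -, hn, h⟩ := classify hex
  have hn2 : n = 2 := by
    rw [h32] at hn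
    have : (2 : ℕ) ^ 5 = 2 ^ (2 * n + 1) := by rw [← hn]; norm_num
    have := Nat.pow_right_injective (le_refl 2) this
    omega
  subst hn2
  have hr : Cfsg.PRankLE 2 2 P := fun A hA hs => hminus A ⟨hA, hs⟩
  rcases h with ⟨-, -, h3⟩ | ⟨h1, -, -⟩
  · exact absurd hr h3
  · rw [h1]; norm_num

theorem exists_iso {P : Type*} [Group P] [Finite P] (hex : Cfsg.IsExtraspecial 2 P)
    (h32 : Nat.card P = 32)
    (hminus : ∀ A : Subgroup P, Cfsg.IsElementaryAbelian 2 A → Nat.card ↥A ≤ 4) :
    Nonempty (P ≃* M32) :=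
  iso_of_count hex m32_extraspecial (by rw [card_m32, h32])
    (by rw [count_m32, count_P hex h32 hminus])

theorem congr_conj {P Q : Type*} [Group P] [Group Q] (e : P ≃* Q) (g : P) :
    MulAut.congr e (MulAut.conj g) = MulAut.conj (e g) := by
  apply MulEquiv.ext
  intro x
  simp [MulAut.congr, MulAut.conj_apply]

theorem main {P : Type*} [Group P] [Finite P]
    (hex : Cfsg.IsExtraspecial 2 P) (h32 : Nat.card P = 32)
    (hminus : ∀ A : Subgroup P, Cfsg.IsElementaryAbelian 2 A → Nat.card ↥A ≤ 4)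
    [hn : (MulAut.conj : P →* MulAut P).range.Normal] :
    Nat.card ↥(MulAut.conj : P →* MulAut P).range = 16 ∧ Nat.card (MulAut P) = 1920 ∧
      Nonempty ((MulAut P ⧸ (MulAut.conj : P →* MulAut P).range) ≃* Equiv.Perm (Fin 5)) := by
  obtain ⟨e⟩ := exists_iso hex h32 hminus
  obtain ⟨Ψ, hΨ⟩ : ∃ Ψ : MulAut P →* Equiv.Perm (Fin 5),
      Ψ = permHom.comp (MulAut.congr e).toMonoidHom := ⟨_, rfl⟩
  have hsurj : Function.Surjective Ψ := by
    rw [hΨ]
    exact permHom_surjective.comp (MulAut.congr e).surjective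
  have hker : (MulAut.conj : P →* MulAut P).range = Ψ.ker := by
    ext φ
    rw [MonoidHom.mem_ker, hΨ]
    show φ ∈ _ ↔ permHom (MulAut.congr e φ) = 1
    rw [← MonoidHom.mem_ker, ker_permHom]
    constructor
    · rintro ⟨g, rfl⟩
      exact ⟨e g, (congr_conj e g).symm⟩
    · rintro ⟨g, hg⟩
      refine ⟨e.symm g, ?_⟩
      apply (MulAut.congr e).injective
      rw [congr_conj, e.apply_symm_apply, hg]
  have hcard16 := card_inn hex h32
  have eq1 : (MulAut P ⧸ (MulAut.conj : P →* MulAut P).range) ≃* Equiv.Perm (Fin 5) :=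
    (QuotientGroup.quotientMulEquivOfEq hker).trans
      (QuotientGroup.quotientKerEquivOfSurjective Ψ hsurj)
  refine ⟨hcard16, ?_, ⟨eq1⟩⟩
  rw [Subgroup.card_eq_card_quotient_mul_card_subgroup (MulAut.conj : P →* MulAut P).range,
    hcard16, Nat.card_congr eq1.toEquiv, Nat.card_eq_fintype_card, Fintype.card_perm,
    Fintype.card_fin]
  rfl

end Cfsg.Agent.Lib.Helper4.Aut32
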