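import Cfsg.Agent.Lib.Helper4.WreathAlt2

set_option autoImplicit false

/-! Automorphisms of the alternating group of degree `≠ 6` preserve three-cycles. (helper4) -/

namespace Cfsg.Agent.Lib.Helper4.AutAlt

open Equiv

theorem three_pow_mul_factorial_lt (k : ℕ) (hk : 2 ≤ k) :
    2 * (3 ^ k * Nat.factorial (k + 1)) < Nat.factorial (3 * k) := by
  induction k, hk using Nat.le_induction with
  | base => decide
  | succ k hk ih =>
    have e1 : Nat.factorial (3 * (k + 1)) =
        (3 * k + 3) * ((3 * k + 2) * ((3 * k + 1) * Nat.factorial (3 * k))) := by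
      rw [show 3 * (k + 1) = ((3 * k + 1) + 1) + 1 by ring, Nat.factorial_succ,
        Nat.factorial_succ, Nat.factorial_succ]
    have e2 : Nat.factorial (k + 1 + 1) = (k + 2) * Nat.factorial (k + 1) := by
      rw [Nat.factorial_succ]
    rw [e1, e2, pow_succ]
    have h0 : 2 ≤ (3 * k + 2) * (3 * k + 1) := by nlinarith
    have h1 : (3 * k + 3) * ((3 * k + 2) * (3 * k + 1)) ≥ 3 * (k + 2) := by
      calc 3 * (k + 2) ≤ (3 * k + 3) * 2 := by omega
        _ ≤ (3 * k + 3) * ((3 * k + 2) * (3 * k + 1)) := Nat.mul_le_mul_left _ h0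
    calc 2 * (3 ^ k * 3 * ((k + 2) * Nat.factorial (k + 1)))
        = (3 * (k + 2)) * (2 * (3 ^ k * Nat.factorial (k + 1))) := by ring
      _ < (3 * (k + 2)) * Nat.factorial (3 * k) := Nat.mul_lt_mul_of_pos_left ih (by omega)
      _ ≤ ((3 * k + 3) * ((3 * k + 2) * (3 * k + 1))) * Nat.factorial (3 * k) :=
          Nat.mul_le_mul_right _ h1
      _ = _ := by ring

/-- the centralizer-order equation forces `k = 0` unless `n = 6` -/
theorem arith_key3 (m k r s : ℕ) (hr : 1 ≤ r) (hs2 : s ≤ 2)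
    (h : Nat.factorial (m + 3 * k) * 3 * r =
      Nat.factorial m * 3 ^ (k + 1) * Nat.factorial (k + 1) * s)
    (hn : m + 3 * k + 3 ≠ 6) : k = 0 := by
  have hm : 0 < Nat.factorial m := Nat.factorial_pos m
  rcases k with _ | _ | k
  · rfl
  · exfalso
    have e : Nat.factorial (m + 3 * 1) = (m + 3) * ((m + 2) * ((m + 1) * Nat.factorial m)) := by
      rw [show m + 3 * 1 = ((m + 1) + 1) + 1 by ring, Nat.factorial_succ, Nat.factorial_succ,
        Nat.factorial_succ]
    rw [e] at h
    norm_num [Nat.factorial] at h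
    have hm1 : 1 ≤ m := by omega
    have h' : ((m + 3) * ((m + 2) * (m + 1))) * r = 6 * s := by
      apply Nat.eq_of_mul_eq_mul_right hm
      linarith
    have h1 : 24 ≤ (m + 3) * ((m + 2) * (m + 1)) := by
      have h2 : 4 ≤ m + 3 := by omega
      have h3 : 6 ≤ (m + 2) * (m + 1) := by nlinarith
      calc 24 = 4 * 6 := by norm_num
        _ ≤ (m + 3) * ((m + 2) * (m + 1)) := Nat.mul_le_mul h2 h3
    have h2 : 24 * 1 ≤ ((m + 3) * ((m + 2) * (m + 1))) * r := Nat.mul_le_mul h1 hr
    omega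
  · exfalso
    have h1 := three_pow_mul_factorial_lt (k + 2) (by omega)
    have h2 : Nat.factorial m * Nat.factorial (3 * (k + 2)) ≤ Nat.factorial (m + 3 * (k + 2)) :=
      Nat.le_of_dvd (Nat.factorial_pos _) (Nat.factorial_mul_factorial_dvd_factorial_add _ _)
    have e : k + 1 + 1 = k + 2 := by ring
    rw [e] at h
    have h3 : Nat.factorial m * (2 * (3 ^ (k + 2) * Nat.factorial (k + 2 + 1))) <
        Nat.factorial m * Nat.factorial (3 * (k + 2)) := Nat.mul_lt_mul_of_pos_left h1 hm
    have h4 : Nat.factorial m * 3 ^ (k + 2 + 1) * Nat.factorial (k + 2 + 1) * s ≤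
        3 * (Nat.factorial m * (2 * (3 ^ (k + 2) * Nat.factorial (k + 2 + 1)))) := by
      rw [pow_succ]
      calc Nat.factorial m * (3 ^ (k + 2) * 3) * Nat.factorial (k + 2 + 1) * s
          = (Nat.factorial m * 3 ^ (k + 2) * 3 * Nat.factorial (k + 2 + 1)) * s := by ring
        _ ≤ (Nat.factorial m * 3 ^ (k + 2) * 3 * Nat.factorial (k + 2 + 1)) * 2 :=
            Nat.mul_le_mul_left _ hs2
        _ = _ := by ring
    have h5 : Nat.factorial (m + 3 * (k + 2)) * 3 * 1 ≤ Nat.factorial (m + 3 * (k + 2)) * 3 * r :=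
      Nat.mul_le_mul_left _ hr
    omega

theorem card_centralizer_map {G : Type*} [Group G] (φ : G ≃* G) (g : G) :
    Nat.card (Subgroup.centralizer {φ g}) = Nat.card (Subgroup.centralizer {g}) := by
  symm
  apply Nat.card_congr
  refine ⟨fun x => ⟨φ x.1, ?_⟩, fun y => ⟨φ.symm y.1, ?_⟩, ?_, ?_⟩
  · have := x.2
    rw [Subgroup.mem_centralizer_singleton_iff] at this ⊢
    rw [← map_mul, ← map_mul, this]
  · have := y.2
    rw [Subgroup.mem_centralizer_singleton_iff] at this ⊢
    apply φ.injective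
    rw [map_mul, map_mul, MulEquiv.apply_symm_apply, this]
  · intro x; simp
  · intro y; simp

variable {Ω : Type*} [DecidableEq Ω] [Fintype Ω]

theorem card_centralizer_alt [Nontrivial Ω] (g : alternatingGroup Ω) :
    ∃ r, 1 ≤ r ∧ r ≤ 2 ∧ Nat.card (Subgroup.centralizer {(g : Perm Ω)}) =
      Nat.card (Subgroup.centralizer {g}) * r := by
  obtain ⟨K, hK⟩ : ∃ K : Subgroup (Perm Ω), K = Subgroup.centralizer {(g : Perm Ω)} := ⟨_, rfl⟩
  rw [← hK]
  have hmemK : ∀ x : Perm Ω, x ∈ K ↔ (g : Perm Ω) * x = x * g := by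
    intro x; rw [hK, Subgroup.mem_centralizer_singleton_iff, eq_comm]
  have hmem : ∀ x : alternatingGroup Ω, x ∈ Subgroup.centralizer {g} ↔ g * x = x * g := by
    intro x; rw [Subgroup.mem_centralizer_singleton_iff, eq_comm]
  have hcard : Nat.card (Subgroup.centralizer {g}) =
      Nat.card ((alternatingGroup Ω).subgroupOf K) := by
    apply Nat.card_congr
    refine ⟨fun x => ⟨⟨x.1.1, ?_⟩, ?_⟩, fun y => ⟨⟨y.1.1, ?_⟩, ?_⟩, ?_, ?_⟩
    · rw [hmemK]
      have := (hmem x.1).mp x.2
      exact congrArg Subtype.val this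
    · rw [Subgroup.mem_subgroupOf]
      exact x.1.2
    · exact Subgroup.mem_subgroupOf.mp y.2
    · rw [hmem]
      apply Subtype.ext
      exact (hmemK y.1.1).mp y.1.2
    · intro x; rfl
    · intro y; rfl
  have h1 : (alternatingGroup Ω).relIndex K ∣ (alternatingGroup Ω).index :=
    Subgroup.relIndex_dvd_index_of_normal _ _
  rw [alternatingGroup.index_eq_two] at h1
  have h12 := (Nat.dvd_prime Nat.prime_two).mp h1
  refine ⟨(alternatingGroup Ω).relIndex K, ?_, ?_, ?_⟩
  · omega
  · omega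
  · rw [hcard]
    exact (Subgroup.card_mul_index ((alternatingGroup Ω).subgroupOf K)).symm

/-- if the degree is not six, automorphisms of the alternating group preserve three-cycles. -/
theorem isThreeCycle_map [Nontrivial Ω] (hn : Fintype.card Ω ≠ 6)
    (φ : alternatingGroup Ω ≃* alternatingGroup Ω)
    (s : alternatingGroup Ω) (hs : (s : Perm Ω).IsThreeCycle) :
    ((φ s : alternatingGroup Ω) : Perm Ω).IsThreeCycle := by
  have hord : orderOf ((φ s : alternatingGroup Ω) : Perm Ω) = 3 := by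
    rw [Subgroup.orderOf_coe, MulEquiv.orderOf_eq, ← Subgroup.orderOf_coe, hs.orderOf]
  obtain ⟨k, hk⟩ := Perm.cycleType_prime_order (σ := ((φ s : alternatingGroup Ω) : Perm Ω))
    (by rw [hord]; exact Nat.prime_three)
  rw [hord] at hk
  obtain ⟨r₁, hr₁, hr₁', h1⟩ := card_centralizer_alt s
  obtain ⟨r₂, hr₂, hr₂', h2⟩ := card_centralizer_alt (φ s)
  rw [card_centralizer_map φ s] at h2
  rw [Perm.nat_card_centralizer] at h1 h2
  rw [hs.cycleType] at h1
  rw [hk] at h2
  have hsum : (Multiset.replicate (k + 1) 3).sum ≤ Fintype.card Ω := by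
    rw [← hk]; exact Perm.sum_cycleType_le _
  have hsum' : (Multiset.replicate (k + 1) 3).sum = 3 * (k + 1) := by
    rw [Multiset.sum_replicate]; simp [mul_comm]
  rw [hsum'] at hsum
  have e1 : (Multiset.replicate (k + 1) 3).prod = 3 ^ (k + 1) := by
    rw [Multiset.prod_replicate]
  have e2 : (∏ n ∈ (Multiset.replicate (k + 1) 3).toFinset,
      Nat.factorial ((Multiset.replicate (k + 1) 3).count n)) = Nat.factorial (k + 1) := by
    rw [Multiset.toFinset_replicate, if_neg (by omega), Finset.prod_singleton,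
      Multiset.count_replicate_self]
  have e3 : (∏ n ∈ ({3} : Multiset ℕ).toFinset,
      Nat.factorial (({3} : Multiset ℕ).count n)) = 1 := by
    simp
  rw [e1, e2, hsum'] at h2
  rw [e3] at h1
  simp only [Multiset.sum_singleton, Multiset.prod_singleton, mul_one] at h1
  obtain ⟨m, hm⟩ : ∃ m, Fintype.card Ω = m + 3 * k + 3 := ⟨Fintype.card Ω - 3 * (k + 1), by omega⟩
  have e4 : Fintype.card Ω - 3 * (k + 1) = m := by omega
  have e5 : Fintype.card Ω - 3 = m + 3 * k := by omega
  rw [e4] at h2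
  rw [e5] at h1
  have key : Nat.factorial (m + 3 * k) * 3 * r₂ =
      Nat.factorial m * 3 ^ (k + 1) * Nat.factorial (k + 1) * r₁ := by
    have : Nat.card (Subgroup.centralizer {s}) * r₁ * r₂ =
        Nat.card (Subgroup.centralizer {s}) * r₂ * r₁ := by ring
    rw [← h1, ← h2] at this
    exact this
  have hk0 := arith_key3 m k r₂ r₁ hr₂ hr₁' key (by rw [← hm]; exact hn)
  rw [hk0] at hk
  exact hk

end Cfsg.Agent.Lib.Helper4.AutAlt
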