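import Cfsg.Agent.Lib.Helper4.AutAlt1

set_option autoImplicit false

/-! Three-cycles whose product is an involution; the star argument. (helper4) -/

namespace Cfsg.Agent.Lib.Helper4.AutAlt

open Equiv Cfsg.Agent.Lib.Helper4.WreathAlt Cfsg.Agent.Lib.Helper4.SwapWord

variable {Ω : Type*} [DecidableEq Ω]

theorem c3_apply_mid {p q r : Ω} (h2 : p ≠ r) (h3 : q ≠ r) : c3 p q r q = r := by
  simp [c3, Perm.mul_apply, swap_apply_of_ne_of_ne h2.symm h3.symm]

theorem c3_apply_right (p q r : Ω) : c3 p q r r = p := by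
  simp [c3, Perm.mul_apply]

theorem c3_inv {p q r : Ω} (h1 : p ≠ q) (h2 : p ≠ r) (h3 : q ≠ r) : (c3 p q r)⁻¹ = c3 p r q := by
  have key : (swap 0 1 * swap 1 2 : Perm (Fin 3))⁻¹ = swap 0 2 * swap 2 1 := by decide
  have := congrArg (tupleHom ![p, q, r] (inj3 h1 h2 h3)) key
  simpa [c3, map_mul, map_inv, tupleHom_swap] using this

theorem c3_star_two {a b x y : Ω} (h1 : a ≠ b) (h2 : a ≠ x) (h3 : a ≠ y) (h4 : b ≠ x) (h5 : b ≠ y)
    (h6 : x ≠ y) : c3 a x y = c3 a b y * (c3 a b x)⁻¹ := by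
  have key : (swap 0 2 * swap 2 3 : Perm (Fin 4)) =
      (swap 0 1 * swap 1 3) * (swap 0 1 * swap 1 2)⁻¹ := by decide
  have := congrArg (tupleHom ![a, b, x, y] (inj4 h1 h2 h3 h4 h5 h6)) key
  simpa [c3, map_mul, map_inv, tupleHom_swap] using this

theorem c3_star_three {a x y z : Ω} (h1 : a ≠ x) (h2 : a ≠ y) (h3 : a ≠ z) (h4 : x ≠ y)
    (h5 : x ≠ z) (h6 : y ≠ z) : c3 x y z = c3 a x y * c3 a y z := by
  have key : (swap 1 2 * swap 2 3 : Perm (Fin 4)) =
      (swap 0 1 * swap 1 2) * (swap 0 2 * swap 2 3) := by decide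
  have := congrArg (tupleHom ![a, x, y, z] (inj4 h1 h2 h3 h4 h5 h6)) key
  simpa [c3, map_mul, map_inv, tupleHom_swap] using this

theorem c3_mul_sq {a b x y : Ω} (h1 : a ≠ b) (h2 : a ≠ x) (h3 : a ≠ y) (h4 : b ≠ x) (h5 : b ≠ y)
    (h6 : x ≠ y) : (c3 a b x * c3 a b y) * (c3 a b x * c3 a b y) = 1 := by
  have key : ((swap 0 1 * swap 1 2) * (swap 0 1 * swap 1 3)) *
      ((swap 0 1 * swap 1 2) * (swap 0 1 * swap 1 3)) = (1 : Perm (Fin 4)) := by decide
  have := congrArg (tupleHom ![a, b, x, y] (inj4 h1 h2 h3 h4 h5 h6)) key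
  simpa [c3, map_mul, map_inv, tupleHom_swap] using this

variable [Fintype Ω]

theorem isThreeCycle_c3 {p q r : Ω} (h1 : p ≠ q) (h2 : p ≠ r) (h3 : q ≠ r) :
    (c3 p q r).IsThreeCycle := by
  have := Perm.isThreeCycle_swap_mul_swap_same h1.symm h3 h2
  rwa [swap_comm q p] at this

theorem exists_eq_c3 {s : Perm Ω} (hs : s.IsThreeCycle) {p : Ω} (hp : s p ≠ p) :
    ∃ q r, s p = q ∧ s q = r ∧ s r = p ∧ p ≠ q ∧ p ≠ r ∧ q ≠ r ∧ s = c3 p q r := by
  have hx : p ∈ s.support := Perm.mem_support.mpr hp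
  have hnd := hs.nodup_iff_mem_support.mpr hx
  have heq := hs.eq_swap_mul_swap_iff_mem_support.mpr hx
  have hs3 : s (s (s p)) = p := by
    have := pow_orderOf_eq_one s
    rw [hs.orderOf] at this
    have h := congrArg (fun f : Perm Ω => f p) this
    simpa [pow_succ, Perm.mul_apply] using h
  refine ⟨s p, s (s p), rfl, rfl, hs3, ?_, ?_, ?_, heq⟩
  · intro h; simp [← h] at hnd
  · intro h; simp [← h] at hnd
  · intro h; simp [← h] at hnd

/-- the relation "the product is an involution" -/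
def Rel (s t : Perm Ω) : Prop := (s * t) * (s * t) = 1 ∧ s * t ≠ 1

theorem not_rel_self {s : Perm Ω} (hs : s.IsThreeCycle) : ¬ Rel s s := by
  rintro ⟨h1, -⟩
  have hs3 : s ^ 3 = 1 := by
    have := pow_orderOf_eq_one s
    rwa [hs.orderOf] at this
  apply hs.ne_one
  calc s = s * s ^ 3 := by rw [hs3, mul_one]
    _ = (s * s) * (s * s) := by simp only [pow_succ, pow_zero, one_mul, mul_assoc]
    _ = 1 := h1

theorem exists_common_arc {s t : Perm Ω} (hs : s.IsThreeCycle) (ht : t.IsThreeCycle)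
    (h : Rel s t) : ∃ p, s p ≠ p ∧ t p = s p := by
  obtain ⟨h2, hne⟩ := h
  by_contra hcon
  push Not at hcon
  have hs3 : s * s * s = 1 := by
    have := pow_orderOf_eq_one s
    rw [hs.orderOf] at this
    rw [← this]; simp only [pow_succ, pow_zero, one_mul, mul_assoc]
  have hsts : s * t * s = t⁻¹ := by
    apply eq_inv_of_mul_eq_one_left
    rw [← h2]; group
  have hss : s * s = s⁻¹ := eq_inv_of_mul_eq_one_left hs3
  have hu : t⁻¹ * s = s * t * s⁻¹ := by
    rw [← hsts, ← hss]; group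
  have hu3 : (t⁻¹ * s).IsThreeCycle := by
    rw [hu]; unfold Perm.IsThreeCycle; rw [Perm.cycleType_conj]; exact ht
  have hsub : s.support ⊆ (t⁻¹ * s).support := by
    intro p hp
    rw [Perm.mem_support] at hp ⊢
    intro h
    apply hcon p hp
    rw [Perm.mul_apply, Perm.inv_eq_iff_eq] at h
    exact h.symm
  have hsupp : s.support = (t⁻¹ * s).support :=
    Finset.eq_of_subset_of_card_le hsub (by rw [hs.card_support, hu3.card_support])
  have hts : t.support = s.support := by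
    ext p
    rw [← Perm.apply_mem_support (x := p) (f := s), hsupp, Perm.mem_support, Perm.mem_support, hu]
    simp [Perm.mul_apply]
  obtain ⟨a, ha⟩ : s.support.Nonempty := by
    rw [← Finset.card_pos, hs.card_support]; norm_num
  have ha' : s a ≠ a := Perm.mem_support.mp ha
  have hsuppeq := hs.support_eq_iff_mem_support.mpr ha
  obtain ⟨b, c, hb, hc, hca, n1, n2, n3, hseq⟩ := exists_eq_c3 hs ha'
  have hta : t a ≠ a := by rw [← Perm.mem_support, hts]; exact ha
  obtain ⟨b', c', hb', hc', hca', m1, m2, m3, hteq⟩ := exists_eq_c3 ht hta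
  rw [hb, hc] at hsuppeq
  have h1 : b' ∈ s.support := by
    rw [← hb', ← hts, Perm.apply_mem_support, hts]; exact ha
  have h2' : c' ∈ s.support := by
    rw [← hc', ← hb', ← hts, Perm.apply_mem_support, Perm.apply_mem_support, hts]; exact ha
  rw [hsuppeq] at h1 h2'
  simp only [Finset.mem_insert, Finset.mem_singleton] at h1 h2'
  have e1 : b' = c := by
    rcases h1 with h | h | h
    · exact absurd h.symm m1
    · exfalso
      apply hcon a ha'
      rw [hb, hb', h]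
    · exact h
  have e2 : c' = b := by
    rcases h2' with h | h | h
    · exact absurd h.symm m2
    · exact h
    · exfalso; apply m3; rw [e1, h]
  apply hne
  rw [hteq, e1, e2, ← c3_inv n1 n2 n3, ← hseq, mul_inv_cancel]

theorem rel_shape {s t : Perm Ω} (hs : s.IsThreeCycle) (ht : t.IsThreeCycle) (h : Rel s t) :
    ∃ p q x y, p ≠ q ∧ p ≠ x ∧ q ≠ x ∧ p ≠ y ∧ q ≠ y ∧ x ≠ y ∧ s = c3 p q x ∧ t = c3 p q y := by
  obtain ⟨p, hp, htp⟩ := exists_common_arc hs ht h
  obtain ⟨q, x, hq, hx, hxp, n1, n2, n3, hseq⟩ := exists_eq_c3 hs hp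
  have hp' : t p ≠ p := by rw [htp]; exact hp
  obtain ⟨q', y, hq', hy, hyp, m1, m2, m3, hteq⟩ := exists_eq_c3 ht hp'
  have hqq : q' = q := by rw [← hq', htp, hq]
  subst hqq
  refine ⟨p, q', x, y, n1, n2, n3, m2, m3, ?_, hseq, hteq⟩
  intro hxy
  subst hxy
  apply not_rel_self hs
  have : t = s := by rw [hteq, ← hseq]
  rw [this] at h
  exact h

theorem not_four {t : Perm Ω} (ht : t.IsThreeCycle) {w₁ w₂ w₃ w₄ : Ω} (h12 : w₁ ≠ w₂)
    (h13 : w₁ ≠ w₃) (h14 : w₁ ≠ w₄) (h23 : w₂ ≠ w₃) (h24 : w₂ ≠ w₄) (h34 : w₃ ≠ w₄)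
    (m1 : t w₁ ≠ w₁) (m2 : t w₂ ≠ w₂) (m3 : t w₃ ≠ w₃) (m4 : t w₄ ≠ w₄) : False := by
  have hsub : ({w₁, w₂, w₃, w₄} : Finset Ω) ⊆ t.support := by
    intro z hz
    simp only [Finset.mem_insert, Finset.mem_singleton] at hz
    rw [Perm.mem_support]
    rcases hz with rfl | rfl | rfl | rfl <;> assumption
  have hcard : ({w₁, w₂, w₃, w₄} : Finset Ω).card = 4 := by
    rw [Finset.card_insert_of_notMem, Finset.card_insert_of_notMem, Finset.card_insert_of_notMem,
      Finset.card_singleton]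
    · simp [h34]
    · simp [h23, h24]
    · simp [h12, h13, h14]
  have := Finset.card_le_card hsub
  rw [hcard, ht.card_support] at this
  omega

theorem rel_apply {p q u₁ u₂ : Ω} (hpq : p ≠ q) (hp1 : p ≠ u₁) (hp2 : p ≠ u₂) (hq1 : q ≠ u₁)
    (hq2 : q ≠ u₂) (h12 : u₁ ≠ u₂) {t : Perm Ω} (ht : t.IsThreeCycle)
    (h1 : Rel (c3 p q u₁) t) (h2 : Rel (c3 p q u₂) t) : t p = q := by
  have key : ∀ u, p ≠ u → q ≠ u → Rel (c3 p q u) t → t p = q ∨ t q = u ∨ t u = p := by
    intro u hpu hqu hR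
    obtain ⟨z, hz, htz⟩ := exists_common_arc (isThreeCycle_c3 hpq hpu hqu) ht hR
    by_cases hzp : z = p
    · left; rw [← hzp, htz, hzp, c3_apply_left hpq hpu]
    by_cases hzq : z = q
    · right; left; rw [← hzq, htz, hzq, c3_apply_mid hpu hqu]
    by_cases hzu : z = u
    · right; right; rw [← hzu, htz, hzu, c3_apply_right]
    · exact absurd (c3_apply_of_ne hzp hzq hzu) hz
  have A1 := key u₁ hp1 hq1 h1
  have A2 := key u₂ hp2 hq2 h2
  rcases A1 with h | h | h
  · exact h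
  · rcases A2 with h' | h' | h'
    · exact h'
    · exact absurd (h.symm.trans h') h12
    · exfalso
      -- t q = u₁, t u₂ = p
      refine not_four ht hpq hp1 hp2 hq1 hq2 h12 ?_ ?_ ?_ ?_
      · intro hh
        exact hp2 (t.injective (hh.trans h'.symm))
      · rw [h]; exact hq1.symm
      · intro hh
        exact hq1 (t.injective (h.trans hh.symm))
      · rw [h']; exact hp2
  · rcases A2 with h' | h' | h'
    · exact h'
    · exfalso
      -- t u₁ = p, t q = u₂
      refine not_four ht hpq hp1 hp2 hq1 hq2 h12 ?_ ?_ ?_ ?_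
      · intro hh
        exact hp1 (t.injective (hh.trans h.symm))
      · rw [h']; exact hq2.symm
      · rw [h]; exact hp1
      · intro hh
        exact hq2 (t.injective (h'.trans hh.symm))
    · exact absurd (t.injective (h.trans h'.symm)) h12

/-- the star argument: pairwise related three-cycles share a common arc -/
theorem star_common {ι : Type*} (t : ι → Perm Ω) (ht : ∀ i, (t i).IsThreeCycle)
    (hR : ∀ i j, i ≠ j → Rel (t i) (t j)) (i₁ i₂ : ι) (h12 : i₁ ≠ i₂) :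
    ∃ p q, p ≠ q ∧ ∀ i, t i p = q := by
  obtain ⟨p, q, x, y, hpq, hpx, hqx, hpy, hqy, hxy, h1, h2⟩ :=
    rel_shape (ht i₁) (ht i₂) (hR i₁ i₂ h12)
  refine ⟨p, q, hpq, fun i => ?_⟩
  by_cases hi1 : i = i₁
  · rw [hi1, h1, c3_apply_left hpq hpx]
  by_cases hi2 : i = i₂
  · rw [hi2, h2, c3_apply_left hpq hpy]
  · have r1 := hR i₁ i (Ne.symm hi1)
    have r2 := hR i₂ i (Ne.symm hi2)
    rw [h1] at r1
    rw [h2] at r2
    exact rel_apply hpq hpx hpy hqx hqy hxy (ht i) r1 r2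

end Cfsg.Agent.Lib.Helper4.AutAlt
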