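import Mathlib

/-!
S4067 (AutOrb) piece A: the orbits of the automorphism group are at most the conjugacy classes.
-/

namespace Cfsg.Agent.Lib.Helper4.AutOrb

variable {G : Type*} [Group G] [Finite G]

/-- A -/
theorem orbits_le_classes :
    Nat.card (MulAction.orbitRel.Quotient (MulAut G) G) ≤ Nat.card (ConjClasses G) := by
  classical
  have hrel : ∀ x y : G, IsConj x y → (MulAction.orbitRel (MulAut G) G) x y := by
    intro x y hxy
    rw [MulAction.orbitRel_apply]
    obtain ⟨c, hc⟩ := isConj_iff.1 hxy
    refine ⟨(MulAut.conj c)⁻¹, ?_⟩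
    show (MulAut.conj c)⁻¹ y = x
    rw [← hc]
    simp only [MulAut.conj_inv_apply]
    group
  let f : ConjClasses G → MulAction.orbitRel.Quotient (MulAut G) G :=
    Quotient.map' id hrel
  have hf : Function.Surjective f := by
    intro q
    induction q using Quotient.inductionOn' with
    | h x => exact ⟨ConjClasses.mk x, rfl⟩
  exact Nat.card_le_card_of_surjective f hf

end Cfsg.Agent.Lib.Helper4.AutOrb
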