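import Mathlib
import Cfsg.Agent.Lib.Helper1.AutOrbDefs
import Cfsg.Agent.Lib.Helper1.AutOrbC

/-!
S4067 (AutOrb) piece D3: the explicit automorphism for `p = 2`.
-/

namespace Cfsg.Agent.Lib.Helper4.AutOrb

open Cfsg.Agent.Lib.Helper1.AutOrb
open scoped commutatorElement

/-- in a finite commutative group with at most one involution `c0`, among any three elements two
have a product that is a square -/
theorem d3_sq_lemma {Z : Type*} [Group Z] [Finite Z] (hab : ∀ u v : Z, u * v = v * u) (c0 : Z)
    (h : ∀ z : Z, z ^ 2 = 1 → z = 1 ∨ z = c0) (a b c : Z) :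
    (∃ z : Z, z ^ 2 = a * c) ∨ (∃ z : Z, z ^ 2 = b * c) ∨ (∃ z : Z, z ^ 2 = a * b) := by
  classical
  let f : Z →* Z :=
    { toFun := fun z => z ^ 2
      map_one' := one_pow 2
      map_mul' := fun u v => Commute.mul_pow (hab u v) 2 }
  have hker : Nat.card f.ker ≤ 2 := by
    have hinj : Function.Injective (fun z : f.ker => decide ((z : Z) = 1)) := by
      intro z1 z2 h12
      have h1 : (z1 : Z) ^ 2 = 1 := MonoidHom.mem_ker.1 z1.2
      have h2 : (z2 : Z) ^ 2 = 1 := MonoidHom.mem_ker.1 z2.2
      apply Subtype.ext
      by_cases hz1 : (z1 : Z) = 1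
      · by_cases hz2 : (z2 : Z) = 1
        · rw [hz1, hz2]
        · exfalso
          simp [hz1, hz2] at h12
      · by_cases hz2 : (z2 : Z) = 1
        · exfalso
          simp [hz1, hz2] at h12
        · rcases h _ h1 with h1' | h1'
          · exact absurd h1' hz1
          · rcases h _ h2 with h2' | h2'
            · exact absurd h2' hz2
            · rw [h1', h2']
    calc Nat.card f.ker ≤ Nat.card Bool := Nat.card_le_card_of_injective _ hinj
      _ = 2 := by simp
  have hidx : f.range.index = Nat.card f.ker := by
    have h1 := Subgroup.card_mul_index f.ker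
    rw [Subgroup.index_ker] at h1
    have h2 := Subgroup.card_mul_index f.range
    have hpos : 0 < Nat.card f.range := Nat.card_pos
    have h3 : Nat.card f.range * f.range.index = Nat.card f.range * Nat.card f.ker := by
      rw [h2, ← h1, mul_comm]
    exact Nat.eq_of_mul_eq_mul_left hpos h3
  have hmem : ∀ u : Z, u ∈ f.range ↔ ∃ z, z ^ 2 = u := by
    intro u
    constructor
    · rintro ⟨z, hz⟩
      exact ⟨z, hz⟩
    · rintro ⟨z, hz⟩
      exact ⟨z, hz⟩
  have hidx' : f.range.index = 1 ∨ f.range.index = 2 := by
    have h0 : f.range.index ≠ 0 := Subgroup.index_ne_zero_of_finite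
    omega
  rcases hidx' with h1 | h2
  · left
    rw [Subgroup.index_eq_one] at h1
    rw [← hmem, h1]
    trivial
  · by_cases hac : a * c ∈ f.range
    · left
      exact (hmem _).1 hac
    · by_cases hbc : b * c ∈ f.range
      · right; left
        exact (hmem _).1 hbc
      · right; right
        rw [← hmem]
        rw [Subgroup.mul_mem_iff_of_index_two h2] at hac hbc ⊢
        tauto

/-- adjusting by a central element to get a square root of `c` -/
theorem d3_adjust {G : Type*} [Group G] (c v z : G) (hz : z ∈ Subgroup.center G)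
    (hv : v ∉ Subgroup.center G) (hcc : ∀ g : G, g * c = c * g) (hc2 : c * c = 1)
    (hzv : z ^ 2 = v ^ 2 * c) : ∃ w : G, w ∉ Subgroup.center G ∧ w ^ 2 = c := by
  refine ⟨v * z⁻¹, ?_, ?_⟩
  · intro hw
    apply hv
    have : v = (v * z⁻¹) * z := by group
    rw [this]
    exact Subgroup.mul_mem _ hw hz
  · have hcomm : Commute v z⁻¹ := by
      have := Subgroup.mem_center_iff.mp (Subgroup.inv_mem _ hz) v
      exact this
    rw [hcomm.mul_pow, inv_pow, hzv, hcc, mul_inv_rev, mul_inv_cancel_left]
    exact inv_eq_of_mul_eq_one_right hc2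

variable {G : Type*} [Group G] [Finite G]

/-- D3 -/
theorem good_of_two (H : Cl2 G 2)
    (hΩ : ∀ w ∈ Subgroup.center G, w ^ 2 = 1 → w ∈ commutator G) : Good G 2 := by
  classical
  -- the nonidentity element `c` of `G'`
  obtain ⟨c', hc'1, hc'u⟩ := (Nat.card_eq_two_iff' (1 : commutator G)).1 H.card
  set c : G := (c' : G) with hc
  have hcG : c ∈ commutator G := c'.2
  have hc1 : c ≠ 1 := fun h => hc'1 (Subtype.ext h)
  have hall : ∀ d ∈ commutator G, d = 1 ∨ d = c := by
    intro d hd
    by_cases h : d = 1
    · left; exact h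
    · right
      have := hc'u ⟨d, hd⟩ (fun h' => h (congrArg Subtype.val h'))
      exact congrArg Subtype.val this
  have hcZ : c ∈ Subgroup.center G := H.central hcG
  have hcc : ∀ g : G, g * c = c * g := Subgroup.mem_center_iff.mp hcZ
  have hc2 : c * c = 1 := by
    have hmem : c * c ∈ commutator G := Subgroup.mul_mem _ hcG hcG
    rcases hall _ hmem with h | h
    · exact h
    · exfalso
      apply hc1
      have : c * c = c * 1 := by rw [h, mul_one]
      exact mul_left_cancel this
  -- (i) a non-central square root of `c`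
  obtain ⟨w, hwZ, hw2⟩ : ∃ w : G, w ∉ Subgroup.center G ∧ w ^ 2 = c := by
    obtain ⟨y, hy⟩ := exists_not_mem_center H
    have hex : ∃ x : G, x * y ≠ y * x := by
      by_contra hcon
      push Not at hcon
      exact hy (Subgroup.mem_center_iff.mpr hcon)
    obtain ⟨x, hxy⟩ := hex
    have hcomm : ⁅x, y⁆ = c := by
      rcases hall _ (comm_mem_commutator x y) with h | h
      · exact absurd ((comm_eq_one_iff x y).mp h) hxy
      · exact h
    have h1 : x * y = c * (y * x) := by
      rw [← hcomm, commutatorElement_def]; group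
    have hyx : y * x = c * (x * y) := by
      calc y * x = (c * c) * (y * x) := by rw [hc2, one_mul]
        _ = c * (c * (y * x)) := by rw [mul_assoc]
        _ = c * (x * y) := by rw [← h1]
    have hx_nZ : x ∉ Subgroup.center G := fun h => hxy ((Subgroup.mem_center_iff.mp h y).symm)
    have hxy_nZ : x * y ∉ Subgroup.center G := by
      intro h
      have h2 := Subgroup.mem_center_iff.mp h y
      apply hxy
      have h3 : y * x * y = x * y * y := by rw [mul_assoc]; exact h2
      exact (mul_right_cancel h3).symm
    have hsq : (x * y) ^ 2 = x ^ 2 * y ^ 2 * c := by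
      calc (x * y) ^ 2 = x * (y * x) * y := by rw [pow_two]; group
        _ = x * (c * (x * y)) * y := by rw [hyx]
        _ = (x * c) * (x * y * y) := by group
        _ = (c * x) * (x * y * y) := by rw [hcc x]
        _ = c * (x ^ 2 * y ^ 2) := by simp only [pow_two, mul_assoc]
        _ = x ^ 2 * y ^ 2 * c := by rw [← hcc]
    -- the centre has at most the one involution `c`
    have hZ2 : ∀ z : Subgroup.center G, z ^ 2 = 1 → z = 1 ∨ z = ⟨c, hcZ⟩ := by
      intro z hz
      have hz' : (z : G) ^ 2 = 1 := by
        have := congrArg Subtype.val hz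
        simpa using this
      rcases hall _ (hΩ _ z.2 hz') with h | h
      · left; exact Subtype.ext h
      · right; exact Subtype.ext h
    have habZ : ∀ u v : Subgroup.center G, u * v = v * u := by
      intro u v
      apply Subtype.ext
      exact Subgroup.mem_center_iff.mp v.2 u
    rcases d3_sq_lemma habZ (⟨c, hcZ⟩ : Subgroup.center G) hZ2 ⟨x ^ 2, pow_mem_center H x⟩
      ⟨y ^ 2, pow_mem_center H y⟩ ⟨c, hcZ⟩ with ⟨z, hz⟩ | ⟨z, hz⟩ | ⟨z, hz⟩
    · have hz' : (z : G) ^ 2 = x ^ 2 * c := by
        have := congrArg Subtype.val hz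
        simpa using this
      exact d3_adjust c x z z.2 hx_nZ hcc hc2 hz'
    · have hz' : (z : G) ^ 2 = y ^ 2 * c := by
        have := congrArg Subtype.val hz
        simpa using this
      exact d3_adjust c y z z.2 hy hcc hc2 hz'
    · have hz' : (z : G) ^ 2 = x ^ 2 * y ^ 2 := by
        have := congrArg Subtype.val hz
        simpa using this
      refine d3_adjust c (x * y) z z.2 hxy_nZ hcc hc2 ?_
      rw [hz', hsq, mul_assoc (x ^ 2 * y ^ 2), hc2, mul_one]
  -- (ii) the subgroup `M` and the automorphism
  set M : Subgroup G := Subgroup.centralizer ({w} : Set G) with hM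
  have hMidx : M.index = 2 := index_centralizer H w hwZ
  have hmemM : ∀ g : G, g ∈ M ↔ g * w = w * g := fun g =>
    Subgroup.mem_centralizer_singleton_iff
  have hwM : w ∈ M := (hmemM w).2 rfl
  have hww : w * w = c := by rw [← pow_two]; exact hw2
  have hnotM : ∀ t : G, t ∉ M → w * t = c * (t * w) := by
    intro t ht
    have hcomm : ⁅t, w⁆ = c := by
      rcases hall _ (comm_mem_commutator t w) with h | h
      · exact absurd ((hmemM t).2 ((comm_eq_one_iff t w).mp h)) ht
      · exact h
    have h1 : t * w = c * (w * t) := by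
      rw [← hcomm, commutatorElement_def]; group
    calc w * t = (c * c) * (w * t) := by rw [hc2, one_mul]
      _ = c * (c * (w * t)) := by rw [mul_assoc]
      _ = c * (t * w) := by rw [← h1]
  let σ : G →* G :=
    { toFun := fun g => if g ∈ M then g else g * w
      map_one' := by
        rw [if_pos (Subgroup.one_mem M)]
      map_mul' := by
        intro g h
        by_cases hg : g ∈ M
        · by_cases hh : h ∈ M
          · rw [if_pos hg, if_pos hh, if_pos (Subgroup.mul_mem _ hg hh)]
          · have hgh : g * h ∉ M := by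
              rw [Subgroup.mul_mem_iff_of_index_two hMidx]
              tauto
            rw [if_pos hg, if_neg hh, if_neg hgh, mul_assoc]
        · by_cases hh : h ∈ M
          · have hgh : g * h ∉ M := by
              rw [Subgroup.mul_mem_iff_of_index_two hMidx]
              tauto
            rw [if_neg hg, if_pos hh, if_neg hgh, mul_assoc, (hmemM h).1 hh, mul_assoc]
          · have hgh : g * h ∈ M := by
              rw [Subgroup.mul_mem_iff_of_index_two hMidx]
              tauto
            rw [if_neg hg, if_neg hh, if_pos hgh]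
            symm
            calc g * w * (h * w) = g * (w * h) * w := by group
              _ = g * (c * (h * w)) * w := by rw [hnotM h hh]
              _ = (g * c) * (h * (w * w)) := by group
              _ = (c * g) * (h * c) := by rw [hcc g, hww]
              _ = c * (g * h * c) := by group
              _ = c * (c * (g * h)) := by rw [hcc (g * h)]
              _ = g * h := by rw [← mul_assoc, hc2, one_mul] }
  have hσM : ∀ g, g ∈ M → σ g = g := fun g hg => if_pos hg
  have hσN : ∀ g, g ∉ M → σ g = g * w := fun g hg => if_neg hg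
  have hσinj : Function.Injective σ := by
    intro g h hgh
    by_cases hg : g ∈ M
    · by_cases hh : h ∈ M
      · rw [hσM g hg, hσM h hh] at hgh
        exact hgh
      · exfalso
        rw [hσM g hg, hσN h hh] at hgh
        have hn : h * w ∉ M := by
          rw [Subgroup.mul_mem_iff_of_index_two hMidx]
          tauto
        exact hn (hgh ▸ hg)
    · by_cases hh : h ∈ M
      · exfalso
        rw [hσN g hg, hσM h hh] at hgh
        have hn : g * w ∉ M := by
          rw [Subgroup.mul_mem_iff_of_index_two hMidx]
          tauto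
        exact hn (hgh.symm ▸ hh)
      · rw [hσN g hg, hσN h hh] at hgh
        exact mul_right_cancel hgh
  have hσbij : Function.Bijective σ := ⟨hσinj, Finite.injective_iff_surjective.mp hσinj⟩
  let σ' : MulAut G := MulEquiv.ofBijective σ hσbij
  have hσ' : ∀ g, σ' g = σ g := fun g => rfl
  -- the subgroup `W`
  have hw4 : w ^ 4 = 1 := by
    calc w ^ 4 = (w ^ 2) ^ 2 := by rw [← pow_mul]
      _ = c * c := by rw [hw2, pow_two]
      _ = 1 := hc2
  have hord : orderOf w = 4 := by
    have := orderOf_eq_prime_pow (x := w) (p := 2) (n := 1) (by simpa [hw2] using hc1)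
      (by simpa using hw4)
    simpa using this
  unfold Good
  refine ⟨M, Subgroup.zpowers w, Subgroup.center_le_centralizer _, hMidx, ?_, ?_, ?_⟩
  · intro d hd
    rcases hall d hd with h | h
    · rw [h]
      exact Subgroup.one_mem _
    · rw [h, ← hw2]
      exact Subgroup.pow_mem _ (Subgroup.mem_zpowers w) 2
  · rw [Nat.card_zpowers, hord]
    norm_num
  · intro x hx u hu
    have hxZ : x ∉ Subgroup.center G := fun h => hx (Subgroup.center_le_centralizer _ h)
    obtain ⟨k, rfl⟩ := Subgroup.mem_zpowers_iff.1 hu
    have hk : w ^ k = w ^ (k % 4) := by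
      have := zpow_mod_orderOf w k
      rw [hord] at this
      exact this.symm
    have h0 : 0 ≤ k % 4 := Int.emod_nonneg _ (by norm_num)
    have h4 : k % 4 < 4 := Int.emod_lt_of_pos _ (by norm_num)
    rw [hk]
    obtain ⟨r, hr⟩ : ∃ r : ℕ, k % 4 = r := ⟨(k % 4).toNat, (Int.toNat_of_nonneg h0).symm⟩
    rw [hr, zpow_natCast]
    have hr4 : r < 4 := by omega
    interval_cases r
    · exact ⟨1, by simp⟩
    · exact ⟨σ', by rw [hσ', hσN x hx, pow_one]⟩
    · obtain ⟨g, hg⟩ := conj_eq_mul H x hxZ c hcG
      refine ⟨MulAut.conj g, ?_⟩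
      rw [MulAut.conj_apply, hg, hw2]
    · have hxw : x * w ∉ M := by
        rw [Subgroup.mul_mem_iff_of_index_two hMidx]
        tauto
      have hxwZ : x * w ∉ Subgroup.center G :=
        fun h => hxw (Subgroup.center_le_centralizer _ h)
      obtain ⟨g, hg⟩ := conj_eq_mul H (x * w) hxwZ c hcG
      refine ⟨MulAut.conj g * σ', ?_⟩
      rw [MulAut.mul_apply, hσ', hσN x hx, MulAut.conj_apply, hg, pow_succ, hw2, mul_assoc,
        hcc w]

end Cfsg.Agent.Lib.Helper4.AutOrb
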