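import Mathlib

/-!
S4067 (AutOrb) piece E: a weighted orbit count.
-/

namespace Cfsg.Agent.Lib.Helper4.AutOrb

/-- the arithmetic at the end of `orbit_count_le` -/
theorem orbit_count_arith (k n m z Q : ℕ) (hM : m * (k + 1) = n) (hZ : z * (k + 1) ^ 2 ≤ n)
    (h : Q * (k + 1) ^ 3 ≤ (k + 1) * n + k * (k + 1) * m + k * (k + 1) ^ 2 * z)
    (hk : 1 ≤ k) : Q * (k + 1) ≤ n := by
  -- the right side is at most (3k+1) n ≤ (k+1)^2 n
  have h1 : k * (k + 1) * m = k * n := by rw [← hM]; ring
  have h2 : k * (k + 1) ^ 2 * z ≤ k * n := by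
    calc k * (k + 1) ^ 2 * z = k * (z * (k + 1) ^ 2) := by ring
      _ ≤ k * n := Nat.mul_le_mul_left _ hZ
  have h3 : Q * (k + 1) ^ 3 ≤ (3 * k + 1) * n := by
    calc Q * (k + 1) ^ 3 ≤ (k + 1) * n + k * (k + 1) * m + k * (k + 1) ^ 2 * z := h
      _ ≤ (k + 1) * n + k * n + k * n := by rw [h1]; omega
      _ = (3 * k + 1) * n := by ring
  have h4 : (3 * k + 1) * n ≤ (k + 1) ^ 2 * n := by
    apply Nat.mul_le_mul_right
    nlinarith
  have h5 : (k + 1) ^ 2 * (Q * (k + 1)) ≤ (k + 1) ^ 2 * n := by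
    calc (k + 1) ^ 2 * (Q * (k + 1)) = Q * (k + 1) ^ 3 := by ring
      _ ≤ (3 * k + 1) * n := h3
      _ ≤ (k + 1) ^ 2 * n := h4
  exact Nat.le_of_mul_le_mul_left h5 (by positivity)

/-- E (generic, no group structure on X) -/
theorem orbit_count_le {A X : Type*} [Group A] [MulAction A X] [Finite X] (p : ℕ) (hp : p.Prime)
    (Z M : Set X) (hZM : Z ⊆ M) (hM : Nat.card M * p = Nat.card X)
    (hZ : Nat.card Z * p ^ 2 ≤ Nat.card X)
    (h1 : ∀ x, x ∉ Z → p ≤ Nat.card (MulAction.orbit A x))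
    (h2 : ∀ x, x ∉ M → p ^ 2 ≤ Nat.card (MulAction.orbit A x)) :
    Nat.card (MulAction.orbitRel.Quotient A X) * p ≤ Nat.card X := by
  classical
  haveI : Fintype X := Fintype.ofFinite X
  haveI : Fintype (MulAction.orbitRel.Quotient A X) := Fintype.ofFinite _
  obtain ⟨k, rfl⟩ : ∃ k, p = k + 1 := ⟨p - 1, by have := hp.two_le; omega⟩
  have hk : 1 ≤ k := by have := hp.two_le; omega
  let c : X → ℕ := fun x =>
    (k + 1) + (if x ∈ M then k * (k + 1) else 0) + (if x ∈ Z then k * (k + 1) ^ 2 else 0)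
  have hc_ge : ∀ x, k + 1 ≤ c x := by
    intro x
    show k + 1 ≤ (k + 1) + _ + _
    omega
  have hc_M : ∀ x, x ∈ M → (k + 1) ^ 2 ≤ c x := by
    intro x hx
    show (k + 1) ^ 2 ≤ (k + 1) + (if x ∈ M then k * (k + 1) else 0) + _
    rw [if_pos hx]
    have : (k + 1) ^ 2 = (k + 1) + k * (k + 1) := by ring
    omega
  have hc_Z : ∀ x, x ∈ Z → (k + 1) ^ 3 ≤ c x := by
    intro x hx
    show (k + 1) ^ 3 ≤ (k + 1) + (if x ∈ M then k * (k + 1) else 0) +
      (if x ∈ Z then k * (k + 1) ^ 2 else 0)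
    rw [if_pos hx, if_pos (hZM hx)]
    have : (k + 1) ^ 3 = (k + 1) + k * (k + 1) + k * (k + 1) ^ 2 := by ring
    omega
  let mk : X → MulAction.orbitRel.Quotient A X := Quotient.mk''
  -- the fibre of `mk` over the class of `x` is the orbit of `x`
  have hfibcard : ∀ x : X, (Finset.univ.filter (fun y => mk y = mk x)).card =
      Nat.card (MulAction.orbit A x) := by
    intro x
    haveI : Fintype (MulAction.orbit A x) := Fintype.ofFinite _
    rw [Nat.card_eq_fintype_card]
    symm
    apply Fintype.card_of_subtype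
    intro y
    simp only [Finset.mem_filter, Finset.mem_univ, true_and]
    show (Quotient.mk'' y : MulAction.orbitRel.Quotient A X) = Quotient.mk'' x ↔ _
    rw [Quotient.eq'']
    exact MulAction.orbitRel_apply
  have hfib : ∀ q : MulAction.orbitRel.Quotient A X,
      (k + 1) ^ 3 ≤ ∑ x ∈ Finset.univ.filter (fun y => mk y = q), c x := by
    intro q
    obtain ⟨x0, rfl⟩ : ∃ x0, mk x0 = q := Quotient.exists_rep q
    set F := Finset.univ.filter (fun y => mk y = mk x0) with hF
    have hx0 : x0 ∈ F := by simp [hF]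
    by_cases hcase3 : ∃ x ∈ F, x ∉ M
    · obtain ⟨x, hxF, hxM⟩ := hcase3
      have hsame : mk x = mk x0 := by simpa [hF] using hxF
      have hcard : (k + 1) ^ 2 ≤ F.card := by
        have := h2 x hxM
        rw [← hfibcard x, hsame] at this
        exact this
      calc (k + 1) ^ 3 = (k + 1) ^ 2 * (k + 1) := by ring
        _ ≤ F.card * (k + 1) := Nat.mul_le_mul_right _ hcard
        _ = F.card • (k + 1) := by rw [smul_eq_mul]
        _ ≤ ∑ x ∈ F, c x := Finset.card_nsmul_le_sum _ _ _ (fun x _ => hc_ge x)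
    · push Not at hcase3
      by_cases hcase2 : ∃ x ∈ F, x ∉ Z
      · obtain ⟨x, hxF, hxZ⟩ := hcase2
        have hsame : mk x = mk x0 := by simpa [hF] using hxF
        have hcard : (k + 1) ≤ F.card := by
          have := h1 x hxZ
          rw [← hfibcard x, hsame] at this
          exact this
        calc (k + 1) ^ 3 = (k + 1) * (k + 1) ^ 2 := by ring
          _ ≤ F.card * (k + 1) ^ 2 := Nat.mul_le_mul_right _ hcard
          _ = F.card • (k + 1) ^ 2 := by rw [smul_eq_mul]
          _ ≤ ∑ x ∈ F, c x :=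
            Finset.card_nsmul_le_sum _ _ _ (fun x hx => hc_M x (hcase3 x hx))
      · push Not at hcase2
        calc (k + 1) ^ 3 ≤ c x0 := hc_Z x0 (hcase2 x0 hx0)
          _ ≤ ∑ x ∈ F, c x :=
            Finset.single_le_sum (f := c) (fun x _ => Nat.zero_le _) hx0
  have hsum : ∑ q : MulAction.orbitRel.Quotient A X,
      ∑ x ∈ Finset.univ.filter (fun y => mk y = q), c x = ∑ x, c x :=
    Finset.sum_fiberwise _ _ _
  have hlow : Fintype.card (MulAction.orbitRel.Quotient A X) * (k + 1) ^ 3 ≤ ∑ x, c x := by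
    rw [← hsum]
    calc Fintype.card (MulAction.orbitRel.Quotient A X) * (k + 1) ^ 3
        = ∑ _q : MulAction.orbitRel.Quotient A X, (k + 1) ^ 3 := by
          rw [Finset.sum_const, Finset.card_univ, smul_eq_mul]
      _ ≤ _ := Finset.sum_le_sum (fun q _ => hfib q)
  -- the cardinalities of `M` and `Z`
  have hMcard : (Finset.univ.filter (fun x => x ∈ M)).card = Nat.card M := by
    haveI : Fintype M := Fintype.ofFinite _
    rw [Nat.card_eq_fintype_card]
    symm
    apply Fintype.card_of_subtype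
    intro y
    simp
  have hZcard : (Finset.univ.filter (fun x => x ∈ Z)).card = Nat.card Z := by
    haveI : Fintype Z := Fintype.ofFinite _
    rw [Nat.card_eq_fintype_card]
    symm
    apply Fintype.card_of_subtype
    intro y
    simp
  have hup : ∑ x, c x = (k + 1) * Nat.card X + k * (k + 1) * Nat.card M +
      k * (k + 1) ^ 2 * Nat.card Z := by
    show ∑ x, ((k + 1) + (if x ∈ M then k * (k + 1) else 0) +
      (if x ∈ Z then k * (k + 1) ^ 2 else 0)) = _
    rw [Finset.sum_add_distrib, Finset.sum_add_distrib, Finset.sum_const, Finset.card_univ,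
      ← Finset.sum_filter, ← Finset.sum_filter, Finset.sum_const, Finset.sum_const, hMcard, hZcard,
      Nat.card_eq_fintype_card (α := X)]
    simp only [smul_eq_mul]
    ring
  rw [Nat.card_eq_fintype_card (α := MulAction.orbitRel.Quotient A X)]
  exact orbit_count_arith k (Nat.card X) (Nat.card M) (Nat.card Z) _ hM hZ (hup ▸ hlow) hk

end Cfsg.Agent.Lib.Helper4.AutOrb
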