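import Cfsg.Agent.Lib.Helper4.AutSym4

set_option autoImplicit false

/-! Automorphisms of the symmetric group of degree six: the outer automorphism group has order at
most two. (helper4) -/

namespace Cfsg.Agent.Lib.Helper4.AutSix

open Equiv Cfsg.Agent.Lib.Helper4.AutSym

variable {Ω : Type*} [DecidableEq Ω] [Fintype Ω]

/-- an automorphism is inner -/
def IsInner (α : Perm Ω ≃* Perm Ω) : Prop := ∃ σ : Perm Ω, ∀ g, α g = σ * g * σ⁻¹

theorem swap_image_six (h6 : Fintype.card Ω = 6) (α : Perm Ω ≃* Perm Ω) {a b : Ω} (hab : a ≠ b) :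
    (α (swap a b)).cycleType = {2} ∨ (α (swap a b)).cycleType = {2, 2, 2} := by
  have hord : orderOf (α (swap a b)) = 2 := by
    rw [MulEquiv.orderOf_eq]
    apply orderOf_eq_prime
    · rw [pow_two, swap_mul_self]
    · intro h
      exact hab (Equiv.swap_eq_one_iff.mp h)
  obtain ⟨k, hk⟩ := Perm.cycleType_prime_order (σ := α (swap a b)) (by rw [hord]; exact Nat.prime_two)
  rw [hord] at hk
  have hcard := card_cycleType_map α (swap a b)
  have hsw : (swap a b).cycleType = {2} := Perm.isSwap_iff_cycleType.mp ⟨a, b, hab, rfl⟩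
  rw [hsw, hk] at hcard
  have h1 := Perm.card_of_cycleType_mul_eq Ω ({2} : Multiset ℕ)
  have h2 := Perm.card_of_cycleType_mul_eq Ω (Multiset.replicate (k + 1) 2)
  have hsum : (Multiset.replicate (k + 1) 2).sum ≤ Fintype.card Ω := by
    rw [← hk]; exact Perm.sum_cycleType_le _
  have hsum' : (Multiset.replicate (k + 1) 2).sum = 2 * (k + 1) := by
    rw [Multiset.sum_replicate]; simp [mul_comm]
  rw [hsum'] at hsum
  have hc1 : (({2} : Multiset ℕ).sum ≤ Fintype.card Ω ∧ ∀ a ∈ ({2} : Multiset ℕ), 2 ≤ a) := by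
    refine ⟨by simp; omega, by simp⟩
  have hc2 : ((Multiset.replicate (k + 1) 2).sum ≤ Fintype.card Ω ∧
      ∀ a ∈ Multiset.replicate (k + 1) 2, 2 ≤ a) := by
    refine ⟨by rw [hsum']; exact hsum, ?_⟩
    intro x hx
    rw [Multiset.eq_of_mem_replicate hx]
  rw [if_pos hc1] at h1
  rw [if_pos hc2, hcard, ← h1] at h2
  have hpos : 0 < (Finset.univ.filter fun h : Perm Ω => h.cycleType = {2}).card := by
    apply Finset.card_pos.mpr
    exact ⟨swap a b, by simp [hsw]⟩
  have h3 := Nat.eq_of_mul_eq_mul_left hpos h2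
  have e1 : (Multiset.replicate (k + 1) 2).prod = 2 ^ (k + 1) := by
    rw [Multiset.prod_replicate]
  have e2 : (∏ n ∈ (Multiset.replicate (k + 1) 2).toFinset,
      Nat.factorial ((Multiset.replicate (k + 1) 2).count n)) = Nat.factorial (k + 1) := by
    rw [Multiset.toFinset_replicate, if_neg (by omega), Finset.prod_singleton,
      Multiset.count_replicate_self]
  have e3 : (∏ n ∈ ({2} : Multiset ℕ).toFinset,
      Nat.factorial (({2} : Multiset ℕ).count n)) = 1 := by
    simp
  rw [e1, e2, e3, hsum'] at h3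
  simp only [Multiset.sum_singleton, Multiset.prod_singleton, mul_one] at h3
  rw [h6] at h3 hsum
  have hk2 : k ≤ 2 := by omega
  interval_cases k
  · left; rw [hk]; rfl
  · exfalso
    norm_num [Nat.factorial] at h3
  · right; rw [hk]; rfl

theorem isConj_swap_swap {a b c d : Ω} (hab : a ≠ b) (hcd : c ≠ d) :
    IsConj (swap a b) (swap c d) := by
  rw [Perm.isConj_iff_cycleType_eq, Perm.isSwap_iff_cycleType.mp ⟨a, b, hab, rfl⟩,
    Perm.isSwap_iff_cycleType.mp ⟨c, d, hcd, rfl⟩]

theorem cycleType_map_of_isConj (α : Perm Ω ≃* Perm Ω) {g h : Perm Ω} (hc : IsConj g h) :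
    (α g).cycleType = (α h).cycleType := by
  rw [← Perm.isConj_iff_cycleType_eq]
  exact α.toMonoidHom.map_isConj hc

theorem all_swap_or_all_triple (h6 : Fintype.card Ω = 6) (α : Perm Ω ≃* Perm Ω) :
    (∀ a b : Ω, a ≠ b → (α (swap a b)).IsSwap) ∨
    (∀ a b : Ω, a ≠ b → (α (swap a b)).cycleType = {2, 2, 2}) := by
  haveI : Nontrivial Ω := Fintype.one_lt_card_iff_nontrivial.mp (by omega)
  obtain ⟨a₀, b₀, h₀⟩ := exists_pair_ne Ω
  rcases swap_image_six h6 α h₀ with h | h
  · left
    intro a b hab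
    rw [Perm.isSwap_iff_cycleType, cycleType_map_of_isConj α (isConj_swap_swap hab h₀), h]
  · right
    intro a b hab
    rw [cycleType_map_of_isConj α (isConj_swap_swap hab h₀), h]

theorem isInner_symm {α : Perm Ω ≃* Perm Ω} (h : IsInner α.symm) : IsInner α := by
  obtain ⟨σ, hσ⟩ := h
  refine ⟨σ⁻¹, fun g => ?_⟩
  apply α.symm.injective
  rw [MulEquiv.symm_apply_apply, hσ]
  group

theorem swap_to_triple (h6 : Fintype.card Ω = 6) {α : Perm Ω ≃* Perm Ω} (hα : ¬ IsInner α)
    {a b : Ω} (hab : a ≠ b) : (α (swap a b)).cycleType = {2, 2, 2} := by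
  rcases all_swap_or_all_triple h6 α with h | h
  · exact absurd (inner_of_isSwap α h) hα
  · exact h a b hab

theorem triple_to_swap (h6 : Fintype.card Ω = 6) {α : Perm Ω ≃* Perm Ω} (hα : ¬ IsInner α)
    {t : Perm Ω} (ht : t.cycleType = {2, 2, 2}) : (α t).IsSwap := by
  haveI : Nontrivial Ω := Fintype.one_lt_card_iff_nontrivial.mp (by omega)
  obtain ⟨a₀, b₀, h₀⟩ := exists_pair_ne Ω
  have hα' : ¬ IsInner α.symm := fun h => hα (isInner_symm h)
  have h1 := swap_to_triple h6 hα' h₀
  have hc : IsConj t (α.symm (swap a₀ b₀)) := by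
    rw [Perm.isConj_iff_cycleType_eq, ht, h1]
  have h2 := cycleType_map_of_isConj α hc
  rw [MulEquiv.apply_symm_apply] at h2
  rw [Perm.isSwap_iff_cycleType, h2]
  exact Perm.isSwap_iff_cycleType.mp ⟨a₀, b₀, h₀, rfl⟩

/-- two non-inner automorphisms compose to an inner one -/
theorem isInner_trans (h6 : Fintype.card Ω = 6) {α β : Perm Ω ≃* Perm Ω} (hα : ¬ IsInner α)
    (hβ : ¬ IsInner β) : IsInner (α.trans β) := by
  apply inner_of_isSwap
  intro a b hab
  exact triple_to_swap h6 hβ (swap_to_triple h6 hα hab)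

/-- a permutation with three disjoint transpositions has no fixed point in degree six -/
theorem triple_no_fixed (h6 : Fintype.card Ω = 6) {t : Perm Ω} (ht : t.cycleType = {2, 2, 2})
    (x : Ω) : t x ≠ x := by
  rw [← Perm.mem_support]
  have h1 : t.support.card = 6 := by
    rw [← Perm.sum_cycleType, ht]; rfl
  have h2 : t.support = Finset.univ := by
    apply Finset.eq_univ_of_card
    rw [h1, h6]
  rw [h2]
  exact Finset.mem_univ x

end Cfsg.Agent.Lib.Helper4.AutSix
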