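import Cfsg.Agent.Lib.Helper4.AutSix1

set_option autoImplicit false

/-! A transitive subgroup of index six in the symmetric group of degree six, from the action of the
symmetric group of degree five on its six Sylow five-subgroups. (helper4) -/

namespace Cfsg.Agent.Lib.Helper4.AutSix

open Equiv Cfsg.Agent.Lib.Helper4.AutSym

theorem card_perm_five : Nat.card (Perm (Fin 5)) = 120 := by
  rw [Nat.card_eq_fintype_card, Fintype.card_perm, Fintype.card_fin]; rfl

theorem card_sylow_five : Nat.card (Sylow 5 (Perm (Fin 5))) = 6 := by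
  haveI : Fact (Nat.Prime 5) := ⟨by norm_num⟩
  have h1 : Nat.card (Sylow 5 (Perm (Fin 5))) ≡ 1 [MOD 5] := card_sylow_modEq_one 5 _
  obtain ⟨P⟩ : Nonempty (Sylow 5 (Perm (Fin 5))) := inferInstance
  have h2 : Nat.card (Sylow 5 (Perm (Fin 5))) ∣ 120 := by
    rw [← card_perm_five]
    exact (Sylow.card_dvd_index P).trans (Subgroup.index_dvd_card _)
  obtain ⟨n, hn⟩ : ∃ n, n = Nat.card (Sylow 5 (Perm (Fin 5))) := ⟨_, rfl⟩
  rw [← hn] at h1 h2 ⊢
  have h3 : n ≤ 120 := Nat.le_of_dvd (by norm_num) h2
  have h4 : n % 5 = 1 := h1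
  have h5 : n = 1 ∨ n = 6 := by
    interval_cases n <;> first | omega | (exfalso; revert h2; decide)
  rcases h5 with h5 | h5
  · exfalso
    rw [h5] at hn
    haveI : Subsingleton (Sylow 5 (Perm (Fin 5))) := by
      rw [← Finite.card_le_one_iff_subsingleton, ← hn]
    haveI : (P : Subgroup (Perm (Fin 5))).Normal := Sylow.normal_of_subsingleton P
    have hne : (P : Subgroup (Perm (Fin 5))) ≠ ⊥ :=
      Sylow.ne_bot_of_dvd_card P (by rw [card_perm_five]; norm_num)
    have hnt : Nontrivial (P : Subgroup (Perm (Fin 5))) := (Subgroup.nontrivial_iff_ne_bot _).mpr hne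
    have hA := Perm.alternatingGroup_le_of_normal (α := Fin 5) (by simp) hnt
    have hdvd := Subgroup.card_dvd_of_le hA
    obtain ⟨k, hk⟩ := IsPGroup.iff_card.mp P.isPGroup'
    have h60 : Nat.card (alternatingGroup (Fin 5)) = 60 := by
      have := two_mul_nat_card_alternatingGroup (α := Fin 5)
      rw [card_perm_five] at this
      omega
    rw [h60] at hdvd
    have h2dvd : 2 ∣ 5 ^ k := by
      have : (2 : ℕ) ∣ 60 := by norm_num
      rw [← hk]
      exact this.trans hdvd
    have := Nat.Prime.dvd_of_dvd_pow Nat.prime_two h2dvd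
    omega
  · exact h5

variable {Ω : Type*} [DecidableEq Ω] [Fintype Ω]

/-- an index-six subgroup of the symmetric group of degree six which is transitive and
isomorphic to the symmetric group of degree five -/
theorem exists_exotic (h6 : Fintype.card Ω = 6) :
    ∃ H : Subgroup (Perm Ω), H.index = 6 ∧ (∀ x y : Ω, ∃ h ∈ H, h x = y) := by
  classical
  haveI : Fact (Nat.Prime 5) := ⟨by norm_num⟩
  haveI : Fintype (Sylow 5 (Perm (Fin 5))) := Fintype.ofFinite _
  have hcardX : Fintype.card (Sylow 5 (Perm (Fin 5))) = Fintype.card Ω := by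
    rw [h6, ← Nat.card_eq_fintype_card, card_sylow_five]
  let e : Sylow 5 (Perm (Fin 5)) ≃ Ω := Fintype.equivOfCardEq hcardX
  let ρ : Perm (Fin 5) →* Perm (Sylow 5 (Perm (Fin 5))) :=
    MulAction.toPermHom (Perm (Fin 5)) (Sylow 5 (Perm (Fin 5)))
  let ρ' : Perm (Fin 5) →* Perm Ω := (e.permCongrHom).toMonoidHom.comp ρ
  have hρ' : ∀ g P, ρ' g (e P) = e (g • P) := by
    intro g P
    show e (ρ g (e.symm (e P))) = _
    rw [Equiv.symm_apply_apply]
    rfl
  have hker : ρ.ker = ⊥ := by
    by_contra hne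
    have hnt : Nontrivial ρ.ker := (Subgroup.nontrivial_iff_ne_bot _).mpr hne
    have hA := Perm.alternatingGroup_le_of_normal (α := Fin 5) (by simp) hnt
    obtain ⟨P⟩ : Nonempty (Sylow 5 (Perm (Fin 5))) := inferInstance
    have hstab : ρ.ker ≤ MulAction.stabilizer (Perm (Fin 5)) P := by
      intro g hg
      rw [MulAction.mem_stabilizer_iff]
      have : ρ g = 1 := hg
      have h1 : ρ g P = P := by rw [this]; rfl
      exact h1
    have h1 := Subgroup.index_dvd_of_le (hA.trans hstab)
    rw [MulAction.index_stabilizer_of_transitive, card_sylow_five,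
      alternatingGroup.index_eq_two] at h1
    omega
  have hinj : Function.Injective ρ' := by
    intro a b hab
    have := e.permCongrHom.injective hab
    exact (MonoidHom.ker_eq_bot_iff ρ).mp hker this
  refine ⟨ρ'.range, ?_, ?_⟩
  · have h1 := Subgroup.card_mul_index ρ'.range
    have h2 : Nat.card ρ'.range = 120 := by
      rw [← card_perm_five]
      exact (Nat.card_congr (MonoidHom.ofInjective hinj).toEquiv).symm
    have h3 : Nat.card (Perm Ω) = 720 := by
      rw [Nat.card_eq_fintype_card, Fintype.card_perm, h6]; rfl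
    rw [h2, h3] at h1
    omega
  · intro x y
    obtain ⟨g, hg⟩ := MulAction.exists_smul_eq (Perm (Fin 5)) (e.symm x) (e.symm y)
    refine ⟨ρ' g, ⟨g, rfl⟩, ?_⟩
    have := hρ' g (e.symm x)
    rw [Equiv.apply_symm_apply] at this
    rw [this, hg, Equiv.apply_symm_apply]

end Cfsg.Agent.Lib.Helper4.AutSix
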