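import Cfsg.Agent.Lib.Helper4.AutSix2

set_option autoImplicit false

/-! The subgroups of index six in the symmetric group of degree six. (helper4) -/

namespace Cfsg.Agent.Lib.Helper4.AutSix

open Equiv Cfsg.Agent.Lib.Helper4.AutSym

variable {Ω : Type*} [DecidableEq Ω] [Fintype Ω]

/-- preimage of a point stabilizer under an automorphism -/
def pre (α : Perm Ω ≃* Perm Ω) (x : Ω) : Subgroup (Perm Ω) :=
  (MulAction.stabilizer (Perm Ω) x).comap α.toMonoidHom

theorem mem_pre (α : Perm Ω ≃* Perm Ω) (x : Ω) (g : Perm Ω) : g ∈ pre α x ↔ α g x = x := by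
  rw [pre, Subgroup.mem_comap, MulAction.mem_stabilizer_iff, Perm.smul_def]
  rfl

theorem pre_refl (x : Ω) : pre (MulEquiv.refl _) x = MulAction.stabilizer (Perm Ω) x := by
  ext g
  rw [mem_pre, MulAction.mem_stabilizer_iff, Perm.smul_def]
  rfl

theorem index_pre (α : Perm Ω ≃* Perm Ω) (x : Ω) : (pre α x).index = Fintype.card Ω := by
  rw [pre, Subgroup.index_comap_of_surjective _ α.surjective,
    MulAction.index_stabilizer_of_transitive, Nat.card_eq_fintype_card]

theorem pre_injective (hcard : 3 ≤ Fintype.card Ω) (α : Perm Ω ≃* Perm Ω) :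
    Function.Injective (pre α) := by
  intro x y hxy
  by_contra hne
  obtain ⟨z, hz⟩ : ∃ z, z ∉ ({x, y} : Finset Ω) := by
    by_contra hcon
    push Not at hcon
    have h1 : ({x, y} : Finset Ω) = Finset.univ := Finset.eq_univ_iff_forall.mpr hcon
    have h2 : ({x, y} : Finset Ω).card ≤ 2 := Finset.card_le_two
    rw [h1, Finset.card_univ] at h2
    omega
  simp only [Finset.mem_insert, Finset.mem_singleton, not_or] at hz
  have h1 : α.symm (swap y z) ∈ pre α x := by
    rw [mem_pre, MulEquiv.apply_symm_apply]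
    exact swap_apply_of_ne_of_ne hne (Ne.symm hz.1)
  rw [hxy, mem_pre, MulEquiv.apply_symm_apply, swap_apply_left] at h1
  exact hz.2 h1

theorem conj_pre (α : Perm Ω ≃* Perm Ω) (k : Perm Ω) (x : Ω) :
    Subgroup.map (MulAut.conj (α.symm k)).toMonoidHom (pre α x) = pre α (k x) := by
  ext m
  rw [Subgroup.mem_map_equiv, mem_pre, mem_pre, MulAut.conj_symm_apply, map_mul, map_mul, map_inv,
    MulEquiv.apply_symm_apply]
  simp only [Perm.mul_apply]
  rw [Perm.inv_eq_iff_eq]

theorem pre_of_inner {α : Perm Ω ≃* Perm Ω} {σ : Perm Ω} (hσ : ∀ g, α g = σ * g * σ⁻¹) (x : Ω) :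
    pre α x = MulAction.stabilizer (Perm Ω) (σ⁻¹ x) := by
  ext g
  rw [mem_pre, hσ, MulAction.mem_stabilizer_iff, Perm.smul_def]
  simp only [Perm.mul_apply]
  constructor
  · intro h
    have := congrArg (fun t => σ⁻¹ t) h
    simpa using this
  · intro h
    rw [h]; simp

theorem pre_of_trans {α β : Perm Ω ≃* Perm Ω} {σ : Perm Ω}
    (hσ : ∀ g, (α.symm.trans β) g = σ * g * σ⁻¹) (x : Ω) :
    pre β x = pre α (σ⁻¹ x) := by
  ext g
  have h1 : β g = σ * α g * σ⁻¹ := by
    have := hσ (α g)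
    rwa [MulEquiv.trans_apply, MulEquiv.symm_apply_apply] at this
  rw [mem_pre, mem_pre, h1]
  simp only [Perm.mul_apply]
  constructor
  · intro h
    have := congrArg (fun t => σ⁻¹ t) h
    simpa using this
  · intro h
    rw [h]; simp

theorem normalCore_eq_bot (h6 : Fintype.card Ω = 6) (H : Subgroup (Perm Ω)) (hH : H.index = 6) :
    H.normalCore = ⊥ := by
  by_contra hne
  have hnt : Nontrivial H.normalCore := (Subgroup.nontrivial_iff_ne_bot _).mpr hne
  have hA := Perm.alternatingGroup_le_of_normal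
    (by rw [Nat.card_eq_fintype_card, h6]; norm_num) hnt
  have hAH : alternatingGroup Ω ≤ H := hA.trans (Subgroup.normalCore_le H)
  have h1 := Subgroup.index_dvd_of_le hAH
  haveI : Nontrivial Ω := Fintype.one_lt_card_iff_nontrivial.mp (by omega)
  rw [alternatingGroup.index_eq_two, hH] at h1
  omega

theorem exists_pre (h6 : Fintype.card Ω = 6) (H : Subgroup (Perm Ω)) (hH : H.index = 6) :
    ∃ (α : Perm Ω ≃* Perm Ω) (x : Ω), H = pre α x := by
  obtain ⟨α, x₀, hα⟩ := exists_aut_of_index H (by rw [hH, h6]) (normalCore_eq_bot h6 H hH)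
  refine ⟨α, x₀, ?_⟩
  ext g
  rw [hα, mem_pre]

theorem pre_outer_ne_stabilizer (h6 : Fintype.card Ω = 6) {α : Perm Ω ≃* Perm Ω}
    (hα : ¬ IsInner α) (x y : Ω) : pre α x ≠ MulAction.stabilizer (Perm Ω) y := by
  intro h
  obtain ⟨c, hc, d, hd, hcd⟩ : ∃ c, c ≠ y ∧ ∃ d, d ≠ y ∧ c ≠ d := by
    have hcard : 1 < (Finset.univ \ {y} : Finset Ω).card := by
      have h2 := Finset.card_sdiff_add_card_eq_card (Finset.subset_univ ({y} : Finset Ω))
      rw [Finset.card_univ, Finset.card_singleton] at h2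
      omega
    obtain ⟨c, hc, d, hd, hcd⟩ := Finset.one_lt_card.mp hcard
    simp only [Finset.mem_sdiff, Finset.mem_univ, true_and, Finset.mem_singleton] at hc hd
    exact ⟨c, hc, d, hd, hcd⟩
  have h1 : swap c d ∈ MulAction.stabilizer (Perm Ω) y := by
    rw [MulAction.mem_stabilizer_iff, Perm.smul_def]
    exact swap_apply_of_ne_of_ne (Ne.symm hc) (Ne.symm hd)
  rw [← h, mem_pre] at h1
  exact triple_no_fixed h6 (swap_to_triple h6 hα hcd) x h1

/-- an outer automorphism of the symmetric group of degree six -/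
theorem exists_outer (h6 : Fintype.card Ω = 6) : ∃ α : Perm Ω ≃* Perm Ω, ¬ IsInner α := by
  obtain ⟨H, hH, htrans⟩ := exists_exotic h6
  obtain ⟨α, x, hα⟩ := exists_pre h6 H hH
  refine ⟨α, ?_⟩
  rintro ⟨σ, hσ⟩
  rw [pre_of_inner hσ] at hα
  haveI : Nontrivial Ω := Fintype.one_lt_card_iff_nontrivial.mp (by omega)
  obtain ⟨y, hy⟩ := exists_ne (σ⁻¹ x)
  obtain ⟨h, hh, hxy⟩ := htrans (σ⁻¹ x) y
  rw [hα] at hh
  have hh' : h (σ⁻¹ x) = σ⁻¹ x := by
    have := MulAction.mem_stabilizer_iff.mp hh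
    rwa [Perm.smul_def] at this
  rw [hh'] at hxy
  exact hy hxy.symm

/-- the classification: every subgroup of index six is a point stabilizer, or the preimage of one
under a fixed outer automorphism -/
theorem classify (h6 : Fintype.card Ω = 6) {α₀ : Perm Ω ≃* Perm Ω} (hα₀ : ¬ IsInner α₀)
    (H : Subgroup (Perm Ω)) (hH : H.index = 6) :
    (∃ y : Ω, H = MulAction.stabilizer (Perm Ω) y) ∨ (∃ y : Ω, H = pre α₀ y) := by
  obtain ⟨α, x, hα⟩ := exists_pre h6 H hH
  by_cases hin : IsInner α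
  · left
    obtain ⟨σ, hσ⟩ := hin
    exact ⟨σ⁻¹ x, by rw [hα, pre_of_inner hσ]⟩
  · right
    have hα₀' : ¬ IsInner α₀.symm := fun h => hα₀ (isInner_symm h)
    obtain ⟨σ, hσ⟩ := isInner_trans h6 hα₀' hin
    exact ⟨σ⁻¹ x, by rw [hα, pre_of_trans hσ]⟩

theorem stabilizer_equiv_perm_five (h6 : Fintype.card Ω = 6) (x : Ω) :
    Nonempty (MulAction.stabilizer (Perm Ω) x ≃* Perm (Fin 5)) := by
  have hrange : (Perm.ofSubtype (p := fun y => y ≠ x)).range = MulAction.stabilizer (Perm Ω) x := by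
    ext g
    rw [Perm.mem_range_ofSubtype_iff, MulAction.mem_stabilizer_iff, Perm.smul_def]
    constructor
    · intro h
      by_contra hne
      have : x ∈ (g.support : Set Ω) := by
        rw [Finset.mem_coe, Perm.mem_support]; exact hne
      exact (h this) rfl
    · intro h y hy
      rw [Finset.mem_coe, Perm.mem_support] at hy
      intro hyx
      exact hy (by rw [hyx, h])
  have hcard : Fintype.card {y : Ω // y ≠ x} = Fintype.card (Fin 5) := by
    rw [Fintype.card_subtype_compl, Fintype.card_fin, h6]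
    simp
  have e1 : Perm {y : Ω // y ≠ x} ≃* (Perm.ofSubtype (p := fun y => y ≠ x)).range :=
    MonoidHom.ofInjective Perm.ofSubtype_injective
  have e2 : (Perm.ofSubtype (p := fun y => y ≠ x)).range ≃* MulAction.stabilizer (Perm Ω) x :=
    MulEquiv.subgroupCongr hrange
  have e3 : Perm {y : Ω // y ≠ x} ≃* Perm (Fin 5) := (Fintype.equivOfCardEq hcard).permCongrHom
  exact ⟨(e2.symm.trans e1.symm).trans e3⟩

theorem pre_equiv_perm_five (h6 : Fintype.card Ω = 6) (α : Perm Ω ≃* Perm Ω) (x : Ω) :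
    Nonempty (pre α x ≃* Perm (Fin 5)) := by
  obtain ⟨e⟩ := stabilizer_equiv_perm_five h6 x
  have e0 : pre α x ≃* MulAction.stabilizer (Perm Ω) x :=
    { toFun := fun g => ⟨α g.1, g.2⟩
      invFun := fun h => ⟨α.symm h.1, by
        rw [mem_pre, MulEquiv.apply_symm_apply]
        have := MulAction.mem_stabilizer_iff.mp h.2
        rwa [Perm.smul_def] at this⟩
      left_inv := fun g => by simp
      right_inv := fun h => by simp
      map_mul' := fun g h => by
        apply Subtype.ext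
        simp }
  exact ⟨e0.trans e⟩

end Cfsg.Agent.Lib.Helper4.AutSix
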