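import Cfsg.Agent.Lib.Helper4.AutSix3

set_option autoImplicit false

/-! The twelve subgroups of index six in the symmetric group of degree six. (helper4) -/

namespace Cfsg.Agent.Lib.Helper4.AutSix

open Equiv Cfsg.Agent.Lib.Helper4.AutSym

variable {Ω : Type*} [DecidableEq Ω] [Fintype Ω]

theorem conj_stabilizer (k : Perm Ω) (x : Ω) :
    Subgroup.map (MulAut.conj k).toMonoidHom (MulAction.stabilizer (Perm Ω) x) =
      MulAction.stabilizer (Perm Ω) (k x) := by
  have := conj_pre (MulEquiv.refl (Perm Ω)) k x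
  rw [pre_refl, pre_refl] at this
  exact this

theorem two_classes (h6 : Fintype.card Ω = 6) :
    ∃ H₁ H₂ : Subgroup (Equiv.Perm Ω), H₁.index = 6 ∧ H₂.index = 6 ∧
      (¬ ∃ g : Equiv.Perm Ω, Subgroup.map (MulAut.conj g).toMonoidHom H₁ = H₂) ∧
      ∀ H : Subgroup (Equiv.Perm Ω), H.index = 6 →
        ∃ g : Equiv.Perm Ω, Subgroup.map (MulAut.conj g).toMonoidHom H₁ = H ∨
          Subgroup.map (MulAut.conj g).toMonoidHom H₂ = H := by
  obtain ⟨α₀, hα₀⟩ := exists_outer h6
  haveI : Nonempty Ω := Fintype.card_pos_iff.mp (by omega)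
  obtain ⟨x₁⟩ : Nonempty Ω := inferInstance
  refine ⟨MulAction.stabilizer (Perm Ω) x₁, pre α₀ x₁, ?_, ?_, ?_, ?_⟩
  · rw [← pre_refl, index_pre, h6]
  · rw [index_pre, h6]
  · rintro ⟨g, hg⟩
    rw [conj_stabilizer] at hg
    exact pre_outer_ne_stabilizer h6 hα₀ x₁ (g x₁) hg.symm
  · intro H hH
    rcases classify h6 hα₀ H hH with ⟨y, hy⟩ | ⟨y, hy⟩
    · refine ⟨swap x₁ y, Or.inl ?_⟩
      rw [conj_stabilizer, swap_apply_left, hy]
    · refine ⟨α₀.symm (swap x₁ y), Or.inr ?_⟩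
      rw [conj_pre, swap_apply_left, hy]

theorem card_index_six (h6 : Fintype.card Ω = 6) :
    Nat.card {H : Subgroup (Perm Ω) // H.index = 6} = 12 := by
  obtain ⟨α₀, hα₀⟩ := exists_outer h6
  have hcard3 : 3 ≤ Fintype.card Ω := by omega
  let F : Ω ⊕ Ω → {H : Subgroup (Perm Ω) // H.index = 6} := fun s =>
    Sum.elim (fun x => ⟨MulAction.stabilizer (Perm Ω) x, by rw [← pre_refl, index_pre, h6]⟩)
      (fun x => ⟨pre α₀ x, by rw [index_pre, h6]⟩) s
  have hF : Function.Bijective F := by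
    constructor
    · rintro (x | x) (y | y) hxy
      · have h1 : MulAction.stabilizer (Perm Ω) x = MulAction.stabilizer (Perm Ω) y :=
          congrArg Subtype.val hxy
        rw [← pre_refl, ← pre_refl] at h1
        rw [pre_injective hcard3 _ h1]
      · exfalso
        have h1 : MulAction.stabilizer (Perm Ω) x = pre α₀ y := congrArg Subtype.val hxy
        exact pre_outer_ne_stabilizer h6 hα₀ y x h1.symm
      · exfalso
        have h1 : pre α₀ x = MulAction.stabilizer (Perm Ω) y := congrArg Subtype.val hxy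
        exact pre_outer_ne_stabilizer h6 hα₀ x y h1
      · have h1 : pre α₀ x = pre α₀ y := congrArg Subtype.val hxy
        rw [pre_injective hcard3 _ h1]
    · rintro ⟨H, hH⟩
      rcases classify h6 hα₀ H hH with ⟨y, hy⟩ | ⟨y, hy⟩
      · exact ⟨Sum.inl y, Subtype.ext hy.symm⟩
      · exact ⟨Sum.inr y, Subtype.ext hy.symm⟩
  rw [← Nat.card_congr (Equiv.ofBijective F hF), Nat.card_eq_fintype_card, Fintype.card_sum, h6]

theorem equiv_perm_five (h6 : Fintype.card Ω = 6) (H : Subgroup (Perm Ω)) (hH : H.index = 6) :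
    Nonempty (H ≃* Perm (Fin 5)) := by
  obtain ⟨α, x, hα⟩ := exists_pre h6 H hH
  subst hα
  exact pre_equiv_perm_five h6 α x

theorem exists_not_stabilizer (h6 : Fintype.card Ω = 6) :
    ∃ H : Subgroup (Perm Ω), H.index = 6 ∧ ∀ a : Ω, H ≠ MulAction.stabilizer (Perm Ω) a := by
  obtain ⟨α₀, hα₀⟩ := exists_outer h6
  haveI : Nonempty Ω := Fintype.card_pos_iff.mp (by omega)
  obtain ⟨x₁⟩ : Nonempty Ω := inferInstance
  exact ⟨pre α₀ x₁, by rw [index_pre, h6], fun a => pre_outer_ne_stabilizer h6 hα₀ x₁ a⟩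

end Cfsg.Agent.Lib.Helper4.AutSix
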