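import Mathlib

set_option autoImplicit false

/-! Automorphisms of the symmetric group preserving transpositions are inner. (helper4) -/

namespace Cfsg.Agent.Lib.Helper4.AutSym

open Equiv

variable {Ω : Type*} [DecidableEq Ω] [Fintype Ω]

theorem conj_swap' (h : Perm Ω) (p q : Ω) : h * swap p q * h⁻¹ = swap (h p) (h q) := by
  rw [Equiv.mul_swap_eq_swap_mul, mul_inv_cancel_right]

theorem isSwap_eq {t : Perm Ω} (ht : t.IsSwap) {p : Ω} (hp : t p ≠ p) : t = swap p (t p) := by
  obtain ⟨x, y, hxy, rfl⟩ := ht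
  by_cases h1 : p = x
  · subst h1; rw [swap_apply_left]
  · by_cases h2 : p = y
    · subst h2; rw [swap_apply_right, swap_comm]
    · exact absurd (swap_apply_of_ne_of_ne h1 h2) hp

theorem isSwap_eq_of_two {t : Perm Ω} (ht : t.IsSwap) {u v : Ω} (hu : t u ≠ u) (hv : t v ≠ v)
    (huv : u ≠ v) : t = swap u v := by
  have h1 := isSwap_eq ht hu
  have h2 : v = t u := by
    rw [h1] at hv
    by_contra hne
    exact hv (swap_apply_of_ne_of_ne huv.symm hne)
  rw [h2]; exact h1

theorem exists_common_moved {s t : Perm Ω} (h : ¬ Commute s t) : ∃ p, s p ≠ p ∧ t p ≠ p := by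
  by_contra hcon
  push Not at hcon
  apply h
  apply Perm.Disjoint.commute
  intro x
  by_cases hx : s x = x
  · exact Or.inl hx
  · exact Or.inr (hcon x hx)

theorem swap_swap_swap {p q r : Ω} (hpq : p ≠ q) (hpr : p ≠ r) (hqr : q ≠ r) :
    swap p q * swap p r * swap p q = swap q r := by
  have := conj_swap' (swap p q) p r
  rw [swap_inv, swap_apply_left, swap_apply_of_ne_of_ne hpr.symm hqr.symm] at this
  exact this

theorem closure_star (a₀ : Ω) :
    Subgroup.closure {g : Perm Ω | ∃ d, d ≠ a₀ ∧ g = swap a₀ d} = ⊤ := by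
  rw [eq_top_iff, ← Perm.closure_isSwap, Subgroup.closure_le]
  rintro g ⟨b, c, hbc, rfl⟩
  by_cases hb : b = a₀
  · subst hb
    exact Subgroup.subset_closure ⟨c, hbc.symm, rfl⟩
  · by_cases hc : c = a₀
    · subst hc
      rw [swap_comm]
      exact Subgroup.subset_closure ⟨b, hb, rfl⟩
    · have h1 : swap a₀ b ∈ Subgroup.closure {g : Perm Ω | ∃ d, d ≠ a₀ ∧ g = swap a₀ d} :=
        Subgroup.subset_closure ⟨b, hb, rfl⟩
      have h2 : swap a₀ c ∈ Subgroup.closure {g : Perm Ω | ∃ d, d ≠ a₀ ∧ g = swap a₀ d} :=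
        Subgroup.subset_closure ⟨c, hc, rfl⟩
      rw [SetLike.mem_coe, ← swap_swap_swap (Ne.symm hb) (Ne.symm hc) hbc]
      exact mul_mem (mul_mem h1 h2) h1

/-- Theorem A: an automorphism of `Perm Ω` mapping transpositions to transpositions is inner. -/
theorem inner_of_isSwap (α : Perm Ω ≃* Perm Ω)
    (hα : ∀ a b : Ω, a ≠ b → (α (swap a b)).IsSwap) :
    ∃ σ : Perm Ω, ∀ g, α g = σ * g * σ⁻¹ := by
  by_cases hcard : Fintype.card Ω ≤ 2
  · -- tiny case
    refine ⟨1, fun g => ?_⟩
    rw [one_mul, inv_one, mul_one]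
    by_cases hg : g = 1
    · rw [hg, map_one]
    · by_contra hne
      have hαg : α g ≠ 1 := fun h => hg (by simpa using h)
      have h3 : ({1, g, α g} : Finset (Perm Ω)).card = 3 := by
        rw [Finset.card_insert_of_notMem, Finset.card_insert_of_notMem, Finset.card_singleton]
        · simpa using Ne.symm hne
        · simp only [Finset.mem_insert, Finset.mem_singleton, not_or]
          exact ⟨Ne.symm hg, Ne.symm hαg⟩
      have h4 := Finset.card_le_univ ({1, g, α g} : Finset (Perm Ω))
      rw [h3, Fintype.card_perm] at h4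
      have h5 : Nat.factorial (Fintype.card Ω) ≤ 2 := by
        calc Nat.factorial (Fintype.card Ω) ≤ Nat.factorial 2 := Nat.factorial_le hcard
          _ = 2 := rfl
      omega
  push Not at hcard
  -- three distinct points
  obtain ⟨a₀, b₁, b₂, h01, h02, h12⟩ := Fintype.two_lt_card_iff.mp hcard
  -- the images of the star transpositions
  have hT : ∀ d, d ≠ a₀ → (α (swap a₀ d)).IsSwap := fun d hd => hα a₀ d hd.symm
  have hTinj : ∀ d d', α (swap a₀ d) = α (swap a₀ d') → d = d' := by
    intro d d' h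
    have h1 := α.injective h
    have h2 := congrArg (fun g : Perm Ω => g a₀) h1
    simpa using h2
  have hnc : ∀ d d', d ≠ a₀ → d' ≠ a₀ → d ≠ d' →
      ¬ Commute (α (swap a₀ d)) (α (swap a₀ d')) := by
    intro d d' hd hd' hdd' hc
    have h1 : Commute (swap a₀ d) (swap a₀ d') := by
      have : α (swap a₀ d * swap a₀ d') = α (swap a₀ d' * swap a₀ d) := by
        rw [map_mul, map_mul]; exact hc
      exact α.injective this
    have h2 := congrArg (fun g : Perm Ω => g d') h1.eq
    simp only [Perm.mul_apply, swap_apply_right, swap_apply_left,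
      swap_apply_of_ne_of_ne hd' (Ne.symm hdd')] at h2
    exact hd h2
  obtain ⟨p, hp1, hp2⟩ := exists_common_moved (hnc b₁ b₂ h01.symm h02.symm h12)
  -- all star images move p
  have hmove : ∀ d, d ≠ a₀ → α (swap a₀ d) p ≠ p := by
    intro d hd hfix
    by_cases hd1 : d = b₁
    · subst hd1; exact hp1 hfix
    by_cases hd2 : d = b₂
    · subst hd2; exact hp2 hfix
    obtain ⟨r₁, hr1, hr1'⟩ := exists_common_moved (hnc d b₁ hd h01.symm hd1)
    obtain ⟨r₂, hr2, hr2'⟩ := exists_common_moved (hnc d b₂ hd h02.symm hd2)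
    have e1 := isSwap_eq (hT b₁ h01.symm) hp1
    have e2 := isSwap_eq (hT b₂ h02.symm) hp2
    have hq12 : α (swap a₀ b₁) p ≠ α (swap a₀ b₂) p := by
      intro h
      apply h12
      apply hTinj
      rw [e1, e2, h]
    have hr1q : r₁ = α (swap a₀ b₁) p := by
      rw [e1] at hr1'
      by_contra hne
      have hr1p : r₁ ≠ p := fun h => hr1 (by rw [h]; exact hfix)
      exact hr1' (swap_apply_of_ne_of_ne hr1p hne)
    have hr2q : r₂ = α (swap a₀ b₂) p := by
      rw [e2] at hr2'
      by_contra hne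
      have hr2p : r₂ ≠ p := fun h => hr2 (by rw [h]; exact hfix)
      exact hr2' (swap_apply_of_ne_of_ne hr2p hne)
    have e3 := isSwap_eq_of_two (hT d hd) hr1 hr2 (by rw [hr1q, hr2q]; exact hq12)
    rw [hr1q, hr2q] at e3
    have e4 : swap (α (swap a₀ b₁) p) (α (swap a₀ b₂) p) =
        α (swap a₀ b₁) * α (swap a₀ b₂) * α (swap a₀ b₁) := by
      rw [← swap_swap_swap (Ne.symm hp1) (Ne.symm hp2) hq12, ← e1, ← e2]
    rw [e4, ← map_mul, ← map_mul, swap_swap_swap h01 h02 h12] at e3
    have e5 := α.injective e3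
    have e6 := congrArg (fun g : Perm Ω => g a₀) e5
    simp only [swap_apply_left] at e6
    rw [swap_apply_of_ne_of_ne h01 h02] at e6
    exact hd e6
  -- the permutation
  let σf : Ω → Ω := fun d => if d = a₀ then p else α (swap a₀ d) p
  have hσ0 : σf a₀ = p := by simp [σf]
  have hσd : ∀ d, d ≠ a₀ → σf d = α (swap a₀ d) p := fun d hd => by simp [σf, hd]
  have hinj : Function.Injective σf := by
    intro d d' h
    by_cases hd : d = a₀
    · by_cases hd' : d' = a₀
      · rw [hd, hd']
      · rw [hd, hσ0, hσd d' hd'] at h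
        exact absurd h.symm (hmove d' hd')
    · by_cases hd' : d' = a₀
      · rw [hd', hσ0, hσd d hd] at h
        exact absurd h (hmove d hd)
      · rw [hσd d hd, hσd d' hd'] at h
        apply hTinj
        rw [isSwap_eq (hT d hd) (hmove d hd), isSwap_eq (hT d' hd') (hmove d' hd'), h]
  let σ : Perm Ω := Equiv.ofBijective σf (Finite.injective_iff_bijective.mp hinj)
  refine ⟨σ, fun g => ?_⟩
  have key : α.toMonoidHom = (MulAut.conj σ).toMonoidHom := by
    apply MonoidHom.eq_of_eqOn_dense (closure_star a₀)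
    rintro g ⟨d, hd, rfl⟩
    show α (swap a₀ d) = σ * swap a₀ d * σ⁻¹
    rw [conj_swap', isSwap_eq (hT d hd) (hmove d hd)]
    show swap p (α (swap a₀ d) p) = swap (σf a₀) (σf d)
    rw [hσ0, hσd d hd]
  have := congrArg (fun φ : Perm Ω →* Perm Ω => φ g) key
  exact this

end Cfsg.Agent.Lib.Helper4.AutSym
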