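import Cfsg.Agent.Lib.Helper4.AutSym1

set_option autoImplicit false

/-! Automorphisms of the symmetric group of degree `≠ 6` preserve transpositions. (helper4) -/

namespace Cfsg.Agent.Lib.Helper4.AutSym

open Equiv

theorem two_pow_mul_factorial_lt (k : ℕ) (hk : 3 ≤ k) :
    2 ^ k * Nat.factorial (k + 1) < Nat.factorial (2 * k) := by
  induction k, hk using Nat.le_induction with
  | base => decide
  | succ k hk ih =>
    have e1 : Nat.factorial (2 * (k + 1)) = (2 * k + 2) * ((2 * k + 1) * Nat.factorial (2 * k)) := by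
      rw [show 2 * (k + 1) = (2 * k + 1) + 1 by ring, Nat.factorial_succ, Nat.factorial_succ]
    have e2 : Nat.factorial (k + 1 + 1) = (k + 2) * Nat.factorial (k + 1) := by
      rw [Nat.factorial_succ]
    rw [e1, e2, pow_succ]
    have h1 : (2 * k + 2) * (2 * k + 1) ≥ 2 * (k + 2) := by nlinarith
    have h2 : 0 < Nat.factorial (2 * k) := Nat.factorial_pos _
    calc 2 ^ k * 2 * ((k + 2) * Nat.factorial (k + 1))
        = (2 * (k + 2)) * (2 ^ k * Nat.factorial (k + 1)) := by ring
      _ < (2 * (k + 2)) * Nat.factorial (2 * k) := by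
          apply Nat.mul_lt_mul_of_pos_left ih (by omega)
      _ ≤ ((2 * k + 2) * (2 * k + 1)) * Nat.factorial (2 * k) := Nat.mul_le_mul_right _ h1
      _ = (2 * k + 2) * ((2 * k + 1) * Nat.factorial (2 * k)) := by ring

/-- the class-size equation forces `k = 0` unless `n = 6` -/
theorem arith_key (m k : ℕ) (h : Nat.factorial (m + 2 * k) * 2 =
    Nat.factorial m * 2 ^ (k + 1) * Nat.factorial (k + 1)) (hn : m + 2 * k + 2 ≠ 6) : k = 0 := by
  have hm : 0 < Nat.factorial m := Nat.factorial_pos m
  rcases k with _ | _ | _ | k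
  · rfl
  · exfalso
    have e : Nat.factorial (m + 2 * 1) = (m + 2) * ((m + 1) * Nat.factorial m) := by
      rw [show m + 2 * 1 = (m + 1) + 1 by ring, Nat.factorial_succ, Nat.factorial_succ]
    rw [e] at h
    norm_num [Nat.factorial] at h
    have h' : (m + 2) * (m + 1) = 4 := by
      apply Nat.eq_of_mul_eq_mul_right hm
      linarith
    have hm1 : m ≤ 1 := by nlinarith
    interval_cases m <;> omega
  · exfalso
    have e : Nat.factorial (m + 2 * 2) =
        (m + 4) * ((m + 3) * ((m + 2) * ((m + 1) * Nat.factorial m))) := by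
      rw [show m + 2 * 2 = (((m + 1) + 1) + 1) + 1 by ring, Nat.factorial_succ,
        Nat.factorial_succ, Nat.factorial_succ, Nat.factorial_succ]
    rw [e] at h
    norm_num [Nat.factorial] at h
    have hm0 : m ≠ 0 := by omega
    have hm1 : 1 ≤ m := Nat.pos_of_ne_zero hm0
    have h' : ((m + 4) * (m + 3)) * ((m + 2) * (m + 1)) = 24 := by
      apply Nat.eq_of_mul_eq_mul_right hm
      linarith
    have h1 : 20 ≤ (m + 4) * (m + 3) := by nlinarith
    have h2 : 6 ≤ (m + 2) * (m + 1) := by nlinarith
    have h3 := Nat.mul_le_mul h1 h2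
    omega
  · exfalso
    have h1 := two_pow_mul_factorial_lt (k + 3) (by omega)
    have h2 : Nat.factorial m * Nat.factorial (2 * (k + 3)) ≤ Nat.factorial (m + 2 * (k + 3)) :=
      Nat.le_of_dvd (Nat.factorial_pos _) (Nat.factorial_mul_factorial_dvd_factorial_add _ _)
    have h3 : Nat.factorial m * (2 ^ (k + 3) * Nat.factorial (k + 3 + 1)) <
        Nat.factorial m * Nat.factorial (2 * (k + 3)) := Nat.mul_lt_mul_of_pos_left h1 hm
    have e : k + 1 + 1 + 1 = k + 3 := by ring
    rw [e] at h
    have h4 : Nat.factorial m * 2 ^ (k + 3 + 1) * Nat.factorial (k + 3 + 1) =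
        2 * (Nat.factorial m * (2 ^ (k + 3) * Nat.factorial (k + 3 + 1))) := by
      rw [pow_succ]; ring
    rw [h4] at h
    omega


variable {Ω : Type*} [DecidableEq Ω] [Fintype Ω]

theorem card_cycleType_map (α : Perm Ω ≃* Perm Ω) (g : Perm Ω) :
    (Finset.univ.filter fun h : Perm Ω => h.cycleType = (α g).cycleType).card =
    (Finset.univ.filter fun h : Perm Ω => h.cycleType = g.cycleType).card := by
  symm
  apply Finset.card_bij (fun h _ => α h)
  · intro h hh
    simp only [Finset.mem_filter, Finset.mem_univ, true_and] at hh ⊢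
    rw [← Perm.isConj_iff_cycleType_eq] at hh ⊢
    exact α.toMonoidHom.map_isConj hh
  · intro h₁ _ h₂ _ h
    exact α.injective h
  · intro h hh
    simp only [Finset.mem_filter, Finset.mem_univ, true_and] at hh
    refine ⟨α.symm h, ?_, by simp⟩
    simp only [Finset.mem_filter, Finset.mem_univ, true_and]
    rw [← Perm.isConj_iff_cycleType_eq] at hh ⊢
    have := α.symm.toMonoidHom.map_isConj hh
    simpa using this

/-- Theorem B: if the degree is not six, automorphisms preserve transpositions. -/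
theorem isSwap_map (hn : Fintype.card Ω ≠ 6) (α : Perm Ω ≃* Perm Ω) {a b : Ω} (hab : a ≠ b) :
    (α (swap a b)).IsSwap := by
  have hord : orderOf (α (swap a b)) = 2 := by
    rw [MulEquiv.orderOf_eq]
    apply orderOf_eq_prime
    · rw [pow_two, swap_mul_self]
    · intro h
      exact hab (Equiv.swap_eq_one_iff.mp h)
  obtain ⟨k, hk⟩ := Perm.cycleType_prime_order (σ := α (swap a b)) (by rw [hord]; exact Nat.prime_two)
  rw [hord] at hk
  have hcard := card_cycleType_map α (swap a b)
  have hsw : (swap a b).cycleType = {2} := Perm.isSwap_iff_cycleType.mp ⟨a, b, hab, rfl⟩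
  rw [hsw, hk] at hcard
  have h1 := Perm.card_of_cycleType_mul_eq Ω ({2} : Multiset ℕ)
  have h2 := Perm.card_of_cycleType_mul_eq Ω (Multiset.replicate (k + 1) 2)
  have hsum : (Multiset.replicate (k + 1) 2).sum ≤ Fintype.card Ω := by
    rw [← hk]; exact Perm.sum_cycleType_le _
  have hsum' : (Multiset.replicate (k + 1) 2).sum = 2 * (k + 1) := by
    rw [Multiset.sum_replicate]; simp [mul_comm]
  rw [hsum'] at hsum
  have hc1 : (({2} : Multiset ℕ).sum ≤ Fintype.card Ω ∧ ∀ a ∈ ({2} : Multiset ℕ), 2 ≤ a) := by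
    refine ⟨by simp; omega, by simp⟩
  have hc2 : ((Multiset.replicate (k + 1) 2).sum ≤ Fintype.card Ω ∧
      ∀ a ∈ Multiset.replicate (k + 1) 2, 2 ≤ a) := by
    refine ⟨by rw [hsum']; exact hsum, ?_⟩
    intro x hx
    rw [Multiset.eq_of_mem_replicate hx]
  rw [if_pos hc1] at h1
  rw [if_pos hc2, hcard, ← h1] at h2
  have hpos : 0 < (Finset.univ.filter fun h : Perm Ω => h.cycleType = {2}).card := by
    apply Finset.card_pos.mpr
    exact ⟨swap a b, by simp [hsw]⟩
  have h3 := Nat.eq_of_mul_eq_mul_left hpos h2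
  -- simplify the two denominators
  have e1 : (Multiset.replicate (k + 1) 2).prod = 2 ^ (k + 1) := by
    rw [Multiset.prod_replicate]
  have e2 : (∏ n ∈ (Multiset.replicate (k + 1) 2).toFinset,
      Nat.factorial ((Multiset.replicate (k + 1) 2).count n)) = Nat.factorial (k + 1) := by
    rw [Multiset.toFinset_replicate, if_neg (by omega), Finset.prod_singleton,
      Multiset.count_replicate_self]
  have e3 : (∏ n ∈ ({2} : Multiset ℕ).toFinset,
      Nat.factorial (({2} : Multiset ℕ).count n)) = 1 := by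
    simp
  rw [e1, e2, e3, hsum'] at h3
  simp only [Multiset.sum_singleton, Multiset.prod_singleton, mul_one] at h3
  obtain ⟨m, hm⟩ : ∃ m, Fintype.card Ω = m + 2 * k + 2 := ⟨Fintype.card Ω - 2 * (k + 1), by omega⟩
  have e4 : Fintype.card Ω - 2 * (k + 1) = m := by omega
  have e5 : Fintype.card Ω - 2 = m + 2 * k := by omega
  rw [e4, e5] at h3
  have hk0 := arith_key m k h3.symm (by rw [← hm]; exact hn)
  rw [hk0] at hk
  rw [Perm.isSwap_iff_cycleType, hk]
  rfl

end Cfsg.Agent.Lib.Helper4.AutSym
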