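import Cfsg.Agent.Lib.Helper4.AutSym2

set_option autoImplicit false

/-! Subgroups of index `n` in the symmetric group of degree `n ≠ 6`. (helper4) -/

namespace Cfsg.Agent.Lib.Helper4.AutSym

open Equiv

variable {Ω : Type*} [DecidableEq Ω] [Fintype Ω]

/-- every automorphism of `Perm Ω` is inner when `|Ω| ≠ 6` -/
theorem aut_inner (hn : Fintype.card Ω ≠ 6) (α : Perm Ω ≃* Perm Ω) :
    ∃ σ : Perm Ω, ∀ g, α g = σ * g * σ⁻¹ :=
  inner_of_isSwap α fun _ _ hab => isSwap_map hn α hab

theorem eq_stabilizer_of_le (H : Subgroup (Perm Ω)) (hH : H.index = Fintype.card Ω) (x : Ω)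
    (hle : H ≤ MulAction.stabilizer (Perm Ω) x) : H = MulAction.stabilizer (Perm Ω) x := by
  apply le_antisymm hle
  rw [← Subgroup.relIndex_eq_one]
  have h1 := Subgroup.relIndex_mul_index hle
  rw [MulAction.index_stabilizer_of_transitive, hH, Nat.card_eq_fintype_card] at h1
  have hpos : 0 < Fintype.card Ω := Fintype.card_pos_iff.mpr ⟨x⟩
  nlinarith

/-- the automorphism attached to a subgroup of index `n` with trivial core -/
theorem exists_aut_of_index (H : Subgroup (Perm Ω)) (hH : H.index = Fintype.card Ω)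
    (hcore : H.normalCore = ⊥) :
    ∃ (α : Perm Ω ≃* Perm Ω) (x₀ : Ω), ∀ g, g ∈ H ↔ α g x₀ = x₀ := by
  classical
  haveI : Fintype (Perm Ω ⧸ H) := Fintype.ofFinite _
  have hcardX : Fintype.card (Perm Ω ⧸ H) = Fintype.card Ω := by
    rw [← hH, Subgroup.index_eq_card, Nat.card_eq_fintype_card]
  let e : (Perm Ω ⧸ H) ≃ Ω := Fintype.equivOfCardEq hcardX
  let ρ : Perm Ω →* Perm (Perm Ω ⧸ H) := MulAction.toPermHom (Perm Ω) (Perm Ω ⧸ H)
  have hker : ρ.ker = ⊥ := by rw [← hcore, Subgroup.normalCore_eq_ker]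
  let ρ' : Perm Ω →* Perm Ω := (e.permCongrHom).toMonoidHom.comp ρ
  have hinj : Function.Injective ρ' := by
    intro a b hab
    have := e.permCongrHom.injective hab
    exact (MonoidHom.ker_eq_bot_iff ρ).mp hker this
  have hbij : Function.Bijective ρ' := Finite.injective_iff_bijective.mp hinj
  refine ⟨MulEquiv.ofBijective ρ' hbij, e ((1 : Perm Ω) : Perm Ω ⧸ H), fun g => ?_⟩
  have h1 : (MulEquiv.ofBijective ρ' hbij) g (e ((1 : Perm Ω) : Perm Ω ⧸ H)) =
      e (g • ((1 : Perm Ω) : Perm Ω ⧸ H)) := by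
    show e (ρ g (e.symm (e ((1 : Perm Ω) : Perm Ω ⧸ H)))) = _
    rw [Equiv.symm_apply_apply]
    rfl
  rw [h1, e.injective.eq_iff, ← MulAction.mem_stabilizer_iff, MulAction.stabilizer_quotient]

/-- main case: degree at least five -/
theorem index_card_of_five_le (h5 : 5 ≤ Fintype.card Ω) (h6 : Fintype.card Ω ≠ 6)
    (H : Subgroup (Perm Ω)) (hH : H.index = Fintype.card Ω) :
    ∃ x : Ω, H = MulAction.stabilizer (Perm Ω) x := by
  have hcore : H.normalCore = ⊥ := by
    by_contra hne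
    have hnt : Nontrivial H.normalCore := (Subgroup.nontrivial_iff_ne_bot _).mpr hne
    have hA := Perm.alternatingGroup_le_of_normal (by rw [Nat.card_eq_fintype_card]; exact h5) hnt
    have hAH : alternatingGroup Ω ≤ H := hA.trans (Subgroup.normalCore_le H)
    have h1 := Subgroup.index_dvd_of_le hAH
    haveI : Nontrivial Ω := Fintype.one_lt_card_iff_nontrivial.mp (by omega)
    rw [alternatingGroup.index_eq_two, hH] at h1
    have := Nat.le_of_dvd (by norm_num) h1
    omega
  obtain ⟨α, x₀, hα⟩ := exists_aut_of_index H hH hcore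
  obtain ⟨σ, hσ⟩ := aut_inner h6 α
  refine ⟨σ⁻¹ x₀, ?_⟩
  ext g
  rw [hα, hσ, MulAction.mem_stabilizer_iff, Perm.smul_def]
  simp only [Perm.mul_apply]
  constructor
  · intro h
    have := congrArg (fun t => σ⁻¹ t) h
    simpa using this
  · intro h
    rw [h]; simp

end Cfsg.Agent.Lib.Helper4.AutSym
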