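import Cfsg.Agent.Lib.Helper4.AutSym3

set_option autoImplicit false

/-! Subgroups of index `n` in the symmetric group of degree `n ≤ 4`. (helper4) -/

namespace Cfsg.Agent.Lib.Helper4.AutSym

open Equiv

variable {Ω : Type*} [DecidableEq Ω] [Fintype Ω]

theorem card_mul_of_index (H : Subgroup (Perm Ω)) (hH : H.index = Fintype.card Ω) :
    Nat.card H * Fintype.card Ω = Nat.factorial (Fintype.card Ω) := by
  have := H.card_mul_index
  rw [hH, Nat.card_eq_fintype_card (α := Perm Ω), Fintype.card_perm] at this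
  exact this

/-- degree at most two -/
theorem index_card_of_le_two (h2 : Fintype.card Ω ≤ 2)
    (H : Subgroup (Perm Ω)) (hH : H.index = Fintype.card Ω) :
    ∃ x : Ω, H = MulAction.stabilizer (Perm Ω) x := by
  have h0 : Fintype.card Ω ≠ 0 := by
    rw [← hH]; exact Subgroup.index_ne_zero_of_finite
  obtain ⟨x⟩ : Nonempty Ω := Fintype.card_pos_iff.mp (Nat.pos_of_ne_zero h0)
  have h1 := card_mul_of_index H hH
  have hc : Nat.card H = 1 := by
    have : Fintype.card Ω = 1 ∨ Fintype.card Ω = 2 := by omega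
    rcases this with h | h
    · rw [h] at h1
      simpa [Nat.factorial] using h1
    · rw [h] at h1
      have : Nat.card H * 2 = 2 := by simpa [Nat.factorial] using h1
      omega
  have hbot : H = ⊥ := Subgroup.card_eq_one.mp hc
  exact ⟨x, eq_stabilizer_of_le H hH x (by rw [hbot]; exact bot_le)⟩

/-- degree three -/
theorem index_card_of_three (h3 : Fintype.card Ω = 3)
    (H : Subgroup (Perm Ω)) (hH : H.index = Fintype.card Ω) :
    ∃ x : Ω, H = MulAction.stabilizer (Perm Ω) x := by
  have h1 := card_mul_of_index H hH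
  rw [h3] at h1
  have hc : Nat.card H = 2 := by
    simp [Nat.factorial] at h1; omega
  haveI : Fact (Nat.Prime 2) := ⟨Nat.prime_two⟩
  obtain ⟨t, ht⟩ := exists_prime_orderOf_dvd_card' (G := H) 2 (by rw [hc])
  have ht' : orderOf (t : Perm Ω) = 2 := by rw [Subgroup.orderOf_coe]; exact ht
  obtain ⟨k, hk⟩ := Perm.cycleType_prime_order (σ := (t : Perm Ω)) (by rw [ht']; exact Nat.prime_two)
  rw [ht'] at hk
  have hsum := Perm.sum_cycleType_le (t : Perm Ω)
  rw [hk, Multiset.sum_replicate, h3] at hsum
  have hk0 : k = 0 := by simp at hsum; omega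
  rw [hk0] at hk
  obtain ⟨a, b, hab, htab⟩ := Perm.isSwap_iff_cycleType.mpr hk
  obtain ⟨x, hxa, hxb⟩ : ∃ x, x ≠ a ∧ x ≠ b := by
    have : 0 < ((Finset.univ.erase a).erase b).card := by
      have e1 := Finset.pred_card_le_card_erase (s := (Finset.univ : Finset Ω)) (a := a)
      have e2 := Finset.pred_card_le_card_erase (s := (Finset.univ : Finset Ω).erase a) (a := b)
      rw [Finset.card_univ, h3] at e1
      omega
    obtain ⟨x, hx⟩ := Finset.card_pos.mp this
    rw [Finset.mem_erase, Finset.mem_erase] at hx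
    exact ⟨x, hx.2.1, hx.1⟩
  refine ⟨x, eq_stabilizer_of_le H hH x ?_⟩
  intro h hh
  rw [MulAction.mem_stabilizer_iff, Perm.smul_def]
  -- h = 1 or h = t
  have ht1 : t ≠ 1 := by
    intro h1; rw [h1, orderOf_one] at ht; omega
  by_cases hh1 : h = 1
  · rw [hh1]; rfl
  · have hht : (⟨h, hh⟩ : H) = t := by
      by_contra hne
      haveI : Fintype H := Fintype.ofFinite _
      have h3' : ({1, t, ⟨h, hh⟩} : Finset H).card = 3 := by
        rw [Finset.card_insert_of_notMem, Finset.card_insert_of_notMem, Finset.card_singleton]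
        · simpa using Ne.symm hne
        · simp only [Finset.mem_insert, Finset.mem_singleton, not_or]
          refine ⟨Ne.symm ht1, ?_⟩
          intro h1'
          apply hh1
          have := congrArg Subtype.val h1'
          exact this.symm
      have h4 := Finset.card_le_univ ({1, t, ⟨h, hh⟩} : Finset H)
      rw [h3', ← Nat.card_eq_fintype_card, hc] at h4
      omega
    have : h = (t : Perm Ω) := congrArg Subtype.val hht
    rw [this, htab, swap_apply_of_ne_of_ne hxa hxb]


/-- degree four -/
theorem index_card_of_four (h4 : Fintype.card Ω = 4)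
    (H : Subgroup (Perm Ω)) (hH : H.index = Fintype.card Ω) :
    ∃ x : Ω, H = MulAction.stabilizer (Perm Ω) x := by
  have h1 := card_mul_of_index H hH
  rw [h4] at h1
  have hc : Nat.card H = 6 := by
    have : Nat.card H * 4 = 24 := by simpa [Nat.factorial] using h1
    omega
  haveI : Fact (Nat.Prime 3) := ⟨Nat.prime_three⟩
  obtain ⟨c, hc3⟩ := exists_prime_orderOf_dvd_card' (G := H) 3 (by rw [hc]; norm_num)
  have hc3' : orderOf (c : Perm Ω) = 3 := by rw [Subgroup.orderOf_coe]; exact hc3
  obtain ⟨k, hk⟩ := Perm.cycleType_prime_order (σ := (c : Perm Ω))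
    (by rw [hc3']; exact Nat.prime_three)
  rw [hc3'] at hk
  have hsum := Perm.sum_cycleType_le (c : Perm Ω)
  rw [hk, Multiset.sum_replicate, h4] at hsum
  have hk0 : k = 0 := by simp at hsum; omega
  rw [hk0] at hk
  have hsupp : (c : Perm Ω).support.card = 3 := by
    rw [← Perm.sum_cycleType, hk]; rfl
  -- the unique fixed point
  have hcompl : ((c : Perm Ω).support)ᶜ.card = 1 := by
    rw [Finset.card_compl, hsupp, h4]
  obtain ⟨x, hx⟩ := Finset.card_eq_one.mp hcompl
  have hxmem : ∀ y, y ∉ (c : Perm Ω).support ↔ y = x := by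
    intro y
    rw [← Finset.mem_compl, hx, Finset.mem_singleton]
  -- the Sylow 3-subgroup is normal in H
  have hP : Nat.card (Subgroup.zpowers c) = 3 := by rw [Nat.card_zpowers, hc3]
  have hPi : (Subgroup.zpowers c).index = 2 := by
    have := (Subgroup.zpowers c).card_mul_index
    rw [hP, hc] at this
    omega
  haveI hnorm : (Subgroup.zpowers c).Normal := Subgroup.normal_of_index_eq_two hPi
  refine ⟨x, eq_stabilizer_of_le H hH x ?_⟩
  intro h hh
  rw [MulAction.mem_stabilizer_iff, Perm.smul_def]
  have hconj : (⟨h, hh⟩ : H) * c * (⟨h, hh⟩ : H)⁻¹ ∈ Subgroup.zpowers c :=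
    hnorm.conj_mem c (Subgroup.mem_zpowers c) _
  obtain ⟨j, hj⟩ := Subgroup.mem_zpowers_iff.mp hconj
  have hj' : (c : Perm Ω) ^ j = h * (c : Perm Ω) * h⁻¹ := by
    have := congrArg Subtype.val hj
    simpa using this
  have hsub : (h * (c : Perm Ω) * h⁻¹).support ⊆ (c : Perm Ω).support := by
    rw [← hj']; exact Perm.support_zpow_le _ _
  have hcard : (h * (c : Perm Ω) * h⁻¹).support.card = 3 := by
    rw [Perm.support_conj, Finset.card_map, hsupp]
  have heq : (h * (c : Perm Ω) * h⁻¹).support = (c : Perm Ω).support :=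
    Finset.eq_of_subset_of_card_le hsub (by rw [hcard, hsupp])
  rw [Perm.support_conj] at heq
  rw [← hxmem, ← heq]
  intro hmem
  rw [Finset.mem_map] at hmem
  obtain ⟨y, hy, hyx⟩ := hmem
  have : y = x := h.injective hyx
  rw [this] at hy
  exact (hxmem x).mpr rfl hy

/-- Subgroups of index `n` in the symmetric group of degree `n ≠ 6` are point stabilisers. -/
theorem index_card_stabilizer (h6 : Fintype.card Ω ≠ 6)
    (H : Subgroup (Perm Ω)) (hH : H.index = Fintype.card Ω) :
    ∃ x : Ω, H = MulAction.stabilizer (Perm Ω) x := by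
  by_cases h2 : Fintype.card Ω ≤ 2
  · exact index_card_of_le_two h2 H hH
  by_cases h3 : Fintype.card Ω = 3
  · exact index_card_of_three h3 H hH
  by_cases h4 : Fintype.card Ω = 4
  · exact index_card_of_four h4 H hH
  exact index_card_of_five_le (by omega) h6 H hH

end Cfsg.Agent.Lib.Helper4.AutSym
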