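import Mathlib
import Cfsg.Agent.Lib.Helper2.BAUFrame
import Cfsg.Agent.Lib.Helper6.PUKP
import Cfsg.Agent.Lib.Helper4.PU2770L

set_option autoImplicit false

/-! # S2769 / S2768: the abstract `Frame` from helper6's `Setup` (hypothesis (E)) -/

namespace Cfsg.Agent.Lib.Helper4.BAUFrameOf

open Cfsg.Agent.Lib.Helper2.BAU Cfsg.Agent.Lib.Helper6.PU Cfsg.Agent.Lib.Helper1

variable {G : Type*} [Group G] [Finite G] {p : ℕ} [Fact p.Prime]

/-- `Frame S O_p(G)` from `Setup` and `C_G(O_p(G)) ≤ O_p(G)` -/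
theorem frame_of_setup {n : ℕ} (S : Sylow p G) (M : Subgroup G) {P : Type*} [Group P]
    (φ : G →* P) (hs : Setup p n S M φ)
    (hE₁ : Subgroup.centralizer (Cfsg.pCore p G : Set G) ≤ Cfsg.pCore p G) :
    Frame (S : Subgroup G) (Cfsg.pCore p G) := by
  have hst := Cfsg.Agent.Lib.Helper5.PU2770S.struct S M φ hs
  have hQS : Cfsg.pCore p G ≤ (S : Subgroup G) := Cfsg.Agent.Lib.Helper1.pCore_le_sylow p S
  refine ⟨?_, Cfsg.Agent.Lib.Helper1.pCore_normal p, hQS, ?_, hE₁, hst.2.2.2.2,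
    Cfsg.Agent.Lib.Helper4.PU2770L.lift_irred S M φ hs, ?_⟩
  · intro N hN
    have := hN
    rcases Cfsg.Agent.Lib.Helper9.PU2770A.dich S M hs.coatom hs.le hs.uniq N with h | h
    · exact Or.inl h
    · exact Or.inr h.2
  · intro N hN hNS
    exact Cfsg.Agent.Lib.Helper1.le_pCore hN (S.2.to_le hNS)
  · intro V hVn hVQ hQV hV A hA
    have := hVn
    have hVp : IsPGroup p V := S.2.to_le (hVQ.trans hQS)
    have hVc : ∀ a ∈ V, ∀ b ∈ V, a * b = b * a := by
      intro a ha b hb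
      exact (Subgroup.mem_centralizer_iff.mp (hQV (hVQ hb)) a ha)
    exact kp S M φ hs V hVp hVc hQV hV A hA

end Cfsg.Agent.Lib.Helper4.BAUFrameOf
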