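import Mathlib
import Cfsg.Agent.Lib.Helper4.TC14
import Cfsg.Agent.Lib.Helper4.TC17

/-!
Strong generating sets, continued: when the order of the group equals the product of the verified orbit lengths,
the base points form a base: an element of the group fixing all of them is the identity.  Hence a word in the
generators of a faithfully represented presented group is trivial as soon as it fixes the base points.
-/

namespace Cfsg.Agent.Lib.Helper4.TC

open Log

namespace Sgs

variable {S : Sgs}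

/-- the pointwise stabiliser of the first `j` base points in a group of permutations -/
def stabUpTo (S : Sgs) (hok : S.OK) (Γ : Subgroup (Equiv.Perm (Fin S.N))) (j : ℕ) :
    Subgroup (Equiv.Perm (Fin S.N)) where
  carrier := {γ | γ ∈ Γ ∧ ∀ t (ht : t < S.r), t < j → γ ⟨S.beta t, beta_lt hok t ht⟩ = ⟨S.beta t, beta_lt hok t ht⟩}
  mul_mem' := by
    rintro a b ⟨ha, ha'⟩ ⟨hb, hb'⟩
    refine ⟨mul_mem ha hb, fun t ht htj => ?_⟩
    rw [Equiv.Perm.mul_apply, hb' t ht htj, ha' t ht htj]
  one_mem' := ⟨one_mem _, fun _ _ _ => rfl⟩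
  inv_mem' := by
    rintro a ⟨ha, ha'⟩
    refine ⟨inv_mem ha, fun t ht htj => ?_⟩
    rw [Equiv.Perm.inv_eq_iff_eq]
    exact (ha' t ht htj).symm

theorem Gam_le_of_le (q0 : ℕ → Equiv.Perm (Fin S.N)) (i j : ℕ) (h : i ≤ j) : S.Gam q0 j ≤ S.Gam q0 i := by
  induction j with
  | zero =>
    have : i = 0 := by omega
    rw [this]
  | succ j ih =>
    rcases Nat.lt_or_ge i (j+1) with h1 | h1
    · exact le_trans (Gam_succ_le q0 j) (ih (by omega))
    · have : i = j + 1 := by omega
      rw [this]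

theorem Gam_le_stab (hok : S.OK) (q0 : ℕ → Equiv.Perm (Fin S.N))
    (h0 : ∀ i, i < S.k → ∀ p : Fin S.N, (q0 i p).1 = S.tab i p.1) (j : ℕ) :
    S.Gam q0 j ≤ stabUpTo S hok (Subgroup.closure (q0 '' Set.Iio S.k)) j := by
  intro γ hγ
  refine ⟨Gam_zero_le hok q0 h0 (Gam_le_of_le q0 0 j (Nat.zero_le _) hγ), fun t ht htj => ?_⟩
  exact Gam_succ_fix hok q0 h0 t ht γ (Gam_le_of_le q0 (t+1) j (by omega) hγ)

theorem stab_step (hok : S.OK) (q0 : ℕ → Equiv.Perm (Fin S.N))
    (h0 : ∀ i, i < S.k → ∀ p : Fin S.N, (q0 i p).1 = S.tab i p.1) (j : ℕ) (hj : j < S.r) :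
    S.n j * Nat.card (stabUpTo S hok (Subgroup.closure (q0 '' Set.Iio S.k)) (j+1)) ≤
      Nat.card (stabUpTo S hok (Subgroup.closure (q0 '' Set.Iio S.k)) j) := by
  classical
  set Γ := Subgroup.closure (q0 '' Set.Iio S.k) with hΓ
  set b : Fin S.N := ⟨S.beta j, beta_lt hok j hj⟩ with hb
  have hos := MulAction.card_orbit_mul_card_stabilizer_eq_card_group (stabUpTo S hok Γ j) b
  have h1 : S.n j ≤ Nat.card (MulAction.orbit (stabUpTo S hok Γ j) b) := by
    let f : Fin (S.n j) → MulAction.orbit (stabUpTo S hok Γ j) b := fun idx =>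
      ⟨⟨S.pt j idx.1, pt_lt hok j idx.1 hj idx.2⟩, by
        obtain ⟨γ, hγ, hγe⟩ := node_reach hok q0 h0 j hj _ idx.1 idx.2 rfl
        exact ⟨⟨γ, Gam_le_stab hok q0 h0 j hγ⟩, hγe⟩⟩
    have hf : Function.Injective f := by
      intro a c hac
      have : S.pt j a.1 = S.pt j c.1 := by
        have := congrArg (fun z => ((z : MulAction.orbit (stabUpTo S hok Γ j) b) : Fin S.N).1) hac
        exact this
      exact Fin.ext (pt_injective hok j hj a.1 c.1 a.2 c.2 this)
    have := Nat.card_le_card_of_injective f hf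
    rwa [Nat.card_fin] at this
  have h2 : Nat.card (stabUpTo S hok Γ (j+1)) ≤ Nat.card (MulAction.stabilizer (stabUpTo S hok Γ j) b) := by
    let f : stabUpTo S hok Γ (j+1) → MulAction.stabilizer (stabUpTo S hok Γ j) b := fun γ =>
      ⟨⟨γ.1, ⟨γ.2.1, fun t ht htj => γ.2.2 t ht (by omega)⟩⟩, by
        rw [MulAction.mem_stabilizer_iff]
        exact γ.2.2 j hj (by omega)⟩
    have hf : Function.Injective f := by
      intro a c hac
      have := congrArg (fun z => ((z : MulAction.stabilizer (stabUpTo S hok Γ j) b) : stabUpTo S hok Γ j).1) hac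
      exact Subtype.ext this
    exact Nat.card_le_card_of_injective f hf
  have hos' : Nat.card (MulAction.orbit (stabUpTo S hok Γ j) b) *
      Nat.card (MulAction.stabilizer (stabUpTo S hok Γ j) b) = Nat.card (stabUpTo S hok Γ j) := by
    rw [Nat.card_eq_fintype_card, Nat.card_eq_fintype_card, Nat.card_eq_fintype_card]
    exact hos
  calc S.n j * Nat.card (stabUpTo S hok Γ (j+1))
      ≤ Nat.card (MulAction.orbit (stabUpTo S hok Γ j) b) *
          Nat.card (MulAction.stabilizer (stabUpTo S hok Γ j) b) := Nat.mul_le_mul h1 h2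
    _ = Nat.card (stabUpTo S hok Γ j) := hos'

theorem stab_card_ge (hok : S.OK) (q0 : ℕ → Equiv.Perm (Fin S.N))
    (h0 : ∀ i, i < S.k → ∀ p : Fin S.N, (q0 i p).1 = S.tab i p.1) :
    ∀ t j, j + t = S.r → S.prodFrom t j * Nat.card (stabUpTo S hok (Subgroup.closure (q0 '' Set.Iio S.k)) S.r) ≤
      Nat.card (stabUpTo S hok (Subgroup.closure (q0 '' Set.Iio S.k)) j) := by
  intro t
  induction t with
  | zero =>
    intro j hj
    have : j = S.r := by omega
    rw [this]
    show 1 * _ ≤ _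
    rw [one_mul]
  | succ t ih =>
    intro j hj
    have h1 := ih (j+1) (by omega)
    have h2 := stab_step hok q0 h0 j (by omega)
    calc S.prodFrom (t+1) j * _ = S.n j * (S.prodFrom t (j+1) * _) := by
          show S.n j * S.prodFrom t (j+1) * _ = _
          rw [mul_assoc]
      _ ≤ S.n j * Nat.card (stabUpTo S hok (Subgroup.closure (q0 '' Set.Iio S.k)) (j+1)) :=
          Nat.mul_le_mul_left _ h1
      _ ≤ _ := h2

/-- If the group generated by the given permutations has at most as many elements as the product of the orbit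
lengths, an element of it fixing all base points is the identity. -/
theorem eq_one_of_fix_base (hok : S.OK) (q0 : ℕ → Equiv.Perm (Fin S.N))
    (h0 : ∀ i, i < S.k → ∀ p : Fin S.N, (q0 i p).1 = S.tab i p.1)
    (hcard : Nat.card (Subgroup.closure (q0 '' Set.Iio S.k)) ≤ S.prodFrom S.r 0)
    (γ : Equiv.Perm (Fin S.N)) (hγ : γ ∈ Subgroup.closure (q0 '' Set.Iio S.k))
    (hfix : ∀ t (ht : t < S.r), γ ⟨S.beta t, beta_lt hok t ht⟩ = ⟨S.beta t, beta_lt hok t ht⟩) : γ = 1 := by
  set Γ := Subgroup.closure (q0 '' Set.Iio S.k) with hΓ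
  have hfin : Finite Γ := inferInstance
  have h1 := stab_card_ge hok q0 h0 S.r 0 (by omega)
  have h2 : Nat.card (stabUpTo S hok Γ 0) ≤ Nat.card Γ := by
    apply Nat.card_le_card_of_injective (fun x : stabUpTo S hok Γ 0 => (⟨x.1, x.2.1⟩ : Γ))
    intro a c hac
    exact Subtype.ext (congrArg (fun z : Γ => z.1) hac)
  have hpos : 0 < Nat.card Γ := Nat.card_pos
  have hP : 0 < S.prodFrom S.r 0 := by
    have := Sgs.card_ge_top hok q0 h0
    rcases Nat.eq_zero_or_pos (S.prodFrom S.r 0) with h | h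
    · rw [h] at hcard; omega
    · exact h
  have h3 : S.prodFrom S.r 0 * Nat.card (stabUpTo S hok Γ S.r) ≤ S.prodFrom S.r 0 * 1 := by
    rw [mul_one]
    exact le_trans h1 (le_trans h2 hcard)
  have h4 : Nat.card (stabUpTo S hok Γ S.r) ≤ 1 := Nat.le_of_mul_le_mul_left h3 hP
  have hsub : Subsingleton (stabUpTo S hok Γ S.r) := by
    have hf : Finite (stabUpTo S hok Γ S.r) := inferInstance
    exact Finite.card_le_one_iff_subsingleton.1 h4
  have hmem : γ ∈ stabUpTo S hok Γ S.r := ⟨hγ, fun t ht _ => hfix t ht⟩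
  have := hsub.elim ⟨γ, hmem⟩ ⟨1, one_mem _⟩
  exact congrArg Subtype.val this

/-- a word in a group represented faithfully by permutations is trivial if it fixes the base points -/
theorem word_eq_one_of_base {Γ : Type*} [Group Γ] (hok : S.OK) (φ : Γ →* Equiv.Perm (Fin S.N)) (g : ℕ → Γ)
    (h0 : ∀ i, i < S.k → ∀ p : Fin S.N, (φ (g i) p).1 = S.tab i p.1)
    (hinj : Function.Injective φ) [Finite Γ] (hcard : Nat.card Γ ≤ S.prodFrom S.r 0)
    (u : List ℕ) (hu : ∀ x ∈ u, x < S.k)
    (hfix : ∀ t (ht : t < S.r), φ (wordP g u) ⟨S.beta t, beta_lt hok t ht⟩ = ⟨S.beta t, beta_lt hok t ht⟩) :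
    wordP g u = 1 := by
  apply hinj
  rw [map_one]
  set q0 : ℕ → Equiv.Perm (Fin S.N) := fun i => φ (g i) with hq0
  have hmem : φ (wordP g u) ∈ Subgroup.closure (q0 '' Set.Iio S.k) := by
    have : φ (wordP g u) = wordP q0 u := by
      clear hfix
      induction u with
      | nil => simp
      | cons x u ih =>
        rw [wordP_cons, wordP_cons, map_mul, ih fun y hy => hu y (List.mem_cons_of_mem _ hy)]
    rw [this]
    exact wordP_mem_closure q0 _ u fun e he => Subgroup.subset_closure ⟨e, hu e he, rfl⟩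
  have hc : Nat.card (Subgroup.closure (q0 '' Set.Iio S.k)) ≤ S.prodFrom S.r 0 := by
    refine le_trans ?_ hcard
    have hle : Subgroup.closure (q0 '' Set.Iio S.k) ≤ φ.range := by
      rw [Subgroup.closure_le]
      rintro _ ⟨i, _, rfl⟩
      exact ⟨g i, rfl⟩
    calc Nat.card (Subgroup.closure (q0 '' Set.Iio S.k)) ≤ Nat.card φ.range :=
          Nat.card_le_card_of_injective (Subgroup.inclusion hle) (Subgroup.inclusion_injective _)
      _ = Nat.card Γ := (Nat.card_congr (MonoidHom.ofInjective hinj).toEquiv).symm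
  exact eq_one_of_fix_base hok q0 h0 hc _ hmem hfix

end Sgs

variable {α : Type} [DecidableEq α]

/-- the general form: a faithful representation through a table, with a strong generating set whose orbit lengths
multiply to the order of the group -/
theorem word_eq_one_of_base_aux {P : CoxEnc α} {T : Tab} {D : Log} (φ : P.Grp →* Equiv.Perm (Fin T.N))
    (hphi : ∀ x, x < D.k → ∀ i : Fin T.N, (φ (P.gR x) i).1 = T.tbl i.1 (D.inv x))
    (hword : ∀ u : List ℕ, (∀ x ∈ u, x < D.k) → ∀ p : Fin T.N, (φ (wordP P.gR u) p).1 = Tab.act T D u p.1)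
    (S : Sgs) (hN : S.N = T.N) (hk : S.k = D.k)
    (htab0 : ∀ i, i < S.k → ∀ p, p < S.N → S.tab i p = T.tbl p (D.inv i)) (hok : S.OK)
    (hinj : Function.Injective φ) (hfin : Finite P.Grp) (hcard : Nat.card P.Grp ≤ S.prodFrom S.r 0)
    (u : List ℕ) (hu : ∀ x ∈ u, x < D.k)
    (h : ∀ t, t < S.r → Nat.beq (Tab.act T D u (S.beta t)) (S.beta t) = true) : wordP P.gR u = 1 := by
  obtain ⟨N, k, m, tab, wA, wB, lev, r, beta, n, root, pt, par, gi, dep⟩ := S
  dsimp only at hN hk htab0 h
  subst hN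
  subst hk
  set S : Sgs := ⟨T.N, D.k, m, tab, wA, wB, lev, r, beta, n, root, pt, par, gi, dep⟩ with hS
  have h0 : ∀ i, i < S.k → ∀ p : Fin S.N, (φ (P.gR i) p).1 = S.tab i p.1 := by
    intro i hi p
    have e : S.tab i p.1 = T.tbl p.1 (D.inv i) := htab0 i hi p.1 p.2
    rw [e]
    exact hphi i hi p
  apply Sgs.word_eq_one_of_base (S := S) hok φ P.gR h0 hinj hcard u hu
  intro t ht
  apply Fin.ext
  rw [hword u hu]
  exact beq_eq (h t ht)

theorem Inst.word_eq_one_of_base {P : CoxEnc α} {T : Tab} {D : Log} {subs : List (List ℕ)}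
    (I : Inst P T D subs) (S : Sgs) (hN : S.N = T.N) (hk : S.k = D.k)
    (htab0 : ∀ i, i < S.k → ∀ p, p < S.N → S.tab i p = T.tbl p (D.inv i)) (hok : S.OK)
    (hinj : Function.Injective I.phi) (hfin : Finite P.Grp) (hcard : Nat.card P.Grp ≤ S.prodFrom S.r 0)
    (u : List ℕ) (hu : ∀ x ∈ u, x < D.k)
    (h : ∀ t, t < S.r → Nat.beq (Tab.act T D u (S.beta t)) (S.beta t) = true) : wordP P.gR u = 1 := by
  apply word_eq_one_of_base_aux I.phi _ _ S hN hk htab0 hok hinj hfin hcard u hu h
  · intro x hx i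
    have hg : gE P subs x = P.gR x := extG_le (by rw [← I.hk]; exact le_of_lt hx)
    rw [← hg]
    exact I.hphi x hx i
  · intro u hu p
    have hu' : ∀ x ∈ u, x < P.k := fun x hx => by rw [← I.hk]; exact hu x hx
    have hw : wordP (gE P subs) u = wordP P.gR u := I.gE_word _ hu'
    rw [← hw]
    exact I.hC.phi_word I.phi I.hphi u hu p

theorem PRep.word_eq_one_of_base {P : CoxEnc α} {T : Tab} {D : Log}
    (R : PRep P T D) (S : Sgs) (hN : S.N = T.N) (hk : S.k = D.k)
    (htab0 : ∀ i, i < S.k → ∀ p, p < S.N → S.tab i p = T.tbl p (D.inv i)) (hok : S.OK)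
    (hinj : Function.Injective R.phi) (hfin : Finite P.Grp) (hcard : Nat.card P.Grp ≤ S.prodFrom S.r 0)
    (u : List ℕ) (hu : ∀ x ∈ u, x < D.k)
    (h : ∀ t, t < S.r → Nat.beq (Tab.act T D u (S.beta t)) (S.beta t) = true) : wordP P.gR u = 1 :=
  word_eq_one_of_base_aux R.phi (fun x hx i => R.phi_gR x hx i) (fun u hu p => R.phi_word u hu p)
    S hN hk htab0 hok hinj hfin hcard u hu h

end Cfsg.Agent.Lib.Helper4.TC
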