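import Mathlib
import Cfsg.Agent.Lib.Helper1.BrandtBRDefs
import Cfsg.Agent.Lib.Helper6.BlkRigid

set_option autoImplicit false
open Cfsg

namespace Cfsg.Agent.Lib.Helper4.BrandtBR2

open Cfsg.Agent.Lib.Helper6 Cfsg.Agent.Lib.Helper1.Brandt

open scoped Matrix

variable {p : ℕ} {M : Ideal Cfsg.AlgInt}

theorem memLocalRing_one_apply (hM : Cfsg.IsPModular p M) {n : Type*} [DecidableEq n] (i j : n) :
    Cfsg.MemLocalRing M ((1 : Matrix n n ℂ) i j) := by
  rw [Matrix.one_apply]
  split_ifs
  · exact memLocalRing_one hM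
  · exact memLocalRing_zero hM

/-- BR2a (lemma ML): vectors with local-integral entries whose reductions are independent over the
residue field are independent over the complex numbers. -/
theorem linearIndependent_of_redC (hM : Cfsg.IsPModular p M) {ι n : Type*} [Fintype ι]
    [Fintype n] (v : ι → n → ℂ) (hv : ∀ i j, Cfsg.MemLocalRing M (v i j))
    (h : LinearIndependent (ResField hM) (fun i => (fun j => redC hM (v i j)))) :
    LinearIndependent ℂ v := by
  classical
  let Vb : Matrix ι n (ResField hM) := fun i j => redC hM (v i j)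
  let f : (ι → ResField hM) →ₗ[ResField hM] (n → ResField hM) := Matrix.toLin' Vbᵀ
  have hf : LinearMap.ker f = ⊥ := by
    rw [LinearMap.ker_eq_bot']
    intro c hc
    have h1 : ∑ i, c i • (fun j => redC hM (v i j)) = 0 := by
      rw [← hc]
      ext j
      rw [Finset.sum_apply]
      change _ = (Vbᵀ.mulVec c) j
      rw [Matrix.mulVec, dotProduct]
      apply Finset.sum_congr rfl
      intro i _
      rw [Pi.smul_apply, smul_eq_mul, Matrix.transpose_apply, mul_comm]
    have h2 := Fintype.linearIndependent_iff.mp h c h1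
    ext i
    exact h2 i
  obtain ⟨g, hg⟩ := LinearMap.exists_leftInverse_of_injective f hf
  let B : Matrix ι n (ResField hM) := LinearMap.toMatrix' g
  have hB : B * Vbᵀ = 1 := by
    have h1 : LinearMap.toMatrix' (g.comp f) = 1 := by rw [hg, LinearMap.toMatrix'_id]
    rw [LinearMap.toMatrix'_comp, LinearMap.toMatrix'_toLin'] at h1
    exact h1
  have hVW : Vb * Bᵀ = 1 := by
    have h1 := congrArg Matrix.transpose hB
    rw [Matrix.transpose_mul, Matrix.transpose_transpose, Matrix.transpose_one] at h1
    exact h1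
  let W : Matrix n ι ℂ := fun j i => liftC hM (Bᵀ j i)
  have hW : ∀ j i, Cfsg.MemLocalRing M (W j i) := fun j i => liftC_mem hM _
  let V : Matrix ι n ℂ := Matrix.of v
  have hV : ∀ i j, Cfsg.MemLocalRing M (V i j) := hv
  have hredV : redM hM V = Vb := rfl
  have hredW : redM hM W = Bᵀ := by
    ext j i
    rw [redM_apply]
    exact redC_liftC hM _
  have hU : ∀ i j, Cfsg.MemLocalRing M ((V * W) i j) := memLocalRing_mul_apply hM hV hW
  have hred : redM hM (V * W) = 1 := by rw [redM_mul hM hV hW, hredV, hredW, hVW]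
  have hU1 : ∀ i j, Cfsg.MemLocalIdeal M ((V * W) i j - (1 : Matrix ι ι ℂ) i j) := by
    intro i j
    rw [← redC_eq_iff hM (hU i j) (memLocalRing_one_apply hM i j)]
    have h2 : redC hM ((V * W) i j) = (1 : Matrix ι ι (ResField hM)) i j := by
      rw [← redM_apply, hred]
    have h3 : redC hM ((1 : Matrix ι ι ℂ) i j) = (1 : Matrix ι ι (ResField hM)) i j := by
      rw [← redM_apply, redM_one]
    rw [h2, h3]
  have hdet := det_ne_zero_of_congr_one hM (V * W) hU hU1
  rw [Fintype.linearIndependent_iff]
  intro c hc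
  have h1 : Matrix.vecMul c V = 0 := by
    rw [← hc]
    ext j
    rw [Finset.sum_apply, Matrix.vecMul, dotProduct]
    apply Finset.sum_congr rfl
    intro i _
    rw [Pi.smul_apply, smul_eq_mul]
    rfl
  have h2 : Matrix.vecMul c (V * W) = 0 := by
    rw [← Matrix.vecMul_vecMul, h1, Matrix.zero_vecMul]
  have h3 := Matrix.eq_zero_of_vecMul_eq_zero hdet h2
  intro i
  rw [h3]
  rfl

/-- reduction does not increase the rank -/
theorem rank_redM_le (hM : Cfsg.IsPModular p M) {m n : Type*} [Fintype m] [Fintype n]
    (Y : Matrix m n ℂ) (hY : ∀ i j, Cfsg.MemLocalRing M (Y i j)) :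
    (redM hM Y).rank ≤ Y.rank := by
  classical
  rw [Matrix.rank_eq_finrank_span_row, Matrix.rank_eq_finrank_span_row]
  obtain ⟨κ, a, ha, hsp, hli⟩ :=
    exists_linearIndependent' (ResField hM) (fun i => (redM hM Y).row i)
  haveI : Finite κ := Finite.of_injective a ha
  haveI : Fintype κ := Fintype.ofFinite κ
  have hli' : LinearIndependent (ResField hM) (fun k => (fun j => redC hM (Y (a k) j))) := hli
  have hC := linearIndependent_of_redC hM (fun k => Y (a k)) (fun k j => hY (a k) j) hli'
  have e1 : Module.finrank (ResField hM)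
      (Submodule.span (ResField hM) (Set.range (redM hM Y).row)) = Fintype.card κ := by
    have h0 : Set.range (redM hM Y).row = Set.range (fun i => (redM hM Y).row i) := rfl
    rw [h0, ← hsp]
    exact finrank_span_eq_card hli
  have e2 : Module.finrank ℂ (Submodule.span ℂ (Set.range (fun k => Y (a k)))) =
      Fintype.card κ := finrank_span_eq_card hC
  rw [e1, ← e2]
  apply Submodule.finrank_mono
  apply Submodule.span_mono
  rintro _ ⟨k, rfl⟩
  exact ⟨a k, rfl⟩

end Cfsg.Agent.Lib.Helper4.BrandtBR2
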