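import Mathlib

set_option autoImplicit false

namespace Cfsg.Agent.Lib.Helper4.BrandtBR2

/-- BR2c: rank of a complex idempotent matrix is its trace. -/
theorem rank_eq_trace_of_idem {n : Type*} [Fintype n] [DecidableEq n] (X : Matrix n n ℂ)
    (hXX : X * X = X) : (X.rank : ℂ) = X.trace := by
  have hidem : IsIdempotentElem (Matrix.toLin' X) := by
    unfold IsIdempotentElem
    rw [Module.End.mul_eq_comp, ← Matrix.toLin'_mul, hXX]
  have hproj := (LinearMap.isProj_range_iff_isIdempotentElem (Matrix.toLin' X)).mpr hidem
  have h1 := hproj.trace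
  rw [Matrix.trace_toLin'_eq] at h1
  rw [h1]
  rfl

/-- for an idempotent matrix over a field the ranks of `P` and `1 - P` add up to the size -/
theorem rank_add_rank_one_sub_of_idem {F : Type*} [Field F] {n : Type*} [Fintype n]
    [DecidableEq n] (P : Matrix n n F) (hP : P * P = P) :
    P.rank + (1 - P).rank = Fintype.card n := by
  have h1 := LinearMap.finrank_range_add_finrank_ker P.mulVecLin
  have hk : LinearMap.ker P.mulVecLin = LinearMap.range (1 - P).mulVecLin := by
    ext x
    simp only [LinearMap.mem_ker, LinearMap.mem_range, Matrix.mulVecLin_apply]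
    constructor
    · intro hx
      exact ⟨x, by rw [Matrix.sub_mulVec, Matrix.one_mulVec, hx, sub_zero]⟩
    · rintro ⟨y, rfl⟩
      rw [Matrix.mulVec_mulVec, Matrix.mul_sub, Matrix.mul_one, hP, sub_self,
        Matrix.zero_mulVec]
  rw [hk, Module.finrank_fintype_fun_eq_card] at h1
  exact h1

end Cfsg.Agent.Lib.Helper4.BrandtBR2
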