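import Mathlib
import Cfsg.Agent.Lib.Helper1.BrandtBRDefs
import Cfsg.Agent.Lib.Helper4.BrandtBR2a
import Cfsg.Agent.Lib.Helper4.BrandtBR2c

set_option autoImplicit false
open Cfsg

namespace Cfsg.Agent.Lib.Helper4.BrandtBR2

open Cfsg.Agent.Lib.Helper6 Cfsg.Agent.Lib.Helper1.Brandt

variable {p : ℕ} {M : Ideal Cfsg.AlgInt}

/-- BR2b: reduction preserves the rank of an idempotent matrix with local-integral entries. -/
theorem rank_redM_idem (hM : Cfsg.IsPModular p M) {n : Type*} [Fintype n] [DecidableEq n]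
    (X : Matrix n n ℂ) (hX : ∀ i j, Cfsg.MemLocalRing M (X i j)) (hXX : X * X = X) :
    (redM hM X).rank = X.rank := by
  have h1 := rank_redM_le hM X hX
  have hone : ∀ i j, Cfsg.MemLocalRing M ((1 : Matrix n n ℂ) i j) :=
    fun i j => memLocalRing_one_apply hM i j
  have hX1 : ∀ i j, Cfsg.MemLocalRing M ((1 - X) i j) := by
    intro i j
    rw [Matrix.sub_apply]
    exact MemLocalRing.sub hM (hone i j) (hX i j)
  have h2 := rank_redM_le hM (1 - X) hX1
  rw [redM_sub hM hone hX, redM_one] at h2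
  have hbb : redM hM X * redM hM X = redM hM X := by rw [← redM_mul hM hX hX, hXX]
  have h3 := rank_add_rank_one_sub_of_idem (redM hM X) hbb
  have h4 := rank_add_rank_one_sub_of_idem X hXX
  omega

end Cfsg.Agent.Lib.Helper4.BrandtBR2
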