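import Mathlib
import Cfsg.Agent.Lib.Helper4.TCD_F55A_Fin
import Cfsg.Agent.Lib.Helper4.TCD_F55U1_Fin
import Cfsg.Agent.Lib.Helper4.TCD_F55U2_Fin
import Cfsg.Agent.Lib.Helper4.TCD_F55L_Fin
import Cfsg.Agent.Lib.Helper4.TC16

/-! The presented group `F55` has order 55 (generated). -/

namespace Cfsg.Agent.Lib.Helper4.F55Main

open Cfsg.Agent.Lib.Helper4.TC Cfsg.Agent.Lib.Helper4.TCD Cfsg.Agent.Lib.Helper4.TC.Log

theorem letG_01 : letG PF55.P [0] = letG PF55.P [0, 1] := by
  apply le_antisymm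
  · apply Subgroup.closure_mono
    rintro s ⟨x, hx, rfl⟩
    simp only [List.mem_cons, List.not_mem_nil, or_false] at hx
    exact ⟨x, by rw [hx]; simp, rfl⟩
  · rw [letG, Subgroup.closure_le]
    rintro s ⟨x, hx, rfl⟩
    simp only [List.mem_cons, List.not_mem_nil, or_false] at hx
    rcases hx with rfl | rfl
    · exact Subgroup.subset_closure ⟨0, by simp, rfl⟩
    · have h : PF55.P.gR 1 = (PF55.P.gR 0)⁻¹ := (PF55.valid.invR_sound 0 (by decide)).2
      rw [h]
      exact inv_mem (Subgroup.subset_closure ⟨0, by simp, rfl⟩)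

/-- the order and the faithful permutation representation -/
theorem order_aux : Finite PF55.P.Grp ∧ Function.Injective F55A.inst.phi ∧ Nat.card PF55.P.Grp = 55 := by
  have e0 : letG PF55.P [] = ⊥ := letG_nil _
  have f0 : Finite (letG PF55.P []) := by rw [e0]; infer_instance
  have c0 : Nat.card (letG PF55.P []) = 1 := by rw [e0]; exact Subgroup.card_bot
  obtain ⟨f2, c2⟩ := F55U2.card_le f0
  rw [← letG_01] at f2 c2
  obtain ⟨f1, c1⟩ := F55U1.card_le f2
  have htop : letG PF55.P [0, 1, 2, 3] = ⊤ := letG_all PF55.P PF55.valid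
  have fG : Finite PF55.P.Grp := by
    have h := f1
    rw [htop] at h
    exact Finite.of_equiv _ (Subgroup.topEquiv (G := PF55.P.Grp)).toEquiv
  have cG : Nat.card PF55.P.Grp ≤ 5 * (11 * 1) := by
    rw [← Subgroup.card_top (G := PF55.P.Grp), ← htop]
    calc Nat.card (letG PF55.P [0, 1, 2, 3]) ≤ 5 * Nat.card (letG PF55.P [0]) := c1
      _ ≤ 5 * (11 * Nat.card (letG PF55.P [])) := Nat.mul_le_mul_left _ c2
      _ = 5 * (11 * 1) := by rw [c0]
  have hub : Nat.card PF55.P.Grp ≤ 55 := le_trans cG (by decide)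
  obtain ⟨hinj, hcard⟩ := F55A.inst.card_eq F55L.S rfl rfl F55L.htab0 F55L.ok 55 (by decide)
    F55L.prod_eq fG hub
  exact ⟨fG, hinj, hcard⟩

end Cfsg.Agent.Lib.Helper4.F55Main
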