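import Cfsg.Agent.Lib.Helper4.TCD_C12M22A_Acc

namespace Cfsg.Agent.Lib.Helper4.TCD.C12M22A

open Cfsg.Agent.Lib.Helper4.TC

set_option maxRecDepth 100000
set_option Elab.async false

theorem c_rel_39 : allRange D.relOK 468520 3562 = true := by decide +kernel
theorem c_rel_40 : allRange D.relOK 472082 3430 = true := by decide +kernel
theorem c_rel_41 : allRange D.relOK 475512 3591 = true := by decide +kernel
theorem c_rel_42 : allRange D.relOK 479103 3604 = true := by decide +kernel
theorem c_rel_43 : allRange D.relOK 482707 3323 = true := by decide +kernel
theorem c_rel_44 : allRange D.relOK 486030 3512 = true := by decide +kernel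
theorem c_rel_45 : allRange D.relOK 489542 3576 = true := by decide +kernel
theorem c_rel_46 : allRange D.relOK 493118 3376 = true := by decide +kernel
theorem c_rel_47 : allRange D.relOK 496494 3601 = true := by decide +kernel
theorem c_rel_48 : allRange D.relOK 500095 3400 = true := by decide +kernel
theorem c_rel_49 : allRange D.relOK 503495 3441 = true := by decide +kernel
theorem c_rel_50 : allRange D.relOK 506936 3604 = true := by decide +kernel
theorem c_rel_51 : allRange D.relOK 510540 3678 = true := by decide +kernel
theorem c_rel_52 : allRange D.relOK 514218 3812 = true := by decide +kernel
theorem c_rel_53 : allRange D.relOK 518030 3317 = true := by decide +kernel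
theorem c_rel_54 : allRange D.relOK 521347 3440 = true := by decide +kernel
theorem c_rel_55 : allRange D.relOK 524787 3554 = true := by decide +kernel
theorem c_rel_56 : allRange D.relOK 528341 3365 = true := by decide +kernel
theorem c_rel_57 : allRange D.relOK 531706 3349 = true := by decide +kernel
theorem c_rel_58 : allRange D.relOK 535055 3587 = true := by decide +kernel
theorem c_rel_59 : allRange D.relOK 538642 3544 = true := by decide +kernel
theorem c_rel_60 : allRange D.relOK 542186 3456 = true := by decide +kernel
theorem c_rel_61 : allRange D.relOK 545642 3297 = true := by decide +kernel
theorem c_rel_62 : allRange D.relOK 548939 3332 = true := by decide +kernel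
theorem c_rel_63 : allRange D.relOK 552271 3599 = true := by decide +kernel
theorem c_rel_64 : allRange D.relOK 555870 3510 = true := by decide +kernel
theorem c_rel_65 : allRange D.relOK 559380 3165 = true := by decide +kernel
theorem c_rel_66 : allRange D.relOK 562545 3249 = true := by decide +kernel
theorem c_rel_67 : allRange D.relOK 565794 3542 = true := by decide +kernel
theorem c_rel_68 : allRange D.relOK 569336 3398 = true := by decide +kernel
theorem c_rel_69 : allRange D.relOK 572734 3610 = true := by decide +kernel
theorem c_rel_70 : allRange D.relOK 576344 3369 = true := by decide +kernel
theorem c_rel_71 : allRange D.relOK 579713 3334 = true := by decide +kernel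
theorem c_rel_72 : allRange D.relOK 583047 3561 = true := by decide +kernel
theorem c_rel_73 : allRange D.relOK 586608 3427 = true := by decide +kernel
theorem c_rel_74 : allRange D.relOK 590035 3494 = true := by decide +kernel
theorem c_rel_75 : allRange D.relOK 593529 3480 = true := by decide +kernel
theorem c_rel_76 : allRange D.relOK 597009 3585 = true := by decide +kernel
theorem c_rel_77 : allRange D.relOK 600594 3565 = true := by decide +kernel
theorem c_rel_78 : allRange D.relOK 604159 3606 = true := by decide +kernel
theorem c_rel_79 : allRange D.relOK 607765 3600 = true := by decide +kernel
theorem c_rel_80 : allRange D.relOK 611365 3482 = true := by decide +kernel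
theorem c_rel_81 : allRange D.relOK 614847 3372 = true := by decide +kernel
theorem c_rel_82 : allRange D.relOK 618219 3373 = true := by decide +kernel
theorem c_rel_83 : allRange D.relOK 621592 3599 = true := by decide +kernel
theorem c_rel_84 : allRange D.relOK 625191 3515 = true := by decide +kernel
theorem c_rel_85 : allRange D.relOK 628706 3542 = true := by decide +kernel
theorem c_rel_86 : allRange D.relOK 632248 3755 = true := by decide +kernel
theorem c_rel_87 : allRange D.relOK 636003 3446 = true := by decide +kernel
theorem c_rel_88 : allRange D.relOK 639449 3658 = true := by decide +kernel
theorem c_rel_89 : allRange D.relOK 643107 3360 = true := by decide +kernel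
theorem c_rel_90 : allRange D.relOK 646467 3379 = true := by decide +kernel
theorem c_rel_91 : allRange D.relOK 649846 3398 = true := by decide +kernel
theorem c_rel_92 : allRange D.relOK 653244 3466 = true := by decide +kernel
theorem c_rel_93 : allRange D.relOK 656710 3273 = true := by decide +kernel
theorem c_rel_94 : allRange D.relOK 659983 3402 = true := by decide +kernel
theorem c_rel_95 : allRange D.relOK 663385 3327 = true := by decide +kernel
theorem c_rel_96 : allRange D.relOK 666712 3338 = true := by decide +kernel
theorem c_rel_97 : allRange D.relOK 670050 3714 = true := by decide +kernel
theorem c_rel_98 : allRange D.relOK 673764 3679 = true := by decide +kernel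
theorem c_rel_99 : allRange D.relOK 677443 3426 = true := by decide +kernel
theorem c_rel_100 : allRange D.relOK 680869 3371 = true := by decide +kernel
theorem c_rel_101 : allRange D.relOK 684240 3415 = true := by decide +kernel
theorem c_rel_102 : allRange D.relOK 687655 3457 = true := by decide +kernel
theorem c_rel_103 : allRange D.relOK 691112 3072 = true := by decide +kernel
theorem c_rel_104 : allRange D.relOK 694184 2480 = true := by decide +kernel
theorem c_rel_105 : allRange D.relOK 696664 3586 = true := by decide +kernel
theorem c_rel_106 : allRange D.relOK 700250 3300 = true := by decide +kernel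
theorem c_rel_107 : allRange D.relOK 703550 3485 = true := by decide +kernel
theorem c_rel_108 : allRange D.relOK 707035 3357 = true := by decide +kernel
theorem c_rel_109 : allRange D.relOK 710392 3373 = true := by decide +kernel
theorem c_rel_110 : allRange D.relOK 713765 3399 = true := by decide +kernel
theorem c_rel_111 : allRange D.relOK 717164 3516 = true := by decide +kernel
theorem c_rel_112 : allRange D.relOK 720680 3154 = true := by decide +kernel
theorem c_rel_113 : allRange D.relOK 723834 3437 = true := by decide +kernel
theorem c_rel_114 : allRange D.relOK 727271 2842 = true := by decide +kernel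
theorem c_rel_115 : allRange D.relOK 730113 2864 = true := by decide +kernel
theorem c_rel_116 : allRange D.relOK 732977 2983 = true := by decide +kernel
theorem c_rel_117 : allRange D.relOK 735960 3033 = true := by decide +kernel
theorem c_rel_118 : allRange D.relOK 738993 3103 = true := by decide +kernel
theorem c_rel_119 : allRange D.relOK 742096 2943 = true := by decide +kernel
theorem c_rel_120 : allRange D.relOK 745039 2739 = true := by decide +kernel
theorem c_rel_121 : allRange D.relOK 747778 2851 = true := by decide +kernel
theorem c_rel_122 : allRange D.relOK 750629 3000 = true := by decide +kernel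
theorem c_rel_123 : allRange D.relOK 753629 3089 = true := by decide +kernel
theorem c_rel_124 : allRange D.relOK 756718 2851 = true := by decide +kernel
theorem c_rel_125 : allRange D.relOK 759569 2892 = true := by decide +kernel
theorem c_rel_126 : allRange D.relOK 762461 2725 = true := by decide +kernel
theorem c_rel_127 : allRange D.relOK 765186 3197 = true := by decide +kernel
theorem c_rel_128 : allRange D.relOK 768383 2878 = true := by decide +kernel
theorem c_rel_129 : allRange D.relOK 771261 2484 = true := by decide +kernel
theorem c_rel_130 : allRange D.relOK 773745 2963 = true := by decide +kernel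
theorem c_rel_131 : allRange D.relOK 776708 2864 = true := by decide +kernel
theorem c_rel_132 : allRange D.relOK 779572 2733 = true := by decide +kernel
theorem c_rel_133 : allRange D.relOK 782305 3160 = true := by decide +kernel
theorem c_rel_134 : allRange D.relOK 785465 2852 = true := by decide +kernel
theorem c_rel_135 : allRange D.relOK 788317 2572 = true := by decide +kernel
theorem c_rel_136 : allRange D.relOK 790889 2524 = true := by decide +kernel
theorem c_rel_137 : allRange D.relOK 793413 2741 = true := by decide +kernel

end Cfsg.Agent.Lib.Helper4.TCD.C12M22A
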