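import Cfsg.Agent.Lib.Helper4.TCD_C12M22A_Acc

namespace Cfsg.Agent.Lib.Helper4.TCD.C12M22A

open Cfsg.Agent.Lib.Helper4.TC

set_option maxRecDepth 100000
set_option Elab.async false

theorem c_act15_6 : allRange (fun i => Nat.beq (actR15 i) i) 19998 3333 = true := by decide +kernel
theorem c_act15_7 : allRange (fun i => Nat.beq (actR15 i) i) 23331 3333 = true := by decide +kernel
theorem c_act15_8 : allRange (fun i => Nat.beq (actR15 i) i) 26664 3333 = true := by decide +kernel
theorem c_act15_9 : allRange (fun i => Nat.beq (actR15 i) i) 29997 3333 = true := by decide +kernel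
theorem c_act15_10 : allRange (fun i => Nat.beq (actR15 i) i) 33330 3333 = true := by decide +kernel
theorem c_act15_11 : allRange (fun i => Nat.beq (actR15 i) i) 36663 3333 = true := by decide +kernel
theorem c_act15_12 : allRange (fun i => Nat.beq (actR15 i) i) 39996 3333 = true := by decide +kernel
theorem c_act15_13 : allRange (fun i => Nat.beq (actR15 i) i) 43329 3333 = true := by decide +kernel
theorem c_act15_14 : allRange (fun i => Nat.beq (actR15 i) i) 46662 3333 = true := by decide +kernel
theorem c_act15_15 : allRange (fun i => Nat.beq (actR15 i) i) 49995 3333 = true := by decide +kernel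
theorem c_act15_16 : allRange (fun i => Nat.beq (actR15 i) i) 53328 3333 = true := by decide +kernel
theorem c_act15_17 : allRange (fun i => Nat.beq (actR15 i) i) 56661 3333 = true := by decide +kernel
theorem c_act15_18 : allRange (fun i => Nat.beq (actR15 i) i) 59994 3333 = true := by decide +kernel
theorem c_act15_19 : allRange (fun i => Nat.beq (actR15 i) i) 63327 3333 = true := by decide +kernel
theorem c_act15_20 : allRange (fun i => Nat.beq (actR15 i) i) 66660 3333 = true := by decide +kernel
theorem c_act15_21 : allRange (fun i => Nat.beq (actR15 i) i) 69993 3333 = true := by decide +kernel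
theorem c_act15_22 : allRange (fun i => Nat.beq (actR15 i) i) 73326 3333 = true := by decide +kernel
theorem c_act15_23 : allRange (fun i => Nat.beq (actR15 i) i) 76659 3333 = true := by decide +kernel
theorem c_act15_24 : allRange (fun i => Nat.beq (actR15 i) i) 79992 3333 = true := by decide +kernel
theorem c_act15_25 : allRange (fun i => Nat.beq (actR15 i) i) 83325 3333 = true := by decide +kernel
theorem c_act15_26 : allRange (fun i => Nat.beq (actR15 i) i) 86658 3333 = true := by decide +kernel
theorem c_act15_27 : allRange (fun i => Nat.beq (actR15 i) i) 89991 3333 = true := by decide +kernel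
theorem c_act15_28 : allRange (fun i => Nat.beq (actR15 i) i) 93324 3333 = true := by decide +kernel
theorem c_act15_29 : allRange (fun i => Nat.beq (actR15 i) i) 96657 111 = true := by decide +kernel
theorem c_act16_0 : allRange (fun i => Nat.beq (actR16 i) i) 0 3333 = true := by decide +kernel
theorem c_act16_1 : allRange (fun i => Nat.beq (actR16 i) i) 3333 3333 = true := by decide +kernel
theorem c_act16_2 : allRange (fun i => Nat.beq (actR16 i) i) 6666 3333 = true := by decide +kernel
theorem c_act16_3 : allRange (fun i => Nat.beq (actR16 i) i) 9999 3333 = true := by decide +kernel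
theorem c_act16_4 : allRange (fun i => Nat.beq (actR16 i) i) 13332 3333 = true := by decide +kernel
theorem c_act16_5 : allRange (fun i => Nat.beq (actR16 i) i) 16665 3333 = true := by decide +kernel
theorem c_act16_6 : allRange (fun i => Nat.beq (actR16 i) i) 19998 3333 = true := by decide +kernel
theorem c_act16_7 : allRange (fun i => Nat.beq (actR16 i) i) 23331 3333 = true := by decide +kernel
theorem c_act16_8 : allRange (fun i => Nat.beq (actR16 i) i) 26664 3333 = true := by decide +kernel
theorem c_act16_9 : allRange (fun i => Nat.beq (actR16 i) i) 29997 3333 = true := by decide +kernel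
theorem c_act16_10 : allRange (fun i => Nat.beq (actR16 i) i) 33330 3333 = true := by decide +kernel
theorem c_act16_11 : allRange (fun i => Nat.beq (actR16 i) i) 36663 3333 = true := by decide +kernel
theorem c_act16_12 : allRange (fun i => Nat.beq (actR16 i) i) 39996 3333 = true := by decide +kernel
theorem c_act16_13 : allRange (fun i => Nat.beq (actR16 i) i) 43329 3333 = true := by decide +kernel
theorem c_act16_14 : allRange (fun i => Nat.beq (actR16 i) i) 46662 3333 = true := by decide +kernel
theorem c_act16_15 : allRange (fun i => Nat.beq (actR16 i) i) 49995 3333 = true := by decide +kernel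
theorem c_act16_16 : allRange (fun i => Nat.beq (actR16 i) i) 53328 3333 = true := by decide +kernel
theorem c_act16_17 : allRange (fun i => Nat.beq (actR16 i) i) 56661 3333 = true := by decide +kernel
theorem c_act16_18 : allRange (fun i => Nat.beq (actR16 i) i) 59994 3333 = true := by decide +kernel
theorem c_act16_19 : allRange (fun i => Nat.beq (actR16 i) i) 63327 3333 = true := by decide +kernel
theorem c_act16_20 : allRange (fun i => Nat.beq (actR16 i) i) 66660 3333 = true := by decide +kernel
theorem c_act16_21 : allRange (fun i => Nat.beq (actR16 i) i) 69993 3333 = true := by decide +kernel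
theorem c_act16_22 : allRange (fun i => Nat.beq (actR16 i) i) 73326 3333 = true := by decide +kernel
theorem c_act16_23 : allRange (fun i => Nat.beq (actR16 i) i) 76659 3333 = true := by decide +kernel
theorem c_act16_24 : allRange (fun i => Nat.beq (actR16 i) i) 79992 3333 = true := by decide +kernel
theorem c_act16_25 : allRange (fun i => Nat.beq (actR16 i) i) 83325 3333 = true := by decide +kernel

end Cfsg.Agent.Lib.Helper4.TCD.C12M22A
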