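import Cfsg.Agent.Lib.Helper4.TCD_C12M22A_Acc

namespace Cfsg.Agent.Lib.Helper4.TCD.C12M22A

open Cfsg.Agent.Lib.Helper4.TC

set_option maxRecDepth 100000
set_option Elab.async false

theorem c_act16_26 : allRange (fun i => Nat.beq (actR16 i) i) 86658 3333 = true := by decide +kernel
theorem c_act16_27 : allRange (fun i => Nat.beq (actR16 i) i) 89991 3333 = true := by decide +kernel
theorem c_act16_28 : allRange (fun i => Nat.beq (actR16 i) i) 93324 3333 = true := by decide +kernel
theorem c_act16_29 : allRange (fun i => Nat.beq (actR16 i) i) 96657 111 = true := by decide +kernel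

end Cfsg.Agent.Lib.Helper4.TCD.C12M22A
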