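import Cfsg.Agent.Lib.Helper4.TCD_C12M22A_Acc

namespace Cfsg.Agent.Lib.Helper4.TCD.C12M22A

open Cfsg.Agent.Lib.Helper4.TC

set_option maxRecDepth 100000
set_option Elab.async false

theorem c_rel_138 : allRange D.relOK 796154 2511 = true := by decide +kernel
theorem c_rel_139 : allRange D.relOK 798665 2594 = true := by decide +kernel
theorem c_rel_140 : allRange D.relOK 801259 2432 = true := by decide +kernel
theorem c_rel_141 : allRange D.relOK 803691 2548 = true := by decide +kernel
theorem c_rel_142 : allRange D.relOK 806239 2801 = true := by decide +kernel
theorem c_rel_143 : allRange D.relOK 809040 2412 = true := by decide +kernel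
theorem c_rel_144 : allRange D.relOK 811452 2594 = true := by decide +kernel
theorem c_rel_145 : allRange D.relOK 814046 2323 = true := by decide +kernel
theorem c_rel_146 : allRange D.relOK 816369 2452 = true := by decide +kernel
theorem c_rel_147 : allRange D.relOK 818821 2487 = true := by decide +kernel
theorem c_rel_148 : allRange D.relOK 821308 2409 = true := by decide +kernel
theorem c_rel_149 : allRange D.relOK 823717 2359 = true := by decide +kernel
theorem c_rel_150 : allRange D.relOK 826076 2165 = true := by decide +kernel
theorem c_rel_151 : allRange D.relOK 828241 2315 = true := by decide +kernel
theorem c_rel_152 : allRange D.relOK 830556 2097 = true := by decide +kernel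
theorem c_rel_153 : allRange D.relOK 832653 2160 = true := by decide +kernel
theorem c_rel_154 : allRange D.relOK 834813 2103 = true := by decide +kernel
theorem c_rel_155 : allRange D.relOK 836916 1919 = true := by decide +kernel
theorem c_rel_156 : allRange D.relOK 838835 1912 = true := by decide +kernel
theorem c_rel_157 : allRange D.relOK 840747 2079 = true := by decide +kernel
theorem c_rel_158 : allRange D.relOK 842826 1966 = true := by decide +kernel
theorem c_rel_159 : allRange D.relOK 844792 1865 = true := by decide +kernel
theorem c_rel_160 : allRange D.relOK 846657 2216 = true := by decide +kernel
theorem c_rel_161 : allRange D.relOK 848873 1885 = true := by decide +kernel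
theorem c_rel_162 : allRange D.relOK 850758 1925 = true := by decide +kernel
theorem c_rel_163 : allRange D.relOK 852683 1844 = true := by decide +kernel
theorem c_rel_164 : allRange D.relOK 854527 1826 = true := by decide +kernel
theorem c_rel_165 : allRange D.relOK 856353 1630 = true := by decide +kernel
theorem c_rel_166 : allRange D.relOK 857983 1616 = true := by decide +kernel
theorem c_rel_167 : allRange D.relOK 859599 1827 = true := by decide +kernel
theorem c_rel_168 : allRange D.relOK 861426 1556 = true := by decide +kernel
theorem c_rel_169 : allRange D.relOK 862982 1685 = true := by decide +kernel
theorem c_rel_170 : allRange D.relOK 864667 1506 = true := by decide +kernel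
theorem c_rel_171 : allRange D.relOK 866173 1528 = true := by decide +kernel
theorem c_rel_172 : allRange D.relOK 867701 1422 = true := by decide +kernel
theorem c_rel_173 : allRange D.relOK 869123 1647 = true := by decide +kernel
theorem c_rel_174 : allRange D.relOK 870770 1521 = true := by decide +kernel
theorem c_rel_175 : allRange D.relOK 872291 1345 = true := by decide +kernel
theorem c_rel_176 : allRange D.relOK 873636 1457 = true := by decide +kernel
theorem c_rel_177 : allRange D.relOK 875093 1404 = true := by decide +kernel
theorem c_rel_178 : allRange D.relOK 876497 1298 = true := by decide +kernel
theorem c_rel_179 : allRange D.relOK 877795 1432 = true := by decide +kernel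
theorem c_rel_180 : allRange D.relOK 879227 1590 = true := by decide +kernel
theorem c_rel_181 : allRange D.relOK 880817 1311 = true := by decide +kernel
theorem c_rel_182 : allRange D.relOK 882128 1261 = true := by decide +kernel
theorem c_rel_183 : allRange D.relOK 883389 1226 = true := by decide +kernel
theorem c_rel_184 : allRange D.relOK 884615 1276 = true := by decide +kernel
theorem c_rel_185 : allRange D.relOK 885891 1309 = true := by decide +kernel
theorem c_rel_186 : allRange D.relOK 887200 1329 = true := by decide +kernel
theorem c_rel_187 : allRange D.relOK 888529 1122 = true := by decide +kernel
theorem c_rel_188 : allRange D.relOK 889651 1314 = true := by decide +kernel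
theorem c_rel_189 : allRange D.relOK 890965 1325 = true := by decide +kernel
theorem c_rel_190 : allRange D.relOK 892290 1125 = true := by decide +kernel
theorem c_rel_191 : allRange D.relOK 893415 1177 = true := by decide +kernel
theorem c_rel_192 : allRange D.relOK 894592 1176 = true := by decide +kernel
theorem c_rel_193 : allRange D.relOK 895768 1218 = true := by decide +kernel
theorem c_rel_194 : allRange D.relOK 896986 1290 = true := by decide +kernel
theorem c_rel_195 : allRange D.relOK 898276 1116 = true := by decide +kernel
theorem c_rel_196 : allRange D.relOK 899392 1154 = true := by decide +kernel
theorem c_rel_197 : allRange D.relOK 900546 1136 = true := by decide +kernel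
theorem c_rel_198 : allRange D.relOK 901682 1132 = true := by decide +kernel
theorem c_rel_199 : allRange D.relOK 902814 1177 = true := by decide +kernel
theorem c_rel_200 : allRange D.relOK 903991 1183 = true := by decide +kernel
theorem c_rel_201 : allRange D.relOK 905174 1081 = true := by decide +kernel
theorem c_rel_202 : allRange D.relOK 906255 1034 = true := by decide +kernel
theorem c_rel_203 : allRange D.relOK 907289 1065 = true := by decide +kernel
theorem c_rel_204 : allRange D.relOK 908354 1121 = true := by decide +kernel
theorem c_rel_205 : allRange D.relOK 909475 1005 = true := by decide +kernel
theorem c_rel_206 : allRange D.relOK 910480 1073 = true := by decide +kernel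
theorem c_rel_207 : allRange D.relOK 911553 1018 = true := by decide +kernel
theorem c_rel_208 : allRange D.relOK 912571 1053 = true := by decide +kernel
theorem c_rel_209 : allRange D.relOK 913624 987 = true := by decide +kernel
theorem c_rel_210 : allRange D.relOK 914611 1025 = true := by decide +kernel
theorem c_rel_211 : allRange D.relOK 915636 959 = true := by decide +kernel
theorem c_rel_212 : allRange D.relOK 916595 995 = true := by decide +kernel
theorem c_rel_213 : allRange D.relOK 917590 1115 = true := by decide +kernel
theorem c_rel_214 : allRange D.relOK 918705 1017 = true := by decide +kernel
theorem c_rel_215 : allRange D.relOK 919722 997 = true := by decide +kernel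
theorem c_rel_216 : allRange D.relOK 920719 1032 = true := by decide +kernel
theorem c_rel_217 : allRange D.relOK 921751 976 = true := by decide +kernel
theorem c_rel_218 : allRange D.relOK 922727 958 = true := by decide +kernel
theorem c_rel_219 : allRange D.relOK 923685 1019 = true := by decide +kernel
theorem c_rel_220 : allRange D.relOK 924704 985 = true := by decide +kernel
theorem c_rel_221 : allRange D.relOK 925689 966 = true := by decide +kernel
theorem c_rel_222 : allRange D.relOK 926655 973 = true := by decide +kernel
theorem c_rel_223 : allRange D.relOK 927628 962 = true := by decide +kernel
theorem c_rel_224 : allRange D.relOK 928590 978 = true := by decide +kernel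
theorem c_rel_225 : allRange D.relOK 929568 994 = true := by decide +kernel
theorem c_rel_226 : allRange D.relOK 930562 989 = true := by decide +kernel
theorem c_rel_227 : allRange D.relOK 931551 970 = true := by decide +kernel
theorem c_rel_228 : allRange D.relOK 932521 1005 = true := by decide +kernel
theorem c_rel_229 : allRange D.relOK 933526 981 = true := by decide +kernel
theorem c_rel_230 : allRange D.relOK 934507 1006 = true := by decide +kernel
theorem c_rel_231 : allRange D.relOK 935513 1031 = true := by decide +kernel
theorem c_rel_232 : allRange D.relOK 936544 990 = true := by decide +kernel
theorem c_rel_233 : allRange D.relOK 937534 1016 = true := by decide +kernel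
theorem c_rel_234 : allRange D.relOK 938550 1048 = true := by decide +kernel
theorem c_rel_235 : allRange D.relOK 939598 987 = true := by decide +kernel
theorem c_rel_236 : allRange D.relOK 940585 1016 = true := by decide +kernel

end Cfsg.Agent.Lib.Helper4.TCD.C12M22A
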