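import Cfsg.Agent.Lib.Helper4.TCD_C12M22A_Acc

namespace Cfsg.Agent.Lib.Helper4.TCD.C12M22A

open Cfsg.Agent.Lib.Helper4.TC

set_option maxRecDepth 100000
set_option Elab.async false

theorem c_rel_237 : allRange D.relOK 941601 1056 = true := by decide +kernel
theorem c_rel_238 : allRange D.relOK 942657 1112 = true := by decide +kernel
theorem c_rel_239 : allRange D.relOK 943769 1122 = true := by decide +kernel
theorem c_rel_240 : allRange D.relOK 944891 1152 = true := by decide +kernel
theorem c_rel_241 : allRange D.relOK 946043 1068 = true := by decide +kernel
theorem c_rel_242 : allRange D.relOK 947111 1386 = true := by decide +kernel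
theorem c_rel_243 : allRange D.relOK 948497 1446 = true := by decide +kernel
theorem c_rel_244 : allRange D.relOK 949943 1459 = true := by decide +kernel
theorem c_rel_245 : allRange D.relOK 951402 1503 = true := by decide +kernel
theorem c_rel_246 : allRange D.relOK 952905 1430 = true := by decide +kernel
theorem c_rel_247 : allRange D.relOK 954335 1559 = true := by decide +kernel
theorem c_rel_248 : allRange D.relOK 955894 1593 = true := by decide +kernel
theorem c_rel_249 : allRange D.relOK 957487 1579 = true := by decide +kernel
theorem c_rel_250 : allRange D.relOK 959066 1497 = true := by decide +kernel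
theorem c_rel_251 : allRange D.relOK 960563 1437 = true := by decide +kernel
theorem c_rel_252 : allRange D.relOK 962000 2686 = true := by decide +kernel
theorem c_rel_253 : allRange D.relOK 964686 4938 = true := by decide +kernel
theorem c_rel_254 : allRange D.relOK 969624 4912 = true := by decide +kernel
theorem c_rel_255 : allRange D.relOK 974536 4887 = true := by decide +kernel
theorem c_rel_256 : allRange D.relOK 979423 4878 = true := by decide +kernel
theorem c_rel_257 : allRange D.relOK 984301 4866 = true := by decide +kernel
theorem c_rel_258 : allRange D.relOK 989167 4887 = true := by decide +kernel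
theorem c_rel_259 : allRange D.relOK 994054 4836 = true := by decide +kernel
theorem c_rel_260 : allRange D.relOK 998890 4846 = true := by decide +kernel
theorem c_rel_261 : allRange D.relOK 1003736 4836 = true := by decide +kernel
theorem c_rel_262 : allRange D.relOK 1008572 4850 = true := by decide +kernel
theorem c_rel_263 : allRange D.relOK 1013422 4821 = true := by decide +kernel
theorem c_rel_264 : allRange D.relOK 1018243 4830 = true := by decide +kernel
theorem c_rel_265 : allRange D.relOK 1023073 4850 = true := by decide +kernel
theorem c_rel_266 : allRange D.relOK 1027923 4839 = true := by decide +kernel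
theorem c_rel_267 : allRange D.relOK 1032762 4791 = true := by decide +kernel
theorem c_rel_268 : allRange D.relOK 1037553 4820 = true := by decide +kernel
theorem c_rel_269 : allRange D.relOK 1042373 4790 = true := by decide +kernel
theorem c_rel_270 : allRange D.relOK 1047163 4803 = true := by decide +kernel
theorem c_rel_271 : allRange D.relOK 1051966 4788 = true := by decide +kernel
theorem c_rel_272 : allRange D.relOK 1056754 4796 = true := by decide +kernel
theorem c_rel_273 : allRange D.relOK 1061550 4775 = true := by decide +kernel
theorem c_rel_274 : allRange D.relOK 1066325 4788 = true := by decide +kernel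
theorem c_rel_275 : allRange D.relOK 1071113 4793 = true := by decide +kernel
theorem c_rel_276 : allRange D.relOK 1075906 4750 = true := by decide +kernel
theorem c_rel_277 : allRange D.relOK 1080656 4731 = true := by decide +kernel
theorem c_rel_278 : allRange D.relOK 1085387 4755 = true := by decide +kernel
theorem c_rel_279 : allRange D.relOK 1090142 4755 = true := by decide +kernel
theorem c_rel_280 : allRange D.relOK 1094897 4735 = true := by decide +kernel
theorem c_rel_281 : allRange D.relOK 1099632 4780 = true := by decide +kernel
theorem c_rel_282 : allRange D.relOK 1104412 4746 = true := by decide +kernel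
theorem c_rel_283 : allRange D.relOK 1109158 4725 = true := by decide +kernel
theorem c_rel_284 : allRange D.relOK 1113883 4734 = true := by decide +kernel
theorem c_rel_285 : allRange D.relOK 1118617 4712 = true := by decide +kernel
theorem c_rel_286 : allRange D.relOK 1123329 4708 = true := by decide +kernel
theorem c_rel_287 : allRange D.relOK 1128037 4737 = true := by decide +kernel
theorem c_rel_288 : allRange D.relOK 1132774 4738 = true := by decide +kernel
theorem c_rel_289 : allRange D.relOK 1137512 4725 = true := by decide +kernel
theorem c_rel_290 : allRange D.relOK 1142237 4722 = true := by decide +kernel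
theorem c_rel_291 : allRange D.relOK 1146959 4728 = true := by decide +kernel
theorem c_rel_292 : allRange D.relOK 1151687 4713 = true := by decide +kernel
theorem c_rel_293 : allRange D.relOK 1156400 4670 = true := by decide +kernel
theorem c_rel_294 : allRange D.relOK 1161070 4647 = true := by decide +kernel
theorem c_rel_295 : allRange D.relOK 1165717 4700 = true := by decide +kernel
theorem c_rel_296 : allRange D.relOK 1170417 4669 = true := by decide +kernel
theorem c_rel_297 : allRange D.relOK 1175086 4673 = true := by decide +kernel
theorem c_rel_298 : allRange D.relOK 1179759 4661 = true := by decide +kernel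
theorem c_rel_299 : allRange D.relOK 1184420 4649 = true := by decide +kernel
theorem c_rel_300 : allRange D.relOK 1189069 4655 = true := by decide +kernel
theorem c_rel_301 : allRange D.relOK 1193724 4676 = true := by decide +kernel
theorem c_rel_302 : allRange D.relOK 1198400 4675 = true := by decide +kernel
theorem c_rel_303 : allRange D.relOK 1203075 4619 = true := by decide +kernel
theorem c_rel_304 : allRange D.relOK 1207694 4628 = true := by decide +kernel
theorem c_rel_305 : allRange D.relOK 1212322 4632 = true := by decide +kernel
theorem c_rel_306 : allRange D.relOK 1216954 4575 = true := by decide +kernel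
theorem c_rel_307 : allRange D.relOK 1221529 4624 = true := by decide +kernel
theorem c_rel_308 : allRange D.relOK 1226153 4580 = true := by decide +kernel
theorem c_rel_309 : allRange D.relOK 1230733 4591 = true := by decide +kernel
theorem c_rel_310 : allRange D.relOK 1235324 4565 = true := by decide +kernel
theorem c_rel_311 : allRange D.relOK 1239889 4582 = true := by decide +kernel
theorem c_rel_312 : allRange D.relOK 1244471 4568 = true := by decide +kernel
theorem c_rel_313 : allRange D.relOK 1249039 4538 = true := by decide +kernel
theorem c_rel_314 : allRange D.relOK 1253577 4517 = true := by decide +kernel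
theorem c_rel_315 : allRange D.relOK 1258094 4461 = true := by decide +kernel
theorem c_rel_316 : allRange D.relOK 1262555 4329 = true := by decide +kernel
theorem c_rel_317 : allRange D.relOK 1266884 4425 = true := by decide +kernel
theorem c_rel_318 : allRange D.relOK 1271309 4464 = true := by decide +kernel
theorem c_rel_319 : allRange D.relOK 1275773 4442 = true := by decide +kernel
theorem c_rel_320 : allRange D.relOK 1280215 4394 = true := by decide +kernel
theorem c_rel_321 : allRange D.relOK 1284609 4239 = true := by decide +kernel
theorem c_rel_322 : allRange D.relOK 1288848 4248 = true := by decide +kernel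
theorem c_rel_323 : allRange D.relOK 1293096 4284 = true := by decide +kernel
theorem c_rel_324 : allRange D.relOK 1297380 4235 = true := by decide +kernel
theorem c_rel_325 : allRange D.relOK 1301615 4254 = true := by decide +kernel
theorem c_rel_326 : allRange D.relOK 1305869 4252 = true := by decide +kernel
theorem c_rel_327 : allRange D.relOK 1310121 4420 = true := by decide +kernel
theorem c_rel_328 : allRange D.relOK 1314541 4391 = true := by decide +kernel
theorem c_rel_329 : allRange D.relOK 1318932 4318 = true := by decide +kernel
theorem c_rel_330 : allRange D.relOK 1323250 4336 = true := by decide +kernel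
theorem c_rel_331 : allRange D.relOK 1327586 4364 = true := by decide +kernel
theorem c_rel_332 : allRange D.relOK 1331950 4323 = true := by decide +kernel
theorem c_rel_333 : allRange D.relOK 1336273 4366 = true := by decide +kernel
theorem c_rel_334 : allRange D.relOK 1340639 4387 = true := by decide +kernel
theorem c_rel_335 : allRange D.relOK 1345026 4473 = true := by decide +kernel

end Cfsg.Agent.Lib.Helper4.TCD.C12M22A
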