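import Cfsg.Agent.Lib.Helper4.TCD_C12M22A_Acc

namespace Cfsg.Agent.Lib.Helper4.TCD.C12M22A

open Cfsg.Agent.Lib.Helper4.TC

set_option maxRecDepth 100000
set_option Elab.async false

theorem c_rel_336 : allRange D.relOK 1349499 4329 = true := by decide +kernel
theorem c_rel_337 : allRange D.relOK 1353828 4313 = true := by decide +kernel
theorem c_rel_338 : allRange D.relOK 1358141 4344 = true := by decide +kernel
theorem c_rel_339 : allRange D.relOK 1362485 4449 = true := by decide +kernel
theorem c_rel_340 : allRange D.relOK 1366934 4355 = true := by decide +kernel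
theorem c_rel_341 : allRange D.relOK 1371289 4412 = true := by decide +kernel
theorem c_rel_342 : allRange D.relOK 1375701 4378 = true := by decide +kernel
theorem c_rel_343 : allRange D.relOK 1380079 4433 = true := by decide +kernel
theorem c_rel_344 : allRange D.relOK 1384512 4380 = true := by decide +kernel
theorem c_rel_345 : allRange D.relOK 1388892 4491 = true := by decide +kernel
theorem c_rel_346 : allRange D.relOK 1393383 4464 = true := by decide +kernel
theorem c_rel_347 : allRange D.relOK 1397847 4472 = true := by decide +kernel
theorem c_rel_348 : allRange D.relOK 1402319 4405 = true := by decide +kernel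
theorem c_rel_349 : allRange D.relOK 1406724 4412 = true := by decide +kernel
theorem c_rel_350 : allRange D.relOK 1411136 4454 = true := by decide +kernel
theorem c_rel_351 : allRange D.relOK 1415590 3174 = true := by decide +kernel
theorem c_fin_0 : allGrid (T.finOK D) 0 1200 10 = true := by decide +kernel
theorem c_fin_1 : allGrid (T.finOK D) 1200 1200 10 = true := by decide +kernel
theorem c_fin_2 : allGrid (T.finOK D) 2400 1200 10 = true := by decide +kernel
theorem c_fin_3 : allGrid (T.finOK D) 3600 1200 10 = true := by decide +kernel
theorem c_fin_4 : allGrid (T.finOK D) 4800 1200 10 = true := by decide +kernel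
theorem c_fin_5 : allGrid (T.finOK D) 6000 1200 10 = true := by decide +kernel
theorem c_fin_6 : allGrid (T.finOK D) 7200 1200 10 = true := by decide +kernel
theorem c_fin_7 : allGrid (T.finOK D) 8400 1200 10 = true := by decide +kernel
theorem c_fin_8 : allGrid (T.finOK D) 9600 1200 10 = true := by decide +kernel
theorem c_fin_9 : allGrid (T.finOK D) 10800 1200 10 = true := by decide +kernel
theorem c_fin_10 : allGrid (T.finOK D) 12000 1200 10 = true := by decide +kernel
theorem c_fin_11 : allGrid (T.finOK D) 13200 1200 10 = true := by decide +kernel
theorem c_fin_12 : allGrid (T.finOK D) 14400 1200 10 = true := by decide +kernel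
theorem c_fin_13 : allGrid (T.finOK D) 15600 1200 10 = true := by decide +kernel
theorem c_fin_14 : allGrid (T.finOK D) 16800 1200 10 = true := by decide +kernel
theorem c_fin_15 : allGrid (T.finOK D) 18000 1200 10 = true := by decide +kernel
theorem c_fin_16 : allGrid (T.finOK D) 19200 1200 10 = true := by decide +kernel
theorem c_fin_17 : allGrid (T.finOK D) 20400 1200 10 = true := by decide +kernel
theorem c_fin_18 : allGrid (T.finOK D) 21600 1200 10 = true := by decide +kernel
theorem c_fin_19 : allGrid (T.finOK D) 22800 1200 10 = true := by decide +kernel
theorem c_fin_20 : allGrid (T.finOK D) 24000 1200 10 = true := by decide +kernel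
theorem c_fin_21 : allGrid (T.finOK D) 25200 1200 10 = true := by decide +kernel
theorem c_fin_22 : allGrid (T.finOK D) 26400 1200 10 = true := by decide +kernel
theorem c_fin_23 : allGrid (T.finOK D) 27600 1200 10 = true := by decide +kernel
theorem c_fin_24 : allGrid (T.finOK D) 28800 1200 10 = true := by decide +kernel
theorem c_fin_25 : allGrid (T.finOK D) 30000 1200 10 = true := by decide +kernel
theorem c_fin_26 : allGrid (T.finOK D) 31200 1200 10 = true := by decide +kernel
theorem c_fin_27 : allGrid (T.finOK D) 32400 1200 10 = true := by decide +kernel
theorem c_fin_28 : allGrid (T.finOK D) 33600 1200 10 = true := by decide +kernel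
theorem c_fin_29 : allGrid (T.finOK D) 34800 1200 10 = true := by decide +kernel
theorem c_fin_30 : allGrid (T.finOK D) 36000 1200 10 = true := by decide +kernel
theorem c_fin_31 : allGrid (T.finOK D) 37200 1200 10 = true := by decide +kernel
theorem c_fin_32 : allGrid (T.finOK D) 38400 1200 10 = true := by decide +kernel
theorem c_fin_33 : allGrid (T.finOK D) 39600 1200 10 = true := by decide +kernel
theorem c_fin_34 : allGrid (T.finOK D) 40800 1200 10 = true := by decide +kernel
theorem c_fin_35 : allGrid (T.finOK D) 42000 1200 10 = true := by decide +kernel
theorem c_fin_36 : allGrid (T.finOK D) 43200 1200 10 = true := by decide +kernel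
theorem c_fin_37 : allGrid (T.finOK D) 44400 1200 10 = true := by decide +kernel
theorem c_fin_38 : allGrid (T.finOK D) 45600 1200 10 = true := by decide +kernel
theorem c_fin_39 : allGrid (T.finOK D) 46800 1200 10 = true := by decide +kernel
theorem c_fin_40 : allGrid (T.finOK D) 48000 1200 10 = true := by decide +kernel
theorem c_fin_41 : allGrid (T.finOK D) 49200 1200 10 = true := by decide +kernel

end Cfsg.Agent.Lib.Helper4.TCD.C12M22A
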