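import Cfsg.Agent.Lib.Helper4.TCD_C12M22A_Acc

namespace Cfsg.Agent.Lib.Helper4.TCD.C12M22A

open Cfsg.Agent.Lib.Helper4.TC

set_option maxRecDepth 100000
set_option Elab.async false

theorem c_fin_42 : allGrid (T.finOK D) 50400 1200 10 = true := by decide +kernel
theorem c_fin_43 : allGrid (T.finOK D) 51600 1200 10 = true := by decide +kernel
theorem c_fin_44 : allGrid (T.finOK D) 52800 1200 10 = true := by decide +kernel
theorem c_fin_45 : allGrid (T.finOK D) 54000 1200 10 = true := by decide +kernel
theorem c_fin_46 : allGrid (T.finOK D) 55200 1200 10 = true := by decide +kernel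
theorem c_fin_47 : allGrid (T.finOK D) 56400 1200 10 = true := by decide +kernel
theorem c_fin_48 : allGrid (T.finOK D) 57600 1200 10 = true := by decide +kernel
theorem c_fin_49 : allGrid (T.finOK D) 58800 1200 10 = true := by decide +kernel
theorem c_fin_50 : allGrid (T.finOK D) 60000 1200 10 = true := by decide +kernel
theorem c_fin_51 : allGrid (T.finOK D) 61200 1200 10 = true := by decide +kernel
theorem c_fin_52 : allGrid (T.finOK D) 62400 1200 10 = true := by decide +kernel
theorem c_fin_53 : allGrid (T.finOK D) 63600 1200 10 = true := by decide +kernel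
theorem c_fin_54 : allGrid (T.finOK D) 64800 1200 10 = true := by decide +kernel
theorem c_fin_55 : allGrid (T.finOK D) 66000 1200 10 = true := by decide +kernel
theorem c_fin_56 : allGrid (T.finOK D) 67200 1200 10 = true := by decide +kernel
theorem c_fin_57 : allGrid (T.finOK D) 68400 1200 10 = true := by decide +kernel
theorem c_fin_58 : allGrid (T.finOK D) 69600 1200 10 = true := by decide +kernel
theorem c_fin_59 : allGrid (T.finOK D) 70800 1200 10 = true := by decide +kernel
theorem c_fin_60 : allGrid (T.finOK D) 72000 1200 10 = true := by decide +kernel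
theorem c_fin_61 : allGrid (T.finOK D) 73200 1200 10 = true := by decide +kernel
theorem c_fin_62 : allGrid (T.finOK D) 74400 1200 10 = true := by decide +kernel
theorem c_fin_63 : allGrid (T.finOK D) 75600 1200 10 = true := by decide +kernel
theorem c_fin_64 : allGrid (T.finOK D) 76800 1200 10 = true := by decide +kernel
theorem c_fin_65 : allGrid (T.finOK D) 78000 1200 10 = true := by decide +kernel
theorem c_fin_66 : allGrid (T.finOK D) 79200 1200 10 = true := by decide +kernel
theorem c_fin_67 : allGrid (T.finOK D) 80400 1200 10 = true := by decide +kernel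
theorem c_fin_68 : allGrid (T.finOK D) 81600 1200 10 = true := by decide +kernel
theorem c_fin_69 : allGrid (T.finOK D) 82800 1200 10 = true := by decide +kernel
theorem c_fin_70 : allGrid (T.finOK D) 84000 1200 10 = true := by decide +kernel
theorem c_fin_71 : allGrid (T.finOK D) 85200 1200 10 = true := by decide +kernel
theorem c_fin_72 : allGrid (T.finOK D) 86400 1200 10 = true := by decide +kernel
theorem c_fin_73 : allGrid (T.finOK D) 87600 1200 10 = true := by decide +kernel
theorem c_fin_74 : allGrid (T.finOK D) 88800 1200 10 = true := by decide +kernel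
theorem c_fin_75 : allGrid (T.finOK D) 90000 1200 10 = true := by decide +kernel
theorem c_fin_76 : allGrid (T.finOK D) 91200 1200 10 = true := by decide +kernel
theorem c_fin_77 : allGrid (T.finOK D) 92400 1200 10 = true := by decide +kernel
theorem c_fin_78 : allGrid (T.finOK D) 93600 1200 10 = true := by decide +kernel
theorem c_fin_79 : allGrid (T.finOK D) 94800 1200 10 = true := by decide +kernel
theorem c_fin_80 : allGrid (T.finOK D) 96000 768 10 = true := by decide +kernel
theorem c_perm_0 : allGrid (T.permOK1 D) 0 3000 10 = true := by decide +kernel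
theorem c_perm_1 : allGrid (T.permOK1 D) 3000 3000 10 = true := by decide +kernel
theorem c_perm_2 : allGrid (T.permOK1 D) 6000 3000 10 = true := by decide +kernel
theorem c_perm_3 : allGrid (T.permOK1 D) 9000 3000 10 = true := by decide +kernel
theorem c_perm_4 : allGrid (T.permOK1 D) 12000 3000 10 = true := by decide +kernel
theorem c_perm_5 : allGrid (T.permOK1 D) 15000 3000 10 = true := by decide +kernel
theorem c_perm_6 : allGrid (T.permOK1 D) 18000 3000 10 = true := by decide +kernel
theorem c_perm_7 : allGrid (T.permOK1 D) 21000 3000 10 = true := by decide +kernel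
theorem c_perm_8 : allGrid (T.permOK1 D) 24000 3000 10 = true := by decide +kernel
theorem c_perm_9 : allGrid (T.permOK1 D) 27000 3000 10 = true := by decide +kernel
theorem c_perm_10 : allGrid (T.permOK1 D) 30000 3000 10 = true := by decide +kernel

end Cfsg.Agent.Lib.Helper4.TCD.C12M22A
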