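import Cfsg.Agent.Lib.Helper4.TCD_C12M22A_Acc

namespace Cfsg.Agent.Lib.Helper4.TCD.C12M22A

open Cfsg.Agent.Lib.Helper4.TC

set_option maxRecDepth 100000
set_option Elab.async false

theorem c_perm_11 : allGrid (T.permOK1 D) 33000 3000 10 = true := by decide +kernel
theorem c_perm_12 : allGrid (T.permOK1 D) 36000 3000 10 = true := by decide +kernel
theorem c_perm_13 : allGrid (T.permOK1 D) 39000 3000 10 = true := by decide +kernel
theorem c_perm_14 : allGrid (T.permOK1 D) 42000 3000 10 = true := by decide +kernel
theorem c_perm_15 : allGrid (T.permOK1 D) 45000 3000 10 = true := by decide +kernel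
theorem c_perm_16 : allGrid (T.permOK1 D) 48000 3000 10 = true := by decide +kernel
theorem c_perm_17 : allGrid (T.permOK1 D) 51000 3000 10 = true := by decide +kernel
theorem c_perm_18 : allGrid (T.permOK1 D) 54000 3000 10 = true := by decide +kernel
theorem c_perm_19 : allGrid (T.permOK1 D) 57000 3000 10 = true := by decide +kernel
theorem c_perm_20 : allGrid (T.permOK1 D) 60000 3000 10 = true := by decide +kernel
theorem c_perm_21 : allGrid (T.permOK1 D) 63000 3000 10 = true := by decide +kernel
theorem c_perm_22 : allGrid (T.permOK1 D) 66000 3000 10 = true := by decide +kernel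
theorem c_perm_23 : allGrid (T.permOK1 D) 69000 3000 10 = true := by decide +kernel
theorem c_perm_24 : allGrid (T.permOK1 D) 72000 3000 10 = true := by decide +kernel
theorem c_perm_25 : allGrid (T.permOK1 D) 75000 3000 10 = true := by decide +kernel
theorem c_perm_26 : allGrid (T.permOK1 D) 78000 3000 10 = true := by decide +kernel
theorem c_perm_27 : allGrid (T.permOK1 D) 81000 3000 10 = true := by decide +kernel
theorem c_perm_28 : allGrid (T.permOK1 D) 84000 3000 10 = true := by decide +kernel
theorem c_perm_29 : allGrid (T.permOK1 D) 87000 3000 10 = true := by decide +kernel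
theorem c_perm_30 : allGrid (T.permOK1 D) 90000 3000 10 = true := by decide +kernel
theorem c_perm_31 : allGrid (T.permOK1 D) 93000 3000 10 = true := by decide +kernel
theorem c_perm_32 : allGrid (T.permOK1 D) 96000 768 10 = true := by decide +kernel
theorem c_act0_0 : allRange (fun i => Nat.beq (actR0 i) i) 0 10000 = true := by decide +kernel
theorem c_act0_1 : allRange (fun i => Nat.beq (actR0 i) i) 10000 10000 = true := by decide +kernel
theorem c_act0_2 : allRange (fun i => Nat.beq (actR0 i) i) 20000 10000 = true := by decide +kernel
theorem c_act0_3 : allRange (fun i => Nat.beq (actR0 i) i) 30000 10000 = true := by decide +kernel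
theorem c_act0_4 : allRange (fun i => Nat.beq (actR0 i) i) 40000 10000 = true := by decide +kernel
theorem c_act0_5 : allRange (fun i => Nat.beq (actR0 i) i) 50000 10000 = true := by decide +kernel
theorem c_act0_6 : allRange (fun i => Nat.beq (actR0 i) i) 60000 10000 = true := by decide +kernel
theorem c_act0_7 : allRange (fun i => Nat.beq (actR0 i) i) 70000 10000 = true := by decide +kernel
theorem c_act0_8 : allRange (fun i => Nat.beq (actR0 i) i) 80000 10000 = true := by decide +kernel
theorem c_act0_9 : allRange (fun i => Nat.beq (actR0 i) i) 90000 6768 = true := by decide +kernel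
theorem c_act1_0 : allRange (fun i => Nat.beq (actR1 i) i) 0 15000 = true := by decide +kernel
theorem c_act1_1 : allRange (fun i => Nat.beq (actR1 i) i) 15000 15000 = true := by decide +kernel
theorem c_act1_2 : allRange (fun i => Nat.beq (actR1 i) i) 30000 15000 = true := by decide +kernel
theorem c_act1_3 : allRange (fun i => Nat.beq (actR1 i) i) 45000 15000 = true := by decide +kernel
theorem c_act1_4 : allRange (fun i => Nat.beq (actR1 i) i) 60000 15000 = true := by decide +kernel
theorem c_act1_5 : allRange (fun i => Nat.beq (actR1 i) i) 75000 15000 = true := by decide +kernel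
theorem c_act1_6 : allRange (fun i => Nat.beq (actR1 i) i) 90000 6768 = true := by decide +kernel
theorem c_act2_0 : allRange (fun i => Nat.beq (actR2 i) i) 0 15000 = true := by decide +kernel
theorem c_act2_1 : allRange (fun i => Nat.beq (actR2 i) i) 15000 15000 = true := by decide +kernel
theorem c_act2_2 : allRange (fun i => Nat.beq (actR2 i) i) 30000 15000 = true := by decide +kernel
theorem c_act2_3 : allRange (fun i => Nat.beq (actR2 i) i) 45000 15000 = true := by decide +kernel
theorem c_act2_4 : allRange (fun i => Nat.beq (actR2 i) i) 60000 15000 = true := by decide +kernel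
theorem c_act2_5 : allRange (fun i => Nat.beq (actR2 i) i) 75000 15000 = true := by decide +kernel
theorem c_act2_6 : allRange (fun i => Nat.beq (actR2 i) i) 90000 6768 = true := by decide +kernel
theorem c_act3_0 : allRange (fun i => Nat.beq (actR3 i) i) 0 20000 = true := by decide +kernel
theorem c_act3_1 : allRange (fun i => Nat.beq (actR3 i) i) 20000 20000 = true := by decide +kernel
theorem c_act3_2 : allRange (fun i => Nat.beq (actR3 i) i) 40000 20000 = true := by decide +kernel
theorem c_act3_3 : allRange (fun i => Nat.beq (actR3 i) i) 60000 20000 = true := by decide +kernel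
theorem c_act3_4 : allRange (fun i => Nat.beq (actR3 i) i) 80000 16768 = true := by decide +kernel
theorem c_act4_0 : allRange (fun i => Nat.beq (actR4 i) i) 0 12000 = true := by decide +kernel

end Cfsg.Agent.Lib.Helper4.TCD.C12M22A
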