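import Cfsg.Agent.Lib.Helper4.TCD_C12M22A_Acc

namespace Cfsg.Agent.Lib.Helper4.TCD.C12M22A

open Cfsg.Agent.Lib.Helper4.TC

set_option maxRecDepth 100000
set_option Elab.async false

theorem c_act4_1 : allRange (fun i => Nat.beq (actR4 i) i) 12000 12000 = true := by decide +kernel
theorem c_act4_2 : allRange (fun i => Nat.beq (actR4 i) i) 24000 12000 = true := by decide +kernel
theorem c_act4_3 : allRange (fun i => Nat.beq (actR4 i) i) 36000 12000 = true := by decide +kernel
theorem c_act4_4 : allRange (fun i => Nat.beq (actR4 i) i) 48000 12000 = true := by decide +kernel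
theorem c_act4_5 : allRange (fun i => Nat.beq (actR4 i) i) 60000 12000 = true := by decide +kernel
theorem c_act4_6 : allRange (fun i => Nat.beq (actR4 i) i) 72000 12000 = true := by decide +kernel
theorem c_act4_7 : allRange (fun i => Nat.beq (actR4 i) i) 84000 12000 = true := by decide +kernel
theorem c_act4_8 : allRange (fun i => Nat.beq (actR4 i) i) 96000 768 = true := by decide +kernel
theorem c_act5_0 : allRange (fun i => Nat.beq (actR5 i) i) 0 4285 = true := by decide +kernel
theorem c_act5_1 : allRange (fun i => Nat.beq (actR5 i) i) 4285 4285 = true := by decide +kernel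
theorem c_act5_2 : allRange (fun i => Nat.beq (actR5 i) i) 8570 4285 = true := by decide +kernel
theorem c_act5_3 : allRange (fun i => Nat.beq (actR5 i) i) 12855 4285 = true := by decide +kernel
theorem c_act5_4 : allRange (fun i => Nat.beq (actR5 i) i) 17140 4285 = true := by decide +kernel
theorem c_act5_5 : allRange (fun i => Nat.beq (actR5 i) i) 21425 4285 = true := by decide +kernel
theorem c_act5_6 : allRange (fun i => Nat.beq (actR5 i) i) 25710 4285 = true := by decide +kernel
theorem c_act5_7 : allRange (fun i => Nat.beq (actR5 i) i) 29995 4285 = true := by decide +kernel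
theorem c_act5_8 : allRange (fun i => Nat.beq (actR5 i) i) 34280 4285 = true := by decide +kernel
theorem c_act5_9 : allRange (fun i => Nat.beq (actR5 i) i) 38565 4285 = true := by decide +kernel
theorem c_act5_10 : allRange (fun i => Nat.beq (actR5 i) i) 42850 4285 = true := by decide +kernel
theorem c_act5_11 : allRange (fun i => Nat.beq (actR5 i) i) 47135 4285 = true := by decide +kernel
theorem c_act5_12 : allRange (fun i => Nat.beq (actR5 i) i) 51420 4285 = true := by decide +kernel
theorem c_act5_13 : allRange (fun i => Nat.beq (actR5 i) i) 55705 4285 = true := by decide +kernel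
theorem c_act5_14 : allRange (fun i => Nat.beq (actR5 i) i) 59990 4285 = true := by decide +kernel
theorem c_act5_15 : allRange (fun i => Nat.beq (actR5 i) i) 64275 4285 = true := by decide +kernel
theorem c_act5_16 : allRange (fun i => Nat.beq (actR5 i) i) 68560 4285 = true := by decide +kernel
theorem c_act5_17 : allRange (fun i => Nat.beq (actR5 i) i) 72845 4285 = true := by decide +kernel
theorem c_act5_18 : allRange (fun i => Nat.beq (actR5 i) i) 77130 4285 = true := by decide +kernel
theorem c_act5_19 : allRange (fun i => Nat.beq (actR5 i) i) 81415 4285 = true := by decide +kernel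
theorem c_act5_20 : allRange (fun i => Nat.beq (actR5 i) i) 85700 4285 = true := by decide +kernel
theorem c_act5_21 : allRange (fun i => Nat.beq (actR5 i) i) 89985 4285 = true := by decide +kernel
theorem c_act5_22 : allRange (fun i => Nat.beq (actR5 i) i) 94270 2498 = true := by decide +kernel
theorem c_act6_0 : allRange (fun i => Nat.beq (actR6 i) i) 0 6666 = true := by decide +kernel
theorem c_act6_1 : allRange (fun i => Nat.beq (actR6 i) i) 6666 6666 = true := by decide +kernel
theorem c_act6_2 : allRange (fun i => Nat.beq (actR6 i) i) 13332 6666 = true := by decide +kernel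
theorem c_act6_3 : allRange (fun i => Nat.beq (actR6 i) i) 19998 6666 = true := by decide +kernel
theorem c_act6_4 : allRange (fun i => Nat.beq (actR6 i) i) 26664 6666 = true := by decide +kernel
theorem c_act6_5 : allRange (fun i => Nat.beq (actR6 i) i) 33330 6666 = true := by decide +kernel
theorem c_act6_6 : allRange (fun i => Nat.beq (actR6 i) i) 39996 6666 = true := by decide +kernel
theorem c_act6_7 : allRange (fun i => Nat.beq (actR6 i) i) 46662 6666 = true := by decide +kernel
theorem c_act6_8 : allRange (fun i => Nat.beq (actR6 i) i) 53328 6666 = true := by decide +kernel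
theorem c_act6_9 : allRange (fun i => Nat.beq (actR6 i) i) 59994 6666 = true := by decide +kernel
theorem c_act6_10 : allRange (fun i => Nat.beq (actR6 i) i) 66660 6666 = true := by decide +kernel
theorem c_act6_11 : allRange (fun i => Nat.beq (actR6 i) i) 73326 6666 = true := by decide +kernel
theorem c_act6_12 : allRange (fun i => Nat.beq (actR6 i) i) 79992 6666 = true := by decide +kernel
theorem c_act6_13 : allRange (fun i => Nat.beq (actR6 i) i) 86658 6666 = true := by decide +kernel
theorem c_act6_14 : allRange (fun i => Nat.beq (actR6 i) i) 93324 3444 = true := by decide +kernel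
theorem c_act7_0 : allRange (fun i => Nat.beq (actR7 i) i) 0 4000 = true := by decide +kernel
theorem c_act7_1 : allRange (fun i => Nat.beq (actR7 i) i) 4000 4000 = true := by decide +kernel
theorem c_act7_2 : allRange (fun i => Nat.beq (actR7 i) i) 8000 4000 = true := by decide +kernel
theorem c_act7_3 : allRange (fun i => Nat.beq (actR7 i) i) 12000 4000 = true := by decide +kernel
theorem c_act7_4 : allRange (fun i => Nat.beq (actR7 i) i) 16000 4000 = true := by decide +kernel

end Cfsg.Agent.Lib.Helper4.TCD.C12M22A
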