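import Cfsg.Agent.Lib.Helper4.TCD_C12M22A_Acc

namespace Cfsg.Agent.Lib.Helper4.TCD.C12M22A

open Cfsg.Agent.Lib.Helper4.TC

set_option maxRecDepth 100000
set_option Elab.async false

theorem c_act7_5 : allRange (fun i => Nat.beq (actR7 i) i) 20000 4000 = true := by decide +kernel
theorem c_act7_6 : allRange (fun i => Nat.beq (actR7 i) i) 24000 4000 = true := by decide +kernel
theorem c_act7_7 : allRange (fun i => Nat.beq (actR7 i) i) 28000 4000 = true := by decide +kernel
theorem c_act7_8 : allRange (fun i => Nat.beq (actR7 i) i) 32000 4000 = true := by decide +kernel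
theorem c_act7_9 : allRange (fun i => Nat.beq (actR7 i) i) 36000 4000 = true := by decide +kernel
theorem c_act7_10 : allRange (fun i => Nat.beq (actR7 i) i) 40000 4000 = true := by decide +kernel
theorem c_act7_11 : allRange (fun i => Nat.beq (actR7 i) i) 44000 4000 = true := by decide +kernel
theorem c_act7_12 : allRange (fun i => Nat.beq (actR7 i) i) 48000 4000 = true := by decide +kernel
theorem c_act7_13 : allRange (fun i => Nat.beq (actR7 i) i) 52000 4000 = true := by decide +kernel
theorem c_act7_14 : allRange (fun i => Nat.beq (actR7 i) i) 56000 4000 = true := by decide +kernel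
theorem c_act7_15 : allRange (fun i => Nat.beq (actR7 i) i) 60000 4000 = true := by decide +kernel
theorem c_act7_16 : allRange (fun i => Nat.beq (actR7 i) i) 64000 4000 = true := by decide +kernel
theorem c_act7_17 : allRange (fun i => Nat.beq (actR7 i) i) 68000 4000 = true := by decide +kernel
theorem c_act7_18 : allRange (fun i => Nat.beq (actR7 i) i) 72000 4000 = true := by decide +kernel
theorem c_act7_19 : allRange (fun i => Nat.beq (actR7 i) i) 76000 4000 = true := by decide +kernel
theorem c_act7_20 : allRange (fun i => Nat.beq (actR7 i) i) 80000 4000 = true := by decide +kernel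
theorem c_act7_21 : allRange (fun i => Nat.beq (actR7 i) i) 84000 4000 = true := by decide +kernel
theorem c_act7_22 : allRange (fun i => Nat.beq (actR7 i) i) 88000 4000 = true := by decide +kernel
theorem c_act7_23 : allRange (fun i => Nat.beq (actR7 i) i) 92000 4000 = true := by decide +kernel
theorem c_act7_24 : allRange (fun i => Nat.beq (actR7 i) i) 96000 768 = true := by decide +kernel
theorem c_act8_0 : allRange (fun i => Nat.beq (actR8 i) i) 0 5454 = true := by decide +kernel
theorem c_act8_1 : allRange (fun i => Nat.beq (actR8 i) i) 5454 5454 = true := by decide +kernel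
theorem c_act8_2 : allRange (fun i => Nat.beq (actR8 i) i) 10908 5454 = true := by decide +kernel
theorem c_act8_3 : allRange (fun i => Nat.beq (actR8 i) i) 16362 5454 = true := by decide +kernel
theorem c_act8_4 : allRange (fun i => Nat.beq (actR8 i) i) 21816 5454 = true := by decide +kernel
theorem c_act8_5 : allRange (fun i => Nat.beq (actR8 i) i) 27270 5454 = true := by decide +kernel
theorem c_act8_6 : allRange (fun i => Nat.beq (actR8 i) i) 32724 5454 = true := by decide +kernel
theorem c_act8_7 : allRange (fun i => Nat.beq (actR8 i) i) 38178 5454 = true := by decide +kernel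
theorem c_act8_8 : allRange (fun i => Nat.beq (actR8 i) i) 43632 5454 = true := by decide +kernel
theorem c_act8_9 : allRange (fun i => Nat.beq (actR8 i) i) 49086 5454 = true := by decide +kernel
theorem c_act8_10 : allRange (fun i => Nat.beq (actR8 i) i) 54540 5454 = true := by decide +kernel
theorem c_act8_11 : allRange (fun i => Nat.beq (actR8 i) i) 59994 5454 = true := by decide +kernel
theorem c_act8_12 : allRange (fun i => Nat.beq (actR8 i) i) 65448 5454 = true := by decide +kernel
theorem c_act8_13 : allRange (fun i => Nat.beq (actR8 i) i) 70902 5454 = true := by decide +kernel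
theorem c_act8_14 : allRange (fun i => Nat.beq (actR8 i) i) 76356 5454 = true := by decide +kernel
theorem c_act8_15 : allRange (fun i => Nat.beq (actR8 i) i) 81810 5454 = true := by decide +kernel
theorem c_act8_16 : allRange (fun i => Nat.beq (actR8 i) i) 87264 5454 = true := by decide +kernel
theorem c_act8_17 : allRange (fun i => Nat.beq (actR8 i) i) 92718 4050 = true := by decide +kernel
theorem c_act9_0 : allRange (fun i => Nat.beq (actR9 i) i) 0 7500 = true := by decide +kernel
theorem c_act9_1 : allRange (fun i => Nat.beq (actR9 i) i) 7500 7500 = true := by decide +kernel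
theorem c_act9_2 : allRange (fun i => Nat.beq (actR9 i) i) 15000 7500 = true := by decide +kernel
theorem c_act9_3 : allRange (fun i => Nat.beq (actR9 i) i) 22500 7500 = true := by decide +kernel
theorem c_act9_4 : allRange (fun i => Nat.beq (actR9 i) i) 30000 7500 = true := by decide +kernel
theorem c_act9_5 : allRange (fun i => Nat.beq (actR9 i) i) 37500 7500 = true := by decide +kernel
theorem c_act9_6 : allRange (fun i => Nat.beq (actR9 i) i) 45000 7500 = true := by decide +kernel
theorem c_act9_7 : allRange (fun i => Nat.beq (actR9 i) i) 52500 7500 = true := by decide +kernel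
theorem c_act9_8 : allRange (fun i => Nat.beq (actR9 i) i) 60000 7500 = true := by decide +kernel
theorem c_act9_9 : allRange (fun i => Nat.beq (actR9 i) i) 67500 7500 = true := by decide +kernel
theorem c_act9_10 : allRange (fun i => Nat.beq (actR9 i) i) 75000 7500 = true := by decide +kernel
theorem c_act9_11 : allRange (fun i => Nat.beq (actR9 i) i) 82500 7500 = true := by decide +kernel
theorem c_act9_12 : allRange (fun i => Nat.beq (actR9 i) i) 90000 6768 = true := by decide +kernel

end Cfsg.Agent.Lib.Helper4.TCD.C12M22A
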