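import Cfsg.Agent.Lib.Helper4.TCD_C12M22A_Acc

namespace Cfsg.Agent.Lib.Helper4.TCD.C12M22A

open Cfsg.Agent.Lib.Helper4.TC

set_option maxRecDepth 100000
set_option Elab.async false

theorem c_act10_0 : allRange (fun i => Nat.beq (actR10 i) i) 0 20000 = true := by decide +kernel
theorem c_act10_1 : allRange (fun i => Nat.beq (actR10 i) i) 20000 20000 = true := by decide +kernel
theorem c_act10_2 : allRange (fun i => Nat.beq (actR10 i) i) 40000 20000 = true := by decide +kernel
theorem c_act10_3 : allRange (fun i => Nat.beq (actR10 i) i) 60000 20000 = true := by decide +kernel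
theorem c_act10_4 : allRange (fun i => Nat.beq (actR10 i) i) 80000 16768 = true := by decide +kernel
theorem c_act11_0 : allRange (fun i => Nat.beq (actR11 i) i) 0 5000 = true := by decide +kernel
theorem c_act11_1 : allRange (fun i => Nat.beq (actR11 i) i) 5000 5000 = true := by decide +kernel
theorem c_act11_2 : allRange (fun i => Nat.beq (actR11 i) i) 10000 5000 = true := by decide +kernel
theorem c_act11_3 : allRange (fun i => Nat.beq (actR11 i) i) 15000 5000 = true := by decide +kernel
theorem c_act11_4 : allRange (fun i => Nat.beq (actR11 i) i) 20000 5000 = true := by decide +kernel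
theorem c_act11_5 : allRange (fun i => Nat.beq (actR11 i) i) 25000 5000 = true := by decide +kernel
theorem c_act11_6 : allRange (fun i => Nat.beq (actR11 i) i) 30000 5000 = true := by decide +kernel
theorem c_act11_7 : allRange (fun i => Nat.beq (actR11 i) i) 35000 5000 = true := by decide +kernel
theorem c_act11_8 : allRange (fun i => Nat.beq (actR11 i) i) 40000 5000 = true := by decide +kernel
theorem c_act11_9 : allRange (fun i => Nat.beq (actR11 i) i) 45000 5000 = true := by decide +kernel
theorem c_act11_10 : allRange (fun i => Nat.beq (actR11 i) i) 50000 5000 = true := by decide +kernel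
theorem c_act11_11 : allRange (fun i => Nat.beq (actR11 i) i) 55000 5000 = true := by decide +kernel
theorem c_act11_12 : allRange (fun i => Nat.beq (actR11 i) i) 60000 5000 = true := by decide +kernel
theorem c_act11_13 : allRange (fun i => Nat.beq (actR11 i) i) 65000 5000 = true := by decide +kernel
theorem c_act11_14 : allRange (fun i => Nat.beq (actR11 i) i) 70000 5000 = true := by decide +kernel
theorem c_act11_15 : allRange (fun i => Nat.beq (actR11 i) i) 75000 5000 = true := by decide +kernel
theorem c_act11_16 : allRange (fun i => Nat.beq (actR11 i) i) 80000 5000 = true := by decide +kernel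
theorem c_act11_17 : allRange (fun i => Nat.beq (actR11 i) i) 85000 5000 = true := by decide +kernel
theorem c_act11_18 : allRange (fun i => Nat.beq (actR11 i) i) 90000 5000 = true := by decide +kernel
theorem c_act11_19 : allRange (fun i => Nat.beq (actR11 i) i) 95000 1768 = true := by decide +kernel
theorem c_act12_0 : allRange (fun i => Nat.beq (actR12 i) i) 0 15000 = true := by decide +kernel
theorem c_act12_1 : allRange (fun i => Nat.beq (actR12 i) i) 15000 15000 = true := by decide +kernel
theorem c_act12_2 : allRange (fun i => Nat.beq (actR12 i) i) 30000 15000 = true := by decide +kernel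
theorem c_act12_3 : allRange (fun i => Nat.beq (actR12 i) i) 45000 15000 = true := by decide +kernel
theorem c_act12_4 : allRange (fun i => Nat.beq (actR12 i) i) 60000 15000 = true := by decide +kernel
theorem c_act12_5 : allRange (fun i => Nat.beq (actR12 i) i) 75000 15000 = true := by decide +kernel
theorem c_act12_6 : allRange (fun i => Nat.beq (actR12 i) i) 90000 6768 = true := by decide +kernel
theorem c_act13_0 : allRange (fun i => Nat.beq (actR13 i) i) 0 15000 = true := by decide +kernel
theorem c_act13_1 : allRange (fun i => Nat.beq (actR13 i) i) 15000 15000 = true := by decide +kernel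
theorem c_act13_2 : allRange (fun i => Nat.beq (actR13 i) i) 30000 15000 = true := by decide +kernel
theorem c_act13_3 : allRange (fun i => Nat.beq (actR13 i) i) 45000 15000 = true := by decide +kernel
theorem c_act13_4 : allRange (fun i => Nat.beq (actR13 i) i) 60000 15000 = true := by decide +kernel
theorem c_act13_5 : allRange (fun i => Nat.beq (actR13 i) i) 75000 15000 = true := by decide +kernel
theorem c_act13_6 : allRange (fun i => Nat.beq (actR13 i) i) 90000 6768 = true := by decide +kernel
theorem c_act14_0 : allRange (fun i => Nat.beq (actR14 i) i) 0 15000 = true := by decide +kernel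
theorem c_act14_1 : allRange (fun i => Nat.beq (actR14 i) i) 15000 15000 = true := by decide +kernel
theorem c_act14_2 : allRange (fun i => Nat.beq (actR14 i) i) 30000 15000 = true := by decide +kernel
theorem c_act14_3 : allRange (fun i => Nat.beq (actR14 i) i) 45000 15000 = true := by decide +kernel
theorem c_act14_4 : allRange (fun i => Nat.beq (actR14 i) i) 60000 15000 = true := by decide +kernel
theorem c_act14_5 : allRange (fun i => Nat.beq (actR14 i) i) 75000 15000 = true := by decide +kernel
theorem c_act14_6 : allRange (fun i => Nat.beq (actR14 i) i) 90000 6768 = true := by decide +kernel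
theorem c_act15_0 : allRange (fun i => Nat.beq (actR15 i) i) 0 3333 = true := by decide +kernel
theorem c_act15_1 : allRange (fun i => Nat.beq (actR15 i) i) 3333 3333 = true := by decide +kernel
theorem c_act15_2 : allRange (fun i => Nat.beq (actR15 i) i) 6666 3333 = true := by decide +kernel
theorem c_act15_3 : allRange (fun i => Nat.beq (actR15 i) i) 9999 3333 = true := by decide +kernel
theorem c_act15_4 : allRange (fun i => Nat.beq (actR15 i) i) 13332 3333 = true := by decide +kernel
theorem c_act15_5 : allRange (fun i => Nat.beq (actR15 i) i) 16665 3333 = true := by decide +kernel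

end Cfsg.Agent.Lib.Helper4.TCD.C12M22A
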