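import Cfsg.Agent.Lib.Helper4.TCD_C12M22A_C0
import Cfsg.Agent.Lib.Helper4.TCD_C12M22A_C1
import Cfsg.Agent.Lib.Helper4.TCD_C12M22A_C2
import Cfsg.Agent.Lib.Helper4.TCD_C12M22A_C3
import Cfsg.Agent.Lib.Helper4.TCD_C12M22A_C4
import Cfsg.Agent.Lib.Helper4.TCD_C12M22A_C5
import Cfsg.Agent.Lib.Helper4.TCD_C12M22A_C6
import Cfsg.Agent.Lib.Helper4.TCD_C12M22A_C7
import Cfsg.Agent.Lib.Helper4.TCD_C12M22A_C8
import Cfsg.Agent.Lib.Helper4.TCD_C12M22A_C9
import Cfsg.Agent.Lib.Helper4.TCD_C12M22A_C10
import Cfsg.Agent.Lib.Helper4.TCD_C12M22A_C11

namespace Cfsg.Agent.Lib.Helper4.TCD.C12M22A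

open Cfsg.Agent.Lib.Helper4.TC

theorem h_rel_p0 : ∀ t, 326409 ≤ t → t < 472082 → D.relOK t = true :=
  (range_glue (range_of_allRange c_rel_0) (range_glue (range_of_allRange c_rel_1) (range_glue (range_of_allRange c_rel_2) (range_glue (range_of_allRange c_rel_3) (range_glue (range_of_allRange c_rel_4) (range_glue (range_of_allRange c_rel_5) (range_glue (range_of_allRange c_rel_6) (range_glue (range_of_allRange c_rel_7) (range_glue (range_of_allRange c_rel_8) (range_glue (range_of_allRange c_rel_9) (range_glue (range_of_allRange c_rel_10) (range_glue (range_of_allRange c_rel_11) (range_glue (range_of_allRange c_rel_12) (range_glue (range_of_allRange c_rel_13) (range_glue (range_of_allRange c_rel_14) (range_glue (range_of_allRange c_rel_15) (range_glue (range_of_allRange c_rel_16) (range_glue (range_of_allRange c_rel_17) (range_glue (range_of_allRange c_rel_18) (range_glue (range_of_allRange c_rel_19) (range_glue (range_of_allRange c_rel_20) (range_glue (range_of_allRange c_rel_21) (range_glue (range_of_allRange c_rel_22) (range_glue (range_of_allRange c_rel_23) (range_glue (range_of_allRange c_rel_24) (range_glue (range_of_allRange c_rel_25) (range_glue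 (range_of_allRange c_rel_26) (range_glue (range_of_allRange c_rel_27) (range_glue (range_of_allRange c_rel_28) (range_glue (range_of_allRange c_rel_29) (range_glue (range_of_allRange c_rel_30) (range_glue (range_of_allRange c_rel_31) (range_glue (range_of_allRange c_rel_32) (range_glue (range_of_allRange c_rel_33) (range_glue (range_of_allRange c_rel_34) (range_glue (range_of_allRange c_rel_35) (range_glue (range_of_allRange c_rel_36) (range_glue (range_of_allRange c_rel_37) (range_glue (range_of_allRange c_rel_38) (range_of_allRange c_rel_39))))))))))))))))))))))))))))))))))))))))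
theorem h_rel_p1 : ∀ t, 472082 ≤ t → t < 611365 → D.relOK t = true :=
  (range_glue (range_of_allRange c_rel_40) (range_glue (range_of_allRange c_rel_41) (range_glue (range_of_allRange c_rel_42) (range_glue (range_of_allRange c_rel_43) (range_glue (range_of_allRange c_rel_44) (range_glue (range_of_allRange c_rel_45) (range_glue (range_of_allRange c_rel_46) (range_glue (range_of_allRange c_rel_47) (range_glue (range_of_allRange c_rel_48) (range_glue (range_of_allRange c_rel_49) (range_glue (range_of_allRange c_rel_50) (range_glue (range_of_allRange c_rel_51) (range_glue (range_of_allRange c_rel_52) (range_glue (range_of_allRange c_rel_53) (range_glue (range_of_allRange c_rel_54) (range_glue (range_of_allRange c_rel_55) (range_glue (range_of_allRange c_rel_56) (range_glue (range_of_allRange c_rel_57) (range_glue (range_of_allRange c_rel_58) (range_glue (range_of_allRange c_rel_59) (range_glue (range_of_allRange c_rel_60) (range_glue (range_of_allRange c_rel_61) (range_glue (range_of_allRange c_rel_62) (range_glue (range_of_allRange c_rel_63) (range_glue (range_of_allRange c_rel_64) (range_glue (range_of_allRange c_rel_65) (range_glue (range_of_allRange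 c_rel_66) (range_glue (range_of_allRange c_rel_67) (range_glue (range_of_allRange c_rel_68) (range_glue (range_of_allRange c_rel_69) (range_glue (range_of_allRange c_rel_70) (range_glue (range_of_allRange c_rel_71) (range_glue (range_of_allRange c_rel_72) (range_glue (range_of_allRange c_rel_73) (range_glue (range_of_allRange c_rel_74) (range_glue (range_of_allRange c_rel_75) (range_glue (range_of_allRange c_rel_76) (range_glue (range_of_allRange c_rel_77) (range_glue (range_of_allRange c_rel_78) (range_of_allRange c_rel_79))))))))))))))))))))))))))))))))))))))))
theorem h_rel_p2 : ∀ t, 611365 ≤ t → t < 745039 → D.relOK t = true :=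
  (range_glue (range_of_allRange c_rel_80) (range_glue (range_of_allRange c_rel_81) (range_glue (range_of_allRange c_rel_82) (range_glue (range_of_allRange c_rel_83) (range_glue (range_of_allRange c_rel_84) (range_glue (range_of_allRange c_rel_85) (range_glue (range_of_allRange c_rel_86) (range_glue (range_of_allRange c_rel_87) (range_glue (range_of_allRange c_rel_88) (range_glue (range_of_allRange c_rel_89) (range_glue (range_of_allRange c_rel_90) (range_glue (range_of_allRange c_rel_91) (range_glue (range_of_allRange c_rel_92) (range_glue (range_of_allRange c_rel_93) (range_glue (range_of_allRange c_rel_94) (range_glue (range_of_allRange c_rel_95) (range_glue (range_of_allRange c_rel_96) (range_glue (range_of_allRange c_rel_97) (range_glue (range_of_allRange c_rel_98) (range_glue (range_of_allRange c_rel_99) (range_glue (range_of_allRange c_rel_100) (range_glue (range_of_allRange c_rel_101) (range_glue (range_of_allRange c_rel_102) (range_glue (range_of_allRange c_rel_103) (range_glue (range_of_allRange c_rel_104) (range_glue (range_of_allRange c_rel_105) (range_glue (range_of_allRange c_rel_106) (range_glue (range_of_allRange c_rel_107) (range_glue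 (range_of_allRange c_rel_108) (range_glue (range_of_allRange c_rel_109) (range_glue (range_of_allRange c_rel_110) (range_glue (range_of_allRange c_rel_111) (range_glue (range_of_allRange c_rel_112) (range_glue (range_of_allRange c_rel_113) (range_glue (range_of_allRange c_rel_114) (range_glue (range_of_allRange c_rel_115) (range_glue (range_of_allRange c_rel_116) (range_glue (range_of_allRange c_rel_117) (range_glue (range_of_allRange c_rel_118) (range_of_allRange c_rel_119))))))))))))))))))))))))))))))))))))))))
theorem h_rel_p3 : ∀ t, 745039 ≤ t → t < 846657 → D.relOK t = true :=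
  (range_glue (range_of_allRange c_rel_120) (range_glue (range_of_allRange c_rel_121) (range_glue (range_of_allRange c_rel_122) (range_glue (range_of_allRange c_rel_123) (range_glue (range_of_allRange c_rel_124) (range_glue (range_of_allRange c_rel_125) (range_glue (range_of_allRange c_rel_126) (range_glue (range_of_allRange c_rel_127) (range_glue (range_of_allRange c_rel_128) (range_glue (range_of_allRange c_rel_129) (range_glue (range_of_allRange c_rel_130) (range_glue (range_of_allRange c_rel_131) (range_glue (range_of_allRange c_rel_132) (range_glue (range_of_allRange c_rel_133) (range_glue (range_of_allRange c_rel_134) (range_glue (range_of_allRange c_rel_135) (range_glue (range_of_allRange c_rel_136) (range_glue (range_of_allRange c_rel_137) (range_glue (range_of_allRange c_rel_138) (range_glue (range_of_allRange c_rel_139) (range_glue (range_of_allRange c_rel_140) (range_glue (range_of_allRange c_rel_141) (range_glue (range_of_allRange c_rel_142) (range_glue (range_of_allRange c_rel_143) (range_glue (range_of_allRange c_rel_144) (range_glue (range_of_allRange c_rel_145) (range_glue (range_of_allRange c_rel_146) (range_glue (range_of_allRange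 c_rel_147) (range_glue (range_of_allRange c_rel_148) (range_glue (range_of_allRange c_rel_149) (range_glue (range_of_allRange c_rel_150) (range_glue (range_of_allRange c_rel_151) (range_glue (range_of_allRange c_rel_152) (range_glue (range_of_allRange c_rel_153) (range_glue (range_of_allRange c_rel_154) (range_glue (range_of_allRange c_rel_155) (range_glue (range_of_allRange c_rel_156) (range_glue (range_of_allRange c_rel_157) (range_glue (range_of_allRange c_rel_158) (range_of_allRange c_rel_159))))))))))))))))))))))))))))))))))))))))
theorem h_rel_p4 : ∀ t, 846657 ≤ t → t < 903991 → D.relOK t = true :=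
  (range_glue (range_of_allRange c_rel_160) (range_glue (range_of_allRange c_rel_161) (range_glue (range_of_allRange c_rel_162) (range_glue (range_of_allRange c_rel_163) (range_glue (range_of_allRange c_rel_164) (range_glue (range_of_allRange c_rel_165) (range_glue (range_of_allRange c_rel_166) (range_glue (range_of_allRange c_rel_167) (range_glue (range_of_allRange c_rel_168) (range_glue (range_of_allRange c_rel_169) (range_glue (range_of_allRange c_rel_170) (range_glue (range_of_allRange c_rel_171) (range_glue (range_of_allRange c_rel_172) (range_glue (range_of_allRange c_rel_173) (range_glue (range_of_allRange c_rel_174) (range_glue (range_of_allRange c_rel_175) (range_glue (range_of_allRange c_rel_176) (range_glue (range_of_allRange c_rel_177) (range_glue (range_of_allRange c_rel_178) (range_glue (range_of_allRange c_rel_179) (range_glue (range_of_allRange c_rel_180) (range_glue (range_of_allRange c_rel_181) (range_glue (range_of_allRange c_rel_182) (range_glue (range_of_allRange c_rel_183) (range_glue (range_of_allRange c_rel_184) (range_glue (range_of_allRange c_rel_185) (range_glue (range_of_allRange c_rel_186) (range_glue (range_of_allRange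 c_rel_187) (range_glue (range_of_allRange c_rel_188) (range_glue (range_of_allRange c_rel_189) (range_glue (range_of_allRange c_rel_190) (range_glue (range_of_allRange c_rel_191) (range_glue (range_of_allRange c_rel_192) (range_glue (range_of_allRange c_rel_193) (range_glue (range_of_allRange c_rel_194) (range_glue (range_of_allRange c_rel_195) (range_glue (range_of_allRange c_rel_196) (range_glue (range_of_allRange c_rel_197) (range_glue (range_of_allRange c_rel_198) (range_of_allRange c_rel_199))))))))))))))))))))))))))))))))))))))))
theorem h_rel_p5 : ∀ t, 903991 ≤ t → t < 944891 → D.relOK t = true :=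
  (range_glue (range_of_allRange c_rel_200) (range_glue (range_of_allRange c_rel_201) (range_glue (range_of_allRange c_rel_202) (range_glue (range_of_allRange c_rel_203) (range_glue (range_of_allRange c_rel_204) (range_glue (range_of_allRange c_rel_205) (range_glue (range_of_allRange c_rel_206) (range_glue (range_of_allRange c_rel_207) (range_glue (range_of_allRange c_rel_208) (range_glue (range_of_allRange c_rel_209) (range_glue (range_of_allRange c_rel_210) (range_glue (range_of_allRange c_rel_211) (range_glue (range_of_allRange c_rel_212) (range_glue (range_of_allRange c_rel_213) (range_glue (range_of_allRange c_rel_214) (range_glue (range_of_allRange c_rel_215) (range_glue (range_of_allRange c_rel_216) (range_glue (range_of_allRange c_rel_217) (range_glue (range_of_allRange c_rel_218) (range_glue (range_of_allRange c_rel_219) (range_glue (range_of_allRange c_rel_220) (range_glue (range_of_allRange c_rel_221) (range_glue (range_of_allRange c_rel_222) (range_glue (range_of_allRange c_rel_223) (range_glue (range_of_allRange c_rel_224) (range_glue (range_of_allRange c_rel_225) (range_glue (range_of_allRange c_rel_226) (range_glue (range_of_allRange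 c_rel_227) (range_glue (range_of_allRange c_rel_228) (range_glue (range_of_allRange c_rel_229) (range_glue (range_of_allRange c_rel_230) (range_glue (range_of_allRange c_rel_231) (range_glue (range_of_allRange c_rel_232) (range_glue (range_of_allRange c_rel_233) (range_glue (range_of_allRange c_rel_234) (range_glue (range_of_allRange c_rel_235) (range_glue (range_of_allRange c_rel_236) (range_glue (range_of_allRange c_rel_237) (range_glue (range_of_allRange c_rel_238) (range_of_allRange c_rel_239))))))))))))))))))))))))))))))))))))))))
theorem h_rel_p6 : ∀ t, 944891 ≤ t → t < 1094897 → D.relOK t = true :=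
  (range_glue (range_of_allRange c_rel_240) (range_glue (range_of_allRange c_rel_241) (range_glue (range_of_allRange c_rel_242) (range_glue (range_of_allRange c_rel_243) (range_glue (range_of_allRange c_rel_244) (range_glue (range_of_allRange c_rel_245) (range_glue (range_of_allRange c_rel_246) (range_glue (range_of_allRange c_rel_247) (range_glue (range_of_allRange c_rel_248) (range_glue (range_of_allRange c_rel_249) (range_glue (range_of_allRange c_rel_250) (range_glue (range_of_allRange c_rel_251) (range_glue (range_of_allRange c_rel_252) (range_glue (range_of_allRange c_rel_253) (range_glue (range_of_allRange c_rel_254) (range_glue (range_of_allRange c_rel_255) (range_glue (range_of_allRange c_rel_256) (range_glue (range_of_allRange c_rel_257) (range_glue (range_of_allRange c_rel_258) (range_glue (range_of_allRange c_rel_259) (range_glue (range_of_allRange c_rel_260) (range_glue (range_of_allRange c_rel_261) (range_glue (range_of_allRange c_rel_262) (range_glue (range_of_allRange c_rel_263) (range_glue (range_of_allRange c_rel_264) (range_glue (range_of_allRange c_rel_265) (range_glue (range_of_allRange c_rel_266) (range_glue (range_of_allRange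 c_rel_267) (range_glue (range_of_allRange c_rel_268) (range_glue (range_of_allRange c_rel_269) (range_glue (range_of_allRange c_rel_270) (range_glue (range_of_allRange c_rel_271) (range_glue (range_of_allRange c_rel_272) (range_glue (range_of_allRange c_rel_273) (range_glue (range_of_allRange c_rel_274) (range_glue (range_of_allRange c_rel_275) (range_glue (range_of_allRange c_rel_276) (range_glue (range_of_allRange c_rel_277) (range_glue (range_of_allRange c_rel_278) (range_of_allRange c_rel_279))))))))))))))))))))))))))))))))))))))))
theorem h_rel_p7 : ∀ t, 1094897 ≤ t → t < 1280215 → D.relOK t = true :=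
  (range_glue (range_of_allRange c_rel_280) (range_glue (range_of_allRange c_rel_281) (range_glue (range_of_allRange c_rel_282) (range_glue (range_of_allRange c_rel_283) (range_glue (range_of_allRange c_rel_284) (range_glue (range_of_allRange c_rel_285) (range_glue (range_of_allRange c_rel_286) (range_glue (range_of_allRange c_rel_287) (range_glue (range_of_allRange c_rel_288) (range_glue (range_of_allRange c_rel_289) (range_glue (range_of_allRange c_rel_290) (range_glue (range_of_allRange c_rel_291) (range_glue (range_of_allRange c_rel_292) (range_glue (range_of_allRange c_rel_293) (range_glue (range_of_allRange c_rel_294) (range_glue (range_of_allRange c_rel_295) (range_glue (range_of_allRange c_rel_296) (range_glue (range_of_allRange c_rel_297) (range_glue (range_of_allRange c_rel_298) (range_glue (range_of_allRange c_rel_299) (range_glue (range_of_allRange c_rel_300) (range_glue (range_of_allRange c_rel_301) (range_glue (range_of_allRange c_rel_302) (range_glue (range_of_allRange c_rel_303) (range_glue (range_of_allRange c_rel_304) (range_glue (range_of_allRange c_rel_305) (range_glue (range_of_allRange c_rel_306) (range_glue (range_of_allRange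 c_rel_307) (range_glue (range_of_allRange c_rel_308) (range_glue (range_of_allRange c_rel_309) (range_glue (range_of_allRange c_rel_310) (range_glue (range_of_allRange c_rel_311) (range_glue (range_of_allRange c_rel_312) (range_glue (range_of_allRange c_rel_313) (range_glue (range_of_allRange c_rel_314) (range_glue (range_of_allRange c_rel_315) (range_glue (range_of_allRange c_rel_316) (range_glue (range_of_allRange c_rel_317) (range_glue (range_of_allRange c_rel_318) (range_of_allRange c_rel_319))))))))))))))))))))))))))))))))))))))))
theorem h_rel_p8 : ∀ t, 1280215 ≤ t → t < 1418764 → D.relOK t = true :=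
  (range_glue (range_of_allRange c_rel_320) (range_glue (range_of_allRange c_rel_321) (range_glue (range_of_allRange c_rel_322) (range_glue (range_of_allRange c_rel_323) (range_glue (range_of_allRange c_rel_324) (range_glue (range_of_allRange c_rel_325) (range_glue (range_of_allRange c_rel_326) (range_glue (range_of_allRange c_rel_327) (range_glue (range_of_allRange c_rel_328) (range_glue (range_of_allRange c_rel_329) (range_glue (range_of_allRange c_rel_330) (range_glue (range_of_allRange c_rel_331) (range_glue (range_of_allRange c_rel_332) (range_glue (range_of_allRange c_rel_333) (range_glue (range_of_allRange c_rel_334) (range_glue (range_of_allRange c_rel_335) (range_glue (range_of_allRange c_rel_336) (range_glue (range_of_allRange c_rel_337) (range_glue (range_of_allRange c_rel_338) (range_glue (range_of_allRange c_rel_339) (range_glue (range_of_allRange c_rel_340) (range_glue (range_of_allRange c_rel_341) (range_glue (range_of_allRange c_rel_342) (range_glue (range_of_allRange c_rel_343) (range_glue (range_of_allRange c_rel_344) (range_glue (range_of_allRange c_rel_345) (range_glue (range_of_allRange c_rel_346) (range_glue (range_of_allRange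 c_rel_347) (range_glue (range_of_allRange c_rel_348) (range_glue (range_of_allRange c_rel_349) (range_glue (range_of_allRange c_rel_350) (range_of_allRange c_rel_351))))))))))))))))))))))))))))))))
theorem h_rel : ∀ t, 326409 ≤ t → t < 1418764 → D.relOK t = true :=
  (range_glue h_rel_p0 (range_glue h_rel_p1 (range_glue h_rel_p2 (range_glue h_rel_p3 (range_glue h_rel_p4 (range_glue h_rel_p5 (range_glue h_rel_p6 (range_glue h_rel_p7 h_rel_p8))))))))
theorem h_names : ∀ t, 1 ≤ t → t < 326405 → D.nameOK t = true :=
  (range_glue (range_of_allRange c_names_0) (range_glue (range_of_allRange c_names_1) (range_glue (range_of_allRange c_names_2) (range_glue (range_of_allRange c_names_3) (range_glue (range_of_allRange c_names_4) (range_of_allRange c_names_5))))))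
theorem h_cls : ∀ t, 1 ≤ t → t < 326405 → T.clsOK D t = true :=
  (range_glue (range_of_allRange c_cls_0) (range_glue (range_of_allRange c_cls_1) (range_glue (range_of_allRange c_cls_2) (range_glue (range_of_allRange c_cls_3) (range_glue (range_of_allRange c_cls_4) (range_glue (range_of_allRange c_cls_5) (range_glue (range_of_allRange c_cls_6) (range_glue (range_of_allRange c_cls_7) (range_glue (range_of_allRange c_cls_8) (range_glue (range_of_allRange c_cls_9) (range_glue (range_of_allRange c_cls_10) (range_glue (range_of_allRange c_cls_11) (range_glue (range_of_allRange c_cls_12) (range_glue (range_of_allRange c_cls_13) (range_glue (range_of_allRange c_cls_14) (range_glue (range_of_allRange c_cls_15) (range_glue (range_of_allRange c_cls_16) (range_glue (range_of_allRange c_cls_17) (range_glue (range_of_allRange c_cls_18) (range_glue (range_of_allRange c_cls_19) (range_glue (range_of_allRange c_cls_20) (range_of_allRange c_cls_21))))))))))))))))))))))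
theorem h_rep : ∀ t, 0 ≤ t → t < 96768 → T.repOK D t = true :=
  (range_glue (range_of_allRange c_rep_0) (range_glue (range_of_allRange c_rep_1) (range_glue (range_of_allRange c_rep_2) (range_of_allRange c_rep_3))))
theorem h_fin_p0 : ∀ i, 0 ≤ i → i < 48000 → ∀ x, x < 10 → T.finOK D i x = true :=
  (range_glue (range_of_allGrid c_fin_0) (range_glue (range_of_allGrid c_fin_1) (range_glue (range_of_allGrid c_fin_2) (range_glue (range_of_allGrid c_fin_3) (range_glue (range_of_allGrid c_fin_4) (range_glue (range_of_allGrid c_fin_5) (range_glue (range_of_allGrid c_fin_6) (range_glue (range_of_allGrid c_fin_7) (range_glue (range_of_allGrid c_fin_8) (range_glue (range_of_allGrid c_fin_9) (range_glue (range_of_allGrid c_fin_10) (range_glue (range_of_allGrid c_fin_11) (range_glue (range_of_allGrid c_fin_12) (range_glue (range_of_allGrid c_fin_13) (range_glue (range_of_allGrid c_fin_14) (range_glue (range_of_allGrid c_fin_15) (range_glue (range_of_allGrid c_fin_16) (range_glue (range_of_allGrid c_fin_17) (range_glue (range_of_allGrid c_fin_18) (range_glue (range_of_allGrid c_fin_19) (range_glue (range_of_allGrid c_fin_20) (range_glue (range_of_allGrid c_fin_21)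 (range_glue (range_of_allGrid c_fin_22) (range_glue (range_of_allGrid c_fin_23) (range_glue (range_of_allGrid c_fin_24) (range_glue (range_of_allGrid c_fin_25) (range_glue (range_of_allGrid c_fin_26) (range_glue (range_of_allGrid c_fin_27) (range_glue (range_of_allGrid c_fin_28) (range_glue (range_of_allGrid c_fin_29) (range_glue (range_of_allGrid c_fin_30) (range_glue (range_of_allGrid c_fin_31) (range_glue (range_of_allGrid c_fin_32) (range_glue (range_of_allGrid c_fin_33) (range_glue (range_of_allGrid c_fin_34) (range_glue (range_of_allGrid c_fin_35) (range_glue (range_of_allGrid c_fin_36) (range_glue (range_of_allGrid c_fin_37) (range_glue (range_of_allGrid c_fin_38) (range_of_allGrid c_fin_39))))))))))))))))))))))))))))))))))))))))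
theorem h_fin_p1 : ∀ i, 48000 ≤ i → i < 96000 → ∀ x, x < 10 → T.finOK D i x = true :=
  (range_glue (range_of_allGrid c_fin_40) (range_glue (range_of_allGrid c_fin_41) (range_glue (range_of_allGrid c_fin_42) (range_glue (range_of_allGrid c_fin_43) (range_glue (range_of_allGrid c_fin_44) (range_glue (range_of_allGrid c_fin_45) (range_glue (range_of_allGrid c_fin_46) (range_glue (range_of_allGrid c_fin_47) (range_glue (range_of_allGrid c_fin_48) (range_glue (range_of_allGrid c_fin_49) (range_glue (range_of_allGrid c_fin_50) (range_glue (range_of_allGrid c_fin_51) (range_glue (range_of_allGrid c_fin_52) (range_glue (range_of_allGrid c_fin_53) (range_glue (range_of_allGrid c_fin_54) (range_glue (range_of_allGrid c_fin_55) (range_glue (range_of_allGrid c_fin_56) (range_glue (range_of_allGrid c_fin_57) (range_glue (range_of_allGrid c_fin_58) (range_glue (range_of_allGrid c_fin_59) (range_glue (range_of_allGrid c_fin_60) (range_glue (range_of_allGrid c_fin_61) (range_glue (range_of_allGrid c_fin_62) (range_glue (range_of_allGrid c_fin_63) (range_glue (range_of_allGrid c_fin_64) (range_glue (range_of_allGrid c_fin_65) (range_glue (range_of_allGrid c_fin_66)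 (range_glue (range_of_allGrid c_fin_67) (range_glue (range_of_allGrid c_fin_68) (range_glue (range_of_allGrid c_fin_69) (range_glue (range_of_allGrid c_fin_70) (range_glue (range_of_allGrid c_fin_71) (range_glue (range_of_allGrid c_fin_72) (range_glue (range_of_allGrid c_fin_73) (range_glue (range_of_allGrid c_fin_74) (range_glue (range_of_allGrid c_fin_75) (range_glue (range_of_allGrid c_fin_76) (range_glue (range_of_allGrid c_fin_77) (range_glue (range_of_allGrid c_fin_78) (range_of_allGrid c_fin_79))))))))))))))))))))))))))))))))))))))))
theorem h_fin_p2 : ∀ i, 96000 ≤ i → i < 96768 → ∀ x, x < 10 → T.finOK D i x = true :=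
  (range_of_allGrid c_fin_80)
theorem h_fin : ∀ i, 0 ≤ i → i < 96768 → ∀ x, x < 10 → T.finOK D i x = true :=
  (range_glue h_fin_p0 (range_glue h_fin_p1 h_fin_p2))
theorem h_perm : ∀ i, 0 ≤ i → i < 96768 → ∀ x, x < 10 → T.permOK1 D i x = true :=
  (range_glue (range_of_allGrid c_perm_0) (range_glue (range_of_allGrid c_perm_1) (range_glue (range_of_allGrid c_perm_2) (range_glue (range_of_allGrid c_perm_3) (range_glue (range_of_allGrid c_perm_4) (range_glue (range_of_allGrid c_perm_5) (range_glue (range_of_allGrid c_perm_6) (range_glue (range_of_allGrid c_perm_7) (range_glue (range_of_allGrid c_perm_8) (range_glue (range_of_allGrid c_perm_9) (range_glue (range_of_allGrid c_perm_10) (range_glue (range_of_allGrid c_perm_11) (range_glue (range_of_allGrid c_perm_12) (range_glue (range_of_allGrid c_perm_13) (range_glue (range_of_allGrid c_perm_14) (range_glue (range_of_allGrid c_perm_15) (range_glue (range_of_allGrid c_perm_16) (range_glue (range_of_allGrid c_perm_17) (range_glue (range_of_allGrid c_perm_18) (range_glue (range_of_allGrid c_perm_19) (range_glue (range_of_allGrid c_perm_20) (range_glue (range_of_allGrid c_perm_21) (range_glue (range_of_allGrid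 c_perm_22) (range_glue (range_of_allGrid c_perm_23) (range_glue (range_of_allGrid c_perm_24) (range_glue (range_of_allGrid c_perm_25) (range_glue (range_of_allGrid c_perm_26) (range_glue (range_of_allGrid c_perm_27) (range_glue (range_of_allGrid c_perm_28) (range_glue (range_of_allGrid c_perm_29) (range_glue (range_of_allGrid c_perm_30) (range_glue (range_of_allGrid c_perm_31) (range_of_allGrid c_perm_32)))))))))))))))))))))))))))))))))
theorem h_act0 : ∀ i, 0 ≤ i → i < 96768 → Nat.beq (actR0 i) i = true :=
  (range_glue (range_of_allRange c_act0_0) (range_glue (range_of_allRange c_act0_1) (range_glue (range_of_allRange c_act0_2) (range_glue (range_of_allRange c_act0_3) (range_glue (range_of_allRange c_act0_4) (range_glue (range_of_allRange c_act0_5) (range_glue (range_of_allRange c_act0_6) (range_glue (range_of_allRange c_act0_7) (range_glue (range_of_allRange c_act0_8) (range_of_allRange c_act0_9))))))))))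
theorem h_act1 : ∀ i, 0 ≤ i → i < 96768 → Nat.beq (actR1 i) i = true :=
  (range_glue (range_of_allRange c_act1_0) (range_glue (range_of_allRange c_act1_1) (range_glue (range_of_allRange c_act1_2) (range_glue (range_of_allRange c_act1_3) (range_glue (range_of_allRange c_act1_4) (range_glue (range_of_allRange c_act1_5) (range_of_allRange c_act1_6)))))))
theorem h_act2 : ∀ i, 0 ≤ i → i < 96768 → Nat.beq (actR2 i) i = true :=
  (range_glue (range_of_allRange c_act2_0) (range_glue (range_of_allRange c_act2_1) (range_glue (range_of_allRange c_act2_2) (range_glue (range_of_allRange c_act2_3) (range_glue (range_of_allRange c_act2_4) (range_glue (range_of_allRange c_act2_5) (range_of_allRange c_act2_6)))))))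
theorem h_act3 : ∀ i, 0 ≤ i → i < 96768 → Nat.beq (actR3 i) i = true :=
  (range_glue (range_of_allRange c_act3_0) (range_glue (range_of_allRange c_act3_1) (range_glue (range_of_allRange c_act3_2) (range_glue (range_of_allRange c_act3_3) (range_of_allRange c_act3_4)))))
theorem h_act4 : ∀ i, 0 ≤ i → i < 96768 → Nat.beq (actR4 i) i = true :=
  (range_glue (range_of_allRange c_act4_0) (range_glue (range_of_allRange c_act4_1) (range_glue (range_of_allRange c_act4_2) (range_glue (range_of_allRange c_act4_3) (range_glue (range_of_allRange c_act4_4) (range_glue (range_of_allRange c_act4_5) (range_glue (range_of_allRange c_act4_6) (range_glue (range_of_allRange c_act4_7) (range_of_allRange c_act4_8)))))))))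
theorem h_act5 : ∀ i, 0 ≤ i → i < 96768 → Nat.beq (actR5 i) i = true :=
  (range_glue (range_of_allRange c_act5_0) (range_glue (range_of_allRange c_act5_1) (range_glue (range_of_allRange c_act5_2) (range_glue (range_of_allRange c_act5_3) (range_glue (range_of_allRange c_act5_4) (range_glue (range_of_allRange c_act5_5) (range_glue (range_of_allRange c_act5_6) (range_glue (range_of_allRange c_act5_7) (range_glue (range_of_allRange c_act5_8) (range_glue (range_of_allRange c_act5_9) (range_glue (range_of_allRange c_act5_10) (range_glue (range_of_allRange c_act5_11) (range_glue (range_of_allRange c_act5_12) (range_glue (range_of_allRange c_act5_13) (range_glue (range_of_allRange c_act5_14) (range_glue (range_of_allRange c_act5_15) (range_glue (range_of_allRange c_act5_16) (range_glue (range_of_allRange c_act5_17) (range_glue (range_of_allRange c_act5_18) (range_glue (range_of_allRange c_act5_19) (range_glue (range_of_allRange c_act5_20) (range_glue (range_of_allRange c_act5_21) (range_of_allRange c_act5_22)))))))))))))))))))))))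
theorem h_act6 : ∀ i, 0 ≤ i → i < 96768 → Nat.beq (actR6 i) i = true :=
  (range_glue (range_of_allRange c_act6_0) (range_glue (range_of_allRange c_act6_1) (range_glue (range_of_allRange c_act6_2) (range_glue (range_of_allRange c_act6_3) (range_glue (range_of_allRange c_act6_4) (range_glue (range_of_allRange c_act6_5) (range_glue (range_of_allRange c_act6_6) (range_glue (range_of_allRange c_act6_7) (range_glue (range_of_allRange c_act6_8) (range_glue (range_of_allRange c_act6_9) (range_glue (range_of_allRange c_act6_10) (range_glue (range_of_allRange c_act6_11) (range_glue (range_of_allRange c_act6_12) (range_glue (range_of_allRange c_act6_13) (range_of_allRange c_act6_14)))))))))))))))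
theorem h_act7 : ∀ i, 0 ≤ i → i < 96768 → Nat.beq (actR7 i) i = true :=
  (range_glue (range_of_allRange c_act7_0) (range_glue (range_of_allRange c_act7_1) (range_glue (range_of_allRange c_act7_2) (range_glue (range_of_allRange c_act7_3) (range_glue (range_of_allRange c_act7_4) (range_glue (range_of_allRange c_act7_5) (range_glue (range_of_allRange c_act7_6) (range_glue (range_of_allRange c_act7_7) (range_glue (range_of_allRange c_act7_8) (range_glue (range_of_allRange c_act7_9) (range_glue (range_of_allRange c_act7_10) (range_glue (range_of_allRange c_act7_11) (range_glue (range_of_allRange c_act7_12) (range_glue (range_of_allRange c_act7_13) (range_glue (range_of_allRange c_act7_14) (range_glue (range_of_allRange c_act7_15) (range_glue (range_of_allRange c_act7_16) (range_glue (range_of_allRange c_act7_17) (range_glue (range_of_allRange c_act7_18) (range_glue (range_of_allRange c_act7_19) (range_glue (range_of_allRange c_act7_20) (range_glue (range_of_allRange c_act7_21) (range_glue (range_of_allRange c_act7_22) (range_glue (range_of_allRange c_act7_23) (range_of_allRange c_act7_24)))))))))))))))))))))))))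
theorem h_act8 : ∀ i, 0 ≤ i → i < 96768 → Nat.beq (actR8 i) i = true :=
  (range_glue (range_of_allRange c_act8_0) (range_glue (range_of_allRange c_act8_1) (range_glue (range_of_allRange c_act8_2) (range_glue (range_of_allRange c_act8_3) (range_glue (range_of_allRange c_act8_4) (range_glue (range_of_allRange c_act8_5) (range_glue (range_of_allRange c_act8_6) (range_glue (range_of_allRange c_act8_7) (range_glue (range_of_allRange c_act8_8) (range_glue (range_of_allRange c_act8_9) (range_glue (range_of_allRange c_act8_10) (range_glue (range_of_allRange c_act8_11) (range_glue (range_of_allRange c_act8_12) (range_glue (range_of_allRange c_act8_13) (range_glue (range_of_allRange c_act8_14) (range_glue (range_of_allRange c_act8_15) (range_glue (range_of_allRange c_act8_16) (range_of_allRange c_act8_17))))))))))))))))))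
theorem h_act9 : ∀ i, 0 ≤ i → i < 96768 → Nat.beq (actR9 i) i = true :=
  (range_glue (range_of_allRange c_act9_0) (range_glue (range_of_allRange c_act9_1) (range_glue (range_of_allRange c_act9_2) (range_glue (range_of_allRange c_act9_3) (range_glue (range_of_allRange c_act9_4) (range_glue (range_of_allRange c_act9_5) (range_glue (range_of_allRange c_act9_6) (range_glue (range_of_allRange c_act9_7) (range_glue (range_of_allRange c_act9_8) (range_glue (range_of_allRange c_act9_9) (range_glue (range_of_allRange c_act9_10) (range_glue (range_of_allRange c_act9_11) (range_of_allRange c_act9_12)))))))))))))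
theorem h_act10 : ∀ i, 0 ≤ i → i < 96768 → Nat.beq (actR10 i) i = true :=
  (range_glue (range_of_allRange c_act10_0) (range_glue (range_of_allRange c_act10_1) (range_glue (range_of_allRange c_act10_2) (range_glue (range_of_allRange c_act10_3) (range_of_allRange c_act10_4)))))
theorem h_act11 : ∀ i, 0 ≤ i → i < 96768 → Nat.beq (actR11 i) i = true :=
  (range_glue (range_of_allRange c_act11_0) (range_glue (range_of_allRange c_act11_1) (range_glue (range_of_allRange c_act11_2) (range_glue (range_of_allRange c_act11_3) (range_glue (range_of_allRange c_act11_4) (range_glue (range_of_allRange c_act11_5) (range_glue (range_of_allRange c_act11_6) (range_glue (range_of_allRange c_act11_7) (range_glue (range_of_allRange c_act11_8) (range_glue (range_of_allRange c_act11_9) (range_glue (range_of_allRange c_act11_10) (range_glue (range_of_allRange c_act11_11) (range_glue (range_of_allRange c_act11_12) (range_glue (range_of_allRange c_act11_13) (range_glue (range_of_allRange c_act11_14) (range_glue (range_of_allRange c_act11_15) (range_glue (range_of_allRange c_act11_16) (range_glue (range_of_allRange c_act11_17) (range_glue (range_of_allRange c_act11_18) (range_of_allRange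 c_act11_19))))))))))))))))))))
theorem h_act12 : ∀ i, 0 ≤ i → i < 96768 → Nat.beq (actR12 i) i = true :=
  (range_glue (range_of_allRange c_act12_0) (range_glue (range_of_allRange c_act12_1) (range_glue (range_of_allRange c_act12_2) (range_glue (range_of_allRange c_act12_3) (range_glue (range_of_allRange c_act12_4) (range_glue (range_of_allRange c_act12_5) (range_of_allRange c_act12_6)))))))
theorem h_act13 : ∀ i, 0 ≤ i → i < 96768 → Nat.beq (actR13 i) i = true :=
  (range_glue (range_of_allRange c_act13_0) (range_glue (range_of_allRange c_act13_1) (range_glue (range_of_allRange c_act13_2) (range_glue (range_of_allRange c_act13_3) (range_glue (range_of_allRange c_act13_4) (range_glue (range_of_allRange c_act13_5) (range_of_allRange c_act13_6)))))))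
theorem h_act14 : ∀ i, 0 ≤ i → i < 96768 → Nat.beq (actR14 i) i = true :=
  (range_glue (range_of_allRange c_act14_0) (range_glue (range_of_allRange c_act14_1) (range_glue (range_of_allRange c_act14_2) (range_glue (range_of_allRange c_act14_3) (range_glue (range_of_allRange c_act14_4) (range_glue (range_of_allRange c_act14_5) (range_of_allRange c_act14_6)))))))
theorem h_act15 : ∀ i, 0 ≤ i → i < 96768 → Nat.beq (actR15 i) i = true :=
  (range_glue (range_of_allRange c_act15_0) (range_glue (range_of_allRange c_act15_1) (range_glue (range_of_allRange c_act15_2) (range_glue (range_of_allRange c_act15_3) (range_glue (range_of_allRange c_act15_4) (range_glue (range_of_allRange c_act15_5) (range_glue (range_of_allRange c_act15_6) (range_glue (range_of_allRange c_act15_7) (range_glue (range_of_allRange c_act15_8) (range_glue (range_of_allRange c_act15_9) (range_glue (range_of_allRange c_act15_10) (range_glue (range_of_allRange c_act15_11) (range_glue (range_of_allRange c_act15_12) (range_glue (range_of_allRange c_act15_13) (range_glue (range_of_allRange c_act15_14) (range_glue (range_of_allRange c_act15_15) (range_glue (range_of_allRange c_act15_16) (range_glue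 (range_of_allRange c_act15_17) (range_glue (range_of_allRange c_act15_18) (range_glue (range_of_allRange c_act15_19) (range_glue (range_of_allRange c_act15_20) (range_glue (range_of_allRange c_act15_21) (range_glue (range_of_allRange c_act15_22) (range_glue (range_of_allRange c_act15_23) (range_glue (range_of_allRange c_act15_24) (range_glue (range_of_allRange c_act15_25) (range_glue (range_of_allRange c_act15_26) (range_glue (range_of_allRange c_act15_27) (range_glue (range_of_allRange c_act15_28) (range_of_allRange c_act15_29))))))))))))))))))))))))))))))
theorem h_act16 : ∀ i, 0 ≤ i → i < 96768 → Nat.beq (actR16 i) i = true :=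
  (range_glue (range_of_allRange c_act16_0) (range_glue (range_of_allRange c_act16_1) (range_glue (range_of_allRange c_act16_2) (range_glue (range_of_allRange c_act16_3) (range_glue (range_of_allRange c_act16_4) (range_glue (range_of_allRange c_act16_5) (range_glue (range_of_allRange c_act16_6) (range_glue (range_of_allRange c_act16_7) (range_glue (range_of_allRange c_act16_8) (range_glue (range_of_allRange c_act16_9) (range_glue (range_of_allRange c_act16_10) (range_glue (range_of_allRange c_act16_11) (range_glue (range_of_allRange c_act16_12) (range_glue (range_of_allRange c_act16_13) (range_glue (range_of_allRange c_act16_14) (range_glue (range_of_allRange c_act16_15) (range_glue (range_of_allRange c_act16_16) (range_glue (range_of_allRange c_act16_17) (range_glue (range_of_allRange c_act16_18) (range_glue (range_of_allRange c_act16_19) (range_glue (range_of_allRange c_act16_20) (range_glue (range_of_allRange c_act16_21) (range_glue (range_of_allRange c_act16_22) (range_glue (range_of_allRange c_act16_23) (range_glue (range_of_allRange c_act16_24) (range_glue (range_of_allRange c_act16_25) (range_glue (range_of_allRange c_act16_26) (range_glue (range_of_allRange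 c_act16_27) (range_glue (range_of_allRange c_act16_28) (range_of_allRange c_act16_29))))))))))))))))))))))))))))))

theorem checked : T.Checked D where
  hz := c_zero
  hn := fun d h0 hd => h_names d h0 hd
  hb := fun j hj => allBelow_eq_true.1 c_base j hj
  hr := fun t h1 h2 => h_rel t h1 h2
  hfin := fun i x hi hx => h_fin i (Nat.zero_le _) hi x hx
  hperm := fun i x hi hx => h_perm i (Nat.zero_le _) hi x hx
  hlet := fun x hx => allBelow_eq_true.1 c_let x hx
  hcls := fun d h0 hd => h_cls d h0 hd
  hrep := fun i hi => h_rep i (Nat.zero_le _) hi
  hcls0 := c_cls0
  hname0 := c_name0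
  hN := by decide
  hM := by decide

theorem h_act : ∀ L ∈ PC12M22.P.real, ∀ i, i < T.N → Tab.relActOK T D L i = true := by
  rw [c_real]
  intro L hL
  simp only [realLit, List.mem_cons, List.not_mem_nil, or_false] at hL
  rcases hL with rfl | rfl | rfl | rfl | rfl | rfl | rfl | rfl | rfl | rfl | rfl | rfl | rfl | rfl | rfl | rfl | rfl
  · intro i hi
    rw [Tab.relActOK, ← actR0_eq]
    exact h_act0 i (Nat.zero_le _) hi
  · intro i hi
    rw [Tab.relActOK, ← actR1_eq]
    exact h_act1 i (Nat.zero_le _) hi
  · intro i hi
    rw [Tab.relActOK, ← actR2_eq]
    exact h_act2 i (Nat.zero_le _) hi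
  · intro i hi
    rw [Tab.relActOK, ← actR3_eq]
    exact h_act3 i (Nat.zero_le _) hi
  · intro i hi
    rw [Tab.relActOK, ← actR4_eq]
    exact h_act4 i (Nat.zero_le _) hi
  · intro i hi
    rw [Tab.relActOK, ← actR5_eq]
    exact h_act5 i (Nat.zero_le _) hi
  · intro i hi
    rw [Tab.relActOK, ← actR6_eq]
    exact h_act6 i (Nat.zero_le _) hi
  · intro i hi
    rw [Tab.relActOK, ← actR7_eq]
    exact h_act7 i (Nat.zero_le _) hi
  · intro i hi
    rw [Tab.relActOK, ← actR8_eq]
    exact h_act8 i (Nat.zero_le _) hi
  · intro i hi
    rw [Tab.relActOK, ← actR9_eq]
    exact h_act9 i (Nat.zero_le _) hi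
  · intro i hi
    rw [Tab.relActOK, ← actR10_eq]
    exact h_act10 i (Nat.zero_le _) hi
  · intro i hi
    rw [Tab.relActOK, ← actR11_eq]
    exact h_act11 i (Nat.zero_le _) hi
  · intro i hi
    rw [Tab.relActOK, ← actR12_eq]
    exact h_act12 i (Nat.zero_le _) hi
  · intro i hi
    rw [Tab.relActOK, ← actR13_eq]
    exact h_act13 i (Nat.zero_le _) hi
  · intro i hi
    rw [Tab.relActOK, ← actR14_eq]
    exact h_act14 i (Nat.zero_le _) hi
  · intro i hi
    rw [Tab.relActOK, ← actR15_eq]
    exact h_act15 i (Nat.zero_le _) hi
  · intro i hi
    rw [Tab.relActOK, ← actR16_eq]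
    exact h_act16 i (Nat.zero_le _) hi

theorem inst : Inst PC12M22.P T D subs where
  hP := PC12M22.valid
  hk := rfl
  hinv := rfl
  hsubs := by
    intro u hu x hx
    have h1 := List.all_eq_true.1 c_subs u hu
    exact ble_succ (List.all_eq_true.1 h1 x hx)
  htab := c_tab
  hC := checked
  hact := h_act
  hsubfix := fun u hu => beq_eq (List.all_eq_true.1 c_subfix u hu)

theorem index_eq : (Inst.subG PC12M22.P subs).index = 96768 := inst.index_eq


end Cfsg.Agent.Lib.Helper4.TCD.C12M22A
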