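import Cfsg.Agent.Lib.Helper4.TCD_C12M22L_Acc

namespace Cfsg.Agent.Lib.Helper4.TCD.C12M22L

open Cfsg.Agent.Lib.Helper4.TC Cfsg.Agent.Lib.Helper4.TCD.C12M22A

set_option maxRecDepth 100000
set_option Elab.async false

theorem c_p13_1 : allRange chk13 15000 15000 = true := by decide +kernel
theorem c_p13_2 : allRange chk13 30000 15000 = true := by decide +kernel
theorem c_p13_3 : allRange chk13 45000 15000 = true := by decide +kernel
theorem c_p13_4 : allRange chk13 60000 15000 = true := by decide +kernel
theorem c_p13_5 : allRange chk13 75000 15000 = true := by decide +kernel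
theorem c_p13_6 : allRange chk13 90000 6768 = true := by decide +kernel
theorem c_nd0_0 : allRange (S.nodeOK 0) 0 5000 = true := by decide +kernel
theorem c_nd0_1 : allRange (S.nodeOK 0) 5000 5000 = true := by decide +kernel
theorem c_nd0_2 : allRange (S.nodeOK 0) 10000 5000 = true := by decide +kernel
theorem c_nd0_3 : allRange (S.nodeOK 0) 15000 5000 = true := by decide +kernel
theorem c_nd0_4 : allRange (S.nodeOK 0) 20000 5000 = true := by decide +kernel
theorem c_nd0_5 : allRange (S.nodeOK 0) 25000 5000 = true := by decide +kernel
theorem c_nd0_6 : allRange (S.nodeOK 0) 30000 5000 = true := by decide +kernel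
theorem c_nd0_7 : allRange (S.nodeOK 0) 35000 5000 = true := by decide +kernel
theorem c_nd0_8 : allRange (S.nodeOK 0) 40000 5000 = true := by decide +kernel
theorem c_nd0_9 : allRange (S.nodeOK 0) 45000 5000 = true := by decide +kernel
theorem c_nd0_10 : allRange (S.nodeOK 0) 50000 5000 = true := by decide +kernel
theorem c_nd0_11 : allRange (S.nodeOK 0) 55000 5000 = true := by decide +kernel
theorem c_nd0_12 : allRange (S.nodeOK 0) 60000 5000 = true := by decide +kernel
theorem c_nd0_13 : allRange (S.nodeOK 0) 65000 5000 = true := by decide +kernel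
theorem c_nd0_14 : allRange (S.nodeOK 0) 70000 5000 = true := by decide +kernel
theorem c_nd0_15 : allRange (S.nodeOK 0) 75000 5000 = true := by decide +kernel
theorem c_nd0_16 : allRange (S.nodeOK 0) 80000 5000 = true := by decide +kernel
theorem c_nd0_17 : allRange (S.nodeOK 0) 85000 5000 = true := by decide +kernel
theorem c_nd0_18 : allRange (S.nodeOK 0) 90000 5000 = true := by decide +kernel
theorem c_nd0_19 : allRange (S.nodeOK 0) 95000 1768 = true := by decide +kernel
theorem c_nd1_0 : allRange (S.nodeOK 1) 0 11 = true := by decide +kernel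
theorem c_nd2_0 : allRange (S.nodeOK 2) 0 5 = true := by decide +kernel

end Cfsg.Agent.Lib.Helper4.TCD.C12M22L
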