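import Cfsg.Agent.Lib.Helper4.TCD_C12M22L_C0
import Cfsg.Agent.Lib.Helper4.TCD_C12M22L_C1
import Cfsg.Agent.Lib.Helper4.TC13

namespace Cfsg.Agent.Lib.Helper4.TCD.C12M22L

open Cfsg.Agent.Lib.Helper4.TC Cfsg.Agent.Lib.Helper4.TCD.C12M22A

theorem h_p10 : ∀ p, 0 ≤ p → p < 96768 → chk10 p = true :=
  (range_glue (range_of_allRange c_p10_0) (range_glue (range_of_allRange c_p10_1) (range_glue (range_of_allRange c_p10_2) (range_glue (range_of_allRange c_p10_3) (range_glue (range_of_allRange c_p10_4) (range_glue (range_of_allRange c_p10_5) (range_glue (range_of_allRange c_p10_6) (range_glue (range_of_allRange c_p10_7) (range_glue (range_of_allRange c_p10_8) (range_glue (range_of_allRange c_p10_9) (range_glue (range_of_allRange c_p10_10) (range_glue (range_of_allRange c_p10_11) (range_glue (range_of_allRange c_p10_12) (range_glue (range_of_allRange c_p10_13) (range_glue (range_of_allRange c_p10_14) (range_glue (range_of_allRange c_p10_15) (range_glue (range_of_allRange c_p10_16) (range_glue (range_of_allRange c_p10_17) (range_glue (range_of_allRange c_p10_18) (range_glue (range_of_allRange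 c_p10_19) (range_glue (range_of_allRange c_p10_20) (range_glue (range_of_allRange c_p10_21) (range_glue (range_of_allRange c_p10_22) (range_glue (range_of_allRange c_p10_23) (range_glue (range_of_allRange c_p10_24) (range_glue (range_of_allRange c_p10_25) (range_glue (range_of_allRange c_p10_26) (range_glue (range_of_allRange c_p10_27) (range_glue (range_of_allRange c_p10_28) (range_glue (range_of_allRange c_p10_29) (range_of_allRange c_p10_30)))))))))))))))))))))))))))))))
theorem h_p11 : ∀ p, 0 ≤ p → p < 96768 → chk11 p = true :=
  (range_glue (range_of_allRange c_p11_0) (range_glue (range_of_allRange c_p11_1) (range_glue (range_of_allRange c_p11_2) (range_glue (range_of_allRange c_p11_3) (range_glue (range_of_allRange c_p11_4) (range_glue (range_of_allRange c_p11_5) (range_of_allRange c_p11_6)))))))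
theorem h_p12 : ∀ p, 0 ≤ p → p < 96768 → chk12 p = true :=
  (range_glue (range_of_allRange c_p12_0) (range_glue (range_of_allRange c_p12_1) (range_glue (range_of_allRange c_p12_2) (range_glue (range_of_allRange c_p12_3) (range_glue (range_of_allRange c_p12_4) (range_glue (range_of_allRange c_p12_5) (range_glue (range_of_allRange c_p12_6) (range_glue (range_of_allRange c_p12_7) (range_glue (range_of_allRange c_p12_8) (range_glue (range_of_allRange c_p12_9) (range_glue (range_of_allRange c_p12_10) (range_of_allRange c_p12_11))))))))))))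
theorem h_p13 : ∀ p, 0 ≤ p → p < 96768 → chk13 p = true :=
  (range_glue (range_of_allRange c_p13_0) (range_glue (range_of_allRange c_p13_1) (range_glue (range_of_allRange c_p13_2) (range_glue (range_of_allRange c_p13_3) (range_glue (range_of_allRange c_p13_4) (range_glue (range_of_allRange c_p13_5) (range_of_allRange c_p13_6)))))))
theorem h_nd0 : ∀ idx, 0 ≤ idx → idx < 96768 → S.nodeOK 0 idx = true :=
  (range_glue (range_of_allRange c_nd0_0) (range_glue (range_of_allRange c_nd0_1) (range_glue (range_of_allRange c_nd0_2) (range_glue (range_of_allRange c_nd0_3) (range_glue (range_of_allRange c_nd0_4) (range_glue (range_of_allRange c_nd0_5) (range_glue (range_of_allRange c_nd0_6) (range_glue (range_of_allRange c_nd0_7) (range_glue (range_of_allRange c_nd0_8) (range_glue (range_of_allRange c_nd0_9) (range_glue (range_of_allRange c_nd0_10) (range_glue (range_of_allRange c_nd0_11) (range_glue (range_of_allRange c_nd0_12) (range_glue (range_of_allRange c_nd0_13) (range_glue (range_of_allRange c_nd0_14) (range_glue (range_of_allRange c_nd0_15) (range_glue (range_of_allRange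 c_nd0_16) (range_glue (range_of_allRange c_nd0_17) (range_glue (range_of_allRange c_nd0_18) (range_of_allRange c_nd0_19))))))))))))))))))))
theorem h_nd1 : ∀ idx, 0 ≤ idx → idx < 11 → S.nodeOK 1 idx = true :=
  (range_of_allRange c_nd1_0)
theorem h_nd2 : ∀ idx, 0 ≤ idx → idx < 5 → S.nodeOK 2 idx = true :=
  (range_of_allRange c_nd2_0)

theorem ok : S.OK where
  hkm := by decide
  hperm := by
    intro i p h1 h2 hp
    have h1 : 10 ≤ i := h1
    have h2 : i < 14 := h2
    have hp : p < 96768 := hp
    interval_cases i
    · rw [← chk10_eq]; exact h_p10 p (Nat.zero_le _) hp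
    · rw [← chk11_eq]; exact h_p11 p (Nat.zero_le _) hp
    · rw [← chk12_eq]; exact h_p12 p (Nat.zero_le _) hp
    · rw [← chk13_eq]; exact h_p13 p (Nat.zero_le _) hp
  hwords := fun i h1 h2 => range_of_allRange c_words i h1 h2
  hfix := fun i t hi ht => range_of_allGrid c_fix i (Nat.zero_le _) (by have h : i < 14 := hi; omega) t ht
  hroot := fun j hj => ble_succ (allBelow_eq_true.1 c_root j hj)
  hnode := by
    intro j idx hj hidx
    have hj : j < 3 := hj
    interval_cases j
    · rw [c_n0] at hidx; exact h_nd0 idx (Nat.zero_le _) hidx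
    · rw [c_n1] at hidx; exact h_nd1 idx (Nat.zero_le _) hidx
    · rw [c_n2] at hidx; exact h_nd2 idx (Nat.zero_le _) hidx

theorem htab0 : ∀ i, i < S.k → ∀ p, p < S.N → S.tab i p = T.tbl p (D.inv i) := by
  intro i hi p _
  have hi : i < 10 := hi
  interval_cases i <;> rfl

theorem prod_eq : S.prodFrom S.r 0 = 5322240 := by decide +kernel

end Cfsg.Agent.Lib.Helper4.TCD.C12M22L
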