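import Mathlib
import Cfsg.Agent.Lib.Helper4.F55Main
import Cfsg.Agent.Lib.Helper4.TCD_C12M22A_Fin
import Cfsg.Agent.Lib.Helper4.TCD_C12M22L_Fin
import Cfsg.Agent.Lib.Helper4.TC16
import Cfsg.Agent.Lib.Helper4.RelLib
import Cfsg.Agent.Lib.Helper4.StemLib6

/-! The presented group `C12M22` has order 5322240 and contains the presented group `F55` (generated). -/

namespace Cfsg.Agent.Lib.Helper4.C12M22Main

open Cfsg.Agent.Lib.Helper4.TC Cfsg.Agent.Lib.Helper4.TCD Cfsg.Agent.Lib.Helper4.TC.Log Cfsg.Agent.Lib.Helper4.Stem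

/-- the letters of `F55` as letters of `C12M22` -/
def embK (l : ℕ) : ℕ := [6, 7, 2, 3].getD l 10

theorem real_subK : ∀ L ∈ PF55.P.real, L.map embK ∈ PC12M22.P.real := by decide +kernel

theorem embK_emb : LetterEmb PF55.P PC12M22.P embK where
  hP := PF55.valid
  hQ := PC12M22.valid
  hlt := by
    intro l hl
    have hl : l < 4 := hl
    show embK l < 10
    interval_cases l <;> decide
  hinv := by
    intro l hl
    have hl : l < 4 := hl
    interval_cases l <;> rfl
  hrel := by
    intro L hL
    exact (PC12M22.valid.real_sound _ (real_subK L hL)).2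

/-- the words generating `F55` -/
def subsK : List (List ℕ) := [[0], [2]]

theorem subsK_map : subsK.map (List.map embK) = C12M22A.subs := by decide

theorem subG_K_top : Inst.subG PF55.P subsK = ⊤ := by
  rw [eq_top_iff, ← PF55.valid.gen_top, Subgroup.closure_le]
  rintro _ ⟨l, hl, rfl⟩
  have hl : l < 4 := hl
  interval_cases l
  · exact Subgroup.subset_closure ⟨[0], by decide, by rw [wordP_cons, wordP_nil, mul_one]⟩
  · have h : PF55.P.gR 1 = (PF55.P.gR 0)⁻¹ := (PF55.valid.invR_sound 0 (by decide)).2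
    rw [h]
    exact Subgroup.inv_mem _ (Subgroup.subset_closure ⟨[0], by decide, by rw [wordP_cons, wordP_nil, mul_one]⟩)
  · exact Subgroup.subset_closure ⟨[2], by decide, by rw [wordP_cons, wordP_nil, mul_one]⟩
  · have h : PF55.P.gR 3 = (PF55.P.gR 2)⁻¹ := (PF55.valid.invR_sound 2 (by decide)).2
    rw [h]
    exact Subgroup.inv_mem _ (Subgroup.subset_closure ⟨[2], by decide, by rw [wordP_cons, wordP_nil, mul_one]⟩)

theorem range_hom : embK_emb.hom.range = Inst.subG PC12M22.P C12M22A.subs := by
  rw [MonoidHom.range_eq_map, ← subG_K_top, embK_emb.map_subG subsK (by decide), subsK_map]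

/-- the subgroup is an image of `F55` -/
theorem sub_card : Finite (Inst.subG PC12M22.P C12M22A.subs) ∧ Nat.card (Inst.subG PC12M22.P C12M22A.subs) ≤ 55 := by
  obtain ⟨fK, _, cK⟩ := F55Main.order_aux
  rw [← range_hom]
  have := fK
  refine ⟨Finite.of_surjective embK_emb.hom.rangeRestrict embK_emb.hom.rangeRestrict_surjective, ?_⟩
  rw [← cK]
  exact Nat.card_le_card_of_surjective embK_emb.hom.rangeRestrict embK_emb.hom.rangeRestrict_surjective

/-- the order and the faithful permutation representation -/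
theorem order_aux : Finite PC12M22.P.Grp ∧ Function.Injective C12M22A.inst.phi ∧ Nat.card PC12M22.P.Grp = 5322240 := by
  obtain ⟨fs, cs⟩ := sub_card
  obtain ⟨fG, cG⟩ := C12M22A.inst.card_le _ fs cs
  have hub : Nat.card PC12M22.P.Grp ≤ 5322240 := le_trans cG (by decide)
  obtain ⟨hinj, hcard⟩ := C12M22A.inst.card_eq C12M22L.S rfl rfl C12M22L.htab0 C12M22L.ok 5322240 (by decide)
    C12M22L.prod_eq fG hub
  exact ⟨fG, hinj, hcard⟩


end Cfsg.Agent.Lib.Helper4.C12M22Main
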