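import Mathlib
import Cfsg.Agent.Lib.Helper4.A7pMain
import Cfsg.Agent.Lib.Helper4.TCD_M22pA_Fin
import Cfsg.Agent.Lib.Helper4.TCD_M22pL_Fin
import Cfsg.Agent.Lib.Helper4.A7pSimple
import Cfsg.Agent.Lib.Helper4.TCD_M22pX11_Fin
import Cfsg.Agent.Lib.Helper4.TCD_M22p11Q
import Cfsg.Agent.Lib.Helper4.TC16
import Cfsg.Agent.Lib.Helper4.RelLib
import Cfsg.Agent.Lib.Helper4.StemLib6

/-! The presented group `M22p` has order 443520 and contains the presented group `A7p` (generated). -/

namespace Cfsg.Agent.Lib.Helper4.M22pMain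

open Cfsg.Agent.Lib.Helper4.TC Cfsg.Agent.Lib.Helper4.TCD Cfsg.Agent.Lib.Helper4.TC.Log Cfsg.Agent.Lib.Helper4.Stem

/-- the letters of `A7p` as letters of `M22p` -/
def embK (l : ℕ) : ℕ := [0, 1, 2, 3].getD l 6

theorem real_subK : ∀ L ∈ PA7p.P.real, L.map embK ∈ PM22p.P.real := by decide +kernel

theorem embK_emb : LetterEmb PA7p.P PM22p.P embK where
  hP := PA7p.valid
  hQ := PM22p.valid
  hlt := by
    intro l hl
    have hl : l < 4 := hl
    show embK l < 6
    interval_cases l <;> decide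
  hinv := by
    intro l hl
    have hl : l < 4 := hl
    interval_cases l <;> rfl
  hrel := by
    intro L hL
    exact (PM22p.valid.real_sound _ (real_subK L hL)).2

/-- the words generating `A7p` -/
def subsK : List (List ℕ) := [[0], [2]]

theorem subsK_map : subsK.map (List.map embK) = M22pA.subs := by decide

theorem subG_K_top : Inst.subG PA7p.P subsK = ⊤ := by
  rw [eq_top_iff, ← PA7p.valid.gen_top, Subgroup.closure_le]
  rintro _ ⟨l, hl, rfl⟩
  have hl : l < 4 := hl
  interval_cases l
  · exact Subgroup.subset_closure ⟨[0], by decide, by rw [wordP_cons, wordP_nil, mul_one]⟩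
  · have h : PA7p.P.gR 1 = (PA7p.P.gR 0)⁻¹ := (PA7p.valid.invR_sound 0 (by decide)).2
    rw [h]
    exact Subgroup.inv_mem _ (Subgroup.subset_closure ⟨[0], by decide, by rw [wordP_cons, wordP_nil, mul_one]⟩)
  · exact Subgroup.subset_closure ⟨[2], by decide, by rw [wordP_cons, wordP_nil, mul_one]⟩
  · have h : PA7p.P.gR 3 = (PA7p.P.gR 2)⁻¹ := (PA7p.valid.invR_sound 2 (by decide)).2
    rw [h]
    exact Subgroup.inv_mem _ (Subgroup.subset_closure ⟨[2], by decide, by rw [wordP_cons, wordP_nil, mul_one]⟩)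

theorem range_hom : embK_emb.hom.range = Inst.subG PM22p.P M22pA.subs := by
  rw [MonoidHom.range_eq_map, ← subG_K_top, embK_emb.map_subG subsK (by decide), subsK_map]

/-- the subgroup is an image of `A7p` -/
theorem sub_card : Finite (Inst.subG PM22p.P M22pA.subs) ∧ Nat.card (Inst.subG PM22p.P M22pA.subs) ≤ 2520 := by
  obtain ⟨fK, _, cK⟩ := A7pMain.order_aux
  rw [← range_hom]
  have := fK
  refine ⟨Finite.of_surjective embK_emb.hom.rangeRestrict embK_emb.hom.rangeRestrict_surjective, ?_⟩
  rw [← cK]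
  exact Nat.card_le_card_of_surjective embK_emb.hom.rangeRestrict embK_emb.hom.rangeRestrict_surjective

/-- the order and the faithful permutation representation -/
theorem order_aux : Finite PM22p.P.Grp ∧ Function.Injective M22pA.inst.phi ∧ Nat.card PM22p.P.Grp = 443520 := by
  obtain ⟨fs, cs⟩ := sub_card
  obtain ⟨fG, cG⟩ := M22pA.inst.card_le _ fs cs
  have hub : Nat.card PM22p.P.Grp ≤ 443520 := le_trans cG (by decide)
  obtain ⟨hinj, hcard⟩ := M22pA.inst.card_eq M22pL.S rfl rfl M22pL.htab0 M22pL.ok 443520 (by decide)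
    M22pL.prod_eq fG hub
  exact ⟨fG, hinj, hcard⟩


theorem gR_ne_one : PM22p.P.gR 0 ≠ 1 := by
  intro h
  have h1 := M22pA.inst.hphi 0 (by decide) ⟨1, by decide⟩
  have h2 : Inst.gE PM22p.P M22pA.subs 0 = PM22p.P.gR 0 := extG_le (by decide)
  rw [h2, h, map_one] at h1
  have h3 : M22pA.T.tbl 1 (M22pA.D.inv 0) ≠ 1 := by decide +kernel
  exact h3 h1.symm

/-- `A7p` embeds -/
theorem hom_injective : Function.Injective embK_emb.hom := by
  apply injective_of_simple A7pSimple.simple_aux embK_emb.hom (PA7p.P.gR 0)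
  rw [embK_emb.hom_gR _ (by decide)]
  exact gR_ne_one

/-- stem extensions split over the subgroup when `A7p` is perfect and has no stem extension -/
theorem liftsP_sub (p : ℕ) (hp : p.Prime) (hperf : commutator PA7p.P.Grp = ⊤) (hns : NoStemPrime PA7p.P.Grp p) :
    LiftsP PM22p.P.Grp (Inst.subG PM22p.P M22pA.subs) p :=
  liftsP_of_injective embK_emb.hom hom_injective _ range_hom p hp hperf hns

theorem horb : OrbCond (Inst.subG PM22p.P M22pA.subs) M22pA.inst.equiv [1, 70, 105] 0 := by
  refine ⟨?_, ?_, ?_, trivial⟩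
  · intro j j' _ h2 _ h4
    have e1 : j = j' := Fin.ext (by omega)
    exact ⟨1, one_mem _, by rw [one_smul, e1]⟩
  · intro j j' h1 h2 h3 h4
    exact M22pA.inst.trans_of_orbit_eq 1 71 (by decide) (by decide)
      (M22pA.inst.orbit_eq M22pA.oparTab M22pA.olabTab 1 71 (by decide) (by decide) M22pA.orb_inv_0 M22pA.orb_tree_0)
      j j' (by omega) (by omega) (by omega) (by omega)
  · intro j j' h1 h2 h3 h4
    exact M22pA.inst.trans_of_orbit_eq 71 176 (by decide) (by decide)
      (M22pA.inst.orbit_eq M22pA.oparTab M22pA.olabTab 71 176 (by decide) (by decide) M22pA.orb_inv_1 M22pA.orb_tree_1)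
      j j' (by omega) (by omega) (by omega) (by omega)

theorem simple_aux : IsSimpleGroup PM22p.P.Grp := by
  obtain ⟨fG, hinj, hcard⟩ := order_aux
  apply M22pA.inst.simple2 hinj fG [1, 70, 105] (by decide) horb (by decide) [11]
  · intro q hq
    simp only [List.mem_cons, List.not_mem_nil, or_false] at hq
    rcases hq with rfl
    · refine ⟨by norm_num, by rw [hcard]; decide, Log.wordP PM22p.P.gR M22pX11.xw, ?_, M22pX11.normalClosure_eq_top⟩
      exact M22pA.inst.pow_eq_one hinj M22pX11.xw (by decide) 11 M22p11Q.h_xq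
  · decide +kernel

end Cfsg.Agent.Lib.Helper4.M22pMain
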