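import Mathlib
import Cfsg.Agent.Lib.Helper4.M22pMain
import Cfsg.Agent.Lib.Helper4.C12M22Main
import Cfsg.Agent.Lib.Helper4.AbelCert
import Cfsg.Agent.Lib.Helper4.StemLib6

/-!
The presented group `C12M22` is a perfect central extension of the presented group `M22p` with cyclic kernel of
order 12.
-/

set_option autoImplicit false

namespace Cfsg.Agent.Lib.Helper4.C12M22Cover

open Cfsg Cfsg.Agent.Lib.Helper4.TC Cfsg.Agent.Lib.Helper4.TCD Cfsg.Agent.Lib.Helper4.TC.Log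
  Cfsg.Agent.Lib.Helper4.Stem Cfsg.Agent.Lib.Helper4.AbelCert

/-- the letters of `C12M22` as words of `M22p`: the central letters are killed -/
def Wl (l : ℕ) : List ℕ := [[0], [1], [2], [3], [], [], [4], [5], [], []].getD l []

theorem rel_act : ∀ L ∈ PC12M22.P.real, ∀ i, i < M22pA.T.N →
    Tab.relActOK M22pA.T M22pA.D (L.flatMap Wl) i = true := by decide +kernel

theorem rel_lt : ∀ L ∈ PC12M22.P.real, ∀ x ∈ L.flatMap Wl, x < 6 := by decide +kernel

theorem exists_hom : ∃ π : PC12M22.P.Grp →* PM22p.P.Grp, ∀ l, l < PC12M22.P.k →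
    π (PC12M22.P.gR l) = xw PM22p.P Wl l := by
  obtain ⟨fG, hinj, hcard⟩ := M22pMain.order_aux
  apply exists_hom_of_letters PC12M22.P PC12M22.valid (xw PM22p.P Wl)
  · intro l hl
    have hl : l < 10 := hl
    have h1 : PM22p.P.gR 1 = (PM22p.P.gR 0)⁻¹ := (PM22p.valid.invR_sound 0 (by decide)).2
    have h3 : PM22p.P.gR 3 = (PM22p.P.gR 2)⁻¹ := (PM22p.valid.invR_sound 2 (by decide)).2
    have h5 : PM22p.P.gR 5 = (PM22p.P.gR 4)⁻¹ := (PM22p.valid.invR_sound 4 (by decide)).2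
    interval_cases l
    · show wordP PM22p.P.gR [0] * wordP PM22p.P.gR [1] = 1
      simp only [wordP_cons, wordP_nil, mul_one, h1, mul_inv_cancel]
    · show wordP PM22p.P.gR [1] * wordP PM22p.P.gR [0] = 1
      simp only [wordP_cons, wordP_nil, mul_one, h1, inv_mul_cancel]
    · show wordP PM22p.P.gR [2] * wordP PM22p.P.gR [3] = 1
      simp only [wordP_cons, wordP_nil, mul_one, h3, mul_inv_cancel]
    · show wordP PM22p.P.gR [3] * wordP PM22p.P.gR [2] = 1
      simp only [wordP_cons, wordP_nil, mul_one, h3, inv_mul_cancel]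
    · show wordP PM22p.P.gR [] * wordP PM22p.P.gR [] = 1
      simp only [wordP_nil, mul_one]
    · show wordP PM22p.P.gR [] * wordP PM22p.P.gR [] = 1
      simp only [wordP_nil, mul_one]
    · show wordP PM22p.P.gR [4] * wordP PM22p.P.gR [5] = 1
      simp only [wordP_cons, wordP_nil, mul_one, h5, mul_inv_cancel]
    · show wordP PM22p.P.gR [5] * wordP PM22p.P.gR [4] = 1
      simp only [wordP_cons, wordP_nil, mul_one, h5, inv_mul_cancel]
    · show wordP PM22p.P.gR [] * wordP PM22p.P.gR [] = 1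
      simp only [wordP_nil, mul_one]
    · show wordP PM22p.P.gR [] * wordP PM22p.P.gR [] = 1
      simp only [wordP_nil, mul_one]
  · intro L hL
    rw [wordP_xw]
    exact M22pA.inst.word_eq_one hinj _ (rel_lt L hL) (rel_act L hL)

/-- the covering homomorphism -/
noncomputable def π : PC12M22.P.Grp →* PM22p.P.Grp := Classical.choose exists_hom

theorem π_gR (l : ℕ) (hl : l < 10) : π (PC12M22.P.gR l) = xw PM22p.P Wl l :=
  Classical.choose_spec exists_hom l hl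

theorem π_surjective : Function.Surjective π := by
  rw [← MonoidHom.range_eq_top, eq_top_iff, ← PM22p.valid.gen_top, Subgroup.closure_le]
  rintro _ ⟨y, hy, rfl⟩
  have hy : y < 6 := hy
  interval_cases y
  · exact ⟨PC12M22.P.gR 0, by rw [π_gR 0 (by decide)]; simp [xw, Wl, wordP_cons, wordP_nil]⟩
  · exact ⟨PC12M22.P.gR 1, by rw [π_gR 1 (by decide)]; simp [xw, Wl, wordP_cons, wordP_nil]⟩
  · exact ⟨PC12M22.P.gR 2, by rw [π_gR 2 (by decide)]; simp [xw, Wl, wordP_cons, wordP_nil]⟩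
  · exact ⟨PC12M22.P.gR 3, by rw [π_gR 3 (by decide)]; simp [xw, Wl, wordP_cons, wordP_nil]⟩
  · exact ⟨PC12M22.P.gR 6, by rw [π_gR 6 (by decide)]; simp [xw, Wl, wordP_cons, wordP_nil]⟩
  · exact ⟨PC12M22.P.gR 7, by rw [π_gR 7 (by decide)]; simp [xw, Wl, wordP_cons, wordP_nil]⟩

/-- the central element -/
noncomputable def z : PC12M22.P.Grp := PC12M22.P.gR 8

theorem z_mem_ker : z ∈ π.ker := by
  rw [MonoidHom.mem_ker]
  show π (PC12M22.P.gR 8) = 1
  rw [π_gR 8 (by decide)]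
  rfl

theorem exists_row4 : ∃ i, i < C12M22A.T.N ∧ Tab.act C12M22A.T C12M22A.D [8, 8, 8, 8] i ≠ i :=
  ⟨0, by decide +kernel, by decide +kernel⟩

theorem exists_row6 : ∃ i, i < C12M22A.T.N ∧ Tab.act C12M22A.T C12M22A.D [8, 8, 8, 8, 8, 8] i ≠ i :=
  ⟨0, by decide +kernel, by decide +kernel⟩

theorem z_pow4 : z ^ 4 ≠ 1 := by
  obtain ⟨i, hi, h⟩ := exists_row4
  have := C12M22A.inst.word_ne_one [8, 8, 8, 8] (by decide) i hi h
  intro h1
  apply this
  have e : wordP PC12M22.P.gR [8, 8, 8, 8] = z ^ 4 := by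
    simp only [wordP_cons, wordP_nil, mul_one]
    show z * (z * (z * z)) = z ^ 4
    simp only [pow_succ, pow_zero, one_mul, mul_assoc]
  rw [e, h1]

theorem z_pow6 : z ^ 6 ≠ 1 := by
  obtain ⟨i, hi, h⟩ := exists_row6
  have := C12M22A.inst.word_ne_one [8, 8, 8, 8, 8, 8] (by decide) i hi h
  intro h1
  apply this
  have e : wordP PC12M22.P.gR [8, 8, 8, 8, 8, 8] = z ^ 6 := by
    simp only [wordP_cons, wordP_nil, mul_one]
    show z * (z * (z * (z * (z * z)))) = z ^ 6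
    simp only [pow_succ, pow_zero, one_mul, mul_assoc]
  rw [e, h1]

theorem z_pow12 : z ^ 12 = 1 := by
  have h := (PC12M22.valid.real_sound (List.replicate 12 [8]).flatten (by decide +kernel)).2
  rw [wordP_replicate_flatten, wordP_cons, wordP_nil, mul_one] at h
  exact h

theorem orderOf_z : orderOf z = 12 := by
  apply orderOf_eq_of_pow z 12 (by decide) z_pow12
  intro p hp hp12
  have hp' : p = 2 ∨ p = 3 := by
    have h12 : p ∈ Nat.primeFactors 12 := Nat.mem_primeFactors.2 ⟨hp, hp12, by decide⟩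
    have e : Nat.primeFactors 12 = {2, 3} := by decide +kernel
    rw [e] at h12
    simpa using h12
  rcases hp' with rfl | rfl
  · exact z_pow6
  · exact z_pow4

theorem card_ker : Nat.card π.ker = 12 := by
  obtain ⟨fG, _, hcard⟩ := C12M22Main.order_aux
  obtain ⟨fG', _, hcard'⟩ := M22pMain.order_aux
  have h := card_eq_of_stem π π_surjective
  rw [hcard, hcard'] at h
  omega

theorem ker_eq : π.ker = Subgroup.zpowers z := by
  symm
  have hfin : Finite π.ker := Nat.finite_of_card_ne_zero (by rw [card_ker]; decide)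
  apply Subgroup.eq_of_le_of_card_ge
  · rw [Subgroup.zpowers_le]
    exact z_mem_ker
  · rw [card_ker, Nat.card_zpowers, orderOf_z]

theorem comm_rel : ∀ x ∈ [0, 2, 6], [8, x, 9, PC12M22.P.invR x] ∈ PC12M22.P.real := by decide +kernel

theorem u_eq : PC12M22.P.gR 4 = z * z := by
  have hinv : PC12M22.P.gR 9 = z⁻¹ := (PC12M22.valid.invR_sound 8 (by decide)).2
  have h := (PC12M22.valid.real_sound [4, 9, 9] (by decide +kernel)).2
  simp only [wordP_cons, wordP_nil, mul_one, hinv] at h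
  calc PC12M22.P.gR 4 = (PC12M22.P.gR 4 * (z⁻¹ * z⁻¹)) * (z * z) := by group
    _ = z * z := by rw [h, one_mul]

theorem z_comm (x : ℕ) (hx : x < 10) : z * PC12M22.P.gR x = PC12M22.P.gR x * z := by
  have hinv : ∀ y, y < 10 → PC12M22.P.gR (PC12M22.P.invR y) = (PC12M22.P.gR y)⁻¹ := fun y hy =>
    (PC12M22.valid.invR_sound y (by show y ≤ 10; omega)).2
  have hpos : ∀ x ∈ [0, 2, 6], z * PC12M22.P.gR x = PC12M22.P.gR x * z := by
    intro x hx
    have h := (PC12M22.valid.real_sound _ (comm_rel x hx)).2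
    have hx10 : x < 10 := by
      simp only [List.mem_cons, List.not_mem_nil, or_false] at hx
      omega
    simp only [wordP_cons, wordP_nil, mul_one] at h
    have h9 : PC12M22.P.gR 9 = z⁻¹ := hinv 8 (by decide)
    rw [h9, hinv x hx10] at h
    have h' : z * (PC12M22.P.gR x * (z⁻¹ * (PC12M22.P.gR x)⁻¹)) = 1 := h
    calc z * PC12M22.P.gR x = (z * (PC12M22.P.gR x * (z⁻¹ * (PC12M22.P.gR x)⁻¹))) * (PC12M22.P.gR x * z) := by group
      _ = PC12M22.P.gR x * z := by rw [h', one_mul]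
  have hneg : ∀ x ∈ [0, 2, 6], z * (PC12M22.P.gR x)⁻¹ = (PC12M22.P.gR x)⁻¹ * z := by
    intro x hx
    have := hpos x hx
    calc z * (PC12M22.P.gR x)⁻¹ = (PC12M22.P.gR x)⁻¹ * (PC12M22.P.gR x * z) * (PC12M22.P.gR x)⁻¹ := by group
      _ = (PC12M22.P.gR x)⁻¹ * (z * PC12M22.P.gR x) * (PC12M22.P.gR x)⁻¹ := by rw [this]
      _ = (PC12M22.P.gR x)⁻¹ * z := by group
  interval_cases x
  · exact hpos 0 (by decide)
  · have := hneg 0 (by decide)
    rwa [← hinv 0 (by decide)] at this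
  · exact hpos 2 (by decide)
  · have := hneg 2 (by decide)
    rwa [← hinv 2 (by decide)] at this
  · rw [u_eq, mul_assoc]
  · have h5 : PC12M22.P.gR 5 = (PC12M22.P.gR 4)⁻¹ := hinv 4 (by decide)
    rw [h5, u_eq]
    group
  · exact hpos 6 (by decide)
  · have := hneg 6 (by decide)
    rwa [← hinv 6 (by decide)] at this
  · rfl
  · have h9 : PC12M22.P.gR 9 = z⁻¹ := hinv 8 (by decide)
    rw [h9, mul_inv_cancel, inv_mul_cancel]

theorem z_central : z ∈ Subgroup.center PC12M22.P.Grp := by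
  rw [Subgroup.mem_center_iff]
  intro γ
  have hγ : γ ∈ Subgroup.closure (PC12M22.P.gR '' Set.Iio PC12M22.P.k) := by
    rw [PC12M22.valid.gen_top]
    trivial
  induction hγ using Subgroup.closure_induction with
  | mem s hs =>
    obtain ⟨x, hx, rfl⟩ := hs
    exact (z_comm x hx).symm
  | one => simp
  | mul a b _ _ iha ihb => rw [mul_assoc, ihb, ← mul_assoc, iha, mul_assoc]
  | inv a _ iha =>
    calc a⁻¹ * z = a⁻¹ * (z * a) * a⁻¹ := by group
      _ = a⁻¹ * (a * z) * a⁻¹ := by rw [iha]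
      _ = z * a⁻¹ := by group

theorem cert0 : PC12M22.P.gR 0 ∈ commutator PC12M22.P.Grp := by
  apply mem_commutator_of_perm PC12M22.P PC12M22.valid 0
    [[5, 5, 5, 5, 5, 5], [0, 0, 0], [0, 0, 0], [0, 0, 0], [4, 4, 4, 3, 3, 1, 2, 2, 1, 3, 3, 1, 2, 2, 1], [4, 4, 4, 3, 3, 1, 2, 2, 1, 3, 3, 1, 2, 2, 1]]
    (by decide +kernel) (by decide +kernel)
    [0, 0, 0, 0, 0, 0, 0, 0, 2, 2, 2, 2, 2, 2, 2, 2, 4, 4, 4, 4, 4, 4]
    (by decide +kernel) (by decide +kernel)

theorem cert2 : PC12M22.P.gR 2 ∈ commutator PC12M22.P.Grp := by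
  apply mem_commutator_of_perm PC12M22.P PC12M22.valid 2
    [[1, 1, 1], [1, 1, 1], [1, 1, 1], [1, 1, 1], [1, 1, 1], [1, 1, 1], [1, 1, 1], [3, 3, 3, 3, 3], [3, 3, 3, 3, 3], [3, 3, 3, 3, 3], [3, 3, 3, 3, 3], [0, 2, 0, 2, 0, 2, 0, 2, 0, 2, 0, 2, 0, 2], [0, 2, 0, 2, 0, 2, 0, 2, 0, 2, 0, 2, 0, 2], [0, 2, 0, 2, 0, 2, 0, 2, 0, 2, 0, 2, 0, 2]]
    (by decide +kernel) (by decide +kernel)
    [0, 0, 0, 0, 0, 0, 0, 0, 0, 0, 0, 0, 0, 0, 0, 0, 0, 0, 0, 0, 0, 2, 2, 2, 2, 2, 2, 2, 2, 2, 2, 2, 2, 2, 2, 2, 2, 2, 2, 2, 2]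
    (by decide +kernel) (by decide +kernel)

theorem cert4 : PC12M22.P.gR 4 ∈ commutator PC12M22.P.Grp := by
  apply mem_commutator_of_perm PC12M22.P PC12M22.valid 4
    [[4, 4, 4, 4, 4, 4], [1, 1, 1], [1, 1, 1], [1, 1, 1], [1, 1, 1], [0, 3, 0, 2, 0, 3, 0, 2, 5], [0, 3, 0, 2, 0, 3, 0, 2, 5], [0, 3, 3, 0, 2, 2, 0, 3, 3, 0, 2, 2, 5, 5, 5]]
    (by decide +kernel) (by decide +kernel)
    [0, 0, 0, 0, 0, 0, 0, 0, 0, 0, 0, 0, 2, 2, 2, 2, 2, 2, 2, 2, 4, 4, 4, 4, 4]
    (by decide +kernel) (by decide +kernel)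

theorem cert6 : PC12M22.P.gR 6 ∈ commutator PC12M22.P.Grp := by
  apply mem_commutator_of_perm PC12M22.P PC12M22.valid 6
    [[7, 7, 7, 7, 7, 7, 7, 7, 7, 7, 7], [6, 6, 6, 6, 6, 3, 7, 2], [6, 6, 6, 6, 6, 3, 7, 2], [6, 6, 6, 6, 6, 3, 7, 2]]
    (by decide +kernel) (by decide +kernel)
    [2, 2, 2, 6, 6, 6, 6, 6, 6, 6, 6, 6, 6, 6, 6, 6, 6]
    (by decide +kernel) (by decide +kernel)

theorem cert8 : PC12M22.P.gR 8 ∈ commutator PC12M22.P.Grp := by
  apply mem_commutator_of_perm PC12M22.P PC12M22.valid 8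
    [[6, 6, 6, 6, 6, 6, 6, 6, 6, 6, 6], [3, 6, 2, 7, 7, 7, 7, 7], [3, 6, 2, 7, 7, 7, 7, 7], [3, 6, 2, 7, 7, 7, 7, 7], [8, 8, 8, 8, 8, 8, 6, 3, 3, 0, 3, 6, 3, 0, 3, 1, 3, 1], [0, 2, 7, 1, 6, 2, 0, 2, 7, 2, 2, 1, 2, 9, 9, 9, 9, 9]]
    (by decide +kernel) (by decide +kernel)
    [0, 0, 0, 0, 2, 2, 2, 2, 2, 2, 2, 2, 2, 6, 6, 6, 6, 6, 6, 6, 6, 6, 6, 6, 6, 6, 6, 6, 6, 6, 8, 8, 8, 8, 8]
    (by decide +kernel) (by decide +kernel)

/-- the generators are products of commutators -/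
theorem gR_mem_commutator (l : ℕ) (hl : l < 10) : PC12M22.P.gR l ∈ commutator PC12M22.P.Grp := by
  have hinv : ∀ y, y < 10 → PC12M22.P.gR (PC12M22.P.invR y) = (PC12M22.P.gR y)⁻¹ := fun y hy =>
    (PC12M22.valid.invR_sound y (by show y ≤ 10; omega)).2
  interval_cases l
  · exact cert0
  · rw [show (1 : ℕ) = PC12M22.P.invR 0 from rfl, hinv 0 (by decide)]
    exact Subgroup.inv_mem _ cert0
  · exact cert2
  · rw [show (3 : ℕ) = PC12M22.P.invR 2 from rfl, hinv 2 (by decide)]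
    exact Subgroup.inv_mem _ cert2
  · exact cert4
  · rw [show (5 : ℕ) = PC12M22.P.invR 4 from rfl, hinv 4 (by decide)]
    exact Subgroup.inv_mem _ cert4
  · exact cert6
  · rw [show (7 : ℕ) = PC12M22.P.invR 6 from rfl, hinv 6 (by decide)]
    exact Subgroup.inv_mem _ cert6
  · exact cert8
  · rw [show (9 : ℕ) = PC12M22.P.invR 8 from rfl, hinv 8 (by decide)]
    exact Subgroup.inv_mem _ cert8

theorem perfect : commutator PC12M22.P.Grp = ⊤ :=
  commutator_eq_top_of_letters PC12M22.P PC12M22.valid gR_mem_commutator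

/-- the covering homomorphism is a stem extension -/
theorem isStem : IsStemExtension π := by
  refine ⟨π_surjective, ?_, ?_⟩
  · rw [ker_eq, Subgroup.zpowers_le]
    exact z_central
  · rw [perfect]
    exact le_top

/-- the kernel is cyclic of order 12 -/
theorem ker_equiv : Nonempty (π.ker ≃* Multiplicative (ZMod 12)) := by
  have h12 : Nat.card (Multiplicative (ZMod 12)) = 12 := by
    rw [Nat.card_eq_fintype_card]
    exact ZMod.card 12
  have hc : IsCyclic π.ker := by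
    rw [ker_eq]
    infer_instance
  have hc' : IsCyclic (Multiplicative (ZMod 12)) := inferInstance
  exact ⟨mulEquivOfCyclicCardEq (card_ker.trans h12.symm)⟩

end Cfsg.Agent.Lib.Helper4.C12M22Cover
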