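import Mathlib
import Cfsg.Prelude.Def_SporCoxeter

/-! The twelve-fold cover of the Mathieu group M22, presented on generators `a`, `b`, `u` of a subgroup 6.A7, an element `g` of order 11 and the central element `z` of order 12 (generated). -/

namespace Cfsg.Agent.Lib.Helper4

namespace C12M22

/-- the generators -/
inductive Gen
  | a
  | b
  | u
  | g
  | z
  deriving DecidableEq

abbrev a : FreeGroup Gen := FreeGroup.of Gen.a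
abbrev b : FreeGroup Gen := FreeGroup.of Gen.b
abbrev u : FreeGroup Gen := FreeGroup.of Gen.u
abbrev g : FreeGroup Gen := FreeGroup.of Gen.g
abbrev z : FreeGroup Gen := FreeGroup.of Gen.z

/-- no Coxeter graph -/
def edges : List (Gen × ℕ × Gen) := []

/-- the relators -/
def extra : List (FreeGroup Gen) := [
  u ^ 6,
  u * a * u⁻¹ * a⁻¹,
  u * b * u⁻¹ * b⁻¹,
  a ^ 3,
  b ^ 5,
  (a * b) ^ 7,
  ((a * b⁻¹ * a * b) ^ 2) * u⁻¹,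
  ((a * b⁻¹ * b⁻¹ * a * b * b) ^ 2) * (u⁻¹ ^ 3),
  g ^ 11,
  b⁻¹ * g * b * g⁻¹ * g⁻¹ * g⁻¹ * g⁻¹ * g⁻¹,
  u * z⁻¹ * z⁻¹,
  z ^ 12,
  z * a * z⁻¹ * a⁻¹,
  z * b * z⁻¹ * b⁻¹,
  z * g * z⁻¹ * g⁻¹,
  a * b * a * b * a⁻¹ * b * g⁻¹ * b * a⁻¹ * b * b * g⁻¹ * (z⁻¹ ^ 6),
  a * b * g⁻¹ * a⁻¹ * g * b * a * b * g⁻¹ * b * b * a⁻¹ * b * (z⁻¹ ^ 5) ]

end C12M22

end Cfsg.Agent.Lib.Helper4
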