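import Mathlib
import Cfsg.Prelude.Def_Spor_Mathieu
import Cfsg.Agent.Lib.Helper9.M24U1
import Cfsg.Agent.Lib.Helper9.M24T4
import Cfsg.Agent.Lib.Helper4.M22pMain
import Cfsg.Agent.Lib.Helper4.StemLib5

/-!
The presented group `M22p` is isomorphic to the Mathieu group M22 of the definitions (the stabiliser of the extra
point and of the residue 0 in the automorphism group of the binary Golay code).
-/

set_option autoImplicit false

namespace Cfsg.Agent.Lib.Helper4.M22pIso

open Cfsg Cfsg.Agent.Lib.Helper4.TC Cfsg.Agent.Lib.Helper4.TCD Cfsg.Agent.Lib.Helper4.TC.Log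
  Cfsg.Agent.Lib.Helper9.M24T1 Cfsg.Agent.Lib.Helper9.M24U1 Cfsg.Agent.Lib.Helper9.M24T3

/-- the image of `a` -/
def pa : Equiv.Perm GolayPt :=
  tperm [0, 19, 4, 5, 20, 22, 10, 7, 16, 14, 12, 8, 6, 1, 21, 15, 11, 17, 18, 13, 2, 9, 3, 23]
    [0, 13, 20, 22, 2, 3, 12, 7, 11, 21, 6, 16, 10, 19, 9, 15, 8, 17, 18, 1, 4, 14, 5, 23] (by decide +kernel) (by decide +kernel)

/-- the image of `b` -/
def pb : Equiv.Perm GolayPt :=
  tperm [0, 16, 13, 17, 2, 5, 8, 15, 21, 10, 20, 19, 14, 1, 6, 18, 4, 7, 3, 9, 11, 12, 22, 23]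
    [0, 13, 4, 18, 16, 5, 14, 17, 6, 19, 9, 20, 21, 2, 12, 7, 1, 3, 15, 11, 10, 8, 22, 23] (by decide +kernel) (by decide +kernel)

/-- the image of `g` -/
def pg : Equiv.Perm GolayPt :=
  tperm [0, 20, 16, 15, 9, 19, 17, 21, 12, 13, 11, 2, 3, 5, 7, 18, 4, 22, 6, 1, 10, 8, 14, 23]
    [0, 19, 11, 12, 16, 13, 18, 14, 21, 4, 20, 10, 8, 9, 22, 3, 2, 6, 15, 5, 1, 7, 17, 23] (by decide +kernel) (by decide +kernel)

theorem pa_M24 : pa ∈ M24 := tperm_mem _ _ _ _ (by decide +kernel) (by decide +kernel)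
theorem pb_M24 : pb ∈ M24 := tperm_mem _ _ _ _ (by decide +kernel) (by decide +kernel)
theorem pg_M24 : pg ∈ M24 := tperm_mem _ _ _ _ (by decide +kernel) (by decide +kernel)

theorem mem_M22_of (g : Equiv.Perm GolayPt) (h1 : g ∈ M24) (h2 : g none = none) (h3 : g (some 0) = some 0) :
    g ∈ Spor.M22 := by
  unfold Spor.M22 Spor.M23
  rw [Subgroup.mem_inf, Subgroup.mem_inf]
  exact ⟨⟨h1, MulAction.mem_stabilizer_iff.2 h2⟩, MulAction.mem_stabilizer_iff.2 h3⟩

theorem pa_mem : pa ∈ Spor.M22 := mem_M22_of pa pa_M24 (by decide +kernel) (by decide +kernel)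
theorem pb_mem : pb ∈ Spor.M22 := mem_M22_of pb pb_M24 (by decide +kernel) (by decide +kernel)
theorem pg_mem : pg ∈ Spor.M22 := mem_M22_of pg pg_M24 (by decide +kernel) (by decide +kernel)

/-- the images of the letters -/
def gV (l : ℕ) : Equiv.Perm GolayPt := [pa, pa⁻¹, pb, pb⁻¹, pg, pg⁻¹].getD l 1

theorem gV_mem (l : ℕ) : gV l ∈ Spor.M22 := by
  by_cases hl : l < 6
  · interval_cases l
    · exact pa_mem
    · exact Spor.M22.inv_mem pa_mem
    · exact pb_mem
    · exact Spor.M22.inv_mem pb_mem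
    · exact pg_mem
    · exact Spor.M22.inv_mem pg_mem
  · have : gV l = 1 := by
      unfold gV
      rw [List.getD_eq_default]
      simp only [List.length_cons, List.length_nil]
      omega
    rw [this]
    exact Spor.M22.one_mem

/-- the images of the letters in M22 -/
def gT (l : ℕ) : ↥Spor.M22 := ⟨gV l, gV_mem l⟩

theorem coe_wordP (L : List ℕ) : ((wordP gT L : ↥Spor.M22) : Equiv.Perm GolayPt) = wordP gV L := by
  have := wordP_hom Spor.M22.subtype gT L
  exact this.symm

theorem rel_ok : ∀ L ∈ PM22p.P.real, wordP gV L = 1 := by decide +kernel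

theorem inv_ok : ∀ l, l < PM22p.P.k → gV l * gV (PM22p.P.invR l) = 1 := by
  intro l hl
  have hl : l < 6 := hl
  interval_cases l
  · exact mul_inv_cancel pa
  · exact inv_mul_cancel pa
  · exact mul_inv_cancel pb
  · exact inv_mul_cancel pb
  · exact mul_inv_cancel pg
  · exact inv_mul_cancel pg

theorem exists_hom : ∃ f : PM22p.P.Grp →* ↥Spor.M22, ∀ l, l < PM22p.P.k → f (PM22p.P.gR l) = gT l := by
  apply exists_hom_of_letters PM22p.P PM22p.valid gT
  · intro l hl
    apply Subtype.ext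
    exact inv_ok l hl
  · intro L hL
    apply Subtype.ext
    rw [coe_wordP]
    exact rel_ok L hL

/-- the homomorphism to M22 -/
noncomputable def f : PM22p.P.Grp →* ↥Spor.M22 := Classical.choose exists_hom

theorem f_gR (l : ℕ) (hl : l < 6) : f (PM22p.P.gR l) = gT l := Classical.choose_spec exists_hom l hl

theorem pa_ne_one : pa ≠ 1 := by
  intro h
  have h1 : pa (some 1) = some 1 := by rw [h]; rfl
  revert h1
  decide +kernel

theorem f_injective : Function.Injective f := by
  apply injective_of_simple M22pMain.simple_aux f (PM22p.P.gR 0)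
  rw [f_gR 0 (by decide)]
  intro h
  apply pa_ne_one
  have := congrArg Subtype.val h
  exact this

theorem M22_eq : Spor.M22 = fixL M24 [none, some 0] := by
  have h1 : fixL M24 [none] = M24 ⊓ MulAction.stabilizer (Equiv.Perm GolayPt) (none : GolayPt) := by
    have := fixL_snoc M24 [] none
    rw [fixL_nil] at this
    exact this
  have h2 : fixL M24 [none, some 0] =
      fixL M24 [none] ⊓ MulAction.stabilizer (Equiv.Perm GolayPt) (some 0 : GolayPt) := fixL_snoc M24 [none] (some 0)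
  rw [h2, h1]
  rfl

theorem card_M22 : Nat.card ↥Spor.M22 = 443520 := by
  rw [M22_eq]
  exact Cfsg.Agent.Lib.Helper9.M24T4.card_fix2

/-- the presented group `M22p` is the Mathieu group M22 -/
theorem iso : Nonempty (PM22p.P.Grp ≃* ↥Spor.M22) := by
  obtain ⟨fG, hinj, hcard⟩ := M22pMain.order_aux
  have := fG
  have : Finite ↥Spor.M22 := Nat.finite_of_card_ne_zero (by rw [card_M22]; decide)
  have hb : Function.Bijective f :=
    f_injective.bijective_of_nat_card_le (by rw [card_M22, hcard])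
  exact ⟨MulEquiv.ofBijective f hb⟩

end Cfsg.Agent.Lib.Helper4.M22pIso
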