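import Mathlib
import Cfsg.Agent.Lib.Helper4.A7pMain
import Cfsg.Agent.Lib.Helper4.C6A7Main
import Cfsg.Agent.Lib.Helper4.AbelCert
import Cfsg.Agent.Lib.Helper4.StemLib6


/-!
The presented group `C6A7` is a perfect central extension of the presented group `A7p` with cyclic kernel of order 6.
-/

set_option autoImplicit false

namespace Cfsg.Agent.Lib.Helper4.C6A7Cover

open Cfsg Cfsg.Agent.Lib.Helper4.TC Cfsg.Agent.Lib.Helper4.TCD Cfsg.Agent.Lib.Helper4.TC.Log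
  Cfsg.Agent.Lib.Helper4.Stem Cfsg.Agent.Lib.Helper4.AbelCert

/-- the letters of `C6A7` as words of `A7p`: the central letter is killed -/
def Wl (l : ℕ) : List ℕ := [[0], [1], [2], [3], [], []].getD l []

theorem rel_act : ∀ L ∈ PC6A7.P.real, ∀ i, i < A7pA.T.N →
    Tab.relActOK A7pA.T A7pA.D (L.flatMap Wl) i = true := by decide +kernel

theorem rel_lt : ∀ L ∈ PC6A7.P.real, ∀ x ∈ L.flatMap Wl, x < 4 := by decide +kernel

theorem exists_hom : ∃ π : PC6A7.P.Grp →* PA7p.P.Grp, ∀ l, l < PC6A7.P.k →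
    π (PC6A7.P.gR l) = xw PA7p.P Wl l := by
  obtain ⟨fG, hinj, hcard⟩ := A7pMain.order_aux
  apply exists_hom_of_letters PC6A7.P PC6A7.valid (xw PA7p.P Wl)
  · intro l hl
    have hl : l < 6 := hl
    have h1 : PA7p.P.gR 1 = (PA7p.P.gR 0)⁻¹ := (PA7p.valid.invR_sound 0 (by decide)).2
    have h3 : PA7p.P.gR 3 = (PA7p.P.gR 2)⁻¹ := (PA7p.valid.invR_sound 2 (by decide)).2
    interval_cases l
    · show wordP PA7p.P.gR [0] * wordP PA7p.P.gR [1] = 1
      simp only [wordP_cons, wordP_nil, mul_one, h1, mul_inv_cancel]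
    · show wordP PA7p.P.gR [1] * wordP PA7p.P.gR [0] = 1
      simp only [wordP_cons, wordP_nil, mul_one, h1, inv_mul_cancel]
    · show wordP PA7p.P.gR [2] * wordP PA7p.P.gR [3] = 1
      simp only [wordP_cons, wordP_nil, mul_one, h3, mul_inv_cancel]
    · show wordP PA7p.P.gR [3] * wordP PA7p.P.gR [2] = 1
      simp only [wordP_cons, wordP_nil, mul_one, h3, inv_mul_cancel]
    · show wordP PA7p.P.gR [] * wordP PA7p.P.gR [] = 1
      simp only [wordP_nil, mul_one]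
    · show wordP PA7p.P.gR [] * wordP PA7p.P.gR [] = 1
      simp only [wordP_nil, mul_one]
  · intro L hL
    rw [wordP_xw]
    exact A7pA.inst.word_eq_one hinj _ (rel_lt L hL) (rel_act L hL)

/-- the covering homomorphism -/
noncomputable def π : PC6A7.P.Grp →* PA7p.P.Grp := Classical.choose exists_hom

theorem π_gR (l : ℕ) (hl : l < 6) : π (PC6A7.P.gR l) = xw PA7p.P Wl l :=
  Classical.choose_spec exists_hom l hl

theorem π_surjective : Function.Surjective π := by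
  rw [← MonoidHom.range_eq_top, eq_top_iff, ← PA7p.valid.gen_top, Subgroup.closure_le]
  rintro _ ⟨y, hy, rfl⟩
  have hy : y < 4 := hy
  refine ⟨PC6A7.P.gR y, ?_⟩
  rw [π_gR y (by omega)]
  interval_cases y <;> simp [xw, Wl, wordP_cons, wordP_nil]

/-- the central element -/
noncomputable def z : PC6A7.P.Grp := PC6A7.P.gR 4

theorem z_mem_ker : z ∈ π.ker := by
  rw [MonoidHom.mem_ker]
  show π (PC6A7.P.gR 4) = 1
  rw [π_gR 4 (by decide)]
  rfl

theorem exists_row2 : ∃ i, i < C6A7A.T.N ∧ Tab.act C6A7A.T C6A7A.D [4, 4] i ≠ i :=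
  ⟨0, by decide +kernel, by decide +kernel⟩

theorem exists_row3 : ∃ i, i < C6A7A.T.N ∧ Tab.act C6A7A.T C6A7A.D [4, 4, 4] i ≠ i :=
  ⟨0, by decide +kernel, by decide +kernel⟩

theorem z_pow2 : z ^ 2 ≠ 1 := by
  obtain ⟨i, hi, h⟩ := exists_row2
  have := C6A7A.inst.word_ne_one [4, 4] (by decide) i hi h
  intro h1
  apply this
  rw [wordP_cons, wordP_cons, wordP_nil, mul_one]
  rw [pow_two] at h1
  exact h1

theorem z_pow3 : z ^ 3 ≠ 1 := by
  obtain ⟨i, hi, h⟩ := exists_row3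
  have := C6A7A.inst.word_ne_one [4, 4, 4] (by decide) i hi h
  intro h1
  apply this
  rw [wordP_cons, wordP_cons, wordP_cons, wordP_nil, mul_one]
  rw [pow_succ, pow_two, mul_assoc] at h1
  exact h1

theorem z_pow6 : z ^ 6 = 1 := by
  have h := (PC6A7.valid.real_sound (List.replicate 6 [4]).flatten (by decide +kernel)).2
  rw [wordP_replicate_flatten, wordP_cons, wordP_nil, mul_one] at h
  exact h

theorem orderOf_z : orderOf z = 6 := by
  apply orderOf_eq_of_pow z 6 (by decide) z_pow6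
  intro p hp hp6
  have hp' : p = 2 ∨ p = 3 := by
    have h6 : p ∈ Nat.primeFactors 6 := Nat.mem_primeFactors.2 ⟨hp, hp6, by decide⟩
    have e : Nat.primeFactors 6 = {2, 3} := by decide +kernel
    rw [e] at h6
    simpa using h6
  rcases hp' with rfl | rfl
  · exact z_pow3
  · exact z_pow2

theorem card_ker : Nat.card π.ker = 6 := by
  obtain ⟨fG, _, hcard⟩ := C6A7Main.order_aux
  obtain ⟨fG', _, hcard'⟩ := A7pMain.order_aux
  have h := card_eq_of_stem π π_surjective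
  rw [hcard, hcard'] at h
  omega

theorem ker_eq : π.ker = Subgroup.zpowers z := by
  symm
  have hfin : Finite π.ker := Nat.finite_of_card_ne_zero (by rw [card_ker]; decide)
  apply Subgroup.eq_of_le_of_card_ge
  · rw [Subgroup.zpowers_le]
    exact z_mem_ker
  · rw [card_ker, Nat.card_zpowers, orderOf_z]

theorem comm_rel : ∀ x ∈ [0, 2], [4, x, 5, PC6A7.P.invR x] ∈ PC6A7.P.real := by decide +kernel

theorem z_comm (x : ℕ) (hx : x < 6) : z * PC6A7.P.gR x = PC6A7.P.gR x * z := by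
  have hinv : ∀ y, y < 6 → PC6A7.P.gR (PC6A7.P.invR y) = (PC6A7.P.gR y)⁻¹ := fun y hy =>
    (PC6A7.valid.invR_sound y (by show y ≤ 6; omega)).2
  have hpos : ∀ x ∈ [0, 2], z * PC6A7.P.gR x = PC6A7.P.gR x * z := by
    intro x hx
    have h := (PC6A7.valid.real_sound _ (comm_rel x hx)).2
    have hx6 : x < 6 := by
      simp only [List.mem_cons, List.not_mem_nil, or_false] at hx
      omega
    simp only [wordP_cons, wordP_nil, mul_one] at h
    have h5 : PC6A7.P.gR 5 = z⁻¹ := hinv 4 (by decide)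
    rw [h5, hinv x hx6] at h
    have h' : z * (PC6A7.P.gR x * (z⁻¹ * (PC6A7.P.gR x)⁻¹)) = 1 := h
    calc z * PC6A7.P.gR x = (z * (PC6A7.P.gR x * (z⁻¹ * (PC6A7.P.gR x)⁻¹))) * (PC6A7.P.gR x * z) := by group
      _ = PC6A7.P.gR x * z := by rw [h', one_mul]
  have hneg : ∀ x ∈ [0, 2], z * (PC6A7.P.gR x)⁻¹ = (PC6A7.P.gR x)⁻¹ * z := by
    intro x hx
    have := hpos x hx
    calc z * (PC6A7.P.gR x)⁻¹ = (PC6A7.P.gR x)⁻¹ * (PC6A7.P.gR x * z) * (PC6A7.P.gR x)⁻¹ := by group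
      _ = (PC6A7.P.gR x)⁻¹ * (z * PC6A7.P.gR x) * (PC6A7.P.gR x)⁻¹ := by rw [this]
      _ = (PC6A7.P.gR x)⁻¹ * z := by group
  interval_cases x
  · exact hpos 0 (by decide)
  · have := hneg 0 (by decide)
    rwa [← hinv 0 (by decide)] at this
  · exact hpos 2 (by decide)
  · have := hneg 2 (by decide)
    rwa [← hinv 2 (by decide)] at this
  · rfl
  · have h5 : PC6A7.P.gR 5 = z⁻¹ := hinv 4 (by decide)
    rw [h5, mul_inv_cancel, inv_mul_cancel]

theorem z_central : z ∈ Subgroup.center PC6A7.P.Grp := by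
  rw [Subgroup.mem_center_iff]
  intro γ
  have hγ : γ ∈ Subgroup.closure (PC6A7.P.gR '' Set.Iio PC6A7.P.k) := by
    rw [PC6A7.valid.gen_top]
    trivial
  induction hγ using Subgroup.closure_induction with
  | mem s hs =>
    obtain ⟨x, hx, rfl⟩ := hs
    exact (z_comm x hx).symm
  | one => simp
  | mul a b _ _ iha ihb => rw [mul_assoc, ihb, ← mul_assoc, iha, mul_assoc]
  | inv a _ iha =>
    calc a⁻¹ * z = a⁻¹ * (z * a) * a⁻¹ := by group
      _ = a⁻¹ * (a * z) * a⁻¹ := by rw [iha]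
      _ = z * a⁻¹ := by group

theorem cert0 : PC6A7.P.gR 0 ∈ commutator PC6A7.P.Grp := by
  apply mem_commutator_of_perm PC6A7.P PC6A7.valid 0
    [[5, 5, 5, 5, 5, 5], [0, 0, 0], [0, 0, 0], [0, 0, 0], [4, 4, 4, 3, 3, 1, 2, 2, 1, 3, 3, 1, 2, 2, 1], [4, 4, 4, 3, 3, 1, 2, 2, 1, 3, 3, 1, 2, 2, 1]]
    (by decide +kernel) (by decide +kernel)
    [0, 0, 0, 0, 0, 0, 0, 0, 2, 2, 2, 2, 2, 2, 2, 2, 4, 4, 4, 4, 4, 4]
    (by decide +kernel) (by decide +kernel)

theorem cert2 : PC6A7.P.gR 2 ∈ commutator PC6A7.P.Grp := by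
  apply mem_commutator_of_perm PC6A7.P PC6A7.valid 2
    [[1, 1, 1], [1, 1, 1], [1, 1, 1], [1, 1, 1], [1, 1, 1], [1, 1, 1], [1, 1, 1], [3, 3, 3, 3, 3], [3, 3, 3, 3, 3], [3, 3, 3, 3, 3], [3, 3, 3, 3, 3], [0, 2, 0, 2, 0, 2, 0, 2, 0, 2, 0, 2, 0, 2], [0, 2, 0, 2, 0, 2, 0, 2, 0, 2, 0, 2, 0, 2], [0, 2, 0, 2, 0, 2, 0, 2, 0, 2, 0, 2, 0, 2]]
    (by decide +kernel) (by decide +kernel)
    [0, 0, 0, 0, 0, 0, 0, 0, 0, 0, 0, 0, 0, 0, 0, 0, 0, 0, 0, 0, 0, 2, 2, 2, 2, 2, 2, 2, 2, 2, 2, 2, 2, 2, 2, 2, 2, 2, 2, 2, 2]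
    (by decide +kernel) (by decide +kernel)

theorem cert4 : PC6A7.P.gR 4 ∈ commutator PC6A7.P.Grp := by
  apply mem_commutator_of_perm PC6A7.P PC6A7.valid 4
    [[4, 4, 4, 4, 4, 4], [1, 1, 1], [1, 1, 1], [1, 1, 1], [1, 1, 1], [0, 3, 0, 2, 0, 3, 0, 2, 5], [0, 3, 0, 2, 0, 3, 0, 2, 5], [0, 3, 3, 0, 2, 2, 0, 3, 3, 0, 2, 2, 5, 5, 5]]
    (by decide +kernel) (by decide +kernel)
    [0, 0, 0, 0, 0, 0, 0, 0, 0, 0, 0, 0, 2, 2, 2, 2, 2, 2, 2, 2, 4, 4, 4, 4, 4]
    (by decide +kernel) (by decide +kernel)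

/-- the generators are products of commutators -/
theorem gR_mem_commutator (l : ℕ) (hl : l < 6) : PC6A7.P.gR l ∈ commutator PC6A7.P.Grp := by
  have hinv : ∀ y, y < 6 → PC6A7.P.gR (PC6A7.P.invR y) = (PC6A7.P.gR y)⁻¹ := fun y hy =>
    (PC6A7.valid.invR_sound y (by show y ≤ 6; omega)).2
  interval_cases l
  · exact cert0
  · rw [show (1 : ℕ) = PC6A7.P.invR 0 from rfl, hinv 0 (by decide)]
    exact Subgroup.inv_mem _ cert0
  · exact cert2
  · rw [show (3 : ℕ) = PC6A7.P.invR 2 from rfl, hinv 2 (by decide)]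
    exact Subgroup.inv_mem _ cert2
  · exact cert4
  · rw [show (5 : ℕ) = PC6A7.P.invR 4 from rfl, hinv 4 (by decide)]
    exact Subgroup.inv_mem _ cert4

theorem perfect : commutator PC6A7.P.Grp = ⊤ :=
  commutator_eq_top_of_letters PC6A7.P PC6A7.valid gR_mem_commutator

/-- the covering homomorphism is a stem extension -/
theorem isStem : IsStemExtension π := by
  refine ⟨π_surjective, ?_, ?_⟩
  · rw [ker_eq, Subgroup.zpowers_le]
    exact z_central
  · rw [perfect]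
    exact le_top

/-- the kernel is cyclic of order 6 -/
theorem ker_equiv : Nonempty (π.ker ≃* Multiplicative (ZMod 6)) := by
  have h6 : Nat.card (Multiplicative (ZMod 6)) = 6 := by
    rw [Nat.card_eq_fintype_card]
    exact ZMod.card 6
  have hc : IsCyclic π.ker := by
    rw [ker_eq]
    infer_instance
  have hc' : IsCyclic (Multiplicative (ZMod 6)) := inferInstance
  exact ⟨mulEquivOfCyclicCardEq (card_ker.trans h6.symm)⟩

end Cfsg.Agent.Lib.Helper4.C6A7Cover
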