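import Mathlib
import Cfsg.Agent.Lib.Helper4.C6A7Main
import Cfsg.Agent.Lib.Helper4.TCD_SC6A7p2A_Fin
import Cfsg.Agent.Lib.Helper4.TCD_SC6A7p2W
import Cfsg.Agent.Lib.Helper4.StemLib5

/-! `C6A7` has no stem extension with kernel of order 2 (generated). -/

namespace Cfsg.Agent.Lib.Helper4.SC6A7p2Main

open Cfsg.Agent.Lib.Helper4.TC Cfsg.Agent.Lib.Helper4.TCD Cfsg.Agent.Lib.Helper4.TC.Log Cfsg.Agent.Lib.Helper4.Stem

/-- the description of the auxiliary presentation -/
def spec : Spec2 :=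
  { p := 2
    items := [(0, [], 3),
      (2, [], 5),
      (4, [0, 3, 0, 2, 0, 3, 0, 2], 0),
      (6, [4, 4, 4, 4, 4, 4], 0),
      (8, [4, 0, 5, 1], 0),
      (10, [4, 2, 5, 3], 0),
      (12, [0, 2, 0, 2, 0, 2, 0, 2, 0, 2, 0, 2, 0, 2], 0),
      (14, [0, 3, 3, 0, 2, 2, 0, 3, 3, 0, 2, 2, 5, 5, 5], 0)]
    cen := [6, 8, 10, 12, 14]
    R := []
    sub := [2]
    PR := [] }

/-- the letters of the auxiliary presentation as words of the base group -/
def Wl (l : ℕ) : List ℕ :=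
  [[0], [1], [2], [3], [4], [5], [], [], [], [], [], [], [], [], [], []].getD l []

theorem checks_eq : checks spec PC6A7.P.invR Wl = SC6A7p2W.chkAll := by decide +kernel

set_option maxRecDepth 100000 in
theorem noStem : NoStemPrime PC6A7.P.Grp 2 := by
  obtain ⟨fG, hinj, hcard⟩ := C6A7Main.order_aux
  have hchecks : ∀ w ∈ checks spec PC6A7.P.invR Wl, wordP PC6A7.P.gR w = 1 := by
    rw [checks_eq]
    intro w hw
    exact C6A7A.inst.word_eq_one hinj w (SC6A7p2W.hAll_lt w hw) (SC6A7p2W.hAll w hw)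
  exact noStemPrime_pres_cyclic PC6A7.P PC6A7.valid PSC6A7p2.P PSC6A7p2.valid spec (by show Nat.Prime 2; norm_num) Wl
    (by decide +kernel) (by decide +kernel) hchecks (by decide +kernel) 2 5 rfl (by decide +kernel) (by decide)
    3024 (by decide) SC6A7p2A.index_eq fG 15120 hcard (by decide)

end Cfsg.Agent.Lib.Helper4.SC6A7p2Main
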