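import Mathlib
import Cfsg.Agent.Lib.Helper4.C12M22Main
import Cfsg.Agent.Lib.Helper4.TCD_C12M22B_Fin
import Cfsg.Agent.Lib.Helper4.C6A7Stem

/-! The presented group `C12M22` contains the presented group `C6A7` as a subgroup of index 352, and stem
extensions with kernel of prime order split over it. -/

set_option autoImplicit false

namespace Cfsg.Agent.Lib.Helper4.C12M22Sub

open Cfsg.Agent.Lib.Helper4.TC Cfsg.Agent.Lib.Helper4.TCD Cfsg.Agent.Lib.Helper4.TC.Log Cfsg.Agent.Lib.Helper4.Stem

/-- the letters of `C6A7` as letters of `C12M22` -/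
def embU (l : ℕ) : ℕ := [0, 1, 2, 3, 4, 5].getD l 10

theorem real_subU : ∀ L ∈ PC6A7.P.real, L.map embU ∈ PC12M22.P.real := by decide +kernel

theorem embU_emb : LetterEmb PC6A7.P PC12M22.P embU where
  hP := PC6A7.valid
  hQ := PC12M22.valid
  hlt := by
    intro l hl
    have hl : l < 6 := hl
    show embU l < 10
    interval_cases l <;> decide
  hinv := by
    intro l hl
    have hl : l < 6 := hl
    interval_cases l <;> rfl
  hrel := by
    intro L hL
    exact (PC12M22.valid.real_sound _ (real_subU L hL)).2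

/-- the words generating `C6A7` -/
def subsU : List (List ℕ) := [[0], [2], [4]]

theorem subsU_map : subsU.map (List.map embU) = C12M22B.subs := by decide

theorem subG_U_top : Inst.subG PC6A7.P subsU = ⊤ := by
  rw [eq_top_iff, ← PC6A7.valid.gen_top, Subgroup.closure_le]
  rintro _ ⟨l, hl, rfl⟩
  have hl : l < 6 := hl
  interval_cases l
  · exact Subgroup.subset_closure ⟨[0], by decide, by rw [wordP_cons, wordP_nil, mul_one]⟩
  · have h : PC6A7.P.gR 1 = (PC6A7.P.gR 0)⁻¹ := (PC6A7.valid.invR_sound 0 (by decide)).2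
    rw [h]
    exact Subgroup.inv_mem _ (Subgroup.subset_closure ⟨[0], by decide, by rw [wordP_cons, wordP_nil, mul_one]⟩)
  · exact Subgroup.subset_closure ⟨[2], by decide, by rw [wordP_cons, wordP_nil, mul_one]⟩
  · have h : PC6A7.P.gR 3 = (PC6A7.P.gR 2)⁻¹ := (PC6A7.valid.invR_sound 2 (by decide)).2
    rw [h]
    exact Subgroup.inv_mem _ (Subgroup.subset_closure ⟨[2], by decide, by rw [wordP_cons, wordP_nil, mul_one]⟩)
  · exact Subgroup.subset_closure ⟨[4], by decide, by rw [wordP_cons, wordP_nil, mul_one]⟩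
  · have h : PC6A7.P.gR 5 = (PC6A7.P.gR 4)⁻¹ := (PC6A7.valid.invR_sound 4 (by decide)).2
    rw [h]
    exact Subgroup.inv_mem _ (Subgroup.subset_closure ⟨[4], by decide, by rw [wordP_cons, wordP_nil, mul_one]⟩)

theorem range_hom : embU_emb.hom.range = Inst.subG PC12M22.P C12M22B.subs := by
  rw [MonoidHom.range_eq_map, ← subG_U_top, embU_emb.map_subG subsU (by decide), subsU_map]

/-- the subgroup is an image of `C6A7` -/
theorem sub_card : Finite (Inst.subG PC12M22.P C12M22B.subs) ∧
    Nat.card (Inst.subG PC12M22.P C12M22B.subs) ≤ 15120 := by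
  obtain ⟨fK, _, cK⟩ := C6A7Main.order_aux
  rw [← range_hom]
  have := fK
  refine ⟨Finite.of_surjective embU_emb.hom.rangeRestrict embU_emb.hom.rangeRestrict_surjective, ?_⟩
  rw [← cK]
  exact Nat.card_le_card_of_surjective embU_emb.hom.rangeRestrict embU_emb.hom.rangeRestrict_surjective

/-- the subgroup has order 15120 -/
theorem sub_card_eq : Nat.card (Inst.subG PC12M22.P C12M22B.subs) = 15120 := by
  obtain ⟨fG, _, hcard⟩ := C12M22Main.order_aux
  have h := Subgroup.card_mul_index (Inst.subG PC12M22.P C12M22B.subs)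
  rw [C12M22B.index_eq, hcard] at h
  have e : (5322240 : ℕ) = 15120 * 352 := by norm_num
  rw [e] at h
  exact Nat.eq_of_mul_eq_mul_right (by norm_num) h

/-- `C6A7` embeds -/
theorem hom_injective : Function.Injective embU_emb.hom := by
  obtain ⟨fK, _, cK⟩ := C6A7Main.order_aux
  have := fK
  have hs : Function.Surjective embU_emb.hom.rangeRestrict := embU_emb.hom.rangeRestrict_surjective
  have hc : Nat.card PC6A7.P.Grp ≤ Nat.card embU_emb.hom.range := by
    rw [range_hom, sub_card_eq, cK]
  have hb : Function.Bijective embU_emb.hom.rangeRestrict := hs.bijective_of_nat_card_le hc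
  intro x y hxy
  apply hb.1
  apply Subtype.ext
  exact hxy

/-- stem extensions split over the subgroup -/
theorem liftsP_sub (p : ℕ) (hp : p.Prime) :
    LiftsP PC12M22.P.Grp (Inst.subG PC12M22.P C12M22B.subs) p :=
  liftsP_of_injective embU_emb.hom hom_injective _ range_hom p hp C6A7Cover.perfect (C6A7Stem.noStem p hp)

end Cfsg.Agent.Lib.Helper4.C12M22Sub
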