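import Mathlib
import Cfsg.Agent.Lib.Helper4.StemLib6

/-!
Stem extensions, part 8: exact relators.  In a central extension with kernel of order `p`, two elements with the
same image and both of order dividing a number `m` prime to `p` are equal.  So a relator of the form
`u c u⁻¹ d⁻¹`, where `c` and `d` are powers of generators of order prime to `p` or words of order prime to `p` in
the generators of the subgroup that lifts, holds exactly for the lifted generators and needs no central letter.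
-/

set_option autoImplicit false

namespace Cfsg.Agent.Lib.Helper4.Stem

open Cfsg Cfsg.Agent.Lib.Helper4.TC Cfsg.Agent.Lib.Helper4.TC.Log
open scoped commutatorElement

universe u

/-- the group theory behind exact relators -/
theorem eq_one_of_conj_pow {Γ : Type*} [Group Γ] (U C D Z : Γ) (m p : ℕ) (hcop : Nat.Coprime m p)
    (hZ : Z = U * C * U⁻¹ * D⁻¹) (hcen : ∀ y : Γ, Z * y = y * Z) (hZp : Z ^ p = 1) (hC : C ^ m = 1)
    (hD : D ^ m = 1) : Z = 1 := by
  have h1 : U * C * U⁻¹ = Z * D := by rw [hZ]; group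
  have h2 : (U * C * U⁻¹) ^ m = 1 := by
    rw [conj_pow, hC, mul_one, mul_inv_cancel]
  have h3 : (Z * D) ^ m = Z ^ m * D ^ m := (show Commute Z D from hcen D).mul_pow m
  rw [h1, h3, hD, mul_one] at h2
  have d1 := orderOf_dvd_of_pow_eq_one h2
  have d2 := orderOf_dvd_of_pow_eq_one hZp
  have d3 : orderOf Z ∣ 1 := by
    have := Nat.dvd_gcd d1 d2
    rwa [hcop] at this
  exact orderOf_eq_one_iff.1 (Nat.dvd_one.1 d3)

/-- exact relator data `(u, c, d, m)`: the relator is `u ++ c ++ u⁻¹ ++ d⁻¹`, and `c`, `d` have order dividing `m` -/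
abbrev XRel := List ℕ × List ℕ × List ℕ × ℕ

/-- the relator of an exact relator datum -/
def xword (inv : ℕ → ℕ) (r : XRel) : List ℕ := r.1 ++ (r.2.1 ++ (invWord inv r.1 ++ invWord inv r.2.2.1))

/-- the description of the presentation, with exact relators -/
structure Spec4 extends Spec2 where
  /-- the exact relators -/
  XR : List XRel

/-- a word whose lift has order dividing `m`: a power of a letter with a known order dividing `m`, or a word in the
letters of the subgroup that lifts (its order is then checked in the base group) -/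
def CoreOK (S : Spec2) (k : ℕ) (inv : ℕ → ℕ) (m : ℕ) (c : List ℕ) : Prop :=
  (∃ q ∈ S.items, q.2.2 ≠ 0 ∧ q.2.2 ∣ m ∧ ∀ l ∈ c, l = q.1) ∨
  (∀ l ∈ c, l ∈ S.sub ∨ (l < k ∧ inv l ∈ S.sub))

instance (S : Spec2) (k : ℕ) (inv : ℕ → ℕ) (m : ℕ) (c : List ℕ) : Decidable (CoreOK S k inv m c) := by
  unfold CoreOK
  infer_instance

/-- admissible relators -/
def Spec4.RelOK4 (S : Spec4) (k : ℕ) (inv : ℕ → ℕ) (L : List ℕ) : Prop :=
  S.toSpec2.RelOK k inv L ∨ ∃ r ∈ S.XR, L = xword inv r

instance (S : Spec4) (k : ℕ) (inv : ℕ → ℕ) (L : List ℕ) : Decidable (S.RelOK4 k inv L) := by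
  unfold Spec4.RelOK4
  infer_instance

/-- the static conditions -/
def Spec4.Good4 (S : Spec4) (k : ℕ) (inv : ℕ → ℕ) : Prop :=
  S.toSpec2.Good3 k inv ∧ ∀ r ∈ S.XR, Nat.Coprime r.2.2.2 S.p ∧ (∀ l ∈ r.1, l < k) ∧
    (∀ l ∈ r.2.1, l < k) ∧ (∀ l ∈ r.2.2.1, l < k) ∧
    CoreOK S.toSpec2 k inv r.2.2.2 r.2.1 ∧ CoreOK S.toSpec2 k inv r.2.2.2 r.2.2.1

instance (S : Spec4) (k : ℕ) (inv : ℕ → ℕ) : Decidable (S.Good4 k inv) := by
  unfold Spec4.Good4
  infer_instance

/-- The coset enumeration criterion relative to a subgroup that lifts, with exact relators. -/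
theorem noStemPrime_of_spec4 {E : Type u} [Group E] [Finite E] {β : Type} [DecidableEq β]
    (Q : CoxEnc β) (hQ : Q.Valid) (S : Spec4) (_hp : S.p.Prime) (x : ℕ → E)
    (hgood4 : S.Good4 Q.k Q.invR)
    (hxinv : ∀ l, l < Q.k → x (Q.invR l) = (x l)⁻¹)
    (hitems : ∀ q ∈ S.items, (q.2.2 = 0 → wordP x q.2.1 = x q.1) ∧ (q.2.2 ≠ 0 → x q.1 ^ q.2.2 = 1))
    (hcen : ∀ z ∈ S.cen, x z = 1) (hR : ∀ r ∈ S.R, wordP x r = 1) (hPR : ∀ w ∈ S.PR, wordP x w = 1)
    (hXR : ∀ r ∈ S.XR, wordP x (xword Q.invR r) = 1 ∧ wordP x r.2.1 ^ r.2.2.2 = 1 ∧ wordP x r.2.2.1 ^ r.2.2.2 = 1)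
    (hgen : Subgroup.closure (x '' Set.Iio Q.k) = ⊤)
    (hreal : ∀ L ∈ Q.real, S.RelOK4 Q.k Q.invR L)
    (hlift : LiftsP E (Subgroup.closure (x '' {l | l ∈ S.sub})) S.p)
    (h : ℕ) (hH : Nat.card (Subgroup.closure (x '' {l | l ∈ S.sub})) ≤ h)
    (N : ℕ) (hN : N ≠ 0) (hidx : (Inst.subG Q (S.sub.map fun l => [l])).index = N)
    (hcard : N * h < S.p * Nat.card E) : NoStemPrime E S.p := by
  classical
  intro Γ _ _ σ hσ hcardK
  obtain ⟨H0, h01, h02⟩ := hlift Γ σ hσ hcardK
  obtain ⟨hs, hc, hd⟩ := hσ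
  obtain ⟨hgood, gX⟩ := hgood4
  obtain ⟨g1, g2, g3, g4, g5, g6, g7⟩ := hgood
  have hK : ∀ z ∈ σ.ker, z ^ S.p = 1 := by
    intro z hz
    have := pow_card_eq_one' (G := σ.ker) (x := ⟨z, hz⟩)
    rw [hcardK] at this
    exact congrArg Subtype.val this
  -- the choice of the lifts of the generators
  let ch : Item → Γ := fun q =>
    if hq : ∃ t : Γ, σ t = x q.1 ∧ t ^ q.2.2 = 1 ∧ (q.1 ∈ S.sub → t ∈ H0) then hq.choose else 1
  have hch : ∀ q ∈ S.items, q.2.2 ≠ 0 → σ (ch q) = x q.1 ∧ ch q ^ q.2.2 = 1 ∧ (q.1 ∈ S.sub → ch q ∈ H0) := by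
    intro q hq hm
    have hex : ∃ t : Γ, σ t = x q.1 ∧ t ^ q.2.2 = 1 ∧ (q.1 ∈ S.sub → t ∈ H0) := by
      by_cases hsub : q.1 ∈ S.sub
      · have hxH : x q.1 ∈ H0.map σ := by
          rw [h02]
          exact Subgroup.subset_closure ⟨q.1, hsub, rfl⟩
        obtain ⟨t, ht0, ht⟩ := hxH
        refine ⟨t, ht, ?_, fun _ => ht0⟩
        have : t ^ q.2.2 ∈ H0 ⊓ σ.ker := by
          refine ⟨H0.pow_mem ht0 _, ?_⟩
          show t ^ q.2.2 ∈ σ.ker
          rw [MonoidHom.mem_ker, map_pow, ht, (hitems q hq).2 hm]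
        rw [h01, Subgroup.mem_bot] at this
        exact this
      · obtain ⟨t, ht1, ht2⟩ := exists_lift_pow σ hs S.p hK (x q.1) q.2.2 ((hitems q hq).2 hm)
          ((g3 q hq).2 hm hsub)
        exact ⟨t, ht1, ht2, fun h' => absurd h' hsub⟩
    show σ (dite _ _ _) = x q.1 ∧ (dite _ _ _) ^ q.2.2 = 1 ∧ (q.1 ∈ S.sub → (dite _ _ _) ∈ H0)
    rw [dif_pos hex]
    exact hex.choose_spec
  obtain ⟨-, b2, b3, b4⟩ := build2_spec σ x Q.invR ch S.items (fun _ => 1) []
    (fun l hl => absurd hl List.not_mem_nil) (fun l hl => absurd hl List.not_mem_nil) g1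
    (fun q hq => ⟨hxinv _ (g3 q hq).1, (hitems q hq).1, fun hm => (hch q hq hm).1⟩)
  set g := build2 Q.invR ch (fun _ => 1) S.items with hg
  have hkn : ∀ l, l < Q.k → l ∈ known Q.invR [] S.items := fun l hl => g2 l (List.mem_range.2 hl)
  have hσg : ∀ l, l < Q.k → σ (g l) = x l := fun l hl => b2 l (hkn l hl)
  have hginv : ∀ l, l < Q.k → g (Q.invR l) = (g l)⁻¹ := fun l hl => (b3 l (hkn l hl)).2
  have hσw : ∀ r : List ℕ, (∀ l ∈ r, l < Q.k) → σ (wordP g r) = wordP x r := by
    intro r hr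
    rw [← wordP_hom]
    apply wordP_congr
    intro l hl
    exact hσg l (hr l hl)
  have hcomm : ∀ z ∈ σ.ker, ∀ y : Γ, z * y * z⁻¹ * y⁻¹ = 1 := by
    intro z hz y
    have := Subgroup.mem_center_iff.1 (hc hz) y
    rw [← this]
    group
  have hsubk : ∀ l ∈ S.sub, l < Q.k := by
    intro l hl
    obtain ⟨q, hq, rfl, _⟩ := g6 l hl
    exact (g3 q hq).1
  have hsubH0 : ∀ l ∈ S.sub, g l ∈ H0 := by
    intro l hl
    obtain ⟨q, hq, rfl, hm⟩ := g6 l hl
    rw [(b4 q hq).2 hm]
    exact (hch q hq hm).2.2 hl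
  have hPRk : ∀ w ∈ S.PR, ∀ l ∈ w, l < Q.k := by
    intro w hw l hl
    rcases g7 w hw l hl with h1 | h1
    · exact hsubk l h1
    · exact h1.1
  have hwH0 : ∀ w ∈ S.PR, wordP g w ∈ H0 := by
    intro w hw
    apply Sgs.wordP_mem_closure
    intro l hl
    rcases g7 w hw l hl with h1 | ⟨h1, h2⟩
    · exact hsubH0 l h1
    · rw [show g l = (g (Q.invR l))⁻¹ from by rw [hginv l h1, inv_inv]]
      exact H0.inv_mem (hsubH0 _ h2)
  have hrel : ∀ L ∈ Q.real, wordP g L = 1 := by
    intro L hL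
    rcases hreal L hL with ((⟨q, hq, hm, rfl⟩ | ⟨q, hq, hm, rfl⟩ | ⟨z, hz, rfl⟩ | ⟨z, hz, l, hl, rfl⟩ |
      ⟨r, hr, rfl⟩ | ⟨r, hr, l, hl, rfl⟩) | hPRmem) | ⟨r, hr, rfl⟩
    · have : wordP g (List.replicate q.2.2 q.1) = g q.1 ^ q.2.2 := by
        have := wordP_replicate_flatten g q.2.2 [q.1]
        simpa using this
      rw [this, (b4 q hq).2 hm]
      exact (hch q hq hm).2.1
    · rw [wordP_cons, hginv _ (g3 q hq).1, ← (b4 q hq).1 hm, inv_mul_cancel]
    · have : wordP g (List.replicate S.p z) = g z ^ S.p := by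
        have := wordP_replicate_flatten g S.p [z]
        simpa using this
      rw [this]
      apply hK
      rw [MonoidHom.mem_ker, hσg z (g4 z hz), hcen z hz]
    · have hl' : l < Q.k := List.mem_range.1 hl
      have hzk : g z ∈ σ.ker := by rw [MonoidHom.mem_ker, hσg z (g4 z hz), hcen z hz]
      simp only [wordP_cons, wordP_nil, mul_one]
      rw [hginv z (g4 z hz), hginv l hl', ← mul_assoc, ← mul_assoc]
      exact hcomm _ hzk _
    · rw [wordP_replicate_flatten]
      apply hK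
      rw [MonoidHom.mem_ker, hσw r (g5 r hr), hR r hr]
    · have hl' : l < Q.k := List.mem_range.1 hl
      have hzk : wordP g r ∈ σ.ker := by rw [MonoidHom.mem_ker, hσw r (g5 r hr), hR r hr]
      rw [wordP_append, wordP_cons, wordP_append, wordP_cons, wordP_nil, mul_one,
        Chain.wordP_invWord' g Q.invR r (fun l hl => hginv l (g5 r hr l hl)), hginv l hl', ← mul_assoc,
        ← mul_assoc]
      exact hcomm _ hzk _
    · have h1 : wordP g L ∈ H0 ⊓ σ.ker := by
        refine ⟨hwH0 L hPRmem, ?_⟩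
        show wordP g L ∈ σ.ker
        rw [MonoidHom.mem_ker, hσw L (hPRk L hPRmem), hPR L hPRmem]
      rw [h01, Subgroup.mem_bot] at h1
      exact h1
    · obtain ⟨x1, x2, x3, x4, x5, x6⟩ := gX r hr
      obtain ⟨y1, y2, y3⟩ := hXR r hr
      have hcore : ∀ c : List ℕ, (∀ l ∈ c, l < Q.k) → CoreOK S.toSpec2 Q.k Q.invR r.2.2.2 c →
          wordP x c ^ r.2.2.2 = 1 → wordP g c ^ r.2.2.2 = 1 := by
        intro c hck hcore hxc
        rcases hcore with ⟨q, hq, hm, hdvd, hall⟩ | hsubw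
        · have e1 : wordP g c = g q.1 ^ c.length := by
            clear hck hxc
            induction c with
            | nil => simp [wordP_nil]
            | cons a c ih =>
              rw [wordP_cons, ih (fun l hl => hall l (List.mem_cons_of_mem _ hl)), hall a List.mem_cons_self,
                List.length_cons, pow_succ']
          have e2 : g q.1 ^ q.2.2 = 1 := by
            rw [(b4 q hq).2 hm]
            exact (hch q hq hm).2.1
          obtain ⟨t, ht⟩ := hdvd
          rw [e1, ← pow_mul, mul_comm, pow_mul, ht, pow_mul, e2, one_pow, one_pow]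
        · have hmem : wordP g c ∈ H0 := by
            apply Sgs.wordP_mem_closure
            intro l hl
            rcases hsubw l hl with h1 | ⟨h1, h2⟩
            · exact hsubH0 l h1
            · rw [show g l = (g (Q.invR l))⁻¹ from by rw [hginv l h1, inv_inv]]
              exact H0.inv_mem (hsubH0 _ h2)
          have h1 : wordP g c ^ r.2.2.2 ∈ H0 ⊓ σ.ker := by
            refine ⟨H0.pow_mem hmem _, ?_⟩
            show wordP g c ^ r.2.2.2 ∈ σ.ker
            rw [MonoidHom.mem_ker, map_pow, hσw c hck, hxc]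
          rw [h01, Subgroup.mem_bot] at h1
          exact h1
      have hC := hcore r.2.1 x3 x5 y2
      have hD := hcore r.2.2.1 x4 x6 y3
      have hxk : ∀ l ∈ xword Q.invR r, l < Q.k := by
        intro l hl
        unfold xword at hl
        simp only [List.mem_append] at hl
        have hinvk : ∀ w : List ℕ, (∀ l ∈ w, l < Q.k) → ∀ l ∈ invWord Q.invR w, l < Q.k := by
          intro w hw l hl
          unfold invWord at hl
          rw [List.mem_reverse] at hl
          obtain ⟨l', hl', rfl⟩ := List.mem_map.1 hl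
          exact (hQ.hinvR l' (hw l' hl')).1
        rcases hl with hl | hl | hl | hl
        · exact x2 l hl
        · exact x3 l hl
        · exact hinvk _ x2 l hl
        · exact hinvk _ x4 l hl
      have hZk : wordP g (xword Q.invR r) ∈ σ.ker := by
        rw [MonoidHom.mem_ker, hσw _ hxk, y1]
      have hZ : wordP g (xword Q.invR r) =
          wordP g r.1 * wordP g r.2.1 * (wordP g r.1)⁻¹ * (wordP g r.2.2.1)⁻¹ := by
        unfold xword
        rw [wordP_append, wordP_append, wordP_append,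
          Chain.wordP_invWord' g Q.invR r.1 (fun l hl => hginv l (x2 l hl)),
          Chain.wordP_invWord' g Q.invR r.2.2.1 (fun l hl => hginv l (x4 l hl))]
        group
      exact eq_one_of_conj_pow _ _ _ _ r.2.2.2 S.p x1 hZ
        (fun y => Subgroup.mem_center_iff.1 (hc hZk) y |>.symm) (hK _ hZk) hC hD
  obtain ⟨φ, hφ⟩ := exists_hom_of_letters Q hQ g
    (fun l hl => by rw [hginv l hl, mul_inv_cancel]) hrel
  -- surjectivity
  have hmap : φ.range.map σ = ⊤ := by
    rw [eq_top_iff, ← hgen, Subgroup.closure_le]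
    rintro _ ⟨l, hl, rfl⟩
    exact ⟨g l, ⟨Q.gR l, hφ l hl⟩, hσg l hl⟩
  have hdec : ∀ γ : Γ, ∃ γ0 ∈ φ.range, ∃ n ∈ σ.ker, γ = γ0 * n := by
    intro γ
    have : σ γ ∈ φ.range.map σ := by rw [hmap]; trivial
    obtain ⟨γ0, h0, h1⟩ := this
    refine ⟨γ0, h0, γ0⁻¹ * γ, ?_, by group⟩
    rw [MonoidHom.mem_ker, map_mul, map_inv, h1, inv_mul_cancel]
  have hcommle : commutator Γ ≤ φ.range := by
    rw [commutator_def, Subgroup.commutator_le]
    intro a _ b _
    obtain ⟨a0, ha0, n1, hn1, rfl⟩ := hdec a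
    obtain ⟨b0, hb0, n2, hn2, rfl⟩ := hdec b
    rw [comm_mul_central_left _ _ _ (fun y => (Subgroup.mem_center_iff.1 (hc hn1) y)),
      comm_mul_central_right _ _ _ (fun y => (Subgroup.mem_center_iff.1 (hc hn2) y)),
      commutatorElement_def]
    exact φ.range.mul_mem (φ.range.mul_mem (φ.range.mul_mem ha0 hb0) (φ.range.inv_mem ha0))
      (φ.range.inv_mem hb0)
  have hsurj : Function.Surjective φ := by
    rw [← MonoidHom.range_eq_top, eq_top_iff]
    intro γ _
    obtain ⟨γ0, h0, n, hn, rfl⟩ := hdec γ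
    exact φ.range.mul_mem h0 (hcommle (hd hn))
  -- counting
  set HQ := Inst.subG Q (S.sub.map fun l => [l]) with hHQ
  have hle : HQ.map φ ≤ H0 := by
    rw [Subgroup.map_le_iff_le_comap, hHQ, Inst.subG, Subgroup.closure_le]
    rintro _ ⟨u, hu, rfl⟩
    obtain ⟨l, hl, rfl⟩ := List.mem_map.1 hu
    show φ (wordP Q.gR [l]) ∈ H0
    rw [wordP_cons, wordP_nil, mul_one, hφ l (hsubk l hl)]
    exact hsubH0 l hl
  have hH0card : Nat.card H0 ≤ h := by
    have hinj : Function.Injective (σ.comp H0.subtype) := by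
      rw [← MonoidHom.ker_eq_bot_iff, eq_bot_iff]
      intro t ht
      have : (t : Γ) ∈ H0 ⊓ σ.ker := ⟨t.2, ht⟩
      rw [h01, Subgroup.mem_bot] at this
      rw [Subgroup.mem_bot]
      exact Subtype.ext this
    have h1 : Nat.card H0 = Nat.card (H0.map σ) := by
      have := Nat.card_congr (Equiv.ofInjective _ hinj)
      rw [this]
      apply Nat.card_congr
      refine Equiv.setCongr ?_
      ext y
      constructor
      · rintro ⟨t, rfl⟩
        exact ⟨t.1, t.2, rfl⟩
      · rintro ⟨t, ht, rfl⟩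
        exact ⟨⟨t, ht⟩, rfl⟩
    rw [h1, h02]
    exact hH
  have hidx2 : (HQ.map φ).index ∣ N := by
    rw [← hidx]
    exact Subgroup.index_map_dvd HQ hsurj
  have hcount : Nat.card Γ ≤ N * h := by
    rw [← Subgroup.index_mul_card (HQ.map φ)]
    have i1 : (HQ.map φ).index ≤ N := Nat.le_of_dvd (Nat.pos_of_ne_zero hN) hidx2
    have i2 : Nat.card (HQ.map φ) ≤ h := le_trans (Nat.le_of_dvd Nat.card_pos (Subgroup.card_dvd_of_le hle))
      hH0card
    exact Nat.mul_le_mul i1 i2
  have h2 : Nat.card Γ = Nat.card E * S.p := by rw [card_eq_of_stem σ hs, hcardK]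
  rw [h2, mul_comm] at hcount
  omega


variable {α : Type} [DecidableEq α]

/-- the words that have to be trivial in the base group, for the exact relators -/
def checksX (S : Spec4) (qinv : ℕ → ℕ) (Wl : ℕ → List ℕ) : List (List ℕ) :=
  S.XR.flatMap fun r => [(xword qinv r).flatMap Wl, (List.replicate r.2.2.2 (r.2.1.flatMap Wl)).flatten,
    (List.replicate r.2.2.2 (r.2.2.1.flatMap Wl)).flatten]

/-- the static conditions on the words (as in part 5) and the criterion for a presented base group -/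
theorem noStemPrime_pres4 {α : Type} [DecidableEq α] {β : Type} [DecidableEq β] (P : CoxEnc α) (hP : P.Valid)
    (Q : CoxEnc β) (hQ : Q.Valid) (S : Spec4) (hp : S.p.Prime) (Wl : ℕ → List ℕ)
    (hgood4 : S.Good4 Q.k Q.invR) (hWl : WlGood P.k P.invR Q.k Q.invR S.cen Wl)
    (hchecks : ∀ w ∈ checks S.toSpec2 P.invR Wl, wordP P.gR w = 1)
    (hchecksX : ∀ w ∈ checksX S Q.invR Wl, wordP P.gR w = 1)
    (hreal : ∀ L ∈ Q.real, S.RelOK4 Q.k Q.invR L)
    (hlift : LiftsP P.Grp (Subgroup.closure (xw P Wl '' {l | l ∈ S.sub})) S.p)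
    (h : ℕ) (hH : Nat.card (Subgroup.closure (xw P Wl '' {l | l ∈ S.sub})) ≤ h)
    (N : ℕ) (hN : N ≠ 0) (hidx : (Inst.subG Q (S.sub.map fun l => [l])).index = N)
    (hfin : Finite P.Grp) (n : ℕ) (hn : Nat.card P.Grp = n) (hcard : N * h < S.p * n) :
    NoStemPrime P.Grp S.p := by
  obtain ⟨w1, w2, w3⟩ := hWl
  have hPinv : ∀ y, y < P.k → P.gR (P.invR y) = (P.gR y)⁻¹ := fun y hy =>
    (hP.invR_sound y (le_of_lt hy)).2
  have hxinvW : ∀ l, l < Q.k → wordP P.gR (invWord P.invR (Wl l)) = (wordP P.gR (Wl l))⁻¹ := by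
    intro l hl
    apply Chain.wordP_invWord'
    intro y hy
    exact hPinv y ((w1 l (List.mem_range.2 hl)).1 y hy)
  have hgood := hgood4.1
  have hgood' := hgood
  obtain ⟨-, -, g3, -, -, -, -⟩ := hgood'
  refine noStemPrime_of_spec4 Q hQ S hp (xw P Wl) hgood4 ?_ ?_ ?_ ?_ ?_ ?_ ?_ hreal hlift h hH N hN hidx
    (by rw [hn]; exact hcard)
  · intro l hl
    show wordP P.gR (Wl (Q.invR l)) = (wordP P.gR (Wl l))⁻¹
    rw [(w1 l (List.mem_range.2 hl)).2, hxinvW l hl]
  · intro q hq
    have hmem : (if q.2.2 = 0 then q.2.1.flatMap Wl ++ invWord P.invR (Wl q.1)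
        else (List.replicate q.2.2 (Wl q.1)).flatten) ∈ checks S.toSpec2 P.invR Wl := by
      unfold checks
      apply List.mem_append_left
      apply List.mem_append_left
      exact List.mem_map.2 ⟨q, hq, rfl⟩
    have hc := hchecks _ hmem
    constructor
    · intro hm
      rw [if_pos hm, wordP_append, hxinvW _ (g3 q hq).1] at hc
      rw [wordP_xw]
      exact mul_inv_eq_one.1 hc
    · intro hm
      rw [if_neg hm, wordP_replicate_flatten] at hc
      exact hc
  · intro z hz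
    show wordP P.gR (Wl z) = 1
    rw [w2 z hz]
    rfl
  · intro r hr
    rw [wordP_xw]
    apply hchecks
    unfold checks
    apply List.mem_append_left
    apply List.mem_append_right
    exact List.mem_map.2 ⟨r, hr, rfl⟩
  · intro r hr
    rw [wordP_xw]
    apply hchecks
    unfold checks
    apply List.mem_append_right
    exact List.mem_map.2 ⟨r, hr, rfl⟩
  · intro r hr
    have hm1 : (xword Q.invR r).flatMap Wl ∈ checksX S Q.invR Wl := by
      unfold checksX
      rw [List.mem_flatMap]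
      exact ⟨r, hr, by simp⟩
    have hm2 : (List.replicate r.2.2.2 (r.2.1.flatMap Wl)).flatten ∈ checksX S Q.invR Wl := by
      unfold checksX
      rw [List.mem_flatMap]
      exact ⟨r, hr, by simp⟩
    have hm3 : (List.replicate r.2.2.2 (r.2.2.1.flatMap Wl)).flatten ∈ checksX S Q.invR Wl := by
      unfold checksX
      rw [List.mem_flatMap]
      exact ⟨r, hr, by simp⟩
    refine ⟨?_, ?_, ?_⟩
    · rw [wordP_xw]
      exact hchecksX _ hm1
    · rw [wordP_xw, ← wordP_replicate_flatten]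
      exact hchecksX _ hm2
    · rw [wordP_xw, ← wordP_replicate_flatten]
      exact hchecksX _ hm3
  · rw [eq_top_iff, ← hP.gen_top, Subgroup.closure_le]
    rintro _ ⟨y, hy, rfl⟩
    obtain ⟨l, hl, hl2⟩ := w3 y (List.mem_range.2 hy)
    apply Subgroup.subset_closure
    refine ⟨l, List.mem_range.1 hl, ?_⟩
    show wordP P.gR (Wl l) = P.gR y
    rw [hl2, wordP_cons, wordP_nil, mul_one]


end Cfsg.Agent.Lib.Helper4.Stem
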