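import Cfsg.Agent.Lib.Helper4.TCD_C12M22A_Acc
import Cfsg.Agent.Lib.Helper4.TC13

namespace Cfsg.Agent.Lib.Helper4.TCD.SC12M22p2W

open Cfsg.Agent.Lib.Helper4.TC Cfsg.Agent.Lib.Helper4.TCD.C12M22A

set_option maxRecDepth 100000
set_option Elab.async false

def chk0 : List Nat := [0, 0, 0]
noncomputable def act0 (i : Nat) : Nat := col1 (col1 (col1 (i)))
theorem act0_eq (i : Nat) : act0 i = Tab.act T D chk0 i := rfl
theorem c0_0 : allRange (fun i => Nat.beq (act0 i) i) 0 12000 = true := by decide +kernel
theorem c0_1 : allRange (fun i => Nat.beq (act0 i) i) 12000 12000 = true := by decide +kernel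
theorem c0_2 : allRange (fun i => Nat.beq (act0 i) i) 24000 12000 = true := by decide +kernel
theorem c0_3 : allRange (fun i => Nat.beq (act0 i) i) 36000 12000 = true := by decide +kernel
theorem c0_4 : allRange (fun i => Nat.beq (act0 i) i) 48000 12000 = true := by decide +kernel
theorem c0_5 : allRange (fun i => Nat.beq (act0 i) i) 60000 12000 = true := by decide +kernel
theorem c0_6 : allRange (fun i => Nat.beq (act0 i) i) 72000 12000 = true := by decide +kernel
theorem c0_7 : allRange (fun i => Nat.beq (act0 i) i) 84000 12000 = true := by decide +kernel
theorem c0_8 : allRange (fun i => Nat.beq (act0 i) i) 96000 768 = true := by decide +kernel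
theorem h0 : ∀ i, i < T.N → Tab.relActOK T D chk0 i = true := by
  intro i hi
  rw [Tab.relActOK, ← act0_eq]
  exact (range_glue (range_of_allRange c0_0) (range_glue (range_of_allRange c0_1) (range_glue (range_of_allRange c0_2) (range_glue (range_of_allRange c0_3) (range_glue (range_of_allRange c0_4) (range_glue (range_of_allRange c0_5) (range_glue (range_of_allRange c0_6) (range_glue (range_of_allRange c0_7) (range_of_allRange c0_8))))))))) i (Nat.zero_le _) hi

def chk1 : List Nat := [2, 2, 2, 2, 2]
noncomputable def act1 (i : Nat) : Nat := col3 (col3 (col3 (col3 (col3 (i)))))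
theorem act1_eq (i : Nat) : act1 i = Tab.act T D chk1 i := rfl
theorem c1_0 : allRange (fun i => Nat.beq (act1 i) i) 0 8571 = true := by decide +kernel
theorem c1_1 : allRange (fun i => Nat.beq (act1 i) i) 8571 8571 = true := by decide +kernel
theorem c1_2 : allRange (fun i => Nat.beq (act1 i) i) 17142 8571 = true := by decide +kernel
theorem c1_3 : allRange (fun i => Nat.beq (act1 i) i) 25713 8571 = true := by decide +kernel
theorem c1_4 : allRange (fun i => Nat.beq (act1 i) i) 34284 8571 = true := by decide +kernel
theorem c1_5 : allRange (fun i => Nat.beq (act1 i) i) 42855 8571 = true := by decide +kernel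
theorem c1_6 : allRange (fun i => Nat.beq (act1 i) i) 51426 8571 = true := by decide +kernel
theorem c1_7 : allRange (fun i => Nat.beq (act1 i) i) 59997 8571 = true := by decide +kernel
theorem c1_8 : allRange (fun i => Nat.beq (act1 i) i) 68568 8571 = true := by decide +kernel
theorem c1_9 : allRange (fun i => Nat.beq (act1 i) i) 77139 8571 = true := by decide +kernel
theorem c1_10 : allRange (fun i => Nat.beq (act1 i) i) 85710 8571 = true := by decide +kernel
theorem c1_11 : allRange (fun i => Nat.beq (act1 i) i) 94281 2487 = true := by decide +kernel
theorem h1 : ∀ i, i < T.N → Tab.relActOK T D chk1 i = true := by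
  intro i hi
  rw [Tab.relActOK, ← act1_eq]
  exact (range_glue (range_of_allRange c1_0) (range_glue (range_of_allRange c1_1) (range_glue (range_of_allRange c1_2) (range_glue (range_of_allRange c1_3) (range_glue (range_of_allRange c1_4) (range_glue (range_of_allRange c1_5) (range_glue (range_of_allRange c1_6) (range_glue (range_of_allRange c1_7) (range_glue (range_of_allRange c1_8) (range_glue (range_of_allRange c1_9) (range_glue (range_of_allRange c1_10) (range_of_allRange c1_11)))))))))))) i (Nat.zero_le _) hi

def chk2 : List Nat := [4, 4, 4, 4, 4, 4]
noncomputable def act2 (i : Nat) : Nat := col5 (col5 (col5 (col5 (col5 (col5 (i))))))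
theorem act2_eq (i : Nat) : act2 i = Tab.act T D chk2 i := rfl
theorem c2_0 : allRange (fun i => Nat.beq (act2 i) i) 0 7500 = true := by decide +kernel
theorem c2_1 : allRange (fun i => Nat.beq (act2 i) i) 7500 7500 = true := by decide +kernel
theorem c2_2 : allRange (fun i => Nat.beq (act2 i) i) 15000 7500 = true := by decide +kernel
theorem c2_3 : allRange (fun i => Nat.beq (act2 i) i) 22500 7500 = true := by decide +kernel
theorem c2_4 : allRange (fun i => Nat.beq (act2 i) i) 30000 7500 = true := by decide +kernel
theorem c2_5 : allRange (fun i => Nat.beq (act2 i) i) 37500 7500 = true := by decide +kernel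
theorem c2_6 : allRange (fun i => Nat.beq (act2 i) i) 45000 7500 = true := by decide +kernel
theorem c2_7 : allRange (fun i => Nat.beq (act2 i) i) 52500 7500 = true := by decide +kernel
theorem c2_8 : allRange (fun i => Nat.beq (act2 i) i) 60000 7500 = true := by decide +kernel
theorem c2_9 : allRange (fun i => Nat.beq (act2 i) i) 67500 7500 = true := by decide +kernel
theorem c2_10 : allRange (fun i => Nat.beq (act2 i) i) 75000 7500 = true := by decide +kernel
theorem c2_11 : allRange (fun i => Nat.beq (act2 i) i) 82500 7500 = true := by decide +kernel
theorem c2_12 : allRange (fun i => Nat.beq (act2 i) i) 90000 6768 = true := by decide +kernel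
theorem h2 : ∀ i, i < T.N → Tab.relActOK T D chk2 i = true := by
  intro i hi
  rw [Tab.relActOK, ← act2_eq]
  exact (range_glue (range_of_allRange c2_0) (range_glue (range_of_allRange c2_1) (range_glue (range_of_allRange c2_2) (range_glue (range_of_allRange c2_3) (range_glue (range_of_allRange c2_4) (range_glue (range_of_allRange c2_5) (range_glue (range_of_allRange c2_6) (range_glue (range_of_allRange c2_7) (range_glue (range_of_allRange c2_8) (range_glue (range_of_allRange c2_9) (range_glue (range_of_allRange c2_10) (range_glue (range_of_allRange c2_11) (range_of_allRange c2_12))))))))))))) i (Nat.zero_le _) hi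

def chk3 : List Nat := [6, 6, 6, 6, 6, 6, 6, 6, 6, 6, 6]
noncomputable def act3 (i : Nat) : Nat := col7 (col7 (col7 (col7 (col7 (col7 (col7 (col7 (col7 (col7 (col7 (i)))))))))))
theorem act3_eq (i : Nat) : act3 i = Tab.act T D chk3 i := rfl
theorem c3_0 : allRange (fun i => Nat.beq (act3 i) i) 0 4615 = true := by decide +kernel
theorem c3_1 : allRange (fun i => Nat.beq (act3 i) i) 4615 4615 = true := by decide +kernel
theorem c3_2 : allRange (fun i => Nat.beq (act3 i) i) 9230 4615 = true := by decide +kernel
theorem c3_3 : allRange (fun i => Nat.beq (act3 i) i) 13845 4615 = true := by decide +kernel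
theorem c3_4 : allRange (fun i => Nat.beq (act3 i) i) 18460 4615 = true := by decide +kernel
theorem c3_5 : allRange (fun i => Nat.beq (act3 i) i) 23075 4615 = true := by decide +kernel
theorem c3_6 : allRange (fun i => Nat.beq (act3 i) i) 27690 4615 = true := by decide +kernel
theorem c3_7 : allRange (fun i => Nat.beq (act3 i) i) 32305 4615 = true := by decide +kernel
theorem c3_8 : allRange (fun i => Nat.beq (act3 i) i) 36920 4615 = true := by decide +kernel
theorem c3_9 : allRange (fun i => Nat.beq (act3 i) i) 41535 4615 = true := by decide +kernel
theorem c3_10 : allRange (fun i => Nat.beq (act3 i) i) 46150 4615 = true := by decide +kernel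
theorem c3_11 : allRange (fun i => Nat.beq (act3 i) i) 50765 4615 = true := by decide +kernel
theorem c3_12 : allRange (fun i => Nat.beq (act3 i) i) 55380 4615 = true := by decide +kernel
theorem c3_13 : allRange (fun i => Nat.beq (act3 i) i) 59995 4615 = true := by decide +kernel
theorem c3_14 : allRange (fun i => Nat.beq (act3 i) i) 64610 4615 = true := by decide +kernel
theorem c3_15 : allRange (fun i => Nat.beq (act3 i) i) 69225 4615 = true := by decide +kernel
theorem c3_16 : allRange (fun i => Nat.beq (act3 i) i) 73840 4615 = true := by decide +kernel
theorem c3_17 : allRange (fun i => Nat.beq (act3 i) i) 78455 4615 = true := by decide +kernel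
theorem c3_18 : allRange (fun i => Nat.beq (act3 i) i) 83070 4615 = true := by decide +kernel
theorem c3_19 : allRange (fun i => Nat.beq (act3 i) i) 87685 4615 = true := by decide +kernel
theorem c3_20 : allRange (fun i => Nat.beq (act3 i) i) 92300 4468 = true := by decide +kernel
theorem h3 : ∀ i, i < T.N → Tab.relActOK T D chk3 i = true := by
  intro i hi
  rw [Tab.relActOK, ← act3_eq]
  exact (range_glue (range_of_allRange c3_0) (range_glue (range_of_allRange c3_1) (range_glue (range_of_allRange c3_2) (range_glue (range_of_allRange c3_3) (range_glue (range_of_allRange c3_4) (range_glue (range_of_allRange c3_5) (range_glue (range_of_allRange c3_6) (range_glue (range_of_allRange c3_7) (range_glue (range_of_allRange c3_8) (range_glue (range_of_allRange c3_9) (range_glue (range_of_allRange c3_10) (range_glue (range_of_allRange c3_11) (range_glue (range_of_allRange c3_12) (range_glue (range_of_allRange c3_13) (range_glue (range_of_allRange c3_14) (range_glue (range_of_allRange c3_15) (range_glue (range_of_allRange c3_16) (range_glue (range_of_allRange c3_17) (range_glue (range_of_allRange c3_18) (range_glue (range_of_allRange c3_19) (range_of_allRange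 c3_20))))))))))))))))))))) i (Nat.zero_le _) hi

def chk4 : List Nat := [0, 2, 0, 2, 1, 2, 7, 2, 1, 2, 2, 7, 3, 0, 3, 3, 6, 3, 1, 3, 7, 0, 6, 3, 1, 9]
noncomputable def act4 (i : Nat) : Nat := col1 (col3 (col1 (col3 (col0 (col3 (col6 (col3 (col0 (col3 (col3 (col6 (col2 (col1 (col2 (col2 (col7 (col2 (col0 (col2 (col6 (col1 (col7 (col2 (col0 (col8 (i))))))))))))))))))))))))))
theorem act4_eq (i : Nat) : act4 i = Tab.act T D chk4 i := rfl
theorem c4_0 : allRange (fun i => Nat.beq (act4 i) i) 0 2142 = true := by decide +kernel
theorem c4_1 : allRange (fun i => Nat.beq (act4 i) i) 2142 2142 = true := by decide +kernel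
theorem c4_2 : allRange (fun i => Nat.beq (act4 i) i) 4284 2142 = true := by decide +kernel
theorem c4_3 : allRange (fun i => Nat.beq (act4 i) i) 6426 2142 = true := by decide +kernel
theorem c4_4 : allRange (fun i => Nat.beq (act4 i) i) 8568 2142 = true := by decide +kernel
theorem c4_5 : allRange (fun i => Nat.beq (act4 i) i) 10710 2142 = true := by decide +kernel
theorem c4_6 : allRange (fun i => Nat.beq (act4 i) i) 12852 2142 = true := by decide +kernel
theorem c4_7 : allRange (fun i => Nat.beq (act4 i) i) 14994 2142 = true := by decide +kernel
theorem c4_8 : allRange (fun i => Nat.beq (act4 i) i) 17136 2142 = true := by decide +kernel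
theorem c4_9 : allRange (fun i => Nat.beq (act4 i) i) 19278 2142 = true := by decide +kernel
theorem c4_10 : allRange (fun i => Nat.beq (act4 i) i) 21420 2142 = true := by decide +kernel
theorem c4_11 : allRange (fun i => Nat.beq (act4 i) i) 23562 2142 = true := by decide +kernel
theorem c4_12 : allRange (fun i => Nat.beq (act4 i) i) 25704 2142 = true := by decide +kernel
theorem c4_13 : allRange (fun i => Nat.beq (act4 i) i) 27846 2142 = true := by decide +kernel
theorem c4_14 : allRange (fun i => Nat.beq (act4 i) i) 29988 2142 = true := by decide +kernel
theorem c4_15 : allRange (fun i => Nat.beq (act4 i) i) 32130 2142 = true := by decide +kernel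
theorem c4_16 : allRange (fun i => Nat.beq (act4 i) i) 34272 2142 = true := by decide +kernel
theorem c4_17 : allRange (fun i => Nat.beq (act4 i) i) 36414 2142 = true := by decide +kernel
theorem c4_18 : allRange (fun i => Nat.beq (act4 i) i) 38556 2142 = true := by decide +kernel
theorem c4_19 : allRange (fun i => Nat.beq (act4 i) i) 40698 2142 = true := by decide +kernel
theorem c4_20 : allRange (fun i => Nat.beq (act4 i) i) 42840 2142 = true := by decide +kernel
theorem c4_21 : allRange (fun i => Nat.beq (act4 i) i) 44982 2142 = true := by decide +kernel
theorem c4_22 : allRange (fun i => Nat.beq (act4 i) i) 47124 2142 = true := by decide +kernel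
theorem c4_23 : allRange (fun i => Nat.beq (act4 i) i) 49266 2142 = true := by decide +kernel
theorem c4_24 : allRange (fun i => Nat.beq (act4 i) i) 51408 2142 = true := by decide +kernel
theorem c4_25 : allRange (fun i => Nat.beq (act4 i) i) 53550 2142 = true := by decide +kernel
theorem c4_26 : allRange (fun i => Nat.beq (act4 i) i) 55692 2142 = true := by decide +kernel
theorem c4_27 : allRange (fun i => Nat.beq (act4 i) i) 57834 2142 = true := by decide +kernel
theorem c4_28 : allRange (fun i => Nat.beq (act4 i) i) 59976 2142 = true := by decide +kernel
theorem c4_29 : allRange (fun i => Nat.beq (act4 i) i) 62118 2142 = true := by decide +kernel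
theorem c4_30 : allRange (fun i => Nat.beq (act4 i) i) 64260 2142 = true := by decide +kernel
theorem c4_31 : allRange (fun i => Nat.beq (act4 i) i) 66402 2142 = true := by decide +kernel
theorem c4_32 : allRange (fun i => Nat.beq (act4 i) i) 68544 2142 = true := by decide +kernel
theorem c4_33 : allRange (fun i => Nat.beq (act4 i) i) 70686 2142 = true := by decide +kernel
theorem c4_34 : allRange (fun i => Nat.beq (act4 i) i) 72828 2142 = true := by decide +kernel
theorem c4_35 : allRange (fun i => Nat.beq (act4 i) i) 74970 2142 = true := by decide +kernel
theorem c4_36 : allRange (fun i => Nat.beq (act4 i) i) 77112 2142 = true := by decide +kernel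
theorem c4_37 : allRange (fun i => Nat.beq (act4 i) i) 79254 2142 = true := by decide +kernel
theorem c4_38 : allRange (fun i => Nat.beq (act4 i) i) 81396 2142 = true := by decide +kernel
theorem c4_39 : allRange (fun i => Nat.beq (act4 i) i) 83538 2142 = true := by decide +kernel
theorem c4_40 : allRange (fun i => Nat.beq (act4 i) i) 85680 2142 = true := by decide +kernel
theorem c4_41 : allRange (fun i => Nat.beq (act4 i) i) 87822 2142 = true := by decide +kernel
theorem c4_42 : allRange (fun i => Nat.beq (act4 i) i) 89964 2142 = true := by decide +kernel
theorem c4_43 : allRange (fun i => Nat.beq (act4 i) i) 92106 2142 = true := by decide +kernel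
theorem c4_44 : allRange (fun i => Nat.beq (act4 i) i) 94248 2142 = true := by decide +kernel
theorem c4_45 : allRange (fun i => Nat.beq (act4 i) i) 96390 378 = true := by decide +kernel
theorem h4 : ∀ i, i < T.N → Tab.relActOK T D chk4 i = true := by
  intro i hi
  rw [Tab.relActOK, ← act4_eq]
  exact (range_glue (range_of_allRange c4_0) (range_glue (range_of_allRange c4_1) (range_glue (range_of_allRange c4_2) (range_glue (range_of_allRange c4_3) (range_glue (range_of_allRange c4_4) (range_glue (range_of_allRange c4_5) (range_glue (range_of_allRange c4_6) (range_glue (range_of_allRange c4_7) (range_glue (range_of_allRange c4_8) (range_glue (range_of_allRange c4_9) (range_glue (range_of_allRange c4_10) (range_glue (range_of_allRange c4_11) (range_glue (range_of_allRange c4_12) (range_glue (range_of_allRange c4_13) (range_glue (range_of_allRange c4_14) (range_glue (range_of_allRange c4_15) (range_glue (range_of_allRange c4_16) (range_glue (range_of_allRange c4_17) (range_glue (range_of_allRange c4_18) (range_glue (range_of_allRange c4_19) (range_glue (range_of_allRange c4_20) (range_glue (range_of_allRange c4_21) (range_glue (range_of_allRange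 c4_22) (range_glue (range_of_allRange c4_23) (range_glue (range_of_allRange c4_24) (range_glue (range_of_allRange c4_25) (range_glue (range_of_allRange c4_26) (range_glue (range_of_allRange c4_27) (range_glue (range_of_allRange c4_28) (range_glue (range_of_allRange c4_29) (range_glue (range_of_allRange c4_30) (range_glue (range_of_allRange c4_31) (range_glue (range_of_allRange c4_32) (range_glue (range_of_allRange c4_33) (range_glue (range_of_allRange c4_34) (range_glue (range_of_allRange c4_35) (range_glue (range_of_allRange c4_36) (range_glue (range_of_allRange c4_37) (range_glue (range_of_allRange c4_38) (range_glue (range_of_allRange c4_39) (range_glue (range_of_allRange c4_40) (range_glue (range_of_allRange c4_41) (range_glue (range_of_allRange c4_42) (range_glue (range_of_allRange c4_43) (range_glue (range_of_allRange c4_44) (range_of_allRange c4_45)))))))))))))))))))))))))))))))))))))))))))))) i (Nat.zero_le _) hi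

def chk5 : List Nat := [4, 9, 9]
noncomputable def act5 (i : Nat) : Nat := col5 (col8 (col8 (i)))
theorem act5_eq (i : Nat) : act5 i = Tab.act T D chk5 i := rfl
theorem c5_0 : allRange (fun i => Nat.beq (act5 i) i) 0 12000 = true := by decide +kernel
theorem c5_1 : allRange (fun i => Nat.beq (act5 i) i) 12000 12000 = true := by decide +kernel
theorem c5_2 : allRange (fun i => Nat.beq (act5 i) i) 24000 12000 = true := by decide +kernel
theorem c5_3 : allRange (fun i => Nat.beq (act5 i) i) 36000 12000 = true := by decide +kernel
theorem c5_4 : allRange (fun i => Nat.beq (act5 i) i) 48000 12000 = true := by decide +kernel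
theorem c5_5 : allRange (fun i => Nat.beq (act5 i) i) 60000 12000 = true := by decide +kernel
theorem c5_6 : allRange (fun i => Nat.beq (act5 i) i) 72000 12000 = true := by decide +kernel
theorem c5_7 : allRange (fun i => Nat.beq (act5 i) i) 84000 12000 = true := by decide +kernel
theorem c5_8 : allRange (fun i => Nat.beq (act5 i) i) 96000 768 = true := by decide +kernel
theorem h5 : ∀ i, i < T.N → Tab.relActOK T D chk5 i = true := by
  intro i hi
  rw [Tab.relActOK, ← act5_eq]
  exact (range_glue (range_of_allRange c5_0) (range_glue (range_of_allRange c5_1) (range_glue (range_of_allRange c5_2) (range_glue (range_of_allRange c5_3) (range_glue (range_of_allRange c5_4) (range_glue (range_of_allRange c5_5) (range_glue (range_of_allRange c5_6) (range_glue (range_of_allRange c5_7) (range_of_allRange c5_8))))))))) i (Nat.zero_le _) hi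

def chk6 : List Nat := [8, 8, 8, 8, 8, 8, 8, 8, 8, 8, 8, 8]
noncomputable def act6 (i : Nat) : Nat := col9 (col9 (col9 (col9 (col9 (col9 (col9 (col9 (col9 (col9 (col9 (col9 (i))))))))))))
theorem act6_eq (i : Nat) : act6 i = Tab.act T D chk6 i := rfl
theorem c6_0 : allRange (fun i => Nat.beq (act6 i) i) 0 4285 = true := by decide +kernel
theorem c6_1 : allRange (fun i => Nat.beq (act6 i) i) 4285 4285 = true := by decide +kernel
theorem c6_2 : allRange (fun i => Nat.beq (act6 i) i) 8570 4285 = true := by decide +kernel
theorem c6_3 : allRange (fun i => Nat.beq (act6 i) i) 12855 4285 = true := by decide +kernel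
theorem c6_4 : allRange (fun i => Nat.beq (act6 i) i) 17140 4285 = true := by decide +kernel
theorem c6_5 : allRange (fun i => Nat.beq (act6 i) i) 21425 4285 = true := by decide +kernel
theorem c6_6 : allRange (fun i => Nat.beq (act6 i) i) 25710 4285 = true := by decide +kernel
theorem c6_7 : allRange (fun i => Nat.beq (act6 i) i) 29995 4285 = true := by decide +kernel
theorem c6_8 : allRange (fun i => Nat.beq (act6 i) i) 34280 4285 = true := by decide +kernel
theorem c6_9 : allRange (fun i => Nat.beq (act6 i) i) 38565 4285 = true := by decide +kernel
theorem c6_10 : allRange (fun i => Nat.beq (act6 i) i) 42850 4285 = true := by decide +kernel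
theorem c6_11 : allRange (fun i => Nat.beq (act6 i) i) 47135 4285 = true := by decide +kernel
theorem c6_12 : allRange (fun i => Nat.beq (act6 i) i) 51420 4285 = true := by decide +kernel
theorem c6_13 : allRange (fun i => Nat.beq (act6 i) i) 55705 4285 = true := by decide +kernel
theorem c6_14 : allRange (fun i => Nat.beq (act6 i) i) 59990 4285 = true := by decide +kernel
theorem c6_15 : allRange (fun i => Nat.beq (act6 i) i) 64275 4285 = true := by decide +kernel
theorem c6_16 : allRange (fun i => Nat.beq (act6 i) i) 68560 4285 = true := by decide +kernel
theorem c6_17 : allRange (fun i => Nat.beq (act6 i) i) 72845 4285 = true := by decide +kernel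
theorem c6_18 : allRange (fun i => Nat.beq (act6 i) i) 77130 4285 = true := by decide +kernel
theorem c6_19 : allRange (fun i => Nat.beq (act6 i) i) 81415 4285 = true := by decide +kernel
theorem c6_20 : allRange (fun i => Nat.beq (act6 i) i) 85700 4285 = true := by decide +kernel
theorem c6_21 : allRange (fun i => Nat.beq (act6 i) i) 89985 4285 = true := by decide +kernel
theorem c6_22 : allRange (fun i => Nat.beq (act6 i) i) 94270 2498 = true := by decide +kernel
theorem h6 : ∀ i, i < T.N → Tab.relActOK T D chk6 i = true := by
  intro i hi
  rw [Tab.relActOK, ← act6_eq]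
  exact (range_glue (range_of_allRange c6_0) (range_glue (range_of_allRange c6_1) (range_glue (range_of_allRange c6_2) (range_glue (range_of_allRange c6_3) (range_glue (range_of_allRange c6_4) (range_glue (range_of_allRange c6_5) (range_glue (range_of_allRange c6_6) (range_glue (range_of_allRange c6_7) (range_glue (range_of_allRange c6_8) (range_glue (range_of_allRange c6_9) (range_glue (range_of_allRange c6_10) (range_glue (range_of_allRange c6_11) (range_glue (range_of_allRange c6_12) (range_glue (range_of_allRange c6_13) (range_glue (range_of_allRange c6_14) (range_glue (range_of_allRange c6_15) (range_glue (range_of_allRange c6_16) (range_glue (range_of_allRange c6_17) (range_glue (range_of_allRange c6_18) (range_glue (range_of_allRange c6_19) (range_glue (range_of_allRange c6_20) (range_glue (range_of_allRange c6_21) (range_of_allRange c6_22))))))))))))))))))))))) i (Nat.zero_le _) hi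

def chk7 : List Nat := [8, 0, 9, 1]
noncomputable def act7 (i : Nat) : Nat := col9 (col1 (col8 (col0 (i))))
theorem act7_eq (i : Nat) : act7 i = Tab.act T D chk7 i := rfl
theorem c7_0 : allRange (fun i => Nat.beq (act7 i) i) 0 10000 = true := by decide +kernel
theorem c7_1 : allRange (fun i => Nat.beq (act7 i) i) 10000 10000 = true := by decide +kernel
theorem c7_2 : allRange (fun i => Nat.beq (act7 i) i) 20000 10000 = true := by decide +kernel
theorem c7_3 : allRange (fun i => Nat.beq (act7 i) i) 30000 10000 = true := by decide +kernel
theorem c7_4 : allRange (fun i => Nat.beq (act7 i) i) 40000 10000 = true := by decide +kernel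
theorem c7_5 : allRange (fun i => Nat.beq (act7 i) i) 50000 10000 = true := by decide +kernel
theorem c7_6 : allRange (fun i => Nat.beq (act7 i) i) 60000 10000 = true := by decide +kernel
theorem c7_7 : allRange (fun i => Nat.beq (act7 i) i) 70000 10000 = true := by decide +kernel
theorem c7_8 : allRange (fun i => Nat.beq (act7 i) i) 80000 10000 = true := by decide +kernel
theorem c7_9 : allRange (fun i => Nat.beq (act7 i) i) 90000 6768 = true := by decide +kernel
theorem h7 : ∀ i, i < T.N → Tab.relActOK T D chk7 i = true := by
  intro i hi
  rw [Tab.relActOK, ← act7_eq]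
  exact (range_glue (range_of_allRange c7_0) (range_glue (range_of_allRange c7_1) (range_glue (range_of_allRange c7_2) (range_glue (range_of_allRange c7_3) (range_glue (range_of_allRange c7_4) (range_glue (range_of_allRange c7_5) (range_glue (range_of_allRange c7_6) (range_glue (range_of_allRange c7_7) (range_glue (range_of_allRange c7_8) (range_of_allRange c7_9)))))))))) i (Nat.zero_le _) hi

def chk8 : List Nat := [8, 2, 9, 3]
noncomputable def act8 (i : Nat) : Nat := col9 (col3 (col8 (col2 (i))))
theorem act8_eq (i : Nat) : act8 i = Tab.act T D chk8 i := rfl
theorem c8_0 : allRange (fun i => Nat.beq (act8 i) i) 0 10000 = true := by decide +kernel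
theorem c8_1 : allRange (fun i => Nat.beq (act8 i) i) 10000 10000 = true := by decide +kernel
theorem c8_2 : allRange (fun i => Nat.beq (act8 i) i) 20000 10000 = true := by decide +kernel
theorem c8_3 : allRange (fun i => Nat.beq (act8 i) i) 30000 10000 = true := by decide +kernel
theorem c8_4 : allRange (fun i => Nat.beq (act8 i) i) 40000 10000 = true := by decide +kernel
theorem c8_5 : allRange (fun i => Nat.beq (act8 i) i) 50000 10000 = true := by decide +kernel
theorem c8_6 : allRange (fun i => Nat.beq (act8 i) i) 60000 10000 = true := by decide +kernel
theorem c8_7 : allRange (fun i => Nat.beq (act8 i) i) 70000 10000 = true := by decide +kernel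
theorem c8_8 : allRange (fun i => Nat.beq (act8 i) i) 80000 10000 = true := by decide +kernel
theorem c8_9 : allRange (fun i => Nat.beq (act8 i) i) 90000 6768 = true := by decide +kernel
theorem h8 : ∀ i, i < T.N → Tab.relActOK T D chk8 i = true := by
  intro i hi
  rw [Tab.relActOK, ← act8_eq]
  exact (range_glue (range_of_allRange c8_0) (range_glue (range_of_allRange c8_1) (range_glue (range_of_allRange c8_2) (range_glue (range_of_allRange c8_3) (range_glue (range_of_allRange c8_4) (range_glue (range_of_allRange c8_5) (range_glue (range_of_allRange c8_6) (range_glue (range_of_allRange c8_7) (range_glue (range_of_allRange c8_8) (range_of_allRange c8_9)))))))))) i (Nat.zero_le _) hi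

def chk9 : List Nat := [8, 6, 9, 7]
noncomputable def act9 (i : Nat) : Nat := col9 (col7 (col8 (col6 (i))))
theorem act9_eq (i : Nat) : act9 i = Tab.act T D chk9 i := rfl
theorem c9_0 : allRange (fun i => Nat.beq (act9 i) i) 0 10000 = true := by decide +kernel
theorem c9_1 : allRange (fun i => Nat.beq (act9 i) i) 10000 10000 = true := by decide +kernel
theorem c9_2 : allRange (fun i => Nat.beq (act9 i) i) 20000 10000 = true := by decide +kernel
theorem c9_3 : allRange (fun i => Nat.beq (act9 i) i) 30000 10000 = true := by decide +kernel
theorem c9_4 : allRange (fun i => Nat.beq (act9 i) i) 40000 10000 = true := by decide +kernel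
theorem c9_5 : allRange (fun i => Nat.beq (act9 i) i) 50000 10000 = true := by decide +kernel
theorem c9_6 : allRange (fun i => Nat.beq (act9 i) i) 60000 10000 = true := by decide +kernel
theorem c9_7 : allRange (fun i => Nat.beq (act9 i) i) 70000 10000 = true := by decide +kernel
theorem c9_8 : allRange (fun i => Nat.beq (act9 i) i) 80000 10000 = true := by decide +kernel
theorem c9_9 : allRange (fun i => Nat.beq (act9 i) i) 90000 6768 = true := by decide +kernel
theorem h9 : ∀ i, i < T.N → Tab.relActOK T D chk9 i = true := by
  intro i hi
  rw [Tab.relActOK, ← act9_eq]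
  exact (range_glue (range_of_allRange c9_0) (range_glue (range_of_allRange c9_1) (range_glue (range_of_allRange c9_2) (range_glue (range_of_allRange c9_3) (range_glue (range_of_allRange c9_4) (range_glue (range_of_allRange c9_5) (range_glue (range_of_allRange c9_6) (range_glue (range_of_allRange c9_7) (range_glue (range_of_allRange c9_8) (range_of_allRange c9_9)))))))))) i (Nat.zero_le _) hi

def chk10 : List Nat := [0, 2, 0, 2, 1, 2, 7, 2, 1, 2, 2, 7, 9, 9, 9, 9, 9, 9]
noncomputable def act10 (i : Nat) : Nat := col1 (col3 (col1 (col3 (col0 (col3 (col6 (col3 (col0 (col3 (col3 (col6 (col8 (col8 (col8 (col8 (col8 (col8 (i))))))))))))))))))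
theorem act10_eq (i : Nat) : act10 i = Tab.act T D chk10 i := rfl
theorem c10_0 : allRange (fun i => Nat.beq (act10 i) i) 0 3000 = true := by decide +kernel
theorem c10_1 : allRange (fun i => Nat.beq (act10 i) i) 3000 3000 = true := by decide +kernel
theorem c10_2 : allRange (fun i => Nat.beq (act10 i) i) 6000 3000 = true := by decide +kernel
theorem c10_3 : allRange (fun i => Nat.beq (act10 i) i) 9000 3000 = true := by decide +kernel
theorem c10_4 : allRange (fun i => Nat.beq (act10 i) i) 12000 3000 = true := by decide +kernel
theorem c10_5 : allRange (fun i => Nat.beq (act10 i) i) 15000 3000 = true := by decide +kernel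
theorem c10_6 : allRange (fun i => Nat.beq (act10 i) i) 18000 3000 = true := by decide +kernel
theorem c10_7 : allRange (fun i => Nat.beq (act10 i) i) 21000 3000 = true := by decide +kernel
theorem c10_8 : allRange (fun i => Nat.beq (act10 i) i) 24000 3000 = true := by decide +kernel
theorem c10_9 : allRange (fun i => Nat.beq (act10 i) i) 27000 3000 = true := by decide +kernel
theorem c10_10 : allRange (fun i => Nat.beq (act10 i) i) 30000 3000 = true := by decide +kernel
theorem c10_11 : allRange (fun i => Nat.beq (act10 i) i) 33000 3000 = true := by decide +kernel
theorem c10_12 : allRange (fun i => Nat.beq (act10 i) i) 36000 3000 = true := by decide +kernel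
theorem c10_13 : allRange (fun i => Nat.beq (act10 i) i) 39000 3000 = true := by decide +kernel
theorem c10_14 : allRange (fun i => Nat.beq (act10 i) i) 42000 3000 = true := by decide +kernel
theorem c10_15 : allRange (fun i => Nat.beq (act10 i) i) 45000 3000 = true := by decide +kernel
theorem c10_16 : allRange (fun i => Nat.beq (act10 i) i) 48000 3000 = true := by decide +kernel
theorem c10_17 : allRange (fun i => Nat.beq (act10 i) i) 51000 3000 = true := by decide +kernel
theorem c10_18 : allRange (fun i => Nat.beq (act10 i) i) 54000 3000 = true := by decide +kernel
theorem c10_19 : allRange (fun i => Nat.beq (act10 i) i) 57000 3000 = true := by decide +kernel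
theorem c10_20 : allRange (fun i => Nat.beq (act10 i) i) 60000 3000 = true := by decide +kernel
theorem c10_21 : allRange (fun i => Nat.beq (act10 i) i) 63000 3000 = true := by decide +kernel
theorem c10_22 : allRange (fun i => Nat.beq (act10 i) i) 66000 3000 = true := by decide +kernel
theorem c10_23 : allRange (fun i => Nat.beq (act10 i) i) 69000 3000 = true := by decide +kernel
theorem c10_24 : allRange (fun i => Nat.beq (act10 i) i) 72000 3000 = true := by decide +kernel
theorem c10_25 : allRange (fun i => Nat.beq (act10 i) i) 75000 3000 = true := by decide +kernel
theorem c10_26 : allRange (fun i => Nat.beq (act10 i) i) 78000 3000 = true := by decide +kernel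
theorem c10_27 : allRange (fun i => Nat.beq (act10 i) i) 81000 3000 = true := by decide +kernel
theorem c10_28 : allRange (fun i => Nat.beq (act10 i) i) 84000 3000 = true := by decide +kernel
theorem c10_29 : allRange (fun i => Nat.beq (act10 i) i) 87000 3000 = true := by decide +kernel
theorem c10_30 : allRange (fun i => Nat.beq (act10 i) i) 90000 3000 = true := by decide +kernel
theorem c10_31 : allRange (fun i => Nat.beq (act10 i) i) 93000 3000 = true := by decide +kernel
theorem c10_32 : allRange (fun i => Nat.beq (act10 i) i) 96000 768 = true := by decide +kernel
theorem h10 : ∀ i, i < T.N → Tab.relActOK T D chk10 i = true := by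
  intro i hi
  rw [Tab.relActOK, ← act10_eq]
  exact (range_glue (range_of_allRange c10_0) (range_glue (range_of_allRange c10_1) (range_glue (range_of_allRange c10_2) (range_glue (range_of_allRange c10_3) (range_glue (range_of_allRange c10_4) (range_glue (range_of_allRange c10_5) (range_glue (range_of_allRange c10_6) (range_glue (range_of_allRange c10_7) (range_glue (range_of_allRange c10_8) (range_glue (range_of_allRange c10_9) (range_glue (range_of_allRange c10_10) (range_glue (range_of_allRange c10_11) (range_glue (range_of_allRange c10_12) (range_glue (range_of_allRange c10_13) (range_glue (range_of_allRange c10_14) (range_glue (range_of_allRange c10_15) (range_glue (range_of_allRange c10_16) (range_glue (range_of_allRange c10_17) (range_glue (range_of_allRange c10_18) (range_glue (range_of_allRange c10_19) (range_glue (range_of_allRange c10_20) (range_glue (range_of_allRange c10_21) (range_glue (range_of_allRange c10_22) (range_glue (range_of_allRange c10_23) (range_glue (range_of_allRange c10_24) (range_glue (range_of_allRange c10_25) (range_glue (range_of_allRange c10_26) (range_glue (range_of_allRange c10_27) (range_glue (range_of_allRange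 c10_28) (range_glue (range_of_allRange c10_29) (range_glue (range_of_allRange c10_30) (range_glue (range_of_allRange c10_31) (range_of_allRange c10_32))))))))))))))))))))))))))))))))) i (Nat.zero_le _) hi

def chk11 : List Nat := [0, 2, 7, 1, 6, 2, 0, 2, 7, 2, 2, 1, 2, 9, 9, 9, 9, 9]
noncomputable def act11 (i : Nat) : Nat := col1 (col3 (col6 (col0 (col7 (col3 (col1 (col3 (col6 (col3 (col3 (col0 (col3 (col8 (col8 (col8 (col8 (col8 (i))))))))))))))))))
theorem act11_eq (i : Nat) : act11 i = Tab.act T D chk11 i := rfl
theorem c11_0 : allRange (fun i => Nat.beq (act11 i) i) 0 3000 = true := by decide +kernel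
theorem c11_1 : allRange (fun i => Nat.beq (act11 i) i) 3000 3000 = true := by decide +kernel
theorem c11_2 : allRange (fun i => Nat.beq (act11 i) i) 6000 3000 = true := by decide +kernel
theorem c11_3 : allRange (fun i => Nat.beq (act11 i) i) 9000 3000 = true := by decide +kernel
theorem c11_4 : allRange (fun i => Nat.beq (act11 i) i) 12000 3000 = true := by decide +kernel
theorem c11_5 : allRange (fun i => Nat.beq (act11 i) i) 15000 3000 = true := by decide +kernel
theorem c11_6 : allRange (fun i => Nat.beq (act11 i) i) 18000 3000 = true := by decide +kernel
theorem c11_7 : allRange (fun i => Nat.beq (act11 i) i) 21000 3000 = true := by decide +kernel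
theorem c11_8 : allRange (fun i => Nat.beq (act11 i) i) 24000 3000 = true := by decide +kernel
theorem c11_9 : allRange (fun i => Nat.beq (act11 i) i) 27000 3000 = true := by decide +kernel
theorem c11_10 : allRange (fun i => Nat.beq (act11 i) i) 30000 3000 = true := by decide +kernel
theorem c11_11 : allRange (fun i => Nat.beq (act11 i) i) 33000 3000 = true := by decide +kernel
theorem c11_12 : allRange (fun i => Nat.beq (act11 i) i) 36000 3000 = true := by decide +kernel
theorem c11_13 : allRange (fun i => Nat.beq (act11 i) i) 39000 3000 = true := by decide +kernel
theorem c11_14 : allRange (fun i => Nat.beq (act11 i) i) 42000 3000 = true := by decide +kernel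
theorem c11_15 : allRange (fun i => Nat.beq (act11 i) i) 45000 3000 = true := by decide +kernel
theorem c11_16 : allRange (fun i => Nat.beq (act11 i) i) 48000 3000 = true := by decide +kernel
theorem c11_17 : allRange (fun i => Nat.beq (act11 i) i) 51000 3000 = true := by decide +kernel
theorem c11_18 : allRange (fun i => Nat.beq (act11 i) i) 54000 3000 = true := by decide +kernel
theorem c11_19 : allRange (fun i => Nat.beq (act11 i) i) 57000 3000 = true := by decide +kernel
theorem c11_20 : allRange (fun i => Nat.beq (act11 i) i) 60000 3000 = true := by decide +kernel
theorem c11_21 : allRange (fun i => Nat.beq (act11 i) i) 63000 3000 = true := by decide +kernel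
theorem c11_22 : allRange (fun i => Nat.beq (act11 i) i) 66000 3000 = true := by decide +kernel
theorem c11_23 : allRange (fun i => Nat.beq (act11 i) i) 69000 3000 = true := by decide +kernel
theorem c11_24 : allRange (fun i => Nat.beq (act11 i) i) 72000 3000 = true := by decide +kernel
theorem c11_25 : allRange (fun i => Nat.beq (act11 i) i) 75000 3000 = true := by decide +kernel
theorem c11_26 : allRange (fun i => Nat.beq (act11 i) i) 78000 3000 = true := by decide +kernel
theorem c11_27 : allRange (fun i => Nat.beq (act11 i) i) 81000 3000 = true := by decide +kernel
theorem c11_28 : allRange (fun i => Nat.beq (act11 i) i) 84000 3000 = true := by decide +kernel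
theorem c11_29 : allRange (fun i => Nat.beq (act11 i) i) 87000 3000 = true := by decide +kernel
theorem c11_30 : allRange (fun i => Nat.beq (act11 i) i) 90000 3000 = true := by decide +kernel
theorem c11_31 : allRange (fun i => Nat.beq (act11 i) i) 93000 3000 = true := by decide +kernel
theorem c11_32 : allRange (fun i => Nat.beq (act11 i) i) 96000 768 = true := by decide +kernel
theorem h11 : ∀ i, i < T.N → Tab.relActOK T D chk11 i = true := by
  intro i hi
  rw [Tab.relActOK, ← act11_eq]
  exact (range_glue (range_of_allRange c11_0) (range_glue (range_of_allRange c11_1) (range_glue (range_of_allRange c11_2) (range_glue (range_of_allRange c11_3) (range_glue (range_of_allRange c11_4) (range_glue (range_of_allRange c11_5) (range_glue (range_of_allRange c11_6) (range_glue (range_of_allRange c11_7) (range_glue (range_of_allRange c11_8) (range_glue (range_of_allRange c11_9) (range_glue (range_of_allRange c11_10) (range_glue (range_of_allRange c11_11) (range_glue (range_of_allRange c11_12) (range_glue (range_of_allRange c11_13) (range_glue (range_of_allRange c11_14) (range_glue (range_of_allRange c11_15) (range_glue (range_of_allRange c11_16)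 (range_glue (range_of_allRange c11_17) (range_glue (range_of_allRange c11_18) (range_glue (range_of_allRange c11_19) (range_glue (range_of_allRange c11_20) (range_glue (range_of_allRange c11_21) (range_glue (range_of_allRange c11_22) (range_glue (range_of_allRange c11_23) (range_glue (range_of_allRange c11_24) (range_glue (range_of_allRange c11_25) (range_glue (range_of_allRange c11_26) (range_glue (range_of_allRange c11_27) (range_glue (range_of_allRange c11_28) (range_glue (range_of_allRange c11_29) (range_glue (range_of_allRange c11_30) (range_glue (range_of_allRange c11_31) (range_of_allRange c11_32))))))))))))))))))))))))))))))))) i (Nat.zero_le _) hi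

def chk12 : List Nat := [4, 4, 4, 4, 4, 4]
noncomputable def act12 (i : Nat) : Nat := col5 (col5 (col5 (col5 (col5 (col5 (i))))))
theorem act12_eq (i : Nat) : act12 i = Tab.act T D chk12 i := rfl
theorem c12_0 : allRange (fun i => Nat.beq (act12 i) i) 0 7500 = true := by decide +kernel
theorem c12_1 : allRange (fun i => Nat.beq (act12 i) i) 7500 7500 = true := by decide +kernel
theorem c12_2 : allRange (fun i => Nat.beq (act12 i) i) 15000 7500 = true := by decide +kernel
theorem c12_3 : allRange (fun i => Nat.beq (act12 i) i) 22500 7500 = true := by decide +kernel
theorem c12_4 : allRange (fun i => Nat.beq (act12 i) i) 30000 7500 = true := by decide +kernel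
theorem c12_5 : allRange (fun i => Nat.beq (act12 i) i) 37500 7500 = true := by decide +kernel
theorem c12_6 : allRange (fun i => Nat.beq (act12 i) i) 45000 7500 = true := by decide +kernel
theorem c12_7 : allRange (fun i => Nat.beq (act12 i) i) 52500 7500 = true := by decide +kernel
theorem c12_8 : allRange (fun i => Nat.beq (act12 i) i) 60000 7500 = true := by decide +kernel
theorem c12_9 : allRange (fun i => Nat.beq (act12 i) i) 67500 7500 = true := by decide +kernel
theorem c12_10 : allRange (fun i => Nat.beq (act12 i) i) 75000 7500 = true := by decide +kernel
theorem c12_11 : allRange (fun i => Nat.beq (act12 i) i) 82500 7500 = true := by decide +kernel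
theorem c12_12 : allRange (fun i => Nat.beq (act12 i) i) 90000 6768 = true := by decide +kernel
theorem h12 : ∀ i, i < T.N → Tab.relActOK T D chk12 i = true := by
  intro i hi
  rw [Tab.relActOK, ← act12_eq]
  exact (range_glue (range_of_allRange c12_0) (range_glue (range_of_allRange c12_1) (range_glue (range_of_allRange c12_2) (range_glue (range_of_allRange c12_3) (range_glue (range_of_allRange c12_4) (range_glue (range_of_allRange c12_5) (range_glue (range_of_allRange c12_6) (range_glue (range_of_allRange c12_7) (range_glue (range_of_allRange c12_8) (range_glue (range_of_allRange c12_9) (range_glue (range_of_allRange c12_10) (range_glue (range_of_allRange c12_11) (range_of_allRange c12_12))))))))))))) i (Nat.zero_le _) hi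

def chk13 : List Nat := [4, 0, 5, 1]
noncomputable def act13 (i : Nat) : Nat := col5 (col1 (col4 (col0 (i))))
theorem act13_eq (i : Nat) : act13 i = Tab.act T D chk13 i := rfl
theorem c13_0 : allRange (fun i => Nat.beq (act13 i) i) 0 10000 = true := by decide +kernel
theorem c13_1 : allRange (fun i => Nat.beq (act13 i) i) 10000 10000 = true := by decide +kernel
theorem c13_2 : allRange (fun i => Nat.beq (act13 i) i) 20000 10000 = true := by decide +kernel
theorem c13_3 : allRange (fun i => Nat.beq (act13 i) i) 30000 10000 = true := by decide +kernel
theorem c13_4 : allRange (fun i => Nat.beq (act13 i) i) 40000 10000 = true := by decide +kernel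
theorem c13_5 : allRange (fun i => Nat.beq (act13 i) i) 50000 10000 = true := by decide +kernel
theorem c13_6 : allRange (fun i => Nat.beq (act13 i) i) 60000 10000 = true := by decide +kernel
theorem c13_7 : allRange (fun i => Nat.beq (act13 i) i) 70000 10000 = true := by decide +kernel
theorem c13_8 : allRange (fun i => Nat.beq (act13 i) i) 80000 10000 = true := by decide +kernel
theorem c13_9 : allRange (fun i => Nat.beq (act13 i) i) 90000 6768 = true := by decide +kernel
theorem h13 : ∀ i, i < T.N → Tab.relActOK T D chk13 i = true := by
  intro i hi
  rw [Tab.relActOK, ← act13_eq]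
  exact (range_glue (range_of_allRange c13_0) (range_glue (range_of_allRange c13_1) (range_glue (range_of_allRange c13_2) (range_glue (range_of_allRange c13_3) (range_glue (range_of_allRange c13_4) (range_glue (range_of_allRange c13_5) (range_glue (range_of_allRange c13_6) (range_glue (range_of_allRange c13_7) (range_glue (range_of_allRange c13_8) (range_of_allRange c13_9)))))))))) i (Nat.zero_le _) hi

def chk14 : List Nat := [4, 2, 5, 3]
noncomputable def act14 (i : Nat) : Nat := col5 (col3 (col4 (col2 (i))))
theorem act14_eq (i : Nat) : act14 i = Tab.act T D chk14 i := rfl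
theorem c14_0 : allRange (fun i => Nat.beq (act14 i) i) 0 10000 = true := by decide +kernel
theorem c14_1 : allRange (fun i => Nat.beq (act14 i) i) 10000 10000 = true := by decide +kernel
theorem c14_2 : allRange (fun i => Nat.beq (act14 i) i) 20000 10000 = true := by decide +kernel
theorem c14_3 : allRange (fun i => Nat.beq (act14 i) i) 30000 10000 = true := by decide +kernel
theorem c14_4 : allRange (fun i => Nat.beq (act14 i) i) 40000 10000 = true := by decide +kernel
theorem c14_5 : allRange (fun i => Nat.beq (act14 i) i) 50000 10000 = true := by decide +kernel
theorem c14_6 : allRange (fun i => Nat.beq (act14 i) i) 60000 10000 = true := by decide +kernel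
theorem c14_7 : allRange (fun i => Nat.beq (act14 i) i) 70000 10000 = true := by decide +kernel
theorem c14_8 : allRange (fun i => Nat.beq (act14 i) i) 80000 10000 = true := by decide +kernel
theorem c14_9 : allRange (fun i => Nat.beq (act14 i) i) 90000 6768 = true := by decide +kernel
theorem h14 : ∀ i, i < T.N → Tab.relActOK T D chk14 i = true := by
  intro i hi
  rw [Tab.relActOK, ← act14_eq]
  exact (range_glue (range_of_allRange c14_0) (range_glue (range_of_allRange c14_1) (range_glue (range_of_allRange c14_2) (range_glue (range_of_allRange c14_3) (range_glue (range_of_allRange c14_4) (range_glue (range_of_allRange c14_5) (range_glue (range_of_allRange c14_6) (range_glue (range_of_allRange c14_7) (range_glue (range_of_allRange c14_8) (range_of_allRange c14_9)))))))))) i (Nat.zero_le _) hi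

def chk15 : List Nat := [0, 0, 0]
noncomputable def act15 (i : Nat) : Nat := col1 (col1 (col1 (i)))
theorem act15_eq (i : Nat) : act15 i = Tab.act T D chk15 i := rfl
theorem c15_0 : allRange (fun i => Nat.beq (act15 i) i) 0 12000 = true := by decide +kernel
theorem c15_1 : allRange (fun i => Nat.beq (act15 i) i) 12000 12000 = true := by decide +kernel
theorem c15_2 : allRange (fun i => Nat.beq (act15 i) i) 24000 12000 = true := by decide +kernel
theorem c15_3 : allRange (fun i => Nat.beq (act15 i) i) 36000 12000 = true := by decide +kernel
theorem c15_4 : allRange (fun i => Nat.beq (act15 i) i) 48000 12000 = true := by decide +kernel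
theorem c15_5 : allRange (fun i => Nat.beq (act15 i) i) 60000 12000 = true := by decide +kernel
theorem c15_6 : allRange (fun i => Nat.beq (act15 i) i) 72000 12000 = true := by decide +kernel
theorem c15_7 : allRange (fun i => Nat.beq (act15 i) i) 84000 12000 = true := by decide +kernel
theorem c15_8 : allRange (fun i => Nat.beq (act15 i) i) 96000 768 = true := by decide +kernel
theorem h15 : ∀ i, i < T.N → Tab.relActOK T D chk15 i = true := by
  intro i hi
  rw [Tab.relActOK, ← act15_eq]
  exact (range_glue (range_of_allRange c15_0) (range_glue (range_of_allRange c15_1) (range_glue (range_of_allRange c15_2) (range_glue (range_of_allRange c15_3) (range_glue (range_of_allRange c15_4) (range_glue (range_of_allRange c15_5) (range_glue (range_of_allRange c15_6) (range_glue (range_of_allRange c15_7) (range_of_allRange c15_8))))))))) i (Nat.zero_le _) hi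

def chk16 : List Nat := [2, 2, 2, 2, 2]
noncomputable def act16 (i : Nat) : Nat := col3 (col3 (col3 (col3 (col3 (i)))))
theorem act16_eq (i : Nat) : act16 i = Tab.act T D chk16 i := rfl
theorem c16_0 : allRange (fun i => Nat.beq (act16 i) i) 0 8571 = true := by decide +kernel
theorem c16_1 : allRange (fun i => Nat.beq (act16 i) i) 8571 8571 = true := by decide +kernel
theorem c16_2 : allRange (fun i => Nat.beq (act16 i) i) 17142 8571 = true := by decide +kernel
theorem c16_3 : allRange (fun i => Nat.beq (act16 i) i) 25713 8571 = true := by decide +kernel
theorem c16_4 : allRange (fun i => Nat.beq (act16 i) i) 34284 8571 = true := by decide +kernel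
theorem c16_5 : allRange (fun i => Nat.beq (act16 i) i) 42855 8571 = true := by decide +kernel
theorem c16_6 : allRange (fun i => Nat.beq (act16 i) i) 51426 8571 = true := by decide +kernel
theorem c16_7 : allRange (fun i => Nat.beq (act16 i) i) 59997 8571 = true := by decide +kernel
theorem c16_8 : allRange (fun i => Nat.beq (act16 i) i) 68568 8571 = true := by decide +kernel
theorem c16_9 : allRange (fun i => Nat.beq (act16 i) i) 77139 8571 = true := by decide +kernel
theorem c16_10 : allRange (fun i => Nat.beq (act16 i) i) 85710 8571 = true := by decide +kernel
theorem c16_11 : allRange (fun i => Nat.beq (act16 i) i) 94281 2487 = true := by decide +kernel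
theorem h16 : ∀ i, i < T.N → Tab.relActOK T D chk16 i = true := by
  intro i hi
  rw [Tab.relActOK, ← act16_eq]
  exact (range_glue (range_of_allRange c16_0) (range_glue (range_of_allRange c16_1) (range_glue (range_of_allRange c16_2) (range_glue (range_of_allRange c16_3) (range_glue (range_of_allRange c16_4) (range_glue (range_of_allRange c16_5) (range_glue (range_of_allRange c16_6) (range_glue (range_of_allRange c16_7) (range_glue (range_of_allRange c16_8) (range_glue (range_of_allRange c16_9) (range_glue (range_of_allRange c16_10) (range_of_allRange c16_11)))))))))))) i (Nat.zero_le _) hi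

def chk17 : List Nat := [0, 2, 0, 2, 0, 2, 0, 2, 0, 2, 0, 2, 0, 2]
noncomputable def act17 (i : Nat) : Nat := col1 (col3 (col1 (col3 (col1 (col3 (col1 (col3 (col1 (col3 (col1 (col3 (col1 (col3 (i))))))))))))))
theorem act17_eq (i : Nat) : act17 i = Tab.act T D chk17 i := rfl
theorem c17_0 : allRange (fun i => Nat.beq (act17 i) i) 0 3750 = true := by decide +kernel
theorem c17_1 : allRange (fun i => Nat.beq (act17 i) i) 3750 3750 = true := by decide +kernel
theorem c17_2 : allRange (fun i => Nat.beq (act17 i) i) 7500 3750 = true := by decide +kernel
theorem c17_3 : allRange (fun i => Nat.beq (act17 i) i) 11250 3750 = true := by decide +kernel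
theorem c17_4 : allRange (fun i => Nat.beq (act17 i) i) 15000 3750 = true := by decide +kernel
theorem c17_5 : allRange (fun i => Nat.beq (act17 i) i) 18750 3750 = true := by decide +kernel
theorem c17_6 : allRange (fun i => Nat.beq (act17 i) i) 22500 3750 = true := by decide +kernel
theorem c17_7 : allRange (fun i => Nat.beq (act17 i) i) 26250 3750 = true := by decide +kernel
theorem c17_8 : allRange (fun i => Nat.beq (act17 i) i) 30000 3750 = true := by decide +kernel
theorem c17_9 : allRange (fun i => Nat.beq (act17 i) i) 33750 3750 = true := by decide +kernel
theorem c17_10 : allRange (fun i => Nat.beq (act17 i) i) 37500 3750 = true := by decide +kernel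
theorem c17_11 : allRange (fun i => Nat.beq (act17 i) i) 41250 3750 = true := by decide +kernel
theorem c17_12 : allRange (fun i => Nat.beq (act17 i) i) 45000 3750 = true := by decide +kernel
theorem c17_13 : allRange (fun i => Nat.beq (act17 i) i) 48750 3750 = true := by decide +kernel
theorem c17_14 : allRange (fun i => Nat.beq (act17 i) i) 52500 3750 = true := by decide +kernel
theorem c17_15 : allRange (fun i => Nat.beq (act17 i) i) 56250 3750 = true := by decide +kernel
theorem c17_16 : allRange (fun i => Nat.beq (act17 i) i) 60000 3750 = true := by decide +kernel
theorem c17_17 : allRange (fun i => Nat.beq (act17 i) i) 63750 3750 = true := by decide +kernel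
theorem c17_18 : allRange (fun i => Nat.beq (act17 i) i) 67500 3750 = true := by decide +kernel
theorem c17_19 : allRange (fun i => Nat.beq (act17 i) i) 71250 3750 = true := by decide +kernel
theorem c17_20 : allRange (fun i => Nat.beq (act17 i) i) 75000 3750 = true := by decide +kernel
theorem c17_21 : allRange (fun i => Nat.beq (act17 i) i) 78750 3750 = true := by decide +kernel
theorem c17_22 : allRange (fun i => Nat.beq (act17 i) i) 82500 3750 = true := by decide +kernel
theorem c17_23 : allRange (fun i => Nat.beq (act17 i) i) 86250 3750 = true := by decide +kernel
theorem c17_24 : allRange (fun i => Nat.beq (act17 i) i) 90000 3750 = true := by decide +kernel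
theorem c17_25 : allRange (fun i => Nat.beq (act17 i) i) 93750 3018 = true := by decide +kernel
theorem h17 : ∀ i, i < T.N → Tab.relActOK T D chk17 i = true := by
  intro i hi
  rw [Tab.relActOK, ← act17_eq]
  exact (range_glue (range_of_allRange c17_0) (range_glue (range_of_allRange c17_1) (range_glue (range_of_allRange c17_2) (range_glue (range_of_allRange c17_3) (range_glue (range_of_allRange c17_4) (range_glue (range_of_allRange c17_5) (range_glue (range_of_allRange c17_6) (range_glue (range_of_allRange c17_7) (range_glue (range_of_allRange c17_8) (range_glue (range_of_allRange c17_9) (range_glue (range_of_allRange c17_10) (range_glue (range_of_allRange c17_11) (range_glue (range_of_allRange c17_12) (range_glue (range_of_allRange c17_13) (range_glue (range_of_allRange c17_14) (range_glue (range_of_allRange c17_15) (range_glue (range_of_allRange c17_16) (range_glue (range_of_allRange c17_17) (range_glue (range_of_allRange c17_18) (range_glue (range_of_allRange c17_19) (range_glue (range_of_allRange c17_20) (range_glue (range_of_allRange c17_21) (range_glue (range_of_allRange c17_22) (range_glue (range_of_allRange c17_23) (range_glue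 (range_of_allRange c17_24) (range_of_allRange c17_25)))))))))))))))))))))))))) i (Nat.zero_le _) hi

def chk18 : List Nat := [0, 3, 0, 2, 0, 3, 0, 2, 5]
noncomputable def act18 (i : Nat) : Nat := col1 (col2 (col1 (col3 (col1 (col2 (col1 (col3 (col4 (i)))))))))
theorem act18_eq (i : Nat) : act18 i = Tab.act T D chk18 i := rfl
theorem c18_0 : allRange (fun i => Nat.beq (act18 i) i) 0 5454 = true := by decide +kernel
theorem c18_1 : allRange (fun i => Nat.beq (act18 i) i) 5454 5454 = true := by decide +kernel
theorem c18_2 : allRange (fun i => Nat.beq (act18 i) i) 10908 5454 = true := by decide +kernel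
theorem c18_3 : allRange (fun i => Nat.beq (act18 i) i) 16362 5454 = true := by decide +kernel
theorem c18_4 : allRange (fun i => Nat.beq (act18 i) i) 21816 5454 = true := by decide +kernel
theorem c18_5 : allRange (fun i => Nat.beq (act18 i) i) 27270 5454 = true := by decide +kernel
theorem c18_6 : allRange (fun i => Nat.beq (act18 i) i) 32724 5454 = true := by decide +kernel
theorem c18_7 : allRange (fun i => Nat.beq (act18 i) i) 38178 5454 = true := by decide +kernel
theorem c18_8 : allRange (fun i => Nat.beq (act18 i) i) 43632 5454 = true := by decide +kernel
theorem c18_9 : allRange (fun i => Nat.beq (act18 i) i) 49086 5454 = true := by decide +kernel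
theorem c18_10 : allRange (fun i => Nat.beq (act18 i) i) 54540 5454 = true := by decide +kernel
theorem c18_11 : allRange (fun i => Nat.beq (act18 i) i) 59994 5454 = true := by decide +kernel
theorem c18_12 : allRange (fun i => Nat.beq (act18 i) i) 65448 5454 = true := by decide +kernel
theorem c18_13 : allRange (fun i => Nat.beq (act18 i) i) 70902 5454 = true := by decide +kernel
theorem c18_14 : allRange (fun i => Nat.beq (act18 i) i) 76356 5454 = true := by decide +kernel
theorem c18_15 : allRange (fun i => Nat.beq (act18 i) i) 81810 5454 = true := by decide +kernel
theorem c18_16 : allRange (fun i => Nat.beq (act18 i) i) 87264 5454 = true := by decide +kernel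
theorem c18_17 : allRange (fun i => Nat.beq (act18 i) i) 92718 4050 = true := by decide +kernel
theorem h18 : ∀ i, i < T.N → Tab.relActOK T D chk18 i = true := by
  intro i hi
  rw [Tab.relActOK, ← act18_eq]
  exact (range_glue (range_of_allRange c18_0) (range_glue (range_of_allRange c18_1) (range_glue (range_of_allRange c18_2) (range_glue (range_of_allRange c18_3) (range_glue (range_of_allRange c18_4) (range_glue (range_of_allRange c18_5) (range_glue (range_of_allRange c18_6) (range_glue (range_of_allRange c18_7) (range_glue (range_of_allRange c18_8) (range_glue (range_of_allRange c18_9) (range_glue (range_of_allRange c18_10) (range_glue (range_of_allRange c18_11) (range_glue (range_of_allRange c18_12) (range_glue (range_of_allRange c18_13) (range_glue (range_of_allRange c18_14) (range_glue (range_of_allRange c18_15) (range_glue (range_of_allRange c18_16) (range_of_allRange c18_17)))))))))))))))))) i (Nat.zero_le _) hi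

def chk19 : List Nat := [0, 3, 3, 0, 2, 2, 0, 3, 3, 0, 2, 2, 5, 5, 5]
noncomputable def act19 (i : Nat) : Nat := col1 (col2 (col2 (col1 (col3 (col3 (col1 (col2 (col2 (col1 (col3 (col3 (col4 (col4 (col4 (i)))))))))))))))
theorem act19_eq (i : Nat) : act19 i = Tab.act T D chk19 i := rfl
theorem c19_0 : allRange (fun i => Nat.beq (act19 i) i) 0 3529 = true := by decide +kernel
theorem c19_1 : allRange (fun i => Nat.beq (act19 i) i) 3529 3529 = true := by decide +kernel
theorem c19_2 : allRange (fun i => Nat.beq (act19 i) i) 7058 3529 = true := by decide +kernel
theorem c19_3 : allRange (fun i => Nat.beq (act19 i) i) 10587 3529 = true := by decide +kernel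
theorem c19_4 : allRange (fun i => Nat.beq (act19 i) i) 14116 3529 = true := by decide +kernel
theorem c19_5 : allRange (fun i => Nat.beq (act19 i) i) 17645 3529 = true := by decide +kernel
theorem c19_6 : allRange (fun i => Nat.beq (act19 i) i) 21174 3529 = true := by decide +kernel
theorem c19_7 : allRange (fun i => Nat.beq (act19 i) i) 24703 3529 = true := by decide +kernel
theorem c19_8 : allRange (fun i => Nat.beq (act19 i) i) 28232 3529 = true := by decide +kernel
theorem c19_9 : allRange (fun i => Nat.beq (act19 i) i) 31761 3529 = true := by decide +kernel
theorem c19_10 : allRange (fun i => Nat.beq (act19 i) i) 35290 3529 = true := by decide +kernel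
theorem c19_11 : allRange (fun i => Nat.beq (act19 i) i) 38819 3529 = true := by decide +kernel
theorem c19_12 : allRange (fun i => Nat.beq (act19 i) i) 42348 3529 = true := by decide +kernel
theorem c19_13 : allRange (fun i => Nat.beq (act19 i) i) 45877 3529 = true := by decide +kernel
theorem c19_14 : allRange (fun i => Nat.beq (act19 i) i) 49406 3529 = true := by decide +kernel
theorem c19_15 : allRange (fun i => Nat.beq (act19 i) i) 52935 3529 = true := by decide +kernel
theorem c19_16 : allRange (fun i => Nat.beq (act19 i) i) 56464 3529 = true := by decide +kernel
theorem c19_17 : allRange (fun i => Nat.beq (act19 i) i) 59993 3529 = true := by decide +kernel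
theorem c19_18 : allRange (fun i => Nat.beq (act19 i) i) 63522 3529 = true := by decide +kernel
theorem c19_19 : allRange (fun i => Nat.beq (act19 i) i) 67051 3529 = true := by decide +kernel
theorem c19_20 : allRange (fun i => Nat.beq (act19 i) i) 70580 3529 = true := by decide +kernel
theorem c19_21 : allRange (fun i => Nat.beq (act19 i) i) 74109 3529 = true := by decide +kernel
theorem c19_22 : allRange (fun i => Nat.beq (act19 i) i) 77638 3529 = true := by decide +kernel
theorem c19_23 : allRange (fun i => Nat.beq (act19 i) i) 81167 3529 = true := by decide +kernel
theorem c19_24 : allRange (fun i => Nat.beq (act19 i) i) 84696 3529 = true := by decide +kernel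
theorem c19_25 : allRange (fun i => Nat.beq (act19 i) i) 88225 3529 = true := by decide +kernel
theorem c19_26 : allRange (fun i => Nat.beq (act19 i) i) 91754 3529 = true := by decide +kernel
theorem c19_27 : allRange (fun i => Nat.beq (act19 i) i) 95283 1485 = true := by decide +kernel
theorem h19 : ∀ i, i < T.N → Tab.relActOK T D chk19 i = true := by
  intro i hi
  rw [Tab.relActOK, ← act19_eq]
  exact (range_glue (range_of_allRange c19_0) (range_glue (range_of_allRange c19_1) (range_glue (range_of_allRange c19_2) (range_glue (range_of_allRange c19_3) (range_glue (range_of_allRange c19_4) (range_glue (range_of_allRange c19_5) (range_glue (range_of_allRange c19_6) (range_glue (range_of_allRange c19_7) (range_glue (range_of_allRange c19_8) (range_glue (range_of_allRange c19_9) (range_glue (range_of_allRange c19_10) (range_glue (range_of_allRange c19_11) (range_glue (range_of_allRange c19_12) (range_glue (range_of_allRange c19_13) (range_glue (range_of_allRange c19_14) (range_glue (range_of_allRange c19_15) (range_glue (range_of_allRange c19_16) (range_glue (range_of_allRange c19_17) (range_glue (range_of_allRange c19_18) (range_glue (range_of_allRange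 c19_19) (range_glue (range_of_allRange c19_20) (range_glue (range_of_allRange c19_21) (range_glue (range_of_allRange c19_22) (range_glue (range_of_allRange c19_23) (range_glue (range_of_allRange c19_24) (range_glue (range_of_allRange c19_25) (range_glue (range_of_allRange c19_26) (range_of_allRange c19_27)))))))))))))))))))))))))))) i (Nat.zero_le _) hi

def chk20 : List Nat := [3, 6, 2, 7, 7, 7, 7, 7]
noncomputable def act20 (i : Nat) : Nat := col2 (col7 (col3 (col6 (col6 (col6 (col6 (col6 (i))))))))
theorem act20_eq (i : Nat) : act20 i = Tab.act T D chk20 i := rfl
theorem c20_0 : allRange (fun i => Nat.beq (act20 i) i) 0 6000 = true := by decide +kernel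
theorem c20_1 : allRange (fun i => Nat.beq (act20 i) i) 6000 6000 = true := by decide +kernel
theorem c20_2 : allRange (fun i => Nat.beq (act20 i) i) 12000 6000 = true := by decide +kernel
theorem c20_3 : allRange (fun i => Nat.beq (act20 i) i) 18000 6000 = true := by decide +kernel
theorem c20_4 : allRange (fun i => Nat.beq (act20 i) i) 24000 6000 = true := by decide +kernel
theorem c20_5 : allRange (fun i => Nat.beq (act20 i) i) 30000 6000 = true := by decide +kernel
theorem c20_6 : allRange (fun i => Nat.beq (act20 i) i) 36000 6000 = true := by decide +kernel
theorem c20_7 : allRange (fun i => Nat.beq (act20 i) i) 42000 6000 = true := by decide +kernel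
theorem c20_8 : allRange (fun i => Nat.beq (act20 i) i) 48000 6000 = true := by decide +kernel
theorem c20_9 : allRange (fun i => Nat.beq (act20 i) i) 54000 6000 = true := by decide +kernel
theorem c20_10 : allRange (fun i => Nat.beq (act20 i) i) 60000 6000 = true := by decide +kernel
theorem c20_11 : allRange (fun i => Nat.beq (act20 i) i) 66000 6000 = true := by decide +kernel
theorem c20_12 : allRange (fun i => Nat.beq (act20 i) i) 72000 6000 = true := by decide +kernel
theorem c20_13 : allRange (fun i => Nat.beq (act20 i) i) 78000 6000 = true := by decide +kernel
theorem c20_14 : allRange (fun i => Nat.beq (act20 i) i) 84000 6000 = true := by decide +kernel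
theorem c20_15 : allRange (fun i => Nat.beq (act20 i) i) 90000 6000 = true := by decide +kernel
theorem c20_16 : allRange (fun i => Nat.beq (act20 i) i) 96000 768 = true := by decide +kernel
theorem h20 : ∀ i, i < T.N → Tab.relActOK T D chk20 i = true := by
  intro i hi
  rw [Tab.relActOK, ← act20_eq]
  exact (range_glue (range_of_allRange c20_0) (range_glue (range_of_allRange c20_1) (range_glue (range_of_allRange c20_2) (range_glue (range_of_allRange c20_3) (range_glue (range_of_allRange c20_4) (range_glue (range_of_allRange c20_5) (range_glue (range_of_allRange c20_6) (range_glue (range_of_allRange c20_7) (range_glue (range_of_allRange c20_8) (range_glue (range_of_allRange c20_9) (range_glue (range_of_allRange c20_10) (range_glue (range_of_allRange c20_11) (range_glue (range_of_allRange c20_12) (range_glue (range_of_allRange c20_13) (range_glue (range_of_allRange c20_14) (range_glue (range_of_allRange c20_15) (range_of_allRange c20_16))))))))))))))))) i (Nat.zero_le _) hi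

def chk21 : List Nat := [6, 6, 6, 6, 6, 6, 6, 6, 6, 6, 6]
noncomputable def act21 (i : Nat) : Nat := col7 (col7 (col7 (col7 (col7 (col7 (col7 (col7 (col7 (col7 (col7 (i)))))))))))
theorem act21_eq (i : Nat) : act21 i = Tab.act T D chk21 i := rfl
theorem c21_0 : allRange (fun i => Nat.beq (act21 i) i) 0 4615 = true := by decide +kernel
theorem c21_1 : allRange (fun i => Nat.beq (act21 i) i) 4615 4615 = true := by decide +kernel
theorem c21_2 : allRange (fun i => Nat.beq (act21 i) i) 9230 4615 = true := by decide +kernel
theorem c21_3 : allRange (fun i => Nat.beq (act21 i) i) 13845 4615 = true := by decide +kernel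
theorem c21_4 : allRange (fun i => Nat.beq (act21 i) i) 18460 4615 = true := by decide +kernel
theorem c21_5 : allRange (fun i => Nat.beq (act21 i) i) 23075 4615 = true := by decide +kernel
theorem c21_6 : allRange (fun i => Nat.beq (act21 i) i) 27690 4615 = true := by decide +kernel
theorem c21_7 : allRange (fun i => Nat.beq (act21 i) i) 32305 4615 = true := by decide +kernel
theorem c21_8 : allRange (fun i => Nat.beq (act21 i) i) 36920 4615 = true := by decide +kernel
theorem c21_9 : allRange (fun i => Nat.beq (act21 i) i) 41535 4615 = true := by decide +kernel
theorem c21_10 : allRange (fun i => Nat.beq (act21 i) i) 46150 4615 = true := by decide +kernel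
theorem c21_11 : allRange (fun i => Nat.beq (act21 i) i) 50765 4615 = true := by decide +kernel
theorem c21_12 : allRange (fun i => Nat.beq (act21 i) i) 55380 4615 = true := by decide +kernel
theorem c21_13 : allRange (fun i => Nat.beq (act21 i) i) 59995 4615 = true := by decide +kernel
theorem c21_14 : allRange (fun i => Nat.beq (act21 i) i) 64610 4615 = true := by decide +kernel
theorem c21_15 : allRange (fun i => Nat.beq (act21 i) i) 69225 4615 = true := by decide +kernel
theorem c21_16 : allRange (fun i => Nat.beq (act21 i) i) 73840 4615 = true := by decide +kernel
theorem c21_17 : allRange (fun i => Nat.beq (act21 i) i) 78455 4615 = true := by decide +kernel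
theorem c21_18 : allRange (fun i => Nat.beq (act21 i) i) 83070 4615 = true := by decide +kernel
theorem c21_19 : allRange (fun i => Nat.beq (act21 i) i) 87685 4615 = true := by decide +kernel
theorem c21_20 : allRange (fun i => Nat.beq (act21 i) i) 92300 4468 = true := by decide +kernel
theorem h21 : ∀ i, i < T.N → Tab.relActOK T D chk21 i = true := by
  intro i hi
  rw [Tab.relActOK, ← act21_eq]
  exact (range_glue (range_of_allRange c21_0) (range_glue (range_of_allRange c21_1) (range_glue (range_of_allRange c21_2) (range_glue (range_of_allRange c21_3) (range_glue (range_of_allRange c21_4) (range_glue (range_of_allRange c21_5) (range_glue (range_of_allRange c21_6) (range_glue (range_of_allRange c21_7) (range_glue (range_of_allRange c21_8) (range_glue (range_of_allRange c21_9) (range_glue (range_of_allRange c21_10) (range_glue (range_of_allRange c21_11) (range_glue (range_of_allRange c21_12) (range_glue (range_of_allRange c21_13) (range_glue (range_of_allRange c21_14) (range_glue (range_of_allRange c21_15) (range_glue (range_of_allRange c21_16) (range_glue (range_of_allRange c21_17) (range_glue (range_of_allRange c21_18) (range_glue (range_of_allRange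 c21_19) (range_of_allRange c21_20))))))))))))))))))))) i (Nat.zero_le _) hi

def chk22 : List Nat := [6, 6, 6, 6, 6, 6, 6, 6, 6, 6, 6, 6, 6, 6, 6, 6, 6, 6, 6, 6, 6, 6, 6, 6, 6, 6, 6, 6, 6, 6, 6, 6, 6, 6, 6, 6, 6, 6, 6, 6, 6, 6, 6, 6, 6, 6, 6, 6, 6, 6, 6, 6, 6, 6, 6]
noncomputable def act22 (i : Nat) : Nat := col7 (col7 (col7 (col7 (col7 (col7 (col7 (col7 (col7 (col7 (col7 (col7 (col7 (col7 (col7 (col7 (col7 (col7 (col7 (col7 (col7 (col7 (col7 (col7 (col7 (col7 (col7 (col7 (col7 (col7 (col7 (col7 (col7 (col7 (col7 (col7 (col7 (col7 (col7 (col7 (col7 (col7 (col7 (col7 (col7 (col7 (col7 (col7 (col7 (col7 (col7 (col7 (col7 (col7 (col7 (i)))))))))))))))))))))))))))))))))))))))))))))))))))))))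
theorem act22_eq (i : Nat) : act22 i = Tab.act T D chk22 i := rfl
theorem c22_0 : allRange (fun i => Nat.beq (act22 i) i) 0 1052 = true := by decide +kernel
theorem c22_1 : allRange (fun i => Nat.beq (act22 i) i) 1052 1052 = true := by decide +kernel
theorem c22_2 : allRange (fun i => Nat.beq (act22 i) i) 2104 1052 = true := by decide +kernel
theorem c22_3 : allRange (fun i => Nat.beq (act22 i) i) 3156 1052 = true := by decide +kernel
theorem c22_4 : allRange (fun i => Nat.beq (act22 i) i) 4208 1052 = true := by decide +kernel
theorem c22_5 : allRange (fun i => Nat.beq (act22 i) i) 5260 1052 = true := by decide +kernel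
theorem c22_6 : allRange (fun i => Nat.beq (act22 i) i) 6312 1052 = true := by decide +kernel
theorem c22_7 : allRange (fun i => Nat.beq (act22 i) i) 7364 1052 = true := by decide +kernel
theorem c22_8 : allRange (fun i => Nat.beq (act22 i) i) 8416 1052 = true := by decide +kernel
theorem c22_9 : allRange (fun i => Nat.beq (act22 i) i) 9468 1052 = true := by decide +kernel
theorem c22_10 : allRange (fun i => Nat.beq (act22 i) i) 10520 1052 = true := by decide +kernel
theorem c22_11 : allRange (fun i => Nat.beq (act22 i) i) 11572 1052 = true := by decide +kernel
theorem c22_12 : allRange (fun i => Nat.beq (act22 i) i) 12624 1052 = true := by decide +kernel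
theorem c22_13 : allRange (fun i => Nat.beq (act22 i) i) 13676 1052 = true := by decide +kernel
theorem c22_14 : allRange (fun i => Nat.beq (act22 i) i) 14728 1052 = true := by decide +kernel
theorem c22_15 : allRange (fun i => Nat.beq (act22 i) i) 15780 1052 = true := by decide +kernel
theorem c22_16 : allRange (fun i => Nat.beq (act22 i) i) 16832 1052 = true := by decide +kernel
theorem c22_17 : allRange (fun i => Nat.beq (act22 i) i) 17884 1052 = true := by decide +kernel
theorem c22_18 : allRange (fun i => Nat.beq (act22 i) i) 18936 1052 = true := by decide +kernel
theorem c22_19 : allRange (fun i => Nat.beq (act22 i) i) 19988 1052 = true := by decide +kernel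
theorem c22_20 : allRange (fun i => Nat.beq (act22 i) i) 21040 1052 = true := by decide +kernel
theorem c22_21 : allRange (fun i => Nat.beq (act22 i) i) 22092 1052 = true := by decide +kernel
theorem c22_22 : allRange (fun i => Nat.beq (act22 i) i) 23144 1052 = true := by decide +kernel
theorem c22_23 : allRange (fun i => Nat.beq (act22 i) i) 24196 1052 = true := by decide +kernel
theorem c22_24 : allRange (fun i => Nat.beq (act22 i) i) 25248 1052 = true := by decide +kernel
theorem c22_25 : allRange (fun i => Nat.beq (act22 i) i) 26300 1052 = true := by decide +kernel
theorem c22_26 : allRange (fun i => Nat.beq (act22 i) i) 27352 1052 = true := by decide +kernel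
theorem c22_27 : allRange (fun i => Nat.beq (act22 i) i) 28404 1052 = true := by decide +kernel
theorem c22_28 : allRange (fun i => Nat.beq (act22 i) i) 29456 1052 = true := by decide +kernel
theorem c22_29 : allRange (fun i => Nat.beq (act22 i) i) 30508 1052 = true := by decide +kernel
theorem c22_30 : allRange (fun i => Nat.beq (act22 i) i) 31560 1052 = true := by decide +kernel
theorem c22_31 : allRange (fun i => Nat.beq (act22 i) i) 32612 1052 = true := by decide +kernel
theorem c22_32 : allRange (fun i => Nat.beq (act22 i) i) 33664 1052 = true := by decide +kernel
theorem c22_33 : allRange (fun i => Nat.beq (act22 i) i) 34716 1052 = true := by decide +kernel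
theorem c22_34 : allRange (fun i => Nat.beq (act22 i) i) 35768 1052 = true := by decide +kernel
theorem c22_35 : allRange (fun i => Nat.beq (act22 i) i) 36820 1052 = true := by decide +kernel
theorem c22_36 : allRange (fun i => Nat.beq (act22 i) i) 37872 1052 = true := by decide +kernel
theorem c22_37 : allRange (fun i => Nat.beq (act22 i) i) 38924 1052 = true := by decide +kernel
theorem c22_38 : allRange (fun i => Nat.beq (act22 i) i) 39976 1052 = true := by decide +kernel
theorem c22_39 : allRange (fun i => Nat.beq (act22 i) i) 41028 1052 = true := by decide +kernel
theorem c22_40 : allRange (fun i => Nat.beq (act22 i) i) 42080 1052 = true := by decide +kernel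
theorem c22_41 : allRange (fun i => Nat.beq (act22 i) i) 43132 1052 = true := by decide +kernel
theorem c22_42 : allRange (fun i => Nat.beq (act22 i) i) 44184 1052 = true := by decide +kernel
theorem c22_43 : allRange (fun i => Nat.beq (act22 i) i) 45236 1052 = true := by decide +kernel
theorem c22_44 : allRange (fun i => Nat.beq (act22 i) i) 46288 1052 = true := by decide +kernel
theorem c22_45 : allRange (fun i => Nat.beq (act22 i) i) 47340 1052 = true := by decide +kernel
theorem c22_46 : allRange (fun i => Nat.beq (act22 i) i) 48392 1052 = true := by decide +kernel
theorem c22_47 : allRange (fun i => Nat.beq (act22 i) i) 49444 1052 = true := by decide +kernel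
theorem c22_48 : allRange (fun i => Nat.beq (act22 i) i) 50496 1052 = true := by decide +kernel
theorem c22_49 : allRange (fun i => Nat.beq (act22 i) i) 51548 1052 = true := by decide +kernel
theorem c22_50 : allRange (fun i => Nat.beq (act22 i) i) 52600 1052 = true := by decide +kernel
theorem c22_51 : allRange (fun i => Nat.beq (act22 i) i) 53652 1052 = true := by decide +kernel
theorem c22_52 : allRange (fun i => Nat.beq (act22 i) i) 54704 1052 = true := by decide +kernel
theorem c22_53 : allRange (fun i => Nat.beq (act22 i) i) 55756 1052 = true := by decide +kernel
theorem c22_54 : allRange (fun i => Nat.beq (act22 i) i) 56808 1052 = true := by decide +kernel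
theorem c22_55 : allRange (fun i => Nat.beq (act22 i) i) 57860 1052 = true := by decide +kernel
theorem c22_56 : allRange (fun i => Nat.beq (act22 i) i) 58912 1052 = true := by decide +kernel
theorem c22_57 : allRange (fun i => Nat.beq (act22 i) i) 59964 1052 = true := by decide +kernel
theorem c22_58 : allRange (fun i => Nat.beq (act22 i) i) 61016 1052 = true := by decide +kernel
theorem c22_59 : allRange (fun i => Nat.beq (act22 i) i) 62068 1052 = true := by decide +kernel
theorem c22_60 : allRange (fun i => Nat.beq (act22 i) i) 63120 1052 = true := by decide +kernel
theorem c22_61 : allRange (fun i => Nat.beq (act22 i) i) 64172 1052 = true := by decide +kernel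
theorem c22_62 : allRange (fun i => Nat.beq (act22 i) i) 65224 1052 = true := by decide +kernel
theorem c22_63 : allRange (fun i => Nat.beq (act22 i) i) 66276 1052 = true := by decide +kernel
theorem c22_64 : allRange (fun i => Nat.beq (act22 i) i) 67328 1052 = true := by decide +kernel
theorem c22_65 : allRange (fun i => Nat.beq (act22 i) i) 68380 1052 = true := by decide +kernel
theorem c22_66 : allRange (fun i => Nat.beq (act22 i) i) 69432 1052 = true := by decide +kernel
theorem c22_67 : allRange (fun i => Nat.beq (act22 i) i) 70484 1052 = true := by decide +kernel
theorem c22_68 : allRange (fun i => Nat.beq (act22 i) i) 71536 1052 = true := by decide +kernel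
theorem c22_69 : allRange (fun i => Nat.beq (act22 i) i) 72588 1052 = true := by decide +kernel
theorem c22_70 : allRange (fun i => Nat.beq (act22 i) i) 73640 1052 = true := by decide +kernel
theorem c22_71 : allRange (fun i => Nat.beq (act22 i) i) 74692 1052 = true := by decide +kernel
theorem c22_72 : allRange (fun i => Nat.beq (act22 i) i) 75744 1052 = true := by decide +kernel
theorem c22_73 : allRange (fun i => Nat.beq (act22 i) i) 76796 1052 = true := by decide +kernel
theorem c22_74 : allRange (fun i => Nat.beq (act22 i) i) 77848 1052 = true := by decide +kernel
theorem c22_75 : allRange (fun i => Nat.beq (act22 i) i) 78900 1052 = true := by decide +kernel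
theorem c22_76 : allRange (fun i => Nat.beq (act22 i) i) 79952 1052 = true := by decide +kernel
theorem c22_77 : allRange (fun i => Nat.beq (act22 i) i) 81004 1052 = true := by decide +kernel
theorem c22_78 : allRange (fun i => Nat.beq (act22 i) i) 82056 1052 = true := by decide +kernel
theorem c22_79 : allRange (fun i => Nat.beq (act22 i) i) 83108 1052 = true := by decide +kernel
theorem c22_80 : allRange (fun i => Nat.beq (act22 i) i) 84160 1052 = true := by decide +kernel
theorem c22_81 : allRange (fun i => Nat.beq (act22 i) i) 85212 1052 = true := by decide +kernel
theorem c22_82 : allRange (fun i => Nat.beq (act22 i) i) 86264 1052 = true := by decide +kernel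
theorem c22_83 : allRange (fun i => Nat.beq (act22 i) i) 87316 1052 = true := by decide +kernel
theorem c22_84 : allRange (fun i => Nat.beq (act22 i) i) 88368 1052 = true := by decide +kernel
theorem c22_85 : allRange (fun i => Nat.beq (act22 i) i) 89420 1052 = true := by decide +kernel
theorem c22_86 : allRange (fun i => Nat.beq (act22 i) i) 90472 1052 = true := by decide +kernel
theorem c22_87 : allRange (fun i => Nat.beq (act22 i) i) 91524 1052 = true := by decide +kernel
theorem c22_88 : allRange (fun i => Nat.beq (act22 i) i) 92576 1052 = true := by decide +kernel
theorem c22_89 : allRange (fun i => Nat.beq (act22 i) i) 93628 1052 = true := by decide +kernel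
theorem c22_90 : allRange (fun i => Nat.beq (act22 i) i) 94680 1052 = true := by decide +kernel
theorem c22_91 : allRange (fun i => Nat.beq (act22 i) i) 95732 1036 = true := by decide +kernel
theorem h22 : ∀ i, i < T.N → Tab.relActOK T D chk22 i = true := by
  intro i hi
  rw [Tab.relActOK, ← act22_eq]
  exact (range_glue (range_of_allRange c22_0) (range_glue (range_of_allRange c22_1) (range_glue (range_of_allRange c22_2) (range_glue (range_of_allRange c22_3) (range_glue (range_of_allRange c22_4) (range_glue (range_of_allRange c22_5) (range_glue (range_of_allRange c22_6) (range_glue (range_of_allRange c22_7) (range_glue (range_of_allRange c22_8) (range_glue (range_of_allRange c22_9) (range_glue (range_of_allRange c22_10) (range_glue (range_of_allRange c22_11) (range_glue (range_of_allRange c22_12) (range_glue (range_of_allRange c22_13) (range_glue (range_of_allRange c22_14) (range_glue (range_of_allRange c22_15) (range_glue (range_of_allRange c22_16) (range_glue (range_of_allRange c22_17) (range_glue (range_of_allRange c22_18) (range_glue (range_of_allRange c22_19) (range_glue (range_of_allRange c22_20) (range_glue (range_of_allRange c22_21)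 (range_glue (range_of_allRange c22_22) (range_glue (range_of_allRange c22_23) (range_glue (range_of_allRange c22_24) (range_glue (range_of_allRange c22_25) (range_glue (range_of_allRange c22_26) (range_glue (range_of_allRange c22_27) (range_glue (range_of_allRange c22_28) (range_glue (range_of_allRange c22_29) (range_glue (range_of_allRange c22_30) (range_glue (range_of_allRange c22_31) (range_glue (range_of_allRange c22_32) (range_glue (range_of_allRange c22_33) (range_glue (range_of_allRange c22_34) (range_glue (range_of_allRange c22_35) (range_glue (range_of_allRange c22_36) (range_glue (range_of_allRange c22_37) (range_glue (range_of_allRange c22_38) (range_glue (range_of_allRange c22_39) (range_glue (range_of_allRange c22_40) (range_glue (range_of_allRange c22_41) (range_glue (range_of_allRange c22_42) (range_glue (range_of_allRange c22_43) (range_glue (range_of_allRange c22_44) (range_glue (range_of_allRange c22_45) (range_glue (range_of_allRange c22_46) (range_glue (range_of_allRange c22_47) (range_glue (range_of_allRange c22_48) (range_glue (range_of_allRange c22_49) (range_glue (range_of_allRange c22_50) (range_glue (range_of_allRange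 c22_51) (range_glue (range_of_allRange c22_52) (range_glue (range_of_allRange c22_53) (range_glue (range_of_allRange c22_54) (range_glue (range_of_allRange c22_55) (range_glue (range_of_allRange c22_56) (range_glue (range_of_allRange c22_57) (range_glue (range_of_allRange c22_58) (range_glue (range_of_allRange c22_59) (range_glue (range_of_allRange c22_60) (range_glue (range_of_allRange c22_61) (range_glue (range_of_allRange c22_62) (range_glue (range_of_allRange c22_63) (range_glue (range_of_allRange c22_64) (range_glue (range_of_allRange c22_65) (range_glue (range_of_allRange c22_66) (range_glue (range_of_allRange c22_67) (range_glue (range_of_allRange c22_68) (range_glue (range_of_allRange c22_69) (range_glue (range_of_allRange c22_70) (range_glue (range_of_allRange c22_71) (range_glue (range_of_allRange c22_72) (range_glue (range_of_allRange c22_73) (range_glue (range_of_allRange c22_74) (range_glue (range_of_allRange c22_75) (range_glue (range_of_allRange c22_76) (range_glue (range_of_allRange c22_77) (range_glue (range_of_allRange c22_78) (range_glue (range_of_allRange c22_79) (range_glue (range_of_allRange c22_80) (range_glue (range_of_allRange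 c22_81) (range_glue (range_of_allRange c22_82) (range_glue (range_of_allRange c22_83) (range_glue (range_of_allRange c22_84) (range_glue (range_of_allRange c22_85) (range_glue (range_of_allRange c22_86) (range_glue (range_of_allRange c22_87) (range_glue (range_of_allRange c22_88) (range_glue (range_of_allRange c22_89) (range_glue (range_of_allRange c22_90) (range_of_allRange c22_91)))))))))))))))))))))))))))))))))))))))))))))))))))))))))))))))))))))))))))))))))))))))))))) i (Nat.zero_le _) hi

def chkAll : List (List Nat) := [chk0, chk1, chk2, chk3, chk4, chk5, chk6, chk7, chk8, chk9, chk10, chk11, chk12, chk13, chk14, chk15, chk16, chk17, chk18, chk19, chk20, chk21, chk22]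
theorem hAll : ∀ w ∈ chkAll, ∀ i, i < T.N → Tab.relActOK T D w i = true := by
  intro w hw
  simp only [chkAll, List.mem_cons, List.not_mem_nil, or_false] at hw
  rcases hw with rfl | rfl | rfl | rfl | rfl | rfl | rfl | rfl | rfl | rfl | rfl | rfl | rfl | rfl | rfl | rfl | rfl | rfl | rfl | rfl | rfl | rfl | rfl
  · exact h0
  · exact h1
  · exact h2
  · exact h3
  · exact h4
  · exact h5
  · exact h6
  · exact h7
  · exact h8
  · exact h9
  · exact h10
  · exact h11
  · exact h12
  · exact h13
  · exact h14
  · exact h15
  · exact h16
  · exact h17
  · exact h18
  · exact h19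
  · exact h20
  · exact h21
  · exact h22
theorem hAll_lt : ∀ w ∈ chkAll, ∀ x ∈ w, x < 10 := by decide +kernel

end Cfsg.Agent.Lib.Helper4.TCD.SC12M22p2W
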