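import Mathlib
import Cfsg.Agent.Lib.Helper4.C12M22Main
import Cfsg.Agent.Lib.Helper4.TCD_SC12M22p3A_Fin
import Cfsg.Agent.Lib.Helper4.TCD_SC12M22p3W
import Cfsg.Agent.Lib.Helper4.StemLib8
import Cfsg.Agent.Lib.Helper4.C12M22Sub

/-! `C12M22` has no stem extension with kernel of order 3 (generated). -/

namespace Cfsg.Agent.Lib.Helper4.SC12M22p3Main

open Cfsg.Agent.Lib.Helper4.TC Cfsg.Agent.Lib.Helper4.TCD Cfsg.Agent.Lib.Helper4.TC.Log Cfsg.Agent.Lib.Helper4.Stem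

/-- the description of the auxiliary presentation -/
def spec : Spec4 :=
  { p := 3
    items := [(0, [], 3),
      (2, [], 5),
      (4, [], 6),
      (6, [], 11),
      (8, [0, 2, 0, 2, 1, 2, 7, 2, 1, 2, 2, 7, 3, 0, 3, 3, 6, 3, 1, 3, 7, 0, 6, 3, 1], 0),
      (10, [4, 9, 9], 0),
      (12, [8, 8, 8, 8, 8, 8, 8, 8, 8, 8, 8, 8], 0),
      (14, [8, 0, 9, 1], 0),
      (16, [8, 2, 9, 3], 0),
      (18, [8, 6, 9, 7], 0),
      (20, [0, 2, 0, 2, 1, 2, 7, 2, 1, 2, 2, 7, 9, 9, 9, 9, 9, 9], 0),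
      (22, [0, 2, 7, 1, 6, 2, 0, 2, 7, 2, 2, 1, 2, 9, 9, 9, 9, 9], 0)]
    cen := [10, 12, 14, 16, 18, 20, 22]
    R := []
    sub := [0, 2, 4]
    PR := [[4, 4, 4, 4, 4, 4], [4, 0, 5, 1], [4, 2, 5, 3], [0, 0, 0], [2, 2, 2, 2, 2], [0, 2, 0, 2, 0, 2, 0, 2, 0, 2, 0, 2, 0, 2], [0, 3, 0, 2, 0, 3, 0, 2, 5], [0, 3, 3, 0, 2, 2, 0, 3, 3, 0, 2, 2, 5, 5, 5]]
    XR := [([3], [6], [6, 6, 6, 6, 6], 11)] }

/-- the letters of the auxiliary presentation as words of the base group -/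
def Wl (l : ℕ) : List ℕ :=
  [[0], [1], [2], [3], [4], [5], [6], [7], [8], [9], [], [], [], [], [], [], [], [], [], [], [], [], [], []].getD l []

theorem checks_eq : checks spec.toSpec2 PC12M22.P.invR Wl ++ checksX spec PSC12M22p3.P.invR Wl = SC12M22p3W.chkAll := by decide +kernel

theorem sub_eq : Subgroup.closure (xw PC12M22.P Wl '' {l | l ∈ spec.sub}) = Inst.subG PC12M22.P C12M22B.subs := by
  rw [closure_xw_eq]
  rfl

set_option maxRecDepth 100000 in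
theorem noStem : NoStemPrime PC12M22.P.Grp 3 := by
  obtain ⟨fG, hinj, hcard⟩ := C12M22Main.order_aux
  have hall : ∀ w ∈ checks spec.toSpec2 PC12M22.P.invR Wl ++ checksX spec PSC12M22p3.P.invR Wl, wordP PC12M22.P.gR w = 1 := by
    rw [checks_eq]
    intro w hw
    exact C12M22A.inst.word_eq_one hinj w (SC12M22p3W.hAll_lt w hw) (SC12M22p3W.hAll w hw)
  exact noStemPrime_pres4 PC12M22.P PC12M22.valid PSC12M22p3.P PSC12M22p3.valid spec (by show Nat.Prime 3; norm_num) Wl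
    (by decide +kernel) (by decide +kernel) (fun w hw => hall w (List.mem_append_left _ hw))
    (fun w hw => hall w (List.mem_append_right _ hw)) (by decide +kernel)
    (by rw [sub_eq]; exact C12M22Sub.liftsP_sub 3 (by norm_num))
    15120 (by rw [sub_eq]; exact C12M22Sub.sub_card.2)
    352 (by decide) SC12M22p3A.index_eq fG 5322240 hcard (by decide)

end Cfsg.Agent.Lib.Helper4.SC12M22p3Main
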