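import Mathlib
import Cfsg.Prelude.Def_KGroupFacts
import Cfsg.Agent.Lib.Helper4.M22pIso
import Cfsg.Agent.Lib.Helper4.C12M22Cover
import Cfsg.Agent.Lib.Helper4.SC12M22p2Main
import Cfsg.Agent.Lib.Helper4.SC12M22p3Main

/-!
The presented group `C12M22` has no stem extension with kernel of prime order, and the Schur multiplier of the
Mathieu group M22 is cyclic of order 12.
-/

set_option autoImplicit false

namespace Cfsg.Agent.Lib.Helper4.C12M22Stem

open Cfsg Cfsg.Agent.Lib.Helper4.TC Cfsg.Agent.Lib.Helper4.TCD Cfsg.Agent.Lib.Helper4.TC.Log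
  Cfsg.Agent.Lib.Helper4.Stem

/-- no stem extension with kernel of prime order -/
theorem noStem : ∀ p, p.Prime → NoStemPrime PC12M22.P.Grp p := by
  obtain ⟨fG, _, hcard⟩ := C12M22Main.order_aux
  have := fG
  apply noStemPrime_all PC12M22.P.Grp [2, 3]
  · intro p hp
    simp only [List.mem_cons, List.not_mem_nil, or_false] at hp
    rcases hp with rfl | rfl
    · exact SC12M22p2Main.noStem
    · exact SC12M22p3Main.noStem
  · rw [hcard]
    exact sq_dvd_mem_of_factors 5322240 [2, 2, 2, 2, 2, 2, 2, 2, 2, 3, 3, 3, 5, 7, 11] (by norm_num) (by decide) [2, 3]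
      (by decide)

/-- the Schur multiplier of the Mathieu group M22 is cyclic of order 12 -/
theorem hasMult : Cfsg.HasCyclicSchurMultiplier ↥Cfsg.Spor.M22 12 := by
  obtain ⟨e⟩ := M22pIso.iso
  obtain ⟨fG, _, _⟩ := C12M22Main.order_aux
  have := fG
  let τ : PC12M22.P.Grp →* ↥Cfsg.Spor.M22 := e.toMonoidHom.comp C12M22Cover.π
  have hker : τ.ker = C12M22Cover.π.ker := by
    ext x
    rw [MonoidHom.mem_ker, MonoidHom.mem_ker]
    show e (C12M22Cover.π x) = 1 ↔ _
    exact EmbeddingLike.map_eq_one_iff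
  have hτ : IsStemExtension τ := by
    refine ⟨?_, ?_, ?_⟩
    · exact e.surjective.comp C12M22Cover.isStem.1
    · rw [hker]
      exact C12M22Cover.isStem.2.1
    · rw [hker]
      exact C12M22Cover.isStem.2.2
  obtain ⟨ek⟩ := C12M22Cover.ker_equiv
  have ek' : τ.ker ≃* Multiplicative (ZMod 12) := (MulEquiv.subgroupCongr hker).trans ek
  exact hasSchurMultiplier_of_cover PC12M22.P.Grp τ hτ ek' noStem

end Cfsg.Agent.Lib.Helper4.C12M22Stem
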