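import Mathlib
import Cfsg.Agent.Lib.Helper4.TC15
import Cfsg.Agent.Lib.Helper4.TC16

/-!
Verified Todd–Coxeter logs, part 23: simplicity from a faithful primitive action of rank three whose point
stabiliser is a simple group, when the degree has three prime divisors.  A nontrivial normal subgroup is transitive;
it contains the point stabiliser (and then it is the whole group) or it is regular; a regular normal subgroup has
elements of three different prime orders, two of which are moved into the same suborbit, and are then conjugate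
under the point stabiliser.
-/

namespace Cfsg.Agent.Lib.Helper4.TC

open Log MulAction Cfsg.Spor
open scoped Pointwise

theorem simple_of_rank3 {G : Type*} [Group G] [Finite G] (H : Subgroup G) {X : Type*} [MulAction G X]
    [IsPretransitive G X] {N : ℕ} (e : Fin N ≃ X) (a b : ℕ) (hN : 1 < N) (hsum : [1, a, b].sum = N)
    (hfix : ∀ h ∈ H, h • e ⟨0, by omega⟩ = e ⟨0, by omega⟩) (hidx : H.index = N) (horb : OrbCond H e [1, a, b] 0)
    (hfaith : ∀ γ : G, (∀ c : X, γ • c = c) → γ = 1) (hH : IsSimpleGroup H)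
    (hq : ∀ s ∈ subsetSums [1, a, b], s ∣ N → 1 < s → s = N)
    (p1 p2 p3 : ℕ) (hp1 : p1.Prime) (hp2 : p2.Prime) (hp3 : p3.Prime) (h12 : p1 ≠ p2) (h13 : p1 ≠ p3)
    (h23 : p2 ≠ p3) (hd1 : p1 ∣ N) (hd2 : p2 ∣ N) (hd3 : p3 ∣ N) : IsSimpleGroup G := by
  classical
  have hN0 : 0 < N := by omega
  have hnt : Nontrivial G := by
    by_contra hcon
    rw [not_nontrivial_iff_subsingleton] at hcon
    obtain ⟨g, hg⟩ := exists_smul_eq G (e ⟨0, hN0⟩) (e ⟨1, hN⟩)
    have h1 : g = 1 := Subsingleton.elim _ _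
    rw [h1, one_smul] at hg
    have := e.injective hg
    simp [Fin.ext_iff] at this
  refine { toNontrivial := hnt, eq_bot_or_eq_top_of_normal := ?_ }
  intro K hK
  by_cases hbot : K = ⊥
  · exact Or.inl hbot
  right
  set x0 := e ⟨0, hN0⟩ with hx0
  have hfinX : Finite X := Finite.of_equiv _ e
  have hstab : ∀ g : G, g • x0 = x0 ↔ g ∈ H := by
    have hle : H ≤ stabilizer G x0 := fun h hh => hfix h hh
    have hidx' : (stabilizer G x0).index = N := by
      rw [MulAction.index_stabilizer, MulAction.orbit_eq_univ, Set.ncard_univ, ← Nat.card_congr e, Nat.card_fin]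
    have heq : H = stabilizer G x0 := by
      apply Subgroup.eq_of_le_of_card_ge hle
      have h1 := H.index_mul_card
      have h2 := (stabilizer G x0).index_mul_card
      rw [hidx] at h1
      rw [hidx'] at h2
      have : N * Nat.card (stabilizer G x0) = N * Nat.card H := by rw [h1, h2]
      exact (Nat.eq_of_mul_eq_mul_left hN0 this).le
    intro g
    rw [heq]
    exact Iff.rfl
  have hBl : IsBlock G (orbit K x0) := IsBlock.orbit_of_normal x0
  have haB : x0 ∈ orbit K x0 := mem_orbit_self x0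
  have hmem := block_ncard_mem H e [1, a, b] hN0 hsum hfix horb (orbit K x0) haB hBl
  have hdvd : (orbit K x0).ncard ∣ N := by
    have := hBl.ncard_dvd_card ⟨_, haB⟩
    rwa [← Nat.card_congr e, Nat.card_fin] at this
  have h1 : 1 < (orbit K x0).ncard := by
    by_contra hle
    rw [not_lt, Set.ncard_le_one_iff_subsingleton] at hle
    apply hbot
    rw [Subgroup.eq_bot_iff_forall]
    intro k hk
    apply hfaith k
    intro c
    obtain ⟨g, rfl⟩ := exists_smul_eq G x0 c
    have hk' : g⁻¹ * k * g ∈ K := hK.conj_mem' k hk g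
    have hfx : (g⁻¹ * k * g) • x0 = x0 :=
      hle (⟨⟨g⁻¹ * k * g, hk'⟩, rfl⟩ : (g⁻¹ * k * g) • x0 ∈ orbit K x0) haB
    calc k • g • x0 = g • (g⁻¹ * k * g) • x0 := by rw [smul_smul, smul_smul]; group
      _ = g • x0 := by rw [hfx]
  have hfull : (orbit K x0).ncard = N := hq _ hmem hdvd h1
  have hBK : (orbit K x0).ncard ∣ Nat.card K := by
    rw [← MulAction.index_stabilizer (G := K) (x := x0)]
    exact Subgroup.index_dvd_card _
  -- the normal subgroup is transitive
  have htrans : ∀ c : X, ∃ k ∈ K, k • x0 = c := by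
    have huniv : orbit K x0 = Set.univ := by
      rw [Set.eq_univ_iff_ncard, hfull, ← Nat.card_congr e, Nat.card_fin]
    intro c
    have hc : c ∈ orbit K x0 := by rw [huniv]; trivial
    obtain ⟨k, hk⟩ := hc
    exact ⟨k.1, k.2, hk⟩
  have hnorm : (K.subgroupOf H).Normal := inferInstance
  rcases hH.eq_bot_or_eq_top_of_normal (K.subgroupOf H) hnorm with hcase | hcase
  · -- regular normal subgroup
    exfalso
    rw [Subgroup.subgroupOf_eq_bot] at hcase
    have hreg : ∀ k ∈ K, k • x0 = x0 → k = 1 := by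
      intro k hk hkx
      have hkH : k ∈ H := (hstab k).1 hkx
      have : k ∈ K ⊓ H := ⟨hk, hkH⟩
      rw [hcase.eq_bot] at this
      exact this
    have hNK : N ∣ Nat.card K := by rw [← hfull]; exact hBK
    -- conjugate elements under the stabiliser have the same order
    have key : ∀ (m m' : G), m ∈ K → m' ∈ K → (∃ h ∈ H, h • (m • x0) = m' • x0) → orderOf m = orderOf m' := by
      intro m m' hm hm' ⟨h, hh, hhm⟩
      have hc : h * m * h⁻¹ ∈ K := hK.conj_mem m hm h
      have hx : (m'⁻¹ * (h * m * h⁻¹)) • x0 = x0 := by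
        have h1 : h⁻¹ • x0 = x0 := by
          have := hfix h hh
          calc h⁻¹ • x0 = h⁻¹ • (h • x0) := by rw [this]
            _ = x0 := inv_smul_smul h x0
        rw [mul_smul, mul_smul, mul_smul, h1, hhm, inv_smul_smul]
      have h1 := hreg _ (K.mul_mem (K.inv_mem hm') hc) hx
      have h2 : h * m * h⁻¹ = m' := by
        have := congrArg (fun t => m' * t) h1
        simpa [mul_assoc] using this
      rw [← h2]
      exact (SemiconjBy.conj_mk h m).orderOf_eq
    -- elements of prime orders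
    have hcau : ∀ p : ℕ, p.Prime → p ∣ N → ∃ m ∈ K, orderOf m = p := by
      intro p hp hpN
      have : Fact p.Prime := ⟨hp⟩
      obtain ⟨m, hm⟩ := exists_prime_orderOf_dvd_card' (G := K) p (dvd_trans hpN hNK)
      exact ⟨m.1, m.2, by rw [Subgroup.orderOf_coe]; exact hm⟩
    obtain ⟨m1, hm1, ho1⟩ := hcau p1 hp1 hd1
    obtain ⟨m2, hm2, ho2⟩ := hcau p2 hp2 hd2
    obtain ⟨m3, hm3, ho3⟩ := hcau p3 hp3 hd3
    -- the images of the base point
    have himg : ∀ (m : G) (p : ℕ), p.Prime → m ∈ K → orderOf m = p → ∃ j : Fin N, 1 ≤ j.1 ∧ m • x0 = e j := by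
      intro m p hp hm ho
      refine ⟨e.symm (m • x0), ?_, (e.apply_symm_apply _).symm⟩
      by_contra hj
      have hj0 : (e.symm (m • x0)) = ⟨0, hN0⟩ := Fin.ext (by show (e.symm (m • x0)).1 = 0; omega)
      have hmx : m • x0 = x0 := by
        have h3 := congrArg e hj0
        rw [Equiv.apply_symm_apply] at h3
        exact h3
      have := hreg m hm hmx
      rw [this, orderOf_one] at ho
      exact hp.one_lt.ne ho
    obtain ⟨j1, hj1, hx1⟩ := himg m1 p1 hp1 hm1 ho1
    obtain ⟨j2, hj2, hx2⟩ := himg m2 p2 hp2 hm2 ho2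
    obtain ⟨j3, hj3, hx3⟩ := himg m3 p3 hp3 hm3 ho3
    have hA := horb.2.1
    have hB := horb.2.2.1
    have hsum' : 1 + (a + (b + 0)) = N := by simpa using hsum
    have pair : ∀ j j' : Fin N, 1 ≤ j.1 → 1 ≤ j'.1 → (j.1 < 1 + a ↔ j'.1 < 1 + a) → ∃ h ∈ H, h • e j = e j' := by
      intro j j' hj hj' hiff
      by_cases hlt : j.1 < 1 + a
      · exact hA j j' (by omega) (by omega) (by omega) (by have := hiff.1 hlt; omega)
      · have hlt' : ¬ j'.1 < 1 + a := fun h => hlt (hiff.2 h)
        exact hB j j' (by omega) (by have := j.2; omega) (by omega) (by have := j'.2; omega)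
    by_cases c12 : (j1.1 < 1 + a ↔ j2.1 < 1 + a)
    · obtain ⟨h, hh, hhe⟩ := pair j1 j2 hj1 hj2 c12
      have := key m1 m2 hm1 hm2 ⟨h, hh, by rw [hx1, hx2]; exact hhe⟩
      rw [ho1, ho2] at this
      exact h12 this
    · by_cases c13 : (j1.1 < 1 + a ↔ j3.1 < 1 + a)
      · obtain ⟨h, hh, hhe⟩ := pair j1 j3 hj1 hj3 c13
        have := key m1 m3 hm1 hm3 ⟨h, hh, by rw [hx1, hx3]; exact hhe⟩
        rw [ho1, ho3] at this
        exact h13 this
      · have c23 : (j2.1 < 1 + a ↔ j3.1 < 1 + a) := by tauto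
        obtain ⟨h, hh, hhe⟩ := pair j2 j3 hj2 hj3 c23
        have := key m2 m3 hm2 hm3 ⟨h, hh, by rw [hx2, hx3]; exact hhe⟩
        rw [ho2, ho3] at this
        exact h23 this
  · -- the normal subgroup contains the point stabiliser
    rw [Subgroup.subgroupOf_eq_top] at hcase
    rw [eq_top_iff]
    intro g _
    obtain ⟨k, hk, hkg⟩ := htrans (g • x0)
    have hfx : (k⁻¹ * g) • x0 = x0 := by rw [mul_smul, ← hkg, inv_smul_smul]
    have hkH : k⁻¹ * g ∈ K := hcase ((hstab _).1 hfx)
    have : g = k * (k⁻¹ * g) := by group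
    rw [this]
    exact K.mul_mem hk hkH

variable {α : Type} [DecidableEq α]

namespace Inst

variable {P : CoxEnc α} {T : Tab} {D : Log} {subs : List (List ℕ)}

/-- Simplicity of the presented group from a faithful primitive coset action of rank three with simple point
stabiliser and a degree with three prime divisors. -/
theorem simple3 (I : Inst P T D subs) (hinj : Function.Injective I.phi) (hfin : Finite P.Grp)
    (a b : ℕ) (hsum : [1, a, b].sum = T.N) (horb : OrbCond (subG P subs) I.equiv [1, a, b] 0)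
    (hnt : 1 < T.N) (hH : IsSimpleGroup (subG P subs))
    (hq : ∀ s, s ≤ T.N → (maskOf [1, a, b]).testBit s = true → s ∣ T.N → 1 < s → s = T.N)
    (p1 p2 p3 : ℕ) (hp1 : p1.Prime) (hp2 : p2.Prime) (hp3 : p3.Prime) (h12 : p1 ≠ p2) (h13 : p1 ≠ p3)
    (h23 : p2 ≠ p3) (hd1 : p1 ∣ T.N) (hd2 : p2 ∣ T.N) (hd3 : p3 ∣ T.N) : IsSimpleGroup P.Grp := by
  have hN0 : 0 < T.N := by omega
  apply simple_of_rank3 (subG P subs) I.equiv a b hnt hsum _ I.index_eq horb _ hH _ p1 p2 p3 hp1 hp2 hp3 h12 h13 h23
    hd1 hd2 hd3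
  · intro h hh
    rw [I.smul_equiv, I.hfix h hh]
  · intro γ hγ
    apply hinj
    rw [map_one]
    ext i
    have := hγ (I.equiv i)
    rw [I.smul_equiv] at this
    have := I.equiv.injective this
    rw [this]
    rfl
  · intro s hs hd h1
    exact hq s (Nat.le_of_dvd hN0 hd) (testBit_maskOf _ _ hs) hd h1

end Inst

end Cfsg.Agent.Lib.Helper4.TC
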