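import Mathlib
import Cfsg.Agent.Lib.Helper4.U42pMain
import Cfsg.Agent.Lib.Helper4.TCD_GU42pA_Fin
import Cfsg.Agent.Lib.Helper4.TC16
import Cfsg.Agent.Lib.Helper4.TC20
import Cfsg.Agent.Lib.Helper4.RelLib

/-! The presented group `GU42p` (the direct product of the presented group `U42p` and a cyclic group of order 3) has
order 77760: the subgroup generated by `a`, `b` is an image of `U42p` and has index 3, and the group maps onto
`U42p × ZMod 3`. -/

set_option autoImplicit false

namespace Cfsg.Agent.Lib.Helper4.GU42pMain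

open Cfsg.Agent.Lib.Helper4.TC Cfsg.Agent.Lib.Helper4.TCD Cfsg.Agent.Lib.Helper4.TC.Log

/-- the letters of `U42p` as letters of `GU42p` -/
def embK (l : ℕ) : ℕ := [0, 1, 2, 3].getD l 6

theorem real_subK : ∀ L ∈ PU42p.P.real, L.map embK ∈ PGU42p.P.real := by decide +kernel

theorem embK_emb : LetterEmb PU42p.P PGU42p.P embK where
  hP := PU42p.valid
  hQ := PGU42p.valid
  hlt := by
    intro l hl
    have hl : l < 4 := hl
    show embK l < 6
    interval_cases l <;> decide
  hinv := by
    intro l hl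
    have hl : l < 4 := hl
    interval_cases l <;> rfl
  hrel := by
    intro L hL
    exact (PGU42p.valid.real_sound _ (real_subK L hL)).2

/-- the words generating `U42p` -/
def subsK : List (List ℕ) := [[0], [2]]

theorem subsK_map : subsK.map (List.map embK) = GU42pA.subs := by decide

theorem subG_K_top : Inst.subG PU42p.P subsK = ⊤ := by
  rw [eq_top_iff, ← PU42p.valid.gen_top, Subgroup.closure_le]
  rintro _ ⟨l, hl, rfl⟩
  have hl : l < 4 := hl
  interval_cases l
  · exact Subgroup.subset_closure ⟨[0], by decide, by rw [wordP_cons, wordP_nil, mul_one]⟩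
  · have h : PU42p.P.gR 1 = (PU42p.P.gR 0)⁻¹ := (PU42p.valid.invR_sound 0 (by decide)).2
    rw [h]
    exact Subgroup.inv_mem _ (Subgroup.subset_closure ⟨[0], by decide, by rw [wordP_cons, wordP_nil, mul_one]⟩)
  · exact Subgroup.subset_closure ⟨[2], by decide, by rw [wordP_cons, wordP_nil, mul_one]⟩
  · have h : PU42p.P.gR 3 = (PU42p.P.gR 2)⁻¹ := (PU42p.valid.invR_sound 2 (by decide)).2
    rw [h]
    exact Subgroup.inv_mem _ (Subgroup.subset_closure ⟨[2], by decide, by rw [wordP_cons, wordP_nil, mul_one]⟩)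

theorem range_hom : embK_emb.hom.range = Inst.subG PGU42p.P GU42pA.subs := by
  rw [MonoidHom.range_eq_map, ← subG_K_top, embK_emb.map_subG subsK (by decide), subsK_map]

/-- the subgroup is an image of `U42p` -/
theorem sub_card : Finite (Inst.subG PGU42p.P GU42pA.subs) ∧ Nat.card (Inst.subG PGU42p.P GU42pA.subs) ≤ 25920 := by
  obtain ⟨fK, _, cK⟩ := U42pMain.order_aux
  rw [← range_hom]
  have := fK
  refine ⟨Finite.of_surjective embK_emb.hom.rangeRestrict embK_emb.hom.rangeRestrict_surjective, ?_⟩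
  rw [← cK]
  exact Nat.card_le_card_of_surjective embK_emb.hom.rangeRestrict embK_emb.hom.rangeRestrict_surjective

abbrev Q : Type := PU42p.P.Grp × Multiplicative (ZMod 3)

/-- the images of the letters in the direct product -/
noncomputable def gQ (l : ℕ) : Q :=
  if l < 4 then (PU42p.P.gR l, 1) else if l = 4 then (1, Multiplicative.ofAdd 1) else if l = 5 then
    (1, Multiplicative.ofAdd 2) else 1

theorem gQ_lt (l : ℕ) (h : l < 4) : gQ l = (PU42p.P.gR l, 1) := by
  rw [gQ, if_pos h]

theorem gQ_fst (l : ℕ) (h : 4 ≤ l) : (gQ l).1 = 1 := by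
  rw [gQ, if_neg (by omega)]
  split_ifs <;> rfl

/-- the first component of a word -/
theorem wordP_fst (L : List ℕ) : (wordP gQ L).1 = wordP PU42p.P.gR (L.filter (· < 4)) := by
  induction L with
  | nil => rfl
  | cons x L ih =>
    rw [wordP_cons, Prod.fst_mul, ih]
    by_cases h : x < 4
    · rw [List.filter_cons_of_pos (by simpa using h), wordP_cons, gQ_lt x h]
    · rw [List.filter_cons_of_neg (by simpa using h), gQ_fst x (by omega), one_mul]

/-- the second component of a word: the number of letters `w` minus the number of letters `w⁻¹` -/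
def cnt (L : List ℕ) : ZMod 3 := (L.map fun l => if l = 4 then (1 : ZMod 3) else if l = 5 then 2 else 0).sum

theorem cnt_cons (x : ℕ) (L : List ℕ) :
    cnt (x :: L) = (if x = 4 then (1 : ZMod 3) else if x = 5 then 2 else 0) + cnt L := by
  simp [cnt]

theorem gQ_four : gQ 4 = (1, Multiplicative.ofAdd 1) := by simp [gQ]

theorem gQ_five : gQ 5 = (1, Multiplicative.ofAdd 2) := by simp [gQ]

theorem gQ_snd (x : ℕ) : (gQ x).2 = Multiplicative.ofAdd (if x = 4 then (1 : ZMod 3) else if x = 5 then 2 else 0) := by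
  by_cases h : x < 4
  · rw [gQ_lt x h, if_neg (by omega), if_neg (by omega)]
    rfl
  · by_cases h4 : x = 4
    · subst h4
      rw [gQ_four]
      rfl
    · by_cases h5 : x = 5
      · subst h5
        rw [gQ_five]
        rfl
      · rw [gQ, if_neg h, if_neg h4, if_neg h5, if_neg h4, if_neg h5]
        rfl

theorem wordP_snd (L : List ℕ) : (wordP gQ L).2 = Multiplicative.ofAdd (cnt L) := by
  induction L with
  | nil => rfl
  | cons x L ih =>
    rw [wordP_cons, Prod.snd_mul, ih, cnt_cons, ofAdd_add, gQ_snd]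

theorem rel_fst : ∀ L ∈ PGU42p.P.real, L.filter (· < 4) ∈ PU42p.P.real ∨ L.filter (· < 4) = [] ∨
    L.filter (· < 4) = [1, 0] ∨ L.filter (· < 4) = [3, 2] := by decide +kernel

theorem rel_snd : ∀ L ∈ PGU42p.P.real, cnt L = 0 := by decide +kernel

theorem exists_hom : ∃ φ : PGU42p.P.Grp →* Q, ∀ l, l < PGU42p.P.k → φ (PGU42p.P.gR l) = gQ l := by
  have i1 : PU42p.P.gR 1 = (PU42p.P.gR 0)⁻¹ := (PU42p.valid.invR_sound 0 (by decide)).2
  have i3 : PU42p.P.gR 3 = (PU42p.P.gR 2)⁻¹ := (PU42p.valid.invR_sound 2 (by decide)).2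
  apply exists_hom_of_letters PGU42p.P PGU42p.valid gQ
  · intro l hl
    have hl : l < 6 := hl
    interval_cases l
    · show gQ 0 * gQ 1 = 1
      rw [gQ_lt 0 (by norm_num), gQ_lt 1 (by norm_num), i1]
      simp
    · show gQ 1 * gQ 0 = 1
      rw [gQ_lt 0 (by norm_num), gQ_lt 1 (by norm_num), i1]
      simp
    · show gQ 2 * gQ 3 = 1
      rw [gQ_lt 2 (by norm_num), gQ_lt 3 (by norm_num), i3]
      simp
    · show gQ 3 * gQ 2 = 1
      rw [gQ_lt 2 (by norm_num), gQ_lt 3 (by norm_num), i3]
      simp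
    · show gQ 4 * gQ 5 = 1
      rw [gQ_four, gQ_five]
      apply Prod.ext
      · simp
      · show Multiplicative.ofAdd (1 : ZMod 3) * Multiplicative.ofAdd (2 : ZMod 3) = 1
        rw [← ofAdd_add]
        rfl
    · show gQ 5 * gQ 4 = 1
      rw [gQ_four, gQ_five]
      apply Prod.ext
      · simp
      · show Multiplicative.ofAdd (2 : ZMod 3) * Multiplicative.ofAdd (1 : ZMod 3) = 1
        rw [← ofAdd_add]
        rfl
  · intro L hL
    apply Prod.ext
    · rw [wordP_fst, Prod.fst_one]
      rcases rel_fst L hL with h | h | h | h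
      · exact (PU42p.valid.real_sound _ h).2
      · rw [h]; rfl
      · rw [h, wordP_cons, wordP_cons, wordP_nil, mul_one, i1, inv_mul_cancel]
      · rw [h, wordP_cons, wordP_cons, wordP_nil, mul_one, i3, inv_mul_cancel]
    · rw [wordP_snd, rel_snd L hL]
      rfl

/-- the homomorphism onto the direct product -/
noncomputable def φ : PGU42p.P.Grp →* Q := Classical.choose exists_hom

theorem φ_gR (l : ℕ) (hl : l < 6) : φ (PGU42p.P.gR l) = gQ l := Classical.choose_spec exists_hom l hl

theorem φ_surjective : Function.Surjective φ := by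
  rw [← MonoidHom.range_eq_top, eq_top_iff]
  rintro ⟨x, y⟩ -
  have hx : ((x, 1) : Q) ∈ φ.range := by
    have hx' : x ∈ Subgroup.closure (PU42p.P.gR '' Set.Iio PU42p.P.k) := by
      rw [PU42p.valid.gen_top]; trivial
    induction hx' using Subgroup.closure_induction with
    | mem s hs =>
      obtain ⟨l, hl, rfl⟩ := hs
      have hl : l < 4 := hl
      exact ⟨PGU42p.P.gR l, by rw [φ_gR l (by omega), gQ_lt l hl]⟩
    | one => exact one_mem _
    | mul a b _ _ iha ihb =>
      have := mul_mem iha ihb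
      simpa using this
    | inv a _ iha =>
      have := inv_mem iha
      simpa using this
  have hy : (((1 : PU42p.P.Grp), y) : Q) ∈ φ.range := by
    have h4 : (((1 : PU42p.P.Grp), Multiplicative.ofAdd (1 : ZMod 3)) : Q) ∈ φ.range :=
      ⟨PGU42p.P.gR 4, by rw [φ_gR 4 (by norm_num), gQ_four]⟩
    have hy' : y = (Multiplicative.ofAdd (1 : ZMod 3)) ^ (Multiplicative.toAdd y).val := by
      rw [← ofAdd_nsmul]
      simp
    rw [hy']
    have := pow_mem h4 (Multiplicative.toAdd y).val
    simpa using this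
  have := mul_mem hx hy
  simpa using this

/-- the order -/
theorem order_aux : Finite PGU42p.P.Grp ∧ True ∧ Nat.card PGU42p.P.Grp = 77760 := by
  obtain ⟨fs, cs⟩ := sub_card
  obtain ⟨fG, cG⟩ := GU42pA.inst.card_le _ fs cs
  have hub : Nat.card PGU42p.P.Grp ≤ 77760 := le_trans cG (by decide)
  obtain ⟨fK, _, cK⟩ := U42pMain.order_aux
  have := fG
  have := fK
  have hlb : Nat.card Q ≤ Nat.card PGU42p.P.Grp := Nat.card_le_card_of_surjective φ φ_surjective
  have hQ : Nat.card Q = 77760 := by
    rw [Nat.card_prod, cK, Nat.card_eq_fintype_card]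
    rfl
  exact ⟨fG, trivial, le_antisymm hub (by rw [← hQ]; exact hlb)⟩

end Cfsg.Agent.Lib.Helper4.GU42pMain
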