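import Cfsg.Agent.Lib.Helper4.TCD_U52pA_Acc
import Cfsg.Agent.Lib.Helper4.TC13

namespace Cfsg.Agent.Lib.Helper4.TCD.U52p11Q

open Cfsg.Agent.Lib.Helper4.TC Cfsg.Agent.Lib.Helper4.TCD.U52pA

set_option maxRecDepth 100000
set_option Elab.async false

def xw : List Nat := [2, 2, 6]

noncomputable def actX (i : Nat) : Nat := col3 (col3 (col7 (col3 (col3 (col7 (col3 (col3 (col7 (col3 (col3 (col7 (col3 (col3 (col7 (col3 (col3 (col7 (col3 (col3 (col7 (col3 (col3 (col7 (col3 (col3 (col7 (col3 (col3 (col7 (col3 (col3 (col7 (i)))))))))))))))))))))))))))))))))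
theorem actX_eq (i : Nat) : actX i = Tab.act T D (List.replicate 11 xw).flatten i := rfl
theorem c_xq_0 : allRange (fun i => Nat.beq (actX i) i) 0 176 = true := by decide +kernel
theorem h_xq_p0 : ∀ i, 0 ≤ i → i < 176 → Nat.beq (actX i) i = true :=
  (range_of_allRange c_xq_0)
theorem h_xq : ∀ i, i < T.N → Tab.relActOK T D (List.replicate 11 xw).flatten i = true := by
  intro i hi
  rw [Tab.relActOK, ← actX_eq]
  exact h_xq_p0 i (Nat.zero_le _) hi

end Cfsg.Agent.Lib.Helper4.TCD.U52p11Q
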