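import Mathlib

/-!
Faithfulness of a representation of a perfect central extension of a simple group: a homomorphism which is
injective on the central kernel and not trivial is injective.
-/

set_option autoImplicit false

namespace Cfsg.Agent.Lib.Helper4.Stem

open scoped commutatorElement

theorem injective_of_central_simple {G Q H : Type*} [Group G] [Group Q] [Group H] (π : G →* Q)
    (hπ : Function.Surjective π) (hc : π.ker ≤ Subgroup.center G) (hQ : IsSimpleGroup Q)
    (hperf : commutator G = ⊤) (φ : G →* H) (hφ : ∀ x ∈ π.ker, φ x = 1 → x = 1)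
    (hne : ∃ g, φ g ≠ 1) : Function.Injective φ := by
  have hN : (φ.ker.map π).Normal := Subgroup.Normal.map inferInstance π hπ
  rcases hN.eq_bot_or_eq_top with h | h
  · -- the kernel of `φ` lies in the kernel of `π`
    rw [injective_iff_map_eq_one]
    intro x hx
    apply hφ x _ hx
    have : π x ∈ φ.ker.map π := Subgroup.mem_map_of_mem π (by rw [MonoidHom.mem_ker]; exact hx)
    rw [h, Subgroup.mem_bot] at this
    exact this
  · -- `G` is the product of the kernels, so the commutator subgroup lies in the kernel of `φ`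
    exfalso
    obtain ⟨g, hg⟩ := hne
    apply hg
    have hdec : ∀ a : G, ∃ n ∈ φ.ker, n⁻¹ * a ∈ π.ker := by
      intro a
      have : π a ∈ φ.ker.map π := by rw [h]; trivial
      obtain ⟨n, hn, hna⟩ := this
      exact ⟨n, hn, by rw [MonoidHom.mem_ker, map_mul, map_inv, hna, inv_mul_cancel]⟩
    have hle : commutator G ≤ φ.ker := by
      rw [commutator_def, Subgroup.commutator_le]
      intro a _ b _
      obtain ⟨n, hn, hk⟩ := hdec a
      obtain ⟨m, hm, hl⟩ := hdec b
      have hk' := Subgroup.mem_center_iff.1 (hc hk)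
      have hl' := Subgroup.mem_center_iff.1 (hc hl)
      rw [MonoidHom.mem_ker] at hn hm ⊢
      have e1 : φ a = φ (n⁻¹ * a) := by rw [map_mul, map_inv, hn, inv_one, one_mul]
      have e2 : φ b = φ (m⁻¹ * b) := by rw [map_mul, map_inv, hm, inv_one, one_mul]
      rw [map_commutatorElement, e1, e2, commutatorElement_eq_one_iff_mul_comm, ← map_mul, ← map_mul,
        hk' (m⁻¹ * b)]
    have : g ∈ φ.ker := hle (by rw [hperf]; trivial)
    exact this

/-- a homomorphism that does not kill a generator `z` of prime order is injective on the powers of `z` -/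
theorem eq_one_of_mem_zpowers_prime {G H : Type*} [Group G] [Group H] (φ : G →* H) (z : G) (q : ℕ)
    (hq : q.Prime) (hz : z ^ q = 1) (hφz : φ z ≠ 1) : ∀ x ∈ Subgroup.zpowers z, φ x = 1 → x = 1 := by
  intro x hx h
  obtain ⟨k, rfl⟩ := Subgroup.mem_zpowers_iff.1 hx
  rw [map_zpow] at h
  have ho : orderOf (φ z) = q := by
    haveI := Fact.mk hq
    exact orderOf_eq_prime (by rw [← map_pow, hz, map_one]) hφz
  have hd : (q : ℤ) ∣ k := by
    rw [← ho]
    exact orderOf_dvd_iff_zpow_eq_one.2 h
  obtain ⟨m, rfl⟩ := hd
  rw [zpow_mul, zpow_natCast, hz, one_zpow]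

end Cfsg.Agent.Lib.Helper4.Stem
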