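import Mathlib
import Cfsg.Agent.Lib.Helper4.C4U62Main
import Cfsg.Agent.Lib.Helper4.AbelCert
import Cfsg.Agent.Lib.Helper4.AbelKer2
import Cfsg.Agent.Lib.Helper4.StemLib6
import Cfsg.Agent.Lib.Helper4.RelLib
import Cfsg.Agent.Lib.Helper4.CoverLib

/-!
The presented group `C4U62` is a perfect central extension of the presented group `U62p` whose kernel is
elementary abelian of order 4; it acts faithfully on 2688 points.
-/

set_option autoImplicit false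

namespace Cfsg.Agent.Lib.Helper4.C4U62Cover

open Cfsg Cfsg.Agent.Lib.Helper4.TC Cfsg.Agent.Lib.Helper4.TCD Cfsg.Agent.Lib.Helper4.TC.Log
  Cfsg.Agent.Lib.Helper4.Stem Cfsg.Agent.Lib.Helper4.AbelCert Cfsg.Agent.Lib.Helper4.AbelKer
  Cfsg.Agent.Lib.Helper4.C4U62Main

local notation "G" => PC4U62.P.Grp
local notation "gG" => PC4U62.P.gR

/-- the letters of `C4U62` as words of `U62p`: the central letters are killed -/
def Wl (l : ℕ) : List ℕ := [[0], [1], [2], [3], [4], [5], [6], [7], [8], [9], [], [], [], []].getD l []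

/-- the image of a relator is a relator of `U62p`, or empty, or a letter and its inverse -/
theorem rel_cases : ∀ L ∈ PC4U62.P.real, L.flatMap Wl ∈ PU62p.P.real ∨ L.flatMap Wl = [] ∨
    L.flatMap Wl ∈ (List.range 10).map (fun l => [PU62p.P.invR l, l]) := by decide +kernel

theorem exists_hom : ∃ π : G →* PU62p.P.Grp, ∀ l, l < PC4U62.P.k →
    π (gG l) = xw PU62p.P Wl l := by
  apply exists_hom_of_letters PC4U62.P PC4U62.valid (xw PU62p.P Wl)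
  · intro l hl
    have hl : l < 14 := hl
    have h1 : PU62p.P.gR 1 = (PU62p.P.gR 0)⁻¹ := (PU62p.valid.invR_sound 0 (by decide)).2
    have h3 : PU62p.P.gR 3 = (PU62p.P.gR 2)⁻¹ := (PU62p.valid.invR_sound 2 (by decide)).2
    have h5 : PU62p.P.gR 5 = (PU62p.P.gR 4)⁻¹ := (PU62p.valid.invR_sound 4 (by decide)).2
    have h7 : PU62p.P.gR 7 = (PU62p.P.gR 6)⁻¹ := (PU62p.valid.invR_sound 6 (by decide)).2
    have h9 : PU62p.P.gR 9 = (PU62p.P.gR 8)⁻¹ := (PU62p.valid.invR_sound 8 (by decide)).2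
    interval_cases l
    · show wordP PU62p.P.gR [0] * wordP PU62p.P.gR [1] = 1
      simp only [wordP_cons, wordP_nil, mul_one, h1, mul_inv_cancel]
    · show wordP PU62p.P.gR [1] * wordP PU62p.P.gR [0] = 1
      simp only [wordP_cons, wordP_nil, mul_one, h1, inv_mul_cancel]
    · show wordP PU62p.P.gR [2] * wordP PU62p.P.gR [3] = 1
      simp only [wordP_cons, wordP_nil, mul_one, h3, mul_inv_cancel]
    · show wordP PU62p.P.gR [3] * wordP PU62p.P.gR [2] = 1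
      simp only [wordP_cons, wordP_nil, mul_one, h3, inv_mul_cancel]
    · show wordP PU62p.P.gR [4] * wordP PU62p.P.gR [5] = 1
      simp only [wordP_cons, wordP_nil, mul_one, h5, mul_inv_cancel]
    · show wordP PU62p.P.gR [5] * wordP PU62p.P.gR [4] = 1
      simp only [wordP_cons, wordP_nil, mul_one, h5, inv_mul_cancel]
    · show wordP PU62p.P.gR [6] * wordP PU62p.P.gR [7] = 1
      simp only [wordP_cons, wordP_nil, mul_one, h7, mul_inv_cancel]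
    · show wordP PU62p.P.gR [7] * wordP PU62p.P.gR [6] = 1
      simp only [wordP_cons, wordP_nil, mul_one, h7, inv_mul_cancel]
    · show wordP PU62p.P.gR [8] * wordP PU62p.P.gR [9] = 1
      simp only [wordP_cons, wordP_nil, mul_one, h9, mul_inv_cancel]
    · show wordP PU62p.P.gR [9] * wordP PU62p.P.gR [8] = 1
      simp only [wordP_cons, wordP_nil, mul_one, h9, inv_mul_cancel]
    · show wordP PU62p.P.gR [] * wordP PU62p.P.gR [] = 1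
      simp only [wordP_nil, mul_one]
    · show wordP PU62p.P.gR [] * wordP PU62p.P.gR [] = 1
      simp only [wordP_nil, mul_one]
    · show wordP PU62p.P.gR [] * wordP PU62p.P.gR [] = 1
      simp only [wordP_nil, mul_one]
    · show wordP PU62p.P.gR [] * wordP PU62p.P.gR [] = 1
      simp only [wordP_nil, mul_one]
  · intro L hL
    rw [wordP_xw]
    rcases rel_cases L hL with h | h | h
    · exact (PU62p.valid.real_sound _ h).2
    · rw [h, wordP_nil]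
    · obtain ⟨l, hl, hl2⟩ := List.mem_map.1 h
      have hl : l < 10 := List.mem_range.1 hl
      rw [← hl2, wordP_cons, wordP_cons, wordP_nil, mul_one,
        (PU62p.valid.invR_sound l (by show l ≤ 10; omega)).2, inv_mul_cancel]

/-- the covering homomorphism -/
noncomputable def π : G →* PU62p.P.Grp := Classical.choose exists_hom

theorem π_gR (l : ℕ) (hl : l < 14) : π (gG l) = xw PU62p.P Wl l :=
  Classical.choose_spec exists_hom l hl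

theorem π_surjective : Function.Surjective π := by
  rw [← MonoidHom.range_eq_top, eq_top_iff, ← PU62p.valid.gen_top, Subgroup.closure_le]
  rintro _ ⟨l, hl, rfl⟩
  have hl : l < 10 := hl
  interval_cases l
  · exact ⟨gG 0, by rw [π_gR 0 (by decide)]; simp [xw, Wl, wordP_cons, wordP_nil]⟩
  · exact ⟨gG 1, by rw [π_gR 1 (by decide)]; simp [xw, Wl, wordP_cons, wordP_nil]⟩
  · exact ⟨gG 2, by rw [π_gR 2 (by decide)]; simp [xw, Wl, wordP_cons, wordP_nil]⟩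
  · exact ⟨gG 3, by rw [π_gR 3 (by decide)]; simp [xw, Wl, wordP_cons, wordP_nil]⟩
  · exact ⟨gG 4, by rw [π_gR 4 (by decide)]; simp [xw, Wl, wordP_cons, wordP_nil]⟩
  · exact ⟨gG 5, by rw [π_gR 5 (by decide)]; simp [xw, Wl, wordP_cons, wordP_nil]⟩
  · exact ⟨gG 6, by rw [π_gR 6 (by decide)]; simp [xw, Wl, wordP_cons, wordP_nil]⟩
  · exact ⟨gG 7, by rw [π_gR 7 (by decide)]; simp [xw, Wl, wordP_cons, wordP_nil]⟩
  · exact ⟨gG 8, by rw [π_gR 8 (by decide)]; simp [xw, Wl, wordP_cons, wordP_nil]⟩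
  · exact ⟨gG 9, by rw [π_gR 9 (by decide)]; simp [xw, Wl, wordP_cons, wordP_nil]⟩

theorem Z_le_ker : Z ≤ π.ker := by
  rw [Z, Subgroup.closure_le]
  rintro x hx
  rcases hx with rfl | rfl
  · show y ∈ π.ker
    rw [MonoidHom.mem_ker]
    show π (gG 10) = 1
    rw [π_gR 10 (by decide)]
    rfl
  · show z ∈ π.ker
    rw [MonoidHom.mem_ker]
    show π (gG 12) = 1
    rw [π_gR 12 (by decide)]
    rfl

/-- a word that moves a point of the permutation representation is not killed by it -/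
theorem phi_word_ne_one (u : List ℕ) (hu : ∀ x ∈ u, x < 14) (i : ℕ) (hi : i < 2688)
    (h : Tab.act C4U62R.T C4U62R.D u i ≠ i) : C4U62R.prep.phi (wordP gG u) ≠ 1 := by
  intro h1
  have h2 := C4U62R.prep.phi_word u hu ⟨i, hi⟩
  rw [h1] at h2
  exact h h2.symm

/-- the word `y^i z^j` -/
def zw (i j : ℕ) : List ℕ := List.replicate i 10 ++ List.replicate j 12

theorem zw_lt : ∀ i, i < 2 → ∀ j, j < 2 → ∀ x ∈ zw i j, x < 14 := by decide +kernel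

theorem zw_moves : ∀ i, i < 2 → ∀ j, j < 2 → ¬ (i = 0 ∧ j = 0) →
    Tab.act C4U62R.T C4U62R.D (zw i j) 0 ≠ 0 ∨ Tab.act C4U62R.T C4U62R.D (zw i j) 0 ≠ 0 := by decide +kernel

theorem wordP_replicate' (n x : ℕ) : wordP gG (List.replicate n x) = gG x ^ n := by
  induction n with
  | zero => simp [wordP_nil]
  | succ n ih => rw [List.replicate_succ, wordP_cons, ih, pow_succ']

theorem wordP_zw (i j : ℕ) : wordP gG (zw i j) = y ^ i * z ^ j := by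
  rw [zw, wordP_append, wordP_replicate', wordP_replicate']
  rfl

theorem phi_zw_ne_one (i j : ℕ) (hi : i < 2) (hj : j < 2) (hne : ¬ (i = 0 ∧ j = 0)) :
    C4U62R.prep.phi (y ^ i * z ^ j) ≠ 1 := by
  rw [← wordP_zw]
  rcases zw_moves i hi j hj hne with h | h
  · exact phi_word_ne_one _ (zw_lt i hi j hj) 0 (by decide) h
  · exact phi_word_ne_one _ (zw_lt i hi j hj) 0 (by decide) h

/-- the homomorphism from the elementary abelian group of order 4 onto the central subgroup -/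
noncomputable def F : Multiplicative (ZMod 2 × ZMod 2) →* G :=
  let _ : CommGroup (Subgroup.center G) :=
    { (inferInstance : Group (Subgroup.center G)) with
      mul_comm := fun a b => Subtype.ext (Subgroup.mem_center_iff.1 b.2 a.1) }
  (Subgroup.center G).subtype.comp
    (pairHom (⟨y, y_central⟩ : Subgroup.center G) ⟨z, z_central⟩ 2 2 (Subtype.ext y_sq) (Subtype.ext z_sq))

theorem F_apply (p : Multiplicative (ZMod 2 × ZMod 2)) :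
    F p = y ^ (Multiplicative.toAdd p).1.val * z ^ (Multiplicative.toAdd p).2.val := rfl

theorem phi_F_ne_one (p : Multiplicative (ZMod 2 × ZMod 2)) (hp : p ≠ 1) : C4U62R.prep.phi (F p) ≠ 1 := by
  rw [F_apply]
  have h1 := ZMod.val_lt (Multiplicative.toAdd p).1
  have h2 := ZMod.val_lt (Multiplicative.toAdd p).2
  apply phi_zw_ne_one _ _ h1 h2
  rintro ⟨e1, e2⟩
  apply hp
  have e1' : (Multiplicative.toAdd p).1 = 0 := (ZMod.val_eq_zero _).1 e1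
  have e2' : (Multiplicative.toAdd p).2 = 0 := (ZMod.val_eq_zero _).1 e2
  show Multiplicative.toAdd p = 0
  exact Prod.ext e1' e2'

theorem F_injective : Function.Injective F := by
  rw [injective_iff_map_eq_one]
  intro p hp
  by_contra hne
  exact phi_F_ne_one p hne (by rw [hp, map_one])

theorem F_range_le : F.range ≤ Z := by
  rintro _ ⟨p, rfl⟩
  rw [F_apply]
  have ma : y ∈ Z := Subgroup.subset_closure (by left; rfl)
  have mb : z ∈ Z := Subgroup.subset_closure (by right; rfl)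
  exact mul_mem (pow_mem ma _) (pow_mem mb _)

theorem card_F_range : Nat.card F.range = 4 := by
  rw [← Nat.card_congr (MonoidHom.ofInjective F_injective).toEquiv, Nat.card_eq_fintype_card,
    Fintype.card_multiplicative, Fintype.card_prod, ZMod.card]

theorem card_Z : Nat.card Z = 4 := by
  obtain ⟨fZ, cZ⟩ := card_Z_le
  have := fZ
  have h := Subgroup.card_le_of_le F_range_le
  rw [card_F_range] at h
  omega

theorem F_range_eq : F.range = Z := by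
  obtain ⟨fZ, _⟩ := card_Z_le
  have := fZ
  apply Subgroup.eq_of_le_of_card_ge F_range_le
  rw [card_F_range, card_Z]

/-- the order: `4` times the order of `U62p` -/
theorem order_card : Finite G ∧ Nat.card G = 36787322880 := by
  obtain ⟨fK, _, cK⟩ := U62pMain.order_aux
  obtain ⟨fZ, _⟩ := card_Z_le
  have fQ : Finite (G ⧸ Z) := Finite.of_surjective ψ ψ_surjective
  have cQ : Nat.card (G ⧸ Z) ≤ 9196830720 := by
    rw [← cK]
    exact Nat.card_le_card_of_surjective ψ ψ_surjective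
  have hmul : Nat.card G = Nat.card (G ⧸ Z) * Nat.card Z := Subgroup.card_eq_card_quotient_mul_card_subgroup Z
  have hQpos : 0 < Nat.card (G ⧸ Z) := Nat.card_pos
  have hZpos : 0 < Nat.card Z := Nat.card_pos
  have fG : Finite G := by
    apply Nat.finite_of_card_ne_zero
    rw [hmul]
    exact Nat.mul_ne_zero (by omega) (by omega)
  refine ⟨fG, ?_⟩
  have h := card_eq_of_stem π π_surjective
  rw [cK] at h
  have hle : Nat.card Z ≤ Nat.card π.ker := Subgroup.card_le_of_le Z_le_ker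
  rw [card_Z] at hle hmul
  have h1 : Nat.card G ≤ 9196830720 * 4 := by
    rw [hmul]
    exact Nat.mul_le_mul_right _ cQ
  have h2 : 9196830720 * 4 ≤ Nat.card G := by
    rw [h]
    exact Nat.mul_le_mul_left _ hle
  omega

theorem card_ker : Nat.card π.ker = 4 := by
  obtain ⟨fG, hcard⟩ := order_card
  obtain ⟨fG', _, hcard'⟩ := U62pMain.order_aux
  have h := card_eq_of_stem π π_surjective
  rw [hcard, hcard'] at h
  omega

/-- the kernel is the central subgroup generated by `y` and `z` -/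
theorem ker_eq : π.ker = Z := by
  obtain ⟨fG, _⟩ := order_card
  have := fG
  symm
  apply Subgroup.eq_of_le_of_card_ge Z_le_ker
  rw [card_ker, card_Z]

theorem cert0 : PC4U62.P.gR 0 ∈ commutator PC4U62.P.Grp := by
  apply mem_commutator_of_perm PC4U62.P PC4U62.valid 0
    [[1, 1], [1, 1], [1, 1], [1, 1], [1, 1], [1, 1], [1, 1], [1, 1], [1, 1], [1, 1], [1, 1], [1, 1], [1, 1], [1, 1], [1, 1], [1, 1], [3, 3, 3, 3, 3], [3, 3, 3, 3, 3], [3, 3, 3, 3, 3], [5, 5, 5], [6, 6], [6, 6], [6, 6], [7, 3, 1, 7, 5, 3, 1, 3, 1], [7, 3, 1, 7, 5, 3, 1, 3, 1], [7, 3, 1, 7, 5, 3, 1, 3, 1], [9, 9, 9], [9, 9, 9], [9, 9, 9], [9, 9, 9], [0, 2, 0, 2, 0, 2, 0, 8, 4, 8, 2, 0, 3, 0, 3, 0, 2, 2, 11], [0, 2, 0, 2, 0, 2, 0, 8, 4, 8, 2, 0, 3, 0, 3, 0, 2, 2, 11], [0, 2, 0, 2, 0, 2, 0, 8, 4, 8, 2, 0, 3, 0, 3, 0, 2, 2, 11], [0, 2, 0, 2, 0, 2, 0, 8, 4, 8, 2, 0, 3, 0, 3, 0, 2, 2, 11], [0, 2, 0, 2,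 0, 2, 0, 8, 4, 8, 2, 0, 3, 0, 3, 0, 2, 2, 11], [0, 2, 0, 2, 0, 2, 0, 8, 4, 8, 2, 0, 3, 0, 3, 0, 2, 2, 11], [10, 10], [10, 10], [10, 10]]
    (by decide +kernel) (by decide +kernel)
    [0, 0, 0, 0, 0, 0, 0, 0, 0, 0, 0, 0, 0, 0, 0, 0, 0, 0, 0, 0, 0, 0, 0, 0, 0, 0, 0, 0, 0, 0, 0, 0, 0, 0, 0, 0, 0, 0, 0, 0, 0, 2, 2, 2, 2, 2, 2, 2, 2, 2, 2, 2, 2, 2, 2, 2, 2, 2, 2, 2, 2, 2, 2, 2, 2, 2, 2, 2, 2, 2, 2, 2, 2, 2, 2, 2, 2, 4, 4, 4, 4, 4, 4, 6, 6, 6, 6, 6, 6, 8, 8, 8, 8, 8, 8, 8, 8, 8, 8, 8, 8, 10, 10, 10, 10, 10, 10]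
    (by decide +kernel) (by decide +kernel)

theorem cert2 : PC4U62.P.gR 2 ∈ commutator PC4U62.P.Grp := by
  apply mem_commutator_of_perm PC4U62.P PC4U62.valid 2
    [[0, 0], [0, 0], [2, 2, 2, 2, 2], [7, 7], [7, 7], [7, 7], [7, 7], [7, 7], [7, 7], [7, 7], [7, 7], [0, 2, 0, 2, 4, 6, 0, 2, 6], [0, 2, 0, 2, 4, 6, 0, 2, 6], [0, 2, 0, 2, 4, 6, 0, 2, 6], [0, 2, 0, 2, 4, 6, 0, 2, 6], [8, 8, 8], [8, 8, 8], [10, 3, 3, 1, 2, 1, 2, 1, 3, 9, 5, 9, 1, 3, 1, 3, 1, 3, 1], [10, 3, 3, 1, 2, 1, 2, 1, 3, 9, 5, 9, 1, 3, 1, 3, 1, 3, 1], [10, 3, 3, 1, 2, 1, 2, 1, 3, 9, 5, 9, 1, 3, 1, 3, 1, 3, 1], [10, 3, 3, 1, 2, 1, 2, 1, 3, 9, 5, 9, 1, 3, 1, 3, 1, 3, 1], [0, 2, 0, 2, 0, 2, 0, 3, 3, 0, 3, 4, 6, 2, 2, 6, 0, 3, 8, 6, 8, 5, 2, 6, 9, 3, 3, 13], [0, 2, 0, 2, 0, 2, 0, 3, 3, 0, 3, 4, 6, 2, 2, 6, 0, 3, 8, 6, 8, 5, 2, 6, 9, 3, 3, 13], [11, 11], [11, 11], [12, 12]]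
    (by decide +kernel) (by decide +kernel)
    [0, 0, 0, 0, 0, 0, 0, 0, 0, 0, 0, 0, 0, 0, 0, 0, 0, 0, 0, 0, 0, 0, 0, 0, 0, 0, 0, 0, 2, 2, 2, 2, 2, 2, 2, 2, 2, 2, 2, 2, 2, 2, 2, 2, 2, 2, 2, 2, 2, 2, 2, 2, 2, 2, 2, 2, 2, 2, 2, 2, 2, 2, 2, 2, 4, 4, 4, 4, 4, 4, 6, 6, 6, 6, 6, 6, 6, 6, 6, 6, 6, 6, 6, 6, 6, 6, 8, 8, 8, 8, 8, 8, 8, 8, 8, 8, 10, 10, 10, 10, 12, 12]
    (by decide +kernel) (by decide +kernel)

theorem cert4 : PC4U62.P.gR 4 ∈ commutator PC4U62.P.Grp := by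
  apply mem_commutator_of_perm PC4U62.P PC4U62.valid 4
    [[1, 1], [1, 1], [1, 1], [1, 1], [1, 1], [1, 1], [1, 1], [1, 1], [1, 1], [3, 3, 3, 3, 3], [3, 3, 3, 3, 3], [3, 3, 3, 3, 3], [3, 3, 3, 3, 3], [3, 3, 3, 3, 3], [3, 3, 3, 3, 3], [5, 5, 5], [5, 5, 5], [5, 5, 5], [7, 7], [7, 7], [7, 7], [7, 7], [7, 1, 7, 1, 7, 1], [7, 1, 7, 1, 7, 1], [7, 1, 7, 1, 7, 1], [7, 1, 7, 1, 7, 1], [0, 2, 0, 2, 4, 6, 0, 2, 6], [0, 2, 0, 2, 4, 6, 0, 2, 6], [0, 2, 0, 2, 4, 6, 0, 2, 6], [0, 2, 0, 2, 4, 6, 0, 2, 6], [0, 2, 0, 2, 4, 6, 0, 2, 6], [0, 2, 0, 2, 4, 6, 0, 2, 6], [0, 2, 0, 2, 4, 6, 0, 2, 6], [0, 2, 0, 2, 4, 6, 0, 2, 6], [0, 2, 0, 2, 4, 6, 0, 2, 6], [0, 2, 0, 2, 4, 6, 0, 2, 6]]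
    (by decide +kernel) (by decide +kernel)
    [0, 0, 0, 0, 0, 0, 0, 0, 0, 0, 0, 0, 0, 0, 0, 0, 0, 0, 0, 0, 0, 0, 0, 0, 0, 0, 0, 0, 0, 0, 2, 2, 2, 2, 2, 2, 2, 2, 2, 2, 2, 2, 2, 2, 2, 2, 2, 2, 2, 2, 2, 2, 2, 2, 2, 2, 2, 2, 2, 2, 4, 4, 4, 4, 4, 4, 4, 4, 4, 6, 6, 6, 6, 6, 6, 6, 6, 6, 6, 6, 6, 6, 6, 6, 6, 6, 6, 6, 6]
    (by decide +kernel) (by decide +kernel)

theorem cert6 : PC4U62.P.gR 6 ∈ commutator PC4U62.P.Grp := by
  apply mem_commutator_of_perm PC4U62.P PC4U62.valid 6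
    [[0, 0], [0, 0], [0, 0], [0, 0], [0, 0], [0, 0], [0, 0], [0, 0], [0, 0], [0, 0], [0, 0], [0, 0], [0, 0], [0, 0], [0, 0], [2, 2, 2, 2, 2], [2, 2, 2, 2, 2], [2, 2, 2, 2, 2], [4, 4, 4], [7, 7], [7, 7], [0, 2, 0, 2, 4, 6, 0, 2, 6], [0, 2, 0, 2, 4, 6, 0, 2, 6], [8, 8, 8], [8, 8, 8], [8, 8, 8], [8, 8, 8], [0, 2, 0, 2, 0, 2, 4, 6, 2, 0, 8, 2, 0, 3, 9, 0, 3], [10, 3, 3, 1, 2, 1, 2, 1, 3, 9, 5, 9, 1, 3, 1, 3, 1, 3, 1], [10, 3, 3, 1, 2, 1, 2, 1, 3, 9, 5, 9, 1, 3, 1, 3, 1, 3, 1], [10, 3, 3, 1, 2, 1, 2, 1, 3, 9, 5, 9, 1, 3, 1, 3, 1, 3, 1], [10, 3, 3, 1, 2, 1, 2, 1, 3, 9, 5, 9, 1, 3, 1, 3, 1, 3, 1], [10, 3, 3, 1, 2, 1, 2, 1, 3, 9, 5, 9, 1, 3, 1, 3, 1, 3, 1], [10, 3, 3, 1, 2, 1, 2, 1, 3, 9, 5, 9, 1, 3, 1, 3, 1, 3, 1], [11, 11], [11, 11], [11, 11]]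
    (by decide +kernel) (by decide +kernel)
    [0, 0, 0, 0, 0, 0, 0, 0, 0, 0, 0, 0, 0, 0, 0, 0, 0, 0, 0, 0, 0, 0, 0, 0, 0, 0, 0, 0, 0, 0, 0, 0, 0, 0, 0, 0, 0, 0, 0, 0, 0, 0, 2, 2, 2, 2, 2, 2, 2, 2, 2, 2, 2, 2, 2, 2, 2, 2, 2, 2, 2, 2, 2, 2, 2, 2, 2, 2, 2, 2, 2, 2, 2, 2, 2, 2, 2, 2, 2, 2, 4, 4, 4, 4, 4, 4, 6, 6, 6, 6, 8, 8, 8, 8, 8, 8, 8, 8, 8, 8, 8, 8, 8, 10, 10, 10, 10, 10, 10]
    (by decide +kernel) (by decide +kernel)

theorem cert8 : PC4U62.P.gR 8 ∈ commutator PC4U62.P.Grp := by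
  apply mem_commutator_of_perm PC4U62.P PC4U62.valid 8
    [[0, 0], [0, 0], [0, 0], [6, 6], [0, 6, 0, 6, 0, 6], [0, 6, 0, 6, 0, 6], [8, 8, 8], [12, 2, 2, 8, 7, 3, 4, 9, 7, 9, 2, 1, 7, 3, 3, 7, 5, 2, 1, 2, 2, 1, 3, 1, 3, 1, 3, 1], [12, 2, 2, 8, 7, 3, 4, 9, 7, 9, 2, 1, 7, 3, 3, 7, 5, 2, 1, 2, 2, 1, 3, 1, 3, 1, 3, 1], [13, 13]]
    (by decide +kernel) (by decide +kernel)
    [0, 0, 0, 0, 0, 0, 0, 0, 0, 0, 0, 0, 2, 2, 2, 2, 2, 2, 2, 2, 2, 2, 2, 2, 4, 4, 6, 6, 6, 6, 6, 6, 6, 6, 8, 8, 8, 8, 12, 12]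
    (by decide +kernel) (by decide +kernel)

theorem cert10 : PC4U62.P.gR 10 ∈ commutator PC4U62.P.Grp := by
  apply mem_commutator_of_perm PC4U62.P PC4U62.valid 10
    [[1, 1], [1, 1], [1, 1], [3, 3, 3, 3, 3], [3, 3, 3, 3, 3], [3, 3, 3, 3, 3], [5, 5, 5], [5, 5, 5], [7, 7], [7, 7], [7, 7], [7, 7], [7, 7], [7, 7], [7, 7], [7, 7], [7, 7], [0, 2, 0, 2, 4, 6, 0, 2, 6], [0, 2, 0, 2, 4, 6, 0, 2, 6], [0, 2, 0, 2, 4, 6, 0, 2, 6], [0, 2, 0, 2, 4, 6, 0, 2, 6], [0, 2, 0, 2, 4, 6, 0, 2, 6], [0, 2, 0, 2, 4, 6, 0, 2, 6], [0, 2, 0, 2, 4, 6, 0, 2, 6], [0, 2, 0, 2, 4, 6, 0, 2, 6], [0, 2, 0, 2, 4, 6, 0, 2, 6], [8, 8, 8], [8, 8, 8], [10, 3, 3, 1, 2, 1, 2, 1, 3, 9, 5, 9, 1, 3, 1, 3, 1, 3, 1], [10, 3, 3, 1, 2, 1, 2, 1, 3, 9, 5, 9, 1, 3, 1, 3, 1, 3, 1], [10, 3, 3, 1, 2, 1, 2, 1, 3, 9, 5, 9, 1, 3, 1, 3, 1, 3, 1], [11, 11]]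
    (by decide +kernel) (by decide +kernel)
    [0, 0, 0, 0, 0, 0, 0, 0, 0, 0, 0, 0, 0, 0, 0, 0, 0, 0, 0, 0, 0, 0, 0, 0, 0, 0, 0, 2, 2, 2, 2, 2, 2, 2, 2, 2, 2, 2, 2, 2, 2, 2, 2, 2, 2, 2, 2, 2, 2, 2, 2, 2, 2, 2, 2, 2, 2, 2, 2, 2, 4, 4, 4, 4, 4, 4, 4, 4, 4, 6, 6, 6, 6, 6, 6, 6, 6, 6, 6, 6, 6, 6, 6, 6, 6, 6, 6, 8, 8, 8, 8, 8, 8, 10, 10]
    (by decide +kernel) (by decide +kernel)

theorem cert12 : PC4U62.P.gR 12 ∈ commutator PC4U62.P.Grp := by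
  apply mem_commutator_of_perm PC4U62.P PC4U62.valid 12
    [[0, 0], [0, 0], [0, 0], [0, 6, 0, 6, 0, 6], [0, 6, 0, 6, 0, 6], [0, 6, 0, 6, 0, 6], [0, 6, 0, 6, 0, 6], [8, 8, 8], [12, 2, 2, 8, 7, 3, 4, 9, 7, 9, 2, 1, 7, 3, 3, 7, 5, 2, 1, 2, 2, 1, 3, 1, 3, 1, 3, 1], [12, 2, 2, 8, 7, 3, 4, 9, 7, 9, 2, 1, 7, 3, 3, 7, 5, 2, 1, 2, 2, 1, 3, 1, 3, 1, 3, 1], [12, 2, 2, 8, 7, 3, 4, 9, 7, 9, 2, 1, 7, 3, 3, 7, 5, 2, 1, 2, 2, 1, 3, 1, 3, 1, 3, 1], [13, 13]]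
    (by decide +kernel) (by decide +kernel)
    [0, 0, 0, 0, 0, 0, 0, 0, 0, 0, 0, 0, 0, 0, 0, 0, 0, 0, 2, 2, 2, 2, 2, 2, 2, 2, 2, 2, 2, 2, 2, 2, 2, 2, 2, 2, 4, 4, 4, 6, 6, 6, 6, 6, 6, 6, 6, 6, 6, 6, 6, 8, 8, 8, 8, 8, 8, 12, 12]
    (by decide +kernel) (by decide +kernel)

/-- the generators are products of commutators -/
theorem gR_mem_commutator (l : ℕ) (hl : l < 14) : gG l ∈ commutator G := by
  interval_cases l
  · exact cert0
  · rw [show (1 : ℕ) = PC4U62.P.invR 0 from rfl, hinv 0 (by decide)]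
    exact Subgroup.inv_mem _ cert0
  · exact cert2
  · rw [show (3 : ℕ) = PC4U62.P.invR 2 from rfl, hinv 2 (by decide)]
    exact Subgroup.inv_mem _ cert2
  · exact cert4
  · rw [show (5 : ℕ) = PC4U62.P.invR 4 from rfl, hinv 4 (by decide)]
    exact Subgroup.inv_mem _ cert4
  · exact cert6
  · rw [show (7 : ℕ) = PC4U62.P.invR 6 from rfl, hinv 6 (by decide)]
    exact Subgroup.inv_mem _ cert6
  · exact cert8
  · rw [show (9 : ℕ) = PC4U62.P.invR 8 from rfl, hinv 8 (by decide)]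
    exact Subgroup.inv_mem _ cert8
  · exact cert10
  · rw [show (11 : ℕ) = PC4U62.P.invR 10 from rfl, hinv 10 (by decide)]
    exact Subgroup.inv_mem _ cert10
  · exact cert12
  · rw [show (13 : ℕ) = PC4U62.P.invR 12 from rfl, hinv 12 (by decide)]
    exact Subgroup.inv_mem _ cert12

theorem perfect : commutator G = ⊤ :=
  commutator_eq_top_of_letters PC4U62.P PC4U62.valid gR_mem_commutator

/-- the covering homomorphism is a stem extension -/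
theorem isStem : IsStemExtension π := by
  refine ⟨π_surjective, ?_, ?_⟩
  · rw [ker_eq]
    exact Z_le_center
  · rw [perfect]
    exact le_top

/-- the kernel is the product of two cyclic groups of order 2 -/
theorem ker_equiv : Nonempty (π.ker ≃* Multiplicative (ZMod 2 × ZMod 2)) := by
  have heq : F.range = π.ker := by rw [ker_eq, F_range_eq]
  exact ⟨((MonoidHom.ofInjective F_injective).trans (MulEquiv.subgroupCongr heq)).symm⟩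

/-- the permutation representation on 2688 points is faithful: the group is a perfect central extension of a
simple group and the centre acts faithfully -/
theorem phi_injective : Function.Injective C4U62R.prep.phi := by
  apply injective_of_central_simple π π_surjective (by rw [ker_eq]; exact Z_le_center) U62pMain.simple_aux perfect
  · intro x hx hφ
    rw [ker_eq, ← F_range_eq] at hx
    obtain ⟨p, rfl⟩ := hx
    by_contra hne
    apply phi_F_ne_one p _ hφ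
    intro hp
    apply hne
    rw [hp, map_one]
  · exact ⟨F (Multiplicative.ofAdd (1, 0)), phi_F_ne_one _ (by decide)⟩

/-- the order and the faithful permutation representation -/
theorem order_aux : Finite G ∧ Function.Injective C4U62R.prep.phi ∧ Nat.card G = 36787322880 :=
  ⟨order_card.1, phi_injective, order_card.2⟩

end Cfsg.Agent.Lib.Helper4.C4U62Cover
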