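import Mathlib
import Cfsg.Prelude.Def_KGroupFacts
import Cfsg.Agent.Lib.Helper4.StemLib2

/-!
Stem extensions, part 10: a perfect group `E` with a central subgroup `N` of order prime to `p` has no stem
extension with kernel of order `p` if `E ⧸ N` has none.
-/

set_option autoImplicit false

namespace Cfsg.Agent.Lib.Helper4.Stem

open Cfsg
open scoped commutatorElement

universe u

/-- stem extensions of perfect groups are perfect -/
theorem perfect_of_stem {Γ E : Type*} [Group Γ] [Group E] (σ : Γ →* E) (hσ : IsStemExtension σ)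
    (hE : commutator E = ⊤) : commutator Γ = ⊤ := by
  obtain ⟨hs, -, hd⟩ := hσ
  rw [eq_top_iff]
  intro g _
  have h1 : (commutator Γ).map σ = commutator E := by
    rw [commutator_def, Subgroup.map_commutator, commutator_def, ← MonoidHom.range_eq_map,
      MonoidHom.range_eq_top.2 hs]
  have h2 : σ g ∈ (commutator Γ).map σ := by rw [h1, hE]; trivial
  obtain ⟨d, hd', hdg⟩ := h2
  have h3 : d⁻¹ * g ∈ σ.ker := by rw [MonoidHom.mem_ker, map_mul, map_inv, hdg, inv_mul_cancel]
  have h4 : d⁻¹ * g ∈ commutator Γ := hd h3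
  have : g = d * (d⁻¹ * g) := by group
  rw [this]
  exact mul_mem hd' h4

/-- in a perfect group an element all of whose commutators are central is central -/
theorem central_of_comm_central {Γ : Type*} [Group Γ] (hΓ : commutator Γ = ⊤) (b : Γ)
    (h : ∀ g, ⁅b, g⁆ ∈ Subgroup.center Γ) : b ∈ Subgroup.center Γ := by
  let φ : Γ →* Subgroup.center Γ :=
    { toFun := fun g => ⟨⁅b, g⁆, h g⟩
      map_one' := by
        apply Subtype.ext
        show ⁅b, (1 : Γ)⁆ = 1
        simp [commutatorElement_def]
      map_mul' := fun x y => by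
        apply Subtype.ext
        show ⁅b, x * y⁆ = ⁅b, x⁆ * ⁅b, y⁆
        have hy : x * (b * y * b⁻¹ * y⁻¹) = (b * y * b⁻¹ * y⁻¹) * x := by
          have := Subgroup.mem_center_iff.1 (h y) x
          rwa [commutatorElement_def] at this
        rw [commutatorElement_def, commutatorElement_def, commutatorElement_def]
        calc b * (x * y) * b⁻¹ * (x * y)⁻¹ = (b * x * b⁻¹ * x⁻¹) * (x * (b * y * b⁻¹ * y⁻¹)) * x⁻¹ := by group
          _ = (b * x * b⁻¹ * x⁻¹) * ((b * y * b⁻¹ * y⁻¹) * x) * x⁻¹ := by rw [hy]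
          _ = (b * x * b⁻¹ * x⁻¹) * (b * y * b⁻¹ * y⁻¹) := by group }
  have hker : commutator Γ ≤ φ.ker := by
    rw [commutator_def, Subgroup.commutator_le]
    intro g1 _ g2 _
    rw [MonoidHom.mem_ker, map_commutatorElement, commutatorElement_eq_one_iff_mul_comm]
    apply Subtype.ext
    exact (Subgroup.mem_center_iff.1 (φ g2).2 (φ g1).1)
  rw [Subgroup.mem_center_iff]
  intro g
  have hg : g ∈ φ.ker := hker (by rw [hΓ]; trivial)
  rw [MonoidHom.mem_ker] at hg
  have h1 : ⁅b, g⁆ = 1 := congrArg Subtype.val hg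
  rw [commutatorElement_eq_one_iff_mul_comm] at h1
  exact h1.symm

/-- transfer along a central quotient of order prime to `p` -/
theorem noStemPrime_of_central_quotient (E Q : Type u) [Group E] [Finite E] [Group Q] (f : E →* Q)
    (hf : Function.Surjective f) (hc : f.ker ≤ Subgroup.center E) (hperf : commutator E = ⊤) (p : ℕ)
    (hp : p.Prime) (hcop : Nat.Coprime (Nat.card f.ker) p) (hQ : NoStemPrime Q p) : NoStemPrime E p := by
  intro Γ _ _ σ hσ hcard
  have hΓ : commutator Γ = ⊤ := perfect_of_stem σ hσ hperf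
  have : Finite Q := Finite.of_surjective f hf
  let τ : Γ →* Q := f.comp σ
  have hτs : Function.Surjective τ := hf.comp hσ.1
  have hBc : τ.ker ≤ Subgroup.center Γ := by
    intro b hb
    apply central_of_comm_central hΓ b
    intro g
    apply hσ.2.1
    rw [MonoidHom.mem_ker, map_commutatorElement]
    have hb' : σ b ∈ Subgroup.center E := hc (by rw [MonoidHom.mem_ker]; exact hb)
    rw [commutatorElement_eq_one_iff_mul_comm]
    exact (Subgroup.mem_center_iff.1 hb' (σ g)).symm
  have hτ : IsStemExtension τ := ⟨hτs, hBc, by rw [hΓ]; exact le_top⟩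
  have hcB : Nat.card τ.ker = Nat.card f.ker * p := by
    have h1 := card_eq_of_stem σ hσ.1
    have h2 := card_eq_of_stem f hf
    have h3 := card_eq_of_stem τ hτs
    rw [hcard, h2] at h1
    rw [h1, mul_assoc] at h3
    have hQpos : 0 < Nat.card Q := Nat.card_pos
    exact (Nat.eq_of_mul_eq_mul_left hQpos h3).symm
  have hle : σ.ker ≤ τ.ker := by
    intro x hx
    rw [MonoidHom.mem_ker] at hx ⊢
    show f (σ x) = 1
    rw [hx, map_one]
  let _ : CommGroup τ.ker :=
    { (inferInstance : Group τ.ker) with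
      mul_comm := fun a b => Subtype.ext (Subgroup.mem_center_iff.1 (hBc b.2) a.1) }
  let K : Subgroup τ.ker := σ.ker.subgroupOf τ.ker
  have hKcard : Nat.card K = p := by
    rw [← hcard]
    exact Nat.card_congr (Subgroup.subgroupOfEquivOfLe hle).toEquiv
  have hKidx : K.index = Nat.card f.ker := by
    have h := K.card_mul_index
    rw [hKcard, hcB, mul_comm] at h
    exact Nat.eq_of_mul_eq_mul_right hp.pos h
  have hKcop : Nat.Coprime (Nat.card K) K.index := by
    rw [hKcard, hKidx]
    exact hcop.symm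
  obtain ⟨H, hH⟩ := Subgroup.exists_left_complement'_of_coprime hKcop
  have hHcard : Nat.card H = Nat.card f.ker := by
    have h := hH.card_mul_card
    rw [hKcard, hcB] at h
    exact Nat.eq_of_mul_eq_mul_right hp.pos h
  let H' : Subgroup Γ := H.map τ.ker.subtype
  have hH'le : H' ≤ τ.ker := by
    rintro _ ⟨x, _, rfl⟩
    exact x.2
  have hH'card : Nat.card H' = Nat.card f.ker := by
    rw [← hHcard]
    exact (Nat.card_congr (Subgroup.equivMapOfInjective H τ.ker.subtype τ.ker.subtype_injective).toEquiv).symm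
  have : H'.Normal := normal_of_le_center H' (le_trans hH'le hBc)
  have hst := isStem_quotient τ hτ H' hH'le
  apply hQ (Γ ⧸ H') (QuotientGroup.lift H' τ hH'le) hst
  have h1 := card_eq_of_stem (QuotientGroup.lift H' τ hH'le) hst.1
  have h2 := card_eq_of_stem τ hτs
  have h3 := Subgroup.card_eq_card_quotient_mul_card_subgroup H'
  rw [h3, h1, hcB, hH'card, mul_assoc] at h2
  have hQpos : 0 < Nat.card Q := Nat.card_pos
  have h4 := Nat.eq_of_mul_eq_mul_left hQpos h2
  have hfpos : 0 < Nat.card f.ker := Nat.card_pos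
  rw [mul_comm (Nat.card f.ker) p] at h4
  exact Nat.eq_of_mul_eq_mul_right hfpos h4

end Cfsg.Agent.Lib.Helper4.Stem
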