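import Mathlib
import Cfsg.Prelude.Def_KGroupFacts
import Cfsg.Agent.Lib.Helper4.StemLib10

/-!
The fibre product of two perfect central extensions of a group with kernels of coprime orders: it is a perfect
central extension whose kernel is the product of the two kernels, and it has no stem extension with kernel of
order `p` as soon as the factor whose kernel has order divisible by `p` has none.
-/

set_option autoImplicit false

namespace Cfsg.Agent.Lib.Helper4.Stem

open Cfsg
open scoped commutatorElement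

universe u v

section

variable {G : Type u} [Group G] {E1 E2 : Type} [Group E1] [Group E2]

/-- the fibre product of two homomorphisms -/
def fib (π1 : E1 →* G) (π2 : E2 →* G) : Subgroup (E1 × E2) :=
  (π1.comp (MonoidHom.fst E1 E2)).eqLocus (π2.comp (MonoidHom.snd E1 E2))

variable (π1 : E1 →* G) (π2 : E2 →* G)

theorem mem_fib (x : E1 × E2) : x ∈ fib π1 π2 ↔ π1 x.1 = π2 x.2 := Iff.rfl

/-- the first projection -/
def fibFst : fib π1 π2 →* E1 := (MonoidHom.fst E1 E2).comp (fib π1 π2).subtype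

/-- the second projection -/
def fibSnd : fib π1 π2 →* E2 := (MonoidHom.snd E1 E2).comp (fib π1 π2).subtype

/-- the map to the base -/
def fibHom : fib π1 π2 →* G := π1.comp (fibFst π1 π2)

theorem fibFst_apply (x : fib π1 π2) : fibFst π1 π2 x = x.1.1 := rfl
theorem fibSnd_apply (x : fib π1 π2) : fibSnd π1 π2 x = x.1.2 := rfl
theorem fibHom_apply (x : fib π1 π2) : fibHom π1 π2 x = π1 x.1.1 := rfl
theorem fibHom_apply' (x : fib π1 π2) : fibHom π1 π2 x = π2 x.1.2 := x.2

theorem fibFst_surjective (h2 : Function.Surjective π2) : Function.Surjective (fibFst π1 π2) := by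
  intro a
  obtain ⟨b, hb⟩ := h2 (π1 a)
  exact ⟨⟨(a, b), hb.symm⟩, rfl⟩

theorem fibSnd_surjective (h1 : Function.Surjective π1) : Function.Surjective (fibSnd π1 π2) := by
  intro b
  obtain ⟨a, ha⟩ := h1 (π2 b)
  exact ⟨⟨(a, b), ha⟩, rfl⟩

theorem fibHom_surjective (h1 : Function.Surjective π1) (h2 : Function.Surjective π2) :
    Function.Surjective (fibHom π1 π2) :=
  h1.comp (fibFst_surjective π1 π2 h2)

/-- the kernel of the first projection is the kernel of the second homomorphism -/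
def kerFstEquiv : (fibFst π1 π2).ker ≃ π2.ker where
  toFun x := ⟨x.1.1.2, by
    have h1 : x.1.1.1 = 1 := x.2
    have h2 : π1 x.1.1.1 = π2 x.1.1.2 := x.1.2
    rw [MonoidHom.mem_ker, ← h2, h1, map_one]⟩
  invFun y := ⟨⟨(1, y.1), by
    show π1 1 = π2 y.1
    rw [map_one, (MonoidHom.mem_ker).1 y.2]⟩, rfl⟩
  left_inv x := by
    apply Subtype.ext
    apply Subtype.ext
    have h1 : x.1.1.1 = 1 := x.2
    exact Prod.ext h1.symm rfl
  right_inv y := rfl

/-- the kernel of the second projection is the kernel of the first homomorphism -/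
def kerSndEquiv : (fibSnd π1 π2).ker ≃ π1.ker where
  toFun x := ⟨x.1.1.1, by
    have h1 : x.1.1.2 = 1 := x.2
    have h2 : π1 x.1.1.1 = π2 x.1.1.2 := x.1.2
    rw [MonoidHom.mem_ker, h2, h1, map_one]⟩
  invFun y := ⟨⟨(y.1, 1), by
    show π1 y.1 = π2 1
    rw [map_one, (MonoidHom.mem_ker).1 y.2]⟩, rfl⟩
  left_inv x := by
    apply Subtype.ext
    apply Subtype.ext
    have h1 : x.1.1.2 = 1 := x.2
    exact Prod.ext rfl h1.symm
  right_inv y := rfl

theorem ker_fibFst_le_center (h2 : π2.ker ≤ Subgroup.center E2) :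
    (fibFst π1 π2).ker ≤ Subgroup.center (fib π1 π2) := by
  intro x hx
  have h1 : x.1.1 = 1 := hx
  have hx2 : x.1.2 ∈ π2.ker := by
    have h := x.2
    rw [mem_fib, h1, map_one] at h
    rw [MonoidHom.mem_ker, ← h]
  rw [Subgroup.mem_center_iff]
  intro g
  apply Subtype.ext
  apply Prod.ext
  · show g.1.1 * x.1.1 = x.1.1 * g.1.1
    rw [h1, mul_one, one_mul]
  · exact Subgroup.mem_center_iff.1 (h2 hx2) g.1.2

theorem ker_fibSnd_le_center (h1 : π1.ker ≤ Subgroup.center E1) :
    (fibSnd π1 π2).ker ≤ Subgroup.center (fib π1 π2) := by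
  intro x hx
  have h2 : x.1.2 = 1 := hx
  have hx1 : x.1.1 ∈ π1.ker := by
    have h := x.2
    rw [mem_fib, h2, map_one] at h
    rw [MonoidHom.mem_ker, h]
  rw [Subgroup.mem_center_iff]
  intro g
  apply Subtype.ext
  apply Prod.ext
  · exact Subgroup.mem_center_iff.1 (h1 hx1) g.1.1
  · show g.1.2 * x.1.2 = x.1.2 * g.1.2
    rw [h2, mul_one, one_mul]

/-- the kernel of the map to the base is the product of the kernels -/
def kerHomEquiv : (fibHom π1 π2).ker ≃* π1.ker × π2.ker where
  toFun x := (⟨x.1.1.1, x.2⟩, ⟨x.1.1.2, by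
    have h : fibHom π1 π2 x.1 = 1 := x.2
    rw [fibHom_apply'] at h
    exact h⟩)
  invFun y := ⟨⟨(y.1.1, y.2.1), by
    show π1 y.1.1 = π2 y.2.1
    rw [(MonoidHom.mem_ker).1 y.1.2, (MonoidHom.mem_ker).1 y.2.2]⟩, y.1.2⟩
  left_inv x := rfl
  right_inv y := rfl
  map_mul' x y := rfl

theorem ker_fibHom_le_center (h1 : π1.ker ≤ Subgroup.center E1) (h2 : π2.ker ≤ Subgroup.center E2) :
    (fibHom π1 π2).ker ≤ Subgroup.center (fib π1 π2) := by
  intro x hx
  have hx1 : x.1.1 ∈ π1.ker := hx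
  have hx2 : x.1.2 ∈ π2.ker := by
    have h : fibHom π1 π2 x = 1 := hx
    rw [fibHom_apply'] at h
    exact h
  rw [Subgroup.mem_center_iff]
  intro g
  apply Subtype.ext
  apply Prod.ext
  · exact Subgroup.mem_center_iff.1 (h1 hx1) g.1.1
  · exact Subgroup.mem_center_iff.1 (h2 hx2) g.1.2

/-- the fibre product of perfect groups over kernels of coprime orders is perfect -/
theorem fib_perfect (h1 : Function.Surjective π1) (h2 : Function.Surjective π2)
    (hp1 : commutator E1 = ⊤) (hp2 : commutator E2 = ⊤) (n1 n2 : ℕ) (hn : Nat.Coprime n1 n2)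
    (hk1 : ∀ x ∈ π1.ker, x ^ n1 = 1) (hk2 : ∀ x ∈ π2.ker, x ^ n2 = 1) :
    commutator (fib π1 π2) = ⊤ := by
  rw [eq_top_iff]
  intro e _
  -- the images of the commutator subgroup under the projections
  have hm1 : (commutator (fib π1 π2)).map (fibFst π1 π2) = ⊤ := by
    rw [commutator_def, Subgroup.map_commutator, ← MonoidHom.range_eq_map,
      MonoidHom.range_eq_top.2 (fibFst_surjective π1 π2 h2), ← commutator_def, hp1]
  have hm2 : (commutator (fib π1 π2)).map (fibSnd π1 π2) = ⊤ := by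
    rw [commutator_def, Subgroup.map_commutator, ← MonoidHom.range_eq_map,
      MonoidHom.range_eq_top.2 (fibSnd_surjective π1 π2 h1), ← commutator_def, hp2]
  have he1 : fibFst π1 π2 e ∈ (commutator (fib π1 π2)).map (fibFst π1 π2) := by rw [hm1]; trivial
  have he2 : fibSnd π1 π2 e ∈ (commutator (fib π1 π2)).map (fibSnd π1 π2) := by rw [hm2]; trivial
  obtain ⟨d1, hd1, hd1e⟩ := he1
  obtain ⟨d2, hd2, hd2e⟩ := he2
  -- `d1⁻¹ e` lies over the kernel of `π2`, `d2⁻¹ e` over the kernel of `π1`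
  have hq1 : (d1⁻¹ * e) ^ n2 = 1 := by
    have hf : (d1⁻¹ * e).1.1 = 1 := by
      show (d1⁻¹ * e).1.1 = 1
      have : fibFst π1 π2 (d1⁻¹ * e) = 1 := by rw [map_mul, map_inv, hd1e, inv_mul_cancel]
      exact this
    have hs : (d1⁻¹ * e).1.2 ∈ π2.ker := by
      have h := (d1⁻¹ * e).2
      rw [mem_fib, hf, map_one] at h
      rw [MonoidHom.mem_ker, ← h]
    apply Subtype.ext
    apply Prod.ext
    · show ((d1⁻¹ * e).1.1) ^ n2 = 1
      rw [hf, one_pow]
    · show ((d1⁻¹ * e).1.2) ^ n2 = 1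
      exact hk2 _ hs
  have hq2 : (d2⁻¹ * e) ^ n1 = 1 := by
    have hf : (d2⁻¹ * e).1.2 = 1 := by
      have : fibSnd π1 π2 (d2⁻¹ * e) = 1 := by rw [map_mul, map_inv, hd2e, inv_mul_cancel]
      exact this
    have hs : (d2⁻¹ * e).1.1 ∈ π1.ker := by
      have h := (d2⁻¹ * e).2
      rw [mem_fib, hf, map_one] at h
      rw [MonoidHom.mem_ker, h]
    apply Subtype.ext
    apply Prod.ext
    · show ((d2⁻¹ * e).1.1) ^ n1 = 1
      exact hk1 _ hs
    · show ((d2⁻¹ * e).1.2) ^ n1 = 1
      rw [hf, one_pow]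
  -- in the abelianisation the class of `e` has order dividing `n1` and `n2`
  let q : fib π1 π2 →* Abelianization (fib π1 π2) := Abelianization.of
  have hqd : ∀ d ∈ commutator (fib π1 π2), q d = 1 := by
    intro d hd
    exact (QuotientGroup.eq_one_iff d).2 hd
  have e1 : q e ^ n2 = 1 := by
    have : q (d1⁻¹ * e) = q e := by rw [map_mul, map_inv, hqd d1 hd1, inv_one, one_mul]
    rw [← this, ← map_pow, hq1, map_one]
  have e2 : q e ^ n1 = 1 := by
    have : q (d2⁻¹ * e) = q e := by rw [map_mul, map_inv, hqd d2 hd2, inv_one, one_mul]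
    rw [← this, ← map_pow, hq2, map_one]
  have e3 : q e ^ (Nat.gcd n1 n2) = 1 := pow_gcd_eq_one.2 ⟨e2, e1⟩
  rw [hn, pow_one] at e3
  exact (QuotientGroup.eq_one_iff e).1 e3

end

/-- The Schur multiplier from two stem extensions with kernels of coprime orders: for every prime `p` one of
them has kernel of order prime to `p` and the other has no stem extension with kernel of order `p`. -/
theorem hasSchurMultiplier_of_fib {G : Type u} [Group G] [Finite G] {A : Type v} [CommGroup A]
    (E1 E2 : Type) [Group E1] [Finite E1] [Group E2] [Finite E2] (π1 : E1 →* G) (π2 : E2 →* G)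
    (h1 : IsStemExtension π1) (h2 : IsStemExtension π2) (hp1 : commutator E1 = ⊤) (hp2 : commutator E2 = ⊤)
    (hcop : Nat.Coprime (Nat.card π1.ker) (Nat.card π2.ker))
    (e : π1.ker × π2.ker ≃* A)
    (hE : ∀ p, p.Prime → (Nat.Coprime (Nat.card π2.ker) p ∧ NoStemPrime E1 p) ∨
      (Nat.Coprime (Nat.card π1.ker) p ∧ NoStemPrime E2 p)) : HasSchurMultiplier G A := by
  have hperf : commutator (fib π1 π2) = ⊤ := by
    apply fib_perfect π1 π2 h1.1 h2.1 hp1 hp2 (Nat.card π1.ker) (Nat.card π2.ker) hcop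
    · intro x hx
      have := pow_card_eq_one' (G := π1.ker) (x := ⟨x, hx⟩)
      exact congrArg Subtype.val this
    · intro x hx
      have := pow_card_eq_one' (G := π2.ker) (x := ⟨x, hx⟩)
      exact congrArg Subtype.val this
  have hst : IsStemExtension (fibHom π1 π2) :=
    ⟨fibHom_surjective π1 π2 h1.1 h2.1, ker_fibHom_le_center π1 π2 h1.2.1 h2.2.1, by rw [hperf]; exact le_top⟩
  apply hasSchurMultiplier_of_cover (fib π1 π2) (fibHom π1 π2) hst ((kerHomEquiv π1 π2).trans e)
  intro p hp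
  rcases hE p hp with ⟨hc, hns⟩ | ⟨hc, hns⟩
  · apply noStemPrime_of_central_quotient (fib π1 π2) E1 (fibFst π1 π2) (fibFst_surjective π1 π2 h2.1)
      (ker_fibFst_le_center π1 π2 h2.2.1) hperf p hp _ hns
    rw [Nat.card_congr (kerFstEquiv π1 π2)]
    exact hc
  · apply noStemPrime_of_central_quotient (fib π1 π2) E2 (fibSnd π1 π2) (fibSnd_surjective π1 π2 h1.1)
      (ker_fibSnd_le_center π1 π2 h1.2.1) hperf p hp _ hns
    rw [Nat.card_congr (kerSndEquiv π1 π2)]
    exact hc

end Cfsg.Agent.Lib.Helper4.Stem
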