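import Cfsg.Agent.Lib.Helper4.TCD_SU52pp2A_Acc

namespace Cfsg.Agent.Lib.Helper4.TCD.SU52pp2A

open Cfsg.Agent.Lib.Helper4.TC

set_option maxRecDepth 100000
set_option Elab.async false

theorem c_rel_49 : allRange D.relOK 465451 3681 = true := by decide +kernel
theorem c_rel_50 : allRange D.relOK 469132 3483 = true := by decide +kernel
theorem c_rel_51 : allRange D.relOK 472615 3614 = true := by decide +kernel
theorem c_rel_52 : allRange D.relOK 476229 3696 = true := by decide +kernel
theorem c_rel_53 : allRange D.relOK 479925 3616 = true := by decide +kernel
theorem c_rel_54 : allRange D.relOK 483541 3442 = true := by decide +kernel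
theorem c_rel_55 : allRange D.relOK 486983 3580 = true := by decide +kernel
theorem c_rel_56 : allRange D.relOK 490563 3646 = true := by decide +kernel
theorem c_rel_57 : allRange D.relOK 494209 3548 = true := by decide +kernel
theorem c_rel_58 : allRange D.relOK 497757 3515 = true := by decide +kernel
theorem c_rel_59 : allRange D.relOK 501272 3505 = true := by decide +kernel
theorem c_rel_60 : allRange D.relOK 504777 3433 = true := by decide +kernel
theorem c_rel_61 : allRange D.relOK 508210 3264 = true := by decide +kernel
theorem c_rel_62 : allRange D.relOK 511474 3322 = true := by decide +kernel
theorem c_rel_63 : allRange D.relOK 514796 3602 = true := by decide +kernel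
theorem c_rel_64 : allRange D.relOK 518398 3466 = true := by decide +kernel
theorem c_rel_65 : allRange D.relOK 521864 3573 = true := by decide +kernel
theorem c_rel_66 : allRange D.relOK 525437 3432 = true := by decide +kernel
theorem c_rel_67 : allRange D.relOK 528869 3459 = true := by decide +kernel
theorem c_rel_68 : allRange D.relOK 532328 3480 = true := by decide +kernel
theorem c_rel_69 : allRange D.relOK 535808 3564 = true := by decide +kernel
theorem c_rel_70 : allRange D.relOK 539372 3527 = true := by decide +kernel
theorem c_rel_71 : allRange D.relOK 542899 3525 = true := by decide +kernel
theorem c_rel_72 : allRange D.relOK 546424 3485 = true := by decide +kernel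
theorem c_rel_73 : allRange D.relOK 549909 3381 = true := by decide +kernel
theorem c_rel_74 : allRange D.relOK 553290 3523 = true := by decide +kernel
theorem c_rel_75 : allRange D.relOK 556813 3573 = true := by decide +kernel
theorem c_rel_76 : allRange D.relOK 560386 3555 = true := by decide +kernel
theorem c_rel_77 : allRange D.relOK 563941 3604 = true := by decide +kernel
theorem c_rel_78 : allRange D.relOK 567545 3527 = true := by decide +kernel
theorem c_rel_79 : allRange D.relOK 571072 3364 = true := by decide +kernel
theorem c_rel_80 : allRange D.relOK 574436 3497 = true := by decide +kernel
theorem c_rel_81 : allRange D.relOK 577933 3513 = true := by decide +kernel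
theorem c_rel_82 : allRange D.relOK 581446 3558 = true := by decide +kernel
theorem c_rel_83 : allRange D.relOK 585004 3566 = true := by decide +kernel
theorem c_rel_84 : allRange D.relOK 588570 3569 = true := by decide +kernel
theorem c_rel_85 : allRange D.relOK 592139 3421 = true := by decide +kernel
theorem c_rel_86 : allRange D.relOK 595560 3447 = true := by decide +kernel
theorem c_rel_87 : allRange D.relOK 599007 3507 = true := by decide +kernel
theorem c_rel_88 : allRange D.relOK 602514 3545 = true := by decide +kernel
theorem c_rel_89 : allRange D.relOK 606059 3542 = true := by decide +kernel
theorem c_rel_90 : allRange D.relOK 609601 3576 = true := by decide +kernel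
theorem c_rel_91 : allRange D.relOK 613177 3427 = true := by decide +kernel
theorem c_rel_92 : allRange D.relOK 616604 3433 = true := by decide +kernel
theorem c_rel_93 : allRange D.relOK 620037 3492 = true := by decide +kernel
theorem c_rel_94 : allRange D.relOK 623529 3560 = true := by decide +kernel
theorem c_rel_95 : allRange D.relOK 627089 3557 = true := by decide +kernel
theorem c_rel_96 : allRange D.relOK 630646 3535 = true := by decide +kernel
theorem c_rel_97 : allRange D.relOK 634181 3369 = true := by decide +kernel
theorem c_rel_98 : allRange D.relOK 637550 3439 = true := by decide +kernel
theorem c_rel_99 : allRange D.relOK 640989 3555 = true := by decide +kernel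
theorem c_rel_100 : allRange D.relOK 644544 3501 = true := by decide +kernel
theorem c_rel_101 : allRange D.relOK 648045 3512 = true := by decide +kernel
theorem c_rel_102 : allRange D.relOK 651557 3334 = true := by decide +kernel
theorem c_rel_103 : allRange D.relOK 654891 3439 = true := by decide +kernel
theorem c_rel_104 : allRange D.relOK 658330 3539 = true := by decide +kernel
theorem c_rel_105 : allRange D.relOK 661869 3554 = true := by decide +kernel
theorem c_rel_106 : allRange D.relOK 665423 3565 = true := by decide +kernel
theorem c_rel_107 : allRange D.relOK 668988 3400 = true := by decide +kernel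
theorem c_rel_108 : allRange D.relOK 672388 3466 = true := by decide +kernel
theorem c_rel_109 : allRange D.relOK 675854 3505 = true := by decide +kernel
theorem c_rel_110 : allRange D.relOK 679359 3552 = true := by decide +kernel
theorem c_rel_111 : allRange D.relOK 682911 3406 = true := by decide +kernel
theorem c_rel_112 : allRange D.relOK 686317 3369 = true := by decide +kernel
theorem c_rel_113 : allRange D.relOK 689686 3403 = true := by decide +kernel
theorem c_rel_114 : allRange D.relOK 693089 3531 = true := by decide +kernel
theorem c_rel_115 : allRange D.relOK 696620 3524 = true := by decide +kernel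
theorem c_rel_116 : allRange D.relOK 700144 3508 = true := by decide +kernel
theorem c_rel_117 : allRange D.relOK 703652 3384 = true := by decide +kernel
theorem c_rel_118 : allRange D.relOK 707036 3391 = true := by decide +kernel
theorem c_rel_119 : allRange D.relOK 710427 3494 = true := by decide +kernel
theorem c_rel_120 : allRange D.relOK 713921 3496 = true := by decide +kernel
theorem c_rel_121 : allRange D.relOK 717417 3534 = true := by decide +kernel
theorem c_rel_122 : allRange D.relOK 720951 3459 = true := by decide +kernel
theorem c_rel_123 : allRange D.relOK 724410 3407 = true := by decide +kernel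
theorem c_rel_124 : allRange D.relOK 727817 3516 = true := by decide +kernel
theorem c_rel_125 : allRange D.relOK 731333 3461 = true := by decide +kernel
theorem c_rel_126 : allRange D.relOK 734794 3455 = true := by decide +kernel
theorem c_rel_127 : allRange D.relOK 738249 3493 = true := by decide +kernel
theorem c_rel_128 : allRange D.relOK 741742 3550 = true := by decide +kernel
theorem c_rel_129 : allRange D.relOK 745292 3607 = true := by decide +kernel
theorem c_rel_130 : allRange D.relOK 748899 3565 = true := by decide +kernel
theorem c_rel_131 : allRange D.relOK 752464 3522 = true := by decide +kernel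
theorem c_rel_132 : allRange D.relOK 755986 3307 = true := by decide +kernel
theorem c_rel_133 : allRange D.relOK 759293 3249 = true := by decide +kernel
theorem c_rel_134 : allRange D.relOK 762542 3434 = true := by decide +kernel
theorem c_rel_135 : allRange D.relOK 765976 3451 = true := by decide +kernel
theorem c_rel_136 : allRange D.relOK 769427 3419 = true := by decide +kernel
theorem c_rel_137 : allRange D.relOK 772846 3304 = true := by decide +kernel
theorem c_rel_138 : allRange D.relOK 776150 3458 = true := by decide +kernel
theorem c_rel_139 : allRange D.relOK 779608 3508 = true := by decide +kernel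
theorem c_rel_140 : allRange D.relOK 783116 3428 = true := by decide +kernel
theorem c_rel_141 : allRange D.relOK 786544 3451 = true := by decide +kernel
theorem c_rel_142 : allRange D.relOK 789995 3494 = true := by decide +kernel
theorem c_rel_143 : allRange D.relOK 793489 3405 = true := by decide +kernel
theorem c_rel_144 : allRange D.relOK 796894 3366 = true := by decide +kernel
theorem c_rel_145 : allRange D.relOK 800260 3437 = true := by decide +kernel
theorem c_rel_146 : allRange D.relOK 803697 3414 = true := by decide +kernel
theorem c_rel_147 : allRange D.relOK 807111 3351 = true := by decide +kernel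

end Cfsg.Agent.Lib.Helper4.TCD.SU52pp2A
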