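import Cfsg.Agent.Lib.Helper4.TCD_SU52pp2A_Acc

namespace Cfsg.Agent.Lib.Helper4.TCD.SU52pp2A

open Cfsg.Agent.Lib.Helper4.TC

set_option maxRecDepth 100000
set_option Elab.async false

theorem c_act81_1 : allRange (fun i => Nat.beq (actR81 i) i) 15000 15000 = true := by decide +kernel
theorem c_act81_2 : allRange (fun i => Nat.beq (actR81 i) i) 30000 3792 = true := by decide +kernel
theorem c_act82_0 : allRange (fun i => Nat.beq (actR82 i) i) 0 15000 = true := by decide +kernel
theorem c_act82_1 : allRange (fun i => Nat.beq (actR82 i) i) 15000 15000 = true := by decide +kernel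
theorem c_act82_2 : allRange (fun i => Nat.beq (actR82 i) i) 30000 3792 = true := by decide +kernel
theorem c_act83_0 : allRange (fun i => Nat.beq (actR83 i) i) 0 15000 = true := by decide +kernel
theorem c_act83_1 : allRange (fun i => Nat.beq (actR83 i) i) 15000 15000 = true := by decide +kernel
theorem c_act83_2 : allRange (fun i => Nat.beq (actR83 i) i) 30000 3792 = true := by decide +kernel
theorem c_act84_0 : allRange (fun i => Nat.beq (actR84 i) i) 0 15000 = true := by decide +kernel
theorem c_act84_1 : allRange (fun i => Nat.beq (actR84 i) i) 15000 15000 = true := by decide +kernel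
theorem c_act84_2 : allRange (fun i => Nat.beq (actR84 i) i) 30000 3792 = true := by decide +kernel
theorem c_act85_0 : allRange (fun i => Nat.beq (actR85 i) i) 0 15000 = true := by decide +kernel
theorem c_act85_1 : allRange (fun i => Nat.beq (actR85 i) i) 15000 15000 = true := by decide +kernel
theorem c_act85_2 : allRange (fun i => Nat.beq (actR85 i) i) 30000 3792 = true := by decide +kernel
theorem c_act86_0 : allRange (fun i => Nat.beq (actR86 i) i) 0 15000 = true := by decide +kernel
theorem c_act86_1 : allRange (fun i => Nat.beq (actR86 i) i) 15000 15000 = true := by decide +kernel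
theorem c_act86_2 : allRange (fun i => Nat.beq (actR86 i) i) 30000 3792 = true := by decide +kernel
theorem c_act87_0 : allRange (fun i => Nat.beq (actR87 i) i) 0 15000 = true := by decide +kernel
theorem c_act87_1 : allRange (fun i => Nat.beq (actR87 i) i) 15000 15000 = true := by decide +kernel
theorem c_act87_2 : allRange (fun i => Nat.beq (actR87 i) i) 30000 3792 = true := by decide +kernel
theorem c_act88_0 : allRange (fun i => Nat.beq (actR88 i) i) 0 15000 = true := by decide +kernel
theorem c_act88_1 : allRange (fun i => Nat.beq (actR88 i) i) 15000 15000 = true := by decide +kernel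
theorem c_act88_2 : allRange (fun i => Nat.beq (actR88 i) i) 30000 3792 = true := by decide +kernel
theorem c_act89_0 : allRange (fun i => Nat.beq (actR89 i) i) 0 15000 = true := by decide +kernel
theorem c_act89_1 : allRange (fun i => Nat.beq (actR89 i) i) 15000 15000 = true := by decide +kernel
theorem c_act89_2 : allRange (fun i => Nat.beq (actR89 i) i) 30000 3792 = true := by decide +kernel
theorem c_act90_0 : allRange (fun i => Nat.beq (actR90 i) i) 0 15000 = true := by decide +kernel
theorem c_act90_1 : allRange (fun i => Nat.beq (actR90 i) i) 15000 15000 = true := by decide +kernel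
theorem c_act90_2 : allRange (fun i => Nat.beq (actR90 i) i) 30000 3792 = true := by decide +kernel
theorem c_act91_0 : allRange (fun i => Nat.beq (actR91 i) i) 0 15000 = true := by decide +kernel
theorem c_act91_1 : allRange (fun i => Nat.beq (actR91 i) i) 15000 15000 = true := by decide +kernel
theorem c_act91_2 : allRange (fun i => Nat.beq (actR91 i) i) 30000 3792 = true := by decide +kernel
theorem c_act92_0 : allRange (fun i => Nat.beq (actR92 i) i) 0 15000 = true := by decide +kernel
theorem c_act92_1 : allRange (fun i => Nat.beq (actR92 i) i) 15000 15000 = true := by decide +kernel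
theorem c_act92_2 : allRange (fun i => Nat.beq (actR92 i) i) 30000 3792 = true := by decide +kernel
theorem c_act93_0 : allRange (fun i => Nat.beq (actR93 i) i) 0 15000 = true := by decide +kernel
theorem c_act93_1 : allRange (fun i => Nat.beq (actR93 i) i) 15000 15000 = true := by decide +kernel
theorem c_act93_2 : allRange (fun i => Nat.beq (actR93 i) i) 30000 3792 = true := by decide +kernel
theorem c_act94_0 : allRange (fun i => Nat.beq (actR94 i) i) 0 15000 = true := by decide +kernel
theorem c_act94_1 : allRange (fun i => Nat.beq (actR94 i) i) 15000 15000 = true := by decide +kernel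
theorem c_act94_2 : allRange (fun i => Nat.beq (actR94 i) i) 30000 3792 = true := by decide +kernel
theorem c_act95_0 : allRange (fun i => Nat.beq (actR95 i) i) 0 15000 = true := by decide +kernel
theorem c_act95_1 : allRange (fun i => Nat.beq (actR95 i) i) 15000 15000 = true := by decide +kernel
theorem c_act95_2 : allRange (fun i => Nat.beq (actR95 i) i) 30000 3792 = true := by decide +kernel
theorem c_act96_0 : allRange (fun i => Nat.beq (actR96 i) i) 0 15000 = true := by decide +kernel
theorem c_act96_1 : allRange (fun i => Nat.beq (actR96 i) i) 15000 15000 = true := by decide +kernel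
theorem c_act96_2 : allRange (fun i => Nat.beq (actR96 i) i) 30000 3792 = true := by decide +kernel
theorem c_act97_0 : allRange (fun i => Nat.beq (actR97 i) i) 0 15000 = true := by decide +kernel
theorem c_act97_1 : allRange (fun i => Nat.beq (actR97 i) i) 15000 15000 = true := by decide +kernel
theorem c_act97_2 : allRange (fun i => Nat.beq (actR97 i) i) 30000 3792 = true := by decide +kernel
theorem c_act98_0 : allRange (fun i => Nat.beq (actR98 i) i) 0 20000 = true := by decide +kernel
theorem c_act98_1 : allRange (fun i => Nat.beq (actR98 i) i) 20000 13792 = true := by decide +kernel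
theorem c_act99_0 : allRange (fun i => Nat.beq (actR99 i) i) 0 12000 = true := by decide +kernel
theorem c_act99_1 : allRange (fun i => Nat.beq (actR99 i) i) 12000 12000 = true := by decide +kernel
theorem c_act99_2 : allRange (fun i => Nat.beq (actR99 i) i) 24000 9792 = true := by decide +kernel
theorem c_act100_0 : allRange (fun i => Nat.beq (actR100 i) i) 0 7500 = true := by decide +kernel
theorem c_act100_1 : allRange (fun i => Nat.beq (actR100 i) i) 7500 7500 = true := by decide +kernel
theorem c_act100_2 : allRange (fun i => Nat.beq (actR100 i) i) 15000 7500 = true := by decide +kernel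
theorem c_act100_3 : allRange (fun i => Nat.beq (actR100 i) i) 22500 7500 = true := by decide +kernel
theorem c_act100_4 : allRange (fun i => Nat.beq (actR100 i) i) 30000 3792 = true := by decide +kernel
theorem c_act101_0 : allRange (fun i => Nat.beq (actR101 i) i) 0 6000 = true := by decide +kernel
theorem c_act101_1 : allRange (fun i => Nat.beq (actR101 i) i) 6000 6000 = true := by decide +kernel
theorem c_act101_2 : allRange (fun i => Nat.beq (actR101 i) i) 12000 6000 = true := by decide +kernel

end Cfsg.Agent.Lib.Helper4.TCD.SU52pp2A
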