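import Cfsg.Agent.Lib.Helper4.TCD_SU52pp2A_Acc

namespace Cfsg.Agent.Lib.Helper4.TCD.SU52pp2A

open Cfsg.Agent.Lib.Helper4.TC

set_option maxRecDepth 100000
set_option Elab.async false

theorem c_act101_3 : allRange (fun i => Nat.beq (actR101 i) i) 18000 6000 = true := by decide +kernel
theorem c_act101_4 : allRange (fun i => Nat.beq (actR101 i) i) 24000 6000 = true := by decide +kernel
theorem c_act101_5 : allRange (fun i => Nat.beq (actR101 i) i) 30000 3792 = true := by decide +kernel
theorem c_act102_0 : allRange (fun i => Nat.beq (actR102 i) i) 0 6000 = true := by decide +kernel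
theorem c_act102_1 : allRange (fun i => Nat.beq (actR102 i) i) 6000 6000 = true := by decide +kernel
theorem c_act102_2 : allRange (fun i => Nat.beq (actR102 i) i) 12000 6000 = true := by decide +kernel
theorem c_act102_3 : allRange (fun i => Nat.beq (actR102 i) i) 18000 6000 = true := by decide +kernel
theorem c_act102_4 : allRange (fun i => Nat.beq (actR102 i) i) 24000 6000 = true := by decide +kernel
theorem c_act102_5 : allRange (fun i => Nat.beq (actR102 i) i) 30000 3792 = true := by decide +kernel

end Cfsg.Agent.Lib.Helper4.TCD.SU52pp2A
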