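import Cfsg.Agent.Lib.Helper4.TCD_SU52pp2A_Acc

namespace Cfsg.Agent.Lib.Helper4.TCD.SU52pp2A

open Cfsg.Agent.Lib.Helper4.TC

set_option maxRecDepth 100000
set_option Elab.async false

theorem c_rel_148 : allRange D.relOK 810462 3496 = true := by decide +kernel
theorem c_rel_149 : allRange D.relOK 813958 3511 = true := by decide +kernel
theorem c_rel_150 : allRange D.relOK 817469 3550 = true := by decide +kernel
theorem c_rel_151 : allRange D.relOK 821019 3502 = true := by decide +kernel
theorem c_rel_152 : allRange D.relOK 824521 3335 = true := by decide +kernel
theorem c_rel_153 : allRange D.relOK 827856 3525 = true := by decide +kernel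
theorem c_rel_154 : allRange D.relOK 831381 3486 = true := by decide +kernel
theorem c_rel_155 : allRange D.relOK 834867 3428 = true := by decide +kernel
theorem c_rel_156 : allRange D.relOK 838295 3495 = true := by decide +kernel
theorem c_rel_157 : allRange D.relOK 841790 3390 = true := by decide +kernel
theorem c_rel_158 : allRange D.relOK 845180 3385 = true := by decide +kernel
theorem c_rel_159 : allRange D.relOK 848565 3446 = true := by decide +kernel
theorem c_rel_160 : allRange D.relOK 852011 3512 = true := by decide +kernel
theorem c_rel_161 : allRange D.relOK 855523 3445 = true := by decide +kernel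
theorem c_rel_162 : allRange D.relOK 858968 3386 = true := by decide +kernel
theorem c_rel_163 : allRange D.relOK 862354 3376 = true := by decide +kernel
theorem c_rel_164 : allRange D.relOK 865730 3381 = true := by decide +kernel
theorem c_rel_165 : allRange D.relOK 869111 3405 = true := by decide +kernel
theorem c_rel_166 : allRange D.relOK 872516 3244 = true := by decide +kernel
theorem c_rel_167 : allRange D.relOK 875760 3325 = true := by decide +kernel
theorem c_rel_168 : allRange D.relOK 879085 3438 = true := by decide +kernel
theorem c_rel_169 : allRange D.relOK 882523 3455 = true := by decide +kernel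
theorem c_rel_170 : allRange D.relOK 885978 3328 = true := by decide +kernel
theorem c_rel_171 : allRange D.relOK 889306 3512 = true := by decide +kernel
theorem c_rel_172 : allRange D.relOK 892818 3456 = true := by decide +kernel
theorem c_rel_173 : allRange D.relOK 896274 3395 = true := by decide +kernel
theorem c_rel_174 : allRange D.relOK 899669 3565 = true := by decide +kernel
theorem c_rel_175 : allRange D.relOK 903234 3513 = true := by decide +kernel
theorem c_rel_176 : allRange D.relOK 906747 3347 = true := by decide +kernel
theorem c_rel_177 : allRange D.relOK 910094 3478 = true := by decide +kernel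
theorem c_rel_178 : allRange D.relOK 913572 3466 = true := by decide +kernel
theorem c_rel_179 : allRange D.relOK 917038 3439 = true := by decide +kernel
theorem c_rel_180 : allRange D.relOK 920477 3433 = true := by decide +kernel
theorem c_rel_181 : allRange D.relOK 923910 3539 = true := by decide +kernel
theorem c_rel_182 : allRange D.relOK 927449 3404 = true := by decide +kernel
theorem c_rel_183 : allRange D.relOK 930853 3400 = true := by decide +kernel
theorem c_rel_184 : allRange D.relOK 934253 3430 = true := by decide +kernel
theorem c_rel_185 : allRange D.relOK 937683 3377 = true := by decide +kernel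
theorem c_rel_186 : allRange D.relOK 941060 3503 = true := by decide +kernel
theorem c_rel_187 : allRange D.relOK 944563 3537 = true := by decide +kernel
theorem c_rel_188 : allRange D.relOK 948100 3483 = true := by decide +kernel
theorem c_rel_189 : allRange D.relOK 951583 3409 = true := by decide +kernel
theorem c_rel_190 : allRange D.relOK 954992 3506 = true := by decide +kernel
theorem c_rel_191 : allRange D.relOK 958498 3483 = true := by decide +kernel
theorem c_rel_192 : allRange D.relOK 961981 3373 = true := by decide +kernel
theorem c_rel_193 : allRange D.relOK 965354 3418 = true := by decide +kernel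
theorem c_rel_194 : allRange D.relOK 968772 3296 = true := by decide +kernel
theorem c_rel_195 : allRange D.relOK 972068 3345 = true := by decide +kernel
theorem c_rel_196 : allRange D.relOK 975413 3418 = true := by decide +kernel
theorem c_rel_197 : allRange D.relOK 978831 3278 = true := by decide +kernel
theorem c_rel_198 : allRange D.relOK 982109 3378 = true := by decide +kernel
theorem c_rel_199 : allRange D.relOK 985487 3531 = true := by decide +kernel
theorem c_rel_200 : allRange D.relOK 989018 3528 = true := by decide +kernel
theorem c_rel_201 : allRange D.relOK 992546 3618 = true := by decide +kernel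
theorem c_rel_202 : allRange D.relOK 996164 3703 = true := by decide +kernel
theorem c_rel_203 : allRange D.relOK 999867 3656 = true := by decide +kernel
theorem c_rel_204 : allRange D.relOK 1003523 3346 = true := by decide +kernel
theorem c_rel_205 : allRange D.relOK 1006869 3420 = true := by decide +kernel
theorem c_rel_206 : allRange D.relOK 1010289 3545 = true := by decide +kernel
theorem c_rel_207 : allRange D.relOK 1013834 3614 = true := by decide +kernel
theorem c_rel_208 : allRange D.relOK 1017448 3696 = true := by decide +kernel
theorem c_rel_209 : allRange D.relOK 1021144 3531 = true := by decide +kernel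
theorem c_rel_210 : allRange D.relOK 1024675 3254 = true := by decide +kernel
theorem c_rel_211 : allRange D.relOK 1027929 3467 = true := by decide +kernel
theorem c_rel_212 : allRange D.relOK 1031396 3407 = true := by decide +kernel
theorem c_rel_213 : allRange D.relOK 1034803 3387 = true := by decide +kernel
theorem c_rel_214 : allRange D.relOK 1038190 3525 = true := by decide +kernel
theorem c_rel_215 : allRange D.relOK 1041715 3420 = true := by decide +kernel
theorem c_rel_216 : allRange D.relOK 1045135 3348 = true := by decide +kernel
theorem c_rel_217 : allRange D.relOK 1048483 3474 = true := by decide +kernel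
theorem c_rel_218 : allRange D.relOK 1051957 3446 = true := by decide +kernel
theorem c_rel_219 : allRange D.relOK 1055403 3551 = true := by decide +kernel
theorem c_rel_220 : allRange D.relOK 1058954 3548 = true := by decide +kernel
theorem c_rel_221 : allRange D.relOK 1062502 3669 = true := by decide +kernel
theorem c_rel_222 : allRange D.relOK 1066171 3461 = true := by decide +kernel
theorem c_rel_223 : allRange D.relOK 1069632 3269 = true := by decide +kernel
theorem c_rel_224 : allRange D.relOK 1072901 3309 = true := by decide +kernel
theorem c_rel_225 : allRange D.relOK 1076210 3372 = true := by decide +kernel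
theorem c_rel_226 : allRange D.relOK 1079582 3190 = true := by decide +kernel
theorem c_rel_227 : allRange D.relOK 1082772 3384 = true := by decide +kernel
theorem c_rel_228 : allRange D.relOK 1086156 3464 = true := by decide +kernel
theorem c_rel_229 : allRange D.relOK 1089620 3240 = true := by decide +kernel
theorem c_rel_230 : allRange D.relOK 1092860 3399 = true := by decide +kernel
theorem c_rel_231 : allRange D.relOK 1096259 3367 = true := by decide +kernel
theorem c_rel_232 : allRange D.relOK 1099626 3488 = true := by decide +kernel
theorem c_rel_233 : allRange D.relOK 1103114 3361 = true := by decide +kernel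
theorem c_rel_234 : allRange D.relOK 1106475 3329 = true := by decide +kernel
theorem c_rel_235 : allRange D.relOK 1109804 3371 = true := by decide +kernel
theorem c_rel_236 : allRange D.relOK 1113175 3267 = true := by decide +kernel
theorem c_rel_237 : allRange D.relOK 1116442 3389 = true := by decide +kernel
theorem c_rel_238 : allRange D.relOK 1119831 3370 = true := by decide +kernel
theorem c_rel_239 : allRange D.relOK 1123201 3448 = true := by decide +kernel
theorem c_rel_240 : allRange D.relOK 1126649 3410 = true := by decide +kernel
theorem c_rel_241 : allRange D.relOK 1130059 3344 = true := by decide +kernel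
theorem c_rel_242 : allRange D.relOK 1133403 3484 = true := by decide +kernel
theorem c_rel_243 : allRange D.relOK 1136887 3435 = true := by decide +kernel
theorem c_rel_244 : allRange D.relOK 1140322 3381 = true := by decide +kernel
theorem c_rel_245 : allRange D.relOK 1143703 3431 = true := by decide +kernel
theorem c_rel_246 : allRange D.relOK 1147134 3353 = true := by decide +kernel

end Cfsg.Agent.Lib.Helper4.TCD.SU52pp2A
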