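import Cfsg.Agent.Lib.Helper4.TCD_SU52pp2A_Acc

namespace Cfsg.Agent.Lib.Helper4.TCD.SU52pp2A

open Cfsg.Agent.Lib.Helper4.TC

set_option maxRecDepth 100000
set_option Elab.async false

theorem c_rel_247 : allRange D.relOK 1150487 3144 = true := by decide +kernel
theorem c_rel_248 : allRange D.relOK 1153631 3226 = true := by decide +kernel
theorem c_rel_249 : allRange D.relOK 1156857 3390 = true := by decide +kernel
theorem c_rel_250 : allRange D.relOK 1160247 3402 = true := by decide +kernel
theorem c_rel_251 : allRange D.relOK 1163649 3472 = true := by decide +kernel
theorem c_rel_252 : allRange D.relOK 1167121 3531 = true := by decide +kernel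
theorem c_rel_253 : allRange D.relOK 1170652 2921 = true := by decide +kernel
theorem c_rel_254 : allRange D.relOK 1173573 2684 = true := by decide +kernel
theorem c_rel_255 : allRange D.relOK 1176257 2756 = true := by decide +kernel
theorem c_rel_256 : allRange D.relOK 1179013 2945 = true := by decide +kernel
theorem c_rel_257 : allRange D.relOK 1181958 2909 = true := by decide +kernel
theorem c_rel_258 : allRange D.relOK 1184867 2923 = true := by decide +kernel
theorem c_rel_259 : allRange D.relOK 1187790 3041 = true := by decide +kernel
theorem c_rel_260 : allRange D.relOK 1190831 3170 = true := by decide +kernel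
theorem c_rel_261 : allRange D.relOK 1194001 3204 = true := by decide +kernel
theorem c_rel_262 : allRange D.relOK 1197205 3250 = true := by decide +kernel
theorem c_rel_263 : allRange D.relOK 1200455 3312 = true := by decide +kernel
theorem c_rel_264 : allRange D.relOK 1203767 3470 = true := by decide +kernel
theorem c_rel_265 : allRange D.relOK 1207237 3571 = true := by decide +kernel
theorem c_rel_266 : allRange D.relOK 1210808 3665 = true := by decide +kernel
theorem c_rel_267 : allRange D.relOK 1214473 3460 = true := by decide +kernel
theorem c_rel_268 : allRange D.relOK 1217933 3482 = true := by decide +kernel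
theorem c_rel_269 : allRange D.relOK 1221415 3575 = true := by decide +kernel
theorem c_rel_270 : allRange D.relOK 1224990 3643 = true := by decide +kernel
theorem c_rel_271 : allRange D.relOK 1228633 3621 = true := by decide +kernel
theorem c_rel_272 : allRange D.relOK 1232254 3558 = true := by decide +kernel
theorem c_rel_273 : allRange D.relOK 1235812 3387 = true := by decide +kernel
theorem c_rel_274 : allRange D.relOK 1239199 3223 = true := by decide +kernel
theorem c_rel_275 : allRange D.relOK 1242422 3198 = true := by decide +kernel
theorem c_rel_276 : allRange D.relOK 1245620 2876 = true := by decide +kernel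
theorem c_rel_277 : allRange D.relOK 1248496 2985 = true := by decide +kernel
theorem c_rel_278 : allRange D.relOK 1251481 2812 = true := by decide +kernel
theorem c_rel_279 : allRange D.relOK 1254293 2776 = true := by decide +kernel
theorem c_rel_280 : allRange D.relOK 1257069 2816 = true := by decide +kernel
theorem c_rel_281 : allRange D.relOK 1259885 2999 = true := by decide +kernel
theorem c_rel_282 : allRange D.relOK 1262884 3048 = true := by decide +kernel
theorem c_rel_283 : allRange D.relOK 1265932 3200 = true := by decide +kernel
theorem c_rel_284 : allRange D.relOK 1269132 3315 = true := by decide +kernel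
theorem c_rel_285 : allRange D.relOK 1272447 3421 = true := by decide +kernel
theorem c_rel_286 : allRange D.relOK 1275868 3559 = true := by decide +kernel
theorem c_rel_287 : allRange D.relOK 1279427 3573 = true := by decide +kernel
theorem c_rel_288 : allRange D.relOK 1283000 3597 = true := by decide +kernel
theorem c_rel_289 : allRange D.relOK 1286597 3577 = true := by decide +kernel
theorem c_rel_290 : allRange D.relOK 1290174 3507 = true := by decide +kernel
theorem c_rel_291 : allRange D.relOK 1293681 3217 = true := by decide +kernel
theorem c_rel_292 : allRange D.relOK 1296898 3512 = true := by decide +kernel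
theorem c_rel_293 : allRange D.relOK 1300410 3663 = true := by decide +kernel
theorem c_rel_294 : allRange D.relOK 1304073 3691 = true := by decide +kernel
theorem c_rel_295 : allRange D.relOK 1307764 3103 = true := by decide +kernel
theorem c_rel_296 : allRange D.relOK 1310867 3518 = true := by decide +kernel
theorem c_rel_297 : allRange D.relOK 1314385 3178 = true := by decide +kernel
theorem c_rel_298 : allRange D.relOK 1317563 3654 = true := by decide +kernel
theorem c_rel_299 : allRange D.relOK 1321217 3299 = true := by decide +kernel
theorem c_rel_300 : allRange D.relOK 1324516 3329 = true := by decide +kernel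
theorem c_rel_301 : allRange D.relOK 1327845 3452 = true := by decide +kernel
theorem c_rel_302 : allRange D.relOK 1331297 3464 = true := by decide +kernel
theorem c_rel_303 : allRange D.relOK 1334761 3118 = true := by decide +kernel
theorem c_rel_304 : allRange D.relOK 1337879 3083 = true := by decide +kernel
theorem c_rel_305 : allRange D.relOK 1340962 3439 = true := by decide +kernel
theorem c_rel_306 : allRange D.relOK 1344401 3365 = true := by decide +kernel
theorem c_rel_307 : allRange D.relOK 1347766 3372 = true := by decide +kernel
theorem c_rel_308 : allRange D.relOK 1351138 3273 = true := by decide +kernel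
theorem c_rel_309 : allRange D.relOK 1354411 2772 = true := by decide +kernel
theorem c_rel_310 : allRange D.relOK 1357183 2805 = true := by decide +kernel
theorem c_rel_311 : allRange D.relOK 1359988 3337 = true := by decide +kernel
theorem c_rel_312 : allRange D.relOK 1363325 2664 = true := by decide +kernel
theorem c_rel_313 : allRange D.relOK 1365989 2421 = true := by decide +kernel
theorem c_rel_314 : allRange D.relOK 1368410 3147 = true := by decide +kernel
theorem c_rel_315 : allRange D.relOK 1371557 3040 = true := by decide +kernel
theorem c_rel_316 : allRange D.relOK 1374597 2667 = true := by decide +kernel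
theorem c_rel_317 : allRange D.relOK 1377264 2692 = true := by decide +kernel
theorem c_rel_318 : allRange D.relOK 1379956 3033 = true := by decide +kernel
theorem c_rel_319 : allRange D.relOK 1382989 3149 = true := by decide +kernel
theorem c_rel_320 : allRange D.relOK 1386138 3393 = true := by decide +kernel
theorem c_rel_321 : allRange D.relOK 1389531 2655 = true := by decide +kernel
theorem c_rel_322 : allRange D.relOK 1392186 2637 = true := by decide +kernel
theorem c_rel_323 : allRange D.relOK 1394823 2757 = true := by decide +kernel
theorem c_rel_324 : allRange D.relOK 1397580 2807 = true := by decide +kernel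
theorem c_rel_325 : allRange D.relOK 1400387 3058 = true := by decide +kernel
theorem c_rel_326 : allRange D.relOK 1403445 3308 = true := by decide +kernel
theorem c_rel_327 : allRange D.relOK 1406753 3452 = true := by decide +kernel
theorem c_rel_328 : allRange D.relOK 1410205 3166 = true := by decide +kernel
theorem c_rel_329 : allRange D.relOK 1413371 2948 = true := by decide +kernel
theorem c_rel_330 : allRange D.relOK 1416319 3082 = true := by decide +kernel
theorem c_rel_331 : allRange D.relOK 1419401 3449 = true := by decide +kernel
theorem c_rel_332 : allRange D.relOK 1422850 3114 = true := by decide +kernel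
theorem c_rel_333 : allRange D.relOK 1425964 2932 = true := by decide +kernel
theorem c_rel_334 : allRange D.relOK 1428896 2695 = true := by decide +kernel
theorem c_rel_335 : allRange D.relOK 1431591 3054 = true := by decide +kernel
theorem c_rel_336 : allRange D.relOK 1434645 3259 = true := by decide +kernel
theorem c_rel_337 : allRange D.relOK 1437904 2983 = true := by decide +kernel
theorem c_rel_338 : allRange D.relOK 1440887 3039 = true := by decide +kernel
theorem c_rel_339 : allRange D.relOK 1443926 2598 = true := by decide +kernel
theorem c_rel_340 : allRange D.relOK 1446524 2790 = true := by decide +kernel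
theorem c_rel_341 : allRange D.relOK 1449314 2930 = true := by decide +kernel
theorem c_rel_342 : allRange D.relOK 1452244 3187 = true := by decide +kernel
theorem c_rel_343 : allRange D.relOK 1455431 3259 = true := by decide +kernel
theorem c_rel_344 : allRange D.relOK 1458690 3162 = true := by decide +kernel
theorem c_rel_345 : allRange D.relOK 1461852 2878 = true := by decide +kernel

end Cfsg.Agent.Lib.Helper4.TCD.SU52pp2A
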