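import Cfsg.Agent.Lib.Helper4.TCD_SU52pp2A_Acc

namespace Cfsg.Agent.Lib.Helper4.TCD.SU52pp2A

open Cfsg.Agent.Lib.Helper4.TC

set_option maxRecDepth 100000
set_option Elab.async false

theorem c_rel_346 : allRange D.relOK 1464730 3227 = true := by decide +kernel
theorem c_rel_347 : allRange D.relOK 1467957 3658 = true := by decide +kernel
theorem c_rel_348 : allRange D.relOK 1471615 3102 = true := by decide +kernel
theorem c_rel_349 : allRange D.relOK 1474717 3342 = true := by decide +kernel
theorem c_rel_350 : allRange D.relOK 1478059 2614 = true := by decide +kernel
theorem c_rel_351 : allRange D.relOK 1480673 2647 = true := by decide +kernel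
theorem c_rel_352 : allRange D.relOK 1483320 3153 = true := by decide +kernel
theorem c_rel_353 : allRange D.relOK 1486473 2466 = true := by decide +kernel
theorem c_rel_354 : allRange D.relOK 1488939 2923 = true := by decide +kernel
theorem c_rel_355 : allRange D.relOK 1491862 3255 = true := by decide +kernel
theorem c_rel_356 : allRange D.relOK 1495117 2503 = true := by decide +kernel
theorem c_rel_357 : allRange D.relOK 1497620 2465 = true := by decide +kernel
theorem c_rel_358 : allRange D.relOK 1500085 2581 = true := by decide +kernel
theorem c_rel_359 : allRange D.relOK 1502666 2787 = true := by decide +kernel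
theorem c_rel_360 : allRange D.relOK 1505453 3276 = true := by decide +kernel
theorem c_rel_361 : allRange D.relOK 1508729 2937 = true := by decide +kernel
theorem c_rel_362 : allRange D.relOK 1511666 2621 = true := by decide +kernel
theorem c_rel_363 : allRange D.relOK 1514287 2687 = true := by decide +kernel
theorem c_rel_364 : allRange D.relOK 1516974 3123 = true := by decide +kernel
theorem c_rel_365 : allRange D.relOK 1520097 3006 = true := by decide +kernel
theorem c_rel_366 : allRange D.relOK 1523103 2917 = true := by decide +kernel
theorem c_rel_367 : allRange D.relOK 1526020 3382 = true := by decide +kernel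
theorem c_rel_368 : allRange D.relOK 1529402 3487 = true := by decide +kernel
theorem c_rel_369 : allRange D.relOK 1532889 3407 = true := by decide +kernel
theorem c_rel_370 : allRange D.relOK 1536296 2673 = true := by decide +kernel
theorem c_rel_371 : allRange D.relOK 1538969 3262 = true := by decide +kernel
theorem c_rel_372 : allRange D.relOK 1542231 2207 = true := by decide +kernel
theorem c_rel_373 : allRange D.relOK 1544438 2711 = true := by decide +kernel
theorem c_rel_374 : allRange D.relOK 1547149 2293 = true := by decide +kernel
theorem c_rel_375 : allRange D.relOK 1549442 2452 = true := by decide +kernel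
theorem c_rel_376 : allRange D.relOK 1551894 3128 = true := by decide +kernel
theorem c_rel_377 : allRange D.relOK 1555022 2214 = true := by decide +kernel
theorem c_rel_378 : allRange D.relOK 1557236 2382 = true := by decide +kernel
theorem c_rel_379 : allRange D.relOK 1559618 2634 = true := by decide +kernel
theorem c_rel_380 : allRange D.relOK 1562252 2115 = true := by decide +kernel
theorem c_rel_381 : allRange D.relOK 1564367 3336 = true := by decide +kernel
theorem c_rel_382 : allRange D.relOK 1567703 2259 = true := by decide +kernel
theorem c_rel_383 : allRange D.relOK 1569962 1913 = true := by decide +kernel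
theorem c_rel_384 : allRange D.relOK 1571875 2335 = true := by decide +kernel
theorem c_rel_385 : allRange D.relOK 1574210 2737 = true := by decide +kernel
theorem c_rel_386 : allRange D.relOK 1576947 3175 = true := by decide +kernel
theorem c_rel_387 : allRange D.relOK 1580122 2984 = true := by decide +kernel
theorem c_rel_388 : allRange D.relOK 1583106 2928 = true := by decide +kernel
theorem c_rel_389 : allRange D.relOK 1586034 2442 = true := by decide +kernel
theorem c_rel_390 : allRange D.relOK 1588476 2090 = true := by decide +kernel
theorem c_rel_391 : allRange D.relOK 1590566 2275 = true := by decide +kernel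
theorem c_rel_392 : allRange D.relOK 1592841 2477 = true := by decide +kernel
theorem c_rel_393 : allRange D.relOK 1595318 2385 = true := by decide +kernel
theorem c_rel_394 : allRange D.relOK 1597703 2084 = true := by decide +kernel
theorem c_rel_395 : allRange D.relOK 1599787 1690 = true := by decide +kernel
theorem c_rel_396 : allRange D.relOK 1601477 2138 = true := by decide +kernel
theorem c_rel_397 : allRange D.relOK 1603615 2141 = true := by decide +kernel
theorem c_rel_398 : allRange D.relOK 1605756 1774 = true := by decide +kernel
theorem c_rel_399 : allRange D.relOK 1607530 1914 = true := by decide +kernel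
theorem c_rel_400 : allRange D.relOK 1609444 2041 = true := by decide +kernel
theorem c_rel_401 : allRange D.relOK 1611485 2042 = true := by decide +kernel
theorem c_rel_402 : allRange D.relOK 1613527 2096 = true := by decide +kernel
theorem c_rel_403 : allRange D.relOK 1615623 2162 = true := by decide +kernel
theorem c_rel_404 : allRange D.relOK 1617785 1721 = true := by decide +kernel
theorem c_rel_405 : allRange D.relOK 1619506 2187 = true := by decide +kernel
theorem c_rel_406 : allRange D.relOK 1621693 2133 = true := by decide +kernel
theorem c_rel_407 : allRange D.relOK 1623826 1783 = true := by decide +kernel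
theorem c_rel_408 : allRange D.relOK 1625609 2348 = true := by decide +kernel
theorem c_rel_409 : allRange D.relOK 1627957 1998 = true := by decide +kernel
theorem c_rel_410 : allRange D.relOK 1629955 1558 = true := by decide +kernel
theorem c_rel_411 : allRange D.relOK 1631513 2152 = true := by decide +kernel
theorem c_rel_412 : allRange D.relOK 1633665 1971 = true := by decide +kernel
theorem c_rel_413 : allRange D.relOK 1635636 1906 = true := by decide +kernel
theorem c_rel_414 : allRange D.relOK 1637542 2820 = true := by decide +kernel
theorem c_rel_415 : allRange D.relOK 1640362 2080 = true := by decide +kernel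
theorem c_rel_416 : allRange D.relOK 1642442 2106 = true := by decide +kernel
theorem c_rel_417 : allRange D.relOK 1644548 1931 = true := by decide +kernel
theorem c_rel_418 : allRange D.relOK 1646479 1814 = true := by decide +kernel
theorem c_rel_419 : allRange D.relOK 1648293 2467 = true := by decide +kernel
theorem c_rel_420 : allRange D.relOK 1650760 1757 = true := by decide +kernel
theorem c_rel_421 : allRange D.relOK 1652517 1620 = true := by decide +kernel
theorem c_rel_422 : allRange D.relOK 1654137 1739 = true := by decide +kernel
theorem c_rel_423 : allRange D.relOK 1655876 1856 = true := by decide +kernel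
theorem c_rel_424 : allRange D.relOK 1657732 1802 = true := by decide +kernel
theorem c_rel_425 : allRange D.relOK 1659534 1709 = true := by decide +kernel
theorem c_rel_426 : allRange D.relOK 1661243 1627 = true := by decide +kernel
theorem c_rel_427 : allRange D.relOK 1662870 1721 = true := by decide +kernel
theorem c_rel_428 : allRange D.relOK 1664591 1784 = true := by decide +kernel
theorem c_rel_429 : allRange D.relOK 1666375 1811 = true := by decide +kernel
theorem c_rel_430 : allRange D.relOK 1668186 1564 = true := by decide +kernel
theorem c_rel_431 : allRange D.relOK 1669750 1669 = true := by decide +kernel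
theorem c_rel_432 : allRange D.relOK 1671419 1648 = true := by decide +kernel
theorem c_rel_433 : allRange D.relOK 1673067 1878 = true := by decide +kernel
theorem c_rel_434 : allRange D.relOK 1674945 1758 = true := by decide +kernel
theorem c_rel_435 : allRange D.relOK 1676703 1442 = true := by decide +kernel
theorem c_rel_436 : allRange D.relOK 1678145 1971 = true := by decide +kernel
theorem c_rel_437 : allRange D.relOK 1680116 1899 = true := by decide +kernel
theorem c_rel_438 : allRange D.relOK 1682015 1613 = true := by decide +kernel
theorem c_rel_439 : allRange D.relOK 1683628 1690 = true := by decide +kernel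
theorem c_rel_440 : allRange D.relOK 1685318 1909 = true := by decide +kernel
theorem c_rel_441 : allRange D.relOK 1687227 1395 = true := by decide +kernel
theorem c_rel_442 : allRange D.relOK 1688622 1661 = true := by decide +kernel
theorem c_rel_443 : allRange D.relOK 1690283 1844 = true := by decide +kernel
theorem c_rel_444 : allRange D.relOK 1692127 1683 = true := by decide +kernel

end Cfsg.Agent.Lib.Helper4.TCD.SU52pp2A
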