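import Cfsg.Agent.Lib.Helper4.TCD_SU52pp2A_Acc

namespace Cfsg.Agent.Lib.Helper4.TCD.SU52pp2A

open Cfsg.Agent.Lib.Helper4.TC

set_option maxRecDepth 100000
set_option Elab.async false

theorem c_rel_445 : allRange D.relOK 1693810 1555 = true := by decide +kernel
theorem c_rel_446 : allRange D.relOK 1695365 1673 = true := by decide +kernel
theorem c_rel_447 : allRange D.relOK 1697038 1698 = true := by decide +kernel
theorem c_rel_448 : allRange D.relOK 1698736 1829 = true := by decide +kernel
theorem c_rel_449 : allRange D.relOK 1700565 1497 = true := by decide +kernel
theorem c_rel_450 : allRange D.relOK 1702062 1550 = true := by decide +kernel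
theorem c_rel_451 : allRange D.relOK 1703612 1474 = true := by decide +kernel
theorem c_rel_452 : allRange D.relOK 1705086 1850 = true := by decide +kernel
theorem c_rel_453 : allRange D.relOK 1706936 1748 = true := by decide +kernel
theorem c_rel_454 : allRange D.relOK 1708684 1580 = true := by decide +kernel
theorem c_rel_455 : allRange D.relOK 1710264 1679 = true := by decide +kernel
theorem c_rel_456 : allRange D.relOK 1711943 1975 = true := by decide +kernel
theorem c_rel_457 : allRange D.relOK 1713918 1673 = true := by decide +kernel
theorem c_rel_458 : allRange D.relOK 1715591 1654 = true := by decide +kernel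
theorem c_rel_459 : allRange D.relOK 1717245 2087 = true := by decide +kernel
theorem c_rel_460 : allRange D.relOK 1719332 1730 = true := by decide +kernel
theorem c_rel_461 : allRange D.relOK 1721062 1620 = true := by decide +kernel
theorem c_rel_462 : allRange D.relOK 1722682 1588 = true := by decide +kernel
theorem c_rel_463 : allRange D.relOK 1724270 1602 = true := by decide +kernel
theorem c_rel_464 : allRange D.relOK 1725872 1663 = true := by decide +kernel
theorem c_rel_465 : allRange D.relOK 1727535 1502 = true := by decide +kernel
theorem c_rel_466 : allRange D.relOK 1729037 1480 = true := by decide +kernel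
theorem c_rel_467 : allRange D.relOK 1730517 1632 = true := by decide +kernel
theorem c_rel_468 : allRange D.relOK 1732149 1320 = true := by decide +kernel
theorem c_rel_469 : allRange D.relOK 1733469 1443 = true := by decide +kernel
theorem c_rel_470 : allRange D.relOK 1734912 1509 = true := by decide +kernel
theorem c_rel_471 : allRange D.relOK 1736421 1617 = true := by decide +kernel
theorem c_rel_472 : allRange D.relOK 1738038 1510 = true := by decide +kernel
theorem c_rel_473 : allRange D.relOK 1739548 1468 = true := by decide +kernel
theorem c_rel_474 : allRange D.relOK 1741016 1458 = true := by decide +kernel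
theorem c_rel_475 : allRange D.relOK 1742474 1520 = true := by decide +kernel
theorem c_rel_476 : allRange D.relOK 1743994 1302 = true := by decide +kernel
theorem c_rel_477 : allRange D.relOK 1745296 1394 = true := by decide +kernel
theorem c_rel_478 : allRange D.relOK 1746690 1443 = true := by decide +kernel
theorem c_rel_479 : allRange D.relOK 1748133 1353 = true := by decide +kernel
theorem c_rel_480 : allRange D.relOK 1749486 1229 = true := by decide +kernel
theorem c_rel_481 : allRange D.relOK 1750715 1273 = true := by decide +kernel
theorem c_rel_482 : allRange D.relOK 1751988 1371 = true := by decide +kernel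
theorem c_rel_483 : allRange D.relOK 1753359 1351 = true := by decide +kernel
theorem c_rel_484 : allRange D.relOK 1754710 1363 = true := by decide +kernel
theorem c_rel_485 : allRange D.relOK 1756073 1331 = true := by decide +kernel
theorem c_rel_486 : allRange D.relOK 1757404 1310 = true := by decide +kernel
theorem c_rel_487 : allRange D.relOK 1758714 1290 = true := by decide +kernel
theorem c_rel_488 : allRange D.relOK 1760004 1201 = true := by decide +kernel
theorem c_rel_489 : allRange D.relOK 1761205 1238 = true := by decide +kernel
theorem c_rel_490 : allRange D.relOK 1762443 1251 = true := by decide +kernel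
theorem c_rel_491 : allRange D.relOK 1763694 1318 = true := by decide +kernel
theorem c_rel_492 : allRange D.relOK 1765012 1216 = true := by decide +kernel
theorem c_rel_493 : allRange D.relOK 1766228 1225 = true := by decide +kernel
theorem c_rel_494 : allRange D.relOK 1767453 1263 = true := by decide +kernel
theorem c_rel_495 : allRange D.relOK 1768716 1283 = true := by decide +kernel
theorem c_rel_496 : allRange D.relOK 1769999 1228 = true := by decide +kernel
theorem c_rel_497 : allRange D.relOK 1771227 1202 = true := by decide +kernel
theorem c_rel_498 : allRange D.relOK 1772429 1293 = true := by decide +kernel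
theorem c_rel_499 : allRange D.relOK 1773722 1207 = true := by decide +kernel
theorem c_rel_500 : allRange D.relOK 1774929 1251 = true := by decide +kernel
theorem c_rel_501 : allRange D.relOK 1776180 1221 = true := by decide +kernel
theorem c_rel_502 : allRange D.relOK 1777401 1266 = true := by decide +kernel
theorem c_rel_503 : allRange D.relOK 1778667 1291 = true := by decide +kernel
theorem c_rel_504 : allRange D.relOK 1779958 1353 = true := by decide +kernel
theorem c_rel_505 : allRange D.relOK 1781311 1474 = true := by decide +kernel
theorem c_rel_506 : allRange D.relOK 1782785 1515 = true := by decide +kernel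
theorem c_rel_507 : allRange D.relOK 1784300 1388 = true := by decide +kernel
theorem c_rel_508 : allRange D.relOK 1785688 1476 = true := by decide +kernel
theorem c_rel_509 : allRange D.relOK 1787164 1557 = true := by decide +kernel
theorem c_rel_510 : allRange D.relOK 1788721 1419 = true := by decide +kernel
theorem c_rel_511 : allRange D.relOK 1790140 1627 = true := by decide +kernel
theorem c_rel_512 : allRange D.relOK 1791767 1501 = true := by decide +kernel
theorem c_rel_513 : allRange D.relOK 1793268 1564 = true := by decide +kernel
theorem c_rel_514 : allRange D.relOK 1794832 1547 = true := by decide +kernel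
theorem c_rel_515 : allRange D.relOK 1796379 1556 = true := by decide +kernel
theorem c_rel_516 : allRange D.relOK 1797935 1485 = true := by decide +kernel
theorem c_rel_517 : allRange D.relOK 1799420 1583 = true := by decide +kernel
theorem c_rel_518 : allRange D.relOK 1801003 1492 = true := by decide +kernel
theorem c_rel_519 : allRange D.relOK 1802495 1550 = true := by decide +kernel
theorem c_rel_520 : allRange D.relOK 1804045 1634 = true := by decide +kernel
theorem c_rel_521 : allRange D.relOK 1805679 1648 = true := by decide +kernel
theorem c_rel_522 : allRange D.relOK 1807327 1565 = true := by decide +kernel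
theorem c_rel_523 : allRange D.relOK 1808892 1584 = true := by decide +kernel
theorem c_rel_524 : allRange D.relOK 1810476 1635 = true := by decide +kernel
theorem c_rel_525 : allRange D.relOK 1812111 1607 = true := by decide +kernel
theorem c_rel_526 : allRange D.relOK 1813718 1666 = true := by decide +kernel
theorem c_rel_527 : allRange D.relOK 1815384 1675 = true := by decide +kernel
theorem c_rel_528 : allRange D.relOK 1817059 1731 = true := by decide +kernel
theorem c_rel_529 : allRange D.relOK 1818790 1673 = true := by decide +kernel
theorem c_rel_530 : allRange D.relOK 1820463 1666 = true := by decide +kernel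
theorem c_rel_531 : allRange D.relOK 1822129 1738 = true := by decide +kernel
theorem c_rel_532 : allRange D.relOK 1823867 1725 = true := by decide +kernel
theorem c_rel_533 : allRange D.relOK 1825592 1639 = true := by decide +kernel
theorem c_rel_534 : allRange D.relOK 1827231 1696 = true := by decide +kernel
theorem c_rel_535 : allRange D.relOK 1828927 1654 = true := by decide +kernel
theorem c_rel_536 : allRange D.relOK 1830581 1762 = true := by decide +kernel
theorem c_rel_537 : allRange D.relOK 1832343 2723 = true := by decide +kernel
theorem c_rel_538 : allRange D.relOK 1835066 4038 = true := by decide +kernel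
theorem c_rel_539 : allRange D.relOK 1839104 4079 = true := by decide +kernel
theorem c_rel_540 : allRange D.relOK 1843183 4168 = true := by decide +kernel
theorem c_rel_541 : allRange D.relOK 1847351 3994 = true := by decide +kernel
theorem c_rel_542 : allRange D.relOK 1851345 3992 = true := by decide +kernel
theorem c_rel_543 : allRange D.relOK 1855337 4042 = true := by decide +kernel

end Cfsg.Agent.Lib.Helper4.TCD.SU52pp2A
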