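import Cfsg.Agent.Lib.Helper4.TCD_SU52pp2A_Acc

namespace Cfsg.Agent.Lib.Helper4.TCD.SU52pp2A

open Cfsg.Agent.Lib.Helper4.TC

set_option maxRecDepth 100000
set_option Elab.async false

theorem c_rel_544 : allRange D.relOK 1859379 3977 = true := by decide +kernel
theorem c_rel_545 : allRange D.relOK 1863356 3911 = true := by decide +kernel
theorem c_rel_546 : allRange D.relOK 1867267 3696 = true := by decide +kernel
theorem c_rel_547 : allRange D.relOK 1870963 3855 = true := by decide +kernel
theorem c_rel_548 : allRange D.relOK 1874818 4002 = true := by decide +kernel
theorem c_rel_549 : allRange D.relOK 1878820 3928 = true := by decide +kernel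
theorem c_rel_550 : allRange D.relOK 1882748 3957 = true := by decide +kernel
theorem c_rel_551 : allRange D.relOK 1886705 3924 = true := by decide +kernel
theorem c_rel_552 : allRange D.relOK 1890629 3850 = true := by decide +kernel
theorem c_rel_553 : allRange D.relOK 1894479 3801 = true := by decide +kernel
theorem c_rel_554 : allRange D.relOK 1898280 3966 = true := by decide +kernel
theorem c_rel_555 : allRange D.relOK 1902246 3879 = true := by decide +kernel
theorem c_rel_556 : allRange D.relOK 1906125 3812 = true := by decide +kernel
theorem c_rel_557 : allRange D.relOK 1909937 3826 = true := by decide +kernel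
theorem c_rel_558 : allRange D.relOK 1913763 3885 = true := by decide +kernel
theorem c_rel_559 : allRange D.relOK 1917648 3955 = true := by decide +kernel
theorem c_rel_560 : allRange D.relOK 1921603 3946 = true := by decide +kernel
theorem c_rel_561 : allRange D.relOK 1925549 3859 = true := by decide +kernel
theorem c_rel_562 : allRange D.relOK 1929408 3997 = true := by decide +kernel
theorem c_rel_563 : allRange D.relOK 1933405 3840 = true := by decide +kernel
theorem c_rel_564 : allRange D.relOK 1937245 3956 = true := by decide +kernel
theorem c_rel_565 : allRange D.relOK 1941201 3968 = true := by decide +kernel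
theorem c_rel_566 : allRange D.relOK 1945169 3812 = true := by decide +kernel
theorem c_rel_567 : allRange D.relOK 1948981 3958 = true := by decide +kernel
theorem c_rel_568 : allRange D.relOK 1952939 4035 = true := by decide +kernel
theorem c_rel_569 : allRange D.relOK 1956974 3893 = true := by decide +kernel
theorem c_rel_570 : allRange D.relOK 1960867 3971 = true := by decide +kernel
theorem c_rel_571 : allRange D.relOK 1964838 3837 = true := by decide +kernel
theorem c_rel_572 : allRange D.relOK 1968675 3720 = true := by decide +kernel
theorem c_rel_573 : allRange D.relOK 1972395 3979 = true := by decide +kernel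
theorem c_rel_574 : allRange D.relOK 1976374 4200 = true := by decide +kernel
theorem c_rel_575 : allRange D.relOK 1980574 3927 = true := by decide +kernel
theorem c_rel_576 : allRange D.relOK 1984501 3977 = true := by decide +kernel
theorem c_rel_577 : allRange D.relOK 1988478 4045 = true := by decide +kernel
theorem c_rel_578 : allRange D.relOK 1992523 4023 = true := by decide +kernel
theorem c_rel_579 : allRange D.relOK 1996546 4078 = true := by decide +kernel
theorem c_rel_580 : allRange D.relOK 2000624 4184 = true := by decide +kernel
theorem c_rel_581 : allRange D.relOK 2004808 4039 = true := by decide +kernel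
theorem c_rel_582 : allRange D.relOK 2008847 4103 = true := by decide +kernel
theorem c_rel_583 : allRange D.relOK 2012950 4136 = true := by decide +kernel
theorem c_rel_584 : allRange D.relOK 2017086 3929 = true := by decide +kernel
theorem c_rel_585 : allRange D.relOK 2021015 3890 = true := by decide +kernel
theorem c_rel_586 : allRange D.relOK 2024905 3827 = true := by decide +kernel
theorem c_rel_587 : allRange D.relOK 2028732 3999 = true := by decide +kernel
theorem c_rel_588 : allRange D.relOK 2032731 3999 = true := by decide +kernel
theorem c_rel_589 : allRange D.relOK 2036730 3931 = true := by decide +kernel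
theorem c_rel_590 : allRange D.relOK 2040661 3790 = true := by decide +kernel
theorem c_rel_591 : allRange D.relOK 2044451 3869 = true := by decide +kernel
theorem c_rel_592 : allRange D.relOK 2048320 3817 = true := by decide +kernel
theorem c_rel_593 : allRange D.relOK 2052137 3783 = true := by decide +kernel
theorem c_rel_594 : allRange D.relOK 2055920 3820 = true := by decide +kernel
theorem c_rel_595 : allRange D.relOK 2059740 3775 = true := by decide +kernel
theorem c_rel_596 : allRange D.relOK 2063515 3871 = true := by decide +kernel
theorem c_rel_597 : allRange D.relOK 2067386 3994 = true := by decide +kernel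
theorem c_rel_598 : allRange D.relOK 2071380 3855 = true := by decide +kernel
theorem c_rel_599 : allRange D.relOK 2075235 3964 = true := by decide +kernel
theorem c_rel_600 : allRange D.relOK 2079199 4091 = true := by decide +kernel
theorem c_rel_601 : allRange D.relOK 2083290 3839 = true := by decide +kernel
theorem c_rel_602 : allRange D.relOK 2087129 3972 = true := by decide +kernel
theorem c_rel_603 : allRange D.relOK 2091101 4108 = true := by decide +kernel
theorem c_rel_604 : allRange D.relOK 2095209 4180 = true := by decide +kernel
theorem c_rel_605 : allRange D.relOK 2099389 3999 = true := by decide +kernel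
theorem c_rel_606 : allRange D.relOK 2103388 4154 = true := by decide +kernel
theorem c_rel_607 : allRange D.relOK 2107542 3978 = true := by decide +kernel
theorem c_rel_608 : allRange D.relOK 2111520 3921 = true := by decide +kernel
theorem c_rel_609 : allRange D.relOK 2115441 4001 = true := by decide +kernel
theorem c_rel_610 : allRange D.relOK 2119442 3896 = true := by decide +kernel
theorem c_rel_611 : allRange D.relOK 2123338 3907 = true := by decide +kernel
theorem c_rel_612 : allRange D.relOK 2127245 3863 = true := by decide +kernel
theorem c_rel_613 : allRange D.relOK 2131108 3999 = true := by decide +kernel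
theorem c_rel_614 : allRange D.relOK 2135107 3935 = true := by decide +kernel
theorem c_rel_615 : allRange D.relOK 2139042 3966 = true := by decide +kernel
theorem c_rel_616 : allRange D.relOK 2143008 4033 = true := by decide +kernel
theorem c_rel_617 : allRange D.relOK 2147041 3988 = true := by decide +kernel
theorem c_rel_618 : allRange D.relOK 2151029 3833 = true := by decide +kernel
theorem c_rel_619 : allRange D.relOK 2154862 3949 = true := by decide +kernel
theorem c_rel_620 : allRange D.relOK 2158811 4014 = true := by decide +kernel
theorem c_rel_621 : allRange D.relOK 2162825 4018 = true := by decide +kernel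
theorem c_rel_622 : allRange D.relOK 2166843 4027 = true := by decide +kernel
theorem c_rel_623 : allRange D.relOK 2170870 4065 = true := by decide +kernel
theorem c_rel_624 : allRange D.relOK 2174935 4040 = true := by decide +kernel
theorem c_rel_625 : allRange D.relOK 2178975 3922 = true := by decide +kernel
theorem c_rel_626 : allRange D.relOK 2182897 3980 = true := by decide +kernel
theorem c_rel_627 : allRange D.relOK 2186877 4079 = true := by decide +kernel
theorem c_rel_628 : allRange D.relOK 2190956 4017 = true := by decide +kernel
theorem c_rel_629 : allRange D.relOK 2194973 3995 = true := by decide +kernel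
theorem c_rel_630 : allRange D.relOK 2198968 4032 = true := by decide +kernel
theorem c_rel_631 : allRange D.relOK 2203000 4023 = true := by decide +kernel
theorem c_rel_632 : allRange D.relOK 2207023 4131 = true := by decide +kernel
theorem c_rel_633 : allRange D.relOK 2211154 4110 = true := by decide +kernel
theorem c_rel_634 : allRange D.relOK 2215264 4093 = true := by decide +kernel
theorem c_rel_635 : allRange D.relOK 2219357 3962 = true := by decide +kernel
theorem c_rel_636 : allRange D.relOK 2223319 4067 = true := by decide +kernel
theorem c_rel_637 : allRange D.relOK 2227386 4008 = true := by decide +kernel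
theorem c_rel_638 : allRange D.relOK 2231394 4093 = true := by decide +kernel
theorem c_rel_639 : allRange D.relOK 2235487 4083 = true := by decide +kernel
theorem c_rel_640 : allRange D.relOK 2239570 4054 = true := by decide +kernel
theorem c_rel_641 : allRange D.relOK 2243624 4052 = true := by decide +kernel
theorem c_rel_642 : allRange D.relOK 2247676 4114 = true := by decide +kernel

end Cfsg.Agent.Lib.Helper4.TCD.SU52pp2A
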