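import Cfsg.Agent.Lib.Helper4.TCD_SU52pp2A_Acc

namespace Cfsg.Agent.Lib.Helper4.TCD.SU52pp2A

open Cfsg.Agent.Lib.Helper4.TC

set_option maxRecDepth 100000
set_option Elab.async false

theorem c_rel_643 : allRange D.relOK 2251790 4075 = true := by decide +kernel
theorem c_rel_644 : allRange D.relOK 2255865 4152 = true := by decide +kernel
theorem c_rel_645 : allRange D.relOK 2260017 4124 = true := by decide +kernel
theorem c_rel_646 : allRange D.relOK 2264141 4031 = true := by decide +kernel
theorem c_rel_647 : allRange D.relOK 2268172 4054 = true := by decide +kernel
theorem c_rel_648 : allRange D.relOK 2272226 4184 = true := by decide +kernel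
theorem c_rel_649 : allRange D.relOK 2276410 4070 = true := by decide +kernel
theorem c_rel_650 : allRange D.relOK 2280480 4151 = true := by decide +kernel
theorem c_rel_651 : allRange D.relOK 2284631 4136 = true := by decide +kernel
theorem c_rel_652 : allRange D.relOK 2288767 4029 = true := by decide +kernel
theorem c_rel_653 : allRange D.relOK 2292796 4089 = true := by decide +kernel
theorem c_rel_654 : allRange D.relOK 2296885 4322 = true := by decide +kernel
theorem c_rel_655 : allRange D.relOK 2301207 4135 = true := by decide +kernel
theorem c_rel_656 : allRange D.relOK 2305342 4165 = true := by decide +kernel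
theorem c_rel_657 : allRange D.relOK 2309507 4224 = true := by decide +kernel
theorem c_rel_658 : allRange D.relOK 2313731 4142 = true := by decide +kernel
theorem c_rel_659 : allRange D.relOK 2317873 4170 = true := by decide +kernel
theorem c_rel_660 : allRange D.relOK 2322043 4215 = true := by decide +kernel
theorem c_rel_661 : allRange D.relOK 2326258 4213 = true := by decide +kernel
theorem c_rel_662 : allRange D.relOK 2330471 4144 = true := by decide +kernel
theorem c_rel_663 : allRange D.relOK 2334615 4197 = true := by decide +kernel
theorem c_rel_664 : allRange D.relOK 2338812 4180 = true := by decide +kernel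
theorem c_rel_665 : allRange D.relOK 2342992 4189 = true := by decide +kernel
theorem c_rel_666 : allRange D.relOK 2347181 1771 = true := by decide +kernel
theorem c_fin_0 : allGrid (T.finOK D) 0 352 34 = true := by decide +kernel
theorem c_fin_1 : allGrid (T.finOK D) 352 352 34 = true := by decide +kernel
theorem c_fin_2 : allGrid (T.finOK D) 704 352 34 = true := by decide +kernel
theorem c_fin_3 : allGrid (T.finOK D) 1056 352 34 = true := by decide +kernel
theorem c_fin_4 : allGrid (T.finOK D) 1408 352 34 = true := by decide +kernel
theorem c_fin_5 : allGrid (T.finOK D) 1760 352 34 = true := by decide +kernel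
theorem c_fin_6 : allGrid (T.finOK D) 2112 352 34 = true := by decide +kernel
theorem c_fin_7 : allGrid (T.finOK D) 2464 352 34 = true := by decide +kernel
theorem c_fin_8 : allGrid (T.finOK D) 2816 352 34 = true := by decide +kernel
theorem c_fin_9 : allGrid (T.finOK D) 3168 352 34 = true := by decide +kernel
theorem c_fin_10 : allGrid (T.finOK D) 3520 352 34 = true := by decide +kernel
theorem c_fin_11 : allGrid (T.finOK D) 3872 352 34 = true := by decide +kernel
theorem c_fin_12 : allGrid (T.finOK D) 4224 352 34 = true := by decide +kernel
theorem c_fin_13 : allGrid (T.finOK D) 4576 352 34 = true := by decide +kernel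
theorem c_fin_14 : allGrid (T.finOK D) 4928 352 34 = true := by decide +kernel
theorem c_fin_15 : allGrid (T.finOK D) 5280 352 34 = true := by decide +kernel
theorem c_fin_16 : allGrid (T.finOK D) 5632 352 34 = true := by decide +kernel
theorem c_fin_17 : allGrid (T.finOK D) 5984 352 34 = true := by decide +kernel
theorem c_fin_18 : allGrid (T.finOK D) 6336 352 34 = true := by decide +kernel
theorem c_fin_19 : allGrid (T.finOK D) 6688 352 34 = true := by decide +kernel
theorem c_fin_20 : allGrid (T.finOK D) 7040 352 34 = true := by decide +kernel
theorem c_fin_21 : allGrid (T.finOK D) 7392 352 34 = true := by decide +kernel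
theorem c_fin_22 : allGrid (T.finOK D) 7744 352 34 = true := by decide +kernel
theorem c_fin_23 : allGrid (T.finOK D) 8096 352 34 = true := by decide +kernel
theorem c_fin_24 : allGrid (T.finOK D) 8448 352 34 = true := by decide +kernel
theorem c_fin_25 : allGrid (T.finOK D) 8800 352 34 = true := by decide +kernel
theorem c_fin_26 : allGrid (T.finOK D) 9152 352 34 = true := by decide +kernel
theorem c_fin_27 : allGrid (T.finOK D) 9504 352 34 = true := by decide +kernel
theorem c_fin_28 : allGrid (T.finOK D) 9856 352 34 = true := by decide +kernel
theorem c_fin_29 : allGrid (T.finOK D) 10208 352 34 = true := by decide +kernel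
theorem c_fin_30 : allGrid (T.finOK D) 10560 352 34 = true := by decide +kernel
theorem c_fin_31 : allGrid (T.finOK D) 10912 352 34 = true := by decide +kernel
theorem c_fin_32 : allGrid (T.finOK D) 11264 352 34 = true := by decide +kernel
theorem c_fin_33 : allGrid (T.finOK D) 11616 352 34 = true := by decide +kernel
theorem c_fin_34 : allGrid (T.finOK D) 11968 352 34 = true := by decide +kernel
theorem c_fin_35 : allGrid (T.finOK D) 12320 352 34 = true := by decide +kernel
theorem c_fin_36 : allGrid (T.finOK D) 12672 352 34 = true := by decide +kernel
theorem c_fin_37 : allGrid (T.finOK D) 13024 352 34 = true := by decide +kernel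

end Cfsg.Agent.Lib.Helper4.TCD.SU52pp2A
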