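import Cfsg.Agent.Lib.Helper4.TCD_SU52pp2A_Acc

namespace Cfsg.Agent.Lib.Helper4.TCD.SU52pp2A

open Cfsg.Agent.Lib.Helper4.TC

set_option maxRecDepth 100000
set_option Elab.async false

theorem c_fin_38 : allGrid (T.finOK D) 13376 352 34 = true := by decide +kernel
theorem c_fin_39 : allGrid (T.finOK D) 13728 352 34 = true := by decide +kernel
theorem c_fin_40 : allGrid (T.finOK D) 14080 352 34 = true := by decide +kernel
theorem c_fin_41 : allGrid (T.finOK D) 14432 352 34 = true := by decide +kernel
theorem c_fin_42 : allGrid (T.finOK D) 14784 352 34 = true := by decide +kernel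
theorem c_fin_43 : allGrid (T.finOK D) 15136 352 34 = true := by decide +kernel
theorem c_fin_44 : allGrid (T.finOK D) 15488 352 34 = true := by decide +kernel
theorem c_fin_45 : allGrid (T.finOK D) 15840 352 34 = true := by decide +kernel
theorem c_fin_46 : allGrid (T.finOK D) 16192 352 34 = true := by decide +kernel
theorem c_fin_47 : allGrid (T.finOK D) 16544 352 34 = true := by decide +kernel
theorem c_fin_48 : allGrid (T.finOK D) 16896 352 34 = true := by decide +kernel
theorem c_fin_49 : allGrid (T.finOK D) 17248 352 34 = true := by decide +kernel
theorem c_fin_50 : allGrid (T.finOK D) 17600 352 34 = true := by decide +kernel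
theorem c_fin_51 : allGrid (T.finOK D) 17952 352 34 = true := by decide +kernel
theorem c_fin_52 : allGrid (T.finOK D) 18304 352 34 = true := by decide +kernel
theorem c_fin_53 : allGrid (T.finOK D) 18656 352 34 = true := by decide +kernel
theorem c_fin_54 : allGrid (T.finOK D) 19008 352 34 = true := by decide +kernel
theorem c_fin_55 : allGrid (T.finOK D) 19360 352 34 = true := by decide +kernel
theorem c_fin_56 : allGrid (T.finOK D) 19712 352 34 = true := by decide +kernel
theorem c_fin_57 : allGrid (T.finOK D) 20064 352 34 = true := by decide +kernel
theorem c_fin_58 : allGrid (T.finOK D) 20416 352 34 = true := by decide +kernel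
theorem c_fin_59 : allGrid (T.finOK D) 20768 352 34 = true := by decide +kernel
theorem c_fin_60 : allGrid (T.finOK D) 21120 352 34 = true := by decide +kernel
theorem c_fin_61 : allGrid (T.finOK D) 21472 352 34 = true := by decide +kernel
theorem c_fin_62 : allGrid (T.finOK D) 21824 352 34 = true := by decide +kernel
theorem c_fin_63 : allGrid (T.finOK D) 22176 352 34 = true := by decide +kernel
theorem c_fin_64 : allGrid (T.finOK D) 22528 352 34 = true := by decide +kernel
theorem c_fin_65 : allGrid (T.finOK D) 22880 352 34 = true := by decide +kernel
theorem c_fin_66 : allGrid (T.finOK D) 23232 352 34 = true := by decide +kernel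
theorem c_fin_67 : allGrid (T.finOK D) 23584 352 34 = true := by decide +kernel
theorem c_fin_68 : allGrid (T.finOK D) 23936 352 34 = true := by decide +kernel
theorem c_fin_69 : allGrid (T.finOK D) 24288 352 34 = true := by decide +kernel
theorem c_fin_70 : allGrid (T.finOK D) 24640 352 34 = true := by decide +kernel
theorem c_fin_71 : allGrid (T.finOK D) 24992 352 34 = true := by decide +kernel
theorem c_fin_72 : allGrid (T.finOK D) 25344 352 34 = true := by decide +kernel
theorem c_fin_73 : allGrid (T.finOK D) 25696 352 34 = true := by decide +kernel
theorem c_fin_74 : allGrid (T.finOK D) 26048 352 34 = true := by decide +kernel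
theorem c_fin_75 : allGrid (T.finOK D) 26400 352 34 = true := by decide +kernel
theorem c_fin_76 : allGrid (T.finOK D) 26752 352 34 = true := by decide +kernel
theorem c_fin_77 : allGrid (T.finOK D) 27104 352 34 = true := by decide +kernel
theorem c_fin_78 : allGrid (T.finOK D) 27456 352 34 = true := by decide +kernel
theorem c_fin_79 : allGrid (T.finOK D) 27808 352 34 = true := by decide +kernel
theorem c_fin_80 : allGrid (T.finOK D) 28160 352 34 = true := by decide +kernel
theorem c_fin_81 : allGrid (T.finOK D) 28512 352 34 = true := by decide +kernel
theorem c_fin_82 : allGrid (T.finOK D) 28864 352 34 = true := by decide +kernel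
theorem c_fin_83 : allGrid (T.finOK D) 29216 352 34 = true := by decide +kernel
theorem c_fin_84 : allGrid (T.finOK D) 29568 352 34 = true := by decide +kernel
theorem c_fin_85 : allGrid (T.finOK D) 29920 352 34 = true := by decide +kernel
theorem c_fin_86 : allGrid (T.finOK D) 30272 352 34 = true := by decide +kernel
theorem c_fin_87 : allGrid (T.finOK D) 30624 352 34 = true := by decide +kernel

end Cfsg.Agent.Lib.Helper4.TCD.SU52pp2A
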