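import Cfsg.Agent.Lib.Helper4.TCD_U52pB_Acc

namespace Cfsg.Agent.Lib.Helper4.TCD.U52pB

open Cfsg.Agent.Lib.Helper4.TC

set_option maxRecDepth 100000
set_option Elab.async false

theorem c_act10_0 : allRange (fun i => Nat.beq (actR10 i) i) 0 6666 = true := by decide +kernel
theorem c_act10_1 : allRange (fun i => Nat.beq (actR10 i) i) 6666 6666 = true := by decide +kernel
theorem c_act10_2 : allRange (fun i => Nat.beq (actR10 i) i) 13332 6666 = true := by decide +kernel
theorem c_act10_3 : allRange (fun i => Nat.beq (actR10 i) i) 19998 6666 = true := by decide +kernel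
theorem c_act10_4 : allRange (fun i => Nat.beq (actR10 i) i) 26664 6666 = true := by decide +kernel
theorem c_act10_5 : allRange (fun i => Nat.beq (actR10 i) i) 33330 462 = true := by decide +kernel

end Cfsg.Agent.Lib.Helper4.TCD.U52pB
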