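import Mathlib
import Cfsg.Agent.Lib.Helper4.U52pMain
import Cfsg.Agent.Lib.Helper4.TCD_U52pB_Fin
import Cfsg.Agent.Lib.Helper4.StemLib6
import Cfsg.Agent.Lib.Helper4.RelLib
import Cfsg.Agent.Lib.Helper4.CycExt

/-! The presented group `U52p` (the unitary group U5(2)) is perfect; it has a subgroup of order 405 (index 33792),
and stem extensions with kernel of order 2 split over it. -/

set_option autoImplicit false

namespace Cfsg.Agent.Lib.Helper4.U52pSub

open Cfsg.Agent.Lib.Helper4.TC Cfsg.Agent.Lib.Helper4.TCD Cfsg.Agent.Lib.Helper4.TC.Log Cfsg.Agent.Lib.Helper4.Stem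

theorem sub3_card : Nat.card (Inst.subG PU52p.P U52pB.subs) = 405 := by
  obtain ⟨fG, _, hcard⟩ := U52pMain.order_aux
  have h := Subgroup.card_mul_index (Inst.subG PU52p.P U52pB.subs)
  rw [U52pB.index_eq, hcard] at h
  have e : (13685760 : ℕ) = 405 * 33792 := by norm_num
  rw [e] at h
  exact Nat.eq_of_mul_eq_mul_right (by norm_num) h

theorem sub3_card_le : Nat.card (Inst.subG PU52p.P U52pB.subs) ≤ 405 := le_of_eq sub3_card

/-- stem extensions with kernel of order 2 split over the subgroup of order 405 -/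
theorem liftsP_sub3 (p : ℕ) (hp : Nat.Coprime 405 p) :
    LiftsP PU52p.P.Grp (Inst.subG PU52p.P U52pB.subs) p :=
  liftsP_of_coprime _ p 405 (by rw [sub3_card]) hp

/-- `U52p` is perfect -/
theorem perfect : commutator PU52p.P.Grp = ⊤ := by
  apply CycExt.commutator_eq_top_of_simple U52pMain.simple_aux (PU52p.P.gR 0) (PU52p.P.gR 2)
  have h := U52pA.inst.word_ne_word [0, 2] [2, 0] (by decide) (by decide) 1 (by decide) (by decide +kernel)
  rwa [wordP_cons, wordP_cons, wordP_nil, mul_one, wordP_cons, wordP_cons, wordP_nil, mul_one] at h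

end Cfsg.Agent.Lib.Helper4.U52pSub
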