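import Mathlib
import Cfsg.Agent.Lib.Helper4.U52pMain
import Cfsg.Agent.Lib.Helper4.TCD_SU52pp2A_Fin
import Cfsg.Agent.Lib.Helper4.TCD_SU52pp2W
import Cfsg.Agent.Lib.Helper4.StemLib8
import Cfsg.Agent.Lib.Helper4.U52pSub

/-! `U52p` has no stem extension with kernel of order 2 (generated). -/

namespace Cfsg.Agent.Lib.Helper4.SU52pp2Main

open Cfsg.Agent.Lib.Helper4.TC Cfsg.Agent.Lib.Helper4.TCD Cfsg.Agent.Lib.Helper4.TC.Log Cfsg.Agent.Lib.Helper4.Stem

/-- the description of the auxiliary presentation -/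
def spec : Spec4 :=
  { p := 2
    items := [(0, [], 3),
      (2, [], 5),
      (4, [], 5),
      (6, [], 3),
      (8, [], 9),
      (10, [], 3),
      (12, [8, 5], 0),
      (14, [13, 10], 0),
      (16, [12, 12], 0),
      (18, [14, 14], 0),
      (20, [13, 5, 12, 4, 13, 5, 12, 4, 13, 5, 12, 4], 0),
      (22, [13, 5, 13, 5, 12, 4, 12, 4, 13, 5, 13, 5, 12, 4, 12, 4], 0),
      (24, [7, 13, 6, 12], 0),
      (26, [7, 5, 6, 4], 0),
      (28, [12, 4, 12, 4, 6, 14, 12, 4, 14], 0),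
      (30, [1, 4, 12, 4, 4, 12, 4, 12, 4, 4, 12, 6], 0),
      (32, [3, 12, 4, 4, 12, 5, 12, 5, 14, 12, 5, 14, 5, 14, 6], 0)]
    cen := [16, 18, 20, 22, 24, 26, 28, 30, 32]
    R := []
    sub := [0, 2]
    PR := [[0, 0, 0], [2, 2, 2, 2, 2], [0, 2, 0, 3, 1, 2, 1, 3], [0, 2, 0, 2, 0, 2, 0, 2, 0, 2], [0, 3, 0, 3, 0, 3, 0, 3, 0, 3]]
    XR := [] }

/-- the letters of the auxiliary presentation as words of the base group -/
def Wl (l : ℕ) : List ℕ :=
  [[2, 0, 2, 2, 0, 2, 0, 2, 2, 0, 4], [5, 1, 3, 3, 1, 3, 1, 3, 3, 1, 3], [0, 2, 2, 0, 3, 0, 3, 6, 0, 3, 6, 3, 6, 4], [5, 7, 2, 7, 2, 1, 7, 2, 1, 2, 1, 3, 3, 1], [2], [3], [4], [5], [0, 2], [3, 1], [0, 6], [7, 1], [0], [1], [6], [7], [], [], [], [], [], [], [], [], [], [], [], [], [], [], [], [], [], []].getD l []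

theorem checks_eq : checks spec.toSpec2 PU52p.P.invR Wl ++ checksX spec PSU52pp2.P.invR Wl = SU52pp2W.chkAll := by decide +kernel

theorem sub_eq : Subgroup.closure (xw PU52p.P Wl '' {l | l ∈ spec.sub}) = Inst.subG PU52p.P U52pB.subs := by
  rw [closure_xw_eq]
  rfl

set_option maxRecDepth 100000 in
theorem noStem : NoStemPrime PU52p.P.Grp 2 := by
  obtain ⟨fG, hinj, hcard⟩ := U52pMain.order_aux
  have hall : ∀ w ∈ checks spec.toSpec2 PU52p.P.invR Wl ++ checksX spec PSU52pp2.P.invR Wl, wordP PU52p.P.gR w = 1 := by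
    rw [checks_eq]
    intro w hw
    exact U52pA.inst.word_eq_one hinj w (SU52pp2W.hAll_lt w hw) (SU52pp2W.hAll w hw)
  exact noStemPrime_pres4 PU52p.P PU52p.valid PSU52pp2.P PSU52pp2.valid spec (by show Nat.Prime 2; norm_num) Wl
    (by decide +kernel) (by decide +kernel) (fun w hw => hall w (List.mem_append_left _ hw))
    (fun w hw => hall w (List.mem_append_right _ hw)) (by decide +kernel)
    (by rw [sub_eq]; exact U52pSub.liftsP_sub3 2 (by norm_num))
    405 (by rw [sub_eq]; exact U52pSub.sub3_card_le)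
    33792 (by decide) SU52pp2A.index_eq fG 13685760 hcard (by decide)

end Cfsg.Agent.Lib.Helper4.SU52pp2Main
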