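import Cfsg.Agent.Lib.Helper4.TCD_U42pA_Acc
import Cfsg.Agent.Lib.Helper4.TC13

namespace Cfsg.Agent.Lib.Helper4.TCD.SU42pp3W

open Cfsg.Agent.Lib.Helper4.TC Cfsg.Agent.Lib.Helper4.TCD.U42pA

set_option maxRecDepth 100000
set_option Elab.async false

def chk0 : List Nat := [0, 2, 0, 3, 0, 0, 2, 0, 3, 0]
noncomputable def act0 (i : Nat) : Nat := col1 (col3 (col1 (col2 (col1 (col1 (col3 (col1 (col2 (col1 (i))))))))))
theorem act0_eq (i : Nat) : act0 i = Tab.act T D chk0 i := rfl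
theorem c0_0 : allRange (fun i => Nat.beq (act0 i) i) 0 45 = true := by decide +kernel
theorem h0 : ∀ i, i < T.N → Tab.relActOK T D chk0 i = true := by
  intro i hi
  rw [Tab.relActOK, ← act0_eq]
  exact (range_of_allRange c0_0) i (Nat.zero_le _) hi

def chk1 : List Nat := [3, 0, 3, 3, 0, 3, 3, 0, 3, 3, 0, 3, 3, 0, 3, 3, 0, 3, 3, 0, 3, 3, 0, 3, 3, 0, 3, 3, 0, 3, 3, 0, 3, 3, 0, 3]
noncomputable def act1 (i : Nat) : Nat := col2 (col1 (col2 (col2 (col1 (col2 (col2 (col1 (col2 (col2 (col1 (col2 (col2 (col1 (col2 (col2 (col1 (col2 (col2 (col1 (col2 (col2 (col1 (col2 (col2 (col1 (col2 (col2 (col1 (col2 (col2 (col1 (col2 (col2 (col1 (col2 (i))))))))))))))))))))))))))))))))))))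
theorem act1_eq (i : Nat) : act1 i = Tab.act T D chk1 i := rfl
theorem c1_0 : allRange (fun i => Nat.beq (act1 i) i) 0 45 = true := by decide +kernel
theorem h1 : ∀ i, i < T.N → Tab.relActOK T D chk1 i = true := by
  intro i hi
  rw [Tab.relActOK, ← act1_eq]
  exact (range_of_allRange c1_0) i (Nat.zero_le _) hi

def chk2 : List Nat := [0, 3, 0, 2, 0, 3, 3, 0, 2, 2, 0, 3, 0, 2, 0, 3, 3, 0, 2, 2]
noncomputable def act2 (i : Nat) : Nat := col1 (col2 (col1 (col3 (col1 (col2 (col2 (col1 (col3 (col3 (col1 (col2 (col1 (col3 (col1 (col2 (col2 (col1 (col3 (col3 (i))))))))))))))))))))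
theorem act2_eq (i : Nat) : act2 i = Tab.act T D chk2 i := rfl
theorem c2_0 : allRange (fun i => Nat.beq (act2 i) i) 0 45 = true := by decide +kernel
theorem h2 : ∀ i, i < T.N → Tab.relActOK T D chk2 i = true := by
  intro i hi
  rw [Tab.relActOK, ← act2_eq]
  exact (range_of_allRange c2_0) i (Nat.zero_le _) hi

def chk3 : List Nat := [0, 0]
noncomputable def act3 (i : Nat) : Nat := col1 (col1 (i))
theorem act3_eq (i : Nat) : act3 i = Tab.act T D chk3 i := rfl
theorem c3_0 : allRange (fun i => Nat.beq (act3 i) i) 0 45 = true := by decide +kernel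
theorem h3 : ∀ i, i < T.N → Tab.relActOK T D chk3 i = true := by
  intro i hi
  rw [Tab.relActOK, ← act3_eq]
  exact (range_of_allRange c3_0) i (Nat.zero_le _) hi

def chk4 : List Nat := [2, 2, 2, 2, 2]
noncomputable def act4 (i : Nat) : Nat := col3 (col3 (col3 (col3 (col3 (i)))))
theorem act4_eq (i : Nat) : act4 i = Tab.act T D chk4 i := rfl
theorem c4_0 : allRange (fun i => Nat.beq (act4 i) i) 0 45 = true := by decide +kernel
theorem h4 : ∀ i, i < T.N → Tab.relActOK T D chk4 i = true := by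
  intro i hi
  rw [Tab.relActOK, ← act4_eq]
  exact (range_of_allRange c4_0) i (Nat.zero_le _) hi

def chk5 : List Nat := [0, 2, 0, 2, 0, 2, 0, 2, 0, 2, 0, 2, 0, 2, 0, 2, 0, 2]
noncomputable def act5 (i : Nat) : Nat := col1 (col3 (col1 (col3 (col1 (col3 (col1 (col3 (col1 (col3 (col1 (col3 (col1 (col3 (col1 (col3 (col1 (col3 (i))))))))))))))))))
theorem act5_eq (i : Nat) : act5 i = Tab.act T D chk5 i := rfl
theorem c5_0 : allRange (fun i => Nat.beq (act5 i) i) 0 45 = true := by decide +kernel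
theorem h5 : ∀ i, i < T.N → Tab.relActOK T D chk5 i = true := by
  intro i hi
  rw [Tab.relActOK, ← act5_eq]
  exact (range_of_allRange c5_0) i (Nat.zero_le _) hi

def chk6 : List Nat := [1, 3, 0, 2, 1, 3, 0, 2, 1, 3, 0, 2]
noncomputable def act6 (i : Nat) : Nat := col0 (col2 (col1 (col3 (col0 (col2 (col1 (col3 (col0 (col2 (col1 (col3 (i))))))))))))
theorem act6_eq (i : Nat) : act6 i = Tab.act T D chk6 i := rfl
theorem c6_0 : allRange (fun i => Nat.beq (act6 i) i) 0 45 = true := by decide +kernel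
theorem h6 : ∀ i, i < T.N → Tab.relActOK T D chk6 i = true := by
  intro i hi
  rw [Tab.relActOK, ← act6_eq]
  exact (range_of_allRange c6_0) i (Nat.zero_le _) hi

def chk7 : List Nat := [1, 3, 1, 3, 0, 2, 0, 2, 1, 3, 1, 3, 0, 2, 0, 2]
noncomputable def act7 (i : Nat) : Nat := col0 (col2 (col0 (col2 (col1 (col3 (col1 (col3 (col0 (col2 (col0 (col2 (col1 (col3 (col1 (col3 (i))))))))))))))))
theorem act7_eq (i : Nat) : act7 i = Tab.act T D chk7 i := rfl
theorem c7_0 : allRange (fun i => Nat.beq (act7 i) i) 0 45 = true := by decide +kernel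
theorem h7 : ∀ i, i < T.N → Tab.relActOK T D chk7 i = true := by
  intro i hi
  rw [Tab.relActOK, ← act7_eq]
  exact (range_of_allRange c7_0) i (Nat.zero_le _) hi

def chk8 : List Nat := [1, 2, 1, 3, 1, 0, 2, 0, 3, 0]
noncomputable def act8 (i : Nat) : Nat := col0 (col3 (col0 (col2 (col0 (col1 (col3 (col1 (col2 (col1 (i))))))))))
theorem act8_eq (i : Nat) : act8 i = Tab.act T D chk8 i := rfl
theorem c8_0 : allRange (fun i => Nat.beq (act8 i) i) 0 45 = true := by decide +kernel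
theorem h8 : ∀ i, i < T.N → Tab.relActOK T D chk8 i = true := by
  intro i hi
  rw [Tab.relActOK, ← act8_eq]
  exact (range_of_allRange c8_0) i (Nat.zero_le _) hi

def chk9 : List Nat := [2, 1, 2, 2, 1, 2, 2, 1, 2, 3, 0, 3, 3, 0, 3, 3, 0, 3]
noncomputable def act9 (i : Nat) : Nat := col3 (col0 (col3 (col3 (col0 (col3 (col3 (col0 (col3 (col2 (col1 (col2 (col2 (col1 (col2 (col2 (col1 (col2 (i))))))))))))))))))
theorem act9_eq (i : Nat) : act9 i = Tab.act T D chk9 i := rfl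
theorem c9_0 : allRange (fun i => Nat.beq (act9 i) i) 0 45 = true := by decide +kernel
theorem h9 : ∀ i, i < T.N → Tab.relActOK T D chk9 i = true := by
  intro i hi
  rw [Tab.relActOK, ← act9_eq]
  exact (range_of_allRange c9_0) i (Nat.zero_le _) hi

def chk10 : List Nat := [3, 3, 1, 2, 2, 1, 3, 1, 2, 1, 0, 3, 0, 2, 0, 3, 3, 0, 2, 2]
noncomputable def act10 (i : Nat) : Nat := col2 (col2 (col0 (col3 (col3 (col0 (col2 (col0 (col3 (col0 (col1 (col2 (col1 (col3 (col1 (col2 (col2 (col1 (col3 (col3 (i))))))))))))))))))))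
theorem act10_eq (i : Nat) : act10 i = Tab.act T D chk10 i := rfl
theorem c10_0 : allRange (fun i => Nat.beq (act10 i) i) 0 45 = true := by decide +kernel
theorem h10 : ∀ i, i < T.N → Tab.relActOK T D chk10 i = true := by
  intro i hi
  rw [Tab.relActOK, ← act10_eq]
  exact (range_of_allRange c10_0) i (Nat.zero_le _) hi

def chk11 : List Nat := [0, 2, 0, 3, 0, 0, 2, 0, 3, 0]
noncomputable def act11 (i : Nat) : Nat := col1 (col3 (col1 (col2 (col1 (col1 (col3 (col1 (col2 (col1 (i))))))))))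
theorem act11_eq (i : Nat) : act11 i = Tab.act T D chk11 i := rfl
theorem c11_0 : allRange (fun i => Nat.beq (act11 i) i) 0 45 = true := by decide +kernel
theorem h11 : ∀ i, i < T.N → Tab.relActOK T D chk11 i = true := by
  intro i hi
  rw [Tab.relActOK, ← act11_eq]
  exact (range_of_allRange c11_0) i (Nat.zero_le _) hi

def chk12 : List Nat := [0, 3, 0, 2, 0, 3, 3, 0, 2, 2, 0, 3, 0, 2, 0, 3, 3, 0, 2, 2]
noncomputable def act12 (i : Nat) : Nat := col1 (col2 (col1 (col3 (col1 (col2 (col2 (col1 (col3 (col3 (col1 (col2 (col1 (col3 (col1 (col2 (col2 (col1 (col3 (col3 (i))))))))))))))))))))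
theorem act12_eq (i : Nat) : act12 i = Tab.act T D chk12 i := rfl
theorem c12_0 : allRange (fun i => Nat.beq (act12 i) i) 0 45 = true := by decide +kernel
theorem h12 : ∀ i, i < T.N → Tab.relActOK T D chk12 i = true := by
  intro i hi
  rw [Tab.relActOK, ← act12_eq]
  exact (range_of_allRange c12_0) i (Nat.zero_le _) hi

def chk13 : List Nat := [3, 0, 3, 3, 0, 3, 3, 0, 3, 0, 3, 0, 2, 0, 3, 3, 0, 2, 2, 2, 1, 2, 2, 1, 2, 2, 1, 2, 3, 3, 1, 2, 2, 1, 3, 1, 2, 1]
noncomputable def act13 (i : Nat) : Nat := col2 (col1 (col2 (col2 (col1 (col2 (col2 (col1 (col2 (col1 (col2 (col1 (col3 (col1 (col2 (col2 (col1 (col3 (col3 (col3 (col0 (col3 (col3 (col0 (col3 (col3 (col0 (col3 (col2 (col2 (col0 (col3 (col3 (col0 (col2 (col0 (col3 (col0 (i))))))))))))))))))))))))))))))))))))))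
theorem act13_eq (i : Nat) : act13 i = Tab.act T D chk13 i := rfl
theorem c13_0 : allRange (fun i => Nat.beq (act13 i) i) 0 45 = true := by decide +kernel
theorem h13 : ∀ i, i < T.N → Tab.relActOK T D chk13 i = true := by
  intro i hi
  rw [Tab.relActOK, ← act13_eq]
  exact (range_of_allRange c13_0) i (Nat.zero_le _) hi

def chk14 : List Nat := [0, 2, 0, 3, 0, 3, 0, 3, 3, 0, 3, 3, 0, 3, 3, 0, 3, 3, 0, 3, 3, 0, 3, 1, 2, 1, 3, 1, 2, 1, 2, 2, 1, 2, 2, 1, 2, 2, 1, 2, 2, 1, 2, 2, 1, 2]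
noncomputable def act14 (i : Nat) : Nat := col1 (col3 (col1 (col2 (col1 (col2 (col1 (col2 (col2 (col1 (col2 (col2 (col1 (col2 (col2 (col1 (col2 (col2 (col1 (col2 (col2 (col1 (col2 (col0 (col3 (col0 (col2 (col0 (col3 (col0 (col3 (col3 (col0 (col3 (col3 (col0 (col3 (col3 (col0 (col3 (col3 (col0 (col3 (col3 (col0 (col3 (i))))))))))))))))))))))))))))))))))))))))))))))
theorem act14_eq (i : Nat) : act14 i = Tab.act T D chk14 i := rfl
theorem c14_0 : allRange (fun i => Nat.beq (act14 i) i) 0 45 = true := by decide +kernel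
theorem h14 : ∀ i, i < T.N → Tab.relActOK T D chk14 i = true := by
  intro i hi
  rw [Tab.relActOK, ← act14_eq]
  exact (range_of_allRange c14_0) i (Nat.zero_le _) hi

def chk15 : List Nat := [0, 2, 0, 3, 0, 3, 0, 3, 3, 0, 3, 3, 0, 3, 0, 2, 0, 3, 0, 3, 0, 3, 3, 0, 3, 3, 0, 3, 1, 2, 1, 3, 1, 2, 1, 2, 2, 1, 2, 2, 1, 2, 1, 2, 1, 3, 1, 2, 1, 2, 2, 1, 2, 2, 1, 2]
noncomputable def act15 (i : Nat) : Nat := col1 (col3 (col1 (col2 (col1 (col2 (col1 (col2 (col2 (col1 (col2 (col2 (col1 (col2 (col1 (col3 (col1 (col2 (col1 (col2 (col1 (col2 (col2 (col1 (col2 (col2 (col1 (col2 (col0 (col3 (col0 (col2 (col0 (col3 (col0 (col3 (col3 (col0 (col3 (col3 (col0 (col3 (col0 (col3 (col0 (col2 (col0 (col3 (col0 (col3 (col3 (col0 (col3 (col3 (col0 (col3 (i))))))))))))))))))))))))))))))))))))))))))))))))))))))))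
theorem act15_eq (i : Nat) : act15 i = Tab.act T D chk15 i := rfl
theorem c15_0 : allRange (fun i => Nat.beq (act15 i) i) 0 45 = true := by decide +kernel
theorem h15 : ∀ i, i < T.N → Tab.relActOK T D chk15 i = true := by
  intro i hi
  rw [Tab.relActOK, ← act15_eq]
  exact (range_of_allRange c15_0) i (Nat.zero_le _) hi

def chk16 : List Nat := [0, 2, 0, 3, 0, 3, 0, 3, 3, 0, 3, 3, 0, 3, 1, 2, 1, 3, 1, 3, 3, 1, 2, 2, 1, 3, 1, 2, 1, 1, 2, 1, 3, 1, 3, 0, 3, 3, 0, 3, 3, 0, 3, 0, 2, 0, 3, 0, 0, 3, 0, 2, 0, 3, 3, 0, 2, 2]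
noncomputable def act16 (i : Nat) : Nat := col1 (col3 (col1 (col2 (col1 (col2 (col1 (col2 (col2 (col1 (col2 (col2 (col1 (col2 (col0 (col3 (col0 (col2 (col0 (col2 (col2 (col0 (col3 (col3 (col0 (col2 (col0 (col3 (col0 (col0 (col3 (col0 (col2 (col0 (col2 (col1 (col2 (col2 (col1 (col2 (col2 (col1 (col2 (col1 (col3 (col1 (col2 (col1 (col1 (col2 (col1 (col3 (col1 (col2 (col2 (col1 (col3 (col3 (i))))))))))))))))))))))))))))))))))))))))))))))))))))))))))
theorem act16_eq (i : Nat) : act16 i = Tab.act T D chk16 i := rfl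
theorem c16_0 : allRange (fun i => Nat.beq (act16 i) i) 0 45 = true := by decide +kernel
theorem h16 : ∀ i, i < T.N → Tab.relActOK T D chk16 i = true := by
  intro i hi
  rw [Tab.relActOK, ← act16_eq]
  exact (range_of_allRange c16_0) i (Nat.zero_le _) hi

def chk17 : List Nat := [0, 2, 0, 3, 0, 0, 3, 0, 2, 0, 3, 3, 0, 2, 2, 0, 2, 0, 3, 0, 0, 3, 0, 2, 0, 3, 3, 0, 2, 2, 1, 2, 1, 3, 1, 3, 3, 1, 2, 2, 1, 3, 1, 2, 1, 1, 2, 1, 3, 1, 3, 3, 1, 2, 2, 1, 3, 1, 2, 1]
noncomputable def act17 (i : Nat) : Nat := col1 (col3 (col1 (col2 (col1 (col1 (col2 (col1 (col3 (col1 (col2 (col2 (col1 (col3 (col3 (col1 (col3 (col1 (col2 (col1 (col1 (col2 (col1 (col3 (col1 (col2 (col2 (col1 (col3 (col3 (col0 (col3 (col0 (col2 (col0 (col2 (col2 (col0 (col3 (col3 (col0 (col2 (col0 (col3 (col0 (col0 (col3 (col0 (col2 (col0 (col2 (col2 (col0 (col3 (col3 (col0 (col2 (col0 (col3 (col0 (i))))))))))))))))))))))))))))))))))))))))))))))))))))))))))))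
theorem act17_eq (i : Nat) : act17 i = Tab.act T D chk17 i := rfl
theorem c17_0 : allRange (fun i => Nat.beq (act17 i) i) 0 45 = true := by decide +kernel
theorem h17 : ∀ i, i < T.N → Tab.relActOK T D chk17 i = true := by
  intro i hi
  rw [Tab.relActOK, ← act17_eq]
  exact (range_of_allRange c17_0) i (Nat.zero_le _) hi

def chkAll : List (List Nat) := [chk0, chk1, chk2, chk3, chk4, chk5, chk6, chk7, chk8, chk9, chk10, chk11, chk12, chk13, chk14, chk15, chk16, chk17]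
theorem hAll : ∀ w ∈ chkAll, ∀ i, i < T.N → Tab.relActOK T D w i = true := by
  intro w hw
  simp only [chkAll, List.mem_cons, List.not_mem_nil, or_false] at hw
  rcases hw with rfl | rfl | rfl | rfl | rfl | rfl | rfl | rfl | rfl | rfl | rfl | rfl | rfl | rfl | rfl | rfl | rfl | rfl
  · exact h0
  · exact h1
  · exact h2
  · exact h3
  · exact h4
  · exact h5
  · exact h6
  · exact h7
  · exact h8
  · exact h9
  · exact h10
  · exact h11
  · exact h12
  · exact h13
  · exact h14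
  · exact h15
  · exact h16
  · exact h17
theorem hAll_lt : ∀ w ∈ chkAll, ∀ x ∈ w, x < 4 := by decide +kernel

end Cfsg.Agent.Lib.Helper4.TCD.SU42pp3W
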