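import Mathlib
import Cfsg.Agent.Lib.Helper4.U42pMain
import Cfsg.Agent.Lib.Helper4.TCD_U42pB_Fin
import Cfsg.Agent.Lib.Helper4.StemLib6
import Cfsg.Agent.Lib.Helper4.RelLib
import Cfsg.Agent.Lib.Helper4.CycExt

/-! The presented group `U42p` (the unitary group U4(2)) is perfect; it has a subgroup of order 64 (index 405), and stem
extensions with kernel of order 3 split over it. -/

set_option autoImplicit false

namespace Cfsg.Agent.Lib.Helper4.U42pSub

open Cfsg.Agent.Lib.Helper4.TC Cfsg.Agent.Lib.Helper4.TCD Cfsg.Agent.Lib.Helper4.TC.Log Cfsg.Agent.Lib.Helper4.Stem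

theorem sub2_card : Nat.card (Inst.subG PU42p.P U42pB.subs) = 64 := by
  obtain ⟨fG, _, hcard⟩ := U42pMain.order_aux
  have h := Subgroup.card_mul_index (Inst.subG PU42p.P U42pB.subs)
  rw [U42pB.index_eq, hcard] at h
  have e : (25920 : ℕ) = 64 * 405 := by norm_num
  rw [e] at h
  exact Nat.eq_of_mul_eq_mul_right (by norm_num) h

theorem sub2_card_le : Nat.card (Inst.subG PU42p.P U42pB.subs) ≤ 64 := le_of_eq sub2_card

/-- stem extensions with kernel of order 3 split over the subgroup of order 64 -/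
theorem liftsP_sub2 (p : ℕ) (hp : Nat.Coprime 64 p) :
    LiftsP PU42p.P.Grp (Inst.subG PU42p.P U42pB.subs) p :=
  liftsP_of_coprime _ p 64 (by rw [sub2_card]) hp

/-- `U42p` is perfect -/
theorem perfect : commutator PU42p.P.Grp = ⊤ := by
  apply CycExt.commutator_eq_top_of_simple U42pMain.simple_aux (PU42p.P.gR 0) (PU42p.P.gR 2)
  have h := U42pA.inst.word_ne_word [0, 2] [2, 0] (by decide) (by decide) 1 (by decide) (by decide +kernel)
  rwa [wordP_cons, wordP_cons, wordP_nil, mul_one, wordP_cons, wordP_cons, wordP_nil, mul_one] at h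

end Cfsg.Agent.Lib.Helper4.U42pSub
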