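import Mathlib
import Cfsg.Agent.Lib.Helper4.U42pMain
import Cfsg.Agent.Lib.Helper4.TCD_SU42pp3A_Fin
import Cfsg.Agent.Lib.Helper4.TCD_SU42pp3W
import Cfsg.Agent.Lib.Helper4.StemLib8
import Cfsg.Agent.Lib.Helper4.U42pSub

/-! `U42p` has no stem extension with kernel of order 3 (generated). -/

namespace Cfsg.Agent.Lib.Helper4.SU42pp3Main

open Cfsg.Agent.Lib.Helper4.TC Cfsg.Agent.Lib.Helper4.TCD Cfsg.Agent.Lib.Helper4.TC.Log Cfsg.Agent.Lib.Helper4.Stem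

/-- the description of the auxiliary presentation -/
def spec : Spec4 :=
  { p := 3
    items := [(0, [], 2),
      (2, [], 4),
      (4, [], 2),
      (6, [], 2),
      (8, [], 5),
      (10, [6, 8, 6, 8, 6, 8, 6, 8, 6, 8, 6, 8, 6, 8, 6, 8, 6, 8], 0),
      (12, [7, 9, 6, 8, 7, 9, 6, 8, 7, 9, 6, 8], 0),
      (14, [7, 9, 7, 9, 6, 8, 6, 8, 7, 9, 7, 9, 6, 8, 6, 8], 0),
      (16, [1, 6, 8, 6, 9, 6], 0),
      (18, [3, 9, 6, 9, 9, 6, 9, 9, 6, 9], 0),
      (20, [5, 6, 9, 6, 8, 6, 9, 9, 6, 8, 8], 0)]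
    cen := [10, 12, 14, 16, 18, 20]
    R := []
    sub := [0, 2, 4]
    PR := [[0, 0], [4, 4], [2, 4, 3, 5], [0, 2, 2, 1, 3, 3], [0, 2, 0, 2, 1, 3, 1, 3], [0, 2, 1, 5, 1, 2, 0, 4], [0, 4, 0, 4, 1, 5, 1, 5]]
    XR := [] }

/-- the letters of the auxiliary presentation as words of the base group -/
def Wl (l : ℕ) : List ℕ :=
  [[0, 2, 0, 3, 0], [1, 2, 1, 3, 1], [3, 0, 3, 3, 0, 3, 3, 0, 3], [2, 1, 2, 2, 1, 2, 2, 1, 2], [0, 3, 0, 2, 0, 3, 3, 0, 2, 2], [3, 3, 1, 2, 2, 1, 3, 1, 2, 1], [0], [1], [2], [3], [], [], [], [], [], [], [], [], [], [], [], []].getD l []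

theorem checks_eq : checks spec.toSpec2 PU42p.P.invR Wl ++ checksX spec PSU42pp3.P.invR Wl = SU42pp3W.chkAll := by decide +kernel

theorem sub_eq : Subgroup.closure (xw PU42p.P Wl '' {l | l ∈ spec.sub}) = Inst.subG PU42p.P U42pB.subs := by
  rw [closure_xw_eq]
  rfl

set_option maxRecDepth 100000 in
theorem noStem : NoStemPrime PU42p.P.Grp 3 := by
  obtain ⟨fG, hinj, hcard⟩ := U42pMain.order_aux
  have hall : ∀ w ∈ checks spec.toSpec2 PU42p.P.invR Wl ++ checksX spec PSU42pp3.P.invR Wl, wordP PU42p.P.gR w = 1 := by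
    rw [checks_eq]
    intro w hw
    exact U42pA.inst.word_eq_one hinj w (SU42pp3W.hAll_lt w hw) (SU42pp3W.hAll w hw)
  exact noStemPrime_pres4 PU42p.P PU42p.valid PSU42pp3.P PSU42pp3.valid spec (by show Nat.Prime 3; norm_num) Wl
    (by decide +kernel) (by decide +kernel) (fun w hw => hall w (List.mem_append_left _ hw))
    (fun w hw => hall w (List.mem_append_right _ hw)) (by decide +kernel)
    (by rw [sub_eq]; exact U42pSub.liftsP_sub2 3 (by norm_num))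
    64 (by rw [sub_eq]; exact U42pSub.sub2_card_le)
    405 (by decide) SU42pp3A.index_eq fG 25920 hcard (by decide)

end Cfsg.Agent.Lib.Helper4.SU42pp3Main
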