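import Mathlib
import Cfsg.Agent.Lib.Helper4.U52pMain
import Cfsg.Agent.Lib.Helper4.TCD_SU52pq3A_Fin
import Cfsg.Agent.Lib.Helper4.TCD_SU52pq3W
import Cfsg.Agent.Lib.Helper4.StemLib8
import Cfsg.Agent.Lib.Helper4.U52pSub4

/-! `U52p` has no stem extension with kernel of order 3 (generated). -/

namespace Cfsg.Agent.Lib.Helper4.SU52pq3Main

open Cfsg.Agent.Lib.Helper4.TC Cfsg.Agent.Lib.Helper4.TCD Cfsg.Agent.Lib.Helper4.TC.Log Cfsg.Agent.Lib.Helper4.Stem

/-- the description of the auxiliary presentation -/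
def spec : Spec4 :=
  { p := 3
    items := [(0, [], 2),
      (2, [], 5),
      (4, [], 2),
      (6, [], 11),
      (8, [6, 5, 2], 0),
      (10, [8, 8, 8], 0),
      (12, [9, 1, 8, 0], 0),
      (14, [9, 3, 8, 2], 0),
      (16, [0, 4, 0, 4, 0, 4], 0),
      (18, [0, 2, 0, 2, 8, 4, 0, 2, 4], 0)]
    cen := [10, 12, 14, 16, 18]
    R := []
    sub := [0, 2]
    PR := [[0, 0], [2, 2, 2, 2, 2], [0, 2, 0, 2, 0, 2, 0, 2, 0, 2, 0, 2, 0, 2, 0, 2, 0, 2], [1, 3, 0, 2, 1, 3, 0, 2, 1, 3, 0, 2], [1, 3, 1, 3, 0, 2, 0, 2, 1, 3, 1, 3, 0, 2, 0, 2]]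
    XR := [] }

/-- the letters of the auxiliary presentation as words of the base group -/
def Wl (l : ℕ) : List ℕ :=
  [[0], [1], [2], [3], [6], [7], [4, 3, 6], [7, 2, 5], [4], [5], [], [], [], [], [], [], [], [], [], []].getD l []

theorem checks_eq : checks spec.toSpec2 PU52p.P.invR Wl ++ checksX spec PSU52pq3.P.invR Wl = SU52pq3W.chkAll := by decide +kernel

theorem sub_eq : Subgroup.closure (xw PU52p.P Wl '' {l | l ∈ spec.sub}) = Inst.subG PU52p.P U52pD.subs := by
  rw [closure_xw_eq]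
  rfl

set_option maxRecDepth 100000 in
theorem noStem : NoStemPrime PU52p.P.Grp 3 := by
  obtain ⟨fG, hinj, hcard⟩ := U52pMain.order_aux
  have hall : ∀ w ∈ checks spec.toSpec2 PU52p.P.invR Wl ++ checksX spec PSU52pq3.P.invR Wl, wordP PU52p.P.gR w = 1 := by
    rw [checks_eq]
    intro w hw
    exact U52pA.inst.word_eq_one hinj w (SU52pq3W.hAll_lt w hw) (SU52pq3W.hAll w hw)
  exact noStemPrime_pres4 PU52p.P PU52p.valid PSU52pq3.P PSU52pq3.valid spec (by show Nat.Prime 3; norm_num) Wl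
    (by decide +kernel) (by decide +kernel) (fun w hw => hall w (List.mem_append_left _ hw))
    (fun w hw => hall w (List.mem_append_right _ hw)) (by decide +kernel)
    (by rw [sub_eq]; exact U52pSub4.liftsP_sub 3 (by norm_num))
    25920 (by rw [sub_eq]; exact U52pSub4.sub_card.2)
    528 (by decide) SU52pq3A.index_eq fG 13685760 hcard (by decide)

end Cfsg.Agent.Lib.Helper4.SU52pq3Main
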