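import Mathlib
import Cfsg.Agent.Lib.Helper4.U52pSub
import Cfsg.Agent.Lib.Helper4.SU52pp2Main
import Cfsg.Agent.Lib.Helper4.SU52pq3Main

/-!
The presented group `U52p` (the unitary group U5(2)) has no stem extension with kernel of prime order.
-/

set_option autoImplicit false

namespace Cfsg.Agent.Lib.Helper4.U52pStem

open Cfsg Cfsg.Agent.Lib.Helper4.TC Cfsg.Agent.Lib.Helper4.TCD Cfsg.Agent.Lib.Helper4.TC.Log
  Cfsg.Agent.Lib.Helper4.Stem

/-- no stem extension with kernel of prime order -/
theorem noStem : ∀ p, p.Prime → NoStemPrime PU52p.P.Grp p := by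
  obtain ⟨fG, _, hcard⟩ := U52pMain.order_aux
  have := fG
  apply noStemPrime_all PU52p.P.Grp [2, 3]
  · intro p hp
    simp only [List.mem_cons, List.not_mem_nil, or_false] at hp
    rcases hp with rfl | rfl
    · exact SU52pp2Main.noStem
    · exact SU52pq3Main.noStem
  · rw [hcard]
    exact sq_dvd_mem_of_factors 13685760 [2, 2, 2, 2, 2, 2, 2, 2, 2, 2, 3, 3, 3, 3, 3, 5, 11] (by norm_num) (by decide)
      [2, 3] (by decide)

end Cfsg.Agent.Lib.Helper4.U52pStem
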