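import Mathlib
import Cfsg.Agent.Lib.Helper4.C3U62Cover
import Cfsg.Agent.Lib.Helper4.TCD_C3U62B_Fin
import Cfsg.Agent.Lib.Helper4.U52pStem
import Cfsg.Agent.Lib.Helper4.TC19
import Cfsg.Agent.Lib.Helper4.StemLib6

/-! The presented group `C3U62` contains the presented group `U52p` (the unitary group U5(2))
as the subgroup of index 2016 generated by `a`, `b`, `w`, `u`, and stem extensions with kernel of prime order split over it. -/

set_option autoImplicit false

namespace Cfsg.Agent.Lib.Helper4.C3U62Sub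

open Cfsg Cfsg.Agent.Lib.Helper4.TC Cfsg.Agent.Lib.Helper4.TCD Cfsg.Agent.Lib.Helper4.TC.Log Cfsg.Agent.Lib.Helper4.Stem

/-- the letters of `U52p` as letters of `C3U62` -/
def embK (l : ℕ) : ℕ := [0, 1, 2, 3, 4, 5, 6, 7].getD l 12

theorem real_subK : ∀ L ∈ PU52p.P.real, L.map embK ∈ PC3U62.P.real := by decide +kernel

theorem embK_emb : LetterEmb PU52p.P PC3U62.P embK where
  hP := PU52p.valid
  hQ := PC3U62.valid
  hlt := by
    intro l hl
    have hl : l < 8 := hl
    show embK l < 12
    interval_cases l <;> decide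
  hinv := by
    intro l hl
    have hl : l < 8 := hl
    interval_cases l <;> rfl
  hrel := by
    intro L hL
    exact (PC3U62.valid.real_sound _ (real_subK L hL)).2

/-- the homomorphism from `U52p` -/
noncomputable def f : PU52p.P.Grp →* PC3U62.P.Grp := embK_emb.hom

/-- the words generating `U52p` -/
def subsK : List (List ℕ) := [[0], [2], [4], [6]]

theorem subG_K_top : Inst.subG PU52p.P subsK = ⊤ := by
  rw [eq_top_iff, ← PU52p.valid.gen_top, Subgroup.closure_le]
  rintro _ ⟨l, hl, rfl⟩
  have hl : l < 8 := hl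
  interval_cases l
  · exact Subgroup.subset_closure ⟨[0], by decide, by rw [wordP_cons, wordP_nil, mul_one]⟩
  · have h : PU52p.P.gR 1 = (PU52p.P.gR 0)⁻¹ := (PU52p.valid.invR_sound 0 (by decide)).2
    rw [h]
    exact Subgroup.inv_mem _ (Subgroup.subset_closure ⟨[0], by decide, by rw [wordP_cons, wordP_nil, mul_one]⟩)
  · exact Subgroup.subset_closure ⟨[2], by decide, by rw [wordP_cons, wordP_nil, mul_one]⟩
  · have h : PU52p.P.gR 3 = (PU52p.P.gR 2)⁻¹ := (PU52p.valid.invR_sound 2 (by decide)).2
    rw [h]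
    exact Subgroup.inv_mem _ (Subgroup.subset_closure ⟨[2], by decide, by rw [wordP_cons, wordP_nil, mul_one]⟩)
  · exact Subgroup.subset_closure ⟨[4], by decide, by rw [wordP_cons, wordP_nil, mul_one]⟩
  · have h : PU52p.P.gR 5 = (PU52p.P.gR 4)⁻¹ := (PU52p.valid.invR_sound 4 (by decide)).2
    rw [h]
    exact Subgroup.inv_mem _ (Subgroup.subset_closure ⟨[4], by decide, by rw [wordP_cons, wordP_nil, mul_one]⟩)
  · exact Subgroup.subset_closure ⟨[6], by decide, by rw [wordP_cons, wordP_nil, mul_one]⟩
  · have h : PU52p.P.gR 7 = (PU52p.P.gR 6)⁻¹ := (PU52p.valid.invR_sound 6 (by decide)).2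
    rw [h]
    exact Subgroup.inv_mem _ (Subgroup.subset_closure ⟨[6], by decide, by rw [wordP_cons, wordP_nil, mul_one]⟩)

theorem range_eq : f.range = Inst.subG PC3U62.P C3U62B.subs := by
  rw [f, MonoidHom.range_eq_map, ← subG_K_top, embK_emb.map_subG subsK (by decide)]
  rfl

/-- the subgroup is an image of `U52p` -/
theorem sub_card : Finite (Inst.subG PC3U62.P C3U62B.subs) ∧
    Nat.card (Inst.subG PC3U62.P C3U62B.subs) ≤ 13685760 := by
  obtain ⟨fK, _, cK⟩ := U52pMain.order_aux
  rw [← range_eq]
  have := fK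
  refine ⟨Finite.of_surjective f.rangeRestrict f.rangeRestrict_surjective, ?_⟩
  rw [← cK]
  exact Nat.card_le_card_of_surjective f.rangeRestrict f.rangeRestrict_surjective

/-- the subgroup has order 13685760 -/
theorem sub_card_eq : Nat.card (Inst.subG PC3U62.P C3U62B.subs) = 13685760 := by
  obtain ⟨fG, _, hcard⟩ := C3U62Cover.order_aux
  have h := Subgroup.card_mul_index (Inst.subG PC3U62.P C3U62B.subs)
  rw [C3U62B.index_eq, hcard] at h
  have e : (27590492160 : ℕ) = 13685760 * 2016 := by norm_num
  rw [e] at h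
  exact Nat.eq_of_mul_eq_mul_right (by norm_num) h

/-- `U52p` embeds -/
theorem hom_injective : Function.Injective f := by
  obtain ⟨fK, _, cK⟩ := U52pMain.order_aux
  have := fK
  have hs : Function.Surjective f.rangeRestrict := f.rangeRestrict_surjective
  have hc : Nat.card PU52p.P.Grp ≤ Nat.card f.range := by
    rw [range_eq, sub_card_eq, cK]
  have hb : Function.Bijective f.rangeRestrict := hs.bijective_of_nat_card_le hc
  intro x y hxy
  apply hb.1
  apply Subtype.ext
  exact hxy

/-- stem extensions split over the subgroup -/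
theorem liftsP_sub (p : ℕ) (hp : p.Prime) :
    LiftsP PC3U62.P.Grp (Inst.subG PC3U62.P C3U62B.subs) p :=
  liftsP_of_injective f hom_injective _ range_eq p hp U52pSub.perfect (U52pStem.noStem p hp)

end Cfsg.Agent.Lib.Helper4.C3U62Sub
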