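import Mathlib
import Cfsg.Agent.Lib.Helper4.C4U62Cover
import Cfsg.Agent.Lib.Helper4.TCD_SC4U62p2A_Fin
import Cfsg.Agent.Lib.Helper4.TCD_SC4U62p2W
import Cfsg.Agent.Lib.Helper4.StemLib8
import Cfsg.Agent.Lib.Helper4.C4U62Sub

/-! `C4U62` has no stem extension with kernel of order 2 (generated). -/

namespace Cfsg.Agent.Lib.Helper4.SC4U62p2Main

open Cfsg.Agent.Lib.Helper4.TC Cfsg.Agent.Lib.Helper4.TCD Cfsg.Agent.Lib.Helper4.TC.Log Cfsg.Agent.Lib.Helper4.Stem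

/-- the description of the auxiliary presentation -/
def spec : Spec4 :=
  { p := 2
    items := [(0, [], 2),
      (2, [], 5),
      (4, [], 3),
      (6, [], 2),
      (8, [], 3),
      (10, [0, 2, 0, 2, 0, 2, 0, 8, 4, 8, 2, 0, 3, 0, 3, 0, 2, 2], 0),
      (12, [0, 2, 0, 2, 0, 2, 0, 3, 3, 0, 3, 4, 6, 2, 2, 6, 0, 3, 8, 6, 8, 5, 2, 6, 9, 3, 3], 0),
      (14, [0, 2, 0, 2, 0, 2, 4, 6, 2, 0, 8, 2, 0, 3, 9, 0, 3], 0),
      (16, [10, 10], 0),
      (18, [12, 12], 0),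
      (20, [11, 1, 10, 0], 0),
      (22, [11, 3, 10, 2], 0),
      (24, [11, 5, 10, 4], 0),
      (26, [11, 7, 10, 6], 0),
      (28, [11, 9, 10, 8], 0),
      (30, [13, 1, 12, 0], 0),
      (32, [13, 3, 12, 2], 0),
      (34, [13, 5, 12, 4], 0),
      (36, [13, 7, 12, 6], 0),
      (38, [13, 9, 12, 8], 0),
      (40, [11, 13, 10, 12], 0)]
    cen := [14, 16, 18, 20, 22, 24, 26, 28, 30, 32, 34, 36, 38, 40]
    R := []
    sub := [0, 2, 4, 6]
    PR := [[0, 0], [2, 2, 2, 2, 2], [0, 2, 0, 2, 0, 2, 0, 2, 0, 2, 0, 2, 0, 2, 0, 2, 0, 2], [1, 3, 0, 2, 1, 3, 0, 2, 1, 3, 0, 2], [1, 3, 1, 3, 0, 2, 0, 2, 1, 3, 1, 3, 0, 2, 0, 2], [4, 4, 4], [5, 1, 4, 0], [5, 3, 4, 2], [6, 6], [0, 6, 0, 6, 0, 6], [0, 2, 0, 2, 4, 6, 0, 2, 6]]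
    XR := [] }

/-- the letters of the auxiliary presentation as words of the base group -/
def Wl (l : ℕ) : List ℕ :=
  [[0], [1], [2], [3], [4], [5], [6], [7], [8], [9], [10], [11], [12], [13], [], [], [], [], [], [], [], [], [], [], [], [], [], [], [], [], [], [], [], [], [], [], [], [], [], [], [], []].getD l []

theorem checks_eq : checks spec.toSpec2 PC4U62.P.invR Wl ++ checksX spec PSC4U62p2.P.invR Wl = SC4U62p2W.chkAll := by decide +kernel

theorem sub_eq : Subgroup.closure (xw PC4U62.P Wl '' {l | l ∈ spec.sub}) = Inst.subG PC4U62.P C4U62B.subs := by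
  rw [closure_xw_eq]
  rfl

set_option maxRecDepth 100000 in
theorem noStem : NoStemPrime PC4U62.P.Grp 2 := by
  obtain ⟨fG, hinj, hcard⟩ := C4U62Cover.order_aux
  have hall : ∀ w ∈ checks spec.toSpec2 PC4U62.P.invR Wl ++ checksX spec PSC4U62p2.P.invR Wl, wordP PC4U62.P.gR w = 1 := by
    rw [checks_eq]
    intro w hw
    exact C4U62R.prep.word_eq_one hinj w (SC4U62p2W.hAll_lt w hw) (SC4U62p2W.hAll w hw)
  exact noStemPrime_pres4 PC4U62.P PC4U62.valid PSC4U62p2.P PSC4U62p2.valid spec (by show Nat.Prime 2; norm_num) Wl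
    (by decide +kernel) (by decide +kernel) (fun w hw => hall w (List.mem_append_left _ hw))
    (fun w hw => hall w (List.mem_append_right _ hw)) (by decide +kernel)
    (by rw [sub_eq]; exact C4U62Sub.liftsP_sub 2 (by norm_num))
    13685760 (by rw [sub_eq]; exact C4U62Sub.sub_card.2)
    2688 (by decide) SC4U62p2A.index_eq fG 36787322880 hcard (by decide)

end Cfsg.Agent.Lib.Helper4.SC4U62p2Main
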