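import Mathlib
import Cfsg.Prelude.Def_Classical

/-!
Small tools for checking identities between explicit matrices over small finite fields:
the determinant of a 4 × 4 matrix as a polynomial, products of mapped matrices, and a
matrix criterion for preserving the hermitian form.
-/

namespace Cfsg.Agent.Lib.Helper4.MatWord

open Matrix

/-- the determinant of a 4 × 4 matrix, expanded along the first row -/
def det4 {R : Type*} [CommRing R] (A : Matrix (Fin 4) (Fin 4) R) : R :=
  A 0 0 * (A 1 1 * A 2 2 * A 3 3 - A 1 1 * A 2 3 * A 3 2 - A 1 2 * A 2 1 * A 3 3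
      + A 1 2 * A 2 3 * A 3 1 + A 1 3 * A 2 1 * A 3 2 - A 1 3 * A 2 2 * A 3 1)
  - A 0 1 * (A 1 0 * A 2 2 * A 3 3 - A 1 0 * A 2 3 * A 3 2 - A 1 2 * A 2 0 * A 3 3
      + A 1 2 * A 2 3 * A 3 0 + A 1 3 * A 2 0 * A 3 2 - A 1 3 * A 2 2 * A 3 0)
  + A 0 2 * (A 1 0 * A 2 1 * A 3 3 - A 1 0 * A 2 3 * A 3 1 - A 1 1 * A 2 0 * A 3 3
      + A 1 1 * A 2 3 * A 3 0 + A 1 3 * A 2 0 * A 3 1 - A 1 3 * A 2 1 * A 3 0)
  - A 0 3 * (A 1 0 * A 2 1 * A 3 2 - A 1 0 * A 2 2 * A 3 1 - A 1 1 * A 2 0 * A 3 2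
      + A 1 1 * A 2 2 * A 3 0 + A 1 2 * A 2 0 * A 3 1 - A 1 2 * A 2 1 * A 3 0)

theorem det_eq_det4 {R : Type*} [CommRing R] (A : Matrix (Fin 4) (Fin 4) R) : A.det = det4 A := by
  rw [det_succ_row_zero]
  simp only [det_fin_three, submatrix_apply, Fin.sum_univ_succ, Fin.succ_zero_eq_one, Fin.succ_one_eq_two,
    Fin.val_zero, Fin.val_succ, Fin.zero_succAbove, Fin.succ_succAbove_zero, Fin.succ_succAbove_one,
    Finset.univ_unique, Fin.default_eq_zero, Finset.sum_singleton, Fin.val_eq_zero, det4]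
  simp [Fin.succAbove, Fin.lt_def]
  ring

/-- the entrywise image of a product of matrices -/
theorem map_list_prod {R S : Type*} [Semiring R] [Semiring S] {n : Type*} [Fintype n] [DecidableEq n]
    (φ : R →+* S) (L : List (Matrix n n R)) :
    (L.prod).map φ = (L.map fun M => M.map φ).prod := by
  have := _root_.map_list_prod (φ.mapMatrix (m := n)) L
  rw [RingHom.mapMatrix_apply] at this
  rw [this]
  congr 1

/-- a relation between explicit matrices is kept by a ring homomorphism -/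
theorem list_prod_map_eq_one {R S : Type*} [Semiring R] [Semiring S] {n : Type*} [Fintype n] [DecidableEq n]
    (φ : R →+* S) (L : List (Matrix n n R)) (h : L.prod = 1) :
    (L.map fun M => M.map φ).prod = 1 := by
  rw [← map_list_prod, h]
  exact (φ.mapMatrix (m := n)).map_one

theorem pow_q_sum {F : Type*} [CommSemiring F] {q : ℕ} (hadd : ∀ x y : F, (x + y) ^ q = x ^ q + y ^ q)
    (hq : q ≠ 0) {ι : Type*} (s : Finset ι) (f : ι → F) : (∑ i ∈ s, f i) ^ q = ∑ i ∈ s, f i ^ q := by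
  classical
  induction s using Finset.induction_on with
  | empty => simp [hq]
  | insert a s ha ih => rw [Finset.sum_insert ha, Finset.sum_insert ha, hadd, ih]

/-- a matrix with `Mᵀ * M^(q) = 1` preserves the hermitian form -/
theorem hermForm_mulVec {F : Type*} [Field F] {n q : ℕ} (hq : q ≠ 0)
    (hadd : ∀ x y : F, (x + y) ^ q = x ^ q + y ^ q)
    (M : Matrix (Fin n) (Fin n) F) (h : Mᵀ * M.map (· ^ q) = 1) (u v : Fin n → F) :
    Cfsg.hermForm n F q (M *ᵥ u) (M *ᵥ v) = Cfsg.hermForm n F q u v := by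
  have e1 : ∀ x y : Fin n → F, Cfsg.hermForm n F q x y = x ⬝ᵥ (fun i => y i ^ q) := fun x y => rfl
  have e2 : (fun i => (M *ᵥ v) i ^ q) = (M.map (· ^ q)) *ᵥ (fun i => v i ^ q) := by
    funext i
    simp only [mulVec, dotProduct, map_apply]
    rw [pow_q_sum hadd hq]
    exact Finset.sum_congr rfl fun j _ => mul_pow _ _ _
  rw [e1, e1, e2, ← vecMul_transpose, ← dotProduct_mulVec, mulVec_mulVec, h, one_mulVec]

end Cfsg.Agent.Lib.Helper4.MatWord
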