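import Mathlib
import Cfsg.Agent.Lib.Helper4.MatWord

/-!
Determinants of 5 × 5 and 6 × 6 matrices by expansion along the first row (computable, for explicit matrices
over small finite rings).
-/

namespace Cfsg.Agent.Lib.Helper4.MatWord

open Matrix

/-- the determinant of a 5 × 5 matrix, expanded along the first row -/
def det5 {R : Type*} [CommRing R] (A : Matrix (Fin 5) (Fin 5) R) : R :=
  ∑ j : Fin 5, (-1) ^ (j : ℕ) * A 0 j * det4 (A.submatrix Fin.succ j.succAbove)

theorem det_eq_det5 {R : Type*} [CommRing R] (A : Matrix (Fin 5) (Fin 5) R) : A.det = det5 A := by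
  rw [det_succ_row_zero]
  unfold det5
  apply Finset.sum_congr rfl
  intro j _
  rw [det_eq_det4]

/-- the determinant of a 6 × 6 matrix, expanded along the first row -/
def det6 {R : Type*} [CommRing R] (A : Matrix (Fin 6) (Fin 6) R) : R :=
  ∑ j : Fin 6, (-1) ^ (j : ℕ) * A 0 j * det5 (A.submatrix Fin.succ j.succAbove)

theorem det_eq_det6 {R : Type*} [CommRing R] (A : Matrix (Fin 6) (Fin 6) R) : A.det = det6 A := by
  rw [det_succ_row_zero]
  unfold det6
  apply Finset.sum_congr rfl
  intro j _
  rw [det_eq_det5]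

end Cfsg.Agent.Lib.Helper4.MatWord
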