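import Mathlib
import Cfsg.Prelude.Def_Classical
import Cfsg.Prelude.Def_LieClassical
import Cfsg.Agent.Lib.Helper4.MatWord
import Cfsg.Agent.Lib.Helper4.TC20
import Cfsg.Agent.Lib.Helper4.U42pMain
import Cfsg.Agent.Lib.Helper4.RepLib
import Cfsg.Agent.Lib.Helper5.HermCard

/-!
The presented group `U42p` of order 25920 is isomorphic to `PSU₄(2)`: explicit unitary matrices over the
field with four elements satisfy the relators.
-/

namespace Cfsg.Agent.Lib.Helper4.U42SU

open Matrix Cfsg.Agent.Lib.Helper4.TC Cfsg.Agent.Lib.Helper4.TC.Log Cfsg.Agent.Lib.Helper4.MatWord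

/-- the field with four elements: `re + im * ω` with `ω² = ω + 1` -/
@[ext] structure F4c where
  re : ZMod 2
  im : ZMod 2
deriving DecidableEq, Fintype

namespace F4c

instance : Zero F4c := ⟨⟨0, 0⟩⟩
instance : One F4c := ⟨⟨1, 0⟩⟩
instance : Add F4c := ⟨fun a b => ⟨a.re + b.re, a.im + b.im⟩⟩
instance : Neg F4c := ⟨fun a => a⟩
instance : Mul F4c := ⟨fun a b => ⟨a.re * b.re + a.im * b.im, a.re * b.im + a.im * b.re + a.im * b.im⟩⟩

instance : CommRing F4c where
  add_assoc := by decide
  zero_add := by decide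
  add_zero := by decide
  nsmul := nsmulRec
  zsmul := zsmulRec
  neg_add_cancel := by decide
  add_comm := by decide
  left_distrib := by decide
  right_distrib := by decide
  zero_mul := by decide
  mul_zero := by decide
  mul_assoc := by decide
  one_mul := by decide
  mul_one := by decide
  mul_comm := by decide

@[simp] theorem zero_re : (0 : F4c).re = 0 := rfl
@[simp] theorem zero_im : (0 : F4c).im = 0 := rfl
@[simp] theorem one_re : (1 : F4c).re = 1 := rfl
@[simp] theorem one_im : (1 : F4c).im = 0 := rfl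
@[simp] theorem add_re (a b : F4c) : (a + b).re = a.re + b.re := rfl
@[simp] theorem add_im (a b : F4c) : (a + b).im = a.im + b.im := rfl
@[simp] theorem mul_re (a b : F4c) : (a * b).re = a.re * b.re + a.im * b.im := rfl
@[simp] theorem mul_im (a b : F4c) : (a * b).im = a.re * b.im + a.im * b.re + a.im * b.im := rfl

def z : F4c := ⟨0, 0⟩
def o : F4c := ⟨1, 0⟩
def w : F4c := ⟨0, 1⟩
def v : F4c := ⟨1, 1⟩

/-- the homomorphism to a field of characteristic two with a root of `X² + X + 1` -/
noncomputable def toF {F : Type*} [Field F] [CharP F 2] (ω : F) (hω : ω ^ 2 = ω + 1) : F4c →+* F where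
  toFun x := ZMod.castHom (dvd_refl 2) F x.re + ZMod.castHom (dvd_refl 2) F x.im * ω
  map_one' := by simp
  map_zero' := by simp
  map_add' := by
    intro a b
    simp only [add_re, add_im, map_add]
    ring
  map_mul' := by
    intro a b
    simp only [mul_re, mul_im, map_add, map_mul]
    linear_combination (-(ZMod.castHom (dvd_refl 2) F a.im * ZMod.castHom (dvd_refl 2) F b.im)) * hω

end F4c

open F4c

/-- the images of the letters -/
def Ac : Matrix (Fin 4) (Fin 4) F4c := !![z, o, o, w; o, z, o, w; o, o, z, w; v, v, v, z]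
def Bc : Matrix (Fin 4) (Fin 4) F4c := !![z, o, o, o; z, w, o, v; v, z, z, z; z, o, w, v]
def Bci : Matrix (Fin 4) (Fin 4) F4c := !![z, z, w, z; o, v, z, o; o, o, z, v; o, w, z, w]

/-- the matrices of the letters -/
def Mc : ℕ → Matrix (Fin 4) (Fin 4) F4c
  | 0 => Ac
  | 1 => Ac
  | 2 => Bc
  | 3 => Bci
  | _ => 1

set_option maxRecDepth 100000 in
theorem c_det : ∀ l, l < 4 → det4 (Mc l) = 1 := by decide +kernel

set_option maxRecDepth 100000 in
theorem c_unit : ∀ l, l < 4 → (Mc l)ᵀ * (Mc l).map (· ^ 2) = 1 := by decide +kernel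

set_option maxRecDepth 100000 in
theorem c_rel : ∀ L ∈ PU42p.P.real ++ [[0, 1], [1, 0], [2, 3], [3, 2]], (L.map Mc).prod = 1 := by
  decide +kernel


section Field

variable {F : Type*} [Field F] [Fintype F]

theorem charP_two (hF : Fintype.card F = 4) : CharP F 2 := by
  obtain ⟨p, hp⟩ := CharP.exists F
  obtain ⟨n, hpr, hc⟩ := FiniteField.card F p
  rw [hF] at hc
  have h2 : p ∣ 2 ^ 2 := by
    rw [show (2 : ℕ) ^ 2 = 4 from rfl, hc]
    exact dvd_pow_self p n.ne_zero
  have : p = 2 := (Nat.prime_dvd_prime_iff_eq hpr Nat.prime_two).1 (hpr.dvd_of_dvd_pow h2)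
  subst this
  exact hp

theorem exists_omega (hF : Fintype.card F = 4) : ∃ ω : F, ω ^ 2 = ω + 1 := by
  classical
  have := charP_two hF
  have hex : ∃ ω : F, ω ≠ 0 ∧ ω ≠ 1 := by
    by_contra hcon
    push Not at hcon
    have hsub : (Finset.univ : Finset F) ⊆ {0, 1} := by
      intro x _
      by_cases hx : x = 0
      · simp [hx]
      · simp [hcon x hx]
    have := Finset.card_le_card hsub
    rw [Finset.card_univ, hF] at this
    have h2 : ({0, 1} : Finset F).card ≤ 2 := Finset.card_le_two
    omega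
  obtain ⟨ω, h0, h1⟩ := hex
  refine ⟨ω, ?_⟩
  have h3 : ω ^ 3 = 1 := by
    have := FiniteField.pow_card_sub_one_eq_one ω h0
    rwa [hF] at this
  have h4 : (ω - 1) * (ω ^ 2 + ω + 1) = 0 := by linear_combination h3
  rcases mul_eq_zero.1 h4 with h | h
  · exact absurd (sub_eq_zero.1 h) h1
  · have h5 : (2 : F) = 0 := CharP.ofNat_eq_zero F 2
    linear_combination h - (ω + 1) * h5

theorem add_pow_two (hF : Fintype.card F = 4) (x y : F) : (x + y) ^ 2 = x ^ 2 + y ^ 2 := by
  have := charP_two hF
  have h5 : (2 : F) = 0 := CharP.ofNat_eq_zero F 2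
  linear_combination (x * y) * h5

end Field

section Hom

variable {F : Type*} [Field F] [Fintype F]

/-- the special unitary matrix that is the image of an explicit matrix -/
noncomputable def mkSU (hF : Fintype.card F = 4) (φ : F4c →+* F) (M : Matrix (Fin 4) (Fin 4) F4c) (hd : det4 M = 1)
    (hu : Mᵀ * M.map (· ^ 2) = 1) : ↥(Cfsg.SU 4 F 2) :=
  ⟨⟨M.map φ, by
    have h := RingHom.map_det φ M
    rw [RingHom.mapMatrix_apply] at h
    rw [← h, det_eq_det4, hd, map_one]⟩, by
    intro u v
    apply hermForm_mulVec (by norm_num) (add_pow_two hF)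
    show ((M.map φ)ᵀ * (M.map φ).map (· ^ 2)) = 1
    have e : (M.map φ).map (· ^ 2) = (M.map (· ^ 2)).map φ := by
      ext i j
      simp [map_pow]
    rw [e, ← Matrix.transpose_map, ← Matrix.map_mul, hu]
    exact (φ.mapMatrix (m := Fin 4)).map_one⟩

/-- the matrix of an element of the special unitary group -/
noncomputable def toMat : ↥(Cfsg.SU 4 F 2) →* Matrix (Fin 4) (Fin 4) F :=
  (Cfsg.slToMat 4 F).comp (Cfsg.SU 4 F 2).subtype

omit [Fintype F] in
theorem toMat_injective : Function.Injective (toMat (F := F)) := by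
  intro x y h
  apply Subtype.ext
  apply Subtype.ext
  exact h

theorem toMat_mkSU (hF : Fintype.card F = 4) (φ : F4c →+* F) (M : Matrix (Fin 4) (Fin 4) F4c) (hd : det4 M = 1)
    (hu : Mᵀ * M.map (· ^ 2) = 1) : toMat (mkSU hF φ M hd hu) = M.map φ := rfl

/-- the images of the letters in the special unitary group -/
noncomputable def gU (hF : Fintype.card F = 4) (φ : F4c →+* F) (l : ℕ) : ↥(Cfsg.SU 4 F 2) :=
  if h : l < 4 then mkSU hF φ (Mc l) (c_det l h) (c_unit l h) else 1

theorem toMat_gU (hF : Fintype.card F = 4) (φ : F4c →+* F) (l : ℕ) : toMat (gU hF φ l) = (Mc l).map φ := by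
  unfold gU
  split_ifs with h
  · rfl
  · rw [map_one]
    have : Mc l = 1 := by
      match l, h with
      | 0, h => exact absurd (by norm_num) h
      | 1, h => exact absurd (by norm_num) h
      | 2, h => exact absurd (by norm_num) h
      | 3, h => exact absurd (by norm_num) h
      | (n + 4), _ => rfl
    rw [this]
    exact ((φ.mapMatrix (m := Fin 4)).map_one).symm

theorem wordP_gU (hF : Fintype.card F = 4) (φ : F4c →+* F) (L : List ℕ) (h : (L.map Mc).prod = 1) : wordP (gU hF φ) L = 1 := by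
  apply toMat_injective
  rw [map_one, wordP, _root_.map_list_prod, List.map_map]
  have e : (toMat ∘ gU hF φ) = fun l => (Mc l).map φ := by
    funext l
    exact toMat_gU hF φ l
  rw [e]
  have := list_prod_map_eq_one φ (L.map Mc) h
  rwa [List.map_map] at this

theorem exists_hom (hF : Fintype.card F = 4) (φ : F4c →+* F) :
    ∃ ψ : PU42p.P.Grp →* ↥(Cfsg.SU 4 F 2), ∀ l, l < 4 → ψ (PU42p.P.gR l) = gU hF φ l := by
  apply exists_hom_of_letters PU42p.P PU42p.valid (gU hF φ)
  · intro l hl
    have hl : l < 4 := hl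
    have h := wordP_gU hF φ [l, PU42p.P.invR l]
    rw [wordP_cons, wordP_cons, wordP_nil, mul_one] at h
    apply h
    interval_cases l
    · exact c_rel [0, 1] (by simp)
    · exact c_rel [1, 0] (by simp)
    · exact c_rel [2, 3] (by simp)
    · exact c_rel [3, 2] (by simp)
  · intro L hL
    exact wordP_gU hF φ L (c_rel L (List.mem_append_left _ hL))

theorem card_SU (hF : Fintype.card F = 4) : Nat.card ↥(Cfsg.SU 4 F 2) = 25920 := by
  have hF' : Fintype.card F = 2 ^ 2 := by rw [hF]; norm_num
  have h1 := Cfsg.Agent.Lib.Helper5.HermCard.card_SU hF' 4 (by norm_num)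
  have h2 := Cfsg.Agent.Lib.Helper5.HermCard.card_GU hF' 4
  rw [h2] at h1
  have h3 : (2 : ℕ) ^ (4 * (4 - 1) / 2) *
      ∏ i ∈ Finset.range 4, (if Even i then 2 ^ (i + 1) + 1 else 2 ^ (i + 1) - 1) = 77760 := by
    decide
  rw [h3] at h1
  omega

/-- the presented group is the special unitary group -/
theorem equiv_SU (hF : Fintype.card F = 4) : Nonempty (PU42p.P.Grp ≃* ↥(Cfsg.SU 4 F 2)) := by
  have := charP_two hF
  obtain ⟨ω, hω⟩ := exists_omega hF
  obtain ⟨ψ, hψ⟩ := exists_hom hF (F4c.toF ω hω)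
  obtain ⟨fG, _, hcard⟩ := U42pMain.order_aux
  have hinj : Function.Injective ψ := by
    apply RepLib.injective_of_simple U42pMain.simple_aux ψ (PU42p.P.gR 0)
    rw [hψ 0 (by norm_num)]
    intro h
    have h2 := congrArg toMat h
    rw [toMat_gU, map_one] at h2
    have h3 := congrFun (congrFun h2 0) 0
    simp [Mc, Ac, F4c.toF, z] at h3
  have hfin : Finite ↥(Cfsg.SU 4 F 2) := inferInstance
  have hbij : Function.Bijective ψ := by
    rw [Nat.bijective_iff_injective_and_card]
    exact ⟨hinj, by rw [hcard, card_SU hF]⟩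
  exact ⟨MulEquiv.ofBijective ψ hbij⟩

/-- the presented group is the projective special unitary group -/
theorem equiv_PSU (hF : Fintype.card F = 4) : Nonempty (PU42p.P.Grp ≃* Cfsg.PSU 4 F 2) := by
  obtain ⟨e⟩ := equiv_SU hF
  have hs : IsSimpleGroup ↥(Cfsg.SU 4 F 2) := RepLib.simple_of_equiv e U42pMain.simple_aux
  have hc : Subgroup.center ↥(Cfsg.SU 4 F 2) = ⊥ := by
    rcases hs.eq_bot_or_eq_top_of_normal (Subgroup.center ↥(Cfsg.SU 4 F 2)) inferInstance with h | h
    · exact h
    · exfalso
      -- the group would be commutative, of prime order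
      have hcomm : ∀ a b : ↥(Cfsg.SU 4 F 2), a * b = b * a := by
        intro a b
        have hb : b ∈ Subgroup.center ↥(Cfsg.SU 4 F 2) := by rw [h]; trivial
        exact Subgroup.mem_center_iff.1 hb a
      letI : CommGroup ↥(Cfsg.SU 4 F 2) := { (inferInstance : Group ↥(Cfsg.SU 4 F 2)) with mul_comm := hcomm }
      have hp := IsSimpleGroup.prime_card (α := ↥(Cfsg.SU 4 F 2))
      rw [card_SU hF] at hp
      exact absurd hp (by norm_num)
  refine ⟨e.trans ?_⟩
  exact (QuotientGroup.quotientBot (G := ↥(Cfsg.SU 4 F 2))).symm.trans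
    (QuotientGroup.quotientMulEquivOfEq hc.symm)

end Hom

end Cfsg.Agent.Lib.Helper4.U42SU
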