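import Mathlib
import Cfsg.Prelude.Def_Classical
import Cfsg.Agent.Lib.Helper4.MatWord
import Cfsg.Agent.Lib.Helper4.Det6
import Cfsg.Agent.Lib.Helper4.TC20
import Cfsg.Agent.Lib.Helper4.U62pMain
import Cfsg.Agent.Lib.Helper4.U42SU
import Cfsg.Agent.Lib.Helper4.RepLib
import Cfsg.Agent.S0280

/-!
The presented group `U62p` of order 9196830720 is isomorphic to `PSU₆(2)`: explicit unitary matrices over the
field with four elements satisfy the relators up to scalars.
-/

namespace Cfsg.Agent.Lib.Helper4.U62Iso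

open Matrix Cfsg.Agent.Lib.Helper4.TC Cfsg.Agent.Lib.Helper4.TC.Log Cfsg.Agent.Lib.Helper4.MatWord
open Cfsg.Agent.Lib.Helper4.U42SU (F4c charP_two exists_omega add_pow_two)
open Cfsg.Agent.Lib.Helper4.U42SU.F4c (z o w v)

theorem exists_inv : ∀ x : F4c, x ≠ 0 → ∃ y : F4c, x * y = 1 := by decide +kernel

theorem toF_injective {F : Type*} [Field F] [CharP F 2] (ω : F) (hω : ω ^ 2 = ω + 1) :
    Function.Injective (F4c.toF ω hω) := by
  rw [injective_iff_map_eq_zero]
  intro x hx
  by_contra hne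
  obtain ⟨y, hy⟩ := exists_inv x hne
  have h := congrArg (F4c.toF ω hω) hy
  rw [map_mul, hx, zero_mul, map_one] at h
  exact zero_ne_one h

/-- the images of the letters -/
def Ac : Matrix (Fin 6) (Fin 6) F4c := !![z, o, o, v, z, z; o, z, o, v, z, z; o, o, z, v, z, z; w, w, w, z, z, z; z, z, z, z, o, z; z, z, z, z, z, o]
def Aci : Matrix (Fin 6) (Fin 6) F4c := !![z, o, o, v, z, z; o, z, o, v, z, z; o, o, z, v, z, z; w, w, w, z, z, z; z, z, z, z, o, z; z, z, z, z, z, o]
def Bc : Matrix (Fin 6) (Fin 6) F4c := !![z, z, v, z, z, z; o, w, z, o, z, z; o, o, z, w, z, z; o, v, z, v, z, z; z, z, z, z, o, z; z, z, z, z, z, o]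
def Bci : Matrix (Fin 6) (Fin 6) F4c := !![z, o, o, o, z, z; z, v, o, w, z, z; w, z, z, z, z, z; z, o, v, w, z, z; z, z, z, z, o, z; z, z, z, z, z, o]
def Wc : Matrix (Fin 6) (Fin 6) F4c := !![w, z, z, z, z, z; z, w, z, z, z, z; z, z, w, z, z, z; z, z, z, w, z, z; z, z, z, z, v, z; z, z, z, z, z, o]
def Wci : Matrix (Fin 6) (Fin 6) F4c := !![v, z, z, z, z, z; z, v, z, z, z, z; z, z, v, z, z, z; z, z, z, v, z, z; z, z, z, z, w, z; z, z, z, z, z, o]
def Uc : Matrix (Fin 6) (Fin 6) F4c := !![z, v, z, w, o, z; w, z, z, v, w, z; z, z, o, z, z, z; v, w, z, z, v, z; o, v, z, w, z, z; z, z, z, z, z, o]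
def Uci : Matrix (Fin 6) (Fin 6) F4c := !![z, v, z, w, o, z; w, z, z, v, w, z; z, z, o, z, z, z; v, w, z, z, v, z; o, v, z, w, z, z; z, z, z, z, z, o]
def Vc : Matrix (Fin 6) (Fin 6) F4c := !![o, w, v, o, v, z; o, w, o, z, o, w; v, w, w, z, v, o; w, z, z, o, w, z; v, w, v, o, o, z; z, o, w, z, z, w]
def Vci : Matrix (Fin 6) (Fin 6) F4c := !![o, o, w, v, w, z; v, v, v, z, v, o; w, o, v, z, w, v; o, z, z, o, o, z; w, o, w, v, o, z; z, v, o, z, z, v]

/-- the matrices of the letters -/
def Mc : ℕ → Matrix (Fin 6) (Fin 6) F4c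
  | 0 => Ac
  | 1 => Aci
  | 2 => Bc
  | 3 => Bci
  | 4 => Wc
  | 5 => Wci
  | 6 => Uc
  | 7 => Uci
  | 8 => Vc
  | 9 => Vci
  | _ => 1

/-- a matrix is scalar -/
def IsScal (M : Matrix (Fin 6) (Fin 6) F4c) : Prop := M = M 0 0 • (1 : Matrix (Fin 6) (Fin 6) F4c)

instance (M : Matrix (Fin 6) (Fin 6) F4c) : Decidable (IsScal M) := by
  unfold IsScal
  infer_instance

set_option maxRecDepth 100000 in
theorem c_det : ∀ l, l < 10 → det6 (Mc l) = 1 := by decide +kernel

set_option maxRecDepth 100000 in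
theorem c_unit : ∀ l, l < 10 → (Mc l)ᵀ * (Mc l).map (· ^ 2) = 1 := by decide +kernel

set_option maxRecDepth 100000 in
theorem c_rel : ∀ L ∈ PU62p.P.real ++ [[0, 1], [1, 0], [2, 3], [3, 2], [4, 5], [5, 4], [6, 7], [7, 6], [8, 9], [9, 8]],
    IsScal (L.map Mc).prod := by
  decide +kernel

set_option maxRecDepth 100000 in
theorem c_noncomm : Mc 0 * Mc 2 ≠ Mc 2 * Mc 0 := by decide +kernel

section Hom

variable {F : Type*} [Field F] [Fintype F]

/-- the special unitary matrix that is the image of an explicit matrix -/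
noncomputable def mkSU (hF : Fintype.card F = 4) (φ : F4c →+* F) (M : Matrix (Fin 6) (Fin 6) F4c) (hd : det6 M = 1)
    (hu : Mᵀ * M.map (· ^ 2) = 1) : ↥(Cfsg.SU 6 F 2) :=
  ⟨⟨M.map φ, by
    have h := RingHom.map_det φ M
    rw [RingHom.mapMatrix_apply] at h
    rw [← h, det_eq_det6, hd, map_one]⟩, by
    intro u v
    apply hermForm_mulVec (by norm_num) (add_pow_two hF)
    show ((M.map φ)ᵀ * (M.map φ).map (· ^ 2)) = 1
    have e : (M.map φ).map (· ^ 2) = (M.map (· ^ 2)).map φ := by
      ext i j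
      simp [map_pow]
    rw [e, ← Matrix.transpose_map, ← Matrix.map_mul, hu]
    exact (φ.mapMatrix (m := Fin 6)).map_one⟩

/-- the matrix of an element of the special unitary group -/
noncomputable def toMat : ↥(Cfsg.SU 6 F 2) →* Matrix (Fin 6) (Fin 6) F :=
  (Cfsg.slToMat 6 F).comp (Cfsg.SU 6 F 2).subtype

omit [Fintype F] in
theorem toMat_injective : Function.Injective (toMat (F := F)) := by
  intro x y h
  apply Subtype.ext
  apply Subtype.ext
  exact h

/-- the images of the letters in the special unitary group -/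
noncomputable def gU (hF : Fintype.card F = 4) (φ : F4c →+* F) (l : ℕ) : ↥(Cfsg.SU 6 F 2) :=
  if h : l < 10 then mkSU hF φ (Mc l) (c_det l h) (c_unit l h) else 1

theorem toMat_gU (hF : Fintype.card F = 4) (φ : F4c →+* F) (l : ℕ) : toMat (gU hF φ l) = (Mc l).map φ := by
  unfold gU
  split_ifs with h
  · rfl
  · rw [map_one]
    have : Mc l = 1 := by
      match l, h with
      | 0, h => exact absurd (by norm_num) h
      | 1, h => exact absurd (by norm_num) h
      | 2, h => exact absurd (by norm_num) h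
      | 3, h => exact absurd (by norm_num) h
      | 4, h => exact absurd (by norm_num) h
      | 5, h => exact absurd (by norm_num) h
      | 6, h => exact absurd (by norm_num) h
      | 7, h => exact absurd (by norm_num) h
      | 8, h => exact absurd (by norm_num) h
      | 9, h => exact absurd (by norm_num) h
      | (n + 10), _ => rfl
    rw [this]
    exact ((φ.mapMatrix (m := Fin 6)).map_one).symm

theorem toMat_wordP (hF : Fintype.card F = 4) (φ : F4c →+* F) (L : List ℕ) :
    toMat (wordP (gU hF φ) L) = ((L.map Mc).prod).map φ := by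
  rw [wordP, _root_.map_list_prod, List.map_map]
  have e : (toMat ∘ gU hF φ) = fun l => (Mc l).map φ := by
    funext l
    exact toMat_gU hF φ l
  rw [e, MatWord.map_list_prod, List.map_map]
  rfl

/-- words evaluating to scalar matrices are central -/
theorem wordP_gU_center (hF : Fintype.card F = 4) (φ : F4c →+* F) (L : List ℕ) (h : IsScal (L.map Mc).prod) :
    wordP (gU hF φ) L ∈ Subgroup.center ↥(Cfsg.SU 6 F 2) := by
  rw [Subgroup.mem_center_iff]
  intro g
  apply toMat_injective
  have hz : toMat (wordP (gU hF φ) L) = φ ((L.map Mc).prod 0 0) • (1 : Matrix (Fin 6) (Fin 6) F) := by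
    rw [toMat_wordP]
    conv_lhs => rw [h]
    ext a b
    simp only [Matrix.map_apply, Matrix.smul_apply, smul_eq_mul, Matrix.one_apply]
    split_ifs <;> simp
  rw [map_mul, map_mul, hz, Matrix.mul_smul, Matrix.smul_mul, mul_one, one_mul]

/-- the images of the letters in the projective special unitary group -/
noncomputable def gP (hF : Fintype.card F = 4) (φ : F4c →+* F) (l : ℕ) : Cfsg.PSU 6 F 2 :=
  QuotientGroup.mk (gU hF φ l)

theorem wordP_gP (hF : Fintype.card F = 4) (φ : F4c →+* F) (L : List ℕ) :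
    wordP (gP hF φ) L = QuotientGroup.mk (wordP (gU hF φ) L) := by
  induction L with
  | nil => rfl
  | cons a L ih => rw [wordP_cons, wordP_cons, ih]; rfl

theorem wordP_gP_eq_one (hF : Fintype.card F = 4) (φ : F4c →+* F) (L : List ℕ) (h : IsScal (L.map Mc).prod) :
    wordP (gP hF φ) L = 1 := by
  rw [wordP_gP, QuotientGroup.eq_one_iff]
  exact wordP_gU_center hF φ L h

theorem exists_hom (hF : Fintype.card F = 4) (φ : F4c →+* F) :
    ∃ ψ : PU62p.P.Grp →* Cfsg.PSU 6 F 2, ∀ l, l < 10 → ψ (PU62p.P.gR l) = gP hF φ l := by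
  apply exists_hom_of_letters PU62p.P PU62p.valid (gP hF φ)
  · intro l hl
    have hl : l < 10 := hl
    have h := wordP_gP_eq_one hF φ [l, PU62p.P.invR l]
    rw [wordP_cons, wordP_cons, wordP_nil, mul_one] at h
    apply h
    interval_cases l
    · exact c_rel [0, 1] (by simp)
    · exact c_rel [1, 0] (by simp)
    · exact c_rel [2, 3] (by simp)
    · exact c_rel [3, 2] (by simp)
    · exact c_rel [4, 5] (by simp)
    · exact c_rel [5, 4] (by simp)
    · exact c_rel [6, 7] (by simp)
    · exact c_rel [7, 6] (by simp)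
    · exact c_rel [8, 9] (by simp)
    · exact c_rel [9, 8] (by simp)
  · intro L hL
    exact wordP_gP_eq_one hF φ L (c_rel L (List.mem_append_left _ hL))

theorem card_PSU (hF : Fintype.card F = 4) : Nat.card (Cfsg.PSU 6 F 2) = 9196830720 := by
  have hF' : Fintype.card F = 2 ^ 2 := by rw [hF]; norm_num
  have h := Cfsg.Agent.S0280.result hF' 6 (by norm_num)
  have h1 : Nat.gcd 6 (2 + 1) = 3 := by decide
  rw [h1] at h
  have h2 : (2 : ℕ) ^ (6 * (6 - 1) / 2) * ∏ i ∈ Finset.range 6,
      (if Even i then 2 ^ (i + 1) + 1 else 2 ^ (i + 1) - 1) = 3 * ((2 + 1) * 9196830720) := by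
    decide
  rw [h2] at h
  omega

/-- the presented group is the projective special unitary group -/
theorem iso (hF : Fintype.card F = 4) : Nonempty (PU62p.P.Grp ≃* Cfsg.PSU 6 F 2) := by
  have := charP_two hF
  obtain ⟨ω, hω⟩ := exists_omega hF
  have hφ := toF_injective ω hω
  obtain ⟨ψ, hψ⟩ := exists_hom hF (F4c.toF ω hω)
  obtain ⟨fG, _, hcard⟩ := U62pMain.order_aux
  have hinj : Function.Injective ψ := by
    apply RepLib.injective_of_simple U62pMain.simple_aux ψ (PU62p.P.gR 0)
    rw [hψ 0 (by norm_num)]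
    intro h
    have hc : gU hF (F4c.toF ω hω) 0 ∈ Subgroup.center ↥(Cfsg.SU 6 F 2) := by
      rwa [gP, QuotientGroup.eq_one_iff] at h
    rw [Subgroup.mem_center_iff] at hc
    have h2 := congrArg toMat (hc (gU hF (F4c.toF ω hω) 2))
    rw [map_mul, map_mul, toMat_gU, toMat_gU, ← Matrix.map_mul, ← Matrix.map_mul] at h2
    exact c_noncomm (Matrix.map_injective hφ h2).symm
  have hfin : Finite (Cfsg.PSU 6 F 2) := inferInstance
  have hbij : Function.Bijective ψ := by
    apply hinj.bijective_of_nat_card_le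
    rw [hcard, card_PSU hF]
  exact ⟨MulEquiv.ofBijective ψ hbij⟩

end Hom

end Cfsg.Agent.Lib.Helper4.U62Iso
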