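import Mathlib
import Cfsg.Prelude.Def_KGroupFacts
import Cfsg.Agent.Lib.Helper4.U62Iso
import Cfsg.Agent.Lib.Helper4.C3U62Cover
import Cfsg.Agent.Lib.Helper4.C4U62Cover
import Cfsg.Agent.Lib.Helper4.SC3U62p3Main
import Cfsg.Agent.Lib.Helper4.SC4U62p2Main
import Cfsg.Agent.Lib.Helper4.FibreCover

/-!
The Schur multiplier of the unitary group `PSU₆(2)` is the product of cyclic groups of orders 3, 2 and 2: the fibre
product of the presented triple cover `C3U62` and the presented fourfold cover `C4U62` is a stem extension with kernel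
of order 12 without further stem extensions with kernel of prime order.
-/

set_option autoImplicit false

namespace Cfsg.Agent.Lib.Helper4.C12U62Stem

open Cfsg Cfsg.Agent.Lib.Helper4.TC Cfsg.Agent.Lib.Helper4.TCD Cfsg.Agent.Lib.Helper4.TC.Log
  Cfsg.Agent.Lib.Helper4.Stem

/-- the triple cover has no stem extension with kernel of prime order other than 2 -/
theorem noStem3 : ∀ p, p.Prime → p ≠ 2 → NoStemPrime PC3U62.P.Grp p := by
  obtain ⟨fG, _, hcard⟩ := C3U62Cover.order_aux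
  have := fG
  intro p hp h2'
  by_cases h1 : p ∣ Nat.card PC3U62.P.Grp
  · by_cases h2 : p ^ 2 ∣ Nat.card PC3U62.P.Grp
    · rw [hcard] at h1 h2
      have hm : p ∈ [2, 3] := sq_dvd_mem_of_factors 27590492160
        [2, 2, 2, 2, 2, 2, 2, 2, 2, 2, 2, 2, 2, 2, 2, 3, 3, 3, 3, 3, 3, 3, 5, 7, 11] (by norm_num) (by decide)
        [2, 3] (by decide) p hp h1 h2
      simp only [List.mem_cons, List.not_mem_nil, or_false] at hm
      rcases hm with rfl | rfl
      · exact absurd rfl h2'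
      · exact SC3U62p3Main.noStem
    · exact noStemPrime_of_sq_not_dvd _ p hp h2
  · exact noStemPrime_of_not_dvd _ p hp h1

/-- the Schur multiplier of `PSU₆(2)` -/
theorem hasMult {F : Type*} [Field F] [Fintype F] (hF : Fintype.card F = 4) :
    Cfsg.HasSchurMultiplier (Cfsg.PSU 6 F 2) (Multiplicative (ZMod 3 × ZMod 2 × ZMod 2)) := by
  obtain ⟨e⟩ := U62Iso.iso hF
  obtain ⟨f3, _, _⟩ := C3U62Cover.order_aux
  have := f3
  obtain ⟨f4, _, _⟩ := C4U62Cover.order_aux
  have := f4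
  obtain ⟨fL, _, _⟩ := U62pMain.order_aux
  have := fL
  have : Finite (Cfsg.PSU 6 F 2) := Finite.of_equiv _ e.toEquiv
  let τ3 : PC3U62.P.Grp →* Cfsg.PSU 6 F 2 := e.toMonoidHom.comp C3U62Cover.π
  let τ4 : PC4U62.P.Grp →* Cfsg.PSU 6 F 2 := e.toMonoidHom.comp C4U62Cover.π
  have hker3 : τ3.ker = C3U62Cover.π.ker := by
    ext x
    rw [MonoidHom.mem_ker, MonoidHom.mem_ker]
    show e (C3U62Cover.π x) = 1 ↔ _
    exact EmbeddingLike.map_eq_one_iff
  have hker4 : τ4.ker = C4U62Cover.π.ker := by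
    ext x
    rw [MonoidHom.mem_ker, MonoidHom.mem_ker]
    show e (C4U62Cover.π x) = 1 ↔ _
    exact EmbeddingLike.map_eq_one_iff
  have hτ3 : IsStemExtension τ3 := by
    refine ⟨?_, ?_, ?_⟩
    · exact e.surjective.comp C3U62Cover.isStem.1
    · rw [hker3]
      exact C3U62Cover.isStem.2.1
    · rw [hker3]
      exact C3U62Cover.isStem.2.2
  have hτ4 : IsStemExtension τ4 := by
    refine ⟨?_, ?_, ?_⟩
    · exact e.surjective.comp C4U62Cover.isStem.1
    · rw [hker4]
      exact C4U62Cover.isStem.2.1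
    · rw [hker4]
      exact C4U62Cover.isStem.2.2
  have hc3 : Nat.card τ3.ker = 3 := by rw [hker3]; exact C3U62Cover.card_ker
  have hc4 : Nat.card τ4.ker = 4 := by rw [hker4]; exact C4U62Cover.card_ker
  obtain ⟨ek3⟩ := C3U62Cover.ker_equiv
  obtain ⟨ek4⟩ := C4U62Cover.ker_equiv
  have ek : τ3.ker × τ4.ker ≃* Multiplicative (ZMod 3 × ZMod 2 × ZMod 2) :=
    (MulEquiv.prodCongr ((MulEquiv.subgroupCongr hker3).trans ek3) ((MulEquiv.subgroupCongr hker4).trans ek4)).trans
      (MulEquiv.prodMultiplicative (ZMod 3) (ZMod 2 × ZMod 2)).symm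
  apply hasSchurMultiplier_of_fib PC3U62.P.Grp PC4U62.P.Grp τ3 τ4 hτ3 hτ4 C3U62Cover.perfect C4U62Cover.perfect
    (by rw [hc3, hc4]; decide) ek
  intro p hp
  by_cases h2 : p = 2
  · right
    subst h2
    refine ⟨by rw [hc3]; decide, SC4U62p2Main.noStem⟩
  · left
    refine ⟨?_, noStem3 p hp h2⟩
    rw [hc4]
    have : Nat.Coprime 2 p := (Nat.coprime_primes Nat.prime_two hp).2 (Ne.symm h2)
    exact Nat.Coprime.pow_left 2 this

end Cfsg.Agent.Lib.Helper4.C12U62Stem
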