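import Mathlib
import Cfsg.Prelude.Def_SporCoxeter

/-! The double cover 2.A8 of the alternating group of degree 8, of order 40320, presented on two elements `x`, `y` of order 7 (generated). -/

namespace Cfsg.Agent.Lib.Helper4

namespace C2A8

/-- the generators -/
inductive Gen
  | x
  | y
  deriving DecidableEq

abbrev x : FreeGroup Gen := FreeGroup.of Gen.x
abbrev y : FreeGroup Gen := FreeGroup.of Gen.y

/-- no Coxeter graph -/
def edges : List (Gen × ℕ × Gen) := []

/-- the relators -/
def extra : List (FreeGroup Gen) := [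
  x ^ 7,
  y ^ 7,
  x * x * y * x * y * y * y * x⁻¹ * y * y * x⁻¹ * y,
  x * y * x * y⁻¹ * x⁻¹ * y⁻¹ * y⁻¹ * x⁻¹ * y * x * y * y ]

end C2A8

end Cfsg.Agent.Lib.Helper4
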