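import Cfsg.Agent.Lib.Helper4.TCD_C2A8A_C0

namespace Cfsg.Agent.Lib.Helper4.TCD.C2A8A

open Cfsg.Agent.Lib.Helper4.TC

theorem h_rel : ∀ t, 18662 ≤ t → t < 44653 → D.relOK t = true :=
  (range_glue (range_of_allRange c_rel_0) (range_glue (range_of_allRange c_rel_1) (range_glue (range_of_allRange c_rel_2) (range_glue (range_of_allRange c_rel_3) (range_glue (range_of_allRange c_rel_4) (range_glue (range_of_allRange c_rel_5) (range_glue (range_of_allRange c_rel_6) (range_glue (range_of_allRange c_rel_7) (range_glue (range_of_allRange c_rel_8) (range_glue (range_of_allRange c_rel_9) (range_of_allRange c_rel_10)))))))))))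
theorem h_names : ∀ t, 1 ≤ t → t < 18660 → D.nameOK t = true :=
  (range_of_allRange c_names_0)
theorem h_cls : ∀ t, 1 ≤ t → t < 18660 → T.clsOK D t = true :=
  (range_glue (range_of_allRange c_cls_0) (range_of_allRange c_cls_1))
theorem h_rep : ∀ t, 0 ≤ t → t < 5760 → T.repOK D t = true :=
  (range_of_allRange c_rep_0)
theorem h_fin : ∀ i, 0 ≤ i → i < 5760 → ∀ x, x < 4 → T.finOK D i x = true :=
  (range_glue (range_of_allGrid c_fin_0) (range_of_allGrid c_fin_1))
theorem h_perm : ∀ i, 0 ≤ i → i < 5760 → ∀ x, x < 4 → T.permOK1 D i x = true :=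
  (range_of_allGrid c_perm_0)
theorem h_act0 : ∀ i, 0 ≤ i → i < 5760 → Nat.beq (actR0 i) i = true :=
  (range_of_allRange c_act0_0)
theorem h_act1 : ∀ i, 0 ≤ i → i < 5760 → Nat.beq (actR1 i) i = true :=
  (range_of_allRange c_act1_0)
theorem h_act2 : ∀ i, 0 ≤ i → i < 5760 → Nat.beq (actR2 i) i = true :=
  (range_glue (range_of_allRange c_act2_0) (range_of_allRange c_act2_1))
theorem h_act3 : ∀ i, 0 ≤ i → i < 5760 → Nat.beq (actR3 i) i = true :=
  (range_glue (range_of_allRange c_act3_0) (range_of_allRange c_act3_1))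

theorem checked : T.Checked D where
  hz := c_zero
  hn := fun d h0 hd => h_names d h0 hd
  hb := fun j hj => allBelow_eq_true.1 c_base j hj
  hr := fun t h1 h2 => h_rel t h1 h2
  hfin := fun i x hi hx => h_fin i (Nat.zero_le _) hi x hx
  hperm := fun i x hi hx => h_perm i (Nat.zero_le _) hi x hx
  hlet := fun x hx => allBelow_eq_true.1 c_let x hx
  hcls := fun d h0 hd => h_cls d h0 hd
  hrep := fun i hi => h_rep i (Nat.zero_le _) hi
  hcls0 := c_cls0
  hname0 := c_name0
  hN := by decide
  hM := by decide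

theorem h_act : ∀ L ∈ PC2A8.P.real, ∀ i, i < T.N → Tab.relActOK T D L i = true := by
  rw [c_real]
  intro L hL
  simp only [realLit, List.mem_cons, List.not_mem_nil, or_false] at hL
  rcases hL with rfl | rfl | rfl | rfl
  · intro i hi
    rw [Tab.relActOK, ← actR0_eq]
    exact h_act0 i (Nat.zero_le _) hi
  · intro i hi
    rw [Tab.relActOK, ← actR1_eq]
    exact h_act1 i (Nat.zero_le _) hi
  · intro i hi
    rw [Tab.relActOK, ← actR2_eq]
    exact h_act2 i (Nat.zero_le _) hi
  · intro i hi
    rw [Tab.relActOK, ← actR3_eq]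
    exact h_act3 i (Nat.zero_le _) hi

theorem inst : Inst PC2A8.P T D subs where
  hP := PC2A8.valid
  hk := rfl
  hinv := rfl
  hsubs := by
    intro u hu x hx
    have h1 := List.all_eq_true.1 c_subs u hu
    exact ble_succ (List.all_eq_true.1 h1 x hx)
  htab := c_tab
  hC := checked
  hact := h_act
  hsubfix := fun u hu => beq_eq (List.all_eq_true.1 c_subfix u hu)

theorem index_eq : (Inst.subG PC2A8.P subs).index = 5760 := inst.index_eq


end Cfsg.Agent.Lib.Helper4.TCD.C2A8A
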