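import Mathlib
import Cfsg.Agent.Lib.Helper4.C2A8Main
import Cfsg.Agent.Lib.Helper4.TCD_SC2A8p3A_Fin
import Cfsg.Agent.Lib.Helper4.TCD_SC2A8p3W
import Cfsg.Agent.Lib.Helper4.StemLib5

/-! `C2A8` has no stem extension with kernel of order 3 (generated). -/

namespace Cfsg.Agent.Lib.Helper4.SC2A8p3Main

open Cfsg.Agent.Lib.Helper4.TC Cfsg.Agent.Lib.Helper4.TCD Cfsg.Agent.Lib.Helper4.TC.Log Cfsg.Agent.Lib.Helper4.Stem

/-- the description of the auxiliary presentation -/
def spec : Spec2 :=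
  { p := 3
    items := [(0, [], 7),
      (2, [], 7),
      (4, [0, 0, 2, 0, 2, 2, 2, 1, 2, 2, 1, 2], 0),
      (6, [0, 2, 0, 3, 1, 3, 3, 1, 2, 0, 2, 2], 0)]
    cen := [4, 6]
    R := []
    sub := [0]
    PR := [] }

/-- the letters of the auxiliary presentation as words of the base group -/
def Wl (l : ℕ) : List ℕ :=
  [[0], [1], [2], [3], [], [], [], []].getD l []

theorem checks_eq : checks spec PC2A8.P.invR Wl = SC2A8p3W.chkAll := by decide +kernel

set_option maxRecDepth 100000 in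
theorem noStem : NoStemPrime PC2A8.P.Grp 3 := by
  obtain ⟨fG, hinj, hcard⟩ := C2A8Main.order_aux
  have hchecks : ∀ w ∈ checks spec PC2A8.P.invR Wl, wordP PC2A8.P.gR w = 1 := by
    rw [checks_eq]
    intro w hw
    exact C2A8A.inst.word_eq_one hinj w (SC2A8p3W.hAll_lt w hw) (SC2A8p3W.hAll w hw)
  exact noStemPrime_pres_cyclic PC2A8.P PC2A8.valid PSC2A8p3.P PSC2A8p3.valid spec (by show Nat.Prime 3; norm_num) Wl
    (by decide +kernel) (by decide +kernel) hchecks (by decide +kernel) 0 7 rfl (by decide +kernel) (by decide)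
    5760 (by decide) SC2A8p3A.index_eq fG 40320 hcard (by decide)

end Cfsg.Agent.Lib.Helper4.SC2A8p3Main
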