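import Mathlib
import Cfsg.Agent.Lib.Helper4.SC2A8p2Main
import Cfsg.Agent.Lib.Helper4.SC2A8p3Main
import Cfsg.Agent.Lib.Helper4.StemLib2
import Cfsg.Agent.Lib.Helper4.AbelCert
import Cfsg.Agent.Lib.Helper4.StemLib6
import Cfsg.Agent.Lib.Helper4.RelLib

/-!
The presented group `C2A8` (the double cover of the alternating group of degree 8) is perfect and has no stem extension with kernel of prime order.
-/

set_option autoImplicit false

namespace Cfsg.Agent.Lib.Helper4.C2A8Stem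

open Cfsg Cfsg.Agent.Lib.Helper4.TC Cfsg.Agent.Lib.Helper4.TCD Cfsg.Agent.Lib.Helper4.TC.Log
  Cfsg.Agent.Lib.Helper4.Stem Cfsg.Agent.Lib.Helper4.AbelCert

theorem cert0 : PC2A8.P.gR 0 ∈ commutator PC2A8.P.Grp := by
  apply mem_commutator_of_perm PC2A8.P PC2A8.valid 0
    [[3, 3, 3, 3, 3, 3, 3], [0, 0, 2, 0, 2, 2, 2, 1, 2, 2, 1, 2]]
    (by decide +kernel) (by decide +kernel)
    [0, 0, 2, 2, 2, 2, 2, 2, 2]
    (by decide +kernel) (by decide +kernel)

theorem cert2 : PC2A8.P.gR 2 ∈ commutator PC2A8.P.Grp := by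
  apply mem_commutator_of_perm PC2A8.P PC2A8.valid 2
    [[2, 2, 2, 2, 2, 2, 2], [3, 0, 3, 3, 0, 3, 3, 3, 1, 3, 1, 1], [0, 2, 0, 3, 1, 3, 3, 1, 2, 0, 2, 2]]
    (by decide +kernel) (by decide +kernel)
    [0, 0, 0, 0, 0, 2, 2, 2, 2, 2, 2, 2, 2, 2, 2]
    (by decide +kernel) (by decide +kernel)

/-- the generators are products of commutators -/
theorem gR_mem_commutator (l : ℕ) (hl : l < 4) : PC2A8.P.gR l ∈ commutator PC2A8.P.Grp := by
  have hinv : ∀ y, y < 4 → PC2A8.P.gR (PC2A8.P.invR y) = (PC2A8.P.gR y)⁻¹ := fun y hy =>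
    (PC2A8.valid.invR_sound y (by show y ≤ 4; omega)).2
  interval_cases l
  · exact cert0
  · rw [show (1 : ℕ) = PC2A8.P.invR 0 from rfl, hinv 0 (by decide)]
    exact Subgroup.inv_mem _ cert0
  · exact cert2
  · rw [show (3 : ℕ) = PC2A8.P.invR 2 from rfl, hinv 2 (by decide)]
    exact Subgroup.inv_mem _ cert2

theorem perfect : commutator PC2A8.P.Grp = ⊤ :=
  commutator_eq_top_of_letters PC2A8.P PC2A8.valid gR_mem_commutator

/-- no stem extension with kernel of prime order -/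
theorem noStem : ∀ p, p.Prime → NoStemPrime PC2A8.P.Grp p := by
  obtain ⟨fG, _, hcard⟩ := C2A8Main.order_aux
  have := fG
  apply noStemPrime_all PC2A8.P.Grp [2, 3]
  · intro p hp
    simp only [List.mem_cons, List.not_mem_nil, or_false] at hp
    rcases hp with rfl | rfl
    · exact SC2A8p2Main.noStem
    · exact SC2A8p3Main.noStem
  · rw [hcard]
    exact sq_dvd_mem_of_factors 40320 [2, 2, 2, 2, 2, 2, 2, 3, 3, 5, 7] (by norm_num) (by decide) [2, 3]
      (by decide)

end Cfsg.Agent.Lib.Helper4.C2A8Stem
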