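import Cfsg.Agent.Lib.Helper4.TCD_Fi22xR_C0
import Cfsg.Agent.Lib.Helper4.TCD_Fi22xR_C1

namespace Cfsg.Agent.Lib.Helper4.TCD.Fi22xR

open Cfsg.Agent.Lib.Helper4.TC

theorem h_perm : ∀ i, 0 ≤ i → i < 3510 → ∀ x, x < 30 → T.permOK1 D i x = true :=
  (range_glue (range_of_allGrid c_perm_0) (range_glue (range_of_allGrid c_perm_1) (range_glue (range_of_allGrid c_perm_2) (range_of_allGrid c_perm_3))))
theorem h_act0 : ∀ i, 0 ≤ i → i < 3510 → Nat.beq (actR0 i) i = true :=
  (range_of_allRange c_act0_0)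
theorem h_act1 : ∀ i, 0 ≤ i → i < 3510 → Nat.beq (actR1 i) i = true :=
  (range_of_allRange c_act1_0)
theorem h_act2 : ∀ i, 0 ≤ i → i < 3510 → Nat.beq (actR2 i) i = true :=
  (range_of_allRange c_act2_0)
theorem h_act3 : ∀ i, 0 ≤ i → i < 3510 → Nat.beq (actR3 i) i = true :=
  (range_of_allRange c_act3_0)
theorem h_act4 : ∀ i, 0 ≤ i → i < 3510 → Nat.beq (actR4 i) i = true :=
  (range_of_allRange c_act4_0)
theorem h_act5 : ∀ i, 0 ≤ i → i < 3510 → Nat.beq (actR5 i) i = true :=
  (range_of_allRange c_act5_0)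
theorem h_act6 : ∀ i, 0 ≤ i → i < 3510 → Nat.beq (actR6 i) i = true :=
  (range_of_allRange c_act6_0)
theorem h_act7 : ∀ i, 0 ≤ i → i < 3510 → Nat.beq (actR7 i) i = true :=
  (range_of_allRange c_act7_0)
theorem h_act8 : ∀ i, 0 ≤ i → i < 3510 → Nat.beq (actR8 i) i = true :=
  (range_of_allRange c_act8_0)
theorem h_act9 : ∀ i, 0 ≤ i → i < 3510 → Nat.beq (actR9 i) i = true :=
  (range_of_allRange c_act9_0)
theorem h_act10 : ∀ i, 0 ≤ i → i < 3510 → Nat.beq (actR10 i) i = true :=
  (range_of_allRange c_act10_0)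
theorem h_act11 : ∀ i, 0 ≤ i → i < 3510 → Nat.beq (actR11 i) i = true :=
  (range_of_allRange c_act11_0)
theorem h_act12 : ∀ i, 0 ≤ i → i < 3510 → Nat.beq (actR12 i) i = true :=
  (range_of_allRange c_act12_0)
theorem h_act13 : ∀ i, 0 ≤ i → i < 3510 → Nat.beq (actR13 i) i = true :=
  (range_of_allRange c_act13_0)
theorem h_act14 : ∀ i, 0 ≤ i → i < 3510 → Nat.beq (actR14 i) i = true :=
  (range_of_allRange c_act14_0)
theorem h_act15 : ∀ i, 0 ≤ i → i < 3510 → Nat.beq (actR15 i) i = true :=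
  (range_of_allRange c_act15_0)
theorem h_act16 : ∀ i, 0 ≤ i → i < 3510 → Nat.beq (actR16 i) i = true :=
  (range_of_allRange c_act16_0)
theorem h_act17 : ∀ i, 0 ≤ i → i < 3510 → Nat.beq (actR17 i) i = true :=
  (range_of_allRange c_act17_0)
theorem h_act18 : ∀ i, 0 ≤ i → i < 3510 → Nat.beq (actR18 i) i = true :=
  (range_of_allRange c_act18_0)
theorem h_act19 : ∀ i, 0 ≤ i → i < 3510 → Nat.beq (actR19 i) i = true :=
  (range_of_allRange c_act19_0)
theorem h_act20 : ∀ i, 0 ≤ i → i < 3510 → Nat.beq (actR20 i) i = true :=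
  (range_of_allRange c_act20_0)
theorem h_act21 : ∀ i, 0 ≤ i → i < 3510 → Nat.beq (actR21 i) i = true :=
  (range_of_allRange c_act21_0)
theorem h_act22 : ∀ i, 0 ≤ i → i < 3510 → Nat.beq (actR22 i) i = true :=
  (range_of_allRange c_act22_0)
theorem h_act23 : ∀ i, 0 ≤ i → i < 3510 → Nat.beq (actR23 i) i = true :=
  (range_of_allRange c_act23_0)
theorem h_act24 : ∀ i, 0 ≤ i → i < 3510 → Nat.beq (actR24 i) i = true :=
  (range_of_allRange c_act24_0)
theorem h_act25 : ∀ i, 0 ≤ i → i < 3510 → Nat.beq (actR25 i) i = true :=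
  (range_of_allRange c_act25_0)
theorem h_act26 : ∀ i, 0 ≤ i → i < 3510 → Nat.beq (actR26 i) i = true :=
  (range_of_allRange c_act26_0)
theorem h_act27 : ∀ i, 0 ≤ i → i < 3510 → Nat.beq (actR27 i) i = true :=
  (range_of_allRange c_act27_0)
theorem h_act28 : ∀ i, 0 ≤ i → i < 3510 → Nat.beq (actR28 i) i = true :=
  (range_of_allRange c_act28_0)
theorem h_act29 : ∀ i, 0 ≤ i → i < 3510 → Nat.beq (actR29 i) i = true :=
  (range_of_allRange c_act29_0)
theorem h_act30 : ∀ i, 0 ≤ i → i < 3510 → Nat.beq (actR30 i) i = true :=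
  (range_of_allRange c_act30_0)
theorem h_act31 : ∀ i, 0 ≤ i → i < 3510 → Nat.beq (actR31 i) i = true :=
  (range_of_allRange c_act31_0)
theorem h_act32 : ∀ i, 0 ≤ i → i < 3510 → Nat.beq (actR32 i) i = true :=
  (range_of_allRange c_act32_0)
theorem h_act33 : ∀ i, 0 ≤ i → i < 3510 → Nat.beq (actR33 i) i = true :=
  (range_of_allRange c_act33_0)
theorem h_act34 : ∀ i, 0 ≤ i → i < 3510 → Nat.beq (actR34 i) i = true :=
  (range_of_allRange c_act34_0)
theorem h_act35 : ∀ i, 0 ≤ i → i < 3510 → Nat.beq (actR35 i) i = true :=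
  (range_of_allRange c_act35_0)
theorem h_act36 : ∀ i, 0 ≤ i → i < 3510 → Nat.beq (actR36 i) i = true :=
  (range_of_allRange c_act36_0)
theorem h_act37 : ∀ i, 0 ≤ i → i < 3510 → Nat.beq (actR37 i) i = true :=
  (range_of_allRange c_act37_0)
theorem h_act38 : ∀ i, 0 ≤ i → i < 3510 → Nat.beq (actR38 i) i = true :=
  (range_of_allRange c_act38_0)
theorem h_act39 : ∀ i, 0 ≤ i → i < 3510 → Nat.beq (actR39 i) i = true :=
  (range_of_allRange c_act39_0)
theorem h_act40 : ∀ i, 0 ≤ i → i < 3510 → Nat.beq (actR40 i) i = true :=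
  (range_of_allRange c_act40_0)
theorem h_act41 : ∀ i, 0 ≤ i → i < 3510 → Nat.beq (actR41 i) i = true :=
  (range_of_allRange c_act41_0)
theorem h_act42 : ∀ i, 0 ≤ i → i < 3510 → Nat.beq (actR42 i) i = true :=
  (range_of_allRange c_act42_0)
theorem h_act43 : ∀ i, 0 ≤ i → i < 3510 → Nat.beq (actR43 i) i = true :=
  (range_of_allRange c_act43_0)
theorem h_act44 : ∀ i, 0 ≤ i → i < 3510 → Nat.beq (actR44 i) i = true :=
  (range_of_allRange c_act44_0)
theorem h_act45 : ∀ i, 0 ≤ i → i < 3510 → Nat.beq (actR45 i) i = true :=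
  (range_glue (range_of_allRange c_act45_0) (range_glue (range_of_allRange c_act45_1) (range_glue (range_of_allRange c_act45_2) (range_glue (range_of_allRange c_act45_3) (range_glue (range_of_allRange c_act45_4) (range_of_allRange c_act45_5))))))
theorem h_act46 : ∀ i, 0 ≤ i → i < 3510 → Nat.beq (actR46 i) i = true :=
  (range_glue (range_of_allRange c_act46_0) (range_glue (range_of_allRange c_act46_1) (range_glue (range_of_allRange c_act46_2) (range_of_allRange c_act46_3))))
theorem h_act47 : ∀ i, 0 ≤ i → i < 3510 → Nat.beq (actR47 i) i = true :=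
  (range_glue (range_of_allRange c_act47_0) (range_glue (range_of_allRange c_act47_1) (range_glue (range_of_allRange c_act47_2) (range_of_allRange c_act47_3))))
theorem h_act48 : ∀ i, 0 ≤ i → i < 3510 → Nat.beq (actR48 i) i = true :=
  (range_glue (range_of_allRange c_act48_0) (range_of_allRange c_act48_1))
theorem h_act49 : ∀ i, 0 ≤ i → i < 3510 → Nat.beq (actR49 i) i = true :=
  (range_glue (range_of_allRange c_act49_0) (range_glue (range_of_allRange c_act49_1) (range_glue (range_of_allRange c_act49_2) (range_glue (range_of_allRange c_act49_3) (range_glue (range_of_allRange c_act49_4) (range_glue (range_of_allRange c_act49_5) (range_glue (range_of_allRange c_act49_6) (range_glue (range_of_allRange c_act49_7) (range_of_allRange c_act49_8)))))))))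
theorem h_act50 : ∀ i, 0 ≤ i → i < 3510 → Nat.beq (actR50 i) i = true :=
  (range_glue (range_of_allRange c_act50_0) (range_glue (range_of_allRange c_act50_1) (range_glue (range_of_allRange c_act50_2) (range_of_allRange c_act50_3))))
theorem h_act51 : ∀ i, 0 ≤ i → i < 3510 → Nat.beq (actR51 i) i = true :=
  (range_glue (range_of_allRange c_act51_0) (range_glue (range_of_allRange c_act51_1) (range_glue (range_of_allRange c_act51_2) (range_of_allRange c_act51_3))))
theorem h_act52 : ∀ i, 0 ≤ i → i < 3510 → Nat.beq (actR52 i) i = true :=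
  (range_glue (range_of_allRange c_act52_0) (range_glue (range_of_allRange c_act52_1) (range_glue (range_of_allRange c_act52_2) (range_glue (range_of_allRange c_act52_3) (range_glue (range_of_allRange c_act52_4) (range_glue (range_of_allRange c_act52_5) (range_glue (range_of_allRange c_act52_6) (range_glue (range_of_allRange c_act52_7) (range_of_allRange c_act52_8)))))))))
theorem h_act53 : ∀ i, 0 ≤ i → i < 3510 → Nat.beq (actR53 i) i = true :=
  (range_of_allRange c_act53_0)
theorem h_act54 : ∀ i, 0 ≤ i → i < 3510 → Nat.beq (actR54 i) i = true :=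
  (range_of_allRange c_act54_0)
theorem h_act55 : ∀ i, 0 ≤ i → i < 3510 → Nat.beq (actR55 i) i = true :=
  (range_of_allRange c_act55_0)
theorem h_act56 : ∀ i, 0 ≤ i → i < 3510 → Nat.beq (actR56 i) i = true :=
  (range_glue (range_of_allRange c_act56_0) (range_of_allRange c_act56_1))
theorem h_act57 : ∀ i, 0 ≤ i → i < 3510 → Nat.beq (actR57 i) i = true :=
  (range_of_allRange c_act57_0)
theorem h_act58 : ∀ i, 0 ≤ i → i < 3510 → Nat.beq (actR58 i) i = true :=
  (range_of_allRange c_act58_0)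
theorem h_act59 : ∀ i, 0 ≤ i → i < 3510 → Nat.beq (actR59 i) i = true :=
  (range_of_allRange c_act59_0)
theorem h_act60 : ∀ i, 0 ≤ i → i < 3510 → Nat.beq (actR60 i) i = true :=
  (range_of_allRange c_act60_0)
theorem h_act61 : ∀ i, 0 ≤ i → i < 3510 → Nat.beq (actR61 i) i = true :=
  (range_of_allRange c_act61_0)
theorem h_act62 : ∀ i, 0 ≤ i → i < 3510 → Nat.beq (actR62 i) i = true :=
  (range_of_allRange c_act62_0)
theorem h_act63 : ∀ i, 0 ≤ i → i < 3510 → Nat.beq (actR63 i) i = true :=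
  (range_of_allRange c_act63_0)
theorem h_act64 : ∀ i, 0 ≤ i → i < 3510 → Nat.beq (actR64 i) i = true :=
  (range_of_allRange c_act64_0)
theorem h_act65 : ∀ i, 0 ≤ i → i < 3510 → Nat.beq (actR65 i) i = true :=
  (range_of_allRange c_act65_0)
theorem h_act66 : ∀ i, 0 ≤ i → i < 3510 → Nat.beq (actR66 i) i = true :=
  (range_of_allRange c_act66_0)
theorem h_act67 : ∀ i, 0 ≤ i → i < 3510 → Nat.beq (actR67 i) i = true :=
  (range_glue (range_of_allRange c_act67_0) (range_of_allRange c_act67_1))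
theorem h_act68 : ∀ i, 0 ≤ i → i < 3510 → Nat.beq (actR68 i) i = true :=
  (range_glue (range_of_allRange c_act68_0) (range_of_allRange c_act68_1))
theorem h_act69 : ∀ i, 0 ≤ i → i < 3510 → Nat.beq (actR69 i) i = true :=
  (range_of_allRange c_act69_0)
theorem h_act70 : ∀ i, 0 ≤ i → i < 3510 → Nat.beq (actR70 i) i = true :=
  (range_of_allRange c_act70_0)
theorem h_act71 : ∀ i, 0 ≤ i → i < 3510 → Nat.beq (actR71 i) i = true :=
  (range_of_allRange c_act71_0)
theorem h_act72 : ∀ i, 0 ≤ i → i < 3510 → Nat.beq (actR72 i) i = true :=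
  (range_of_allRange c_act72_0)
theorem h_act73 : ∀ i, 0 ≤ i → i < 3510 → Nat.beq (actR73 i) i = true :=
  (range_of_allRange c_act73_0)
theorem h_act74 : ∀ i, 0 ≤ i → i < 3510 → Nat.beq (actR74 i) i = true :=
  (range_of_allRange c_act74_0)
theorem h_act75 : ∀ i, 0 ≤ i → i < 3510 → Nat.beq (actR75 i) i = true :=
  (range_of_allRange c_act75_0)
theorem h_act76 : ∀ i, 0 ≤ i → i < 3510 → Nat.beq (actR76 i) i = true :=
  (range_of_allRange c_act76_0)
theorem h_act77 : ∀ i, 0 ≤ i → i < 3510 → Nat.beq (actR77 i) i = true :=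
  (range_of_allRange c_act77_0)
theorem h_act78 : ∀ i, 0 ≤ i → i < 3510 → Nat.beq (actR78 i) i = true :=
  (range_of_allRange c_act78_0)
theorem h_act79 : ∀ i, 0 ≤ i → i < 3510 → Nat.beq (actR79 i) i = true :=
  (range_of_allRange c_act79_0)
theorem h_act80 : ∀ i, 0 ≤ i → i < 3510 → Nat.beq (actR80 i) i = true :=
  (range_of_allRange c_act80_0)

set_option maxRecDepth 100000 in
theorem h_act : ∀ L ∈ PFi22x.P.real, ∀ i, i < T.N → Tab.relActOK T D L i = true := by
  rw [c_real]
  intro L hL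
  simp only [realLit, List.mem_cons, List.not_mem_nil, or_false] at hL
  rcases hL with rfl | rfl | rfl | rfl | rfl | rfl | rfl | rfl | rfl | rfl | rfl | rfl | rfl | rfl | rfl | rfl | rfl | rfl | rfl | rfl | rfl | rfl | rfl | rfl | rfl | rfl | rfl | rfl | rfl | rfl | rfl | rfl | rfl | rfl | rfl | rfl | rfl | rfl | rfl | rfl | rfl | rfl | rfl | rfl | rfl | rfl | rfl | rfl | rfl | rfl | rfl | rfl | rfl | rfl | rfl | rfl | rfl | rfl | rfl | rfl | rfl | rfl | rfl | rfl | rfl | rfl | rfl | rfl | rfl | rfl | rfl | rfl | rfl | rfl | rfl | rfl | rfl | rfl | rfl | rfl | rfl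
  · intro i hi
    rw [Tab.relActOK, ← actR0_eq]
    exact h_act0 i (Nat.zero_le _) hi
  · intro i hi
    rw [Tab.relActOK, ← actR1_eq]
    exact h_act1 i (Nat.zero_le _) hi
  · intro i hi
    rw [Tab.relActOK, ← actR2_eq]
    exact h_act2 i (Nat.zero_le _) hi
  · intro i hi
    rw [Tab.relActOK, ← actR3_eq]
    exact h_act3 i (Nat.zero_le _) hi
  · intro i hi
    rw [Tab.relActOK, ← actR4_eq]
    exact h_act4 i (Nat.zero_le _) hi
  · intro i hi
    rw [Tab.relActOK, ← actR5_eq]
    exact h_act5 i (Nat.zero_le _) hi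
  · intro i hi
    rw [Tab.relActOK, ← actR6_eq]
    exact h_act6 i (Nat.zero_le _) hi
  · intro i hi
    rw [Tab.relActOK, ← actR7_eq]
    exact h_act7 i (Nat.zero_le _) hi
  · intro i hi
    rw [Tab.relActOK, ← actR8_eq]
    exact h_act8 i (Nat.zero_le _) hi
  · intro i hi
    rw [Tab.relActOK, ← actR9_eq]
    exact h_act9 i (Nat.zero_le _) hi
  · intro i hi
    rw [Tab.relActOK, ← actR10_eq]
    exact h_act10 i (Nat.zero_le _) hi
  · intro i hi
    rw [Tab.relActOK, ← actR11_eq]
    exact h_act11 i (Nat.zero_le _) hi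
  · intro i hi
    rw [Tab.relActOK, ← actR12_eq]
    exact h_act12 i (Nat.zero_le _) hi
  · intro i hi
    rw [Tab.relActOK, ← actR13_eq]
    exact h_act13 i (Nat.zero_le _) hi
  · intro i hi
    rw [Tab.relActOK, ← actR14_eq]
    exact h_act14 i (Nat.zero_le _) hi
  · intro i hi
    rw [Tab.relActOK, ← actR15_eq]
    exact h_act15 i (Nat.zero_le _) hi
  · intro i hi
    rw [Tab.relActOK, ← actR16_eq]
    exact h_act16 i (Nat.zero_le _) hi
  · intro i hi
    rw [Tab.relActOK, ← actR17_eq]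
    exact h_act17 i (Nat.zero_le _) hi
  · intro i hi
    rw [Tab.relActOK, ← actR18_eq]
    exact h_act18 i (Nat.zero_le _) hi
  · intro i hi
    rw [Tab.relActOK, ← actR19_eq]
    exact h_act19 i (Nat.zero_le _) hi
  · intro i hi
    rw [Tab.relActOK, ← actR20_eq]
    exact h_act20 i (Nat.zero_le _) hi
  · intro i hi
    rw [Tab.relActOK, ← actR21_eq]
    exact h_act21 i (Nat.zero_le _) hi
  · intro i hi
    rw [Tab.relActOK, ← actR22_eq]
    exact h_act22 i (Nat.zero_le _) hi
  · intro i hi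
    rw [Tab.relActOK, ← actR23_eq]
    exact h_act23 i (Nat.zero_le _) hi
  · intro i hi
    rw [Tab.relActOK, ← actR24_eq]
    exact h_act24 i (Nat.zero_le _) hi
  · intro i hi
    rw [Tab.relActOK, ← actR25_eq]
    exact h_act25 i (Nat.zero_le _) hi
  · intro i hi
    rw [Tab.relActOK, ← actR26_eq]
    exact h_act26 i (Nat.zero_le _) hi
  · intro i hi
    rw [Tab.relActOK, ← actR27_eq]
    exact h_act27 i (Nat.zero_le _) hi
  · intro i hi
    rw [Tab.relActOK, ← actR28_eq]
    exact h_act28 i (Nat.zero_le _) hi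
  · intro i hi
    rw [Tab.relActOK, ← actR29_eq]
    exact h_act29 i (Nat.zero_le _) hi
  · intro i hi
    rw [Tab.relActOK, ← actR30_eq]
    exact h_act30 i (Nat.zero_le _) hi
  · intro i hi
    rw [Tab.relActOK, ← actR31_eq]
    exact h_act31 i (Nat.zero_le _) hi
  · intro i hi
    rw [Tab.relActOK, ← actR32_eq]
    exact h_act32 i (Nat.zero_le _) hi
  · intro i hi
    rw [Tab.relActOK, ← actR33_eq]
    exact h_act33 i (Nat.zero_le _) hi
  · intro i hi
    rw [Tab.relActOK, ← actR34_eq]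
    exact h_act34 i (Nat.zero_le _) hi
  · intro i hi
    rw [Tab.relActOK, ← actR35_eq]
    exact h_act35 i (Nat.zero_le _) hi
  · intro i hi
    rw [Tab.relActOK, ← actR36_eq]
    exact h_act36 i (Nat.zero_le _) hi
  · intro i hi
    rw [Tab.relActOK, ← actR37_eq]
    exact h_act37 i (Nat.zero_le _) hi
  · intro i hi
    rw [Tab.relActOK, ← actR38_eq]
    exact h_act38 i (Nat.zero_le _) hi
  · intro i hi
    rw [Tab.relActOK, ← actR39_eq]
    exact h_act39 i (Nat.zero_le _) hi
  · intro i hi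
    rw [Tab.relActOK, ← actR40_eq]
    exact h_act40 i (Nat.zero_le _) hi
  · intro i hi
    rw [Tab.relActOK, ← actR41_eq]
    exact h_act41 i (Nat.zero_le _) hi
  · intro i hi
    rw [Tab.relActOK, ← actR42_eq]
    exact h_act42 i (Nat.zero_le _) hi
  · intro i hi
    rw [Tab.relActOK, ← actR43_eq]
    exact h_act43 i (Nat.zero_le _) hi
  · intro i hi
    rw [Tab.relActOK, ← actR44_eq]
    exact h_act44 i (Nat.zero_le _) hi
  · intro i hi
    rw [Tab.relActOK, ← actR45_eq]
    exact h_act45 i (Nat.zero_le _) hi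
  · intro i hi
    rw [Tab.relActOK, ← actR46_eq]
    exact h_act46 i (Nat.zero_le _) hi
  · intro i hi
    rw [Tab.relActOK, ← actR47_eq]
    exact h_act47 i (Nat.zero_le _) hi
  · intro i hi
    rw [Tab.relActOK, ← actR48_eq]
    exact h_act48 i (Nat.zero_le _) hi
  · intro i hi
    rw [Tab.relActOK, ← actR49_eq]
    exact h_act49 i (Nat.zero_le _) hi
  · intro i hi
    rw [Tab.relActOK, ← actR50_eq]
    exact h_act50 i (Nat.zero_le _) hi
  · intro i hi
    rw [Tab.relActOK, ← actR51_eq]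
    exact h_act51 i (Nat.zero_le _) hi
  · intro i hi
    rw [Tab.relActOK, ← actR52_eq]
    exact h_act52 i (Nat.zero_le _) hi
  · intro i hi
    rw [Tab.relActOK, ← actR53_eq]
    exact h_act53 i (Nat.zero_le _) hi
  · intro i hi
    rw [Tab.relActOK, ← actR54_eq]
    exact h_act54 i (Nat.zero_le _) hi
  · intro i hi
    rw [Tab.relActOK, ← actR55_eq]
    exact h_act55 i (Nat.zero_le _) hi
  · intro i hi
    rw [Tab.relActOK, ← actR56_eq]
    exact h_act56 i (Nat.zero_le _) hi
  · intro i hi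
    rw [Tab.relActOK, ← actR57_eq]
    exact h_act57 i (Nat.zero_le _) hi
  · intro i hi
    rw [Tab.relActOK, ← actR58_eq]
    exact h_act58 i (Nat.zero_le _) hi
  · intro i hi
    rw [Tab.relActOK, ← actR59_eq]
    exact h_act59 i (Nat.zero_le _) hi
  · intro i hi
    rw [Tab.relActOK, ← actR60_eq]
    exact h_act60 i (Nat.zero_le _) hi
  · intro i hi
    rw [Tab.relActOK, ← actR61_eq]
    exact h_act61 i (Nat.zero_le _) hi
  · intro i hi
    rw [Tab.relActOK, ← actR62_eq]
    exact h_act62 i (Nat.zero_le _) hi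
  · intro i hi
    rw [Tab.relActOK, ← actR63_eq]
    exact h_act63 i (Nat.zero_le _) hi
  · intro i hi
    rw [Tab.relActOK, ← actR64_eq]
    exact h_act64 i (Nat.zero_le _) hi
  · intro i hi
    rw [Tab.relActOK, ← actR65_eq]
    exact h_act65 i (Nat.zero_le _) hi
  · intro i hi
    rw [Tab.relActOK, ← actR66_eq]
    exact h_act66 i (Nat.zero_le _) hi
  · intro i hi
    rw [Tab.relActOK, ← actR67_eq]
    exact h_act67 i (Nat.zero_le _) hi
  · intro i hi
    rw [Tab.relActOK, ← actR68_eq]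
    exact h_act68 i (Nat.zero_le _) hi
  · intro i hi
    rw [Tab.relActOK, ← actR69_eq]
    exact h_act69 i (Nat.zero_le _) hi
  · intro i hi
    rw [Tab.relActOK, ← actR70_eq]
    exact h_act70 i (Nat.zero_le _) hi
  · intro i hi
    rw [Tab.relActOK, ← actR71_eq]
    exact h_act71 i (Nat.zero_le _) hi
  · intro i hi
    rw [Tab.relActOK, ← actR72_eq]
    exact h_act72 i (Nat.zero_le _) hi
  · intro i hi
    rw [Tab.relActOK, ← actR73_eq]
    exact h_act73 i (Nat.zero_le _) hi
  · intro i hi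
    rw [Tab.relActOK, ← actR74_eq]
    exact h_act74 i (Nat.zero_le _) hi
  · intro i hi
    rw [Tab.relActOK, ← actR75_eq]
    exact h_act75 i (Nat.zero_le _) hi
  · intro i hi
    rw [Tab.relActOK, ← actR76_eq]
    exact h_act76 i (Nat.zero_le _) hi
  · intro i hi
    rw [Tab.relActOK, ← actR77_eq]
    exact h_act77 i (Nat.zero_le _) hi
  · intro i hi
    rw [Tab.relActOK, ← actR78_eq]
    exact h_act78 i (Nat.zero_le _) hi
  · intro i hi
    rw [Tab.relActOK, ← actR79_eq]
    exact h_act79 i (Nat.zero_le _) hi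
  · intro i hi
    rw [Tab.relActOK, ← actR80_eq]
    exact h_act80 i (Nat.zero_le _) hi

theorem prep : PRep PFi22x.P T D where
  hP := PFi22x.valid
  hk := rfl
  hinv := fun _ _ => rfl
  hperm := fun i x hi hx => h_perm i (Nat.zero_le _) hi x hx
  hlet := fun x hx => allBelow_eq_true.1 c_let x hx
  hact := h_act

end Cfsg.Agent.Lib.Helper4.TCD.Fi22xR
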