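import Cfsg.Agent.Lib.Helper4.TCD_Fi22L_Acc

namespace Cfsg.Agent.Lib.Helper4.TCD.Fi22L

open Cfsg.Agent.Lib.Helper4.TC Cfsg.Agent.Lib.Helper4.TCD.Fi22b

set_option maxRecDepth 100000
set_option Elab.async false

theorem c_p17_1 : allRange chk17 3000 3000 = true := by decide +kernel
theorem c_p17_2 : allRange chk17 6000 3000 = true := by decide +kernel
theorem c_p17_3 : allRange chk17 9000 3000 = true := by decide +kernel
theorem c_p17_4 : allRange chk17 12000 2080 = true := by decide +kernel
theorem c_p18_0 : allRange chk18 0 14080 = true := by decide +kernel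
theorem c_p19_0 : allRange chk19 0 10000 = true := by decide +kernel
theorem c_p19_1 : allRange chk19 10000 4080 = true := by decide +kernel
theorem c_p20_0 : allRange chk20 0 2222 = true := by decide +kernel
theorem c_p20_1 : allRange chk20 2222 2222 = true := by decide +kernel
theorem c_p20_2 : allRange chk20 4444 2222 = true := by decide +kernel
theorem c_p20_3 : allRange chk20 6666 2222 = true := by decide +kernel
theorem c_p20_4 : allRange chk20 8888 2222 = true := by decide +kernel
theorem c_p20_5 : allRange chk20 11110 2222 = true := by decide +kernel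
theorem c_p20_6 : allRange chk20 13332 748 = true := by decide +kernel
theorem c_p21_0 : allRange chk21 0 8571 = true := by decide +kernel
theorem c_p21_1 : allRange chk21 8571 5509 = true := by decide +kernel
theorem c_nd0_0 : allRange (S.nodeOK 0) 0 5000 = true := by decide +kernel
theorem c_nd0_1 : allRange (S.nodeOK 0) 5000 5000 = true := by decide +kernel
theorem c_nd0_2 : allRange (S.nodeOK 0) 10000 4080 = true := by decide +kernel
theorem c_nd1_0 : allRange (S.nodeOK 1) 0 3159 = true := by decide +kernel
theorem c_nd2_0 : allRange (S.nodeOK 2) 0 288 = true := by decide +kernel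
theorem c_nd3_0 : allRange (S.nodeOK 3) 0 35 = true := by decide +kernel
theorem c_nd4_0 : allRange (S.nodeOK 4) 0 12 = true := by decide +kernel
theorem c_nd5_0 : allRange (S.nodeOK 5) 0 3 = true := by decide +kernel
theorem c_nd6_0 : allRange (S.nodeOK 6) 0 2 = true := by decide +kernel
theorem c_nd7_0 : allRange (S.nodeOK 7) 0 2 = true := by decide +kernel

end Cfsg.Agent.Lib.Helper4.TCD.Fi22L
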