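import Cfsg.Agent.Lib.Helper4.TCD_Fi22b_Acc
import Cfsg.Agent.Lib.Helper4.TC13

namespace Cfsg.Agent.Lib.Helper4.TCD.Fi22Q

open Cfsg.Agent.Lib.Helper4.TC Cfsg.Agent.Lib.Helper4.TCD.Fi22b

set_option maxRecDepth 100000
set_option Elab.async false

def xw : List Nat := [3, 2, 7, 5, 3, 1, 4, 0, 6, 2, 8, 3, 2, 7, 5, 3, 1, 4, 0, 6, 2, 8]

noncomputable def actX (i : Nat) : Nat := col3 (col2 (col7 (col5 (col3 (col1 (col4 (col0 (col6 (col2 (col8 (col3 (col2 (col7 (col5 (col3 (col1 (col4 (col0 (col6 (col2 (col8 (col3 (col2 (col7 (col5 (col3 (col1 (col4 (col0 (col6 (col2 (col8 (col3 (col2 (col7 (col5 (col3 (col1 (col4 (col0 (col6 (col2 (col8 (col3 (col2 (col7 (col5 (col3 (col1 (col4 (col0 (col6 (col2 (col8 (col3 (col2 (col7 (col5 (col3 (col1 (col4 (col0 (col6 (col2 (col8 (col3 (col2 (col7 (col5 (col3 (col1 (col4 (col0 (col6 (col2 (col8 (col3 (col2 (col7 (col5 (col3 (col1 (col4 (col0 (col6 (col2 (col8 (col3 (col2 (col7 (col5 (col3 (col1 (col4 (col0 (col6 (col2 (col8 (col3 (col2 (col7 (col5 (col3 (col1 (col4 (col0 (col6 (col2 (col8 (col3 (col2 (col7 (col5 (col3 (col1 (col4 (col0 (col6 (col2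 (col8 (col3 (col2 (col7 (col5 (col3 (col1 (col4 (col0 (col6 (col2 (col8 (col3 (col2 (col7 (col5 (col3 (col1 (col4 (col0 (col6 (col2 (col8 (col3 (col2 (col7 (col5 (col3 (col1 (col4 (col0 (col6 (col2 (col8 (col3 (col2 (col7 (col5 (col3 (col1 (col4 (col0 (col6 (col2 (col8 (col3 (col2 (col7 (col5 (col3 (col1 (col4 (col0 (col6 (col2 (col8 (col3 (col2 (col7 (col5 (col3 (col1 (col4 (col0 (col6 (col2 (col8 (col3 (col2 (col7 (col5 (col3 (col1 (col4 (col0 (col6 (col2 (col8 (col3 (col2 (col7 (col5 (col3 (col1 (col4 (col0 (col6 (col2 (col8 (col3 (col2 (col7 (col5 (col3 (col1 (col4 (col0 (col6 (col2 (col8 (col3 (col2 (col7 (col5 (col3 (col1 (col4 (col0 (col6 (col2 (col8 (col3 (col2 (col7 (col5 (col3 (col1 (col4 (col0 (col6 (col2 (col8 (i))))))))))))))))))))))))))))))))))))))))))))))))))))))))))))))))))))))))))))))))))))))))))))))))))))))))))))))))))))))))))))))))))))))))))))))))))))))))))))))))))))))))))))))))))))))))))))))))))))))))))))))))))))))))))))))))))))))))))))))))))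
theorem actX_eq (i : Nat) : actX i = Tab.act T D (List.replicate 11 xw).flatten i := rfl
theorem c_xq_0 : allRange (fun i => Nat.beq (actX i) i) 0 245 = true := by decide +kernel
theorem c_xq_1 : allRange (fun i => Nat.beq (actX i) i) 245 245 = true := by decide +kernel
theorem c_xq_2 : allRange (fun i => Nat.beq (actX i) i) 490 245 = true := by decide +kernel
theorem c_xq_3 : allRange (fun i => Nat.beq (actX i) i) 735 245 = true := by decide +kernel
theorem c_xq_4 : allRange (fun i => Nat.beq (actX i) i) 980 245 = true := by decide +kernel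
theorem c_xq_5 : allRange (fun i => Nat.beq (actX i) i) 1225 245 = true := by decide +kernel
theorem c_xq_6 : allRange (fun i => Nat.beq (actX i) i) 1470 245 = true := by decide +kernel
theorem c_xq_7 : allRange (fun i => Nat.beq (actX i) i) 1715 245 = true := by decide +kernel
theorem c_xq_8 : allRange (fun i => Nat.beq (actX i) i) 1960 245 = true := by decide +kernel
theorem c_xq_9 : allRange (fun i => Nat.beq (actX i) i) 2205 245 = true := by decide +kernel
theorem c_xq_10 : allRange (fun i => Nat.beq (actX i) i) 2450 245 = true := by decide +kernel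
theorem c_xq_11 : allRange (fun i => Nat.beq (actX i) i) 2695 245 = true := by decide +kernel
theorem c_xq_12 : allRange (fun i => Nat.beq (actX i) i) 2940 245 = true := by decide +kernel
theorem c_xq_13 : allRange (fun i => Nat.beq (actX i) i) 3185 245 = true := by decide +kernel
theorem c_xq_14 : allRange (fun i => Nat.beq (actX i) i) 3430 245 = true := by decide +kernel
theorem c_xq_15 : allRange (fun i => Nat.beq (actX i) i) 3675 245 = true := by decide +kernel
theorem c_xq_16 : allRange (fun i => Nat.beq (actX i) i) 3920 245 = true := by decide +kernel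
theorem c_xq_17 : allRange (fun i => Nat.beq (actX i) i) 4165 245 = true := by decide +kernel
theorem c_xq_18 : allRange (fun i => Nat.beq (actX i) i) 4410 245 = true := by decide +kernel
theorem c_xq_19 : allRange (fun i => Nat.beq (actX i) i) 4655 245 = true := by decide +kernel
theorem c_xq_20 : allRange (fun i => Nat.beq (actX i) i) 4900 245 = true := by decide +kernel
theorem c_xq_21 : allRange (fun i => Nat.beq (actX i) i) 5145 245 = true := by decide +kernel
theorem c_xq_22 : allRange (fun i => Nat.beq (actX i) i) 5390 245 = true := by decide +kernel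
theorem c_xq_23 : allRange (fun i => Nat.beq (actX i) i) 5635 245 = true := by decide +kernel
theorem c_xq_24 : allRange (fun i => Nat.beq (actX i) i) 5880 245 = true := by decide +kernel
theorem c_xq_25 : allRange (fun i => Nat.beq (actX i) i) 6125 245 = true := by decide +kernel
theorem c_xq_26 : allRange (fun i => Nat.beq (actX i) i) 6370 245 = true := by decide +kernel
theorem c_xq_27 : allRange (fun i => Nat.beq (actX i) i) 6615 245 = true := by decide +kernel
theorem c_xq_28 : allRange (fun i => Nat.beq (actX i) i) 6860 245 = true := by decide +kernel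
theorem c_xq_29 : allRange (fun i => Nat.beq (actX i) i) 7105 245 = true := by decide +kernel
theorem c_xq_30 : allRange (fun i => Nat.beq (actX i) i) 7350 245 = true := by decide +kernel
theorem c_xq_31 : allRange (fun i => Nat.beq (actX i) i) 7595 245 = true := by decide +kernel
theorem c_xq_32 : allRange (fun i => Nat.beq (actX i) i) 7840 245 = true := by decide +kernel
theorem c_xq_33 : allRange (fun i => Nat.beq (actX i) i) 8085 245 = true := by decide +kernel
theorem c_xq_34 : allRange (fun i => Nat.beq (actX i) i) 8330 245 = true := by decide +kernel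
theorem c_xq_35 : allRange (fun i => Nat.beq (actX i) i) 8575 245 = true := by decide +kernel
theorem c_xq_36 : allRange (fun i => Nat.beq (actX i) i) 8820 245 = true := by decide +kernel
theorem c_xq_37 : allRange (fun i => Nat.beq (actX i) i) 9065 245 = true := by decide +kernel
theorem c_xq_38 : allRange (fun i => Nat.beq (actX i) i) 9310 245 = true := by decide +kernel
theorem c_xq_39 : allRange (fun i => Nat.beq (actX i) i) 9555 245 = true := by decide +kernel
theorem c_xq_40 : allRange (fun i => Nat.beq (actX i) i) 9800 245 = true := by decide +kernel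
theorem c_xq_41 : allRange (fun i => Nat.beq (actX i) i) 10045 245 = true := by decide +kernel
theorem c_xq_42 : allRange (fun i => Nat.beq (actX i) i) 10290 245 = true := by decide +kernel
theorem c_xq_43 : allRange (fun i => Nat.beq (actX i) i) 10535 245 = true := by decide +kernel
theorem c_xq_44 : allRange (fun i => Nat.beq (actX i) i) 10780 245 = true := by decide +kernel
theorem c_xq_45 : allRange (fun i => Nat.beq (actX i) i) 11025 245 = true := by decide +kernel
theorem c_xq_46 : allRange (fun i => Nat.beq (actX i) i) 11270 245 = true := by decide +kernel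
theorem c_xq_47 : allRange (fun i => Nat.beq (actX i) i) 11515 245 = true := by decide +kernel
theorem c_xq_48 : allRange (fun i => Nat.beq (actX i) i) 11760 245 = true := by decide +kernel
theorem c_xq_49 : allRange (fun i => Nat.beq (actX i) i) 12005 245 = true := by decide +kernel
theorem c_xq_50 : allRange (fun i => Nat.beq (actX i) i) 12250 245 = true := by decide +kernel
theorem c_xq_51 : allRange (fun i => Nat.beq (actX i) i) 12495 245 = true := by decide +kernel
theorem c_xq_52 : allRange (fun i => Nat.beq (actX i) i) 12740 245 = true := by decide +kernel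
theorem c_xq_53 : allRange (fun i => Nat.beq (actX i) i) 12985 245 = true := by decide +kernel
theorem c_xq_54 : allRange (fun i => Nat.beq (actX i) i) 13230 245 = true := by decide +kernel
theorem c_xq_55 : allRange (fun i => Nat.beq (actX i) i) 13475 245 = true := by decide +kernel
theorem c_xq_56 : allRange (fun i => Nat.beq (actX i) i) 13720 245 = true := by decide +kernel
theorem c_xq_57 : allRange (fun i => Nat.beq (actX i) i) 13965 115 = true := by decide +kernel
theorem h_xq_p0 : ∀ i, 0 ≤ i → i < 9800 → Nat.beq (actX i) i = true :=
  (range_glue (range_of_allRange c_xq_0) (range_glue (range_of_allRange c_xq_1) (range_glue (range_of_allRange c_xq_2) (range_glue (range_of_allRange c_xq_3) (range_glue (range_of_allRange c_xq_4) (range_glue (range_of_allRange c_xq_5) (range_glue (range_of_allRange c_xq_6) (range_glue (range_of_allRange c_xq_7) (range_glue (range_of_allRange c_xq_8) (range_glue (range_of_allRange c_xq_9) (range_glue (range_of_allRange c_xq_10) (range_glue (range_of_allRange c_xq_11) (range_glue (range_of_allRange c_xq_12) (range_glue (range_of_allRange c_xq_13)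 (range_glue (range_of_allRange c_xq_14) (range_glue (range_of_allRange c_xq_15) (range_glue (range_of_allRange c_xq_16) (range_glue (range_of_allRange c_xq_17) (range_glue (range_of_allRange c_xq_18) (range_glue (range_of_allRange c_xq_19) (range_glue (range_of_allRange c_xq_20) (range_glue (range_of_allRange c_xq_21) (range_glue (range_of_allRange c_xq_22) (range_glue (range_of_allRange c_xq_23) (range_glue (range_of_allRange c_xq_24) (range_glue (range_of_allRange c_xq_25) (range_glue (range_of_allRange c_xq_26) (range_glue (range_of_allRange c_xq_27) (range_glue (range_of_allRange c_xq_28) (range_glue (range_of_allRange c_xq_29) (range_glue (range_of_allRange c_xq_30) (range_glue (range_of_allRange c_xq_31) (range_glue (range_of_allRange c_xq_32) (range_glue (range_of_allRange c_xq_33) (range_glue (range_of_allRange c_xq_34) (range_glue (range_of_allRange c_xq_35) (range_glue (range_of_allRange c_xq_36) (range_glue (range_of_allRange c_xq_37) (range_glue (range_of_allRange c_xq_38) (range_of_allRange c_xq_39))))))))))))))))))))))))))))))))))))))))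
theorem h_xq_p1 : ∀ i, 9800 ≤ i → i < 14080 → Nat.beq (actX i) i = true :=
  (range_glue (range_of_allRange c_xq_40) (range_glue (range_of_allRange c_xq_41) (range_glue (range_of_allRange c_xq_42) (range_glue (range_of_allRange c_xq_43) (range_glue (range_of_allRange c_xq_44) (range_glue (range_of_allRange c_xq_45) (range_glue (range_of_allRange c_xq_46) (range_glue (range_of_allRange c_xq_47) (range_glue (range_of_allRange c_xq_48) (range_glue (range_of_allRange c_xq_49) (range_glue (range_of_allRange c_xq_50) (range_glue (range_of_allRange c_xq_51) (range_glue (range_of_allRange c_xq_52) (range_glue (range_of_allRange c_xq_53) (range_glue (range_of_allRange c_xq_54) (range_glue (range_of_allRange c_xq_55) (range_glue (range_of_allRange c_xq_56) (range_of_allRange c_xq_57))))))))))))))))))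
theorem h_xq : ∀ i, i < T.N → Tab.relActOK T D (List.replicate 11 xw).flatten i = true := by
  intro i hi
  rw [Tab.relActOK, ← actX_eq]
  exact (range_glue h_xq_p0 h_xq_p1) i (Nat.zero_le _) hi

end Cfsg.Agent.Lib.Helper4.TCD.Fi22Q
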