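import Cfsg.Agent.Lib.Helper4.TCD_Fi22b_Acc

namespace Cfsg.Agent.Lib.Helper4.TCD.Fi22b

open Cfsg.Agent.Lib.Helper4.TC

set_option maxRecDepth 100000
set_option Elab.async false

theorem c_act26_0 : allRange (fun i => Nat.beq (actR26 i) i) 0 10000 = true := by decide +kernel
theorem c_act26_1 : allRange (fun i => Nat.beq (actR26 i) i) 10000 4080 = true := by decide +kernel
theorem c_act27_0 : allRange (fun i => Nat.beq (actR27 i) i) 0 14080 = true := by decide +kernel
theorem c_act28_0 : allRange (fun i => Nat.beq (actR28 i) i) 0 14080 = true := by decide +kernel
theorem c_act29_0 : allRange (fun i => Nat.beq (actR29 i) i) 0 14080 = true := by decide +kernel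
theorem c_act30_0 : allRange (fun i => Nat.beq (actR30 i) i) 0 14080 = true := by decide +kernel
theorem c_act31_0 : allRange (fun i => Nat.beq (actR31 i) i) 0 14080 = true := by decide +kernel
theorem c_act32_0 : allRange (fun i => Nat.beq (actR32 i) i) 0 10000 = true := by decide +kernel
theorem c_act32_1 : allRange (fun i => Nat.beq (actR32 i) i) 10000 4080 = true := by decide +kernel
theorem c_act33_0 : allRange (fun i => Nat.beq (actR33 i) i) 0 14080 = true := by decide +kernel
theorem c_act34_0 : allRange (fun i => Nat.beq (actR34 i) i) 0 14080 = true := by decide +kernel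
theorem c_act35_0 : allRange (fun i => Nat.beq (actR35 i) i) 0 14080 = true := by decide +kernel
theorem c_act36_0 : allRange (fun i => Nat.beq (actR36 i) i) 0 14080 = true := by decide +kernel
theorem c_act37_0 : allRange (fun i => Nat.beq (actR37 i) i) 0 14080 = true := by decide +kernel
theorem c_act38_0 : allRange (fun i => Nat.beq (actR38 i) i) 0 10000 = true := by decide +kernel
theorem c_act38_1 : allRange (fun i => Nat.beq (actR38 i) i) 10000 4080 = true := by decide +kernel
theorem c_act39_0 : allRange (fun i => Nat.beq (actR39 i) i) 0 14080 = true := by decide +kernel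
theorem c_act40_0 : allRange (fun i => Nat.beq (actR40 i) i) 0 10000 = true := by decide +kernel
theorem c_act40_1 : allRange (fun i => Nat.beq (actR40 i) i) 10000 4080 = true := by decide +kernel
theorem c_act41_0 : allRange (fun i => Nat.beq (actR41 i) i) 0 14080 = true := by decide +kernel
theorem c_act42_0 : allRange (fun i => Nat.beq (actR42 i) i) 0 14080 = true := by decide +kernel
theorem c_act43_0 : allRange (fun i => Nat.beq (actR43 i) i) 0 14080 = true := by decide +kernel
theorem c_act44_0 : allRange (fun i => Nat.beq (actR44 i) i) 0 14080 = true := by decide +kernel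
theorem c_act45_0 : allRange (fun i => Nat.beq (actR45 i) i) 0 666 = true := by decide +kernel
theorem c_act45_1 : allRange (fun i => Nat.beq (actR45 i) i) 666 666 = true := by decide +kernel
theorem c_act45_2 : allRange (fun i => Nat.beq (actR45 i) i) 1332 666 = true := by decide +kernel
theorem c_act45_3 : allRange (fun i => Nat.beq (actR45 i) i) 1998 666 = true := by decide +kernel
theorem c_act45_4 : allRange (fun i => Nat.beq (actR45 i) i) 2664 666 = true := by decide +kernel
theorem c_act45_5 : allRange (fun i => Nat.beq (actR45 i) i) 3330 666 = true := by decide +kernel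
theorem c_act45_6 : allRange (fun i => Nat.beq (actR45 i) i) 3996 666 = true := by decide +kernel
theorem c_act45_7 : allRange (fun i => Nat.beq (actR45 i) i) 4662 666 = true := by decide +kernel
theorem c_act45_8 : allRange (fun i => Nat.beq (actR45 i) i) 5328 666 = true := by decide +kernel
theorem c_act45_9 : allRange (fun i => Nat.beq (actR45 i) i) 5994 666 = true := by decide +kernel
theorem c_act45_10 : allRange (fun i => Nat.beq (actR45 i) i) 6660 666 = true := by decide +kernel
theorem c_act45_11 : allRange (fun i => Nat.beq (actR45 i) i) 7326 666 = true := by decide +kernel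
theorem c_act45_12 : allRange (fun i => Nat.beq (actR45 i) i) 7992 666 = true := by decide +kernel
theorem c_act45_13 : allRange (fun i => Nat.beq (actR45 i) i) 8658 666 = true := by decide +kernel
theorem c_act45_14 : allRange (fun i => Nat.beq (actR45 i) i) 9324 666 = true := by decide +kernel
theorem c_act45_15 : allRange (fun i => Nat.beq (actR45 i) i) 9990 666 = true := by decide +kernel
theorem c_act45_16 : allRange (fun i => Nat.beq (actR45 i) i) 10656 666 = true := by decide +kernel
theorem c_act45_17 : allRange (fun i => Nat.beq (actR45 i) i) 11322 666 = true := by decide +kernel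
theorem c_act45_18 : allRange (fun i => Nat.beq (actR45 i) i) 11988 666 = true := by decide +kernel
theorem c_act45_19 : allRange (fun i => Nat.beq (actR45 i) i) 12654 666 = true := by decide +kernel
theorem c_act45_20 : allRange (fun i => Nat.beq (actR45 i) i) 13320 666 = true := by decide +kernel
theorem c_act45_21 : allRange (fun i => Nat.beq (actR45 i) i) 13986 94 = true := by decide +kernel
theorem c_act46_0 : allRange (fun i => Nat.beq (actR46 i) i) 0 952 = true := by decide +kernel
theorem c_act46_1 : allRange (fun i => Nat.beq (actR46 i) i) 952 952 = true := by decide +kernel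
theorem c_act46_2 : allRange (fun i => Nat.beq (actR46 i) i) 1904 952 = true := by decide +kernel
theorem c_act46_3 : allRange (fun i => Nat.beq (actR46 i) i) 2856 952 = true := by decide +kernel
theorem c_act46_4 : allRange (fun i => Nat.beq (actR46 i) i) 3808 952 = true := by decide +kernel
theorem c_act46_5 : allRange (fun i => Nat.beq (actR46 i) i) 4760 952 = true := by decide +kernel
theorem c_act46_6 : allRange (fun i => Nat.beq (actR46 i) i) 5712 952 = true := by decide +kernel
theorem c_act46_7 : allRange (fun i => Nat.beq (actR46 i) i) 6664 952 = true := by decide +kernel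
theorem c_act46_8 : allRange (fun i => Nat.beq (actR46 i) i) 7616 952 = true := by decide +kernel
theorem c_act46_9 : allRange (fun i => Nat.beq (actR46 i) i) 8568 952 = true := by decide +kernel
theorem c_act46_10 : allRange (fun i => Nat.beq (actR46 i) i) 9520 952 = true := by decide +kernel

end Cfsg.Agent.Lib.Helper4.TCD.Fi22b
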