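import Cfsg.Agent.Lib.Helper4.TCD_Fi22b_Acc

namespace Cfsg.Agent.Lib.Helper4.TCD.Fi22b

open Cfsg.Agent.Lib.Helper4.TC

set_option maxRecDepth 100000
set_option Elab.async false

theorem c_act46_11 : allRange (fun i => Nat.beq (actR46 i) i) 10472 952 = true := by decide +kernel
theorem c_act46_12 : allRange (fun i => Nat.beq (actR46 i) i) 11424 952 = true := by decide +kernel
theorem c_act46_13 : allRange (fun i => Nat.beq (actR46 i) i) 12376 952 = true := by decide +kernel
theorem c_act46_14 : allRange (fun i => Nat.beq (actR46 i) i) 13328 752 = true := by decide +kernel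
theorem c_act47_0 : allRange (fun i => Nat.beq (actR47 i) i) 0 952 = true := by decide +kernel
theorem c_act47_1 : allRange (fun i => Nat.beq (actR47 i) i) 952 952 = true := by decide +kernel
theorem c_act47_2 : allRange (fun i => Nat.beq (actR47 i) i) 1904 952 = true := by decide +kernel
theorem c_act47_3 : allRange (fun i => Nat.beq (actR47 i) i) 2856 952 = true := by decide +kernel
theorem c_act47_4 : allRange (fun i => Nat.beq (actR47 i) i) 3808 952 = true := by decide +kernel
theorem c_act47_5 : allRange (fun i => Nat.beq (actR47 i) i) 4760 952 = true := by decide +kernel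
theorem c_act47_6 : allRange (fun i => Nat.beq (actR47 i) i) 5712 952 = true := by decide +kernel
theorem c_act47_7 : allRange (fun i => Nat.beq (actR47 i) i) 6664 952 = true := by decide +kernel
theorem c_act47_8 : allRange (fun i => Nat.beq (actR47 i) i) 7616 952 = true := by decide +kernel
theorem c_act47_9 : allRange (fun i => Nat.beq (actR47 i) i) 8568 952 = true := by decide +kernel
theorem c_act47_10 : allRange (fun i => Nat.beq (actR47 i) i) 9520 952 = true := by decide +kernel
theorem c_act47_11 : allRange (fun i => Nat.beq (actR47 i) i) 10472 952 = true := by decide +kernel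
theorem c_act47_12 : allRange (fun i => Nat.beq (actR47 i) i) 11424 952 = true := by decide +kernel
theorem c_act47_13 : allRange (fun i => Nat.beq (actR47 i) i) 12376 952 = true := by decide +kernel
theorem c_act47_14 : allRange (fun i => Nat.beq (actR47 i) i) 13328 752 = true := by decide +kernel

end Cfsg.Agent.Lib.Helper4.TCD.Fi22b
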