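import Cfsg.Agent.Lib.Helper4.TCD_Fi22b_C0
import Cfsg.Agent.Lib.Helper4.TCD_Fi22b_C1
import Cfsg.Agent.Lib.Helper4.TCD_Fi22b_C2

namespace Cfsg.Agent.Lib.Helper4.TCD.Fi22b

open Cfsg.Agent.Lib.Helper4.TC

theorem h_rel : ∀ t, 15654 ≤ t → t < 75851 → D.relOK t = true :=
  (range_glue (range_of_allRange c_rel_0) (range_glue (range_of_allRange c_rel_1) (range_glue (range_of_allRange c_rel_2) (range_glue (range_of_allRange c_rel_3) (range_glue (range_of_allRange c_rel_4) (range_glue (range_of_allRange c_rel_5) (range_glue (range_of_allRange c_rel_6) (range_glue (range_of_allRange c_rel_7) (range_glue (range_of_allRange c_rel_8) (range_glue (range_of_allRange c_rel_9) (range_glue (range_of_allRange c_rel_10) (range_glue (range_of_allRange c_rel_11) (range_glue (range_of_allRange c_rel_12) (range_glue (range_of_allRange c_rel_13) (range_glue (range_of_allRange c_rel_14) (range_glue (range_of_allRange c_rel_15) (range_glue (range_of_allRange c_rel_16) (range_of_allRange c_rel_17))))))))))))))))))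
theorem h_names : ∀ t, 1 ≤ t → t < 15638 → D.nameOK t = true :=
  (range_of_allRange c_names_0)
theorem h_cls : ∀ t, 1 ≤ t → t < 15638 → T.clsOK D t = true :=
  (range_glue (range_of_allRange c_cls_0) (range_of_allRange c_cls_1))
theorem h_rep : ∀ t, 0 ≤ t → t < 14080 → T.repOK D t = true :=
  (range_of_allRange c_rep_0)
theorem h_fin : ∀ i, 0 ≤ i → i < 14080 → ∀ x, x < 9 → T.finOK D i x = true :=
  (range_glue (range_of_allGrid c_fin_0) (range_glue (range_of_allGrid c_fin_1) (range_glue (range_of_allGrid c_fin_2) (range_glue (range_of_allGrid c_fin_3) (range_glue (range_of_allGrid c_fin_4) (range_glue (range_of_allGrid c_fin_5) (range_glue (range_of_allGrid c_fin_6) (range_glue (range_of_allGrid c_fin_7) (range_glue (range_of_allGrid c_fin_8) (range_glue (range_of_allGrid c_fin_9) (range_of_allGrid c_fin_10)))))))))))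
theorem h_perm : ∀ i, 0 ≤ i → i < 14080 → ∀ x, x < 9 → T.permOK1 D i x = true :=
  (range_glue (range_of_allGrid c_perm_0) (range_glue (range_of_allGrid c_perm_1) (range_glue (range_of_allGrid c_perm_2) (range_glue (range_of_allGrid c_perm_3) (range_of_allGrid c_perm_4)))))
theorem h_act0 : ∀ i, 0 ≤ i → i < 14080 → Nat.beq (actR0 i) i = true :=
  (range_of_allRange c_act0_0)
theorem h_act1 : ∀ i, 0 ≤ i → i < 14080 → Nat.beq (actR1 i) i = true :=
  (range_glue (range_of_allRange c_act1_0) (range_of_allRange c_act1_1))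
theorem h_act2 : ∀ i, 0 ≤ i → i < 14080 → Nat.beq (actR2 i) i = true :=
  (range_of_allRange c_act2_0)
theorem h_act3 : ∀ i, 0 ≤ i → i < 14080 → Nat.beq (actR3 i) i = true :=
  (range_of_allRange c_act3_0)
theorem h_act4 : ∀ i, 0 ≤ i → i < 14080 → Nat.beq (actR4 i) i = true :=
  (range_of_allRange c_act4_0)
theorem h_act5 : ∀ i, 0 ≤ i → i < 14080 → Nat.beq (actR5 i) i = true :=
  (range_of_allRange c_act5_0)
theorem h_act6 : ∀ i, 0 ≤ i → i < 14080 → Nat.beq (actR6 i) i = true :=
  (range_of_allRange c_act6_0)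
theorem h_act7 : ∀ i, 0 ≤ i → i < 14080 → Nat.beq (actR7 i) i = true :=
  (range_of_allRange c_act7_0)
theorem h_act8 : ∀ i, 0 ≤ i → i < 14080 → Nat.beq (actR8 i) i = true :=
  (range_of_allRange c_act8_0)
theorem h_act9 : ∀ i, 0 ≤ i → i < 14080 → Nat.beq (actR9 i) i = true :=
  (range_of_allRange c_act9_0)
theorem h_act10 : ∀ i, 0 ≤ i → i < 14080 → Nat.beq (actR10 i) i = true :=
  (range_glue (range_of_allRange c_act10_0) (range_of_allRange c_act10_1))
theorem h_act11 : ∀ i, 0 ≤ i → i < 14080 → Nat.beq (actR11 i) i = true :=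
  (range_of_allRange c_act11_0)
theorem h_act12 : ∀ i, 0 ≤ i → i < 14080 → Nat.beq (actR12 i) i = true :=
  (range_of_allRange c_act12_0)
theorem h_act13 : ∀ i, 0 ≤ i → i < 14080 → Nat.beq (actR13 i) i = true :=
  (range_of_allRange c_act13_0)
theorem h_act14 : ∀ i, 0 ≤ i → i < 14080 → Nat.beq (actR14 i) i = true :=
  (range_of_allRange c_act14_0)
theorem h_act15 : ∀ i, 0 ≤ i → i < 14080 → Nat.beq (actR15 i) i = true :=
  (range_of_allRange c_act15_0)
theorem h_act16 : ∀ i, 0 ≤ i → i < 14080 → Nat.beq (actR16 i) i = true :=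
  (range_of_allRange c_act16_0)
theorem h_act17 : ∀ i, 0 ≤ i → i < 14080 → Nat.beq (actR17 i) i = true :=
  (range_of_allRange c_act17_0)
theorem h_act18 : ∀ i, 0 ≤ i → i < 14080 → Nat.beq (actR18 i) i = true :=
  (range_glue (range_of_allRange c_act18_0) (range_of_allRange c_act18_1))
theorem h_act19 : ∀ i, 0 ≤ i → i < 14080 → Nat.beq (actR19 i) i = true :=
  (range_of_allRange c_act19_0)
theorem h_act20 : ∀ i, 0 ≤ i → i < 14080 → Nat.beq (actR20 i) i = true :=
  (range_of_allRange c_act20_0)
theorem h_act21 : ∀ i, 0 ≤ i → i < 14080 → Nat.beq (actR21 i) i = true :=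
  (range_of_allRange c_act21_0)
theorem h_act22 : ∀ i, 0 ≤ i → i < 14080 → Nat.beq (actR22 i) i = true :=
  (range_of_allRange c_act22_0)
theorem h_act23 : ∀ i, 0 ≤ i → i < 14080 → Nat.beq (actR23 i) i = true :=
  (range_of_allRange c_act23_0)
theorem h_act24 : ∀ i, 0 ≤ i → i < 14080 → Nat.beq (actR24 i) i = true :=
  (range_of_allRange c_act24_0)
theorem h_act25 : ∀ i, 0 ≤ i → i < 14080 → Nat.beq (actR25 i) i = true :=
  (range_glue (range_of_allRange c_act25_0) (range_of_allRange c_act25_1))
theorem h_act26 : ∀ i, 0 ≤ i → i < 14080 → Nat.beq (actR26 i) i = true :=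
  (range_glue (range_of_allRange c_act26_0) (range_of_allRange c_act26_1))
theorem h_act27 : ∀ i, 0 ≤ i → i < 14080 → Nat.beq (actR27 i) i = true :=
  (range_of_allRange c_act27_0)
theorem h_act28 : ∀ i, 0 ≤ i → i < 14080 → Nat.beq (actR28 i) i = true :=
  (range_of_allRange c_act28_0)
theorem h_act29 : ∀ i, 0 ≤ i → i < 14080 → Nat.beq (actR29 i) i = true :=
  (range_of_allRange c_act29_0)
theorem h_act30 : ∀ i, 0 ≤ i → i < 14080 → Nat.beq (actR30 i) i = true :=
  (range_of_allRange c_act30_0)
theorem h_act31 : ∀ i, 0 ≤ i → i < 14080 → Nat.beq (actR31 i) i = true :=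
  (range_of_allRange c_act31_0)
theorem h_act32 : ∀ i, 0 ≤ i → i < 14080 → Nat.beq (actR32 i) i = true :=
  (range_glue (range_of_allRange c_act32_0) (range_of_allRange c_act32_1))
theorem h_act33 : ∀ i, 0 ≤ i → i < 14080 → Nat.beq (actR33 i) i = true :=
  (range_of_allRange c_act33_0)
theorem h_act34 : ∀ i, 0 ≤ i → i < 14080 → Nat.beq (actR34 i) i = true :=
  (range_of_allRange c_act34_0)
theorem h_act35 : ∀ i, 0 ≤ i → i < 14080 → Nat.beq (actR35 i) i = true :=
  (range_of_allRange c_act35_0)
theorem h_act36 : ∀ i, 0 ≤ i → i < 14080 → Nat.beq (actR36 i) i = true :=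
  (range_of_allRange c_act36_0)
theorem h_act37 : ∀ i, 0 ≤ i → i < 14080 → Nat.beq (actR37 i) i = true :=
  (range_of_allRange c_act37_0)
theorem h_act38 : ∀ i, 0 ≤ i → i < 14080 → Nat.beq (actR38 i) i = true :=
  (range_glue (range_of_allRange c_act38_0) (range_of_allRange c_act38_1))
theorem h_act39 : ∀ i, 0 ≤ i → i < 14080 → Nat.beq (actR39 i) i = true :=
  (range_of_allRange c_act39_0)
theorem h_act40 : ∀ i, 0 ≤ i → i < 14080 → Nat.beq (actR40 i) i = true :=
  (range_glue (range_of_allRange c_act40_0) (range_of_allRange c_act40_1))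
theorem h_act41 : ∀ i, 0 ≤ i → i < 14080 → Nat.beq (actR41 i) i = true :=
  (range_of_allRange c_act41_0)
theorem h_act42 : ∀ i, 0 ≤ i → i < 14080 → Nat.beq (actR42 i) i = true :=
  (range_of_allRange c_act42_0)
theorem h_act43 : ∀ i, 0 ≤ i → i < 14080 → Nat.beq (actR43 i) i = true :=
  (range_of_allRange c_act43_0)
theorem h_act44 : ∀ i, 0 ≤ i → i < 14080 → Nat.beq (actR44 i) i = true :=
  (range_of_allRange c_act44_0)
theorem h_act45 : ∀ i, 0 ≤ i → i < 14080 → Nat.beq (actR45 i) i = true :=
  (range_glue (range_of_allRange c_act45_0) (range_glue (range_of_allRange c_act45_1) (range_glue (range_of_allRange c_act45_2) (range_glue (range_of_allRange c_act45_3) (range_glue (range_of_allRange c_act45_4) (range_glue (range_of_allRange c_act45_5) (range_glue (range_of_allRange c_act45_6) (range_glue (range_of_allRange c_act45_7) (range_glue (range_of_allRange c_act45_8) (range_glue (range_of_allRange c_act45_9) (range_glue (range_of_allRange c_act45_10) (range_glue (range_of_allRange c_act45_11) (range_glue (range_of_allRange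 c_act45_12) (range_glue (range_of_allRange c_act45_13) (range_glue (range_of_allRange c_act45_14) (range_glue (range_of_allRange c_act45_15) (range_glue (range_of_allRange c_act45_16) (range_glue (range_of_allRange c_act45_17) (range_glue (range_of_allRange c_act45_18) (range_glue (range_of_allRange c_act45_19) (range_glue (range_of_allRange c_act45_20) (range_of_allRange c_act45_21))))))))))))))))))))))
theorem h_act46 : ∀ i, 0 ≤ i → i < 14080 → Nat.beq (actR46 i) i = true :=
  (range_glue (range_of_allRange c_act46_0) (range_glue (range_of_allRange c_act46_1) (range_glue (range_of_allRange c_act46_2) (range_glue (range_of_allRange c_act46_3) (range_glue (range_of_allRange c_act46_4) (range_glue (range_of_allRange c_act46_5) (range_glue (range_of_allRange c_act46_6) (range_glue (range_of_allRange c_act46_7) (range_glue (range_of_allRange c_act46_8) (range_glue (range_of_allRange c_act46_9) (range_glue (range_of_allRange c_act46_10) (range_glue (range_of_allRange c_act46_11) (range_glue (range_of_allRange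 c_act46_12) (range_glue (range_of_allRange c_act46_13) (range_of_allRange c_act46_14)))))))))))))))
theorem h_act47 : ∀ i, 0 ≤ i → i < 14080 → Nat.beq (actR47 i) i = true :=
  (range_glue (range_of_allRange c_act47_0) (range_glue (range_of_allRange c_act47_1) (range_glue (range_of_allRange c_act47_2) (range_glue (range_of_allRange c_act47_3) (range_glue (range_of_allRange c_act47_4) (range_glue (range_of_allRange c_act47_5) (range_glue (range_of_allRange c_act47_6) (range_glue (range_of_allRange c_act47_7) (range_glue (range_of_allRange c_act47_8) (range_glue (range_of_allRange c_act47_9) (range_glue (range_of_allRange c_act47_10) (range_glue (range_of_allRange c_act47_11) (range_glue (range_of_allRange c_act47_12) (range_glue (range_of_allRange c_act47_13) (range_of_allRange c_act47_14)))))))))))))))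

theorem checked : T.Checked D where
  hz := c_zero
  hn := fun d h0 hd => h_names d h0 hd
  hb := fun j hj => allBelow_eq_true.1 c_base j hj
  hr := fun t h1 h2 => h_rel t h1 h2
  hfin := fun i x hi hx => h_fin i (Nat.zero_le _) hi x hx
  hperm := fun i x hi hx => h_perm i (Nat.zero_le _) hi x hx
  hlet := fun x hx => allBelow_eq_true.1 c_let x hx
  hcls := fun d h0 hd => h_cls d h0 hd
  hrep := fun i hi => h_rep i (Nat.zero_le _) hi
  hcls0 := c_cls0
  hname0 := c_name0
  hN := by decide
  hM := by decide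

theorem h_act : ∀ L ∈ PFi22.P.real, ∀ i, i < T.N → Tab.relActOK T D L i = true := by
  rw [c_real]
  intro L hL
  simp only [realLit, List.mem_cons, List.not_mem_nil, or_false] at hL
  rcases hL with rfl | rfl | rfl | rfl | rfl | rfl | rfl | rfl | rfl | rfl | rfl | rfl | rfl | rfl | rfl | rfl | rfl | rfl | rfl | rfl | rfl | rfl | rfl | rfl | rfl | rfl | rfl | rfl | rfl | rfl | rfl | rfl | rfl | rfl | rfl | rfl | rfl | rfl | rfl | rfl | rfl | rfl | rfl | rfl | rfl | rfl | rfl | rfl
  · intro i hi
    rw [Tab.relActOK, ← actR0_eq]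
    exact h_act0 i (Nat.zero_le _) hi
  · intro i hi
    rw [Tab.relActOK, ← actR1_eq]
    exact h_act1 i (Nat.zero_le _) hi
  · intro i hi
    rw [Tab.relActOK, ← actR2_eq]
    exact h_act2 i (Nat.zero_le _) hi
  · intro i hi
    rw [Tab.relActOK, ← actR3_eq]
    exact h_act3 i (Nat.zero_le _) hi
  · intro i hi
    rw [Tab.relActOK, ← actR4_eq]
    exact h_act4 i (Nat.zero_le _) hi
  · intro i hi
    rw [Tab.relActOK, ← actR5_eq]
    exact h_act5 i (Nat.zero_le _) hi
  · intro i hi
    rw [Tab.relActOK, ← actR6_eq]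
    exact h_act6 i (Nat.zero_le _) hi
  · intro i hi
    rw [Tab.relActOK, ← actR7_eq]
    exact h_act7 i (Nat.zero_le _) hi
  · intro i hi
    rw [Tab.relActOK, ← actR8_eq]
    exact h_act8 i (Nat.zero_le _) hi
  · intro i hi
    rw [Tab.relActOK, ← actR9_eq]
    exact h_act9 i (Nat.zero_le _) hi
  · intro i hi
    rw [Tab.relActOK, ← actR10_eq]
    exact h_act10 i (Nat.zero_le _) hi
  · intro i hi
    rw [Tab.relActOK, ← actR11_eq]
    exact h_act11 i (Nat.zero_le _) hi
  · intro i hi
    rw [Tab.relActOK, ← actR12_eq]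
    exact h_act12 i (Nat.zero_le _) hi
  · intro i hi
    rw [Tab.relActOK, ← actR13_eq]
    exact h_act13 i (Nat.zero_le _) hi
  · intro i hi
    rw [Tab.relActOK, ← actR14_eq]
    exact h_act14 i (Nat.zero_le _) hi
  · intro i hi
    rw [Tab.relActOK, ← actR15_eq]
    exact h_act15 i (Nat.zero_le _) hi
  · intro i hi
    rw [Tab.relActOK, ← actR16_eq]
    exact h_act16 i (Nat.zero_le _) hi
  · intro i hi
    rw [Tab.relActOK, ← actR17_eq]
    exact h_act17 i (Nat.zero_le _) hi
  · intro i hi
    rw [Tab.relActOK, ← actR18_eq]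
    exact h_act18 i (Nat.zero_le _) hi
  · intro i hi
    rw [Tab.relActOK, ← actR19_eq]
    exact h_act19 i (Nat.zero_le _) hi
  · intro i hi
    rw [Tab.relActOK, ← actR20_eq]
    exact h_act20 i (Nat.zero_le _) hi
  · intro i hi
    rw [Tab.relActOK, ← actR21_eq]
    exact h_act21 i (Nat.zero_le _) hi
  · intro i hi
    rw [Tab.relActOK, ← actR22_eq]
    exact h_act22 i (Nat.zero_le _) hi
  · intro i hi
    rw [Tab.relActOK, ← actR23_eq]
    exact h_act23 i (Nat.zero_le _) hi
  · intro i hi
    rw [Tab.relActOK, ← actR24_eq]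
    exact h_act24 i (Nat.zero_le _) hi
  · intro i hi
    rw [Tab.relActOK, ← actR25_eq]
    exact h_act25 i (Nat.zero_le _) hi
  · intro i hi
    rw [Tab.relActOK, ← actR26_eq]
    exact h_act26 i (Nat.zero_le _) hi
  · intro i hi
    rw [Tab.relActOK, ← actR27_eq]
    exact h_act27 i (Nat.zero_le _) hi
  · intro i hi
    rw [Tab.relActOK, ← actR28_eq]
    exact h_act28 i (Nat.zero_le _) hi
  · intro i hi
    rw [Tab.relActOK, ← actR29_eq]
    exact h_act29 i (Nat.zero_le _) hi
  · intro i hi
    rw [Tab.relActOK, ← actR30_eq]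
    exact h_act30 i (Nat.zero_le _) hi
  · intro i hi
    rw [Tab.relActOK, ← actR31_eq]
    exact h_act31 i (Nat.zero_le _) hi
  · intro i hi
    rw [Tab.relActOK, ← actR32_eq]
    exact h_act32 i (Nat.zero_le _) hi
  · intro i hi
    rw [Tab.relActOK, ← actR33_eq]
    exact h_act33 i (Nat.zero_le _) hi
  · intro i hi
    rw [Tab.relActOK, ← actR34_eq]
    exact h_act34 i (Nat.zero_le _) hi
  · intro i hi
    rw [Tab.relActOK, ← actR35_eq]
    exact h_act35 i (Nat.zero_le _) hi
  · intro i hi
    rw [Tab.relActOK, ← actR36_eq]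
    exact h_act36 i (Nat.zero_le _) hi
  · intro i hi
    rw [Tab.relActOK, ← actR37_eq]
    exact h_act37 i (Nat.zero_le _) hi
  · intro i hi
    rw [Tab.relActOK, ← actR38_eq]
    exact h_act38 i (Nat.zero_le _) hi
  · intro i hi
    rw [Tab.relActOK, ← actR39_eq]
    exact h_act39 i (Nat.zero_le _) hi
  · intro i hi
    rw [Tab.relActOK, ← actR40_eq]
    exact h_act40 i (Nat.zero_le _) hi
  · intro i hi
    rw [Tab.relActOK, ← actR41_eq]
    exact h_act41 i (Nat.zero_le _) hi
  · intro i hi
    rw [Tab.relActOK, ← actR42_eq]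
    exact h_act42 i (Nat.zero_le _) hi
  · intro i hi
    rw [Tab.relActOK, ← actR43_eq]
    exact h_act43 i (Nat.zero_le _) hi
  · intro i hi
    rw [Tab.relActOK, ← actR44_eq]
    exact h_act44 i (Nat.zero_le _) hi
  · intro i hi
    rw [Tab.relActOK, ← actR45_eq]
    exact h_act45 i (Nat.zero_le _) hi
  · intro i hi
    rw [Tab.relActOK, ← actR46_eq]
    exact h_act46 i (Nat.zero_le _) hi
  · intro i hi
    rw [Tab.relActOK, ← actR47_eq]
    exact h_act47 i (Nat.zero_le _) hi

theorem inst : Inst PFi22.P T D subs where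
  hP := PFi22.valid
  hk := rfl
  hinv := rfl
  hsubs := by
    intro u hu x hx
    have h1 := List.all_eq_true.1 c_subs u hu
    exact ble_succ (List.all_eq_true.1 h1 x hx)
  htab := c_tab
  hC := checked
  hact := h_act
  hsubfix := fun u hu => beq_eq (List.all_eq_true.1 c_subfix u hu)

theorem index_eq : (Inst.subG PFi22.P subs).index = 14080 := inst.index_eq


end Cfsg.Agent.Lib.Helper4.TCD.Fi22b
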