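import Cfsg.Agent.Lib.Helper4.TCD_Fi22bO_C0
import Cfsg.Agent.Lib.Helper4.TCD_Fi22b_Fin

namespace Cfsg.Agent.Lib.Helper4.TCD.Fi22bO

open Cfsg.Agent.Lib.Helper4.TC Cfsg.Agent.Lib.Helper4.TCD.Fi22b

theorem orb_inv_0 : ∀ j, 1 ≤ j → j < 3160 → Tab.orbInvOK T D subs 1 3160 j = true :=
  (range_of_allRange c_oinv0_0)
theorem orb_tree0_0 : ∀ j, 2 ≤ j → j < 3160 → Tab.orbTreeOK T D subs oparTab olabTab 1 j = true :=
  (range_of_allRange c_otree0_0)
theorem orb_tree_0 : ∀ j, 1 < j → j < 3160 → Tab.orbTreeOK T D subs oparTab olabTab 1 j = true :=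
  fun j h1 h2 => orb_tree0_0 j h1 h2
theorem orb_inv_1 : ∀ j, 3160 ≤ j → j < 14080 → Tab.orbInvOK T D subs 3160 14080 j = true :=
  (range_glue (range_of_allRange c_oinv1_0) (range_glue (range_of_allRange c_oinv1_1) (range_of_allRange c_oinv1_2)))
theorem orb_tree0_1 : ∀ j, 3161 ≤ j → j < 14080 → Tab.orbTreeOK T D subs oparTab olabTab 3160 j = true :=
  (range_of_allRange c_otree1_0)
theorem orb_tree_1 : ∀ j, 3160 < j → j < 14080 → Tab.orbTreeOK T D subs oparTab olabTab 3160 j = true :=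
  fun j h1 h2 => orb_tree0_1 j h1 h2

end Cfsg.Agent.Lib.Helper4.TCD.Fi22bO
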