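import Mathlib
import Cfsg.Agent.S1696
import Cfsg.Agent.Lib.Helper4.TCD_Fi22xR_Fin
import Cfsg.Agent.Lib.Helper4.TC20
import Cfsg.Agent.Lib.Helper4.StemLib5

/-!
The presented group `Fi22x` is isomorphic to the presented Fischer group Fi22: the further generators are words in the
generators of Fi22, the relators hold in a permutation representation on 3510 points, and Fi22 is simple.
-/

set_option autoImplicit false
set_option maxRecDepth 100000

namespace Cfsg.Agent.Lib.Helper4.Fi22xMain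

open Cfsg Cfsg.Agent.Lib.Helper4.TC Cfsg.Agent.Lib.Helper4.TCD Cfsg.Agent.Lib.Helper4.TC.Log

local notation "G" => PFi22x.P.Grp
local notation "gG" => PFi22x.P.gR

theorem hinv (y : ℕ) (hy : y < 30) : gG (PFi22x.P.invR y) = (gG y)⁻¹ :=
  (PFi22x.valid.invR_sound y (by show y ≤ 30; omega)).2

/-- the relators of Fi22 are relators of `Fi22x` -/
theorem real_sub : ∀ L ∈ PFi22.P.real, L.map (fun l => 2 * l) ∈ PFi22x.P.real := by decide +kernel

theorem wordP_double (L : List ℕ) : wordP (fun l => gG (2 * l)) L = wordP gG (L.map fun l => 2 * l) := by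
  induction L with
  | nil => rfl
  | cons x L ih => rw [List.map_cons, wordP_cons, wordP_cons, ih]

theorem sq_mem : ∀ l, l < 9 → [l, l] ∈ PFi22.P.real := by decide +kernel

theorem exists_ψ : ∃ ψ : PFi22.P.Grp →* G, ∀ l, l < PFi22.P.k → ψ (PFi22.P.gR l) = gG (2 * l) := by
  apply exists_hom_of_letters PFi22.P PFi22.valid (fun l => gG (2 * l))
  · intro l hl
    have hl : l < 9 := hl
    have e : PFi22.P.invR l = l := by interval_cases l <;> rfl
    show gG (2 * l) * gG (2 * PFi22.P.invR l) = 1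
    rw [e]
    have h := (PFi22x.valid.real_sound _ (real_sub _ (sq_mem l hl))).2
    simpa [wordP_cons, wordP_nil] using h
  · intro L hL
    rw [wordP_double]
    exact (PFi22x.valid.real_sound _ (real_sub L hL)).2

/-- the homomorphism from the presented group Fi22 -/
noncomputable def ψ : PFi22.P.Grp →* G := Classical.choose exists_ψ

theorem ψ_gR (l : ℕ) (hl : l < 9) : ψ (PFi22.P.gR l) = gG (2 * l) := Classical.choose_spec exists_ψ l hl

theorem old_mem (y : ℕ) (hy : y < 18) : gG y ∈ ψ.range := by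
  have he : ∀ l, l < 9 → gG (2 * l) ∈ ψ.range := fun l hl => ⟨PFi22.P.gR l, ψ_gR l hl⟩
  have ho : ∀ l, l < 9 → gG (2 * l + 1) ∈ ψ.range := by
    intro l hl
    have e : PFi22x.P.invR (2 * l) = 2 * l + 1 := by interval_cases l <;> rfl
    rw [← e, hinv (2 * l) (by omega)]
    exact inv_mem (he l hl)
  rcases Nat.even_or_odd' y with ⟨l, rfl | rfl⟩
  · exact he l (by omega)
  · exact ho l (by omega)

/-- the defining relator of the letter 18 -/
def defrel18 : List ℕ := [19, 12, 10, 6, 8, 4, 6, 2, 4, 0, 2, 0, 2, 0, 4, 2, 6, 4, 8, 6, 10, 12, 0]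

theorem defrel18_mem : defrel18 ∈ PFi22x.P.real := by decide +kernel

theorem new18_mem : gG 18 ∈ ψ.range := by
  have h := (PFi22x.valid.real_sound _ defrel18_mem).2
  rw [defrel18, wordP_cons] at h
  have h1 : gG 19 = (gG 18)⁻¹ := hinv 18 (by decide)
  rw [h1] at h
  have h2 : gG 18 = wordP gG [12, 10, 6, 8, 4, 6, 2, 4, 0, 2, 0, 2, 0, 4, 2, 6, 4, 8, 6, 10, 12, 0] := by
    rw [← mul_one (gG 18), ← h]; group
  rw [h2]
  exact Sgs.wordP_mem_closure gG ψ.range _ (fun e he => old_mem e (by revert e; decide))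

/-- the defining relator of the letter 20 -/
def defrel20 : List ℕ := [21, 14, 8, 10, 6, 8, 4, 6, 14, 16, 6, 14, 8, 10, 6, 8, 2, 4, 6, 14, 12, 10, 8, 6, 4, 2, 0, 2, 4, 6, 8, 10, 12, 14, 6, 4, 2, 8, 6, 10, 8, 14, 6, 16, 14, 6, 4, 8, 6, 10, 8, 14, 16, 6, 14, 8, 10, 6, 8, 2, 4, 6, 14, 12, 10, 8, 6, 4, 2, 0, 2, 4, 6, 8, 10, 12, 14, 6, 4, 2, 8, 6, 10, 8, 14, 6, 16, 14, 6, 8, 4, 6, 14, 16, 2, 4, 6, 14, 8, 6, 4, 2, 0, 2, 4, 6, 8, 14, 6, 4, 2, 16, 14, 6, 4, 8, 6, 14, 10, 8, 6, 14, 12, 10, 8, 6, 2, 4, 0, 2, 0, 2, 0, 4, 2, 6, 8, 10, 12, 14, 6, 8, 10]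

theorem defrel20_mem : defrel20 ∈ PFi22x.P.real := by decide +kernel

theorem new20_mem : gG 20 ∈ ψ.range := by
  have h := (PFi22x.valid.real_sound _ defrel20_mem).2
  rw [defrel20, wordP_cons] at h
  have h1 : gG 21 = (gG 20)⁻¹ := hinv 20 (by decide)
  rw [h1] at h
  have h2 : gG 20 = wordP gG [14, 8, 10, 6, 8, 4, 6, 14, 16, 6, 14, 8, 10, 6, 8, 2, 4, 6, 14, 12, 10, 8, 6, 4, 2, 0, 2, 4, 6, 8, 10, 12, 14, 6, 4, 2, 8, 6, 10, 8, 14, 6, 16, 14, 6, 4, 8, 6, 10, 8, 14, 16, 6, 14, 8, 10, 6, 8, 2, 4, 6, 14, 12, 10, 8, 6, 4, 2, 0, 2, 4, 6, 8, 10, 12, 14, 6, 4, 2, 8, 6, 10, 8, 14, 6, 16, 14, 6, 8, 4, 6, 14, 16, 2, 4, 6, 14, 8, 6, 4, 2, 0, 2, 4, 6, 8, 14, 6, 4, 2, 16, 14, 6, 4, 8, 6, 14, 10, 8, 6, 14, 12, 10, 8, 6, 2, 4, 0, 2, 0, 2, 0, 4, 2, 6, 8, 10, 12, 14, 6, 8, 10] := by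
    rw [← mul_one (gG 20), ← h]; group
  rw [h2]
  exact Sgs.wordP_mem_closure gG ψ.range _ (fun e he => old_mem e (by revert e; decide))

/-- the defining relator of the letter 22 -/
def defrel22 : List ℕ := [23, 10, 8, 4, 6, 14, 16, 14, 8, 10, 4, 6, 8, 2, 4, 6, 14, 12, 10, 8, 6, 4, 2, 0, 2, 4, 6, 8, 10, 12, 14, 6, 4, 2, 8, 6, 4, 10, 8, 14, 16, 14, 6, 4, 8, 10, 2, 4, 0, 2, 0, 2, 0, 4, 2]

theorem defrel22_mem : defrel22 ∈ PFi22x.P.real := by decide +kernel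

theorem new22_mem : gG 22 ∈ ψ.range := by
  have h := (PFi22x.valid.real_sound _ defrel22_mem).2
  rw [defrel22, wordP_cons] at h
  have h1 : gG 23 = (gG 22)⁻¹ := hinv 22 (by decide)
  rw [h1] at h
  have h2 : gG 22 = wordP gG [10, 8, 4, 6, 14, 16, 14, 8, 10, 4, 6, 8, 2, 4, 6, 14, 12, 10, 8, 6, 4, 2, 0, 2, 4, 6, 8, 10, 12, 14, 6, 4, 2, 8, 6, 4, 10, 8, 14, 16, 14, 6, 4, 8, 10, 2, 4, 0, 2, 0, 2, 0, 4, 2] := by
    rw [← mul_one (gG 22), ← h]; group
  rw [h2]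
  exact Sgs.wordP_mem_closure gG ψ.range _ (fun e he => old_mem e (by revert e; decide))

/-- the defining relator of the letter 24 -/
def defrel24 : List ℕ := [25, 16, 8, 6, 14, 10, 12, 8, 10, 6, 8, 4, 6, 14, 16, 8, 10, 4, 6, 8, 2, 4, 6, 14, 12, 10, 8, 6, 4, 2, 0, 2, 4, 6, 8, 10, 12, 14, 6, 4, 2, 8, 6, 4, 10, 8, 16, 14, 6, 4, 8, 6, 10, 8, 12, 10, 14, 6, 8, 16, 0]

theorem defrel24_mem : defrel24 ∈ PFi22x.P.real := by decide +kernel

theorem new24_mem : gG 24 ∈ ψ.range := by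
  have h := (PFi22x.valid.real_sound _ defrel24_mem).2
  rw [defrel24, wordP_cons] at h
  have h1 : gG 25 = (gG 24)⁻¹ := hinv 24 (by decide)
  rw [h1] at h
  have h2 : gG 24 = wordP gG [16, 8, 6, 14, 10, 12, 8, 10, 6, 8, 4, 6, 14, 16, 8, 10, 4, 6, 8, 2, 4, 6, 14, 12, 10, 8, 6, 4, 2, 0, 2, 4, 6, 8, 10, 12, 14, 6, 4, 2, 8, 6, 4, 10, 8, 16, 14, 6, 4, 8, 6, 10, 8, 12, 10, 14, 6, 8, 16, 0] := by
    rw [← mul_one (gG 24), ← h]; group
  rw [h2]
  exact Sgs.wordP_mem_closure gG ψ.range _ (fun e he => old_mem e (by revert e; decide))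

/-- the defining relator of the letter 26 -/
def defrel26 : List ℕ := [27, 6, 14, 16, 4, 6, 14, 8, 10, 6, 8, 4, 6, 14, 16, 6, 14, 8, 10, 6, 8, 2, 4, 6, 14, 12, 10, 8, 6, 4, 2, 0, 2, 4, 6, 8, 10, 12, 14, 6, 4, 2, 8, 6, 10, 8, 14, 6, 16, 14, 6, 4, 8, 6, 10, 8, 14, 6, 4, 16, 14, 6, 6, 8, 4, 6, 14, 16, 8, 2, 4, 6, 14, 10, 8, 6, 4, 2, 0, 2, 4, 6, 8, 10, 14, 6, 4, 2, 8, 16, 14, 6, 4, 8, 6, 4, 6, 14, 16, 6, 8, 2, 4, 6, 14, 10, 8, 6, 4, 2, 0, 2, 4, 6, 8, 10, 14, 6, 4, 2, 8, 6, 16, 14, 6, 4, 14, 6, 8, 2, 4, 6, 14, 12, 10, 8, 6, 4, 2, 0, 2, 4, 6, 8, 10, 12, 14, 6, 4, 2, 8, 6, 14]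

theorem defrel26_mem : defrel26 ∈ PFi22x.P.real := by decide +kernel

theorem new26_mem : gG 26 ∈ ψ.range := by
  have h := (PFi22x.valid.real_sound _ defrel26_mem).2
  rw [defrel26, wordP_cons] at h
  have h1 : gG 27 = (gG 26)⁻¹ := hinv 26 (by decide)
  rw [h1] at h
  have h2 : gG 26 = wordP gG [6, 14, 16, 4, 6, 14, 8, 10, 6, 8, 4, 6, 14, 16, 6, 14, 8, 10, 6, 8, 2, 4, 6, 14, 12, 10, 8, 6, 4, 2, 0, 2, 4, 6, 8, 10, 12, 14, 6, 4, 2, 8, 6, 10, 8, 14, 6, 16, 14, 6, 4, 8, 6, 10, 8, 14, 6, 4, 16, 14, 6, 6, 8, 4, 6, 14, 16, 8, 2, 4, 6, 14, 10, 8, 6, 4, 2, 0, 2, 4, 6, 8, 10, 14, 6, 4, 2, 8, 16, 14, 6, 4, 8, 6, 4, 6, 14, 16, 6, 8, 2, 4, 6, 14, 10, 8, 6, 4, 2, 0, 2, 4, 6, 8, 10, 14, 6, 4, 2, 8, 6, 16, 14, 6, 4, 14, 6, 8, 2, 4, 6, 14, 12, 10, 8, 6, 4, 2, 0, 2, 4, 6, 8, 10, 12, 14, 6, 4, 2, 8, 6, 14] := by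
    rw [← mul_one (gG 26), ← h]; group
  rw [h2]
  exact Sgs.wordP_mem_closure gG ψ.range _ (fun e he => old_mem e (by revert e; decide))

/-- the defining relator of the letter 28 -/
def defrel28 : List ℕ := [29, 0]

theorem defrel28_mem : defrel28 ∈ PFi22x.P.real := by decide +kernel

theorem new28_mem : gG 28 ∈ ψ.range := by
  have h := (PFi22x.valid.real_sound _ defrel28_mem).2
  rw [defrel28, wordP_cons] at h
  have h1 : gG 29 = (gG 28)⁻¹ := hinv 28 (by decide)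
  rw [h1] at h
  have h2 : gG 28 = wordP gG [0] := by
    rw [← mul_one (gG 28), ← h]; group
  rw [h2]
  exact Sgs.wordP_mem_closure gG ψ.range _ (fun e he => old_mem e (by revert e; decide))

theorem ψ_surjective : Function.Surjective ψ := by
  rw [← MonoidHom.range_eq_top, eq_top_iff, ← PFi22x.valid.gen_top, Subgroup.closure_le]
  rintro _ ⟨y, hy, rfl⟩
  have hy : y < 30 := hy
  by_cases h18 : y < 18
  · exact old_mem y h18
  · interval_cases y
    · exact new18_mem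
    · rw [show (19 : ℕ) = PFi22x.P.invR 18 from rfl, hinv 18 (by decide)]
      exact inv_mem new18_mem
    · exact new20_mem
    · rw [show (21 : ℕ) = PFi22x.P.invR 20 from rfl, hinv 20 (by decide)]
      exact inv_mem new20_mem
    · exact new22_mem
    · rw [show (23 : ℕ) = PFi22x.P.invR 22 from rfl, hinv 22 (by decide)]
      exact inv_mem new22_mem
    · exact new24_mem
    · rw [show (25 : ℕ) = PFi22x.P.invR 24 from rfl, hinv 24 (by decide)]
      exact inv_mem new24_mem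
    · exact new26_mem
    · rw [show (27 : ℕ) = PFi22x.P.invR 26 from rfl, hinv 26 (by decide)]
      exact inv_mem new26_mem
    · exact new28_mem
    · rw [show (29 : ℕ) = PFi22x.P.invR 28 from rfl, hinv 28 (by decide)]
      exact inv_mem new28_mem

/-- the group is not trivial: a generator moves a point -/
theorem gG_ne_one : gG 2 ≠ 1 := by
  intro h
  have h1 := Fi22xR.prep.phi_gR 2 (by decide) ⟨0, by decide⟩
  have h2 : Fi22xR.prep.phi (gG 2) = 1 := by rw [h, map_one]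
  rw [h2] at h1
  have h3 : Fi22xR.T.tbl 0 (Fi22xR.D.inv 2) ≠ 0 := by decide +kernel
  exact h3 h1.symm

theorem ψ_injective : Function.Injective ψ := by
  haveI := Cfsg.Agent.S1696.simple_aux
  rcases (MonoidHom.normal_ker ψ).eq_bot_or_eq_top with h | h
  · exact (MonoidHom.ker_eq_bot_iff ψ).1 h
  · exfalso
    obtain ⟨x, hx⟩ := ψ_surjective (gG 2)
    have : x ∈ ψ.ker := by rw [h]; trivial
    rw [MonoidHom.mem_ker, hx] at this
    exact gG_ne_one this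

/-- the isomorphism with the presented group Fi22 -/
noncomputable def iso : PFi22.P.Grp ≃* G := MulEquiv.ofBijective ψ ⟨ψ_injective, ψ_surjective⟩

/-- the order -/
theorem order_aux : Finite G ∧ Function.Injective ψ ∧ Nat.card G = 64561751654400 := by
  obtain ⟨fG, _, hcard⟩ := Cfsg.Agent.S1696.order_aux
  have := fG
  refine ⟨Finite.of_equiv _ iso.toEquiv, ψ_injective, ?_⟩
  rw [← hcard]
  exact (Nat.card_congr iso.toEquiv).symm

theorem simple_aux : IsSimpleGroup G := by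
  haveI := Cfsg.Agent.S1696.simple_aux
  haveI : Nontrivial G := ⟨⟨gG 2, 1, gG_ne_one⟩⟩
  exact IsSimpleGroup.isSimpleGroup_of_surjective iso.toMonoidHom iso.surjective

/-- the permutation representation on 3510 points is faithful -/
theorem phi_injective : Function.Injective Fi22xR.prep.phi := by
  haveI := simple_aux
  rcases (MonoidHom.normal_ker Fi22xR.prep.phi).eq_bot_or_eq_top with h | h
  · exact (MonoidHom.ker_eq_bot_iff _).1 h
  · exfalso
    have : gG 2 ∈ (Fi22xR.prep.phi).ker := by rw [h]; trivial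
    rw [MonoidHom.mem_ker] at this
    have h1 := Fi22xR.prep.phi_gR 2 (by decide) ⟨0, by decide⟩
    rw [this] at h1
    have h3 : Fi22xR.T.tbl 0 (Fi22xR.D.inv 2) ≠ 0 := by decide +kernel
    exact h3 h1.symm

end Cfsg.Agent.Lib.Helper4.Fi22xMain
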