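import Cfsg.Agent.Lib.Helper4.TCD_C2Fi22xR_Acc

namespace Cfsg.Agent.Lib.Helper4.TCD.C2Fi22xR

open Cfsg.Agent.Lib.Helper4.TC

set_option maxRecDepth 100000
set_option Elab.async false

theorem c_act71_1 : allRange (fun i => Nat.beq (actR71 i) i) 15000 13160 = true := by decide +kernel
theorem c_act72_0 : allRange (fun i => Nat.beq (actR72 i) i) 0 15000 = true := by decide +kernel
theorem c_act72_1 : allRange (fun i => Nat.beq (actR72 i) i) 15000 13160 = true := by decide +kernel
theorem c_act73_0 : allRange (fun i => Nat.beq (actR73 i) i) 0 15000 = true := by decide +kernel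
theorem c_act73_1 : allRange (fun i => Nat.beq (actR73 i) i) 15000 13160 = true := by decide +kernel
theorem c_act74_0 : allRange (fun i => Nat.beq (actR74 i) i) 0 15000 = true := by decide +kernel
theorem c_act74_1 : allRange (fun i => Nat.beq (actR74 i) i) 15000 13160 = true := by decide +kernel
theorem c_act75_0 : allRange (fun i => Nat.beq (actR75 i) i) 0 15000 = true := by decide +kernel
theorem c_act75_1 : allRange (fun i => Nat.beq (actR75 i) i) 15000 13160 = true := by decide +kernel
theorem c_act76_0 : allRange (fun i => Nat.beq (actR76 i) i) 0 15000 = true := by decide +kernel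
theorem c_act76_1 : allRange (fun i => Nat.beq (actR76 i) i) 15000 13160 = true := by decide +kernel
theorem c_act77_0 : allRange (fun i => Nat.beq (actR77 i) i) 0 15000 = true := by decide +kernel
theorem c_act77_1 : allRange (fun i => Nat.beq (actR77 i) i) 15000 13160 = true := by decide +kernel
theorem c_act78_0 : allRange (fun i => Nat.beq (actR78 i) i) 0 15000 = true := by decide +kernel
theorem c_act78_1 : allRange (fun i => Nat.beq (actR78 i) i) 15000 13160 = true := by decide +kernel
theorem c_act79_0 : allRange (fun i => Nat.beq (actR79 i) i) 0 15000 = true := by decide +kernel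
theorem c_act79_1 : allRange (fun i => Nat.beq (actR79 i) i) 15000 13160 = true := by decide +kernel
theorem c_act80_0 : allRange (fun i => Nat.beq (actR80 i) i) 0 15000 = true := by decide +kernel
theorem c_act80_1 : allRange (fun i => Nat.beq (actR80 i) i) 15000 13160 = true := by decide +kernel
theorem c_act81_0 : allRange (fun i => Nat.beq (actR81 i) i) 0 28160 = true := by decide +kernel
theorem c_act82_0 : allRange (fun i => Nat.beq (actR82 i) i) 0 15000 = true := by decide +kernel
theorem c_act82_1 : allRange (fun i => Nat.beq (actR82 i) i) 15000 13160 = true := by decide +kernel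
theorem c_act83_0 : allRange (fun i => Nat.beq (actR83 i) i) 0 15000 = true := by decide +kernel
theorem c_act83_1 : allRange (fun i => Nat.beq (actR83 i) i) 15000 13160 = true := by decide +kernel
theorem c_act84_0 : allRange (fun i => Nat.beq (actR84 i) i) 0 15000 = true := by decide +kernel
theorem c_act84_1 : allRange (fun i => Nat.beq (actR84 i) i) 15000 13160 = true := by decide +kernel
theorem c_act85_0 : allRange (fun i => Nat.beq (actR85 i) i) 0 15000 = true := by decide +kernel
theorem c_act85_1 : allRange (fun i => Nat.beq (actR85 i) i) 15000 13160 = true := by decide +kernel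
theorem c_act86_0 : allRange (fun i => Nat.beq (actR86 i) i) 0 15000 = true := by decide +kernel
theorem c_act86_1 : allRange (fun i => Nat.beq (actR86 i) i) 15000 13160 = true := by decide +kernel
theorem c_act87_0 : allRange (fun i => Nat.beq (actR87 i) i) 0 15000 = true := by decide +kernel
theorem c_act87_1 : allRange (fun i => Nat.beq (actR87 i) i) 15000 13160 = true := by decide +kernel
theorem c_act88_0 : allRange (fun i => Nat.beq (actR88 i) i) 0 15000 = true := by decide +kernel
theorem c_act88_1 : allRange (fun i => Nat.beq (actR88 i) i) 15000 13160 = true := by decide +kernel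
theorem c_act89_0 : allRange (fun i => Nat.beq (actR89 i) i) 0 15000 = true := by decide +kernel
theorem c_act89_1 : allRange (fun i => Nat.beq (actR89 i) i) 15000 13160 = true := by decide +kernel
theorem c_act90_0 : allRange (fun i => Nat.beq (actR90 i) i) 0 15000 = true := by decide +kernel
theorem c_act90_1 : allRange (fun i => Nat.beq (actR90 i) i) 15000 13160 = true := by decide +kernel
theorem c_act91_0 : allRange (fun i => Nat.beq (actR91 i) i) 0 15000 = true := by decide +kernel
theorem c_act91_1 : allRange (fun i => Nat.beq (actR91 i) i) 15000 13160 = true := by decide +kernel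
theorem c_act92_0 : allRange (fun i => Nat.beq (actR92 i) i) 0 15000 = true := by decide +kernel
theorem c_act92_1 : allRange (fun i => Nat.beq (actR92 i) i) 15000 13160 = true := by decide +kernel
theorem c_act93_0 : allRange (fun i => Nat.beq (actR93 i) i) 0 15000 = true := by decide +kernel
theorem c_act93_1 : allRange (fun i => Nat.beq (actR93 i) i) 15000 13160 = true := by decide +kernel
theorem c_act94_0 : allRange (fun i => Nat.beq (actR94 i) i) 0 15000 = true := by decide +kernel
theorem c_act94_1 : allRange (fun i => Nat.beq (actR94 i) i) 15000 13160 = true := by decide +kernel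
theorem c_act95_0 : allRange (fun i => Nat.beq (actR95 i) i) 0 15000 = true := by decide +kernel
theorem c_act95_1 : allRange (fun i => Nat.beq (actR95 i) i) 15000 13160 = true := by decide +kernel
theorem c_act96_0 : allRange (fun i => Nat.beq (actR96 i) i) 0 15000 = true := by decide +kernel
theorem c_act96_1 : allRange (fun i => Nat.beq (actR96 i) i) 15000 13160 = true := by decide +kernel

end Cfsg.Agent.Lib.Helper4.TCD.C2Fi22xR
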