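import Cfsg.Agent.Lib.Helper4.TCD_C2Fi22xR_Acc

namespace Cfsg.Agent.Lib.Helper4.TCD.C2Fi22xR

open Cfsg.Agent.Lib.Helper4.TC

set_option maxRecDepth 100000
set_option Elab.async false

theorem c_act37_0 : allRange (fun i => Nat.beq (actR37 i) i) 0 15000 = true := by decide +kernel
theorem c_act37_1 : allRange (fun i => Nat.beq (actR37 i) i) 15000 13160 = true := by decide +kernel
theorem c_act38_0 : allRange (fun i => Nat.beq (actR38 i) i) 0 10000 = true := by decide +kernel
theorem c_act38_1 : allRange (fun i => Nat.beq (actR38 i) i) 10000 10000 = true := by decide +kernel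
theorem c_act38_2 : allRange (fun i => Nat.beq (actR38 i) i) 20000 8160 = true := by decide +kernel
theorem c_act39_0 : allRange (fun i => Nat.beq (actR39 i) i) 0 28160 = true := by decide +kernel
theorem c_act40_0 : allRange (fun i => Nat.beq (actR40 i) i) 0 10000 = true := by decide +kernel
theorem c_act40_1 : allRange (fun i => Nat.beq (actR40 i) i) 10000 10000 = true := by decide +kernel
theorem c_act40_2 : allRange (fun i => Nat.beq (actR40 i) i) 20000 8160 = true := by decide +kernel
theorem c_act41_0 : allRange (fun i => Nat.beq (actR41 i) i) 0 15000 = true := by decide +kernel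
theorem c_act41_1 : allRange (fun i => Nat.beq (actR41 i) i) 15000 13160 = true := by decide +kernel
theorem c_act42_0 : allRange (fun i => Nat.beq (actR42 i) i) 0 28160 = true := by decide +kernel
theorem c_act43_0 : allRange (fun i => Nat.beq (actR43 i) i) 0 15000 = true := by decide +kernel
theorem c_act43_1 : allRange (fun i => Nat.beq (actR43 i) i) 15000 13160 = true := by decide +kernel
theorem c_act44_0 : allRange (fun i => Nat.beq (actR44 i) i) 0 28160 = true := by decide +kernel
theorem c_act45_0 : allRange (fun i => Nat.beq (actR45 i) i) 0 666 = true := by decide +kernel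
theorem c_act45_1 : allRange (fun i => Nat.beq (actR45 i) i) 666 666 = true := by decide +kernel
theorem c_act45_2 : allRange (fun i => Nat.beq (actR45 i) i) 1332 666 = true := by decide +kernel
theorem c_act45_3 : allRange (fun i => Nat.beq (actR45 i) i) 1998 666 = true := by decide +kernel
theorem c_act45_4 : allRange (fun i => Nat.beq (actR45 i) i) 2664 666 = true := by decide +kernel
theorem c_act45_5 : allRange (fun i => Nat.beq (actR45 i) i) 3330 666 = true := by decide +kernel
theorem c_act45_6 : allRange (fun i => Nat.beq (actR45 i) i) 3996 666 = true := by decide +kernel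
theorem c_act45_7 : allRange (fun i => Nat.beq (actR45 i) i) 4662 666 = true := by decide +kernel
theorem c_act45_8 : allRange (fun i => Nat.beq (actR45 i) i) 5328 666 = true := by decide +kernel
theorem c_act45_9 : allRange (fun i => Nat.beq (actR45 i) i) 5994 666 = true := by decide +kernel
theorem c_act45_10 : allRange (fun i => Nat.beq (actR45 i) i) 6660 666 = true := by decide +kernel
theorem c_act45_11 : allRange (fun i => Nat.beq (actR45 i) i) 7326 666 = true := by decide +kernel
theorem c_act45_12 : allRange (fun i => Nat.beq (actR45 i) i) 7992 666 = true := by decide +kernel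
theorem c_act45_13 : allRange (fun i => Nat.beq (actR45 i) i) 8658 666 = true := by decide +kernel
theorem c_act45_14 : allRange (fun i => Nat.beq (actR45 i) i) 9324 666 = true := by decide +kernel
theorem c_act45_15 : allRange (fun i => Nat.beq (actR45 i) i) 9990 666 = true := by decide +kernel
theorem c_act45_16 : allRange (fun i => Nat.beq (actR45 i) i) 10656 666 = true := by decide +kernel
theorem c_act45_17 : allRange (fun i => Nat.beq (actR45 i) i) 11322 666 = true := by decide +kernel
theorem c_act45_18 : allRange (fun i => Nat.beq (actR45 i) i) 11988 666 = true := by decide +kernel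
theorem c_act45_19 : allRange (fun i => Nat.beq (actR45 i) i) 12654 666 = true := by decide +kernel
theorem c_act45_20 : allRange (fun i => Nat.beq (actR45 i) i) 13320 666 = true := by decide +kernel
theorem c_act45_21 : allRange (fun i => Nat.beq (actR45 i) i) 13986 666 = true := by decide +kernel
theorem c_act45_22 : allRange (fun i => Nat.beq (actR45 i) i) 14652 666 = true := by decide +kernel
theorem c_act45_23 : allRange (fun i => Nat.beq (actR45 i) i) 15318 666 = true := by decide +kernel
theorem c_act45_24 : allRange (fun i => Nat.beq (actR45 i) i) 15984 666 = true := by decide +kernel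
theorem c_act45_25 : allRange (fun i => Nat.beq (actR45 i) i) 16650 666 = true := by decide +kernel
theorem c_act45_26 : allRange (fun i => Nat.beq (actR45 i) i) 17316 666 = true := by decide +kernel
theorem c_act45_27 : allRange (fun i => Nat.beq (actR45 i) i) 17982 666 = true := by decide +kernel
theorem c_act45_28 : allRange (fun i => Nat.beq (actR45 i) i) 18648 666 = true := by decide +kernel
theorem c_act45_29 : allRange (fun i => Nat.beq (actR45 i) i) 19314 666 = true := by decide +kernel
theorem c_act45_30 : allRange (fun i => Nat.beq (actR45 i) i) 19980 666 = true := by decide +kernel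
theorem c_act45_31 : allRange (fun i => Nat.beq (actR45 i) i) 20646 666 = true := by decide +kernel
theorem c_act45_32 : allRange (fun i => Nat.beq (actR45 i) i) 21312 666 = true := by decide +kernel
theorem c_act45_33 : allRange (fun i => Nat.beq (actR45 i) i) 21978 666 = true := by decide +kernel
theorem c_act45_34 : allRange (fun i => Nat.beq (actR45 i) i) 22644 666 = true := by decide +kernel

end Cfsg.Agent.Lib.Helper4.TCD.C2Fi22xR
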