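import Cfsg.Agent.Lib.Helper4.TCD_C2Fi22xR_Acc

namespace Cfsg.Agent.Lib.Helper4.TCD.C2Fi22xR

open Cfsg.Agent.Lib.Helper4.TC

set_option maxRecDepth 100000
set_option Elab.async false

theorem c_act45_35 : allRange (fun i => Nat.beq (actR45 i) i) 23310 666 = true := by decide +kernel
theorem c_act45_36 : allRange (fun i => Nat.beq (actR45 i) i) 23976 666 = true := by decide +kernel
theorem c_act45_37 : allRange (fun i => Nat.beq (actR45 i) i) 24642 666 = true := by decide +kernel
theorem c_act45_38 : allRange (fun i => Nat.beq (actR45 i) i) 25308 666 = true := by decide +kernel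
theorem c_act45_39 : allRange (fun i => Nat.beq (actR45 i) i) 25974 666 = true := by decide +kernel
theorem c_act45_40 : allRange (fun i => Nat.beq (actR45 i) i) 26640 666 = true := by decide +kernel
theorem c_act45_41 : allRange (fun i => Nat.beq (actR45 i) i) 27306 666 = true := by decide +kernel
theorem c_act45_42 : allRange (fun i => Nat.beq (actR45 i) i) 27972 188 = true := by decide +kernel
theorem c_act46_0 : allRange (fun i => Nat.beq (actR46 i) i) 0 937 = true := by decide +kernel
theorem c_act46_1 : allRange (fun i => Nat.beq (actR46 i) i) 937 937 = true := by decide +kernel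
theorem c_act46_2 : allRange (fun i => Nat.beq (actR46 i) i) 1874 937 = true := by decide +kernel
theorem c_act46_3 : allRange (fun i => Nat.beq (actR46 i) i) 2811 937 = true := by decide +kernel
theorem c_act46_4 : allRange (fun i => Nat.beq (actR46 i) i) 3748 937 = true := by decide +kernel
theorem c_act46_5 : allRange (fun i => Nat.beq (actR46 i) i) 4685 937 = true := by decide +kernel
theorem c_act46_6 : allRange (fun i => Nat.beq (actR46 i) i) 5622 937 = true := by decide +kernel
theorem c_act46_7 : allRange (fun i => Nat.beq (actR46 i) i) 6559 937 = true := by decide +kernel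
theorem c_act46_8 : allRange (fun i => Nat.beq (actR46 i) i) 7496 937 = true := by decide +kernel
theorem c_act46_9 : allRange (fun i => Nat.beq (actR46 i) i) 8433 937 = true := by decide +kernel
theorem c_act46_10 : allRange (fun i => Nat.beq (actR46 i) i) 9370 937 = true := by decide +kernel
theorem c_act46_11 : allRange (fun i => Nat.beq (actR46 i) i) 10307 937 = true := by decide +kernel
theorem c_act46_12 : allRange (fun i => Nat.beq (actR46 i) i) 11244 937 = true := by decide +kernel
theorem c_act46_13 : allRange (fun i => Nat.beq (actR46 i) i) 12181 937 = true := by decide +kernel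
theorem c_act46_14 : allRange (fun i => Nat.beq (actR46 i) i) 13118 937 = true := by decide +kernel
theorem c_act46_15 : allRange (fun i => Nat.beq (actR46 i) i) 14055 937 = true := by decide +kernel
theorem c_act46_16 : allRange (fun i => Nat.beq (actR46 i) i) 14992 937 = true := by decide +kernel
theorem c_act46_17 : allRange (fun i => Nat.beq (actR46 i) i) 15929 937 = true := by decide +kernel
theorem c_act46_18 : allRange (fun i => Nat.beq (actR46 i) i) 16866 937 = true := by decide +kernel
theorem c_act46_19 : allRange (fun i => Nat.beq (actR46 i) i) 17803 937 = true := by decide +kernel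
theorem c_act46_20 : allRange (fun i => Nat.beq (actR46 i) i) 18740 937 = true := by decide +kernel
theorem c_act46_21 : allRange (fun i => Nat.beq (actR46 i) i) 19677 937 = true := by decide +kernel
theorem c_act46_22 : allRange (fun i => Nat.beq (actR46 i) i) 20614 937 = true := by decide +kernel
theorem c_act46_23 : allRange (fun i => Nat.beq (actR46 i) i) 21551 937 = true := by decide +kernel
theorem c_act46_24 : allRange (fun i => Nat.beq (actR46 i) i) 22488 937 = true := by decide +kernel
theorem c_act46_25 : allRange (fun i => Nat.beq (actR46 i) i) 23425 937 = true := by decide +kernel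
theorem c_act46_26 : allRange (fun i => Nat.beq (actR46 i) i) 24362 937 = true := by decide +kernel
theorem c_act46_27 : allRange (fun i => Nat.beq (actR46 i) i) 25299 937 = true := by decide +kernel
theorem c_act46_28 : allRange (fun i => Nat.beq (actR46 i) i) 26236 937 = true := by decide +kernel
theorem c_act46_29 : allRange (fun i => Nat.beq (actR46 i) i) 27173 937 = true := by decide +kernel
theorem c_act46_30 : allRange (fun i => Nat.beq (actR46 i) i) 28110 50 = true := by decide +kernel
theorem c_act47_0 : allRange (fun i => Nat.beq (actR47 i) i) 0 952 = true := by decide +kernel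
theorem c_act47_1 : allRange (fun i => Nat.beq (actR47 i) i) 952 952 = true := by decide +kernel
theorem c_act47_2 : allRange (fun i => Nat.beq (actR47 i) i) 1904 952 = true := by decide +kernel
theorem c_act47_3 : allRange (fun i => Nat.beq (actR47 i) i) 2856 952 = true := by decide +kernel
theorem c_act47_4 : allRange (fun i => Nat.beq (actR47 i) i) 3808 952 = true := by decide +kernel
theorem c_act47_5 : allRange (fun i => Nat.beq (actR47 i) i) 4760 952 = true := by decide +kernel
theorem c_act47_6 : allRange (fun i => Nat.beq (actR47 i) i) 5712 952 = true := by decide +kernel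
theorem c_act47_7 : allRange (fun i => Nat.beq (actR47 i) i) 6664 952 = true := by decide +kernel
theorem c_act47_8 : allRange (fun i => Nat.beq (actR47 i) i) 7616 952 = true := by decide +kernel
theorem c_act47_9 : allRange (fun i => Nat.beq (actR47 i) i) 8568 952 = true := by decide +kernel
theorem c_act47_10 : allRange (fun i => Nat.beq (actR47 i) i) 9520 952 = true := by decide +kernel
theorem c_act47_11 : allRange (fun i => Nat.beq (actR47 i) i) 10472 952 = true := by decide +kernel

end Cfsg.Agent.Lib.Helper4.TCD.C2Fi22xR
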