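import Cfsg.Agent.Lib.Helper4.TCD_C2Fi22xR_Acc

namespace Cfsg.Agent.Lib.Helper4.TCD.C2Fi22xR

open Cfsg.Agent.Lib.Helper4.TC

set_option maxRecDepth 100000
set_option Elab.async false

theorem c_act47_12 : allRange (fun i => Nat.beq (actR47 i) i) 11424 952 = true := by decide +kernel
theorem c_act47_13 : allRange (fun i => Nat.beq (actR47 i) i) 12376 952 = true := by decide +kernel
theorem c_act47_14 : allRange (fun i => Nat.beq (actR47 i) i) 13328 952 = true := by decide +kernel
theorem c_act47_15 : allRange (fun i => Nat.beq (actR47 i) i) 14280 952 = true := by decide +kernel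
theorem c_act47_16 : allRange (fun i => Nat.beq (actR47 i) i) 15232 952 = true := by decide +kernel
theorem c_act47_17 : allRange (fun i => Nat.beq (actR47 i) i) 16184 952 = true := by decide +kernel
theorem c_act47_18 : allRange (fun i => Nat.beq (actR47 i) i) 17136 952 = true := by decide +kernel
theorem c_act47_19 : allRange (fun i => Nat.beq (actR47 i) i) 18088 952 = true := by decide +kernel
theorem c_act47_20 : allRange (fun i => Nat.beq (actR47 i) i) 19040 952 = true := by decide +kernel
theorem c_act47_21 : allRange (fun i => Nat.beq (actR47 i) i) 19992 952 = true := by decide +kernel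
theorem c_act47_22 : allRange (fun i => Nat.beq (actR47 i) i) 20944 952 = true := by decide +kernel
theorem c_act47_23 : allRange (fun i => Nat.beq (actR47 i) i) 21896 952 = true := by decide +kernel
theorem c_act47_24 : allRange (fun i => Nat.beq (actR47 i) i) 22848 952 = true := by decide +kernel
theorem c_act47_25 : allRange (fun i => Nat.beq (actR47 i) i) 23800 952 = true := by decide +kernel
theorem c_act47_26 : allRange (fun i => Nat.beq (actR47 i) i) 24752 952 = true := by decide +kernel
theorem c_act47_27 : allRange (fun i => Nat.beq (actR47 i) i) 25704 952 = true := by decide +kernel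
theorem c_act47_28 : allRange (fun i => Nat.beq (actR47 i) i) 26656 952 = true := by decide +kernel
theorem c_act47_29 : allRange (fun i => Nat.beq (actR47 i) i) 27608 552 = true := by decide +kernel
theorem c_act48_0 : allRange (fun i => Nat.beq (actR48 i) i) 0 2500 = true := by decide +kernel
theorem c_act48_1 : allRange (fun i => Nat.beq (actR48 i) i) 2500 2500 = true := by decide +kernel
theorem c_act48_2 : allRange (fun i => Nat.beq (actR48 i) i) 5000 2500 = true := by decide +kernel
theorem c_act48_3 : allRange (fun i => Nat.beq (actR48 i) i) 7500 2500 = true := by decide +kernel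
theorem c_act48_4 : allRange (fun i => Nat.beq (actR48 i) i) 10000 2500 = true := by decide +kernel
theorem c_act48_5 : allRange (fun i => Nat.beq (actR48 i) i) 12500 2500 = true := by decide +kernel
theorem c_act48_6 : allRange (fun i => Nat.beq (actR48 i) i) 15000 2500 = true := by decide +kernel
theorem c_act48_7 : allRange (fun i => Nat.beq (actR48 i) i) 17500 2500 = true := by decide +kernel
theorem c_act48_8 : allRange (fun i => Nat.beq (actR48 i) i) 20000 2500 = true := by decide +kernel
theorem c_act48_9 : allRange (fun i => Nat.beq (actR48 i) i) 22500 2500 = true := by decide +kernel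
theorem c_act48_10 : allRange (fun i => Nat.beq (actR48 i) i) 25000 2500 = true := by decide +kernel
theorem c_act48_11 : allRange (fun i => Nat.beq (actR48 i) i) 27500 660 = true := by decide +kernel
theorem c_act49_0 : allRange (fun i => Nat.beq (actR49 i) i) 0 419 = true := by decide +kernel
theorem c_act49_1 : allRange (fun i => Nat.beq (actR49 i) i) 419 419 = true := by decide +kernel
theorem c_act49_2 : allRange (fun i => Nat.beq (actR49 i) i) 838 419 = true := by decide +kernel
theorem c_act49_3 : allRange (fun i => Nat.beq (actR49 i) i) 1257 419 = true := by decide +kernel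
theorem c_act49_4 : allRange (fun i => Nat.beq (actR49 i) i) 1676 419 = true := by decide +kernel
theorem c_act49_5 : allRange (fun i => Nat.beq (actR49 i) i) 2095 419 = true := by decide +kernel
theorem c_act49_6 : allRange (fun i => Nat.beq (actR49 i) i) 2514 419 = true := by decide +kernel
theorem c_act49_7 : allRange (fun i => Nat.beq (actR49 i) i) 2933 419 = true := by decide +kernel
theorem c_act49_8 : allRange (fun i => Nat.beq (actR49 i) i) 3352 419 = true := by decide +kernel
theorem c_act49_9 : allRange (fun i => Nat.beq (actR49 i) i) 3771 419 = true := by decide +kernel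
theorem c_act49_10 : allRange (fun i => Nat.beq (actR49 i) i) 4190 419 = true := by decide +kernel
theorem c_act49_11 : allRange (fun i => Nat.beq (actR49 i) i) 4609 419 = true := by decide +kernel
theorem c_act49_12 : allRange (fun i => Nat.beq (actR49 i) i) 5028 419 = true := by decide +kernel
theorem c_act49_13 : allRange (fun i => Nat.beq (actR49 i) i) 5447 419 = true := by decide +kernel
theorem c_act49_14 : allRange (fun i => Nat.beq (actR49 i) i) 5866 419 = true := by decide +kernel
theorem c_act49_15 : allRange (fun i => Nat.beq (actR49 i) i) 6285 419 = true := by decide +kernel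
theorem c_act49_16 : allRange (fun i => Nat.beq (actR49 i) i) 6704 419 = true := by decide +kernel
theorem c_act49_17 : allRange (fun i => Nat.beq (actR49 i) i) 7123 419 = true := by decide +kernel
theorem c_act49_18 : allRange (fun i => Nat.beq (actR49 i) i) 7542 419 = true := by decide +kernel
theorem c_act49_19 : allRange (fun i => Nat.beq (actR49 i) i) 7961 419 = true := by decide +kernel
theorem c_act49_20 : allRange (fun i => Nat.beq (actR49 i) i) 8380 419 = true := by decide +kernel

end Cfsg.Agent.Lib.Helper4.TCD.C2Fi22xR
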