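import Cfsg.Agent.Lib.Helper4.TCD_C2Fi22xR_Acc

namespace Cfsg.Agent.Lib.Helper4.TCD.C2Fi22xR

open Cfsg.Agent.Lib.Helper4.TC

set_option maxRecDepth 100000
set_option Elab.async false

theorem c_act49_21 : allRange (fun i => Nat.beq (actR49 i) i) 8799 419 = true := by decide +kernel
theorem c_act49_22 : allRange (fun i => Nat.beq (actR49 i) i) 9218 419 = true := by decide +kernel
theorem c_act49_23 : allRange (fun i => Nat.beq (actR49 i) i) 9637 419 = true := by decide +kernel
theorem c_act49_24 : allRange (fun i => Nat.beq (actR49 i) i) 10056 419 = true := by decide +kernel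
theorem c_act49_25 : allRange (fun i => Nat.beq (actR49 i) i) 10475 419 = true := by decide +kernel
theorem c_act49_26 : allRange (fun i => Nat.beq (actR49 i) i) 10894 419 = true := by decide +kernel
theorem c_act49_27 : allRange (fun i => Nat.beq (actR49 i) i) 11313 419 = true := by decide +kernel
theorem c_act49_28 : allRange (fun i => Nat.beq (actR49 i) i) 11732 419 = true := by decide +kernel
theorem c_act49_29 : allRange (fun i => Nat.beq (actR49 i) i) 12151 419 = true := by decide +kernel
theorem c_act49_30 : allRange (fun i => Nat.beq (actR49 i) i) 12570 419 = true := by decide +kernel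
theorem c_act49_31 : allRange (fun i => Nat.beq (actR49 i) i) 12989 419 = true := by decide +kernel
theorem c_act49_32 : allRange (fun i => Nat.beq (actR49 i) i) 13408 419 = true := by decide +kernel
theorem c_act49_33 : allRange (fun i => Nat.beq (actR49 i) i) 13827 419 = true := by decide +kernel
theorem c_act49_34 : allRange (fun i => Nat.beq (actR49 i) i) 14246 419 = true := by decide +kernel
theorem c_act49_35 : allRange (fun i => Nat.beq (actR49 i) i) 14665 419 = true := by decide +kernel
theorem c_act49_36 : allRange (fun i => Nat.beq (actR49 i) i) 15084 419 = true := by decide +kernel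
theorem c_act49_37 : allRange (fun i => Nat.beq (actR49 i) i) 15503 419 = true := by decide +kernel
theorem c_act49_38 : allRange (fun i => Nat.beq (actR49 i) i) 15922 419 = true := by decide +kernel
theorem c_act49_39 : allRange (fun i => Nat.beq (actR49 i) i) 16341 419 = true := by decide +kernel
theorem c_act49_40 : allRange (fun i => Nat.beq (actR49 i) i) 16760 419 = true := by decide +kernel
theorem c_act49_41 : allRange (fun i => Nat.beq (actR49 i) i) 17179 419 = true := by decide +kernel
theorem c_act49_42 : allRange (fun i => Nat.beq (actR49 i) i) 17598 419 = true := by decide +kernel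
theorem c_act49_43 : allRange (fun i => Nat.beq (actR49 i) i) 18017 419 = true := by decide +kernel
theorem c_act49_44 : allRange (fun i => Nat.beq (actR49 i) i) 18436 419 = true := by decide +kernel
theorem c_act49_45 : allRange (fun i => Nat.beq (actR49 i) i) 18855 419 = true := by decide +kernel
theorem c_act49_46 : allRange (fun i => Nat.beq (actR49 i) i) 19274 419 = true := by decide +kernel
theorem c_act49_47 : allRange (fun i => Nat.beq (actR49 i) i) 19693 419 = true := by decide +kernel
theorem c_act49_48 : allRange (fun i => Nat.beq (actR49 i) i) 20112 419 = true := by decide +kernel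
theorem c_act49_49 : allRange (fun i => Nat.beq (actR49 i) i) 20531 419 = true := by decide +kernel
theorem c_act49_50 : allRange (fun i => Nat.beq (actR49 i) i) 20950 419 = true := by decide +kernel
theorem c_act49_51 : allRange (fun i => Nat.beq (actR49 i) i) 21369 419 = true := by decide +kernel
theorem c_act49_52 : allRange (fun i => Nat.beq (actR49 i) i) 21788 419 = true := by decide +kernel
theorem c_act49_53 : allRange (fun i => Nat.beq (actR49 i) i) 22207 419 = true := by decide +kernel
theorem c_act49_54 : allRange (fun i => Nat.beq (actR49 i) i) 22626 419 = true := by decide +kernel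
theorem c_act49_55 : allRange (fun i => Nat.beq (actR49 i) i) 23045 419 = true := by decide +kernel
theorem c_act49_56 : allRange (fun i => Nat.beq (actR49 i) i) 23464 419 = true := by decide +kernel
theorem c_act49_57 : allRange (fun i => Nat.beq (actR49 i) i) 23883 419 = true := by decide +kernel
theorem c_act49_58 : allRange (fun i => Nat.beq (actR49 i) i) 24302 419 = true := by decide +kernel
theorem c_act49_59 : allRange (fun i => Nat.beq (actR49 i) i) 24721 419 = true := by decide +kernel
theorem c_act49_60 : allRange (fun i => Nat.beq (actR49 i) i) 25140 419 = true := by decide +kernel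
theorem c_act49_61 : allRange (fun i => Nat.beq (actR49 i) i) 25559 419 = true := by decide +kernel
theorem c_act49_62 : allRange (fun i => Nat.beq (actR49 i) i) 25978 419 = true := by decide +kernel
theorem c_act49_63 : allRange (fun i => Nat.beq (actR49 i) i) 26397 419 = true := by decide +kernel
theorem c_act49_64 : allRange (fun i => Nat.beq (actR49 i) i) 26816 419 = true := by decide +kernel
theorem c_act49_65 : allRange (fun i => Nat.beq (actR49 i) i) 27235 419 = true := by decide +kernel
theorem c_act49_66 : allRange (fun i => Nat.beq (actR49 i) i) 27654 419 = true := by decide +kernel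
theorem c_act49_67 : allRange (fun i => Nat.beq (actR49 i) i) 28073 87 = true := by decide +kernel
theorem c_act50_0 : allRange (fun i => Nat.beq (actR50 i) i) 0 1090 = true := by decide +kernel
theorem c_act50_1 : allRange (fun i => Nat.beq (actR50 i) i) 1090 1090 = true := by decide +kernel
theorem c_act50_2 : allRange (fun i => Nat.beq (actR50 i) i) 2180 1090 = true := by decide +kernel

end Cfsg.Agent.Lib.Helper4.TCD.C2Fi22xR
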