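import Cfsg.Agent.Lib.Helper4.TCD_C2Fi22xR_Acc

namespace Cfsg.Agent.Lib.Helper4.TCD.C2Fi22xR

open Cfsg.Agent.Lib.Helper4.TC

set_option maxRecDepth 100000
set_option Elab.async false

theorem c_act50_3 : allRange (fun i => Nat.beq (actR50 i) i) 3270 1090 = true := by decide +kernel
theorem c_act50_4 : allRange (fun i => Nat.beq (actR50 i) i) 4360 1090 = true := by decide +kernel
theorem c_act50_5 : allRange (fun i => Nat.beq (actR50 i) i) 5450 1090 = true := by decide +kernel
theorem c_act50_6 : allRange (fun i => Nat.beq (actR50 i) i) 6540 1090 = true := by decide +kernel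
theorem c_act50_7 : allRange (fun i => Nat.beq (actR50 i) i) 7630 1090 = true := by decide +kernel
theorem c_act50_8 : allRange (fun i => Nat.beq (actR50 i) i) 8720 1090 = true := by decide +kernel
theorem c_act50_9 : allRange (fun i => Nat.beq (actR50 i) i) 9810 1090 = true := by decide +kernel
theorem c_act50_10 : allRange (fun i => Nat.beq (actR50 i) i) 10900 1090 = true := by decide +kernel
theorem c_act50_11 : allRange (fun i => Nat.beq (actR50 i) i) 11990 1090 = true := by decide +kernel
theorem c_act50_12 : allRange (fun i => Nat.beq (actR50 i) i) 13080 1090 = true := by decide +kernel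
theorem c_act50_13 : allRange (fun i => Nat.beq (actR50 i) i) 14170 1090 = true := by decide +kernel
theorem c_act50_14 : allRange (fun i => Nat.beq (actR50 i) i) 15260 1090 = true := by decide +kernel
theorem c_act50_15 : allRange (fun i => Nat.beq (actR50 i) i) 16350 1090 = true := by decide +kernel
theorem c_act50_16 : allRange (fun i => Nat.beq (actR50 i) i) 17440 1090 = true := by decide +kernel
theorem c_act50_17 : allRange (fun i => Nat.beq (actR50 i) i) 18530 1090 = true := by decide +kernel
theorem c_act50_18 : allRange (fun i => Nat.beq (actR50 i) i) 19620 1090 = true := by decide +kernel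
theorem c_act50_19 : allRange (fun i => Nat.beq (actR50 i) i) 20710 1090 = true := by decide +kernel
theorem c_act50_20 : allRange (fun i => Nat.beq (actR50 i) i) 21800 1090 = true := by decide +kernel
theorem c_act50_21 : allRange (fun i => Nat.beq (actR50 i) i) 22890 1090 = true := by decide +kernel
theorem c_act50_22 : allRange (fun i => Nat.beq (actR50 i) i) 23980 1090 = true := by decide +kernel
theorem c_act50_23 : allRange (fun i => Nat.beq (actR50 i) i) 25070 1090 = true := by decide +kernel
theorem c_act50_24 : allRange (fun i => Nat.beq (actR50 i) i) 26160 1090 = true := by decide +kernel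
theorem c_act50_25 : allRange (fun i => Nat.beq (actR50 i) i) 27250 910 = true := by decide +kernel
theorem c_act51_0 : allRange (fun i => Nat.beq (actR51 i) i) 0 967 = true := by decide +kernel
theorem c_act51_1 : allRange (fun i => Nat.beq (actR51 i) i) 967 967 = true := by decide +kernel
theorem c_act51_2 : allRange (fun i => Nat.beq (actR51 i) i) 1934 967 = true := by decide +kernel
theorem c_act51_3 : allRange (fun i => Nat.beq (actR51 i) i) 2901 967 = true := by decide +kernel
theorem c_act51_4 : allRange (fun i => Nat.beq (actR51 i) i) 3868 967 = true := by decide +kernel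
theorem c_act51_5 : allRange (fun i => Nat.beq (actR51 i) i) 4835 967 = true := by decide +kernel
theorem c_act51_6 : allRange (fun i => Nat.beq (actR51 i) i) 5802 967 = true := by decide +kernel
theorem c_act51_7 : allRange (fun i => Nat.beq (actR51 i) i) 6769 967 = true := by decide +kernel
theorem c_act51_8 : allRange (fun i => Nat.beq (actR51 i) i) 7736 967 = true := by decide +kernel
theorem c_act51_9 : allRange (fun i => Nat.beq (actR51 i) i) 8703 967 = true := by decide +kernel
theorem c_act51_10 : allRange (fun i => Nat.beq (actR51 i) i) 9670 967 = true := by decide +kernel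
theorem c_act51_11 : allRange (fun i => Nat.beq (actR51 i) i) 10637 967 = true := by decide +kernel
theorem c_act51_12 : allRange (fun i => Nat.beq (actR51 i) i) 11604 967 = true := by decide +kernel
theorem c_act51_13 : allRange (fun i => Nat.beq (actR51 i) i) 12571 967 = true := by decide +kernel
theorem c_act51_14 : allRange (fun i => Nat.beq (actR51 i) i) 13538 967 = true := by decide +kernel
theorem c_act51_15 : allRange (fun i => Nat.beq (actR51 i) i) 14505 967 = true := by decide +kernel
theorem c_act51_16 : allRange (fun i => Nat.beq (actR51 i) i) 15472 967 = true := by decide +kernel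
theorem c_act51_17 : allRange (fun i => Nat.beq (actR51 i) i) 16439 967 = true := by decide +kernel
theorem c_act51_18 : allRange (fun i => Nat.beq (actR51 i) i) 17406 967 = true := by decide +kernel
theorem c_act51_19 : allRange (fun i => Nat.beq (actR51 i) i) 18373 967 = true := by decide +kernel
theorem c_act51_20 : allRange (fun i => Nat.beq (actR51 i) i) 19340 967 = true := by decide +kernel
theorem c_act51_21 : allRange (fun i => Nat.beq (actR51 i) i) 20307 967 = true := by decide +kernel
theorem c_act51_22 : allRange (fun i => Nat.beq (actR51 i) i) 21274 967 = true := by decide +kernel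
theorem c_act51_23 : allRange (fun i => Nat.beq (actR51 i) i) 22241 967 = true := by decide +kernel
theorem c_act51_24 : allRange (fun i => Nat.beq (actR51 i) i) 23208 967 = true := by decide +kernel
theorem c_act51_25 : allRange (fun i => Nat.beq (actR51 i) i) 24175 967 = true := by decide +kernel
theorem c_act51_26 : allRange (fun i => Nat.beq (actR51 i) i) 25142 967 = true := by decide +kernel

end Cfsg.Agent.Lib.Helper4.TCD.C2Fi22xR
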