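import Cfsg.Agent.Lib.Helper4.TCD_C2Fi22xR_Acc

namespace Cfsg.Agent.Lib.Helper4.TCD.C2Fi22xR

open Cfsg.Agent.Lib.Helper4.TC

set_option maxRecDepth 100000
set_option Elab.async false

theorem c_act51_27 : allRange (fun i => Nat.beq (actR51 i) i) 26109 967 = true := by decide +kernel
theorem c_act51_28 : allRange (fun i => Nat.beq (actR51 i) i) 27076 967 = true := by decide +kernel
theorem c_act51_29 : allRange (fun i => Nat.beq (actR51 i) i) 28043 117 = true := by decide +kernel
theorem c_act52_0 : allRange (fun i => Nat.beq (actR52 i) i) 0 392 = true := by decide +kernel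
theorem c_act52_1 : allRange (fun i => Nat.beq (actR52 i) i) 392 392 = true := by decide +kernel
theorem c_act52_2 : allRange (fun i => Nat.beq (actR52 i) i) 784 392 = true := by decide +kernel
theorem c_act52_3 : allRange (fun i => Nat.beq (actR52 i) i) 1176 392 = true := by decide +kernel
theorem c_act52_4 : allRange (fun i => Nat.beq (actR52 i) i) 1568 392 = true := by decide +kernel
theorem c_act52_5 : allRange (fun i => Nat.beq (actR52 i) i) 1960 392 = true := by decide +kernel
theorem c_act52_6 : allRange (fun i => Nat.beq (actR52 i) i) 2352 392 = true := by decide +kernel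
theorem c_act52_7 : allRange (fun i => Nat.beq (actR52 i) i) 2744 392 = true := by decide +kernel
theorem c_act52_8 : allRange (fun i => Nat.beq (actR52 i) i) 3136 392 = true := by decide +kernel
theorem c_act52_9 : allRange (fun i => Nat.beq (actR52 i) i) 3528 392 = true := by decide +kernel
theorem c_act52_10 : allRange (fun i => Nat.beq (actR52 i) i) 3920 392 = true := by decide +kernel
theorem c_act52_11 : allRange (fun i => Nat.beq (actR52 i) i) 4312 392 = true := by decide +kernel
theorem c_act52_12 : allRange (fun i => Nat.beq (actR52 i) i) 4704 392 = true := by decide +kernel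
theorem c_act52_13 : allRange (fun i => Nat.beq (actR52 i) i) 5096 392 = true := by decide +kernel
theorem c_act52_14 : allRange (fun i => Nat.beq (actR52 i) i) 5488 392 = true := by decide +kernel
theorem c_act52_15 : allRange (fun i => Nat.beq (actR52 i) i) 5880 392 = true := by decide +kernel
theorem c_act52_16 : allRange (fun i => Nat.beq (actR52 i) i) 6272 392 = true := by decide +kernel
theorem c_act52_17 : allRange (fun i => Nat.beq (actR52 i) i) 6664 392 = true := by decide +kernel
theorem c_act52_18 : allRange (fun i => Nat.beq (actR52 i) i) 7056 392 = true := by decide +kernel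
theorem c_act52_19 : allRange (fun i => Nat.beq (actR52 i) i) 7448 392 = true := by decide +kernel
theorem c_act52_20 : allRange (fun i => Nat.beq (actR52 i) i) 7840 392 = true := by decide +kernel
theorem c_act52_21 : allRange (fun i => Nat.beq (actR52 i) i) 8232 392 = true := by decide +kernel
theorem c_act52_22 : allRange (fun i => Nat.beq (actR52 i) i) 8624 392 = true := by decide +kernel
theorem c_act52_23 : allRange (fun i => Nat.beq (actR52 i) i) 9016 392 = true := by decide +kernel
theorem c_act52_24 : allRange (fun i => Nat.beq (actR52 i) i) 9408 392 = true := by decide +kernel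
theorem c_act52_25 : allRange (fun i => Nat.beq (actR52 i) i) 9800 392 = true := by decide +kernel
theorem c_act52_26 : allRange (fun i => Nat.beq (actR52 i) i) 10192 392 = true := by decide +kernel
theorem c_act52_27 : allRange (fun i => Nat.beq (actR52 i) i) 10584 392 = true := by decide +kernel
theorem c_act52_28 : allRange (fun i => Nat.beq (actR52 i) i) 10976 392 = true := by decide +kernel
theorem c_act52_29 : allRange (fun i => Nat.beq (actR52 i) i) 11368 392 = true := by decide +kernel
theorem c_act52_30 : allRange (fun i => Nat.beq (actR52 i) i) 11760 392 = true := by decide +kernel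
theorem c_act52_31 : allRange (fun i => Nat.beq (actR52 i) i) 12152 392 = true := by decide +kernel
theorem c_act52_32 : allRange (fun i => Nat.beq (actR52 i) i) 12544 392 = true := by decide +kernel
theorem c_act52_33 : allRange (fun i => Nat.beq (actR52 i) i) 12936 392 = true := by decide +kernel
theorem c_act52_34 : allRange (fun i => Nat.beq (actR52 i) i) 13328 392 = true := by decide +kernel
theorem c_act52_35 : allRange (fun i => Nat.beq (actR52 i) i) 13720 392 = true := by decide +kernel
theorem c_act52_36 : allRange (fun i => Nat.beq (actR52 i) i) 14112 392 = true := by decide +kernel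
theorem c_act52_37 : allRange (fun i => Nat.beq (actR52 i) i) 14504 392 = true := by decide +kernel
theorem c_act52_38 : allRange (fun i => Nat.beq (actR52 i) i) 14896 392 = true := by decide +kernel
theorem c_act52_39 : allRange (fun i => Nat.beq (actR52 i) i) 15288 392 = true := by decide +kernel
theorem c_act52_40 : allRange (fun i => Nat.beq (actR52 i) i) 15680 392 = true := by decide +kernel
theorem c_act52_41 : allRange (fun i => Nat.beq (actR52 i) i) 16072 392 = true := by decide +kernel
theorem c_act52_42 : allRange (fun i => Nat.beq (actR52 i) i) 16464 392 = true := by decide +kernel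
theorem c_act52_43 : allRange (fun i => Nat.beq (actR52 i) i) 16856 392 = true := by decide +kernel
theorem c_act52_44 : allRange (fun i => Nat.beq (actR52 i) i) 17248 392 = true := by decide +kernel
theorem c_act52_45 : allRange (fun i => Nat.beq (actR52 i) i) 17640 392 = true := by decide +kernel
theorem c_act52_46 : allRange (fun i => Nat.beq (actR52 i) i) 18032 392 = true := by decide +kernel

end Cfsg.Agent.Lib.Helper4.TCD.C2Fi22xR
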