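import Cfsg.Agent.Lib.Helper4.TCD_C2Fi22xR_Acc

namespace Cfsg.Agent.Lib.Helper4.TCD.C2Fi22xR

open Cfsg.Agent.Lib.Helper4.TC

set_option maxRecDepth 100000
set_option Elab.async false

theorem c_act52_47 : allRange (fun i => Nat.beq (actR52 i) i) 18424 392 = true := by decide +kernel
theorem c_act52_48 : allRange (fun i => Nat.beq (actR52 i) i) 18816 392 = true := by decide +kernel
theorem c_act52_49 : allRange (fun i => Nat.beq (actR52 i) i) 19208 392 = true := by decide +kernel
theorem c_act52_50 : allRange (fun i => Nat.beq (actR52 i) i) 19600 392 = true := by decide +kernel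
theorem c_act52_51 : allRange (fun i => Nat.beq (actR52 i) i) 19992 392 = true := by decide +kernel
theorem c_act52_52 : allRange (fun i => Nat.beq (actR52 i) i) 20384 392 = true := by decide +kernel
theorem c_act52_53 : allRange (fun i => Nat.beq (actR52 i) i) 20776 392 = true := by decide +kernel
theorem c_act52_54 : allRange (fun i => Nat.beq (actR52 i) i) 21168 392 = true := by decide +kernel
theorem c_act52_55 : allRange (fun i => Nat.beq (actR52 i) i) 21560 392 = true := by decide +kernel
theorem c_act52_56 : allRange (fun i => Nat.beq (actR52 i) i) 21952 392 = true := by decide +kernel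
theorem c_act52_57 : allRange (fun i => Nat.beq (actR52 i) i) 22344 392 = true := by decide +kernel
theorem c_act52_58 : allRange (fun i => Nat.beq (actR52 i) i) 22736 392 = true := by decide +kernel
theorem c_act52_59 : allRange (fun i => Nat.beq (actR52 i) i) 23128 392 = true := by decide +kernel
theorem c_act52_60 : allRange (fun i => Nat.beq (actR52 i) i) 23520 392 = true := by decide +kernel
theorem c_act52_61 : allRange (fun i => Nat.beq (actR52 i) i) 23912 392 = true := by decide +kernel
theorem c_act52_62 : allRange (fun i => Nat.beq (actR52 i) i) 24304 392 = true := by decide +kernel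
theorem c_act52_63 : allRange (fun i => Nat.beq (actR52 i) i) 24696 392 = true := by decide +kernel
theorem c_act52_64 : allRange (fun i => Nat.beq (actR52 i) i) 25088 392 = true := by decide +kernel
theorem c_act52_65 : allRange (fun i => Nat.beq (actR52 i) i) 25480 392 = true := by decide +kernel
theorem c_act52_66 : allRange (fun i => Nat.beq (actR52 i) i) 25872 392 = true := by decide +kernel
theorem c_act52_67 : allRange (fun i => Nat.beq (actR52 i) i) 26264 392 = true := by decide +kernel
theorem c_act52_68 : allRange (fun i => Nat.beq (actR52 i) i) 26656 392 = true := by decide +kernel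
theorem c_act52_69 : allRange (fun i => Nat.beq (actR52 i) i) 27048 392 = true := by decide +kernel
theorem c_act52_70 : allRange (fun i => Nat.beq (actR52 i) i) 27440 392 = true := by decide +kernel
theorem c_act52_71 : allRange (fun i => Nat.beq (actR52 i) i) 27832 328 = true := by decide +kernel
theorem c_act53_0 : allRange (fun i => Nat.beq (actR53 i) i) 0 20000 = true := by decide +kernel
theorem c_act53_1 : allRange (fun i => Nat.beq (actR53 i) i) 20000 8160 = true := by decide +kernel
theorem c_act54_0 : allRange (fun i => Nat.beq (actR54 i) i) 0 28160 = true := by decide +kernel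
theorem c_act55_0 : allRange (fun i => Nat.beq (actR55 i) i) 0 12000 = true := by decide +kernel
theorem c_act55_1 : allRange (fun i => Nat.beq (actR55 i) i) 12000 12000 = true := by decide +kernel
theorem c_act55_2 : allRange (fun i => Nat.beq (actR55 i) i) 24000 4160 = true := by decide +kernel
theorem c_act56_0 : allRange (fun i => Nat.beq (actR56 i) i) 0 3333 = true := by decide +kernel
theorem c_act56_1 : allRange (fun i => Nat.beq (actR56 i) i) 3333 3333 = true := by decide +kernel
theorem c_act56_2 : allRange (fun i => Nat.beq (actR56 i) i) 6666 3333 = true := by decide +kernel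
theorem c_act56_3 : allRange (fun i => Nat.beq (actR56 i) i) 9999 3333 = true := by decide +kernel
theorem c_act56_4 : allRange (fun i => Nat.beq (actR56 i) i) 13332 3333 = true := by decide +kernel
theorem c_act56_5 : allRange (fun i => Nat.beq (actR56 i) i) 16665 3333 = true := by decide +kernel
theorem c_act56_6 : allRange (fun i => Nat.beq (actR56 i) i) 19998 3333 = true := by decide +kernel
theorem c_act56_7 : allRange (fun i => Nat.beq (actR56 i) i) 23331 3333 = true := by decide +kernel
theorem c_act56_8 : allRange (fun i => Nat.beq (actR56 i) i) 26664 1496 = true := by decide +kernel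
theorem c_act57_0 : allRange (fun i => Nat.beq (actR57 i) i) 0 5000 = true := by decide +kernel
theorem c_act57_1 : allRange (fun i => Nat.beq (actR57 i) i) 5000 5000 = true := by decide +kernel
theorem c_act57_2 : allRange (fun i => Nat.beq (actR57 i) i) 10000 5000 = true := by decide +kernel
theorem c_act57_3 : allRange (fun i => Nat.beq (actR57 i) i) 15000 5000 = true := by decide +kernel
theorem c_act57_4 : allRange (fun i => Nat.beq (actR57 i) i) 20000 5000 = true := by decide +kernel
theorem c_act57_5 : allRange (fun i => Nat.beq (actR57 i) i) 25000 3160 = true := by decide +kernel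
theorem c_act58_0 : allRange (fun i => Nat.beq (actR58 i) i) 0 3750 = true := by decide +kernel
theorem c_act58_1 : allRange (fun i => Nat.beq (actR58 i) i) 3750 3750 = true := by decide +kernel
theorem c_act58_2 : allRange (fun i => Nat.beq (actR58 i) i) 7500 3750 = true := by decide +kernel
theorem c_act58_3 : allRange (fun i => Nat.beq (actR58 i) i) 11250 3750 = true := by decide +kernel
theorem c_act58_4 : allRange (fun i => Nat.beq (actR58 i) i) 15000 3750 = true := by decide +kernel
theorem c_act58_5 : allRange (fun i => Nat.beq (actR58 i) i) 18750 3750 = true := by decide +kernel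

end Cfsg.Agent.Lib.Helper4.TCD.C2Fi22xR
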