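import Cfsg.Agent.Lib.Helper4.TCD_C2Fi22xR_Acc

namespace Cfsg.Agent.Lib.Helper4.TCD.C2Fi22xR

open Cfsg.Agent.Lib.Helper4.TC

set_option maxRecDepth 100000
set_option Elab.async false

theorem c_act58_6 : allRange (fun i => Nat.beq (actR58 i) i) 22500 3750 = true := by decide +kernel
theorem c_act58_7 : allRange (fun i => Nat.beq (actR58 i) i) 26250 1910 = true := by decide +kernel
theorem c_act59_0 : allRange (fun i => Nat.beq (actR59 i) i) 0 20000 = true := by decide +kernel
theorem c_act59_1 : allRange (fun i => Nat.beq (actR59 i) i) 20000 8160 = true := by decide +kernel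
theorem c_act60_0 : allRange (fun i => Nat.beq (actR60 i) i) 0 15000 = true := by decide +kernel
theorem c_act60_1 : allRange (fun i => Nat.beq (actR60 i) i) 15000 13160 = true := by decide +kernel
theorem c_act61_0 : allRange (fun i => Nat.beq (actR61 i) i) 0 15000 = true := by decide +kernel
theorem c_act61_1 : allRange (fun i => Nat.beq (actR61 i) i) 15000 13160 = true := by decide +kernel
theorem c_act62_0 : allRange (fun i => Nat.beq (actR62 i) i) 0 28160 = true := by decide +kernel
theorem c_act63_0 : allRange (fun i => Nat.beq (actR63 i) i) 0 10000 = true := by decide +kernel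
theorem c_act63_1 : allRange (fun i => Nat.beq (actR63 i) i) 10000 10000 = true := by decide +kernel
theorem c_act63_2 : allRange (fun i => Nat.beq (actR63 i) i) 20000 8160 = true := by decide +kernel
theorem c_act64_0 : allRange (fun i => Nat.beq (actR64 i) i) 0 6666 = true := by decide +kernel
theorem c_act64_1 : allRange (fun i => Nat.beq (actR64 i) i) 6666 6666 = true := by decide +kernel
theorem c_act64_2 : allRange (fun i => Nat.beq (actR64 i) i) 13332 6666 = true := by decide +kernel
theorem c_act64_3 : allRange (fun i => Nat.beq (actR64 i) i) 19998 6666 = true := by decide +kernel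
theorem c_act64_4 : allRange (fun i => Nat.beq (actR64 i) i) 26664 1496 = true := by decide +kernel
theorem c_act65_0 : allRange (fun i => Nat.beq (actR65 i) i) 0 20000 = true := by decide +kernel
theorem c_act65_1 : allRange (fun i => Nat.beq (actR65 i) i) 20000 8160 = true := by decide +kernel
theorem c_act66_0 : allRange (fun i => Nat.beq (actR66 i) i) 0 3529 = true := by decide +kernel
theorem c_act66_1 : allRange (fun i => Nat.beq (actR66 i) i) 3529 3529 = true := by decide +kernel
theorem c_act66_2 : allRange (fun i => Nat.beq (actR66 i) i) 7058 3529 = true := by decide +kernel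
theorem c_act66_3 : allRange (fun i => Nat.beq (actR66 i) i) 10587 3529 = true := by decide +kernel
theorem c_act66_4 : allRange (fun i => Nat.beq (actR66 i) i) 14116 3529 = true := by decide +kernel
theorem c_act66_5 : allRange (fun i => Nat.beq (actR66 i) i) 17645 3529 = true := by decide +kernel
theorem c_act66_6 : allRange (fun i => Nat.beq (actR66 i) i) 21174 3529 = true := by decide +kernel
theorem c_act66_7 : allRange (fun i => Nat.beq (actR66 i) i) 24703 3457 = true := by decide +kernel
theorem c_act67_0 : allRange (fun i => Nat.beq (actR67 i) i) 0 3157 = true := by decide +kernel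
theorem c_act67_1 : allRange (fun i => Nat.beq (actR67 i) i) 3157 3157 = true := by decide +kernel
theorem c_act67_2 : allRange (fun i => Nat.beq (actR67 i) i) 6314 3157 = true := by decide +kernel
theorem c_act67_3 : allRange (fun i => Nat.beq (actR67 i) i) 9471 3157 = true := by decide +kernel
theorem c_act67_4 : allRange (fun i => Nat.beq (actR67 i) i) 12628 3157 = true := by decide +kernel
theorem c_act67_5 : allRange (fun i => Nat.beq (actR67 i) i) 15785 3157 = true := by decide +kernel
theorem c_act67_6 : allRange (fun i => Nat.beq (actR67 i) i) 18942 3157 = true := by decide +kernel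
theorem c_act67_7 : allRange (fun i => Nat.beq (actR67 i) i) 22099 3157 = true := by decide +kernel
theorem c_act67_8 : allRange (fun i => Nat.beq (actR67 i) i) 25256 2904 = true := by decide +kernel
theorem c_act68_0 : allRange (fun i => Nat.beq (actR68 i) i) 0 2142 = true := by decide +kernel
theorem c_act68_1 : allRange (fun i => Nat.beq (actR68 i) i) 2142 2142 = true := by decide +kernel
theorem c_act68_2 : allRange (fun i => Nat.beq (actR68 i) i) 4284 2142 = true := by decide +kernel
theorem c_act68_3 : allRange (fun i => Nat.beq (actR68 i) i) 6426 2142 = true := by decide +kernel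
theorem c_act68_4 : allRange (fun i => Nat.beq (actR68 i) i) 8568 2142 = true := by decide +kernel
theorem c_act68_5 : allRange (fun i => Nat.beq (actR68 i) i) 10710 2142 = true := by decide +kernel
theorem c_act68_6 : allRange (fun i => Nat.beq (actR68 i) i) 12852 2142 = true := by decide +kernel
theorem c_act68_7 : allRange (fun i => Nat.beq (actR68 i) i) 14994 2142 = true := by decide +kernel
theorem c_act68_8 : allRange (fun i => Nat.beq (actR68 i) i) 17136 2142 = true := by decide +kernel
theorem c_act68_9 : allRange (fun i => Nat.beq (actR68 i) i) 19278 2142 = true := by decide +kernel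
theorem c_act68_10 : allRange (fun i => Nat.beq (actR68 i) i) 21420 2142 = true := by decide +kernel
theorem c_act68_11 : allRange (fun i => Nat.beq (actR68 i) i) 23562 2142 = true := by decide +kernel
theorem c_act68_12 : allRange (fun i => Nat.beq (actR68 i) i) 25704 2142 = true := by decide +kernel
theorem c_act68_13 : allRange (fun i => Nat.beq (actR68 i) i) 27846 314 = true := by decide +kernel
theorem c_act69_0 : allRange (fun i => Nat.beq (actR69 i) i) 0 28160 = true := by decide +kernel
theorem c_act70_0 : allRange (fun i => Nat.beq (actR70 i) i) 0 15000 = true := by decide +kernel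
theorem c_act70_1 : allRange (fun i => Nat.beq (actR70 i) i) 15000 13160 = true := by decide +kernel
theorem c_act71_0 : allRange (fun i => Nat.beq (actR71 i) i) 0 15000 = true := by decide +kernel

end Cfsg.Agent.Lib.Helper4.TCD.C2Fi22xR
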