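import Cfsg.Agent.Lib.Helper4.TCD_C2Fi22xR_C0
import Cfsg.Agent.Lib.Helper4.TCD_C2Fi22xR_C1
import Cfsg.Agent.Lib.Helper4.TCD_C2Fi22xR_C2
import Cfsg.Agent.Lib.Helper4.TCD_C2Fi22xR_C3
import Cfsg.Agent.Lib.Helper4.TCD_C2Fi22xR_C4
import Cfsg.Agent.Lib.Helper4.TCD_C2Fi22xR_C5
import Cfsg.Agent.Lib.Helper4.TCD_C2Fi22xR_C6
import Cfsg.Agent.Lib.Helper4.TCD_C2Fi22xR_C7
import Cfsg.Agent.Lib.Helper4.TCD_C2Fi22xR_C8
import Cfsg.Agent.Lib.Helper4.TCD_C2Fi22xR_C9
import Cfsg.Agent.Lib.Helper4.TCD_C2Fi22xR_C10

namespace Cfsg.Agent.Lib.Helper4.TCD.C2Fi22xR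

open Cfsg.Agent.Lib.Helper4.TC

theorem h_perm : ∀ i, 0 ≤ i → i < 28160 → ∀ x, x < 32 → T.permOK1 D i x = true :=
  (range_glue (range_of_allGrid c_perm_0) (range_glue (range_of_allGrid c_perm_1) (range_glue (range_of_allGrid c_perm_2) (range_glue (range_of_allGrid c_perm_3) (range_glue (range_of_allGrid c_perm_4) (range_glue (range_of_allGrid c_perm_5) (range_glue (range_of_allGrid c_perm_6) (range_glue (range_of_allGrid c_perm_7) (range_glue (range_of_allGrid c_perm_8) (range_glue (range_of_allGrid c_perm_9) (range_glue (range_of_allGrid c_perm_10) (range_glue (range_of_allGrid c_perm_11) (range_glue (range_of_allGrid c_perm_12) (range_glue (range_of_allGrid c_perm_13) (range_glue (range_of_allGrid c_perm_14) (range_glue (range_of_allGrid c_perm_15) (range_glue (range_of_allGrid c_perm_16) (range_glue (range_of_allGrid c_perm_17) (range_glue (range_of_allGrid c_perm_18) (range_glue (range_of_allGrid c_perm_19) (range_glue (range_of_allGrid c_perm_20) (range_glue (range_of_allGrid c_perm_21) (range_glue (range_of_allGrid c_perm_22) (range_glue (range_of_allGrid c_perm_23)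 (range_glue (range_of_allGrid c_perm_24) (range_glue (range_of_allGrid c_perm_25) (range_glue (range_of_allGrid c_perm_26) (range_glue (range_of_allGrid c_perm_27) (range_glue (range_of_allGrid c_perm_28) (range_glue (range_of_allGrid c_perm_29) (range_of_allGrid c_perm_30)))))))))))))))))))))))))))))))
theorem h_act0 : ∀ i, 0 ≤ i → i < 28160 → Nat.beq (actR0 i) i = true :=
  (range_of_allRange c_act0_0)
theorem h_act1 : ∀ i, 0 ≤ i → i < 28160 → Nat.beq (actR1 i) i = true :=
  (range_glue (range_of_allRange c_act1_0) (range_glue (range_of_allRange c_act1_1) (range_of_allRange c_act1_2)))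
theorem h_act2 : ∀ i, 0 ≤ i → i < 28160 → Nat.beq (actR2 i) i = true :=
  (range_glue (range_of_allRange c_act2_0) (range_of_allRange c_act2_1))
theorem h_act3 : ∀ i, 0 ≤ i → i < 28160 → Nat.beq (actR3 i) i = true :=
  (range_glue (range_of_allRange c_act3_0) (range_of_allRange c_act3_1))
theorem h_act4 : ∀ i, 0 ≤ i → i < 28160 → Nat.beq (actR4 i) i = true :=
  (range_glue (range_of_allRange c_act4_0) (range_of_allRange c_act4_1))
theorem h_act5 : ∀ i, 0 ≤ i → i < 28160 → Nat.beq (actR5 i) i = true :=
  (range_glue (range_of_allRange c_act5_0) (range_of_allRange c_act5_1))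
theorem h_act6 : ∀ i, 0 ≤ i → i < 28160 → Nat.beq (actR6 i) i = true :=
  (range_glue (range_of_allRange c_act6_0) (range_of_allRange c_act6_1))
theorem h_act7 : ∀ i, 0 ≤ i → i < 28160 → Nat.beq (actR7 i) i = true :=
  (range_glue (range_of_allRange c_act7_0) (range_of_allRange c_act7_1))
theorem h_act8 : ∀ i, 0 ≤ i → i < 28160 → Nat.beq (actR8 i) i = true :=
  (range_glue (range_of_allRange c_act8_0) (range_of_allRange c_act8_1))
theorem h_act9 : ∀ i, 0 ≤ i → i < 28160 → Nat.beq (actR9 i) i = true :=
  (range_of_allRange c_act9_0)
theorem h_act10 : ∀ i, 0 ≤ i → i < 28160 → Nat.beq (actR10 i) i = true :=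
  (range_glue (range_of_allRange c_act10_0) (range_glue (range_of_allRange c_act10_1) (range_of_allRange c_act10_2)))
theorem h_act11 : ∀ i, 0 ≤ i → i < 28160 → Nat.beq (actR11 i) i = true :=
  (range_glue (range_of_allRange c_act11_0) (range_of_allRange c_act11_1))
theorem h_act12 : ∀ i, 0 ≤ i → i < 28160 → Nat.beq (actR12 i) i = true :=
  (range_glue (range_of_allRange c_act12_0) (range_of_allRange c_act12_1))
theorem h_act13 : ∀ i, 0 ≤ i → i < 28160 → Nat.beq (actR13 i) i = true :=
  (range_glue (range_of_allRange c_act13_0) (range_of_allRange c_act13_1))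
theorem h_act14 : ∀ i, 0 ≤ i → i < 28160 → Nat.beq (actR14 i) i = true :=
  (range_glue (range_of_allRange c_act14_0) (range_of_allRange c_act14_1))
theorem h_act15 : ∀ i, 0 ≤ i → i < 28160 → Nat.beq (actR15 i) i = true :=
  (range_glue (range_of_allRange c_act15_0) (range_of_allRange c_act15_1))
theorem h_act16 : ∀ i, 0 ≤ i → i < 28160 → Nat.beq (actR16 i) i = true :=
  (range_glue (range_of_allRange c_act16_0) (range_of_allRange c_act16_1))
theorem h_act17 : ∀ i, 0 ≤ i → i < 28160 → Nat.beq (actR17 i) i = true :=
  (range_of_allRange c_act17_0)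
theorem h_act18 : ∀ i, 0 ≤ i → i < 28160 → Nat.beq (actR18 i) i = true :=
  (range_glue (range_of_allRange c_act18_0) (range_glue (range_of_allRange c_act18_1) (range_of_allRange c_act18_2)))
theorem h_act19 : ∀ i, 0 ≤ i → i < 28160 → Nat.beq (actR19 i) i = true :=
  (range_glue (range_of_allRange c_act19_0) (range_of_allRange c_act19_1))
theorem h_act20 : ∀ i, 0 ≤ i → i < 28160 → Nat.beq (actR20 i) i = true :=
  (range_glue (range_of_allRange c_act20_0) (range_of_allRange c_act20_1))
theorem h_act21 : ∀ i, 0 ≤ i → i < 28160 → Nat.beq (actR21 i) i = true :=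
  (range_glue (range_of_allRange c_act21_0) (range_of_allRange c_act21_1))
theorem h_act22 : ∀ i, 0 ≤ i → i < 28160 → Nat.beq (actR22 i) i = true :=
  (range_glue (range_of_allRange c_act22_0) (range_of_allRange c_act22_1))
theorem h_act23 : ∀ i, 0 ≤ i → i < 28160 → Nat.beq (actR23 i) i = true :=
  (range_glue (range_of_allRange c_act23_0) (range_of_allRange c_act23_1))
theorem h_act24 : ∀ i, 0 ≤ i → i < 28160 → Nat.beq (actR24 i) i = true :=
  (range_of_allRange c_act24_0)
theorem h_act25 : ∀ i, 0 ≤ i → i < 28160 → Nat.beq (actR25 i) i = true :=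
  (range_glue (range_of_allRange c_act25_0) (range_glue (range_of_allRange c_act25_1) (range_of_allRange c_act25_2)))
theorem h_act26 : ∀ i, 0 ≤ i → i < 28160 → Nat.beq (actR26 i) i = true :=
  (range_glue (range_of_allRange c_act26_0) (range_glue (range_of_allRange c_act26_1) (range_of_allRange c_act26_2)))
theorem h_act27 : ∀ i, 0 ≤ i → i < 28160 → Nat.beq (actR27 i) i = true :=
  (range_glue (range_of_allRange c_act27_0) (range_of_allRange c_act27_1))
theorem h_act28 : ∀ i, 0 ≤ i → i < 28160 → Nat.beq (actR28 i) i = true :=
  (range_glue (range_of_allRange c_act28_0) (range_of_allRange c_act28_1))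
theorem h_act29 : ∀ i, 0 ≤ i → i < 28160 → Nat.beq (actR29 i) i = true :=
  (range_glue (range_of_allRange c_act29_0) (range_of_allRange c_act29_1))
theorem h_act30 : ∀ i, 0 ≤ i → i < 28160 → Nat.beq (actR30 i) i = true :=
  (range_of_allRange c_act30_0)
theorem h_act31 : ∀ i, 0 ≤ i → i < 28160 → Nat.beq (actR31 i) i = true :=
  (range_glue (range_of_allRange c_act31_0) (range_of_allRange c_act31_1))
theorem h_act32 : ∀ i, 0 ≤ i → i < 28160 → Nat.beq (actR32 i) i = true :=
  (range_glue (range_of_allRange c_act32_0) (range_glue (range_of_allRange c_act32_1) (range_of_allRange c_act32_2)))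
theorem h_act33 : ∀ i, 0 ≤ i → i < 28160 → Nat.beq (actR33 i) i = true :=
  (range_glue (range_of_allRange c_act33_0) (range_of_allRange c_act33_1))
theorem h_act34 : ∀ i, 0 ≤ i → i < 28160 → Nat.beq (actR34 i) i = true :=
  (range_glue (range_of_allRange c_act34_0) (range_of_allRange c_act34_1))
theorem h_act35 : ∀ i, 0 ≤ i → i < 28160 → Nat.beq (actR35 i) i = true :=
  (range_of_allRange c_act35_0)
theorem h_act36 : ∀ i, 0 ≤ i → i < 28160 → Nat.beq (actR36 i) i = true :=
  (range_glue (range_of_allRange c_act36_0) (range_of_allRange c_act36_1))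
theorem h_act37 : ∀ i, 0 ≤ i → i < 28160 → Nat.beq (actR37 i) i = true :=
  (range_glue (range_of_allRange c_act37_0) (range_of_allRange c_act37_1))
theorem h_act38 : ∀ i, 0 ≤ i → i < 28160 → Nat.beq (actR38 i) i = true :=
  (range_glue (range_of_allRange c_act38_0) (range_glue (range_of_allRange c_act38_1) (range_of_allRange c_act38_2)))
theorem h_act39 : ∀ i, 0 ≤ i → i < 28160 → Nat.beq (actR39 i) i = true :=
  (range_of_allRange c_act39_0)
theorem h_act40 : ∀ i, 0 ≤ i → i < 28160 → Nat.beq (actR40 i) i = true :=
  (range_glue (range_of_allRange c_act40_0) (range_glue (range_of_allRange c_act40_1) (range_of_allRange c_act40_2)))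
theorem h_act41 : ∀ i, 0 ≤ i → i < 28160 → Nat.beq (actR41 i) i = true :=
  (range_glue (range_of_allRange c_act41_0) (range_of_allRange c_act41_1))
theorem h_act42 : ∀ i, 0 ≤ i → i < 28160 → Nat.beq (actR42 i) i = true :=
  (range_of_allRange c_act42_0)
theorem h_act43 : ∀ i, 0 ≤ i → i < 28160 → Nat.beq (actR43 i) i = true :=
  (range_glue (range_of_allRange c_act43_0) (range_of_allRange c_act43_1))
theorem h_act44 : ∀ i, 0 ≤ i → i < 28160 → Nat.beq (actR44 i) i = true :=
  (range_of_allRange c_act44_0)
theorem h_act45_p0 : ∀ i, 0 ≤ i → i < 26640 → Nat.beq (actR45 i) i = true :=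
  (range_glue (range_of_allRange c_act45_0) (range_glue (range_of_allRange c_act45_1) (range_glue (range_of_allRange c_act45_2) (range_glue (range_of_allRange c_act45_3) (range_glue (range_of_allRange c_act45_4) (range_glue (range_of_allRange c_act45_5) (range_glue (range_of_allRange c_act45_6) (range_glue (range_of_allRange c_act45_7) (range_glue (range_of_allRange c_act45_8) (range_glue (range_of_allRange c_act45_9) (range_glue (range_of_allRange c_act45_10) (range_glue (range_of_allRange c_act45_11) (range_glue (range_of_allRange c_act45_12) (range_glue (range_of_allRange c_act45_13) (range_glue (range_of_allRange c_act45_14) (range_glue (range_of_allRange c_act45_15) (range_glue (range_of_allRange c_act45_16) (range_glue (range_of_allRange c_act45_17) (range_glue (range_of_allRange c_act45_18) (range_glue (range_of_allRange c_act45_19) (range_glue (range_of_allRange c_act45_20) (range_glue (range_of_allRange c_act45_21) (range_glue (range_of_allRange c_act45_22) (range_glue (range_of_allRange c_act45_23) (range_glue (range_of_allRange c_act45_24) (range_glue (range_of_allRange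 c_act45_25) (range_glue (range_of_allRange c_act45_26) (range_glue (range_of_allRange c_act45_27) (range_glue (range_of_allRange c_act45_28) (range_glue (range_of_allRange c_act45_29) (range_glue (range_of_allRange c_act45_30) (range_glue (range_of_allRange c_act45_31) (range_glue (range_of_allRange c_act45_32) (range_glue (range_of_allRange c_act45_33) (range_glue (range_of_allRange c_act45_34) (range_glue (range_of_allRange c_act45_35) (range_glue (range_of_allRange c_act45_36) (range_glue (range_of_allRange c_act45_37) (range_glue (range_of_allRange c_act45_38) (range_of_allRange c_act45_39))))))))))))))))))))))))))))))))))))))))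
theorem h_act45_p1 : ∀ i, 26640 ≤ i → i < 28160 → Nat.beq (actR45 i) i = true :=
  (range_glue (range_of_allRange c_act45_40) (range_glue (range_of_allRange c_act45_41) (range_of_allRange c_act45_42)))
theorem h_act45 : ∀ i, 0 ≤ i → i < 28160 → Nat.beq (actR45 i) i = true :=
  (range_glue h_act45_p0 h_act45_p1)
theorem h_act46 : ∀ i, 0 ≤ i → i < 28160 → Nat.beq (actR46 i) i = true :=
  (range_glue (range_of_allRange c_act46_0) (range_glue (range_of_allRange c_act46_1) (range_glue (range_of_allRange c_act46_2) (range_glue (range_of_allRange c_act46_3) (range_glue (range_of_allRange c_act46_4) (range_glue (range_of_allRange c_act46_5) (range_glue (range_of_allRange c_act46_6) (range_glue (range_of_allRange c_act46_7) (range_glue (range_of_allRange c_act46_8) (range_glue (range_of_allRange c_act46_9) (range_glue (range_of_allRange c_act46_10) (range_glue (range_of_allRange c_act46_11) (range_glue (range_of_allRange c_act46_12) (range_glue (range_of_allRange c_act46_13) (range_glue (range_of_allRange c_act46_14) (range_glue (range_of_allRange c_act46_15) (range_glue (range_of_allRange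 c_act46_16) (range_glue (range_of_allRange c_act46_17) (range_glue (range_of_allRange c_act46_18) (range_glue (range_of_allRange c_act46_19) (range_glue (range_of_allRange c_act46_20) (range_glue (range_of_allRange c_act46_21) (range_glue (range_of_allRange c_act46_22) (range_glue (range_of_allRange c_act46_23) (range_glue (range_of_allRange c_act46_24) (range_glue (range_of_allRange c_act46_25) (range_glue (range_of_allRange c_act46_26) (range_glue (range_of_allRange c_act46_27) (range_glue (range_of_allRange c_act46_28) (range_glue (range_of_allRange c_act46_29) (range_of_allRange c_act46_30)))))))))))))))))))))))))))))))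
theorem h_act47 : ∀ i, 0 ≤ i → i < 28160 → Nat.beq (actR47 i) i = true :=
  (range_glue (range_of_allRange c_act47_0) (range_glue (range_of_allRange c_act47_1) (range_glue (range_of_allRange c_act47_2) (range_glue (range_of_allRange c_act47_3) (range_glue (range_of_allRange c_act47_4) (range_glue (range_of_allRange c_act47_5) (range_glue (range_of_allRange c_act47_6) (range_glue (range_of_allRange c_act47_7) (range_glue (range_of_allRange c_act47_8) (range_glue (range_of_allRange c_act47_9) (range_glue (range_of_allRange c_act47_10) (range_glue (range_of_allRange c_act47_11) (range_glue (range_of_allRange c_act47_12) (range_glue (range_of_allRange c_act47_13) (range_glue (range_of_allRange c_act47_14) (range_glue (range_of_allRange c_act47_15) (range_glue (range_of_allRange c_act47_16) (range_glue (range_of_allRange c_act47_17) (range_glue (range_of_allRange c_act47_18) (range_glue (range_of_allRange c_act47_19) (range_glue (range_of_allRange c_act47_20) (range_glue (range_of_allRange c_act47_21) (range_glue (range_of_allRange c_act47_22) (range_glue (range_of_allRange c_act47_23)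 (range_glue (range_of_allRange c_act47_24) (range_glue (range_of_allRange c_act47_25) (range_glue (range_of_allRange c_act47_26) (range_glue (range_of_allRange c_act47_27) (range_glue (range_of_allRange c_act47_28) (range_of_allRange c_act47_29))))))))))))))))))))))))))))))
theorem h_act48 : ∀ i, 0 ≤ i → i < 28160 → Nat.beq (actR48 i) i = true :=
  (range_glue (range_of_allRange c_act48_0) (range_glue (range_of_allRange c_act48_1) (range_glue (range_of_allRange c_act48_2) (range_glue (range_of_allRange c_act48_3) (range_glue (range_of_allRange c_act48_4) (range_glue (range_of_allRange c_act48_5) (range_glue (range_of_allRange c_act48_6) (range_glue (range_of_allRange c_act48_7) (range_glue (range_of_allRange c_act48_8) (range_glue (range_of_allRange c_act48_9) (range_glue (range_of_allRange c_act48_10) (range_of_allRange c_act48_11))))))))))))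
theorem h_act49_p0 : ∀ i, 0 ≤ i → i < 16760 → Nat.beq (actR49 i) i = true :=
  (range_glue (range_of_allRange c_act49_0) (range_glue (range_of_allRange c_act49_1) (range_glue (range_of_allRange c_act49_2) (range_glue (range_of_allRange c_act49_3) (range_glue (range_of_allRange c_act49_4) (range_glue (range_of_allRange c_act49_5) (range_glue (range_of_allRange c_act49_6) (range_glue (range_of_allRange c_act49_7) (range_glue (range_of_allRange c_act49_8) (range_glue (range_of_allRange c_act49_9) (range_glue (range_of_allRange c_act49_10) (range_glue (range_of_allRange c_act49_11) (range_glue (range_of_allRange c_act49_12) (range_glue (range_of_allRange c_act49_13) (range_glue (range_of_allRange c_act49_14) (range_glue (range_of_allRange c_act49_15) (range_glue (range_of_allRange c_act49_16) (range_glue (range_of_allRange c_act49_17) (range_glue (range_of_allRange c_act49_18) (range_glue (range_of_allRange c_act49_19) (range_glue (range_of_allRange c_act49_20) (range_glue (range_of_allRange c_act49_21) (range_glue (range_of_allRange c_act49_22) (range_glue (range_of_allRange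 c_act49_23) (range_glue (range_of_allRange c_act49_24) (range_glue (range_of_allRange c_act49_25) (range_glue (range_of_allRange c_act49_26) (range_glue (range_of_allRange c_act49_27) (range_glue (range_of_allRange c_act49_28) (range_glue (range_of_allRange c_act49_29) (range_glue (range_of_allRange c_act49_30) (range_glue (range_of_allRange c_act49_31) (range_glue (range_of_allRange c_act49_32) (range_glue (range_of_allRange c_act49_33) (range_glue (range_of_allRange c_act49_34) (range_glue (range_of_allRange c_act49_35) (range_glue (range_of_allRange c_act49_36) (range_glue (range_of_allRange c_act49_37) (range_glue (range_of_allRange c_act49_38) (range_of_allRange c_act49_39))))))))))))))))))))))))))))))))))))))))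
theorem h_act49_p1 : ∀ i, 16760 ≤ i → i < 28160 → Nat.beq (actR49 i) i = true :=
  (range_glue (range_of_allRange c_act49_40) (range_glue (range_of_allRange c_act49_41) (range_glue (range_of_allRange c_act49_42) (range_glue (range_of_allRange c_act49_43) (range_glue (range_of_allRange c_act49_44) (range_glue (range_of_allRange c_act49_45) (range_glue (range_of_allRange c_act49_46) (range_glue (range_of_allRange c_act49_47) (range_glue (range_of_allRange c_act49_48) (range_glue (range_of_allRange c_act49_49) (range_glue (range_of_allRange c_act49_50) (range_glue (range_of_allRange c_act49_51) (range_glue (range_of_allRange c_act49_52) (range_glue (range_of_allRange c_act49_53) (range_glue (range_of_allRange c_act49_54) (range_glue (range_of_allRange c_act49_55) (range_glue (range_of_allRange c_act49_56) (range_glue (range_of_allRange c_act49_57) (range_glue (range_of_allRange c_act49_58) (range_glue (range_of_allRange c_act49_59) (range_glue (range_of_allRange c_act49_60) (range_glue (range_of_allRange c_act49_61) (range_glue (range_of_allRange c_act49_62) (range_glue (range_of_allRange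 c_act49_63) (range_glue (range_of_allRange c_act49_64) (range_glue (range_of_allRange c_act49_65) (range_glue (range_of_allRange c_act49_66) (range_of_allRange c_act49_67))))))))))))))))))))))))))))
theorem h_act49 : ∀ i, 0 ≤ i → i < 28160 → Nat.beq (actR49 i) i = true :=
  (range_glue h_act49_p0 h_act49_p1)
theorem h_act50 : ∀ i, 0 ≤ i → i < 28160 → Nat.beq (actR50 i) i = true :=
  (range_glue (range_of_allRange c_act50_0) (range_glue (range_of_allRange c_act50_1) (range_glue (range_of_allRange c_act50_2) (range_glue (range_of_allRange c_act50_3) (range_glue (range_of_allRange c_act50_4) (range_glue (range_of_allRange c_act50_5) (range_glue (range_of_allRange c_act50_6) (range_glue (range_of_allRange c_act50_7) (range_glue (range_of_allRange c_act50_8) (range_glue (range_of_allRange c_act50_9) (range_glue (range_of_allRange c_act50_10) (range_glue (range_of_allRange c_act50_11) (range_glue (range_of_allRange c_act50_12) (range_glue (range_of_allRange c_act50_13) (range_glue (range_of_allRange c_act50_14) (range_glue (range_of_allRange c_act50_15) (range_glue (range_of_allRange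 c_act50_16) (range_glue (range_of_allRange c_act50_17) (range_glue (range_of_allRange c_act50_18) (range_glue (range_of_allRange c_act50_19) (range_glue (range_of_allRange c_act50_20) (range_glue (range_of_allRange c_act50_21) (range_glue (range_of_allRange c_act50_22) (range_glue (range_of_allRange c_act50_23) (range_glue (range_of_allRange c_act50_24) (range_of_allRange c_act50_25))))))))))))))))))))))))))
theorem h_act51 : ∀ i, 0 ≤ i → i < 28160 → Nat.beq (actR51 i) i = true :=
  (range_glue (range_of_allRange c_act51_0) (range_glue (range_of_allRange c_act51_1) (range_glue (range_of_allRange c_act51_2) (range_glue (range_of_allRange c_act51_3) (range_glue (range_of_allRange c_act51_4) (range_glue (range_of_allRange c_act51_5) (range_glue (range_of_allRange c_act51_6) (range_glue (range_of_allRange c_act51_7) (range_glue (range_of_allRange c_act51_8) (range_glue (range_of_allRange c_act51_9) (range_glue (range_of_allRange c_act51_10) (range_glue (range_of_allRange c_act51_11) (range_glue (range_of_allRange c_act51_12) (range_glue (range_of_allRange c_act51_13) (range_glue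 (range_of_allRange c_act51_14) (range_glue (range_of_allRange c_act51_15) (range_glue (range_of_allRange c_act51_16) (range_glue (range_of_allRange c_act51_17) (range_glue (range_of_allRange c_act51_18) (range_glue (range_of_allRange c_act51_19) (range_glue (range_of_allRange c_act51_20) (range_glue (range_of_allRange c_act51_21) (range_glue (range_of_allRange c_act51_22) (range_glue (range_of_allRange c_act51_23) (range_glue (range_of_allRange c_act51_24) (range_glue (range_of_allRange c_act51_25) (range_glue (range_of_allRange c_act51_26) (range_glue (range_of_allRange c_act51_27) (range_glue (range_of_allRange c_act51_28) (range_of_allRange c_act51_29))))))))))))))))))))))))))))))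
theorem h_act52_p0 : ∀ i, 0 ≤ i → i < 15680 → Nat.beq (actR52 i) i = true :=
  (range_glue (range_of_allRange c_act52_0) (range_glue (range_of_allRange c_act52_1) (range_glue (range_of_allRange c_act52_2) (range_glue (range_of_allRange c_act52_3) (range_glue (range_of_allRange c_act52_4) (range_glue (range_of_allRange c_act52_5) (range_glue (range_of_allRange c_act52_6) (range_glue (range_of_allRange c_act52_7) (range_glue (range_of_allRange c_act52_8) (range_glue (range_of_allRange c_act52_9) (range_glue (range_of_allRange c_act52_10) (range_glue (range_of_allRange c_act52_11) (range_glue (range_of_allRange c_act52_12) (range_glue (range_of_allRange c_act52_13) (range_glue (range_of_allRange c_act52_14) (range_glue (range_of_allRange c_act52_15) (range_glue (range_of_allRange c_act52_16) (range_glue (range_of_allRange c_act52_17) (range_glue (range_of_allRange c_act52_18) (range_glue (range_of_allRange c_act52_19) (range_glue (range_of_allRange c_act52_20) (range_glue (range_of_allRange c_act52_21) (range_glue (range_of_allRange c_act52_22) (range_glue (range_of_allRange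 c_act52_23) (range_glue (range_of_allRange c_act52_24) (range_glue (range_of_allRange c_act52_25) (range_glue (range_of_allRange c_act52_26) (range_glue (range_of_allRange c_act52_27) (range_glue (range_of_allRange c_act52_28) (range_glue (range_of_allRange c_act52_29) (range_glue (range_of_allRange c_act52_30) (range_glue (range_of_allRange c_act52_31) (range_glue (range_of_allRange c_act52_32) (range_glue (range_of_allRange c_act52_33) (range_glue (range_of_allRange c_act52_34) (range_glue (range_of_allRange c_act52_35) (range_glue (range_of_allRange c_act52_36) (range_glue (range_of_allRange c_act52_37) (range_glue (range_of_allRange c_act52_38) (range_of_allRange c_act52_39))))))))))))))))))))))))))))))))))))))))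
theorem h_act52_p1 : ∀ i, 15680 ≤ i → i < 28160 → Nat.beq (actR52 i) i = true :=
  (range_glue (range_of_allRange c_act52_40) (range_glue (range_of_allRange c_act52_41) (range_glue (range_of_allRange c_act52_42) (range_glue (range_of_allRange c_act52_43) (range_glue (range_of_allRange c_act52_44) (range_glue (range_of_allRange c_act52_45) (range_glue (range_of_allRange c_act52_46) (range_glue (range_of_allRange c_act52_47) (range_glue (range_of_allRange c_act52_48) (range_glue (range_of_allRange c_act52_49) (range_glue (range_of_allRange c_act52_50) (range_glue (range_of_allRange c_act52_51) (range_glue (range_of_allRange c_act52_52) (range_glue (range_of_allRange c_act52_53) (range_glue (range_of_allRange c_act52_54) (range_glue (range_of_allRange c_act52_55) (range_glue (range_of_allRange c_act52_56) (range_glue (range_of_allRange c_act52_57) (range_glue (range_of_allRange c_act52_58) (range_glue (range_of_allRange c_act52_59) (range_glue (range_of_allRange c_act52_60) (range_glue (range_of_allRange c_act52_61) (range_glue (range_of_allRange c_act52_62) (range_glue (range_of_allRange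 c_act52_63) (range_glue (range_of_allRange c_act52_64) (range_glue (range_of_allRange c_act52_65) (range_glue (range_of_allRange c_act52_66) (range_glue (range_of_allRange c_act52_67) (range_glue (range_of_allRange c_act52_68) (range_glue (range_of_allRange c_act52_69) (range_glue (range_of_allRange c_act52_70) (range_of_allRange c_act52_71))))))))))))))))))))))))))))))))
theorem h_act52 : ∀ i, 0 ≤ i → i < 28160 → Nat.beq (actR52 i) i = true :=
  (range_glue h_act52_p0 h_act52_p1)
theorem h_act53 : ∀ i, 0 ≤ i → i < 28160 → Nat.beq (actR53 i) i = true :=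
  (range_glue (range_of_allRange c_act53_0) (range_of_allRange c_act53_1))
theorem h_act54 : ∀ i, 0 ≤ i → i < 28160 → Nat.beq (actR54 i) i = true :=
  (range_of_allRange c_act54_0)
theorem h_act55 : ∀ i, 0 ≤ i → i < 28160 → Nat.beq (actR55 i) i = true :=
  (range_glue (range_of_allRange c_act55_0) (range_glue (range_of_allRange c_act55_1) (range_of_allRange c_act55_2)))
theorem h_act56 : ∀ i, 0 ≤ i → i < 28160 → Nat.beq (actR56 i) i = true :=
  (range_glue (range_of_allRange c_act56_0) (range_glue (range_of_allRange c_act56_1) (range_glue (range_of_allRange c_act56_2) (range_glue (range_of_allRange c_act56_3) (range_glue (range_of_allRange c_act56_4) (range_glue (range_of_allRange c_act56_5) (range_glue (range_of_allRange c_act56_6) (range_glue (range_of_allRange c_act56_7) (range_of_allRange c_act56_8)))))))))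
theorem h_act57 : ∀ i, 0 ≤ i → i < 28160 → Nat.beq (actR57 i) i = true :=
  (range_glue (range_of_allRange c_act57_0) (range_glue (range_of_allRange c_act57_1) (range_glue (range_of_allRange c_act57_2) (range_glue (range_of_allRange c_act57_3) (range_glue (range_of_allRange c_act57_4) (range_of_allRange c_act57_5))))))
theorem h_act58 : ∀ i, 0 ≤ i → i < 28160 → Nat.beq (actR58 i) i = true :=
  (range_glue (range_of_allRange c_act58_0) (range_glue (range_of_allRange c_act58_1) (range_glue (range_of_allRange c_act58_2) (range_glue (range_of_allRange c_act58_3) (range_glue (range_of_allRange c_act58_4) (range_glue (range_of_allRange c_act58_5) (range_glue (range_of_allRange c_act58_6) (range_of_allRange c_act58_7))))))))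
theorem h_act59 : ∀ i, 0 ≤ i → i < 28160 → Nat.beq (actR59 i) i = true :=
  (range_glue (range_of_allRange c_act59_0) (range_of_allRange c_act59_1))
theorem h_act60 : ∀ i, 0 ≤ i → i < 28160 → Nat.beq (actR60 i) i = true :=
  (range_glue (range_of_allRange c_act60_0) (range_of_allRange c_act60_1))
theorem h_act61 : ∀ i, 0 ≤ i → i < 28160 → Nat.beq (actR61 i) i = true :=
  (range_glue (range_of_allRange c_act61_0) (range_of_allRange c_act61_1))
theorem h_act62 : ∀ i, 0 ≤ i → i < 28160 → Nat.beq (actR62 i) i = true :=
  (range_of_allRange c_act62_0)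
theorem h_act63 : ∀ i, 0 ≤ i → i < 28160 → Nat.beq (actR63 i) i = true :=
  (range_glue (range_of_allRange c_act63_0) (range_glue (range_of_allRange c_act63_1) (range_of_allRange c_act63_2)))
theorem h_act64 : ∀ i, 0 ≤ i → i < 28160 → Nat.beq (actR64 i) i = true :=
  (range_glue (range_of_allRange c_act64_0) (range_glue (range_of_allRange c_act64_1) (range_glue (range_of_allRange c_act64_2) (range_glue (range_of_allRange c_act64_3) (range_of_allRange c_act64_4)))))
theorem h_act65 : ∀ i, 0 ≤ i → i < 28160 → Nat.beq (actR65 i) i = true :=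
  (range_glue (range_of_allRange c_act65_0) (range_of_allRange c_act65_1))
theorem h_act66 : ∀ i, 0 ≤ i → i < 28160 → Nat.beq (actR66 i) i = true :=
  (range_glue (range_of_allRange c_act66_0) (range_glue (range_of_allRange c_act66_1) (range_glue (range_of_allRange c_act66_2) (range_glue (range_of_allRange c_act66_3) (range_glue (range_of_allRange c_act66_4) (range_glue (range_of_allRange c_act66_5) (range_glue (range_of_allRange c_act66_6) (range_of_allRange c_act66_7))))))))
theorem h_act67 : ∀ i, 0 ≤ i → i < 28160 → Nat.beq (actR67 i) i = true :=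
  (range_glue (range_of_allRange c_act67_0) (range_glue (range_of_allRange c_act67_1) (range_glue (range_of_allRange c_act67_2) (range_glue (range_of_allRange c_act67_3) (range_glue (range_of_allRange c_act67_4) (range_glue (range_of_allRange c_act67_5) (range_glue (range_of_allRange c_act67_6) (range_glue (range_of_allRange c_act67_7) (range_of_allRange c_act67_8)))))))))
theorem h_act68 : ∀ i, 0 ≤ i → i < 28160 → Nat.beq (actR68 i) i = true :=
  (range_glue (range_of_allRange c_act68_0) (range_glue (range_of_allRange c_act68_1) (range_glue (range_of_allRange c_act68_2) (range_glue (range_of_allRange c_act68_3) (range_glue (range_of_allRange c_act68_4) (range_glue (range_of_allRange c_act68_5) (range_glue (range_of_allRange c_act68_6) (range_glue (range_of_allRange c_act68_7) (range_glue (range_of_allRange c_act68_8) (range_glue (range_of_allRange c_act68_9) (range_glue (range_of_allRange c_act68_10) (range_glue (range_of_allRange c_act68_11) (range_glue (range_of_allRange c_act68_12) (range_of_allRange c_act68_13))))))))))))))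
theorem h_act69 : ∀ i, 0 ≤ i → i < 28160 → Nat.beq (actR69 i) i = true :=
  (range_of_allRange c_act69_0)
theorem h_act70 : ∀ i, 0 ≤ i → i < 28160 → Nat.beq (actR70 i) i = true :=
  (range_glue (range_of_allRange c_act70_0) (range_of_allRange c_act70_1))
theorem h_act71 : ∀ i, 0 ≤ i → i < 28160 → Nat.beq (actR71 i) i = true :=
  (range_glue (range_of_allRange c_act71_0) (range_of_allRange c_act71_1))
theorem h_act72 : ∀ i, 0 ≤ i → i < 28160 → Nat.beq (actR72 i) i = true :=
  (range_glue (range_of_allRange c_act72_0) (range_of_allRange c_act72_1))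
theorem h_act73 : ∀ i, 0 ≤ i → i < 28160 → Nat.beq (actR73 i) i = true :=
  (range_glue (range_of_allRange c_act73_0) (range_of_allRange c_act73_1))
theorem h_act74 : ∀ i, 0 ≤ i → i < 28160 → Nat.beq (actR74 i) i = true :=
  (range_glue (range_of_allRange c_act74_0) (range_of_allRange c_act74_1))
theorem h_act75 : ∀ i, 0 ≤ i → i < 28160 → Nat.beq (actR75 i) i = true :=
  (range_glue (range_of_allRange c_act75_0) (range_of_allRange c_act75_1))
theorem h_act76 : ∀ i, 0 ≤ i → i < 28160 → Nat.beq (actR76 i) i = true :=
  (range_glue (range_of_allRange c_act76_0) (range_of_allRange c_act76_1))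
theorem h_act77 : ∀ i, 0 ≤ i → i < 28160 → Nat.beq (actR77 i) i = true :=
  (range_glue (range_of_allRange c_act77_0) (range_of_allRange c_act77_1))
theorem h_act78 : ∀ i, 0 ≤ i → i < 28160 → Nat.beq (actR78 i) i = true :=
  (range_glue (range_of_allRange c_act78_0) (range_of_allRange c_act78_1))
theorem h_act79 : ∀ i, 0 ≤ i → i < 28160 → Nat.beq (actR79 i) i = true :=
  (range_glue (range_of_allRange c_act79_0) (range_of_allRange c_act79_1))
theorem h_act80 : ∀ i, 0 ≤ i → i < 28160 → Nat.beq (actR80 i) i = true :=
  (range_glue (range_of_allRange c_act80_0) (range_of_allRange c_act80_1))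
theorem h_act81 : ∀ i, 0 ≤ i → i < 28160 → Nat.beq (actR81 i) i = true :=
  (range_of_allRange c_act81_0)
theorem h_act82 : ∀ i, 0 ≤ i → i < 28160 → Nat.beq (actR82 i) i = true :=
  (range_glue (range_of_allRange c_act82_0) (range_of_allRange c_act82_1))
theorem h_act83 : ∀ i, 0 ≤ i → i < 28160 → Nat.beq (actR83 i) i = true :=
  (range_glue (range_of_allRange c_act83_0) (range_of_allRange c_act83_1))
theorem h_act84 : ∀ i, 0 ≤ i → i < 28160 → Nat.beq (actR84 i) i = true :=
  (range_glue (range_of_allRange c_act84_0) (range_of_allRange c_act84_1))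
theorem h_act85 : ∀ i, 0 ≤ i → i < 28160 → Nat.beq (actR85 i) i = true :=
  (range_glue (range_of_allRange c_act85_0) (range_of_allRange c_act85_1))
theorem h_act86 : ∀ i, 0 ≤ i → i < 28160 → Nat.beq (actR86 i) i = true :=
  (range_glue (range_of_allRange c_act86_0) (range_of_allRange c_act86_1))
theorem h_act87 : ∀ i, 0 ≤ i → i < 28160 → Nat.beq (actR87 i) i = true :=
  (range_glue (range_of_allRange c_act87_0) (range_of_allRange c_act87_1))
theorem h_act88 : ∀ i, 0 ≤ i → i < 28160 → Nat.beq (actR88 i) i = true :=
  (range_glue (range_of_allRange c_act88_0) (range_of_allRange c_act88_1))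
theorem h_act89 : ∀ i, 0 ≤ i → i < 28160 → Nat.beq (actR89 i) i = true :=
  (range_glue (range_of_allRange c_act89_0) (range_of_allRange c_act89_1))
theorem h_act90 : ∀ i, 0 ≤ i → i < 28160 → Nat.beq (actR90 i) i = true :=
  (range_glue (range_of_allRange c_act90_0) (range_of_allRange c_act90_1))
theorem h_act91 : ∀ i, 0 ≤ i → i < 28160 → Nat.beq (actR91 i) i = true :=
  (range_glue (range_of_allRange c_act91_0) (range_of_allRange c_act91_1))
theorem h_act92 : ∀ i, 0 ≤ i → i < 28160 → Nat.beq (actR92 i) i = true :=
  (range_glue (range_of_allRange c_act92_0) (range_of_allRange c_act92_1))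
theorem h_act93 : ∀ i, 0 ≤ i → i < 28160 → Nat.beq (actR93 i) i = true :=
  (range_glue (range_of_allRange c_act93_0) (range_of_allRange c_act93_1))
theorem h_act94 : ∀ i, 0 ≤ i → i < 28160 → Nat.beq (actR94 i) i = true :=
  (range_glue (range_of_allRange c_act94_0) (range_of_allRange c_act94_1))
theorem h_act95 : ∀ i, 0 ≤ i → i < 28160 → Nat.beq (actR95 i) i = true :=
  (range_glue (range_of_allRange c_act95_0) (range_of_allRange c_act95_1))
theorem h_act96 : ∀ i, 0 ≤ i → i < 28160 → Nat.beq (actR96 i) i = true :=
  (range_glue (range_of_allRange c_act96_0) (range_of_allRange c_act96_1))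

set_option maxRecDepth 100000 in
theorem h_act : ∀ L ∈ PC2Fi22x.P.real, ∀ i, i < T.N → Tab.relActOK T D L i = true := by
  rw [c_real]
  intro L hL
  simp only [realLit, List.mem_cons, List.not_mem_nil, or_false] at hL
  rcases hL with rfl | rfl | rfl | rfl | rfl | rfl | rfl | rfl | rfl | rfl | rfl | rfl | rfl | rfl | rfl | rfl | rfl | rfl | rfl | rfl | rfl | rfl | rfl | rfl | rfl | rfl | rfl | rfl | rfl | rfl | rfl | rfl | rfl | rfl | rfl | rfl | rfl | rfl | rfl | rfl | rfl | rfl | rfl | rfl | rfl | rfl | rfl | rfl | rfl | rfl | rfl | rfl | rfl | rfl | rfl | rfl | rfl | rfl | rfl | rfl | rfl | rfl | rfl | rfl | rfl | rfl | rfl | rfl | rfl | rfl | rfl | rfl | rfl | rfl | rfl | rfl | rfl | rfl | rfl | rfl | rfl | rfl | rfl | rfl | rfl | rfl | rfl | rfl | rfl | rfl | rfl | rfl | rfl | rfl | rfl | rfl | rfl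
  · intro i hi
    rw [Tab.relActOK, ← actR0_eq]
    exact h_act0 i (Nat.zero_le _) hi
  · intro i hi
    rw [Tab.relActOK, ← actR1_eq]
    exact h_act1 i (Nat.zero_le _) hi
  · intro i hi
    rw [Tab.relActOK, ← actR2_eq]
    exact h_act2 i (Nat.zero_le _) hi
  · intro i hi
    rw [Tab.relActOK, ← actR3_eq]
    exact h_act3 i (Nat.zero_le _) hi
  · intro i hi
    rw [Tab.relActOK, ← actR4_eq]
    exact h_act4 i (Nat.zero_le _) hi
  · intro i hi
    rw [Tab.relActOK, ← actR5_eq]
    exact h_act5 i (Nat.zero_le _) hi
  · intro i hi
    rw [Tab.relActOK, ← actR6_eq]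
    exact h_act6 i (Nat.zero_le _) hi
  · intro i hi
    rw [Tab.relActOK, ← actR7_eq]
    exact h_act7 i (Nat.zero_le _) hi
  · intro i hi
    rw [Tab.relActOK, ← actR8_eq]
    exact h_act8 i (Nat.zero_le _) hi
  · intro i hi
    rw [Tab.relActOK, ← actR9_eq]
    exact h_act9 i (Nat.zero_le _) hi
  · intro i hi
    rw [Tab.relActOK, ← actR10_eq]
    exact h_act10 i (Nat.zero_le _) hi
  · intro i hi
    rw [Tab.relActOK, ← actR11_eq]
    exact h_act11 i (Nat.zero_le _) hi
  · intro i hi
    rw [Tab.relActOK, ← actR12_eq]
    exact h_act12 i (Nat.zero_le _) hi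
  · intro i hi
    rw [Tab.relActOK, ← actR13_eq]
    exact h_act13 i (Nat.zero_le _) hi
  · intro i hi
    rw [Tab.relActOK, ← actR14_eq]
    exact h_act14 i (Nat.zero_le _) hi
  · intro i hi
    rw [Tab.relActOK, ← actR15_eq]
    exact h_act15 i (Nat.zero_le _) hi
  · intro i hi
    rw [Tab.relActOK, ← actR16_eq]
    exact h_act16 i (Nat.zero_le _) hi
  · intro i hi
    rw [Tab.relActOK, ← actR17_eq]
    exact h_act17 i (Nat.zero_le _) hi
  · intro i hi
    rw [Tab.relActOK, ← actR18_eq]
    exact h_act18 i (Nat.zero_le _) hi
  · intro i hi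
    rw [Tab.relActOK, ← actR19_eq]
    exact h_act19 i (Nat.zero_le _) hi
  · intro i hi
    rw [Tab.relActOK, ← actR20_eq]
    exact h_act20 i (Nat.zero_le _) hi
  · intro i hi
    rw [Tab.relActOK, ← actR21_eq]
    exact h_act21 i (Nat.zero_le _) hi
  · intro i hi
    rw [Tab.relActOK, ← actR22_eq]
    exact h_act22 i (Nat.zero_le _) hi
  · intro i hi
    rw [Tab.relActOK, ← actR23_eq]
    exact h_act23 i (Nat.zero_le _) hi
  · intro i hi
    rw [Tab.relActOK, ← actR24_eq]
    exact h_act24 i (Nat.zero_le _) hi
  · intro i hi
    rw [Tab.relActOK, ← actR25_eq]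
    exact h_act25 i (Nat.zero_le _) hi
  · intro i hi
    rw [Tab.relActOK, ← actR26_eq]
    exact h_act26 i (Nat.zero_le _) hi
  · intro i hi
    rw [Tab.relActOK, ← actR27_eq]
    exact h_act27 i (Nat.zero_le _) hi
  · intro i hi
    rw [Tab.relActOK, ← actR28_eq]
    exact h_act28 i (Nat.zero_le _) hi
  · intro i hi
    rw [Tab.relActOK, ← actR29_eq]
    exact h_act29 i (Nat.zero_le _) hi
  · intro i hi
    rw [Tab.relActOK, ← actR30_eq]
    exact h_act30 i (Nat.zero_le _) hi
  · intro i hi
    rw [Tab.relActOK, ← actR31_eq]
    exact h_act31 i (Nat.zero_le _) hi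
  · intro i hi
    rw [Tab.relActOK, ← actR32_eq]
    exact h_act32 i (Nat.zero_le _) hi
  · intro i hi
    rw [Tab.relActOK, ← actR33_eq]
    exact h_act33 i (Nat.zero_le _) hi
  · intro i hi
    rw [Tab.relActOK, ← actR34_eq]
    exact h_act34 i (Nat.zero_le _) hi
  · intro i hi
    rw [Tab.relActOK, ← actR35_eq]
    exact h_act35 i (Nat.zero_le _) hi
  · intro i hi
    rw [Tab.relActOK, ← actR36_eq]
    exact h_act36 i (Nat.zero_le _) hi
  · intro i hi
    rw [Tab.relActOK, ← actR37_eq]
    exact h_act37 i (Nat.zero_le _) hi
  · intro i hi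
    rw [Tab.relActOK, ← actR38_eq]
    exact h_act38 i (Nat.zero_le _) hi
  · intro i hi
    rw [Tab.relActOK, ← actR39_eq]
    exact h_act39 i (Nat.zero_le _) hi
  · intro i hi
    rw [Tab.relActOK, ← actR40_eq]
    exact h_act40 i (Nat.zero_le _) hi
  · intro i hi
    rw [Tab.relActOK, ← actR41_eq]
    exact h_act41 i (Nat.zero_le _) hi
  · intro i hi
    rw [Tab.relActOK, ← actR42_eq]
    exact h_act42 i (Nat.zero_le _) hi
  · intro i hi
    rw [Tab.relActOK, ← actR43_eq]
    exact h_act43 i (Nat.zero_le _) hi
  · intro i hi
    rw [Tab.relActOK, ← actR44_eq]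
    exact h_act44 i (Nat.zero_le _) hi
  · intro i hi
    rw [Tab.relActOK, ← actR45_eq]
    exact h_act45 i (Nat.zero_le _) hi
  · intro i hi
    rw [Tab.relActOK, ← actR46_eq]
    exact h_act46 i (Nat.zero_le _) hi
  · intro i hi
    rw [Tab.relActOK, ← actR47_eq]
    exact h_act47 i (Nat.zero_le _) hi
  · intro i hi
    rw [Tab.relActOK, ← actR48_eq]
    exact h_act48 i (Nat.zero_le _) hi
  · intro i hi
    rw [Tab.relActOK, ← actR49_eq]
    exact h_act49 i (Nat.zero_le _) hi
  · intro i hi
    rw [Tab.relActOK, ← actR50_eq]
    exact h_act50 i (Nat.zero_le _) hi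
  · intro i hi
    rw [Tab.relActOK, ← actR51_eq]
    exact h_act51 i (Nat.zero_le _) hi
  · intro i hi
    rw [Tab.relActOK, ← actR52_eq]
    exact h_act52 i (Nat.zero_le _) hi
  · intro i hi
    rw [Tab.relActOK, ← actR53_eq]
    exact h_act53 i (Nat.zero_le _) hi
  · intro i hi
    rw [Tab.relActOK, ← actR54_eq]
    exact h_act54 i (Nat.zero_le _) hi
  · intro i hi
    rw [Tab.relActOK, ← actR55_eq]
    exact h_act55 i (Nat.zero_le _) hi
  · intro i hi
    rw [Tab.relActOK, ← actR56_eq]
    exact h_act56 i (Nat.zero_le _) hi
  · intro i hi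
    rw [Tab.relActOK, ← actR57_eq]
    exact h_act57 i (Nat.zero_le _) hi
  · intro i hi
    rw [Tab.relActOK, ← actR58_eq]
    exact h_act58 i (Nat.zero_le _) hi
  · intro i hi
    rw [Tab.relActOK, ← actR59_eq]
    exact h_act59 i (Nat.zero_le _) hi
  · intro i hi
    rw [Tab.relActOK, ← actR60_eq]
    exact h_act60 i (Nat.zero_le _) hi
  · intro i hi
    rw [Tab.relActOK, ← actR61_eq]
    exact h_act61 i (Nat.zero_le _) hi
  · intro i hi
    rw [Tab.relActOK, ← actR62_eq]
    exact h_act62 i (Nat.zero_le _) hi
  · intro i hi
    rw [Tab.relActOK, ← actR63_eq]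
    exact h_act63 i (Nat.zero_le _) hi
  · intro i hi
    rw [Tab.relActOK, ← actR64_eq]
    exact h_act64 i (Nat.zero_le _) hi
  · intro i hi
    rw [Tab.relActOK, ← actR65_eq]
    exact h_act65 i (Nat.zero_le _) hi
  · intro i hi
    rw [Tab.relActOK, ← actR66_eq]
    exact h_act66 i (Nat.zero_le _) hi
  · intro i hi
    rw [Tab.relActOK, ← actR67_eq]
    exact h_act67 i (Nat.zero_le _) hi
  · intro i hi
    rw [Tab.relActOK, ← actR68_eq]
    exact h_act68 i (Nat.zero_le _) hi
  · intro i hi
    rw [Tab.relActOK, ← actR69_eq]
    exact h_act69 i (Nat.zero_le _) hi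
  · intro i hi
    rw [Tab.relActOK, ← actR70_eq]
    exact h_act70 i (Nat.zero_le _) hi
  · intro i hi
    rw [Tab.relActOK, ← actR71_eq]
    exact h_act71 i (Nat.zero_le _) hi
  · intro i hi
    rw [Tab.relActOK, ← actR72_eq]
    exact h_act72 i (Nat.zero_le _) hi
  · intro i hi
    rw [Tab.relActOK, ← actR73_eq]
    exact h_act73 i (Nat.zero_le _) hi
  · intro i hi
    rw [Tab.relActOK, ← actR74_eq]
    exact h_act74 i (Nat.zero_le _) hi
  · intro i hi
    rw [Tab.relActOK, ← actR75_eq]
    exact h_act75 i (Nat.zero_le _) hi
  · intro i hi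
    rw [Tab.relActOK, ← actR76_eq]
    exact h_act76 i (Nat.zero_le _) hi
  · intro i hi
    rw [Tab.relActOK, ← actR77_eq]
    exact h_act77 i (Nat.zero_le _) hi
  · intro i hi
    rw [Tab.relActOK, ← actR78_eq]
    exact h_act78 i (Nat.zero_le _) hi
  · intro i hi
    rw [Tab.relActOK, ← actR79_eq]
    exact h_act79 i (Nat.zero_le _) hi
  · intro i hi
    rw [Tab.relActOK, ← actR80_eq]
    exact h_act80 i (Nat.zero_le _) hi
  · intro i hi
    rw [Tab.relActOK, ← actR81_eq]
    exact h_act81 i (Nat.zero_le _) hi
  · intro i hi
    rw [Tab.relActOK, ← actR82_eq]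
    exact h_act82 i (Nat.zero_le _) hi
  · intro i hi
    rw [Tab.relActOK, ← actR83_eq]
    exact h_act83 i (Nat.zero_le _) hi
  · intro i hi
    rw [Tab.relActOK, ← actR84_eq]
    exact h_act84 i (Nat.zero_le _) hi
  · intro i hi
    rw [Tab.relActOK, ← actR85_eq]
    exact h_act85 i (Nat.zero_le _) hi
  · intro i hi
    rw [Tab.relActOK, ← actR86_eq]
    exact h_act86 i (Nat.zero_le _) hi
  · intro i hi
    rw [Tab.relActOK, ← actR87_eq]
    exact h_act87 i (Nat.zero_le _) hi
  · intro i hi
    rw [Tab.relActOK, ← actR88_eq]
    exact h_act88 i (Nat.zero_le _) hi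
  · intro i hi
    rw [Tab.relActOK, ← actR89_eq]
    exact h_act89 i (Nat.zero_le _) hi
  · intro i hi
    rw [Tab.relActOK, ← actR90_eq]
    exact h_act90 i (Nat.zero_le _) hi
  · intro i hi
    rw [Tab.relActOK, ← actR91_eq]
    exact h_act91 i (Nat.zero_le _) hi
  · intro i hi
    rw [Tab.relActOK, ← actR92_eq]
    exact h_act92 i (Nat.zero_le _) hi
  · intro i hi
    rw [Tab.relActOK, ← actR93_eq]
    exact h_act93 i (Nat.zero_le _) hi
  · intro i hi
    rw [Tab.relActOK, ← actR94_eq]
    exact h_act94 i (Nat.zero_le _) hi
  · intro i hi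
    rw [Tab.relActOK, ← actR95_eq]
    exact h_act95 i (Nat.zero_le _) hi
  · intro i hi
    rw [Tab.relActOK, ← actR96_eq]
    exact h_act96 i (Nat.zero_le _) hi

theorem prep : PRep PC2Fi22x.P T D where
  hP := PC2Fi22x.valid
  hk := rfl
  hinv := fun _ _ => rfl
  hperm := fun i x hi hx => h_perm i (Nat.zero_le _) hi x hx
  hlet := fun x hx => allBelow_eq_true.1 c_let x hx
  hact := h_act

end Cfsg.Agent.Lib.Helper4.TCD.C2Fi22xR
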