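import Mathlib
import Cfsg.Agent.Lib.Helper4.C2Fi22xMain
import Cfsg.Agent.Lib.Helper4.AbelCert
import Cfsg.Agent.Lib.Helper4.StemLib6
import Cfsg.Agent.Lib.Helper4.RelLib
import Cfsg.Agent.Lib.Helper4.CoverLib

/-!
The presented group `C2Fi22x` is a perfect central extension of the presented group `Fi22x` whose kernel is
cyclic of order 2.
-/

set_option autoImplicit false
set_option maxRecDepth 100000

namespace Cfsg.Agent.Lib.Helper4.C2Fi22xCover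

open Cfsg Cfsg.Agent.Lib.Helper4.TC Cfsg.Agent.Lib.Helper4.TCD Cfsg.Agent.Lib.Helper4.TC.Log
  Cfsg.Agent.Lib.Helper4.Stem Cfsg.Agent.Lib.Helper4.AbelCert
  Cfsg.Agent.Lib.Helper4.C2Fi22xMain

local notation "G" => PC2Fi22x.P.Grp
local notation "gG" => PC2Fi22x.P.gR

/-- the letters of `C2Fi22x` as words of `Fi22x`: the central letter is killed -/
def Wl (l : ℕ) : List ℕ := [[0], [1], [2], [3], [4], [5], [6], [7], [8], [9], [10], [11], [12], [13], [14], [15], [16], [17], [18], [19], [20], [21], [22], [23], [24], [25], [26], [27], [28], [29], [], []].getD l []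

/-- the image of a relator is a relator of `Fi22x`, or empty, or a letter and its inverse -/
theorem rel_cases : ∀ L ∈ PC2Fi22x.P.real, L.flatMap Wl ∈ PFi22x.P.real ∨ L.flatMap Wl = [] ∨
    L.flatMap Wl ∈ (List.range 30).map (fun l => [PFi22x.P.invR l, l]) := by decide +kernel

theorem exists_hom : ∃ π : G →* PFi22x.P.Grp, ∀ l, l < PC2Fi22x.P.k →
    π (gG l) = xw PFi22x.P Wl l := by
  apply exists_hom_of_letters PC2Fi22x.P PC2Fi22x.valid (xw PFi22x.P Wl)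
  · intro l hl
    have hl : l < 32 := hl
    have h1 : PFi22x.P.gR 1 = (PFi22x.P.gR 0)⁻¹ := (PFi22x.valid.invR_sound 0 (by decide)).2
    have h3 : PFi22x.P.gR 3 = (PFi22x.P.gR 2)⁻¹ := (PFi22x.valid.invR_sound 2 (by decide)).2
    have h5 : PFi22x.P.gR 5 = (PFi22x.P.gR 4)⁻¹ := (PFi22x.valid.invR_sound 4 (by decide)).2
    have h7 : PFi22x.P.gR 7 = (PFi22x.P.gR 6)⁻¹ := (PFi22x.valid.invR_sound 6 (by decide)).2
    have h9 : PFi22x.P.gR 9 = (PFi22x.P.gR 8)⁻¹ := (PFi22x.valid.invR_sound 8 (by decide)).2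
    have h11 : PFi22x.P.gR 11 = (PFi22x.P.gR 10)⁻¹ := (PFi22x.valid.invR_sound 10 (by decide)).2
    have h13 : PFi22x.P.gR 13 = (PFi22x.P.gR 12)⁻¹ := (PFi22x.valid.invR_sound 12 (by decide)).2
    have h15 : PFi22x.P.gR 15 = (PFi22x.P.gR 14)⁻¹ := (PFi22x.valid.invR_sound 14 (by decide)).2
    have h17 : PFi22x.P.gR 17 = (PFi22x.P.gR 16)⁻¹ := (PFi22x.valid.invR_sound 16 (by decide)).2
    have h19 : PFi22x.P.gR 19 = (PFi22x.P.gR 18)⁻¹ := (PFi22x.valid.invR_sound 18 (by decide)).2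
    have h21 : PFi22x.P.gR 21 = (PFi22x.P.gR 20)⁻¹ := (PFi22x.valid.invR_sound 20 (by decide)).2
    have h23 : PFi22x.P.gR 23 = (PFi22x.P.gR 22)⁻¹ := (PFi22x.valid.invR_sound 22 (by decide)).2
    have h25 : PFi22x.P.gR 25 = (PFi22x.P.gR 24)⁻¹ := (PFi22x.valid.invR_sound 24 (by decide)).2
    have h27 : PFi22x.P.gR 27 = (PFi22x.P.gR 26)⁻¹ := (PFi22x.valid.invR_sound 26 (by decide)).2
    have h29 : PFi22x.P.gR 29 = (PFi22x.P.gR 28)⁻¹ := (PFi22x.valid.invR_sound 28 (by decide)).2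
    interval_cases l
    · show wordP PFi22x.P.gR [0] * wordP PFi22x.P.gR [1] = 1
      simp only [wordP_cons, wordP_nil, mul_one, h1, mul_inv_cancel]
    · show wordP PFi22x.P.gR [1] * wordP PFi22x.P.gR [0] = 1
      simp only [wordP_cons, wordP_nil, mul_one, h1, inv_mul_cancel]
    · show wordP PFi22x.P.gR [2] * wordP PFi22x.P.gR [3] = 1
      simp only [wordP_cons, wordP_nil, mul_one, h3, mul_inv_cancel]
    · show wordP PFi22x.P.gR [3] * wordP PFi22x.P.gR [2] = 1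
      simp only [wordP_cons, wordP_nil, mul_one, h3, inv_mul_cancel]
    · show wordP PFi22x.P.gR [4] * wordP PFi22x.P.gR [5] = 1
      simp only [wordP_cons, wordP_nil, mul_one, h5, mul_inv_cancel]
    · show wordP PFi22x.P.gR [5] * wordP PFi22x.P.gR [4] = 1
      simp only [wordP_cons, wordP_nil, mul_one, h5, inv_mul_cancel]
    · show wordP PFi22x.P.gR [6] * wordP PFi22x.P.gR [7] = 1
      simp only [wordP_cons, wordP_nil, mul_one, h7, mul_inv_cancel]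
    · show wordP PFi22x.P.gR [7] * wordP PFi22x.P.gR [6] = 1
      simp only [wordP_cons, wordP_nil, mul_one, h7, inv_mul_cancel]
    · show wordP PFi22x.P.gR [8] * wordP PFi22x.P.gR [9] = 1
      simp only [wordP_cons, wordP_nil, mul_one, h9, mul_inv_cancel]
    · show wordP PFi22x.P.gR [9] * wordP PFi22x.P.gR [8] = 1
      simp only [wordP_cons, wordP_nil, mul_one, h9, inv_mul_cancel]
    · show wordP PFi22x.P.gR [10] * wordP PFi22x.P.gR [11] = 1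
      simp only [wordP_cons, wordP_nil, mul_one, h11, mul_inv_cancel]
    · show wordP PFi22x.P.gR [11] * wordP PFi22x.P.gR [10] = 1
      simp only [wordP_cons, wordP_nil, mul_one, h11, inv_mul_cancel]
    · show wordP PFi22x.P.gR [12] * wordP PFi22x.P.gR [13] = 1
      simp only [wordP_cons, wordP_nil, mul_one, h13, mul_inv_cancel]
    · show wordP PFi22x.P.gR [13] * wordP PFi22x.P.gR [12] = 1
      simp only [wordP_cons, wordP_nil, mul_one, h13, inv_mul_cancel]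
    · show wordP PFi22x.P.gR [14] * wordP PFi22x.P.gR [15] = 1
      simp only [wordP_cons, wordP_nil, mul_one, h15, mul_inv_cancel]
    · show wordP PFi22x.P.gR [15] * wordP PFi22x.P.gR [14] = 1
      simp only [wordP_cons, wordP_nil, mul_one, h15, inv_mul_cancel]
    · show wordP PFi22x.P.gR [16] * wordP PFi22x.P.gR [17] = 1
      simp only [wordP_cons, wordP_nil, mul_one, h17, mul_inv_cancel]
    · show wordP PFi22x.P.gR [17] * wordP PFi22x.P.gR [16] = 1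
      simp only [wordP_cons, wordP_nil, mul_one, h17, inv_mul_cancel]
    · show wordP PFi22x.P.gR [18] * wordP PFi22x.P.gR [19] = 1
      simp only [wordP_cons, wordP_nil, mul_one, h19, mul_inv_cancel]
    · show wordP PFi22x.P.gR [19] * wordP PFi22x.P.gR [18] = 1
      simp only [wordP_cons, wordP_nil, mul_one, h19, inv_mul_cancel]
    · show wordP PFi22x.P.gR [20] * wordP PFi22x.P.gR [21] = 1
      simp only [wordP_cons, wordP_nil, mul_one, h21, mul_inv_cancel]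
    · show wordP PFi22x.P.gR [21] * wordP PFi22x.P.gR [20] = 1
      simp only [wordP_cons, wordP_nil, mul_one, h21, inv_mul_cancel]
    · show wordP PFi22x.P.gR [22] * wordP PFi22x.P.gR [23] = 1
      simp only [wordP_cons, wordP_nil, mul_one, h23, mul_inv_cancel]
    · show wordP PFi22x.P.gR [23] * wordP PFi22x.P.gR [22] = 1
      simp only [wordP_cons, wordP_nil, mul_one, h23, inv_mul_cancel]
    · show wordP PFi22x.P.gR [24] * wordP PFi22x.P.gR [25] = 1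
      simp only [wordP_cons, wordP_nil, mul_one, h25, mul_inv_cancel]
    · show wordP PFi22x.P.gR [25] * wordP PFi22x.P.gR [24] = 1
      simp only [wordP_cons, wordP_nil, mul_one, h25, inv_mul_cancel]
    · show wordP PFi22x.P.gR [26] * wordP PFi22x.P.gR [27] = 1
      simp only [wordP_cons, wordP_nil, mul_one, h27, mul_inv_cancel]
    · show wordP PFi22x.P.gR [27] * wordP PFi22x.P.gR [26] = 1
      simp only [wordP_cons, wordP_nil, mul_one, h27, inv_mul_cancel]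
    · show wordP PFi22x.P.gR [28] * wordP PFi22x.P.gR [29] = 1
      simp only [wordP_cons, wordP_nil, mul_one, h29, mul_inv_cancel]
    · show wordP PFi22x.P.gR [29] * wordP PFi22x.P.gR [28] = 1
      simp only [wordP_cons, wordP_nil, mul_one, h29, inv_mul_cancel]
    · show wordP PFi22x.P.gR [] * wordP PFi22x.P.gR [] = 1
      simp only [wordP_nil, mul_one]
    · show wordP PFi22x.P.gR [] * wordP PFi22x.P.gR [] = 1
      simp only [wordP_nil, mul_one]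
  · intro L hL
    rw [wordP_xw]
    rcases rel_cases L hL with h | h | h
    · exact (PFi22x.valid.real_sound _ h).2
    · rw [h, wordP_nil]
    · obtain ⟨l, hl, hl2⟩ := List.mem_map.1 h
      have hl : l < 30 := List.mem_range.1 hl
      rw [← hl2, wordP_cons, wordP_cons, wordP_nil, mul_one,
        (PFi22x.valid.invR_sound l (by show l ≤ 30; omega)).2, inv_mul_cancel]

/-- the covering homomorphism -/
noncomputable def π : G →* PFi22x.P.Grp := Classical.choose exists_hom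

theorem π_gR (l : ℕ) (hl : l < 32) : π (gG l) = xw PFi22x.P Wl l :=
  Classical.choose_spec exists_hom l hl

theorem π_surjective : Function.Surjective π := by
  rw [← MonoidHom.range_eq_top, eq_top_iff, ← PFi22x.valid.gen_top, Subgroup.closure_le]
  rintro _ ⟨y, hy, rfl⟩
  have hy : y < 30 := hy
  interval_cases y
  · exact ⟨gG 0, by rw [π_gR 0 (by decide)]; simp [xw, Wl, wordP_cons, wordP_nil]⟩
  · exact ⟨gG 1, by rw [π_gR 1 (by decide)]; simp [xw, Wl, wordP_cons, wordP_nil]⟩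
  · exact ⟨gG 2, by rw [π_gR 2 (by decide)]; simp [xw, Wl, wordP_cons, wordP_nil]⟩
  · exact ⟨gG 3, by rw [π_gR 3 (by decide)]; simp [xw, Wl, wordP_cons, wordP_nil]⟩
  · exact ⟨gG 4, by rw [π_gR 4 (by decide)]; simp [xw, Wl, wordP_cons, wordP_nil]⟩
  · exact ⟨gG 5, by rw [π_gR 5 (by decide)]; simp [xw, Wl, wordP_cons, wordP_nil]⟩
  · exact ⟨gG 6, by rw [π_gR 6 (by decide)]; simp [xw, Wl, wordP_cons, wordP_nil]⟩
  · exact ⟨gG 7, by rw [π_gR 7 (by decide)]; simp [xw, Wl, wordP_cons, wordP_nil]⟩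
  · exact ⟨gG 8, by rw [π_gR 8 (by decide)]; simp [xw, Wl, wordP_cons, wordP_nil]⟩
  · exact ⟨gG 9, by rw [π_gR 9 (by decide)]; simp [xw, Wl, wordP_cons, wordP_nil]⟩
  · exact ⟨gG 10, by rw [π_gR 10 (by decide)]; simp [xw, Wl, wordP_cons, wordP_nil]⟩
  · exact ⟨gG 11, by rw [π_gR 11 (by decide)]; simp [xw, Wl, wordP_cons, wordP_nil]⟩
  · exact ⟨gG 12, by rw [π_gR 12 (by decide)]; simp [xw, Wl, wordP_cons, wordP_nil]⟩
  · exact ⟨gG 13, by rw [π_gR 13 (by decide)]; simp [xw, Wl, wordP_cons, wordP_nil]⟩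
  · exact ⟨gG 14, by rw [π_gR 14 (by decide)]; simp [xw, Wl, wordP_cons, wordP_nil]⟩
  · exact ⟨gG 15, by rw [π_gR 15 (by decide)]; simp [xw, Wl, wordP_cons, wordP_nil]⟩
  · exact ⟨gG 16, by rw [π_gR 16 (by decide)]; simp [xw, Wl, wordP_cons, wordP_nil]⟩
  · exact ⟨gG 17, by rw [π_gR 17 (by decide)]; simp [xw, Wl, wordP_cons, wordP_nil]⟩
  · exact ⟨gG 18, by rw [π_gR 18 (by decide)]; simp [xw, Wl, wordP_cons, wordP_nil]⟩
  · exact ⟨gG 19, by rw [π_gR 19 (by decide)]; simp [xw, Wl, wordP_cons, wordP_nil]⟩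
  · exact ⟨gG 20, by rw [π_gR 20 (by decide)]; simp [xw, Wl, wordP_cons, wordP_nil]⟩
  · exact ⟨gG 21, by rw [π_gR 21 (by decide)]; simp [xw, Wl, wordP_cons, wordP_nil]⟩
  · exact ⟨gG 22, by rw [π_gR 22 (by decide)]; simp [xw, Wl, wordP_cons, wordP_nil]⟩
  · exact ⟨gG 23, by rw [π_gR 23 (by decide)]; simp [xw, Wl, wordP_cons, wordP_nil]⟩
  · exact ⟨gG 24, by rw [π_gR 24 (by decide)]; simp [xw, Wl, wordP_cons, wordP_nil]⟩
  · exact ⟨gG 25, by rw [π_gR 25 (by decide)]; simp [xw, Wl, wordP_cons, wordP_nil]⟩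
  · exact ⟨gG 26, by rw [π_gR 26 (by decide)]; simp [xw, Wl, wordP_cons, wordP_nil]⟩
  · exact ⟨gG 27, by rw [π_gR 27 (by decide)]; simp [xw, Wl, wordP_cons, wordP_nil]⟩
  · exact ⟨gG 28, by rw [π_gR 28 (by decide)]; simp [xw, Wl, wordP_cons, wordP_nil]⟩
  · exact ⟨gG 29, by rw [π_gR 29 (by decide)]; simp [xw, Wl, wordP_cons, wordP_nil]⟩

theorem Z_le_ker : Z ≤ π.ker := by
  rw [Z, Subgroup.zpowers_le]
  show z ∈ π.ker
  rw [MonoidHom.mem_ker]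
  show π (gG 30) = 1
  rw [π_gR 30 (by decide)]
  rfl

/-- the central letter acts on the 28160 points without fixed points, so it is not trivial -/
theorem z_ne_one : z ≠ 1 := by
  intro h
  have h1 := C2Fi22xR.prep.phi_gR 30 (by decide) ⟨0, by decide⟩
  have h2 : C2Fi22xR.prep.phi (gG 30) = 1 := by
    show C2Fi22xR.prep.phi z = 1
    rw [h, map_one]
  rw [h2] at h1
  have h3 : C2Fi22xR.T.tbl 0 (C2Fi22xR.D.inv 30) ≠ 0 := by decide +kernel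
  exact h3 h1.symm

theorem card_Z : Nat.card Z = 2 := by
  haveI : Fact (Nat.Prime 2) := ⟨by norm_num⟩
  rw [Z, Nat.card_zpowers]
  exact orderOf_eq_prime z_sq z_ne_one

/-- the order: `2` times the order of `Fi22x` -/
theorem order_card : Finite G ∧ Nat.card G = 129123503308800 := by
  obtain ⟨fK, _, cK⟩ := Fi22xMain.order_aux
  obtain ⟨fZ, _⟩ := card_Z_le
  have fQ : Finite (G ⧸ Z) := Finite.of_surjective ψ ψ_surjective
  have cQ : Nat.card (G ⧸ Z) ≤ 64561751654400 := by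
    rw [← cK]
    exact Nat.card_le_card_of_surjective ψ ψ_surjective
  have hmul : Nat.card G = Nat.card (G ⧸ Z) * Nat.card Z := Subgroup.card_eq_card_quotient_mul_card_subgroup Z
  have hQpos : 0 < Nat.card (G ⧸ Z) := Nat.card_pos
  have hZpos : 0 < Nat.card Z := Nat.card_pos
  have fG : Finite G := by
    apply Nat.finite_of_card_ne_zero
    rw [hmul]
    exact Nat.mul_ne_zero (by omega) (by omega)
  refine ⟨fG, ?_⟩
  have h := card_eq_of_stem π π_surjective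
  rw [cK] at h
  have hle : Nat.card Z ≤ Nat.card π.ker := Subgroup.card_le_of_le Z_le_ker
  rw [card_Z] at hle hmul
  have h1 : Nat.card G ≤ 64561751654400 * 2 := by
    rw [hmul]
    exact Nat.mul_le_mul_right _ cQ
  have h2 : 64561751654400 * 2 ≤ Nat.card G := by
    rw [h]
    exact Nat.mul_le_mul_left _ hle
  omega

theorem card_ker : Nat.card π.ker = 2 := by
  obtain ⟨fG, hcard⟩ := order_card
  obtain ⟨fG', _, hcard'⟩ := Fi22xMain.order_aux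
  have h := card_eq_of_stem π π_surjective
  rw [hcard, hcard'] at h
  omega

/-- the kernel is the central subgroup generated by `z` -/
theorem ker_eq : π.ker = Z := by
  obtain ⟨fG, _⟩ := order_card
  have := fG
  symm
  apply Subgroup.eq_of_le_of_card_ge Z_le_ker
  rw [card_ker, card_Z]

theorem cert0 : PC2Fi22x.P.gR 0 ∈ commutator PC2Fi22x.P.Grp := by
  apply mem_commutator_of_perm PC2Fi22x.P PC2Fi22x.valid 0
    [[1, 1], [0, 2, 0, 2, 0, 2], [3, 3], [3, 3], [3, 3], [2, 4, 2, 4, 2, 4], [2, 4, 2, 4, 2, 4], [2, 10, 2, 10], [2, 10, 2, 10], [2, 10, 2, 10], [5, 5], [4, 6, 4, 6, 4, 6], [4, 12, 4, 12], [6, 8, 6, 8, 6, 8], [6, 14, 6, 14, 6, 14], [8, 8], [8, 8], [8, 8], [14, 14], [14, 12, 14, 12], [14, 12, 14, 12], [10, 12, 10, 12, 10, 12], [15, 13, 11, 9, 7, 5, 3, 15, 13, 11, 9, 7, 5, 3, 15, 13, 11, 9, 7, 5, 3, 15, 13, 11, 9, 7, 5, 3, 15, 13, 11, 9, 7, 5, 3, 15, 13, 11, 9, 7,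 5, 3, 15, 13, 11, 9, 7, 5, 3, 15, 13, 11, 9, 7, 5, 3, 15, 13, 11, 9, 7, 5, 3]]
    (by decide +kernel) (by decide +kernel)
    [0, 0, 2, 2, 2, 2, 2, 2, 2, 2, 2, 2, 2, 2, 2, 2, 2, 4, 4, 4, 4, 4, 4, 4, 4, 4, 4, 4, 6, 6, 6, 6, 6, 6, 6, 6, 6, 8, 8, 8, 8, 8, 8, 8, 8, 8, 10, 10, 10, 10, 10, 10, 10, 10, 10, 12, 12, 12, 12, 12, 12, 12, 12, 12, 14, 14, 14, 14, 14, 14, 14, 14, 14]
    (by decide +kernel) (by decide +kernel)

theorem cert2 : PC2Fi22x.P.gR 2 ∈ commutator PC2Fi22x.P.Grp := by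
  apply mem_commutator_of_perm PC2Fi22x.P PC2Fi22x.valid 2
    [[3, 3], [2, 4, 2, 4, 2, 4], [2, 4, 2, 4, 2, 4], [2, 10, 2, 10], [2, 10, 2, 10], [2, 10, 2, 10], [5, 5], [4, 6, 4, 6, 4, 6], [4, 12, 4, 12], [6, 8, 6, 8, 6, 8], [6, 14, 6, 14, 6, 14], [8, 8], [8, 8], [8, 8], [14, 14], [14, 12, 14, 12], [14, 12, 14, 12], [10, 12, 10, 12, 10, 12], [15, 13, 11, 9, 7, 5, 3, 15, 13, 11, 9, 7, 5, 3, 15, 13, 11, 9, 7, 5, 3, 15, 13, 11, 9, 7, 5, 3, 15, 13, 11, 9, 7, 5, 3, 15, 13, 11, 9, 7, 5, 3, 15, 13, 11, 9, 7, 5, 3, 15, 13, 11, 9, 7, 5, 3, 15, 13, 11, 9, 7, 5, 3]]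
    (by decide +kernel) (by decide +kernel)
    [2, 2, 2, 2, 2, 2, 2, 2, 2, 2, 2, 4, 4, 4, 4, 4, 4, 4, 4, 4, 4, 4, 6, 6, 6, 6, 6, 6, 6, 6, 6, 8, 8, 8, 8, 8, 8, 8, 8, 8, 10, 10, 10, 10, 10, 10, 10, 10, 10, 12, 12, 12, 12, 12, 12, 12, 12, 12, 14, 14, 14, 14, 14, 14, 14, 14, 14]
    (by decide +kernel) (by decide +kernel)

theorem cert4 : PC2Fi22x.P.gR 4 ∈ commutator PC2Fi22x.P.Grp := by
  apply mem_commutator_of_perm PC2Fi22x.P PC2Fi22x.valid 4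
    [[2, 4, 2, 4, 2, 4], [2, 10, 2, 10], [2, 10, 2, 10], [2, 10, 2, 10], [4, 4], [4, 6, 4, 6, 4, 6], [4, 12, 4, 12], [6, 8, 6, 8, 6, 8], [6, 14, 6, 14, 6, 14], [8, 8], [8, 8], [8, 8], [14, 14], [14, 12, 14, 12], [14, 12, 14, 12], [10, 12, 10, 12, 10, 12], [15, 13, 11, 9, 7, 5, 3, 15, 13, 11, 9, 7, 5, 3, 15, 13, 11, 9, 7, 5, 3, 15, 13, 11, 9, 7, 5, 3, 15, 13, 11, 9, 7, 5, 3, 15, 13, 11, 9, 7, 5, 3, 15, 13, 11, 9, 7, 5, 3, 15, 13, 11, 9, 7, 5, 3, 15, 13, 11, 9, 7, 5, 3]]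
    (by decide +kernel) (by decide +kernel)
    [2, 2, 2, 2, 2, 2, 2, 2, 2, 4, 4, 4, 4, 4, 4, 4, 4, 4, 6, 6, 6, 6, 6, 6, 6, 6, 6, 8, 8, 8, 8, 8, 8, 8, 8, 8, 10, 10, 10, 10, 10, 10, 10, 10, 10, 12, 12, 12, 12, 12, 12, 12, 12, 12, 14, 14, 14, 14, 14, 14, 14, 14, 14]
    (by decide +kernel) (by decide +kernel)

theorem cert6 : PC2Fi22x.P.gR 6 ∈ commutator PC2Fi22x.P.Grp := by
  apply mem_commutator_of_perm PC2Fi22x.P PC2Fi22x.valid 6
    [[2, 4, 2, 4, 2, 4], [2, 10, 2, 10], [2, 10, 2, 10], [2, 10, 2, 10], [4, 4], [4, 4], [4, 12, 4, 12], [6, 6], [6, 6], [6, 8, 6, 8, 6, 8], [6, 14, 6, 14, 6, 14], [8, 8], [8, 8], [8, 8], [14, 14], [14, 12, 14, 12], [14, 12, 14, 12], [10, 12, 10, 12, 10, 12], [15, 13, 11, 9, 7, 5, 3, 15, 13, 11, 9, 7, 5, 3, 15, 13, 11, 9, 7, 5, 3, 15, 13, 11, 9, 7, 5, 3, 15, 13, 11, 9, 7, 5, 3, 15, 13, 11, 9, 7, 5, 3, 15, 13, 11, 9, 7, 5, 3, 15, 13, 11, 9, 7, 5,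 3, 15, 13, 11, 9, 7, 5, 3]]
    (by decide +kernel) (by decide +kernel)
    [2, 2, 2, 2, 2, 2, 2, 2, 2, 4, 4, 4, 4, 4, 4, 4, 4, 4, 6, 6, 6, 6, 6, 6, 6, 6, 6, 8, 8, 8, 8, 8, 8, 8, 8, 8, 10, 10, 10, 10, 10, 10, 10, 10, 10, 12, 12, 12, 12, 12, 12, 12, 12, 12, 14, 14, 14, 14, 14, 14, 14, 14, 14]
    (by decide +kernel) (by decide +kernel)

theorem cert8 : PC2Fi22x.P.gR 8 ∈ commutator PC2Fi22x.P.Grp := by
  apply mem_commutator_of_perm PC2Fi22x.P PC2Fi22x.valid 8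
    [[2, 4, 2, 4, 2, 4], [2, 10, 2, 10], [2, 10, 2, 10], [2, 10, 2, 10], [4, 4], [4, 4], [4, 12, 4, 12], [6, 8, 6, 8, 6, 8], [6, 8, 6, 8, 6, 8], [6, 14, 6, 14, 6, 14], [8, 8], [8, 8], [14, 14], [14, 12, 14, 12], [14, 12, 14, 12], [10, 12, 10, 12, 10, 12], [15, 13, 11, 9, 7, 5, 3, 15, 13, 11, 9, 7, 5, 3, 15, 13, 11, 9, 7, 5, 3, 15, 13, 11, 9, 7, 5, 3, 15, 13, 11, 9, 7, 5, 3, 15, 13, 11, 9, 7, 5, 3, 15, 13, 11, 9, 7, 5, 3, 15, 13, 11, 9, 7, 5, 3, 15, 13, 11, 9, 7, 5, 3]]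
    (by decide +kernel) (by decide +kernel)
    [2, 2, 2, 2, 2, 2, 2, 2, 2, 4, 4, 4, 4, 4, 4, 4, 4, 4, 6, 6, 6, 6, 6, 6, 6, 6, 6, 8, 8, 8, 8, 8, 8, 8, 8, 8, 10, 10, 10, 10, 10, 10, 10, 10, 10, 12, 12, 12, 12, 12, 12, 12, 12, 12, 14, 14, 14, 14, 14, 14, 14, 14, 14]
    (by decide +kernel) (by decide +kernel)

theorem cert10 : PC2Fi22x.P.gR 10 ∈ commutator PC2Fi22x.P.Grp := by
  apply mem_commutator_of_perm PC2Fi22x.P PC2Fi22x.valid 10
    [[2, 4, 2, 4, 2, 4], [2, 10, 2, 10], [2, 10, 2, 10], [2, 10, 2, 10], [4, 4], [4, 4], [4, 12, 4, 12], [6, 8, 6, 8, 6, 8], [6, 8, 6, 8, 6, 8], [6, 14, 6, 14, 6, 14], [8, 10, 8, 10, 8, 10], [14, 14], [14, 12, 14, 12], [14, 12, 14, 12], [11, 11], [10, 12, 10, 12, 10, 12], [15, 13, 11, 9, 7, 5, 3, 15, 13, 11, 9, 7, 5, 3, 15, 13, 11, 9, 7, 5, 3, 15, 13, 11, 9, 7, 5, 3, 15, 13, 11, 9, 7, 5, 3, 15, 13, 11, 9, 7, 5, 3, 15, 13, 11, 9, 7, 5, 3, 15,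 13, 11, 9, 7, 5, 3, 15, 13, 11, 9, 7, 5, 3]]
    (by decide +kernel) (by decide +kernel)
    [2, 2, 2, 2, 2, 2, 2, 2, 2, 4, 4, 4, 4, 4, 4, 4, 4, 4, 6, 6, 6, 6, 6, 6, 6, 6, 6, 8, 8, 8, 8, 8, 8, 8, 8, 8, 10, 10, 10, 10, 10, 10, 10, 10, 10, 10, 10, 12, 12, 12, 12, 12, 12, 12, 12, 12, 14, 14, 14, 14, 14, 14, 14, 14, 14]
    (by decide +kernel) (by decide +kernel)

theorem cert12 : PC2Fi22x.P.gR 12 ∈ commutator PC2Fi22x.P.Grp := by
  apply mem_commutator_of_perm PC2Fi22x.P PC2Fi22x.valid 12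
    [[2, 4, 2, 4, 2, 4], [2, 10, 2, 10], [2, 10, 2, 10], [2, 10, 2, 10], [4, 4], [4, 4], [4, 12, 4, 12], [6, 8, 6, 8, 6, 8], [6, 8, 6, 8, 6, 8], [6, 14, 6, 14, 6, 14], [8, 10, 8, 10, 8, 10], [14, 14], [14, 12, 14, 12], [14, 12, 14, 12], [11, 11], [11, 11], [11, 11], [10, 12, 10, 12, 10, 12], [10, 12, 10, 12, 10, 12], [13, 13], [15, 13, 11, 9, 7, 5, 3, 15, 13, 11, 9, 7, 5, 3, 15, 13, 11, 9, 7, 5, 3, 15, 13, 11, 9, 7, 5, 3, 15, 13, 11, 9, 7, 5, 3, 15, 13, 11, 9, 7, 5, 3, 15, 13, 11, 9, 7, 5, 3, 15, 13, 11, 9, 7, 5, 3, 15, 13, 11, 9, 7, 5, 3]]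
    (by decide +kernel) (by decide +kernel)
    [2, 2, 2, 2, 2, 2, 2, 2, 2, 4, 4, 4, 4, 4, 4, 4, 4, 4, 6, 6, 6, 6, 6, 6, 6, 6, 6, 8, 8, 8, 8, 8, 8, 8, 8, 8, 10, 10, 10, 10, 10, 10, 10, 10, 10, 10, 10, 10, 10, 10, 10, 12, 12, 12, 12, 12, 12, 12, 12, 12, 12, 12, 14, 14, 14, 14, 14, 14, 14, 14, 14]
    (by decide +kernel) (by decide +kernel)

theorem cert14 : PC2Fi22x.P.gR 14 ∈ commutator PC2Fi22x.P.Grp := by
  apply mem_commutator_of_perm PC2Fi22x.P PC2Fi22x.valid 14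
    [[2, 4, 2, 4, 2, 4], [2, 10, 2, 10], [2, 10, 2, 10], [2, 10, 2, 10], [4, 4], [4, 4], [4, 12, 4, 12], [6, 6], [6, 6], [6, 6], [6, 8, 6, 8, 6, 8], [8, 8], [8, 8], [8, 8], [14, 14], [14, 14], [14, 14], [14, 12, 14, 12], [14, 12, 14, 12], [10, 12, 10, 12, 10, 12], [15, 13, 11, 9, 7, 5, 3, 15, 13, 11, 9, 7, 5, 3, 15, 13, 11, 9, 7, 5, 3, 15, 13, 11, 9, 7, 5, 3, 15, 13, 11, 9, 7, 5, 3, 15, 13, 11, 9, 7, 5, 3, 15, 13, 11, 9, 7, 5, 3, 15, 13, 11, 9, 7, 5, 3, 15, 13, 11, 9, 7, 5, 3]]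
    (by decide +kernel) (by decide +kernel)
    [2, 2, 2, 2, 2, 2, 2, 2, 2, 4, 4, 4, 4, 4, 4, 4, 4, 4, 6, 6, 6, 6, 6, 6, 6, 6, 6, 8, 8, 8, 8, 8, 8, 8, 8, 8, 10, 10, 10, 10, 10, 10, 10, 10, 10, 12, 12, 12, 12, 12, 12, 12, 12, 12, 14, 14, 14, 14, 14, 14, 14, 14, 14]
    (by decide +kernel) (by decide +kernel)

theorem cert16 : PC2Fi22x.P.gR 16 ∈ commutator PC2Fi22x.P.Grp := by
  apply mem_commutator_of_perm PC2Fi22x.P PC2Fi22x.valid 16
    [[2, 4, 2, 4, 2, 4], [2, 10, 2, 10], [2, 10, 2, 10], [2, 10, 2, 10], [4, 4], [4, 4], [4, 12, 4, 12], [6, 6], [6, 6], [6, 6], [6, 8, 6, 8, 6, 8], [8, 8], [8, 8], [8, 8], [14, 14], [14, 12, 14, 12], [14, 12, 14, 12], [14, 16, 14, 16, 14, 16], [10, 12, 10, 12, 10, 12], [17, 17], [15, 13, 11, 9, 7, 5, 3, 15, 13, 11, 9, 7, 5, 3, 15, 13, 11, 9, 7, 5, 3, 15, 13, 11, 9, 7, 5, 3, 15, 13, 11, 9, 7, 5, 3, 15, 13, 11, 9, 7, 5, 3, 15, 13, 11, 9, 7, 5,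 3, 15, 13, 11, 9, 7, 5, 3, 15, 13, 11, 9, 7, 5, 3]]
    (by decide +kernel) (by decide +kernel)
    [2, 2, 2, 2, 2, 2, 2, 2, 2, 4, 4, 4, 4, 4, 4, 4, 4, 4, 6, 6, 6, 6, 6, 6, 6, 6, 6, 8, 8, 8, 8, 8, 8, 8, 8, 8, 10, 10, 10, 10, 10, 10, 10, 10, 10, 12, 12, 12, 12, 12, 12, 12, 12, 12, 14, 14, 14, 14, 14, 14, 14, 14, 14, 16, 16]
    (by decide +kernel) (by decide +kernel)

theorem cert18 : PC2Fi22x.P.gR 18 ∈ commutator PC2Fi22x.P.Grp := by
  apply mem_commutator_of_perm PC2Fi22x.P PC2Fi22x.valid 18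
    [[0, 0], [0, 0], [0, 0], [19, 19], [19, 19], [19, 19], [19, 19], [19, 19], [19, 19], [19, 19], [19, 19], [19, 19], [19, 19], [19, 19], [19, 19], [19, 19], [19, 19], [19, 19], [19, 19], [21, 21, 21, 21, 21], [21, 21, 21, 21, 21], [21, 21, 21, 21, 21], [23, 23, 23], [24, 24], [24, 24], [24, 24], [25, 21, 19, 25, 23, 21, 19, 21, 19], [25, 21, 19, 25, 23, 21, 19, 21, 19], [25, 21, 19, 25, 23, 21, 19, 21, 19], [27, 27, 27], [27, 27, 27], [27, 27, 27], [27, 27, 27], [18, 20, 18, 20, 18, 20, 18, 26, 22, 26, 20, 18, 21, 18, 21, 18, 20, 20, 1], [18, 20, 18, 20, 18, 20, 18, 26, 22, 26, 20, 18, 21, 18, 21, 18, 20, 20, 1], [18, 20, 18, 20, 18, 20, 18, 26, 22, 26, 20, 18, 21, 18, 21, 18, 20, 20, 1], [18, 20, 18, 20, 18, 20, 18, 26, 22, 26, 20, 18, 21, 18, 21, 18, 20, 20, 1], [18, 20, 18, 20, 18, 20, 18, 26, 22, 26, 20, 18, 21, 18, 21, 18, 20, 20, 1], [18, 20, 18, 20, 18, 20, 18, 26,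 22, 26, 20, 18, 21, 18, 21, 18, 20, 20, 1]]
    (by decide +kernel) (by decide +kernel)
    [0, 0, 0, 0, 0, 0, 18, 18, 18, 18, 18, 18, 18, 18, 18, 18, 18, 18, 18, 18, 18, 18, 18, 18, 18, 18, 18, 18, 18, 18, 18, 18, 18, 18, 18, 18, 18, 18, 18, 18, 18, 18, 18, 18, 18, 18, 18, 20, 20, 20, 20, 20, 20, 20, 20, 20, 20, 20, 20, 20, 20, 20, 20, 20, 20, 20, 20, 20, 20, 20, 20, 20, 20, 20, 20, 20, 20, 20, 20, 20, 20, 20, 20, 22, 22, 22, 22, 22, 22, 24, 24, 24, 24, 24, 24, 26, 26, 26, 26, 26, 26, 26, 26, 26, 26, 26, 26]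
    (by decide +kernel) (by decide +kernel)

theorem cert20 : PC2Fi22x.P.gR 20 ∈ commutator PC2Fi22x.P.Grp := by
  apply mem_commutator_of_perm PC2Fi22x.P PC2Fi22x.valid 20
    [[1, 1], [1, 1], [18, 18], [18, 18], [20, 20, 20, 20, 20], [25, 25], [25, 25], [25, 25], [25, 25], [25, 25], [25, 25], [25, 25], [25, 25], [18, 20, 18, 20, 22, 24, 18, 20, 24], [18, 20, 18, 20, 22, 24, 18, 20, 24], [18, 20, 18, 20, 22, 24, 18, 20, 24], [18, 20, 18, 20, 22, 24, 18, 20, 24], [26, 26, 26], [26, 26, 26], [0, 21, 21, 19, 20, 19, 20, 19, 21, 27, 23, 27, 19, 21, 19, 21, 19, 21, 19], [0, 21, 21, 19, 20, 19, 20, 19, 21, 27, 23, 27, 19, 21, 19, 21, 19, 21, 19], [0, 21, 21, 19, 20, 19, 20, 19, 21, 27, 23, 27, 19, 21, 19, 21, 19, 21, 19], [0, 21, 21, 19, 20, 19, 20, 19, 21, 27, 23, 27, 19, 21, 19, 21, 19, 21, 19], [18, 20, 18, 20, 18, 20, 18, 21, 21, 18, 21, 22, 24, 20, 20, 24, 18, 21, 26, 24,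 26, 23, 20, 24, 27, 21, 21, 29], [18, 20, 18, 20, 18, 20, 18, 21, 21, 18, 21, 22, 24, 20, 20, 24, 18, 21, 26, 24, 26, 23, 20, 24, 27, 21, 21, 29], [28, 28]]
    (by decide +kernel) (by decide +kernel)
    [0, 0, 0, 0, 18, 18, 18, 18, 18, 18, 18, 18, 18, 18, 18, 18, 18, 18, 18, 18, 18, 18, 18, 18, 18, 18, 18, 18, 18, 18, 18, 18, 20, 20, 20, 20, 20, 20, 20, 20, 20, 20, 20, 20, 20, 20, 20, 20, 20, 20, 20, 20, 20, 20, 20, 20, 20, 20, 20, 20, 20, 20, 20, 20, 20, 20, 20, 20, 22, 22, 22, 22, 22, 22, 24, 24, 24, 24, 24, 24, 24, 24, 24, 24, 24, 24, 24, 24, 24, 24, 26, 26, 26, 26, 26, 26, 26, 26, 26, 26, 28, 28]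
    (by decide +kernel) (by decide +kernel)

theorem cert22 : PC2Fi22x.P.gR 22 ∈ commutator PC2Fi22x.P.Grp := by
  apply mem_commutator_of_perm PC2Fi22x.P PC2Fi22x.valid 22
    [[19, 19], [19, 19], [19, 19], [19, 19], [19, 19], [19, 19], [19, 19], [19, 19], [19, 19], [21, 21, 21, 21, 21], [21, 21, 21, 21, 21], [21, 21, 21, 21, 21], [21, 21, 21, 21, 21], [21, 21, 21, 21, 21], [21, 21, 21, 21, 21], [23, 23, 23], [23, 23, 23], [23, 23, 23], [25, 25], [25, 25], [25, 25], [25, 25], [25, 19, 25, 19, 25, 19], [25, 19, 25, 19, 25, 19], [25, 19, 25, 19, 25, 19], [25, 19, 25, 19, 25, 19], [18, 20, 18, 20, 22, 24, 18, 20, 24], [18, 20, 18, 20, 22, 24, 18, 20, 24], [18, 20, 18, 20, 22, 24, 18, 20, 24], [18, 20, 18, 20, 22, 24, 18, 20, 24], [18, 20, 18, 20, 22, 24, 18, 20, 24], [18, 20, 18, 20, 22, 24, 18, 20, 24], [18, 20, 18, 20, 22, 24, 18, 20, 24], [18, 20, 18, 20, 22, 24, 18, 20,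 24], [18, 20, 18, 20, 22, 24, 18, 20, 24], [18, 20, 18, 20, 22, 24, 18, 20, 24]]
    (by decide +kernel) (by decide +kernel)
    [18, 18, 18, 18, 18, 18, 18, 18, 18, 18, 18, 18, 18, 18, 18, 18, 18, 18, 18, 18, 18, 18, 18, 18, 18, 18, 18, 18, 18, 18, 20, 20, 20, 20, 20, 20, 20, 20, 20, 20, 20, 20, 20, 20, 20, 20, 20, 20, 20, 20, 20, 20, 20, 20, 20, 20, 20, 20, 20, 20, 22, 22, 22, 22, 22, 22, 22, 22, 22, 24, 24, 24, 24, 24, 24, 24, 24, 24, 24, 24, 24, 24, 24, 24, 24, 24, 24, 24, 24]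
    (by decide +kernel) (by decide +kernel)

theorem cert24 : PC2Fi22x.P.gR 24 ∈ commutator PC2Fi22x.P.Grp := by
  apply mem_commutator_of_perm PC2Fi22x.P PC2Fi22x.valid 24
    [[1, 1], [1, 1], [1, 1], [18, 18], [18, 18], [18, 18], [18, 18], [18, 18], [18, 18], [18, 18], [18, 18], [18, 18], [18, 18], [18, 18], [18, 18], [18, 18], [18, 18], [18, 18], [20, 20, 20, 20, 20], [20, 20, 20, 20, 20], [20, 20, 20, 20, 20], [22, 22, 22], [25, 25], [25, 25], [18, 20, 18, 20, 22, 24, 18, 20, 24], [18, 20, 18, 20, 22, 24, 18, 20, 24], [26, 26, 26], [26, 26, 26], [26, 26, 26], [26, 26, 26], [18, 20, 18, 20, 18, 20, 22, 24, 20, 18, 26, 20, 18, 21, 27, 18, 21], [0, 21, 21, 19, 20, 19, 20, 19, 21, 27, 23, 27, 19, 21, 19, 21, 19, 21, 19], [0, 21, 21, 19, 20, 19, 20, 19, 21, 27, 23, 27, 19, 21, 19, 21, 19, 21, 19], [0, 21, 21, 19, 20, 19, 20, 19, 21, 27, 23, 27, 19, 21, 19, 21, 19, 21, 19],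 [0, 21, 21, 19, 20, 19, 20, 19, 21, 27, 23, 27, 19, 21, 19, 21, 19, 21, 19], [0, 21, 21, 19, 20, 19, 20, 19, 21, 27, 23, 27, 19, 21, 19, 21, 19, 21, 19], [0, 21, 21, 19, 20, 19, 20, 19, 21, 27, 23, 27, 19, 21, 19, 21, 19, 21, 19]]
    (by decide +kernel) (by decide +kernel)
    [0, 0, 0, 0, 0, 0, 18, 18, 18, 18, 18, 18, 18, 18, 18, 18, 18, 18, 18, 18, 18, 18, 18, 18, 18, 18, 18, 18, 18, 18, 18, 18, 18, 18, 18, 18, 18, 18, 18, 18, 18, 18, 18, 18, 18, 18, 18, 18, 20, 20, 20, 20, 20, 20, 20, 20, 20, 20, 20, 20, 20, 20, 20, 20, 20, 20, 20, 20, 20, 20, 20, 20, 20, 20, 20, 20, 20, 20, 20, 20, 20, 20, 20, 20, 20, 20, 22, 22, 22, 22, 22, 22, 24, 24, 24, 24, 26, 26, 26, 26, 26, 26, 26, 26, 26, 26, 26, 26, 26]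
    (by decide +kernel) (by decide +kernel)

theorem cert26 : PC2Fi22x.P.gR 26 ∈ commutator PC2Fi22x.P.Grp := by
  apply mem_commutator_of_perm PC2Fi22x.P PC2Fi22x.valid 26
    [[18, 18], [18, 18], [18, 18], [24, 24], [18, 24, 18, 24, 18, 24], [18, 24, 18, 24, 18, 24], [26, 26, 26], [28, 20, 20, 26, 25, 21, 22, 27, 25, 27, 20, 19, 25, 21, 21, 25, 23, 20, 19, 20, 20, 19, 21, 19, 21, 19, 21, 19], [28, 20, 20, 26, 25, 21, 22, 27, 25, 27, 20, 19, 25, 21, 21, 25, 23, 20, 19, 20, 20, 19, 21, 19, 21, 19, 21, 19], [29, 29]]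
    (by decide +kernel) (by decide +kernel)
    [18, 18, 18, 18, 18, 18, 18, 18, 18, 18, 18, 18, 20, 20, 20, 20, 20, 20, 20, 20, 20, 20, 20, 20, 22, 22, 24, 24, 24, 24, 24, 24, 24, 24, 26, 26, 26, 26, 28, 28]
    (by decide +kernel) (by decide +kernel)

theorem cert28 : PC2Fi22x.P.gR 28 ∈ commutator PC2Fi22x.P.Grp := by
  apply mem_commutator_of_perm PC2Fi22x.P PC2Fi22x.valid 28
    [[18, 18], [18, 18], [18, 18], [18, 24, 18, 24, 18, 24], [18, 24, 18, 24, 18, 24], [18, 24, 18, 24, 18, 24], [18, 24, 18, 24, 18, 24], [26, 26, 26], [28, 20, 20, 26, 25, 21, 22, 27, 25, 27, 20, 19, 25, 21, 21, 25, 23, 20, 19, 20, 20, 19, 21, 19, 21, 19, 21, 19], [28, 20, 20, 26, 25, 21, 22, 27, 25, 27, 20, 19, 25, 21, 21, 25, 23, 20, 19, 20, 20, 19, 21, 19, 21, 19, 21, 19], [28, 20, 20, 26, 25, 21, 22, 27, 25, 27, 20, 19, 25, 21, 21, 25, 23, 20, 19, 20, 20, 19, 21, 19, 21, 19, 21, 19], [29, 29]]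
    (by decide +kernel) (by decide +kernel)
    [18, 18, 18, 18, 18, 18, 18, 18, 18, 18, 18, 18, 18, 18, 18, 18, 18, 18, 20, 20, 20, 20, 20, 20, 20, 20, 20, 20, 20, 20, 20, 20, 20, 20, 20, 20, 22, 22, 22, 24, 24, 24, 24, 24, 24, 24, 24, 24, 24, 24, 24, 26, 26, 26, 26, 26, 26, 28, 28]
    (by decide +kernel) (by decide +kernel)

theorem cert30 : PC2Fi22x.P.gR 30 ∈ commutator PC2Fi22x.P.Grp := by
  apply mem_commutator_of_perm PC2Fi22x.P PC2Fi22x.valid 30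
    [[0, 0], [0, 0], [0, 0], [0, 2, 0, 2, 0, 2], [5, 3, 5, 3, 5, 3], [4, 6, 4, 6, 4, 6], [9, 7, 9, 7, 9, 7], [8, 10, 8, 10, 8, 10], [13, 11, 13, 11, 13, 11], [13, 13], [13, 13], [13, 13], [30, 15, 11, 9, 7, 5, 3, 1, 15, 11, 9, 7, 5, 3, 1, 15, 11, 9, 7, 5, 3, 1, 15, 11, 9, 7, 5, 3, 1, 15, 11, 9, 7, 5, 3, 1, 15, 11, 9, 7, 5, 3, 1, 15, 11, 9, 7, 5, 3, 1, 15, 11, 9, 7, 5, 3, 1, 15, 11, 9, 7, 5, 3, 1], [2, 4, 6, 8, 10, 12, 14, 2, 4, 6, 8, 10, 12, 14, 2, 4, 6, 8, 10, 12, 14, 2, 4, 6, 8, 10, 12, 14, 2, 4, 6, 8, 10, 12, 14, 2, 4, 6, 8, 10, 12, 14, 2, 4, 6, 8, 10, 12, 14, 2, 4, 6, 8, 10, 12, 14, 2, 4, 6, 8, 10, 12, 14]]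
    (by decide +kernel) (by decide +kernel)
    [0, 0, 0, 0, 0, 0, 0, 0, 0, 2, 2, 2, 2, 2, 2, 2, 2, 2, 2, 2, 2, 4, 4, 4, 4, 4, 4, 4, 4, 4, 4, 4, 4, 6, 6, 6, 6, 6, 6, 6, 6, 6, 6, 6, 6, 8, 8, 8, 8, 8, 8, 8, 8, 8, 8, 8, 8, 10, 10, 10, 10, 10, 10, 10, 10, 10, 10, 10, 10, 12, 12, 12, 12, 12, 12, 12, 12, 12, 14, 14, 14, 14, 14, 14, 14, 14, 14]
    (by decide +kernel) (by decide +kernel)

/-- the generators are products of commutators -/
theorem gR_mem_commutator (l : ℕ) (hl : l < 32) : gG l ∈ commutator G := by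
  interval_cases l
  · exact cert0
  · rw [show (1 : ℕ) = PC2Fi22x.P.invR 0 from rfl, hinv 0 (by decide)]
    exact Subgroup.inv_mem _ cert0
  · exact cert2
  · rw [show (3 : ℕ) = PC2Fi22x.P.invR 2 from rfl, hinv 2 (by decide)]
    exact Subgroup.inv_mem _ cert2
  · exact cert4
  · rw [show (5 : ℕ) = PC2Fi22x.P.invR 4 from rfl, hinv 4 (by decide)]
    exact Subgroup.inv_mem _ cert4
  · exact cert6
  · rw [show (7 : ℕ) = PC2Fi22x.P.invR 6 from rfl, hinv 6 (by decide)]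
    exact Subgroup.inv_mem _ cert6
  · exact cert8
  · rw [show (9 : ℕ) = PC2Fi22x.P.invR 8 from rfl, hinv 8 (by decide)]
    exact Subgroup.inv_mem _ cert8
  · exact cert10
  · rw [show (11 : ℕ) = PC2Fi22x.P.invR 10 from rfl, hinv 10 (by decide)]
    exact Subgroup.inv_mem _ cert10
  · exact cert12
  · rw [show (13 : ℕ) = PC2Fi22x.P.invR 12 from rfl, hinv 12 (by decide)]
    exact Subgroup.inv_mem _ cert12
  · exact cert14
  · rw [show (15 : ℕ) = PC2Fi22x.P.invR 14 from rfl, hinv 14 (by decide)]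
    exact Subgroup.inv_mem _ cert14
  · exact cert16
  · rw [show (17 : ℕ) = PC2Fi22x.P.invR 16 from rfl, hinv 16 (by decide)]
    exact Subgroup.inv_mem _ cert16
  · exact cert18
  · rw [show (19 : ℕ) = PC2Fi22x.P.invR 18 from rfl, hinv 18 (by decide)]
    exact Subgroup.inv_mem _ cert18
  · exact cert20
  · rw [show (21 : ℕ) = PC2Fi22x.P.invR 20 from rfl, hinv 20 (by decide)]
    exact Subgroup.inv_mem _ cert20
  · exact cert22
  · rw [show (23 : ℕ) = PC2Fi22x.P.invR 22 from rfl, hinv 22 (by decide)]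
    exact Subgroup.inv_mem _ cert22
  · exact cert24
  · rw [show (25 : ℕ) = PC2Fi22x.P.invR 24 from rfl, hinv 24 (by decide)]
    exact Subgroup.inv_mem _ cert24
  · exact cert26
  · rw [show (27 : ℕ) = PC2Fi22x.P.invR 26 from rfl, hinv 26 (by decide)]
    exact Subgroup.inv_mem _ cert26
  · exact cert28
  · rw [show (29 : ℕ) = PC2Fi22x.P.invR 28 from rfl, hinv 28 (by decide)]
    exact Subgroup.inv_mem _ cert28
  · exact cert30
  · rw [show (31 : ℕ) = PC2Fi22x.P.invR 30 from rfl, hinv 30 (by decide)]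
    exact Subgroup.inv_mem _ cert30

theorem perfect : commutator G = ⊤ :=
  commutator_eq_top_of_letters PC2Fi22x.P PC2Fi22x.valid gR_mem_commutator

/-- the covering homomorphism is a stem extension -/
theorem isStem : IsStemExtension π := by
  refine ⟨π_surjective, ?_, ?_⟩
  · rw [ker_eq]
    exact Z_le_center
  · rw [perfect]
    exact le_top

/-- the kernel is cyclic of order 2 -/
theorem ker_equiv : Nonempty (π.ker ≃* Multiplicative (ZMod 2)) := by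
  have h1 : IsCyclic Z := by
    unfold Z
    infer_instance
  have h1' : IsCyclic π.ker := by
    rw [ker_eq]
    exact h1
  have h2 : Nat.card (Multiplicative (ZMod 2)) = 2 := by
    rw [Nat.card_eq_fintype_card]
    exact ZMod.card 2
  exact ⟨mulEquivOfCyclicCardEq (card_ker.trans h2.symm)⟩

/-- the permutation representation on 28160 points is faithful: the group is a perfect central extension of a
simple group and the central letter acts nontrivially -/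
theorem phi_injective : Function.Injective C2Fi22xR.prep.phi := by
  have hz : C2Fi22xR.prep.phi z ≠ 1 := by
    intro h
    have h1 := C2Fi22xR.prep.phi_gR 30 (by decide) ⟨0, by decide⟩
    have h2 : C2Fi22xR.prep.phi (gG 30) = 1 := h
    rw [h2] at h1
    have h3 : C2Fi22xR.T.tbl 0 (C2Fi22xR.D.inv 30) ≠ 0 := by decide +kernel
    exact h3 h1.symm
  apply injective_of_central_simple π π_surjective (by rw [ker_eq]; exact Z_le_center) Fi22xMain.simple_aux perfect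
  · rw [ker_eq]
    exact eq_one_of_mem_zpowers_prime C2Fi22xR.prep.phi z 2 (by norm_num) z_sq hz
  · exact ⟨z, hz⟩

/-- the order and the faithful permutation representation -/
theorem order_aux : Finite G ∧ Function.Injective C2Fi22xR.prep.phi ∧ Nat.card G = 129123503308800 :=
  ⟨order_card.1, phi_injective, order_card.2⟩

end Cfsg.Agent.Lib.Helper4.C2Fi22xCover
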