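import Mathlib
import Cfsg.Agent.Lib.Helper4.StemLib6
import Cfsg.Agent.Lib.Helper4.TC19

/-! Splitting over a subgroup passes to smaller subgroups; monotonicity of the subgroup generated by words. -/

set_option autoImplicit false

universe u

namespace Cfsg.Agent.Lib.Helper4.Stem

open Cfsg Cfsg.Agent.Lib.Helper4.TC Cfsg.Agent.Lib.Helper4.TC.Log

theorem splitsOver_mono {Γ E : Type*} [Group Γ] [Group E] (σ : Γ →* E) {H H' : Subgroup E} (hle : H' ≤ H)
    (h : SplitsOver σ H) : SplitsOver σ H' := by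
  obtain ⟨H0, h1, h2⟩ := h
  refine ⟨H0 ⊓ H'.comap σ, ?_, ?_⟩
  · rw [eq_bot_iff]
    intro x hx
    have : x ∈ H0 ⊓ σ.ker := ⟨hx.1.1, hx.2⟩
    rw [h1] at this
    exact this
  · apply le_antisymm
    · rintro _ ⟨x, hx, rfl⟩
      exact hx.2
    · intro y hy
      have hy' : y ∈ H0.map σ := by rw [h2]; exact hle hy
      obtain ⟨x, hx, rfl⟩ := hy'
      exact ⟨x, ⟨hx, hy⟩, rfl⟩

theorem liftsP_mono {E : Type u} [Group E] {H H' : Subgroup E} (hle : H' ≤ H) (p : ℕ) (h : LiftsP E H p) :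
    LiftsP E H' p := by
  intro Γ _ _ σ hσ hc
  exact splitsOver_mono σ hle (h Γ σ hσ hc)

theorem subG_mono {α : Type} [DecidableEq α] (P : CoxEnc α) {s1 s2 : List (List ℕ)} (h : ∀ u ∈ s1, u ∈ s2) :
    Inst.subG P s1 ≤ Inst.subG P s2 := by
  unfold Inst.subG
  apply Subgroup.closure_mono
  rintro _ ⟨u, hu, rfl⟩
  exact ⟨u, h u hu, rfl⟩

end Cfsg.Agent.Lib.Helper4.Stem
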