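import Mathlib
import Cfsg.Agent.Lib.Helper4.C2Fi22xCover
import Cfsg.Agent.Lib.Helper4.TCD_C2Fi22xB_Fin
import Cfsg.Agent.Lib.Helper4.C4U62Cover
import Cfsg.Agent.Lib.Helper4.SC4U62p2Main
import Cfsg.Agent.Lib.Helper4.TC19
import Cfsg.Agent.Lib.Helper4.StemLib12
import Cfsg.Agent.Lib.Helper4.CoverLib

/-! The presented group `C2Fi22x` contains the presented group `C4U62` as a subgroup of index 3510 (the letters go to letters),
and stem extensions with kernel of prime order split over it. -/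

set_option autoImplicit false
set_option maxRecDepth 100000

namespace Cfsg.Agent.Lib.Helper4.C2Fi22xSub

open Cfsg Cfsg.Agent.Lib.Helper4.TC Cfsg.Agent.Lib.Helper4.TCD Cfsg.Agent.Lib.Helper4.TC.Log Cfsg.Agent.Lib.Helper4.Stem

local notation "G" => PC2Fi22x.P.Grp
local notation "gG" => PC2Fi22x.P.gR

theorem hinv (y : ℕ) (hy : y < 32) : gG (PC2Fi22x.P.invR y) = (gG y)⁻¹ :=
  (PC2Fi22x.valid.invR_sound y (by show y ≤ 32; omega)).2

section Gen

variable (S : Subgroup G) (h : ∀ l ∈ [0, 2, 4, 6, 8, 10, 12, 14, 16, 30], gG l ∈ S)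
include h

theorem old_mem (y : ℕ) (hy : y < 18 ∨ y = 30 ∨ y = 31) : gG y ∈ S := by
  have he : ∀ l, l < 9 → gG (2 * l) ∈ S := by
    intro l hl
    apply h
    interval_cases l <;> decide
  have ho : ∀ l, l < 9 → gG (2 * l + 1) ∈ S := by
    intro l hl
    have e : PC2Fi22x.P.invR (2 * l) = 2 * l + 1 := by interval_cases l <;> rfl
    rw [← e, hinv (2 * l) (by omega)]
    exact inv_mem (he l hl)
  rcases hy with hy | rfl | rfl
  · rcases Nat.even_or_odd' y with ⟨l, rfl | rfl⟩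
    · exact he l (by omega)
    · exact ho l (by omega)
  · exact h 30 (by decide)
  · rw [show (31 : ℕ) = PC2Fi22x.P.invR 30 from rfl, hinv 30 (by decide)]
    exact inv_mem (h 30 (by decide))

theorem new18_mem : gG 18 ∈ S := by
  have hr : [19, 12, 10, 6, 8, 4, 6, 2, 4, 0, 2, 0, 2, 0, 4, 2, 6, 4, 8, 6, 10, 12, 0, 30] ∈ PC2Fi22x.P.real := by decide +kernel
  have h0 := (PC2Fi22x.valid.real_sound _ hr).2
  rw [wordP_cons] at h0
  have h1 : gG 19 = (gG 18)⁻¹ := hinv 18 (by decide)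
  rw [h1] at h0
  have h2 : gG 18 = wordP gG [12, 10, 6, 8, 4, 6, 2, 4, 0, 2, 0, 2, 0, 4, 2, 6, 4, 8, 6, 10, 12, 0, 30] := by
    rw [← mul_one (gG 18), ← h0]; group
  rw [h2]
  exact Sgs.wordP_mem_closure gG S _ (fun e he => old_mem S h e (by revert e; decide))

theorem new20_mem : gG 20 ∈ S := by
  have hr : [21, 14, 8, 10, 6, 8, 4, 6, 14, 16, 6, 14, 8, 10, 6, 8, 2, 4, 6, 14, 12, 10, 8, 6, 4, 2, 0, 2, 4, 6, 8, 10, 12, 14, 6, 4, 2, 8, 6, 10, 8, 14, 6, 16, 14, 6, 4, 8, 6, 10, 8, 14, 16, 6, 14, 8, 10, 6, 8, 2, 4, 6, 14, 12, 10, 8, 6, 4, 2, 0, 2, 4, 6, 8, 10, 12, 14, 6, 4, 2, 8, 6, 10, 8, 14, 6, 16, 14, 6, 8, 4, 6, 14, 16, 2, 4, 6, 14, 8, 6, 4, 2, 0, 2, 4, 6, 8, 14, 6, 4, 2, 16, 14, 6, 4, 8, 6, 14, 10, 8, 6, 14, 12, 10, 8, 6, 2, 4, 0, 2, 0, 2, 0, 4, 2, 6, 8, 10, 12, 14, 6, 8, 10] ∈ PC2Fi22x.P.real := by decide +kernel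
  have h0 := (PC2Fi22x.valid.real_sound _ hr).2
  rw [wordP_cons] at h0
  have h1 : gG 21 = (gG 20)⁻¹ := hinv 20 (by decide)
  rw [h1] at h0
  have h2 : gG 20 = wordP gG [14, 8, 10, 6, 8, 4, 6, 14, 16, 6, 14, 8, 10, 6, 8, 2, 4, 6, 14, 12, 10, 8, 6, 4, 2, 0, 2, 4, 6, 8, 10, 12, 14, 6, 4, 2, 8, 6, 10, 8, 14, 6, 16, 14, 6, 4, 8, 6, 10, 8, 14, 16, 6, 14, 8, 10, 6, 8, 2, 4, 6, 14, 12, 10, 8, 6, 4, 2, 0, 2, 4, 6, 8, 10, 12, 14, 6, 4, 2, 8, 6, 10, 8, 14, 6, 16, 14, 6, 8, 4, 6, 14, 16, 2, 4, 6, 14, 8, 6, 4, 2, 0, 2, 4, 6, 8, 14, 6, 4, 2, 16, 14, 6, 4, 8, 6, 14, 10, 8, 6, 14, 12, 10, 8, 6, 2, 4, 0, 2, 0, 2, 0, 4, 2, 6, 8, 10, 12, 14, 6, 8, 10] := by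
    rw [← mul_one (gG 20), ← h0]; group
  rw [h2]
  exact Sgs.wordP_mem_closure gG S _ (fun e he => old_mem S h e (by revert e; decide))

theorem new22_mem : gG 22 ∈ S := by
  have hr : [23, 10, 8, 4, 6, 14, 16, 14, 8, 10, 4, 6, 8, 2, 4, 6, 14, 12, 10, 8, 6, 4, 2, 0, 2, 4, 6, 8, 10, 12, 14, 6, 4, 2, 8, 6, 4, 10, 8, 14, 16, 14, 6, 4, 8, 10, 2, 4, 0, 2, 0, 2, 0, 4, 2] ∈ PC2Fi22x.P.real := by decide +kernel
  have h0 := (PC2Fi22x.valid.real_sound _ hr).2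
  rw [wordP_cons] at h0
  have h1 : gG 23 = (gG 22)⁻¹ := hinv 22 (by decide)
  rw [h1] at h0
  have h2 : gG 22 = wordP gG [10, 8, 4, 6, 14, 16, 14, 8, 10, 4, 6, 8, 2, 4, 6, 14, 12, 10, 8, 6, 4, 2, 0, 2, 4, 6, 8, 10, 12, 14, 6, 4, 2, 8, 6, 4, 10, 8, 14, 16, 14, 6, 4, 8, 10, 2, 4, 0, 2, 0, 2, 0, 4, 2] := by
    rw [← mul_one (gG 22), ← h0]; group
  rw [h2]
  exact Sgs.wordP_mem_closure gG S _ (fun e he => old_mem S h e (by revert e; decide))

theorem new24_mem : gG 24 ∈ S := by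
  have hr : [25, 16, 8, 6, 14, 10, 12, 8, 10, 6, 8, 4, 6, 14, 16, 8, 10, 4, 6, 8, 2, 4, 6, 14, 12, 10, 8, 6, 4, 2, 0, 2, 4, 6, 8, 10, 12, 14, 6, 4, 2, 8, 6, 4, 10, 8, 16, 14, 6, 4, 8, 6, 10, 8, 12, 10, 14, 6, 8, 16, 0, 30] ∈ PC2Fi22x.P.real := by decide +kernel
  have h0 := (PC2Fi22x.valid.real_sound _ hr).2
  rw [wordP_cons] at h0
  have h1 : gG 25 = (gG 24)⁻¹ := hinv 24 (by decide)
  rw [h1] at h0
  have h2 : gG 24 = wordP gG [16, 8, 6, 14, 10, 12, 8, 10, 6, 8, 4, 6, 14, 16, 8, 10, 4, 6, 8, 2, 4, 6, 14, 12, 10, 8, 6, 4, 2, 0, 2, 4, 6, 8, 10, 12, 14, 6, 4, 2, 8, 6, 4, 10, 8, 16, 14, 6, 4, 8, 6, 10, 8, 12, 10, 14, 6, 8, 16, 0, 30] := by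
    rw [← mul_one (gG 24), ← h0]; group
  rw [h2]
  exact Sgs.wordP_mem_closure gG S _ (fun e he => old_mem S h e (by revert e; decide))

theorem new26_mem : gG 26 ∈ S := by
  have hr : [27, 6, 14, 16, 4, 6, 14, 8, 10, 6, 8, 4, 6, 14, 16, 6, 14, 8, 10, 6, 8, 2, 4, 6, 14, 12, 10, 8, 6, 4, 2, 0, 2, 4, 6, 8, 10, 12, 14, 6, 4, 2, 8, 6, 10, 8, 14, 6, 16, 14, 6, 4, 8, 6, 10, 8, 14, 6, 4, 16, 14, 6, 6, 8, 4, 6, 14, 16, 8, 2, 4, 6, 14, 10, 8, 6, 4, 2, 0, 2, 4, 6, 8, 10, 14, 6, 4, 2, 8, 16, 14, 6, 4, 8, 6, 4, 6, 14, 16, 6, 8, 2, 4, 6, 14, 10, 8, 6, 4, 2, 0, 2, 4, 6, 8, 10, 14, 6, 4, 2, 8, 6, 16, 14, 6, 4, 14, 6, 8, 2, 4, 6, 14, 12, 10, 8, 6, 4, 2, 0, 2, 4, 6, 8, 10, 12, 14, 6, 4, 2, 8, 6, 14] ∈ PC2Fi22x.P.real := by decide +kernel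
  have h0 := (PC2Fi22x.valid.real_sound _ hr).2
  rw [wordP_cons] at h0
  have h1 : gG 27 = (gG 26)⁻¹ := hinv 26 (by decide)
  rw [h1] at h0
  have h2 : gG 26 = wordP gG [6, 14, 16, 4, 6, 14, 8, 10, 6, 8, 4, 6, 14, 16, 6, 14, 8, 10, 6, 8, 2, 4, 6, 14, 12, 10, 8, 6, 4, 2, 0, 2, 4, 6, 8, 10, 12, 14, 6, 4, 2, 8, 6, 10, 8, 14, 6, 16, 14, 6, 4, 8, 6, 10, 8, 14, 6, 4, 16, 14, 6, 6, 8, 4, 6, 14, 16, 8, 2, 4, 6, 14, 10, 8, 6, 4, 2, 0, 2, 4, 6, 8, 10, 14, 6, 4, 2, 8, 16, 14, 6, 4, 8, 6, 4, 6, 14, 16, 6, 8, 2, 4, 6, 14, 10, 8, 6, 4, 2, 0, 2, 4, 6, 8, 10, 14, 6, 4, 2, 8, 6, 16, 14, 6, 4, 14, 6, 8, 2, 4, 6, 14, 12, 10, 8, 6, 4, 2, 0, 2, 4, 6, 8, 10, 12, 14, 6, 4, 2, 8, 6, 14] := by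
    rw [← mul_one (gG 26), ← h0]; group
  rw [h2]
  exact Sgs.wordP_mem_closure gG S _ (fun e he => old_mem S h e (by revert e; decide))

theorem new28_mem : gG 28 ∈ S := by
  have hr : [29, 0, 30] ∈ PC2Fi22x.P.real := by decide +kernel
  have h0 := (PC2Fi22x.valid.real_sound _ hr).2
  rw [wordP_cons] at h0
  have h1 : gG 29 = (gG 28)⁻¹ := hinv 28 (by decide)
  rw [h1] at h0
  have h2 : gG 28 = wordP gG [0, 30] := by
    rw [← mul_one (gG 28), ← h0]; group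
  rw [h2]
  exact Sgs.wordP_mem_closure gG S _ (fun e he => old_mem S h e (by revert e; decide))

/-- the lifts of the generators of Fi22 and the central letter generate -/
theorem gen_of_old : S = ⊤ := by
  rw [eq_top_iff, ← PC2Fi22x.valid.gen_top, Subgroup.closure_le]
  rintro _ ⟨y, hy, rfl⟩
  have hy : y < 32 := hy
  by_cases h18 : y < 18
  · exact old_mem S h y (Or.inl h18)
  · interval_cases y
    · exact new18_mem S h
    · rw [show (19 : ℕ) = PC2Fi22x.P.invR 18 from rfl, hinv 18 (by decide)]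
      exact inv_mem (new18_mem S h)
    · exact new20_mem S h
    · rw [show (21 : ℕ) = PC2Fi22x.P.invR 20 from rfl, hinv 20 (by decide)]
      exact inv_mem (new20_mem S h)
    · exact new22_mem S h
    · rw [show (23 : ℕ) = PC2Fi22x.P.invR 22 from rfl, hinv 22 (by decide)]
      exact inv_mem (new22_mem S h)
    · exact new24_mem S h
    · rw [show (25 : ℕ) = PC2Fi22x.P.invR 24 from rfl, hinv 24 (by decide)]
      exact inv_mem (new24_mem S h)
    · exact new26_mem S h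
    · rw [show (27 : ℕ) = PC2Fi22x.P.invR 26 from rfl, hinv 26 (by decide)]
      exact inv_mem (new26_mem S h)
    · exact new28_mem S h
    · rw [show (29 : ℕ) = PC2Fi22x.P.invR 28 from rfl, hinv 28 (by decide)]
      exact inv_mem (new28_mem S h)
    · exact old_mem S h 30 (Or.inr (Or.inl rfl))
    · exact old_mem S h 31 (Or.inr (Or.inr rfl))

end Gen

/-- the letters of `C4U62` as letters of `C2Fi22x` -/
def embK (l : ℕ) : ℕ := [18, 19, 20, 21, 22, 23, 24, 25, 26, 27, 0, 1, 28, 29].getD l 32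

theorem real_subK : ∀ L ∈ PC4U62.P.real, L.map embK ∈ PC2Fi22x.P.real := by decide +kernel

theorem embK_emb : LetterEmb PC4U62.P PC2Fi22x.P embK where
  hP := PC4U62.valid
  hQ := PC2Fi22x.valid
  hlt := by
    intro l hl
    have hl : l < 14 := hl
    show embK l < 32
    interval_cases l <;> decide
  hinv := by
    intro l hl
    have hl : l < 14 := hl
    interval_cases l <;> rfl
  hrel := by
    intro L hL
    exact (PC2Fi22x.valid.real_sound _ (real_subK L hL)).2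

/-- the homomorphism from `C4U62` -/
noncomputable def f : PC4U62.P.Grp →* G := embK_emb.hom

theorem f_gR (l : ℕ) (hl : l < 14) : f (PC4U62.P.gR l) = gG (embK l) := embK_emb.hom_gR l hl

/-- the words generating `C4U62` -/
def subsK : List (List ℕ) := [[0], [2], [4], [6], [8], [10], [12]]

theorem subG_K_top : Inst.subG PC4U62.P subsK = ⊤ := by
  rw [eq_top_iff, ← PC4U62.valid.gen_top, Subgroup.closure_le]
  rintro _ ⟨l, hl, rfl⟩
  have hl : l < 14 := hl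
  interval_cases l
  · exact Subgroup.subset_closure ⟨[0], by decide, by rw [wordP_cons, wordP_nil, mul_one]⟩
  · have h : PC4U62.P.gR 1 = (PC4U62.P.gR 0)⁻¹ := (PC4U62.valid.invR_sound 0 (by decide)).2
    rw [h]
    exact Subgroup.inv_mem _ (Subgroup.subset_closure ⟨[0], by decide, by rw [wordP_cons, wordP_nil, mul_one]⟩)
  · exact Subgroup.subset_closure ⟨[2], by decide, by rw [wordP_cons, wordP_nil, mul_one]⟩
  · have h : PC4U62.P.gR 3 = (PC4U62.P.gR 2)⁻¹ := (PC4U62.valid.invR_sound 2 (by decide)).2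
    rw [h]
    exact Subgroup.inv_mem _ (Subgroup.subset_closure ⟨[2], by decide, by rw [wordP_cons, wordP_nil, mul_one]⟩)
  · exact Subgroup.subset_closure ⟨[4], by decide, by rw [wordP_cons, wordP_nil, mul_one]⟩
  · have h : PC4U62.P.gR 5 = (PC4U62.P.gR 4)⁻¹ := (PC4U62.valid.invR_sound 4 (by decide)).2
    rw [h]
    exact Subgroup.inv_mem _ (Subgroup.subset_closure ⟨[4], by decide, by rw [wordP_cons, wordP_nil, mul_one]⟩)
  · exact Subgroup.subset_closure ⟨[6], by decide, by rw [wordP_cons, wordP_nil, mul_one]⟩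
  · have h : PC4U62.P.gR 7 = (PC4U62.P.gR 6)⁻¹ := (PC4U62.valid.invR_sound 6 (by decide)).2
    rw [h]
    exact Subgroup.inv_mem _ (Subgroup.subset_closure ⟨[6], by decide, by rw [wordP_cons, wordP_nil, mul_one]⟩)
  · exact Subgroup.subset_closure ⟨[8], by decide, by rw [wordP_cons, wordP_nil, mul_one]⟩
  · have h : PC4U62.P.gR 9 = (PC4U62.P.gR 8)⁻¹ := (PC4U62.valid.invR_sound 8 (by decide)).2
    rw [h]
    exact Subgroup.inv_mem _ (Subgroup.subset_closure ⟨[8], by decide, by rw [wordP_cons, wordP_nil, mul_one]⟩)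
  · exact Subgroup.subset_closure ⟨[10], by decide, by rw [wordP_cons, wordP_nil, mul_one]⟩
  · have h : PC4U62.P.gR 11 = (PC4U62.P.gR 10)⁻¹ := (PC4U62.valid.invR_sound 10 (by decide)).2
    rw [h]
    exact Subgroup.inv_mem _ (Subgroup.subset_closure ⟨[10], by decide, by rw [wordP_cons, wordP_nil, mul_one]⟩)
  · exact Subgroup.subset_closure ⟨[12], by decide, by rw [wordP_cons, wordP_nil, mul_one]⟩
  · have h : PC4U62.P.gR 13 = (PC4U62.P.gR 12)⁻¹ := (PC4U62.valid.invR_sound 12 (by decide)).2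
    rw [h]
    exact Subgroup.inv_mem _ (Subgroup.subset_closure ⟨[12], by decide, by rw [wordP_cons, wordP_nil, mul_one]⟩)

theorem range_le : f.range ≤ Inst.subG PC2Fi22x.P C2Fi22xB.subs := by
  rw [f, MonoidHom.range_eq_map, ← subG_K_top, embK_emb.map_subG subsK (by decide)]
  exact subG_mono PC2Fi22x.P (by decide)

/-- the word `a^i x^j` -/
def zw (i j : ℕ) : List ℕ := List.replicate i 0 ++ List.replicate j 28

theorem zw_lt : ∀ i, i < 2 → ∀ j, j < 2 → ∀ x ∈ zw i j, x < 32 := by decide +kernel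

theorem zw_moves : ∀ i, i < 2 → ∀ j, j < 2 → ¬ (i = 0 ∧ j = 0) →
    Tab.act C2Fi22xR.T C2Fi22xR.D (zw i j) 0 ≠ 0 := by decide +kernel

theorem wordP_replicate' (n x : ℕ) : wordP gG (List.replicate n x) = gG x ^ n := by
  induction n with
  | zero => simp [wordP_nil]
  | succ n ih => rw [List.replicate_succ, wordP_cons, ih, pow_succ']

theorem wordP_zw (i j : ℕ) : wordP gG (zw i j) = gG 0 ^ i * gG 28 ^ j := by
  rw [zw, wordP_append, wordP_replicate', wordP_replicate']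

theorem phi_ne_one (i j : ℕ) (hi : i < 2) (hj : j < 2) (hne : ¬ (i = 0 ∧ j = 0)) :
    C2Fi22xR.prep.phi (gG 0 ^ i * gG 28 ^ j) ≠ 1 := by
  rw [← wordP_zw]
  intro h1
  have h2 := C2Fi22xR.prep.phi_word (zw i j) (zw_lt i hi j hj) ⟨0, by decide⟩
  rw [h1] at h2
  exact zw_moves i hi j hj hne h2.symm

theorem f_F (p : Multiplicative (ZMod 2 × ZMod 2)) :
    f (C4U62Cover.F p) = gG 0 ^ (Multiplicative.toAdd p).1.val * gG 28 ^ (Multiplicative.toAdd p).2.val := by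
  rw [C4U62Cover.F_apply, map_mul, map_pow, map_pow]
  show f (PC4U62.P.gR 10) ^ _ * f (PC4U62.P.gR 12) ^ _ = _
  rw [f_gR 10 (by decide), f_gR 12 (by decide)]
  rfl

/-- `C4U62` embeds -/
theorem hom_injective : Function.Injective f := by
  have hcomp : Function.Injective (C2Fi22xR.prep.phi.comp f) := by
    apply injective_of_central_simple C4U62Cover.π C4U62Cover.π_surjective
      (by rw [C4U62Cover.ker_eq]; exact C4U62Main.Z_le_center) U62pMain.simple_aux C4U62Cover.perfect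
    · intro x hx hφ
      rw [C4U62Cover.ker_eq, ← C4U62Cover.F_range_eq] at hx
      obtain ⟨p, rfl⟩ := hx
      by_contra hne
      have hp : p ≠ 1 := fun e => hne (by rw [e, map_one])
      have h1 := ZMod.val_lt (Multiplicative.toAdd p).1
      have h2 := ZMod.val_lt (Multiplicative.toAdd p).2
      apply phi_ne_one _ _ h1 h2 _ (by rw [← f_F]; exact hφ)
      rintro ⟨e1, e2⟩
      apply hp
      have e1' : (Multiplicative.toAdd p).1 = 0 := (ZMod.val_eq_zero _).1 e1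
      have e2' : (Multiplicative.toAdd p).2 = 0 := (ZMod.val_eq_zero _).1 e2
      show Multiplicative.toAdd p = 0
      exact Prod.ext e1' e2'
    · refine ⟨PC4U62.P.gR 10, ?_⟩
      show C2Fi22xR.prep.phi (f (PC4U62.P.gR 10)) ≠ 1
      rw [f_gR 10 (by decide)]
      have e : embK 10 = 0 := by decide
      rw [e]
      have h := phi_ne_one 1 0 (by decide) (by decide) (by decide)
      simpa using h
  exact Function.Injective.of_comp hcomp

theorem card_subB : Nat.card (Inst.subG PC2Fi22x.P C2Fi22xB.subs) = 36787322880 := by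
  obtain ⟨fG, _, hcard⟩ := C2Fi22xCover.order_aux
  have h := Subgroup.card_mul_index (Inst.subG PC2Fi22x.P C2Fi22xB.subs)
  rw [C2Fi22xB.index_eq, hcard] at h
  have e : (129123503308800 : ℕ) = 36787322880 * 3510 := by norm_num
  rw [e] at h
  exact Nat.eq_of_mul_eq_mul_right (by norm_num) h

theorem range_eq : f.range = Inst.subG PC2Fi22x.P C2Fi22xB.subs := by
  obtain ⟨fG, _, _⟩ := C2Fi22xCover.order_aux
  have := fG
  obtain ⟨fK, _, cK⟩ := C4U62Cover.order_aux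
  apply Subgroup.eq_of_le_of_card_ge range_le
  rw [card_subB, ← Nat.card_congr (MonoidHom.ofInjective hom_injective).toEquiv, cK]

/-- the words generating the subgroup used for the stem extensions -/
def subs : List (List ℕ) := [[0], [4], [6], [8], [10], [12], [14], [16], [0, 2, 4, 6, 8, 14, 0, 2, 4, 6, 8, 14, 0, 2, 4, 6, 8, 14, 0, 2, 4, 6, 8, 14, 0, 2, 4, 6, 8, 14], [30]]

theorem sub_le : Inst.subG PC2Fi22x.P subs ≤ Inst.subG PC2Fi22x.P C2Fi22xB.subs := subG_mono PC2Fi22x.P (by decide)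

/-- the subgroup lies in an image of `C4U62` -/
theorem sub_card : Finite (Inst.subG PC2Fi22x.P subs) ∧ Nat.card (Inst.subG PC2Fi22x.P subs) ≤ 36787322880 := by
  obtain ⟨fG, _, _⟩ := C2Fi22xCover.order_aux
  have := fG
  refine ⟨inferInstance, ?_⟩
  rw [← card_subB]
  exact Subgroup.card_le_of_le sub_le

/-- stem extensions with kernel of order 2 split over the subgroup -/
theorem liftsP_sub : LiftsP G (Inst.subG PC2Fi22x.P subs) 2 :=
  liftsP_mono sub_le 2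
    (liftsP_of_injective f hom_injective _ range_eq 2 (by norm_num) C4U62Cover.perfect SC4U62p2Main.noStem)

end Cfsg.Agent.Lib.Helper4.C2Fi22xSub
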