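import Cfsg.Agent.Lib.Helper4.TCD_C2G24L_Acc

namespace Cfsg.Agent.Lib.Helper4.TCD.C2G24L

open Cfsg.Agent.Lib.Helper4.TC Cfsg.Agent.Lib.Helper4.TCD.C2G24R

set_option maxRecDepth 100000
set_option Elab.async false

theorem c_p12_19 : allRange chk12 57000 3000 = true := by decide +kernel
theorem c_p12_20 : allRange chk12 60000 3000 = true := by decide +kernel
theorem c_p12_21 : allRange chk12 63000 3000 = true := by decide +kernel
theorem c_p12_22 : allRange chk12 66000 3000 = true := by decide +kernel
theorem c_p12_23 : allRange chk12 69000 3000 = true := by decide +kernel
theorem c_p12_24 : allRange chk12 72000 3000 = true := by decide +kernel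
theorem c_p12_25 : allRange chk12 75000 3000 = true := by decide +kernel
theorem c_p12_26 : allRange chk12 78000 3000 = true := by decide +kernel
theorem c_p12_27 : allRange chk12 81000 2200 = true := by decide +kernel
theorem c_p13_0 : allRange chk13 0 15000 = true := by decide +kernel
theorem c_p13_1 : allRange chk13 15000 15000 = true := by decide +kernel
theorem c_p13_2 : allRange chk13 30000 15000 = true := by decide +kernel
theorem c_p13_3 : allRange chk13 45000 15000 = true := by decide +kernel
theorem c_p13_4 : allRange chk13 60000 15000 = true := by decide +kernel
theorem c_p13_5 : allRange chk13 75000 8200 = true := by decide +kernel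
theorem c_p14_0 : allRange chk14 0 5454 = true := by decide +kernel
theorem c_p14_1 : allRange chk14 5454 5454 = true := by decide +kernel
theorem c_p14_2 : allRange chk14 10908 5454 = true := by decide +kernel
theorem c_p14_3 : allRange chk14 16362 5454 = true := by decide +kernel
theorem c_p14_4 : allRange chk14 21816 5454 = true := by decide +kernel
theorem c_p14_5 : allRange chk14 27270 5454 = true := by decide +kernel
theorem c_p14_6 : allRange chk14 32724 5454 = true := by decide +kernel
theorem c_p14_7 : allRange chk14 38178 5454 = true := by decide +kernel
theorem c_p14_8 : allRange chk14 43632 5454 = true := by decide +kernel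
theorem c_p14_9 : allRange chk14 49086 5454 = true := by decide +kernel
theorem c_p14_10 : allRange chk14 54540 5454 = true := by decide +kernel
theorem c_p14_11 : allRange chk14 59994 5454 = true := by decide +kernel
theorem c_p14_12 : allRange chk14 65448 5454 = true := by decide +kernel
theorem c_p14_13 : allRange chk14 70902 5454 = true := by decide +kernel
theorem c_p14_14 : allRange chk14 76356 5454 = true := by decide +kernel
theorem c_p14_15 : allRange chk14 81810 1390 = true := by decide +kernel
theorem c_p15_0 : allRange chk15 0 15000 = true := by decide +kernel
theorem c_p15_1 : allRange chk15 15000 15000 = true := by decide +kernel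
theorem c_p15_2 : allRange chk15 30000 15000 = true := by decide +kernel
theorem c_p15_3 : allRange chk15 45000 15000 = true := by decide +kernel
theorem c_p15_4 : allRange chk15 60000 15000 = true := by decide +kernel
theorem c_p15_5 : allRange chk15 75000 8200 = true := by decide +kernel
theorem c_nd0_0 : allRange (S.nodeOK 0) 0 5000 = true := by decide +kernel
theorem c_nd0_1 : allRange (S.nodeOK 0) 5000 5000 = true := by decide +kernel
theorem c_nd0_2 : allRange (S.nodeOK 0) 10000 5000 = true := by decide +kernel
theorem c_nd0_3 : allRange (S.nodeOK 0) 15000 5000 = true := by decide +kernel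
theorem c_nd0_4 : allRange (S.nodeOK 0) 20000 5000 = true := by decide +kernel
theorem c_nd0_5 : allRange (S.nodeOK 0) 25000 5000 = true := by decide +kernel
theorem c_nd0_6 : allRange (S.nodeOK 0) 30000 5000 = true := by decide +kernel
theorem c_nd0_7 : allRange (S.nodeOK 0) 35000 5000 = true := by decide +kernel
theorem c_nd0_8 : allRange (S.nodeOK 0) 40000 5000 = true := by decide +kernel
theorem c_nd0_9 : allRange (S.nodeOK 0) 45000 5000 = true := by decide +kernel
theorem c_nd0_10 : allRange (S.nodeOK 0) 50000 5000 = true := by decide +kernel
theorem c_nd0_11 : allRange (S.nodeOK 0) 55000 5000 = true := by decide +kernel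
theorem c_nd0_12 : allRange (S.nodeOK 0) 60000 5000 = true := by decide +kernel
theorem c_nd0_13 : allRange (S.nodeOK 0) 65000 5000 = true := by decide +kernel

end Cfsg.Agent.Lib.Helper4.TCD.C2G24L
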