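import Cfsg.Agent.Lib.Helper4.TCD_C2G24L_Acc

namespace Cfsg.Agent.Lib.Helper4.TCD.C2G24L

open Cfsg.Agent.Lib.Helper4.TC Cfsg.Agent.Lib.Helper4.TCD.C2G24R

set_option maxRecDepth 100000
set_option Elab.async false

theorem c_nd0_14 : allRange (S.nodeOK 0) 70000 5000 = true := by decide +kernel
theorem c_nd0_15 : allRange (S.nodeOK 0) 75000 5000 = true := by decide +kernel
theorem c_nd0_16 : allRange (S.nodeOK 0) 80000 3200 = true := by decide +kernel
theorem c_nd1_0 : allRange (S.nodeOK 1) 0 63 = true := by decide +kernel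
theorem c_nd2_0 : allRange (S.nodeOK 2) 0 24 = true := by decide +kernel
theorem c_nd3_0 : allRange (S.nodeOK 3) 0 4 = true := by decide +kernel

end Cfsg.Agent.Lib.Helper4.TCD.C2G24L
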