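import Cfsg.Agent.Lib.Helper4.TCD_C2G24R_Acc

namespace Cfsg.Agent.Lib.Helper4.TCD.C2G24R

open Cfsg.Agent.Lib.Helper4.TC

set_option maxRecDepth 100000
set_option Elab.async false

theorem c_act1_12 : allRange (fun i => Nat.beq (actR1 i) i) 65448 5454 = true := by decide +kernel
theorem c_act1_13 : allRange (fun i => Nat.beq (actR1 i) i) 70902 5454 = true := by decide +kernel
theorem c_act1_14 : allRange (fun i => Nat.beq (actR1 i) i) 76356 5454 = true := by decide +kernel
theorem c_act1_15 : allRange (fun i => Nat.beq (actR1 i) i) 81810 1390 = true := by decide +kernel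
theorem c_act2_0 : allRange (fun i => Nat.beq (actR2 i) i) 0 5000 = true := by decide +kernel
theorem c_act2_1 : allRange (fun i => Nat.beq (actR2 i) i) 5000 5000 = true := by decide +kernel
theorem c_act2_2 : allRange (fun i => Nat.beq (actR2 i) i) 10000 5000 = true := by decide +kernel
theorem c_act2_3 : allRange (fun i => Nat.beq (actR2 i) i) 15000 5000 = true := by decide +kernel
theorem c_act2_4 : allRange (fun i => Nat.beq (actR2 i) i) 20000 5000 = true := by decide +kernel
theorem c_act2_5 : allRange (fun i => Nat.beq (actR2 i) i) 25000 5000 = true := by decide +kernel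
theorem c_act2_6 : allRange (fun i => Nat.beq (actR2 i) i) 30000 5000 = true := by decide +kernel
theorem c_act2_7 : allRange (fun i => Nat.beq (actR2 i) i) 35000 5000 = true := by decide +kernel
theorem c_act2_8 : allRange (fun i => Nat.beq (actR2 i) i) 40000 5000 = true := by decide +kernel
theorem c_act2_9 : allRange (fun i => Nat.beq (actR2 i) i) 45000 5000 = true := by decide +kernel
theorem c_act2_10 : allRange (fun i => Nat.beq (actR2 i) i) 50000 5000 = true := by decide +kernel
theorem c_act2_11 : allRange (fun i => Nat.beq (actR2 i) i) 55000 5000 = true := by decide +kernel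
theorem c_act2_12 : allRange (fun i => Nat.beq (actR2 i) i) 60000 5000 = true := by decide +kernel
theorem c_act2_13 : allRange (fun i => Nat.beq (actR2 i) i) 65000 5000 = true := by decide +kernel
theorem c_act2_14 : allRange (fun i => Nat.beq (actR2 i) i) 70000 5000 = true := by decide +kernel
theorem c_act2_15 : allRange (fun i => Nat.beq (actR2 i) i) 75000 5000 = true := by decide +kernel
theorem c_act2_16 : allRange (fun i => Nat.beq (actR2 i) i) 80000 3200 = true := by decide +kernel
theorem c_act3_0 : allRange (fun i => Nat.beq (actR3 i) i) 0 5000 = true := by decide +kernel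
theorem c_act3_1 : allRange (fun i => Nat.beq (actR3 i) i) 5000 5000 = true := by decide +kernel
theorem c_act3_2 : allRange (fun i => Nat.beq (actR3 i) i) 10000 5000 = true := by decide +kernel
theorem c_act3_3 : allRange (fun i => Nat.beq (actR3 i) i) 15000 5000 = true := by decide +kernel
theorem c_act3_4 : allRange (fun i => Nat.beq (actR3 i) i) 20000 5000 = true := by decide +kernel
theorem c_act3_5 : allRange (fun i => Nat.beq (actR3 i) i) 25000 5000 = true := by decide +kernel
theorem c_act3_6 : allRange (fun i => Nat.beq (actR3 i) i) 30000 5000 = true := by decide +kernel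
theorem c_act3_7 : allRange (fun i => Nat.beq (actR3 i) i) 35000 5000 = true := by decide +kernel
theorem c_act3_8 : allRange (fun i => Nat.beq (actR3 i) i) 40000 5000 = true := by decide +kernel
theorem c_act3_9 : allRange (fun i => Nat.beq (actR3 i) i) 45000 5000 = true := by decide +kernel
theorem c_act3_10 : allRange (fun i => Nat.beq (actR3 i) i) 50000 5000 = true := by decide +kernel
theorem c_act3_11 : allRange (fun i => Nat.beq (actR3 i) i) 55000 5000 = true := by decide +kernel
theorem c_act3_12 : allRange (fun i => Nat.beq (actR3 i) i) 60000 5000 = true := by decide +kernel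
theorem c_act3_13 : allRange (fun i => Nat.beq (actR3 i) i) 65000 5000 = true := by decide +kernel
theorem c_act3_14 : allRange (fun i => Nat.beq (actR3 i) i) 70000 5000 = true := by decide +kernel
theorem c_act3_15 : allRange (fun i => Nat.beq (actR3 i) i) 75000 5000 = true := by decide +kernel
theorem c_act3_16 : allRange (fun i => Nat.beq (actR3 i) i) 80000 3200 = true := by decide +kernel
theorem c_act4_0 : allRange (fun i => Nat.beq (actR4 i) i) 0 20000 = true := by decide +kernel
theorem c_act4_1 : allRange (fun i => Nat.beq (actR4 i) i) 20000 20000 = true := by decide +kernel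
theorem c_act4_2 : allRange (fun i => Nat.beq (actR4 i) i) 40000 20000 = true := by decide +kernel
theorem c_act4_3 : allRange (fun i => Nat.beq (actR4 i) i) 60000 20000 = true := by decide +kernel
theorem c_act4_4 : allRange (fun i => Nat.beq (actR4 i) i) 80000 3200 = true := by decide +kernel
theorem c_act5_0 : allRange (fun i => Nat.beq (actR5 i) i) 0 5454 = true := by decide +kernel
theorem c_act5_1 : allRange (fun i => Nat.beq (actR5 i) i) 5454 5454 = true := by decide +kernel
theorem c_act5_2 : allRange (fun i => Nat.beq (actR5 i) i) 10908 5454 = true := by decide +kernel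
theorem c_act5_3 : allRange (fun i => Nat.beq (actR5 i) i) 16362 5454 = true := by decide +kernel
theorem c_act5_4 : allRange (fun i => Nat.beq (actR5 i) i) 21816 5454 = true := by decide +kernel
theorem c_act5_5 : allRange (fun i => Nat.beq (actR5 i) i) 27270 5454 = true := by decide +kernel
theorem c_act5_6 : allRange (fun i => Nat.beq (actR5 i) i) 32724 5454 = true := by decide +kernel
theorem c_act5_7 : allRange (fun i => Nat.beq (actR5 i) i) 38178 5454 = true := by decide +kernel
theorem c_act5_8 : allRange (fun i => Nat.beq (actR5 i) i) 43632 5454 = true := by decide +kernel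

end Cfsg.Agent.Lib.Helper4.TCD.C2G24R
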