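import Cfsg.Agent.Lib.Helper4.TCD_C2G24R_Acc

namespace Cfsg.Agent.Lib.Helper4.TCD.C2G24R

open Cfsg.Agent.Lib.Helper4.TC

set_option maxRecDepth 100000
set_option Elab.async false

theorem c_act5_9 : allRange (fun i => Nat.beq (actR5 i) i) 49086 5454 = true := by decide +kernel
theorem c_act5_10 : allRange (fun i => Nat.beq (actR5 i) i) 54540 5454 = true := by decide +kernel
theorem c_act5_11 : allRange (fun i => Nat.beq (actR5 i) i) 59994 5454 = true := by decide +kernel
theorem c_act5_12 : allRange (fun i => Nat.beq (actR5 i) i) 65448 5454 = true := by decide +kernel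
theorem c_act5_13 : allRange (fun i => Nat.beq (actR5 i) i) 70902 5454 = true := by decide +kernel
theorem c_act5_14 : allRange (fun i => Nat.beq (actR5 i) i) 76356 5454 = true := by decide +kernel
theorem c_act5_15 : allRange (fun i => Nat.beq (actR5 i) i) 81810 1390 = true := by decide +kernel
theorem c_act6_0 : allRange (fun i => Nat.beq (actR6 i) i) 0 4615 = true := by decide +kernel
theorem c_act6_1 : allRange (fun i => Nat.beq (actR6 i) i) 4615 4615 = true := by decide +kernel
theorem c_act6_2 : allRange (fun i => Nat.beq (actR6 i) i) 9230 4615 = true := by decide +kernel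
theorem c_act6_3 : allRange (fun i => Nat.beq (actR6 i) i) 13845 4615 = true := by decide +kernel
theorem c_act6_4 : allRange (fun i => Nat.beq (actR6 i) i) 18460 4615 = true := by decide +kernel
theorem c_act6_5 : allRange (fun i => Nat.beq (actR6 i) i) 23075 4615 = true := by decide +kernel
theorem c_act6_6 : allRange (fun i => Nat.beq (actR6 i) i) 27690 4615 = true := by decide +kernel
theorem c_act6_7 : allRange (fun i => Nat.beq (actR6 i) i) 32305 4615 = true := by decide +kernel
theorem c_act6_8 : allRange (fun i => Nat.beq (actR6 i) i) 36920 4615 = true := by decide +kernel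
theorem c_act6_9 : allRange (fun i => Nat.beq (actR6 i) i) 41535 4615 = true := by decide +kernel
theorem c_act6_10 : allRange (fun i => Nat.beq (actR6 i) i) 46150 4615 = true := by decide +kernel
theorem c_act6_11 : allRange (fun i => Nat.beq (actR6 i) i) 50765 4615 = true := by decide +kernel
theorem c_act6_12 : allRange (fun i => Nat.beq (actR6 i) i) 55380 4615 = true := by decide +kernel
theorem c_act6_13 : allRange (fun i => Nat.beq (actR6 i) i) 59995 4615 = true := by decide +kernel
theorem c_act6_14 : allRange (fun i => Nat.beq (actR6 i) i) 64610 4615 = true := by decide +kernel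
theorem c_act6_15 : allRange (fun i => Nat.beq (actR6 i) i) 69225 4615 = true := by decide +kernel
theorem c_act6_16 : allRange (fun i => Nat.beq (actR6 i) i) 73840 4615 = true := by decide +kernel
theorem c_act6_17 : allRange (fun i => Nat.beq (actR6 i) i) 78455 4615 = true := by decide +kernel
theorem c_act6_18 : allRange (fun i => Nat.beq (actR6 i) i) 83070 130 = true := by decide +kernel
theorem c_act7_0 : allRange (fun i => Nat.beq (actR7 i) i) 0 20000 = true := by decide +kernel
theorem c_act7_1 : allRange (fun i => Nat.beq (actR7 i) i) 20000 20000 = true := by decide +kernel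
theorem c_act7_2 : allRange (fun i => Nat.beq (actR7 i) i) 40000 20000 = true := by decide +kernel
theorem c_act7_3 : allRange (fun i => Nat.beq (actR7 i) i) 60000 20000 = true := by decide +kernel
theorem c_act7_4 : allRange (fun i => Nat.beq (actR7 i) i) 80000 3200 = true := by decide +kernel
theorem c_act8_0 : allRange (fun i => Nat.beq (actR8 i) i) 0 6666 = true := by decide +kernel
theorem c_act8_1 : allRange (fun i => Nat.beq (actR8 i) i) 6666 6666 = true := by decide +kernel
theorem c_act8_2 : allRange (fun i => Nat.beq (actR8 i) i) 13332 6666 = true := by decide +kernel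
theorem c_act8_3 : allRange (fun i => Nat.beq (actR8 i) i) 19998 6666 = true := by decide +kernel
theorem c_act8_4 : allRange (fun i => Nat.beq (actR8 i) i) 26664 6666 = true := by decide +kernel
theorem c_act8_5 : allRange (fun i => Nat.beq (actR8 i) i) 33330 6666 = true := by decide +kernel
theorem c_act8_6 : allRange (fun i => Nat.beq (actR8 i) i) 39996 6666 = true := by decide +kernel
theorem c_act8_7 : allRange (fun i => Nat.beq (actR8 i) i) 46662 6666 = true := by decide +kernel
theorem c_act8_8 : allRange (fun i => Nat.beq (actR8 i) i) 53328 6666 = true := by decide +kernel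
theorem c_act8_9 : allRange (fun i => Nat.beq (actR8 i) i) 59994 6666 = true := by decide +kernel
theorem c_act8_10 : allRange (fun i => Nat.beq (actR8 i) i) 66660 6666 = true := by decide +kernel
theorem c_act8_11 : allRange (fun i => Nat.beq (actR8 i) i) 73326 6666 = true := by decide +kernel
theorem c_act8_12 : allRange (fun i => Nat.beq (actR8 i) i) 79992 3208 = true := by decide +kernel
theorem c_act9_0 : allRange (fun i => Nat.beq (actR9 i) i) 0 5454 = true := by decide +kernel
theorem c_act9_1 : allRange (fun i => Nat.beq (actR9 i) i) 5454 5454 = true := by decide +kernel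
theorem c_act9_2 : allRange (fun i => Nat.beq (actR9 i) i) 10908 5454 = true := by decide +kernel
theorem c_act9_3 : allRange (fun i => Nat.beq (actR9 i) i) 16362 5454 = true := by decide +kernel
theorem c_act9_4 : allRange (fun i => Nat.beq (actR9 i) i) 21816 5454 = true := by decide +kernel
theorem c_act9_5 : allRange (fun i => Nat.beq (actR9 i) i) 27270 5454 = true := by decide +kernel
theorem c_act9_6 : allRange (fun i => Nat.beq (actR9 i) i) 32724 5454 = true := by decide +kernel
theorem c_act9_7 : allRange (fun i => Nat.beq (actR9 i) i) 38178 5454 = true := by decide +kernel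
theorem c_act9_8 : allRange (fun i => Nat.beq (actR9 i) i) 43632 5454 = true := by decide +kernel

end Cfsg.Agent.Lib.Helper4.TCD.C2G24R
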