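import Cfsg.Agent.Lib.Helper4.TCD_C2G24R_Acc

namespace Cfsg.Agent.Lib.Helper4.TCD.C2G24R

open Cfsg.Agent.Lib.Helper4.TC

set_option maxRecDepth 100000
set_option Elab.async false

theorem c_act9_9 : allRange (fun i => Nat.beq (actR9 i) i) 49086 5454 = true := by decide +kernel
theorem c_act9_10 : allRange (fun i => Nat.beq (actR9 i) i) 54540 5454 = true := by decide +kernel
theorem c_act9_11 : allRange (fun i => Nat.beq (actR9 i) i) 59994 5454 = true := by decide +kernel
theorem c_act9_12 : allRange (fun i => Nat.beq (actR9 i) i) 65448 5454 = true := by decide +kernel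
theorem c_act9_13 : allRange (fun i => Nat.beq (actR9 i) i) 70902 5454 = true := by decide +kernel
theorem c_act9_14 : allRange (fun i => Nat.beq (actR9 i) i) 76356 5454 = true := by decide +kernel
theorem c_act9_15 : allRange (fun i => Nat.beq (actR9 i) i) 81810 1390 = true := by decide +kernel
theorem c_act10_0 : allRange (fun i => Nat.beq (actR10 i) i) 0 3529 = true := by decide +kernel
theorem c_act10_1 : allRange (fun i => Nat.beq (actR10 i) i) 3529 3529 = true := by decide +kernel
theorem c_act10_2 : allRange (fun i => Nat.beq (actR10 i) i) 7058 3529 = true := by decide +kernel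
theorem c_act10_3 : allRange (fun i => Nat.beq (actR10 i) i) 10587 3529 = true := by decide +kernel
theorem c_act10_4 : allRange (fun i => Nat.beq (actR10 i) i) 14116 3529 = true := by decide +kernel
theorem c_act10_5 : allRange (fun i => Nat.beq (actR10 i) i) 17645 3529 = true := by decide +kernel
theorem c_act10_6 : allRange (fun i => Nat.beq (actR10 i) i) 21174 3529 = true := by decide +kernel
theorem c_act10_7 : allRange (fun i => Nat.beq (actR10 i) i) 24703 3529 = true := by decide +kernel
theorem c_act10_8 : allRange (fun i => Nat.beq (actR10 i) i) 28232 3529 = true := by decide +kernel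
theorem c_act10_9 : allRange (fun i => Nat.beq (actR10 i) i) 31761 3529 = true := by decide +kernel
theorem c_act10_10 : allRange (fun i => Nat.beq (actR10 i) i) 35290 3529 = true := by decide +kernel
theorem c_act10_11 : allRange (fun i => Nat.beq (actR10 i) i) 38819 3529 = true := by decide +kernel
theorem c_act10_12 : allRange (fun i => Nat.beq (actR10 i) i) 42348 3529 = true := by decide +kernel
theorem c_act10_13 : allRange (fun i => Nat.beq (actR10 i) i) 45877 3529 = true := by decide +kernel
theorem c_act10_14 : allRange (fun i => Nat.beq (actR10 i) i) 49406 3529 = true := by decide +kernel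
theorem c_act10_15 : allRange (fun i => Nat.beq (actR10 i) i) 52935 3529 = true := by decide +kernel
theorem c_act10_16 : allRange (fun i => Nat.beq (actR10 i) i) 56464 3529 = true := by decide +kernel
theorem c_act10_17 : allRange (fun i => Nat.beq (actR10 i) i) 59993 3529 = true := by decide +kernel
theorem c_act10_18 : allRange (fun i => Nat.beq (actR10 i) i) 63522 3529 = true := by decide +kernel
theorem c_act10_19 : allRange (fun i => Nat.beq (actR10 i) i) 67051 3529 = true := by decide +kernel
theorem c_act10_20 : allRange (fun i => Nat.beq (actR10 i) i) 70580 3529 = true := by decide +kernel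
theorem c_act10_21 : allRange (fun i => Nat.beq (actR10 i) i) 74109 3529 = true := by decide +kernel
theorem c_act10_22 : allRange (fun i => Nat.beq (actR10 i) i) 77638 3529 = true := by decide +kernel
theorem c_act10_23 : allRange (fun i => Nat.beq (actR10 i) i) 81167 2033 = true := by decide +kernel
theorem c_act11_0 : allRange (fun i => Nat.beq (actR11 i) i) 0 30000 = true := by decide +kernel
theorem c_act11_1 : allRange (fun i => Nat.beq (actR11 i) i) 30000 30000 = true := by decide +kernel
theorem c_act11_2 : allRange (fun i => Nat.beq (actR11 i) i) 60000 23200 = true := by decide +kernel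
theorem c_act12_0 : allRange (fun i => Nat.beq (actR12 i) i) 0 15000 = true := by decide +kernel
theorem c_act12_1 : allRange (fun i => Nat.beq (actR12 i) i) 15000 15000 = true := by decide +kernel
theorem c_act12_2 : allRange (fun i => Nat.beq (actR12 i) i) 30000 15000 = true := by decide +kernel
theorem c_act12_3 : allRange (fun i => Nat.beq (actR12 i) i) 45000 15000 = true := by decide +kernel
theorem c_act12_4 : allRange (fun i => Nat.beq (actR12 i) i) 60000 15000 = true := by decide +kernel
theorem c_act12_5 : allRange (fun i => Nat.beq (actR12 i) i) 75000 8200 = true := by decide +kernel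
theorem c_act13_0 : allRange (fun i => Nat.beq (actR13 i) i) 0 15000 = true := by decide +kernel
theorem c_act13_1 : allRange (fun i => Nat.beq (actR13 i) i) 15000 15000 = true := by decide +kernel
theorem c_act13_2 : allRange (fun i => Nat.beq (actR13 i) i) 30000 15000 = true := by decide +kernel
theorem c_act13_3 : allRange (fun i => Nat.beq (actR13 i) i) 45000 15000 = true := by decide +kernel
theorem c_act13_4 : allRange (fun i => Nat.beq (actR13 i) i) 60000 15000 = true := by decide +kernel
theorem c_act13_5 : allRange (fun i => Nat.beq (actR13 i) i) 75000 8200 = true := by decide +kernel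
theorem c_act14_0 : allRange (fun i => Nat.beq (actR14 i) i) 0 15000 = true := by decide +kernel
theorem c_act14_1 : allRange (fun i => Nat.beq (actR14 i) i) 15000 15000 = true := by decide +kernel
theorem c_act14_2 : allRange (fun i => Nat.beq (actR14 i) i) 30000 15000 = true := by decide +kernel
theorem c_act14_3 : allRange (fun i => Nat.beq (actR14 i) i) 45000 15000 = true := by decide +kernel
theorem c_act14_4 : allRange (fun i => Nat.beq (actR14 i) i) 60000 15000 = true := by decide +kernel
theorem c_act14_5 : allRange (fun i => Nat.beq (actR14 i) i) 75000 8200 = true := by decide +kernel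

end Cfsg.Agent.Lib.Helper4.TCD.C2G24R
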