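import Cfsg.Agent.Lib.Helper4.TCD_C2G24R_C0
import Cfsg.Agent.Lib.Helper4.TCD_C2G24R_C1
import Cfsg.Agent.Lib.Helper4.TCD_C2G24R_C2
import Cfsg.Agent.Lib.Helper4.TCD_C2G24R_C3
import Cfsg.Agent.Lib.Helper4.TCD_C2G24R_C4

namespace Cfsg.Agent.Lib.Helper4.TCD.C2G24R

open Cfsg.Agent.Lib.Helper4.TC

theorem h_perm : ∀ i, 0 ≤ i → i < 83200 → ∀ x, x < 10 → T.permOK1 D i x = true :=
  (range_glue (range_of_allGrid c_perm_0) (range_glue (range_of_allGrid c_perm_1) (range_glue (range_of_allGrid c_perm_2) (range_glue (range_of_allGrid c_perm_3) (range_glue (range_of_allGrid c_perm_4) (range_glue (range_of_allGrid c_perm_5) (range_glue (range_of_allGrid c_perm_6) (range_glue (range_of_allGrid c_perm_7) (range_glue (range_of_allGrid c_perm_8) (range_glue (range_of_allGrid c_perm_9) (range_glue (range_of_allGrid c_perm_10) (range_glue (range_of_allGrid c_perm_11) (range_glue (range_of_allGrid c_perm_12) (range_glue (range_of_allGrid c_perm_13) (range_glue (range_of_allGrid c_perm_14) (range_glue (range_of_allGrid c_perm_15) (range_glue (range_of_allGrid c_perm_16) (range_glue (range_of_allGrid c_perm_17) (range_glue (range_of_allGrid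 c_perm_18) (range_glue (range_of_allGrid c_perm_19) (range_glue (range_of_allGrid c_perm_20) (range_glue (range_of_allGrid c_perm_21) (range_glue (range_of_allGrid c_perm_22) (range_glue (range_of_allGrid c_perm_23) (range_glue (range_of_allGrid c_perm_24) (range_glue (range_of_allGrid c_perm_25) (range_glue (range_of_allGrid c_perm_26) (range_of_allGrid c_perm_27))))))))))))))))))))))))))))
theorem h_act0 : ∀ i, 0 ≤ i → i < 83200 → Nat.beq (actR0 i) i = true :=
  (range_glue (range_of_allRange c_act0_0) (range_glue (range_of_allRange c_act0_1) (range_glue (range_of_allRange c_act0_2) (range_glue (range_of_allRange c_act0_3) (range_glue (range_of_allRange c_act0_4) (range_glue (range_of_allRange c_act0_5) (range_glue (range_of_allRange c_act0_6) (range_glue (range_of_allRange c_act0_7) (range_glue (range_of_allRange c_act0_8) (range_of_allRange c_act0_9))))))))))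
theorem h_act1 : ∀ i, 0 ≤ i → i < 83200 → Nat.beq (actR1 i) i = true :=
  (range_glue (range_of_allRange c_act1_0) (range_glue (range_of_allRange c_act1_1) (range_glue (range_of_allRange c_act1_2) (range_glue (range_of_allRange c_act1_3) (range_glue (range_of_allRange c_act1_4) (range_glue (range_of_allRange c_act1_5) (range_glue (range_of_allRange c_act1_6) (range_glue (range_of_allRange c_act1_7) (range_glue (range_of_allRange c_act1_8) (range_glue (range_of_allRange c_act1_9) (range_glue (range_of_allRange c_act1_10) (range_glue (range_of_allRange c_act1_11) (range_glue (range_of_allRange c_act1_12) (range_glue (range_of_allRange c_act1_13) (range_glue (range_of_allRange c_act1_14) (range_of_allRange c_act1_15))))))))))))))))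
theorem h_act2 : ∀ i, 0 ≤ i → i < 83200 → Nat.beq (actR2 i) i = true :=
  (range_glue (range_of_allRange c_act2_0) (range_glue (range_of_allRange c_act2_1) (range_glue (range_of_allRange c_act2_2) (range_glue (range_of_allRange c_act2_3) (range_glue (range_of_allRange c_act2_4) (range_glue (range_of_allRange c_act2_5) (range_glue (range_of_allRange c_act2_6) (range_glue (range_of_allRange c_act2_7) (range_glue (range_of_allRange c_act2_8) (range_glue (range_of_allRange c_act2_9) (range_glue (range_of_allRange c_act2_10) (range_glue (range_of_allRange c_act2_11) (range_glue (range_of_allRange c_act2_12) (range_glue (range_of_allRange c_act2_13) (range_glue (range_of_allRange c_act2_14) (range_glue (range_of_allRange c_act2_15) (range_of_allRange c_act2_16)))))))))))))))))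
theorem h_act3 : ∀ i, 0 ≤ i → i < 83200 → Nat.beq (actR3 i) i = true :=
  (range_glue (range_of_allRange c_act3_0) (range_glue (range_of_allRange c_act3_1) (range_glue (range_of_allRange c_act3_2) (range_glue (range_of_allRange c_act3_3) (range_glue (range_of_allRange c_act3_4) (range_glue (range_of_allRange c_act3_5) (range_glue (range_of_allRange c_act3_6) (range_glue (range_of_allRange c_act3_7) (range_glue (range_of_allRange c_act3_8) (range_glue (range_of_allRange c_act3_9) (range_glue (range_of_allRange c_act3_10) (range_glue (range_of_allRange c_act3_11) (range_glue (range_of_allRange c_act3_12) (range_glue (range_of_allRange c_act3_13) (range_glue (range_of_allRange c_act3_14) (range_glue (range_of_allRange c_act3_15) (range_of_allRange c_act3_16)))))))))))))))))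
theorem h_act4 : ∀ i, 0 ≤ i → i < 83200 → Nat.beq (actR4 i) i = true :=
  (range_glue (range_of_allRange c_act4_0) (range_glue (range_of_allRange c_act4_1) (range_glue (range_of_allRange c_act4_2) (range_glue (range_of_allRange c_act4_3) (range_of_allRange c_act4_4)))))
theorem h_act5 : ∀ i, 0 ≤ i → i < 83200 → Nat.beq (actR5 i) i = true :=
  (range_glue (range_of_allRange c_act5_0) (range_glue (range_of_allRange c_act5_1) (range_glue (range_of_allRange c_act5_2) (range_glue (range_of_allRange c_act5_3) (range_glue (range_of_allRange c_act5_4) (range_glue (range_of_allRange c_act5_5) (range_glue (range_of_allRange c_act5_6) (range_glue (range_of_allRange c_act5_7) (range_glue (range_of_allRange c_act5_8) (range_glue (range_of_allRange c_act5_9) (range_glue (range_of_allRange c_act5_10) (range_glue (range_of_allRange c_act5_11) (range_glue (range_of_allRange c_act5_12) (range_glue (range_of_allRange c_act5_13) (range_glue (range_of_allRange c_act5_14) (range_of_allRange c_act5_15))))))))))))))))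
theorem h_act6 : ∀ i, 0 ≤ i → i < 83200 → Nat.beq (actR6 i) i = true :=
  (range_glue (range_of_allRange c_act6_0) (range_glue (range_of_allRange c_act6_1) (range_glue (range_of_allRange c_act6_2) (range_glue (range_of_allRange c_act6_3) (range_glue (range_of_allRange c_act6_4) (range_glue (range_of_allRange c_act6_5) (range_glue (range_of_allRange c_act6_6) (range_glue (range_of_allRange c_act6_7) (range_glue (range_of_allRange c_act6_8) (range_glue (range_of_allRange c_act6_9) (range_glue (range_of_allRange c_act6_10) (range_glue (range_of_allRange c_act6_11) (range_glue (range_of_allRange c_act6_12) (range_glue (range_of_allRange c_act6_13) (range_glue (range_of_allRange c_act6_14) (range_glue (range_of_allRange c_act6_15) (range_glue (range_of_allRange c_act6_16) (range_glue (range_of_allRange c_act6_17) (range_of_allRange c_act6_18)))))))))))))))))))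
theorem h_act7 : ∀ i, 0 ≤ i → i < 83200 → Nat.beq (actR7 i) i = true :=
  (range_glue (range_of_allRange c_act7_0) (range_glue (range_of_allRange c_act7_1) (range_glue (range_of_allRange c_act7_2) (range_glue (range_of_allRange c_act7_3) (range_of_allRange c_act7_4)))))
theorem h_act8 : ∀ i, 0 ≤ i → i < 83200 → Nat.beq (actR8 i) i = true :=
  (range_glue (range_of_allRange c_act8_0) (range_glue (range_of_allRange c_act8_1) (range_glue (range_of_allRange c_act8_2) (range_glue (range_of_allRange c_act8_3) (range_glue (range_of_allRange c_act8_4) (range_glue (range_of_allRange c_act8_5) (range_glue (range_of_allRange c_act8_6) (range_glue (range_of_allRange c_act8_7) (range_glue (range_of_allRange c_act8_8) (range_glue (range_of_allRange c_act8_9) (range_glue (range_of_allRange c_act8_10) (range_glue (range_of_allRange c_act8_11) (range_of_allRange c_act8_12)))))))))))))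
theorem h_act9 : ∀ i, 0 ≤ i → i < 83200 → Nat.beq (actR9 i) i = true :=
  (range_glue (range_of_allRange c_act9_0) (range_glue (range_of_allRange c_act9_1) (range_glue (range_of_allRange c_act9_2) (range_glue (range_of_allRange c_act9_3) (range_glue (range_of_allRange c_act9_4) (range_glue (range_of_allRange c_act9_5) (range_glue (range_of_allRange c_act9_6) (range_glue (range_of_allRange c_act9_7) (range_glue (range_of_allRange c_act9_8) (range_glue (range_of_allRange c_act9_9) (range_glue (range_of_allRange c_act9_10) (range_glue (range_of_allRange c_act9_11) (range_glue (range_of_allRange c_act9_12) (range_glue (range_of_allRange c_act9_13) (range_glue (range_of_allRange c_act9_14) (range_of_allRange c_act9_15))))))))))))))))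
theorem h_act10 : ∀ i, 0 ≤ i → i < 83200 → Nat.beq (actR10 i) i = true :=
  (range_glue (range_of_allRange c_act10_0) (range_glue (range_of_allRange c_act10_1) (range_glue (range_of_allRange c_act10_2) (range_glue (range_of_allRange c_act10_3) (range_glue (range_of_allRange c_act10_4) (range_glue (range_of_allRange c_act10_5) (range_glue (range_of_allRange c_act10_6) (range_glue (range_of_allRange c_act10_7) (range_glue (range_of_allRange c_act10_8) (range_glue (range_of_allRange c_act10_9) (range_glue (range_of_allRange c_act10_10) (range_glue (range_of_allRange c_act10_11) (range_glue (range_of_allRange c_act10_12) (range_glue (range_of_allRange c_act10_13) (range_glue (range_of_allRange c_act10_14) (range_glue (range_of_allRange c_act10_15) (range_glue (range_of_allRange c_act10_16) (range_glue (range_of_allRange c_act10_17) (range_glue (range_of_allRange c_act10_18) (range_glue (range_of_allRange c_act10_19) (range_glue (range_of_allRange c_act10_20) (range_glue (range_of_allRange c_act10_21) (range_glue (range_of_allRange c_act10_22) (range_of_allRange c_act10_23))))))))))))))))))))))))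
theorem h_act11 : ∀ i, 0 ≤ i → i < 83200 → Nat.beq (actR11 i) i = true :=
  (range_glue (range_of_allRange c_act11_0) (range_glue (range_of_allRange c_act11_1) (range_of_allRange c_act11_2)))
theorem h_act12 : ∀ i, 0 ≤ i → i < 83200 → Nat.beq (actR12 i) i = true :=
  (range_glue (range_of_allRange c_act12_0) (range_glue (range_of_allRange c_act12_1) (range_glue (range_of_allRange c_act12_2) (range_glue (range_of_allRange c_act12_3) (range_glue (range_of_allRange c_act12_4) (range_of_allRange c_act12_5))))))
theorem h_act13 : ∀ i, 0 ≤ i → i < 83200 → Nat.beq (actR13 i) i = true :=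
  (range_glue (range_of_allRange c_act13_0) (range_glue (range_of_allRange c_act13_1) (range_glue (range_of_allRange c_act13_2) (range_glue (range_of_allRange c_act13_3) (range_glue (range_of_allRange c_act13_4) (range_of_allRange c_act13_5))))))
theorem h_act14 : ∀ i, 0 ≤ i → i < 83200 → Nat.beq (actR14 i) i = true :=
  (range_glue (range_of_allRange c_act14_0) (range_glue (range_of_allRange c_act14_1) (range_glue (range_of_allRange c_act14_2) (range_glue (range_of_allRange c_act14_3) (range_glue (range_of_allRange c_act14_4) (range_of_allRange c_act14_5))))))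
theorem h_act15 : ∀ i, 0 ≤ i → i < 83200 → Nat.beq (actR15 i) i = true :=
  (range_glue (range_of_allRange c_act15_0) (range_glue (range_of_allRange c_act15_1) (range_glue (range_of_allRange c_act15_2) (range_glue (range_of_allRange c_act15_3) (range_glue (range_of_allRange c_act15_4) (range_of_allRange c_act15_5))))))

theorem h_act : ∀ L ∈ PC2G24.P.real, ∀ i, i < T.N → Tab.relActOK T D L i = true := by
  rw [c_real]
  intro L hL
  simp only [realLit, List.mem_cons, List.not_mem_nil, or_false] at hL
  rcases hL with rfl | rfl | rfl | rfl | rfl | rfl | rfl | rfl | rfl | rfl | rfl | rfl | rfl | rfl | rfl | rfl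
  · intro i hi
    rw [Tab.relActOK, ← actR0_eq]
    exact h_act0 i (Nat.zero_le _) hi
  · intro i hi
    rw [Tab.relActOK, ← actR1_eq]
    exact h_act1 i (Nat.zero_le _) hi
  · intro i hi
    rw [Tab.relActOK, ← actR2_eq]
    exact h_act2 i (Nat.zero_le _) hi
  · intro i hi
    rw [Tab.relActOK, ← actR3_eq]
    exact h_act3 i (Nat.zero_le _) hi
  · intro i hi
    rw [Tab.relActOK, ← actR4_eq]
    exact h_act4 i (Nat.zero_le _) hi
  · intro i hi
    rw [Tab.relActOK, ← actR5_eq]
    exact h_act5 i (Nat.zero_le _) hi
  · intro i hi
    rw [Tab.relActOK, ← actR6_eq]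
    exact h_act6 i (Nat.zero_le _) hi
  · intro i hi
    rw [Tab.relActOK, ← actR7_eq]
    exact h_act7 i (Nat.zero_le _) hi
  · intro i hi
    rw [Tab.relActOK, ← actR8_eq]
    exact h_act8 i (Nat.zero_le _) hi
  · intro i hi
    rw [Tab.relActOK, ← actR9_eq]
    exact h_act9 i (Nat.zero_le _) hi
  · intro i hi
    rw [Tab.relActOK, ← actR10_eq]
    exact h_act10 i (Nat.zero_le _) hi
  · intro i hi
    rw [Tab.relActOK, ← actR11_eq]
    exact h_act11 i (Nat.zero_le _) hi
  · intro i hi
    rw [Tab.relActOK, ← actR12_eq]
    exact h_act12 i (Nat.zero_le _) hi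
  · intro i hi
    rw [Tab.relActOK, ← actR13_eq]
    exact h_act13 i (Nat.zero_le _) hi
  · intro i hi
    rw [Tab.relActOK, ← actR14_eq]
    exact h_act14 i (Nat.zero_le _) hi
  · intro i hi
    rw [Tab.relActOK, ← actR15_eq]
    exact h_act15 i (Nat.zero_le _) hi

theorem prep : PRep PC2G24.P T D where
  hP := PC2G24.valid
  hk := rfl
  hinv := fun _ _ => rfl
  hperm := fun i x hi hx => h_perm i (Nat.zero_le _) hi x hx
  hlet := fun x hx => allBelow_eq_true.1 c_let x hx
  hact := h_act

end Cfsg.Agent.Lib.Helper4.TCD.C2G24R
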