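import Mathlib
import Cfsg.Agent.Lib.Helper8.IcoG3
import Cfsg.Agent.Lib.Helper4.J2pMain
import Cfsg.Agent.Lib.Helper4.TC20

/-!
The presented group `J2p` is isomorphic to the Hall-Janko group `Cfsg.Spor.J2`: it maps onto the permutation group
of degree 315 generated by four involutions (the images of four reflections, see `Cfsg.Agent.Lib.Helper8.J2L`), and
both groups have order 604800.
-/

set_option autoImplicit false

namespace Cfsg.Agent.Lib.Helper4.J2pIso

open Cfsg.Agent.Lib.Helper4.TC Cfsg.Agent.Lib.Helper4.TCD Cfsg.Agent.Lib.Helper4.TC.Log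
open Cfsg.Agent.Lib.Helper8 Cfsg.Agent.Lib.Helper8.SS

local notation "pN" => J2L.pN
local notation "pM" => J2L.pM

/-- the letters of `J2p` as words in the four generating permutations of degree 315 -/
def Wp (l : ℕ) : List ℕ := [[4, 2, 1, 3], [3, 1, 2, 4], [3, 2, 1, 2, 4, 1, 3, 2, 1, 2, 4, 1, 3, 2, 1, 2, 4, 1], [1, 4, 2, 1, 2, 3, 1, 4, 2, 1, 2, 3, 1, 4, 2, 1, 2, 3], [4, 3, 4, 1, 2, 1, 4, 1, 2, 3, 2, 4, 3, 4, 1, 2, 1, 4, 1, 2, 3, 2, 4, 3, 4, 1, 2, 1, 4, 1, 2, 3, 2], [2, 3, 2, 1, 4, 1, 2, 1, 4, 3, 4, 2, 3, 2, 1, 4, 1, 2, 1, 4, 3, 4, 2, 3, 2, 1, 4, 1, 2, 1, 4, 3, 4]].getD l []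

/-- the four generating permutations as words of `J2p` -/
def Pw (i : ℕ) : List ℕ := [[], [1, 2, 1, 2, 2, 1, 2, 0], [2, 1, 1, 1, 3, 1, 2, 2, 4, 0, 2, 4, 3], [1, 3, 0, 2, 0, 2, 0, 3, 0, 4, 0, 2, 0, 4, 2], [0, 2, 0, 2, 0, 2, 0, 2]].getD i []

/-- the images of the letters -/
noncomputable def gφ (l : ℕ) : Equiv.Perm (Fin 315) := prodW 315 pN pM (Wp l)

theorem wordP_gφ (L : List ℕ) : wordP gφ L = prodW 315 pN pM (L.flatMap Wp) := by
  induction L with
  | nil =>
    rw [wordP_nil, List.flatMap_nil, prodW_nil]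
  | cons x L ih =>
    rw [wordP_cons, ih, List.flatMap_cons, prodW_append, gφ]

/-- the words to be checked: the relators and the inverse pairs -/
def chk : List (List ℕ) := PJ2p.P.real.map (fun L => L.flatMap Wp) ++
  (List.range 6).map (fun l => Wp l ++ Wp (PJ2p.P.invR l))

theorem chk_lt : ∀ w ∈ chk, ∀ i ∈ w, i < 418 := by decide +kernel

theorem chk_ev : ∀ w ∈ chk, ∀ x < 315, ev pN w x = x := by decide +kernel

theorem prodW_one (w : List ℕ) (hw : w ∈ chk) : prodW 315 pN pM w = 1 := by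
  have h := prodW_eq_of_ev 315 pN pM (w := w) (w' := [])
    (fun i hi => J2L.valid_all i (chk_lt w hw i hi)) (fun i hi => absurd hi (List.not_mem_nil))
    (fun x hx => chk_ev w hw x hx)
  rw [h, prodW_nil]

theorem exists_φ : ∃ φ : PJ2p.P.Grp →* Equiv.Perm (Fin 315), ∀ l, l < PJ2p.P.k →
    φ (PJ2p.P.gR l) = gφ l := by
  apply exists_hom_of_letters PJ2p.P PJ2p.valid gφ
  · intro l hl
    have hl : l < 6 := hl
    show prodW 315 pN pM (Wp l) * prodW 315 pN pM (Wp (PJ2p.P.invR l)) = 1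
    rw [← prodW_append]
    apply prodW_one
    apply List.mem_append_right
    exact List.mem_map.2 ⟨l, List.mem_range.2 hl, rfl⟩
  · intro L hL
    rw [wordP_gφ]
    apply prodW_one
    apply List.mem_append_left
    exact List.mem_map.2 ⟨L, hL, rfl⟩

/-- the homomorphism to the permutations of degree 315 -/
noncomputable def φ : PJ2p.P.Grp →* Equiv.Perm (Fin 315) := Classical.choose exists_φ

theorem φ_gR (l : ℕ) (hl : l < 6) : φ (PJ2p.P.gR l) = gφ l := Classical.choose_spec exists_φ l hl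

theorem φ_word (L : List ℕ) (hL : ∀ x ∈ L, x < 6) :
    φ (wordP PJ2p.P.gR L) = prodW 315 pN pM (L.flatMap Wp) := by
  induction L with
  | nil =>
    rw [wordP_nil, map_one, List.flatMap_nil, prodW_nil]
  | cons x L ih =>
    rw [wordP_cons, map_mul, φ_gR x (hL x List.mem_cons_self),
      ih fun y hy => hL y (List.mem_cons_of_mem _ hy), List.flatMap_cons, prodW_append, gφ]

theorem Wp_mem : ∀ l < 6, ∀ i ∈ Wp l, i ∈ [1, 2, 3, 4] := by decide

theorem range_le : φ.range ≤ J2L.K := by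
  rw [J2L.K_eq, MonoidHom.range_eq_map, ← PJ2p.valid.gen_top, MonoidHom.map_closure, Subgroup.closure_le]
  rintro _ ⟨_, ⟨l, hl, rfl⟩, rfl⟩
  have hl : l < 6 := hl
  rw [SetLike.mem_coe, φ_gR l hl]
  apply prodW_mem
  intro i hi
  exact P_mem_grp (Wp_mem l hl i hi)

theorem Pw_lt : ∀ i ∈ [1, 2, 3, 4], ∀ x ∈ Pw i, x < 6 := by decide

theorem Pw_lt' : ∀ i ∈ [1, 2, 3, 4], ∀ j ∈ (Pw i).flatMap Wp, j < 418 := by decide +kernel

theorem Pw_ev : ∀ i ∈ [1, 2, 3, 4], ∀ x < 315, ev pN ((Pw i).flatMap Wp) x = ev pN [i] x := by decide +kernel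

theorem lt_of_mem : ∀ i ∈ [1, 2, 3, 4], i < 418 := by decide

theorem K_le : J2L.K ≤ φ.range := by
  rw [J2L.K_eq]
  unfold grp
  rw [Subgroup.closure_le]
  rintro _ ⟨i, hi, rfl⟩
  refine ⟨wordP PJ2p.P.gR (Pw i), ?_⟩
  rw [φ_word _ (Pw_lt i hi)]
  have h := prodW_eq_of_ev 315 pN pM (w := (Pw i).flatMap Wp) (w' := [i])
    (fun j hj => J2L.valid_all j (Pw_lt' i hi j hj))
    (fun j hj => by
      rw [List.mem_singleton] at hj
      rw [hj]
      exact J2L.valid_all i (lt_of_mem i hi))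
    (fun x hx => Pw_ev i hi x hx)
  rw [h, prodW_cons, prodW_nil, mul_one]

/-- the homomorphism onto the permutation group -/
noncomputable def φK : PJ2p.P.Grp →* J2L.K := φ.codRestrict J2L.K (fun x => range_le ⟨x, rfl⟩)

theorem φK_surjective : Function.Surjective φK := by
  rintro ⟨k, hk⟩
  obtain ⟨x, hx⟩ := K_le hk
  exact ⟨x, Subtype.ext hx⟩

theorem φK_bijective : Function.Bijective φK := by
  obtain ⟨fG, _, hcard⟩ := J2pMain.order_aux
  have := fG
  exact φK_surjective.bijective_of_nat_card_le (by rw [hcard, J2L.card_K])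

/-- the presented group `J2p` is the Hall-Janko group -/
theorem iso : Nonempty (PJ2p.P.Grp ≃* Cfsg.Spor.J2) :=
  ⟨(MulEquiv.ofBijective φK φK_bijective).trans Ico.J2iso.symm⟩

end Cfsg.Agent.Lib.Helper4.J2pIso
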