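import Cfsg.Agent.Lib.Helper4.TCD_C2J2R_Acc
import Cfsg.Agent.Lib.Helper4.TC13

namespace Cfsg.Agent.Lib.Helper4.TCD.C2J2S

open Cfsg.Agent.Lib.Helper4.TC Cfsg.Agent.Lib.Helper4.TCD.C2J2R

set_option maxRecDepth 100000
set_option Elab.async false

def chk0 : List Nat := [0, 0, 0, 0, 0, 0, 0]
noncomputable def act0 (i : Nat) : Nat := col1 (col1 (col1 (col1 (col1 (col1 (col1 (i)))))))
theorem act0_eq (i : Nat) : act0 i = Tab.act T D chk0 i := rfl
theorem c0_0 : allRange (fun i => Nat.beq (act0 i) i) 0 200 = true := by decide +kernel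
theorem h0 : ∀ i, i < T.N → Tab.relActOK T D chk0 i = true := by
  intro i hi
  rw [Tab.relActOK, ← act0_eq]
  exact (range_of_allRange c0_0) i (Nat.zero_le _) hi

def chk1 : List Nat := [0, 0, 2, 1, 2, 0, 3, 0, 2, 1, 2]
noncomputable def act1 (i : Nat) : Nat := col1 (col1 (col3 (col0 (col3 (col1 (col2 (col1 (col3 (col0 (col3 (i)))))))))))
theorem act1_eq (i : Nat) : act1 i = Tab.act T D chk1 i := rfl
theorem c1_0 : allRange (fun i => Nat.beq (act1 i) i) 0 200 = true := by decide +kernel
theorem h1 : ∀ i, i < T.N → Tab.relActOK T D chk1 i = true := by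
  intro i hi
  rw [Tab.relActOK, ← act1_eq]
  exact (range_of_allRange c1_0) i (Nat.zero_le _) hi

def chk2 : List Nat := [0, 0, 0, 2, 0, 0, 0, 2, 0, 0, 0, 2]
noncomputable def act2 (i : Nat) : Nat := col1 (col1 (col1 (col3 (col1 (col1 (col1 (col3 (col1 (col1 (col1 (col3 (i))))))))))))
theorem act2_eq (i : Nat) : act2 i = Tab.act T D chk2 i := rfl
theorem c2_0 : allRange (fun i => Nat.beq (act2 i) i) 0 200 = true := by decide +kernel
theorem h2 : ∀ i, i < T.N → Tab.relActOK T D chk2 i = true := by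
  intro i hi
  rw [Tab.relActOK, ← act2_eq]
  exact (range_of_allRange c2_0) i (Nat.zero_le _) hi

def chk3 : List Nat := [0, 0, 2, 2, 0, 0, 3, 3, 0, 0, 3, 3]
noncomputable def act3 (i : Nat) : Nat := col1 (col1 (col3 (col3 (col1 (col1 (col2 (col2 (col1 (col1 (col2 (col2 (i))))))))))))
theorem act3_eq (i : Nat) : act3 i = Tab.act T D chk3 i := rfl
theorem c3_0 : allRange (fun i => Nat.beq (act3 i) i) 0 200 = true := by decide +kernel
theorem h3 : ∀ i, i < T.N → Tab.relActOK T D chk3 i = true := by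
  intro i hi
  rw [Tab.relActOK, ← act3_eq]
  exact (range_of_allRange c3_0) i (Nat.zero_le _) hi

def chk4 : List Nat := [0, 1]
noncomputable def act4 (i : Nat) : Nat := col1 (col0 (i))
theorem act4_eq (i : Nat) : act4 i = Tab.act T D chk4 i := rfl
theorem c4_0 : allRange (fun i => Nat.beq (act4 i) i) 0 200 = true := by decide +kernel
theorem h4 : ∀ i, i < T.N → Tab.relActOK T D chk4 i = true := by
  intro i hi
  rw [Tab.relActOK, ← act4_eq]
  exact (range_of_allRange c4_0) i (Nat.zero_le _) hi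

def chk5 : List Nat := [1, 0]
noncomputable def act5 (i : Nat) : Nat := col0 (col1 (i))
theorem act5_eq (i : Nat) : act5 i = Tab.act T D chk5 i := rfl
theorem c5_0 : allRange (fun i => Nat.beq (act5 i) i) 0 200 = true := by decide +kernel
theorem h5 : ∀ i, i < T.N → Tab.relActOK T D chk5 i = true := by
  intro i hi
  rw [Tab.relActOK, ← act5_eq]
  exact (range_of_allRange c5_0) i (Nat.zero_le _) hi

def chk6 : List Nat := [2, 3]
noncomputable def act6 (i : Nat) : Nat := col3 (col2 (i))
theorem act6_eq (i : Nat) : act6 i = Tab.act T D chk6 i := rfl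
theorem c6_0 : allRange (fun i => Nat.beq (act6 i) i) 0 200 = true := by decide +kernel
theorem h6 : ∀ i, i < T.N → Tab.relActOK T D chk6 i = true := by
  intro i hi
  rw [Tab.relActOK, ← act6_eq]
  exact (range_of_allRange c6_0) i (Nat.zero_le _) hi

def chk7 : List Nat := [3, 2]
noncomputable def act7 (i : Nat) : Nat := col2 (col3 (i))
theorem act7_eq (i : Nat) : act7 i = Tab.act T D chk7 i := rfl
theorem c7_0 : allRange (fun i => Nat.beq (act7 i) i) 0 200 = true := by decide +kernel
theorem h7 : ∀ i, i < T.N → Tab.relActOK T D chk7 i = true := by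
  intro i hi
  rw [Tab.relActOK, ← act7_eq]
  exact (range_of_allRange c7_0) i (Nat.zero_le _) hi

def chkAll : List (List Nat) := [chk0, chk1, chk2, chk3, chk4, chk5, chk6, chk7]
theorem hAll : ∀ w ∈ chkAll, ∀ i, i < T.N → Tab.relActOK T D w i = true := by
  intro w hw
  simp only [chkAll, List.mem_cons, List.not_mem_nil, or_false] at hw
  rcases hw with rfl | rfl | rfl | rfl | rfl | rfl | rfl | rfl
  · exact h0
  · exact h1
  · exact h2
  · exact h3
  · exact h4
  · exact h5
  · exact h6
  · exact h7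
theorem hAll_lt : ∀ w ∈ chkAll, ∀ x ∈ w, x < 8 := by decide +kernel

end Cfsg.Agent.Lib.Helper4.TCD.C2J2S
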