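import Mathlib
import Cfsg.Agent.Lib.Helper4.U33pMain
import Cfsg.Agent.Lib.Helper4.TCD_U33pB_Fin
import Cfsg.Agent.Lib.Helper4.StemLib6

/-! The presented group `U33p` has a cyclic subgroup of order dividing 7 (of index 864), and stem extensions with
kernel of order prime to 7 split over it. -/

set_option autoImplicit false

namespace Cfsg.Agent.Lib.Helper4.U33pSub

open Cfsg.Agent.Lib.Helper4.TC Cfsg.Agent.Lib.Helper4.TCD Cfsg.Agent.Lib.Helper4.TC.Log Cfsg.Agent.Lib.Helper4.Stem

theorem c_pow : (wordP PU33p.P.gR [0]) ^ 7 = 1 := by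
  have h := (PU33p.valid.real_sound (List.replicate 7 [0]).flatten (by decide +kernel)).2
  rw [wordP_replicate_flatten] at h
  exact h

theorem sub_eq : Inst.subG PU33p.P U33pB.subs = Subgroup.zpowers (wordP PU33p.P.gR [0]) := by
  rw [Inst.subG, Subgroup.zpowers_eq_closure]
  congr 1
  ext s
  simp [U33pB.subs]

theorem sub_card_dvd : Nat.card (Inst.subG PU33p.P U33pB.subs) ∣ 7 := by
  rw [sub_eq, Nat.card_zpowers]
  exact orderOf_dvd_of_pow_eq_one c_pow

theorem sub_card : Nat.card (Inst.subG PU33p.P U33pB.subs) ≤ 7 :=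
  Nat.le_of_dvd (by norm_num) sub_card_dvd

theorem liftsP_sub (p : ℕ) (hp : Nat.Coprime 7 p) :
    LiftsP PU33p.P.Grp (Inst.subG PU33p.P U33pB.subs) p :=
  liftsP_of_coprime _ p 7 sub_card_dvd hp

end Cfsg.Agent.Lib.Helper4.U33pSub
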