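import Mathlib
import Cfsg.Agent.Lib.Helper4.C2J2Main
import Cfsg.Agent.Lib.Helper4.TCD_SC2J2p2A_Fin
import Cfsg.Agent.Lib.Helper4.TCD_SC2J2p2W
import Cfsg.Agent.Lib.Helper4.StemLib8
import Cfsg.Agent.Lib.Helper4.C2J2Sub

/-! `C2J2` has no stem extension with kernel of order 2 (generated). -/

namespace Cfsg.Agent.Lib.Helper4.SC2J2p2Main

open Cfsg.Agent.Lib.Helper4.TC Cfsg.Agent.Lib.Helper4.TCD Cfsg.Agent.Lib.Helper4.TC.Log Cfsg.Agent.Lib.Helper4.Stem

/-- the description of the auxiliary presentation -/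
def spec : Spec4 :=
  { p := 2
    items := [(0, [], 7),
      (2, [], 4),
      (4, [], 7),
      (6, [4, 0], 0),
      (8, [6, 6], 0),
      (10, [8, 8], 0),
      (12, [0, 6, 3, 6, 2, 1, 2, 1, 1, 6, 2], 0),
      (14, [0, 6, 1, 3, 1, 3, 0, 6, 1, 3, 1, 3, 8], 0),
      (16, [9, 1, 8, 0], 0),
      (18, [9, 3, 8, 2], 0)]
    cen := [10, 12, 14, 16, 18]
    R := []
    sub := [0, 2]
    PR := [[0, 0, 0, 0, 0, 0, 0], [0, 0, 2, 1, 2, 0, 3, 0, 2, 1, 2], [0, 0, 0, 2, 0, 0, 0, 2, 0, 0, 0, 2], [0, 0, 2, 2, 0, 0, 3, 3, 0, 0, 3, 3]]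
    XR := [] }

/-- the letters of the auxiliary presentation as words of the base group -/
def Wl (l : ℕ) : List ℕ :=
  [[0], [1], [2], [3], [4, 1], [0, 5], [4], [5], [6], [7], [], [], [], [], [], [], [], [], [], []].getD l []

theorem checks_eq : checks spec.toSpec2 PC2J2.P.invR Wl ++ checksX spec PSC2J2p2.P.invR Wl = SC2J2p2W.chkAll := by decide +kernel

theorem sub_eq : Subgroup.closure (xw PC2J2.P Wl '' {l | l ∈ spec.sub}) = Inst.subG PC2J2.P C2J2B.subs := by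
  rw [closure_xw_eq]
  rfl

set_option maxRecDepth 100000 in
theorem noStem : NoStemPrime PC2J2.P.Grp 2 := by
  obtain ⟨fG, hinj, hcard⟩ := C2J2Main.order_aux
  have hall : ∀ w ∈ checks spec.toSpec2 PC2J2.P.invR Wl ++ checksX spec PSC2J2p2.P.invR Wl, wordP PC2J2.P.gR w = 1 := by
    rw [checks_eq]
    intro w hw
    exact C2J2R.prep.word_eq_one hinj w (SC2J2p2W.hAll_lt w hw) (SC2J2p2W.hAll w hw)
  exact noStemPrime_pres4 PC2J2.P PC2J2.valid PSC2J2p2.P PSC2J2p2.valid spec (by show Nat.Prime 2; norm_num) Wl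
    (by decide +kernel) (by decide +kernel) (fun w hw => hall w (List.mem_append_left _ hw))
    (fun w hw => hall w (List.mem_append_right _ hw)) (by decide +kernel)
    (by rw [sub_eq]; exact C2J2Sub.liftsP_sub 2 (by norm_num))
    6048 (by rw [sub_eq]; exact C2J2Sub.sub_card.2)
    200 (by decide) SC2J2p2A.index_eq fG 1209600 hcard (by decide)

end Cfsg.Agent.Lib.Helper4.SC2J2p2Main
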