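import Cfsg.Agent.Lib.Helper4.TCD_C2G24R_Acc
import Cfsg.Agent.Lib.Helper4.TC13

namespace Cfsg.Agent.Lib.Helper4.TCD.SC2G24p3W

open Cfsg.Agent.Lib.Helper4.TC Cfsg.Agent.Lib.Helper4.TCD.C2G24R

set_option maxRecDepth 100000
set_option Elab.async false

def chk0 : List Nat := [0, 0, 0, 0, 0, 0, 0]
noncomputable def act0 (i : Nat) : Nat := col1 (col1 (col1 (col1 (col1 (col1 (col1 (i)))))))
theorem act0_eq (i : Nat) : act0 i = Tab.act T D chk0 i := rfl
theorem c0_0 : allRange (fun i => Nat.beq (act0 i) i) 0 6666 = true := by decide +kernel
theorem c0_1 : allRange (fun i => Nat.beq (act0 i) i) 6666 6666 = true := by decide +kernel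
theorem c0_2 : allRange (fun i => Nat.beq (act0 i) i) 13332 6666 = true := by decide +kernel
theorem c0_3 : allRange (fun i => Nat.beq (act0 i) i) 19998 6666 = true := by decide +kernel
theorem c0_4 : allRange (fun i => Nat.beq (act0 i) i) 26664 6666 = true := by decide +kernel
theorem c0_5 : allRange (fun i => Nat.beq (act0 i) i) 33330 6666 = true := by decide +kernel
theorem c0_6 : allRange (fun i => Nat.beq (act0 i) i) 39996 6666 = true := by decide +kernel
theorem c0_7 : allRange (fun i => Nat.beq (act0 i) i) 46662 6666 = true := by decide +kernel
theorem c0_8 : allRange (fun i => Nat.beq (act0 i) i) 53328 6666 = true := by decide +kernel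
theorem c0_9 : allRange (fun i => Nat.beq (act0 i) i) 59994 6666 = true := by decide +kernel
theorem c0_10 : allRange (fun i => Nat.beq (act0 i) i) 66660 6666 = true := by decide +kernel
theorem c0_11 : allRange (fun i => Nat.beq (act0 i) i) 73326 6666 = true := by decide +kernel
theorem c0_12 : allRange (fun i => Nat.beq (act0 i) i) 79992 3208 = true := by decide +kernel
theorem h0 : ∀ i, i < T.N → Tab.relActOK T D chk0 i = true := by
  intro i hi
  rw [Tab.relActOK, ← act0_eq]
  exact (range_glue (range_of_allRange c0_0) (range_glue (range_of_allRange c0_1) (range_glue (range_of_allRange c0_2) (range_glue (range_of_allRange c0_3) (range_glue (range_of_allRange c0_4) (range_glue (range_of_allRange c0_5) (range_glue (range_of_allRange c0_6) (range_glue (range_of_allRange c0_7) (range_glue (range_of_allRange c0_8) (range_glue (range_of_allRange c0_9) (range_glue (range_of_allRange c0_10) (range_glue (range_of_allRange c0_11) (range_of_allRange c0_12))))))))))))) i (Nat.zero_le _) hi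

def chk1 : List Nat := [2, 2, 2, 2]
noncomputable def act1 (i : Nat) : Nat := col3 (col3 (col3 (col3 (i))))
theorem act1_eq (i : Nat) : act1 i = Tab.act T D chk1 i := rfl
theorem c1_0 : allRange (fun i => Nat.beq (act1 i) i) 0 10000 = true := by decide +kernel
theorem c1_1 : allRange (fun i => Nat.beq (act1 i) i) 10000 10000 = true := by decide +kernel
theorem c1_2 : allRange (fun i => Nat.beq (act1 i) i) 20000 10000 = true := by decide +kernel
theorem c1_3 : allRange (fun i => Nat.beq (act1 i) i) 30000 10000 = true := by decide +kernel
theorem c1_4 : allRange (fun i => Nat.beq (act1 i) i) 40000 10000 = true := by decide +kernel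
theorem c1_5 : allRange (fun i => Nat.beq (act1 i) i) 50000 10000 = true := by decide +kernel
theorem c1_6 : allRange (fun i => Nat.beq (act1 i) i) 60000 10000 = true := by decide +kernel
theorem c1_7 : allRange (fun i => Nat.beq (act1 i) i) 70000 10000 = true := by decide +kernel
theorem c1_8 : allRange (fun i => Nat.beq (act1 i) i) 80000 3200 = true := by decide +kernel
theorem h1 : ∀ i, i < T.N → Tab.relActOK T D chk1 i = true := by
  intro i hi
  rw [Tab.relActOK, ← act1_eq]
  exact (range_glue (range_of_allRange c1_0) (range_glue (range_of_allRange c1_1) (range_glue (range_of_allRange c1_2) (range_glue (range_of_allRange c1_3) (range_glue (range_of_allRange c1_4) (range_glue (range_of_allRange c1_5) (range_glue (range_of_allRange c1_6) (range_glue (range_of_allRange c1_7) (range_of_allRange c1_8))))))))) i (Nat.zero_le _) hi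

def chk2 : List Nat := [4, 4, 4, 4]
noncomputable def act2 (i : Nat) : Nat := col5 (col5 (col5 (col5 (i))))
theorem act2_eq (i : Nat) : act2 i = Tab.act T D chk2 i := rfl
theorem c2_0 : allRange (fun i => Nat.beq (act2 i) i) 0 10000 = true := by decide +kernel
theorem c2_1 : allRange (fun i => Nat.beq (act2 i) i) 10000 10000 = true := by decide +kernel
theorem c2_2 : allRange (fun i => Nat.beq (act2 i) i) 20000 10000 = true := by decide +kernel
theorem c2_3 : allRange (fun i => Nat.beq (act2 i) i) 30000 10000 = true := by decide +kernel
theorem c2_4 : allRange (fun i => Nat.beq (act2 i) i) 40000 10000 = true := by decide +kernel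
theorem c2_5 : allRange (fun i => Nat.beq (act2 i) i) 50000 10000 = true := by decide +kernel
theorem c2_6 : allRange (fun i => Nat.beq (act2 i) i) 60000 10000 = true := by decide +kernel
theorem c2_7 : allRange (fun i => Nat.beq (act2 i) i) 70000 10000 = true := by decide +kernel
theorem c2_8 : allRange (fun i => Nat.beq (act2 i) i) 80000 3200 = true := by decide +kernel
theorem h2 : ∀ i, i < T.N → Tab.relActOK T D chk2 i = true := by
  intro i hi
  rw [Tab.relActOK, ← act2_eq]
  exact (range_glue (range_of_allRange c2_0) (range_glue (range_of_allRange c2_1) (range_glue (range_of_allRange c2_2) (range_glue (range_of_allRange c2_3) (range_glue (range_of_allRange c2_4) (range_glue (range_of_allRange c2_5) (range_glue (range_of_allRange c2_6) (range_glue (range_of_allRange c2_7) (range_of_allRange c2_8))))))))) i (Nat.zero_le _) hi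

def chk3 : List Nat := [6, 6, 6, 6]
noncomputable def act3 (i : Nat) : Nat := col7 (col7 (col7 (col7 (i))))
theorem act3_eq (i : Nat) : act3 i = Tab.act T D chk3 i := rfl
theorem c3_0 : allRange (fun i => Nat.beq (act3 i) i) 0 10000 = true := by decide +kernel
theorem c3_1 : allRange (fun i => Nat.beq (act3 i) i) 10000 10000 = true := by decide +kernel
theorem c3_2 : allRange (fun i => Nat.beq (act3 i) i) 20000 10000 = true := by decide +kernel
theorem c3_3 : allRange (fun i => Nat.beq (act3 i) i) 30000 10000 = true := by decide +kernel
theorem c3_4 : allRange (fun i => Nat.beq (act3 i) i) 40000 10000 = true := by decide +kernel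
theorem c3_5 : allRange (fun i => Nat.beq (act3 i) i) 50000 10000 = true := by decide +kernel
theorem c3_6 : allRange (fun i => Nat.beq (act3 i) i) 60000 10000 = true := by decide +kernel
theorem c3_7 : allRange (fun i => Nat.beq (act3 i) i) 70000 10000 = true := by decide +kernel
theorem c3_8 : allRange (fun i => Nat.beq (act3 i) i) 80000 3200 = true := by decide +kernel
theorem h3 : ∀ i, i < T.N → Tab.relActOK T D chk3 i = true := by
  intro i hi
  rw [Tab.relActOK, ← act3_eq]
  exact (range_glue (range_of_allRange c3_0) (range_glue (range_of_allRange c3_1) (range_glue (range_of_allRange c3_2) (range_glue (range_of_allRange c3_3) (range_glue (range_of_allRange c3_4) (range_glue (range_of_allRange c3_5) (range_glue (range_of_allRange c3_6) (range_glue (range_of_allRange c3_7) (range_of_allRange c3_8))))))))) i (Nat.zero_le _) hi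

def chk4 : List Nat := [4, 4, 9]
noncomputable def act4 (i : Nat) : Nat := col5 (col5 (col8 (i)))
theorem act4_eq (i : Nat) : act4 i = Tab.act T D chk4 i := rfl
theorem c4_0 : allRange (fun i => Nat.beq (act4 i) i) 0 12000 = true := by decide +kernel
theorem c4_1 : allRange (fun i => Nat.beq (act4 i) i) 12000 12000 = true := by decide +kernel
theorem c4_2 : allRange (fun i => Nat.beq (act4 i) i) 24000 12000 = true := by decide +kernel
theorem c4_3 : allRange (fun i => Nat.beq (act4 i) i) 36000 12000 = true := by decide +kernel
theorem c4_4 : allRange (fun i => Nat.beq (act4 i) i) 48000 12000 = true := by decide +kernel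
theorem c4_5 : allRange (fun i => Nat.beq (act4 i) i) 60000 12000 = true := by decide +kernel
theorem c4_6 : allRange (fun i => Nat.beq (act4 i) i) 72000 11200 = true := by decide +kernel
theorem h4 : ∀ i, i < T.N → Tab.relActOK T D chk4 i = true := by
  intro i hi
  rw [Tab.relActOK, ← act4_eq]
  exact (range_glue (range_of_allRange c4_0) (range_glue (range_of_allRange c4_1) (range_glue (range_of_allRange c4_2) (range_glue (range_of_allRange c4_3) (range_glue (range_of_allRange c4_4) (range_glue (range_of_allRange c4_5) (range_of_allRange c4_6))))))) i (Nat.zero_le _) hi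

def chk5 : List Nat := [6, 6, 9]
noncomputable def act5 (i : Nat) : Nat := col7 (col7 (col8 (i)))
theorem act5_eq (i : Nat) : act5 i = Tab.act T D chk5 i := rfl
theorem c5_0 : allRange (fun i => Nat.beq (act5 i) i) 0 12000 = true := by decide +kernel
theorem c5_1 : allRange (fun i => Nat.beq (act5 i) i) 12000 12000 = true := by decide +kernel
theorem c5_2 : allRange (fun i => Nat.beq (act5 i) i) 24000 12000 = true := by decide +kernel
theorem c5_3 : allRange (fun i => Nat.beq (act5 i) i) 36000 12000 = true := by decide +kernel
theorem c5_4 : allRange (fun i => Nat.beq (act5 i) i) 48000 12000 = true := by decide +kernel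
theorem c5_5 : allRange (fun i => Nat.beq (act5 i) i) 60000 12000 = true := by decide +kernel
theorem c5_6 : allRange (fun i => Nat.beq (act5 i) i) 72000 11200 = true := by decide +kernel
theorem h5 : ∀ i, i < T.N → Tab.relActOK T D chk5 i = true := by
  intro i hi
  rw [Tab.relActOK, ← act5_eq]
  exact (range_glue (range_of_allRange c5_0) (range_glue (range_of_allRange c5_1) (range_glue (range_of_allRange c5_2) (range_glue (range_of_allRange c5_3) (range_glue (range_of_allRange c5_4) (range_glue (range_of_allRange c5_5) (range_of_allRange c5_6))))))) i (Nat.zero_le _) hi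

def chk6 : List Nat := [0, 2, 1, 4, 6, 2, 7, 4, 9]
noncomputable def act6 (i : Nat) : Nat := col1 (col3 (col0 (col5 (col7 (col3 (col6 (col5 (col8 (i)))))))))
theorem act6_eq (i : Nat) : act6 i = Tab.act T D chk6 i := rfl
theorem c6_0 : allRange (fun i => Nat.beq (act6 i) i) 0 5454 = true := by decide +kernel
theorem c6_1 : allRange (fun i => Nat.beq (act6 i) i) 5454 5454 = true := by decide +kernel
theorem c6_2 : allRange (fun i => Nat.beq (act6 i) i) 10908 5454 = true := by decide +kernel
theorem c6_3 : allRange (fun i => Nat.beq (act6 i) i) 16362 5454 = true := by decide +kernel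
theorem c6_4 : allRange (fun i => Nat.beq (act6 i) i) 21816 5454 = true := by decide +kernel
theorem c6_5 : allRange (fun i => Nat.beq (act6 i) i) 27270 5454 = true := by decide +kernel
theorem c6_6 : allRange (fun i => Nat.beq (act6 i) i) 32724 5454 = true := by decide +kernel
theorem c6_7 : allRange (fun i => Nat.beq (act6 i) i) 38178 5454 = true := by decide +kernel
theorem c6_8 : allRange (fun i => Nat.beq (act6 i) i) 43632 5454 = true := by decide +kernel
theorem c6_9 : allRange (fun i => Nat.beq (act6 i) i) 49086 5454 = true := by decide +kernel
theorem c6_10 : allRange (fun i => Nat.beq (act6 i) i) 54540 5454 = true := by decide +kernel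
theorem c6_11 : allRange (fun i => Nat.beq (act6 i) i) 59994 5454 = true := by decide +kernel
theorem c6_12 : allRange (fun i => Nat.beq (act6 i) i) 65448 5454 = true := by decide +kernel
theorem c6_13 : allRange (fun i => Nat.beq (act6 i) i) 70902 5454 = true := by decide +kernel
theorem c6_14 : allRange (fun i => Nat.beq (act6 i) i) 76356 5454 = true := by decide +kernel
theorem c6_15 : allRange (fun i => Nat.beq (act6 i) i) 81810 1390 = true := by decide +kernel
theorem h6 : ∀ i, i < T.N → Tab.relActOK T D chk6 i = true := by
  intro i hi
  rw [Tab.relActOK, ← act6_eq]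
  exact (range_glue (range_of_allRange c6_0) (range_glue (range_of_allRange c6_1) (range_glue (range_of_allRange c6_2) (range_glue (range_of_allRange c6_3) (range_glue (range_of_allRange c6_4) (range_glue (range_of_allRange c6_5) (range_glue (range_of_allRange c6_6) (range_glue (range_of_allRange c6_7) (range_glue (range_of_allRange c6_8) (range_glue (range_of_allRange c6_9) (range_glue (range_of_allRange c6_10) (range_glue (range_of_allRange c6_11) (range_glue (range_of_allRange c6_12) (range_glue (range_of_allRange c6_13) (range_glue (range_of_allRange c6_14) (range_of_allRange c6_15)))))))))))))))) i (Nat.zero_le _) hi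

def chk7 : List Nat := [0, 2, 1, 7, 4, 1, 2, 0, 4, 6, 9]
noncomputable def act7 (i : Nat) : Nat := col1 (col3 (col0 (col6 (col5 (col0 (col3 (col1 (col5 (col7 (col8 (i)))))))))))
theorem act7_eq (i : Nat) : act7 i = Tab.act T D chk7 i := rfl
theorem c7_0 : allRange (fun i => Nat.beq (act7 i) i) 0 4615 = true := by decide +kernel
theorem c7_1 : allRange (fun i => Nat.beq (act7 i) i) 4615 4615 = true := by decide +kernel
theorem c7_2 : allRange (fun i => Nat.beq (act7 i) i) 9230 4615 = true := by decide +kernel
theorem c7_3 : allRange (fun i => Nat.beq (act7 i) i) 13845 4615 = true := by decide +kernel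
theorem c7_4 : allRange (fun i => Nat.beq (act7 i) i) 18460 4615 = true := by decide +kernel
theorem c7_5 : allRange (fun i => Nat.beq (act7 i) i) 23075 4615 = true := by decide +kernel
theorem c7_6 : allRange (fun i => Nat.beq (act7 i) i) 27690 4615 = true := by decide +kernel
theorem c7_7 : allRange (fun i => Nat.beq (act7 i) i) 32305 4615 = true := by decide +kernel
theorem c7_8 : allRange (fun i => Nat.beq (act7 i) i) 36920 4615 = true := by decide +kernel
theorem c7_9 : allRange (fun i => Nat.beq (act7 i) i) 41535 4615 = true := by decide +kernel
theorem c7_10 : allRange (fun i => Nat.beq (act7 i) i) 46150 4615 = true := by decide +kernel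
theorem c7_11 : allRange (fun i => Nat.beq (act7 i) i) 50765 4615 = true := by decide +kernel
theorem c7_12 : allRange (fun i => Nat.beq (act7 i) i) 55380 4615 = true := by decide +kernel
theorem c7_13 : allRange (fun i => Nat.beq (act7 i) i) 59995 4615 = true := by decide +kernel
theorem c7_14 : allRange (fun i => Nat.beq (act7 i) i) 64610 4615 = true := by decide +kernel
theorem c7_15 : allRange (fun i => Nat.beq (act7 i) i) 69225 4615 = true := by decide +kernel
theorem c7_16 : allRange (fun i => Nat.beq (act7 i) i) 73840 4615 = true := by decide +kernel
theorem c7_17 : allRange (fun i => Nat.beq (act7 i) i) 78455 4615 = true := by decide +kernel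
theorem c7_18 : allRange (fun i => Nat.beq (act7 i) i) 83070 130 = true := by decide +kernel
theorem h7 : ∀ i, i < T.N → Tab.relActOK T D chk7 i = true := by
  intro i hi
  rw [Tab.relActOK, ← act7_eq]
  exact (range_glue (range_of_allRange c7_0) (range_glue (range_of_allRange c7_1) (range_glue (range_of_allRange c7_2) (range_glue (range_of_allRange c7_3) (range_glue (range_of_allRange c7_4) (range_glue (range_of_allRange c7_5) (range_glue (range_of_allRange c7_6) (range_glue (range_of_allRange c7_7) (range_glue (range_of_allRange c7_8) (range_glue (range_of_allRange c7_9) (range_glue (range_of_allRange c7_10) (range_glue (range_of_allRange c7_11) (range_glue (range_of_allRange c7_12) (range_glue (range_of_allRange c7_13) (range_glue (range_of_allRange c7_14) (range_glue (range_of_allRange c7_15) (range_glue (range_of_allRange c7_16) (range_glue (range_of_allRange c7_17) (range_of_allRange c7_18))))))))))))))))))) i (Nat.zero_le _) hi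

def chk8 : List Nat := [0, 0, 4, 3, 1, 3, 1, 4, 2, 4, 3, 0, 6, 0, 6, 4, 7]
noncomputable def act8 (i : Nat) : Nat := col1 (col1 (col5 (col2 (col0 (col2 (col0 (col5 (col3 (col5 (col2 (col1 (col7 (col1 (col7 (col5 (col6 (i)))))))))))))))))
theorem act8_eq (i : Nat) : act8 i = Tab.act T D chk8 i := rfl
theorem c8_0 : allRange (fun i => Nat.beq (act8 i) i) 0 3157 = true := by decide +kernel
theorem c8_1 : allRange (fun i => Nat.beq (act8 i) i) 3157 3157 = true := by decide +kernel
theorem c8_2 : allRange (fun i => Nat.beq (act8 i) i) 6314 3157 = true := by decide +kernel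
theorem c8_3 : allRange (fun i => Nat.beq (act8 i) i) 9471 3157 = true := by decide +kernel
theorem c8_4 : allRange (fun i => Nat.beq (act8 i) i) 12628 3157 = true := by decide +kernel
theorem c8_5 : allRange (fun i => Nat.beq (act8 i) i) 15785 3157 = true := by decide +kernel
theorem c8_6 : allRange (fun i => Nat.beq (act8 i) i) 18942 3157 = true := by decide +kernel
theorem c8_7 : allRange (fun i => Nat.beq (act8 i) i) 22099 3157 = true := by decide +kernel
theorem c8_8 : allRange (fun i => Nat.beq (act8 i) i) 25256 3157 = true := by decide +kernel
theorem c8_9 : allRange (fun i => Nat.beq (act8 i) i) 28413 3157 = true := by decide +kernel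
theorem c8_10 : allRange (fun i => Nat.beq (act8 i) i) 31570 3157 = true := by decide +kernel
theorem c8_11 : allRange (fun i => Nat.beq (act8 i) i) 34727 3157 = true := by decide +kernel
theorem c8_12 : allRange (fun i => Nat.beq (act8 i) i) 37884 3157 = true := by decide +kernel
theorem c8_13 : allRange (fun i => Nat.beq (act8 i) i) 41041 3157 = true := by decide +kernel
theorem c8_14 : allRange (fun i => Nat.beq (act8 i) i) 44198 3157 = true := by decide +kernel
theorem c8_15 : allRange (fun i => Nat.beq (act8 i) i) 47355 3157 = true := by decide +kernel
theorem c8_16 : allRange (fun i => Nat.beq (act8 i) i) 50512 3157 = true := by decide +kernel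
theorem c8_17 : allRange (fun i => Nat.beq (act8 i) i) 53669 3157 = true := by decide +kernel
theorem c8_18 : allRange (fun i => Nat.beq (act8 i) i) 56826 3157 = true := by decide +kernel
theorem c8_19 : allRange (fun i => Nat.beq (act8 i) i) 59983 3157 = true := by decide +kernel
theorem c8_20 : allRange (fun i => Nat.beq (act8 i) i) 63140 3157 = true := by decide +kernel
theorem c8_21 : allRange (fun i => Nat.beq (act8 i) i) 66297 3157 = true := by decide +kernel
theorem c8_22 : allRange (fun i => Nat.beq (act8 i) i) 69454 3157 = true := by decide +kernel
theorem c8_23 : allRange (fun i => Nat.beq (act8 i) i) 72611 3157 = true := by decide +kernel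
theorem c8_24 : allRange (fun i => Nat.beq (act8 i) i) 75768 3157 = true := by decide +kernel
theorem c8_25 : allRange (fun i => Nat.beq (act8 i) i) 78925 3157 = true := by decide +kernel
theorem c8_26 : allRange (fun i => Nat.beq (act8 i) i) 82082 1118 = true := by decide +kernel
theorem h8 : ∀ i, i < T.N → Tab.relActOK T D chk8 i = true := by
  intro i hi
  rw [Tab.relActOK, ← act8_eq]
  exact (range_glue (range_of_allRange c8_0) (range_glue (range_of_allRange c8_1) (range_glue (range_of_allRange c8_2) (range_glue (range_of_allRange c8_3) (range_glue (range_of_allRange c8_4) (range_glue (range_of_allRange c8_5) (range_glue (range_of_allRange c8_6) (range_glue (range_of_allRange c8_7) (range_glue (range_of_allRange c8_8) (range_glue (range_of_allRange c8_9) (range_glue (range_of_allRange c8_10) (range_glue (range_of_allRange c8_11) (range_glue (range_of_allRange c8_12) (range_glue (range_of_allRange c8_13) (range_glue (range_of_allRange c8_14) (range_glue (range_of_allRange c8_15) (range_glue (range_of_allRange c8_16) (range_glue (range_of_allRange c8_17) (range_glue (range_of_allRange c8_18) (range_glue (range_of_allRange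 c8_19) (range_glue (range_of_allRange c8_20) (range_glue (range_of_allRange c8_21) (range_glue (range_of_allRange c8_22) (range_glue (range_of_allRange c8_23) (range_glue (range_of_allRange c8_24) (range_glue (range_of_allRange c8_25) (range_of_allRange c8_26))))))))))))))))))))))))))) i (Nat.zero_le _) hi

def chk9 : List Nat := [9, 7, 8, 6]
noncomputable def act9 (i : Nat) : Nat := col8 (col6 (col9 (col7 (i))))
theorem act9_eq (i : Nat) : act9 i = Tab.act T D chk9 i := rfl
theorem c9_0 : allRange (fun i => Nat.beq (act9 i) i) 0 10000 = true := by decide +kernel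
theorem c9_1 : allRange (fun i => Nat.beq (act9 i) i) 10000 10000 = true := by decide +kernel
theorem c9_2 : allRange (fun i => Nat.beq (act9 i) i) 20000 10000 = true := by decide +kernel
theorem c9_3 : allRange (fun i => Nat.beq (act9 i) i) 30000 10000 = true := by decide +kernel
theorem c9_4 : allRange (fun i => Nat.beq (act9 i) i) 40000 10000 = true := by decide +kernel
theorem c9_5 : allRange (fun i => Nat.beq (act9 i) i) 50000 10000 = true := by decide +kernel
theorem c9_6 : allRange (fun i => Nat.beq (act9 i) i) 60000 10000 = true := by decide +kernel
theorem c9_7 : allRange (fun i => Nat.beq (act9 i) i) 70000 10000 = true := by decide +kernel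
theorem c9_8 : allRange (fun i => Nat.beq (act9 i) i) 80000 3200 = true := by decide +kernel
theorem h9 : ∀ i, i < T.N → Tab.relActOK T D chk9 i = true := by
  intro i hi
  rw [Tab.relActOK, ← act9_eq]
  exact (range_glue (range_of_allRange c9_0) (range_glue (range_of_allRange c9_1) (range_glue (range_of_allRange c9_2) (range_glue (range_of_allRange c9_3) (range_glue (range_of_allRange c9_4) (range_glue (range_of_allRange c9_5) (range_glue (range_of_allRange c9_6) (range_glue (range_of_allRange c9_7) (range_of_allRange c9_8))))))))) i (Nat.zero_le _) hi

def chk10 : List Nat := [0, 0, 0, 0, 0, 0, 0]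
noncomputable def act10 (i : Nat) : Nat := col1 (col1 (col1 (col1 (col1 (col1 (col1 (i)))))))
theorem act10_eq (i : Nat) : act10 i = Tab.act T D chk10 i := rfl
theorem c10_0 : allRange (fun i => Nat.beq (act10 i) i) 0 6666 = true := by decide +kernel
theorem c10_1 : allRange (fun i => Nat.beq (act10 i) i) 6666 6666 = true := by decide +kernel
theorem c10_2 : allRange (fun i => Nat.beq (act10 i) i) 13332 6666 = true := by decide +kernel
theorem c10_3 : allRange (fun i => Nat.beq (act10 i) i) 19998 6666 = true := by decide +kernel
theorem c10_4 : allRange (fun i => Nat.beq (act10 i) i) 26664 6666 = true := by decide +kernel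
theorem c10_5 : allRange (fun i => Nat.beq (act10 i) i) 33330 6666 = true := by decide +kernel
theorem c10_6 : allRange (fun i => Nat.beq (act10 i) i) 39996 6666 = true := by decide +kernel
theorem c10_7 : allRange (fun i => Nat.beq (act10 i) i) 46662 6666 = true := by decide +kernel
theorem c10_8 : allRange (fun i => Nat.beq (act10 i) i) 53328 6666 = true := by decide +kernel
theorem c10_9 : allRange (fun i => Nat.beq (act10 i) i) 59994 6666 = true := by decide +kernel
theorem c10_10 : allRange (fun i => Nat.beq (act10 i) i) 66660 6666 = true := by decide +kernel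
theorem c10_11 : allRange (fun i => Nat.beq (act10 i) i) 73326 6666 = true := by decide +kernel
theorem c10_12 : allRange (fun i => Nat.beq (act10 i) i) 79992 3208 = true := by decide +kernel
theorem h10 : ∀ i, i < T.N → Tab.relActOK T D chk10 i = true := by
  intro i hi
  rw [Tab.relActOK, ← act10_eq]
  exact (range_glue (range_of_allRange c10_0) (range_glue (range_of_allRange c10_1) (range_glue (range_of_allRange c10_2) (range_glue (range_of_allRange c10_3) (range_glue (range_of_allRange c10_4) (range_glue (range_of_allRange c10_5) (range_glue (range_of_allRange c10_6) (range_glue (range_of_allRange c10_7) (range_glue (range_of_allRange c10_8) (range_glue (range_of_allRange c10_9) (range_glue (range_of_allRange c10_10) (range_glue (range_of_allRange c10_11) (range_of_allRange c10_12))))))))))))) i (Nat.zero_le _) hi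

def chk11 : List Nat := [0, 0, 2, 1, 2, 0, 3, 0, 2, 1, 2]
noncomputable def act11 (i : Nat) : Nat := col1 (col1 (col3 (col0 (col3 (col1 (col2 (col1 (col3 (col0 (col3 (i)))))))))))
theorem act11_eq (i : Nat) : act11 i = Tab.act T D chk11 i := rfl
theorem c11_0 : allRange (fun i => Nat.beq (act11 i) i) 0 4615 = true := by decide +kernel
theorem c11_1 : allRange (fun i => Nat.beq (act11 i) i) 4615 4615 = true := by decide +kernel
theorem c11_2 : allRange (fun i => Nat.beq (act11 i) i) 9230 4615 = true := by decide +kernel
theorem c11_3 : allRange (fun i => Nat.beq (act11 i) i) 13845 4615 = true := by decide +kernel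
theorem c11_4 : allRange (fun i => Nat.beq (act11 i) i) 18460 4615 = true := by decide +kernel
theorem c11_5 : allRange (fun i => Nat.beq (act11 i) i) 23075 4615 = true := by decide +kernel
theorem c11_6 : allRange (fun i => Nat.beq (act11 i) i) 27690 4615 = true := by decide +kernel
theorem c11_7 : allRange (fun i => Nat.beq (act11 i) i) 32305 4615 = true := by decide +kernel
theorem c11_8 : allRange (fun i => Nat.beq (act11 i) i) 36920 4615 = true := by decide +kernel
theorem c11_9 : allRange (fun i => Nat.beq (act11 i) i) 41535 4615 = true := by decide +kernel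
theorem c11_10 : allRange (fun i => Nat.beq (act11 i) i) 46150 4615 = true := by decide +kernel
theorem c11_11 : allRange (fun i => Nat.beq (act11 i) i) 50765 4615 = true := by decide +kernel
theorem c11_12 : allRange (fun i => Nat.beq (act11 i) i) 55380 4615 = true := by decide +kernel
theorem c11_13 : allRange (fun i => Nat.beq (act11 i) i) 59995 4615 = true := by decide +kernel
theorem c11_14 : allRange (fun i => Nat.beq (act11 i) i) 64610 4615 = true := by decide +kernel
theorem c11_15 : allRange (fun i => Nat.beq (act11 i) i) 69225 4615 = true := by decide +kernel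
theorem c11_16 : allRange (fun i => Nat.beq (act11 i) i) 73840 4615 = true := by decide +kernel
theorem c11_17 : allRange (fun i => Nat.beq (act11 i) i) 78455 4615 = true := by decide +kernel
theorem c11_18 : allRange (fun i => Nat.beq (act11 i) i) 83070 130 = true := by decide +kernel
theorem h11 : ∀ i, i < T.N → Tab.relActOK T D chk11 i = true := by
  intro i hi
  rw [Tab.relActOK, ← act11_eq]
  exact (range_glue (range_of_allRange c11_0) (range_glue (range_of_allRange c11_1) (range_glue (range_of_allRange c11_2) (range_glue (range_of_allRange c11_3) (range_glue (range_of_allRange c11_4) (range_glue (range_of_allRange c11_5) (range_glue (range_of_allRange c11_6) (range_glue (range_of_allRange c11_7) (range_glue (range_of_allRange c11_8) (range_glue (range_of_allRange c11_9) (range_glue (range_of_allRange c11_10) (range_glue (range_of_allRange c11_11) (range_glue (range_of_allRange c11_12) (range_glue (range_of_allRange c11_13) (range_glue (range_of_allRange c11_14) (range_glue (range_of_allRange c11_15) (range_glue (range_of_allRange c11_16) (range_glue (range_of_allRange c11_17) (range_of_allRange c11_18)))))))))))))))))))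 i (Nat.zero_le _) hi

def chk12 : List Nat := [0, 0, 0, 2, 0, 0, 0, 2, 0, 0, 0, 2]
noncomputable def act12 (i : Nat) : Nat := col1 (col1 (col1 (col3 (col1 (col1 (col1 (col3 (col1 (col1 (col1 (col3 (i))))))))))))
theorem act12_eq (i : Nat) : act12 i = Tab.act T D chk12 i := rfl
theorem c12_0 : allRange (fun i => Nat.beq (act12 i) i) 0 4285 = true := by decide +kernel
theorem c12_1 : allRange (fun i => Nat.beq (act12 i) i) 4285 4285 = true := by decide +kernel
theorem c12_2 : allRange (fun i => Nat.beq (act12 i) i) 8570 4285 = true := by decide +kernel
theorem c12_3 : allRange (fun i => Nat.beq (act12 i) i) 12855 4285 = true := by decide +kernel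
theorem c12_4 : allRange (fun i => Nat.beq (act12 i) i) 17140 4285 = true := by decide +kernel
theorem c12_5 : allRange (fun i => Nat.beq (act12 i) i) 21425 4285 = true := by decide +kernel
theorem c12_6 : allRange (fun i => Nat.beq (act12 i) i) 25710 4285 = true := by decide +kernel
theorem c12_7 : allRange (fun i => Nat.beq (act12 i) i) 29995 4285 = true := by decide +kernel
theorem c12_8 : allRange (fun i => Nat.beq (act12 i) i) 34280 4285 = true := by decide +kernel
theorem c12_9 : allRange (fun i => Nat.beq (act12 i) i) 38565 4285 = true := by decide +kernel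
theorem c12_10 : allRange (fun i => Nat.beq (act12 i) i) 42850 4285 = true := by decide +kernel
theorem c12_11 : allRange (fun i => Nat.beq (act12 i) i) 47135 4285 = true := by decide +kernel
theorem c12_12 : allRange (fun i => Nat.beq (act12 i) i) 51420 4285 = true := by decide +kernel
theorem c12_13 : allRange (fun i => Nat.beq (act12 i) i) 55705 4285 = true := by decide +kernel
theorem c12_14 : allRange (fun i => Nat.beq (act12 i) i) 59990 4285 = true := by decide +kernel
theorem c12_15 : allRange (fun i => Nat.beq (act12 i) i) 64275 4285 = true := by decide +kernel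
theorem c12_16 : allRange (fun i => Nat.beq (act12 i) i) 68560 4285 = true := by decide +kernel
theorem c12_17 : allRange (fun i => Nat.beq (act12 i) i) 72845 4285 = true := by decide +kernel
theorem c12_18 : allRange (fun i => Nat.beq (act12 i) i) 77130 4285 = true := by decide +kernel
theorem c12_19 : allRange (fun i => Nat.beq (act12 i) i) 81415 1785 = true := by decide +kernel
theorem h12 : ∀ i, i < T.N → Tab.relActOK T D chk12 i = true := by
  intro i hi
  rw [Tab.relActOK, ← act12_eq]
  exact (range_glue (range_of_allRange c12_0) (range_glue (range_of_allRange c12_1) (range_glue (range_of_allRange c12_2) (range_glue (range_of_allRange c12_3) (range_glue (range_of_allRange c12_4) (range_glue (range_of_allRange c12_5) (range_glue (range_of_allRange c12_6) (range_glue (range_of_allRange c12_7) (range_glue (range_of_allRange c12_8) (range_glue (range_of_allRange c12_9) (range_glue (range_of_allRange c12_10) (range_glue (range_of_allRange c12_11) (range_glue (range_of_allRange c12_12) (range_glue (range_of_allRange c12_13) (range_glue (range_of_allRange c12_14) (range_glue (range_of_allRange c12_15) (range_glue (range_of_allRange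 c12_16) (range_glue (range_of_allRange c12_17) (range_glue (range_of_allRange c12_18) (range_of_allRange c12_19)))))))))))))))))))) i (Nat.zero_le _) hi

def chk13 : List Nat := [0, 0, 2, 2, 0, 0, 3, 3, 0, 0, 3, 3]
noncomputable def act13 (i : Nat) : Nat := col1 (col1 (col3 (col3 (col1 (col1 (col2 (col2 (col1 (col1 (col2 (col2 (i))))))))))))
theorem act13_eq (i : Nat) : act13 i = Tab.act T D chk13 i := rfl
theorem c13_0 : allRange (fun i => Nat.beq (act13 i) i) 0 4285 = true := by decide +kernel
theorem c13_1 : allRange (fun i => Nat.beq (act13 i) i) 4285 4285 = true := by decide +kernel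
theorem c13_2 : allRange (fun i => Nat.beq (act13 i) i) 8570 4285 = true := by decide +kernel
theorem c13_3 : allRange (fun i => Nat.beq (act13 i) i) 12855 4285 = true := by decide +kernel
theorem c13_4 : allRange (fun i => Nat.beq (act13 i) i) 17140 4285 = true := by decide +kernel
theorem c13_5 : allRange (fun i => Nat.beq (act13 i) i) 21425 4285 = true := by decide +kernel
theorem c13_6 : allRange (fun i => Nat.beq (act13 i) i) 25710 4285 = true := by decide +kernel
theorem c13_7 : allRange (fun i => Nat.beq (act13 i) i) 29995 4285 = true := by decide +kernel
theorem c13_8 : allRange (fun i => Nat.beq (act13 i) i) 34280 4285 = true := by decide +kernel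
theorem c13_9 : allRange (fun i => Nat.beq (act13 i) i) 38565 4285 = true := by decide +kernel
theorem c13_10 : allRange (fun i => Nat.beq (act13 i) i) 42850 4285 = true := by decide +kernel
theorem c13_11 : allRange (fun i => Nat.beq (act13 i) i) 47135 4285 = true := by decide +kernel
theorem c13_12 : allRange (fun i => Nat.beq (act13 i) i) 51420 4285 = true := by decide +kernel
theorem c13_13 : allRange (fun i => Nat.beq (act13 i) i) 55705 4285 = true := by decide +kernel
theorem c13_14 : allRange (fun i => Nat.beq (act13 i) i) 59990 4285 = true := by decide +kernel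
theorem c13_15 : allRange (fun i => Nat.beq (act13 i) i) 64275 4285 = true := by decide +kernel
theorem c13_16 : allRange (fun i => Nat.beq (act13 i) i) 68560 4285 = true := by decide +kernel
theorem c13_17 : allRange (fun i => Nat.beq (act13 i) i) 72845 4285 = true := by decide +kernel
theorem c13_18 : allRange (fun i => Nat.beq (act13 i) i) 77130 4285 = true := by decide +kernel
theorem c13_19 : allRange (fun i => Nat.beq (act13 i) i) 81415 1785 = true := by decide +kernel
theorem h13 : ∀ i, i < T.N → Tab.relActOK T D chk13 i = true := by
  intro i hi
  rw [Tab.relActOK, ← act13_eq]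
  exact (range_glue (range_of_allRange c13_0) (range_glue (range_of_allRange c13_1) (range_glue (range_of_allRange c13_2) (range_glue (range_of_allRange c13_3) (range_glue (range_of_allRange c13_4) (range_glue (range_of_allRange c13_5) (range_glue (range_of_allRange c13_6) (range_glue (range_of_allRange c13_7) (range_glue (range_of_allRange c13_8) (range_glue (range_of_allRange c13_9) (range_glue (range_of_allRange c13_10) (range_glue (range_of_allRange c13_11) (range_glue (range_of_allRange c13_12) (range_glue (range_of_allRange c13_13) (range_glue (range_of_allRange c13_14) (range_glue (range_of_allRange c13_15) (range_glue (range_of_allRange c13_16) (range_glue (range_of_allRange c13_17) (range_glue (range_of_allRange c13_18) (range_of_allRange c13_19)))))))))))))))))))) i (Nat.zero_le _) hi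

def chk14 : List Nat := [0, 4, 3, 4, 2, 1, 2, 1, 1, 4, 2]
noncomputable def act14 (i : Nat) : Nat := col1 (col5 (col2 (col5 (col3 (col0 (col3 (col0 (col0 (col5 (col3 (i)))))))))))
theorem act14_eq (i : Nat) : act14 i = Tab.act T D chk14 i := rfl
theorem c14_0 : allRange (fun i => Nat.beq (act14 i) i) 0 4615 = true := by decide +kernel
theorem c14_1 : allRange (fun i => Nat.beq (act14 i) i) 4615 4615 = true := by decide +kernel
theorem c14_2 : allRange (fun i => Nat.beq (act14 i) i) 9230 4615 = true := by decide +kernel
theorem c14_3 : allRange (fun i => Nat.beq (act14 i) i) 13845 4615 = true := by decide +kernel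
theorem c14_4 : allRange (fun i => Nat.beq (act14 i) i) 18460 4615 = true := by decide +kernel
theorem c14_5 : allRange (fun i => Nat.beq (act14 i) i) 23075 4615 = true := by decide +kernel
theorem c14_6 : allRange (fun i => Nat.beq (act14 i) i) 27690 4615 = true := by decide +kernel
theorem c14_7 : allRange (fun i => Nat.beq (act14 i) i) 32305 4615 = true := by decide +kernel
theorem c14_8 : allRange (fun i => Nat.beq (act14 i) i) 36920 4615 = true := by decide +kernel
theorem c14_9 : allRange (fun i => Nat.beq (act14 i) i) 41535 4615 = true := by decide +kernel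
theorem c14_10 : allRange (fun i => Nat.beq (act14 i) i) 46150 4615 = true := by decide +kernel
theorem c14_11 : allRange (fun i => Nat.beq (act14 i) i) 50765 4615 = true := by decide +kernel
theorem c14_12 : allRange (fun i => Nat.beq (act14 i) i) 55380 4615 = true := by decide +kernel
theorem c14_13 : allRange (fun i => Nat.beq (act14 i) i) 59995 4615 = true := by decide +kernel
theorem c14_14 : allRange (fun i => Nat.beq (act14 i) i) 64610 4615 = true := by decide +kernel
theorem c14_15 : allRange (fun i => Nat.beq (act14 i) i) 69225 4615 = true := by decide +kernel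
theorem c14_16 : allRange (fun i => Nat.beq (act14 i) i) 73840 4615 = true := by decide +kernel
theorem c14_17 : allRange (fun i => Nat.beq (act14 i) i) 78455 4615 = true := by decide +kernel
theorem c14_18 : allRange (fun i => Nat.beq (act14 i) i) 83070 130 = true := by decide +kernel
theorem h14 : ∀ i, i < T.N → Tab.relActOK T D chk14 i = true := by
  intro i hi
  rw [Tab.relActOK, ← act14_eq]
  exact (range_glue (range_of_allRange c14_0) (range_glue (range_of_allRange c14_1) (range_glue (range_of_allRange c14_2) (range_glue (range_of_allRange c14_3) (range_glue (range_of_allRange c14_4) (range_glue (range_of_allRange c14_5) (range_glue (range_of_allRange c14_6) (range_glue (range_of_allRange c14_7) (range_glue (range_of_allRange c14_8) (range_glue (range_of_allRange c14_9) (range_glue (range_of_allRange c14_10) (range_glue (range_of_allRange c14_11) (range_glue (range_of_allRange c14_12) (range_glue (range_of_allRange c14_13) (range_glue (range_of_allRange c14_14) (range_glue (range_of_allRange c14_15) (range_glue (range_of_allRange c14_16) (range_glue (range_of_allRange c14_17) (range_of_allRange c14_18)))))))))))))))))))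 i (Nat.zero_le _) hi

def chk15 : List Nat := [0, 4, 1, 3, 1, 3, 0, 4, 1, 3, 1, 3, 4, 4]
noncomputable def act15 (i : Nat) : Nat := col1 (col5 (col0 (col2 (col0 (col2 (col1 (col5 (col0 (col2 (col0 (col2 (col5 (col5 (i))))))))))))))
theorem act15_eq (i : Nat) : act15 i = Tab.act T D chk15 i := rfl
theorem c15_0 : allRange (fun i => Nat.beq (act15 i) i) 0 3750 = true := by decide +kernel
theorem c15_1 : allRange (fun i => Nat.beq (act15 i) i) 3750 3750 = true := by decide +kernel
theorem c15_2 : allRange (fun i => Nat.beq (act15 i) i) 7500 3750 = true := by decide +kernel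
theorem c15_3 : allRange (fun i => Nat.beq (act15 i) i) 11250 3750 = true := by decide +kernel
theorem c15_4 : allRange (fun i => Nat.beq (act15 i) i) 15000 3750 = true := by decide +kernel
theorem c15_5 : allRange (fun i => Nat.beq (act15 i) i) 18750 3750 = true := by decide +kernel
theorem c15_6 : allRange (fun i => Nat.beq (act15 i) i) 22500 3750 = true := by decide +kernel
theorem c15_7 : allRange (fun i => Nat.beq (act15 i) i) 26250 3750 = true := by decide +kernel
theorem c15_8 : allRange (fun i => Nat.beq (act15 i) i) 30000 3750 = true := by decide +kernel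
theorem c15_9 : allRange (fun i => Nat.beq (act15 i) i) 33750 3750 = true := by decide +kernel
theorem c15_10 : allRange (fun i => Nat.beq (act15 i) i) 37500 3750 = true := by decide +kernel
theorem c15_11 : allRange (fun i => Nat.beq (act15 i) i) 41250 3750 = true := by decide +kernel
theorem c15_12 : allRange (fun i => Nat.beq (act15 i) i) 45000 3750 = true := by decide +kernel
theorem c15_13 : allRange (fun i => Nat.beq (act15 i) i) 48750 3750 = true := by decide +kernel
theorem c15_14 : allRange (fun i => Nat.beq (act15 i) i) 52500 3750 = true := by decide +kernel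
theorem c15_15 : allRange (fun i => Nat.beq (act15 i) i) 56250 3750 = true := by decide +kernel
theorem c15_16 : allRange (fun i => Nat.beq (act15 i) i) 60000 3750 = true := by decide +kernel
theorem c15_17 : allRange (fun i => Nat.beq (act15 i) i) 63750 3750 = true := by decide +kernel
theorem c15_18 : allRange (fun i => Nat.beq (act15 i) i) 67500 3750 = true := by decide +kernel
theorem c15_19 : allRange (fun i => Nat.beq (act15 i) i) 71250 3750 = true := by decide +kernel
theorem c15_20 : allRange (fun i => Nat.beq (act15 i) i) 75000 3750 = true := by decide +kernel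
theorem c15_21 : allRange (fun i => Nat.beq (act15 i) i) 78750 3750 = true := by decide +kernel
theorem c15_22 : allRange (fun i => Nat.beq (act15 i) i) 82500 700 = true := by decide +kernel
theorem h15 : ∀ i, i < T.N → Tab.relActOK T D chk15 i = true := by
  intro i hi
  rw [Tab.relActOK, ← act15_eq]
  exact (range_glue (range_of_allRange c15_0) (range_glue (range_of_allRange c15_1) (range_glue (range_of_allRange c15_2) (range_glue (range_of_allRange c15_3) (range_glue (range_of_allRange c15_4) (range_glue (range_of_allRange c15_5) (range_glue (range_of_allRange c15_6) (range_glue (range_of_allRange c15_7) (range_glue (range_of_allRange c15_8) (range_glue (range_of_allRange c15_9) (range_glue (range_of_allRange c15_10) (range_glue (range_of_allRange c15_11) (range_glue (range_of_allRange c15_12) (range_glue (range_of_allRange c15_13) (range_glue (range_of_allRange c15_14) (range_glue (range_of_allRange c15_15) (range_glue (range_of_allRange c15_16) (range_glue (range_of_allRange c15_17) (range_glue (range_of_allRange c15_18) (range_glue (range_of_allRange c15_19) (range_glue (range_of_allRange c15_20) (range_glue (range_of_allRange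 c15_21) (range_of_allRange c15_22))))))))))))))))))))))) i (Nat.zero_le _) hi

def chk16 : List Nat := [4, 4, 4, 4]
noncomputable def act16 (i : Nat) : Nat := col5 (col5 (col5 (col5 (i))))
theorem act16_eq (i : Nat) : act16 i = Tab.act T D chk16 i := rfl
theorem c16_0 : allRange (fun i => Nat.beq (act16 i) i) 0 10000 = true := by decide +kernel
theorem c16_1 : allRange (fun i => Nat.beq (act16 i) i) 10000 10000 = true := by decide +kernel
theorem c16_2 : allRange (fun i => Nat.beq (act16 i) i) 20000 10000 = true := by decide +kernel
theorem c16_3 : allRange (fun i => Nat.beq (act16 i) i) 30000 10000 = true := by decide +kernel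
theorem c16_4 : allRange (fun i => Nat.beq (act16 i) i) 40000 10000 = true := by decide +kernel
theorem c16_5 : allRange (fun i => Nat.beq (act16 i) i) 50000 10000 = true := by decide +kernel
theorem c16_6 : allRange (fun i => Nat.beq (act16 i) i) 60000 10000 = true := by decide +kernel
theorem c16_7 : allRange (fun i => Nat.beq (act16 i) i) 70000 10000 = true := by decide +kernel
theorem c16_8 : allRange (fun i => Nat.beq (act16 i) i) 80000 3200 = true := by decide +kernel
theorem h16 : ∀ i, i < T.N → Tab.relActOK T D chk16 i = true := by
  intro i hi
  rw [Tab.relActOK, ← act16_eq]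
  exact (range_glue (range_of_allRange c16_0) (range_glue (range_of_allRange c16_1) (range_glue (range_of_allRange c16_2) (range_glue (range_of_allRange c16_3) (range_glue (range_of_allRange c16_4) (range_glue (range_of_allRange c16_5) (range_glue (range_of_allRange c16_6) (range_glue (range_of_allRange c16_7) (range_of_allRange c16_8))))))))) i (Nat.zero_le _) hi

def chk17 : List Nat := [5, 5, 1, 4, 4, 0]
noncomputable def act17 (i : Nat) : Nat := col4 (col4 (col0 (col5 (col5 (col1 (i))))))
theorem act17_eq (i : Nat) : act17 i = Tab.act T D chk17 i := rfl
theorem c17_0 : allRange (fun i => Nat.beq (act17 i) i) 0 7500 = true := by decide +kernel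
theorem c17_1 : allRange (fun i => Nat.beq (act17 i) i) 7500 7500 = true := by decide +kernel
theorem c17_2 : allRange (fun i => Nat.beq (act17 i) i) 15000 7500 = true := by decide +kernel
theorem c17_3 : allRange (fun i => Nat.beq (act17 i) i) 22500 7500 = true := by decide +kernel
theorem c17_4 : allRange (fun i => Nat.beq (act17 i) i) 30000 7500 = true := by decide +kernel
theorem c17_5 : allRange (fun i => Nat.beq (act17 i) i) 37500 7500 = true := by decide +kernel
theorem c17_6 : allRange (fun i => Nat.beq (act17 i) i) 45000 7500 = true := by decide +kernel
theorem c17_7 : allRange (fun i => Nat.beq (act17 i) i) 52500 7500 = true := by decide +kernel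
theorem c17_8 : allRange (fun i => Nat.beq (act17 i) i) 60000 7500 = true := by decide +kernel
theorem c17_9 : allRange (fun i => Nat.beq (act17 i) i) 67500 7500 = true := by decide +kernel
theorem c17_10 : allRange (fun i => Nat.beq (act17 i) i) 75000 7500 = true := by decide +kernel
theorem c17_11 : allRange (fun i => Nat.beq (act17 i) i) 82500 700 = true := by decide +kernel
theorem h17 : ∀ i, i < T.N → Tab.relActOK T D chk17 i = true := by
  intro i hi
  rw [Tab.relActOK, ← act17_eq]
  exact (range_glue (range_of_allRange c17_0) (range_glue (range_of_allRange c17_1) (range_glue (range_of_allRange c17_2) (range_glue (range_of_allRange c17_3) (range_glue (range_of_allRange c17_4) (range_glue (range_of_allRange c17_5) (range_glue (range_of_allRange c17_6) (range_glue (range_of_allRange c17_7) (range_glue (range_of_allRange c17_8) (range_glue (range_of_allRange c17_9) (range_glue (range_of_allRange c17_10) (range_of_allRange c17_11)))))))))))) i (Nat.zero_le _) hi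

def chk18 : List Nat := [5, 5, 3, 4, 4, 2]
noncomputable def act18 (i : Nat) : Nat := col4 (col4 (col2 (col5 (col5 (col3 (i))))))
theorem act18_eq (i : Nat) : act18 i = Tab.act T D chk18 i := rfl
theorem c18_0 : allRange (fun i => Nat.beq (act18 i) i) 0 7500 = true := by decide +kernel
theorem c18_1 : allRange (fun i => Nat.beq (act18 i) i) 7500 7500 = true := by decide +kernel
theorem c18_2 : allRange (fun i => Nat.beq (act18 i) i) 15000 7500 = true := by decide +kernel
theorem c18_3 : allRange (fun i => Nat.beq (act18 i) i) 22500 7500 = true := by decide +kernel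
theorem c18_4 : allRange (fun i => Nat.beq (act18 i) i) 30000 7500 = true := by decide +kernel
theorem c18_5 : allRange (fun i => Nat.beq (act18 i) i) 37500 7500 = true := by decide +kernel
theorem c18_6 : allRange (fun i => Nat.beq (act18 i) i) 45000 7500 = true := by decide +kernel
theorem c18_7 : allRange (fun i => Nat.beq (act18 i) i) 52500 7500 = true := by decide +kernel
theorem c18_8 : allRange (fun i => Nat.beq (act18 i) i) 60000 7500 = true := by decide +kernel
theorem c18_9 : allRange (fun i => Nat.beq (act18 i) i) 67500 7500 = true := by decide +kernel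
theorem c18_10 : allRange (fun i => Nat.beq (act18 i) i) 75000 7500 = true := by decide +kernel
theorem c18_11 : allRange (fun i => Nat.beq (act18 i) i) 82500 700 = true := by decide +kernel
theorem h18 : ∀ i, i < T.N → Tab.relActOK T D chk18 i = true := by
  intro i hi
  rw [Tab.relActOK, ← act18_eq]
  exact (range_glue (range_of_allRange c18_0) (range_glue (range_of_allRange c18_1) (range_glue (range_of_allRange c18_2) (range_glue (range_of_allRange c18_3) (range_glue (range_of_allRange c18_4) (range_glue (range_of_allRange c18_5) (range_glue (range_of_allRange c18_6) (range_glue (range_of_allRange c18_7) (range_glue (range_of_allRange c18_8) (range_glue (range_of_allRange c18_9) (range_glue (range_of_allRange c18_10) (range_of_allRange c18_11)))))))))))) i (Nat.zero_le _) hi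

def chkAll : List (List Nat) := [chk0, chk1, chk2, chk3, chk4, chk5, chk6, chk7, chk8, chk9, chk10, chk11, chk12, chk13, chk14, chk15, chk16, chk17, chk18]
theorem hAll : ∀ w ∈ chkAll, ∀ i, i < T.N → Tab.relActOK T D w i = true := by
  intro w hw
  simp only [chkAll, List.mem_cons, List.not_mem_nil, or_false] at hw
  rcases hw with rfl | rfl | rfl | rfl | rfl | rfl | rfl | rfl | rfl | rfl | rfl | rfl | rfl | rfl | rfl | rfl | rfl | rfl | rfl
  · exact h0
  · exact h1
  · exact h2
  · exact h3
  · exact h4
  · exact h5
  · exact h6
  · exact h7
  · exact h8
  · exact h9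
  · exact h10
  · exact h11
  · exact h12
  · exact h13
  · exact h14
  · exact h15
  · exact h16
  · exact h17
  · exact h18
theorem hAll_lt : ∀ w ∈ chkAll, ∀ x ∈ w, x < 10 := by decide +kernel

end Cfsg.Agent.Lib.Helper4.TCD.SC2G24p3W
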