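import Mathlib
import Cfsg.Prelude.Def_KGroupFacts
import Cfsg.Agent.Lib.Helper4.C2G24Cover
import Cfsg.Agent.Lib.Helper4.SC2G24p2Main
import Cfsg.Agent.Lib.Helper4.SC2G24p3Main
import Cfsg.Agent.Lib.Helper4.SC2G24p5Main

/-!
The presented group `C2G24` (the double cover of `G₂(4)`) has no stem extension with kernel of prime order.
-/

set_option autoImplicit false

namespace Cfsg.Agent.Lib.Helper4.C2G24NoStem

open Cfsg Cfsg.Agent.Lib.Helper4.TC Cfsg.Agent.Lib.Helper4.TCD Cfsg.Agent.Lib.Helper4.TC.Log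
  Cfsg.Agent.Lib.Helper4.Stem

/-- no stem extension with kernel of prime order -/
theorem noStem : ∀ p, p.Prime → NoStemPrime PC2G24.P.Grp p := by
  obtain ⟨fG, _, hcard⟩ := C2G24Main.order_aux
  have := fG
  apply noStemPrime_all PC2G24.P.Grp [2, 3, 5]
  · intro p hp
    simp only [List.mem_cons, List.not_mem_nil, or_false] at hp
    rcases hp with rfl | rfl | rfl
    · exact SC2G24p2Main.noStem
    · exact SC2G24p3Main.noStem
    · exact SC2G24p5Main.noStem
  · rw [hcard]
    exact sq_dvd_mem_of_factors 503193600 [2, 2, 2, 2, 2, 2, 2, 2, 2, 2, 2, 2, 2, 3, 3, 3, 5, 5, 7, 13] (by norm_num) (by decide)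
      [2, 3, 5] (by decide)

end Cfsg.Agent.Lib.Helper4.C2G24NoStem
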