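import Cfsg.Agent.Lib.Helper4.TCD_Suz1_Acc
import Cfsg.Agent.Lib.Helper4.TC13

namespace Cfsg.Agent.Lib.Helper4.TCD.G24SuzS

open Cfsg.Agent.Lib.Helper4.TC Cfsg.Agent.Lib.Helper4.TCD.Suz1

set_option maxRecDepth 100000
set_option Elab.async false

def chk0 : List Nat := [3, 2, 3, 2, 1, 0, 1, 2, 4, 3, 2, 1, 0, 3, 2, 1, 0, 4, 3, 2, 1, 3, 4, 3, 2, 3, 2, 1, 0, 1, 2, 4, 3, 2, 1, 0, 3, 2, 1, 0, 4, 3, 2, 1, 3, 4, 3, 2, 3, 2, 1, 0, 1, 2, 4, 3, 2, 1, 0, 3, 2, 1, 0, 4, 3, 2, 1, 3, 4, 3, 2, 3, 2, 1, 0, 1, 2, 4, 3, 2, 1, 0, 3, 2, 1, 0, 4, 3, 2, 1, 3, 4, 3, 2, 3, 2, 1, 0, 1, 2, 4, 3, 2, 1, 0, 3, 2, 1, 0, 4, 3, 2, 1, 3, 4, 3, 2, 3, 2, 1, 0, 1, 2, 4, 3, 2, 1, 0, 3, 2, 1, 0, 4, 3, 2, 1, 3, 4, 3, 2, 3, 2, 1, 0, 1, 2, 4, 3, 2, 1, 0, 3, 2, 1, 0, 4, 3, 2, 1, 3, 4]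
noncomputable def act0 (i : Nat) : Nat := col3 (col2 (col3 (col2 (col1 (col0 (col1 (col2 (col4 (col3 (col2 (col1 (col0 (col3 (col2 (col1 (col0 (col4 (col3 (col2 (col1 (col3 (col4 (col3 (col2 (col3 (col2 (col1 (col0 (col1 (col2 (col4 (col3 (col2 (col1 (col0 (col3 (col2 (col1 (col0 (col4 (col3 (col2 (col1 (col3 (col4 (col3 (col2 (col3 (col2 (col1 (col0 (col1 (col2 (col4 (col3 (col2 (col1 (col0 (col3 (col2 (col1 (col0 (col4 (col3 (col2 (col1 (col3 (col4 (col3 (col2 (col3 (col2 (col1 (col0 (col1 (col2 (col4 (col3 (col2 (col1 (col0 (col3 (col2 (col1 (col0 (col4 (col3 (col2 (col1 (col3 (col4 (col3 (col2 (col3 (col2 (col1 (col0 (col1 (col2 (col4 (col3 (col2 (col1 (col0 (col3 (col2 (col1 (col0 (col4 (col3 (col2 (col1 (col3 (col4 (col3 (col2 (col3 (col2 (col1 (col0 (col1 (col2 (col4 (col3 (col2 (col1 (col0 (col3 (col2 (col1 (col0 (col4 (col3 (col2 (col1 (col3 (col4 (col3 (col2 (col3 (col2 (col1 (col0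 (col1 (col2 (col4 (col3 (col2 (col1 (col0 (col3 (col2 (col1 (col0 (col4 (col3 (col2 (col1 (col3 (col4 (i)))))))))))))))))))))))))))))))))))))))))))))))))))))))))))))))))))))))))))))))))))))))))))))))))))))))))))))))))))))))))))))))))))))))))))))))))))))))))))))))))
theorem act0_eq (i : Nat) : act0 i = Tab.act T D chk0 i := rfl
theorem c0_0 : allRange (fun i => Nat.beq (act0 i) i) 0 368 = true := by decide +kernel
theorem c0_1 : allRange (fun i => Nat.beq (act0 i) i) 368 368 = true := by decide +kernel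
theorem c0_2 : allRange (fun i => Nat.beq (act0 i) i) 736 368 = true := by decide +kernel
theorem c0_3 : allRange (fun i => Nat.beq (act0 i) i) 1104 368 = true := by decide +kernel
theorem c0_4 : allRange (fun i => Nat.beq (act0 i) i) 1472 310 = true := by decide +kernel
theorem h0 : ∀ i, i < T.N → Tab.relActOK T D chk0 i = true := by
  intro i hi
  rw [Tab.relActOK, ← act0_eq]
  exact (range_glue (range_of_allRange c0_0) (range_glue (range_of_allRange c0_1) (range_glue (range_of_allRange c0_2) (range_glue (range_of_allRange c0_3) (range_of_allRange c0_4))))) i (Nat.zero_le _) hi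

def chk1 : List Nat := [3, 2, 3, 2, 1, 0, 1, 2, 4, 3, 2, 1, 0, 3, 2, 1, 0, 4, 3, 2, 1, 3, 4, 3, 2, 3, 2, 1, 0, 1, 2, 4, 3, 2, 1, 0, 3, 2, 1, 0, 4, 3, 2, 1, 3, 4, 1, 0, 1, 2, 3, 2, 4, 3, 2, 1, 0, 1, 0, 2, 3, 2, 1, 0, 4, 3, 2, 1, 0, 3, 2, 4, 3, 1, 2, 3, 4, 0, 1, 2, 3, 0, 1, 2, 3, 4, 2, 1, 0, 1, 2, 3, 2, 3, 1, 0, 1, 2, 3, 2, 4, 3, 2, 1, 0, 1, 0, 2, 3, 2, 1, 0, 4, 3, 2, 1, 0, 3, 2, 3, 2, 3, 2, 1, 0, 1, 2, 4, 3, 2, 1, 0, 3, 2, 1, 0, 4, 3, 2, 1, 3, 4, 2, 3, 0, 1, 2, 3, 4, 0, 1, 2, 3, 2, 0, 1, 0, 1, 2, 3, 4, 2, 3, 2, 1, 0, 1, 3, 2, 3, 2, 1, 0, 1, 2, 4, 3, 2, 1, 0, 3, 2, 1, 0, 4, 3, 2, 1, 3, 4, 1, 0, 1, 2, 3, 2, 4, 3, 2, 1, 0, 1, 0, 2, 3, 2, 1, 0, 4, 3, 2, 1, 0, 3, 2, 4, 3, 1, 2, 3, 4, 0, 1, 2, 3, 0, 1, 2, 3, 4, 2, 1, 0, 1, 2, 3, 2, 3, 1, 0, 1, 2, 3, 2, 4, 3, 2, 1, 0, 1, 0, 2, 3, 2, 1, 0, 4, 3, 2, 1, 0, 3, 2]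
noncomputable def act1 (i : Nat) : Nat := col3 (col2 (col3 (col2 (col1 (col0 (col1 (col2 (col4 (col3 (col2 (col1 (col0 (col3 (col2 (col1 (col0 (col4 (col3 (col2 (col1 (col3 (col4 (col3 (col2 (col3 (col2 (col1 (col0 (col1 (col2 (col4 (col3 (col2 (col1 (col0 (col3 (col2 (col1 (col0 (col4 (col3 (col2 (col1 (col3 (col4 (col1 (col0 (col1 (col2 (col3 (col2 (col4 (col3 (col2 (col1 (col0 (col1 (col0 (col2 (col3 (col2 (col1 (col0 (col4 (col3 (col2 (col1 (col0 (col3 (col2 (col4 (col3 (col1 (col2 (col3 (col4 (col0 (col1 (col2 (col3 (col0 (col1 (col2 (col3 (col4 (col2 (col1 (col0 (col1 (col2 (col3 (col2 (col3 (col1 (col0 (col1 (col2 (col3 (col2 (col4 (col3 (col2 (col1 (col0 (col1 (col0 (col2 (col3 (col2 (col1 (col0 (col4 (col3 (col2 (col1 (col0 (col3 (col2 (col3 (col2 (col3 (col2 (col1 (col0 (col1 (col2 (col4 (col3 (col2 (col1 (col0 (col3 (col2 (col1 (col0 (col4 (col3 (col2 (col1 (col3 (col4 (col2 (col3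 (col0 (col1 (col2 (col3 (col4 (col0 (col1 (col2 (col3 (col2 (col0 (col1 (col0 (col1 (col2 (col3 (col4 (col2 (col3 (col2 (col1 (col0 (col1 (col3 (col2 (col3 (col2 (col1 (col0 (col1 (col2 (col4 (col3 (col2 (col1 (col0 (col3 (col2 (col1 (col0 (col4 (col3 (col2 (col1 (col3 (col4 (col1 (col0 (col1 (col2 (col3 (col2 (col4 (col3 (col2 (col1 (col0 (col1 (col0 (col2 (col3 (col2 (col1 (col0 (col4 (col3 (col2 (col1 (col0 (col3 (col2 (col4 (col3 (col1 (col2 (col3 (col4 (col0 (col1 (col2 (col3 (col0 (col1 (col2 (col3 (col4 (col2 (col1 (col0 (col1 (col2 (col3 (col2 (col3 (col1 (col0 (col1 (col2 (col3 (col2 (col4 (col3 (col2 (col1 (col0 (col1 (col0 (col2 (col3 (col2 (col1 (col0 (col4 (col3 (col2 (col1 (col0 (col3 (col2 (i)))))))))))))))))))))))))))))))))))))))))))))))))))))))))))))))))))))))))))))))))))))))))))))))))))))))))))))))))))))))))))))))))))))))))))))))))))))))))))))))))))))))))))))))))))))))))))))))))))))))))))))))))))))))))))))))))))))))))))))))))))))))))))))))))))))))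
theorem act1_eq (i : Nat) : act1 i = Tab.act T D chk1 i := rfl
theorem c1_0 : allRange (fun i => Nat.beq (act1 i) i) 0 226 = true := by decide +kernel
theorem c1_1 : allRange (fun i => Nat.beq (act1 i) i) 226 226 = true := by decide +kernel
theorem c1_2 : allRange (fun i => Nat.beq (act1 i) i) 452 226 = true := by decide +kernel
theorem c1_3 : allRange (fun i => Nat.beq (act1 i) i) 678 226 = true := by decide +kernel
theorem c1_4 : allRange (fun i => Nat.beq (act1 i) i) 904 226 = true := by decide +kernel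
theorem c1_5 : allRange (fun i => Nat.beq (act1 i) i) 1130 226 = true := by decide +kernel
theorem c1_6 : allRange (fun i => Nat.beq (act1 i) i) 1356 226 = true := by decide +kernel
theorem c1_7 : allRange (fun i => Nat.beq (act1 i) i) 1582 200 = true := by decide +kernel
theorem h1 : ∀ i, i < T.N → Tab.relActOK T D chk1 i = true := by
  intro i hi
  rw [Tab.relActOK, ← act1_eq]
  exact (range_glue (range_of_allRange c1_0) (range_glue (range_of_allRange c1_1) (range_glue (range_of_allRange c1_2) (range_glue (range_of_allRange c1_3) (range_glue (range_of_allRange c1_4) (range_glue (range_of_allRange c1_5) (range_glue (range_of_allRange c1_6) (range_of_allRange c1_7)))))))) i (Nat.zero_le _) hi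

def chk2 : List Nat := [3, 2, 3, 2, 1, 0, 1, 2, 4, 3, 2, 1, 0, 3, 2, 1, 0, 4, 3, 2, 1, 3, 4, 3, 2, 3, 2, 1, 0, 1, 2, 4, 3, 2, 1, 0, 3, 2, 1, 0, 4, 3, 2, 1, 3, 4, 3, 2, 3, 2, 1, 0, 1, 2, 4, 3, 2, 1, 0, 3, 2, 1, 0, 4, 3, 2, 1, 3, 4, 1, 0, 1, 2, 3, 2, 4, 3, 2, 1, 0, 1, 0, 2, 3, 2, 1, 0, 4, 3, 2, 1, 0, 3, 2, 3, 2, 3, 2, 1, 0, 1, 2, 4, 3, 2, 1, 0, 3, 2, 1, 0, 4, 3, 2, 1, 3, 4, 3, 2, 3, 2, 1, 0, 1, 2, 4, 3, 2, 1, 0, 3, 2, 1, 0, 4, 3, 2, 1, 3, 4, 3, 2, 3, 2, 1, 0, 1, 2, 4, 3, 2, 1, 0, 3, 2, 1, 0, 4, 3, 2, 1, 3, 4, 1, 0, 1, 2, 3, 2, 4, 3, 2, 1, 0, 1, 0, 2, 3, 2, 1, 0, 4, 3, 2, 1, 0, 3, 2, 3, 2, 3, 2, 1, 0, 1, 2, 4, 3, 2, 1, 0, 3, 2, 1, 0, 4, 3, 2, 1, 3, 4, 3, 2, 3, 2, 1, 0, 1, 2, 4, 3, 2, 1, 0, 3, 2, 1, 0, 4, 3, 2, 1, 3, 4, 3, 2, 3, 2, 1, 0, 1, 2, 4, 3, 2, 1, 0, 3, 2, 1, 0, 4, 3, 2, 1, 3, 4, 1, 0, 1, 2, 3, 2, 4, 3, 2, 1, 0, 1, 0, 2, 3, 2, 1, 0, 4, 3, 2, 1, 0, 3, 2]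
noncomputable def act2 (i : Nat) : Nat := col3 (col2 (col3 (col2 (col1 (col0 (col1 (col2 (col4 (col3 (col2 (col1 (col0 (col3 (col2 (col1 (col0 (col4 (col3 (col2 (col1 (col3 (col4 (col3 (col2 (col3 (col2 (col1 (col0 (col1 (col2 (col4 (col3 (col2 (col1 (col0 (col3 (col2 (col1 (col0 (col4 (col3 (col2 (col1 (col3 (col4 (col3 (col2 (col3 (col2 (col1 (col0 (col1 (col2 (col4 (col3 (col2 (col1 (col0 (col3 (col2 (col1 (col0 (col4 (col3 (col2 (col1 (col3 (col4 (col1 (col0 (col1 (col2 (col3 (col2 (col4 (col3 (col2 (col1 (col0 (col1 (col0 (col2 (col3 (col2 (col1 (col0 (col4 (col3 (col2 (col1 (col0 (col3 (col2 (col3 (col2 (col3 (col2 (col1 (col0 (col1 (col2 (col4 (col3 (col2 (col1 (col0 (col3 (col2 (col1 (col0 (col4 (col3 (col2 (col1 (col3 (col4 (col3 (col2 (col3 (col2 (col1 (col0 (col1 (col2 (col4 (col3 (col2 (col1 (col0 (col3 (col2 (col1 (col0 (col4 (col3 (col2 (col1 (col3 (col4 (col3 (col2 (col3 (col2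 (col1 (col0 (col1 (col2 (col4 (col3 (col2 (col1 (col0 (col3 (col2 (col1 (col0 (col4 (col3 (col2 (col1 (col3 (col4 (col1 (col0 (col1 (col2 (col3 (col2 (col4 (col3 (col2 (col1 (col0 (col1 (col0 (col2 (col3 (col2 (col1 (col0 (col4 (col3 (col2 (col1 (col0 (col3 (col2 (col3 (col2 (col3 (col2 (col1 (col0 (col1 (col2 (col4 (col3 (col2 (col1 (col0 (col3 (col2 (col1 (col0 (col4 (col3 (col2 (col1 (col3 (col4 (col3 (col2 (col3 (col2 (col1 (col0 (col1 (col2 (col4 (col3 (col2 (col1 (col0 (col3 (col2 (col1 (col0 (col4 (col3 (col2 (col1 (col3 (col4 (col3 (col2 (col3 (col2 (col1 (col0 (col1 (col2 (col4 (col3 (col2 (col1 (col0 (col3 (col2 (col1 (col0 (col4 (col3 (col2 (col1 (col3 (col4 (col1 (col0 (col1 (col2 (col3 (col2 (col4 (col3 (col2 (col1 (col0 (col1 (col0 (col2 (col3 (col2 (col1 (col0 (col4 (col3 (col2 (col1 (col0 (col3 (col2 (i))))))))))))))))))))))))))))))))))))))))))))))))))))))))))))))))))))))))))))))))))))))))))))))))))))))))))))))))))))))))))))))))))))))))))))))))))))))))))))))))))))))))))))))))))))))))))))))))))))))))))))))))))))))))))))))))))))))))))))))))))))))))))))))))))))))))))))))))))))))))))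
theorem act2_eq (i : Nat) : act2 i = Tab.act T D chk2 i := rfl
theorem c2_0 : allRange (fun i => Nat.beq (act2 i) i) 0 211 = true := by decide +kernel
theorem c2_1 : allRange (fun i => Nat.beq (act2 i) i) 211 211 = true := by decide +kernel
theorem c2_2 : allRange (fun i => Nat.beq (act2 i) i) 422 211 = true := by decide +kernel
theorem c2_3 : allRange (fun i => Nat.beq (act2 i) i) 633 211 = true := by decide +kernel
theorem c2_4 : allRange (fun i => Nat.beq (act2 i) i) 844 211 = true := by decide +kernel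
theorem c2_5 : allRange (fun i => Nat.beq (act2 i) i) 1055 211 = true := by decide +kernel
theorem c2_6 : allRange (fun i => Nat.beq (act2 i) i) 1266 211 = true := by decide +kernel
theorem c2_7 : allRange (fun i => Nat.beq (act2 i) i) 1477 211 = true := by decide +kernel
theorem c2_8 : allRange (fun i => Nat.beq (act2 i) i) 1688 94 = true := by decide +kernel
theorem h2 : ∀ i, i < T.N → Tab.relActOK T D chk2 i = true := by
  intro i hi
  rw [Tab.relActOK, ← act2_eq]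
  exact (range_glue (range_of_allRange c2_0) (range_glue (range_of_allRange c2_1) (range_glue (range_of_allRange c2_2) (range_glue (range_of_allRange c2_3) (range_glue (range_of_allRange c2_4) (range_glue (range_of_allRange c2_5) (range_glue (range_of_allRange c2_6) (range_glue (range_of_allRange c2_7) (range_of_allRange c2_8))))))))) i (Nat.zero_le _) hi

def chk3 : List Nat := [3, 2, 3, 2, 1, 0, 1, 2, 4, 3, 2, 1, 0, 3, 2, 1, 0, 4, 3, 2, 1, 3, 4, 3, 2, 3, 2, 1, 0, 1, 2, 4, 3, 2, 1, 0, 3, 2, 1, 0, 4, 3, 2, 1, 3, 4, 1, 0, 1, 2, 3, 2, 4, 3, 2, 1, 0, 1, 0, 2, 3, 2, 1, 0, 4, 3, 2, 1, 0, 3, 2, 1, 0, 1, 2, 3, 2, 4, 3, 2, 1, 0, 1, 0, 2, 3, 2, 1, 0, 4, 3, 2, 1, 0, 3, 2, 3, 2, 3, 2, 1, 0, 1, 2, 4, 3, 2, 1, 0, 3, 2, 1, 0, 4, 3, 2, 1, 3, 4, 3, 2, 3, 2, 1, 0, 1, 2, 4, 3, 2, 1, 0, 3, 2, 1, 0, 4, 3, 2, 1, 3, 4, 2, 3, 0, 1, 2, 3, 4, 0, 1, 2, 3, 2, 0, 1, 0, 1, 2, 3, 4, 2, 3, 2, 1, 0, 1, 2, 3, 0, 1, 2, 3,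 4, 0, 1, 2, 3, 2, 0, 1, 0, 1, 2, 3, 4, 2, 3, 2, 1, 0, 1, 3, 2, 3, 2, 1, 0, 1, 2, 4, 3, 2, 1, 0, 3, 2, 1, 0, 4, 3, 2, 1, 3, 4, 3, 2, 3, 2, 1, 0, 1, 2, 4, 3, 2, 1, 0, 3, 2, 1, 0, 4, 3, 2, 1, 3, 4, 2, 3, 0, 1, 2, 3, 4, 0, 1, 2, 3, 2, 0, 1, 0, 1, 2, 3, 4, 2, 3, 2, 1, 0, 1, 2, 3, 0, 1, 2, 3, 4, 0, 1, 2, 3, 2, 0, 1, 0, 1, 2, 3, 4, 2, 3, 2, 1, 0, 1]
noncomputable def act3 (i : Nat) : Nat := col3 (col2 (col3 (col2 (col1 (col0 (col1 (col2 (col4 (col3 (col2 (col1 (col0 (col3 (col2 (col1 (col0 (col4 (col3 (col2 (col1 (col3 (col4 (col3 (col2 (col3 (col2 (col1 (col0 (col1 (col2 (col4 (col3 (col2 (col1 (col0 (col3 (col2 (col1 (col0 (col4 (col3 (col2 (col1 (col3 (col4 (col1 (col0 (col1 (col2 (col3 (col2 (col4 (col3 (col2 (col1 (col0 (col1 (col0 (col2 (col3 (col2 (col1 (col0 (col4 (col3 (col2 (col1 (col0 (col3 (col2 (col1 (col0 (col1 (col2 (col3 (col2 (col4 (col3 (col2 (col1 (col0 (col1 (col0 (col2 (col3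 (col2 (col1 (col0 (col4 (col3 (col2 (col1 (col0 (col3 (col2 (col3 (col2 (col3 (col2 (col1 (col0 (col1 (col2 (col4 (col3 (col2 (col1 (col0 (col3 (col2 (col1 (col0 (col4 (col3 (col2 (col1 (col3 (col4 (col3 (col2 (col3 (col2 (col1 (col0 (col1 (col2 (col4 (col3 (col2 (col1 (col0 (col3 (col2 (col1 (col0 (col4 (col3 (col2 (col1 (col3 (col4 (col2 (col3 (col0 (col1 (col2 (col3 (col4 (col0 (col1 (col2 (col3 (col2 (col0 (col1 (col0 (col1 (col2 (col3 (col4 (col2 (col3 (col2 (col1 (col0 (col1 (col2 (col3 (col0 (col1 (col2 (col3 (col4 (col0 (col1 (col2 (col3 (col2 (col0 (col1 (col0 (col1 (col2 (col3 (col4 (col2 (col3 (col2 (col1 (col0 (col1 (col3 (col2 (col3 (col2 (col1 (col0 (col1 (col2 (col4 (col3 (col2 (col1 (col0 (col3 (col2 (col1 (col0 (col4 (col3 (col2 (col1 (col3 (col4 (col3 (col2 (col3 (col2 (col1 (col0 (col1 (col2 (col4 (col3 (col2 (col1 (col0 (col3 (col2 (col1 (col0 (col4 (col3 (col2 (col1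 (col3 (col4 (col2 (col3 (col0 (col1 (col2 (col3 (col4 (col0 (col1 (col2 (col3 (col2 (col0 (col1 (col0 (col1 (col2 (col3 (col4 (col2 (col3 (col2 (col1 (col0 (col1 (col2 (col3 (col0 (col1 (col2 (col3 (col4 (col0 (col1 (col2 (col3 (col2 (col0 (col1 (col0 (col1 (col2 (col3 (col4 (col2 (col3 (col2 (col1 (col0 (col1 (i))))))))))))))))))))))))))))))))))))))))))))))))))))))))))))))))))))))))))))))))))))))))))))))))))))))))))))))))))))))))))))))))))))))))))))))))))))))))))))))))))))))))))))))))))))))))))))))))))))))))))))))))))))))))))))))))))))))))))))))))))))))))))))))))))))))))))))))))))))))))))))))))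
theorem act3_eq (i : Nat) : act3 i = Tab.act T D chk3 i := rfl
theorem c3_0 : allRange (fun i => Nat.beq (act3 i) i) 0 206 = true := by decide +kernel
theorem c3_1 : allRange (fun i => Nat.beq (act3 i) i) 206 206 = true := by decide +kernel
theorem c3_2 : allRange (fun i => Nat.beq (act3 i) i) 412 206 = true := by decide +kernel
theorem c3_3 : allRange (fun i => Nat.beq (act3 i) i) 618 206 = true := by decide +kernel
theorem c3_4 : allRange (fun i => Nat.beq (act3 i) i) 824 206 = true := by decide +kernel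
theorem c3_5 : allRange (fun i => Nat.beq (act3 i) i) 1030 206 = true := by decide +kernel
theorem c3_6 : allRange (fun i => Nat.beq (act3 i) i) 1236 206 = true := by decide +kernel
theorem c3_7 : allRange (fun i => Nat.beq (act3 i) i) 1442 206 = true := by decide +kernel
theorem c3_8 : allRange (fun i => Nat.beq (act3 i) i) 1648 134 = true := by decide +kernel
theorem h3 : ∀ i, i < T.N → Tab.relActOK T D chk3 i = true := by
  intro i hi
  rw [Tab.relActOK, ← act3_eq]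
  exact (range_glue (range_of_allRange c3_0) (range_glue (range_of_allRange c3_1) (range_glue (range_of_allRange c3_2) (range_glue (range_of_allRange c3_3) (range_glue (range_of_allRange c3_4) (range_glue (range_of_allRange c3_5) (range_glue (range_of_allRange c3_6) (range_glue (range_of_allRange c3_7) (range_of_allRange c3_8))))))))) i (Nat.zero_le _) hi

def chk4 : List Nat := [1, 0, 1, 3, 2, 4, 3, 2, 1, 0, 1, 3, 2, 1, 3, 2, 4, 3, 2, 1, 3, 2, 1, 0, 1, 3, 2, 4, 3, 2, 1, 0, 1, 3, 2, 1, 3, 2, 4, 3, 2, 1, 3, 2]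
noncomputable def act4 (i : Nat) : Nat := col1 (col0 (col1 (col3 (col2 (col4 (col3 (col2 (col1 (col0 (col1 (col3 (col2 (col1 (col3 (col2 (col4 (col3 (col2 (col1 (col3 (col2 (col1 (col0 (col1 (col3 (col2 (col4 (col3 (col2 (col1 (col0 (col1 (col3 (col2 (col1 (col3 (col2 (col4 (col3 (col2 (col1 (col3 (col2 (i))))))))))))))))))))))))))))))))))))))))))))
theorem act4_eq (i : Nat) : act4 i = Tab.act T D chk4 i := rfl
theorem c4_0 : allRange (fun i => Nat.beq (act4 i) i) 0 1304 = true := by decide +kernel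
theorem c4_1 : allRange (fun i => Nat.beq (act4 i) i) 1304 478 = true := by decide +kernel
theorem h4 : ∀ i, i < T.N → Tab.relActOK T D chk4 i = true := by
  intro i hi
  rw [Tab.relActOK, ← act4_eq]
  exact (range_glue (range_of_allRange c4_0) (range_of_allRange c4_1)) i (Nat.zero_le _) hi

def chk5 : List Nat := [3, 2, 3, 2, 1, 0, 1, 2, 4, 3, 2, 1, 0, 3, 2, 1, 0, 4, 3, 2, 1, 3, 4, 1, 0, 1, 3, 2, 4, 3, 2, 1, 0, 1, 3, 2, 1, 3, 2, 4, 3, 2, 1, 3, 2, 2, 3, 0, 1, 2, 3, 4, 0, 1, 2, 3, 2, 0, 1, 0, 1, 2, 3, 4, 2, 3, 2, 1, 0, 1, 1, 0, 1, 3, 2, 4, 3, 2, 1, 0, 1, 3, 2, 1, 3, 2, 4, 3, 2, 1, 3, 2, 1, 0, 1, 2, 3, 2, 4, 3, 2, 1, 0, 1, 0, 2, 3, 2, 1, 0, 4, 3, 2, 1, 0, 3, 2, 4, 3, 1, 2, 3, 4, 0, 1, 2, 3, 0, 1, 2, 3, 4, 2, 1, 0, 1, 2, 3, 2, 3, 1, 0, 1, 2, 3, 2, 4, 3, 2, 1, 0, 1, 0, 2, 3, 2, 1, 0, 4, 3, 2, 1, 0, 3, 2, 4, 3, 1, 2, 3, 4, 0, 1, 2, 3, 0, 1, 2, 3, 4, 2, 1, 0, 1, 2, 3, 2, 3, 4, 3, 1, 2, 3, 4, 0,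 1, 2, 3, 0, 1, 2, 3, 4, 2, 1, 0, 1, 2, 3, 2, 3, 1, 0, 1, 3, 2, 4, 3, 2, 1, 0, 1, 3, 2, 1, 3, 2, 4, 3, 2, 1, 3, 2, 1, 0, 1, 2, 3, 2, 4, 3, 2, 1, 0, 1, 0, 2, 3, 2, 1, 0, 4, 3, 2, 1, 0, 3, 2]
noncomputable def act5 (i : Nat) : Nat := col3 (col2 (col3 (col2 (col1 (col0 (col1 (col2 (col4 (col3 (col2 (col1 (col0 (col3 (col2 (col1 (col0 (col4 (col3 (col2 (col1 (col3 (col4 (col1 (col0 (col1 (col3 (col2 (col4 (col3 (col2 (col1 (col0 (col1 (col3 (col2 (col1 (col3 (col2 (col4 (col3 (col2 (col1 (col3 (col2 (col2 (col3 (col0 (col1 (col2 (col3 (col4 (col0 (col1 (col2 (col3 (col2 (col0 (col1 (col0 (col1 (col2 (col3 (col4 (col2 (col3 (col2 (col1 (col0 (col1 (col1 (col0 (col1 (col3 (col2 (col4 (col3 (col2 (col1 (col0 (col1 (col3 (col2 (col1 (col3 (col2 (col4 (col3 (col2 (col1 (col3 (col2 (col1 (col0 (col1 (col2 (col3 (col2 (col4 (col3 (col2 (col1 (col0 (col1 (col0 (col2 (col3 (col2 (col1 (col0 (col4 (col3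 (col2 (col1 (col0 (col3 (col2 (col4 (col3 (col1 (col2 (col3 (col4 (col0 (col1 (col2 (col3 (col0 (col1 (col2 (col3 (col4 (col2 (col1 (col0 (col1 (col2 (col3 (col2 (col3 (col1 (col0 (col1 (col2 (col3 (col2 (col4 (col3 (col2 (col1 (col0 (col1 (col0 (col2 (col3 (col2 (col1 (col0 (col4 (col3 (col2 (col1 (col0 (col3 (col2 (col4 (col3 (col1 (col2 (col3 (col4 (col0 (col1 (col2 (col3 (col0 (col1 (col2 (col3 (col4 (col2 (col1 (col0 (col1 (col2 (col3 (col2 (col3 (col4 (col3 (col1 (col2 (col3 (col4 (col0 (col1 (col2 (col3 (col0 (col1 (col2 (col3 (col4 (col2 (col1 (col0 (col1 (col2 (col3 (col2 (col3 (col1 (col0 (col1 (col3 (col2 (col4 (col3 (col2 (col1 (col0 (col1 (col3 (col2 (col1 (col3 (col2 (col4 (col3 (col2 (col1 (col3 (col2 (col1 (col0 (col1 (col2 (col3 (col2 (col4 (col3 (col2 (col1 (col0 (col1 (col0 (col2 (col3 (col2 (col1 (col0 (col4 (col3 (col2 (col1 (col0 (col3 (col2 (i))))))))))))))))))))))))))))))))))))))))))))))))))))))))))))))))))))))))))))))))))))))))))))))))))))))))))))))))))))))))))))))))))))))))))))))))))))))))))))))))))))))))))))))))))))))))))))))))))))))))))))))))))))))))))))))))))))))))))))))))))))))))))))))))))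
theorem act5_eq (i : Nat) : act5 i = Tab.act T D chk5 i := rfl
theorem c5_0 : allRange (fun i => Nat.beq (act5 i) i) 0 230 = true := by decide +kernel
theorem c5_1 : allRange (fun i => Nat.beq (act5 i) i) 230 230 = true := by decide +kernel
theorem c5_2 : allRange (fun i => Nat.beq (act5 i) i) 460 230 = true := by decide +kernel
theorem c5_3 : allRange (fun i => Nat.beq (act5 i) i) 690 230 = true := by decide +kernel
theorem c5_4 : allRange (fun i => Nat.beq (act5 i) i) 920 230 = true := by decide +kernel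
theorem c5_5 : allRange (fun i => Nat.beq (act5 i) i) 1150 230 = true := by decide +kernel
theorem c5_6 : allRange (fun i => Nat.beq (act5 i) i) 1380 230 = true := by decide +kernel
theorem c5_7 : allRange (fun i => Nat.beq (act5 i) i) 1610 172 = true := by decide +kernel
theorem h5 : ∀ i, i < T.N → Tab.relActOK T D chk5 i = true := by
  intro i hi
  rw [Tab.relActOK, ← act5_eq]
  exact (range_glue (range_of_allRange c5_0) (range_glue (range_of_allRange c5_1) (range_glue (range_of_allRange c5_2) (range_glue (range_of_allRange c5_3) (range_glue (range_of_allRange c5_4) (range_glue (range_of_allRange c5_5) (range_glue (range_of_allRange c5_6) (range_of_allRange c5_7)))))))) i (Nat.zero_le _) hi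

def chk6 : List Nat := [3, 2, 3, 2, 1, 0, 1, 2, 4, 3, 2, 1, 0, 3, 2, 1, 0, 4, 3, 2, 1, 3, 4, 1, 0, 1, 3, 2, 4, 3, 2, 1, 0, 1, 3, 2, 1, 3, 2, 4, 3, 2, 1, 3, 2, 4, 3, 1, 2, 3, 4, 0, 1, 2, 3, 0, 1, 2, 3, 4, 2, 1, 0, 1, 2, 3, 2, 3, 2, 3, 0, 1, 2, 3, 4, 0, 1, 2, 3, 2, 0, 1, 0, 1, 2, 3, 4, 2, 3, 2, 1, 0, 1, 4, 3, 1, 2, 3, 4, 0, 1, 2, 3, 0, 1, 2, 3, 4, 2, 1, 0, 1, 2, 3, 2, 3, 2, 3, 0, 1, 2, 3, 4, 0, 1, 2, 3, 2, 0, 1, 0, 1, 2, 3, 4, 2, 3, 2, 1, 0, 1, 3, 2, 3, 2, 1, 0, 1, 2, 4, 3, 2, 1, 0, 3, 2, 1, 0, 4, 3, 2, 1, 3, 4, 1, 0, 1, 3, 2, 4, 3, 2, 1, 0, 1, 3, 2, 1, 3, 2, 4, 3, 2, 1, 3, 2, 4, 3, 1, 2, 3, 4, 0, 1, 2, 3, 0, 1, 2, 3, 4, 2, 1, 0, 1, 2, 3, 2, 3, 2, 3, 0, 1, 2, 3, 4, 0, 1, 2, 3, 2, 0, 1, 0, 1, 2, 3, 4, 2, 3, 2, 1, 0, 1, 4, 3, 1, 2, 3, 4, 0, 1, 2, 3, 0, 1, 2, 3, 4, 2, 1, 0, 1, 2, 3, 2, 3, 2, 3, 0, 1, 2, 3, 4, 0, 1, 2, 3, 2, 0, 1, 0, 1, 2, 3, 4, 2, 3, 2, 1, 0, 1]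
noncomputable def act6 (i : Nat) : Nat := col3 (col2 (col3 (col2 (col1 (col0 (col1 (col2 (col4 (col3 (col2 (col1 (col0 (col3 (col2 (col1 (col0 (col4 (col3 (col2 (col1 (col3 (col4 (col1 (col0 (col1 (col3 (col2 (col4 (col3 (col2 (col1 (col0 (col1 (col3 (col2 (col1 (col3 (col2 (col4 (col3 (col2 (col1 (col3 (col2 (col4 (col3 (col1 (col2 (col3 (col4 (col0 (col1 (col2 (col3 (col0 (col1 (col2 (col3 (col4 (col2 (col1 (col0 (col1 (col2 (col3 (col2 (col3 (col2 (col3 (col0 (col1 (col2 (col3 (col4 (col0 (col1 (col2 (col3 (col2 (col0 (col1 (col0 (col1 (col2 (col3 (col4 (col2 (col3 (col2 (col1 (col0 (col1 (col4 (col3 (col1 (col2 (col3 (col4 (col0 (col1 (col2 (col3 (col0 (col1 (col2 (col3 (col4 (col2 (col1 (col0 (col1 (col2 (col3 (col2 (col3 (col2 (col3 (col0 (col1 (col2 (col3 (col4 (col0 (col1 (col2 (col3 (col2 (col0 (col1 (col0 (col1 (col2 (col3 (col4 (col2 (col3 (col2 (col1 (col0 (col1 (col3 (col2 (col3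 (col2 (col1 (col0 (col1 (col2 (col4 (col3 (col2 (col1 (col0 (col3 (col2 (col1 (col0 (col4 (col3 (col2 (col1 (col3 (col4 (col1 (col0 (col1 (col3 (col2 (col4 (col3 (col2 (col1 (col0 (col1 (col3 (col2 (col1 (col3 (col2 (col4 (col3 (col2 (col1 (col3 (col2 (col4 (col3 (col1 (col2 (col3 (col4 (col0 (col1 (col2 (col3 (col0 (col1 (col2 (col3 (col4 (col2 (col1 (col0 (col1 (col2 (col3 (col2 (col3 (col2 (col3 (col0 (col1 (col2 (col3 (col4 (col0 (col1 (col2 (col3 (col2 (col0 (col1 (col0 (col1 (col2 (col3 (col4 (col2 (col3 (col2 (col1 (col0 (col1 (col4 (col3 (col1 (col2 (col3 (col4 (col0 (col1 (col2 (col3 (col0 (col1 (col2 (col3 (col4 (col2 (col1 (col0 (col1 (col2 (col3 (col2 (col3 (col2 (col3 (col0 (col1 (col2 (col3 (col4 (col0 (col1 (col2 (col3 (col2 (col0 (col1 (col0 (col1 (col2 (col3 (col4 (col2 (col3 (col2 (col1 (col0 (col1 (i))))))))))))))))))))))))))))))))))))))))))))))))))))))))))))))))))))))))))))))))))))))))))))))))))))))))))))))))))))))))))))))))))))))))))))))))))))))))))))))))))))))))))))))))))))))))))))))))))))))))))))))))))))))))))))))))))))))))))))))))))))))))))))))))))))))))))))))))))))))))))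
theorem act6_eq (i : Nat) : act6 i = Tab.act T D chk6 i := rfl
theorem c6_0 : allRange (fun i => Nat.beq (act6 i) i) 0 211 = true := by decide +kernel
theorem c6_1 : allRange (fun i => Nat.beq (act6 i) i) 211 211 = true := by decide +kernel
theorem c6_2 : allRange (fun i => Nat.beq (act6 i) i) 422 211 = true := by decide +kernel
theorem c6_3 : allRange (fun i => Nat.beq (act6 i) i) 633 211 = true := by decide +kernel
theorem c6_4 : allRange (fun i => Nat.beq (act6 i) i) 844 211 = true := by decide +kernel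
theorem c6_5 : allRange (fun i => Nat.beq (act6 i) i) 1055 211 = true := by decide +kernel
theorem c6_6 : allRange (fun i => Nat.beq (act6 i) i) 1266 211 = true := by decide +kernel
theorem c6_7 : allRange (fun i => Nat.beq (act6 i) i) 1477 211 = true := by decide +kernel
theorem c6_8 : allRange (fun i => Nat.beq (act6 i) i) 1688 94 = true := by decide +kernel
theorem h6 : ∀ i, i < T.N → Tab.relActOK T D chk6 i = true := by
  intro i hi
  rw [Tab.relActOK, ← act6_eq]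
  exact (range_glue (range_of_allRange c6_0) (range_glue (range_of_allRange c6_1) (range_glue (range_of_allRange c6_2) (range_glue (range_of_allRange c6_3) (range_glue (range_of_allRange c6_4) (range_glue (range_of_allRange c6_5) (range_glue (range_of_allRange c6_6) (range_glue (range_of_allRange c6_7) (range_of_allRange c6_8))))))))) i (Nat.zero_le _) hi

def chk7 : List Nat := [0, 1, 2, 4, 3, 2, 1, 0, 1, 3, 2, 3, 2, 4, 3, 2, 1, 0, 3, 2, 1, 0, 1, 5, 1, 0, 2, 3, 2, 1, 4, 3, 2, 3, 2, 5, 0, 1, 2, 4, 3, 2, 1, 0, 1, 3, 2, 3, 2, 4, 3, 2, 1, 0, 3, 2, 1, 0, 1, 5, 1, 0, 2, 3, 2, 1, 4, 3, 2, 3, 2, 5]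
noncomputable def act7 (i : Nat) : Nat := col0 (col1 (col2 (col4 (col3 (col2 (col1 (col0 (col1 (col3 (col2 (col3 (col2 (col4 (col3 (col2 (col1 (col0 (col3 (col2 (col1 (col0 (col1 (col5 (col1 (col0 (col2 (col3 (col2 (col1 (col4 (col3 (col2 (col3 (col2 (col5 (col0 (col1 (col2 (col4 (col3 (col2 (col1 (col0 (col1 (col3 (col2 (col3 (col2 (col4 (col3 (col2 (col1 (col0 (col3 (col2 (col1 (col0 (col1 (col5 (col1 (col0 (col2 (col3 (col2 (col1 (col4 (col3 (col2 (col3 (col2 (col5 (i))))))))))))))))))))))))))))))))))))))))))))))))))))))))))))))))))))))))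
theorem act7_eq (i : Nat) : act7 i = Tab.act T D chk7 i := rfl
theorem c7_0 : allRange (fun i => Nat.beq (act7 i) i) 0 810 = true := by decide +kernel
theorem c7_1 : allRange (fun i => Nat.beq (act7 i) i) 810 810 = true := by decide +kernel
theorem c7_2 : allRange (fun i => Nat.beq (act7 i) i) 1620 162 = true := by decide +kernel
theorem h7 : ∀ i, i < T.N → Tab.relActOK T D chk7 i = true := by
  intro i hi
  rw [Tab.relActOK, ← act7_eq]
  exact (range_glue (range_of_allRange c7_0) (range_glue (range_of_allRange c7_1) (range_of_allRange c7_2))) i (Nat.zero_le _) hi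

def chk8 : List Nat := [3, 2, 3, 2, 1, 0, 1, 2, 4, 3, 2, 1, 0, 3, 2, 1, 0, 4, 3, 2, 1, 3, 4, 1, 0, 1, 2, 3, 2, 4, 3, 2, 1, 0, 1, 0, 2, 3, 2, 1, 0, 4, 3, 2, 1, 0, 3, 2, 4, 3, 1, 2, 3, 4, 0, 1, 2, 3, 0, 1, 2, 3, 4, 2, 1, 0, 1, 2, 3, 2, 3, 1, 0, 1, 3, 2, 4, 3, 2, 1, 0, 1, 3, 2, 1, 3, 2, 4, 3, 2, 1, 3, 2, 0, 1, 2, 4, 3, 2, 1, 0, 1, 3, 2, 3, 2, 4, 3, 2, 1, 0, 3, 2, 1, 0, 1, 5, 1, 0, 2, 3, 2, 1, 4, 3, 2, 3, 2, 5, 1, 0, 1, 2, 3, 2, 4, 3, 2, 1, 0, 1, 0, 2, 3, 2, 1, 0, 4, 3, 2, 1, 0, 3, 2, 5, 2, 3, 2, 3, 4, 1, 2, 3, 2, 0, 1, 5, 1, 0, 1, 2, 3, 0, 1, 2, 3, 4, 2, 3, 2, 3, 1, 0, 1, 2, 3, 4, 2, 1, 0, 1, 0, 1, 3, 2, 4, 3, 2, 1, 0, 1, 3, 2, 1, 3, 2, 4, 3, 2, 1, 3, 2]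
noncomputable def act8 (i : Nat) : Nat := col3 (col2 (col3 (col2 (col1 (col0 (col1 (col2 (col4 (col3 (col2 (col1 (col0 (col3 (col2 (col1 (col0 (col4 (col3 (col2 (col1 (col3 (col4 (col1 (col0 (col1 (col2 (col3 (col2 (col4 (col3 (col2 (col1 (col0 (col1 (col0 (col2 (col3 (col2 (col1 (col0 (col4 (col3 (col2 (col1 (col0 (col3 (col2 (col4 (col3 (col1 (col2 (col3 (col4 (col0 (col1 (col2 (col3 (col0 (col1 (col2 (col3 (col4 (col2 (col1 (col0 (col1 (col2 (col3 (col2 (col3 (col1 (col0 (col1 (col3 (col2 (col4 (col3 (col2 (col1 (col0 (col1 (col3 (col2 (col1 (col3 (col2 (col4 (col3 (col2 (col1 (col3 (col2 (col0 (col1 (col2 (col4 (col3 (col2 (col1 (col0 (col1 (col3 (col2 (col3 (col2 (col4 (col3 (col2 (col1 (col0 (col3 (col2 (col1 (col0 (col1 (col5 (col1 (col0 (col2 (col3 (col2 (col1 (col4 (col3 (col2 (col3 (col2 (col5 (col1 (col0 (col1 (col2 (col3 (col2 (col4 (col3 (col2 (col1 (col0 (col1 (col0 (col2 (col3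 (col2 (col1 (col0 (col4 (col3 (col2 (col1 (col0 (col3 (col2 (col5 (col2 (col3 (col2 (col3 (col4 (col1 (col2 (col3 (col2 (col0 (col1 (col5 (col1 (col0 (col1 (col2 (col3 (col0 (col1 (col2 (col3 (col4 (col2 (col3 (col2 (col3 (col1 (col0 (col1 (col2 (col3 (col4 (col2 (col1 (col0 (col1 (col0 (col1 (col3 (col2 (col4 (col3 (col2 (col1 (col0 (col1 (col3 (col2 (col1 (col3 (col2 (col4 (col3 (col2 (col1 (col3 (col2 (i))))))))))))))))))))))))))))))))))))))))))))))))))))))))))))))))))))))))))))))))))))))))))))))))))))))))))))))))))))))))))))))))))))))))))))))))))))))))))))))))))))))))))))))))))))))))))))))))))))))))))))))))))))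
theorem act8_eq (i : Nat) : act8 i = Tab.act T D chk8 i := rfl
theorem c8_0 : allRange (fun i => Nat.beq (act8 i) i) 0 280 = true := by decide +kernel
theorem c8_1 : allRange (fun i => Nat.beq (act8 i) i) 280 280 = true := by decide +kernel
theorem c8_2 : allRange (fun i => Nat.beq (act8 i) i) 560 280 = true := by decide +kernel
theorem c8_3 : allRange (fun i => Nat.beq (act8 i) i) 840 280 = true := by decide +kernel
theorem c8_4 : allRange (fun i => Nat.beq (act8 i) i) 1120 280 = true := by decide +kernel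
theorem c8_5 : allRange (fun i => Nat.beq (act8 i) i) 1400 280 = true := by decide +kernel
theorem c8_6 : allRange (fun i => Nat.beq (act8 i) i) 1680 102 = true := by decide +kernel
theorem h8 : ∀ i, i < T.N → Tab.relActOK T D chk8 i = true := by
  intro i hi
  rw [Tab.relActOK, ← act8_eq]
  exact (range_glue (range_of_allRange c8_0) (range_glue (range_of_allRange c8_1) (range_glue (range_of_allRange c8_2) (range_glue (range_of_allRange c8_3) (range_glue (range_of_allRange c8_4) (range_glue (range_of_allRange c8_5) (range_of_allRange c8_6))))))) i (Nat.zero_le _) hi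

def chk9 : List Nat := [3, 2, 3, 2, 1, 0, 1, 2, 4, 3, 2, 1, 0, 3, 2, 1, 0, 4, 3, 2, 1, 3, 4, 1, 0, 1, 2, 3, 2, 4, 3, 2, 1, 0, 1, 0, 2, 3, 2, 1, 0, 4, 3, 2, 1, 0, 3, 2, 4, 3, 1, 2, 3, 4, 0, 1, 2, 3, 0, 1, 2, 3, 4, 2, 1, 0, 1, 2, 3, 2, 3, 5, 2, 3, 2, 3, 4, 1, 2, 3, 2, 0, 1, 5, 1, 0, 1, 2, 3, 0, 1, 2, 3, 4, 2, 3, 2, 3, 1, 0, 1, 2, 3, 4, 2, 1, 0, 1, 0, 1, 3, 2, 4, 3, 2, 1, 0, 1, 3, 2, 1, 3, 2, 4, 3, 2, 1, 3, 2, 4, 3, 1, 2, 3, 4, 0, 1, 2, 3, 0, 1, 2, 3, 4, 2, 1, 0, 1, 2, 3, 2, 3, 1, 0, 1, 2, 3, 2, 4, 3, 2, 1, 0, 1, 0, 2, 3, 2, 1, 0, 4, 3, 2, 1, 0, 3, 2, 3, 2, 3, 2, 1, 0, 1, 2, 4, 3, 2, 1, 0, 3, 2, 1, 0, 4, 3, 2, 1, 3, 4, 1, 0, 1, 3, 2, 4, 3, 2, 1, 0, 1, 3, 2, 1, 3, 2, 4, 3, 2, 1, 3, 2, 0, 1, 2, 4, 3, 2, 1, 0, 1, 3, 2, 3, 2, 4, 3, 2, 1, 0, 3, 2, 1, 0, 1, 5, 1, 0, 2, 3, 2, 1, 4, 3, 2, 3, 2, 5]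
noncomputable def act9 (i : Nat) : Nat := col3 (col2 (col3 (col2 (col1 (col0 (col1 (col2 (col4 (col3 (col2 (col1 (col0 (col3 (col2 (col1 (col0 (col4 (col3 (col2 (col1 (col3 (col4 (col1 (col0 (col1 (col2 (col3 (col2 (col4 (col3 (col2 (col1 (col0 (col1 (col0 (col2 (col3 (col2 (col1 (col0 (col4 (col3 (col2 (col1 (col0 (col3 (col2 (col4 (col3 (col1 (col2 (col3 (col4 (col0 (col1 (col2 (col3 (col0 (col1 (col2 (col3 (col4 (col2 (col1 (col0 (col1 (col2 (col3 (col2 (col3 (col5 (col2 (col3 (col2 (col3 (col4 (col1 (col2 (col3 (col2 (col0 (col1 (col5 (col1 (col0 (col1 (col2 (col3 (col0 (col1 (col2 (col3 (col4 (col2 (col3 (col2 (col3 (col1 (col0 (col1 (col2 (col3 (col4 (col2 (col1 (col0 (col1 (col0 (col1 (col3 (col2 (col4 (col3 (col2 (col1 (col0 (col1 (col3 (col2 (col1 (col3 (col2 (col4 (col3 (col2 (col1 (col3 (col2 (col4 (col3 (col1 (col2 (col3 (col4 (col0 (col1 (col2 (col3 (col0 (col1 (col2 (col3 (col4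 (col2 (col1 (col0 (col1 (col2 (col3 (col2 (col3 (col1 (col0 (col1 (col2 (col3 (col2 (col4 (col3 (col2 (col1 (col0 (col1 (col0 (col2 (col3 (col2 (col1 (col0 (col4 (col3 (col2 (col1 (col0 (col3 (col2 (col3 (col2 (col3 (col2 (col1 (col0 (col1 (col2 (col4 (col3 (col2 (col1 (col0 (col3 (col2 (col1 (col0 (col4 (col3 (col2 (col1 (col3 (col4 (col1 (col0 (col1 (col3 (col2 (col4 (col3 (col2 (col1 (col0 (col1 (col3 (col2 (col1 (col3 (col2 (col4 (col3 (col2 (col1 (col3 (col2 (col0 (col1 (col2 (col4 (col3 (col2 (col1 (col0 (col1 (col3 (col2 (col3 (col2 (col4 (col3 (col2 (col1 (col0 (col3 (col2 (col1 (col0 (col1 (col5 (col1 (col0 (col2 (col3 (col2 (col1 (col4 (col3 (col2 (col3 (col2 (col5 (i))))))))))))))))))))))))))))))))))))))))))))))))))))))))))))))))))))))))))))))))))))))))))))))))))))))))))))))))))))))))))))))))))))))))))))))))))))))))))))))))))))))))))))))))))))))))))))))))))))))))))))))))))))))))))))))))))))))))))))))))))))))))))))))))))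
theorem act9_eq (i : Nat) : act9 i = Tab.act T D chk9 i := rfl
theorem c9_0 : allRange (fun i => Nat.beq (act9 i) i) 0 230 = true := by decide +kernel
theorem c9_1 : allRange (fun i => Nat.beq (act9 i) i) 230 230 = true := by decide +kernel
theorem c9_2 : allRange (fun i => Nat.beq (act9 i) i) 460 230 = true := by decide +kernel
theorem c9_3 : allRange (fun i => Nat.beq (act9 i) i) 690 230 = true := by decide +kernel
theorem c9_4 : allRange (fun i => Nat.beq (act9 i) i) 920 230 = true := by decide +kernel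
theorem c9_5 : allRange (fun i => Nat.beq (act9 i) i) 1150 230 = true := by decide +kernel
theorem c9_6 : allRange (fun i => Nat.beq (act9 i) i) 1380 230 = true := by decide +kernel
theorem c9_7 : allRange (fun i => Nat.beq (act9 i) i) 1610 172 = true := by decide +kernel
theorem h9 : ∀ i, i < T.N → Tab.relActOK T D chk9 i = true := by
  intro i hi
  rw [Tab.relActOK, ← act9_eq]
  exact (range_glue (range_of_allRange c9_0) (range_glue (range_of_allRange c9_1) (range_glue (range_of_allRange c9_2) (range_glue (range_of_allRange c9_3) (range_glue (range_of_allRange c9_4) (range_glue (range_of_allRange c9_5) (range_glue (range_of_allRange c9_6) (range_of_allRange c9_7)))))))) i (Nat.zero_le _) hi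

def chk10 : List Nat := [3, 2, 3, 2, 1, 0, 1, 2, 4, 3, 2, 1, 0, 3, 2, 1, 0, 4, 3, 2, 1, 3, 4, 3, 2, 3, 2, 1, 0, 1, 2, 4, 3, 2, 1, 0, 3, 2, 1, 0, 4, 3, 2, 1, 3, 4, 1, 0, 1, 3, 2, 4, 3, 2, 1, 0, 1, 3, 2, 1, 3, 2, 4, 3, 2, 1, 3, 2, 2, 3, 0, 1, 2, 3, 4, 0, 1, 2, 3, 2, 0, 1, 0, 1, 2, 3, 4, 2, 3, 2, 1, 0, 1, 4, 3, 1, 2, 3, 4, 0, 1, 2, 3, 0, 1, 2, 3, 4, 2, 1, 0, 1, 2, 3, 2, 3, 2, 3, 0, 1, 2, 3, 4, 0, 1, 2, 3, 2, 0, 1, 0, 1, 2, 3, 4, 2, 3, 2, 1, 0, 1, 4, 3, 1, 2, 3, 4, 0, 1, 2, 3, 0, 1, 2, 3, 4, 2, 1, 0, 1, 2, 3, 2, 3, 1, 0, 1, 3, 2, 4, 3, 2, 1, 0, 1, 3, 2, 1, 3, 2, 4, 3, 2, 1, 3, 2, 1, 0, 1, 2, 3, 2, 4, 3, 2, 1, 0, 1, 0, 2, 3, 2, 1, 0, 4, 3, 2, 1, 0, 3, 2, 1, 0, 1, 3, 2, 4, 3, 2, 1, 0, 1, 3, 2, 1, 3, 2, 4, 3, 2, 1, 3, 2, 2, 3, 0, 1, 2, 3, 4, 0, 1, 2, 3, 2, 0, 1, 0, 1, 2, 3, 4, 2, 3, 2, 1, 0, 1, 3, 2, 3, 2, 1, 0, 1, 2, 4, 3, 2, 1, 0, 3, 2, 1, 0, 4, 3, 2, 1, 3, 4, 0, 1, 2, 4, 3, 2, 1, 0, 1, 3, 2,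 3, 2, 4, 3, 2, 1, 0, 3, 2, 1, 0, 1, 5, 1, 0, 2, 3, 2, 1, 4, 3, 2, 3, 2, 5, 3, 2, 3, 2, 1, 0, 1, 2, 4, 3, 2, 1, 0, 3, 2, 1, 0, 4, 3, 2, 1, 3, 4, 0, 1, 2, 4, 3, 2, 1, 0, 1, 3, 2, 3, 2, 4, 3, 2, 1, 0, 3, 2, 1, 0, 1, 5, 1, 0, 2, 3, 2, 1, 4, 3, 2, 3, 2, 5, 1, 0, 1, 3, 2, 4, 3, 2, 1, 0, 1, 3, 2, 1, 3, 2, 4, 3, 2, 1, 3, 2, 5, 2, 3, 2, 3, 4, 1, 2, 3, 2, 0, 1, 5, 1, 0, 1, 2, 3, 0, 1, 2, 3, 4, 2, 3, 2, 3, 1, 0, 1, 2, 3, 4, 2, 1, 0]
noncomputable def act10 (i : Nat) : Nat := col3 (col2 (col3 (col2 (col1 (col0 (col1 (col2 (col4 (col3 (col2 (col1 (col0 (col3 (col2 (col1 (col0 (col4 (col3 (col2 (col1 (col3 (col4 (col3 (col2 (col3 (col2 (col1 (col0 (col1 (col2 (col4 (col3 (col2 (col1 (col0 (col3 (col2 (col1 (col0 (col4 (col3 (col2 (col1 (col3 (col4 (col1 (col0 (col1 (col3 (col2 (col4 (col3 (col2 (col1 (col0 (col1 (col3 (col2 (col1 (col3 (col2 (col4 (col3 (col2 (col1 (col3 (col2 (col2 (col3 (col0 (col1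 (col2 (col3 (col4 (col0 (col1 (col2 (col3 (col2 (col0 (col1 (col0 (col1 (col2 (col3 (col4 (col2 (col3 (col2 (col1 (col0 (col1 (col4 (col3 (col1 (col2 (col3 (col4 (col0 (col1 (col2 (col3 (col0 (col1 (col2 (col3 (col4 (col2 (col1 (col0 (col1 (col2 (col3 (col2 (col3 (col2 (col3 (col0 (col1 (col2 (col3 (col4 (col0 (col1 (col2 (col3 (col2 (col0 (col1 (col0 (col1 (col2 (col3 (col4 (col2 (col3 (col2 (col1 (col0 (col1 (col4 (col3 (col1 (col2 (col3 (col4 (col0 (col1 (col2 (col3 (col0 (col1 (col2 (col3 (col4 (col2 (col1 (col0 (col1 (col2 (col3 (col2 (col3 (col1 (col0 (col1 (col3 (col2 (col4 (col3 (col2 (col1 (col0 (col1 (col3 (col2 (col1 (col3 (col2 (col4 (col3 (col2 (col1 (col3 (col2 (col1 (col0 (col1 (col2 (col3 (col2 (col4 (col3 (col2 (col1 (col0 (col1 (col0 (col2 (col3 (col2 (col1 (col0 (col4 (col3 (col2 (col1 (col0 (col3 (col2 (col1 (col0 (col1 (col3 (col2 (col4 (col3 (col2 (col1 (col0 (col1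 (col3 (col2 (col1 (col3 (col2 (col4 (col3 (col2 (col1 (col3 (col2 (col2 (col3 (col0 (col1 (col2 (col3 (col4 (col0 (col1 (col2 (col3 (col2 (col0 (col1 (col0 (col1 (col2 (col3 (col4 (col2 (col3 (col2 (col1 (col0 (col1 (col3 (col2 (col3 (col2 (col1 (col0 (col1 (col2 (col4 (col3 (col2 (col1 (col0 (col3 (col2 (col1 (col0 (col4 (col3 (col2 (col1 (col3 (col4 (col0 (col1 (col2 (col4 (col3 (col2 (col1 (col0 (col1 (col3 (col2 (col3 (col2 (col4 (col3 (col2 (col1 (col0 (col3 (col2 (col1 (col0 (col1 (col5 (col1 (col0 (col2 (col3 (col2 (col1 (col4 (col3 (col2 (col3 (col2 (col5 (col3 (col2 (col3 (col2 (col1 (col0 (col1 (col2 (col4 (col3 (col2 (col1 (col0 (col3 (col2 (col1 (col0 (col4 (col3 (col2 (col1 (col3 (col4 (col0 (col1 (col2 (col4 (col3 (col2 (col1 (col0 (col1 (col3 (col2 (col3 (col2 (col4 (col3 (col2 (col1 (col0 (col3 (col2 (col1 (col0 (col1 (col5 (col1 (col0 (col2 (col3 (col2 (col1 (col4 (col3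 (col2 (col3 (col2 (col5 (col1 (col0 (col1 (col3 (col2 (col4 (col3 (col2 (col1 (col0 (col1 (col3 (col2 (col1 (col3 (col2 (col4 (col3 (col2 (col1 (col3 (col2 (col5 (col2 (col3 (col2 (col3 (col4 (col1 (col2 (col3 (col2 (col0 (col1 (col5 (col1 (col0 (col1 (col2 (col3 (col0 (col1 (col2 (col3 (col4 (col2 (col3 (col2 (col3 (col1 (col0 (col1 (col2 (col3 (col4 (col2 (col1 (col0 (i))))))))))))))))))))))))))))))))))))))))))))))))))))))))))))))))))))))))))))))))))))))))))))))))))))))))))))))))))))))))))))))))))))))))))))))))))))))))))))))))))))))))))))))))))))))))))))))))))))))))))))))))))))))))))))))))))))))))))))))))))))))))))))))))))))))))))))))))))))))))))))))))))))))))))))))))))))))))))))))))))))))))))))))))))))))))))))))))))))))))))))))))))))))))))))))))))))))))))))))))))))))))))))))))))))))))))))))))))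
theorem act10_eq (i : Nat) : act10 i = Tab.act T D chk10 i := rfl
theorem c10_0 : allRange (fun i => Nat.beq (act10 i) i) 0 137 = true := by decide +kernel
theorem c10_1 : allRange (fun i => Nat.beq (act10 i) i) 137 137 = true := by decide +kernel
theorem c10_2 : allRange (fun i => Nat.beq (act10 i) i) 274 137 = true := by decide +kernel
theorem c10_3 : allRange (fun i => Nat.beq (act10 i) i) 411 137 = true := by decide +kernel
theorem c10_4 : allRange (fun i => Nat.beq (act10 i) i) 548 137 = true := by decide +kernel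
theorem c10_5 : allRange (fun i => Nat.beq (act10 i) i) 685 137 = true := by decide +kernel
theorem c10_6 : allRange (fun i => Nat.beq (act10 i) i) 822 137 = true := by decide +kernel
theorem c10_7 : allRange (fun i => Nat.beq (act10 i) i) 959 137 = true := by decide +kernel
theorem c10_8 : allRange (fun i => Nat.beq (act10 i) i) 1096 137 = true := by decide +kernel
theorem c10_9 : allRange (fun i => Nat.beq (act10 i) i) 1233 137 = true := by decide +kernel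
theorem c10_10 : allRange (fun i => Nat.beq (act10 i) i) 1370 137 = true := by decide +kernel
theorem c10_11 : allRange (fun i => Nat.beq (act10 i) i) 1507 137 = true := by decide +kernel
theorem c10_12 : allRange (fun i => Nat.beq (act10 i) i) 1644 137 = true := by decide +kernel
theorem c10_13 : allRange (fun i => Nat.beq (act10 i) i) 1781 1 = true := by decide +kernel
theorem h10 : ∀ i, i < T.N → Tab.relActOK T D chk10 i = true := by
  intro i hi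
  rw [Tab.relActOK, ← act10_eq]
  exact (range_glue (range_of_allRange c10_0) (range_glue (range_of_allRange c10_1) (range_glue (range_of_allRange c10_2) (range_glue (range_of_allRange c10_3) (range_glue (range_of_allRange c10_4) (range_glue (range_of_allRange c10_5) (range_glue (range_of_allRange c10_6) (range_glue (range_of_allRange c10_7) (range_glue (range_of_allRange c10_8) (range_glue (range_of_allRange c10_9) (range_glue (range_of_allRange c10_10) (range_glue (range_of_allRange c10_11) (range_glue (range_of_allRange c10_12) (range_of_allRange c10_13)))))))))))))) i (Nat.zero_le _) hi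

def chk11 : List Nat := [3, 2, 3, 2, 1, 0, 1, 2, 4, 3, 2, 1, 0, 3, 2, 1, 0, 4, 3, 2, 1, 3, 4, 4, 3, 1, 2, 3, 4, 0, 1, 2, 3, 0, 1, 2, 3, 4, 2, 1, 0, 1, 2, 3, 2, 3]
noncomputable def act11 (i : Nat) : Nat := col3 (col2 (col3 (col2 (col1 (col0 (col1 (col2 (col4 (col3 (col2 (col1 (col0 (col3 (col2 (col1 (col0 (col4 (col3 (col2 (col1 (col3 (col4 (col4 (col3 (col1 (col2 (col3 (col4 (col0 (col1 (col2 (col3 (col0 (col1 (col2 (col3 (col4 (col2 (col1 (col0 (col1 (col2 (col3 (col2 (col3 (i))))))))))))))))))))))))))))))))))))))))))))))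
theorem act11_eq (i : Nat) : act11 i = Tab.act T D chk11 i := rfl
theorem c11_0 : allRange (fun i => Nat.beq (act11 i) i) 0 1250 = true := by decide +kernel
theorem c11_1 : allRange (fun i => Nat.beq (act11 i) i) 1250 532 = true := by decide +kernel
theorem h11 : ∀ i, i < T.N → Tab.relActOK T D chk11 i = true := by
  intro i hi
  rw [Tab.relActOK, ← act11_eq]
  exact (range_glue (range_of_allRange c11_0) (range_of_allRange c11_1)) i (Nat.zero_le _) hi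

def chk12 : List Nat := [4, 3, 1, 2, 3, 4, 0, 1, 2, 3, 0, 1, 2, 3, 4, 2, 1, 0, 1, 2, 3, 2, 3, 3, 2, 3, 2, 1, 0, 1, 2, 4, 3, 2, 1, 0, 3, 2, 1, 0, 4, 3, 2, 1, 3, 4]
noncomputable def act12 (i : Nat) : Nat := col4 (col3 (col1 (col2 (col3 (col4 (col0 (col1 (col2 (col3 (col0 (col1 (col2 (col3 (col4 (col2 (col1 (col0 (col1 (col2 (col3 (col2 (col3 (col3 (col2 (col3 (col2 (col1 (col0 (col1 (col2 (col4 (col3 (col2 (col1 (col0 (col3 (col2 (col1 (col0 (col4 (col3 (col2 (col1 (col3 (col4 (i))))))))))))))))))))))))))))))))))))))))))))))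
theorem act12_eq (i : Nat) : act12 i = Tab.act T D chk12 i := rfl
theorem c12_0 : allRange (fun i => Nat.beq (act12 i) i) 0 1250 = true := by decide +kernel
theorem c12_1 : allRange (fun i => Nat.beq (act12 i) i) 1250 532 = true := by decide +kernel
theorem h12 : ∀ i, i < T.N → Tab.relActOK T D chk12 i = true := by
  intro i hi
  rw [Tab.relActOK, ← act12_eq]
  exact (range_glue (range_of_allRange c12_0) (range_of_allRange c12_1)) i (Nat.zero_le _) hi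

def chk13 : List Nat := [1, 0, 1, 2, 3, 2, 4, 3, 2, 1, 0, 1, 0, 2, 3, 2, 1, 0, 4, 3, 2, 1, 0, 3, 2, 2, 3, 0, 1, 2, 3, 4, 0, 1, 2, 3, 2, 0, 1, 0, 1, 2, 3, 4, 2, 3, 2, 1, 0, 1]
noncomputable def act13 (i : Nat) : Nat := col1 (col0 (col1 (col2 (col3 (col2 (col4 (col3 (col2 (col1 (col0 (col1 (col0 (col2 (col3 (col2 (col1 (col0 (col4 (col3 (col2 (col1 (col0 (col3 (col2 (col2 (col3 (col0 (col1 (col2 (col3 (col4 (col0 (col1 (col2 (col3 (col2 (col0 (col1 (col0 (col1 (col2 (col3 (col4 (col2 (col3 (col2 (col1 (col0 (col1 (i))))))))))))))))))))))))))))))))))))))))))))))))))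
theorem act13_eq (i : Nat) : act13 i = Tab.act T D chk13 i := rfl
theorem c13_0 : allRange (fun i => Nat.beq (act13 i) i) 0 1153 = true := by decide +kernel
theorem c13_1 : allRange (fun i => Nat.beq (act13 i) i) 1153 629 = true := by decide +kernel
theorem h13 : ∀ i, i < T.N → Tab.relActOK T D chk13 i = true := by
  intro i hi
  rw [Tab.relActOK, ← act13_eq]
  exact (range_glue (range_of_allRange c13_0) (range_of_allRange c13_1)) i (Nat.zero_le _) hi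

def chk14 : List Nat := [2, 3, 0, 1, 2, 3, 4, 0, 1, 2, 3, 2, 0, 1, 0, 1, 2, 3, 4, 2, 3, 2, 1, 0, 1, 1, 0, 1, 2, 3, 2, 4, 3, 2, 1, 0, 1, 0, 2, 3, 2, 1, 0, 4, 3, 2, 1, 0, 3, 2]
noncomputable def act14 (i : Nat) : Nat := col2 (col3 (col0 (col1 (col2 (col3 (col4 (col0 (col1 (col2 (col3 (col2 (col0 (col1 (col0 (col1 (col2 (col3 (col4 (col2 (col3 (col2 (col1 (col0 (col1 (col1 (col0 (col1 (col2 (col3 (col2 (col4 (col3 (col2 (col1 (col0 (col1 (col0 (col2 (col3 (col2 (col1 (col0 (col4 (col3 (col2 (col1 (col0 (col3 (col2 (i))))))))))))))))))))))))))))))))))))))))))))))))))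
theorem act14_eq (i : Nat) : act14 i = Tab.act T D chk14 i := rfl
theorem c14_0 : allRange (fun i => Nat.beq (act14 i) i) 0 1153 = true := by decide +kernel
theorem c14_1 : allRange (fun i => Nat.beq (act14 i) i) 1153 629 = true := by decide +kernel
theorem h14 : ∀ i, i < T.N → Tab.relActOK T D chk14 i = true := by
  intro i hi
  rw [Tab.relActOK, ← act14_eq]
  exact (range_glue (range_of_allRange c14_0) (range_of_allRange c14_1)) i (Nat.zero_le _) hi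

def chk15 : List Nat := [1, 0, 1, 3, 2, 4, 3, 2, 1, 0, 1, 3, 2, 1, 3, 2, 4, 3, 2, 1, 3, 2, 2, 3, 1, 2, 3, 4, 2, 3, 1, 2, 3, 1, 0, 1, 2, 3, 4, 2, 3, 1, 0, 1]
noncomputable def act15 (i : Nat) : Nat := col1 (col0 (col1 (col3 (col2 (col4 (col3 (col2 (col1 (col0 (col1 (col3 (col2 (col1 (col3 (col2 (col4 (col3 (col2 (col1 (col3 (col2 (col2 (col3 (col1 (col2 (col3 (col4 (col2 (col3 (col1 (col2 (col3 (col1 (col0 (col1 (col2 (col3 (col4 (col2 (col3 (col1 (col0 (col1 (i))))))))))))))))))))))))))))))))))))))))))))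
theorem act15_eq (i : Nat) : act15 i = Tab.act T D chk15 i := rfl
theorem c15_0 : allRange (fun i => Nat.beq (act15 i) i) 0 1304 = true := by decide +kernel
theorem c15_1 : allRange (fun i => Nat.beq (act15 i) i) 1304 478 = true := by decide +kernel
theorem h15 : ∀ i, i < T.N → Tab.relActOK T D chk15 i = true := by
  intro i hi
  rw [Tab.relActOK, ← act15_eq]
  exact (range_glue (range_of_allRange c15_0) (range_of_allRange c15_1)) i (Nat.zero_le _) hi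

def chk16 : List Nat := [2, 3, 1, 2, 3, 4, 2, 3, 1, 2, 3, 1, 0, 1, 2, 3, 4, 2, 3, 1, 0, 1, 1, 0, 1, 3, 2, 4, 3, 2, 1, 0, 1, 3, 2, 1, 3, 2, 4, 3, 2, 1, 3, 2]
noncomputable def act16 (i : Nat) : Nat := col2 (col3 (col1 (col2 (col3 (col4 (col2 (col3 (col1 (col2 (col3 (col1 (col0 (col1 (col2 (col3 (col4 (col2 (col3 (col1 (col0 (col1 (col1 (col0 (col1 (col3 (col2 (col4 (col3 (col2 (col1 (col0 (col1 (col3 (col2 (col1 (col3 (col2 (col4 (col3 (col2 (col1 (col3 (col2 (i))))))))))))))))))))))))))))))))))))))))))))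
theorem act16_eq (i : Nat) : act16 i = Tab.act T D chk16 i := rfl
theorem c16_0 : allRange (fun i => Nat.beq (act16 i) i) 0 1304 = true := by decide +kernel
theorem c16_1 : allRange (fun i => Nat.beq (act16 i) i) 1304 478 = true := by decide +kernel
theorem h16 : ∀ i, i < T.N → Tab.relActOK T D chk16 i = true := by
  intro i hi
  rw [Tab.relActOK, ← act16_eq]
  exact (range_glue (range_of_allRange c16_0) (range_of_allRange c16_1)) i (Nat.zero_le _) hi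

def chk17 : List Nat := [0, 1, 2, 4, 3, 2, 1, 0, 1, 3, 2, 3, 2, 4, 3, 2, 1, 0, 3, 2, 1, 0, 1, 5, 1, 0, 2, 3, 2, 1, 4, 3, 2, 3, 2, 5, 5, 2, 3, 2, 3, 4, 1, 2, 3, 2, 0, 1, 5, 1, 0, 1, 2, 3, 0, 1, 2, 3, 4, 2, 3, 2, 3, 1, 0, 1, 2, 3, 4, 2, 1, 0]
noncomputable def act17 (i : Nat) : Nat := col0 (col1 (col2 (col4 (col3 (col2 (col1 (col0 (col1 (col3 (col2 (col3 (col2 (col4 (col3 (col2 (col1 (col0 (col3 (col2 (col1 (col0 (col1 (col5 (col1 (col0 (col2 (col3 (col2 (col1 (col4 (col3 (col2 (col3 (col2 (col5 (col5 (col2 (col3 (col2 (col3 (col4 (col1 (col2 (col3 (col2 (col0 (col1 (col5 (col1 (col0 (col1 (col2 (col3 (col0 (col1 (col2 (col3 (col4 (col2 (col3 (col2 (col3 (col1 (col0 (col1 (col2 (col3 (col4 (col2 (col1 (col0 (i))))))))))))))))))))))))))))))))))))))))))))))))))))))))))))))))))))))))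
theorem act17_eq (i : Nat) : act17 i = Tab.act T D chk17 i := rfl
theorem c17_0 : allRange (fun i => Nat.beq (act17 i) i) 0 810 = true := by decide +kernel
theorem c17_1 : allRange (fun i => Nat.beq (act17 i) i) 810 810 = true := by decide +kernel
theorem c17_2 : allRange (fun i => Nat.beq (act17 i) i) 1620 162 = true := by decide +kernel
theorem h17 : ∀ i, i < T.N → Tab.relActOK T D chk17 i = true := by
  intro i hi
  rw [Tab.relActOK, ← act17_eq]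
  exact (range_glue (range_of_allRange c17_0) (range_glue (range_of_allRange c17_1) (range_of_allRange c17_2))) i (Nat.zero_le _) hi

def chk18 : List Nat := [5, 2, 3, 2, 3, 4, 1, 2, 3, 2, 0, 1, 5, 1, 0, 1, 2, 3, 0, 1, 2, 3, 4, 2, 3, 2, 3, 1, 0, 1, 2, 3, 4, 2, 1, 0, 0, 1, 2, 4, 3, 2, 1, 0, 1, 3, 2, 3, 2, 4, 3, 2, 1, 0, 3, 2, 1, 0, 1, 5, 1, 0, 2, 3, 2, 1, 4, 3, 2, 3, 2, 5]
noncomputable def act18 (i : Nat) : Nat := col5 (col2 (col3 (col2 (col3 (col4 (col1 (col2 (col3 (col2 (col0 (col1 (col5 (col1 (col0 (col1 (col2 (col3 (col0 (col1 (col2 (col3 (col4 (col2 (col3 (col2 (col3 (col1 (col0 (col1 (col2 (col3 (col4 (col2 (col1 (col0 (col0 (col1 (col2 (col4 (col3 (col2 (col1 (col0 (col1 (col3 (col2 (col3 (col2 (col4 (col3 (col2 (col1 (col0 (col3 (col2 (col1 (col0 (col1 (col5 (col1 (col0 (col2 (col3 (col2 (col1 (col4 (col3 (col2 (col3 (col2 (col5 (i))))))))))))))))))))))))))))))))))))))))))))))))))))))))))))))))))))))))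
theorem act18_eq (i : Nat) : act18 i = Tab.act T D chk18 i := rfl
theorem c18_0 : allRange (fun i => Nat.beq (act18 i) i) 0 810 = true := by decide +kernel
theorem c18_1 : allRange (fun i => Nat.beq (act18 i) i) 810 810 = true := by decide +kernel
theorem c18_2 : allRange (fun i => Nat.beq (act18 i) i) 1620 162 = true := by decide +kernel
theorem h18 : ∀ i, i < T.N → Tab.relActOK T D chk18 i = true := by
  intro i hi
  rw [Tab.relActOK, ← act18_eq]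
  exact (range_glue (range_of_allRange c18_0) (range_glue (range_of_allRange c18_1) (range_of_allRange c18_2))) i (Nat.zero_le _) hi

def chkAll : List (List Nat) := [chk0, chk1, chk2, chk3, chk4, chk5, chk6, chk7, chk8, chk9, chk10, chk11, chk12, chk13, chk14, chk15, chk16, chk17, chk18]
theorem hAll : ∀ w ∈ chkAll, ∀ i, i < T.N → Tab.relActOK T D w i = true := by
  intro w hw
  simp only [chkAll, List.mem_cons, List.not_mem_nil, or_false] at hw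
  rcases hw with rfl | rfl | rfl | rfl | rfl | rfl | rfl | rfl | rfl | rfl | rfl | rfl | rfl | rfl | rfl | rfl | rfl | rfl | rfl
  · exact h0
  · exact h1
  · exact h2
  · exact h3
  · exact h4
  · exact h5
  · exact h6
  · exact h7
  · exact h8
  · exact h9
  · exact h10
  · exact h11
  · exact h12
  · exact h13
  · exact h14
  · exact h15
  · exact h16
  · exact h17
  · exact h18
theorem hAll_lt : ∀ w ∈ chkAll, ∀ x ∈ w, x < 7 := by decide +kernel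

end Cfsg.Agent.Lib.Helper4.TCD.G24SuzS
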