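import Cfsg.Agent.Lib.Helper4.TCD_Suz1_Acc

namespace Cfsg.Agent.Lib.Helper4.TCD.Suz1

open Cfsg.Agent.Lib.Helper4.TC

set_option maxRecDepth 100000

theorem c_act_0 : allBelow (fun i => Nat.beq (actR0 i) i) 1782 = true := by decide +kernel
theorem c_act_1 : allBelow (fun i => Nat.beq (actR1 i) i) 1782 = true := by decide +kernel
theorem c_act_2 : allBelow (fun i => Nat.beq (actR2 i) i) 1782 = true := by decide +kernel
theorem c_act_3 : allBelow (fun i => Nat.beq (actR3 i) i) 1782 = true := by decide +kernel
theorem c_act_4 : allBelow (fun i => Nat.beq (actR4 i) i) 1782 = true := by decide +kernel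
theorem c_act_5 : allBelow (fun i => Nat.beq (actR5 i) i) 1782 = true := by decide +kernel
theorem c_act_6 : allBelow (fun i => Nat.beq (actR6 i) i) 1782 = true := by decide +kernel
theorem c_act_7 : allBelow (fun i => Nat.beq (actR7 i) i) 1782 = true := by decide +kernel
theorem c_act_8 : allBelow (fun i => Nat.beq (actR8 i) i) 1782 = true := by decide +kernel
theorem c_act_9 : allBelow (fun i => Nat.beq (actR9 i) i) 1782 = true := by decide +kernel
theorem c_act_10 : allBelow (fun i => Nat.beq (actR10 i) i) 1782 = true := by decide +kernel
theorem c_act_11 : allBelow (fun i => Nat.beq (actR11 i) i) 1782 = true := by decide +kernel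
theorem c_act_12 : allBelow (fun i => Nat.beq (actR12 i) i) 1782 = true := by decide +kernel
theorem c_act_13 : allBelow (fun i => Nat.beq (actR13 i) i) 1782 = true := by decide +kernel
theorem c_act_14 : allBelow (fun i => Nat.beq (actR14 i) i) 1782 = true := by decide +kernel
theorem c_act_15 : allBelow (fun i => Nat.beq (actR15 i) i) 1782 = true := by decide +kernel
theorem c_act_16 : allBelow (fun i => Nat.beq (actR16 i) i) 1782 = true := by decide +kernel
theorem c_act_17 : allBelow (fun i => Nat.beq (actR17 i) i) 1782 = true := by decide +kernel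
theorem c_act_18 : allBelow (fun i => Nat.beq (actR18 i) i) 1782 = true := by decide +kernel
theorem c_act_19 : allBelow (fun i => Nat.beq (actR19 i) i) 1782 = true := by decide +kernel
theorem c_act_20 : allBelow (fun i => Nat.beq (actR20 i) i) 1782 = true := by decide +kernel
theorem c_act_21 : allBelow (fun i => Nat.beq (actR21 i) i) 1782 = true := by decide +kernel
theorem c_act_22 : allBelow (fun i => Nat.beq (actR22 i) i) 1782 = true := by decide +kernel
theorem c_act_23 : allBelow (fun i => Nat.beq (actR23 i) i) 1782 = true := by decide +kernel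
theorem c_act_24 : allBelow (fun i => Nat.beq (actR24 i) i) 1782 = true := by decide +kernel
theorem c_act_25 : allBelow (fun i => Nat.beq (actR25 i) i) 1782 = true := by decide +kernel
theorem c_act_26 : allBelow (fun i => Nat.beq (actR26 i) i) 1782 = true := by decide +kernel
theorem c_act_27 : allBelow (fun i => Nat.beq (actR27 i) i) 1782 = true := by decide +kernel
theorem c_act_28 : allBelow (fun i => Nat.beq (actR28 i) i) 1782 = true := by decide +kernel
theorem c_act_29 : allBelow (fun i => Nat.beq (actR29 i) i) 1782 = true := by decide +kernel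
theorem c_act_30 : allBelow (fun i => Nat.beq (actR30 i) i) 1782 = true := by decide +kernel
theorem c_act_31 : allBelow (fun i => Nat.beq (actR31 i) i) 1782 = true := by decide +kernel
theorem c_act_32 : allBelow (fun i => Nat.beq (actR32 i) i) 1782 = true := by decide +kernel

end Cfsg.Agent.Lib.Helper4.TCD.Suz1
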