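import Cfsg.Agent.Lib.Helper4.TCD_Suz1_Acc

namespace Cfsg.Agent.Lib.Helper4.TCD.Suz1

open Cfsg.Agent.Lib.Helper4.TC

set_option maxRecDepth 100000

theorem c_oinv_0 : allRange (Tab.orbInvOK T D subs 1 417) 1 416 = true := by decide +kernel
theorem c_otree_0 : allRange (Tab.orbTreeOK T D subs oparTab olabTab 1) 2 415 = true := by decide +kernel
theorem c_oinv_1 : allRange (Tab.orbInvOK T D subs 417 1782) 417 1365 = true := by decide +kernel
theorem c_otree_1 : allRange (Tab.orbTreeOK T D subs oparTab olabTab 417) 418 1364 = true := by decide +kernel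

end Cfsg.Agent.Lib.Helper4.TCD.Suz1
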