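import Cfsg.Agent.Lib.Helper4.TCD_Suz1_Acc
import Cfsg.Agent.Lib.Helper4.TC13

namespace Cfsg.Agent.Lib.Helper4.TCD.SuzQ

open Cfsg.Agent.Lib.Helper4.TC Cfsg.Agent.Lib.Helper4.TCD.Suz1

set_option maxRecDepth 100000
set_option Elab.async false

def xw : List Nat := [6, 4, 1, 5, 2, 3]

theorem c_xq_0 : allRange (fun i => Tab.relActOK T D (List.replicate 11 xw).flatten i) 0 900 = true := by decide +kernel
theorem c_xq_1 : allRange (fun i => Tab.relActOK T D (List.replicate 11 xw).flatten i) 900 882 = true := by decide +kernel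

theorem h_xq : ∀ i, i < T.N → Tab.relActOK T D (List.replicate 11 xw).flatten i = true :=
  fun i hi => (range_glue (range_of_allRange c_xq_0) (range_of_allRange c_xq_1)) i (Nat.zero_le _) hi

end Cfsg.Agent.Lib.Helper4.TCD.SuzQ
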