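import Mathlib
import Cfsg.Prelude.Def_LieChev
import Cfsg.Agent.Lib.Helper4.G24pMain
import Cfsg.Agent.Lib.Helper4.TCD_G24SuzS
import Cfsg.Agent.Lib.Helper4.TC19
import Cfsg.Agent.Lib.Helper4.RepLib
import Cfsg.Agent.Lib.Helper4.RepLib2
import Cfsg.Agent.Lib.Helper8.G2SE
import Cfsg.Agent.Lib.Helper5.ChevFieldMap
import Cfsg.Agent.S1694

/-!
The presented group `G24p` of order 251596800 is isomorphic to the Chevalley group of type `G₂` over a field with four
elements: its generators are sent to words in the generators `a, …, f` of the presented Suzuki group, whose subgroup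
generated by `a, …, f` is that Chevalley group.
-/

set_option autoImplicit false

namespace Cfsg.Agent.Lib.Helper4.G24pIso

open Cfsg Cfsg.Agent.Lib.Helper4.TC Cfsg.Agent.Lib.Helper4.TCD Cfsg.Agent.Lib.Helper4.TC.Log

/-- the letters of `G24p` as words of the presented Suzuki group -/
def Wf (l : ℕ) : List ℕ := [[3, 2, 3, 2, 1, 0, 1, 2, 4, 3, 2, 1, 0, 3, 2, 1, 0, 4, 3, 2, 1, 3, 4], [4, 3, 1, 2, 3, 4, 0, 1, 2, 3, 0, 1, 2, 3, 4, 2, 1, 0, 1, 2, 3, 2, 3], [1, 0, 1, 2, 3, 2, 4, 3, 2, 1, 0, 1, 0, 2, 3, 2, 1, 0, 4, 3, 2, 1, 0, 3, 2], [2, 3, 0, 1, 2, 3, 4, 0, 1, 2, 3, 2, 0, 1, 0, 1, 2, 3, 4, 2, 3, 2, 1, 0, 1], [1, 0, 1, 3, 2, 4, 3, 2, 1, 0, 1, 3, 2, 1, 3, 2, 4, 3, 2, 1, 3, 2], [2, 3, 1, 2, 3, 4, 2, 3, 1, 2, 3, 1, 0, 1, 2, 3, 4, 2, 3, 1, 0, 1], [0, 1, 2, 4, 3, 2, 1, 0, 1, 3, 2, 3, 2, 4, 3, 2, 1, 0, 3, 2, 1, 0, 1, 5, 1, 0, 2, 3, 2, 1, 4, 3, 2, 3, 2, 5], [5, 2, 3, 2, 3, 4, 1, 2, 3, 2, 0, 1, 5, 1, 0, 1, 2, 3, 0, 1, 2, 3, 4, 2, 3,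 2, 3, 1, 0, 1, 2, 3, 4, 2, 1, 0]].getD l []

theorem checks_eq : PG24p.P.real.map (fun L => L.flatMap Wf) ++
    (List.range 8).map (fun l => Wf l ++ Wf (PG24p.P.invR l)) = G24SuzS.chkAll := by decide +kernel

theorem word_one (w : List ℕ) (hw : w ∈ G24SuzS.chkAll) : wordP PSuz.P.gR w = 1 := by
  obtain ⟨fG, hinj, hcard⟩ := Cfsg.Agent.S1694.order_aux
  exact Suz1.inst.word_eq_one hinj w (G24SuzS.hAll_lt w hw) (G24SuzS.hAll w hw)

theorem emb : WordEmb PG24p.P PSuz.P.gR Wf where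
  hP := PG24p.valid
  hinv := by
    intro l hl
    have hl : l < 8 := hl
    apply word_one
    rw [← checks_eq]
    apply List.mem_append_right
    exact List.mem_map.2 ⟨l, List.mem_range.2 hl, rfl⟩
  hrel := by
    intro L hL
    apply word_one
    rw [← checks_eq]
    apply List.mem_append_left
    exact List.mem_map.2 ⟨L, hL, rfl⟩

/-- the homomorphism to the presented Suzuki group -/
noncomputable def f : PG24p.P.Grp →* PSuz.P.Grp := emb.hom

theorem f_gR (l : ℕ) (hl : l < 8) : f (PG24p.P.gR l) = wordP PSuz.P.gR (Wf l) := emb.hom_gR l hl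

theorem Wf_lt : ∀ l, l < 8 → ∀ x ∈ Wf l, x < 6 := by decide +kernel

/-- the image lies in the subgroup generated by `a, …, f` -/
theorem range_le : f.range ≤ Cfsg.Agent.Lib.Helper8.G2S.HS := by
  rw [MonoidHom.range_eq_map, ← PG24p.valid.gen_top, MonoidHom.map_closure, Subgroup.closure_le]
  rintro _ ⟨_, ⟨l, hl, rfl⟩, rfl⟩
  have hl : l < 8 := hl
  rw [SetLike.mem_coe, f_gR l hl]
  have hlt := Wf_lt l hl
  generalize Wf l = u at hlt
  induction u with
  | nil => rw [wordP_nil]; exact one_mem _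
  | cons x u ih =>
    rw [wordP_cons]
    apply mul_mem
    · have hx : x < 6 := hlt x (List.mem_cons_self ..)
      apply Subgroup.subset_closure
      refine ⟨[x], ?_, by rw [wordP_cons, wordP_nil, mul_one]⟩
      have : Suz1.subs = [[0], [1], [2], [3], [4], [5]] := by decide
      rw [this]
      interval_cases x <;> simp
    · exact ih (fun y hy => hlt y (List.mem_cons_of_mem _ hy))

theorem f_injective : Function.Injective f := by
  apply RepLib.injective_of_simple G24pMain.simple_aux f (PG24p.P.gR 0)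
  rw [f_gR 0 (by decide)]
  intro h
  obtain ⟨fG, hinj, hcard⟩ := Cfsg.Agent.S1694.order_aux
  have h1 := Suz1.inst.phi_word (Wf 0) (fun x hx => by have := Wf_lt 0 (by decide) x hx; show x < 7; omega) ⟨2, by decide⟩
  rw [h, map_one] at h1
  simp only [Equiv.Perm.coe_one, id_eq] at h1
  have h2 : Tab.act Suz1.T Suz1.D (Wf 0) 2 ≠ 2 := by decide +kernel
  exact h2 h1.symm

/-- the presented group is the subgroup generated by `a, …, f` -/
theorem equiv_HS : Nonempty (PG24p.P.Grp ≃* Cfsg.Agent.Lib.Helper8.G2S.HS) := by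
  obtain ⟨fG, _, hcard⟩ := Cfsg.Agent.S1694.order_aux
  obtain ⟨fP, _, hcardP⟩ := G24pMain.order_aux
  have := fG
  have := fP
  have hc : Nat.card f.range = 251596800 := by
    rw [← hcardP]
    exact (Nat.card_congr (MonoidHom.ofInjective f_injective).toEquiv).symm
  have hle : Cfsg.Agent.Lib.Helper8.G2S.HS ≤ f.range := by
    have h1 : Nat.card Cfsg.Agent.Lib.Helper8.G2S.HS ≤ Nat.card f.range := by
      rw [hc, Cfsg.Agent.Lib.Helper8.G2S.card_HS hcard]
    have := Subgroup.eq_of_le_of_card_ge range_le h1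
    rw [this]
  have heq : f.range = Cfsg.Agent.Lib.Helper8.G2S.HS := le_antisymm range_le hle
  exact ⟨(MonoidHom.ofInjective f_injective).trans (MulEquiv.subgroupCongr heq)⟩

/-- the presented group is the Chevalley group of type `G₂` over a field with four elements -/
theorem iso {F : Type*} [Field F] [Fintype F] (hF : Fintype.card F = 4) :
    Nonempty (PG24p.P.Grp ≃* ↥(Cfsg.Lie.chevG2.group F)) := by
  obtain ⟨fG, _, hcard⟩ := Cfsg.Agent.S1694.order_aux
  obtain ⟨e1⟩ := equiv_HS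
  obtain ⟨e2⟩ := Cfsg.Agent.Lib.Helper8.G2S.iso fG hcard
  have hc : Fintype.card Cfsg.Agent.Lib.Helper8.HeSp.K4 = Fintype.card F := by
    rw [hF, Cfsg.Agent.Lib.Helper8.HeSp.K4.card_eq]
  let e3 : Cfsg.Agent.Lib.Helper8.HeSp.K4 ≃+* F := FiniteField.ringEquivOfCardEq hc
  exact ⟨(e1.trans e2).trans (Cfsg.Agent.Lib.Helper5.ChevStruct.groupEquivOfRingEquiv Cfsg.Lie.chevG2 e3)⟩

end Cfsg.Agent.Lib.Helper4.G24pIso
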