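import Mathlib
import Cfsg.Prelude.Def_KGroupFacts
import Cfsg.Agent.Lib.Helper4.G24pIso
import Cfsg.Agent.Lib.Helper4.C2G24Cover
import Cfsg.Agent.Lib.Helper4.C2G24NoStem

/-!
The presented group `C2G24` has no stem extension with kernel of prime order, and the Schur multiplier of the
group `G₂(4)` is cyclic of order 2.
-/

set_option autoImplicit false

namespace Cfsg.Agent.Lib.Helper4.C2G24Stem

open Cfsg Cfsg.Agent.Lib.Helper4.TC Cfsg.Agent.Lib.Helper4.TCD Cfsg.Agent.Lib.Helper4.TC.Log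
  Cfsg.Agent.Lib.Helper4.Stem

/-- no stem extension with kernel of prime order -/
theorem noStem : ∀ p, p.Prime → NoStemPrime PC2G24.P.Grp p := C2G24NoStem.noStem

/-- the Schur multiplier of `G₂(4)` is cyclic of order 2 -/
theorem hasMult {F : Type*} [Field F] [Fintype F] (hF : Fintype.card F = 4) :
    Cfsg.HasCyclicSchurMultiplier ↥(Cfsg.Lie.chevG2.group F) 2 := by
  obtain ⟨e⟩ := G24pIso.iso hF
  obtain ⟨fG, _, _⟩ := C2G24Main.order_aux
  have := fG
  obtain ⟨fL, _, _⟩ := G24pMain.order_aux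
  have := fL
  have : Finite ↥(Cfsg.Lie.chevG2.group F) := Finite.of_equiv _ e.toEquiv
  let τ : PC2G24.P.Grp →* ↥(Cfsg.Lie.chevG2.group F) := e.toMonoidHom.comp C2G24Cover.π
  have hker : τ.ker = C2G24Cover.π.ker := by
    ext x
    rw [MonoidHom.mem_ker, MonoidHom.mem_ker]
    show e (C2G24Cover.π x) = 1 ↔ _
    exact EmbeddingLike.map_eq_one_iff
  have hτ : IsStemExtension τ := by
    refine ⟨?_, ?_, ?_⟩
    · exact e.surjective.comp C2G24Cover.isStem.1
    · rw [hker]
      exact C2G24Cover.isStem.2.1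
    · rw [hker]
      exact C2G24Cover.isStem.2.2
  obtain ⟨ek⟩ := C2G24Cover.ker_equiv
  have ek' : τ.ker ≃* Multiplicative (ZMod 2) := (MulEquiv.subgroupCongr hker).trans ek
  exact hasSchurMultiplier_of_cover PC2G24.P.Grp τ hτ ek' noStem

end Cfsg.Agent.Lib.Helper4.C2G24Stem
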