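import Mathlib
import Cfsg.Agent.Lib.Helper4.TCD_HSpA_Fin
import Cfsg.Agent.Lib.Helper4.TCD_HSpL_Fin
import Cfsg.Agent.Lib.Helper4.M11pMain
import Cfsg.Agent.Lib.Helper4.TC16
import Cfsg.Agent.Lib.Helper4.TC20

/-!
The presented group `HSp` (the Higman-Sims group) has order 44352000 and acts faithfully on 5600 points.
Upper bound: the subgroup generated by `a` and `b` has index 5600 and is an image of the presented group `M11p`
of order 7920.  Lower bound: a strong generating set in the permutation representation.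
-/

set_option autoImplicit false

namespace Cfsg.Agent.Lib.Helper4.HSpMain

open Cfsg.Agent.Lib.Helper4.TC Cfsg.Agent.Lib.Helper4.TCD Cfsg.Agent.Lib.Helper4.TC.Log

/-- the relators of `M11p` are relators of `HSp` -/
theorem rel_sub : ∀ L ∈ PM11p.P.real, L ∈ PHSp.P.real := by decide +kernel

theorem exists_f : ∃ f : PM11p.P.Grp →* PHSp.P.Grp, ∀ l, l < PM11p.P.k →
    f (PM11p.P.gR l) = PHSp.P.gR l := by
  apply exists_hom_of_letters PM11p.P PM11p.valid PHSp.P.gR
  · intro l hl
    have hl : l < 4 := hl
    have e : PM11p.P.invR l = PHSp.P.invR l := by interval_cases l <;> rfl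
    rw [e, (PHSp.valid.invR_sound l (by show l ≤ 6; omega)).2, mul_inv_cancel]
  · intro L hL
    exact (PHSp.valid.real_sound L (rel_sub L hL)).2

/-- the homomorphism from `M11p` -/
noncomputable def f : PM11p.P.Grp →* PHSp.P.Grp := Classical.choose exists_f

theorem f_gR (l : ℕ) (hl : l < 4) : f (PM11p.P.gR l) = PHSp.P.gR l := Classical.choose_spec exists_f l hl

theorem sub_le_range : Inst.subG PHSp.P HSpA.subs ≤ f.range := by
  unfold Inst.subG
  rw [Subgroup.closure_le]
  rintro _ ⟨u, hu, rfl⟩
  simp only [HSpA.subs, List.mem_cons, List.not_mem_nil, or_false] at hu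
  rcases hu with rfl | rfl
  · exact ⟨PM11p.P.gR 0, by rw [f_gR 0 (by decide), wordP_cons, wordP_nil, mul_one]⟩
  · exact ⟨PM11p.P.gR 2, by rw [f_gR 2 (by decide), wordP_cons, wordP_nil, mul_one]⟩

/-- the subgroup generated by `a` and `b` is an image of `M11p` -/
theorem sub_card : Finite (Inst.subG PHSp.P HSpA.subs) ∧ Nat.card (Inst.subG PHSp.P HSpA.subs) ≤ 7920 := by
  obtain ⟨fK, _, cK⟩ := M11pMain.order_aux
  have := fK
  have fr : Finite f.range := Finite.of_surjective f.rangeRestrict f.rangeRestrict_surjective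
  have cr : Nat.card f.range ≤ 7920 := by
    rw [← cK]
    exact Nat.card_le_card_of_surjective f.rangeRestrict f.rangeRestrict_surjective
  have hinj : Function.Injective (Subgroup.inclusion sub_le_range) := Subgroup.inclusion_injective _
  refine ⟨Finite.of_injective _ hinj, le_trans (Nat.card_le_card_of_injective _ hinj) cr⟩

/-- the order and the faithful permutation representation -/
theorem order_aux : Finite PHSp.P.Grp ∧ Function.Injective HSpA.inst.phi ∧ Nat.card PHSp.P.Grp = 44352000 := by
  obtain ⟨f1, c1⟩ := sub_card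
  obtain ⟨fG, cG⟩ := HSpA.inst.card_le 7920 f1 c1
  have hub : Nat.card PHSp.P.Grp ≤ 44352000 := le_trans cG (by decide)
  obtain ⟨hinj, hcard⟩ := HSpA.inst.card_eq HSpL.S rfl rfl HSpL.htab0 HSpL.ok 44352000 (by decide)
    HSpL.prod_eq fG hub
  exact ⟨fG, hinj, hcard⟩

end Cfsg.Agent.Lib.Helper4.HSpMain
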