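import Cfsg.Agent.Lib.Helper4.TCD_C2HSR_C0

namespace Cfsg.Agent.Lib.Helper4.TCD.C2HSR

open Cfsg.Agent.Lib.Helper4.TC

theorem h_perm : ∀ i, 0 ≤ i → i < 11200 → ∀ x, x < 8 → T.permOK1 D i x = true :=
  (range_glue (range_of_allGrid c_perm_0) (range_glue (range_of_allGrid c_perm_1) (range_of_allGrid c_perm_2)))
theorem h_act0 : ∀ i, 0 ≤ i → i < 11200 → Nat.beq (actR0 i) i = true :=
  (range_of_allRange c_act0_0)
theorem h_act1 : ∀ i, 0 ≤ i → i < 11200 → Nat.beq (actR1 i) i = true :=
  (range_of_allRange c_act1_0)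
theorem h_act2 : ∀ i, 0 ≤ i → i < 11200 → Nat.beq (actR2 i) i = true :=
  (range_glue (range_of_allRange c_act2_0) (range_glue (range_of_allRange c_act2_1) (range_glue (range_of_allRange c_act2_2) (range_glue (range_of_allRange c_act2_3) (range_of_allRange c_act2_4)))))
theorem h_act3 : ∀ i, 0 ≤ i → i < 11200 → Nat.beq (actR3 i) i = true :=
  (range_glue (range_of_allRange c_act3_0) (range_glue (range_of_allRange c_act3_1) (range_glue (range_of_allRange c_act3_2) (range_of_allRange c_act3_3))))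
theorem h_act4 : ∀ i, 0 ≤ i → i < 11200 → Nat.beq (actR4 i) i = true :=
  (range_glue (range_of_allRange c_act4_0) (range_glue (range_of_allRange c_act4_1) (range_glue (range_of_allRange c_act4_2) (range_of_allRange c_act4_3))))
theorem h_act5 : ∀ i, 0 ≤ i → i < 11200 → Nat.beq (actR5 i) i = true :=
  (range_of_allRange c_act5_0)
theorem h_act6 : ∀ i, 0 ≤ i → i < 11200 → Nat.beq (actR6 i) i = true :=
  (range_glue (range_of_allRange c_act6_0) (range_of_allRange c_act6_1))
theorem h_act7 : ∀ i, 0 ≤ i → i < 11200 → Nat.beq (actR7 i) i = true :=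
  (range_glue (range_of_allRange c_act7_0) (range_of_allRange c_act7_1))
theorem h_act8 : ∀ i, 0 ≤ i → i < 11200 → Nat.beq (actR8 i) i = true :=
  (range_glue (range_of_allRange c_act8_0) (range_of_allRange c_act8_1))
theorem h_act9 : ∀ i, 0 ≤ i → i < 11200 → Nat.beq (actR9 i) i = true :=
  (range_glue (range_of_allRange c_act9_0) (range_glue (range_of_allRange c_act9_1) (range_of_allRange c_act9_2)))
theorem h_act10 : ∀ i, 0 ≤ i → i < 11200 → Nat.beq (actR10 i) i = true :=
  (range_glue (range_of_allRange c_act10_0) (range_glue (range_of_allRange c_act10_1) (range_of_allRange c_act10_2)))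
theorem h_act11 : ∀ i, 0 ≤ i → i < 11200 → Nat.beq (actR11 i) i = true :=
  (range_glue (range_of_allRange c_act11_0) (range_glue (range_of_allRange c_act11_1) (range_glue (range_of_allRange c_act11_2) (range_of_allRange c_act11_3))))
theorem h_act12 : ∀ i, 0 ≤ i → i < 11200 → Nat.beq (actR12 i) i = true :=
  (range_glue (range_of_allRange c_act12_0) (range_glue (range_of_allRange c_act12_1) (range_glue (range_of_allRange c_act12_2) (range_of_allRange c_act12_3))))
theorem h_act13 : ∀ i, 0 ≤ i → i < 11200 → Nat.beq (actR13 i) i = true :=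
  (range_of_allRange c_act13_0)
theorem h_act14 : ∀ i, 0 ≤ i → i < 11200 → Nat.beq (actR14 i) i = true :=
  (range_of_allRange c_act14_0)
theorem h_act15 : ∀ i, 0 ≤ i → i < 11200 → Nat.beq (actR15 i) i = true :=
  (range_of_allRange c_act15_0)
theorem h_act16 : ∀ i, 0 ≤ i → i < 11200 → Nat.beq (actR16 i) i = true :=
  (range_of_allRange c_act16_0)

theorem h_act : ∀ L ∈ PC2HS.P.real, ∀ i, i < T.N → Tab.relActOK T D L i = true := by
  rw [c_real]
  intro L hL
  simp only [realLit, List.mem_cons, List.not_mem_nil, or_false] at hL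
  rcases hL with rfl | rfl | rfl | rfl | rfl | rfl | rfl | rfl | rfl | rfl | rfl | rfl | rfl | rfl | rfl | rfl | rfl
  · intro i hi
    rw [Tab.relActOK, ← actR0_eq]
    exact h_act0 i (Nat.zero_le _) hi
  · intro i hi
    rw [Tab.relActOK, ← actR1_eq]
    exact h_act1 i (Nat.zero_le _) hi
  · intro i hi
    rw [Tab.relActOK, ← actR2_eq]
    exact h_act2 i (Nat.zero_le _) hi
  · intro i hi
    rw [Tab.relActOK, ← actR3_eq]
    exact h_act3 i (Nat.zero_le _) hi
  · intro i hi
    rw [Tab.relActOK, ← actR4_eq]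
    exact h_act4 i (Nat.zero_le _) hi
  · intro i hi
    rw [Tab.relActOK, ← actR5_eq]
    exact h_act5 i (Nat.zero_le _) hi
  · intro i hi
    rw [Tab.relActOK, ← actR6_eq]
    exact h_act6 i (Nat.zero_le _) hi
  · intro i hi
    rw [Tab.relActOK, ← actR7_eq]
    exact h_act7 i (Nat.zero_le _) hi
  · intro i hi
    rw [Tab.relActOK, ← actR8_eq]
    exact h_act8 i (Nat.zero_le _) hi
  · intro i hi
    rw [Tab.relActOK, ← actR9_eq]
    exact h_act9 i (Nat.zero_le _) hi
  · intro i hi
    rw [Tab.relActOK, ← actR10_eq]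
    exact h_act10 i (Nat.zero_le _) hi
  · intro i hi
    rw [Tab.relActOK, ← actR11_eq]
    exact h_act11 i (Nat.zero_le _) hi
  · intro i hi
    rw [Tab.relActOK, ← actR12_eq]
    exact h_act12 i (Nat.zero_le _) hi
  · intro i hi
    rw [Tab.relActOK, ← actR13_eq]
    exact h_act13 i (Nat.zero_le _) hi
  · intro i hi
    rw [Tab.relActOK, ← actR14_eq]
    exact h_act14 i (Nat.zero_le _) hi
  · intro i hi
    rw [Tab.relActOK, ← actR15_eq]
    exact h_act15 i (Nat.zero_le _) hi
  · intro i hi
    rw [Tab.relActOK, ← actR16_eq]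
    exact h_act16 i (Nat.zero_le _) hi

theorem prep : PRep PC2HS.P T D where
  hP := PC2HS.valid
  hk := rfl
  hinv := fun _ _ => rfl
  hperm := fun i x hi hx => h_perm i (Nat.zero_le _) hi x hx
  hlet := fun x hx => allBelow_eq_true.1 c_let x hx
  hact := h_act

end Cfsg.Agent.Lib.Helper4.TCD.C2HSR
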