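import Mathlib
import Cfsg.Prelude.Def_SporCoxeter

/-! The double cover of the Higman-Sims group, of order 2·44352000, presented on lifts `a`, `b`, `t` of the generators of `HSp` and the central involution `z` (generated). -/

namespace Cfsg.Agent.Lib.Helper4

namespace C2HS

/-- the generators -/
inductive Gen
  | a
  | b
  | t
  | z
  deriving DecidableEq

abbrev a : FreeGroup Gen := FreeGroup.of Gen.a
abbrev b : FreeGroup Gen := FreeGroup.of Gen.b
abbrev t : FreeGroup Gen := FreeGroup.of Gen.t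
abbrev z : FreeGroup Gen := FreeGroup.of Gen.z

/-- no Coxeter graph -/
def edges : List (Gen × ℕ × Gen) := []

/-- the relators -/
def extra : List (FreeGroup Gen) := [
  a ^ 2,
  b ^ 4,
  (a * b) ^ 11,
  (a * b * b) ^ 6,
  a * b * a * b * a * b⁻¹ * a * b * a * b * b * a * b⁻¹ * a * b * a * b⁻¹ * a * b⁻¹,
  t ^ 2,
  (a * b * t * b⁻¹) ^ 2,
  b * b * t * b * b * t * b⁻¹ * b⁻¹ * t,
  (a * t) ^ 5,
  ((a * b * a * b⁻¹ * t * b) ^ 2) * z,
  (b * t) ^ 6,
  (a * t * b⁻¹ * t * b * t) ^ 3,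
  (a * b⁻¹ * t * a * t) ^ 4,
  z ^ 2,
  z⁻¹ * a⁻¹ * z * a,
  z⁻¹ * b⁻¹ * z * b,
  z⁻¹ * t⁻¹ * z * t ]

end C2HS

end Cfsg.Agent.Lib.Helper4
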