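import Mathlib
import Cfsg.Agent.Lib.Helper4.M11pMain
import Cfsg.Agent.Lib.Helper4.TCD_SM11p2A_Fin
import Cfsg.Agent.Lib.Helper4.TCD_SM11p2W
import Cfsg.Agent.Lib.Helper4.StemLib5

/-! `M11p` has no stem extension with kernel of order 2 (generated). -/

namespace Cfsg.Agent.Lib.Helper4.SM11p2Main

open Cfsg.Agent.Lib.Helper4.TC Cfsg.Agent.Lib.Helper4.TCD Cfsg.Agent.Lib.Helper4.TC.Log Cfsg.Agent.Lib.Helper4.Stem

/-- the description of the auxiliary presentation -/
def spec : Spec2 :=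
  { p := 2
    items := [(0, [], 11),
      (2, [], 11),
      (4, [1, 1, 1, 2], 0),
      (6, [0, 5], 0),
      (8, [6, 6], 0),
      (10, [4, 4, 4, 4], 0),
      (12, [6, 4, 4, 6, 4, 4, 6, 4, 4, 6, 4, 4, 6, 4, 4, 6, 4, 4], 0),
      (14, [6, 4, 6, 4, 6, 5, 6, 4, 6, 4, 4, 6, 5, 6, 4, 6, 5, 6, 5], 0)]
    cen := [8, 10, 12, 14]
    R := []
    sub := [0]
    PR := [] }

/-- the letters of the auxiliary presentation as words of the base group -/
def Wl (l : ℕ) : List ℕ :=
  [[0, 2], [3, 1], [0, 2, 0, 2, 0, 2, 2], [3, 3, 1, 3, 1, 3, 1], [2], [3], [0], [1], [], [], [], [], [], [], [], []].getD l []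

theorem checks_eq : checks spec PM11p.P.invR Wl = SM11p2W.chkAll := by decide +kernel

set_option maxRecDepth 100000 in
theorem noStem : NoStemPrime PM11p.P.Grp 2 := by
  obtain ⟨fG, hinj, hcard⟩ := M11pMain.order_aux
  have hchecks : ∀ w ∈ checks spec PM11p.P.invR Wl, wordP PM11p.P.gR w = 1 := by
    rw [checks_eq]
    intro w hw
    exact M11pA.inst.word_eq_one hinj w (SM11p2W.hAll_lt w hw) (SM11p2W.hAll w hw)
  exact noStemPrime_pres_cyclic PM11p.P PM11p.valid PSM11p2.P PSM11p2.valid spec (by show Nat.Prime 2; norm_num) Wl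
    (by decide +kernel) (by decide +kernel) hchecks (by decide +kernel) 0 11 rfl (by decide +kernel) (by decide)
    720 (by decide) SM11p2A.index_eq fG 7920 hcard (by decide)

end Cfsg.Agent.Lib.Helper4.SM11p2Main
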