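import Cfsg.Agent.Lib.Helper4.TCD_C2HSB_Acc

namespace Cfsg.Agent.Lib.Helper4.TCD.C2HSB

open Cfsg.Agent.Lib.Helper4.TC

set_option maxRecDepth 100000
set_option Elab.async false

theorem c_fin_4 : allGrid (T.finOK D) 6000 1500 8 = true := by decide +kernel
theorem c_fin_5 : allGrid (T.finOK D) 7500 1500 8 = true := by decide +kernel
theorem c_fin_6 : allGrid (T.finOK D) 9000 1500 8 = true := by decide +kernel
theorem c_fin_7 : allGrid (T.finOK D) 10500 700 8 = true := by decide +kernel
theorem c_perm_0 : allGrid (T.permOK1 D) 0 3750 8 = true := by decide +kernel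
theorem c_perm_1 : allGrid (T.permOK1 D) 3750 3750 8 = true := by decide +kernel
theorem c_perm_2 : allGrid (T.permOK1 D) 7500 3700 8 = true := by decide +kernel
theorem c_act0_0 : allRange (fun i => Nat.beq (actR0 i) i) 0 11200 = true := by decide +kernel
theorem c_act1_0 : allRange (fun i => Nat.beq (actR1 i) i) 0 11200 = true := by decide +kernel
theorem c_act2_0 : allRange (fun i => Nat.beq (actR2 i) i) 0 2727 = true := by decide +kernel
theorem c_act2_1 : allRange (fun i => Nat.beq (actR2 i) i) 2727 2727 = true := by decide +kernel
theorem c_act2_2 : allRange (fun i => Nat.beq (actR2 i) i) 5454 2727 = true := by decide +kernel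
theorem c_act2_3 : allRange (fun i => Nat.beq (actR2 i) i) 8181 2727 = true := by decide +kernel
theorem c_act2_4 : allRange (fun i => Nat.beq (actR2 i) i) 10908 292 = true := by decide +kernel
theorem c_act3_0 : allRange (fun i => Nat.beq (actR3 i) i) 0 3333 = true := by decide +kernel
theorem c_act3_1 : allRange (fun i => Nat.beq (actR3 i) i) 3333 3333 = true := by decide +kernel
theorem c_act3_2 : allRange (fun i => Nat.beq (actR3 i) i) 6666 3333 = true := by decide +kernel
theorem c_act3_3 : allRange (fun i => Nat.beq (actR3 i) i) 9999 1201 = true := by decide +kernel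
theorem c_act4_0 : allRange (fun i => Nat.beq (actR4 i) i) 0 3157 = true := by decide +kernel
theorem c_act4_1 : allRange (fun i => Nat.beq (actR4 i) i) 3157 3157 = true := by decide +kernel
theorem c_act4_2 : allRange (fun i => Nat.beq (actR4 i) i) 6314 3157 = true := by decide +kernel
theorem c_act4_3 : allRange (fun i => Nat.beq (actR4 i) i) 9471 1729 = true := by decide +kernel
theorem c_act5_0 : allRange (fun i => Nat.beq (actR5 i) i) 0 11200 = true := by decide +kernel
theorem c_act6_0 : allRange (fun i => Nat.beq (actR6 i) i) 0 7500 = true := by decide +kernel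
theorem c_act6_1 : allRange (fun i => Nat.beq (actR6 i) i) 7500 3700 = true := by decide +kernel
theorem c_act7_0 : allRange (fun i => Nat.beq (actR7 i) i) 0 6666 = true := by decide +kernel
theorem c_act7_1 : allRange (fun i => Nat.beq (actR7 i) i) 6666 4534 = true := by decide +kernel
theorem c_act8_0 : allRange (fun i => Nat.beq (actR8 i) i) 0 6000 = true := by decide +kernel
theorem c_act8_1 : allRange (fun i => Nat.beq (actR8 i) i) 6000 5200 = true := by decide +kernel
theorem c_act9_0 : allRange (fun i => Nat.beq (actR9 i) i) 0 4615 = true := by decide +kernel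
theorem c_act9_1 : allRange (fun i => Nat.beq (actR9 i) i) 4615 4615 = true := by decide +kernel
theorem c_act9_2 : allRange (fun i => Nat.beq (actR9 i) i) 9230 1970 = true := by decide +kernel
theorem c_act10_0 : allRange (fun i => Nat.beq (actR10 i) i) 0 5000 = true := by decide +kernel
theorem c_act10_1 : allRange (fun i => Nat.beq (actR10 i) i) 5000 5000 = true := by decide +kernel
theorem c_act10_2 : allRange (fun i => Nat.beq (actR10 i) i) 10000 1200 = true := by decide +kernel
theorem c_act11_0 : allRange (fun i => Nat.beq (actR11 i) i) 0 3333 = true := by decide +kernel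
theorem c_act11_1 : allRange (fun i => Nat.beq (actR11 i) i) 3333 3333 = true := by decide +kernel
theorem c_act11_2 : allRange (fun i => Nat.beq (actR11 i) i) 6666 3333 = true := by decide +kernel
theorem c_act11_3 : allRange (fun i => Nat.beq (actR11 i) i) 9999 1201 = true := by decide +kernel
theorem c_act12_0 : allRange (fun i => Nat.beq (actR12 i) i) 0 3000 = true := by decide +kernel
theorem c_act12_1 : allRange (fun i => Nat.beq (actR12 i) i) 3000 3000 = true := by decide +kernel
theorem c_act12_2 : allRange (fun i => Nat.beq (actR12 i) i) 6000 3000 = true := by decide +kernel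
theorem c_act12_3 : allRange (fun i => Nat.beq (actR12 i) i) 9000 2200 = true := by decide +kernel
theorem c_act13_0 : allRange (fun i => Nat.beq (actR13 i) i) 0 11200 = true := by decide +kernel
theorem c_act14_0 : allRange (fun i => Nat.beq (actR14 i) i) 0 11200 = true := by decide +kernel
theorem c_act15_0 : allRange (fun i => Nat.beq (actR15 i) i) 0 11200 = true := by decide +kernel
theorem c_act16_0 : allRange (fun i => Nat.beq (actR16 i) i) 0 11200 = true := by decide +kernel

end Cfsg.Agent.Lib.Helper4.TCD.C2HSB
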