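import Cfsg.Agent.Lib.Helper4.TCD_C2HSB_C0
import Cfsg.Agent.Lib.Helper4.TCD_C2HSB_C1

namespace Cfsg.Agent.Lib.Helper4.TCD.C2HSB

open Cfsg.Agent.Lib.Helper4.TC

theorem h_rel_p0 : ∀ t, 116796 ≤ t → t < 257998 → D.relOK t = true :=
  (range_glue (range_of_allRange c_rel_0) (range_glue (range_of_allRange c_rel_1) (range_glue (range_of_allRange c_rel_2) (range_glue (range_of_allRange c_rel_3) (range_glue (range_of_allRange c_rel_4) (range_glue (range_of_allRange c_rel_5) (range_glue (range_of_allRange c_rel_6) (range_glue (range_of_allRange c_rel_7) (range_glue (range_of_allRange c_rel_8) (range_glue (range_of_allRange c_rel_9) (range_glue (range_of_allRange c_rel_10) (range_glue (range_of_allRange c_rel_11) (range_glue (range_of_allRange c_rel_12) (range_glue (range_of_allRange c_rel_13) (range_glue (range_of_allRange c_rel_14) (range_glue (range_of_allRange c_rel_15) (range_glue (range_of_allRange c_rel_16) (range_glue (range_of_allRange c_rel_17) (range_glue (range_of_allRange c_rel_18) (range_glue (range_of_allRange c_rel_19) (range_glue (range_of_allRange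 c_rel_20) (range_glue (range_of_allRange c_rel_21) (range_glue (range_of_allRange c_rel_22) (range_glue (range_of_allRange c_rel_23) (range_glue (range_of_allRange c_rel_24) (range_glue (range_of_allRange c_rel_25) (range_glue (range_of_allRange c_rel_26) (range_glue (range_of_allRange c_rel_27) (range_glue (range_of_allRange c_rel_28) (range_glue (range_of_allRange c_rel_29) (range_glue (range_of_allRange c_rel_30) (range_glue (range_of_allRange c_rel_31) (range_glue (range_of_allRange c_rel_32) (range_glue (range_of_allRange c_rel_33) (range_glue (range_of_allRange c_rel_34) (range_glue (range_of_allRange c_rel_35) (range_glue (range_of_allRange c_rel_36) (range_glue (range_of_allRange c_rel_37) (range_glue (range_of_allRange c_rel_38) (range_of_allRange c_rel_39))))))))))))))))))))))))))))))))))))))))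
theorem h_rel_p1 : ∀ t, 257998 ≤ t → t < 365430 → D.relOK t = true :=
  (range_glue (range_of_allRange c_rel_40) (range_glue (range_of_allRange c_rel_41) (range_glue (range_of_allRange c_rel_42) (range_glue (range_of_allRange c_rel_43) (range_glue (range_of_allRange c_rel_44) (range_glue (range_of_allRange c_rel_45) (range_glue (range_of_allRange c_rel_46) (range_glue (range_of_allRange c_rel_47) (range_glue (range_of_allRange c_rel_48) (range_glue (range_of_allRange c_rel_49) (range_glue (range_of_allRange c_rel_50) (range_glue (range_of_allRange c_rel_51) (range_glue (range_of_allRange c_rel_52) (range_glue (range_of_allRange c_rel_53) (range_glue (range_of_allRange c_rel_54) (range_glue (range_of_allRange c_rel_55) (range_glue (range_of_allRange c_rel_56) (range_glue (range_of_allRange c_rel_57) (range_glue (range_of_allRange c_rel_58) (range_glue (range_of_allRange c_rel_59) (range_glue (range_of_allRange c_rel_60) (range_glue (range_of_allRange c_rel_61) (range_glue (range_of_allRange c_rel_62) (range_glue (range_of_allRange c_rel_63) (range_glue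 (range_of_allRange c_rel_64) (range_glue (range_of_allRange c_rel_65) (range_glue (range_of_allRange c_rel_66) (range_glue (range_of_allRange c_rel_67) (range_glue (range_of_allRange c_rel_68) (range_glue (range_of_allRange c_rel_69) (range_of_allRange c_rel_70)))))))))))))))))))))))))))))))
theorem h_rel : ∀ t, 116796 ≤ t → t < 365430 → D.relOK t = true :=
  (range_glue h_rel_p0 h_rel_p1)
theorem h_names : ∀ t, 1 ≤ t → t < 116792 → D.nameOK t = true :=
  (range_glue (range_of_allRange c_names_0) (range_of_allRange c_names_1))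
theorem h_cls : ∀ t, 1 ≤ t → t < 116792 → T.clsOK D t = true :=
  (range_glue (range_of_allRange c_cls_0) (range_glue (range_of_allRange c_cls_1) (range_glue (range_of_allRange c_cls_2) (range_glue (range_of_allRange c_cls_3) (range_glue (range_of_allRange c_cls_4) (range_glue (range_of_allRange c_cls_5) (range_glue (range_of_allRange c_cls_6) (range_of_allRange c_cls_7))))))))
theorem h_rep : ∀ t, 0 ≤ t → t < 11200 → T.repOK D t = true :=
  (range_of_allRange c_rep_0)
theorem h_fin : ∀ i, 0 ≤ i → i < 11200 → ∀ x, x < 8 → T.finOK D i x = true :=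
  (range_glue (range_of_allGrid c_fin_0) (range_glue (range_of_allGrid c_fin_1) (range_glue (range_of_allGrid c_fin_2) (range_glue (range_of_allGrid c_fin_3) (range_glue (range_of_allGrid c_fin_4) (range_glue (range_of_allGrid c_fin_5) (range_glue (range_of_allGrid c_fin_6) (range_of_allGrid c_fin_7))))))))
theorem h_perm : ∀ i, 0 ≤ i → i < 11200 → ∀ x, x < 8 → T.permOK1 D i x = true :=
  (range_glue (range_of_allGrid c_perm_0) (range_glue (range_of_allGrid c_perm_1) (range_of_allGrid c_perm_2)))
theorem h_act0 : ∀ i, 0 ≤ i → i < 11200 → Nat.beq (actR0 i) i = true :=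
  (range_of_allRange c_act0_0)
theorem h_act1 : ∀ i, 0 ≤ i → i < 11200 → Nat.beq (actR1 i) i = true :=
  (range_of_allRange c_act1_0)
theorem h_act2 : ∀ i, 0 ≤ i → i < 11200 → Nat.beq (actR2 i) i = true :=
  (range_glue (range_of_allRange c_act2_0) (range_glue (range_of_allRange c_act2_1) (range_glue (range_of_allRange c_act2_2) (range_glue (range_of_allRange c_act2_3) (range_of_allRange c_act2_4)))))
theorem h_act3 : ∀ i, 0 ≤ i → i < 11200 → Nat.beq (actR3 i) i = true :=
  (range_glue (range_of_allRange c_act3_0) (range_glue (range_of_allRange c_act3_1) (range_glue (range_of_allRange c_act3_2) (range_of_allRange c_act3_3))))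
theorem h_act4 : ∀ i, 0 ≤ i → i < 11200 → Nat.beq (actR4 i) i = true :=
  (range_glue (range_of_allRange c_act4_0) (range_glue (range_of_allRange c_act4_1) (range_glue (range_of_allRange c_act4_2) (range_of_allRange c_act4_3))))
theorem h_act5 : ∀ i, 0 ≤ i → i < 11200 → Nat.beq (actR5 i) i = true :=
  (range_of_allRange c_act5_0)
theorem h_act6 : ∀ i, 0 ≤ i → i < 11200 → Nat.beq (actR6 i) i = true :=
  (range_glue (range_of_allRange c_act6_0) (range_of_allRange c_act6_1))
theorem h_act7 : ∀ i, 0 ≤ i → i < 11200 → Nat.beq (actR7 i) i = true :=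
  (range_glue (range_of_allRange c_act7_0) (range_of_allRange c_act7_1))
theorem h_act8 : ∀ i, 0 ≤ i → i < 11200 → Nat.beq (actR8 i) i = true :=
  (range_glue (range_of_allRange c_act8_0) (range_of_allRange c_act8_1))
theorem h_act9 : ∀ i, 0 ≤ i → i < 11200 → Nat.beq (actR9 i) i = true :=
  (range_glue (range_of_allRange c_act9_0) (range_glue (range_of_allRange c_act9_1) (range_of_allRange c_act9_2)))
theorem h_act10 : ∀ i, 0 ≤ i → i < 11200 → Nat.beq (actR10 i) i = true :=
  (range_glue (range_of_allRange c_act10_0) (range_glue (range_of_allRange c_act10_1) (range_of_allRange c_act10_2)))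
theorem h_act11 : ∀ i, 0 ≤ i → i < 11200 → Nat.beq (actR11 i) i = true :=
  (range_glue (range_of_allRange c_act11_0) (range_glue (range_of_allRange c_act11_1) (range_glue (range_of_allRange c_act11_2) (range_of_allRange c_act11_3))))
theorem h_act12 : ∀ i, 0 ≤ i → i < 11200 → Nat.beq (actR12 i) i = true :=
  (range_glue (range_of_allRange c_act12_0) (range_glue (range_of_allRange c_act12_1) (range_glue (range_of_allRange c_act12_2) (range_of_allRange c_act12_3))))
theorem h_act13 : ∀ i, 0 ≤ i → i < 11200 → Nat.beq (actR13 i) i = true :=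
  (range_of_allRange c_act13_0)
theorem h_act14 : ∀ i, 0 ≤ i → i < 11200 → Nat.beq (actR14 i) i = true :=
  (range_of_allRange c_act14_0)
theorem h_act15 : ∀ i, 0 ≤ i → i < 11200 → Nat.beq (actR15 i) i = true :=
  (range_of_allRange c_act15_0)
theorem h_act16 : ∀ i, 0 ≤ i → i < 11200 → Nat.beq (actR16 i) i = true :=
  (range_of_allRange c_act16_0)

theorem checked : T.Checked D where
  hz := c_zero
  hn := fun d h0 hd => h_names d h0 hd
  hb := fun j hj => allBelow_eq_true.1 c_base j hj
  hr := fun t h1 h2 => h_rel t h1 h2
  hfin := fun i x hi hx => h_fin i (Nat.zero_le _) hi x hx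
  hperm := fun i x hi hx => h_perm i (Nat.zero_le _) hi x hx
  hlet := fun x hx => allBelow_eq_true.1 c_let x hx
  hcls := fun d h0 hd => h_cls d h0 hd
  hrep := fun i hi => h_rep i (Nat.zero_le _) hi
  hcls0 := c_cls0
  hname0 := c_name0
  hN := by decide
  hM := by decide

theorem h_act : ∀ L ∈ PC2HS.P.real, ∀ i, i < T.N → Tab.relActOK T D L i = true := by
  rw [c_real]
  intro L hL
  simp only [realLit, List.mem_cons, List.not_mem_nil, or_false] at hL
  rcases hL with rfl | rfl | rfl | rfl | rfl | rfl | rfl | rfl | rfl | rfl | rfl | rfl | rfl | rfl | rfl | rfl | rfl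
  · intro i hi
    rw [Tab.relActOK, ← actR0_eq]
    exact h_act0 i (Nat.zero_le _) hi
  · intro i hi
    rw [Tab.relActOK, ← actR1_eq]
    exact h_act1 i (Nat.zero_le _) hi
  · intro i hi
    rw [Tab.relActOK, ← actR2_eq]
    exact h_act2 i (Nat.zero_le _) hi
  · intro i hi
    rw [Tab.relActOK, ← actR3_eq]
    exact h_act3 i (Nat.zero_le _) hi
  · intro i hi
    rw [Tab.relActOK, ← actR4_eq]
    exact h_act4 i (Nat.zero_le _) hi
  · intro i hi
    rw [Tab.relActOK, ← actR5_eq]
    exact h_act5 i (Nat.zero_le _) hi
  · intro i hi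
    rw [Tab.relActOK, ← actR6_eq]
    exact h_act6 i (Nat.zero_le _) hi
  · intro i hi
    rw [Tab.relActOK, ← actR7_eq]
    exact h_act7 i (Nat.zero_le _) hi
  · intro i hi
    rw [Tab.relActOK, ← actR8_eq]
    exact h_act8 i (Nat.zero_le _) hi
  · intro i hi
    rw [Tab.relActOK, ← actR9_eq]
    exact h_act9 i (Nat.zero_le _) hi
  · intro i hi
    rw [Tab.relActOK, ← actR10_eq]
    exact h_act10 i (Nat.zero_le _) hi
  · intro i hi
    rw [Tab.relActOK, ← actR11_eq]
    exact h_act11 i (Nat.zero_le _) hi
  · intro i hi
    rw [Tab.relActOK, ← actR12_eq]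
    exact h_act12 i (Nat.zero_le _) hi
  · intro i hi
    rw [Tab.relActOK, ← actR13_eq]
    exact h_act13 i (Nat.zero_le _) hi
  · intro i hi
    rw [Tab.relActOK, ← actR14_eq]
    exact h_act14 i (Nat.zero_le _) hi
  · intro i hi
    rw [Tab.relActOK, ← actR15_eq]
    exact h_act15 i (Nat.zero_le _) hi
  · intro i hi
    rw [Tab.relActOK, ← actR16_eq]
    exact h_act16 i (Nat.zero_le _) hi

theorem inst : Inst PC2HS.P T D subs where
  hP := PC2HS.valid
  hk := rfl
  hinv := rfl
  hsubs := by
    intro u hu x hx
    have h1 := List.all_eq_true.1 c_subs u hu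
    exact ble_succ (List.all_eq_true.1 h1 x hx)
  htab := c_tab
  hC := checked
  hact := h_act
  hsubfix := fun u hu => beq_eq (List.all_eq_true.1 c_subfix u hu)

theorem index_eq : (Inst.subG PC2HS.P subs).index = 11200 := inst.index_eq


end Cfsg.Agent.Lib.Helper4.TCD.C2HSB
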