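import Cfsg.Agent.Lib.Helper4.TCD_SC2HSp2A_Acc

namespace Cfsg.Agent.Lib.Helper4.TCD.SC2HSp2A

open Cfsg.Agent.Lib.Helper4.TC

set_option maxRecDepth 100000
set_option Elab.async false

theorem c_fin_2 : allGrid (T.finOK D) 750 375 32 = true := by decide +kernel
theorem c_fin_3 : allGrid (T.finOK D) 1125 375 32 = true := by decide +kernel
theorem c_fin_4 : allGrid (T.finOK D) 1500 375 32 = true := by decide +kernel
theorem c_fin_5 : allGrid (T.finOK D) 1875 375 32 = true := by decide +kernel
theorem c_fin_6 : allGrid (T.finOK D) 2250 375 32 = true := by decide +kernel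
theorem c_fin_7 : allGrid (T.finOK D) 2625 375 32 = true := by decide +kernel
theorem c_fin_8 : allGrid (T.finOK D) 3000 375 32 = true := by decide +kernel
theorem c_fin_9 : allGrid (T.finOK D) 3375 375 32 = true := by decide +kernel
theorem c_fin_10 : allGrid (T.finOK D) 3750 375 32 = true := by decide +kernel
theorem c_fin_11 : allGrid (T.finOK D) 4125 375 32 = true := by decide +kernel
theorem c_fin_12 : allGrid (T.finOK D) 4500 375 32 = true := by decide +kernel
theorem c_fin_13 : allGrid (T.finOK D) 4875 375 32 = true := by decide +kernel
theorem c_fin_14 : allGrid (T.finOK D) 5250 375 32 = true := by decide +kernel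
theorem c_fin_15 : allGrid (T.finOK D) 5625 375 32 = true := by decide +kernel
theorem c_fin_16 : allGrid (T.finOK D) 6000 375 32 = true := by decide +kernel
theorem c_fin_17 : allGrid (T.finOK D) 6375 375 32 = true := by decide +kernel
theorem c_fin_18 : allGrid (T.finOK D) 6750 375 32 = true := by decide +kernel
theorem c_fin_19 : allGrid (T.finOK D) 7125 375 32 = true := by decide +kernel
theorem c_fin_20 : allGrid (T.finOK D) 7500 375 32 = true := by decide +kernel
theorem c_fin_21 : allGrid (T.finOK D) 7875 375 32 = true := by decide +kernel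
theorem c_fin_22 : allGrid (T.finOK D) 8250 375 32 = true := by decide +kernel
theorem c_fin_23 : allGrid (T.finOK D) 8625 375 32 = true := by decide +kernel
theorem c_fin_24 : allGrid (T.finOK D) 9000 375 32 = true := by decide +kernel
theorem c_fin_25 : allGrid (T.finOK D) 9375 375 32 = true := by decide +kernel
theorem c_fin_26 : allGrid (T.finOK D) 9750 375 32 = true := by decide +kernel
theorem c_fin_27 : allGrid (T.finOK D) 10125 375 32 = true := by decide +kernel
theorem c_fin_28 : allGrid (T.finOK D) 10500 375 32 = true := by decide +kernel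
theorem c_fin_29 : allGrid (T.finOK D) 10875 325 32 = true := by decide +kernel
theorem c_perm_0 : allGrid (T.permOK1 D) 0 937 32 = true := by decide +kernel
theorem c_perm_1 : allGrid (T.permOK1 D) 937 937 32 = true := by decide +kernel
theorem c_perm_2 : allGrid (T.permOK1 D) 1874 937 32 = true := by decide +kernel
theorem c_perm_3 : allGrid (T.permOK1 D) 2811 937 32 = true := by decide +kernel
theorem c_perm_4 : allGrid (T.permOK1 D) 3748 937 32 = true := by decide +kernel
theorem c_perm_5 : allGrid (T.permOK1 D) 4685 937 32 = true := by decide +kernel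
theorem c_perm_6 : allGrid (T.permOK1 D) 5622 937 32 = true := by decide +kernel
theorem c_perm_7 : allGrid (T.permOK1 D) 6559 937 32 = true := by decide +kernel
theorem c_perm_8 : allGrid (T.permOK1 D) 7496 937 32 = true := by decide +kernel
theorem c_perm_9 : allGrid (T.permOK1 D) 8433 937 32 = true := by decide +kernel
theorem c_perm_10 : allGrid (T.permOK1 D) 9370 937 32 = true := by decide +kernel
theorem c_perm_11 : allGrid (T.permOK1 D) 10307 893 32 = true := by decide +kernel
theorem c_act0_0 : allRange (fun i => Nat.beq (actR0 i) i) 0 11200 = true := by decide +kernel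
theorem c_act1_0 : allRange (fun i => Nat.beq (actR1 i) i) 0 11200 = true := by decide +kernel
theorem c_act2_0 : allRange (fun i => Nat.beq (actR2 i) i) 0 11200 = true := by decide +kernel
theorem c_act3_0 : allRange (fun i => Nat.beq (actR3 i) i) 0 11200 = true := by decide +kernel
theorem c_act4_0 : allRange (fun i => Nat.beq (actR4 i) i) 0 4615 = true := by decide +kernel
theorem c_act4_1 : allRange (fun i => Nat.beq (actR4 i) i) 4615 4615 = true := by decide +kernel
theorem c_act4_2 : allRange (fun i => Nat.beq (actR4 i) i) 9230 1970 = true := by decide +kernel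
theorem c_act5_0 : allRange (fun i => Nat.beq (actR5 i) i) 0 11200 = true := by decide +kernel
theorem c_act6_0 : allRange (fun i => Nat.beq (actR6 i) i) 0 6666 = true := by decide +kernel
theorem c_act6_1 : allRange (fun i => Nat.beq (actR6 i) i) 6666 4534 = true := by decide +kernel
theorem c_act7_0 : allRange (fun i => Nat.beq (actR7 i) i) 0 6000 = true := by decide +kernel
theorem c_act7_1 : allRange (fun i => Nat.beq (actR7 i) i) 6000 5200 = true := by decide +kernel
theorem c_act8_0 : allRange (fun i => Nat.beq (actR8 i) i) 0 5454 = true := by decide +kernel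

end Cfsg.Agent.Lib.Helper4.TCD.SC2HSp2A
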