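import Cfsg.Agent.Lib.Helper4.TCD_SC2HSp2A_Acc

namespace Cfsg.Agent.Lib.Helper4.TCD.SC2HSp2A

open Cfsg.Agent.Lib.Helper4.TC

set_option maxRecDepth 100000
set_option Elab.async false

theorem c_act69_0 : allRange (fun i => Nat.beq (actR69 i) i) 0 11200 = true := by decide +kernel
theorem c_act70_0 : allRange (fun i => Nat.beq (actR70 i) i) 0 11200 = true := by decide +kernel
theorem c_act71_0 : allRange (fun i => Nat.beq (actR71 i) i) 0 11200 = true := by decide +kernel
theorem c_act72_0 : allRange (fun i => Nat.beq (actR72 i) i) 0 11200 = true := by decide +kernel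
theorem c_act73_0 : allRange (fun i => Nat.beq (actR73 i) i) 0 11200 = true := by decide +kernel
theorem c_act74_0 : allRange (fun i => Nat.beq (actR74 i) i) 0 11200 = true := by decide +kernel
theorem c_act75_0 : allRange (fun i => Nat.beq (actR75 i) i) 0 11200 = true := by decide +kernel
theorem c_act76_0 : allRange (fun i => Nat.beq (actR76 i) i) 0 11200 = true := by decide +kernel
theorem c_act77_0 : allRange (fun i => Nat.beq (actR77 i) i) 0 11200 = true := by decide +kernel
theorem c_act78_0 : allRange (fun i => Nat.beq (actR78 i) i) 0 11200 = true := by decide +kernel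
theorem c_act79_0 : allRange (fun i => Nat.beq (actR79 i) i) 0 11200 = true := by decide +kernel
theorem c_act80_0 : allRange (fun i => Nat.beq (actR80 i) i) 0 11200 = true := by decide +kernel
theorem c_act81_0 : allRange (fun i => Nat.beq (actR81 i) i) 0 11200 = true := by decide +kernel
theorem c_act82_0 : allRange (fun i => Nat.beq (actR82 i) i) 0 11200 = true := by decide +kernel
theorem c_act83_0 : allRange (fun i => Nat.beq (actR83 i) i) 0 11200 = true := by decide +kernel
theorem c_act84_0 : allRange (fun i => Nat.beq (actR84 i) i) 0 2727 = true := by decide +kernel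
theorem c_act84_1 : allRange (fun i => Nat.beq (actR84 i) i) 2727 2727 = true := by decide +kernel
theorem c_act84_2 : allRange (fun i => Nat.beq (actR84 i) i) 5454 2727 = true := by decide +kernel
theorem c_act84_3 : allRange (fun i => Nat.beq (actR84 i) i) 8181 2727 = true := by decide +kernel
theorem c_act84_4 : allRange (fun i => Nat.beq (actR84 i) i) 10908 292 = true := by decide +kernel
theorem c_act85_0 : allRange (fun i => Nat.beq (actR85 i) i) 0 3333 = true := by decide +kernel
theorem c_act85_1 : allRange (fun i => Nat.beq (actR85 i) i) 3333 3333 = true := by decide +kernel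
theorem c_act85_2 : allRange (fun i => Nat.beq (actR85 i) i) 6666 3333 = true := by decide +kernel
theorem c_act85_3 : allRange (fun i => Nat.beq (actR85 i) i) 9999 1201 = true := by decide +kernel
theorem c_act86_0 : allRange (fun i => Nat.beq (actR86 i) i) 0 3157 = true := by decide +kernel
theorem c_act86_1 : allRange (fun i => Nat.beq (actR86 i) i) 3157 3157 = true := by decide +kernel
theorem c_act86_2 : allRange (fun i => Nat.beq (actR86 i) i) 6314 3157 = true := by decide +kernel
theorem c_act86_3 : allRange (fun i => Nat.beq (actR86 i) i) 9471 1729 = true := by decide +kernel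
theorem c_act87_0 : allRange (fun i => Nat.beq (actR87 i) i) 0 2500 = true := by decide +kernel
theorem c_act87_1 : allRange (fun i => Nat.beq (actR87 i) i) 2500 2500 = true := by decide +kernel
theorem c_act87_2 : allRange (fun i => Nat.beq (actR87 i) i) 5000 2500 = true := by decide +kernel
theorem c_act87_3 : allRange (fun i => Nat.beq (actR87 i) i) 7500 2500 = true := by decide +kernel
theorem c_act87_4 : allRange (fun i => Nat.beq (actR87 i) i) 10000 1200 = true := by decide +kernel
theorem c_act88_0 : allRange (fun i => Nat.beq (actR88 i) i) 0 1764 = true := by decide +kernel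
theorem c_act88_1 : allRange (fun i => Nat.beq (actR88 i) i) 1764 1764 = true := by decide +kernel
theorem c_act88_2 : allRange (fun i => Nat.beq (actR88 i) i) 3528 1764 = true := by decide +kernel
theorem c_act88_3 : allRange (fun i => Nat.beq (actR88 i) i) 5292 1764 = true := by decide +kernel
theorem c_act88_4 : allRange (fun i => Nat.beq (actR88 i) i) 7056 1764 = true := by decide +kernel
theorem c_act88_5 : allRange (fun i => Nat.beq (actR88 i) i) 8820 1764 = true := by decide +kernel
theorem c_act88_6 : allRange (fun i => Nat.beq (actR88 i) i) 10584 616 = true := by decide +kernel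
theorem c_act89_0 : allRange (fun i => Nat.beq (actR89 i) i) 0 1714 = true := by decide +kernel
theorem c_act89_1 : allRange (fun i => Nat.beq (actR89 i) i) 1714 1714 = true := by decide +kernel
theorem c_act89_2 : allRange (fun i => Nat.beq (actR89 i) i) 3428 1714 = true := by decide +kernel
theorem c_act89_3 : allRange (fun i => Nat.beq (actR89 i) i) 5142 1714 = true := by decide +kernel
theorem c_act89_4 : allRange (fun i => Nat.beq (actR89 i) i) 6856 1714 = true := by decide +kernel
theorem c_act89_5 : allRange (fun i => Nat.beq (actR89 i) i) 8570 1714 = true := by decide +kernel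
theorem c_act89_6 : allRange (fun i => Nat.beq (actR89 i) i) 10284 916 = true := by decide +kernel
theorem c_act90_0 : allRange (fun i => Nat.beq (actR90 i) i) 0 1666 = true := by decide +kernel
theorem c_act90_1 : allRange (fun i => Nat.beq (actR90 i) i) 1666 1666 = true := by decide +kernel
theorem c_act90_2 : allRange (fun i => Nat.beq (actR90 i) i) 3332 1666 = true := by decide +kernel
theorem c_act90_3 : allRange (fun i => Nat.beq (actR90 i) i) 4998 1666 = true := by decide +kernel
theorem c_act90_4 : allRange (fun i => Nat.beq (actR90 i) i) 6664 1666 = true := by decide +kernel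
theorem c_act90_5 : allRange (fun i => Nat.beq (actR90 i) i) 8330 1666 = true := by decide +kernel
theorem c_act90_6 : allRange (fun i => Nat.beq (actR90 i) i) 9996 1204 = true := by decide +kernel

end Cfsg.Agent.Lib.Helper4.TCD.SC2HSp2A
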