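import Cfsg.Agent.Lib.Helper4.TCD_C2HSR_Acc
import Cfsg.Agent.Lib.Helper4.TC13

namespace Cfsg.Agent.Lib.Helper4.TCD.SC2HSp2W

open Cfsg.Agent.Lib.Helper4.TC Cfsg.Agent.Lib.Helper4.TCD.C2HSR

set_option maxRecDepth 100000
set_option Elab.async false

def chk0 : List Nat := [0, 0]
noncomputable def act0 (i : Nat) : Nat := col1 (col1 (i))
theorem act0_eq (i : Nat) : act0 i = Tab.act T D chk0 i := rfl
theorem c0_0 : allRange (fun i => Nat.beq (act0 i) i) 0 11200 = true := by decide +kernel
theorem h0 : ∀ i, i < T.N → Tab.relActOK T D chk0 i = true := by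
  intro i hi
  rw [Tab.relActOK, ← act0_eq]
  exact (range_of_allRange c0_0) i (Nat.zero_le _) hi

def chk1 : List Nat := [2, 2, 2, 2]
noncomputable def act1 (i : Nat) : Nat := col3 (col3 (col3 (col3 (i))))
theorem act1_eq (i : Nat) : act1 i = Tab.act T D chk1 i := rfl
theorem c1_0 : allRange (fun i => Nat.beq (act1 i) i) 0 10000 = true := by decide +kernel
theorem c1_1 : allRange (fun i => Nat.beq (act1 i) i) 10000 1200 = true := by decide +kernel
theorem h1 : ∀ i, i < T.N → Tab.relActOK T D chk1 i = true := by
  intro i hi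
  rw [Tab.relActOK, ← act1_eq]
  exact (range_glue (range_of_allRange c1_0) (range_of_allRange c1_1)) i (Nat.zero_le _) hi

def chk2 : List Nat := [4, 0, 4, 0, 4, 0, 4, 0, 4, 0]
noncomputable def act2 (i : Nat) : Nat := col5 (col1 (col5 (col1 (col5 (col1 (col5 (col1 (col5 (col1 (i))))))))))
theorem act2_eq (i : Nat) : act2 i = Tab.act T D chk2 i := rfl
theorem c2_0 : allRange (fun i => Nat.beq (act2 i) i) 0 5000 = true := by decide +kernel
theorem c2_1 : allRange (fun i => Nat.beq (act2 i) i) 5000 5000 = true := by decide +kernel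
theorem c2_2 : allRange (fun i => Nat.beq (act2 i) i) 10000 1200 = true := by decide +kernel
theorem h2 : ∀ i, i < T.N → Tab.relActOK T D chk2 i = true := by
  intro i hi
  rw [Tab.relActOK, ← act2_eq]
  exact (range_glue (range_of_allRange c2_0) (range_glue (range_of_allRange c2_1) (range_of_allRange c2_2))) i (Nat.zero_le _) hi

def chk3 : List Nat := [4, 0, 1, 5]
noncomputable def act3 (i : Nat) : Nat := col5 (col1 (col0 (col4 (i))))
theorem act3_eq (i : Nat) : act3 i = Tab.act T D chk3 i := rfl
theorem c3_0 : allRange (fun i => Nat.beq (act3 i) i) 0 10000 = true := by decide +kernel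
theorem c3_1 : allRange (fun i => Nat.beq (act3 i) i) 10000 1200 = true := by decide +kernel
theorem h3 : ∀ i, i < T.N → Tab.relActOK T D chk3 i = true := by
  intro i hi
  rw [Tab.relActOK, ← act3_eq]
  exact (range_glue (range_of_allRange c3_0) (range_of_allRange c3_1)) i (Nat.zero_le _) hi

def chk4 : List Nat := [0, 2, 0, 3, 4, 2, 0, 2, 0, 3, 4, 2, 7]
noncomputable def act4 (i : Nat) : Nat := col1 (col3 (col1 (col2 (col5 (col3 (col1 (col3 (col1 (col2 (col5 (col3 (col6 (i)))))))))))))
theorem act4_eq (i : Nat) : act4 i = Tab.act T D chk4 i := rfl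
theorem c4_0 : allRange (fun i => Nat.beq (act4 i) i) 0 4000 = true := by decide +kernel
theorem c4_1 : allRange (fun i => Nat.beq (act4 i) i) 4000 4000 = true := by decide +kernel
theorem c4_2 : allRange (fun i => Nat.beq (act4 i) i) 8000 3200 = true := by decide +kernel
theorem h4 : ∀ i, i < T.N → Tab.relActOK T D chk4 i = true := by
  intro i hi
  rw [Tab.relActOK, ← act4_eq]
  exact (range_glue (range_of_allRange c4_0) (range_glue (range_of_allRange c4_1) (range_of_allRange c4_2))) i (Nat.zero_le _) hi

def chk5 : List Nat := [4, 4]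
noncomputable def act5 (i : Nat) : Nat := col5 (col5 (i))
theorem act5_eq (i : Nat) : act5 i = Tab.act T D chk5 i := rfl
theorem c5_0 : allRange (fun i => Nat.beq (act5 i) i) 0 11200 = true := by decide +kernel
theorem h5 : ∀ i, i < T.N → Tab.relActOK T D chk5 i = true := by
  intro i hi
  rw [Tab.relActOK, ← act5_eq]
  exact (range_of_allRange c5_0) i (Nat.zero_le _) hi

def chk6 : List Nat := [0, 2, 4, 3, 0, 2, 4, 3]
noncomputable def act6 (i : Nat) : Nat := col1 (col3 (col5 (col2 (col1 (col3 (col5 (col2 (i))))))))
theorem act6_eq (i : Nat) : act6 i = Tab.act T D chk6 i := rfl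
theorem c6_0 : allRange (fun i => Nat.beq (act6 i) i) 0 6000 = true := by decide +kernel
theorem c6_1 : allRange (fun i => Nat.beq (act6 i) i) 6000 5200 = true := by decide +kernel
theorem h6 : ∀ i, i < T.N → Tab.relActOK T D chk6 i = true := by
  intro i hi
  rw [Tab.relActOK, ← act6_eq]
  exact (range_glue (range_of_allRange c6_0) (range_of_allRange c6_1)) i (Nat.zero_le _) hi

def chk7 : List Nat := [2, 2, 4, 2, 2, 4, 3, 3, 4]
noncomputable def act7 (i : Nat) : Nat := col3 (col3 (col5 (col3 (col3 (col5 (col2 (col2 (col5 (i)))))))))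
theorem act7_eq (i : Nat) : act7 i = Tab.act T D chk7 i := rfl
theorem c7_0 : allRange (fun i => Nat.beq (act7 i) i) 0 5454 = true := by decide +kernel
theorem c7_1 : allRange (fun i => Nat.beq (act7 i) i) 5454 5454 = true := by decide +kernel
theorem c7_2 : allRange (fun i => Nat.beq (act7 i) i) 10908 292 = true := by decide +kernel
theorem h7 : ∀ i, i < T.N → Tab.relActOK T D chk7 i = true := by
  intro i hi
  rw [Tab.relActOK, ← act7_eq]
  exact (range_glue (range_of_allRange c7_0) (range_glue (range_of_allRange c7_1) (range_of_allRange c7_2))) i (Nat.zero_le _) hi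

def chk8 : List Nat := [0, 4, 0, 4, 0, 4, 0, 4, 0, 4]
noncomputable def act8 (i : Nat) : Nat := col1 (col5 (col1 (col5 (col1 (col5 (col1 (col5 (col1 (col5 (i))))))))))
theorem act8_eq (i : Nat) : act8 i = Tab.act T D chk8 i := rfl
theorem c8_0 : allRange (fun i => Nat.beq (act8 i) i) 0 5000 = true := by decide +kernel
theorem c8_1 : allRange (fun i => Nat.beq (act8 i) i) 5000 5000 = true := by decide +kernel
theorem c8_2 : allRange (fun i => Nat.beq (act8 i) i) 10000 1200 = true := by decide +kernel
theorem h8 : ∀ i, i < T.N → Tab.relActOK T D chk8 i = true := by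
  intro i hi
  rw [Tab.relActOK, ← act8_eq]
  exact (range_glue (range_of_allRange c8_0) (range_glue (range_of_allRange c8_1) (range_of_allRange c8_2))) i (Nat.zero_le _) hi

def chk9 : List Nat := [2, 4, 2, 4, 2, 4, 2, 4, 2, 4, 2, 4]
noncomputable def act9 (i : Nat) : Nat := col3 (col5 (col3 (col5 (col3 (col5 (col3 (col5 (col3 (col5 (col3 (col5 (i))))))))))))
theorem act9_eq (i : Nat) : act9 i = Tab.act T D chk9 i := rfl
theorem c9_0 : allRange (fun i => Nat.beq (act9 i) i) 0 4285 = true := by decide +kernel
theorem c9_1 : allRange (fun i => Nat.beq (act9 i) i) 4285 4285 = true := by decide +kernel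
theorem c9_2 : allRange (fun i => Nat.beq (act9 i) i) 8570 2630 = true := by decide +kernel
theorem h9 : ∀ i, i < T.N → Tab.relActOK T D chk9 i = true := by
  intro i hi
  rw [Tab.relActOK, ← act9_eq]
  exact (range_glue (range_of_allRange c9_0) (range_glue (range_of_allRange c9_1) (range_of_allRange c9_2))) i (Nat.zero_le _) hi

def chk10 : List Nat := [0, 4, 3, 4, 2, 4, 0, 4, 3, 4, 2, 4, 0, 4, 3, 4, 2, 4]
noncomputable def act10 (i : Nat) : Nat := col1 (col5 (col2 (col5 (col3 (col5 (col1 (col5 (col2 (col5 (col3 (col5 (col1 (col5 (col2 (col5 (col3 (col5 (i))))))))))))))))))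
theorem act10_eq (i : Nat) : act10 i = Tab.act T D chk10 i := rfl
theorem c10_0 : allRange (fun i => Nat.beq (act10 i) i) 0 3000 = true := by decide +kernel
theorem c10_1 : allRange (fun i => Nat.beq (act10 i) i) 3000 3000 = true := by decide +kernel
theorem c10_2 : allRange (fun i => Nat.beq (act10 i) i) 6000 3000 = true := by decide +kernel
theorem c10_3 : allRange (fun i => Nat.beq (act10 i) i) 9000 2200 = true := by decide +kernel
theorem h10 : ∀ i, i < T.N → Tab.relActOK T D chk10 i = true := by
  intro i hi
  rw [Tab.relActOK, ← act10_eq]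
  exact (range_glue (range_of_allRange c10_0) (range_glue (range_of_allRange c10_1) (range_glue (range_of_allRange c10_2) (range_of_allRange c10_3)))) i (Nat.zero_le _) hi

def chk11 : List Nat := [0, 3, 4, 0, 4, 0, 3, 4, 0, 4, 0, 3, 4, 0, 4, 0, 3, 4, 0, 4]
noncomputable def act11 (i : Nat) : Nat := col1 (col2 (col5 (col1 (col5 (col1 (col2 (col5 (col1 (col5 (col1 (col2 (col5 (col1 (col5 (col1 (col2 (col5 (col1 (col5 (i))))))))))))))))))))
theorem act11_eq (i : Nat) : act11 i = Tab.act T D chk11 i := rfl
theorem c11_0 : allRange (fun i => Nat.beq (act11 i) i) 0 2727 = true := by decide +kernel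
theorem c11_1 : allRange (fun i => Nat.beq (act11 i) i) 2727 2727 = true := by decide +kernel
theorem c11_2 : allRange (fun i => Nat.beq (act11 i) i) 5454 2727 = true := by decide +kernel
theorem c11_3 : allRange (fun i => Nat.beq (act11 i) i) 8181 2727 = true := by decide +kernel
theorem c11_4 : allRange (fun i => Nat.beq (act11 i) i) 10908 292 = true := by decide +kernel
theorem h11 : ∀ i, i < T.N → Tab.relActOK T D chk11 i = true := by
  intro i hi
  rw [Tab.relActOK, ← act11_eq]
  exact (range_glue (range_of_allRange c11_0) (range_glue (range_of_allRange c11_1) (range_glue (range_of_allRange c11_2) (range_glue (range_of_allRange c11_3) (range_of_allRange c11_4))))) i (Nat.zero_le _) hi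

def chk12 : List Nat := [6, 6]
noncomputable def act12 (i : Nat) : Nat := col7 (col7 (i))
theorem act12_eq (i : Nat) : act12 i = Tab.act T D chk12 i := rfl
theorem c12_0 : allRange (fun i => Nat.beq (act12 i) i) 0 11200 = true := by decide +kernel
theorem h12 : ∀ i, i < T.N → Tab.relActOK T D chk12 i = true := by
  intro i hi
  rw [Tab.relActOK, ← act12_eq]
  exact (range_of_allRange c12_0) i (Nat.zero_le _) hi

def chk13 : List Nat := [7, 1, 6, 0]
noncomputable def act13 (i : Nat) : Nat := col6 (col0 (col7 (col1 (i))))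
theorem act13_eq (i : Nat) : act13 i = Tab.act T D chk13 i := rfl
theorem c13_0 : allRange (fun i => Nat.beq (act13 i) i) 0 10000 = true := by decide +kernel
theorem c13_1 : allRange (fun i => Nat.beq (act13 i) i) 10000 1200 = true := by decide +kernel
theorem h13 : ∀ i, i < T.N → Tab.relActOK T D chk13 i = true := by
  intro i hi
  rw [Tab.relActOK, ← act13_eq]
  exact (range_glue (range_of_allRange c13_0) (range_of_allRange c13_1)) i (Nat.zero_le _) hi

def chk14 : List Nat := [7, 3, 6, 2]
noncomputable def act14 (i : Nat) : Nat := col6 (col2 (col7 (col3 (i))))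
theorem act14_eq (i : Nat) : act14 i = Tab.act T D chk14 i := rfl
theorem c14_0 : allRange (fun i => Nat.beq (act14 i) i) 0 10000 = true := by decide +kernel
theorem c14_1 : allRange (fun i => Nat.beq (act14 i) i) 10000 1200 = true := by decide +kernel
theorem h14 : ∀ i, i < T.N → Tab.relActOK T D chk14 i = true := by
  intro i hi
  rw [Tab.relActOK, ← act14_eq]
  exact (range_glue (range_of_allRange c14_0) (range_of_allRange c14_1)) i (Nat.zero_le _) hi

def chk15 : List Nat := [7, 5, 6, 4]
noncomputable def act15 (i : Nat) : Nat := col6 (col4 (col7 (col5 (i))))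
theorem act15_eq (i : Nat) : act15 i = Tab.act T D chk15 i := rfl
theorem c15_0 : allRange (fun i => Nat.beq (act15 i) i) 0 10000 = true := by decide +kernel
theorem c15_1 : allRange (fun i => Nat.beq (act15 i) i) 10000 1200 = true := by decide +kernel
theorem h15 : ∀ i, i < T.N → Tab.relActOK T D chk15 i = true := by
  intro i hi
  rw [Tab.relActOK, ← act15_eq]
  exact (range_glue (range_of_allRange c15_0) (range_of_allRange c15_1)) i (Nat.zero_le _) hi

def chk16 : List Nat := [0, 0]
noncomputable def act16 (i : Nat) : Nat := col1 (col1 (i))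
theorem act16_eq (i : Nat) : act16 i = Tab.act T D chk16 i := rfl
theorem c16_0 : allRange (fun i => Nat.beq (act16 i) i) 0 11200 = true := by decide +kernel
theorem h16 : ∀ i, i < T.N → Tab.relActOK T D chk16 i = true := by
  intro i hi
  rw [Tab.relActOK, ← act16_eq]
  exact (range_of_allRange c16_0) i (Nat.zero_le _) hi

def chk17 : List Nat := [2, 2, 2, 2]
noncomputable def act17 (i : Nat) : Nat := col3 (col3 (col3 (col3 (i))))
theorem act17_eq (i : Nat) : act17 i = Tab.act T D chk17 i := rfl
theorem c17_0 : allRange (fun i => Nat.beq (act17 i) i) 0 10000 = true := by decide +kernel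
theorem c17_1 : allRange (fun i => Nat.beq (act17 i) i) 10000 1200 = true := by decide +kernel
theorem h17 : ∀ i, i < T.N → Tab.relActOK T D chk17 i = true := by
  intro i hi
  rw [Tab.relActOK, ← act17_eq]
  exact (range_glue (range_of_allRange c17_0) (range_of_allRange c17_1)) i (Nat.zero_le _) hi

def chk18 : List Nat := [0, 2, 0, 2, 0, 2, 0, 2, 0, 2, 0, 2, 0, 2, 0, 2, 0, 2, 0, 2, 0, 2]
noncomputable def act18 (i : Nat) : Nat := col1 (col3 (col1 (col3 (col1 (col3 (col1 (col3 (col1 (col3 (col1 (col3 (col1 (col3 (col1 (col3 (col1 (col3 (col1 (col3 (col1 (col3 (i))))))))))))))))))))))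
theorem act18_eq (i : Nat) : act18 i = Tab.act T D chk18 i := rfl
theorem c18_0 : allRange (fun i => Nat.beq (act18 i) i) 0 2500 = true := by decide +kernel
theorem c18_1 : allRange (fun i => Nat.beq (act18 i) i) 2500 2500 = true := by decide +kernel
theorem c18_2 : allRange (fun i => Nat.beq (act18 i) i) 5000 2500 = true := by decide +kernel
theorem c18_3 : allRange (fun i => Nat.beq (act18 i) i) 7500 2500 = true := by decide +kernel
theorem c18_4 : allRange (fun i => Nat.beq (act18 i) i) 10000 1200 = true := by decide +kernel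
theorem h18 : ∀ i, i < T.N → Tab.relActOK T D chk18 i = true := by
  intro i hi
  rw [Tab.relActOK, ← act18_eq]
  exact (range_glue (range_of_allRange c18_0) (range_glue (range_of_allRange c18_1) (range_glue (range_of_allRange c18_2) (range_glue (range_of_allRange c18_3) (range_of_allRange c18_4))))) i (Nat.zero_le _) hi

def chk19 : List Nat := [0, 2, 2, 0, 2, 2, 0, 2, 2, 0, 2, 2, 0, 2, 2, 0, 2, 2]
noncomputable def act19 (i : Nat) : Nat := col1 (col3 (col3 (col1 (col3 (col3 (col1 (col3 (col3 (col1 (col3 (col3 (col1 (col3 (col3 (col1 (col3 (col3 (i))))))))))))))))))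
theorem act19_eq (i : Nat) : act19 i = Tab.act T D chk19 i := rfl
theorem c19_0 : allRange (fun i => Nat.beq (act19 i) i) 0 3000 = true := by decide +kernel
theorem c19_1 : allRange (fun i => Nat.beq (act19 i) i) 3000 3000 = true := by decide +kernel
theorem c19_2 : allRange (fun i => Nat.beq (act19 i) i) 6000 3000 = true := by decide +kernel
theorem c19_3 : allRange (fun i => Nat.beq (act19 i) i) 9000 2200 = true := by decide +kernel
theorem h19 : ∀ i, i < T.N → Tab.relActOK T D chk19 i = true := by
  intro i hi
  rw [Tab.relActOK, ← act19_eq]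
  exact (range_glue (range_of_allRange c19_0) (range_glue (range_of_allRange c19_1) (range_glue (range_of_allRange c19_2) (range_of_allRange c19_3)))) i (Nat.zero_le _) hi

def chk20 : List Nat := [0, 2, 0, 2, 0, 3, 0, 2, 0, 2, 2, 0, 3, 0, 2, 0, 3, 0, 3]
noncomputable def act20 (i : Nat) : Nat := col1 (col3 (col1 (col3 (col1 (col2 (col1 (col3 (col1 (col3 (col3 (col1 (col2 (col1 (col3 (col1 (col2 (col1 (col2 (i)))))))))))))))))))
theorem act20_eq (i : Nat) : act20 i = Tab.act T D chk20 i := rfl
theorem c20_0 : allRange (fun i => Nat.beq (act20 i) i) 0 2857 = true := by decide +kernel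
theorem c20_1 : allRange (fun i => Nat.beq (act20 i) i) 2857 2857 = true := by decide +kernel
theorem c20_2 : allRange (fun i => Nat.beq (act20 i) i) 5714 2857 = true := by decide +kernel
theorem c20_3 : allRange (fun i => Nat.beq (act20 i) i) 8571 2629 = true := by decide +kernel
theorem h20 : ∀ i, i < T.N → Tab.relActOK T D chk20 i = true := by
  intro i hi
  rw [Tab.relActOK, ← act20_eq]
  exact (range_glue (range_of_allRange c20_0) (range_glue (range_of_allRange c20_1) (range_glue (range_of_allRange c20_2) (range_of_allRange c20_3)))) i (Nat.zero_le _) hi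

def chk21 : List Nat := [4, 0, 2, 2, 0, 4, 0, 2, 2, 0, 2, 2, 5, 1, 3, 3, 1, 5, 1, 3, 3, 1, 3, 3]
noncomputable def act21 (i : Nat) : Nat := col5 (col1 (col3 (col3 (col1 (col5 (col1 (col3 (col3 (col1 (col3 (col3 (col4 (col0 (col2 (col2 (col0 (col4 (col0 (col2 (col2 (col0 (col2 (col2 (i))))))))))))))))))))))))
theorem act21_eq (i : Nat) : act21 i = Tab.act T D chk21 i := rfl
theorem c21_0 : allRange (fun i => Nat.beq (act21 i) i) 0 2307 = true := by decide +kernel
theorem c21_1 : allRange (fun i => Nat.beq (act21 i) i) 2307 2307 = true := by decide +kernel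
theorem c21_2 : allRange (fun i => Nat.beq (act21 i) i) 4614 2307 = true := by decide +kernel
theorem c21_3 : allRange (fun i => Nat.beq (act21 i) i) 6921 2307 = true := by decide +kernel
theorem c21_4 : allRange (fun i => Nat.beq (act21 i) i) 9228 1972 = true := by decide +kernel
theorem h21 : ∀ i, i < T.N → Tab.relActOK T D chk21 i = true := by
  intro i hi
  rw [Tab.relActOK, ← act21_eq]
  exact (range_glue (range_of_allRange c21_0) (range_glue (range_of_allRange c21_1) (range_glue (range_of_allRange c21_2) (range_glue (range_of_allRange c21_3) (range_of_allRange c21_4))))) i (Nat.zero_le _) hi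

def chk22 : List Nat := [0, 2, 2, 0, 2, 2, 0, 2, 2, 0, 2, 2, 0, 2, 2, 0, 2, 2]
noncomputable def act22 (i : Nat) : Nat := col1 (col3 (col3 (col1 (col3 (col3 (col1 (col3 (col3 (col1 (col3 (col3 (col1 (col3 (col3 (col1 (col3 (col3 (i))))))))))))))))))
theorem act22_eq (i : Nat) : act22 i = Tab.act T D chk22 i := rfl
theorem c22_0 : allRange (fun i => Nat.beq (act22 i) i) 0 3000 = true := by decide +kernel
theorem c22_1 : allRange (fun i => Nat.beq (act22 i) i) 3000 3000 = true := by decide +kernel
theorem c22_2 : allRange (fun i => Nat.beq (act22 i) i) 6000 3000 = true := by decide +kernel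
theorem c22_3 : allRange (fun i => Nat.beq (act22 i) i) 9000 2200 = true := by decide +kernel
theorem h22 : ∀ i, i < T.N → Tab.relActOK T D chk22 i = true := by
  intro i hi
  rw [Tab.relActOK, ← act22_eq]
  exact (range_glue (range_of_allRange c22_0) (range_glue (range_of_allRange c22_1) (range_glue (range_of_allRange c22_2) (range_of_allRange c22_3)))) i (Nat.zero_le _) hi

def chk23 : List Nat := [2, 2, 0, 2, 2, 0, 2, 2, 0, 2, 2, 0, 2, 2, 0, 2, 2, 0]
noncomputable def act23 (i : Nat) : Nat := col3 (col3 (col1 (col3 (col3 (col1 (col3 (col3 (col1 (col3 (col3 (col1 (col3 (col3 (col1 (col3 (col3 (col1 (i))))))))))))))))))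
theorem act23_eq (i : Nat) : act23 i = Tab.act T D chk23 i := rfl
theorem c23_0 : allRange (fun i => Nat.beq (act23 i) i) 0 3000 = true := by decide +kernel
theorem c23_1 : allRange (fun i => Nat.beq (act23 i) i) 3000 3000 = true := by decide +kernel
theorem c23_2 : allRange (fun i => Nat.beq (act23 i) i) 6000 3000 = true := by decide +kernel
theorem c23_3 : allRange (fun i => Nat.beq (act23 i) i) 9000 2200 = true := by decide +kernel
theorem h23 : ∀ i, i < T.N → Tab.relActOK T D chk23 i = true := by
  intro i hi
  rw [Tab.relActOK, ← act23_eq]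
  exact (range_glue (range_of_allRange c23_0) (range_glue (range_of_allRange c23_1) (range_glue (range_of_allRange c23_2) (range_of_allRange c23_3)))) i (Nat.zero_le _) hi

def chk24 : List Nat := [4, 0, 4, 2, 0, 2, 2, 0, 2, 0, 2, 2, 5, 1, 5, 1, 3, 1, 3, 3, 1, 3, 1, 3, 1, 3, 1, 3, 1, 2, 1, 3, 1, 3]
noncomputable def act24 (i : Nat) : Nat := col5 (col1 (col5 (col3 (col1 (col3 (col3 (col1 (col3 (col1 (col3 (col3 (col4 (col0 (col4 (col0 (col2 (col0 (col2 (col2 (col0 (col2 (col0 (col2 (col0 (col2 (col0 (col2 (col0 (col3 (col0 (col2 (col0 (col2 (i))))))))))))))))))))))))))))))))))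
theorem act24_eq (i : Nat) : act24 i = Tab.act T D chk24 i := rfl
theorem c24_0 : allRange (fun i => Nat.beq (act24 i) i) 0 1666 = true := by decide +kernel
theorem c24_1 : allRange (fun i => Nat.beq (act24 i) i) 1666 1666 = true := by decide +kernel
theorem c24_2 : allRange (fun i => Nat.beq (act24 i) i) 3332 1666 = true := by decide +kernel
theorem c24_3 : allRange (fun i => Nat.beq (act24 i) i) 4998 1666 = true := by decide +kernel
theorem c24_4 : allRange (fun i => Nat.beq (act24 i) i) 6664 1666 = true := by decide +kernel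
theorem c24_5 : allRange (fun i => Nat.beq (act24 i) i) 8330 1666 = true := by decide +kernel
theorem c24_6 : allRange (fun i => Nat.beq (act24 i) i) 9996 1204 = true := by decide +kernel
theorem h24 : ∀ i, i < T.N → Tab.relActOK T D chk24 i = true := by
  intro i hi
  rw [Tab.relActOK, ← act24_eq]
  exact (range_glue (range_of_allRange c24_0) (range_glue (range_of_allRange c24_1) (range_glue (range_of_allRange c24_2) (range_glue (range_of_allRange c24_3) (range_glue (range_of_allRange c24_4) (range_glue (range_of_allRange c24_5) (range_of_allRange c24_6))))))) i (Nat.zero_le _) hi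

def chk25 : List Nat := [2, 0, 2, 2, 0, 2, 0, 2, 2, 2, 0, 2, 2, 0, 2, 0, 2, 2, 2, 0, 2, 2, 0, 2, 0, 2, 2]
noncomputable def act25 (i : Nat) : Nat := col3 (col1 (col3 (col3 (col1 (col3 (col1 (col3 (col3 (col3 (col1 (col3 (col3 (col1 (col3 (col1 (col3 (col3 (col3 (col1 (col3 (col3 (col1 (col3 (col1 (col3 (col3 (i)))))))))))))))))))))))))))
theorem act25_eq (i : Nat) : act25 i = Tab.act T D chk25 i := rfl
theorem c25_0 : allRange (fun i => Nat.beq (act25 i) i) 0 2068 = true := by decide +kernel
theorem c25_1 : allRange (fun i => Nat.beq (act25 i) i) 2068 2068 = true := by decide +kernel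
theorem c25_2 : allRange (fun i => Nat.beq (act25 i) i) 4136 2068 = true := by decide +kernel
theorem c25_3 : allRange (fun i => Nat.beq (act25 i) i) 6204 2068 = true := by decide +kernel
theorem c25_4 : allRange (fun i => Nat.beq (act25 i) i) 8272 2068 = true := by decide +kernel
theorem c25_5 : allRange (fun i => Nat.beq (act25 i) i) 10340 860 = true := by decide +kernel
theorem h25 : ∀ i, i < T.N → Tab.relActOK T D chk25 i = true := by
  intro i hi
  rw [Tab.relActOK, ← act25_eq]
  exact (range_glue (range_of_allRange c25_0) (range_glue (range_of_allRange c25_1) (range_glue (range_of_allRange c25_2) (range_glue (range_of_allRange c25_3) (range_glue (range_of_allRange c25_4) (range_of_allRange c25_5)))))) i (Nat.zero_le _) hi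

def chk26 : List Nat := [2, 0, 2, 0, 3, 0, 2, 0, 2, 0, 2, 0, 2, 0, 2, 2, 0, 2, 0, 2, 0, 2, 0, 3, 0, 2, 0, 2, 0, 2, 0, 2, 0, 2, 2, 0, 2, 0, 2, 0, 2, 0, 3, 0, 2, 0, 2, 0, 2, 0, 2, 0, 2, 2, 0, 2, 0]
noncomputable def act26 (i : Nat) : Nat := col3 (col1 (col3 (col1 (col2 (col1 (col3 (col1 (col3 (col1 (col3 (col1 (col3 (col1 (col3 (col3 (col1 (col3 (col1 (col3 (col1 (col3 (col1 (col2 (col1 (col3 (col1 (col3 (col1 (col3 (col1 (col3 (col1 (col3 (col3 (col1 (col3 (col1 (col3 (col1 (col3 (col1 (col2 (col1 (col3 (col1 (col3 (col1 (col3 (col1 (col3 (col1 (col3 (col3 (col1 (col3 (col1 (i)))))))))))))))))))))))))))))))))))))))))))))))))))))))))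
theorem act26_eq (i : Nat) : act26 i = Tab.act T D chk26 i := rfl
theorem c26_0 : allRange (fun i => Nat.beq (act26 i) i) 0 1016 = true := by decide +kernel
theorem c26_1 : allRange (fun i => Nat.beq (act26 i) i) 1016 1016 = true := by decide +kernel
theorem c26_2 : allRange (fun i => Nat.beq (act26 i) i) 2032 1016 = true := by decide +kernel
theorem c26_3 : allRange (fun i => Nat.beq (act26 i) i) 3048 1016 = true := by decide +kernel
theorem c26_4 : allRange (fun i => Nat.beq (act26 i) i) 4064 1016 = true := by decide +kernel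
theorem c26_5 : allRange (fun i => Nat.beq (act26 i) i) 5080 1016 = true := by decide +kernel
theorem c26_6 : allRange (fun i => Nat.beq (act26 i) i) 6096 1016 = true := by decide +kernel
theorem c26_7 : allRange (fun i => Nat.beq (act26 i) i) 7112 1016 = true := by decide +kernel
theorem c26_8 : allRange (fun i => Nat.beq (act26 i) i) 8128 1016 = true := by decide +kernel
theorem c26_9 : allRange (fun i => Nat.beq (act26 i) i) 9144 1016 = true := by decide +kernel
theorem c26_10 : allRange (fun i => Nat.beq (act26 i) i) 10160 1016 = true := by decide +kernel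
theorem c26_11 : allRange (fun i => Nat.beq (act26 i) i) 11176 24 = true := by decide +kernel
theorem h26 : ∀ i, i < T.N → Tab.relActOK T D chk26 i = true := by
  intro i hi
  rw [Tab.relActOK, ← act26_eq]
  exact (range_glue (range_of_allRange c26_0) (range_glue (range_of_allRange c26_1) (range_glue (range_of_allRange c26_2) (range_glue (range_of_allRange c26_3) (range_glue (range_of_allRange c26_4) (range_glue (range_of_allRange c26_5) (range_glue (range_of_allRange c26_6) (range_glue (range_of_allRange c26_7) (range_glue (range_of_allRange c26_8) (range_glue (range_of_allRange c26_9) (range_glue (range_of_allRange c26_10) (range_of_allRange c26_11)))))))))))) i (Nat.zero_le _) hi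

def chk27 : List Nat := [4, 0, 4, 0, 2, 2, 0, 2, 2, 0, 3, 0, 3, 0, 3, 5, 1, 5, 1, 3, 3, 1, 3, 3, 1, 2, 1, 2, 1, 3, 3, 1, 2, 1, 2]
noncomputable def act27 (i : Nat) : Nat := col5 (col1 (col5 (col1 (col3 (col3 (col1 (col3 (col3 (col1 (col2 (col1 (col2 (col1 (col2 (col4 (col0 (col4 (col0 (col2 (col2 (col0 (col2 (col2 (col0 (col3 (col0 (col3 (col0 (col2 (col2 (col0 (col3 (col0 (col3 (i)))))))))))))))))))))))))))))))))))
theorem act27_eq (i : Nat) : act27 i = Tab.act T D chk27 i := rfl
theorem c27_0 : allRange (fun i => Nat.beq (act27 i) i) 0 1621 = true := by decide +kernel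
theorem c27_1 : allRange (fun i => Nat.beq (act27 i) i) 1621 1621 = true := by decide +kernel
theorem c27_2 : allRange (fun i => Nat.beq (act27 i) i) 3242 1621 = true := by decide +kernel
theorem c27_3 : allRange (fun i => Nat.beq (act27 i) i) 4863 1621 = true := by decide +kernel
theorem c27_4 : allRange (fun i => Nat.beq (act27 i) i) 6484 1621 = true := by decide +kernel
theorem c27_5 : allRange (fun i => Nat.beq (act27 i) i) 8105 1621 = true := by decide +kernel
theorem c27_6 : allRange (fun i => Nat.beq (act27 i) i) 9726 1474 = true := by decide +kernel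
theorem h27 : ∀ i, i < T.N → Tab.relActOK T D chk27 i = true := by
  intro i hi
  rw [Tab.relActOK, ← act27_eq]
  exact (range_glue (range_of_allRange c27_0) (range_glue (range_of_allRange c27_1) (range_glue (range_of_allRange c27_2) (range_glue (range_of_allRange c27_3) (range_glue (range_of_allRange c27_4) (range_glue (range_of_allRange c27_5) (range_of_allRange c27_6))))))) i (Nat.zero_le _) hi

def chk28 : List Nat := [0, 2, 2, 0, 2, 2, 0, 3, 0, 3, 0, 3, 0, 2, 2, 0, 2, 2, 0, 3, 0, 3, 0, 3, 0, 2, 2, 0, 2, 2, 0, 3, 0, 3, 0, 3, 0, 2, 2, 0, 2, 2, 0, 3, 0, 3, 0, 3, 0, 2, 2, 0, 2, 2, 0, 3, 0, 3, 0, 3]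
noncomputable def act28 (i : Nat) : Nat := col1 (col3 (col3 (col1 (col3 (col3 (col1 (col2 (col1 (col2 (col1 (col2 (col1 (col3 (col3 (col1 (col3 (col3 (col1 (col2 (col1 (col2 (col1 (col2 (col1 (col3 (col3 (col1 (col3 (col3 (col1 (col2 (col1 (col2 (col1 (col2 (col1 (col3 (col3 (col1 (col3 (col3 (col1 (col2 (col1 (col2 (col1 (col2 (col1 (col3 (col3 (col1 (col3 (col3 (col1 (col2 (col1 (col2 (col1 (col2 (i))))))))))))))))))))))))))))))))))))))))))))))))))))))))))))
theorem act28_eq (i : Nat) : act28 i = Tab.act T D chk28 i := rfl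
theorem c28_0 : allRange (fun i => Nat.beq (act28 i) i) 0 967 = true := by decide +kernel
theorem c28_1 : allRange (fun i => Nat.beq (act28 i) i) 967 967 = true := by decide +kernel
theorem c28_2 : allRange (fun i => Nat.beq (act28 i) i) 1934 967 = true := by decide +kernel
theorem c28_3 : allRange (fun i => Nat.beq (act28 i) i) 2901 967 = true := by decide +kernel
theorem c28_4 : allRange (fun i => Nat.beq (act28 i) i) 3868 967 = true := by decide +kernel
theorem c28_5 : allRange (fun i => Nat.beq (act28 i) i) 4835 967 = true := by decide +kernel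
theorem c28_6 : allRange (fun i => Nat.beq (act28 i) i) 5802 967 = true := by decide +kernel
theorem c28_7 : allRange (fun i => Nat.beq (act28 i) i) 6769 967 = true := by decide +kernel
theorem c28_8 : allRange (fun i => Nat.beq (act28 i) i) 7736 967 = true := by decide +kernel
theorem c28_9 : allRange (fun i => Nat.beq (act28 i) i) 8703 967 = true := by decide +kernel
theorem c28_10 : allRange (fun i => Nat.beq (act28 i) i) 9670 967 = true := by decide +kernel
theorem c28_11 : allRange (fun i => Nat.beq (act28 i) i) 10637 563 = true := by decide +kernel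
theorem h28 : ∀ i, i < T.N → Tab.relActOK T D chk28 i = true := by
  intro i hi
  rw [Tab.relActOK, ← act28_eq]
  exact (range_glue (range_of_allRange c28_0) (range_glue (range_of_allRange c28_1) (range_glue (range_of_allRange c28_2) (range_glue (range_of_allRange c28_3) (range_glue (range_of_allRange c28_4) (range_glue (range_of_allRange c28_5) (range_glue (range_of_allRange c28_6) (range_glue (range_of_allRange c28_7) (range_glue (range_of_allRange c28_8) (range_glue (range_of_allRange c28_9) (range_glue (range_of_allRange c28_10) (range_of_allRange c28_11)))))))))))) i (Nat.zero_le _) hi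

def chk29 : List Nat := [3, 0, 3, 0, 2, 2, 0, 3, 0, 3, 0, 2, 2, 0, 2, 2, 0, 3, 0, 3, 0, 2, 2, 0, 3, 0, 3, 0, 2, 2, 0, 2, 2, 0, 3, 0, 3, 0, 2, 2, 0, 3, 0, 3, 0, 2, 2, 0, 2, 2, 0, 3, 0, 3, 0, 2, 2, 0, 3, 0, 3, 0, 2, 2, 0, 2, 2, 0, 3, 0, 3, 0, 2, 2, 0, 3, 0, 3, 0, 2, 2, 0, 2, 2, 0]
noncomputable def act29 (i : Nat) : Nat := col2 (col1 (col2 (col1 (col3 (col3 (col1 (col2 (col1 (col2 (col1 (col3 (col3 (col1 (col3 (col3 (col1 (col2 (col1 (col2 (col1 (col3 (col3 (col1 (col2 (col1 (col2 (col1 (col3 (col3 (col1 (col3 (col3 (col1 (col2 (col1 (col2 (col1 (col3 (col3 (col1 (col2 (col1 (col2 (col1 (col3 (col3 (col1 (col3 (col3 (col1 (col2 (col1 (col2 (col1 (col3 (col3 (col1 (col2 (col1 (col2 (col1 (col3 (col3 (col1 (col3 (col3 (col1 (col2 (col1 (col2 (col1 (col3 (col3 (col1 (col2 (col1 (col2 (col1 (col3 (col3 (col1 (col3 (col3 (col1 (i)))))))))))))))))))))))))))))))))))))))))))))))))))))))))))))))))))))))))))))))))))))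
theorem act29_eq (i : Nat) : act29 i = Tab.act T D chk29 i := rfl
theorem c29_0 : allRange (fun i => Nat.beq (act29 i) i) 0 689 = true := by decide +kernel
theorem c29_1 : allRange (fun i => Nat.beq (act29 i) i) 689 689 = true := by decide +kernel
theorem c29_2 : allRange (fun i => Nat.beq (act29 i) i) 1378 689 = true := by decide +kernel
theorem c29_3 : allRange (fun i => Nat.beq (act29 i) i) 2067 689 = true := by decide +kernel
theorem c29_4 : allRange (fun i => Nat.beq (act29 i) i) 2756 689 = true := by decide +kernel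
theorem c29_5 : allRange (fun i => Nat.beq (act29 i) i) 3445 689 = true := by decide +kernel
theorem c29_6 : allRange (fun i => Nat.beq (act29 i) i) 4134 689 = true := by decide +kernel
theorem c29_7 : allRange (fun i => Nat.beq (act29 i) i) 4823 689 = true := by decide +kernel
theorem c29_8 : allRange (fun i => Nat.beq (act29 i) i) 5512 689 = true := by decide +kernel
theorem c29_9 : allRange (fun i => Nat.beq (act29 i) i) 6201 689 = true := by decide +kernel
theorem c29_10 : allRange (fun i => Nat.beq (act29 i) i) 6890 689 = true := by decide +kernel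
theorem c29_11 : allRange (fun i => Nat.beq (act29 i) i) 7579 689 = true := by decide +kernel
theorem c29_12 : allRange (fun i => Nat.beq (act29 i) i) 8268 689 = true := by decide +kernel
theorem c29_13 : allRange (fun i => Nat.beq (act29 i) i) 8957 689 = true := by decide +kernel
theorem c29_14 : allRange (fun i => Nat.beq (act29 i) i) 9646 689 = true := by decide +kernel
theorem c29_15 : allRange (fun i => Nat.beq (act29 i) i) 10335 689 = true := by decide +kernel
theorem c29_16 : allRange (fun i => Nat.beq (act29 i) i) 11024 176 = true := by decide +kernel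
theorem h29 : ∀ i, i < T.N → Tab.relActOK T D chk29 i = true := by
  intro i hi
  rw [Tab.relActOK, ← act29_eq]
  exact (range_glue (range_of_allRange c29_0) (range_glue (range_of_allRange c29_1) (range_glue (range_of_allRange c29_2) (range_glue (range_of_allRange c29_3) (range_glue (range_of_allRange c29_4) (range_glue (range_of_allRange c29_5) (range_glue (range_of_allRange c29_6) (range_glue (range_of_allRange c29_7) (range_glue (range_of_allRange c29_8) (range_glue (range_of_allRange c29_9) (range_glue (range_of_allRange c29_10) (range_glue (range_of_allRange c29_11) (range_glue (range_of_allRange c29_12) (range_glue (range_of_allRange c29_13) (range_glue (range_of_allRange c29_14) (range_glue (range_of_allRange c29_15) (range_of_allRange c29_16))))))))))))))))) i (Nat.zero_le _) hi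

def chk30 : List Nat := [4, 0, 4, 2, 0, 2, 0, 2, 2, 0, 2, 0, 3, 0, 2, 5, 1, 5, 1, 3, 3, 1, 3, 1, 3, 3, 1, 2, 1, 3, 3, 1, 2, 1, 2, 1]
noncomputable def act30 (i : Nat) : Nat := col5 (col1 (col5 (col3 (col1 (col3 (col1 (col3 (col3 (col1 (col3 (col1 (col2 (col1 (col3 (col4 (col0 (col4 (col0 (col2 (col2 (col0 (col2 (col0 (col2 (col2 (col0 (col3 (col0 (col2 (col2 (col0 (col3 (col0 (col3 (col0 (i))))))))))))))))))))))))))))))))))))
theorem act30_eq (i : Nat) : act30 i = Tab.act T D chk30 i := rfl
theorem c30_0 : allRange (fun i => Nat.beq (act30 i) i) 0 1578 = true := by decide +kernel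
theorem c30_1 : allRange (fun i => Nat.beq (act30 i) i) 1578 1578 = true := by decide +kernel
theorem c30_2 : allRange (fun i => Nat.beq (act30 i) i) 3156 1578 = true := by decide +kernel
theorem c30_3 : allRange (fun i => Nat.beq (act30 i) i) 4734 1578 = true := by decide +kernel
theorem c30_4 : allRange (fun i => Nat.beq (act30 i) i) 6312 1578 = true := by decide +kernel
theorem c30_5 : allRange (fun i => Nat.beq (act30 i) i) 7890 1578 = true := by decide +kernel
theorem c30_6 : allRange (fun i => Nat.beq (act30 i) i) 9468 1578 = true := by decide +kernel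
theorem c30_7 : allRange (fun i => Nat.beq (act30 i) i) 11046 154 = true := by decide +kernel
theorem h30 : ∀ i, i < T.N → Tab.relActOK T D chk30 i = true := by
  intro i hi
  rw [Tab.relActOK, ← act30_eq]
  exact (range_glue (range_of_allRange c30_0) (range_glue (range_of_allRange c30_1) (range_glue (range_of_allRange c30_2) (range_glue (range_of_allRange c30_3) (range_glue (range_of_allRange c30_4) (range_glue (range_of_allRange c30_5) (range_glue (range_of_allRange c30_6) (range_of_allRange c30_7)))))))) i (Nat.zero_le _) hi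

def chk31 : List Nat := [2, 0, 2, 0, 2, 2, 0, 2, 0, 3, 0, 2, 2, 0, 2, 0, 2, 2, 0, 2, 0, 3, 0, 2, 2, 0, 2, 0, 2, 2, 0, 2, 0, 3, 0, 2, 2, 0, 2, 0, 2, 2, 0, 2, 0, 3, 0, 2, 2, 0, 2, 0, 2, 2, 0, 2, 0, 3, 0, 2]
noncomputable def act31 (i : Nat) : Nat := col3 (col1 (col3 (col1 (col3 (col3 (col1 (col3 (col1 (col2 (col1 (col3 (col3 (col1 (col3 (col1 (col3 (col3 (col1 (col3 (col1 (col2 (col1 (col3 (col3 (col1 (col3 (col1 (col3 (col3 (col1 (col3 (col1 (col2 (col1 (col3 (col3 (col1 (col3 (col1 (col3 (col3 (col1 (col3 (col1 (col2 (col1 (col3 (col3 (col1 (col3 (col1 (col3 (col3 (col1 (col3 (col1 (col2 (col1 (col3 (i))))))))))))))))))))))))))))))))))))))))))))))))))))))))))))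
theorem act31_eq (i : Nat) : act31 i = Tab.act T D chk31 i := rfl
theorem c31_0 : allRange (fun i => Nat.beq (act31 i) i) 0 967 = true := by decide +kernel
theorem c31_1 : allRange (fun i => Nat.beq (act31 i) i) 967 967 = true := by decide +kernel
theorem c31_2 : allRange (fun i => Nat.beq (act31 i) i) 1934 967 = true := by decide +kernel
theorem c31_3 : allRange (fun i => Nat.beq (act31 i) i) 2901 967 = true := by decide +kernel
theorem c31_4 : allRange (fun i => Nat.beq (act31 i) i) 3868 967 = true := by decide +kernel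
theorem c31_5 : allRange (fun i => Nat.beq (act31 i) i) 4835 967 = true := by decide +kernel
theorem c31_6 : allRange (fun i => Nat.beq (act31 i) i) 5802 967 = true := by decide +kernel
theorem c31_7 : allRange (fun i => Nat.beq (act31 i) i) 6769 967 = true := by decide +kernel
theorem c31_8 : allRange (fun i => Nat.beq (act31 i) i) 7736 967 = true := by decide +kernel
theorem c31_9 : allRange (fun i => Nat.beq (act31 i) i) 8703 967 = true := by decide +kernel
theorem c31_10 : allRange (fun i => Nat.beq (act31 i) i) 9670 967 = true := by decide +kernel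
theorem c31_11 : allRange (fun i => Nat.beq (act31 i) i) 10637 563 = true := by decide +kernel
theorem h31 : ∀ i, i < T.N → Tab.relActOK T D chk31 i = true := by
  intro i hi
  rw [Tab.relActOK, ← act31_eq]
  exact (range_glue (range_of_allRange c31_0) (range_glue (range_of_allRange c31_1) (range_glue (range_of_allRange c31_2) (range_glue (range_of_allRange c31_3) (range_glue (range_of_allRange c31_4) (range_glue (range_of_allRange c31_5) (range_glue (range_of_allRange c31_6) (range_glue (range_of_allRange c31_7) (range_glue (range_of_allRange c31_8) (range_glue (range_of_allRange c31_9) (range_glue (range_of_allRange c31_10) (range_of_allRange c31_11)))))))))))) i (Nat.zero_le _) hi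

def chk32 : List Nat := [0, 3, 0, 3, 0, 2, 2, 0, 3, 0, 2, 2, 0, 2, 0, 2, 2, 0, 0, 3, 0, 3, 0, 2, 2, 0, 3, 0, 2, 2, 0, 2, 0, 2, 2, 0, 0, 3, 0, 3, 0, 2, 2, 0, 3, 0, 2, 2, 0, 2, 0, 2, 2, 0, 0, 3, 0, 3, 0, 2, 2, 0, 3, 0, 2, 2, 0, 2, 0, 2, 2, 0, 0, 3, 0, 3, 0, 2, 2, 0, 3, 0, 2, 2, 0, 2, 0, 2, 2, 0]
noncomputable def act32 (i : Nat) : Nat := col1 (col2 (col1 (col2 (col1 (col3 (col3 (col1 (col2 (col1 (col3 (col3 (col1 (col3 (col1 (col3 (col3 (col1 (col1 (col2 (col1 (col2 (col1 (col3 (col3 (col1 (col2 (col1 (col3 (col3 (col1 (col3 (col1 (col3 (col3 (col1 (col1 (col2 (col1 (col2 (col1 (col3 (col3 (col1 (col2 (col1 (col3 (col3 (col1 (col3 (col1 (col3 (col3 (col1 (col1 (col2 (col1 (col2 (col1 (col3 (col3 (col1 (col2 (col1 (col3 (col3 (col1 (col3 (col1 (col3 (col3 (col1 (col1 (col2 (col1 (col2 (col1 (col3 (col3 (col1 (col2 (col1 (col3 (col3 (col1 (col3 (col1 (col3 (col3 (col1 (i))))))))))))))))))))))))))))))))))))))))))))))))))))))))))))))))))))))))))))))))))))))))))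
theorem act32_eq (i : Nat) : act32 i = Tab.act T D chk32 i := rfl
theorem c32_0 : allRange (fun i => Nat.beq (act32 i) i) 0 652 = true := by decide +kernel
theorem c32_1 : allRange (fun i => Nat.beq (act32 i) i) 652 652 = true := by decide +kernel
theorem c32_2 : allRange (fun i => Nat.beq (act32 i) i) 1304 652 = true := by decide +kernel
theorem c32_3 : allRange (fun i => Nat.beq (act32 i) i) 1956 652 = true := by decide +kernel
theorem c32_4 : allRange (fun i => Nat.beq (act32 i) i) 2608 652 = true := by decide +kernel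
theorem c32_5 : allRange (fun i => Nat.beq (act32 i) i) 3260 652 = true := by decide +kernel
theorem c32_6 : allRange (fun i => Nat.beq (act32 i) i) 3912 652 = true := by decide +kernel
theorem c32_7 : allRange (fun i => Nat.beq (act32 i) i) 4564 652 = true := by decide +kernel
theorem c32_8 : allRange (fun i => Nat.beq (act32 i) i) 5216 652 = true := by decide +kernel
theorem c32_9 : allRange (fun i => Nat.beq (act32 i) i) 5868 652 = true := by decide +kernel
theorem c32_10 : allRange (fun i => Nat.beq (act32 i) i) 6520 652 = true := by decide +kernel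
theorem c32_11 : allRange (fun i => Nat.beq (act32 i) i) 7172 652 = true := by decide +kernel
theorem c32_12 : allRange (fun i => Nat.beq (act32 i) i) 7824 652 = true := by decide +kernel
theorem c32_13 : allRange (fun i => Nat.beq (act32 i) i) 8476 652 = true := by decide +kernel
theorem c32_14 : allRange (fun i => Nat.beq (act32 i) i) 9128 652 = true := by decide +kernel
theorem c32_15 : allRange (fun i => Nat.beq (act32 i) i) 9780 652 = true := by decide +kernel
theorem c32_16 : allRange (fun i => Nat.beq (act32 i) i) 10432 652 = true := by decide +kernel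
theorem c32_17 : allRange (fun i => Nat.beq (act32 i) i) 11084 116 = true := by decide +kernel
theorem h32 : ∀ i, i < T.N → Tab.relActOK T D chk32 i = true := by
  intro i hi
  rw [Tab.relActOK, ← act32_eq]
  exact (range_glue (range_of_allRange c32_0) (range_glue (range_of_allRange c32_1) (range_glue (range_of_allRange c32_2) (range_glue (range_of_allRange c32_3) (range_glue (range_of_allRange c32_4) (range_glue (range_of_allRange c32_5) (range_glue (range_of_allRange c32_6) (range_glue (range_of_allRange c32_7) (range_glue (range_of_allRange c32_8) (range_glue (range_of_allRange c32_9) (range_glue (range_of_allRange c32_10) (range_glue (range_of_allRange c32_11) (range_glue (range_of_allRange c32_12) (range_glue (range_of_allRange c32_13) (range_glue (range_of_allRange c32_14) (range_glue (range_of_allRange c32_15) (range_glue (range_of_allRange c32_16) (range_of_allRange c32_17)))))))))))))))))) i (Nat.zero_le _) hi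

def chkAll : List (List Nat) := [chk0, chk1, chk2, chk3, chk4, chk5, chk6, chk7, chk8, chk9, chk10, chk11, chk12, chk13, chk14, chk15, chk16, chk17, chk18, chk19, chk20, chk21, chk22, chk23, chk24, chk25, chk26, chk27, chk28, chk29, chk30, chk31, chk32]
theorem hAll : ∀ w ∈ chkAll, ∀ i, i < T.N → Tab.relActOK T D w i = true := by
  intro w hw
  simp only [chkAll, List.mem_cons, List.not_mem_nil, or_false] at hw
  rcases hw with rfl | rfl | rfl | rfl | rfl | rfl | rfl | rfl | rfl | rfl | rfl | rfl | rfl | rfl | rfl | rfl | rfl | rfl | rfl | rfl | rfl | rfl | rfl | rfl | rfl | rfl | rfl | rfl | rfl | rfl | rfl | rfl | rfl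
  · exact h0
  · exact h1
  · exact h2
  · exact h3
  · exact h4
  · exact h5
  · exact h6
  · exact h7
  · exact h8
  · exact h9
  · exact h10
  · exact h11
  · exact h12
  · exact h13
  · exact h14
  · exact h15
  · exact h16
  · exact h17
  · exact h18
  · exact h19
  · exact h20
  · exact h21
  · exact h22
  · exact h23
  · exact h24
  · exact h25
  · exact h26
  · exact h27
  · exact h28
  · exact h29
  · exact h30
  · exact h31
  · exact h32
theorem hAll_lt : ∀ w ∈ chkAll, ∀ x ∈ w, x < 8 := by decide +kernel

end Cfsg.Agent.Lib.Helper4.TCD.SC2HSp2W
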