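import Cfsg.Agent.Lib.Helper4.TCD_SC2HSp3A_Acc

namespace Cfsg.Agent.Lib.Helper4.TCD.SC2HSp3A

open Cfsg.Agent.Lib.Helper4.TC

set_option maxRecDepth 100000
set_option Elab.async false

theorem c_rel_77 : allRange D.relOK 411059 3448 = true := by decide +kernel
theorem c_rel_78 : allRange D.relOK 414507 3262 = true := by decide +kernel
theorem c_rel_79 : allRange D.relOK 417769 3274 = true := by decide +kernel
theorem c_rel_80 : allRange D.relOK 421043 3237 = true := by decide +kernel
theorem c_rel_81 : allRange D.relOK 424280 3249 = true := by decide +kernel
theorem c_rel_82 : allRange D.relOK 427529 3340 = true := by decide +kernel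
theorem c_rel_83 : allRange D.relOK 430869 3294 = true := by decide +kernel
theorem c_rel_84 : allRange D.relOK 434163 3319 = true := by decide +kernel
theorem c_rel_85 : allRange D.relOK 437482 3316 = true := by decide +kernel
theorem c_rel_86 : allRange D.relOK 440798 3299 = true := by decide +kernel
theorem c_rel_87 : allRange D.relOK 444097 3270 = true := by decide +kernel
theorem c_rel_88 : allRange D.relOK 447367 3364 = true := by decide +kernel
theorem c_rel_89 : allRange D.relOK 450731 3240 = true := by decide +kernel
theorem c_rel_90 : allRange D.relOK 453971 3223 = true := by decide +kernel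
theorem c_rel_91 : allRange D.relOK 457194 3286 = true := by decide +kernel
theorem c_rel_92 : allRange D.relOK 460480 3258 = true := by decide +kernel
theorem c_rel_93 : allRange D.relOK 463738 3255 = true := by decide +kernel
theorem c_rel_94 : allRange D.relOK 466993 3227 = true := by decide +kernel
theorem c_rel_95 : allRange D.relOK 470220 3061 = true := by decide +kernel
theorem c_rel_96 : allRange D.relOK 473281 2879 = true := by decide +kernel
theorem c_rel_97 : allRange D.relOK 476160 2778 = true := by decide +kernel
theorem c_rel_98 : allRange D.relOK 478938 2910 = true := by decide +kernel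
theorem c_rel_99 : allRange D.relOK 481848 2870 = true := by decide +kernel
theorem c_rel_100 : allRange D.relOK 484718 2945 = true := by decide +kernel
theorem c_rel_101 : allRange D.relOK 487663 2856 = true := by decide +kernel
theorem c_rel_102 : allRange D.relOK 490519 2916 = true := by decide +kernel
theorem c_rel_103 : allRange D.relOK 493435 2818 = true := by decide +kernel
theorem c_rel_104 : allRange D.relOK 496253 2844 = true := by decide +kernel
theorem c_rel_105 : allRange D.relOK 499097 2744 = true := by decide +kernel
theorem c_rel_106 : allRange D.relOK 501841 2858 = true := by decide +kernel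
theorem c_rel_107 : allRange D.relOK 504699 2601 = true := by decide +kernel
theorem c_rel_108 : allRange D.relOK 507300 3683 = true := by decide +kernel
theorem c_rel_109 : allRange D.relOK 510983 3589 = true := by decide +kernel
theorem c_rel_110 : allRange D.relOK 514572 3597 = true := by decide +kernel
theorem c_rel_111 : allRange D.relOK 518169 3521 = true := by decide +kernel
theorem c_rel_112 : allRange D.relOK 521690 3551 = true := by decide +kernel
theorem c_rel_113 : allRange D.relOK 525241 3501 = true := by decide +kernel
theorem c_rel_114 : allRange D.relOK 528742 3447 = true := by decide +kernel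
theorem c_rel_115 : allRange D.relOK 532189 3396 = true := by decide +kernel
theorem c_rel_116 : allRange D.relOK 535585 3372 = true := by decide +kernel
theorem c_rel_117 : allRange D.relOK 538957 3306 = true := by decide +kernel
theorem c_rel_118 : allRange D.relOK 542263 3284 = true := by decide +kernel
theorem c_rel_119 : allRange D.relOK 545547 3267 = true := by decide +kernel
theorem c_rel_120 : allRange D.relOK 548814 3282 = true := by decide +kernel
theorem c_rel_121 : allRange D.relOK 552096 3260 = true := by decide +kernel
theorem c_rel_122 : allRange D.relOK 555356 3249 = true := by decide +kernel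
theorem c_rel_123 : allRange D.relOK 558605 3220 = true := by decide +kernel
theorem c_rel_124 : allRange D.relOK 561825 3217 = true := by decide +kernel
theorem c_rel_125 : allRange D.relOK 565042 3176 = true := by decide +kernel
theorem c_rel_126 : allRange D.relOK 568218 3143 = true := by decide +kernel
theorem c_rel_127 : allRange D.relOK 571361 3145 = true := by decide +kernel
theorem c_rel_128 : allRange D.relOK 574506 3152 = true := by decide +kernel
theorem c_rel_129 : allRange D.relOK 577658 3142 = true := by decide +kernel
theorem c_rel_130 : allRange D.relOK 580800 3108 = true := by decide +kernel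
theorem c_rel_131 : allRange D.relOK 583908 3087 = true := by decide +kernel
theorem c_rel_132 : allRange D.relOK 586995 3071 = true := by decide +kernel
theorem c_rel_133 : allRange D.relOK 590066 3146 = true := by decide +kernel
theorem c_rel_134 : allRange D.relOK 593212 2507 = true := by decide +kernel
theorem c_rel_135 : allRange D.relOK 595719 4863 = true := by decide +kernel
theorem c_rel_136 : allRange D.relOK 600582 4728 = true := by decide +kernel
theorem c_rel_137 : allRange D.relOK 605310 4688 = true := by decide +kernel
theorem c_rel_138 : allRange D.relOK 609998 4621 = true := by decide +kernel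
theorem c_rel_139 : allRange D.relOK 614619 4595 = true := by decide +kernel
theorem c_rel_140 : allRange D.relOK 619214 4595 = true := by decide +kernel
theorem c_rel_141 : allRange D.relOK 623809 4434 = true := by decide +kernel
theorem c_rel_142 : allRange D.relOK 628243 4381 = true := by decide +kernel
theorem c_rel_143 : allRange D.relOK 632624 4434 = true := by decide +kernel
theorem c_rel_144 : allRange D.relOK 637058 4464 = true := by decide +kernel
theorem c_rel_145 : allRange D.relOK 641522 4586 = true := by decide +kernel
theorem c_rel_146 : allRange D.relOK 646108 462 = true := by decide +kernel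
theorem c_fin_0 : allGrid (T.finOK D) 0 428 28 = true := by decide +kernel
theorem c_fin_1 : allGrid (T.finOK D) 428 428 28 = true := by decide +kernel
theorem c_fin_2 : allGrid (T.finOK D) 856 428 28 = true := by decide +kernel
theorem c_fin_3 : allGrid (T.finOK D) 1284 428 28 = true := by decide +kernel
theorem c_fin_4 : allGrid (T.finOK D) 1712 428 28 = true := by decide +kernel
theorem c_fin_5 : allGrid (T.finOK D) 2140 428 28 = true := by decide +kernel
theorem c_fin_6 : allGrid (T.finOK D) 2568 428 28 = true := by decide +kernel
theorem c_fin_7 : allGrid (T.finOK D) 2996 428 28 = true := by decide +kernel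
theorem c_fin_8 : allGrid (T.finOK D) 3424 428 28 = true := by decide +kernel
theorem c_fin_9 : allGrid (T.finOK D) 3852 428 28 = true := by decide +kernel
theorem c_fin_10 : allGrid (T.finOK D) 4280 428 28 = true := by decide +kernel
theorem c_fin_11 : allGrid (T.finOK D) 4708 428 28 = true := by decide +kernel
theorem c_fin_12 : allGrid (T.finOK D) 5136 428 28 = true := by decide +kernel
theorem c_fin_13 : allGrid (T.finOK D) 5564 428 28 = true := by decide +kernel
theorem c_fin_14 : allGrid (T.finOK D) 5992 428 28 = true := by decide +kernel

end Cfsg.Agent.Lib.Helper4.TCD.SC2HSp3A
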