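import Cfsg.Agent.Lib.Helper4.TCD_SC2HSp3A_Acc

namespace Cfsg.Agent.Lib.Helper4.TCD.SC2HSp3A

open Cfsg.Agent.Lib.Helper4.TC

set_option maxRecDepth 100000
set_option Elab.async false

theorem c_act24_0 : allRange (fun i => Nat.beq (actR24 i) i) 0 11200 = true := by decide +kernel
theorem c_act25_0 : allRange (fun i => Nat.beq (actR25 i) i) 0 11200 = true := by decide +kernel
theorem c_act26_0 : allRange (fun i => Nat.beq (actR26 i) i) 0 11200 = true := by decide +kernel
theorem c_act27_0 : allRange (fun i => Nat.beq (actR27 i) i) 0 11200 = true := by decide +kernel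
theorem c_act28_0 : allRange (fun i => Nat.beq (actR28 i) i) 0 11200 = true := by decide +kernel
theorem c_act29_0 : allRange (fun i => Nat.beq (actR29 i) i) 0 11200 = true := by decide +kernel
theorem c_act30_0 : allRange (fun i => Nat.beq (actR30 i) i) 0 11200 = true := by decide +kernel
theorem c_act31_0 : allRange (fun i => Nat.beq (actR31 i) i) 0 11200 = true := by decide +kernel
theorem c_act32_0 : allRange (fun i => Nat.beq (actR32 i) i) 0 11200 = true := by decide +kernel
theorem c_act33_0 : allRange (fun i => Nat.beq (actR33 i) i) 0 11200 = true := by decide +kernel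
theorem c_act34_0 : allRange (fun i => Nat.beq (actR34 i) i) 0 11200 = true := by decide +kernel
theorem c_act35_0 : allRange (fun i => Nat.beq (actR35 i) i) 0 11200 = true := by decide +kernel
theorem c_act36_0 : allRange (fun i => Nat.beq (actR36 i) i) 0 11200 = true := by decide +kernel
theorem c_act37_0 : allRange (fun i => Nat.beq (actR37 i) i) 0 11200 = true := by decide +kernel
theorem c_act38_0 : allRange (fun i => Nat.beq (actR38 i) i) 0 11200 = true := by decide +kernel
theorem c_act39_0 : allRange (fun i => Nat.beq (actR39 i) i) 0 11200 = true := by decide +kernel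
theorem c_act40_0 : allRange (fun i => Nat.beq (actR40 i) i) 0 11200 = true := by decide +kernel
theorem c_act41_0 : allRange (fun i => Nat.beq (actR41 i) i) 0 11200 = true := by decide +kernel
theorem c_act42_0 : allRange (fun i => Nat.beq (actR42 i) i) 0 11200 = true := by decide +kernel
theorem c_act43_0 : allRange (fun i => Nat.beq (actR43 i) i) 0 11200 = true := by decide +kernel
theorem c_act44_0 : allRange (fun i => Nat.beq (actR44 i) i) 0 11200 = true := by decide +kernel
theorem c_act45_0 : allRange (fun i => Nat.beq (actR45 i) i) 0 11200 = true := by decide +kernel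
theorem c_act46_0 : allRange (fun i => Nat.beq (actR46 i) i) 0 11200 = true := by decide +kernel
theorem c_act47_0 : allRange (fun i => Nat.beq (actR47 i) i) 0 11200 = true := by decide +kernel
theorem c_act48_0 : allRange (fun i => Nat.beq (actR48 i) i) 0 11200 = true := by decide +kernel
theorem c_act49_0 : allRange (fun i => Nat.beq (actR49 i) i) 0 11200 = true := by decide +kernel
theorem c_act50_0 : allRange (fun i => Nat.beq (actR50 i) i) 0 11200 = true := by decide +kernel
theorem c_act51_0 : allRange (fun i => Nat.beq (actR51 i) i) 0 11200 = true := by decide +kernel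
theorem c_act52_0 : allRange (fun i => Nat.beq (actR52 i) i) 0 11200 = true := by decide +kernel
theorem c_act53_0 : allRange (fun i => Nat.beq (actR53 i) i) 0 11200 = true := by decide +kernel
theorem c_act54_0 : allRange (fun i => Nat.beq (actR54 i) i) 0 11200 = true := by decide +kernel
theorem c_act55_0 : allRange (fun i => Nat.beq (actR55 i) i) 0 11200 = true := by decide +kernel
theorem c_act56_0 : allRange (fun i => Nat.beq (actR56 i) i) 0 11200 = true := by decide +kernel
theorem c_act57_0 : allRange (fun i => Nat.beq (actR57 i) i) 0 11200 = true := by decide +kernel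
theorem c_act58_0 : allRange (fun i => Nat.beq (actR58 i) i) 0 11200 = true := by decide +kernel
theorem c_act59_0 : allRange (fun i => Nat.beq (actR59 i) i) 0 11200 = true := by decide +kernel
theorem c_act60_0 : allRange (fun i => Nat.beq (actR60 i) i) 0 11200 = true := by decide +kernel
theorem c_act61_0 : allRange (fun i => Nat.beq (actR61 i) i) 0 11200 = true := by decide +kernel
theorem c_act62_0 : allRange (fun i => Nat.beq (actR62 i) i) 0 11200 = true := by decide +kernel
theorem c_act63_0 : allRange (fun i => Nat.beq (actR63 i) i) 0 11200 = true := by decide +kernel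
theorem c_act64_0 : allRange (fun i => Nat.beq (actR64 i) i) 0 11200 = true := by decide +kernel
theorem c_act65_0 : allRange (fun i => Nat.beq (actR65 i) i) 0 11200 = true := by decide +kernel
theorem c_act66_0 : allRange (fun i => Nat.beq (actR66 i) i) 0 2727 = true := by decide +kernel
theorem c_act66_1 : allRange (fun i => Nat.beq (actR66 i) i) 2727 2727 = true := by decide +kernel
theorem c_act66_2 : allRange (fun i => Nat.beq (actR66 i) i) 5454 2727 = true := by decide +kernel
theorem c_act66_3 : allRange (fun i => Nat.beq (actR66 i) i) 8181 2727 = true := by decide +kernel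
theorem c_act66_4 : allRange (fun i => Nat.beq (actR66 i) i) 10908 292 = true := by decide +kernel
theorem c_act67_0 : allRange (fun i => Nat.beq (actR67 i) i) 0 3333 = true := by decide +kernel
theorem c_act67_1 : allRange (fun i => Nat.beq (actR67 i) i) 3333 3333 = true := by decide +kernel
theorem c_act67_2 : allRange (fun i => Nat.beq (actR67 i) i) 6666 3333 = true := by decide +kernel
theorem c_act67_3 : allRange (fun i => Nat.beq (actR67 i) i) 9999 1201 = true := by decide +kernel
theorem c_act68_0 : allRange (fun i => Nat.beq (actR68 i) i) 0 3157 = true := by decide +kernel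
theorem c_act68_1 : allRange (fun i => Nat.beq (actR68 i) i) 3157 3157 = true := by decide +kernel
theorem c_act68_2 : allRange (fun i => Nat.beq (actR68 i) i) 6314 3157 = true := by decide +kernel
theorem c_act68_3 : allRange (fun i => Nat.beq (actR68 i) i) 9471 1729 = true := by decide +kernel

end Cfsg.Agent.Lib.Helper4.TCD.SC2HSp3A
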