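import Cfsg.Agent.Lib.Helper4.TCD_C2HSR_Acc
import Cfsg.Agent.Lib.Helper4.TC13

namespace Cfsg.Agent.Lib.Helper4.TCD.SC2HSp3W

open Cfsg.Agent.Lib.Helper4.TC Cfsg.Agent.Lib.Helper4.TCD.C2HSR

set_option maxRecDepth 100000
set_option Elab.async false

def chk0 : List Nat := [0, 0]
noncomputable def act0 (i : Nat) : Nat := col1 (col1 (i))
theorem act0_eq (i : Nat) : act0 i = Tab.act T D chk0 i := rfl
theorem c0_0 : allRange (fun i => Nat.beq (act0 i) i) 0 11200 = true := by decide +kernel
theorem h0 : ∀ i, i < T.N → Tab.relActOK T D chk0 i = true := by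
  intro i hi
  rw [Tab.relActOK, ← act0_eq]
  exact (range_of_allRange c0_0) i (Nat.zero_le _) hi

def chk1 : List Nat := [2, 2, 2, 2]
noncomputable def act1 (i : Nat) : Nat := col3 (col3 (col3 (col3 (i))))
theorem act1_eq (i : Nat) : act1 i = Tab.act T D chk1 i := rfl
theorem c1_0 : allRange (fun i => Nat.beq (act1 i) i) 0 10000 = true := by decide +kernel
theorem c1_1 : allRange (fun i => Nat.beq (act1 i) i) 10000 1200 = true := by decide +kernel
theorem h1 : ∀ i, i < T.N → Tab.relActOK T D chk1 i = true := by
  intro i hi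
  rw [Tab.relActOK, ← act1_eq]
  exact (range_glue (range_of_allRange c1_0) (range_of_allRange c1_1)) i (Nat.zero_le _) hi

def chk2 : List Nat := [4, 4]
noncomputable def act2 (i : Nat) : Nat := col5 (col5 (i))
theorem act2_eq (i : Nat) : act2 i = Tab.act T D chk2 i := rfl
theorem c2_0 : allRange (fun i => Nat.beq (act2 i) i) 0 11200 = true := by decide +kernel
theorem h2 : ∀ i, i < T.N → Tab.relActOK T D chk2 i = true := by
  intro i hi
  rw [Tab.relActOK, ← act2_eq]
  exact (range_of_allRange c2_0) i (Nat.zero_le _) hi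

def chk3 : List Nat := [0, 2, 0, 3, 4, 2, 0, 2, 0, 3, 4, 2, 7]
noncomputable def act3 (i : Nat) : Nat := col1 (col3 (col1 (col2 (col5 (col3 (col1 (col3 (col1 (col2 (col5 (col3 (col6 (i)))))))))))))
theorem act3_eq (i : Nat) : act3 i = Tab.act T D chk3 i := rfl
theorem c3_0 : allRange (fun i => Nat.beq (act3 i) i) 0 4000 = true := by decide +kernel
theorem c3_1 : allRange (fun i => Nat.beq (act3 i) i) 4000 4000 = true := by decide +kernel
theorem c3_2 : allRange (fun i => Nat.beq (act3 i) i) 8000 3200 = true := by decide +kernel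
theorem h3 : ∀ i, i < T.N → Tab.relActOK T D chk3 i = true := by
  intro i hi
  rw [Tab.relActOK, ← act3_eq]
  exact (range_glue (range_of_allRange c3_0) (range_glue (range_of_allRange c3_1) (range_of_allRange c3_2))) i (Nat.zero_le _) hi

def chk4 : List Nat := [0, 2, 4, 3, 0, 2, 4, 3]
noncomputable def act4 (i : Nat) : Nat := col1 (col3 (col5 (col2 (col1 (col3 (col5 (col2 (i))))))))
theorem act4_eq (i : Nat) : act4 i = Tab.act T D chk4 i := rfl
theorem c4_0 : allRange (fun i => Nat.beq (act4 i) i) 0 6000 = true := by decide +kernel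
theorem c4_1 : allRange (fun i => Nat.beq (act4 i) i) 6000 5200 = true := by decide +kernel
theorem h4 : ∀ i, i < T.N → Tab.relActOK T D chk4 i = true := by
  intro i hi
  rw [Tab.relActOK, ← act4_eq]
  exact (range_glue (range_of_allRange c4_0) (range_of_allRange c4_1)) i (Nat.zero_le _) hi

def chk5 : List Nat := [2, 2, 4, 2, 2, 4, 3, 3, 4]
noncomputable def act5 (i : Nat) : Nat := col3 (col3 (col5 (col3 (col3 (col5 (col2 (col2 (col5 (i)))))))))
theorem act5_eq (i : Nat) : act5 i = Tab.act T D chk5 i := rfl
theorem c5_0 : allRange (fun i => Nat.beq (act5 i) i) 0 5454 = true := by decide +kernel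
theorem c5_1 : allRange (fun i => Nat.beq (act5 i) i) 5454 5454 = true := by decide +kernel
theorem c5_2 : allRange (fun i => Nat.beq (act5 i) i) 10908 292 = true := by decide +kernel
theorem h5 : ∀ i, i < T.N → Tab.relActOK T D chk5 i = true := by
  intro i hi
  rw [Tab.relActOK, ← act5_eq]
  exact (range_glue (range_of_allRange c5_0) (range_glue (range_of_allRange c5_1) (range_of_allRange c5_2))) i (Nat.zero_le _) hi

def chk6 : List Nat := [0, 4, 0, 4, 0, 4, 0, 4, 0, 4]
noncomputable def act6 (i : Nat) : Nat := col1 (col5 (col1 (col5 (col1 (col5 (col1 (col5 (col1 (col5 (i))))))))))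
theorem act6_eq (i : Nat) : act6 i = Tab.act T D chk6 i := rfl
theorem c6_0 : allRange (fun i => Nat.beq (act6 i) i) 0 5000 = true := by decide +kernel
theorem c6_1 : allRange (fun i => Nat.beq (act6 i) i) 5000 5000 = true := by decide +kernel
theorem c6_2 : allRange (fun i => Nat.beq (act6 i) i) 10000 1200 = true := by decide +kernel
theorem h6 : ∀ i, i < T.N → Tab.relActOK T D chk6 i = true := by
  intro i hi
  rw [Tab.relActOK, ← act6_eq]
  exact (range_glue (range_of_allRange c6_0) (range_glue (range_of_allRange c6_1) (range_of_allRange c6_2))) i (Nat.zero_le _) hi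

def chk7 : List Nat := [2, 4, 2, 4, 2, 4, 2, 4, 2, 4, 2, 4]
noncomputable def act7 (i : Nat) : Nat := col3 (col5 (col3 (col5 (col3 (col5 (col3 (col5 (col3 (col5 (col3 (col5 (i))))))))))))
theorem act7_eq (i : Nat) : act7 i = Tab.act T D chk7 i := rfl
theorem c7_0 : allRange (fun i => Nat.beq (act7 i) i) 0 4285 = true := by decide +kernel
theorem c7_1 : allRange (fun i => Nat.beq (act7 i) i) 4285 4285 = true := by decide +kernel
theorem c7_2 : allRange (fun i => Nat.beq (act7 i) i) 8570 2630 = true := by decide +kernel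
theorem h7 : ∀ i, i < T.N → Tab.relActOK T D chk7 i = true := by
  intro i hi
  rw [Tab.relActOK, ← act7_eq]
  exact (range_glue (range_of_allRange c7_0) (range_glue (range_of_allRange c7_1) (range_of_allRange c7_2))) i (Nat.zero_le _) hi

def chk8 : List Nat := [0, 4, 3, 4, 2, 4, 0, 4, 3, 4, 2, 4, 0, 4, 3, 4, 2, 4]
noncomputable def act8 (i : Nat) : Nat := col1 (col5 (col2 (col5 (col3 (col5 (col1 (col5 (col2 (col5 (col3 (col5 (col1 (col5 (col2 (col5 (col3 (col5 (i))))))))))))))))))
theorem act8_eq (i : Nat) : act8 i = Tab.act T D chk8 i := rfl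
theorem c8_0 : allRange (fun i => Nat.beq (act8 i) i) 0 3000 = true := by decide +kernel
theorem c8_1 : allRange (fun i => Nat.beq (act8 i) i) 3000 3000 = true := by decide +kernel
theorem c8_2 : allRange (fun i => Nat.beq (act8 i) i) 6000 3000 = true := by decide +kernel
theorem c8_3 : allRange (fun i => Nat.beq (act8 i) i) 9000 2200 = true := by decide +kernel
theorem h8 : ∀ i, i < T.N → Tab.relActOK T D chk8 i = true := by
  intro i hi
  rw [Tab.relActOK, ← act8_eq]
  exact (range_glue (range_of_allRange c8_0) (range_glue (range_of_allRange c8_1) (range_glue (range_of_allRange c8_2) (range_of_allRange c8_3)))) i (Nat.zero_le _) hi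

def chk9 : List Nat := [0, 3, 4, 0, 4, 0, 3, 4, 0, 4, 0, 3, 4, 0, 4, 0, 3, 4, 0, 4]
noncomputable def act9 (i : Nat) : Nat := col1 (col2 (col5 (col1 (col5 (col1 (col2 (col5 (col1 (col5 (col1 (col2 (col5 (col1 (col5 (col1 (col2 (col5 (col1 (col5 (i))))))))))))))))))))
theorem act9_eq (i : Nat) : act9 i = Tab.act T D chk9 i := rfl
theorem c9_0 : allRange (fun i => Nat.beq (act9 i) i) 0 2727 = true := by decide +kernel
theorem c9_1 : allRange (fun i => Nat.beq (act9 i) i) 2727 2727 = true := by decide +kernel
theorem c9_2 : allRange (fun i => Nat.beq (act9 i) i) 5454 2727 = true := by decide +kernel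
theorem c9_3 : allRange (fun i => Nat.beq (act9 i) i) 8181 2727 = true := by decide +kernel
theorem c9_4 : allRange (fun i => Nat.beq (act9 i) i) 10908 292 = true := by decide +kernel
theorem h9 : ∀ i, i < T.N → Tab.relActOK T D chk9 i = true := by
  intro i hi
  rw [Tab.relActOK, ← act9_eq]
  exact (range_glue (range_of_allRange c9_0) (range_glue (range_of_allRange c9_1) (range_glue (range_of_allRange c9_2) (range_glue (range_of_allRange c9_3) (range_of_allRange c9_4))))) i (Nat.zero_le _) hi

def chk10 : List Nat := [6, 6]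
noncomputable def act10 (i : Nat) : Nat := col7 (col7 (i))
theorem act10_eq (i : Nat) : act10 i = Tab.act T D chk10 i := rfl
theorem c10_0 : allRange (fun i => Nat.beq (act10 i) i) 0 11200 = true := by decide +kernel
theorem h10 : ∀ i, i < T.N → Tab.relActOK T D chk10 i = true := by
  intro i hi
  rw [Tab.relActOK, ← act10_eq]
  exact (range_of_allRange c10_0) i (Nat.zero_le _) hi

def chk11 : List Nat := [7, 1, 6, 0]
noncomputable def act11 (i : Nat) : Nat := col6 (col0 (col7 (col1 (i))))
theorem act11_eq (i : Nat) : act11 i = Tab.act T D chk11 i := rfl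
theorem c11_0 : allRange (fun i => Nat.beq (act11 i) i) 0 10000 = true := by decide +kernel
theorem c11_1 : allRange (fun i => Nat.beq (act11 i) i) 10000 1200 = true := by decide +kernel
theorem h11 : ∀ i, i < T.N → Tab.relActOK T D chk11 i = true := by
  intro i hi
  rw [Tab.relActOK, ← act11_eq]
  exact (range_glue (range_of_allRange c11_0) (range_of_allRange c11_1)) i (Nat.zero_le _) hi

def chk12 : List Nat := [7, 3, 6, 2]
noncomputable def act12 (i : Nat) : Nat := col6 (col2 (col7 (col3 (i))))
theorem act12_eq (i : Nat) : act12 i = Tab.act T D chk12 i := rfl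
theorem c12_0 : allRange (fun i => Nat.beq (act12 i) i) 0 10000 = true := by decide +kernel
theorem c12_1 : allRange (fun i => Nat.beq (act12 i) i) 10000 1200 = true := by decide +kernel
theorem h12 : ∀ i, i < T.N → Tab.relActOK T D chk12 i = true := by
  intro i hi
  rw [Tab.relActOK, ← act12_eq]
  exact (range_glue (range_of_allRange c12_0) (range_of_allRange c12_1)) i (Nat.zero_le _) hi

def chk13 : List Nat := [7, 5, 6, 4]
noncomputable def act13 (i : Nat) : Nat := col6 (col4 (col7 (col5 (i))))
theorem act13_eq (i : Nat) : act13 i = Tab.act T D chk13 i := rfl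
theorem c13_0 : allRange (fun i => Nat.beq (act13 i) i) 0 10000 = true := by decide +kernel
theorem c13_1 : allRange (fun i => Nat.beq (act13 i) i) 10000 1200 = true := by decide +kernel
theorem h13 : ∀ i, i < T.N → Tab.relActOK T D chk13 i = true := by
  intro i hi
  rw [Tab.relActOK, ← act13_eq]
  exact (range_glue (range_of_allRange c13_0) (range_of_allRange c13_1)) i (Nat.zero_le _) hi

def chk14 : List Nat := [0, 0]
noncomputable def act14 (i : Nat) : Nat := col1 (col1 (i))
theorem act14_eq (i : Nat) : act14 i = Tab.act T D chk14 i := rfl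
theorem c14_0 : allRange (fun i => Nat.beq (act14 i) i) 0 11200 = true := by decide +kernel
theorem h14 : ∀ i, i < T.N → Tab.relActOK T D chk14 i = true := by
  intro i hi
  rw [Tab.relActOK, ← act14_eq]
  exact (range_of_allRange c14_0) i (Nat.zero_le _) hi

def chk15 : List Nat := [2, 2, 2, 2]
noncomputable def act15 (i : Nat) : Nat := col3 (col3 (col3 (col3 (i))))
theorem act15_eq (i : Nat) : act15 i = Tab.act T D chk15 i := rfl
theorem c15_0 : allRange (fun i => Nat.beq (act15 i) i) 0 10000 = true := by decide +kernel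
theorem c15_1 : allRange (fun i => Nat.beq (act15 i) i) 10000 1200 = true := by decide +kernel
theorem h15 : ∀ i, i < T.N → Tab.relActOK T D chk15 i = true := by
  intro i hi
  rw [Tab.relActOK, ← act15_eq]
  exact (range_glue (range_of_allRange c15_0) (range_of_allRange c15_1)) i (Nat.zero_le _) hi

def chk16 : List Nat := [0, 2, 0, 2, 0, 2, 0, 2, 0, 2, 0, 2, 0, 2, 0, 2, 0, 2, 0, 2, 0, 2]
noncomputable def act16 (i : Nat) : Nat := col1 (col3 (col1 (col3 (col1 (col3 (col1 (col3 (col1 (col3 (col1 (col3 (col1 (col3 (col1 (col3 (col1 (col3 (col1 (col3 (col1 (col3 (i))))))))))))))))))))))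
theorem act16_eq (i : Nat) : act16 i = Tab.act T D chk16 i := rfl
theorem c16_0 : allRange (fun i => Nat.beq (act16 i) i) 0 2500 = true := by decide +kernel
theorem c16_1 : allRange (fun i => Nat.beq (act16 i) i) 2500 2500 = true := by decide +kernel
theorem c16_2 : allRange (fun i => Nat.beq (act16 i) i) 5000 2500 = true := by decide +kernel
theorem c16_3 : allRange (fun i => Nat.beq (act16 i) i) 7500 2500 = true := by decide +kernel
theorem c16_4 : allRange (fun i => Nat.beq (act16 i) i) 10000 1200 = true := by decide +kernel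
theorem h16 : ∀ i, i < T.N → Tab.relActOK T D chk16 i = true := by
  intro i hi
  rw [Tab.relActOK, ← act16_eq]
  exact (range_glue (range_of_allRange c16_0) (range_glue (range_of_allRange c16_1) (range_glue (range_of_allRange c16_2) (range_glue (range_of_allRange c16_3) (range_of_allRange c16_4))))) i (Nat.zero_le _) hi

def chk17 : List Nat := [0, 2, 2, 0, 2, 2, 0, 2, 2, 0, 2, 2, 0, 2, 2, 0, 2, 2]
noncomputable def act17 (i : Nat) : Nat := col1 (col3 (col3 (col1 (col3 (col3 (col1 (col3 (col3 (col1 (col3 (col3 (col1 (col3 (col3 (col1 (col3 (col3 (i))))))))))))))))))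
theorem act17_eq (i : Nat) : act17 i = Tab.act T D chk17 i := rfl
theorem c17_0 : allRange (fun i => Nat.beq (act17 i) i) 0 3000 = true := by decide +kernel
theorem c17_1 : allRange (fun i => Nat.beq (act17 i) i) 3000 3000 = true := by decide +kernel
theorem c17_2 : allRange (fun i => Nat.beq (act17 i) i) 6000 3000 = true := by decide +kernel
theorem c17_3 : allRange (fun i => Nat.beq (act17 i) i) 9000 2200 = true := by decide +kernel
theorem h17 : ∀ i, i < T.N → Tab.relActOK T D chk17 i = true := by
  intro i hi
  rw [Tab.relActOK, ← act17_eq]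
  exact (range_glue (range_of_allRange c17_0) (range_glue (range_of_allRange c17_1) (range_glue (range_of_allRange c17_2) (range_of_allRange c17_3)))) i (Nat.zero_le _) hi

def chk18 : List Nat := [0, 2, 0, 2, 0, 3, 0, 2, 0, 2, 2, 0, 3, 0, 2, 0, 3, 0, 3]
noncomputable def act18 (i : Nat) : Nat := col1 (col3 (col1 (col3 (col1 (col2 (col1 (col3 (col1 (col3 (col3 (col1 (col2 (col1 (col3 (col1 (col2 (col1 (col2 (i)))))))))))))))))))
theorem act18_eq (i : Nat) : act18 i = Tab.act T D chk18 i := rfl
theorem c18_0 : allRange (fun i => Nat.beq (act18 i) i) 0 2857 = true := by decide +kernel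
theorem c18_1 : allRange (fun i => Nat.beq (act18 i) i) 2857 2857 = true := by decide +kernel
theorem c18_2 : allRange (fun i => Nat.beq (act18 i) i) 5714 2857 = true := by decide +kernel
theorem c18_3 : allRange (fun i => Nat.beq (act18 i) i) 8571 2629 = true := by decide +kernel
theorem h18 : ∀ i, i < T.N → Tab.relActOK T D chk18 i = true := by
  intro i hi
  rw [Tab.relActOK, ← act18_eq]
  exact (range_glue (range_of_allRange c18_0) (range_glue (range_of_allRange c18_1) (range_glue (range_of_allRange c18_2) (range_of_allRange c18_3)))) i (Nat.zero_le _) hi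

def chkAll : List (List Nat) := [chk0, chk1, chk2, chk3, chk4, chk5, chk6, chk7, chk8, chk9, chk10, chk11, chk12, chk13, chk14, chk15, chk16, chk17, chk18]
theorem hAll : ∀ w ∈ chkAll, ∀ i, i < T.N → Tab.relActOK T D w i = true := by
  intro w hw
  simp only [chkAll, List.mem_cons, List.not_mem_nil, or_false] at hw
  rcases hw with rfl | rfl | rfl | rfl | rfl | rfl | rfl | rfl | rfl | rfl | rfl | rfl | rfl | rfl | rfl | rfl | rfl | rfl | rfl
  · exact h0
  · exact h1
  · exact h2
  · exact h3
  · exact h4
  · exact h5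
  · exact h6
  · exact h7
  · exact h8
  · exact h9
  · exact h10
  · exact h11
  · exact h12
  · exact h13
  · exact h14
  · exact h15
  · exact h16
  · exact h17
  · exact h18
theorem hAll_lt : ∀ w ∈ chkAll, ∀ x ∈ w, x < 8 := by decide +kernel

end Cfsg.Agent.Lib.Helper4.TCD.SC2HSp3W
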