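import Cfsg.Agent.Lib.Helper4.TCD_SC2HSp5A_Acc

namespace Cfsg.Agent.Lib.Helper4.TCD.SC2HSp5A

open Cfsg.Agent.Lib.Helper4.TC

set_option maxRecDepth 100000
set_option Elab.async false

theorem c_rel_77 : allRange D.relOK 410623 3446 = true := by decide +kernel
theorem c_rel_78 : allRange D.relOK 414069 3359 = true := by decide +kernel
theorem c_rel_79 : allRange D.relOK 417428 3248 = true := by decide +kernel
theorem c_rel_80 : allRange D.relOK 420676 3280 = true := by decide +kernel
theorem c_rel_81 : allRange D.relOK 423956 3172 = true := by decide +kernel
theorem c_rel_82 : allRange D.relOK 427128 3324 = true := by decide +kernel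
theorem c_rel_83 : allRange D.relOK 430452 3367 = true := by decide +kernel
theorem c_rel_84 : allRange D.relOK 433819 3254 = true := by decide +kernel
theorem c_rel_85 : allRange D.relOK 437073 3332 = true := by decide +kernel
theorem c_rel_86 : allRange D.relOK 440405 3301 = true := by decide +kernel
theorem c_rel_87 : allRange D.relOK 443706 3300 = true := by decide +kernel
theorem c_rel_88 : allRange D.relOK 447006 3322 = true := by decide +kernel
theorem c_rel_89 : allRange D.relOK 450328 3279 = true := by decide +kernel
theorem c_rel_90 : allRange D.relOK 453607 3203 = true := by decide +kernel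
theorem c_rel_91 : allRange D.relOK 456810 3309 = true := by decide +kernel
theorem c_rel_92 : allRange D.relOK 460119 3220 = true := by decide +kernel
theorem c_rel_93 : allRange D.relOK 463339 3284 = true := by decide +kernel
theorem c_rel_94 : allRange D.relOK 466623 3251 = true := by decide +kernel
theorem c_rel_95 : allRange D.relOK 469874 3084 = true := by decide +kernel
theorem c_rel_96 : allRange D.relOK 472958 2925 = true := by decide +kernel
theorem c_rel_97 : allRange D.relOK 475883 2795 = true := by decide +kernel
theorem c_rel_98 : allRange D.relOK 478678 2882 = true := by decide +kernel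
theorem c_rel_99 : allRange D.relOK 481560 2896 = true := by decide +kernel
theorem c_rel_100 : allRange D.relOK 484456 2920 = true := by decide +kernel
theorem c_rel_101 : allRange D.relOK 487376 2868 = true := by decide +kernel
theorem c_rel_102 : allRange D.relOK 490244 2909 = true := by decide +kernel
theorem c_rel_103 : allRange D.relOK 493153 2856 = true := by decide +kernel
theorem c_rel_104 : allRange D.relOK 496009 2781 = true := by decide +kernel
theorem c_rel_105 : allRange D.relOK 498790 2772 = true := by decide +kernel
theorem c_rel_106 : allRange D.relOK 501562 2856 = true := by decide +kernel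
theorem c_rel_107 : allRange D.relOK 504418 2555 = true := by decide +kernel
theorem c_rel_108 : allRange D.relOK 506973 3538 = true := by decide +kernel
theorem c_rel_109 : allRange D.relOK 510511 3592 = true := by decide +kernel
theorem c_rel_110 : allRange D.relOK 514103 3621 = true := by decide +kernel
theorem c_rel_111 : allRange D.relOK 517724 3520 = true := by decide +kernel
theorem c_rel_112 : allRange D.relOK 521244 3550 = true := by decide +kernel
theorem c_rel_113 : allRange D.relOK 524794 3513 = true := by decide +kernel
theorem c_rel_114 : allRange D.relOK 528307 3458 = true := by decide +kernel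
theorem c_rel_115 : allRange D.relOK 531765 3416 = true := by decide +kernel
theorem c_rel_116 : allRange D.relOK 535181 3372 = true := by decide +kernel
theorem c_rel_117 : allRange D.relOK 538553 3321 = true := by decide +kernel
theorem c_rel_118 : allRange D.relOK 541874 3285 = true := by decide +kernel
theorem c_rel_119 : allRange D.relOK 545159 3279 = true := by decide +kernel
theorem c_rel_120 : allRange D.relOK 548438 3274 = true := by decide +kernel
theorem c_rel_121 : allRange D.relOK 551712 3262 = true := by decide +kernel
theorem c_rel_122 : allRange D.relOK 554974 3254 = true := by decide +kernel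
theorem c_rel_123 : allRange D.relOK 558228 3227 = true := by decide +kernel
theorem c_rel_124 : allRange D.relOK 561455 3222 = true := by decide +kernel
theorem c_rel_125 : allRange D.relOK 564677 3182 = true := by decide +kernel
theorem c_rel_126 : allRange D.relOK 567859 3148 = true := by decide +kernel
theorem c_rel_127 : allRange D.relOK 571007 3153 = true := by decide +kernel
theorem c_rel_128 : allRange D.relOK 574160 3148 = true := by decide +kernel
theorem c_rel_129 : allRange D.relOK 577308 3154 = true := by decide +kernel
theorem c_rel_130 : allRange D.relOK 580462 3108 = true := by decide +kernel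
theorem c_rel_131 : allRange D.relOK 583570 3088 = true := by decide +kernel
theorem c_rel_132 : allRange D.relOK 586658 3077 = true := by decide +kernel
theorem c_rel_133 : allRange D.relOK 589735 3117 = true := by decide +kernel
theorem c_rel_134 : allRange D.relOK 592852 2202 = true := by decide +kernel
theorem c_rel_135 : allRange D.relOK 595054 4616 = true := by decide +kernel
theorem c_rel_136 : allRange D.relOK 599670 4758 = true := by decide +kernel
theorem c_rel_137 : allRange D.relOK 604428 4699 = true := by decide +kernel
theorem c_rel_138 : allRange D.relOK 609127 4656 = true := by decide +kernel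
theorem c_rel_139 : allRange D.relOK 613783 4564 = true := by decide +kernel
theorem c_rel_140 : allRange D.relOK 618347 4613 = true := by decide +kernel
theorem c_rel_141 : allRange D.relOK 622960 4472 = true := by decide +kernel
theorem c_rel_142 : allRange D.relOK 627432 4377 = true := by decide +kernel
theorem c_rel_143 : allRange D.relOK 631809 4445 = true := by decide +kernel
theorem c_rel_144 : allRange D.relOK 636254 4418 = true := by decide +kernel
theorem c_rel_145 : allRange D.relOK 640672 4573 = true := by decide +kernel
theorem c_rel_146 : allRange D.relOK 645245 1775 = true := by decide +kernel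
theorem c_fin_0 : allGrid (T.finOK D) 0 428 28 = true := by decide +kernel
theorem c_fin_1 : allGrid (T.finOK D) 428 428 28 = true := by decide +kernel
theorem c_fin_2 : allGrid (T.finOK D) 856 428 28 = true := by decide +kernel
theorem c_fin_3 : allGrid (T.finOK D) 1284 428 28 = true := by decide +kernel
theorem c_fin_4 : allGrid (T.finOK D) 1712 428 28 = true := by decide +kernel
theorem c_fin_5 : allGrid (T.finOK D) 2140 428 28 = true := by decide +kernel
theorem c_fin_6 : allGrid (T.finOK D) 2568 428 28 = true := by decide +kernel
theorem c_fin_7 : allGrid (T.finOK D) 2996 428 28 = true := by decide +kernel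
theorem c_fin_8 : allGrid (T.finOK D) 3424 428 28 = true := by decide +kernel
theorem c_fin_9 : allGrid (T.finOK D) 3852 428 28 = true := by decide +kernel
theorem c_fin_10 : allGrid (T.finOK D) 4280 428 28 = true := by decide +kernel
theorem c_fin_11 : allGrid (T.finOK D) 4708 428 28 = true := by decide +kernel
theorem c_fin_12 : allGrid (T.finOK D) 5136 428 28 = true := by decide +kernel
theorem c_fin_13 : allGrid (T.finOK D) 5564 428 28 = true := by decide +kernel
theorem c_fin_14 : allGrid (T.finOK D) 5992 428 28 = true := by decide +kernel

end Cfsg.Agent.Lib.Helper4.TCD.SC2HSp5A
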