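import Cfsg.Agent.Lib.Helper4.TCD_SC2HSp5A_Acc

namespace Cfsg.Agent.Lib.Helper4.TCD.SC2HSp5A

open Cfsg.Agent.Lib.Helper4.TC

set_option maxRecDepth 100000
set_option Elab.async false

theorem c_fin_15 : allGrid (T.finOK D) 6420 428 28 = true := by decide +kernel
theorem c_fin_16 : allGrid (T.finOK D) 6848 428 28 = true := by decide +kernel
theorem c_fin_17 : allGrid (T.finOK D) 7276 428 28 = true := by decide +kernel
theorem c_fin_18 : allGrid (T.finOK D) 7704 428 28 = true := by decide +kernel
theorem c_fin_19 : allGrid (T.finOK D) 8132 428 28 = true := by decide +kernel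
theorem c_fin_20 : allGrid (T.finOK D) 8560 428 28 = true := by decide +kernel
theorem c_fin_21 : allGrid (T.finOK D) 8988 428 28 = true := by decide +kernel
theorem c_fin_22 : allGrid (T.finOK D) 9416 428 28 = true := by decide +kernel
theorem c_fin_23 : allGrid (T.finOK D) 9844 428 28 = true := by decide +kernel
theorem c_fin_24 : allGrid (T.finOK D) 10272 428 28 = true := by decide +kernel
theorem c_fin_25 : allGrid (T.finOK D) 10700 428 28 = true := by decide +kernel
theorem c_fin_26 : allGrid (T.finOK D) 11128 72 28 = true := by decide +kernel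
theorem c_perm_0 : allGrid (T.permOK1 D) 0 1071 28 = true := by decide +kernel
theorem c_perm_1 : allGrid (T.permOK1 D) 1071 1071 28 = true := by decide +kernel
theorem c_perm_2 : allGrid (T.permOK1 D) 2142 1071 28 = true := by decide +kernel
theorem c_perm_3 : allGrid (T.permOK1 D) 3213 1071 28 = true := by decide +kernel
theorem c_perm_4 : allGrid (T.permOK1 D) 4284 1071 28 = true := by decide +kernel
theorem c_perm_5 : allGrid (T.permOK1 D) 5355 1071 28 = true := by decide +kernel
theorem c_perm_6 : allGrid (T.permOK1 D) 6426 1071 28 = true := by decide +kernel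
theorem c_perm_7 : allGrid (T.permOK1 D) 7497 1071 28 = true := by decide +kernel
theorem c_perm_8 : allGrid (T.permOK1 D) 8568 1071 28 = true := by decide +kernel
theorem c_perm_9 : allGrid (T.permOK1 D) 9639 1071 28 = true := by decide +kernel
theorem c_perm_10 : allGrid (T.permOK1 D) 10710 490 28 = true := by decide +kernel
theorem c_act0_0 : allRange (fun i => Nat.beq (actR0 i) i) 0 11200 = true := by decide +kernel
theorem c_act1_0 : allRange (fun i => Nat.beq (actR1 i) i) 0 11200 = true := by decide +kernel
theorem c_act2_0 : allRange (fun i => Nat.beq (actR2 i) i) 0 11200 = true := by decide +kernel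
theorem c_act3_0 : allRange (fun i => Nat.beq (actR3 i) i) 0 4615 = true := by decide +kernel
theorem c_act3_1 : allRange (fun i => Nat.beq (actR3 i) i) 4615 4615 = true := by decide +kernel
theorem c_act3_2 : allRange (fun i => Nat.beq (actR3 i) i) 9230 1970 = true := by decide +kernel
theorem c_act4_0 : allRange (fun i => Nat.beq (actR4 i) i) 0 6666 = true := by decide +kernel
theorem c_act4_1 : allRange (fun i => Nat.beq (actR4 i) i) 6666 4534 = true := by decide +kernel
theorem c_act5_0 : allRange (fun i => Nat.beq (actR5 i) i) 0 6000 = true := by decide +kernel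
theorem c_act5_1 : allRange (fun i => Nat.beq (actR5 i) i) 6000 5200 = true := by decide +kernel
theorem c_act6_0 : allRange (fun i => Nat.beq (actR6 i) i) 0 5454 = true := by decide +kernel
theorem c_act6_1 : allRange (fun i => Nat.beq (actR6 i) i) 5454 5454 = true := by decide +kernel
theorem c_act6_2 : allRange (fun i => Nat.beq (actR6 i) i) 10908 292 = true := by decide +kernel
theorem c_act7_0 : allRange (fun i => Nat.beq (actR7 i) i) 0 4615 = true := by decide +kernel
theorem c_act7_1 : allRange (fun i => Nat.beq (actR7 i) i) 4615 4615 = true := by decide +kernel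
theorem c_act7_2 : allRange (fun i => Nat.beq (actR7 i) i) 9230 1970 = true := by decide +kernel
theorem c_act8_0 : allRange (fun i => Nat.beq (actR8 i) i) 0 3157 = true := by decide +kernel
theorem c_act8_1 : allRange (fun i => Nat.beq (actR8 i) i) 3157 3157 = true := by decide +kernel
theorem c_act8_2 : allRange (fun i => Nat.beq (actR8 i) i) 6314 3157 = true := by decide +kernel
theorem c_act8_3 : allRange (fun i => Nat.beq (actR8 i) i) 9471 1729 = true := by decide +kernel
theorem c_act9_0 : allRange (fun i => Nat.beq (actR9 i) i) 0 2857 = true := by decide +kernel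
theorem c_act9_1 : allRange (fun i => Nat.beq (actR9 i) i) 2857 2857 = true := by decide +kernel
theorem c_act9_2 : allRange (fun i => Nat.beq (actR9 i) i) 5714 2857 = true := by decide +kernel
theorem c_act9_3 : allRange (fun i => Nat.beq (actR9 i) i) 8571 2629 = true := by decide +kernel
theorem c_act10_0 : allRange (fun i => Nat.beq (actR10 i) i) 0 11200 = true := by decide +kernel
theorem c_act11_0 : allRange (fun i => Nat.beq (actR11 i) i) 0 11200 = true := by decide +kernel
theorem c_act12_0 : allRange (fun i => Nat.beq (actR12 i) i) 0 11200 = true := by decide +kernel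
theorem c_act13_0 : allRange (fun i => Nat.beq (actR13 i) i) 0 11200 = true := by decide +kernel
theorem c_act14_0 : allRange (fun i => Nat.beq (actR14 i) i) 0 11200 = true := by decide +kernel
theorem c_act15_0 : allRange (fun i => Nat.beq (actR15 i) i) 0 11200 = true := by decide +kernel
theorem c_act16_0 : allRange (fun i => Nat.beq (actR16 i) i) 0 11200 = true := by decide +kernel
theorem c_act17_0 : allRange (fun i => Nat.beq (actR17 i) i) 0 11200 = true := by decide +kernel
theorem c_act18_0 : allRange (fun i => Nat.beq (actR18 i) i) 0 11200 = true := by decide +kernel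
theorem c_act19_0 : allRange (fun i => Nat.beq (actR19 i) i) 0 11200 = true := by decide +kernel

end Cfsg.Agent.Lib.Helper4.TCD.SC2HSp5A
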