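import Cfsg.Agent.Lib.Helper4.TCD_C2M12L_C0
import Cfsg.Agent.Lib.Helper4.TC13

namespace Cfsg.Agent.Lib.Helper4.TCD.C2M12L

open Cfsg.Agent.Lib.Helper4.TC Cfsg.Agent.Lib.Helper4.TCD.C2M12A

theorem h_p8 : ∀ p, 0 ≤ p → p < 24 → chk8 p = true :=
  (range_of_allRange c_p8_0)
theorem h_p9 : ∀ p, 0 ≤ p → p < 24 → chk9 p = true :=
  (range_of_allRange c_p9_0)
theorem h_p10 : ∀ p, 0 ≤ p → p < 24 → chk10 p = true :=
  (range_of_allRange c_p10_0)
theorem h_p11 : ∀ p, 0 ≤ p → p < 24 → chk11 p = true :=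
  (range_of_allRange c_p11_0)
theorem h_p12 : ∀ p, 0 ≤ p → p < 24 → chk12 p = true :=
  (range_of_allRange c_p12_0)
theorem h_p13 : ∀ p, 0 ≤ p → p < 24 → chk13 p = true :=
  (range_of_allRange c_p13_0)
theorem h_nd0 : ∀ idx, 0 ≤ idx → idx < 24 → S.nodeOK 0 idx = true :=
  (range_of_allRange c_nd0_0)
theorem h_nd1 : ∀ idx, 0 ≤ idx → idx < 22 → S.nodeOK 1 idx = true :=
  (range_of_allRange c_nd1_0)
theorem h_nd2 : ∀ idx, 0 ≤ idx → idx < 20 → S.nodeOK 2 idx = true :=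
  (range_of_allRange c_nd2_0)
theorem h_nd3 : ∀ idx, 0 ≤ idx → idx < 9 → S.nodeOK 3 idx = true :=
  (range_of_allRange c_nd3_0)
theorem h_nd4 : ∀ idx, 0 ≤ idx → idx < 2 → S.nodeOK 4 idx = true :=
  (range_of_allRange c_nd4_0)

theorem ok : S.OK where
  hkm := by decide
  hperm := by
    intro i p h1 h2 hp
    have h1 : 8 ≤ i := h1
    have h2 : i < 14 := h2
    have hp : p < 24 := hp
    interval_cases i
    · rw [← chk8_eq]; exact h_p8 p (Nat.zero_le _) hp
    · rw [← chk9_eq]; exact h_p9 p (Nat.zero_le _) hp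
    · rw [← chk10_eq]; exact h_p10 p (Nat.zero_le _) hp
    · rw [← chk11_eq]; exact h_p11 p (Nat.zero_le _) hp
    · rw [← chk12_eq]; exact h_p12 p (Nat.zero_le _) hp
    · rw [← chk13_eq]; exact h_p13 p (Nat.zero_le _) hp
  hwords := fun i h1 h2 => range_of_allRange c_words i h1 h2
  hfix := fun i t hi ht => range_of_allGrid c_fix i (Nat.zero_le _) (by have h : i < 14 := hi; omega) t ht
  hroot := fun j hj => ble_succ (allBelow_eq_true.1 c_root j hj)
  hnode := by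
    intro j idx hj hidx
    have hj : j < 5 := hj
    interval_cases j
    · rw [c_n0] at hidx; exact h_nd0 idx (Nat.zero_le _) hidx
    · rw [c_n1] at hidx; exact h_nd1 idx (Nat.zero_le _) hidx
    · rw [c_n2] at hidx; exact h_nd2 idx (Nat.zero_le _) hidx
    · rw [c_n3] at hidx; exact h_nd3 idx (Nat.zero_le _) hidx
    · rw [c_n4] at hidx; exact h_nd4 idx (Nat.zero_le _) hidx

theorem htab0 : ∀ i, i < S.k → ∀ p, p < S.N → S.tab i p = T.tbl p (D.inv i) := by
  intro i hi p _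
  have hi : i < 8 := hi
  interval_cases i <;> rfl

theorem prod_eq : S.prodFrom S.r 0 = 190080 := by decide +kernel

end Cfsg.Agent.Lib.Helper4.TCD.C2M12L
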