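import Mathlib
import Cfsg.Agent.Lib.Helper4.M11pMain
import Cfsg.Agent.Lib.Helper4.TCD_M12pA_Fin
import Cfsg.Agent.Lib.Helper4.TCD_M12pL_Fin
import Cfsg.Agent.Lib.Helper4.TC16
import Cfsg.Agent.Lib.Helper4.RelLib
import Cfsg.Agent.Lib.Helper4.StemLib6

/-! The presented group `M12p` has order 95040 and contains the presented group `M11p` (generated). -/

namespace Cfsg.Agent.Lib.Helper4.M12pMain

open Cfsg.Agent.Lib.Helper4.TC Cfsg.Agent.Lib.Helper4.TCD Cfsg.Agent.Lib.Helper4.TC.Log Cfsg.Agent.Lib.Helper4.Stem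

/-- the letters of `M11p` as letters of `M12p` -/
def embK (l : ℕ) : ℕ := [0, 1, 2, 3].getD l 6

theorem real_subK : ∀ L ∈ PM11p.P.real, L.map embK ∈ PM12p.P.real := by decide +kernel

theorem embK_emb : LetterEmb PM11p.P PM12p.P embK where
  hP := PM11p.valid
  hQ := PM12p.valid
  hlt := by
    intro l hl
    have hl : l < 4 := hl
    show embK l < 6
    interval_cases l <;> decide
  hinv := by
    intro l hl
    have hl : l < 4 := hl
    interval_cases l <;> rfl
  hrel := by
    intro L hL
    exact (PM12p.valid.real_sound _ (real_subK L hL)).2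

/-- the words generating `M11p` -/
def subsK : List (List ℕ) := [[0], [2]]

theorem subsK_map : subsK.map (List.map embK) = M12pA.subs := by decide

theorem subG_K_top : Inst.subG PM11p.P subsK = ⊤ := by
  rw [eq_top_iff, ← PM11p.valid.gen_top, Subgroup.closure_le]
  rintro _ ⟨l, hl, rfl⟩
  have hl : l < 4 := hl
  interval_cases l
  · exact Subgroup.subset_closure ⟨[0], by decide, by rw [wordP_cons, wordP_nil, mul_one]⟩
  · have h : PM11p.P.gR 1 = (PM11p.P.gR 0)⁻¹ := (PM11p.valid.invR_sound 0 (by decide)).2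
    rw [h]
    exact Subgroup.inv_mem _ (Subgroup.subset_closure ⟨[0], by decide, by rw [wordP_cons, wordP_nil, mul_one]⟩)
  · exact Subgroup.subset_closure ⟨[2], by decide, by rw [wordP_cons, wordP_nil, mul_one]⟩
  · have h : PM11p.P.gR 3 = (PM11p.P.gR 2)⁻¹ := (PM11p.valid.invR_sound 2 (by decide)).2
    rw [h]
    exact Subgroup.inv_mem _ (Subgroup.subset_closure ⟨[2], by decide, by rw [wordP_cons, wordP_nil, mul_one]⟩)

theorem range_hom : embK_emb.hom.range = Inst.subG PM12p.P M12pA.subs := by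
  rw [MonoidHom.range_eq_map, ← subG_K_top, embK_emb.map_subG subsK (by decide), subsK_map]

/-- the subgroup is an image of `M11p` -/
theorem sub_card : Finite (Inst.subG PM12p.P M12pA.subs) ∧ Nat.card (Inst.subG PM12p.P M12pA.subs) ≤ 7920 := by
  obtain ⟨fK, _, cK⟩ := M11pMain.order_aux
  rw [← range_hom]
  have := fK
  refine ⟨Finite.of_surjective embK_emb.hom.rangeRestrict embK_emb.hom.rangeRestrict_surjective, ?_⟩
  rw [← cK]
  exact Nat.card_le_card_of_surjective embK_emb.hom.rangeRestrict embK_emb.hom.rangeRestrict_surjective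

/-- the order and the faithful permutation representation -/
theorem order_aux : Finite PM12p.P.Grp ∧ Function.Injective M12pA.inst.phi ∧ Nat.card PM12p.P.Grp = 95040 := by
  obtain ⟨fs, cs⟩ := sub_card
  obtain ⟨fG, cG⟩ := M12pA.inst.card_le _ fs cs
  have hub : Nat.card PM12p.P.Grp ≤ 95040 := le_trans cG (by decide)
  obtain ⟨hinj, hcard⟩ := M12pA.inst.card_eq M12pL.S rfl rfl M12pL.htab0 M12pL.ok 95040 (by decide)
    M12pL.prod_eq fG hub
  exact ⟨fG, hinj, hcard⟩

theorem gR_ne_one : PM12p.P.gR 0 ≠ 1 := by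
  intro h
  have h1 := M12pA.inst.hphi 0 (by decide) ⟨2, by decide⟩
  have h2 : Inst.gE PM12p.P M12pA.subs 0 = PM12p.P.gR 0 := extG_le (by decide)
  rw [h2, h, map_one] at h1
  have h3 : M12pA.T.tbl 2 (M12pA.D.inv 0) ≠ 2 := by decide +kernel
  exact h3 h1.symm

/-- `M11p` embeds -/
theorem hom_injective : Function.Injective embK_emb.hom := by
  apply injective_of_simple M11pMain.simple_aux embK_emb.hom (PM11p.P.gR 0)
  rw [embK_emb.hom_gR _ (by decide)]
  exact gR_ne_one

/-- stem extensions split over the subgroup when `M11p` is perfect and has no stem extension -/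
theorem liftsP_sub (p : ℕ) (hp : p.Prime) (hperf : commutator PM11p.P.Grp = ⊤) (hns : NoStemPrime PM11p.P.Grp p) :
    LiftsP PM12p.P.Grp (Inst.subG PM12p.P M12pA.subs) p :=
  liftsP_of_injective embK_emb.hom hom_injective _ range_hom p hp hperf hns

end Cfsg.Agent.Lib.Helper4.M12pMain
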