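import Mathlib
import Cfsg.Agent.Lib.Helper4.C2M12Main
import Cfsg.Agent.Lib.Helper4.TCD_SC2M12p3A_Fin
import Cfsg.Agent.Lib.Helper4.TCD_SC2M12p3W
import Cfsg.Agent.Lib.Helper4.StemLib6
import Cfsg.Agent.Lib.Helper4.M11pStem

/-! `C2M12` has no stem extension with kernel of order 3 (generated). -/

namespace Cfsg.Agent.Lib.Helper4.SC2M12p3Main

open Cfsg.Agent.Lib.Helper4.TC Cfsg.Agent.Lib.Helper4.TCD Cfsg.Agent.Lib.Helper4.TC.Log Cfsg.Agent.Lib.Helper4.Stem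

/-- the description of the auxiliary presentation -/
def spec : Spec2 :=
  { p := 3
    items := [(0, [], 2),
      (2, [], 4),
      (4, [], 11),
      (6, [0, 2, 0, 2, 0, 2, 2, 0, 2, 2, 5, 2, 0, 2, 5], 0),
      (8, [3, 3, 0, 3, 0, 2, 0, 4, 0, 3, 0, 2, 0, 2, 2, 5, 5, 5, 5, 5], 0),
      (10, [0, 2, 0, 2, 2, 0, 2, 0, 2, 2, 0, 2, 5, 0, 4, 0, 2, 2], 0),
      (12, [6, 6], 0),
      (14, [6, 0, 7, 1], 0),
      (16, [6, 2, 7, 3], 0),
      (18, [6, 4, 7, 5], 0)]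
    cen := [8, 10, 12, 14, 16, 18]
    R := []
    sub := [0, 2]
    PR := [[0, 0], [2, 2, 2, 2], [0, 2, 0, 2, 0, 2, 0, 2, 0, 2, 0, 2, 0, 2, 0, 2, 0, 2, 0, 2, 0, 2], [0, 2, 2, 0, 2, 2, 0, 2, 2, 0, 2, 2, 0, 2, 2, 0, 2, 2], [0, 2, 0, 2, 0, 3, 0, 2, 0, 2, 2, 0, 3, 0, 2, 0, 3, 0, 3]] }

/-- the letters of the auxiliary presentation as words of the base group -/
def Wl (l : ℕ) : List ℕ :=
  [[0], [1], [2], [3], [4], [5], [6], [7], [], [], [], [], [], [], [], [], [], [], [], []].getD l []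

theorem checks_eq : checks spec PC2M12.P.invR Wl = SC2M12p3W.chkAll := by decide +kernel

theorem sub_eq : Subgroup.closure (xw PC2M12.P Wl '' {l | l ∈ spec.sub}) = Inst.subG PC2M12.P C2M12A.subs := by
  rw [closure_xw_eq]
  rfl

set_option maxRecDepth 100000 in
theorem noStem : NoStemPrime PC2M12.P.Grp 3 := by
  obtain ⟨fG, hinj, hcard⟩ := C2M12Main.order_aux
  have hchecks : ∀ w ∈ checks spec PC2M12.P.invR Wl, wordP PC2M12.P.gR w = 1 := by
    rw [checks_eq]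
    intro w hw
    exact C2M12A.inst.word_eq_one hinj w (SC2M12p3W.hAll_lt w hw) (SC2M12p3W.hAll w hw)
  exact noStemPrime_pres3 PC2M12.P PC2M12.valid PSC2M12p3.P PSC2M12p3.valid spec (by show Nat.Prime 3; norm_num) Wl
    (by decide +kernel) (by decide +kernel) hchecks (by decide +kernel)
    (by rw [sub_eq]; exact C2M12Main.liftsP_sub 3 (by norm_num) M11pStem.perfect (M11pStem.noStem 3 (by norm_num)))
    7920 (by rw [sub_eq]; exact C2M12Main.sub_card.2)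
    24 (by decide) SC2M12p3A.index_eq fG 190080 hcard (by decide)

end Cfsg.Agent.Lib.Helper4.SC2M12p3Main
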