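import Mathlib
import Cfsg.Agent.Lib.Helper4.M12pMain
import Cfsg.Agent.Lib.Helper4.C2M12Main
import Cfsg.Agent.Lib.Helper4.M11pStem
import Cfsg.Agent.Lib.Helper4.SC2M12p2Main
import Cfsg.Agent.Lib.Helper4.SC2M12p3Main

/-!
The presented group `C2M12` is a perfect central extension of the presented group `M12p` with kernel of order 2,
and it has no stem extension with kernel of prime order.
-/

set_option autoImplicit false

namespace Cfsg.Agent.Lib.Helper4.C2M12Cover

open Cfsg Cfsg.Agent.Lib.Helper4.TC Cfsg.Agent.Lib.Helper4.TCD Cfsg.Agent.Lib.Helper4.TC.Log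
  Cfsg.Agent.Lib.Helper4.Stem

/-- the letters of `C2M12` as words of `M12p`: the central letter is killed -/
def Wl (l : ℕ) : List ℕ := [[0], [1], [2], [3], [4], [5], [], []].getD l []

theorem rel_act : ∀ L ∈ PC2M12.P.real, ∀ i, i < M12pA.T.N →
    Tab.relActOK M12pA.T M12pA.D (L.flatMap Wl) i = true := by decide +kernel

theorem rel_lt : ∀ L ∈ PC2M12.P.real, ∀ x ∈ L.flatMap Wl, x < 6 := by decide +kernel

theorem exists_hom : ∃ π : PC2M12.P.Grp →* PM12p.P.Grp, ∀ l, l < PC2M12.P.k →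
    π (PC2M12.P.gR l) = xw PM12p.P Wl l := by
  obtain ⟨fG, hinj, hcard⟩ := M12pMain.order_aux
  apply exists_hom_of_letters PC2M12.P PC2M12.valid (xw PM12p.P Wl)
  · intro l hl
    have hl : l < 8 := hl
    have h1 : PM12p.P.gR 1 = (PM12p.P.gR 0)⁻¹ := (PM12p.valid.invR_sound 0 (by decide)).2
    have h3 : PM12p.P.gR 3 = (PM12p.P.gR 2)⁻¹ := (PM12p.valid.invR_sound 2 (by decide)).2
    have h5 : PM12p.P.gR 5 = (PM12p.P.gR 4)⁻¹ := (PM12p.valid.invR_sound 4 (by decide)).2
    interval_cases l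
    · show wordP PM12p.P.gR [0] * wordP PM12p.P.gR [1] = 1
      simp only [wordP_cons, wordP_nil, mul_one, h1, mul_inv_cancel]
    · show wordP PM12p.P.gR [1] * wordP PM12p.P.gR [0] = 1
      simp only [wordP_cons, wordP_nil, mul_one, h1, inv_mul_cancel]
    · show wordP PM12p.P.gR [2] * wordP PM12p.P.gR [3] = 1
      simp only [wordP_cons, wordP_nil, mul_one, h3, mul_inv_cancel]
    · show wordP PM12p.P.gR [3] * wordP PM12p.P.gR [2] = 1
      simp only [wordP_cons, wordP_nil, mul_one, h3, inv_mul_cancel]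
    · show wordP PM12p.P.gR [4] * wordP PM12p.P.gR [5] = 1
      simp only [wordP_cons, wordP_nil, mul_one, h5, mul_inv_cancel]
    · show wordP PM12p.P.gR [5] * wordP PM12p.P.gR [4] = 1
      simp only [wordP_cons, wordP_nil, mul_one, h5, inv_mul_cancel]
    · show wordP PM12p.P.gR [] * wordP PM12p.P.gR [] = 1
      simp only [wordP_nil, mul_one]
    · show wordP PM12p.P.gR [] * wordP PM12p.P.gR [] = 1
      simp only [wordP_nil, mul_one]
  · intro L hL
    rw [wordP_xw]
    exact M12pA.inst.word_eq_one hinj _ (rel_lt L hL) (rel_act L hL)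

/-- the covering homomorphism -/
noncomputable def π : PC2M12.P.Grp →* PM12p.P.Grp := Classical.choose exists_hom

theorem π_gR (l : ℕ) (hl : l < 8) : π (PC2M12.P.gR l) = xw PM12p.P Wl l :=
  Classical.choose_spec exists_hom l hl

theorem π_surjective : Function.Surjective π := by
  rw [← MonoidHom.range_eq_top, eq_top_iff, ← PM12p.valid.gen_top, Subgroup.closure_le]
  rintro _ ⟨y, hy, rfl⟩
  have hy : y < 6 := hy
  refine ⟨PC2M12.P.gR y, ?_⟩
  rw [π_gR y (by omega)]
  interval_cases y <;> simp [xw, Wl, wordP_cons, wordP_nil]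

/-- the central element -/
noncomputable def z : PC2M12.P.Grp := PC2M12.P.gR 6

theorem z_mem_ker : z ∈ π.ker := by
  rw [MonoidHom.mem_ker]
  show π (PC2M12.P.gR 6) = 1
  rw [π_gR 6 (by decide)]
  rfl

theorem exists_row : ∃ i, i < C2M12A.T.N ∧ Tab.act C2M12A.T C2M12A.D [6] i ≠ i := by decide +kernel

theorem z_ne_one : z ≠ 1 := by
  obtain ⟨i, hi, h⟩ := exists_row
  have := C2M12A.inst.word_ne_one [6] (by decide) i hi h
  show PC2M12.P.gR 6 ≠ 1
  simpa only [wordP_cons, wordP_nil, mul_one] using this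

theorem card_ker : Nat.card π.ker = 2 := by
  obtain ⟨fG, _, hcard⟩ := C2M12Main.order_aux
  obtain ⟨fG', _, hcard'⟩ := M12pMain.order_aux
  have h := card_eq_of_stem π π_surjective
  rw [hcard, hcard'] at h
  omega

theorem z_sq : z * z = 1 := by
  have h := (PC2M12.valid.real_sound [6, 6] (by decide +kernel)).2
  show PC2M12.P.gR 6 * PC2M12.P.gR 6 = 1
  simpa only [wordP_cons, wordP_nil, mul_one] using h

theorem ker_eq : π.ker = Subgroup.zpowers z := by
  symm
  have hfin : Finite π.ker := Nat.finite_of_card_ne_zero (by rw [card_ker]; decide)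
  apply Subgroup.eq_of_le_of_card_ge
  · rw [Subgroup.zpowers_le]
    exact z_mem_ker
  · rw [card_ker, Nat.card_zpowers]
    have h2 : orderOf z ∣ 2 := orderOf_dvd_of_pow_eq_one (by rw [pow_two]; exact z_sq)
    have h1 : orderOf z ≠ 1 := fun h => z_ne_one (orderOf_eq_one_iff.1 h)
    rcases (Nat.dvd_prime Nat.prime_two).1 h2 with h | h
    · exact absurd h h1
    · rw [h]

theorem comm_rel : ∀ x ∈ [0, 2, 4], [6, x, 7, PC2M12.P.invR x] ∈ PC2M12.P.real := by decide +kernel

theorem z_comm (x : ℕ) (hx : x < 8) : z * PC2M12.P.gR x = PC2M12.P.gR x * z := by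
  have hinv : ∀ y, y < 8 → PC2M12.P.gR (PC2M12.P.invR y) = (PC2M12.P.gR y)⁻¹ := fun y hy =>
    (PC2M12.valid.invR_sound y (by show y ≤ 8; omega)).2
  have hpos : ∀ x ∈ [0, 2, 4], z * PC2M12.P.gR x = PC2M12.P.gR x * z := by
    intro x hx
    have h := (PC2M12.valid.real_sound _ (comm_rel x hx)).2
    have hx8 : x < 8 := by
      simp only [List.mem_cons, List.not_mem_nil, or_false] at hx
      omega
    simp only [wordP_cons, wordP_nil, mul_one] at h
    have h7 : PC2M12.P.gR 7 = z⁻¹ := hinv 6 (by decide)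
    rw [h7, hinv x hx8] at h
    have h' : z * (PC2M12.P.gR x * (z⁻¹ * (PC2M12.P.gR x)⁻¹)) = 1 := h
    calc z * PC2M12.P.gR x = (z * (PC2M12.P.gR x * (z⁻¹ * (PC2M12.P.gR x)⁻¹))) * (PC2M12.P.gR x * z) := by group
      _ = PC2M12.P.gR x * z := by rw [h', one_mul]
  have hneg : ∀ x ∈ [0, 2, 4], z * (PC2M12.P.gR x)⁻¹ = (PC2M12.P.gR x)⁻¹ * z := by
    intro x hx
    have := hpos x hx
    calc z * (PC2M12.P.gR x)⁻¹ = (PC2M12.P.gR x)⁻¹ * (PC2M12.P.gR x * z) * (PC2M12.P.gR x)⁻¹ := by group
      _ = (PC2M12.P.gR x)⁻¹ * (z * PC2M12.P.gR x) * (PC2M12.P.gR x)⁻¹ := by rw [this]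
      _ = (PC2M12.P.gR x)⁻¹ * z := by group
  interval_cases x
  · exact hpos 0 (by decide)
  · have := hneg 0 (by decide)
    rwa [← hinv 0 (by decide)] at this
  · exact hpos 2 (by decide)
  · have := hneg 2 (by decide)
    rwa [← hinv 2 (by decide)] at this
  · exact hpos 4 (by decide)
  · have := hneg 4 (by decide)
    rwa [← hinv 4 (by decide)] at this
  · rfl
  · have h7 : PC2M12.P.gR 7 = z⁻¹ := hinv 6 (by decide)
    rw [h7, mul_inv_cancel, inv_mul_cancel]

theorem z_central : z ∈ Subgroup.center PC2M12.P.Grp := by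
  rw [Subgroup.mem_center_iff]
  intro γ
  have hγ : γ ∈ Subgroup.closure (PC2M12.P.gR '' Set.Iio PC2M12.P.k) := by
    rw [PC2M12.valid.gen_top]
    trivial
  induction hγ using Subgroup.closure_induction with
  | mem s hs =>
    obtain ⟨x, hx, rfl⟩ := hs
    exact (z_comm x hx).symm
  | one => simp
  | mul a b _ _ iha ihb => rw [mul_assoc, ihb, ← mul_assoc, iha, mul_assoc]
  | inv a _ iha =>
    calc a⁻¹ * z = a⁻¹ * (z * a) * a⁻¹ := by group
      _ = a⁻¹ * (a * z) * a⁻¹ := by rw [iha]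
      _ = z * a⁻¹ := by group

/-- the generators are products of commutators -/
theorem gR_mem_commutator (l : ℕ) (hl : l < 8) : PC2M12.P.gR l ∈ commutator PC2M12.P.Grp := by
  obtain ⟨fG, hinj, hcard⟩ := C2M12Main.order_aux
  have hinv : ∀ y, y < 8 → PC2M12.P.gR (PC2M12.P.invR y) = (PC2M12.P.gR y)⁻¹ := fun y hy =>
    (PC2M12.valid.invR_sound y (by show y ≤ 8; omega)).2
  have ha : PC2M12.P.gR 0 ∈ commutator PC2M12.P.Grp := by
    have := map_mem_commutator C2M12Main.embK_emb.hom M11pStem.perfect (PM11p.P.gR 0)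
    rwa [C2M12Main.embK_emb.hom_gR 0 (by decide)] at this
  have hb : PC2M12.P.gR 2 ∈ commutator PC2M12.P.Grp := by
    have := map_mem_commutator C2M12Main.embK_emb.hom M11pStem.perfect (PM11p.P.gR 2)
    rwa [C2M12Main.embK_emb.hom_gR 2 (by decide)] at this
  have hg : PC2M12.P.gR 4 ∈ commutator PC2M12.P.Grp := by
    apply mem_commutator_of_normalizer (PC2M12.P.gR 4) (wordP PC2M12.P.gR [0, 3, 0, 2, 0, 2, 2]) 5 11 3
    · have h1 : (wordP PC2M12.P.gR [0, 3, 0, 2, 0, 2, 2])⁻¹ = wordP PC2M12.P.gR [3, 3, 1, 3, 1, 2, 1] := by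
        rw [← Chain.wordP_invWord' PC2M12.P.gR PC2M12.P.invR _ (fun l hl => hinv l (by
          simp only [List.mem_cons, List.not_mem_nil, or_false] at hl; omega))]
        rfl
      rw [h1]
      have h2 := C2M12A.inst.word_eq_word hinj ([3, 3, 1, 3, 1, 2, 1] ++ [4] ++ [0, 3, 0, 2, 0, 2, 2]) [4, 4, 4, 4, 4]
        (by decide) (by decide) (by decide +kernel)
      rw [wordP_append, wordP_append] at h2
      simpa only [wordP_cons, wordP_nil, mul_one, pow_succ, pow_zero, one_mul, mul_assoc] using h2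
    · have h := (PC2M12.valid.real_sound (List.replicate 11 4) (by decide +kernel)).2
      have e : wordP PC2M12.P.gR (List.replicate 11 4) = PC2M12.P.gR 4 ^ 11 := by
        have := wordP_replicate_flatten PC2M12.P.gR 11 [4]
        simpa using this
      rw [← e]
      exact h
    · decide
  have hz : PC2M12.P.gR 6 ∈ commutator PC2M12.P.Grp := by
    have h2 := C2M12A.inst.word_eq_word hinj [6] [0, 2, 0, 2, 0, 2, 2, 0, 2, 2, 5, 2, 0, 2, 5]
      (by decide) (by decide) (by decide +kernel)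
    have e : wordP PC2M12.P.gR [6] = PC2M12.P.gR 6 := by rw [wordP_cons, wordP_nil, mul_one]
    rw [← e, h2]
    apply Sgs.wordP_mem_closure
    intro l hl
    have hl' : l = 0 ∨ l = 2 ∨ l = 5 := by
      revert l
      decide
    rcases hl' with rfl | rfl | rfl
    · exact ha
    · exact hb
    · rw [show (5 : ℕ) = PC2M12.P.invR 4 from rfl, hinv 4 (by decide)]
      exact Subgroup.inv_mem _ hg
  interval_cases l
  · exact ha
  · rw [show (1 : ℕ) = PC2M12.P.invR 0 from rfl, hinv 0 (by decide)]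
    exact Subgroup.inv_mem _ ha
  · exact hb
  · rw [show (3 : ℕ) = PC2M12.P.invR 2 from rfl, hinv 2 (by decide)]
    exact Subgroup.inv_mem _ hb
  · exact hg
  · rw [show (5 : ℕ) = PC2M12.P.invR 4 from rfl, hinv 4 (by decide)]
    exact Subgroup.inv_mem _ hg
  · exact hz
  · rw [show (7 : ℕ) = PC2M12.P.invR 6 from rfl, hinv 6 (by decide)]
    exact Subgroup.inv_mem _ hz

theorem perfect : commutator PC2M12.P.Grp = ⊤ :=
  commutator_eq_top_of_letters PC2M12.P PC2M12.valid gR_mem_commutator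

/-- the covering homomorphism is a stem extension -/
theorem isStem : IsStemExtension π := by
  refine ⟨π_surjective, ?_, ?_⟩
  · rw [ker_eq, Subgroup.zpowers_le]
    exact z_central
  · rw [perfect]
    exact le_top

/-- the kernel is cyclic of order 2 -/
theorem ker_equiv : Nonempty (π.ker ≃* Multiplicative (ZMod 2)) := by
  have : Fact (Nat.Prime 2) := ⟨Nat.prime_two⟩
  have h2 : Nat.card (Multiplicative (ZMod 2)) = 2 := by
    rw [Nat.card_eq_fintype_card]
    exact ZMod.card 2
  exact ⟨mulEquivOfPrimeCardEq card_ker h2⟩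

/-- no stem extension with kernel of prime order -/
theorem noStem : ∀ p, p.Prime → NoStemPrime PC2M12.P.Grp p := by
  obtain ⟨fG, _, hcard⟩ := C2M12Main.order_aux
  have := fG
  apply noStemPrime_all PC2M12.P.Grp [2, 3]
  · intro p hp
    simp only [List.mem_cons, List.not_mem_nil, or_false] at hp
    rcases hp with rfl | rfl
    · exact SC2M12p2Main.noStem
    · exact SC2M12p3Main.noStem
  · rw [hcard]
    exact sq_dvd_mem_of_factors 190080 [2, 2, 2, 2, 2, 2, 2, 3, 3, 3, 5, 11] (by norm_num) (by decide) [2, 3]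
      (by decide)

end Cfsg.Agent.Lib.Helper4.C2M12Cover
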