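import Mathlib
import Cfsg.Agent.Lib.Helper4.TCD_G23pA_Fin
import Cfsg.Agent.Lib.Helper4.TCD_G23pL_Fin
import Cfsg.Agent.Lib.Helper4.U33pMain
import Cfsg.Agent.Lib.Helper4.TC16
import Cfsg.Agent.Lib.Helper4.TC20

/-!
The presented group `G23p` (the group G2(3)) has order 4245696 and acts faithfully on 702 points.
Upper bound: the subgroup generated by `c` and `d` has index 702 and is an image of the presented group `U33p`
of order 6048.  Lower bound: a strong generating set in the permutation representation.
-/

set_option autoImplicit false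

namespace Cfsg.Agent.Lib.Helper4.G23pMain

open Cfsg.Agent.Lib.Helper4.TC Cfsg.Agent.Lib.Helper4.TCD Cfsg.Agent.Lib.Helper4.TC.Log

/-- the relators of `U33p` are relators of `G23p` -/
theorem rel_sub : ∀ L ∈ PU33p.P.real, L ∈ PG23p.P.real := by decide +kernel

theorem exists_f : ∃ f : PU33p.P.Grp →* PG23p.P.Grp, ∀ l, l < PU33p.P.k →
    f (PU33p.P.gR l) = PG23p.P.gR l := by
  apply exists_hom_of_letters PU33p.P PU33p.valid PG23p.P.gR
  · intro l hl
    have hl : l < 4 := hl
    have e : PU33p.P.invR l = PG23p.P.invR l := by interval_cases l <;> rfl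
    rw [e, (PG23p.valid.invR_sound l (by show l ≤ 6; omega)).2, mul_inv_cancel]
  · intro L hL
    exact (PG23p.valid.real_sound L (rel_sub L hL)).2

/-- the homomorphism from `U33p` -/
noncomputable def f : PU33p.P.Grp →* PG23p.P.Grp := Classical.choose exists_f

theorem f_gR (l : ℕ) (hl : l < 4) : f (PU33p.P.gR l) = PG23p.P.gR l := Classical.choose_spec exists_f l hl

theorem sub_le_range : Inst.subG PG23p.P G23pA.subs ≤ f.range := by
  unfold Inst.subG
  rw [Subgroup.closure_le]
  rintro _ ⟨u, hu, rfl⟩
  simp only [G23pA.subs, List.mem_cons, List.not_mem_nil, or_false] at hu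
  rcases hu with rfl | rfl
  · exact ⟨PU33p.P.gR 0, by rw [f_gR 0 (by decide), wordP_cons, wordP_nil, mul_one]⟩
  · exact ⟨PU33p.P.gR 2, by rw [f_gR 2 (by decide), wordP_cons, wordP_nil, mul_one]⟩

/-- the subgroup generated by `c` and `d` is an image of `U33p` -/
theorem sub_card : Finite (Inst.subG PG23p.P G23pA.subs) ∧ Nat.card (Inst.subG PG23p.P G23pA.subs) ≤ 6048 := by
  obtain ⟨fK, _, cK⟩ := U33pMain.order_aux
  have := fK
  have fr : Finite f.range := Finite.of_surjective f.rangeRestrict f.rangeRestrict_surjective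
  have cr : Nat.card f.range ≤ 6048 := by
    rw [← cK]
    exact Nat.card_le_card_of_surjective f.rangeRestrict f.rangeRestrict_surjective
  have hinj : Function.Injective (Subgroup.inclusion sub_le_range) := Subgroup.inclusion_injective _
  refine ⟨Finite.of_injective _ hinj, le_trans (Nat.card_le_card_of_injective _ hinj) cr⟩

/-- the order and the faithful permutation representation -/
theorem order_aux : Finite PG23p.P.Grp ∧ Function.Injective G23pA.inst.phi ∧ Nat.card PG23p.P.Grp = 4245696 := by
  obtain ⟨f1, c1⟩ := sub_card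
  obtain ⟨fG, cG⟩ := G23pA.inst.card_le 6048 f1 c1
  have hub : Nat.card PG23p.P.Grp ≤ 4245696 := le_trans cG (by decide)
  obtain ⟨hinj, hcard⟩ := G23pA.inst.card_eq G23pL.S rfl rfl G23pL.htab0 G23pL.ok 4245696 (by decide)
    G23pL.prod_eq fG hub
  exact ⟨fG, hinj, hcard⟩

end Cfsg.Agent.Lib.Helper4.G23pMain
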