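import Cfsg.Agent.Lib.Helper4.TCD_O73pA_Acc
import Cfsg.Agent.Lib.Helper4.TC13

namespace Cfsg.Agent.Lib.Helper4.TCD.O73p5Q

open Cfsg.Agent.Lib.Helper4.TC Cfsg.Agent.Lib.Helper4.TCD.O73pA

set_option maxRecDepth 100000
set_option Elab.async false

def xw : List Nat := [0, 6, 4, 3]

noncomputable def actX (i : Nat) : Nat := col1 (col7 (col5 (col2 (col1 (col7 (col5 (col2 (col1 (col7 (col5 (col2 (col1 (col7 (col5 (col2 (col1 (col7 (col5 (col2 (i))))))))))))))))))))
theorem actX_eq (i : Nat) : actX i = Tab.act T D (List.replicate 5 xw).flatten i := rfl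
theorem c_xq_0 : allRange (fun i => Nat.beq (actX i) i) 0 1080 = true := by decide +kernel
theorem h_xq_p0 : ∀ i, 0 ≤ i → i < 1080 → Nat.beq (actX i) i = true :=
  (range_of_allRange c_xq_0)
theorem h_xq : ∀ i, i < T.N → Tab.relActOK T D (List.replicate 5 xw).flatten i = true := by
  intro i hi
  rw [Tab.relActOK, ← actX_eq]
  exact h_xq_p0 i (Nat.zero_le _) hi

end Cfsg.Agent.Lib.Helper4.TCD.O73p5Q
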