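import Mathlib
import Cfsg.Agent.Lib.Helper4.G23pMain
import Cfsg.Agent.Lib.Helper4.TCD_O73pA_Fin
import Cfsg.Agent.Lib.Helper4.TCD_O73pL_Fin
import Cfsg.Agent.Lib.Helper4.TCD_O73pX5_Fin
import Cfsg.Agent.Lib.Helper4.TCD_O73p5Q
import Cfsg.Agent.Lib.Helper4.TC16
import Cfsg.Agent.Lib.Helper4.RelLib
import Cfsg.Agent.Lib.Helper4.StemLib6

/-! The presented group `O73p` has order 4585351680 and contains the presented group `G23p` (generated). -/

namespace Cfsg.Agent.Lib.Helper4.O73pMain

open Cfsg.Agent.Lib.Helper4.TC Cfsg.Agent.Lib.Helper4.TCD Cfsg.Agent.Lib.Helper4.TC.Log Cfsg.Agent.Lib.Helper4.Stem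

/-- the letters of `G23p` as letters of `O73p` -/
def embK (l : ℕ) : ℕ := [0, 1, 2, 3, 4, 5].getD l 8

theorem real_subK : ∀ L ∈ PG23p.P.real, L.map embK ∈ PO73p.P.real := by decide +kernel

theorem embK_emb : LetterEmb PG23p.P PO73p.P embK where
  hP := PG23p.valid
  hQ := PO73p.valid
  hlt := by
    intro l hl
    have hl : l < 6 := hl
    show embK l < 8
    interval_cases l <;> decide
  hinv := by
    intro l hl
    have hl : l < 6 := hl
    interval_cases l <;> rfl
  hrel := by
    intro L hL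
    exact (PO73p.valid.real_sound _ (real_subK L hL)).2

/-- the words generating `G23p` -/
def subsK : List (List ℕ) := [[0], [2], [4]]

theorem subsK_map : subsK.map (List.map embK) = O73pA.subs := by decide

theorem subG_K_top : Inst.subG PG23p.P subsK = ⊤ := by
  rw [eq_top_iff, ← PG23p.valid.gen_top, Subgroup.closure_le]
  rintro _ ⟨l, hl, rfl⟩
  have hl : l < 6 := hl
  interval_cases l
  · exact Subgroup.subset_closure ⟨[0], by decide, by rw [wordP_cons, wordP_nil, mul_one]⟩
  · have h : PG23p.P.gR 1 = (PG23p.P.gR 0)⁻¹ := (PG23p.valid.invR_sound 0 (by decide)).2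
    rw [h]
    exact Subgroup.inv_mem _ (Subgroup.subset_closure ⟨[0], by decide, by rw [wordP_cons, wordP_nil, mul_one]⟩)
  · exact Subgroup.subset_closure ⟨[2], by decide, by rw [wordP_cons, wordP_nil, mul_one]⟩
  · have h : PG23p.P.gR 3 = (PG23p.P.gR 2)⁻¹ := (PG23p.valid.invR_sound 2 (by decide)).2
    rw [h]
    exact Subgroup.inv_mem _ (Subgroup.subset_closure ⟨[2], by decide, by rw [wordP_cons, wordP_nil, mul_one]⟩)
  · exact Subgroup.subset_closure ⟨[4], by decide, by rw [wordP_cons, wordP_nil, mul_one]⟩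
  · have h : PG23p.P.gR 5 = (PG23p.P.gR 4)⁻¹ := (PG23p.valid.invR_sound 4 (by decide)).2
    rw [h]
    exact Subgroup.inv_mem _ (Subgroup.subset_closure ⟨[4], by decide, by rw [wordP_cons, wordP_nil, mul_one]⟩)

theorem range_hom : embK_emb.hom.range = Inst.subG PO73p.P O73pA.subs := by
  rw [MonoidHom.range_eq_map, ← subG_K_top, embK_emb.map_subG subsK (by decide), subsK_map]

/-- the subgroup is an image of `G23p` -/
theorem sub_card : Finite (Inst.subG PO73p.P O73pA.subs) ∧ Nat.card (Inst.subG PO73p.P O73pA.subs) ≤ 4245696 := by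
  obtain ⟨fK, _, cK⟩ := G23pMain.order_aux
  rw [← range_hom]
  have := fK
  refine ⟨Finite.of_surjective embK_emb.hom.rangeRestrict embK_emb.hom.rangeRestrict_surjective, ?_⟩
  rw [← cK]
  exact Nat.card_le_card_of_surjective embK_emb.hom.rangeRestrict embK_emb.hom.rangeRestrict_surjective

/-- the order and the faithful permutation representation -/
theorem order_aux : Finite PO73p.P.Grp ∧ Function.Injective O73pA.inst.phi ∧ Nat.card PO73p.P.Grp = 4585351680 := by
  obtain ⟨fs, cs⟩ := sub_card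
  obtain ⟨fG, cG⟩ := O73pA.inst.card_le _ fs cs
  have hub : Nat.card PO73p.P.Grp ≤ 4585351680 := le_trans cG (by decide)
  obtain ⟨hinj, hcard⟩ := O73pA.inst.card_eq O73pL.S rfl rfl O73pL.htab0 O73pL.ok 4585351680 (by decide)
    O73pL.prod_eq fG hub
  exact ⟨fG, hinj, hcard⟩


theorem horb : OrbCond (Inst.subG PO73p.P O73pA.subs) O73pA.inst.equiv [1, 351, 728] 0 := by
  refine ⟨?_, ?_, ?_, trivial⟩
  · intro j j' _ h2 _ h4
    have e1 : j = j' := Fin.ext (by omega)
    exact ⟨1, one_mem _, by rw [one_smul, e1]⟩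
  · intro j j' h1 h2 h3 h4
    exact O73pA.inst.trans_of_orbit_eq 1 352 (by decide) (by decide)
      (O73pA.inst.orbit_eq O73pA.oparTab O73pA.olabTab 1 352 (by decide) (by decide) O73pA.orb_inv_0 O73pA.orb_tree_0)
      j j' (by omega) (by omega) (by omega) (by omega)
  · intro j j' h1 h2 h3 h4
    exact O73pA.inst.trans_of_orbit_eq 352 1080 (by decide) (by decide)
      (O73pA.inst.orbit_eq O73pA.oparTab O73pA.olabTab 352 1080 (by decide) (by decide) O73pA.orb_inv_1 O73pA.orb_tree_1)
      j j' (by omega) (by omega) (by omega) (by omega)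

theorem simple_aux : IsSimpleGroup PO73p.P.Grp := by
  obtain ⟨fG, hinj, hcard⟩ := order_aux
  apply O73pA.inst.simple2 hinj fG [1, 351, 728] (by decide) horb (by decide) [5]
  · intro q hq
    simp only [List.mem_cons, List.not_mem_nil, or_false] at hq
    rcases hq with rfl
    · refine ⟨by norm_num, by rw [hcard]; decide, Log.wordP PO73p.P.gR O73pX5.xw, ?_, O73pX5.normalClosure_eq_top⟩
      exact O73pA.inst.pow_eq_one hinj O73pX5.xw (by decide) 5 O73p5Q.h_xq
  · decide +kernel

end Cfsg.Agent.Lib.Helper4.O73pMain
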