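import Cfsg.Agent.Lib.Helper4.TCD_C2O73R_C0

namespace Cfsg.Agent.Lib.Helper4.TCD.C2O73R

open Cfsg.Agent.Lib.Helper4.TC

theorem h_perm : ∀ i, 0 ≤ i → i < 2160 → ∀ x, x < 10 → T.permOK1 D i x = true :=
  (range_of_allGrid c_perm_0)
theorem h_act0 : ∀ i, 0 ≤ i → i < 2160 → Nat.beq (actR0 i) i = true :=
  (range_of_allRange c_act0_0)
theorem h_act1 : ∀ i, 0 ≤ i → i < 2160 → Nat.beq (actR1 i) i = true :=
  (range_of_allRange c_act1_0)
theorem h_act2 : ∀ i, 0 ≤ i → i < 2160 → Nat.beq (actR2 i) i = true :=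
  (range_of_allRange c_act2_0)
theorem h_act3 : ∀ i, 0 ≤ i → i < 2160 → Nat.beq (actR3 i) i = true :=
  (range_of_allRange c_act3_0)
theorem h_act4 : ∀ i, 0 ≤ i → i < 2160 → Nat.beq (actR4 i) i = true :=
  (range_of_allRange c_act4_0)
theorem h_act5 : ∀ i, 0 ≤ i → i < 2160 → Nat.beq (actR5 i) i = true :=
  (range_of_allRange c_act5_0)
theorem h_act6 : ∀ i, 0 ≤ i → i < 2160 → Nat.beq (actR6 i) i = true :=
  (range_of_allRange c_act6_0)
theorem h_act7 : ∀ i, 0 ≤ i → i < 2160 → Nat.beq (actR7 i) i = true :=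
  (range_of_allRange c_act7_0)
theorem h_act8 : ∀ i, 0 ≤ i → i < 2160 → Nat.beq (actR8 i) i = true :=
  (range_of_allRange c_act8_0)
theorem h_act9 : ∀ i, 0 ≤ i → i < 2160 → Nat.beq (actR9 i) i = true :=
  (range_of_allRange c_act9_0)
theorem h_act10 : ∀ i, 0 ≤ i → i < 2160 → Nat.beq (actR10 i) i = true :=
  (range_of_allRange c_act10_0)
theorem h_act11 : ∀ i, 0 ≤ i → i < 2160 → Nat.beq (actR11 i) i = true :=
  (range_of_allRange c_act11_0)
theorem h_act12 : ∀ i, 0 ≤ i → i < 2160 → Nat.beq (actR12 i) i = true :=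
  (range_of_allRange c_act12_0)
theorem h_act13 : ∀ i, 0 ≤ i → i < 2160 → Nat.beq (actR13 i) i = true :=
  (range_of_allRange c_act13_0)
theorem h_act14 : ∀ i, 0 ≤ i → i < 2160 → Nat.beq (actR14 i) i = true :=
  (range_of_allRange c_act14_0)
theorem h_act15 : ∀ i, 0 ≤ i → i < 2160 → Nat.beq (actR15 i) i = true :=
  (range_of_allRange c_act15_0)
theorem h_act16 : ∀ i, 0 ≤ i → i < 2160 → Nat.beq (actR16 i) i = true :=
  (range_of_allRange c_act16_0)
theorem h_act17 : ∀ i, 0 ≤ i → i < 2160 → Nat.beq (actR17 i) i = true :=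
  (range_of_allRange c_act17_0)
theorem h_act18 : ∀ i, 0 ≤ i → i < 2160 → Nat.beq (actR18 i) i = true :=
  (range_of_allRange c_act18_0)
theorem h_act19 : ∀ i, 0 ≤ i → i < 2160 → Nat.beq (actR19 i) i = true :=
  (range_of_allRange c_act19_0)
theorem h_act20 : ∀ i, 0 ≤ i → i < 2160 → Nat.beq (actR20 i) i = true :=
  (range_of_allRange c_act20_0)
theorem h_act21 : ∀ i, 0 ≤ i → i < 2160 → Nat.beq (actR21 i) i = true :=
  (range_of_allRange c_act21_0)
theorem h_act22 : ∀ i, 0 ≤ i → i < 2160 → Nat.beq (actR22 i) i = true :=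
  (range_of_allRange c_act22_0)
theorem h_act23 : ∀ i, 0 ≤ i → i < 2160 → Nat.beq (actR23 i) i = true :=
  (range_of_allRange c_act23_0)
theorem h_act24 : ∀ i, 0 ≤ i → i < 2160 → Nat.beq (actR24 i) i = true :=
  (range_of_allRange c_act24_0)
theorem h_act25 : ∀ i, 0 ≤ i → i < 2160 → Nat.beq (actR25 i) i = true :=
  (range_of_allRange c_act25_0)
theorem h_act26 : ∀ i, 0 ≤ i → i < 2160 → Nat.beq (actR26 i) i = true :=
  (range_of_allRange c_act26_0)
theorem h_act27 : ∀ i, 0 ≤ i → i < 2160 → Nat.beq (actR27 i) i = true :=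
  (range_of_allRange c_act27_0)
theorem h_act28 : ∀ i, 0 ≤ i → i < 2160 → Nat.beq (actR28 i) i = true :=
  (range_of_allRange c_act28_0)
theorem h_act29 : ∀ i, 0 ≤ i → i < 2160 → Nat.beq (actR29 i) i = true :=
  (range_of_allRange c_act29_0)
theorem h_act30 : ∀ i, 0 ≤ i → i < 2160 → Nat.beq (actR30 i) i = true :=
  (range_of_allRange c_act30_0)
theorem h_act31 : ∀ i, 0 ≤ i → i < 2160 → Nat.beq (actR31 i) i = true :=
  (range_of_allRange c_act31_0)
theorem h_act32 : ∀ i, 0 ≤ i → i < 2160 → Nat.beq (actR32 i) i = true :=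
  (range_of_allRange c_act32_0)
theorem h_act33 : ∀ i, 0 ≤ i → i < 2160 → Nat.beq (actR33 i) i = true :=
  (range_of_allRange c_act33_0)
theorem h_act34 : ∀ i, 0 ≤ i → i < 2160 → Nat.beq (actR34 i) i = true :=
  (range_of_allRange c_act34_0)

theorem h_act : ∀ L ∈ PC2O73.P.real, ∀ i, i < T.N → Tab.relActOK T D L i = true := by
  rw [c_real]
  intro L hL
  simp only [realLit, List.mem_cons, List.not_mem_nil, or_false] at hL
  rcases hL with rfl | rfl | rfl | rfl | rfl | rfl | rfl | rfl | rfl | rfl | rfl | rfl | rfl | rfl | rfl | rfl | rfl | rfl | rfl | rfl | rfl | rfl | rfl | rfl | rfl | rfl | rfl | rfl | rfl | rfl | rfl | rfl | rfl | rfl | rfl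
  · intro i hi
    rw [Tab.relActOK, ← actR0_eq]
    exact h_act0 i (Nat.zero_le _) hi
  · intro i hi
    rw [Tab.relActOK, ← actR1_eq]
    exact h_act1 i (Nat.zero_le _) hi
  · intro i hi
    rw [Tab.relActOK, ← actR2_eq]
    exact h_act2 i (Nat.zero_le _) hi
  · intro i hi
    rw [Tab.relActOK, ← actR3_eq]
    exact h_act3 i (Nat.zero_le _) hi
  · intro i hi
    rw [Tab.relActOK, ← actR4_eq]
    exact h_act4 i (Nat.zero_le _) hi
  · intro i hi
    rw [Tab.relActOK, ← actR5_eq]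
    exact h_act5 i (Nat.zero_le _) hi
  · intro i hi
    rw [Tab.relActOK, ← actR6_eq]
    exact h_act6 i (Nat.zero_le _) hi
  · intro i hi
    rw [Tab.relActOK, ← actR7_eq]
    exact h_act7 i (Nat.zero_le _) hi
  · intro i hi
    rw [Tab.relActOK, ← actR8_eq]
    exact h_act8 i (Nat.zero_le _) hi
  · intro i hi
    rw [Tab.relActOK, ← actR9_eq]
    exact h_act9 i (Nat.zero_le _) hi
  · intro i hi
    rw [Tab.relActOK, ← actR10_eq]
    exact h_act10 i (Nat.zero_le _) hi
  · intro i hi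
    rw [Tab.relActOK, ← actR11_eq]
    exact h_act11 i (Nat.zero_le _) hi
  · intro i hi
    rw [Tab.relActOK, ← actR12_eq]
    exact h_act12 i (Nat.zero_le _) hi
  · intro i hi
    rw [Tab.relActOK, ← actR13_eq]
    exact h_act13 i (Nat.zero_le _) hi
  · intro i hi
    rw [Tab.relActOK, ← actR14_eq]
    exact h_act14 i (Nat.zero_le _) hi
  · intro i hi
    rw [Tab.relActOK, ← actR15_eq]
    exact h_act15 i (Nat.zero_le _) hi
  · intro i hi
    rw [Tab.relActOK, ← actR16_eq]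
    exact h_act16 i (Nat.zero_le _) hi
  · intro i hi
    rw [Tab.relActOK, ← actR17_eq]
    exact h_act17 i (Nat.zero_le _) hi
  · intro i hi
    rw [Tab.relActOK, ← actR18_eq]
    exact h_act18 i (Nat.zero_le _) hi
  · intro i hi
    rw [Tab.relActOK, ← actR19_eq]
    exact h_act19 i (Nat.zero_le _) hi
  · intro i hi
    rw [Tab.relActOK, ← actR20_eq]
    exact h_act20 i (Nat.zero_le _) hi
  · intro i hi
    rw [Tab.relActOK, ← actR21_eq]
    exact h_act21 i (Nat.zero_le _) hi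
  · intro i hi
    rw [Tab.relActOK, ← actR22_eq]
    exact h_act22 i (Nat.zero_le _) hi
  · intro i hi
    rw [Tab.relActOK, ← actR23_eq]
    exact h_act23 i (Nat.zero_le _) hi
  · intro i hi
    rw [Tab.relActOK, ← actR24_eq]
    exact h_act24 i (Nat.zero_le _) hi
  · intro i hi
    rw [Tab.relActOK, ← actR25_eq]
    exact h_act25 i (Nat.zero_le _) hi
  · intro i hi
    rw [Tab.relActOK, ← actR26_eq]
    exact h_act26 i (Nat.zero_le _) hi
  · intro i hi
    rw [Tab.relActOK, ← actR27_eq]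
    exact h_act27 i (Nat.zero_le _) hi
  · intro i hi
    rw [Tab.relActOK, ← actR28_eq]
    exact h_act28 i (Nat.zero_le _) hi
  · intro i hi
    rw [Tab.relActOK, ← actR29_eq]
    exact h_act29 i (Nat.zero_le _) hi
  · intro i hi
    rw [Tab.relActOK, ← actR30_eq]
    exact h_act30 i (Nat.zero_le _) hi
  · intro i hi
    rw [Tab.relActOK, ← actR31_eq]
    exact h_act31 i (Nat.zero_le _) hi
  · intro i hi
    rw [Tab.relActOK, ← actR32_eq]
    exact h_act32 i (Nat.zero_le _) hi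
  · intro i hi
    rw [Tab.relActOK, ← actR33_eq]
    exact h_act33 i (Nat.zero_le _) hi
  · intro i hi
    rw [Tab.relActOK, ← actR34_eq]
    exact h_act34 i (Nat.zero_le _) hi

theorem prep : PRep PC2O73.P T D where
  hP := PC2O73.valid
  hk := rfl
  hinv := fun _ _ => rfl
  hperm := fun i x hi hx => h_perm i (Nat.zero_le _) hi x hx
  hlet := fun x hx => allBelow_eq_true.1 c_let x hx
  hact := h_act

end Cfsg.Agent.Lib.Helper4.TCD.C2O73R
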