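import Mathlib

/-! Data for the isomorphism of the presented group `G23p` with the Chevalley group `G₂(3)` (generated). -/

namespace Cfsg.Agent.Lib.Helper4.G23Iso

/-- the word in root elements of the image of a letter -/
def wC : List (ℕ × ZMod 3) := [(1, 1), (11, 2), (5, 1), (7, 1), (3, 1), (4, 1), (2, 1)]
/-- its packed matrix -/
def tC : ℕ := 15401358101993157080720433207849542734145800022808688989798957990242755308200230795214767180317454781461248341324858155081413446668436696078362715560389167265159792526482944928769786355821871764907771007126103473926631278961552917637487402406694204348297281321857983785858449927569703336470706654810055863902074299281888945269301311680172007424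

/-- the word in root elements of the image of a letter -/
def wCi : List (ℕ × ZMod 3) := [(2, 2), (4, 2), (3, 2), (7, 2), (5, 2), (11, 1), (1, 2)]
/-- its packed matrix -/
def tCi : ℕ := 16537082325339659283651677767117137251436809195274079576213903578804254688647832912432903799719644919039956017571004197666023938016195757993195092594321409944433606673388069596130408398283052612042682946013687040780236441246572798651038216884683965641264998357741297557173704941352719862785350619625989964637281728240524494086002917353879895995750809600

/-- the word in root elements of the image of a letter -/
def wD : List (ℕ × ZMod 3) := [(7, 1), (3, 1), (5, 2), (11, 1), (1, 2), (5, 2), (11, 1), (1, 2), (7, 2), (3, 2)]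
/-- its packed matrix -/
def tD : ℕ := 32071917251971162474820398956184904008875889299034853231931639539187747235891824067905642130906928417809285242076318060280397642635330333691926476626018894792562948424125402201317645106271940260185121893292357523691886409186880266085719070500751105397794549547052821135152856513432310916200715040962137973652069295030404023360209632261815091604020793410

/-- the word in root elements of the image of a letter -/
def wDi : List (ℕ × ZMod 3) := [(3, 1), (7, 1), (1, 1), (11, 2), (5, 1), (1, 1), (11, 2), (5, 1), (3, 2), (7, 2)]
/-- its packed matrix -/
def tDi : ℕ := 250561883280002157998924876878100554051146160239498012759207842296166245543008109492283168002122015040518417371350581737003170968626847047676537839808424499368006677960553464196469165899839606802863546999601000118171915039257537844665616740816420721257513840428038755462149451846028164698208716773177751710570645738261658992938494741031759994559930434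

/-- the word in root elements of the image of a letter -/
def wT : List (ℕ × ZMod 3) := [(1, 1)]
/-- its packed matrix -/
def tT : ℕ := 16035958618284902179676459832081210260321978332520247026689081194056190650100789275327475253394387895825835144180501082389064118700635537542300508245682272961885580921508045846812182270158231913637022358892273659822117093815940391102168248253491844719580999888724422796358363632206077899822266046770107883256778912675929622502323867251447382310599524353

/-- the word in root elements of the image of a letter -/
def wTi : List (ℕ × ZMod 3) := [(1, 2)]
/-- its packed matrix -/
def tTi : ℕ := 16035958618284902179676459832081210260321978332520247026689081194056190650100789275327475253394387895825835144180501082389064112778249016009444768083864766314765848038489486899452669360774982783818585933892226253231467631900032077154771687289356970642680027316266963196954243723197067281972962200483105724434177302718653075255765360283080660572151218177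

/-- words in the letters of `G23p` for the root elements `x_r(1)` -/
def rootW : List (List ℕ) := [
  [0, 3, 1, 3, 0, 0, 2, 1, 5, 0, 4, 1, 3, 5],
  [4],
  [1, 3, 0, 3, 0, 3, 0, 4, 0, 2, 1],
  [2, 0, 0, 3, 1, 1, 1, 4, 0, 3, 1, 3, 1],
  [0, 2, 0, 0, 0, 2, 2, 0, 3, 4, 0, 3, 1],
  [0, 2, 5, 3, 1],
  [0, 3, 0, 0, 0, 3, 1, 2, 4, 1, 5, 2, 0],
  [2, 2, 0, 3, 1, 1, 2, 0, 4, 0, 4, 3, 5],
  [0, 3, 1, 2, 1, 2, 0, 5, 3, 5, 2, 5],
  [2, 2, 1, 1, 2, 4, 0, 0, 3, 0, 3],
  [0, 0, 0, 3, 1, 2, 2, 0, 4, 0, 5, 3, 1, 5, 0],
  [0, 2, 0, 2, 0, 0, 0, 5, 0, 5, 3, 5]]

end Cfsg.Agent.Lib.Helper4.G23Iso
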