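import Mathlib
import Cfsg.Prelude.Def_LieTwisted
import Cfsg.Agent.Lib.Helper4.LaneMat
import Cfsg.Agent.Lib.Helper4.G2Ree3Data

/-!
The group `²G₂(3)` as a group of `14 × 14` matrices over the field with three elements: the root elements and
the words in them, evaluated as packed matrices.
-/

namespace Cfsg.Agent.Lib.Helper4.G2Ree3

open Cfsg.Lie Cfsg.Agent.Lib.Helper4.LaneMat

abbrev Idx : Type := chevG2.Idx
abbrev M14 : Type := Matrix Idx Idx (ZMod 3)

/-- the format of the packed matrices: `14 × 14`, lanes of 6 bits, modulo 3 -/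
@[reducible] def C14 : Cfg where
  n := 14
  b := 6
  p := 3
  MC := 3342687786332472988455982203540791254970729161495590949511791797699548945206824499800765513460720215989893071844898241963276883070160663660328442204327597685937408909286101344025597216579694013312223520350594927321365568846611709320069481697046968138165814806845487588201839954492816677736913718281260265691157410239570611393265727
  red := redA 14 6 3
  hn := by norm_num
  hb := by norm_num
  hp := by norm_num
  hpb := by norm_num
  hMC := by decide +kernel
  hred := fun Z i k hi hk => ent_redA 14 6 3 Z (by norm_num) (by norm_num) hi hk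

/-- the numbering of the coordinates -/
def eG : Idx ≃ Fin C14.n := (finSumFinEquiv : Fin 2 ⊕ Fin 12 ≃ Fin (2 + 12))

local notation "tm" => C14.toMat eG
local notation "mu" => C14.mul
local notation "i14" => C14.one

/-- the packed matrix of `x_r(t)` -/
def xTab (r t : ℕ) : ℕ := if r < 12 then xTabL.getD (3 * r + t) 0 else i14

set_option maxRecDepth 100000 in
theorem xTabL_valid : ∀ X ∈ xTabL, C14.Valid X := by decide +kernel

set_option maxRecDepth 100000 in
theorem valid_zero : C14.Valid 0 := by decide +kernel

theorem xTab_valid (r t : ℕ) : C14.Valid (xTab r t) := by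
  unfold xTab
  split_ifs
  · rw [List.getD_eq_getElem?_getD]
    cases h : xTabL[3 * r + t]? with
    | none => exact valid_zero
    | some X => exact xTabL_valid X (List.mem_of_getElem? h)
  · exact C14.valid_one

set_option maxRecDepth 100000 in
theorem x_eq_aux : ∀ (r : Fin 12) (c : ZMod 3), chevG2.x (ZMod 3) r.val c = tm (xTab r.val c.val) := by
  decide +kernel

theorem x_eq (r : ℕ) (c : ZMod 3) : chevG2.x (ZMod 3) r c = tm (xTab r c.val) := by
  by_cases h : r < 12
  · exact x_eq_aux ⟨r, h⟩ c
  · have h1 : chevG2.x (ZMod 3) r c = 1 := by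
      unfold ChevalleyDatum.x
      rw [dif_neg (show ¬ r < chevG2.nroots from h)]
    rw [h1, xTab, if_neg h]
    exact (C14.toMat_one eG).symm

/-- the packed matrix of a word in root elements -/
def wordTab (w : List (ℕ × ZMod 3)) : ℕ := w.foldl (fun acc q => mu acc (xTab q.1 q.2.val)) i14

theorem wordTab_valid (w : List (ℕ × ZMod 3)) : C14.Valid (wordTab w) :=
  C14.valid_foldl (fun q : ℕ × ZMod 3 => xTab q.1 q.2.val) w _ C14.valid_one

theorem wordMat_eq (w : List (ℕ × ZMod 3)) : chevG2.wordMat (ZMod 3) w = tm (wordTab w) := by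
  unfold wordTab ChevalleyDatum.wordMat
  rw [C14.toMat_foldl eG (fun q : ℕ × ZMod 3 => xTab q.1 q.2.val) w (fun q _ => xTab_valid _ _) _ C14.valid_one,
    C14.toMat_one, one_mul]
  congr 1
  apply List.map_congr_left
  intro q _
  exact x_eq q.1 q.2

/-- packed images of the letters -/
def gT : ℕ → ℕ
  | 0 => tA
  | 1 => tA
  | 2 => tB
  | 3 => tBi
  | _ => i14

/-- packed powers of `σ` -/
def powS : ℕ → ℕ
  | 0 => i14
  | 1 => tS
  | _ => mu tS tS

end Cfsg.Agent.Lib.Helper4.G2Ree3
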