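import Mathlib
import Cfsg.Prelude.Def_LieChev
import Cfsg.Agent.Lib.Helper4.G2Ree3
import Cfsg.Agent.Lib.Helper4.G23IsoData
import Cfsg.Agent.Lib.Helper4.G23pMain
import Cfsg.Agent.Lib.Helper4.TC20
import Cfsg.Agent.Lib.Helper5.ChevXGL
import Cfsg.Agent.Lib.Helper5.ChevFieldMap

/-!
The presented group `G23p` is isomorphic to the Chevalley group `G₂(3)`: the letters are mapped to explicit words
in root elements, evaluated as packed `14 × 14` matrices over the field with three elements; the root elements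
`x_r(1)` are images of explicit words, and the orders agree.
-/

set_option autoImplicit false

namespace Cfsg.Agent.Lib.Helper4.G23Iso

open Cfsg.Lie Cfsg.Agent.Lib.Helper4.LaneMat Cfsg.Agent.Lib.Helper4.TC Cfsg.Agent.Lib.Helper4.TC.Log
  Cfsg.Agent.Lib.Helper4.G2Ree3

local notation "tm" => C14.toMat eG
local notation "mu" => C14.mul
local notation "i14" => C14.one

abbrev G14 : Type := GL Idx (ZMod 3)

/-- packed images of the letters -/
def gT : ℕ → ℕ
  | 0 => tC
  | 1 => tCi
  | 2 => tD
  | 3 => tDi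
  | 4 => tT
  | 5 => tTi
  | _ => i14

/-- the words in root elements of the letters -/
def wL : ℕ → List (ℕ × ZMod 3)
  | 0 => wC
  | 1 => wCi
  | 2 => wD
  | 3 => wDi
  | 4 => wT
  | 5 => wTi
  | _ => []

/-- the inverse letters -/
def invL : ℕ → ℕ
  | 0 => 1
  | 1 => 0
  | 2 => 3
  | 3 => 2
  | 4 => 5
  | 5 => 4
  | n => n

theorem gT_ge (l : ℕ) (h : ¬ l < 6) : gT l = i14 := by
  match l, h with
  | 0, h => exact absurd (by norm_num) h
  | 1, h => exact absurd (by norm_num) h
  | 2, h => exact absurd (by norm_num) h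
  | 3, h => exact absurd (by norm_num) h
  | 4, h => exact absurd (by norm_num) h
  | 5, h => exact absurd (by norm_num) h
  | (n + 6), _ => rfl

set_option maxRecDepth 100000 in
theorem gT_word : ∀ l, l < 6 → wordTab (wL l) = gT l := by decide +kernel

theorem gT_valid (l : ℕ) : C14.Valid (gT l) := by
  by_cases h : l < 6
  · rw [← gT_word l h]; exact wordTab_valid _
  · rw [gT_ge l h]; exact C14.valid_one

set_option maxRecDepth 100000 in
theorem c_inv : ∀ l, l < 6 → mu (gT l) (gT (invL l)) = i14 ∧ mu (gT (invL l)) (gT l) = i14 := by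
  decide +kernel

set_option maxRecDepth 100000 in
theorem c_rel : ∀ L ∈ PG23p.P.real, C14.evalW gT L = i14 := by decide +kernel

/-- the images of the letters -/
def gU (l : ℕ) : G14 :=
  if h : l < 6 then C14.toGL eG (gT l) (gT (invL l)) (gT_valid _) (gT_valid _) (c_inv l h).1 (c_inv l h).2 else 1

theorem val_gU (l : ℕ) : ((gU l : G14) : M14) = tm (gT l) := by
  unfold gU
  split_ifs with h
  · rfl
  · rw [gT_ge l h, C14.toMat_one]; rfl

theorem val_wordP (L : List ℕ) : ((wordP gU L : G14) : M14) = tm (C14.evalW gT L) := by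
  rw [C14.toMat_evalW eG gT L fun x _ => gT_valid x]
  induction L with
  | nil => rfl
  | cons x L ih => rw [wordP_cons, Units.val_mul, ih, val_gU, List.map_cons, List.prod_cons]

theorem gU_mul_inv (l : ℕ) (h : l < 6) : gU l * gU (invL l) = 1 := by
  apply Units.ext
  rw [Units.val_mul, val_gU, val_gU, ← C14.toMat_mul eG (gT_valid _) (gT_valid _), (c_inv l h).1, C14.toMat_one]
  rfl

theorem exists_hom : ∃ φ : PG23p.P.Grp →* G14, ∀ l, l < 6 → φ (PG23p.P.gR l) = gU l := by
  apply exists_hom_of_letters PG23p.P PG23p.valid gU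
  · intro l hl
    have hl : l < 6 := hl
    interval_cases l
    · exact gU_mul_inv 0 (by norm_num)
    · exact gU_mul_inv 1 (by norm_num)
    · exact gU_mul_inv 2 (by norm_num)
    · exact gU_mul_inv 3 (by norm_num)
    · exact gU_mul_inv 4 (by norm_num)
    · exact gU_mul_inv 5 (by norm_num)
  · intro L hL
    apply Units.ext
    rw [val_wordP, c_rel L hL, C14.toMat_one]
    rfl

/-- the homomorphism -/
noncomputable def phi : PG23p.P.Grp →* G14 := Classical.choose exists_hom

theorem phi_gR (l : ℕ) (h : l < 6) : phi (PG23p.P.gR l) = gU l := Classical.choose_spec exists_hom l h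

theorem phi_wordP (L : List ℕ) (hL : ∀ l ∈ L, l < 6) : phi (wordP PG23p.P.gR L) = wordP gU L := by
  induction L with
  | nil => rw [wordP_nil, wordP_nil, map_one]
  | cons x L ih =>
    rw [wordP_cons, wordP_cons, map_mul, ih fun l hl => hL l (List.mem_cons_of_mem _ hl),
      phi_gR x (hL x List.mem_cons_self)]

theorem memG2 : chevG2 ∈ Cfsg.Agent.Lib.Helper5.ChevStruct.Seven := by
  simp [Cfsg.Agent.Lib.Helper5.ChevStruct.Seven]

theorem gU_mem (l : ℕ) : gU l ∈ chevG2.group (ZMod 3) := by
  by_cases h : l < 6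
  · apply Cfsg.Agent.Lib.Helper5.ChevStruct.mem_group_of_val_eq_wordMat chevG2 memG2 (gU l) (wL l)
    rw [val_gU, ← gT_word l h, wordMat_eq]
  · have : gU l = 1 := by unfold gU; rw [dif_neg h]
    rw [this]; exact one_mem _

theorem range_le : phi.range ≤ chevG2.group (ZMod 3) := by
  rw [MonoidHom.range_eq_map, ← PG23p.valid.gen_top, MonoidHom.map_closure, Subgroup.closure_le]
  rintro _ ⟨_, ⟨l, hl, rfl⟩, rfl⟩
  have hl : l < 6 := hl
  rw [phi_gR l hl]
  exact gU_mem l

/-- the word of `x_r(s)` in the letters -/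
def rootWs (r s : ℕ) : List ℕ :=
  match s with
  | 0 => []
  | 1 => rootW.getD r []
  | _ => rootW.getD r [] ++ rootW.getD r []

set_option maxRecDepth 100000 in
theorem root_tab : ∀ r, r < 12 → ∀ s, s < 3 → C14.evalW gT (rootWs r s) = xTab r s ∧ ∀ l ∈ rootWs r s, l < 6 := by
  decide +kernel

theorem group_le : chevG2.group (ZMod 3) ≤ phi.range := by
  unfold ChevalleyDatum.group
  rw [Subgroup.closure_le]
  rintro g ⟨r, t, hg⟩
  have hr : r.val < 12 := r.2
  have ht : t.val < 3 := ZMod.val_lt t
  obtain ⟨h1, h2⟩ := root_tab r.val hr t.val ht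
  refine ⟨wordP PG23p.P.gR (rootWs r.val t.val), ?_⟩
  rw [phi_wordP _ h2]
  apply Units.ext
  rw [val_wordP, h1, hg, ← x_eq]
  unfold ChevalleyDatum.x
  rw [dif_pos r.2]

theorem range_eq : phi.range = chevG2.group (ZMod 3) := le_antisymm range_le group_le

/-- the presented group is the Chevalley group over `ZMod 3`, given the order of the latter -/
theorem iso3 (hcard : Nat.card ↥(chevG2.group (ZMod 3)) = 4245696) :
    Nonempty (PG23p.P.Grp ≃* ↥(chevG2.group (ZMod 3))) := by
  obtain ⟨fG, _, hc⟩ := G23pMain.order_aux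
  have := fG
  have hsurj : Function.Surjective phi.rangeRestrict := phi.rangeRestrict_surjective
  have hfin : Finite phi.range := Finite.of_surjective _ hsurj
  have hcr : Nat.card phi.range = 4245696 := by rw [range_eq]; exact hcard
  have hbij : Function.Bijective phi.rangeRestrict := by
    rw [Nat.bijective_iff_surjective_and_card]
    exact ⟨hsurj, by rw [hc, hcr]⟩
  exact ⟨(MulEquiv.ofBijective phi.rangeRestrict hbij).trans (MulEquiv.subgroupCongr range_eq)⟩

/-- the presented group is the Chevalley group `G₂(3)`, given the order of the latter -/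
theorem iso {F : Type*} [Field F] [Fintype F] (hF : Fintype.card F = 3)
    (hcard : Nat.card ↥(chevG2.group (ZMod 3)) = 4245696) :
    Nonempty (PG23p.P.Grp ≃* ↥(chevG2.group F)) := by
  obtain ⟨e⟩ := iso3 hcard
  have e3 : ZMod 3 ≃+* F := ZMod.ringEquivOfPrime F (by norm_num) hF
  exact ⟨e.trans (Cfsg.Agent.Lib.Helper5.ChevStruct.groupEquivOfRingEquiv chevG2 e3)⟩

end Cfsg.Agent.Lib.Helper4.G23Iso
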