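import Cfsg.Agent.Lib.Helper4.TCD_SC3G23p3A_Acc

namespace Cfsg.Agent.Lib.Helper4.TCD.SC3G23p3A

open Cfsg.Agent.Lib.Helper4.TC

set_option maxRecDepth 100000
set_option Elab.async false

theorem c_act87_0 : allRange (fun i => Nat.beq (actR87 i) i) 0 2106 = true := by decide +kernel
theorem c_act88_0 : allRange (fun i => Nat.beq (actR88 i) i) 0 2106 = true := by decide +kernel
theorem c_act89_0 : allRange (fun i => Nat.beq (actR89 i) i) 0 2106 = true := by decide +kernel
theorem c_act90_0 : allRange (fun i => Nat.beq (actR90 i) i) 0 2106 = true := by decide +kernel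
theorem c_act91_0 : allRange (fun i => Nat.beq (actR91 i) i) 0 2106 = true := by decide +kernel
theorem c_act92_0 : allRange (fun i => Nat.beq (actR92 i) i) 0 2106 = true := by decide +kernel
theorem c_act93_0 : allRange (fun i => Nat.beq (actR93 i) i) 0 2106 = true := by decide +kernel
theorem c_act94_0 : allRange (fun i => Nat.beq (actR94 i) i) 0 2106 = true := by decide +kernel
theorem c_act95_0 : allRange (fun i => Nat.beq (actR95 i) i) 0 2106 = true := by decide +kernel
theorem c_act96_0 : allRange (fun i => Nat.beq (actR96 i) i) 0 2106 = true := by decide +kernel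
theorem c_act97_0 : allRange (fun i => Nat.beq (actR97 i) i) 0 2106 = true := by decide +kernel
theorem c_act98_0 : allRange (fun i => Nat.beq (actR98 i) i) 0 2106 = true := by decide +kernel
theorem c_act99_0 : allRange (fun i => Nat.beq (actR99 i) i) 0 2106 = true := by decide +kernel
theorem c_act100_0 : allRange (fun i => Nat.beq (actR100 i) i) 0 2106 = true := by decide +kernel
theorem c_act101_0 : allRange (fun i => Nat.beq (actR101 i) i) 0 2106 = true := by decide +kernel
theorem c_act102_0 : allRange (fun i => Nat.beq (actR102 i) i) 0 2106 = true := by decide +kernel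
theorem c_act103_0 : allRange (fun i => Nat.beq (actR103 i) i) 0 2106 = true := by decide +kernel
theorem c_act104_0 : allRange (fun i => Nat.beq (actR104 i) i) 0 2106 = true := by decide +kernel
theorem c_act105_0 : allRange (fun i => Nat.beq (actR105 i) i) 0 2106 = true := by decide +kernel
theorem c_act106_0 : allRange (fun i => Nat.beq (actR106 i) i) 0 2106 = true := by decide +kernel
theorem c_act107_0 : allRange (fun i => Nat.beq (actR107 i) i) 0 2106 = true := by decide +kernel
theorem c_act108_0 : allRange (fun i => Nat.beq (actR108 i) i) 0 2106 = true := by decide +kernel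
theorem c_act109_0 : allRange (fun i => Nat.beq (actR109 i) i) 0 2106 = true := by decide +kernel
theorem c_act110_0 : allRange (fun i => Nat.beq (actR110 i) i) 0 2106 = true := by decide +kernel
theorem c_act111_0 : allRange (fun i => Nat.beq (actR111 i) i) 0 2106 = true := by decide +kernel

end Cfsg.Agent.Lib.Helper4.TCD.SC3G23p3A
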