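import Mathlib
import Cfsg.Agent.Lib.Helper4.C3G23Main
import Cfsg.Agent.Lib.Helper4.TCD_SC3G23p3A_Fin
import Cfsg.Agent.Lib.Helper4.TCD_SC3G23p3W
import Cfsg.Agent.Lib.Helper4.StemLib8
import Cfsg.Agent.Lib.Helper4.C3G23Sub

/-! `C3G23` has no stem extension with kernel of order 3 (generated). -/

namespace Cfsg.Agent.Lib.Helper4.SC3G23p3Main

open Cfsg.Agent.Lib.Helper4.TC Cfsg.Agent.Lib.Helper4.TCD Cfsg.Agent.Lib.Helper4.TC.Log Cfsg.Agent.Lib.Helper4.Stem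

/-- the description of the auxiliary presentation -/
def spec : Spec4 :=
  { p := 3
    items := [(0, [], 7),
      (2, [], 4),
      (4, [], 7),
      (6, [4, 1, 3, 0], 0),
      (8, [0, 0, 3, 0, 6, 1, 2, 1, 1, 2, 0, 7, 1, 3], 0),
      (10, [6, 6, 6], 0),
      (12, [0, 0, 6, 1, 1, 3, 6, 2], 0),
      (14, [0, 2, 6, 0, 2, 6, 0, 2, 6], 0),
      (16, [0, 2, 2, 1, 6, 0, 3, 3, 1, 6], 0),
      (18, [0, 6, 1, 6, 1, 2, 6, 3, 0, 7], 0),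
      (20, [8, 8, 8], 0),
      (22, [9, 1, 8, 0], 0),
      (24, [9, 3, 8, 2], 0),
      (26, [9, 7, 8, 6], 0)]
    cen := [10, 12, 14, 16, 18, 20, 22, 24, 26]
    R := []
    sub := [0, 2]
    PR := [[0, 0, 0, 0, 0, 0, 0], [0, 0, 2, 1, 2, 0, 3, 0, 2, 1, 2], [0, 0, 0, 2, 0, 0, 0, 2, 0, 0, 0, 2], [0, 0, 2, 2, 0, 0, 3, 3, 0, 0, 3, 3]]
    XR := [([6, 0, 7], [0, 2, 2], [0, 0, 2, 2, 1], 4),
      ([6, 0, 7], [2, 2, 1], [0, 2, 2, 1, 1], 4),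
      ([6, 1, 7], [0, 0, 2, 2, 1], [0, 2, 2], 4),
      ([6, 1, 7], [0, 2, 2, 1, 1], [2, 2, 1], 4),
      ([7, 0, 6], [1, 1, 2, 2, 0, 0], [1, 2, 2, 0], 2),
      ([7, 1, 6], [1, 2, 2, 0], [1, 1, 2, 2, 0, 0], 2),
      ([7, 2, 6], [0, 3, 0, 0], [3, 0, 3, 0, 3, 1, 2], 4),
      ([7, 2, 6], [1, 1, 2, 1], [3, 0, 2, 1, 2, 1, 2], 4),
      ([7, 3, 6], [3, 0, 2, 1, 2, 1, 2], [1, 1, 2, 1], 4),
      ([7, 3, 6], [3, 0, 3, 0, 3, 1, 2], [0, 3, 0, 0], 4),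
      ([6, 2, 7], [0, 0, 2, 2, 1, 1], [3, 1, 2, 2, 0, 2], 2),
      ([6, 3, 7], [3, 1, 2, 2, 0, 2], [0, 0, 2, 2, 1, 1], 2),
      ([7, 2, 6], [3, 1, 2, 2, 0, 2], [0, 0, 2, 2, 1, 1], 2),
      ([7, 3, 6], [0, 0, 2, 2, 1, 1], [3, 1, 2, 2, 0, 2], 2),
      ([6, 2, 7], [1, 3, 0, 3, 0, 0, 3, 1, 3], [0, 3, 0, 0], 4),
      ([6, 2, 7], [2, 0, 2, 1, 1, 2, 1, 2, 0], [1, 1, 2, 1], 4),
      ([6, 3, 7], [0, 3, 0, 0], [1, 3, 0, 3, 0, 0, 3, 1, 3], 4),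
      ([6, 3, 7], [1, 1, 2, 1], [2, 0, 2, 1, 1, 2, 1, 2, 0], 4),
      ([7, 0, 6], [2, 1, 2, 1, 2, 0, 3], [2, 0, 3, 0, 0, 3], 4),
      ([7, 0, 6], [2, 1, 3, 0, 3, 0, 3], [2, 1, 1, 2, 1, 3], 4),
      ([7, 1, 6], [2, 0, 3, 0, 0, 3], [2, 1, 2, 1, 2, 0, 3], 4),
      ([7, 1, 6], [2, 1, 1, 2, 1, 3], [2, 1, 3, 0, 3, 0, 3], 4),
      ([7, 2, 6], [2, 0, 0, 2, 2, 1, 3], [3, 1, 1, 3, 1, 3], 4),
      ([7, 2, 6], [2, 0, 2, 2, 1, 1, 3], [2, 0, 2, 0, 0, 2], 4),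
      ([7, 3, 6], [2, 0, 2, 0, 0, 2], [2, 0, 2, 2, 1, 1, 3], 4),
      ([7, 3, 6], [3, 1, 1, 3, 1, 3], [2, 0, 0, 2, 2, 1, 3], 4),
      ([6, 0, 7], [0, 2, 2, 0, 2, 2], [0, 0, 2, 2, 0, 2, 2, 1], 2),
      ([6, 1, 7], [0, 0, 2, 2, 0, 2, 2, 1], [0, 2, 2, 0, 2, 2], 2),
      ([6, 2, 7], [3, 0, 2, 1, 2, 1, 2], [2, 0, 2, 2, 1, 1, 3], 4),
      ([6, 2, 7], [3, 0, 3, 0, 3, 1, 2], [2, 0, 0, 2, 2, 1, 3], 4),
      ([6, 3, 7], [2, 0, 0, 2, 2, 1, 3], [3, 0, 3, 0, 3, 1, 2], 4),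
      ([6, 3, 7], [2, 0, 2, 2, 1, 1, 3], [3, 0, 2, 1, 2, 1, 2], 4),
      ([6, 0, 7], [1, 2, 1, 1, 3, 1, 2, 1, 3], [3, 0, 3, 0, 0, 2], 4),
      ([6, 0, 7], [2, 0, 3, 0, 2, 0, 0, 3, 0], [3, 1, 1, 2, 1, 2], 4),
      ([6, 1, 7], [3, 0, 3, 0, 0, 2], [1, 2, 1, 1, 3, 1, 2, 1, 3], 4),
      ([6, 1, 7], [3, 1, 1, 2, 1, 2], [2, 0, 3, 0, 2, 0, 0, 3, 0], 4),
      ([6, 2, 7], [2, 0, 2, 0, 0, 2], [2, 1, 3, 0, 2, 1, 2, 2, 0], 4),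
      ([6, 2, 7], [3, 1, 1, 3, 1, 3], [1, 2, 2, 0, 3, 1, 2, 0, 3], 4),
      ([6, 3, 7], [1, 2, 2, 0, 3, 1, 2, 0, 3], [3, 1, 1, 3, 1, 3], 4),
      ([6, 3, 7], [2, 1, 3, 0, 2, 1, 2, 2, 0], [2, 0, 2, 0, 0, 2], 4)] }

/-- the letters of the auxiliary presentation as words of the base group -/
def Wl (l : ℕ) : List ℕ :=
  [[0], [1], [2], [3], [4, 1, 2, 0], [1, 3, 0, 5], [4], [5], [6], [7], [], [], [], [], [], [], [], [], [], [], [], [], [], [], [], [], [], []].getD l []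

theorem checks_eq : checks spec.toSpec2 PC3G23.P.invR Wl ++ checksX spec PSC3G23p3.P.invR Wl = SC3G23p3W.chkAll := by decide +kernel

theorem sub_eq : Subgroup.closure (xw PC3G23.P Wl '' {l | l ∈ spec.sub}) = Inst.subG PC3G23.P C3G23B.subs := by
  rw [closure_xw_eq]
  rfl

set_option maxRecDepth 100000 in
theorem noStem : NoStemPrime PC3G23.P.Grp 3 := by
  obtain ⟨fG, hinj, hcard⟩ := C3G23Main.order_aux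
  have hall : ∀ w ∈ checks spec.toSpec2 PC3G23.P.invR Wl ++ checksX spec PSC3G23p3.P.invR Wl, wordP PC3G23.P.gR w = 1 := by
    rw [checks_eq]
    intro w hw
    exact C3G23R.prep.word_eq_one hinj w (SC3G23p3W.hAll_lt w hw) (SC3G23p3W.hAll w hw)
  exact noStemPrime_pres4 PC3G23.P PC3G23.valid PSC3G23p3.P PSC3G23p3.valid spec (by show Nat.Prime 3; norm_num) Wl
    (by decide +kernel) (by decide +kernel) (fun w hw => hall w (List.mem_append_left _ hw))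
    (fun w hw => hall w (List.mem_append_right _ hw)) (by decide +kernel)
    (by rw [sub_eq]; exact C3G23Sub.liftsP_sub 3 (by norm_num))
    6048 (by rw [sub_eq]; exact C3G23Sub.sub_card.2)
    2106 (by decide) SC3G23p3A.index_eq fG 12737088 hcard (by decide)

end Cfsg.Agent.Lib.Helper4.SC3G23p3Main
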