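import Mathlib
import Cfsg.Prelude.Def_KGroupFacts
import Cfsg.Agent.Lib.Helper4.G23pIso
import Cfsg.Agent.Lib.Helper4.C3G23Cover
import Cfsg.Agent.Lib.Helper4.SC3G23p2Main
import Cfsg.Agent.Lib.Helper4.SC3G23p3Main

/-!
The presented group `C3G23` has no stem extension with kernel of prime order, and the Schur multiplier of the
group `G₂(3)` is cyclic of order 3 (given the order of the Chevalley group over `ZMod 3`).
-/

set_option autoImplicit false

namespace Cfsg.Agent.Lib.Helper4.C3G23Stem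

open Cfsg Cfsg.Agent.Lib.Helper4.TC Cfsg.Agent.Lib.Helper4.TCD Cfsg.Agent.Lib.Helper4.TC.Log
  Cfsg.Agent.Lib.Helper4.Stem

/-- no stem extension with kernel of prime order -/
theorem noStem : ∀ p, p.Prime → NoStemPrime PC3G23.P.Grp p := by
  obtain ⟨fG, _, hcard⟩ := C3G23Main.order_aux
  have := fG
  apply noStemPrime_all PC3G23.P.Grp [2, 3]
  · intro p hp
    simp only [List.mem_cons, List.not_mem_nil, or_false] at hp
    rcases hp with rfl | rfl
    · exact SC3G23p2Main.noStem
    · exact SC3G23p3Main.noStem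
  · rw [hcard]
    exact sq_dvd_mem_of_factors 12737088 [2, 2, 2, 2, 2, 2, 3, 3, 3, 3, 3, 3, 3, 7, 13] (by norm_num) (by decide)
      [2, 3] (by decide)

/-- the Schur multiplier of `G₂(3)` is cyclic of order 3 -/
theorem hasMult {F : Type*} [Field F] [Fintype F] (hF : Fintype.card F = 3)
    (hcard : Nat.card ↥(Cfsg.Lie.chevG2.group (ZMod 3)) = 4245696) :
    Cfsg.HasCyclicSchurMultiplier ↥(Cfsg.Lie.chevG2.group F) 3 := by
  obtain ⟨e⟩ := G23Iso.iso hF hcard
  obtain ⟨fG, _, _⟩ := C3G23Main.order_aux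
  have := fG
  obtain ⟨fL, _⟩ := G23pMain.order_aux
  have := fL
  have : Finite ↥(Cfsg.Lie.chevG2.group F) := Finite.of_equiv _ e.toEquiv
  let τ : PC3G23.P.Grp →* ↥(Cfsg.Lie.chevG2.group F) := e.toMonoidHom.comp C3G23Cover.π
  have hker : τ.ker = C3G23Cover.π.ker := by
    ext x
    rw [MonoidHom.mem_ker, MonoidHom.mem_ker]
    show e (C3G23Cover.π x) = 1 ↔ _
    exact EmbeddingLike.map_eq_one_iff
  have hτ : IsStemExtension τ := by
    refine ⟨?_, ?_, ?_⟩
    · exact e.surjective.comp C3G23Cover.isStem.1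
    · rw [hker]
      exact C3G23Cover.isStem.2.1
    · rw [hker]
      exact C3G23Cover.isStem.2.2
  obtain ⟨ek⟩ := C3G23Cover.ker_equiv
  have ek' : τ.ker ≃* Multiplicative (ZMod 3) := (MulEquiv.subgroupCongr hker).trans ek
  exact hasSchurMultiplier_of_cover PC3G23.P.Grp τ hτ ek' noStem

end Cfsg.Agent.Lib.Helper4.C3G23Stem
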