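import Mathlib
import Cfsg.Prelude.Def_KGroupFacts
import Cfsg.Agent.Lib.Helper4.FibreCover

/-!
Stem extensions, part 11: if a perfect group `E` with a normal subgroup `N` of order prime to `p` has no stem
extension with kernel of order `p`, then neither has `E ⧸ N` (the fibre product of a stem extension of `E ⧸ N`
with `E` would be one of `E`).
-/

set_option autoImplicit false

namespace Cfsg.Agent.Lib.Helper4.Stem

open Cfsg
open scoped commutatorElement

/-- the image of a perfect group is perfect -/
theorem perfect_of_surjective {E Q : Type*} [Group E] [Group Q] (f : E →* Q)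
    (hf : Function.Surjective f) (hE : commutator E = ⊤) : commutator Q = ⊤ := by
  have h1 : (commutator E).map f = commutator Q := by
    rw [commutator_def, Subgroup.map_commutator, commutator_def, ← MonoidHom.range_eq_map,
      MonoidHom.range_eq_top.2 hf]
  rw [← h1, hE, ← MonoidHom.range_eq_map, MonoidHom.range_eq_top.2 hf]

/-- transfer down a central quotient of order prime to `p` -/
theorem noStemPrime_of_central_cover (E Q : Type) [Group E] [Finite E] [Group Q] (f : E →* Q)
    (hf : Function.Surjective f) (hperf : commutator E = ⊤) (p : ℕ)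
    (hcop : Nat.Coprime (Nat.card f.ker) p) (hE : NoStemPrime E p) : NoStemPrime Q p := by
  intro Γ _ _ σ hσ hcard
  have hQ : commutator Q = ⊤ := perfect_of_surjective f hf hperf
  have hΓ : commutator Γ = ⊤ := perfect_of_stem σ hσ hQ
  have hfp : commutator (fib σ f) = ⊤ := by
    apply fib_perfect σ f hσ.1 hf hΓ hperf (Nat.card σ.ker) (Nat.card f.ker)
    · rw [hcard]; exact hcop.symm
    · intro x hx
      have := pow_card_eq_one' (G := σ.ker) (x := ⟨x, hx⟩)
      exact congrArg Subtype.val this
    · intro x hx
      have := pow_card_eq_one' (G := f.ker) (x := ⟨x, hx⟩)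
      exact congrArg Subtype.val this
  have hst : IsStemExtension (fibSnd σ f) :=
    ⟨fibSnd_surjective σ f hσ.1, ker_fibSnd_le_center σ f hσ.2.1, by rw [hfp]; exact le_top⟩
  apply hE (fib σ f) (fibSnd σ f) hst
  rw [Nat.card_congr (kerSndEquiv σ f)]
  exact hcard

end Cfsg.Agent.Lib.Helper4.Stem
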