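import Cfsg.Agent.Lib.Helper4.TCD_Sp62pU1_Acc

namespace Cfsg.Agent.Lib.Helper4.TCD.Sp62pU1

open Cfsg.Agent.Lib.Helper4.TC

set_option maxRecDepth 100000
set_option Elab.async false

theorem c_rep_0 : allRange (T.repOK D) 0 30000 = true := by decide +kernel
theorem c_rep_1 : allRange (T.repOK D) 30000 30000 = true := by decide +kernel
theorem c_rep_2 : allRange (T.repOK D) 60000 30000 = true := by decide +kernel
theorem c_rep_3 : allRange (T.repOK D) 90000 30000 = true := by decide +kernel
theorem c_rep_4 : allRange (T.repOK D) 120000 30000 = true := by decide +kernel
theorem c_rep_5 : allRange (T.repOK D) 150000 30000 = true := by decide +kernel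
theorem c_rep_6 : allRange (T.repOK D) 180000 27360 = true := by decide +kernel
theorem c_rel_0 : allRange D.relOK 595336 3604 = true := by decide +kernel
theorem c_rel_1 : allRange D.relOK 598940 3581 = true := by decide +kernel
theorem c_rel_2 : allRange D.relOK 602521 3446 = true := by decide +kernel
theorem c_rel_3 : allRange D.relOK 605967 3442 = true := by decide +kernel
theorem c_rel_4 : allRange D.relOK 609409 3453 = true := by decide +kernel
theorem c_rel_5 : allRange D.relOK 612862 3475 = true := by decide +kernel
theorem c_rel_6 : allRange D.relOK 616337 3376 = true := by decide +kernel
theorem c_rel_7 : allRange D.relOK 619713 3307 = true := by decide +kernel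
theorem c_rel_8 : allRange D.relOK 623020 3267 = true := by decide +kernel
theorem c_rel_9 : allRange D.relOK 626287 3302 = true := by decide +kernel
theorem c_rel_10 : allRange D.relOK 629589 3270 = true := by decide +kernel
theorem c_rel_11 : allRange D.relOK 632859 3190 = true := by decide +kernel
theorem c_rel_12 : allRange D.relOK 636049 3207 = true := by decide +kernel
theorem c_rel_13 : allRange D.relOK 639256 3196 = true := by decide +kernel
theorem c_rel_14 : allRange D.relOK 642452 3298 = true := by decide +kernel
theorem c_rel_15 : allRange D.relOK 645750 3177 = true := by decide +kernel
theorem c_rel_16 : allRange D.relOK 648927 3051 = true := by decide +kernel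
theorem c_rel_17 : allRange D.relOK 651978 3154 = true := by decide +kernel
theorem c_rel_18 : allRange D.relOK 655132 3162 = true := by decide +kernel
theorem c_rel_19 : allRange D.relOK 658294 3143 = true := by decide +kernel
theorem c_rel_20 : allRange D.relOK 661437 3113 = true := by decide +kernel
theorem c_rel_21 : allRange D.relOK 664550 3247 = true := by decide +kernel
theorem c_rel_22 : allRange D.relOK 667797 3055 = true := by decide +kernel
theorem c_rel_23 : allRange D.relOK 670852 3065 = true := by decide +kernel
theorem c_rel_24 : allRange D.relOK 673917 3043 = true := by decide +kernel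
theorem c_rel_25 : allRange D.relOK 676960 3095 = true := by decide +kernel
theorem c_rel_26 : allRange D.relOK 680055 3017 = true := by decide +kernel
theorem c_rel_27 : allRange D.relOK 683072 3044 = true := by decide +kernel
theorem c_rel_28 : allRange D.relOK 686116 2927 = true := by decide +kernel
theorem c_rel_29 : allRange D.relOK 689043 3012 = true := by decide +kernel
theorem c_rel_30 : allRange D.relOK 692055 2988 = true := by decide +kernel
theorem c_rel_31 : allRange D.relOK 695043 2961 = true := by decide +kernel
theorem c_rel_32 : allRange D.relOK 698004 3009 = true := by decide +kernel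
theorem c_rel_33 : allRange D.relOK 701013 2953 = true := by decide +kernel
theorem c_rel_34 : allRange D.relOK 703966 2971 = true := by decide +kernel
theorem c_rel_35 : allRange D.relOK 706937 2877 = true := by decide +kernel
theorem c_rel_36 : allRange D.relOK 709814 2852 = true := by decide +kernel
theorem c_rel_37 : allRange D.relOK 712666 2833 = true := by decide +kernel
theorem c_rel_38 : allRange D.relOK 715499 2891 = true := by decide +kernel
theorem c_rel_39 : allRange D.relOK 718390 2868 = true := by decide +kernel
theorem c_rel_40 : allRange D.relOK 721258 2741 = true := by decide +kernel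
theorem c_rel_41 : allRange D.relOK 723999 2906 = true := by decide +kernel
theorem c_rel_42 : allRange D.relOK 726905 2882 = true := by decide +kernel
theorem c_rel_43 : allRange D.relOK 729787 2793 = true := by decide +kernel
theorem c_rel_44 : allRange D.relOK 732580 2856 = true := by decide +kernel
theorem c_rel_45 : allRange D.relOK 735436 2915 = true := by decide +kernel
theorem c_rel_46 : allRange D.relOK 738351 2656 = true := by decide +kernel
theorem c_rel_47 : allRange D.relOK 741007 2936 = true := by decide +kernel
theorem c_rel_48 : allRange D.relOK 743943 2709 = true := by decide +kernel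
theorem c_rel_49 : allRange D.relOK 746652 2736 = true := by decide +kernel
theorem c_rel_50 : allRange D.relOK 749388 2739 = true := by decide +kernel
theorem c_rel_51 : allRange D.relOK 752127 2736 = true := by decide +kernel
theorem c_rel_52 : allRange D.relOK 754863 2760 = true := by decide +kernel
theorem c_rel_53 : allRange D.relOK 757623 2777 = true := by decide +kernel
theorem c_rel_54 : allRange D.relOK 760400 2592 = true := by decide +kernel
theorem c_rel_55 : allRange D.relOK 762992 2640 = true := by decide +kernel
theorem c_rel_56 : allRange D.relOK 765632 2803 = true := by decide +kernel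
theorem c_rel_57 : allRange D.relOK 768435 2626 = true := by decide +kernel
theorem c_rel_58 : allRange D.relOK 771061 2657 = true := by decide +kernel
theorem c_rel_59 : allRange D.relOK 773718 2640 = true := by decide +kernel
theorem c_rel_60 : allRange D.relOK 776358 2634 = true := by decide +kernel
theorem c_rel_61 : allRange D.relOK 778992 2522 = true := by decide +kernel
theorem c_rel_62 : allRange D.relOK 781514 2464 = true := by decide +kernel
theorem c_rel_63 : allRange D.relOK 783978 2612 = true := by decide +kernel
theorem c_rel_64 : allRange D.relOK 786590 2529 = true := by decide +kernel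
theorem c_rel_65 : allRange D.relOK 789119 2577 = true := by decide +kernel
theorem c_rel_66 : allRange D.relOK 791696 2501 = true := by decide +kernel
theorem c_rel_67 : allRange D.relOK 794197 2496 = true := by decide +kernel
theorem c_rel_68 : allRange D.relOK 796693 2479 = true := by decide +kernel
theorem c_rel_69 : allRange D.relOK 799172 2572 = true := by decide +kernel
theorem c_rel_70 : allRange D.relOK 801744 2312 = true := by decide +kernel
theorem c_rel_71 : allRange D.relOK 804056 2346 = true := by decide +kernel
theorem c_rel_72 : allRange D.relOK 806402 2502 = true := by decide +kernel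
theorem c_rel_73 : allRange D.relOK 808904 2418 = true := by decide +kernel
theorem c_rel_74 : allRange D.relOK 811322 2379 = true := by decide +kernel
theorem c_rel_75 : allRange D.relOK 813701 2275 = true := by decide +kernel
theorem c_rel_76 : allRange D.relOK 815976 2272 = true := by decide +kernel
theorem c_rel_77 : allRange D.relOK 818248 2454 = true := by decide +kernel
theorem c_rel_78 : allRange D.relOK 820702 2318 = true := by decide +kernel
theorem c_rel_79 : allRange D.relOK 823020 2221 = true := by decide +kernel
theorem c_rel_80 : allRange D.relOK 825241 2264 = true := by decide +kernel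
theorem c_rel_81 : allRange D.relOK 827505 2271 = true := by decide +kernel
theorem c_rel_82 : allRange D.relOK 829776 2287 = true := by decide +kernel
theorem c_rel_83 : allRange D.relOK 832063 2132 = true := by decide +kernel
theorem c_rel_84 : allRange D.relOK 834195 2224 = true := by decide +kernel
theorem c_rel_85 : allRange D.relOK 836419 2095 = true := by decide +kernel

end Cfsg.Agent.Lib.Helper4.TCD.Sp62pU1
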