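import Cfsg.Agent.Lib.Helper4.TCD_Sp62pU1_Acc

namespace Cfsg.Agent.Lib.Helper4.TCD.Sp62pU1

open Cfsg.Agent.Lib.Helper4.TC

set_option maxRecDepth 100000
set_option Elab.async false

theorem c_rel_86 : allRange D.relOK 838514 2117 = true := by decide +kernel
theorem c_rel_87 : allRange D.relOK 840631 2129 = true := by decide +kernel
theorem c_rel_88 : allRange D.relOK 842760 2137 = true := by decide +kernel
theorem c_rel_89 : allRange D.relOK 844897 2201 = true := by decide +kernel
theorem c_rel_90 : allRange D.relOK 847098 2036 = true := by decide +kernel
theorem c_rel_91 : allRange D.relOK 849134 1984 = true := by decide +kernel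
theorem c_rel_92 : allRange D.relOK 851118 2188 = true := by decide +kernel
theorem c_rel_93 : allRange D.relOK 853306 2109 = true := by decide +kernel
theorem c_rel_94 : allRange D.relOK 855415 3231 = true := by decide +kernel
theorem c_rel_95 : allRange D.relOK 858646 3717 = true := by decide +kernel
theorem c_rel_96 : allRange D.relOK 862363 3702 = true := by decide +kernel
theorem c_rel_97 : allRange D.relOK 866065 3702 = true := by decide +kernel
theorem c_rel_98 : allRange D.relOK 869767 3693 = true := by decide +kernel
theorem c_rel_99 : allRange D.relOK 873460 3692 = true := by decide +kernel
theorem c_rel_100 : allRange D.relOK 877152 3687 = true := by decide +kernel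
theorem c_rel_101 : allRange D.relOK 880839 3685 = true := by decide +kernel
theorem c_rel_102 : allRange D.relOK 884524 3680 = true := by decide +kernel
theorem c_rel_103 : allRange D.relOK 888204 3624 = true := by decide +kernel
theorem c_rel_104 : allRange D.relOK 891828 3615 = true := by decide +kernel
theorem c_rel_105 : allRange D.relOK 895443 3616 = true := by decide +kernel
theorem c_rel_106 : allRange D.relOK 899059 3616 = true := by decide +kernel
theorem c_rel_107 : allRange D.relOK 902675 3611 = true := by decide +kernel
theorem c_rel_108 : allRange D.relOK 906286 3615 = true := by decide +kernel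
theorem c_rel_109 : allRange D.relOK 909901 3620 = true := by decide +kernel
theorem c_rel_110 : allRange D.relOK 913521 3614 = true := by decide +kernel
theorem c_rel_111 : allRange D.relOK 917135 3597 = true := by decide +kernel
theorem c_rel_112 : allRange D.relOK 920732 3605 = true := by decide +kernel
theorem c_rel_113 : allRange D.relOK 924337 3591 = true := by decide +kernel
theorem c_rel_114 : allRange D.relOK 927928 3605 = true := by decide +kernel
theorem c_rel_115 : allRange D.relOK 931533 3596 = true := by decide +kernel
theorem c_rel_116 : allRange D.relOK 935129 3580 = true := by decide +kernel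
theorem c_rel_117 : allRange D.relOK 938709 3591 = true := by decide +kernel
theorem c_rel_118 : allRange D.relOK 942300 3598 = true := by decide +kernel
theorem c_rel_119 : allRange D.relOK 945898 3583 = true := by decide +kernel
theorem c_rel_120 : allRange D.relOK 949481 3589 = true := by decide +kernel
theorem c_rel_121 : allRange D.relOK 953070 3588 = true := by decide +kernel
theorem c_rel_122 : allRange D.relOK 956658 3588 = true := by decide +kernel
theorem c_rel_123 : allRange D.relOK 960246 3586 = true := by decide +kernel
theorem c_rel_124 : allRange D.relOK 963832 3593 = true := by decide +kernel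
theorem c_rel_125 : allRange D.relOK 967425 3595 = true := by decide +kernel
theorem c_rel_126 : allRange D.relOK 971020 3597 = true := by decide +kernel
theorem c_rel_127 : allRange D.relOK 974617 3590 = true := by decide +kernel
theorem c_rel_128 : allRange D.relOK 978207 3584 = true := by decide +kernel
theorem c_rel_129 : allRange D.relOK 981791 3583 = true := by decide +kernel
theorem c_rel_130 : allRange D.relOK 985374 3581 = true := by decide +kernel
theorem c_rel_131 : allRange D.relOK 988955 3578 = true := by decide +kernel
theorem c_rel_132 : allRange D.relOK 992533 3565 = true := by decide +kernel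
theorem c_rel_133 : allRange D.relOK 996098 3570 = true := by decide +kernel
theorem c_rel_134 : allRange D.relOK 999668 3578 = true := by decide +kernel
theorem c_rel_135 : allRange D.relOK 1003246 3560 = true := by decide +kernel
theorem c_rel_136 : allRange D.relOK 1006806 3560 = true := by decide +kernel
theorem c_rel_137 : allRange D.relOK 1010366 3550 = true := by decide +kernel
theorem c_rel_138 : allRange D.relOK 1013916 3545 = true := by decide +kernel
theorem c_rel_139 : allRange D.relOK 1017461 3549 = true := by decide +kernel
theorem c_rel_140 : allRange D.relOK 1021010 3535 = true := by decide +kernel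
theorem c_rel_141 : allRange D.relOK 1024545 3543 = true := by decide +kernel
theorem c_rel_142 : allRange D.relOK 1028088 3533 = true := by decide +kernel
theorem c_rel_143 : allRange D.relOK 1031621 3536 = true := by decide +kernel
theorem c_rel_144 : allRange D.relOK 1035157 3546 = true := by decide +kernel
theorem c_rel_145 : allRange D.relOK 1038703 3537 = true := by decide +kernel
theorem c_rel_146 : allRange D.relOK 1042240 3553 = true := by decide +kernel
theorem c_rel_147 : allRange D.relOK 1045793 3539 = true := by decide +kernel
theorem c_rel_148 : allRange D.relOK 1049332 3550 = true := by decide +kernel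
theorem c_rel_149 : allRange D.relOK 1052882 3538 = true := by decide +kernel
theorem c_rel_150 : allRange D.relOK 1056420 3536 = true := by decide +kernel
theorem c_rel_151 : allRange D.relOK 1059956 3548 = true := by decide +kernel
theorem c_rel_152 : allRange D.relOK 1063504 3542 = true := by decide +kernel
theorem c_rel_153 : allRange D.relOK 1067046 3532 = true := by decide +kernel
theorem c_rel_154 : allRange D.relOK 1070578 3529 = true := by decide +kernel
theorem c_rel_155 : allRange D.relOK 1074107 3535 = true := by decide +kernel
theorem c_rel_156 : allRange D.relOK 1077642 3524 = true := by decide +kernel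
theorem c_rel_157 : allRange D.relOK 1081166 3542 = true := by decide +kernel
theorem c_rel_158 : allRange D.relOK 1084708 3541 = true := by decide +kernel
theorem c_rel_159 : allRange D.relOK 1088249 3529 = true := by decide +kernel
theorem c_rel_160 : allRange D.relOK 1091778 3536 = true := by decide +kernel
theorem c_rel_161 : allRange D.relOK 1095314 3526 = true := by decide +kernel
theorem c_rel_162 : allRange D.relOK 1098840 3525 = true := by decide +kernel
theorem c_rel_163 : allRange D.relOK 1102365 3548 = true := by decide +kernel
theorem c_rel_164 : allRange D.relOK 1105913 3539 = true := by decide +kernel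
theorem c_rel_165 : allRange D.relOK 1109452 3536 = true := by decide +kernel
theorem c_rel_166 : allRange D.relOK 1112988 3539 = true := by decide +kernel
theorem c_rel_167 : allRange D.relOK 1116527 3536 = true := by decide +kernel
theorem c_rel_168 : allRange D.relOK 1120063 3539 = true := by decide +kernel
theorem c_rel_169 : allRange D.relOK 1123602 3525 = true := by decide +kernel
theorem c_rel_170 : allRange D.relOK 1127127 3519 = true := by decide +kernel
theorem c_rel_171 : allRange D.relOK 1130646 3529 = true := by decide +kernel
theorem c_rel_172 : allRange D.relOK 1134175 3529 = true := by decide +kernel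
theorem c_rel_173 : allRange D.relOK 1137704 3506 = true := by decide +kernel
theorem c_rel_174 : allRange D.relOK 1141210 3506 = true := by decide +kernel
theorem c_rel_175 : allRange D.relOK 1144716 3501 = true := by decide +kernel
theorem c_rel_176 : allRange D.relOK 1148217 3522 = true := by decide +kernel
theorem c_rel_177 : allRange D.relOK 1151739 3507 = true := by decide +kernel
theorem c_rel_178 : allRange D.relOK 1155246 3518 = true := by decide +kernel
theorem c_rel_179 : allRange D.relOK 1158764 3516 = true := by decide +kernel
theorem c_rel_180 : allRange D.relOK 1162280 3529 = true := by decide +kernel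
theorem c_rel_181 : allRange D.relOK 1165809 3013 = true := by decide +kernel
theorem c_rel_182 : allRange D.relOK 1168822 1860 = true := by decide +kernel
theorem c_rel_183 : allRange D.relOK 1170682 1924 = true := by decide +kernel
theorem c_rel_184 : allRange D.relOK 1172606 1871 = true := by decide +kernel

end Cfsg.Agent.Lib.Helper4.TCD.Sp62pU1
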