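import Cfsg.Agent.Lib.Helper4.TCD_Sp62pU1_Acc

namespace Cfsg.Agent.Lib.Helper4.TCD.Sp62pU1

open Cfsg.Agent.Lib.Helper4.TC

set_option maxRecDepth 100000
set_option Elab.async false

theorem c_rel_185 : allRange D.relOK 1174477 1770 = true := by decide +kernel
theorem c_rel_186 : allRange D.relOK 1176247 1670 = true := by decide +kernel
theorem c_rel_187 : allRange D.relOK 1177917 1752 = true := by decide +kernel
theorem c_rel_188 : allRange D.relOK 1179669 1583 = true := by decide +kernel
theorem c_rel_189 : allRange D.relOK 1181252 1571 = true := by decide +kernel
theorem c_rel_190 : allRange D.relOK 1182823 1632 = true := by decide +kernel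
theorem c_rel_191 : allRange D.relOK 1184455 1502 = true := by decide +kernel
theorem c_rel_192 : allRange D.relOK 1185957 1512 = true := by decide +kernel
theorem c_rel_193 : allRange D.relOK 1187469 1424 = true := by decide +kernel
theorem c_rel_194 : allRange D.relOK 1188893 1397 = true := by decide +kernel
theorem c_rel_195 : allRange D.relOK 1190290 1293 = true := by decide +kernel
theorem c_rel_196 : allRange D.relOK 1191583 1288 = true := by decide +kernel
theorem c_rel_197 : allRange D.relOK 1192871 1261 = true := by decide +kernel
theorem c_rel_198 : allRange D.relOK 1194132 1229 = true := by decide +kernel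
theorem c_rel_199 : allRange D.relOK 1195361 1201 = true := by decide +kernel
theorem c_rel_200 : allRange D.relOK 1196562 1162 = true := by decide +kernel
theorem c_rel_201 : allRange D.relOK 1197724 1188 = true := by decide +kernel
theorem c_rel_202 : allRange D.relOK 1198912 1391 = true := by decide +kernel
theorem c_rel_203 : allRange D.relOK 1200303 1420 = true := by decide +kernel
theorem c_rel_204 : allRange D.relOK 1201723 1483 = true := by decide +kernel
theorem c_rel_205 : allRange D.relOK 1203206 1443 = true := by decide +kernel
theorem c_rel_206 : allRange D.relOK 1204649 1530 = true := by decide +kernel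
theorem c_rel_207 : allRange D.relOK 1206179 1513 = true := by decide +kernel
theorem c_rel_208 : allRange D.relOK 1207692 1445 = true := by decide +kernel
theorem c_rel_209 : allRange D.relOK 1209137 1405 = true := by decide +kernel
theorem c_rel_210 : allRange D.relOK 1210542 1502 = true := by decide +kernel
theorem c_rel_211 : allRange D.relOK 1212044 1380 = true := by decide +kernel
theorem c_rel_212 : allRange D.relOK 1213424 1399 = true := by decide +kernel
theorem c_rel_213 : allRange D.relOK 1214823 1372 = true := by decide +kernel
theorem c_rel_214 : allRange D.relOK 1216195 1450 = true := by decide +kernel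
theorem c_rel_215 : allRange D.relOK 1217645 1428 = true := by decide +kernel
theorem c_rel_216 : allRange D.relOK 1219073 1352 = true := by decide +kernel
theorem c_rel_217 : allRange D.relOK 1220425 1451 = true := by decide +kernel
theorem c_rel_218 : allRange D.relOK 1221876 1467 = true := by decide +kernel
theorem c_rel_219 : allRange D.relOK 1223343 1399 = true := by decide +kernel
theorem c_rel_220 : allRange D.relOK 1224742 1362 = true := by decide +kernel
theorem c_rel_221 : allRange D.relOK 1226104 1410 = true := by decide +kernel
theorem c_rel_222 : allRange D.relOK 1227514 1410 = true := by decide +kernel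
theorem c_rel_223 : allRange D.relOK 1228924 1410 = true := by decide +kernel
theorem c_rel_224 : allRange D.relOK 1230334 1319 = true := by decide +kernel
theorem c_rel_225 : allRange D.relOK 1231653 1340 = true := by decide +kernel
theorem c_rel_226 : allRange D.relOK 1232993 1369 = true := by decide +kernel
theorem c_rel_227 : allRange D.relOK 1234362 1298 = true := by decide +kernel
theorem c_rel_228 : allRange D.relOK 1235660 1353 = true := by decide +kernel
theorem c_rel_229 : allRange D.relOK 1237013 1305 = true := by decide +kernel
theorem c_rel_230 : allRange D.relOK 1238318 1342 = true := by decide +kernel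
theorem c_rel_231 : allRange D.relOK 1239660 1336 = true := by decide +kernel
theorem c_rel_232 : allRange D.relOK 1240996 1310 = true := by decide +kernel
theorem c_rel_233 : allRange D.relOK 1242306 1385 = true := by decide +kernel
theorem c_rel_234 : allRange D.relOK 1243691 1343 = true := by decide +kernel
theorem c_rel_235 : allRange D.relOK 1245034 1279 = true := by decide +kernel
theorem c_rel_236 : allRange D.relOK 1246313 1301 = true := by decide +kernel
theorem c_rel_237 : allRange D.relOK 1247614 1280 = true := by decide +kernel
theorem c_rel_238 : allRange D.relOK 1248894 1241 = true := by decide +kernel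
theorem c_rel_239 : allRange D.relOK 1250135 1247 = true := by decide +kernel
theorem c_rel_240 : allRange D.relOK 1251382 1305 = true := by decide +kernel
theorem c_rel_241 : allRange D.relOK 1252687 1258 = true := by decide +kernel
theorem c_rel_242 : allRange D.relOK 1253945 1237 = true := by decide +kernel
theorem c_rel_243 : allRange D.relOK 1255182 1256 = true := by decide +kernel
theorem c_rel_244 : allRange D.relOK 1256438 1243 = true := by decide +kernel
theorem c_rel_245 : allRange D.relOK 1257681 1219 = true := by decide +kernel
theorem c_rel_246 : allRange D.relOK 1258900 1214 = true := by decide +kernel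
theorem c_rel_247 : allRange D.relOK 1260114 1236 = true := by decide +kernel
theorem c_rel_248 : allRange D.relOK 1261350 1227 = true := by decide +kernel
theorem c_rel_249 : allRange D.relOK 1262577 1244 = true := by decide +kernel
theorem c_rel_250 : allRange D.relOK 1263821 1236 = true := by decide +kernel
theorem c_rel_251 : allRange D.relOK 1265057 1251 = true := by decide +kernel
theorem c_rel_252 : allRange D.relOK 1266308 1202 = true := by decide +kernel
theorem c_rel_253 : allRange D.relOK 1267510 3470 = true := by decide +kernel
theorem c_rel_254 : allRange D.relOK 1270980 4579 = true := by decide +kernel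
theorem c_rel_255 : allRange D.relOK 1275559 4690 = true := by decide +kernel
theorem c_rel_256 : allRange D.relOK 1280249 4720 = true := by decide +kernel
theorem c_rel_257 : allRange D.relOK 1284969 4761 = true := by decide +kernel
theorem c_rel_258 : allRange D.relOK 1289730 4754 = true := by decide +kernel
theorem c_rel_259 : allRange D.relOK 1294484 4802 = true := by decide +kernel
theorem c_rel_260 : allRange D.relOK 1299286 4792 = true := by decide +kernel
theorem c_rel_261 : allRange D.relOK 1304078 4825 = true := by decide +kernel
theorem c_rel_262 : allRange D.relOK 1308903 4824 = true := by decide +kernel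
theorem c_rel_263 : allRange D.relOK 1313727 4834 = true := by decide +kernel
theorem c_rel_264 : allRange D.relOK 1318561 4832 = true := by decide +kernel
theorem c_rel_265 : allRange D.relOK 1323393 4871 = true := by decide +kernel
theorem c_rel_266 : allRange D.relOK 1328264 4895 = true := by decide +kernel
theorem c_rel_267 : allRange D.relOK 1333159 4904 = true := by decide +kernel
theorem c_rel_268 : allRange D.relOK 1338063 4894 = true := by decide +kernel
theorem c_rel_269 : allRange D.relOK 1342957 4914 = true := by decide +kernel
theorem c_rel_270 : allRange D.relOK 1347871 4912 = true := by decide +kernel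
theorem c_rel_271 : allRange D.relOK 1352783 4939 = true := by decide +kernel
theorem c_rel_272 : allRange D.relOK 1357722 4925 = true := by decide +kernel
theorem c_rel_273 : allRange D.relOK 1362647 4928 = true := by decide +kernel
theorem c_rel_274 : allRange D.relOK 1367575 4923 = true := by decide +kernel
theorem c_rel_275 : allRange D.relOK 1372498 4884 = true := by decide +kernel
theorem c_rel_276 : allRange D.relOK 1377382 4862 = true := by decide +kernel
theorem c_rel_277 : allRange D.relOK 1382244 3268 = true := by decide +kernel
theorem c_fin_0 : allGrid (T.finOK D) 0 3000 4 = true := by decide +kernel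
theorem c_fin_1 : allGrid (T.finOK D) 3000 3000 4 = true := by decide +kernel
theorem c_fin_2 : allGrid (T.finOK D) 6000 3000 4 = true := by decide +kernel

end Cfsg.Agent.Lib.Helper4.TCD.Sp62pU1
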