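import Cfsg.Agent.Lib.Helper4.TCD_Sp62pU1_Acc

namespace Cfsg.Agent.Lib.Helper4.TCD.Sp62pU1

open Cfsg.Agent.Lib.Helper4.TC

set_option maxRecDepth 100000
set_option Elab.async false

theorem c_fin_3 : allGrid (T.finOK D) 9000 3000 4 = true := by decide +kernel
theorem c_fin_4 : allGrid (T.finOK D) 12000 3000 4 = true := by decide +kernel
theorem c_fin_5 : allGrid (T.finOK D) 15000 3000 4 = true := by decide +kernel
theorem c_fin_6 : allGrid (T.finOK D) 18000 3000 4 = true := by decide +kernel
theorem c_fin_7 : allGrid (T.finOK D) 21000 3000 4 = true := by decide +kernel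
theorem c_fin_8 : allGrid (T.finOK D) 24000 3000 4 = true := by decide +kernel
theorem c_fin_9 : allGrid (T.finOK D) 27000 3000 4 = true := by decide +kernel
theorem c_fin_10 : allGrid (T.finOK D) 30000 3000 4 = true := by decide +kernel
theorem c_fin_11 : allGrid (T.finOK D) 33000 3000 4 = true := by decide +kernel
theorem c_fin_12 : allGrid (T.finOK D) 36000 3000 4 = true := by decide +kernel
theorem c_fin_13 : allGrid (T.finOK D) 39000 3000 4 = true := by decide +kernel
theorem c_fin_14 : allGrid (T.finOK D) 42000 3000 4 = true := by decide +kernel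
theorem c_fin_15 : allGrid (T.finOK D) 45000 3000 4 = true := by decide +kernel
theorem c_fin_16 : allGrid (T.finOK D) 48000 3000 4 = true := by decide +kernel
theorem c_fin_17 : allGrid (T.finOK D) 51000 3000 4 = true := by decide +kernel
theorem c_fin_18 : allGrid (T.finOK D) 54000 3000 4 = true := by decide +kernel
theorem c_fin_19 : allGrid (T.finOK D) 57000 3000 4 = true := by decide +kernel
theorem c_fin_20 : allGrid (T.finOK D) 60000 3000 4 = true := by decide +kernel
theorem c_fin_21 : allGrid (T.finOK D) 63000 3000 4 = true := by decide +kernel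
theorem c_fin_22 : allGrid (T.finOK D) 66000 3000 4 = true := by decide +kernel
theorem c_fin_23 : allGrid (T.finOK D) 69000 3000 4 = true := by decide +kernel
theorem c_fin_24 : allGrid (T.finOK D) 72000 3000 4 = true := by decide +kernel
theorem c_fin_25 : allGrid (T.finOK D) 75000 3000 4 = true := by decide +kernel
theorem c_fin_26 : allGrid (T.finOK D) 78000 3000 4 = true := by decide +kernel
theorem c_fin_27 : allGrid (T.finOK D) 81000 3000 4 = true := by decide +kernel
theorem c_fin_28 : allGrid (T.finOK D) 84000 3000 4 = true := by decide +kernel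
theorem c_fin_29 : allGrid (T.finOK D) 87000 3000 4 = true := by decide +kernel
theorem c_fin_30 : allGrid (T.finOK D) 90000 3000 4 = true := by decide +kernel
theorem c_fin_31 : allGrid (T.finOK D) 93000 3000 4 = true := by decide +kernel
theorem c_fin_32 : allGrid (T.finOK D) 96000 3000 4 = true := by decide +kernel
theorem c_fin_33 : allGrid (T.finOK D) 99000 3000 4 = true := by decide +kernel
theorem c_fin_34 : allGrid (T.finOK D) 102000 3000 4 = true := by decide +kernel
theorem c_fin_35 : allGrid (T.finOK D) 105000 3000 4 = true := by decide +kernel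
theorem c_fin_36 : allGrid (T.finOK D) 108000 3000 4 = true := by decide +kernel
theorem c_fin_37 : allGrid (T.finOK D) 111000 3000 4 = true := by decide +kernel
theorem c_fin_38 : allGrid (T.finOK D) 114000 3000 4 = true := by decide +kernel
theorem c_fin_39 : allGrid (T.finOK D) 117000 3000 4 = true := by decide +kernel
theorem c_fin_40 : allGrid (T.finOK D) 120000 3000 4 = true := by decide +kernel
theorem c_fin_41 : allGrid (T.finOK D) 123000 3000 4 = true := by decide +kernel
theorem c_fin_42 : allGrid (T.finOK D) 126000 3000 4 = true := by decide +kernel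
theorem c_fin_43 : allGrid (T.finOK D) 129000 3000 4 = true := by decide +kernel
theorem c_fin_44 : allGrid (T.finOK D) 132000 3000 4 = true := by decide +kernel
theorem c_fin_45 : allGrid (T.finOK D) 135000 3000 4 = true := by decide +kernel
theorem c_fin_46 : allGrid (T.finOK D) 138000 3000 4 = true := by decide +kernel
theorem c_fin_47 : allGrid (T.finOK D) 141000 3000 4 = true := by decide +kernel
theorem c_fin_48 : allGrid (T.finOK D) 144000 3000 4 = true := by decide +kernel
theorem c_fin_49 : allGrid (T.finOK D) 147000 3000 4 = true := by decide +kernel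
theorem c_fin_50 : allGrid (T.finOK D) 150000 3000 4 = true := by decide +kernel
theorem c_fin_51 : allGrid (T.finOK D) 153000 3000 4 = true := by decide +kernel
theorem c_fin_52 : allGrid (T.finOK D) 156000 3000 4 = true := by decide +kernel

end Cfsg.Agent.Lib.Helper4.TCD.Sp62pU1
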