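import Cfsg.Agent.Lib.Helper4.TCD_Sp62pU1_Acc

namespace Cfsg.Agent.Lib.Helper4.TCD.Sp62pU1

open Cfsg.Agent.Lib.Helper4.TC

set_option maxRecDepth 100000
set_option Elab.async false

theorem c_fin_53 : allGrid (T.finOK D) 159000 3000 4 = true := by decide +kernel
theorem c_fin_54 : allGrid (T.finOK D) 162000 3000 4 = true := by decide +kernel
theorem c_fin_55 : allGrid (T.finOK D) 165000 3000 4 = true := by decide +kernel
theorem c_fin_56 : allGrid (T.finOK D) 168000 3000 4 = true := by decide +kernel
theorem c_fin_57 : allGrid (T.finOK D) 171000 3000 4 = true := by decide +kernel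
theorem c_fin_58 : allGrid (T.finOK D) 174000 3000 4 = true := by decide +kernel
theorem c_fin_59 : allGrid (T.finOK D) 177000 3000 4 = true := by decide +kernel
theorem c_fin_60 : allGrid (T.finOK D) 180000 3000 4 = true := by decide +kernel
theorem c_fin_61 : allGrid (T.finOK D) 183000 3000 4 = true := by decide +kernel
theorem c_fin_62 : allGrid (T.finOK D) 186000 3000 4 = true := by decide +kernel
theorem c_fin_63 : allGrid (T.finOK D) 189000 3000 4 = true := by decide +kernel
theorem c_fin_64 : allGrid (T.finOK D) 192000 3000 4 = true := by decide +kernel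
theorem c_fin_65 : allGrid (T.finOK D) 195000 3000 4 = true := by decide +kernel
theorem c_fin_66 : allGrid (T.finOK D) 198000 3000 4 = true := by decide +kernel
theorem c_fin_67 : allGrid (T.finOK D) 201000 3000 4 = true := by decide +kernel
theorem c_fin_68 : allGrid (T.finOK D) 204000 3000 4 = true := by decide +kernel
theorem c_fin_69 : allGrid (T.finOK D) 207000 360 4 = true := by decide +kernel
theorem c_perm_0 : allGrid (T.permOK1 D) 0 7500 4 = true := by decide +kernel
theorem c_perm_1 : allGrid (T.permOK1 D) 7500 7500 4 = true := by decide +kernel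
theorem c_perm_2 : allGrid (T.permOK1 D) 15000 7500 4 = true := by decide +kernel
theorem c_perm_3 : allGrid (T.permOK1 D) 22500 7500 4 = true := by decide +kernel
theorem c_perm_4 : allGrid (T.permOK1 D) 30000 7500 4 = true := by decide +kernel
theorem c_perm_5 : allGrid (T.permOK1 D) 37500 7500 4 = true := by decide +kernel
theorem c_perm_6 : allGrid (T.permOK1 D) 45000 7500 4 = true := by decide +kernel
theorem c_perm_7 : allGrid (T.permOK1 D) 52500 7500 4 = true := by decide +kernel
theorem c_perm_8 : allGrid (T.permOK1 D) 60000 7500 4 = true := by decide +kernel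
theorem c_perm_9 : allGrid (T.permOK1 D) 67500 7500 4 = true := by decide +kernel
theorem c_perm_10 : allGrid (T.permOK1 D) 75000 7500 4 = true := by decide +kernel
theorem c_perm_11 : allGrid (T.permOK1 D) 82500 7500 4 = true := by decide +kernel
theorem c_perm_12 : allGrid (T.permOK1 D) 90000 7500 4 = true := by decide +kernel
theorem c_perm_13 : allGrid (T.permOK1 D) 97500 7500 4 = true := by decide +kernel
theorem c_perm_14 : allGrid (T.permOK1 D) 105000 7500 4 = true := by decide +kernel
theorem c_perm_15 : allGrid (T.permOK1 D) 112500 7500 4 = true := by decide +kernel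
theorem c_perm_16 : allGrid (T.permOK1 D) 120000 7500 4 = true := by decide +kernel
theorem c_perm_17 : allGrid (T.permOK1 D) 127500 7500 4 = true := by decide +kernel
theorem c_perm_18 : allGrid (T.permOK1 D) 135000 7500 4 = true := by decide +kernel
theorem c_perm_19 : allGrid (T.permOK1 D) 142500 7500 4 = true := by decide +kernel
theorem c_perm_20 : allGrid (T.permOK1 D) 150000 7500 4 = true := by decide +kernel
theorem c_perm_21 : allGrid (T.permOK1 D) 157500 7500 4 = true := by decide +kernel
theorem c_perm_22 : allGrid (T.permOK1 D) 165000 7500 4 = true := by decide +kernel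
theorem c_perm_23 : allGrid (T.permOK1 D) 172500 7500 4 = true := by decide +kernel
theorem c_perm_24 : allGrid (T.permOK1 D) 180000 7500 4 = true := by decide +kernel
theorem c_perm_25 : allGrid (T.permOK1 D) 187500 7500 4 = true := by decide +kernel
theorem c_perm_26 : allGrid (T.permOK1 D) 195000 7500 4 = true := by decide +kernel
theorem c_perm_27 : allGrid (T.permOK1 D) 202500 4860 4 = true := by decide +kernel

end Cfsg.Agent.Lib.Helper4.TCD.Sp62pU1
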