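import Mathlib
import Cfsg.Agent.Lib.Helper4.TCD_Sp62pA_Fin
import Cfsg.Agent.Lib.Helper4.TCD_Sp62pU1_Fin
import Cfsg.Agent.Lib.Helper4.TCD_Sp62pU2_Fin
import Cfsg.Agent.Lib.Helper4.TCD_Sp62pL_Fin
import Cfsg.Agent.Lib.Helper4.TCD_Sp62pX7_Fin
import Cfsg.Agent.Lib.Helper4.TCD_Sp62p7Q
import Cfsg.Agent.Lib.Helper4.TC16

/-! The presented group `Sp62p` has order 1451520 (generated). -/

namespace Cfsg.Agent.Lib.Helper4.Sp62pMain

open Cfsg.Agent.Lib.Helper4.TC Cfsg.Agent.Lib.Helper4.TCD Cfsg.Agent.Lib.Helper4.TC.Log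

theorem letG_01 : letG PSp62p.P [0] = letG PSp62p.P [0, 1] := by
  apply le_antisymm
  · apply Subgroup.closure_mono
    rintro s ⟨x, hx, rfl⟩
    simp only [List.mem_cons, List.not_mem_nil, or_false] at hx
    exact ⟨x, by rw [hx]; simp, rfl⟩
  · rw [letG, Subgroup.closure_le]
    rintro s ⟨x, hx, rfl⟩
    simp only [List.mem_cons, List.not_mem_nil, or_false] at hx
    rcases hx with rfl | rfl
    · exact Subgroup.subset_closure ⟨0, by simp, rfl⟩
    · have h : PSp62p.P.gR 1 = (PSp62p.P.gR 0)⁻¹ := (PSp62p.valid.invR_sound 0 (by decide)).2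
      rw [h]
      exact inv_mem (Subgroup.subset_closure ⟨0, by simp, rfl⟩)

/-- the order and the faithful permutation representation -/
theorem order_aux : Finite PSp62p.P.Grp ∧ Function.Injective Sp62pA.inst.phi ∧ Nat.card PSp62p.P.Grp = 1451520 := by
  have e0 : letG PSp62p.P [] = ⊥ := letG_nil _
  have f0 : Finite (letG PSp62p.P []) := by rw [e0]; infer_instance
  have c0 : Nat.card (letG PSp62p.P []) = 1 := by rw [e0]; exact Subgroup.card_bot
  obtain ⟨f2, c2⟩ := Sp62pU2.card_le f0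
  rw [← letG_01] at f2 c2
  obtain ⟨f1, c1⟩ := Sp62pU1.card_le f2
  have htop : letG PSp62p.P [0, 1, 2, 3] = ⊤ := letG_all PSp62p.P PSp62p.valid
  have fG : Finite PSp62p.P.Grp := by
    have h := f1
    rw [htop] at h
    exact Finite.of_equiv _ (Subgroup.topEquiv (G := PSp62p.P.Grp)).toEquiv
  have cG : Nat.card PSp62p.P.Grp ≤ 207360 * (7 * 1) := by
    rw [← Subgroup.card_top (G := PSp62p.P.Grp), ← htop]
    calc Nat.card (letG PSp62p.P [0, 1, 2, 3]) ≤ 207360 * Nat.card (letG PSp62p.P [0]) := c1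
      _ ≤ 207360 * (7 * Nat.card (letG PSp62p.P [])) := Nat.mul_le_mul_left _ c2
      _ = 207360 * (7 * 1) := by rw [c0]
  have hub : Nat.card PSp62p.P.Grp ≤ 1451520 := le_trans cG (by decide)
  obtain ⟨hinj, hcard⟩ := Sp62pA.inst.card_eq Sp62pL.S rfl rfl Sp62pL.htab0 Sp62pL.ok 1451520 (by decide)
    Sp62pL.prod_eq fG hub
  exact ⟨fG, hinj, hcard⟩

theorem horb : OrbCond (Inst.subG PSp62p.P Sp62pA.subs) Sp62pA.inst.equiv [1, 27] 0 := by
  refine ⟨?_, ?_, trivial⟩
  · intro j j' _ h2 _ h4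
    have e1 : j = j' := Fin.ext (by omega)
    exact ⟨1, one_mem _, by rw [one_smul, e1]⟩
  · intro j j' h1 h2 h3 h4
    exact Sp62pA.inst.trans_of_orbit_eq 1 28 (by decide) (by decide)
      (Sp62pA.inst.orbit_eq Sp62pA.oparTab Sp62pA.olabTab 1 28 (by decide) (by decide) Sp62pA.orb_inv_0 Sp62pA.orb_tree_0)
      j j' (by omega) (by omega) (by omega) (by omega)

theorem simple_aux : IsSimpleGroup PSp62p.P.Grp := by
  obtain ⟨fG, hinj, hcard⟩ := order_aux
  apply Sp62pA.inst.simple2 hinj fG [1, 27] (by decide) horb (by decide) [7]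
  · intro q hq
    simp only [List.mem_cons, List.not_mem_nil, or_false] at hq
    rcases hq with rfl
    · refine ⟨by norm_num, by rw [hcard]; decide, Log.wordP PSp62p.P.gR Sp62pX7.xw, ?_, Sp62pX7.normalClosure_eq_top⟩
      exact Sp62pA.inst.pow_eq_one hinj Sp62pX7.xw (by decide) 7 Sp62p7Q.h_xq
  · decide +kernel

end Cfsg.Agent.Lib.Helper4.Sp62pMain
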