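import Mathlib
import Cfsg.Agent.Lib.Helper4.C2Sp62Main
import Cfsg.Agent.Lib.Helper4.AbelCert
import Cfsg.Agent.Lib.Helper4.StemLib6
import Cfsg.Agent.Lib.Helper4.RelLib

/-!
The presented group `C2Sp62` is a perfect central extension of the presented group `Sp62p` whose kernel is
cyclic of order 2.
-/

set_option autoImplicit false

namespace Cfsg.Agent.Lib.Helper4.C2Sp62Cover

open Cfsg Cfsg.Agent.Lib.Helper4.TC Cfsg.Agent.Lib.Helper4.TCD Cfsg.Agent.Lib.Helper4.TC.Log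
  Cfsg.Agent.Lib.Helper4.Stem Cfsg.Agent.Lib.Helper4.AbelCert
  Cfsg.Agent.Lib.Helper4.C2Sp62Main

local notation "G" => PC2Sp62.P.Grp
local notation "gG" => PC2Sp62.P.gR

/-- the letters of `C2Sp62` as words of `Sp62p`: the central letter is killed -/
def Wl (l : ℕ) : List ℕ := [[0], [1], [2], [3], [], []].getD l []

theorem rel_act : ∀ L ∈ PC2Sp62.P.real, ∀ i, i < Sp62pA.T.N →
    Tab.relActOK Sp62pA.T Sp62pA.D (L.flatMap Wl) i = true := by decide +kernel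

theorem rel_lt : ∀ L ∈ PC2Sp62.P.real, ∀ x ∈ L.flatMap Wl, x < 4 := by decide +kernel

theorem exists_hom : ∃ π : G →* PSp62p.P.Grp, ∀ l, l < PC2Sp62.P.k →
    π (gG l) = xw PSp62p.P Wl l := by
  obtain ⟨fG, hinj, hcard⟩ := Sp62pMain.order_aux
  apply exists_hom_of_letters PC2Sp62.P PC2Sp62.valid (xw PSp62p.P Wl)
  · intro l hl
    have hl : l < 6 := hl
    have h1 : PSp62p.P.gR 1 = (PSp62p.P.gR 0)⁻¹ := (PSp62p.valid.invR_sound 0 (by decide)).2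
    have h3 : PSp62p.P.gR 3 = (PSp62p.P.gR 2)⁻¹ := (PSp62p.valid.invR_sound 2 (by decide)).2
    interval_cases l
    · show wordP PSp62p.P.gR [0] * wordP PSp62p.P.gR [1] = 1
      simp only [wordP_cons, wordP_nil, mul_one, h1, mul_inv_cancel]
    · show wordP PSp62p.P.gR [1] * wordP PSp62p.P.gR [0] = 1
      simp only [wordP_cons, wordP_nil, mul_one, h1, inv_mul_cancel]
    · show wordP PSp62p.P.gR [2] * wordP PSp62p.P.gR [3] = 1
      simp only [wordP_cons, wordP_nil, mul_one, h3, mul_inv_cancel]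
    · show wordP PSp62p.P.gR [3] * wordP PSp62p.P.gR [2] = 1
      simp only [wordP_cons, wordP_nil, mul_one, h3, inv_mul_cancel]
    · show wordP PSp62p.P.gR [] * wordP PSp62p.P.gR [] = 1
      simp only [wordP_nil, mul_one]
    · show wordP PSp62p.P.gR [] * wordP PSp62p.P.gR [] = 1
      simp only [wordP_nil, mul_one]
  · intro L hL
    rw [wordP_xw]
    exact Sp62pA.inst.word_eq_one hinj _ (rel_lt L hL) (rel_act L hL)

/-- the covering homomorphism -/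
noncomputable def π : G →* PSp62p.P.Grp := Classical.choose exists_hom

theorem π_gR (l : ℕ) (hl : l < 6) : π (gG l) = xw PSp62p.P Wl l :=
  Classical.choose_spec exists_hom l hl

theorem π_surjective : Function.Surjective π := by
  rw [← MonoidHom.range_eq_top, eq_top_iff, ← PSp62p.valid.gen_top, Subgroup.closure_le]
  rintro _ ⟨y, hy, rfl⟩
  have hy : y < 4 := hy
  interval_cases y
  · exact ⟨gG 0, by rw [π_gR 0 (by decide)]; simp [xw, Wl, wordP_cons, wordP_nil]⟩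
  · exact ⟨gG 1, by rw [π_gR 1 (by decide)]; simp [xw, Wl, wordP_cons, wordP_nil]⟩
  · exact ⟨gG 2, by rw [π_gR 2 (by decide)]; simp [xw, Wl, wordP_cons, wordP_nil]⟩
  · exact ⟨gG 3, by rw [π_gR 3 (by decide)]; simp [xw, Wl, wordP_cons, wordP_nil]⟩

theorem Z_le_ker : Z ≤ π.ker := by
  rw [Z, Subgroup.zpowers_le]
  show z ∈ π.ker
  rw [MonoidHom.mem_ker]
  show π (gG 4) = 1
  rw [π_gR 4 (by decide)]
  rfl

theorem card_ker : Nat.card π.ker = 2 := by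
  obtain ⟨fG, _, hcard⟩ := C2Sp62Main.order_aux
  obtain ⟨fG', _, hcard'⟩ := Sp62pMain.order_aux
  have h := card_eq_of_stem π π_surjective
  rw [hcard, hcard'] at h
  omega

/-- the kernel is the central subgroup generated by `z` -/
theorem ker_eq : π.ker = Z := by
  obtain ⟨fG, _, _⟩ := C2Sp62Main.order_aux
  have := fG
  symm
  apply Subgroup.eq_of_le_of_card_ge Z_le_ker
  rw [card_ker, card_Z]

theorem cert0 : PC2Sp62.P.gR 0 ∈ commutator PC2Sp62.P.Grp := by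
  apply mem_commutator_of_perm PC2Sp62.P PC2Sp62.valid 0
    [[0, 0, 0, 0, 0, 0, 0], [4, 3, 3], [4, 3, 3], [4, 3, 3], [2, 0, 2, 0, 2, 0, 2, 0, 2, 0, 2, 0, 2, 0, 2, 0, 2, 0], [2, 0, 2, 0, 2, 0, 2, 0, 2, 0, 2, 0, 2, 0, 2, 0, 2, 0], [1, 1, 3, 1, 1, 3, 1, 1, 3, 1, 1, 3, 1, 1, 3, 1, 1, 3, 1, 1, 3, 1, 1, 3, 1, 1, 3, 1, 1, 3, 1, 1, 3, 1, 1, 3], [2, 0, 3, 1, 2, 0, 3, 1, 2, 0, 3, 1, 5], [5, 5]]
    (by decide +kernel) (by decide +kernel)
    [0, 0, 0, 0, 0, 0, 0, 0, 0, 0, 0, 0, 0, 0, 0, 0, 0, 0, 0, 0, 0, 0, 0, 0, 0, 0, 0, 2, 2, 2, 2, 2, 2, 2, 2, 2, 2, 2, 2, 2, 2, 2, 2, 2, 2, 2, 2, 2, 4, 4, 4]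
    (by decide +kernel) (by decide +kernel)

theorem cert2 : PC2Sp62.P.gR 2 ∈ commutator PC2Sp62.P.Grp := by
  apply mem_commutator_of_perm PC2Sp62.P PC2Sp62.valid 2
    [[0, 0, 0, 0, 0, 0, 0], [0, 0, 0, 0, 0, 0, 0], [0, 0, 0, 0, 0, 0, 0], [4, 3, 3], [2, 0, 2, 0, 2, 0, 2, 0, 2, 0, 2, 0, 2, 0, 2, 0, 2, 0], [2, 0, 2, 0, 2, 0, 2, 0, 2, 0, 2, 0, 2, 0, 2, 0, 2, 0], [2, 0, 2, 0, 2, 0, 2, 0, 2, 0, 2, 0, 2, 0, 2, 0, 2, 0], [1, 1, 3, 1, 1, 3, 1, 1, 3, 1, 1, 3, 1, 1, 3, 1, 1, 3, 1, 1, 3, 1, 1, 3, 1, 1, 3, 1, 1, 3, 1, 1, 3, 1, 1, 3], [1, 1, 3, 1, 1, 3, 1, 1, 3, 1, 1, 3, 1, 1, 3, 1, 1, 3, 1, 1, 3, 1, 1, 3, 1, 1, 3, 1, 1, 3, 1, 1, 3, 1, 1, 3], [2, 0, 3, 1, 2, 0, 3, 1, 2, 0, 3, 1, 5]]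
    (by decide +kernel) (by decide +kernel)
    [0, 0, 0, 0, 0, 0, 0, 0, 0, 0, 0, 0, 0, 0, 0, 0, 0, 0, 0, 0, 0, 0, 0, 0, 0, 0, 0, 0, 0, 0, 0, 0, 0, 0, 0, 0, 0, 0, 0, 0, 0, 0, 0, 0, 0, 0, 0, 0, 0, 0, 0, 2, 2, 2, 2, 2, 2, 2, 2, 2, 2, 2, 2, 2, 2, 2, 2, 2, 2, 2, 2, 2, 2, 2, 2, 2, 2, 2, 2, 2, 4]
    (by decide +kernel) (by decide +kernel)

theorem cert4 : PC2Sp62.P.gR 4 ∈ commutator PC2Sp62.P.Grp := by
  apply mem_commutator_of_perm PC2Sp62.P PC2Sp62.valid 4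
    [[4, 0, 2, 1, 3, 0, 2, 1, 3, 0, 2, 1, 3]]
    (by decide +kernel) (by decide +kernel)
    [0, 0, 0, 2, 2, 2]
    (by decide +kernel) (by decide +kernel)

/-- the generators are products of commutators -/
theorem gR_mem_commutator (l : ℕ) (hl : l < 6) : gG l ∈ commutator G := by
  interval_cases l
  · exact cert0
  · rw [show (1 : ℕ) = PC2Sp62.P.invR 0 from rfl, hinv 0 (by decide)]
    exact Subgroup.inv_mem _ cert0
  · exact cert2
  · rw [show (3 : ℕ) = PC2Sp62.P.invR 2 from rfl, hinv 2 (by decide)]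
    exact Subgroup.inv_mem _ cert2
  · exact cert4
  · rw [show (5 : ℕ) = PC2Sp62.P.invR 4 from rfl, hinv 4 (by decide)]
    exact Subgroup.inv_mem _ cert4

theorem perfect : commutator G = ⊤ :=
  commutator_eq_top_of_letters PC2Sp62.P PC2Sp62.valid gR_mem_commutator

/-- the covering homomorphism is a stem extension -/
theorem isStem : IsStemExtension π := by
  refine ⟨π_surjective, ?_, ?_⟩
  · rw [ker_eq]
    exact Z_le_center
  · rw [perfect]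
    exact le_top

/-- the kernel is cyclic of order 2 -/
theorem ker_equiv : Nonempty (π.ker ≃* Multiplicative (ZMod 2)) := by
  have : Fact (Nat.Prime 2) := ⟨Nat.prime_two⟩
  have h2 : Nat.card (Multiplicative (ZMod 2)) = 2 := by
    rw [Nat.card_eq_fintype_card]
    exact ZMod.card 2
  exact ⟨mulEquivOfPrimeCardEq card_ker h2⟩

end Cfsg.Agent.Lib.Helper4.C2Sp62Cover
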