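import Mathlib
import Cfsg.Prelude.Def_SporCoxeter

/-! The double cover of Sp6(2), of order 2·1451520, presented on lifts `b`, `a` of the generators of `Sp62p` and the central involution `z` (generated). -/

namespace Cfsg.Agent.Lib.Helper4

namespace C2Sp62

/-- the generators -/
inductive Gen
  | b
  | a
  | z
  deriving DecidableEq

abbrev b : FreeGroup Gen := FreeGroup.of Gen.b
abbrev a : FreeGroup Gen := FreeGroup.of Gen.a
abbrev z : FreeGroup Gen := FreeGroup.of Gen.z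

/-- no Coxeter graph -/
def edges : List (Gen × ℕ × Gen) := []

/-- the relators -/
def extra : List (FreeGroup Gen) := [
  b ^ 7,
  a * a * z⁻¹,
  (a * b) ^ 9,
  (a * b * b) ^ 12,
  ((a * b * a⁻¹ * b⁻¹) ^ 3) * z⁻¹,
  ((a * b * b * a⁻¹ * b⁻¹ * b⁻¹) ^ 2) * z⁻¹,
  z ^ 2,
  z⁻¹ * b⁻¹ * z * b,
  z⁻¹ * a⁻¹ * z * a ]

end C2Sp62

end Cfsg.Agent.Lib.Helper4
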