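import Cfsg.Agent.Lib.Helper4.TCD_C2Sp62R_Acc
import Cfsg.Agent.Lib.Helper4.TC13

namespace Cfsg.Agent.Lib.Helper4.TCD.C2Sp62S

open Cfsg.Agent.Lib.Helper4.TC Cfsg.Agent.Lib.Helper4.TCD.C2Sp62R

set_option maxRecDepth 100000
set_option Elab.async false

def chk0 : List Nat := [0, 0, 0, 0, 0, 0, 0]
noncomputable def act0 (i : Nat) : Nat := col1 (col1 (col1 (col1 (col1 (col1 (col1 (i)))))))
theorem act0_eq (i : Nat) : act0 i = Tab.act T D chk0 i := rfl
theorem c0_0 : allRange (fun i => Nat.beq (act0 i) i) 0 480 = true := by decide +kernel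
theorem h0 : ∀ i, i < T.N → Tab.relActOK T D chk0 i = true := by
  intro i hi
  rw [Tab.relActOK, ← act0_eq]
  exact (range_of_allRange c0_0) i (Nat.zero_le _) hi

def chk1 : List Nat := [0, 0, 2, 0, 2, 0, 0, 2, 0, 0, 2, 0, 2, 1, 2, 0, 2, 0, 0, 2, 0, 0, 2, 0, 2, 0, 3, 1, 3, 1, 1, 3, 1, 1, 3, 1, 3, 0, 2, 0, 2, 0, 0, 2, 0, 0, 2, 0, 2, 1, 2, 0, 2, 0, 0, 2, 0, 0, 2, 0, 2]
noncomputable def act1 (i : Nat) : Nat := col1 (col1 (col3 (col1 (col3 (col1 (col1 (col3 (col1 (col1 (col3 (col1 (col3 (col0 (col3 (col1 (col3 (col1 (col1 (col3 (col1 (col1 (col3 (col1 (col3 (col1 (col2 (col0 (col2 (col0 (col0 (col2 (col0 (col0 (col2 (col0 (col2 (col1 (col3 (col1 (col3 (col1 (col1 (col3 (col1 (col1 (col3 (col1 (col3 (col0 (col3 (col1 (col3 (col1 (col1 (col3 (col1 (col1 (col3 (col1 (col3 (i)))))))))))))))))))))))))))))))))))))))))))))))))))))))))))))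
theorem act1_eq (i : Nat) : act1 i = Tab.act T D chk1 i := rfl
theorem c1_0 : allRange (fun i => Nat.beq (act1 i) i) 0 480 = true := by decide +kernel
theorem h1 : ∀ i, i < T.N → Tab.relActOK T D chk1 i = true := by
  intro i hi
  rw [Tab.relActOK, ← act1_eq]
  exact (range_of_allRange c1_0) i (Nat.zero_le _) hi

def chk2 : List Nat := [0, 0, 0, 2, 0, 2, 0, 0, 2, 0, 0, 2, 0, 2, 0, 0, 0, 2, 0, 2, 0, 0, 2, 0, 0, 2, 0, 2, 0, 0, 0, 2, 0, 2, 0, 0, 2, 0, 0, 2, 0, 2]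
noncomputable def act2 (i : Nat) : Nat := col1 (col1 (col1 (col3 (col1 (col3 (col1 (col1 (col3 (col1 (col1 (col3 (col1 (col3 (col1 (col1 (col1 (col3 (col1 (col3 (col1 (col1 (col3 (col1 (col1 (col3 (col1 (col3 (col1 (col1 (col1 (col3 (col1 (col3 (col1 (col1 (col3 (col1 (col1 (col3 (col1 (col3 (i))))))))))))))))))))))))))))))))))))))))))
theorem act2_eq (i : Nat) : act2 i = Tab.act T D chk2 i := rfl
theorem c2_0 : allRange (fun i => Nat.beq (act2 i) i) 0 480 = true := by decide +kernel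
theorem h2 : ∀ i, i < T.N → Tab.relActOK T D chk2 i = true := by
  intro i hi
  rw [Tab.relActOK, ← act2_eq]
  exact (range_of_allRange c2_0) i (Nat.zero_le _) hi

def chk3 : List Nat := [0, 0, 2, 0, 2, 0, 0, 2, 0, 0, 2, 0, 2, 2, 0, 2, 0, 0, 2, 0, 0, 2, 0, 2, 0, 0, 3, 1, 3, 1, 1, 3, 1, 1, 3, 1, 3, 3, 1, 3, 1, 1, 3, 1, 1, 3, 1, 3, 0, 0, 3, 1, 3, 1, 1, 3, 1, 1, 3, 1, 3, 3, 1, 3, 1, 1, 3, 1, 1, 3, 1, 3]
noncomputable def act3 (i : Nat) : Nat := col1 (col1 (col3 (col1 (col3 (col1 (col1 (col3 (col1 (col1 (col3 (col1 (col3 (col3 (col1 (col3 (col1 (col1 (col3 (col1 (col1 (col3 (col1 (col3 (col1 (col1 (col2 (col0 (col2 (col0 (col0 (col2 (col0 (col0 (col2 (col0 (col2 (col2 (col0 (col2 (col0 (col0 (col2 (col0 (col0 (col2 (col0 (col2 (col1 (col1 (col2 (col0 (col2 (col0 (col0 (col2 (col0 (col0 (col2 (col0 (col2 (col2 (col0 (col2 (col0 (col0 (col2 (col0 (col0 (col2 (col0 (col2 (i))))))))))))))))))))))))))))))))))))))))))))))))))))))))))))))))))))))))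
theorem act3_eq (i : Nat) : act3 i = Tab.act T D chk3 i := rfl
theorem c3_0 : allRange (fun i => Nat.beq (act3 i) i) 0 480 = true := by decide +kernel
theorem h3 : ∀ i, i < T.N → Tab.relActOK T D chk3 i = true := by
  intro i hi
  rw [Tab.relActOK, ← act3_eq]
  exact (range_of_allRange c3_0) i (Nat.zero_le _) hi

def chk4 : List Nat := [0, 1]
noncomputable def act4 (i : Nat) : Nat := col1 (col0 (i))
theorem act4_eq (i : Nat) : act4 i = Tab.act T D chk4 i := rfl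
theorem c4_0 : allRange (fun i => Nat.beq (act4 i) i) 0 480 = true := by decide +kernel
theorem h4 : ∀ i, i < T.N → Tab.relActOK T D chk4 i = true := by
  intro i hi
  rw [Tab.relActOK, ← act4_eq]
  exact (range_of_allRange c4_0) i (Nat.zero_le _) hi

def chk5 : List Nat := [1, 0]
noncomputable def act5 (i : Nat) : Nat := col0 (col1 (i))
theorem act5_eq (i : Nat) : act5 i = Tab.act T D chk5 i := rfl
theorem c5_0 : allRange (fun i => Nat.beq (act5 i) i) 0 480 = true := by decide +kernel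
theorem h5 : ∀ i, i < T.N → Tab.relActOK T D chk5 i = true := by
  intro i hi
  rw [Tab.relActOK, ← act5_eq]
  exact (range_of_allRange c5_0) i (Nat.zero_le _) hi

def chk6 : List Nat := [2, 0, 2, 0, 0, 2, 0, 0, 2, 0, 2, 3, 1, 3, 1, 1, 3, 1, 1, 3, 1, 3]
noncomputable def act6 (i : Nat) : Nat := col3 (col1 (col3 (col1 (col1 (col3 (col1 (col1 (col3 (col1 (col3 (col2 (col0 (col2 (col0 (col0 (col2 (col0 (col0 (col2 (col0 (col2 (i))))))))))))))))))))))
theorem act6_eq (i : Nat) : act6 i = Tab.act T D chk6 i := rfl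
theorem c6_0 : allRange (fun i => Nat.beq (act6 i) i) 0 480 = true := by decide +kernel
theorem h6 : ∀ i, i < T.N → Tab.relActOK T D chk6 i = true := by
  intro i hi
  rw [Tab.relActOK, ← act6_eq]
  exact (range_of_allRange c6_0) i (Nat.zero_le _) hi

def chk7 : List Nat := [3, 1, 3, 1, 1, 3, 1, 1, 3, 1, 3, 2, 0, 2, 0, 0, 2, 0, 0, 2, 0, 2]
noncomputable def act7 (i : Nat) : Nat := col2 (col0 (col2 (col0 (col0 (col2 (col0 (col0 (col2 (col0 (col2 (col3 (col1 (col3 (col1 (col1 (col3 (col1 (col1 (col3 (col1 (col3 (i))))))))))))))))))))))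
theorem act7_eq (i : Nat) : act7 i = Tab.act T D chk7 i := rfl
theorem c7_0 : allRange (fun i => Nat.beq (act7 i) i) 0 480 = true := by decide +kernel
theorem h7 : ∀ i, i < T.N → Tab.relActOK T D chk7 i = true := by
  intro i hi
  rw [Tab.relActOK, ← act7_eq]
  exact (range_of_allRange c7_0) i (Nat.zero_le _) hi

def chkAll : List (List Nat) := [chk0, chk1, chk2, chk3, chk4, chk5, chk6, chk7]
theorem hAll : ∀ w ∈ chkAll, ∀ i, i < T.N → Tab.relActOK T D w i = true := by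
  intro w hw
  simp only [chkAll, List.mem_cons, List.not_mem_nil, or_false] at hw
  rcases hw with rfl | rfl | rfl | rfl | rfl | rfl | rfl | rfl
  · exact h0
  · exact h1
  · exact h2
  · exact h3
  · exact h4
  · exact h5
  · exact h6
  · exact h7
theorem hAll_lt : ∀ w ∈ chkAll, ∀ x ∈ w, x < 6 := by decide +kernel

end Cfsg.Agent.Lib.Helper4.TCD.C2Sp62S
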