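import Cfsg.Agent.Lib.Helper4.TCD_C2Sp62R_Acc
import Cfsg.Agent.Lib.Helper4.TC13

namespace Cfsg.Agent.Lib.Helper4.TCD.SC2Sp62p3W

open Cfsg.Agent.Lib.Helper4.TC Cfsg.Agent.Lib.Helper4.TCD.C2Sp62R

set_option maxRecDepth 100000
set_option Elab.async false

def chk0 : List Nat := [0, 0, 0, 0, 0, 0, 0]
noncomputable def act0 (i : Nat) : Nat := col1 (col1 (col1 (col1 (col1 (col1 (col1 (i)))))))
theorem act0_eq (i : Nat) : act0 i = Tab.act T D chk0 i := rfl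
theorem c0_0 : allRange (fun i => Nat.beq (act0 i) i) 0 480 = true := by decide +kernel
theorem h0 : ∀ i, i < T.N → Tab.relActOK T D chk0 i = true := by
  intro i hi
  rw [Tab.relActOK, ← act0_eq]
  exact (range_of_allRange c0_0) i (Nat.zero_le _) hi

def chk1 : List Nat := [2, 0, 2, 0, 0, 2, 0, 0, 2, 0, 2, 2, 0, 2, 0, 0, 2, 0, 0, 2, 0, 2, 2, 0, 2, 0, 0, 2, 0, 0, 2, 0, 2, 2, 0, 2, 0, 0, 2, 0, 0, 2, 0, 2]
noncomputable def act1 (i : Nat) : Nat := col3 (col1 (col3 (col1 (col1 (col3 (col1 (col1 (col3 (col1 (col3 (col3 (col1 (col3 (col1 (col1 (col3 (col1 (col1 (col3 (col1 (col3 (col3 (col1 (col3 (col1 (col1 (col3 (col1 (col1 (col3 (col1 (col3 (col3 (col1 (col3 (col1 (col1 (col3 (col1 (col1 (col3 (col1 (col3 (i))))))))))))))))))))))))))))))))))))))))))))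
theorem act1_eq (i : Nat) : act1 i = Tab.act T D chk1 i := rfl
theorem c1_0 : allRange (fun i => Nat.beq (act1 i) i) 0 480 = true := by decide +kernel
theorem h1 : ∀ i, i < T.N → Tab.relActOK T D chk1 i = true := by
  intro i hi
  rw [Tab.relActOK, ← act1_eq]
  exact (range_of_allRange c1_0) i (Nat.zero_le _) hi

def chk2 : List Nat := [2, 2, 2, 2]
noncomputable def act2 (i : Nat) : Nat := col3 (col3 (col3 (col3 (i))))
theorem act2_eq (i : Nat) : act2 i = Tab.act T D chk2 i := rfl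
theorem c2_0 : allRange (fun i => Nat.beq (act2 i) i) 0 480 = true := by decide +kernel
theorem h2 : ∀ i, i < T.N → Tab.relActOK T D chk2 i = true := by
  intro i hi
  rw [Tab.relActOK, ← act2_eq]
  exact (range_of_allRange c2_0) i (Nat.zero_le _) hi

def chk3 : List Nat := [2, 2, 5]
noncomputable def act3 (i : Nat) : Nat := col3 (col3 (col4 (i)))
theorem act3_eq (i : Nat) : act3 i = Tab.act T D chk3 i := rfl
theorem c3_0 : allRange (fun i => Nat.beq (act3 i) i) 0 480 = true := by decide +kernel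
theorem h3 : ∀ i, i < T.N → Tab.relActOK T D chk3 i = true := by
  intro i hi
  rw [Tab.relActOK, ← act3_eq]
  exact (range_of_allRange c3_0) i (Nat.zero_le _) hi

def chk4 : List Nat := [2, 0, 2, 0, 2, 0, 2, 0, 2, 0, 2, 0, 2, 0, 2, 0, 2, 0]
noncomputable def act4 (i : Nat) : Nat := col3 (col1 (col3 (col1 (col3 (col1 (col3 (col1 (col3 (col1 (col3 (col1 (col3 (col1 (col3 (col1 (col3 (col1 (i))))))))))))))))))
theorem act4_eq (i : Nat) : act4 i = Tab.act T D chk4 i := rfl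
theorem c4_0 : allRange (fun i => Nat.beq (act4 i) i) 0 480 = true := by decide +kernel
theorem h4 : ∀ i, i < T.N → Tab.relActOK T D chk4 i = true := by
  intro i hi
  rw [Tab.relActOK, ← act4_eq]
  exact (range_of_allRange c4_0) i (Nat.zero_le _) hi

def chk5 : List Nat := [0, 0, 0, 0, 0, 0, 0]
noncomputable def act5 (i : Nat) : Nat := col1 (col1 (col1 (col1 (col1 (col1 (col1 (i)))))))
theorem act5_eq (i : Nat) : act5 i = Tab.act T D chk5 i := rfl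
theorem c5_0 : allRange (fun i => Nat.beq (act5 i) i) 0 480 = true := by decide +kernel
theorem h5 : ∀ i, i < T.N → Tab.relActOK T D chk5 i = true := by
  intro i hi
  rw [Tab.relActOK, ← act5_eq]
  exact (range_of_allRange c5_0) i (Nat.zero_le _) hi

def chk6 : List Nat := [0, 0, 2, 0, 2, 0, 0, 2, 0, 0, 2, 0, 2, 1, 2, 0, 2, 0, 0, 2, 0, 0, 2, 0, 2, 0, 3, 1, 3, 1, 1, 3, 1, 1, 3, 1, 3, 0, 2, 0, 2, 0, 0, 2, 0, 0, 2, 0, 2, 1, 2, 0, 2, 0, 0, 2, 0, 0, 2, 0, 2]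
noncomputable def act6 (i : Nat) : Nat := col1 (col1 (col3 (col1 (col3 (col1 (col1 (col3 (col1 (col1 (col3 (col1 (col3 (col0 (col3 (col1 (col3 (col1 (col1 (col3 (col1 (col1 (col3 (col1 (col3 (col1 (col2 (col0 (col2 (col0 (col0 (col2 (col0 (col0 (col2 (col0 (col2 (col1 (col3 (col1 (col3 (col1 (col1 (col3 (col1 (col1 (col3 (col1 (col3 (col0 (col3 (col1 (col3 (col1 (col1 (col3 (col1 (col1 (col3 (col1 (col3 (i)))))))))))))))))))))))))))))))))))))))))))))))))))))))))))))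
theorem act6_eq (i : Nat) : act6 i = Tab.act T D chk6 i := rfl
theorem c6_0 : allRange (fun i => Nat.beq (act6 i) i) 0 480 = true := by decide +kernel
theorem h6 : ∀ i, i < T.N → Tab.relActOK T D chk6 i = true := by
  intro i hi
  rw [Tab.relActOK, ← act6_eq]
  exact (range_of_allRange c6_0) i (Nat.zero_le _) hi

def chk7 : List Nat := [0, 0, 0, 2, 0, 2, 0, 0, 2, 0, 0, 2, 0, 2, 0, 0, 0, 2, 0, 2, 0, 0, 2, 0, 0, 2, 0, 2, 0, 0, 0, 2, 0, 2, 0, 0, 2, 0, 0, 2, 0, 2]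
noncomputable def act7 (i : Nat) : Nat := col1 (col1 (col1 (col3 (col1 (col3 (col1 (col1 (col3 (col1 (col1 (col3 (col1 (col3 (col1 (col1 (col1 (col3 (col1 (col3 (col1 (col1 (col3 (col1 (col1 (col3 (col1 (col3 (col1 (col1 (col1 (col3 (col1 (col3 (col1 (col1 (col3 (col1 (col1 (col3 (col1 (col3 (i))))))))))))))))))))))))))))))))))))))))))
theorem act7_eq (i : Nat) : act7 i = Tab.act T D chk7 i := rfl
theorem c7_0 : allRange (fun i => Nat.beq (act7 i) i) 0 480 = true := by decide +kernel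
theorem h7 : ∀ i, i < T.N → Tab.relActOK T D chk7 i = true := by
  intro i hi
  rw [Tab.relActOK, ← act7_eq]
  exact (range_of_allRange c7_0) i (Nat.zero_le _) hi

def chk8 : List Nat := [0, 0, 2, 0, 2, 0, 0, 2, 0, 0, 2, 0, 2, 2, 0, 2, 0, 0, 2, 0, 0, 2, 0, 2, 0, 0, 3, 1, 3, 1, 1, 3, 1, 1, 3, 1, 3, 3, 1, 3, 1, 1, 3, 1, 1, 3, 1, 3, 0, 0, 3, 1, 3, 1, 1, 3, 1, 1, 3, 1, 3, 3, 1, 3, 1, 1, 3, 1, 1, 3, 1, 3]
noncomputable def act8 (i : Nat) : Nat := col1 (col1 (col3 (col1 (col3 (col1 (col1 (col3 (col1 (col1 (col3 (col1 (col3 (col3 (col1 (col3 (col1 (col1 (col3 (col1 (col1 (col3 (col1 (col3 (col1 (col1 (col2 (col0 (col2 (col0 (col0 (col2 (col0 (col0 (col2 (col0 (col2 (col2 (col0 (col2 (col0 (col0 (col2 (col0 (col0 (col2 (col0 (col2 (col1 (col1 (col2 (col0 (col2 (col0 (col0 (col2 (col0 (col0 (col2 (col0 (col2 (col2 (col0 (col2 (col0 (col0 (col2 (col0 (col0 (col2 (col0 (col2 (i))))))))))))))))))))))))))))))))))))))))))))))))))))))))))))))))))))))))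
theorem act8_eq (i : Nat) : act8 i = Tab.act T D chk8 i := rfl
theorem c8_0 : allRange (fun i => Nat.beq (act8 i) i) 0 480 = true := by decide +kernel
theorem h8 : ∀ i, i < T.N → Tab.relActOK T D chk8 i = true := by
  intro i hi
  rw [Tab.relActOK, ← act8_eq]
  exact (range_of_allRange c8_0) i (Nat.zero_le _) hi

def chk9 : List Nat := [2, 2, 0, 2, 0, 0, 2, 0, 0, 2, 0, 2, 0, 2, 0, 2, 0, 0, 2, 0, 0, 2, 0, 2, 3, 3, 1, 3, 1, 1, 3, 1, 1, 3, 1, 3, 1, 3, 1, 3, 1, 1, 3, 1, 1, 3, 1, 3]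
noncomputable def act9 (i : Nat) : Nat := col3 (col3 (col1 (col3 (col1 (col1 (col3 (col1 (col1 (col3 (col1 (col3 (col1 (col3 (col1 (col3 (col1 (col1 (col3 (col1 (col1 (col3 (col1 (col3 (col2 (col2 (col0 (col2 (col0 (col0 (col2 (col0 (col0 (col2 (col0 (col2 (col0 (col2 (col0 (col2 (col0 (col0 (col2 (col0 (col0 (col2 (col0 (col2 (i))))))))))))))))))))))))))))))))))))))))))))))))
theorem act9_eq (i : Nat) : act9 i = Tab.act T D chk9 i := rfl
theorem c9_0 : allRange (fun i => Nat.beq (act9 i) i) 0 480 = true := by decide +kernel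
theorem h9 : ∀ i, i < T.N → Tab.relActOK T D chk9 i = true := by
  intro i hi
  rw [Tab.relActOK, ← act9_eq]
  exact (range_of_allRange c9_0) i (Nat.zero_le _) hi

def chk10 : List Nat := [2, 0, 2, 0, 0, 2, 0, 0, 2, 0, 2, 0, 2, 0, 2, 0, 0, 2, 0, 0, 2, 0, 2, 2, 0, 2, 0, 0, 2, 0, 0, 2, 0, 2, 0, 2, 0, 2, 0, 0, 2, 0, 0, 2, 0, 2, 2, 0, 2, 0, 0, 2, 0, 0, 2, 0, 2, 0, 2, 0, 2, 0, 0, 2, 0, 0, 2, 0, 2, 2, 0, 2, 0, 0, 2, 0, 0, 2, 0, 2, 0, 2, 0, 2, 0, 0, 2, 0, 0, 2, 0, 2]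
noncomputable def act10 (i : Nat) : Nat := col3 (col1 (col3 (col1 (col1 (col3 (col1 (col1 (col3 (col1 (col3 (col1 (col3 (col1 (col3 (col1 (col1 (col3 (col1 (col1 (col3 (col1 (col3 (col3 (col1 (col3 (col1 (col1 (col3 (col1 (col1 (col3 (col1 (col3 (col1 (col3 (col1 (col3 (col1 (col1 (col3 (col1 (col1 (col3 (col1 (col3 (col3 (col1 (col3 (col1 (col1 (col3 (col1 (col1 (col3 (col1 (col3 (col1 (col3 (col1 (col3 (col1 (col1 (col3 (col1 (col1 (col3 (col1 (col3 (col3 (col1 (col3 (col1 (col1 (col3 (col1 (col1 (col3 (col1 (col3 (col1 (col3 (col1 (col3 (col1 (col1 (col3 (col1 (col1 (col3 (col1 (col3 (i))))))))))))))))))))))))))))))))))))))))))))))))))))))))))))))))))))))))))))))))))))))))))))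
theorem act10_eq (i : Nat) : act10 i = Tab.act T D chk10 i := rfl
theorem c10_0 : allRange (fun i => Nat.beq (act10 i) i) 0 480 = true := by decide +kernel
theorem h10 : ∀ i, i < T.N → Tab.relActOK T D chk10 i = true := by
  intro i hi
  rw [Tab.relActOK, ← act10_eq]
  exact (range_of_allRange c10_0) i (Nat.zero_le _) hi

def chk11 : List Nat := [2, 0, 2, 0, 0, 2, 0, 0, 2, 0, 2, 0, 2, 0, 2, 0, 0, 2, 0, 0, 2, 0, 2, 2, 0, 2, 0, 0, 2, 0, 0, 2, 0, 2, 0, 2, 0, 2, 0, 0, 2, 0, 0, 2, 0, 2, 2, 0, 2, 0, 0, 2, 0, 0, 2, 0, 2, 0, 2, 0, 2, 0, 0, 2, 0, 0, 2, 0, 2, 2, 0, 2, 0, 0, 2, 0, 0, 2, 0, 2, 0, 2, 0, 2, 0, 0, 2, 0, 0, 2, 0, 2]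
noncomputable def act11 (i : Nat) : Nat := col3 (col1 (col3 (col1 (col1 (col3 (col1 (col1 (col3 (col1 (col3 (col1 (col3 (col1 (col3 (col1 (col1 (col3 (col1 (col1 (col3 (col1 (col3 (col3 (col1 (col3 (col1 (col1 (col3 (col1 (col1 (col3 (col1 (col3 (col1 (col3 (col1 (col3 (col1 (col1 (col3 (col1 (col1 (col3 (col1 (col3 (col3 (col1 (col3 (col1 (col1 (col3 (col1 (col1 (col3 (col1 (col3 (col1 (col3 (col1 (col3 (col1 (col1 (col3 (col1 (col1 (col3 (col1 (col3 (col3 (col1 (col3 (col1 (col1 (col3 (col1 (col1 (col3 (col1 (col3 (col1 (col3 (col1 (col3 (col1 (col1 (col3 (col1 (col1 (col3 (col1 (col3 (i))))))))))))))))))))))))))))))))))))))))))))))))))))))))))))))))))))))))))))))))))))))))))))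
theorem act11_eq (i : Nat) : act11 i = Tab.act T D chk11 i := rfl
theorem c11_0 : allRange (fun i => Nat.beq (act11 i) i) 0 480 = true := by decide +kernel
theorem h11 : ∀ i, i < T.N → Tab.relActOK T D chk11 i = true := by
  intro i hi
  rw [Tab.relActOK, ← act11_eq]
  exact (range_of_allRange c11_0) i (Nat.zero_le _) hi

def chk12 : List Nat := [2, 0, 3, 1, 3, 1, 1, 3, 1, 1, 3, 1, 3, 0, 0, 3, 1, 3, 1, 1, 3, 1, 1, 3, 1, 3, 0, 3, 1, 2, 0, 2, 0, 0, 2, 0, 0, 2, 0, 2, 1, 1, 2, 0, 2, 0, 0, 2, 0, 0, 2, 0, 2, 1]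
noncomputable def act12 (i : Nat) : Nat := col3 (col1 (col2 (col0 (col2 (col0 (col0 (col2 (col0 (col0 (col2 (col0 (col2 (col1 (col1 (col2 (col0 (col2 (col0 (col0 (col2 (col0 (col0 (col2 (col0 (col2 (col1 (col2 (col0 (col3 (col1 (col3 (col1 (col1 (col3 (col1 (col1 (col3 (col1 (col3 (col0 (col0 (col3 (col1 (col3 (col1 (col1 (col3 (col1 (col1 (col3 (col1 (col3 (col0 (i))))))))))))))))))))))))))))))))))))))))))))))))))))))
theorem act12_eq (i : Nat) : act12 i = Tab.act T D chk12 i := rfl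
theorem c12_0 : allRange (fun i => Nat.beq (act12 i) i) 0 480 = true := by decide +kernel
theorem h12 : ∀ i, i < T.N → Tab.relActOK T D chk12 i = true := by
  intro i hi
  rw [Tab.relActOK, ← act12_eq]
  exact (range_of_allRange c12_0) i (Nat.zero_le _) hi

def chk13 : List Nat := [0, 3, 1, 3, 1, 1, 3, 1, 1, 3, 1, 3, 0, 0, 3, 1, 3, 1, 1, 3, 1, 1, 3, 1, 3, 0, 0, 3, 1, 3, 1, 1, 3, 1, 1, 3, 1, 3, 0, 0, 3, 1, 3, 1, 1, 3, 1, 1, 3, 1, 3, 0, 0, 3, 1, 3, 1, 1, 3, 1, 1, 3, 1, 3, 0, 0, 3, 1, 3, 1, 1, 3, 1, 1, 3, 1, 3, 0, 0, 3, 1, 3, 1, 1, 3, 1, 1, 3, 1, 3, 0, 0, 3, 1, 3, 1, 1, 3, 1, 1, 3, 1, 3, 0]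
noncomputable def act13 (i : Nat) : Nat := col1 (col2 (col0 (col2 (col0 (col0 (col2 (col0 (col0 (col2 (col0 (col2 (col1 (col1 (col2 (col0 (col2 (col0 (col0 (col2 (col0 (col0 (col2 (col0 (col2 (col1 (col1 (col2 (col0 (col2 (col0 (col0 (col2 (col0 (col0 (col2 (col0 (col2 (col1 (col1 (col2 (col0 (col2 (col0 (col0 (col2 (col0 (col0 (col2 (col0 (col2 (col1 (col1 (col2 (col0 (col2 (col0 (col0 (col2 (col0 (col0 (col2 (col0 (col2 (col1 (col1 (col2 (col0 (col2 (col0 (col0 (col2 (col0 (col0 (col2 (col0 (col2 (col1 (col1 (col2 (col0 (col2 (col0 (col0 (col2 (col0 (col0 (col2 (col0 (col2 (col1 (col1 (col2 (col0 (col2 (col0 (col0 (col2 (col0 (col0 (col2 (col0 (col2 (col1 (i))))))))))))))))))))))))))))))))))))))))))))))))))))))))))))))))))))))))))))))))))))))))))))))))))))))))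
theorem act13_eq (i : Nat) : act13 i = Tab.act T D chk13 i := rfl
theorem c13_0 : allRange (fun i => Nat.beq (act13 i) i) 0 480 = true := by decide +kernel
theorem h13 : ∀ i, i < T.N → Tab.relActOK T D chk13 i = true := by
  intro i hi
  rw [Tab.relActOK, ← act13_eq]
  exact (range_of_allRange c13_0) i (Nat.zero_le _) hi

def chk14 : List Nat := [0, 3, 1, 3, 1, 1, 3, 1, 1, 3, 1, 3, 0, 0, 3, 1, 3, 1, 1, 3, 1, 1, 3, 1, 3, 0, 0, 3, 1, 3, 1, 1, 3, 1, 1, 3, 1, 3, 0, 0, 3, 1, 3, 1, 1, 3, 1, 1, 3, 1, 3, 0, 0, 3, 1, 3, 1, 1, 3, 1, 1, 3, 1, 3, 0, 0, 3, 1, 3, 1, 1, 3, 1, 1, 3, 1, 3, 0, 0, 3, 1, 3, 1, 1, 3, 1, 1, 3, 1, 3, 0, 0, 3, 1, 3, 1, 1, 3, 1, 1, 3, 1, 3, 0]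
noncomputable def act14 (i : Nat) : Nat := col1 (col2 (col0 (col2 (col0 (col0 (col2 (col0 (col0 (col2 (col0 (col2 (col1 (col1 (col2 (col0 (col2 (col0 (col0 (col2 (col0 (col0 (col2 (col0 (col2 (col1 (col1 (col2 (col0 (col2 (col0 (col0 (col2 (col0 (col0 (col2 (col0 (col2 (col1 (col1 (col2 (col0 (col2 (col0 (col0 (col2 (col0 (col0 (col2 (col0 (col2 (col1 (col1 (col2 (col0 (col2 (col0 (col0 (col2 (col0 (col0 (col2 (col0 (col2 (col1 (col1 (col2 (col0 (col2 (col0 (col0 (col2 (col0 (col0 (col2 (col0 (col2 (col1 (col1 (col2 (col0 (col2 (col0 (col0 (col2 (col0 (col0 (col2 (col0 (col2 (col1 (col1 (col2 (col0 (col2 (col0 (col0 (col2 (col0 (col0 (col2 (col0 (col2 (col1 (i))))))))))))))))))))))))))))))))))))))))))))))))))))))))))))))))))))))))))))))))))))))))))))))))))))))))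
theorem act14_eq (i : Nat) : act14 i = Tab.act T D chk14 i := rfl
theorem c14_0 : allRange (fun i => Nat.beq (act14 i) i) 0 480 = true := by decide +kernel
theorem h14 : ∀ i, i < T.N → Tab.relActOK T D chk14 i = true := by
  intro i hi
  rw [Tab.relActOK, ← act14_eq]
  exact (range_of_allRange c14_0) i (Nat.zero_le _) hi

def chk15 : List Nat := [2, 0, 2, 2, 2, 3, 1, 3, 3, 3]
noncomputable def act15 (i : Nat) : Nat := col3 (col1 (col3 (col3 (col3 (col2 (col0 (col2 (col2 (col2 (i))))))))))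
theorem act15_eq (i : Nat) : act15 i = Tab.act T D chk15 i := rfl
theorem c15_0 : allRange (fun i => Nat.beq (act15 i) i) 0 480 = true := by decide +kernel
theorem h15 : ∀ i, i < T.N → Tab.relActOK T D chk15 i = true := by
  intro i hi
  rw [Tab.relActOK, ← act15_eq]
  exact (range_of_allRange c15_0) i (Nat.zero_le _) hi

def chk16 : List Nat := [2, 2, 2, 2, 2, 2, 2, 2]
noncomputable def act16 (i : Nat) : Nat := col3 (col3 (col3 (col3 (col3 (col3 (col3 (col3 (i))))))))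
theorem act16_eq (i : Nat) : act16 i = Tab.act T D chk16 i := rfl
theorem c16_0 : allRange (fun i => Nat.beq (act16 i) i) 0 480 = true := by decide +kernel
theorem h16 : ∀ i, i < T.N → Tab.relActOK T D chk16 i = true := by
  intro i hi
  rw [Tab.relActOK, ← act16_eq]
  exact (range_of_allRange c16_0) i (Nat.zero_le _) hi

def chk17 : List Nat := [2, 2, 2, 2, 2, 2, 2, 2]
noncomputable def act17 (i : Nat) : Nat := col3 (col3 (col3 (col3 (col3 (col3 (col3 (col3 (i))))))))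
theorem act17_eq (i : Nat) : act17 i = Tab.act T D chk17 i := rfl
theorem c17_0 : allRange (fun i => Nat.beq (act17 i) i) 0 480 = true := by decide +kernel
theorem h17 : ∀ i, i < T.N → Tab.relActOK T D chk17 i = true := by
  intro i hi
  rw [Tab.relActOK, ← act17_eq]
  exact (range_of_allRange c17_0) i (Nat.zero_le _) hi

def chk18 : List Nat := [2, 0, 2, 1, 2, 0, 2, 0, 0, 2, 0, 0, 2, 0, 2, 2, 0, 2, 0, 0, 2, 0, 0, 2, 0, 2, 1, 2, 0, 2, 0, 0, 2, 0, 0, 2, 0, 2, 2, 0, 2, 0, 0, 2, 0, 0, 2, 0, 2, 3, 1, 3, 3, 1, 3, 1, 1, 3, 1, 1, 3, 1, 3, 1, 3, 1, 3, 1, 1, 3, 1, 1, 3, 1, 3, 3, 1, 3, 1, 1, 3, 1, 1, 3, 1, 3, 0, 2, 0, 2, 0, 0, 2, 0, 0, 2, 0, 2]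
noncomputable def act18 (i : Nat) : Nat := col3 (col1 (col3 (col0 (col3 (col1 (col3 (col1 (col1 (col3 (col1 (col1 (col3 (col1 (col3 (col3 (col1 (col3 (col1 (col1 (col3 (col1 (col1 (col3 (col1 (col3 (col0 (col3 (col1 (col3 (col1 (col1 (col3 (col1 (col1 (col3 (col1 (col3 (col3 (col1 (col3 (col1 (col1 (col3 (col1 (col1 (col3 (col1 (col3 (col2 (col0 (col2 (col2 (col0 (col2 (col0 (col0 (col2 (col0 (col0 (col2 (col0 (col2 (col0 (col2 (col0 (col2 (col0 (col0 (col2 (col0 (col0 (col2 (col0 (col2 (col2 (col0 (col2 (col0 (col0 (col2 (col0 (col0 (col2 (col0 (col2 (col1 (col3 (col1 (col3 (col1 (col1 (col3 (col1 (col1 (col3 (col1 (col3 (i))))))))))))))))))))))))))))))))))))))))))))))))))))))))))))))))))))))))))))))))))))))))))))))))))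
theorem act18_eq (i : Nat) : act18 i = Tab.act T D chk18 i := rfl
theorem c18_0 : allRange (fun i => Nat.beq (act18 i) i) 0 480 = true := by decide +kernel
theorem h18 : ∀ i, i < T.N → Tab.relActOK T D chk18 i = true := by
  intro i hi
  rw [Tab.relActOK, ← act18_eq]
  exact (range_of_allRange c18_0) i (Nat.zero_le _) hi

def chk19 : List Nat := [1, 2, 0, 2, 0, 0, 2, 0, 0, 2, 0, 2, 2, 0, 2, 0, 0, 2, 0, 0, 2, 0, 2, 1, 2, 0, 2, 0, 0, 2, 0, 0, 2, 0, 2, 2, 0, 2, 0, 0, 2, 0, 0, 2, 0, 2, 1, 2, 0, 2, 0, 0, 2, 0, 0, 2, 0, 2, 2, 0, 2, 0, 0, 2, 0, 0, 2, 0, 2, 1, 2, 0, 2, 0, 0, 2, 0, 0, 2, 0, 2, 2, 0, 2, 0, 0, 2, 0, 0, 2, 0, 2]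
noncomputable def act19 (i : Nat) : Nat := col0 (col3 (col1 (col3 (col1 (col1 (col3 (col1 (col1 (col3 (col1 (col3 (col3 (col1 (col3 (col1 (col1 (col3 (col1 (col1 (col3 (col1 (col3 (col0 (col3 (col1 (col3 (col1 (col1 (col3 (col1 (col1 (col3 (col1 (col3 (col3 (col1 (col3 (col1 (col1 (col3 (col1 (col1 (col3 (col1 (col3 (col0 (col3 (col1 (col3 (col1 (col1 (col3 (col1 (col1 (col3 (col1 (col3 (col3 (col1 (col3 (col1 (col1 (col3 (col1 (col1 (col3 (col1 (col3 (col0 (col3 (col1 (col3 (col1 (col1 (col3 (col1 (col1 (col3 (col1 (col3 (col3 (col1 (col3 (col1 (col1 (col3 (col1 (col1 (col3 (col1 (col3 (i))))))))))))))))))))))))))))))))))))))))))))))))))))))))))))))))))))))))))))))))))))))))))))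
theorem act19_eq (i : Nat) : act19 i = Tab.act T D chk19 i := rfl
theorem c19_0 : allRange (fun i => Nat.beq (act19 i) i) 0 480 = true := by decide +kernel
theorem h19 : ∀ i, i < T.N → Tab.relActOK T D chk19 i = true := by
  intro i hi
  rw [Tab.relActOK, ← act19_eq]
  exact (range_of_allRange c19_0) i (Nat.zero_le _) hi

def chk20 : List Nat := [3, 1, 3, 1, 1, 3, 1, 1, 3, 1, 3, 1, 2, 0, 2, 0, 0, 2, 0, 0, 2, 0, 2, 2, 0, 2, 0, 0, 2, 0, 0, 2, 0, 2, 0, 2, 0, 2, 0, 0, 2, 0, 0, 2, 0, 2, 3, 1, 3, 1, 1, 3, 1, 1, 3, 1, 3, 1, 2, 0, 2, 0, 0, 2, 0, 0, 2, 0, 2, 2, 0, 2, 0, 0, 2, 0, 0, 2, 0, 2, 0, 2, 0, 2, 0, 0, 2, 0, 0, 2, 0, 2]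
noncomputable def act20 (i : Nat) : Nat := col2 (col0 (col2 (col0 (col0 (col2 (col0 (col0 (col2 (col0 (col2 (col0 (col3 (col1 (col3 (col1 (col1 (col3 (col1 (col1 (col3 (col1 (col3 (col3 (col1 (col3 (col1 (col1 (col3 (col1 (col1 (col3 (col1 (col3 (col1 (col3 (col1 (col3 (col1 (col1 (col3 (col1 (col1 (col3 (col1 (col3 (col2 (col0 (col2 (col0 (col0 (col2 (col0 (col0 (col2 (col0 (col2 (col0 (col3 (col1 (col3 (col1 (col1 (col3 (col1 (col1 (col3 (col1 (col3 (col3 (col1 (col3 (col1 (col1 (col3 (col1 (col1 (col3 (col1 (col3 (col1 (col3 (col1 (col3 (col1 (col1 (col3 (col1 (col1 (col3 (col1 (col3 (i))))))))))))))))))))))))))))))))))))))))))))))))))))))))))))))))))))))))))))))))))))))))))))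
theorem act20_eq (i : Nat) : act20 i = Tab.act T D chk20 i := rfl
theorem c20_0 : allRange (fun i => Nat.beq (act20 i) i) 0 480 = true := by decide +kernel
theorem h20 : ∀ i, i < T.N → Tab.relActOK T D chk20 i = true := by
  intro i hi
  rw [Tab.relActOK, ← act20_eq]
  exact (range_of_allRange c20_0) i (Nat.zero_le _) hi

def chk21 : List Nat := [2, 0, 2, 2, 0, 2, 0, 0, 2, 0, 0, 2, 0, 2, 0, 2, 0, 2, 0, 0, 2, 0, 0, 2, 0, 2, 2, 0, 2, 0, 0, 2, 0, 0, 2, 0, 2, 1, 3, 1, 3, 1, 1, 3, 1, 1, 3, 1, 3, 3, 1, 3, 3, 1, 3, 1, 1, 3, 1, 1, 3, 1, 3, 3, 1, 3, 1, 1, 3, 1, 1, 3, 1, 3, 1, 3, 1, 3, 1, 1, 3, 1, 1, 3, 1, 3, 3, 1, 3, 1, 1, 3, 1, 1, 3, 1, 3, 1]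
noncomputable def act21 (i : Nat) : Nat := col3 (col1 (col3 (col3 (col1 (col3 (col1 (col1 (col3 (col1 (col1 (col3 (col1 (col3 (col1 (col3 (col1 (col3 (col1 (col1 (col3 (col1 (col1 (col3 (col1 (col3 (col3 (col1 (col3 (col1 (col1 (col3 (col1 (col1 (col3 (col1 (col3 (col0 (col2 (col0 (col2 (col0 (col0 (col2 (col0 (col0 (col2 (col0 (col2 (col2 (col0 (col2 (col2 (col0 (col2 (col0 (col0 (col2 (col0 (col0 (col2 (col0 (col2 (col2 (col0 (col2 (col0 (col0 (col2 (col0 (col0 (col2 (col0 (col2 (col0 (col2 (col0 (col2 (col0 (col0 (col2 (col0 (col0 (col2 (col0 (col2 (col2 (col0 (col2 (col0 (col0 (col2 (col0 (col0 (col2 (col0 (col2 (col0 (i))))))))))))))))))))))))))))))))))))))))))))))))))))))))))))))))))))))))))))))))))))))))))))))))))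
theorem act21_eq (i : Nat) : act21 i = Tab.act T D chk21 i := rfl
theorem c21_0 : allRange (fun i => Nat.beq (act21 i) i) 0 480 = true := by decide +kernel
theorem h21 : ∀ i, i < T.N → Tab.relActOK T D chk21 i = true := by
  intro i hi
  rw [Tab.relActOK, ← act21_eq]
  exact (range_of_allRange c21_0) i (Nat.zero_le _) hi

def chk22 : List Nat := [2, 0, 2, 0, 0, 2, 0, 0, 2, 0, 2, 0, 2, 0, 2, 0, 0, 2, 0, 0, 2, 0, 2, 2, 0, 2, 0, 0, 2, 0, 0, 2, 0, 2, 1, 3, 1, 3, 1, 1, 3, 1, 1, 3, 1, 3, 2, 0, 2, 0, 0, 2, 0, 0, 2, 0, 2, 0, 2, 0, 2, 0, 0, 2, 0, 0, 2, 0, 2, 2, 0, 2, 0, 0, 2, 0, 0, 2, 0, 2, 1, 3, 1, 3, 1, 1, 3, 1, 1, 3, 1, 3]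
noncomputable def act22 (i : Nat) : Nat := col3 (col1 (col3 (col1 (col1 (col3 (col1 (col1 (col3 (col1 (col3 (col1 (col3 (col1 (col3 (col1 (col1 (col3 (col1 (col1 (col3 (col1 (col3 (col3 (col1 (col3 (col1 (col1 (col3 (col1 (col1 (col3 (col1 (col3 (col0 (col2 (col0 (col2 (col0 (col0 (col2 (col0 (col0 (col2 (col0 (col2 (col3 (col1 (col3 (col1 (col1 (col3 (col1 (col1 (col3 (col1 (col3 (col1 (col3 (col1 (col3 (col1 (col1 (col3 (col1 (col1 (col3 (col1 (col3 (col3 (col1 (col3 (col1 (col1 (col3 (col1 (col1 (col3 (col1 (col3 (col0 (col2 (col0 (col2 (col0 (col0 (col2 (col0 (col0 (col2 (col0 (col2 (i))))))))))))))))))))))))))))))))))))))))))))))))))))))))))))))))))))))))))))))))))))))))))))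
theorem act22_eq (i : Nat) : act22 i = Tab.act T D chk22 i := rfl
theorem c22_0 : allRange (fun i => Nat.beq (act22 i) i) 0 480 = true := by decide +kernel
theorem h22 : ∀ i, i < T.N → Tab.relActOK T D chk22 i = true := by
  intro i hi
  rw [Tab.relActOK, ← act22_eq]
  exact (range_of_allRange c22_0) i (Nat.zero_le _) hi

def chk23 : List Nat := [0, 2, 0, 2, 0, 0, 2, 0, 0, 2, 0, 2, 2, 0, 2, 0, 0, 2, 0, 0, 2, 0, 2, 0, 2, 0, 2, 0, 0, 2, 0, 0, 2, 0, 2, 2, 0, 2, 0, 0, 2, 0, 0, 2, 0, 2, 0, 2, 0, 2, 0, 0, 2, 0, 0, 2, 0, 2, 2, 0, 2, 0, 0, 2, 0, 0, 2, 0, 2, 0, 2, 0, 2, 0, 0, 2, 0, 0, 2, 0, 2, 2, 0, 2, 0, 0, 2, 0, 0, 2, 0, 2]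
noncomputable def act23 (i : Nat) : Nat := col1 (col3 (col1 (col3 (col1 (col1 (col3 (col1 (col1 (col3 (col1 (col3 (col3 (col1 (col3 (col1 (col1 (col3 (col1 (col1 (col3 (col1 (col3 (col1 (col3 (col1 (col3 (col1 (col1 (col3 (col1 (col1 (col3 (col1 (col3 (col3 (col1 (col3 (col1 (col1 (col3 (col1 (col1 (col3 (col1 (col3 (col1 (col3 (col1 (col3 (col1 (col1 (col3 (col1 (col1 (col3 (col1 (col3 (col3 (col1 (col3 (col1 (col1 (col3 (col1 (col1 (col3 (col1 (col3 (col1 (col3 (col1 (col3 (col1 (col1 (col3 (col1 (col1 (col3 (col1 (col3 (col3 (col1 (col3 (col1 (col1 (col3 (col1 (col1 (col3 (col1 (col3 (i))))))))))))))))))))))))))))))))))))))))))))))))))))))))))))))))))))))))))))))))))))))))))))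
theorem act23_eq (i : Nat) : act23 i = Tab.act T D chk23 i := rfl
theorem c23_0 : allRange (fun i => Nat.beq (act23 i) i) 0 480 = true := by decide +kernel
theorem h23 : ∀ i, i < T.N → Tab.relActOK T D chk23 i = true := by
  intro i hi
  rw [Tab.relActOK, ← act23_eq]
  exact (range_of_allRange c23_0) i (Nat.zero_le _) hi

def chk24 : List Nat := [2, 0, 2, 1, 3, 1, 3, 1, 1, 3, 1, 1, 3, 1, 3, 0, 0, 3, 1, 3, 1, 1, 3, 1, 1, 3, 1, 3, 1, 3, 1, 3, 1, 1, 3, 1, 1, 3, 1, 3, 3, 1, 3, 3, 1, 3, 1, 1, 3, 1, 1, 3, 1, 3, 1, 3, 1, 3, 1, 1, 3, 1, 1, 3, 1, 3, 0, 0, 3, 1, 3, 1, 1, 3, 1, 1, 3, 1, 3, 1]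
noncomputable def act24 (i : Nat) : Nat := col3 (col1 (col3 (col0 (col2 (col0 (col2 (col0 (col0 (col2 (col0 (col0 (col2 (col0 (col2 (col1 (col1 (col2 (col0 (col2 (col0 (col0 (col2 (col0 (col0 (col2 (col0 (col2 (col0 (col2 (col0 (col2 (col0 (col0 (col2 (col0 (col0 (col2 (col0 (col2 (col2 (col0 (col2 (col2 (col0 (col2 (col0 (col0 (col2 (col0 (col0 (col2 (col0 (col2 (col0 (col2 (col0 (col2 (col0 (col0 (col2 (col0 (col0 (col2 (col0 (col2 (col1 (col1 (col2 (col0 (col2 (col0 (col0 (col2 (col0 (col0 (col2 (col0 (col2 (col0 (i))))))))))))))))))))))))))))))))))))))))))))))))))))))))))))))))))))))))))))))))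
theorem act24_eq (i : Nat) : act24 i = Tab.act T D chk24 i := rfl
theorem c24_0 : allRange (fun i => Nat.beq (act24 i) i) 0 480 = true := by decide +kernel
theorem h24 : ∀ i, i < T.N → Tab.relActOK T D chk24 i = true := by
  intro i hi
  rw [Tab.relActOK, ← act24_eq]
  exact (range_of_allRange c24_0) i (Nat.zero_le _) hi

def chk25 : List Nat := [1, 3, 1, 3, 1, 1, 3, 1, 1, 3, 1, 3, 0, 0, 3, 1, 3, 1, 1, 3, 1, 1, 3, 1, 3, 1, 3, 1, 3, 1, 1, 3, 1, 1, 3, 1, 3, 1, 3, 1, 3, 1, 1, 3, 1, 1, 3, 1, 3, 0, 0, 3, 1, 3, 1, 1, 3, 1, 1, 3, 1, 3, 1, 3, 1, 3, 1, 1, 3, 1, 1, 3, 1, 3]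
noncomputable def act25 (i : Nat) : Nat := col0 (col2 (col0 (col2 (col0 (col0 (col2 (col0 (col0 (col2 (col0 (col2 (col1 (col1 (col2 (col0 (col2 (col0 (col0 (col2 (col0 (col0 (col2 (col0 (col2 (col0 (col2 (col0 (col2 (col0 (col0 (col2 (col0 (col0 (col2 (col0 (col2 (col0 (col2 (col0 (col2 (col0 (col0 (col2 (col0 (col0 (col2 (col0 (col2 (col1 (col1 (col2 (col0 (col2 (col0 (col0 (col2 (col0 (col0 (col2 (col0 (col2 (col0 (col2 (col0 (col2 (col0 (col0 (col2 (col0 (col0 (col2 (col0 (col2 (i))))))))))))))))))))))))))))))))))))))))))))))))))))))))))))))))))))))))))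
theorem act25_eq (i : Nat) : act25 i = Tab.act T D chk25 i := rfl
theorem c25_0 : allRange (fun i => Nat.beq (act25 i) i) 0 480 = true := by decide +kernel
theorem h25 : ∀ i, i < T.N → Tab.relActOK T D chk25 i = true := by
  intro i hi
  rw [Tab.relActOK, ← act25_eq]
  exact (range_of_allRange c25_0) i (Nat.zero_le _) hi

def chk26 : List Nat := [0, 2, 0, 2, 0, 0, 2, 0, 0, 2, 0, 2, 1, 1, 2, 0, 2, 0, 0, 2, 0, 0, 2, 0, 2, 0, 2, 0, 2, 0, 0, 2, 0, 0, 2, 0, 2, 0, 2, 0, 2, 0, 0, 2, 0, 0, 2, 0, 2, 1, 1, 2, 0, 2, 0, 0, 2, 0, 0, 2, 0, 2, 0, 2, 0, 2, 0, 0, 2, 0, 0, 2, 0, 2]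
noncomputable def act26 (i : Nat) : Nat := col1 (col3 (col1 (col3 (col1 (col1 (col3 (col1 (col1 (col3 (col1 (col3 (col0 (col0 (col3 (col1 (col3 (col1 (col1 (col3 (col1 (col1 (col3 (col1 (col3 (col1 (col3 (col1 (col3 (col1 (col1 (col3 (col1 (col1 (col3 (col1 (col3 (col1 (col3 (col1 (col3 (col1 (col1 (col3 (col1 (col1 (col3 (col1 (col3 (col0 (col0 (col3 (col1 (col3 (col1 (col1 (col3 (col1 (col1 (col3 (col1 (col3 (col1 (col3 (col1 (col3 (col1 (col1 (col3 (col1 (col1 (col3 (col1 (col3 (i))))))))))))))))))))))))))))))))))))))))))))))))))))))))))))))))))))))))))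
theorem act26_eq (i : Nat) : act26 i = Tab.act T D chk26 i := rfl
theorem c26_0 : allRange (fun i => Nat.beq (act26 i) i) 0 480 = true := by decide +kernel
theorem h26 : ∀ i, i < T.N → Tab.relActOK T D chk26 i = true := by
  intro i hi
  rw [Tab.relActOK, ← act26_eq]
  exact (range_of_allRange c26_0) i (Nat.zero_le _) hi

def chk27 : List Nat := [2, 0, 3, 2, 2, 2, 1, 3, 3, 3]
noncomputable def act27 (i : Nat) : Nat := col3 (col1 (col2 (col3 (col3 (col3 (col0 (col2 (col2 (col2 (i))))))))))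
theorem act27_eq (i : Nat) : act27 i = Tab.act T D chk27 i := rfl
theorem c27_0 : allRange (fun i => Nat.beq (act27 i) i) 0 480 = true := by decide +kernel
theorem h27 : ∀ i, i < T.N → Tab.relActOK T D chk27 i = true := by
  intro i hi
  rw [Tab.relActOK, ← act27_eq]
  exact (range_of_allRange c27_0) i (Nat.zero_le _) hi

def chk28 : List Nat := [2, 2, 2, 2, 2, 2, 2, 2]
noncomputable def act28 (i : Nat) : Nat := col3 (col3 (col3 (col3 (col3 (col3 (col3 (col3 (i))))))))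
theorem act28_eq (i : Nat) : act28 i = Tab.act T D chk28 i := rfl
theorem c28_0 : allRange (fun i => Nat.beq (act28 i) i) 0 480 = true := by decide +kernel
theorem h28 : ∀ i, i < T.N → Tab.relActOK T D chk28 i = true := by
  intro i hi
  rw [Tab.relActOK, ← act28_eq]
  exact (range_of_allRange c28_0) i (Nat.zero_le _) hi

def chk29 : List Nat := [2, 2, 2, 2, 2, 2, 2, 2]
noncomputable def act29 (i : Nat) : Nat := col3 (col3 (col3 (col3 (col3 (col3 (col3 (col3 (i))))))))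
theorem act29_eq (i : Nat) : act29 i = Tab.act T D chk29 i := rfl
theorem c29_0 : allRange (fun i => Nat.beq (act29 i) i) 0 480 = true := by decide +kernel
theorem h29 : ∀ i, i < T.N → Tab.relActOK T D chk29 i = true := by
  intro i hi
  rw [Tab.relActOK, ← act29_eq]
  exact (range_of_allRange c29_0) i (Nat.zero_le _) hi

def chk30 : List Nat := [2, 0, 3, 1, 2, 0, 2, 0, 0, 2, 0, 0, 2, 0, 2, 2, 0, 2, 0, 0, 2, 0, 0, 2, 0, 2, 1, 2, 0, 2, 0, 0, 2, 0, 0, 2, 0, 2, 2, 0, 2, 0, 0, 2, 0, 0, 2, 0, 2, 2, 1, 3, 3, 1, 3, 1, 1, 3, 1, 1, 3, 1, 3, 1, 3, 1, 3, 1, 1, 3, 1, 1, 3, 1, 3, 3, 1, 3, 1, 1, 3, 1, 1, 3, 1, 3, 0, 2, 0, 2, 0, 0, 2, 0, 0, 2, 0, 2]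
noncomputable def act30 (i : Nat) : Nat := col3 (col1 (col2 (col0 (col3 (col1 (col3 (col1 (col1 (col3 (col1 (col1 (col3 (col1 (col3 (col3 (col1 (col3 (col1 (col1 (col3 (col1 (col1 (col3 (col1 (col3 (col0 (col3 (col1 (col3 (col1 (col1 (col3 (col1 (col1 (col3 (col1 (col3 (col3 (col1 (col3 (col1 (col1 (col3 (col1 (col1 (col3 (col1 (col3 (col3 (col0 (col2 (col2 (col0 (col2 (col0 (col0 (col2 (col0 (col0 (col2 (col0 (col2 (col0 (col2 (col0 (col2 (col0 (col0 (col2 (col0 (col0 (col2 (col0 (col2 (col2 (col0 (col2 (col0 (col0 (col2 (col0 (col0 (col2 (col0 (col2 (col1 (col3 (col1 (col3 (col1 (col1 (col3 (col1 (col1 (col3 (col1 (col3 (i))))))))))))))))))))))))))))))))))))))))))))))))))))))))))))))))))))))))))))))))))))))))))))))))))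
theorem act30_eq (i : Nat) : act30 i = Tab.act T D chk30 i := rfl
theorem c30_0 : allRange (fun i => Nat.beq (act30 i) i) 0 480 = true := by decide +kernel
theorem h30 : ∀ i, i < T.N → Tab.relActOK T D chk30 i = true := by
  intro i hi
  rw [Tab.relActOK, ← act30_eq]
  exact (range_of_allRange c30_0) i (Nat.zero_le _) hi

def chk31 : List Nat := [1, 2, 0, 2, 0, 0, 2, 0, 0, 2, 0, 2, 2, 0, 2, 0, 0, 2, 0, 0, 2, 0, 2, 1, 2, 0, 2, 0, 0, 2, 0, 0, 2, 0, 2, 2, 0, 2, 0, 0, 2, 0, 0, 2, 0, 2, 1, 2, 0, 2, 0, 0, 2, 0, 0, 2, 0, 2, 2, 0, 2, 0, 0, 2, 0, 0, 2, 0, 2, 1, 2, 0, 2, 0, 0, 2, 0, 0, 2, 0, 2, 2, 0, 2, 0, 0, 2, 0, 0, 2, 0, 2]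
noncomputable def act31 (i : Nat) : Nat := col0 (col3 (col1 (col3 (col1 (col1 (col3 (col1 (col1 (col3 (col1 (col3 (col3 (col1 (col3 (col1 (col1 (col3 (col1 (col1 (col3 (col1 (col3 (col0 (col3 (col1 (col3 (col1 (col1 (col3 (col1 (col1 (col3 (col1 (col3 (col3 (col1 (col3 (col1 (col1 (col3 (col1 (col1 (col3 (col1 (col3 (col0 (col3 (col1 (col3 (col1 (col1 (col3 (col1 (col1 (col3 (col1 (col3 (col3 (col1 (col3 (col1 (col1 (col3 (col1 (col1 (col3 (col1 (col3 (col0 (col3 (col1 (col3 (col1 (col1 (col3 (col1 (col1 (col3 (col1 (col3 (col3 (col1 (col3 (col1 (col1 (col3 (col1 (col1 (col3 (col1 (col3 (i))))))))))))))))))))))))))))))))))))))))))))))))))))))))))))))))))))))))))))))))))))))))))))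
theorem act31_eq (i : Nat) : act31 i = Tab.act T D chk31 i := rfl
theorem c31_0 : allRange (fun i => Nat.beq (act31 i) i) 0 480 = true := by decide +kernel
theorem h31 : ∀ i, i < T.N → Tab.relActOK T D chk31 i = true := by
  intro i hi
  rw [Tab.relActOK, ← act31_eq]
  exact (range_of_allRange c31_0) i (Nat.zero_le _) hi

def chk32 : List Nat := [3, 1, 3, 1, 1, 3, 1, 1, 3, 1, 3, 1, 2, 0, 2, 0, 0, 2, 0, 0, 2, 0, 2, 2, 0, 2, 0, 0, 2, 0, 0, 2, 0, 2, 0, 2, 0, 2, 0, 0, 2, 0, 0, 2, 0, 2, 3, 1, 3, 1, 1, 3, 1, 1, 3, 1, 3, 1, 2, 0, 2, 0, 0, 2, 0, 0, 2, 0, 2, 2, 0, 2, 0, 0, 2, 0, 0, 2, 0, 2, 0, 2, 0, 2, 0, 0, 2, 0, 0, 2, 0, 2]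
noncomputable def act32 (i : Nat) : Nat := col2 (col0 (col2 (col0 (col0 (col2 (col0 (col0 (col2 (col0 (col2 (col0 (col3 (col1 (col3 (col1 (col1 (col3 (col1 (col1 (col3 (col1 (col3 (col3 (col1 (col3 (col1 (col1 (col3 (col1 (col1 (col3 (col1 (col3 (col1 (col3 (col1 (col3 (col1 (col1 (col3 (col1 (col1 (col3 (col1 (col3 (col2 (col0 (col2 (col0 (col0 (col2 (col0 (col0 (col2 (col0 (col2 (col0 (col3 (col1 (col3 (col1 (col1 (col3 (col1 (col1 (col3 (col1 (col3 (col3 (col1 (col3 (col1 (col1 (col3 (col1 (col1 (col3 (col1 (col3 (col1 (col3 (col1 (col3 (col1 (col1 (col3 (col1 (col1 (col3 (col1 (col3 (i))))))))))))))))))))))))))))))))))))))))))))))))))))))))))))))))))))))))))))))))))))))))))))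
theorem act32_eq (i : Nat) : act32 i = Tab.act T D chk32 i := rfl
theorem c32_0 : allRange (fun i => Nat.beq (act32 i) i) 0 480 = true := by decide +kernel
theorem h32 : ∀ i, i < T.N → Tab.relActOK T D chk32 i = true := by
  intro i hi
  rw [Tab.relActOK, ← act32_eq]
  exact (range_of_allRange c32_0) i (Nat.zero_le _) hi

def chk33 : List Nat := [2, 0, 3, 2, 0, 2, 0, 0, 2, 0, 0, 2, 0, 2, 0, 2, 0, 2, 0, 0, 2, 0, 0, 2, 0, 2, 2, 0, 2, 0, 0, 2, 0, 0, 2, 0, 2, 1, 3, 1, 3, 1, 1, 3, 1, 1, 3, 1, 3, 2, 1, 3, 3, 1, 3, 1, 1, 3, 1, 1, 3, 1, 3, 3, 1, 3, 1, 1, 3, 1, 1, 3, 1, 3, 1, 3, 1, 3, 1, 1, 3, 1, 1, 3, 1, 3, 3, 1, 3, 1, 1, 3, 1, 1, 3, 1, 3, 1]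
noncomputable def act33 (i : Nat) : Nat := col3 (col1 (col2 (col3 (col1 (col3 (col1 (col1 (col3 (col1 (col1 (col3 (col1 (col3 (col1 (col3 (col1 (col3 (col1 (col1 (col3 (col1 (col1 (col3 (col1 (col3 (col3 (col1 (col3 (col1 (col1 (col3 (col1 (col1 (col3 (col1 (col3 (col0 (col2 (col0 (col2 (col0 (col0 (col2 (col0 (col0 (col2 (col0 (col2 (col3 (col0 (col2 (col2 (col0 (col2 (col0 (col0 (col2 (col0 (col0 (col2 (col0 (col2 (col2 (col0 (col2 (col0 (col0 (col2 (col0 (col0 (col2 (col0 (col2 (col0 (col2 (col0 (col2 (col0 (col0 (col2 (col0 (col0 (col2 (col0 (col2 (col2 (col0 (col2 (col0 (col0 (col2 (col0 (col0 (col2 (col0 (col2 (col0 (i))))))))))))))))))))))))))))))))))))))))))))))))))))))))))))))))))))))))))))))))))))))))))))))))))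
theorem act33_eq (i : Nat) : act33 i = Tab.act T D chk33 i := rfl
theorem c33_0 : allRange (fun i => Nat.beq (act33 i) i) 0 480 = true := by decide +kernel
theorem h33 : ∀ i, i < T.N → Tab.relActOK T D chk33 i = true := by
  intro i hi
  rw [Tab.relActOK, ← act33_eq]
  exact (range_of_allRange c33_0) i (Nat.zero_le _) hi

def chk34 : List Nat := [2, 0, 2, 0, 0, 2, 0, 0, 2, 0, 2, 0, 2, 0, 2, 0, 0, 2, 0, 0, 2, 0, 2, 2, 0, 2, 0, 0, 2, 0, 0, 2, 0, 2, 1, 3, 1, 3, 1, 1, 3, 1, 1, 3, 1, 3, 2, 0, 2, 0, 0, 2, 0, 0, 2, 0, 2, 0, 2, 0, 2, 0, 0, 2, 0, 0, 2, 0, 2, 2, 0, 2, 0, 0, 2, 0, 0, 2, 0, 2, 1, 3, 1, 3, 1, 1, 3, 1, 1, 3, 1, 3]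
noncomputable def act34 (i : Nat) : Nat := col3 (col1 (col3 (col1 (col1 (col3 (col1 (col1 (col3 (col1 (col3 (col1 (col3 (col1 (col3 (col1 (col1 (col3 (col1 (col1 (col3 (col1 (col3 (col3 (col1 (col3 (col1 (col1 (col3 (col1 (col1 (col3 (col1 (col3 (col0 (col2 (col0 (col2 (col0 (col0 (col2 (col0 (col0 (col2 (col0 (col2 (col3 (col1 (col3 (col1 (col1 (col3 (col1 (col1 (col3 (col1 (col3 (col1 (col3 (col1 (col3 (col1 (col1 (col3 (col1 (col1 (col3 (col1 (col3 (col3 (col1 (col3 (col1 (col1 (col3 (col1 (col1 (col3 (col1 (col3 (col0 (col2 (col0 (col2 (col0 (col0 (col2 (col0 (col0 (col2 (col0 (col2 (i))))))))))))))))))))))))))))))))))))))))))))))))))))))))))))))))))))))))))))))))))))))))))))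
theorem act34_eq (i : Nat) : act34 i = Tab.act T D chk34 i := rfl
theorem c34_0 : allRange (fun i => Nat.beq (act34 i) i) 0 480 = true := by decide +kernel
theorem h34 : ∀ i, i < T.N → Tab.relActOK T D chk34 i = true := by
  intro i hi
  rw [Tab.relActOK, ← act34_eq]
  exact (range_of_allRange c34_0) i (Nat.zero_le _) hi

def chk35 : List Nat := [0, 2, 0, 2, 0, 0, 2, 0, 0, 2, 0, 2, 2, 0, 2, 0, 0, 2, 0, 0, 2, 0, 2, 0, 2, 0, 2, 0, 0, 2, 0, 0, 2, 0, 2, 2, 0, 2, 0, 0, 2, 0, 0, 2, 0, 2, 0, 2, 0, 2, 0, 0, 2, 0, 0, 2, 0, 2, 2, 0, 2, 0, 0, 2, 0, 0, 2, 0, 2, 0, 2, 0, 2, 0, 0, 2, 0, 0, 2, 0, 2, 2, 0, 2, 0, 0, 2, 0, 0, 2, 0, 2]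
noncomputable def act35 (i : Nat) : Nat := col1 (col3 (col1 (col3 (col1 (col1 (col3 (col1 (col1 (col3 (col1 (col3 (col3 (col1 (col3 (col1 (col1 (col3 (col1 (col1 (col3 (col1 (col3 (col1 (col3 (col1 (col3 (col1 (col1 (col3 (col1 (col1 (col3 (col1 (col3 (col3 (col1 (col3 (col1 (col1 (col3 (col1 (col1 (col3 (col1 (col3 (col1 (col3 (col1 (col3 (col1 (col1 (col3 (col1 (col1 (col3 (col1 (col3 (col3 (col1 (col3 (col1 (col1 (col3 (col1 (col1 (col3 (col1 (col3 (col1 (col3 (col1 (col3 (col1 (col1 (col3 (col1 (col1 (col3 (col1 (col3 (col3 (col1 (col3 (col1 (col1 (col3 (col1 (col1 (col3 (col1 (col3 (i))))))))))))))))))))))))))))))))))))))))))))))))))))))))))))))))))))))))))))))))))))))))))))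
theorem act35_eq (i : Nat) : act35 i = Tab.act T D chk35 i := rfl
theorem c35_0 : allRange (fun i => Nat.beq (act35 i) i) 0 480 = true := by decide +kernel
theorem h35 : ∀ i, i < T.N → Tab.relActOK T D chk35 i = true := by
  intro i hi
  rw [Tab.relActOK, ← act35_eq]
  exact (range_of_allRange c35_0) i (Nat.zero_le _) hi

def chk36 : List Nat := [2, 0, 3, 1, 3, 1, 3, 1, 1, 3, 1, 1, 3, 1, 3, 0, 0, 3, 1, 3, 1, 1, 3, 1, 1, 3, 1, 3, 1, 3, 1, 3, 1, 1, 3, 1, 1, 3, 1, 3, 2, 1, 3, 3, 1, 3, 1, 1, 3, 1, 1, 3, 1, 3, 1, 3, 1, 3, 1, 1, 3, 1, 1, 3, 1, 3, 0, 0, 3, 1, 3, 1, 1, 3, 1, 1, 3, 1, 3, 1]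
noncomputable def act36 (i : Nat) : Nat := col3 (col1 (col2 (col0 (col2 (col0 (col2 (col0 (col0 (col2 (col0 (col0 (col2 (col0 (col2 (col1 (col1 (col2 (col0 (col2 (col0 (col0 (col2 (col0 (col0 (col2 (col0 (col2 (col0 (col2 (col0 (col2 (col0 (col0 (col2 (col0 (col0 (col2 (col0 (col2 (col3 (col0 (col2 (col2 (col0 (col2 (col0 (col0 (col2 (col0 (col0 (col2 (col0 (col2 (col0 (col2 (col0 (col2 (col0 (col0 (col2 (col0 (col0 (col2 (col0 (col2 (col1 (col1 (col2 (col0 (col2 (col0 (col0 (col2 (col0 (col0 (col2 (col0 (col2 (col0 (i))))))))))))))))))))))))))))))))))))))))))))))))))))))))))))))))))))))))))))))))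
theorem act36_eq (i : Nat) : act36 i = Tab.act T D chk36 i := rfl
theorem c36_0 : allRange (fun i => Nat.beq (act36 i) i) 0 480 = true := by decide +kernel
theorem h36 : ∀ i, i < T.N → Tab.relActOK T D chk36 i = true := by
  intro i hi
  rw [Tab.relActOK, ← act36_eq]
  exact (range_of_allRange c36_0) i (Nat.zero_le _) hi

def chk37 : List Nat := [1, 3, 1, 3, 1, 1, 3, 1, 1, 3, 1, 3, 0, 0, 3, 1, 3, 1, 1, 3, 1, 1, 3, 1, 3, 1, 3, 1, 3, 1, 1, 3, 1, 1, 3, 1, 3, 1, 3, 1, 3, 1, 1, 3, 1, 1, 3, 1, 3, 0, 0, 3, 1, 3, 1, 1, 3, 1, 1, 3, 1, 3, 1, 3, 1, 3, 1, 1, 3, 1, 1, 3, 1, 3]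
noncomputable def act37 (i : Nat) : Nat := col0 (col2 (col0 (col2 (col0 (col0 (col2 (col0 (col0 (col2 (col0 (col2 (col1 (col1 (col2 (col0 (col2 (col0 (col0 (col2 (col0 (col0 (col2 (col0 (col2 (col0 (col2 (col0 (col2 (col0 (col0 (col2 (col0 (col0 (col2 (col0 (col2 (col0 (col2 (col0 (col2 (col0 (col0 (col2 (col0 (col0 (col2 (col0 (col2 (col1 (col1 (col2 (col0 (col2 (col0 (col0 (col2 (col0 (col0 (col2 (col0 (col2 (col0 (col2 (col0 (col2 (col0 (col0 (col2 (col0 (col0 (col2 (col0 (col2 (i))))))))))))))))))))))))))))))))))))))))))))))))))))))))))))))))))))))))))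
theorem act37_eq (i : Nat) : act37 i = Tab.act T D chk37 i := rfl
theorem c37_0 : allRange (fun i => Nat.beq (act37 i) i) 0 480 = true := by decide +kernel
theorem h37 : ∀ i, i < T.N → Tab.relActOK T D chk37 i = true := by
  intro i hi
  rw [Tab.relActOK, ← act37_eq]
  exact (range_of_allRange c37_0) i (Nat.zero_le _) hi

def chk38 : List Nat := [0, 2, 0, 2, 0, 0, 2, 0, 0, 2, 0, 2, 1, 1, 2, 0, 2, 0, 0, 2, 0, 0, 2, 0, 2, 0, 2, 0, 2, 0, 0, 2, 0, 0, 2, 0, 2, 0, 2, 0, 2, 0, 0, 2, 0, 0, 2, 0, 2, 1, 1, 2, 0, 2, 0, 0, 2, 0, 0, 2, 0, 2, 0, 2, 0, 2, 0, 0, 2, 0, 0, 2, 0, 2]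
noncomputable def act38 (i : Nat) : Nat := col1 (col3 (col1 (col3 (col1 (col1 (col3 (col1 (col1 (col3 (col1 (col3 (col0 (col0 (col3 (col1 (col3 (col1 (col1 (col3 (col1 (col1 (col3 (col1 (col3 (col1 (col3 (col1 (col3 (col1 (col1 (col3 (col1 (col1 (col3 (col1 (col3 (col1 (col3 (col1 (col3 (col1 (col1 (col3 (col1 (col1 (col3 (col1 (col3 (col0 (col0 (col3 (col1 (col3 (col1 (col1 (col3 (col1 (col1 (col3 (col1 (col3 (col1 (col3 (col1 (col3 (col1 (col1 (col3 (col1 (col1 (col3 (col1 (col3 (i))))))))))))))))))))))))))))))))))))))))))))))))))))))))))))))))))))))))))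
theorem act38_eq (i : Nat) : act38 i = Tab.act T D chk38 i := rfl
theorem c38_0 : allRange (fun i => Nat.beq (act38 i) i) 0 480 = true := by decide +kernel
theorem h38 : ∀ i, i < T.N → Tab.relActOK T D chk38 i = true := by
  intro i hi
  rw [Tab.relActOK, ← act38_eq]
  exact (range_of_allRange c38_0) i (Nat.zero_le _) hi

def chk39 : List Nat := [2, 0, 0, 2, 2, 2, 3, 1, 1, 3, 3, 3]
noncomputable def act39 (i : Nat) : Nat := col3 (col1 (col1 (col3 (col3 (col3 (col2 (col0 (col0 (col2 (col2 (col2 (i))))))))))))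
theorem act39_eq (i : Nat) : act39 i = Tab.act T D chk39 i := rfl
theorem c39_0 : allRange (fun i => Nat.beq (act39 i) i) 0 480 = true := by decide +kernel
theorem h39 : ∀ i, i < T.N → Tab.relActOK T D chk39 i = true := by
  intro i hi
  rw [Tab.relActOK, ← act39_eq]
  exact (range_of_allRange c39_0) i (Nat.zero_le _) hi

def chk40 : List Nat := [2, 2, 2, 2, 2, 2, 2, 2]
noncomputable def act40 (i : Nat) : Nat := col3 (col3 (col3 (col3 (col3 (col3 (col3 (col3 (i))))))))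
theorem act40_eq (i : Nat) : act40 i = Tab.act T D chk40 i := rfl
theorem c40_0 : allRange (fun i => Nat.beq (act40 i) i) 0 480 = true := by decide +kernel
theorem h40 : ∀ i, i < T.N → Tab.relActOK T D chk40 i = true := by
  intro i hi
  rw [Tab.relActOK, ← act40_eq]
  exact (range_of_allRange c40_0) i (Nat.zero_le _) hi

def chk41 : List Nat := [2, 2, 2, 2, 2, 2, 2, 2]
noncomputable def act41 (i : Nat) : Nat := col3 (col3 (col3 (col3 (col3 (col3 (col3 (col3 (i))))))))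
theorem act41_eq (i : Nat) : act41 i = Tab.act T D chk41 i := rfl
theorem c41_0 : allRange (fun i => Nat.beq (act41 i) i) 0 480 = true := by decide +kernel
theorem h41 : ∀ i, i < T.N → Tab.relActOK T D chk41 i = true := by
  intro i hi
  rw [Tab.relActOK, ← act41_eq]
  exact (range_of_allRange c41_0) i (Nat.zero_le _) hi

def chk42 : List Nat := [2, 0, 0, 2, 0, 2, 0, 2, 0, 0, 2, 0, 0, 2, 0, 2, 0, 0, 0, 3, 1, 1, 3, 2, 0, 2, 0, 0, 2, 0, 0, 2, 0, 2, 1, 2, 0, 2, 0, 0, 2, 0, 0, 2, 0, 2, 0, 2, 0, 2, 0, 0, 2, 0, 0, 2, 0, 2, 0, 3, 1, 3, 1, 1, 3, 1, 1, 3, 1, 3]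
noncomputable def act42 (i : Nat) : Nat := col3 (col1 (col1 (col3 (col1 (col3 (col1 (col3 (col1 (col1 (col3 (col1 (col1 (col3 (col1 (col3 (col1 (col1 (col1 (col2 (col0 (col0 (col2 (col3 (col1 (col3 (col1 (col1 (col3 (col1 (col1 (col3 (col1 (col3 (col0 (col3 (col1 (col3 (col1 (col1 (col3 (col1 (col1 (col3 (col1 (col3 (col1 (col3 (col1 (col3 (col1 (col1 (col3 (col1 (col1 (col3 (col1 (col3 (col1 (col2 (col0 (col2 (col0 (col0 (col2 (col0 (col0 (col2 (col0 (col2 (i))))))))))))))))))))))))))))))))))))))))))))))))))))))))))))))))))))))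
theorem act42_eq (i : Nat) : act42 i = Tab.act T D chk42 i := rfl
theorem c42_0 : allRange (fun i => Nat.beq (act42 i) i) 0 480 = true := by decide +kernel
theorem h42 : ∀ i, i < T.N → Tab.relActOK T D chk42 i = true := by
  intro i hi
  rw [Tab.relActOK, ← act42_eq]
  exact (range_of_allRange c42_0) i (Nat.zero_le _) hi

def chk43 : List Nat := [0, 2, 0, 2, 0, 0, 2, 0, 0, 2, 0, 2, 0, 0, 0, 0, 2, 0, 2, 0, 0, 2, 0, 0, 2, 0, 2, 0, 0, 0, 0, 2, 0, 2, 0, 0, 2, 0, 0, 2, 0, 2, 0, 0, 0, 0, 2, 0, 2, 0, 0, 2, 0, 0, 2, 0, 2, 0, 0, 0]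
noncomputable def act43 (i : Nat) : Nat := col1 (col3 (col1 (col3 (col1 (col1 (col3 (col1 (col1 (col3 (col1 (col3 (col1 (col1 (col1 (col1 (col3 (col1 (col3 (col1 (col1 (col3 (col1 (col1 (col3 (col1 (col3 (col1 (col1 (col1 (col1 (col3 (col1 (col3 (col1 (col1 (col3 (col1 (col1 (col3 (col1 (col3 (col1 (col1 (col1 (col1 (col3 (col1 (col3 (col1 (col1 (col3 (col1 (col1 (col3 (col1 (col3 (col1 (col1 (col1 (i))))))))))))))))))))))))))))))))))))))))))))))))))))))))))))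
theorem act43_eq (i : Nat) : act43 i = Tab.act T D chk43 i := rfl
theorem c43_0 : allRange (fun i => Nat.beq (act43 i) i) 0 480 = true := by decide +kernel
theorem h43 : ∀ i, i < T.N → Tab.relActOK T D chk43 i = true := by
  intro i hi
  rw [Tab.relActOK, ← act43_eq]
  exact (range_of_allRange c43_0) i (Nat.zero_le _) hi

def chk44 : List Nat := [2, 0, 2, 0, 0, 2, 0, 0, 2, 0, 2, 1, 3, 1, 3, 1, 1, 3, 1, 1, 3, 1, 3, 1, 3, 1, 3, 1, 1, 3, 1, 1, 3, 1, 3, 0, 3, 1, 3, 1, 1, 3, 1, 1, 3, 1, 3, 2, 0, 2, 0, 0, 2, 0, 0, 2, 0, 2, 1, 3, 1, 3, 1, 1, 3, 1, 1, 3, 1, 3, 1, 3, 1, 3, 1, 1, 3, 1, 1, 3, 1, 3, 0, 3, 1, 3, 1, 1, 3, 1, 1, 3, 1, 3, 2, 0, 2, 0, 0, 2, 0, 0, 2, 0, 2, 1, 3, 1, 3, 1, 1, 3, 1, 1, 3, 1, 3, 1, 3, 1, 3, 1, 1, 3, 1, 1, 3, 1, 3, 0, 3, 1, 3, 1, 1, 3, 1, 1, 3, 1, 3, 2, 0, 2, 0, 0, 2, 0, 0, 2, 0, 2, 1, 3, 1, 3, 1, 1, 3, 1, 1, 3, 1, 3, 1, 3, 1, 3, 1, 1, 3, 1, 1, 3, 1, 3, 0, 3, 1, 3, 1,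 1, 3, 1, 1, 3, 1, 3]
noncomputable def act44 (i : Nat) : Nat := col3 (col1 (col3 (col1 (col1 (col3 (col1 (col1 (col3 (col1 (col3 (col0 (col2 (col0 (col2 (col0 (col0 (col2 (col0 (col0 (col2 (col0 (col2 (col0 (col2 (col0 (col2 (col0 (col0 (col2 (col0 (col0 (col2 (col0 (col2 (col1 (col2 (col0 (col2 (col0 (col0 (col2 (col0 (col0 (col2 (col0 (col2 (col3 (col1 (col3 (col1 (col1 (col3 (col1 (col1 (col3 (col1 (col3 (col0 (col2 (col0 (col2 (col0 (col0 (col2 (col0 (col0 (col2 (col0 (col2 (col0 (col2 (col0 (col2 (col0 (col0 (col2 (col0 (col0 (col2 (col0 (col2 (col1 (col2 (col0 (col2 (col0 (col0 (col2 (col0 (col0 (col2 (col0 (col2 (col3 (col1 (col3 (col1 (col1 (col3 (col1 (col1 (col3 (col1 (col3 (col0 (col2 (col0 (col2 (col0 (col0 (col2 (col0 (col0 (col2 (col0 (col2 (col0 (col2 (col0 (col2 (col0 (col0 (col2 (col0 (col0 (col2 (col0 (col2 (col1 (col2 (col0 (col2 (col0 (col0 (col2 (col0 (col0 (col2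 (col0 (col2 (col3 (col1 (col3 (col1 (col1 (col3 (col1 (col1 (col3 (col1 (col3 (col0 (col2 (col0 (col2 (col0 (col0 (col2 (col0 (col0 (col2 (col0 (col2 (col0 (col2 (col0 (col2 (col0 (col0 (col2 (col0 (col0 (col2 (col0 (col2 (col1 (col2 (col0 (col2 (col0 (col0 (col2 (col0 (col0 (col2 (col0 (col2 (i))))))))))))))))))))))))))))))))))))))))))))))))))))))))))))))))))))))))))))))))))))))))))))))))))))))))))))))))))))))))))))))))))))))))))))))))))))))))))))))))))))))))))))))))))))))))))))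
theorem act44_eq (i : Nat) : act44 i = Tab.act T D chk44 i := rfl
theorem c44_0 : allRange (fun i => Nat.beq (act44 i) i) 0 315 = true := by decide +kernel
theorem c44_1 : allRange (fun i => Nat.beq (act44 i) i) 315 165 = true := by decide +kernel
theorem h44 : ∀ i, i < T.N → Tab.relActOK T D chk44 i = true := by
  intro i hi
  rw [Tab.relActOK, ← act44_eq]
  exact (range_glue (range_of_allRange c44_0) (range_of_allRange c44_1)) i (Nat.zero_le _) hi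

def chk45 : List Nat := [2, 0, 0, 2, 3, 1, 3, 1, 1, 3, 1, 1, 3, 1, 3, 0, 2, 0, 2, 0, 0, 2, 0, 0, 2, 0, 2, 0, 2, 0, 2, 0, 0, 2, 0, 0, 2, 0, 2, 1, 2, 0, 2, 0, 0, 2, 0, 0, 2, 0, 2, 3, 1, 1, 3, 0, 0, 0, 2, 0, 2, 0, 0, 2, 0, 0, 2, 0, 2, 0]
noncomputable def act45 (i : Nat) : Nat := col3 (col1 (col1 (col3 (col2 (col0 (col2 (col0 (col0 (col2 (col0 (col0 (col2 (col0 (col2 (col1 (col3 (col1 (col3 (col1 (col1 (col3 (col1 (col1 (col3 (col1 (col3 (col1 (col3 (col1 (col3 (col1 (col1 (col3 (col1 (col1 (col3 (col1 (col3 (col0 (col3 (col1 (col3 (col1 (col1 (col3 (col1 (col1 (col3 (col1 (col3 (col2 (col0 (col0 (col2 (col1 (col1 (col1 (col3 (col1 (col3 (col1 (col1 (col3 (col1 (col1 (col3 (col1 (col3 (col1 (i))))))))))))))))))))))))))))))))))))))))))))))))))))))))))))))))))))))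
theorem act45_eq (i : Nat) : act45 i = Tab.act T D chk45 i := rfl
theorem c45_0 : allRange (fun i => Nat.beq (act45 i) i) 0 480 = true := by decide +kernel
theorem h45 : ∀ i, i < T.N → Tab.relActOK T D chk45 i = true := by
  intro i hi
  rw [Tab.relActOK, ← act45_eq]
  exact (range_of_allRange c45_0) i (Nat.zero_le _) hi

def chk46 : List Nat := [3, 1, 3, 1, 1, 3, 1, 1, 3, 1, 3, 0, 2, 0, 2, 0, 0, 2, 0, 0, 2, 0, 2, 0, 2, 0, 2, 0, 0, 2, 0, 0, 2, 0, 2, 1, 2, 0, 2, 0, 0, 2, 0, 0, 2, 0, 2, 3, 1, 3, 1, 1, 3, 1, 1, 3, 1, 3, 0, 2, 0, 2, 0, 0, 2, 0, 0, 2, 0, 2, 0, 2, 0, 2, 0, 0, 2, 0, 0, 2, 0, 2, 1, 2, 0, 2, 0, 0, 2, 0, 0, 2, 0, 2, 3, 1, 3, 1, 1, 3, 1, 1, 3, 1, 3, 0, 2, 0, 2, 0, 0, 2, 0, 0, 2, 0, 2, 0, 2, 0, 2, 0, 0, 2, 0, 0, 2, 0, 2, 1, 2, 0, 2, 0, 0, 2, 0, 0, 2, 0, 2, 3, 1, 3, 1, 1, 3, 1, 1, 3, 1, 3, 0, 2, 0, 2, 0, 0, 2, 0, 0, 2, 0, 2, 0, 2, 0, 2, 0, 0, 2, 0, 0, 2, 0, 2, 1, 2, 0, 2, 0,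 0, 2, 0, 0, 2, 0, 2]
noncomputable def act46 (i : Nat) : Nat := col2 (col0 (col2 (col0 (col0 (col2 (col0 (col0 (col2 (col0 (col2 (col1 (col3 (col1 (col3 (col1 (col1 (col3 (col1 (col1 (col3 (col1 (col3 (col1 (col3 (col1 (col3 (col1 (col1 (col3 (col1 (col1 (col3 (col1 (col3 (col0 (col3 (col1 (col3 (col1 (col1 (col3 (col1 (col1 (col3 (col1 (col3 (col2 (col0 (col2 (col0 (col0 (col2 (col0 (col0 (col2 (col0 (col2 (col1 (col3 (col1 (col3 (col1 (col1 (col3 (col1 (col1 (col3 (col1 (col3 (col1 (col3 (col1 (col3 (col1 (col1 (col3 (col1 (col1 (col3 (col1 (col3 (col0 (col3 (col1 (col3 (col1 (col1 (col3 (col1 (col1 (col3 (col1 (col3 (col2 (col0 (col2 (col0 (col0 (col2 (col0 (col0 (col2 (col0 (col2 (col1 (col3 (col1 (col3 (col1 (col1 (col3 (col1 (col1 (col3 (col1 (col3 (col1 (col3 (col1 (col3 (col1 (col1 (col3 (col1 (col1 (col3 (col1 (col3 (col0 (col3 (col1 (col3 (col1 (col1 (col3 (col1 (col1 (col3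 (col1 (col3 (col2 (col0 (col2 (col0 (col0 (col2 (col0 (col0 (col2 (col0 (col2 (col1 (col3 (col1 (col3 (col1 (col1 (col3 (col1 (col1 (col3 (col1 (col3 (col1 (col3 (col1 (col3 (col1 (col1 (col3 (col1 (col1 (col3 (col1 (col3 (col0 (col3 (col1 (col3 (col1 (col1 (col3 (col1 (col1 (col3 (col1 (col3 (i))))))))))))))))))))))))))))))))))))))))))))))))))))))))))))))))))))))))))))))))))))))))))))))))))))))))))))))))))))))))))))))))))))))))))))))))))))))))))))))))))))))))))))))))))))))))))))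
theorem act46_eq (i : Nat) : act46 i = Tab.act T D chk46 i := rfl
theorem c46_0 : allRange (fun i => Nat.beq (act46 i) i) 0 315 = true := by decide +kernel
theorem c46_1 : allRange (fun i => Nat.beq (act46 i) i) 315 165 = true := by decide +kernel
theorem h46 : ∀ i, i < T.N → Tab.relActOK T D chk46 i = true := by
  intro i hi
  rw [Tab.relActOK, ← act46_eq]
  exact (range_glue (range_of_allRange c46_0) (range_of_allRange c46_1)) i (Nat.zero_le _) hi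

def chk47 : List Nat := [1, 3, 1, 3, 1, 1, 3, 1, 1, 3, 1, 3, 1, 1, 1, 1, 3, 1, 3, 1, 1, 3, 1, 1, 3, 1, 3, 1, 1, 1, 1, 3, 1, 3, 1, 1, 3, 1, 1, 3, 1, 3, 1, 1, 1, 1, 3, 1, 3, 1, 1, 3, 1, 1, 3, 1, 3, 1, 1, 1]
noncomputable def act47 (i : Nat) : Nat := col0 (col2 (col0 (col2 (col0 (col0 (col2 (col0 (col0 (col2 (col0 (col2 (col0 (col0 (col0 (col0 (col2 (col0 (col2 (col0 (col0 (col2 (col0 (col0 (col2 (col0 (col2 (col0 (col0 (col0 (col0 (col2 (col0 (col2 (col0 (col0 (col2 (col0 (col0 (col2 (col0 (col2 (col0 (col0 (col0 (col0 (col2 (col0 (col2 (col0 (col0 (col2 (col0 (col0 (col2 (col0 (col2 (col0 (col0 (col0 (i))))))))))))))))))))))))))))))))))))))))))))))))))))))))))))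
theorem act47_eq (i : Nat) : act47 i = Tab.act T D chk47 i := rfl
theorem c47_0 : allRange (fun i => Nat.beq (act47 i) i) 0 480 = true := by decide +kernel
theorem h47 : ∀ i, i < T.N → Tab.relActOK T D chk47 i = true := by
  intro i hi
  rw [Tab.relActOK, ← act47_eq]
  exact (range_of_allRange c47_0) i (Nat.zero_le _) hi

def chkAll : List (List Nat) := [chk0, chk1, chk2, chk3, chk4, chk5, chk6, chk7, chk8, chk9, chk10, chk11, chk12, chk13, chk14, chk15, chk16, chk17, chk18, chk19, chk20, chk21, chk22, chk23, chk24, chk25, chk26, chk27, chk28, chk29, chk30, chk31, chk32, chk33, chk34, chk35, chk36, chk37, chk38, chk39, chk40, chk41, chk42, chk43, chk44, chk45, chk46, chk47]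
theorem hAll : ∀ w ∈ chkAll, ∀ i, i < T.N → Tab.relActOK T D w i = true := by
  intro w hw
  simp only [chkAll, List.mem_cons, List.not_mem_nil, or_false] at hw
  rcases hw with rfl | rfl | rfl | rfl | rfl | rfl | rfl | rfl | rfl | rfl | rfl | rfl | rfl | rfl | rfl | rfl | rfl | rfl | rfl | rfl | rfl | rfl | rfl | rfl | rfl | rfl | rfl | rfl | rfl | rfl | rfl | rfl | rfl | rfl | rfl | rfl | rfl | rfl | rfl | rfl | rfl | rfl | rfl | rfl | rfl | rfl | rfl | rfl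
  · exact h0
  · exact h1
  · exact h2
  · exact h3
  · exact h4
  · exact h5
  · exact h6
  · exact h7
  · exact h8
  · exact h9
  · exact h10
  · exact h11
  · exact h12
  · exact h13
  · exact h14
  · exact h15
  · exact h16
  · exact h17
  · exact h18
  · exact h19
  · exact h20
  · exact h21
  · exact h22
  · exact h23
  · exact h24
  · exact h25
  · exact h26
  · exact h27
  · exact h28
  · exact h29
  · exact h30
  · exact h31
  · exact h32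
  · exact h33
  · exact h34
  · exact h35
  · exact h36
  · exact h37
  · exact h38
  · exact h39
  · exact h40
  · exact h41
  · exact h42
  · exact h43
  · exact h44
  · exact h45
  · exact h46
  · exact h47
theorem hAll_lt : ∀ w ∈ chkAll, ∀ x ∈ w, x < 6 := by decide +kernel

end Cfsg.Agent.Lib.Helper4.TCD.SC2Sp62p3W
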