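import Mathlib
import Cfsg.Agent.Lib.Helper4.C2Sp62Main
import Cfsg.Agent.Lib.Helper4.TCD_SC2Sp62p3A_Fin
import Cfsg.Agent.Lib.Helper4.TCD_SC2Sp62p3W
import Cfsg.Agent.Lib.Helper4.StemLib8
import Cfsg.Agent.Lib.Helper4.C2Sp62Sub

/-! `C2Sp62` has no stem extension with kernel of order 3 (generated). -/

namespace Cfsg.Agent.Lib.Helper4.SC2Sp62p3Main

open Cfsg.Agent.Lib.Helper4.TC Cfsg.Agent.Lib.Helper4.TCD Cfsg.Agent.Lib.Helper4.TC.Log Cfsg.Agent.Lib.Helper4.Stem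

/-- the description of the auxiliary presentation -/
def spec : Spec4 :=
  { p := 3
    items := [(0, [], 7),
      (2, [], 4),
      (4, [], 4),
      (6, [4, 4], 0),
      (8, [4, 0, 4, 0, 4, 0, 4, 0, 4, 0, 4, 0, 4, 0, 4, 0, 4, 0], 0)]
    cen := [8]
    R := []
    sub := [0, 2]
    PR := [[0, 0, 0, 0, 0, 0, 0], [0, 0, 2, 1, 2, 0, 3, 0, 2, 1, 2], [0, 0, 0, 2, 0, 0, 0, 2, 0, 0, 0, 2], [0, 0, 2, 2, 0, 0, 3, 3, 0, 0, 3, 3]]
    XR := [([4], [2, 0, 2], [2, 0, 2], 4),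
      ([4], [0, 3, 0, 0, 3, 0], [0, 3, 0, 0, 3, 0], 4),
      ([4, 0, 4], [4, 4], [4, 4], 4),
      ([4, 0, 4], [1, 2, 2, 1, 2, 2], [3, 1, 2, 2, 0, 2], 2),
      ([4, 0, 4], [2, 0, 2, 2, 1, 3], [0, 2, 2, 0, 2, 2], 2),
      ([4, 0, 4], [1, 3, 0, 0, 3, 1, 3], [0, 2, 1, 1, 2, 0, 2], 2),
      ([4, 0, 5], [4, 4], [4, 4], 4),
      ([4, 0, 5], [1, 2, 2, 1, 2, 2], [3, 1, 2, 2, 0, 2], 2),
      ([4, 0, 5], [2, 0, 2, 2, 1, 3], [0, 2, 2, 0, 2, 2], 2),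
      ([4, 0, 5], [1, 3, 0, 0, 3, 1, 3], [0, 2, 1, 1, 2, 0, 2], 2),
      ([4, 0, 0, 4], [4, 4], [4, 4], 4),
      ([4, 0, 0, 4], [0, 2, 0, 0, 0], [2, 1, 3, 1, 3, 0, 3], 4),
      ([4, 0, 0, 4], [3, 0, 2, 0, 2, 1, 2], [1, 3, 1, 1, 1], 4)] }

/-- the letters of the auxiliary presentation as words of the base group -/
def Wl (l : ℕ) : List ℕ :=
  [[0], [1], [2, 0, 2, 0, 0, 2, 0, 0, 2, 0, 2], [3, 1, 3, 1, 1, 3, 1, 1, 3, 1, 3], [2], [3], [4], [5], [], []].getD l []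

theorem checks_eq : checks spec.toSpec2 PC2Sp62.P.invR Wl ++ checksX spec PSC2Sp62p3.P.invR Wl = SC2Sp62p3W.chkAll := by decide +kernel

theorem sub_eq : Subgroup.closure (xw PC2Sp62.P Wl '' {l | l ∈ spec.sub}) = Inst.subG PC2Sp62.P C2Sp62B.subs := by
  rw [closure_xw_eq]
  rfl

set_option maxRecDepth 100000 in
theorem noStem : NoStemPrime PC2Sp62.P.Grp 3 := by
  obtain ⟨fG, hinj, hcard⟩ := C2Sp62Main.order_aux
  have hall : ∀ w ∈ checks spec.toSpec2 PC2Sp62.P.invR Wl ++ checksX spec PSC2Sp62p3.P.invR Wl, wordP PC2Sp62.P.gR w = 1 := by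
    rw [checks_eq]
    intro w hw
    exact C2Sp62R.prep.word_eq_one hinj w (SC2Sp62p3W.hAll_lt w hw) (SC2Sp62p3W.hAll w hw)
  exact noStemPrime_pres4 PC2Sp62.P PC2Sp62.valid PSC2Sp62p3.P PSC2Sp62p3.valid spec (by show Nat.Prime 3; norm_num) Wl
    (by decide +kernel) (by decide +kernel) (fun w hw => hall w (List.mem_append_left _ hw))
    (fun w hw => hall w (List.mem_append_right _ hw)) (by decide +kernel)
    (by rw [sub_eq]; exact C2Sp62Sub.liftsP_sub 3 (by norm_num))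
    6048 (by rw [sub_eq]; exact C2Sp62Sub.sub_card.2)
    480 (by decide) SC2Sp62p3A.index_eq fG 2903040 hcard (by decide)

end Cfsg.Agent.Lib.Helper4.SC2Sp62p3Main
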