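import Mathlib
import Cfsg.Prelude.Def_Classical
import Cfsg.Agent.Lib.Helper4.Sp62pMain
import Cfsg.Agent.Lib.Helper4.SympEquiv
import Cfsg.Agent.Lib.Helper5.SympCard
import Cfsg.Agent.Lib.Helper4.TC20
import Cfsg.Agent.Lib.Helper4.RelLib
import Cfsg.Agent.Lib.Helper4.RepLib

/-!
The presented group `Sp62p` is isomorphic to `PSp₆` over every field with 2 elements.
-/

set_option autoImplicit false

namespace Cfsg.Agent.Lib.Helper4.Sp62pIso

open Cfsg.Agent.Lib.Helper4.TC Cfsg.Agent.Lib.Helper4.TCD Cfsg.Agent.Lib.Helper4.TC.Log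
  Cfsg.Agent.Lib.Helper4.SympEquiv

/-- the group `Sp₆` over `ZMod 2` -/
abbrev Sp2 : Type := ↥(Matrix.symplecticGroup (Fin 3) (ZMod 2))

instance : DecidableEq Sp2 := inferInstanceAs (DecidableEq {A // A ∈ Matrix.symplecticGroup (Fin 3) (ZMod 2)})

/-- the matrix of `a` (a transvection) -/
def mA : Sp2 := ⟨Matrix.fromBlocks !![1, 0, 0; 0, 1, 0; 0, 0, 1] !![0, 0, 0; 0, 0, 0; 0, 0, 0]
  !![1, 0, 0; 0, 0, 0; 0, 0, 0] !![1, 0, 0; 0, 1, 0; 0, 0, 1], by
  rw [SymplecticGroup.mem_iff]; decide +kernel⟩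
/-- the matrix of `b` (of order 7) -/
def mB : Sp2 := ⟨Matrix.fromBlocks !![1, 0, 0; 1, 1, 1; 1, 1, 0] !![1, 1, 1; 1, 1, 1; 0, 1, 1]
  !![0, 0, 0; 0, 0, 1; 1, 1, 1] !![1, 1, 0; 1, 0, 1; 1, 0, 0], by
  rw [SymplecticGroup.mem_iff]; decide +kernel⟩
/-- its inverse -/
def mB' : Sp2 := ⟨Matrix.fromBlocks !![1, 1, 1; 1, 0, 0; 0, 1, 0] !![1, 1, 0; 1, 1, 1; 1, 1, 1]
  !![0, 0, 1; 0, 0, 1; 0, 1, 1] !![1, 1, 1; 0, 1, 1; 0, 1, 0], by
  rw [SymplecticGroup.mem_iff]; decide +kernel⟩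

/-- the matrices of the letters -/
def mU (l : ℕ) : Sp2 := [mB, mB', mA, mA].getD l 1

theorem minv_ok : ∀ l, l < PSp62p.P.k → mU l * mU (PSp62p.P.invR l) = 1 := by decide +kernel

theorem mrel_ok : ∀ L ∈ PSp62p.P.real, wordP mU L = 1 := by decide +kernel

theorem exists_hom : ∃ f : PSp62p.P.Grp →* Sp2, ∀ l, l < PSp62p.P.k → f (PSp62p.P.gR l) = mU l :=
  exists_hom_of_letters PSp62p.P PSp62p.valid mU minv_ok mrel_ok

/-- the homomorphism to `Sp₆(2)` -/
noncomputable def ι : PSp62p.P.Grp →* Sp2 := Classical.choose exists_hom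

theorem ι_gR (l : ℕ) (hl : l < 4) : ι (PSp62p.P.gR l) = mU l := Classical.choose_spec exists_hom l hl

theorem mA_ne : mA ≠ 1 := by decide +kernel

theorem ι_ne : ι (PSp62p.P.gR 2) ≠ 1 := by
  rw [ι_gR 2 (by decide)]
  exact mA_ne

theorem ι_injective : Function.Injective ι := injective_of_simple Sp62pMain.simple_aux ι _ ι_ne

theorem card_Sp2 : Nat.card Sp2 = 1451520 := by
  show Nat.card ↥(Matrix.symplecticGroup (Fin 3) (ZMod 2)) = 1451520
  rw [Cfsg.Agent.Lib.Helper5.SympCard.card_symplecticGroup 3, ZMod.card]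
  decide

theorem ι_surjective : Function.Surjective ι := by
  obtain ⟨fG, _, hcard⟩ := Sp62pMain.order_aux
  have := fG
  rw [← MonoidHom.range_eq_top]
  apply Subgroup.eq_top_of_card_eq
  rw [card_Sp2, ← hcard]
  exact (Nat.card_congr (MonoidHom.ofInjective ι_injective).toEquiv).symm

/-- the isomorphism over `ZMod 2` -/
noncomputable def iso2 : PSp62p.P.Grp ≃* Sp2 := MulEquiv.ofBijective ι ⟨ι_injective, ι_surjective⟩

theorem not_comm : mA * mB ≠ mB * mA := by decide +kernel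

theorem center_Sp2 : Subgroup.center Sp2 = ⊥ := by
  have hs : IsSimpleGroup Sp2 := Cfsg.Agent.Lib.Helper4.RepLib.simple_of_equiv iso2 Sp62pMain.simple_aux
  exact center_eq_bot_of_simple hs mA mB not_comm

/-- the presented group is `PSp₆` over any field with 2 elements -/
theorem iso {F : Type*} [Field F] [Fintype F] (hF : Fintype.card F = 2) :
    Nonempty (PSp62p.P.Grp ≃* Cfsg.PSp 3 F) := by
  have e0 : ZMod 2 ≃+* F := FiniteField.ringEquivOfCardEq ((ZMod.card 2).trans hF.symm)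
  have e1 : Sp2 ≃* ↥(Matrix.symplecticGroup (Fin 3) F) := sympEquiv e0
  exact ⟨(iso2.trans (quotCenterEquiv center_Sp2)).trans (quotCenterCongr e1)⟩

end Cfsg.Agent.Lib.Helper4.Sp62pIso
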