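import Mathlib
import Cfsg.Prelude.Def_KGroupFacts
import Cfsg.Agent.Lib.Helper4.Sp62pIso
import Cfsg.Agent.Lib.Helper4.C2Sp62Cover
import Cfsg.Agent.Lib.Helper4.SC2Sp62p2Main
import Cfsg.Agent.Lib.Helper4.SC2Sp62p3Main

/-!
The presented group `C2Sp62` has no stem extension with kernel of prime order, and the Schur multiplier of the
symplectic group `PSp₆` over a field with 2 elements is cyclic of order 2.
-/

set_option autoImplicit false

namespace Cfsg.Agent.Lib.Helper4.C2Sp62Stem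

open Cfsg Cfsg.Agent.Lib.Helper4.TC Cfsg.Agent.Lib.Helper4.TCD Cfsg.Agent.Lib.Helper4.TC.Log
  Cfsg.Agent.Lib.Helper4.Stem

/-- no stem extension with kernel of prime order -/
theorem noStem : ∀ p, p.Prime → NoStemPrime PC2Sp62.P.Grp p := by
  obtain ⟨fG, _, hcard⟩ := C2Sp62Main.order_aux
  have := fG
  apply noStemPrime_all PC2Sp62.P.Grp [2, 3]
  · intro p hp
    simp only [List.mem_cons, List.not_mem_nil, or_false] at hp
    rcases hp with rfl | rfl
    · exact SC2Sp62p2Main.noStem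
    · exact SC2Sp62p3Main.noStem
  · rw [hcard]
    exact sq_dvd_mem_of_factors 2903040 [2, 2, 2, 2, 2, 2, 2, 2, 2, 2, 3, 3, 3, 3, 5, 7] (by norm_num) (by decide)
      [2, 3] (by decide)

/-- the Schur multiplier of `PSp₆` over a field with 2 elements is cyclic of order 2 -/
theorem hasMult {F : Type*} [Field F] [Fintype F] (hF : Fintype.card F = 2) :
    Cfsg.HasCyclicSchurMultiplier (Cfsg.PSp 3 F) 2 := by
  obtain ⟨e⟩ := Sp62pIso.iso hF
  obtain ⟨fG, _, _⟩ := C2Sp62Main.order_aux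
  have := fG
  obtain ⟨fL, _⟩ := Sp62pMain.order_aux
  have := fL
  have : Finite (Cfsg.PSp 3 F) := Finite.of_equiv _ e.toEquiv
  let τ : PC2Sp62.P.Grp →* Cfsg.PSp 3 F := e.toMonoidHom.comp C2Sp62Cover.π
  have hker : τ.ker = C2Sp62Cover.π.ker := by
    ext x
    rw [MonoidHom.mem_ker, MonoidHom.mem_ker]
    show e (C2Sp62Cover.π x) = 1 ↔ _
    exact EmbeddingLike.map_eq_one_iff
  have hτ : IsStemExtension τ := by
    refine ⟨?_, ?_, ?_⟩
    · exact e.surjective.comp C2Sp62Cover.isStem.1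
    · rw [hker]
      exact C2Sp62Cover.isStem.2.1
    · rw [hker]
      exact C2Sp62Cover.isStem.2.2
  obtain ⟨ek⟩ := C2Sp62Cover.ker_equiv
  have ek' : τ.ker ≃* Multiplicative (ZMod 2) := (MulEquiv.subgroupCongr hker).trans ek
  exact hasSchurMultiplier_of_cover PC2Sp62.P.Grp τ hτ ek' noStem

end Cfsg.Agent.Lib.Helper4.C2Sp62Stem
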