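import Cfsg.Agent.Lib.Helper4.TCD_C2SuzR_Acc

namespace Cfsg.Agent.Lib.Helper4.TCD.C2SuzR

open Cfsg.Agent.Lib.Helper4.TC

set_option maxRecDepth 100000
set_option Elab.async false

theorem c_act6_12 : allRange (fun i => Nat.beq (actR6 i) i) 55380 4615 = true := by decide +kernel
theorem c_act6_13 : allRange (fun i => Nat.beq (actR6 i) i) 59995 4615 = true := by decide +kernel
theorem c_act6_14 : allRange (fun i => Nat.beq (actR6 i) i) 64610 910 = true := by decide +kernel
theorem c_act7_0 : allRange (fun i => Nat.beq (actR7 i) i) 0 20000 = true := by decide +kernel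
theorem c_act7_1 : allRange (fun i => Nat.beq (actR7 i) i) 20000 20000 = true := by decide +kernel
theorem c_act7_2 : allRange (fun i => Nat.beq (actR7 i) i) 40000 20000 = true := by decide +kernel
theorem c_act7_3 : allRange (fun i => Nat.beq (actR7 i) i) 60000 5520 = true := by decide +kernel
theorem c_act8_0 : allRange (fun i => Nat.beq (actR8 i) i) 0 6666 = true := by decide +kernel
theorem c_act8_1 : allRange (fun i => Nat.beq (actR8 i) i) 6666 6666 = true := by decide +kernel
theorem c_act8_2 : allRange (fun i => Nat.beq (actR8 i) i) 13332 6666 = true := by decide +kernel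
theorem c_act8_3 : allRange (fun i => Nat.beq (actR8 i) i) 19998 6666 = true := by decide +kernel
theorem c_act8_4 : allRange (fun i => Nat.beq (actR8 i) i) 26664 6666 = true := by decide +kernel
theorem c_act8_5 : allRange (fun i => Nat.beq (actR8 i) i) 33330 6666 = true := by decide +kernel
theorem c_act8_6 : allRange (fun i => Nat.beq (actR8 i) i) 39996 6666 = true := by decide +kernel
theorem c_act8_7 : allRange (fun i => Nat.beq (actR8 i) i) 46662 6666 = true := by decide +kernel
theorem c_act8_8 : allRange (fun i => Nat.beq (actR8 i) i) 53328 6666 = true := by decide +kernel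
theorem c_act8_9 : allRange (fun i => Nat.beq (actR8 i) i) 59994 5526 = true := by decide +kernel
theorem c_act9_0 : allRange (fun i => Nat.beq (actR9 i) i) 0 5454 = true := by decide +kernel
theorem c_act9_1 : allRange (fun i => Nat.beq (actR9 i) i) 5454 5454 = true := by decide +kernel
theorem c_act9_2 : allRange (fun i => Nat.beq (actR9 i) i) 10908 5454 = true := by decide +kernel
theorem c_act9_3 : allRange (fun i => Nat.beq (actR9 i) i) 16362 5454 = true := by decide +kernel
theorem c_act9_4 : allRange (fun i => Nat.beq (actR9 i) i) 21816 5454 = true := by decide +kernel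
theorem c_act9_5 : allRange (fun i => Nat.beq (actR9 i) i) 27270 5454 = true := by decide +kernel
theorem c_act9_6 : allRange (fun i => Nat.beq (actR9 i) i) 32724 5454 = true := by decide +kernel
theorem c_act9_7 : allRange (fun i => Nat.beq (actR9 i) i) 38178 5454 = true := by decide +kernel
theorem c_act9_8 : allRange (fun i => Nat.beq (actR9 i) i) 43632 5454 = true := by decide +kernel
theorem c_act9_9 : allRange (fun i => Nat.beq (actR9 i) i) 49086 5454 = true := by decide +kernel
theorem c_act9_10 : allRange (fun i => Nat.beq (actR9 i) i) 54540 5454 = true := by decide +kernel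
theorem c_act9_11 : allRange (fun i => Nat.beq (actR9 i) i) 59994 5454 = true := by decide +kernel
theorem c_act9_12 : allRange (fun i => Nat.beq (actR9 i) i) 65448 72 = true := by decide +kernel
theorem c_act10_0 : allRange (fun i => Nat.beq (actR10 i) i) 0 3529 = true := by decide +kernel
theorem c_act10_1 : allRange (fun i => Nat.beq (actR10 i) i) 3529 3529 = true := by decide +kernel
theorem c_act10_2 : allRange (fun i => Nat.beq (actR10 i) i) 7058 3529 = true := by decide +kernel
theorem c_act10_3 : allRange (fun i => Nat.beq (actR10 i) i) 10587 3529 = true := by decide +kernel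
theorem c_act10_4 : allRange (fun i => Nat.beq (actR10 i) i) 14116 3529 = true := by decide +kernel
theorem c_act10_5 : allRange (fun i => Nat.beq (actR10 i) i) 17645 3529 = true := by decide +kernel
theorem c_act10_6 : allRange (fun i => Nat.beq (actR10 i) i) 21174 3529 = true := by decide +kernel
theorem c_act10_7 : allRange (fun i => Nat.beq (actR10 i) i) 24703 3529 = true := by decide +kernel
theorem c_act10_8 : allRange (fun i => Nat.beq (actR10 i) i) 28232 3529 = true := by decide +kernel
theorem c_act10_9 : allRange (fun i => Nat.beq (actR10 i) i) 31761 3529 = true := by decide +kernel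
theorem c_act10_10 : allRange (fun i => Nat.beq (actR10 i) i) 35290 3529 = true := by decide +kernel
theorem c_act10_11 : allRange (fun i => Nat.beq (actR10 i) i) 38819 3529 = true := by decide +kernel
theorem c_act10_12 : allRange (fun i => Nat.beq (actR10 i) i) 42348 3529 = true := by decide +kernel
theorem c_act10_13 : allRange (fun i => Nat.beq (actR10 i) i) 45877 3529 = true := by decide +kernel
theorem c_act10_14 : allRange (fun i => Nat.beq (actR10 i) i) 49406 3529 = true := by decide +kernel
theorem c_act10_15 : allRange (fun i => Nat.beq (actR10 i) i) 52935 3529 = true := by decide +kernel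
theorem c_act10_16 : allRange (fun i => Nat.beq (actR10 i) i) 56464 3529 = true := by decide +kernel
theorem c_act10_17 : allRange (fun i => Nat.beq (actR10 i) i) 59993 3529 = true := by decide +kernel
theorem c_act10_18 : allRange (fun i => Nat.beq (actR10 i) i) 63522 1998 = true := by decide +kernel
theorem c_act11_0 : allRange (fun i => Nat.beq (actR11 i) i) 0 30000 = true := by decide +kernel
theorem c_act11_1 : allRange (fun i => Nat.beq (actR11 i) i) 30000 30000 = true := by decide +kernel
theorem c_act11_2 : allRange (fun i => Nat.beq (actR11 i) i) 60000 5520 = true := by decide +kernel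
theorem c_act12_0 : allRange (fun i => Nat.beq (actR12 i) i) 0 5454 = true := by decide +kernel

end Cfsg.Agent.Lib.Helper4.TCD.C2SuzR
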