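import Cfsg.Agent.Lib.Helper4.TCD_C2SuzR_Acc

namespace Cfsg.Agent.Lib.Helper4.TCD.C2SuzR

open Cfsg.Agent.Lib.Helper4.TC

set_option maxRecDepth 100000
set_option Elab.async false

theorem c_act12_1 : allRange (fun i => Nat.beq (actR12 i) i) 5454 5454 = true := by decide +kernel
theorem c_act12_2 : allRange (fun i => Nat.beq (actR12 i) i) 10908 5454 = true := by decide +kernel
theorem c_act12_3 : allRange (fun i => Nat.beq (actR12 i) i) 16362 5454 = true := by decide +kernel
theorem c_act12_4 : allRange (fun i => Nat.beq (actR12 i) i) 21816 5454 = true := by decide +kernel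
theorem c_act12_5 : allRange (fun i => Nat.beq (actR12 i) i) 27270 5454 = true := by decide +kernel
theorem c_act12_6 : allRange (fun i => Nat.beq (actR12 i) i) 32724 5454 = true := by decide +kernel
theorem c_act12_7 : allRange (fun i => Nat.beq (actR12 i) i) 38178 5454 = true := by decide +kernel
theorem c_act12_8 : allRange (fun i => Nat.beq (actR12 i) i) 43632 5454 = true := by decide +kernel
theorem c_act12_9 : allRange (fun i => Nat.beq (actR12 i) i) 49086 5454 = true := by decide +kernel
theorem c_act12_10 : allRange (fun i => Nat.beq (actR12 i) i) 54540 5454 = true := by decide +kernel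
theorem c_act12_11 : allRange (fun i => Nat.beq (actR12 i) i) 59994 5454 = true := by decide +kernel
theorem c_act12_12 : allRange (fun i => Nat.beq (actR12 i) i) 65448 72 = true := by decide +kernel
theorem c_act13_0 : allRange (fun i => Nat.beq (actR13 i) i) 0 4615 = true := by decide +kernel
theorem c_act13_1 : allRange (fun i => Nat.beq (actR13 i) i) 4615 4615 = true := by decide +kernel
theorem c_act13_2 : allRange (fun i => Nat.beq (actR13 i) i) 9230 4615 = true := by decide +kernel
theorem c_act13_3 : allRange (fun i => Nat.beq (actR13 i) i) 13845 4615 = true := by decide +kernel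
theorem c_act13_4 : allRange (fun i => Nat.beq (actR13 i) i) 18460 4615 = true := by decide +kernel
theorem c_act13_5 : allRange (fun i => Nat.beq (actR13 i) i) 23075 4615 = true := by decide +kernel
theorem c_act13_6 : allRange (fun i => Nat.beq (actR13 i) i) 27690 4615 = true := by decide +kernel
theorem c_act13_7 : allRange (fun i => Nat.beq (actR13 i) i) 32305 4615 = true := by decide +kernel
theorem c_act13_8 : allRange (fun i => Nat.beq (actR13 i) i) 36920 4615 = true := by decide +kernel
theorem c_act13_9 : allRange (fun i => Nat.beq (actR13 i) i) 41535 4615 = true := by decide +kernel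
theorem c_act13_10 : allRange (fun i => Nat.beq (actR13 i) i) 46150 4615 = true := by decide +kernel
theorem c_act13_11 : allRange (fun i => Nat.beq (actR13 i) i) 50765 4615 = true := by decide +kernel
theorem c_act13_12 : allRange (fun i => Nat.beq (actR13 i) i) 55380 4615 = true := by decide +kernel
theorem c_act13_13 : allRange (fun i => Nat.beq (actR13 i) i) 59995 4615 = true := by decide +kernel
theorem c_act13_14 : allRange (fun i => Nat.beq (actR13 i) i) 64610 910 = true := by decide +kernel
theorem c_act14_0 : allRange (fun i => Nat.beq (actR14 i) i) 0 5000 = true := by decide +kernel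
theorem c_act14_1 : allRange (fun i => Nat.beq (actR14 i) i) 5000 5000 = true := by decide +kernel
theorem c_act14_2 : allRange (fun i => Nat.beq (actR14 i) i) 10000 5000 = true := by decide +kernel
theorem c_act14_3 : allRange (fun i => Nat.beq (actR14 i) i) 15000 5000 = true := by decide +kernel
theorem c_act14_4 : allRange (fun i => Nat.beq (actR14 i) i) 20000 5000 = true := by decide +kernel
theorem c_act14_5 : allRange (fun i => Nat.beq (actR14 i) i) 25000 5000 = true := by decide +kernel
theorem c_act14_6 : allRange (fun i => Nat.beq (actR14 i) i) 30000 5000 = true := by decide +kernel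
theorem c_act14_7 : allRange (fun i => Nat.beq (actR14 i) i) 35000 5000 = true := by decide +kernel
theorem c_act14_8 : allRange (fun i => Nat.beq (actR14 i) i) 40000 5000 = true := by decide +kernel
theorem c_act14_9 : allRange (fun i => Nat.beq (actR14 i) i) 45000 5000 = true := by decide +kernel
theorem c_act14_10 : allRange (fun i => Nat.beq (actR14 i) i) 50000 5000 = true := by decide +kernel
theorem c_act14_11 : allRange (fun i => Nat.beq (actR14 i) i) 55000 5000 = true := by decide +kernel
theorem c_act14_12 : allRange (fun i => Nat.beq (actR14 i) i) 60000 5000 = true := by decide +kernel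
theorem c_act14_13 : allRange (fun i => Nat.beq (actR14 i) i) 65000 520 = true := by decide +kernel
theorem c_act15_0 : allRange (fun i => Nat.beq (actR15 i) i) 0 4000 = true := by decide +kernel
theorem c_act15_1 : allRange (fun i => Nat.beq (actR15 i) i) 4000 4000 = true := by decide +kernel
theorem c_act15_2 : allRange (fun i => Nat.beq (actR15 i) i) 8000 4000 = true := by decide +kernel
theorem c_act15_3 : allRange (fun i => Nat.beq (actR15 i) i) 12000 4000 = true := by decide +kernel
theorem c_act15_4 : allRange (fun i => Nat.beq (actR15 i) i) 16000 4000 = true := by decide +kernel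
theorem c_act15_5 : allRange (fun i => Nat.beq (actR15 i) i) 20000 4000 = true := by decide +kernel
theorem c_act15_6 : allRange (fun i => Nat.beq (actR15 i) i) 24000 4000 = true := by decide +kernel
theorem c_act15_7 : allRange (fun i => Nat.beq (actR15 i) i) 28000 4000 = true := by decide +kernel
theorem c_act15_8 : allRange (fun i => Nat.beq (actR15 i) i) 32000 4000 = true := by decide +kernel
theorem c_act15_9 : allRange (fun i => Nat.beq (actR15 i) i) 36000 4000 = true := by decide +kernel
theorem c_act15_10 : allRange (fun i => Nat.beq (actR15 i) i) 40000 4000 = true := by decide +kernel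

end Cfsg.Agent.Lib.Helper4.TCD.C2SuzR
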