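import Cfsg.Agent.Lib.Helper4.TCD_C2SuzR_Acc

namespace Cfsg.Agent.Lib.Helper4.TCD.C2SuzR

open Cfsg.Agent.Lib.Helper4.TC

set_option maxRecDepth 100000
set_option Elab.async false

theorem c_act15_11 : allRange (fun i => Nat.beq (actR15 i) i) 44000 4000 = true := by decide +kernel
theorem c_act15_12 : allRange (fun i => Nat.beq (actR15 i) i) 48000 4000 = true := by decide +kernel
theorem c_act15_13 : allRange (fun i => Nat.beq (actR15 i) i) 52000 4000 = true := by decide +kernel
theorem c_act15_14 : allRange (fun i => Nat.beq (actR15 i) i) 56000 4000 = true := by decide +kernel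
theorem c_act15_15 : allRange (fun i => Nat.beq (actR15 i) i) 60000 4000 = true := by decide +kernel
theorem c_act15_16 : allRange (fun i => Nat.beq (actR15 i) i) 64000 1520 = true := by decide +kernel
theorem c_act16_0 : allRange (fun i => Nat.beq (actR16 i) i) 0 4000 = true := by decide +kernel
theorem c_act16_1 : allRange (fun i => Nat.beq (actR16 i) i) 4000 4000 = true := by decide +kernel
theorem c_act16_2 : allRange (fun i => Nat.beq (actR16 i) i) 8000 4000 = true := by decide +kernel
theorem c_act16_3 : allRange (fun i => Nat.beq (actR16 i) i) 12000 4000 = true := by decide +kernel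
theorem c_act16_4 : allRange (fun i => Nat.beq (actR16 i) i) 16000 4000 = true := by decide +kernel
theorem c_act16_5 : allRange (fun i => Nat.beq (actR16 i) i) 20000 4000 = true := by decide +kernel
theorem c_act16_6 : allRange (fun i => Nat.beq (actR16 i) i) 24000 4000 = true := by decide +kernel
theorem c_act16_7 : allRange (fun i => Nat.beq (actR16 i) i) 28000 4000 = true := by decide +kernel
theorem c_act16_8 : allRange (fun i => Nat.beq (actR16 i) i) 32000 4000 = true := by decide +kernel
theorem c_act16_9 : allRange (fun i => Nat.beq (actR16 i) i) 36000 4000 = true := by decide +kernel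
theorem c_act16_10 : allRange (fun i => Nat.beq (actR16 i) i) 40000 4000 = true := by decide +kernel
theorem c_act16_11 : allRange (fun i => Nat.beq (actR16 i) i) 44000 4000 = true := by decide +kernel
theorem c_act16_12 : allRange (fun i => Nat.beq (actR16 i) i) 48000 4000 = true := by decide +kernel
theorem c_act16_13 : allRange (fun i => Nat.beq (actR16 i) i) 52000 4000 = true := by decide +kernel
theorem c_act16_14 : allRange (fun i => Nat.beq (actR16 i) i) 56000 4000 = true := by decide +kernel
theorem c_act16_15 : allRange (fun i => Nat.beq (actR16 i) i) 60000 4000 = true := by decide +kernel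
theorem c_act16_16 : allRange (fun i => Nat.beq (actR16 i) i) 64000 1520 = true := by decide +kernel
theorem c_act17_0 : allRange (fun i => Nat.beq (actR17 i) i) 0 4285 = true := by decide +kernel
theorem c_act17_1 : allRange (fun i => Nat.beq (actR17 i) i) 4285 4285 = true := by decide +kernel
theorem c_act17_2 : allRange (fun i => Nat.beq (actR17 i) i) 8570 4285 = true := by decide +kernel
theorem c_act17_3 : allRange (fun i => Nat.beq (actR17 i) i) 12855 4285 = true := by decide +kernel
theorem c_act17_4 : allRange (fun i => Nat.beq (actR17 i) i) 17140 4285 = true := by decide +kernel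
theorem c_act17_5 : allRange (fun i => Nat.beq (actR17 i) i) 21425 4285 = true := by decide +kernel
theorem c_act17_6 : allRange (fun i => Nat.beq (actR17 i) i) 25710 4285 = true := by decide +kernel
theorem c_act17_7 : allRange (fun i => Nat.beq (actR17 i) i) 29995 4285 = true := by decide +kernel
theorem c_act17_8 : allRange (fun i => Nat.beq (actR17 i) i) 34280 4285 = true := by decide +kernel
theorem c_act17_9 : allRange (fun i => Nat.beq (actR17 i) i) 38565 4285 = true := by decide +kernel
theorem c_act17_10 : allRange (fun i => Nat.beq (actR17 i) i) 42850 4285 = true := by decide +kernel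
theorem c_act17_11 : allRange (fun i => Nat.beq (actR17 i) i) 47135 4285 = true := by decide +kernel
theorem c_act17_12 : allRange (fun i => Nat.beq (actR17 i) i) 51420 4285 = true := by decide +kernel
theorem c_act17_13 : allRange (fun i => Nat.beq (actR17 i) i) 55705 4285 = true := by decide +kernel
theorem c_act17_14 : allRange (fun i => Nat.beq (actR17 i) i) 59990 4285 = true := by decide +kernel
theorem c_act17_15 : allRange (fun i => Nat.beq (actR17 i) i) 64275 1245 = true := by decide +kernel
theorem c_act18_0 : allRange (fun i => Nat.beq (actR18 i) i) 0 4285 = true := by decide +kernel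
theorem c_act18_1 : allRange (fun i => Nat.beq (actR18 i) i) 4285 4285 = true := by decide +kernel
theorem c_act18_2 : allRange (fun i => Nat.beq (actR18 i) i) 8570 4285 = true := by decide +kernel
theorem c_act18_3 : allRange (fun i => Nat.beq (actR18 i) i) 12855 4285 = true := by decide +kernel
theorem c_act18_4 : allRange (fun i => Nat.beq (actR18 i) i) 17140 4285 = true := by decide +kernel
theorem c_act18_5 : allRange (fun i => Nat.beq (actR18 i) i) 21425 4285 = true := by decide +kernel
theorem c_act18_6 : allRange (fun i => Nat.beq (actR18 i) i) 25710 4285 = true := by decide +kernel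
theorem c_act18_7 : allRange (fun i => Nat.beq (actR18 i) i) 29995 4285 = true := by decide +kernel
theorem c_act18_8 : allRange (fun i => Nat.beq (actR18 i) i) 34280 4285 = true := by decide +kernel
theorem c_act18_9 : allRange (fun i => Nat.beq (actR18 i) i) 38565 4285 = true := by decide +kernel
theorem c_act18_10 : allRange (fun i => Nat.beq (actR18 i) i) 42850 4285 = true := by decide +kernel
theorem c_act18_11 : allRange (fun i => Nat.beq (actR18 i) i) 47135 4285 = true := by decide +kernel

end Cfsg.Agent.Lib.Helper4.TCD.C2SuzR
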