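import Cfsg.Agent.Lib.Helper4.TCD_C2SuzR_Acc

namespace Cfsg.Agent.Lib.Helper4.TCD.C2SuzR

open Cfsg.Agent.Lib.Helper4.TC

set_option maxRecDepth 100000
set_option Elab.async false

theorem c_act18_12 : allRange (fun i => Nat.beq (actR18 i) i) 51420 4285 = true := by decide +kernel
theorem c_act18_13 : allRange (fun i => Nat.beq (actR18 i) i) 55705 4285 = true := by decide +kernel
theorem c_act18_14 : allRange (fun i => Nat.beq (actR18 i) i) 59990 4285 = true := by decide +kernel
theorem c_act18_15 : allRange (fun i => Nat.beq (actR18 i) i) 64275 1245 = true := by decide +kernel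
theorem c_act19_0 : allRange (fun i => Nat.beq (actR19 i) i) 0 4285 = true := by decide +kernel
theorem c_act19_1 : allRange (fun i => Nat.beq (actR19 i) i) 4285 4285 = true := by decide +kernel
theorem c_act19_2 : allRange (fun i => Nat.beq (actR19 i) i) 8570 4285 = true := by decide +kernel
theorem c_act19_3 : allRange (fun i => Nat.beq (actR19 i) i) 12855 4285 = true := by decide +kernel
theorem c_act19_4 : allRange (fun i => Nat.beq (actR19 i) i) 17140 4285 = true := by decide +kernel
theorem c_act19_5 : allRange (fun i => Nat.beq (actR19 i) i) 21425 4285 = true := by decide +kernel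
theorem c_act19_6 : allRange (fun i => Nat.beq (actR19 i) i) 25710 4285 = true := by decide +kernel
theorem c_act19_7 : allRange (fun i => Nat.beq (actR19 i) i) 29995 4285 = true := by decide +kernel
theorem c_act19_8 : allRange (fun i => Nat.beq (actR19 i) i) 34280 4285 = true := by decide +kernel
theorem c_act19_9 : allRange (fun i => Nat.beq (actR19 i) i) 38565 4285 = true := by decide +kernel
theorem c_act19_10 : allRange (fun i => Nat.beq (actR19 i) i) 42850 4285 = true := by decide +kernel
theorem c_act19_11 : allRange (fun i => Nat.beq (actR19 i) i) 47135 4285 = true := by decide +kernel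
theorem c_act19_12 : allRange (fun i => Nat.beq (actR19 i) i) 51420 4285 = true := by decide +kernel
theorem c_act19_13 : allRange (fun i => Nat.beq (actR19 i) i) 55705 4285 = true := by decide +kernel
theorem c_act19_14 : allRange (fun i => Nat.beq (actR19 i) i) 59990 4285 = true := by decide +kernel
theorem c_act19_15 : allRange (fun i => Nat.beq (actR19 i) i) 64275 1245 = true := by decide +kernel
theorem c_act20_0 : allRange (fun i => Nat.beq (actR20 i) i) 0 4285 = true := by decide +kernel
theorem c_act20_1 : allRange (fun i => Nat.beq (actR20 i) i) 4285 4285 = true := by decide +kernel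
theorem c_act20_2 : allRange (fun i => Nat.beq (actR20 i) i) 8570 4285 = true := by decide +kernel
theorem c_act20_3 : allRange (fun i => Nat.beq (actR20 i) i) 12855 4285 = true := by decide +kernel
theorem c_act20_4 : allRange (fun i => Nat.beq (actR20 i) i) 17140 4285 = true := by decide +kernel
theorem c_act20_5 : allRange (fun i => Nat.beq (actR20 i) i) 21425 4285 = true := by decide +kernel
theorem c_act20_6 : allRange (fun i => Nat.beq (actR20 i) i) 25710 4285 = true := by decide +kernel
theorem c_act20_7 : allRange (fun i => Nat.beq (actR20 i) i) 29995 4285 = true := by decide +kernel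
theorem c_act20_8 : allRange (fun i => Nat.beq (actR20 i) i) 34280 4285 = true := by decide +kernel
theorem c_act20_9 : allRange (fun i => Nat.beq (actR20 i) i) 38565 4285 = true := by decide +kernel
theorem c_act20_10 : allRange (fun i => Nat.beq (actR20 i) i) 42850 4285 = true := by decide +kernel
theorem c_act20_11 : allRange (fun i => Nat.beq (actR20 i) i) 47135 4285 = true := by decide +kernel
theorem c_act20_12 : allRange (fun i => Nat.beq (actR20 i) i) 51420 4285 = true := by decide +kernel
theorem c_act20_13 : allRange (fun i => Nat.beq (actR20 i) i) 55705 4285 = true := by decide +kernel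
theorem c_act20_14 : allRange (fun i => Nat.beq (actR20 i) i) 59990 4285 = true := by decide +kernel
theorem c_act20_15 : allRange (fun i => Nat.beq (actR20 i) i) 64275 1245 = true := by decide +kernel
theorem c_act21_0 : allRange (fun i => Nat.beq (actR21 i) i) 0 4285 = true := by decide +kernel
theorem c_act21_1 : allRange (fun i => Nat.beq (actR21 i) i) 4285 4285 = true := by decide +kernel
theorem c_act21_2 : allRange (fun i => Nat.beq (actR21 i) i) 8570 4285 = true := by decide +kernel
theorem c_act21_3 : allRange (fun i => Nat.beq (actR21 i) i) 12855 4285 = true := by decide +kernel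
theorem c_act21_4 : allRange (fun i => Nat.beq (actR21 i) i) 17140 4285 = true := by decide +kernel
theorem c_act21_5 : allRange (fun i => Nat.beq (actR21 i) i) 21425 4285 = true := by decide +kernel
theorem c_act21_6 : allRange (fun i => Nat.beq (actR21 i) i) 25710 4285 = true := by decide +kernel
theorem c_act21_7 : allRange (fun i => Nat.beq (actR21 i) i) 29995 4285 = true := by decide +kernel
theorem c_act21_8 : allRange (fun i => Nat.beq (actR21 i) i) 34280 4285 = true := by decide +kernel
theorem c_act21_9 : allRange (fun i => Nat.beq (actR21 i) i) 38565 4285 = true := by decide +kernel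
theorem c_act21_10 : allRange (fun i => Nat.beq (actR21 i) i) 42850 4285 = true := by decide +kernel
theorem c_act21_11 : allRange (fun i => Nat.beq (actR21 i) i) 47135 4285 = true := by decide +kernel
theorem c_act21_12 : allRange (fun i => Nat.beq (actR21 i) i) 51420 4285 = true := by decide +kernel
theorem c_act21_13 : allRange (fun i => Nat.beq (actR21 i) i) 55705 4285 = true := by decide +kernel
theorem c_act21_14 : allRange (fun i => Nat.beq (actR21 i) i) 59990 4285 = true := by decide +kernel
theorem c_act21_15 : allRange (fun i => Nat.beq (actR21 i) i) 64275 1245 = true := by decide +kernel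

end Cfsg.Agent.Lib.Helper4.TCD.C2SuzR
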