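import Cfsg.Agent.Lib.Helper4.TCD_C2SuzR_Acc

namespace Cfsg.Agent.Lib.Helper4.TCD.C2SuzR

open Cfsg.Agent.Lib.Helper4.TC

set_option maxRecDepth 100000
set_option Elab.async false

theorem c_act22_0 : allRange (fun i => Nat.beq (actR22 i) i) 0 4285 = true := by decide +kernel
theorem c_act22_1 : allRange (fun i => Nat.beq (actR22 i) i) 4285 4285 = true := by decide +kernel
theorem c_act22_2 : allRange (fun i => Nat.beq (actR22 i) i) 8570 4285 = true := by decide +kernel
theorem c_act22_3 : allRange (fun i => Nat.beq (actR22 i) i) 12855 4285 = true := by decide +kernel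
theorem c_act22_4 : allRange (fun i => Nat.beq (actR22 i) i) 17140 4285 = true := by decide +kernel
theorem c_act22_5 : allRange (fun i => Nat.beq (actR22 i) i) 21425 4285 = true := by decide +kernel
theorem c_act22_6 : allRange (fun i => Nat.beq (actR22 i) i) 25710 4285 = true := by decide +kernel
theorem c_act22_7 : allRange (fun i => Nat.beq (actR22 i) i) 29995 4285 = true := by decide +kernel
theorem c_act22_8 : allRange (fun i => Nat.beq (actR22 i) i) 34280 4285 = true := by decide +kernel
theorem c_act22_9 : allRange (fun i => Nat.beq (actR22 i) i) 38565 4285 = true := by decide +kernel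
theorem c_act22_10 : allRange (fun i => Nat.beq (actR22 i) i) 42850 4285 = true := by decide +kernel
theorem c_act22_11 : allRange (fun i => Nat.beq (actR22 i) i) 47135 4285 = true := by decide +kernel
theorem c_act22_12 : allRange (fun i => Nat.beq (actR22 i) i) 51420 4285 = true := by decide +kernel
theorem c_act22_13 : allRange (fun i => Nat.beq (actR22 i) i) 55705 4285 = true := by decide +kernel
theorem c_act22_14 : allRange (fun i => Nat.beq (actR22 i) i) 59990 4285 = true := by decide +kernel
theorem c_act22_15 : allRange (fun i => Nat.beq (actR22 i) i) 64275 1245 = true := by decide +kernel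
theorem c_act23_0 : allRange (fun i => Nat.beq (actR23 i) i) 0 4285 = true := by decide +kernel
theorem c_act23_1 : allRange (fun i => Nat.beq (actR23 i) i) 4285 4285 = true := by decide +kernel
theorem c_act23_2 : allRange (fun i => Nat.beq (actR23 i) i) 8570 4285 = true := by decide +kernel
theorem c_act23_3 : allRange (fun i => Nat.beq (actR23 i) i) 12855 4285 = true := by decide +kernel
theorem c_act23_4 : allRange (fun i => Nat.beq (actR23 i) i) 17140 4285 = true := by decide +kernel
theorem c_act23_5 : allRange (fun i => Nat.beq (actR23 i) i) 21425 4285 = true := by decide +kernel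
theorem c_act23_6 : allRange (fun i => Nat.beq (actR23 i) i) 25710 4285 = true := by decide +kernel
theorem c_act23_7 : allRange (fun i => Nat.beq (actR23 i) i) 29995 4285 = true := by decide +kernel
theorem c_act23_8 : allRange (fun i => Nat.beq (actR23 i) i) 34280 4285 = true := by decide +kernel
theorem c_act23_9 : allRange (fun i => Nat.beq (actR23 i) i) 38565 4285 = true := by decide +kernel
theorem c_act23_10 : allRange (fun i => Nat.beq (actR23 i) i) 42850 4285 = true := by decide +kernel
theorem c_act23_11 : allRange (fun i => Nat.beq (actR23 i) i) 47135 4285 = true := by decide +kernel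
theorem c_act23_12 : allRange (fun i => Nat.beq (actR23 i) i) 51420 4285 = true := by decide +kernel
theorem c_act23_13 : allRange (fun i => Nat.beq (actR23 i) i) 55705 4285 = true := by decide +kernel
theorem c_act23_14 : allRange (fun i => Nat.beq (actR23 i) i) 59990 4285 = true := by decide +kernel
theorem c_act23_15 : allRange (fun i => Nat.beq (actR23 i) i) 64275 1245 = true := by decide +kernel
theorem c_act24_0 : allRange (fun i => Nat.beq (actR24 i) i) 0 4000 = true := by decide +kernel
theorem c_act24_1 : allRange (fun i => Nat.beq (actR24 i) i) 4000 4000 = true := by decide +kernel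
theorem c_act24_2 : allRange (fun i => Nat.beq (actR24 i) i) 8000 4000 = true := by decide +kernel
theorem c_act24_3 : allRange (fun i => Nat.beq (actR24 i) i) 12000 4000 = true := by decide +kernel
theorem c_act24_4 : allRange (fun i => Nat.beq (actR24 i) i) 16000 4000 = true := by decide +kernel
theorem c_act24_5 : allRange (fun i => Nat.beq (actR24 i) i) 20000 4000 = true := by decide +kernel
theorem c_act24_6 : allRange (fun i => Nat.beq (actR24 i) i) 24000 4000 = true := by decide +kernel
theorem c_act24_7 : allRange (fun i => Nat.beq (actR24 i) i) 28000 4000 = true := by decide +kernel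
theorem c_act24_8 : allRange (fun i => Nat.beq (actR24 i) i) 32000 4000 = true := by decide +kernel
theorem c_act24_9 : allRange (fun i => Nat.beq (actR24 i) i) 36000 4000 = true := by decide +kernel
theorem c_act24_10 : allRange (fun i => Nat.beq (actR24 i) i) 40000 4000 = true := by decide +kernel
theorem c_act24_11 : allRange (fun i => Nat.beq (actR24 i) i) 44000 4000 = true := by decide +kernel
theorem c_act24_12 : allRange (fun i => Nat.beq (actR24 i) i) 48000 4000 = true := by decide +kernel
theorem c_act24_13 : allRange (fun i => Nat.beq (actR24 i) i) 52000 4000 = true := by decide +kernel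
theorem c_act24_14 : allRange (fun i => Nat.beq (actR24 i) i) 56000 4000 = true := by decide +kernel
theorem c_act24_15 : allRange (fun i => Nat.beq (actR24 i) i) 60000 4000 = true := by decide +kernel
theorem c_act24_16 : allRange (fun i => Nat.beq (actR24 i) i) 64000 1520 = true := by decide +kernel
theorem c_act25_0 : allRange (fun i => Nat.beq (actR25 i) i) 0 1875 = true := by decide +kernel
theorem c_act25_1 : allRange (fun i => Nat.beq (actR25 i) i) 1875 1875 = true := by decide +kernel
theorem c_act25_2 : allRange (fun i => Nat.beq (actR25 i) i) 3750 1875 = true := by decide +kernel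

end Cfsg.Agent.Lib.Helper4.TCD.C2SuzR
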