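import Cfsg.Agent.Lib.Helper4.TCD_C2SuzR_Acc

namespace Cfsg.Agent.Lib.Helper4.TCD.C2SuzR

open Cfsg.Agent.Lib.Helper4.TC

set_option maxRecDepth 100000
set_option Elab.async false

theorem c_act25_3 : allRange (fun i => Nat.beq (actR25 i) i) 5625 1875 = true := by decide +kernel
theorem c_act25_4 : allRange (fun i => Nat.beq (actR25 i) i) 7500 1875 = true := by decide +kernel
theorem c_act25_5 : allRange (fun i => Nat.beq (actR25 i) i) 9375 1875 = true := by decide +kernel
theorem c_act25_6 : allRange (fun i => Nat.beq (actR25 i) i) 11250 1875 = true := by decide +kernel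
theorem c_act25_7 : allRange (fun i => Nat.beq (actR25 i) i) 13125 1875 = true := by decide +kernel
theorem c_act25_8 : allRange (fun i => Nat.beq (actR25 i) i) 15000 1875 = true := by decide +kernel
theorem c_act25_9 : allRange (fun i => Nat.beq (actR25 i) i) 16875 1875 = true := by decide +kernel
theorem c_act25_10 : allRange (fun i => Nat.beq (actR25 i) i) 18750 1875 = true := by decide +kernel
theorem c_act25_11 : allRange (fun i => Nat.beq (actR25 i) i) 20625 1875 = true := by decide +kernel
theorem c_act25_12 : allRange (fun i => Nat.beq (actR25 i) i) 22500 1875 = true := by decide +kernel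
theorem c_act25_13 : allRange (fun i => Nat.beq (actR25 i) i) 24375 1875 = true := by decide +kernel
theorem c_act25_14 : allRange (fun i => Nat.beq (actR25 i) i) 26250 1875 = true := by decide +kernel
theorem c_act25_15 : allRange (fun i => Nat.beq (actR25 i) i) 28125 1875 = true := by decide +kernel
theorem c_act25_16 : allRange (fun i => Nat.beq (actR25 i) i) 30000 1875 = true := by decide +kernel
theorem c_act25_17 : allRange (fun i => Nat.beq (actR25 i) i) 31875 1875 = true := by decide +kernel
theorem c_act25_18 : allRange (fun i => Nat.beq (actR25 i) i) 33750 1875 = true := by decide +kernel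
theorem c_act25_19 : allRange (fun i => Nat.beq (actR25 i) i) 35625 1875 = true := by decide +kernel
theorem c_act25_20 : allRange (fun i => Nat.beq (actR25 i) i) 37500 1875 = true := by decide +kernel
theorem c_act25_21 : allRange (fun i => Nat.beq (actR25 i) i) 39375 1875 = true := by decide +kernel
theorem c_act25_22 : allRange (fun i => Nat.beq (actR25 i) i) 41250 1875 = true := by decide +kernel
theorem c_act25_23 : allRange (fun i => Nat.beq (actR25 i) i) 43125 1875 = true := by decide +kernel
theorem c_act25_24 : allRange (fun i => Nat.beq (actR25 i) i) 45000 1875 = true := by decide +kernel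
theorem c_act25_25 : allRange (fun i => Nat.beq (actR25 i) i) 46875 1875 = true := by decide +kernel
theorem c_act25_26 : allRange (fun i => Nat.beq (actR25 i) i) 48750 1875 = true := by decide +kernel
theorem c_act25_27 : allRange (fun i => Nat.beq (actR25 i) i) 50625 1875 = true := by decide +kernel
theorem c_act25_28 : allRange (fun i => Nat.beq (actR25 i) i) 52500 1875 = true := by decide +kernel
theorem c_act25_29 : allRange (fun i => Nat.beq (actR25 i) i) 54375 1875 = true := by decide +kernel
theorem c_act25_30 : allRange (fun i => Nat.beq (actR25 i) i) 56250 1875 = true := by decide +kernel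
theorem c_act25_31 : allRange (fun i => Nat.beq (actR25 i) i) 58125 1875 = true := by decide +kernel
theorem c_act25_32 : allRange (fun i => Nat.beq (actR25 i) i) 60000 1875 = true := by decide +kernel
theorem c_act25_33 : allRange (fun i => Nat.beq (actR25 i) i) 61875 1875 = true := by decide +kernel
theorem c_act25_34 : allRange (fun i => Nat.beq (actR25 i) i) 63750 1770 = true := by decide +kernel
theorem c_act26_0 : allRange (fun i => Nat.beq (actR26 i) i) 0 30000 = true := by decide +kernel
theorem c_act26_1 : allRange (fun i => Nat.beq (actR26 i) i) 30000 30000 = true := by decide +kernel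
theorem c_act26_2 : allRange (fun i => Nat.beq (actR26 i) i) 60000 5520 = true := by decide +kernel
theorem c_act27_0 : allRange (fun i => Nat.beq (actR27 i) i) 0 15000 = true := by decide +kernel
theorem c_act27_1 : allRange (fun i => Nat.beq (actR27 i) i) 15000 15000 = true := by decide +kernel
theorem c_act27_2 : allRange (fun i => Nat.beq (actR27 i) i) 30000 15000 = true := by decide +kernel
theorem c_act27_3 : allRange (fun i => Nat.beq (actR27 i) i) 45000 15000 = true := by decide +kernel
theorem c_act27_4 : allRange (fun i => Nat.beq (actR27 i) i) 60000 5520 = true := by decide +kernel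
theorem c_act28_0 : allRange (fun i => Nat.beq (actR28 i) i) 0 15000 = true := by decide +kernel
theorem c_act28_1 : allRange (fun i => Nat.beq (actR28 i) i) 15000 15000 = true := by decide +kernel
theorem c_act28_2 : allRange (fun i => Nat.beq (actR28 i) i) 30000 15000 = true := by decide +kernel
theorem c_act28_3 : allRange (fun i => Nat.beq (actR28 i) i) 45000 15000 = true := by decide +kernel
theorem c_act28_4 : allRange (fun i => Nat.beq (actR28 i) i) 60000 5520 = true := by decide +kernel
theorem c_act29_0 : allRange (fun i => Nat.beq (actR29 i) i) 0 15000 = true := by decide +kernel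
theorem c_act29_1 : allRange (fun i => Nat.beq (actR29 i) i) 15000 15000 = true := by decide +kernel
theorem c_act29_2 : allRange (fun i => Nat.beq (actR29 i) i) 30000 15000 = true := by decide +kernel
theorem c_act29_3 : allRange (fun i => Nat.beq (actR29 i) i) 45000 15000 = true := by decide +kernel
theorem c_act29_4 : allRange (fun i => Nat.beq (actR29 i) i) 60000 5520 = true := by decide +kernel
theorem c_act30_0 : allRange (fun i => Nat.beq (actR30 i) i) 0 15000 = true := by decide +kernel
theorem c_act30_1 : allRange (fun i => Nat.beq (actR30 i) i) 15000 15000 = true := by decide +kernel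

end Cfsg.Agent.Lib.Helper4.TCD.C2SuzR
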