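import Cfsg.Agent.Lib.Helper4.TCD_C2SuzR_Acc

namespace Cfsg.Agent.Lib.Helper4.TCD.C2SuzR

open Cfsg.Agent.Lib.Helper4.TC

set_option maxRecDepth 100000
set_option Elab.async false

theorem c_act30_2 : allRange (fun i => Nat.beq (actR30 i) i) 30000 15000 = true := by decide +kernel
theorem c_act30_3 : allRange (fun i => Nat.beq (actR30 i) i) 45000 15000 = true := by decide +kernel
theorem c_act30_4 : allRange (fun i => Nat.beq (actR30 i) i) 60000 5520 = true := by decide +kernel
theorem c_act31_0 : allRange (fun i => Nat.beq (actR31 i) i) 0 15000 = true := by decide +kernel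
theorem c_act31_1 : allRange (fun i => Nat.beq (actR31 i) i) 15000 15000 = true := by decide +kernel
theorem c_act31_2 : allRange (fun i => Nat.beq (actR31 i) i) 30000 15000 = true := by decide +kernel
theorem c_act31_3 : allRange (fun i => Nat.beq (actR31 i) i) 45000 15000 = true := by decide +kernel
theorem c_act31_4 : allRange (fun i => Nat.beq (actR31 i) i) 60000 5520 = true := by decide +kernel

end Cfsg.Agent.Lib.Helper4.TCD.C2SuzR
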