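import Cfsg.Agent.Lib.Helper4.TCD_C2SuzR_C0
import Cfsg.Agent.Lib.Helper4.TCD_C2SuzR_C1
import Cfsg.Agent.Lib.Helper4.TCD_C2SuzR_C2
import Cfsg.Agent.Lib.Helper4.TCD_C2SuzR_C3
import Cfsg.Agent.Lib.Helper4.TCD_C2SuzR_C4
import Cfsg.Agent.Lib.Helper4.TCD_C2SuzR_C5
import Cfsg.Agent.Lib.Helper4.TCD_C2SuzR_C6
import Cfsg.Agent.Lib.Helper4.TCD_C2SuzR_C7
import Cfsg.Agent.Lib.Helper4.TCD_C2SuzR_C8

namespace Cfsg.Agent.Lib.Helper4.TCD.C2SuzR

open Cfsg.Agent.Lib.Helper4.TC

theorem h_perm : ∀ i, 0 ≤ i → i < 65520 → ∀ x, x < 12 → T.permOK1 D i x = true :=
  (range_glue (range_of_allGrid c_perm_0) (range_glue (range_of_allGrid c_perm_1) (range_glue (range_of_allGrid c_perm_2) (range_glue (range_of_allGrid c_perm_3) (range_glue (range_of_allGrid c_perm_4) (range_glue (range_of_allGrid c_perm_5) (range_glue (range_of_allGrid c_perm_6) (range_glue (range_of_allGrid c_perm_7) (range_glue (range_of_allGrid c_perm_8) (range_glue (range_of_allGrid c_perm_9) (range_glue (range_of_allGrid c_perm_10) (range_glue (range_of_allGrid c_perm_11) (range_glue (range_of_allGrid c_perm_12) (range_glue (range_of_allGrid c_perm_13) (range_glue (range_of_allGrid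 c_perm_14) (range_glue (range_of_allGrid c_perm_15) (range_glue (range_of_allGrid c_perm_16) (range_glue (range_of_allGrid c_perm_17) (range_glue (range_of_allGrid c_perm_18) (range_glue (range_of_allGrid c_perm_19) (range_glue (range_of_allGrid c_perm_20) (range_glue (range_of_allGrid c_perm_21) (range_glue (range_of_allGrid c_perm_22) (range_glue (range_of_allGrid c_perm_23) (range_glue (range_of_allGrid c_perm_24) (range_glue (range_of_allGrid c_perm_25) (range_of_allGrid c_perm_26)))))))))))))))))))))))))))
theorem h_act0 : ∀ i, 0 ≤ i → i < 65520 → Nat.beq (actR0 i) i = true :=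
  (range_glue (range_of_allRange c_act0_0) (range_glue (range_of_allRange c_act0_1) (range_glue (range_of_allRange c_act0_2) (range_glue (range_of_allRange c_act0_3) (range_glue (range_of_allRange c_act0_4) (range_glue (range_of_allRange c_act0_5) (range_glue (range_of_allRange c_act0_6) (range_of_allRange c_act0_7))))))))
theorem h_act1 : ∀ i, 0 ≤ i → i < 65520 → Nat.beq (actR1 i) i = true :=
  (range_glue (range_of_allRange c_act1_0) (range_glue (range_of_allRange c_act1_1) (range_glue (range_of_allRange c_act1_2) (range_glue (range_of_allRange c_act1_3) (range_glue (range_of_allRange c_act1_4) (range_glue (range_of_allRange c_act1_5) (range_glue (range_of_allRange c_act1_6) (range_glue (range_of_allRange c_act1_7) (range_glue (range_of_allRange c_act1_8) (range_glue (range_of_allRange c_act1_9) (range_glue (range_of_allRange c_act1_10) (range_glue (range_of_allRange c_act1_11) (range_of_allRange c_act1_12)))))))))))))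
theorem h_act2 : ∀ i, 0 ≤ i → i < 65520 → Nat.beq (actR2 i) i = true :=
  (range_glue (range_of_allRange c_act2_0) (range_glue (range_of_allRange c_act2_1) (range_glue (range_of_allRange c_act2_2) (range_glue (range_of_allRange c_act2_3) (range_glue (range_of_allRange c_act2_4) (range_glue (range_of_allRange c_act2_5) (range_glue (range_of_allRange c_act2_6) (range_glue (range_of_allRange c_act2_7) (range_glue (range_of_allRange c_act2_8) (range_glue (range_of_allRange c_act2_9) (range_glue (range_of_allRange c_act2_10) (range_glue (range_of_allRange c_act2_11) (range_glue (range_of_allRange c_act2_12) (range_of_allRange c_act2_13))))))))))))))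
theorem h_act3 : ∀ i, 0 ≤ i → i < 65520 → Nat.beq (actR3 i) i = true :=
  (range_glue (range_of_allRange c_act3_0) (range_glue (range_of_allRange c_act3_1) (range_glue (range_of_allRange c_act3_2) (range_glue (range_of_allRange c_act3_3) (range_glue (range_of_allRange c_act3_4) (range_glue (range_of_allRange c_act3_5) (range_glue (range_of_allRange c_act3_6) (range_glue (range_of_allRange c_act3_7) (range_glue (range_of_allRange c_act3_8) (range_glue (range_of_allRange c_act3_9) (range_glue (range_of_allRange c_act3_10) (range_glue (range_of_allRange c_act3_11) (range_glue (range_of_allRange c_act3_12) (range_of_allRange c_act3_13))))))))))))))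
theorem h_act4 : ∀ i, 0 ≤ i → i < 65520 → Nat.beq (actR4 i) i = true :=
  (range_glue (range_of_allRange c_act4_0) (range_glue (range_of_allRange c_act4_1) (range_glue (range_of_allRange c_act4_2) (range_of_allRange c_act4_3))))
theorem h_act5 : ∀ i, 0 ≤ i → i < 65520 → Nat.beq (actR5 i) i = true :=
  (range_glue (range_of_allRange c_act5_0) (range_glue (range_of_allRange c_act5_1) (range_glue (range_of_allRange c_act5_2) (range_glue (range_of_allRange c_act5_3) (range_glue (range_of_allRange c_act5_4) (range_glue (range_of_allRange c_act5_5) (range_glue (range_of_allRange c_act5_6) (range_glue (range_of_allRange c_act5_7) (range_glue (range_of_allRange c_act5_8) (range_glue (range_of_allRange c_act5_9) (range_glue (range_of_allRange c_act5_10) (range_glue (range_of_allRange c_act5_11) (range_of_allRange c_act5_12)))))))))))))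
theorem h_act6 : ∀ i, 0 ≤ i → i < 65520 → Nat.beq (actR6 i) i = true :=
  (range_glue (range_of_allRange c_act6_0) (range_glue (range_of_allRange c_act6_1) (range_glue (range_of_allRange c_act6_2) (range_glue (range_of_allRange c_act6_3) (range_glue (range_of_allRange c_act6_4) (range_glue (range_of_allRange c_act6_5) (range_glue (range_of_allRange c_act6_6) (range_glue (range_of_allRange c_act6_7) (range_glue (range_of_allRange c_act6_8) (range_glue (range_of_allRange c_act6_9) (range_glue (range_of_allRange c_act6_10) (range_glue (range_of_allRange c_act6_11) (range_glue (range_of_allRange c_act6_12) (range_glue (range_of_allRange c_act6_13) (range_of_allRange c_act6_14)))))))))))))))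
theorem h_act7 : ∀ i, 0 ≤ i → i < 65520 → Nat.beq (actR7 i) i = true :=
  (range_glue (range_of_allRange c_act7_0) (range_glue (range_of_allRange c_act7_1) (range_glue (range_of_allRange c_act7_2) (range_of_allRange c_act7_3))))
theorem h_act8 : ∀ i, 0 ≤ i → i < 65520 → Nat.beq (actR8 i) i = true :=
  (range_glue (range_of_allRange c_act8_0) (range_glue (range_of_allRange c_act8_1) (range_glue (range_of_allRange c_act8_2) (range_glue (range_of_allRange c_act8_3) (range_glue (range_of_allRange c_act8_4) (range_glue (range_of_allRange c_act8_5) (range_glue (range_of_allRange c_act8_6) (range_glue (range_of_allRange c_act8_7) (range_glue (range_of_allRange c_act8_8) (range_of_allRange c_act8_9))))))))))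
theorem h_act9 : ∀ i, 0 ≤ i → i < 65520 → Nat.beq (actR9 i) i = true :=
  (range_glue (range_of_allRange c_act9_0) (range_glue (range_of_allRange c_act9_1) (range_glue (range_of_allRange c_act9_2) (range_glue (range_of_allRange c_act9_3) (range_glue (range_of_allRange c_act9_4) (range_glue (range_of_allRange c_act9_5) (range_glue (range_of_allRange c_act9_6) (range_glue (range_of_allRange c_act9_7) (range_glue (range_of_allRange c_act9_8) (range_glue (range_of_allRange c_act9_9) (range_glue (range_of_allRange c_act9_10) (range_glue (range_of_allRange c_act9_11) (range_of_allRange c_act9_12)))))))))))))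
theorem h_act10 : ∀ i, 0 ≤ i → i < 65520 → Nat.beq (actR10 i) i = true :=
  (range_glue (range_of_allRange c_act10_0) (range_glue (range_of_allRange c_act10_1) (range_glue (range_of_allRange c_act10_2) (range_glue (range_of_allRange c_act10_3) (range_glue (range_of_allRange c_act10_4) (range_glue (range_of_allRange c_act10_5) (range_glue (range_of_allRange c_act10_6) (range_glue (range_of_allRange c_act10_7) (range_glue (range_of_allRange c_act10_8) (range_glue (range_of_allRange c_act10_9) (range_glue (range_of_allRange c_act10_10) (range_glue (range_of_allRange c_act10_11) (range_glue (range_of_allRange c_act10_12) (range_glue (range_of_allRange c_act10_13) (range_glue (range_of_allRange c_act10_14) (range_glue (range_of_allRange c_act10_15) (range_glue (range_of_allRange c_act10_16) (range_glue (range_of_allRange c_act10_17) (range_of_allRange c_act10_18)))))))))))))))))))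
theorem h_act11 : ∀ i, 0 ≤ i → i < 65520 → Nat.beq (actR11 i) i = true :=
  (range_glue (range_of_allRange c_act11_0) (range_glue (range_of_allRange c_act11_1) (range_of_allRange c_act11_2)))
theorem h_act12 : ∀ i, 0 ≤ i → i < 65520 → Nat.beq (actR12 i) i = true :=
  (range_glue (range_of_allRange c_act12_0) (range_glue (range_of_allRange c_act12_1) (range_glue (range_of_allRange c_act12_2) (range_glue (range_of_allRange c_act12_3) (range_glue (range_of_allRange c_act12_4) (range_glue (range_of_allRange c_act12_5) (range_glue (range_of_allRange c_act12_6) (range_glue (range_of_allRange c_act12_7) (range_glue (range_of_allRange c_act12_8) (range_glue (range_of_allRange c_act12_9) (range_glue (range_of_allRange c_act12_10) (range_glue (range_of_allRange c_act12_11) (range_of_allRange c_act12_12)))))))))))))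
theorem h_act13 : ∀ i, 0 ≤ i → i < 65520 → Nat.beq (actR13 i) i = true :=
  (range_glue (range_of_allRange c_act13_0) (range_glue (range_of_allRange c_act13_1) (range_glue (range_of_allRange c_act13_2) (range_glue (range_of_allRange c_act13_3) (range_glue (range_of_allRange c_act13_4) (range_glue (range_of_allRange c_act13_5) (range_glue (range_of_allRange c_act13_6) (range_glue (range_of_allRange c_act13_7) (range_glue (range_of_allRange c_act13_8) (range_glue (range_of_allRange c_act13_9) (range_glue (range_of_allRange c_act13_10) (range_glue (range_of_allRange c_act13_11) (range_glue (range_of_allRange c_act13_12) (range_glue (range_of_allRange c_act13_13) (range_of_allRange c_act13_14)))))))))))))))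
theorem h_act14 : ∀ i, 0 ≤ i → i < 65520 → Nat.beq (actR14 i) i = true :=
  (range_glue (range_of_allRange c_act14_0) (range_glue (range_of_allRange c_act14_1) (range_glue (range_of_allRange c_act14_2) (range_glue (range_of_allRange c_act14_3) (range_glue (range_of_allRange c_act14_4) (range_glue (range_of_allRange c_act14_5) (range_glue (range_of_allRange c_act14_6) (range_glue (range_of_allRange c_act14_7) (range_glue (range_of_allRange c_act14_8) (range_glue (range_of_allRange c_act14_9) (range_glue (range_of_allRange c_act14_10) (range_glue (range_of_allRange c_act14_11) (range_glue (range_of_allRange c_act14_12) (range_of_allRange c_act14_13))))))))))))))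
theorem h_act15 : ∀ i, 0 ≤ i → i < 65520 → Nat.beq (actR15 i) i = true :=
  (range_glue (range_of_allRange c_act15_0) (range_glue (range_of_allRange c_act15_1) (range_glue (range_of_allRange c_act15_2) (range_glue (range_of_allRange c_act15_3) (range_glue (range_of_allRange c_act15_4) (range_glue (range_of_allRange c_act15_5) (range_glue (range_of_allRange c_act15_6) (range_glue (range_of_allRange c_act15_7) (range_glue (range_of_allRange c_act15_8) (range_glue (range_of_allRange c_act15_9) (range_glue (range_of_allRange c_act15_10) (range_glue (range_of_allRange c_act15_11) (range_glue (range_of_allRange c_act15_12) (range_glue (range_of_allRange c_act15_13) (range_glue (range_of_allRange c_act15_14) (range_glue (range_of_allRange c_act15_15) (range_of_allRange c_act15_16)))))))))))))))))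
theorem h_act16 : ∀ i, 0 ≤ i → i < 65520 → Nat.beq (actR16 i) i = true :=
  (range_glue (range_of_allRange c_act16_0) (range_glue (range_of_allRange c_act16_1) (range_glue (range_of_allRange c_act16_2) (range_glue (range_of_allRange c_act16_3) (range_glue (range_of_allRange c_act16_4) (range_glue (range_of_allRange c_act16_5) (range_glue (range_of_allRange c_act16_6) (range_glue (range_of_allRange c_act16_7) (range_glue (range_of_allRange c_act16_8) (range_glue (range_of_allRange c_act16_9) (range_glue (range_of_allRange c_act16_10) (range_glue (range_of_allRange c_act16_11) (range_glue (range_of_allRange c_act16_12) (range_glue (range_of_allRange c_act16_13) (range_glue (range_of_allRange c_act16_14) (range_glue (range_of_allRange c_act16_15) (range_of_allRange c_act16_16)))))))))))))))))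
theorem h_act17 : ∀ i, 0 ≤ i → i < 65520 → Nat.beq (actR17 i) i = true :=
  (range_glue (range_of_allRange c_act17_0) (range_glue (range_of_allRange c_act17_1) (range_glue (range_of_allRange c_act17_2) (range_glue (range_of_allRange c_act17_3) (range_glue (range_of_allRange c_act17_4) (range_glue (range_of_allRange c_act17_5) (range_glue (range_of_allRange c_act17_6) (range_glue (range_of_allRange c_act17_7) (range_glue (range_of_allRange c_act17_8) (range_glue (range_of_allRange c_act17_9) (range_glue (range_of_allRange c_act17_10) (range_glue (range_of_allRange c_act17_11) (range_glue (range_of_allRange c_act17_12) (range_glue (range_of_allRange c_act17_13) (range_glue (range_of_allRange c_act17_14) (range_of_allRange c_act17_15))))))))))))))))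
theorem h_act18 : ∀ i, 0 ≤ i → i < 65520 → Nat.beq (actR18 i) i = true :=
  (range_glue (range_of_allRange c_act18_0) (range_glue (range_of_allRange c_act18_1) (range_glue (range_of_allRange c_act18_2) (range_glue (range_of_allRange c_act18_3) (range_glue (range_of_allRange c_act18_4) (range_glue (range_of_allRange c_act18_5) (range_glue (range_of_allRange c_act18_6) (range_glue (range_of_allRange c_act18_7) (range_glue (range_of_allRange c_act18_8) (range_glue (range_of_allRange c_act18_9) (range_glue (range_of_allRange c_act18_10) (range_glue (range_of_allRange c_act18_11) (range_glue (range_of_allRange c_act18_12) (range_glue (range_of_allRange c_act18_13) (range_glue (range_of_allRange c_act18_14) (range_of_allRange c_act18_15))))))))))))))))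
theorem h_act19 : ∀ i, 0 ≤ i → i < 65520 → Nat.beq (actR19 i) i = true :=
  (range_glue (range_of_allRange c_act19_0) (range_glue (range_of_allRange c_act19_1) (range_glue (range_of_allRange c_act19_2) (range_glue (range_of_allRange c_act19_3) (range_glue (range_of_allRange c_act19_4) (range_glue (range_of_allRange c_act19_5) (range_glue (range_of_allRange c_act19_6) (range_glue (range_of_allRange c_act19_7) (range_glue (range_of_allRange c_act19_8) (range_glue (range_of_allRange c_act19_9) (range_glue (range_of_allRange c_act19_10) (range_glue (range_of_allRange c_act19_11) (range_glue (range_of_allRange c_act19_12) (range_glue (range_of_allRange c_act19_13) (range_glue (range_of_allRange c_act19_14) (range_of_allRange c_act19_15))))))))))))))))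
theorem h_act20 : ∀ i, 0 ≤ i → i < 65520 → Nat.beq (actR20 i) i = true :=
  (range_glue (range_of_allRange c_act20_0) (range_glue (range_of_allRange c_act20_1) (range_glue (range_of_allRange c_act20_2) (range_glue (range_of_allRange c_act20_3) (range_glue (range_of_allRange c_act20_4) (range_glue (range_of_allRange c_act20_5) (range_glue (range_of_allRange c_act20_6) (range_glue (range_of_allRange c_act20_7) (range_glue (range_of_allRange c_act20_8) (range_glue (range_of_allRange c_act20_9) (range_glue (range_of_allRange c_act20_10) (range_glue (range_of_allRange c_act20_11) (range_glue (range_of_allRange c_act20_12) (range_glue (range_of_allRange c_act20_13) (range_glue (range_of_allRange c_act20_14) (range_of_allRange c_act20_15))))))))))))))))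
theorem h_act21 : ∀ i, 0 ≤ i → i < 65520 → Nat.beq (actR21 i) i = true :=
  (range_glue (range_of_allRange c_act21_0) (range_glue (range_of_allRange c_act21_1) (range_glue (range_of_allRange c_act21_2) (range_glue (range_of_allRange c_act21_3) (range_glue (range_of_allRange c_act21_4) (range_glue (range_of_allRange c_act21_5) (range_glue (range_of_allRange c_act21_6) (range_glue (range_of_allRange c_act21_7) (range_glue (range_of_allRange c_act21_8) (range_glue (range_of_allRange c_act21_9) (range_glue (range_of_allRange c_act21_10) (range_glue (range_of_allRange c_act21_11) (range_glue (range_of_allRange c_act21_12) (range_glue (range_of_allRange c_act21_13) (range_glue (range_of_allRange c_act21_14) (range_of_allRange c_act21_15))))))))))))))))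
theorem h_act22 : ∀ i, 0 ≤ i → i < 65520 → Nat.beq (actR22 i) i = true :=
  (range_glue (range_of_allRange c_act22_0) (range_glue (range_of_allRange c_act22_1) (range_glue (range_of_allRange c_act22_2) (range_glue (range_of_allRange c_act22_3) (range_glue (range_of_allRange c_act22_4) (range_glue (range_of_allRange c_act22_5) (range_glue (range_of_allRange c_act22_6) (range_glue (range_of_allRange c_act22_7) (range_glue (range_of_allRange c_act22_8) (range_glue (range_of_allRange c_act22_9) (range_glue (range_of_allRange c_act22_10) (range_glue (range_of_allRange c_act22_11) (range_glue (range_of_allRange c_act22_12) (range_glue (range_of_allRange c_act22_13) (range_glue (range_of_allRange c_act22_14) (range_of_allRange c_act22_15))))))))))))))))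
theorem h_act23 : ∀ i, 0 ≤ i → i < 65520 → Nat.beq (actR23 i) i = true :=
  (range_glue (range_of_allRange c_act23_0) (range_glue (range_of_allRange c_act23_1) (range_glue (range_of_allRange c_act23_2) (range_glue (range_of_allRange c_act23_3) (range_glue (range_of_allRange c_act23_4) (range_glue (range_of_allRange c_act23_5) (range_glue (range_of_allRange c_act23_6) (range_glue (range_of_allRange c_act23_7) (range_glue (range_of_allRange c_act23_8) (range_glue (range_of_allRange c_act23_9) (range_glue (range_of_allRange c_act23_10) (range_glue (range_of_allRange c_act23_11) (range_glue (range_of_allRange c_act23_12) (range_glue (range_of_allRange c_act23_13) (range_glue (range_of_allRange c_act23_14) (range_of_allRange c_act23_15))))))))))))))))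
theorem h_act24 : ∀ i, 0 ≤ i → i < 65520 → Nat.beq (actR24 i) i = true :=
  (range_glue (range_of_allRange c_act24_0) (range_glue (range_of_allRange c_act24_1) (range_glue (range_of_allRange c_act24_2) (range_glue (range_of_allRange c_act24_3) (range_glue (range_of_allRange c_act24_4) (range_glue (range_of_allRange c_act24_5) (range_glue (range_of_allRange c_act24_6) (range_glue (range_of_allRange c_act24_7) (range_glue (range_of_allRange c_act24_8) (range_glue (range_of_allRange c_act24_9) (range_glue (range_of_allRange c_act24_10) (range_glue (range_of_allRange c_act24_11) (range_glue (range_of_allRange c_act24_12) (range_glue (range_of_allRange c_act24_13) (range_glue (range_of_allRange c_act24_14) (range_glue (range_of_allRange c_act24_15) (range_of_allRange c_act24_16)))))))))))))))))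
theorem h_act25 : ∀ i, 0 ≤ i → i < 65520 → Nat.beq (actR25 i) i = true :=
  (range_glue (range_of_allRange c_act25_0) (range_glue (range_of_allRange c_act25_1) (range_glue (range_of_allRange c_act25_2) (range_glue (range_of_allRange c_act25_3) (range_glue (range_of_allRange c_act25_4) (range_glue (range_of_allRange c_act25_5) (range_glue (range_of_allRange c_act25_6) (range_glue (range_of_allRange c_act25_7) (range_glue (range_of_allRange c_act25_8) (range_glue (range_of_allRange c_act25_9) (range_glue (range_of_allRange c_act25_10) (range_glue (range_of_allRange c_act25_11) (range_glue (range_of_allRange c_act25_12) (range_glue (range_of_allRange c_act25_13) (range_glue (range_of_allRange c_act25_14) (range_glue (range_of_allRange c_act25_15) (range_glue (range_of_allRange c_act25_16) (range_glue (range_of_allRange c_act25_17) (range_glue (range_of_allRange c_act25_18) (range_glue (range_of_allRange c_act25_19) (range_glue (range_of_allRange c_act25_20) (range_glue (range_of_allRange c_act25_21) (range_glue (range_of_allRange c_act25_22) (range_glue (range_of_allRange c_act25_23) (range_glue (range_of_allRange c_act25_24) (range_glue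 (range_of_allRange c_act25_25) (range_glue (range_of_allRange c_act25_26) (range_glue (range_of_allRange c_act25_27) (range_glue (range_of_allRange c_act25_28) (range_glue (range_of_allRange c_act25_29) (range_glue (range_of_allRange c_act25_30) (range_glue (range_of_allRange c_act25_31) (range_glue (range_of_allRange c_act25_32) (range_glue (range_of_allRange c_act25_33) (range_of_allRange c_act25_34)))))))))))))))))))))))))))))))))))
theorem h_act26 : ∀ i, 0 ≤ i → i < 65520 → Nat.beq (actR26 i) i = true :=
  (range_glue (range_of_allRange c_act26_0) (range_glue (range_of_allRange c_act26_1) (range_of_allRange c_act26_2)))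
theorem h_act27 : ∀ i, 0 ≤ i → i < 65520 → Nat.beq (actR27 i) i = true :=
  (range_glue (range_of_allRange c_act27_0) (range_glue (range_of_allRange c_act27_1) (range_glue (range_of_allRange c_act27_2) (range_glue (range_of_allRange c_act27_3) (range_of_allRange c_act27_4)))))
theorem h_act28 : ∀ i, 0 ≤ i → i < 65520 → Nat.beq (actR28 i) i = true :=
  (range_glue (range_of_allRange c_act28_0) (range_glue (range_of_allRange c_act28_1) (range_glue (range_of_allRange c_act28_2) (range_glue (range_of_allRange c_act28_3) (range_of_allRange c_act28_4)))))
theorem h_act29 : ∀ i, 0 ≤ i → i < 65520 → Nat.beq (actR29 i) i = true :=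
  (range_glue (range_of_allRange c_act29_0) (range_glue (range_of_allRange c_act29_1) (range_glue (range_of_allRange c_act29_2) (range_glue (range_of_allRange c_act29_3) (range_of_allRange c_act29_4)))))
theorem h_act30 : ∀ i, 0 ≤ i → i < 65520 → Nat.beq (actR30 i) i = true :=
  (range_glue (range_of_allRange c_act30_0) (range_glue (range_of_allRange c_act30_1) (range_glue (range_of_allRange c_act30_2) (range_glue (range_of_allRange c_act30_3) (range_of_allRange c_act30_4)))))
theorem h_act31 : ∀ i, 0 ≤ i → i < 65520 → Nat.beq (actR31 i) i = true :=
  (range_glue (range_of_allRange c_act31_0) (range_glue (range_of_allRange c_act31_1) (range_glue (range_of_allRange c_act31_2) (range_glue (range_of_allRange c_act31_3) (range_of_allRange c_act31_4)))))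

theorem h_act : ∀ L ∈ PC2Suz.P.real, ∀ i, i < T.N → Tab.relActOK T D L i = true := by
  rw [c_real]
  intro L hL
  simp only [realLit, List.mem_cons, List.not_mem_nil, or_false] at hL
  rcases hL with rfl | rfl | rfl | rfl | rfl | rfl | rfl | rfl | rfl | rfl | rfl | rfl | rfl | rfl | rfl | rfl | rfl | rfl | rfl | rfl | rfl | rfl | rfl | rfl | rfl | rfl | rfl | rfl | rfl | rfl | rfl | rfl
  · intro i hi
    rw [Tab.relActOK, ← actR0_eq]
    exact h_act0 i (Nat.zero_le _) hi
  · intro i hi
    rw [Tab.relActOK, ← actR1_eq]
    exact h_act1 i (Nat.zero_le _) hi
  · intro i hi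
    rw [Tab.relActOK, ← actR2_eq]
    exact h_act2 i (Nat.zero_le _) hi
  · intro i hi
    rw [Tab.relActOK, ← actR3_eq]
    exact h_act3 i (Nat.zero_le _) hi
  · intro i hi
    rw [Tab.relActOK, ← actR4_eq]
    exact h_act4 i (Nat.zero_le _) hi
  · intro i hi
    rw [Tab.relActOK, ← actR5_eq]
    exact h_act5 i (Nat.zero_le _) hi
  · intro i hi
    rw [Tab.relActOK, ← actR6_eq]
    exact h_act6 i (Nat.zero_le _) hi
  · intro i hi
    rw [Tab.relActOK, ← actR7_eq]
    exact h_act7 i (Nat.zero_le _) hi
  · intro i hi
    rw [Tab.relActOK, ← actR8_eq]
    exact h_act8 i (Nat.zero_le _) hi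
  · intro i hi
    rw [Tab.relActOK, ← actR9_eq]
    exact h_act9 i (Nat.zero_le _) hi
  · intro i hi
    rw [Tab.relActOK, ← actR10_eq]
    exact h_act10 i (Nat.zero_le _) hi
  · intro i hi
    rw [Tab.relActOK, ← actR11_eq]
    exact h_act11 i (Nat.zero_le _) hi
  · intro i hi
    rw [Tab.relActOK, ← actR12_eq]
    exact h_act12 i (Nat.zero_le _) hi
  · intro i hi
    rw [Tab.relActOK, ← actR13_eq]
    exact h_act13 i (Nat.zero_le _) hi
  · intro i hi
    rw [Tab.relActOK, ← actR14_eq]
    exact h_act14 i (Nat.zero_le _) hi
  · intro i hi
    rw [Tab.relActOK, ← actR15_eq]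
    exact h_act15 i (Nat.zero_le _) hi
  · intro i hi
    rw [Tab.relActOK, ← actR16_eq]
    exact h_act16 i (Nat.zero_le _) hi
  · intro i hi
    rw [Tab.relActOK, ← actR17_eq]
    exact h_act17 i (Nat.zero_le _) hi
  · intro i hi
    rw [Tab.relActOK, ← actR18_eq]
    exact h_act18 i (Nat.zero_le _) hi
  · intro i hi
    rw [Tab.relActOK, ← actR19_eq]
    exact h_act19 i (Nat.zero_le _) hi
  · intro i hi
    rw [Tab.relActOK, ← actR20_eq]
    exact h_act20 i (Nat.zero_le _) hi
  · intro i hi
    rw [Tab.relActOK, ← actR21_eq]
    exact h_act21 i (Nat.zero_le _) hi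
  · intro i hi
    rw [Tab.relActOK, ← actR22_eq]
    exact h_act22 i (Nat.zero_le _) hi
  · intro i hi
    rw [Tab.relActOK, ← actR23_eq]
    exact h_act23 i (Nat.zero_le _) hi
  · intro i hi
    rw [Tab.relActOK, ← actR24_eq]
    exact h_act24 i (Nat.zero_le _) hi
  · intro i hi
    rw [Tab.relActOK, ← actR25_eq]
    exact h_act25 i (Nat.zero_le _) hi
  · intro i hi
    rw [Tab.relActOK, ← actR26_eq]
    exact h_act26 i (Nat.zero_le _) hi
  · intro i hi
    rw [Tab.relActOK, ← actR27_eq]
    exact h_act27 i (Nat.zero_le _) hi
  · intro i hi
    rw [Tab.relActOK, ← actR28_eq]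
    exact h_act28 i (Nat.zero_le _) hi
  · intro i hi
    rw [Tab.relActOK, ← actR29_eq]
    exact h_act29 i (Nat.zero_le _) hi
  · intro i hi
    rw [Tab.relActOK, ← actR30_eq]
    exact h_act30 i (Nat.zero_le _) hi
  · intro i hi
    rw [Tab.relActOK, ← actR31_eq]
    exact h_act31 i (Nat.zero_le _) hi

theorem prep : PRep PC2Suz.P T D where
  hP := PC2Suz.valid
  hk := rfl
  hinv := fun _ _ => rfl
  hperm := fun i x hi hx => h_perm i (Nat.zero_le _) hi x hx
  hlet := fun x hx => allBelow_eq_true.1 c_let x hx
  hact := h_act

end Cfsg.Agent.Lib.Helper4.TCD.C2SuzR
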