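import Mathlib
import Cfsg.Agent.Lib.Helper4.TCD_C2SuzR_Fin
import Cfsg.Agent.Lib.Helper4.SuzpMain
import Cfsg.Agent.Lib.Helper4.TC20
import Cfsg.Agent.Lib.Helper4.StemLib5

/-!
The presented group `C2Suz` (the double cover of the sporadic Suzuki group) modulo the central subgroup generated by `z` (of order at most 2) is an
image of the presented group `Suzp`.
-/

set_option autoImplicit false

namespace Cfsg.Agent.Lib.Helper4.C2SuzMain

open Cfsg Cfsg.Agent.Lib.Helper4.TC Cfsg.Agent.Lib.Helper4.TCD Cfsg.Agent.Lib.Helper4.TC.Log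
  Cfsg.Agent.Lib.Helper4.Stem

local notation "G" => PC2Suz.P.Grp
local notation "gG" => PC2Suz.P.gR

theorem hinv (y : ℕ) (hy : y < 12) : gG (PC2Suz.P.invR y) = (gG y)⁻¹ :=
  (PC2Suz.valid.invR_sound y (by show y ≤ 12; omega)).2

/-- the central letter -/
noncomputable def z : G := gG 10

theorem comm_rel : ∀ p ∈ [(10, 0), (10, 2), (10, 4), (10, 6), (10, 8)],
    [p.1 + 1, p.2 + 1, p.1, p.2] ∈ PC2Suz.P.real := by decide +kernel

theorem comm_of_rel (c x : ℕ) (hc : c < 12) (hx : x < 12) (hci : PC2Suz.P.invR c = c + 1)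
    (hxi : PC2Suz.P.invR x = x + 1) (h : [c + 1, x + 1, c, x] ∈ PC2Suz.P.real) :
    gG c * gG x = gG x * gG c := by
  have h1 := (PC2Suz.valid.real_sound _ h).2
  simp only [wordP_cons, wordP_nil, mul_one] at h1
  rw [← hci, ← hxi, hinv c hc, hinv x hx] at h1
  calc gG c * gG x = gG x * gG c * ((gG c)⁻¹ * ((gG x)⁻¹ * (gG c * gG x))) := by group
    _ = gG x * gG c := by rw [h1, mul_one]

theorem comm_inv {Γ : Type*} [Group Γ] (a b : Γ) (h : a * b = b * a) : a * b⁻¹ = b⁻¹ * a := by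
  calc a * b⁻¹ = b⁻¹ * (b * a) * b⁻¹ := by group
    _ = b⁻¹ * (a * b) * b⁻¹ := by rw [h]
    _ = b⁻¹ * a := by group

theorem cz0 : gG 10 * gG 0 = gG 0 * gG 10 := comm_of_rel 10 0 (by decide) (by decide) rfl rfl (comm_rel (10, 0) (by decide))
theorem cz2 : gG 10 * gG 2 = gG 2 * gG 10 := comm_of_rel 10 2 (by decide) (by decide) rfl rfl (comm_rel (10, 2) (by decide))
theorem cz4 : gG 10 * gG 4 = gG 4 * gG 10 := comm_of_rel 10 4 (by decide) (by decide) rfl rfl (comm_rel (10, 4) (by decide))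
theorem cz6 : gG 10 * gG 6 = gG 6 * gG 10 := comm_of_rel 10 6 (by decide) (by decide) rfl rfl (comm_rel (10, 6) (by decide))
theorem cz8 : gG 10 * gG 8 = gG 8 * gG 10 := comm_of_rel 10 8 (by decide) (by decide) rfl rfl (comm_rel (10, 8) (by decide))

theorem z_comm (x : ℕ) (hx : x < 12) : z * gG x = gG x * z := by
  have i1 : gG 1 = (gG 0)⁻¹ := hinv 0 (by decide)
  have i3 : gG 3 = (gG 2)⁻¹ := hinv 2 (by decide)
  have i5 : gG 5 = (gG 4)⁻¹ := hinv 4 (by decide)
  have i7 : gG 7 = (gG 6)⁻¹ := hinv 6 (by decide)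
  have i9 : gG 9 = (gG 8)⁻¹ := hinv 8 (by decide)
  have i11 : gG 11 = (gG 10)⁻¹ := hinv 10 (by decide)
  show gG 10 * gG x = gG x * gG 10
  interval_cases x
  · exact cz0
  · rw [i1]; exact comm_inv _ _ cz0
  · exact cz2
  · rw [i3]; exact comm_inv _ _ cz2
  · exact cz4
  · rw [i5]; exact comm_inv _ _ cz4
  · exact cz6
  · rw [i7]; exact comm_inv _ _ cz6
  · exact cz8
  · rw [i9]; exact comm_inv _ _ cz8
  · rfl
  · rw [i11, mul_inv_cancel, inv_mul_cancel]

theorem central_of_comm (c : G) (h : ∀ x, x < 12 → c * gG x = gG x * c) : c ∈ Subgroup.center G := by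
  rw [Subgroup.mem_center_iff]
  intro γ
  have hγ : γ ∈ Subgroup.closure (gG '' Set.Iio PC2Suz.P.k) := by
    rw [PC2Suz.valid.gen_top]
    trivial
  induction hγ using Subgroup.closure_induction with
  | mem s hs =>
    obtain ⟨x, hx, rfl⟩ := hs
    exact (h x hx).symm
  | one => simp
  | mul a b _ _ iha ihb => rw [mul_assoc, ihb, ← mul_assoc, iha, mul_assoc]
  | inv a _ iha =>
    calc a⁻¹ * c = a⁻¹ * (c * a) * a⁻¹ := by group
      _ = a⁻¹ * (a * c) * a⁻¹ := by rw [iha]
      _ = c * a⁻¹ := by group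

theorem z_central : z ∈ Subgroup.center G := central_of_comm z z_comm

theorem z_sq : z ^ 2 = 1 := by
  have h := (PC2Suz.valid.real_sound (List.replicate 2 [10]).flatten (by decide +kernel)).2
  rw [wordP_replicate_flatten, wordP_cons, wordP_nil, mul_one] at h
  exact h

/-- the central subgroup generated by `z` -/
noncomputable def Z : Subgroup G := Subgroup.zpowers z

theorem Z_le_center : Z ≤ Subgroup.center G := by
  rw [Z, Subgroup.zpowers_le]
  exact z_central

instance Z_normal : Z.Normal := normal_of_le_center Z Z_le_center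

theorem card_Z_le : Finite Z ∧ Nat.card Z ≤ 2 := by
  have hfin : IsOfFinOrder z := isOfFinOrder_iff_pow_eq_one.2 ⟨2, by norm_num, z_sq⟩
  refine ⟨?_, ?_⟩
  · rw [Z]
    apply Nat.finite_of_card_ne_zero
    rw [Nat.card_zpowers]
    exact (orderOf_pos_iff.2 hfin).ne'
  · rw [Z, Nat.card_zpowers]
    exact Nat.le_of_dvd (by norm_num) (orderOf_dvd_of_pow_eq_one z_sq)

theorem letter_mem_Z (x : ℕ) (h4 : 10 ≤ x) (h6 : x < 12) : gG x ∈ Z := by
  have mz : gG 10 ∈ Z := Subgroup.mem_zpowers z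
  have i11 : gG 11 = (gG 10)⁻¹ := hinv 10 (by decide)
  interval_cases x
  · exact mz
  · rw [i11]; exact inv_mem mz

/-- a relator of `Suzp` followed by central letters -/
theorem mem_Z_of_rel (L C : List ℕ) (h : L ++ C ∈ PC2Suz.P.real) (hC : ∀ x ∈ C, 10 ≤ x ∧ x < 12) :
    wordP gG L ∈ Z := by
  have h1 := (PC2Suz.valid.real_sound _ h).2
  rw [wordP_append] at h1
  have h2 : wordP gG C ∈ Z := Sgs.wordP_mem_closure gG Z C (fun e he => letter_mem_Z e (hC e he).1 (hC e he).2)
  have h3 : wordP gG L = (wordP gG C)⁻¹ := eq_inv_of_mul_eq_one_left h1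
  rw [h3]
  exact inv_mem h2

/-- the central parts of the relators -/
def cens : List (List ℕ) := [[], [11], [10]]

theorem cens_ok : ∀ C ∈ cens, ∀ x ∈ C, 10 ≤ x ∧ x < 12 := by decide

theorem partner : ∀ L ∈ PSuzp.P.real, ∃ C ∈ cens, L ++ C ∈ PC2Suz.P.real := by decide +kernel

/-- the images of the letters of `Suzp` modulo `Z` -/
noncomputable def gψ (l : ℕ) : G ⧸ Z := QuotientGroup.mk (gG l)

theorem wordP_gψ (L : List ℕ) : wordP gψ L = QuotientGroup.mk (wordP gG L) := by
  induction L with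
  | nil => rfl
  | cons x L ih => rw [wordP_cons, wordP_cons, ih]; rfl

theorem exists_ψ : ∃ ψ : PSuzp.P.Grp →* G ⧸ Z, ∀ l, l < PSuzp.P.k → ψ (PSuzp.P.gR l) = gψ l := by
  apply exists_hom_of_letters PSuzp.P PSuzp.valid gψ
  · intro l hl
    have hl : l < 10 := hl
    have e : PSuzp.P.invR l = PC2Suz.P.invR l := by interval_cases l <;> rfl
    show (QuotientGroup.mk (gG l * gG (PSuzp.P.invR l)) : G ⧸ Z) = 1
    rw [e, hinv l (by omega), mul_inv_cancel]
    rfl
  · intro L hL
    rw [wordP_gψ, QuotientGroup.eq_one_iff]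
    obtain ⟨C, hC, hLC⟩ := partner L hL
    exact mem_Z_of_rel L C hLC (cens_ok C hC)

/-- the homomorphism from `Suzp` onto the quotient by `Z` -/
noncomputable def ψ : PSuzp.P.Grp →* G ⧸ Z := Classical.choose exists_ψ

theorem ψ_gR (l : ℕ) (hl : l < 10) : ψ (PSuzp.P.gR l) = gψ l := Classical.choose_spec exists_ψ l hl

theorem ψ_surjective : Function.Surjective ψ := by
  rw [← MonoidHom.range_eq_top, eq_top_iff]
  intro q hq
  clear hq
  obtain ⟨g, rfl⟩ := QuotientGroup.mk_surjective q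
  have hg : g ∈ Subgroup.closure (gG '' Set.Iio PC2Suz.P.k) := by
    rw [PC2Suz.valid.gen_top]
    trivial
  induction hg using Subgroup.closure_induction with
  | mem s hs =>
    obtain ⟨x, hx, rfl⟩ := hs
    have hx : x < 12 := hx
    by_cases h4 : x < 10
    · exact ⟨PSuzp.P.gR x, ψ_gR x h4⟩
    · have : (QuotientGroup.mk (gG x) : G ⧸ Z) = 1 := by
        rw [QuotientGroup.eq_one_iff]
        exact letter_mem_Z x (by omega) hx
      rw [this]
      exact one_mem _
  | one => exact one_mem _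
  | mul a b _ _ iha ihb => exact mul_mem iha ihb
  | inv a _ iha => exact inv_mem iha

end Cfsg.Agent.Lib.Helper4.C2SuzMain
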