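import Mathlib
import Cfsg.Agent.Lib.Helper4.C2SuzMain
import Cfsg.Agent.Lib.Helper4.AbelCert
import Cfsg.Agent.Lib.Helper4.StemLib6
import Cfsg.Agent.Lib.Helper4.RelLib
import Cfsg.Agent.Lib.Helper4.CoverLib

/-!
The presented group `C2Suz` is a perfect central extension of the presented group `Suzp` whose kernel is
cyclic of order 2.
-/

set_option autoImplicit false

namespace Cfsg.Agent.Lib.Helper4.C2SuzCover

open Cfsg Cfsg.Agent.Lib.Helper4.TC Cfsg.Agent.Lib.Helper4.TCD Cfsg.Agent.Lib.Helper4.TC.Log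
  Cfsg.Agent.Lib.Helper4.Stem Cfsg.Agent.Lib.Helper4.AbelCert
  Cfsg.Agent.Lib.Helper4.C2SuzMain

local notation "G" => PC2Suz.P.Grp
local notation "gG" => PC2Suz.P.gR

/-- the letters of `C2Suz` as words of `Suzp`: the central letter is killed -/
def Wl (l : ℕ) : List ℕ := [[0], [1], [2], [3], [4], [5], [6], [7], [8], [9], [], []].getD l []

/-- the image of a relator is a relator of `Suzp`, or empty, or a letter and its inverse -/
theorem rel_cases : ∀ L ∈ PC2Suz.P.real, L.flatMap Wl ∈ PSuzp.P.real ∨ L.flatMap Wl = [] ∨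
    L.flatMap Wl ∈ (List.range 10).map (fun l => [PSuzp.P.invR l, l]) := by decide +kernel

theorem exists_hom : ∃ π : G →* PSuzp.P.Grp, ∀ l, l < PC2Suz.P.k →
    π (gG l) = xw PSuzp.P Wl l := by
  apply exists_hom_of_letters PC2Suz.P PC2Suz.valid (xw PSuzp.P Wl)
  · intro l hl
    have hl : l < 12 := hl
    have h1 : PSuzp.P.gR 1 = (PSuzp.P.gR 0)⁻¹ := (PSuzp.valid.invR_sound 0 (by decide)).2
    have h3 : PSuzp.P.gR 3 = (PSuzp.P.gR 2)⁻¹ := (PSuzp.valid.invR_sound 2 (by decide)).2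
    have h5 : PSuzp.P.gR 5 = (PSuzp.P.gR 4)⁻¹ := (PSuzp.valid.invR_sound 4 (by decide)).2
    have h7 : PSuzp.P.gR 7 = (PSuzp.P.gR 6)⁻¹ := (PSuzp.valid.invR_sound 6 (by decide)).2
    have h9 : PSuzp.P.gR 9 = (PSuzp.P.gR 8)⁻¹ := (PSuzp.valid.invR_sound 8 (by decide)).2
    interval_cases l
    · show wordP PSuzp.P.gR [0] * wordP PSuzp.P.gR [1] = 1
      simp only [wordP_cons, wordP_nil, mul_one, h1, mul_inv_cancel]
    · show wordP PSuzp.P.gR [1] * wordP PSuzp.P.gR [0] = 1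
      simp only [wordP_cons, wordP_nil, mul_one, h1, inv_mul_cancel]
    · show wordP PSuzp.P.gR [2] * wordP PSuzp.P.gR [3] = 1
      simp only [wordP_cons, wordP_nil, mul_one, h3, mul_inv_cancel]
    · show wordP PSuzp.P.gR [3] * wordP PSuzp.P.gR [2] = 1
      simp only [wordP_cons, wordP_nil, mul_one, h3, inv_mul_cancel]
    · show wordP PSuzp.P.gR [4] * wordP PSuzp.P.gR [5] = 1
      simp only [wordP_cons, wordP_nil, mul_one, h5, mul_inv_cancel]
    · show wordP PSuzp.P.gR [5] * wordP PSuzp.P.gR [4] = 1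
      simp only [wordP_cons, wordP_nil, mul_one, h5, inv_mul_cancel]
    · show wordP PSuzp.P.gR [6] * wordP PSuzp.P.gR [7] = 1
      simp only [wordP_cons, wordP_nil, mul_one, h7, mul_inv_cancel]
    · show wordP PSuzp.P.gR [7] * wordP PSuzp.P.gR [6] = 1
      simp only [wordP_cons, wordP_nil, mul_one, h7, inv_mul_cancel]
    · show wordP PSuzp.P.gR [8] * wordP PSuzp.P.gR [9] = 1
      simp only [wordP_cons, wordP_nil, mul_one, h9, mul_inv_cancel]
    · show wordP PSuzp.P.gR [9] * wordP PSuzp.P.gR [8] = 1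
      simp only [wordP_cons, wordP_nil, mul_one, h9, inv_mul_cancel]
    · show wordP PSuzp.P.gR [] * wordP PSuzp.P.gR [] = 1
      simp only [wordP_nil, mul_one]
    · show wordP PSuzp.P.gR [] * wordP PSuzp.P.gR [] = 1
      simp only [wordP_nil, mul_one]
  · intro L hL
    rw [wordP_xw]
    rcases rel_cases L hL with h | h | h
    · exact (PSuzp.valid.real_sound _ h).2
    · rw [h, wordP_nil]
    · obtain ⟨l, hl, hl2⟩ := List.mem_map.1 h
      have hl : l < 10 := List.mem_range.1 hl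
      rw [← hl2, wordP_cons, wordP_cons, wordP_nil, mul_one,
        (PSuzp.valid.invR_sound l (by show l ≤ 10; omega)).2, inv_mul_cancel]

/-- the covering homomorphism -/
noncomputable def π : G →* PSuzp.P.Grp := Classical.choose exists_hom

theorem π_gR (l : ℕ) (hl : l < 12) : π (gG l) = xw PSuzp.P Wl l :=
  Classical.choose_spec exists_hom l hl

theorem π_surjective : Function.Surjective π := by
  rw [← MonoidHom.range_eq_top, eq_top_iff, ← PSuzp.valid.gen_top, Subgroup.closure_le]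
  rintro _ ⟨y, hy, rfl⟩
  have hy : y < 10 := hy
  interval_cases y
  · exact ⟨gG 0, by rw [π_gR 0 (by decide)]; simp [xw, Wl, wordP_cons, wordP_nil]⟩
  · exact ⟨gG 1, by rw [π_gR 1 (by decide)]; simp [xw, Wl, wordP_cons, wordP_nil]⟩
  · exact ⟨gG 2, by rw [π_gR 2 (by decide)]; simp [xw, Wl, wordP_cons, wordP_nil]⟩
  · exact ⟨gG 3, by rw [π_gR 3 (by decide)]; simp [xw, Wl, wordP_cons, wordP_nil]⟩
  · exact ⟨gG 4, by rw [π_gR 4 (by decide)]; simp [xw, Wl, wordP_cons, wordP_nil]⟩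
  · exact ⟨gG 5, by rw [π_gR 5 (by decide)]; simp [xw, Wl, wordP_cons, wordP_nil]⟩
  · exact ⟨gG 6, by rw [π_gR 6 (by decide)]; simp [xw, Wl, wordP_cons, wordP_nil]⟩
  · exact ⟨gG 7, by rw [π_gR 7 (by decide)]; simp [xw, Wl, wordP_cons, wordP_nil]⟩
  · exact ⟨gG 8, by rw [π_gR 8 (by decide)]; simp [xw, Wl, wordP_cons, wordP_nil]⟩
  · exact ⟨gG 9, by rw [π_gR 9 (by decide)]; simp [xw, Wl, wordP_cons, wordP_nil]⟩

theorem Z_le_ker : Z ≤ π.ker := by
  rw [Z, Subgroup.zpowers_le]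
  show z ∈ π.ker
  rw [MonoidHom.mem_ker]
  show π (gG 10) = 1
  rw [π_gR 10 (by decide)]
  rfl

/-- the central letter acts on the 65520 points without fixed points, so it is not trivial -/
theorem z_ne_one : z ≠ 1 := by
  intro h
  have h1 := C2SuzR.prep.phi_gR 10 (by decide) ⟨0, by decide⟩
  have h2 : C2SuzR.prep.phi (gG 10) = 1 := by
    show C2SuzR.prep.phi z = 1
    rw [h, map_one]
  rw [h2] at h1
  have h3 : C2SuzR.T.tbl 0 (C2SuzR.D.inv 10) ≠ 0 := by decide +kernel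
  exact h3 h1.symm

theorem card_Z : Nat.card Z = 2 := by
  haveI : Fact (Nat.Prime 2) := ⟨by norm_num⟩
  rw [Z, Nat.card_zpowers]
  exact orderOf_eq_prime z_sq z_ne_one

/-- the order: `2` times the order of `Suzp` -/
theorem order_card : Finite G ∧ Nat.card G = 896690995200 := by
  obtain ⟨fK, _, cK⟩ := SuzpMain.order_aux
  obtain ⟨fZ, _⟩ := card_Z_le
  have fQ : Finite (G ⧸ Z) := Finite.of_surjective ψ ψ_surjective
  have cQ : Nat.card (G ⧸ Z) ≤ 448345497600 := by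
    rw [← cK]
    exact Nat.card_le_card_of_surjective ψ ψ_surjective
  have hmul : Nat.card G = Nat.card (G ⧸ Z) * Nat.card Z := Subgroup.card_eq_card_quotient_mul_card_subgroup Z
  have hQpos : 0 < Nat.card (G ⧸ Z) := Nat.card_pos
  have hZpos : 0 < Nat.card Z := Nat.card_pos
  have fG : Finite G := by
    apply Nat.finite_of_card_ne_zero
    rw [hmul]
    exact Nat.mul_ne_zero (by omega) (by omega)
  refine ⟨fG, ?_⟩
  have h := card_eq_of_stem π π_surjective
  rw [cK] at h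
  have hle : Nat.card Z ≤ Nat.card π.ker := Subgroup.card_le_of_le Z_le_ker
  rw [card_Z] at hle hmul
  have h1 : Nat.card G ≤ 448345497600 * 2 := by
    rw [hmul]
    exact Nat.mul_le_mul_right _ cQ
  have h2 : 448345497600 * 2 ≤ Nat.card G := by
    rw [h]
    exact Nat.mul_le_mul_left _ hle
  omega

theorem card_ker : Nat.card π.ker = 2 := by
  obtain ⟨fG, hcard⟩ := order_card
  obtain ⟨fG', _, hcard'⟩ := SuzpMain.order_aux
  have h := card_eq_of_stem π π_surjective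
  rw [hcard, hcard'] at h
  omega

/-- the kernel is the central subgroup generated by `z` -/
theorem ker_eq : π.ker = Z := by
  obtain ⟨fG, _⟩ := order_card
  have := fG
  symm
  apply Subgroup.eq_of_le_of_card_ge Z_le_ker
  rw [card_ker, card_Z]

theorem cert0 : PC2Suz.P.gR 0 ∈ commutator PC2Suz.P.Grp := by
  apply mem_commutator_of_perm PC2Suz.P PC2Suz.valid 0
    [[0, 0, 0, 0, 0, 0, 0], [2, 2, 1, 1, 2, 2, 1, 1, 3, 3, 1, 1], [4, 4, 11], [10, 5, 6, 3, 7, 5, 0, 3, 1]]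
    (by decide +kernel) (by decide +kernel)
    [0, 0, 0, 0, 0, 0, 0, 2, 2, 2, 2, 4, 4, 6, 10]
    (by decide +kernel) (by decide +kernel)

theorem cert2 : PC2Suz.P.gR 2 ∈ commutator PC2Suz.P.Grp := by
  apply mem_commutator_of_perm PC2Suz.P PC2Suz.valid 2
    [[3, 0, 3, 1, 2, 1, 3, 0, 3, 1, 1], [4, 4, 11], [11, 2, 0, 2, 0, 5, 1, 2, 0, 2, 0, 5, 1], [10, 10]]
    (by decide +kernel) (by decide +kernel)
    [0, 0, 0, 0, 0, 0, 2, 2, 2, 2, 4, 4, 10, 10]
    (by decide +kernel) (by decide +kernel)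

theorem cert4 : PC2Suz.P.gR 4 ∈ commutator PC2Suz.P.Grp := by
  apply mem_commutator_of_perm PC2Suz.P PC2Suz.valid 4
    [[0, 0, 0, 0, 0, 0, 0], [2, 2, 1, 1, 2, 2, 1, 1, 3, 3, 1, 1], [4, 4, 11], [4, 4, 11], [6, 6, 11], [8, 8], [8, 8], [10, 3, 5, 0, 5, 1, 9, 7, 9, 5, 9, 7, 9, 3, 1], [10, 10]]
    (by decide +kernel) (by decide +kernel)
    [0, 0, 0, 0, 0, 0, 0, 0, 2, 2, 2, 2, 4, 4, 4, 6, 6, 8, 8, 8, 8, 10, 10, 10]
    (by decide +kernel) (by decide +kernel)

theorem cert6 : PC2Suz.P.gR 6 ∈ commutator PC2Suz.P.Grp := by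
  apply mem_commutator_of_perm PC2Suz.P PC2Suz.valid 6
    [[10, 5, 5], [0, 4, 1, 3, 1, 3, 0, 4, 1, 3, 1, 3, 10], [0, 0, 4, 3, 1, 3, 1, 4, 2, 4, 3, 0, 6, 0, 6, 4, 7], [8, 8], [8, 8], [8, 8], [2, 0, 2, 0, 9, 1, 5, 9, 5, 0, 9, 2, 1, 1], [2, 0, 2, 0, 9, 1, 5, 9, 5, 0, 9, 2, 1, 1], [11, 11]]
    (by decide +kernel) (by decide +kernel)
    [0, 0, 0, 0, 0, 0, 0, 0, 0, 0, 0, 0, 2, 2, 2, 2, 2, 2, 2, 4, 4, 4, 4, 4, 4, 6, 8, 8, 8, 8, 8, 8, 10, 10]
    (by decide +kernel) (by decide +kernel)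

theorem cert8 : PC2Suz.P.gR 8 ∈ commutator PC2Suz.P.Grp := by
  apply mem_commutator_of_perm PC2Suz.P PC2Suz.valid 8
    [[3, 0, 3, 1, 2, 1, 3, 0, 3, 1, 1], [10, 7, 7], [10, 7, 7], [2, 0, 2, 0, 9, 1, 5, 9, 5, 0, 9, 2, 1, 1], [3, 3, 0, 5, 9, 5, 9, 3, 3, 9, 5, 9, 5, 1], [0, 2, 8, 6, 8, 4, 8, 6, 8, 0, 4, 1, 4, 2, 11], [0, 2, 8, 6, 8, 4, 8, 6, 8, 0, 4, 1, 4, 2, 11]]
    (by decide +kernel) (by decide +kernel)
    [0, 0, 0, 0, 0, 0, 0, 0, 0, 0, 2, 2, 2, 2, 2, 2, 2, 2, 4, 4, 4, 4, 4, 4, 6, 6, 6, 6, 8, 8, 8, 8, 8, 8, 8, 10, 10]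
    (by decide +kernel) (by decide +kernel)

theorem cert10 : PC2Suz.P.gR 10 ∈ commutator PC2Suz.P.Grp := by
  apply mem_commutator_of_perm PC2Suz.P PC2Suz.valid 10
    [[0, 0, 0, 0, 0, 0, 0], [2, 2, 1, 1, 2, 2, 1, 1, 3, 3, 1, 1], [0, 4, 3, 4, 2, 1, 2, 1, 1, 4, 2], [10, 7, 7], [10, 5, 6, 3, 7, 5, 0, 3, 1], [3, 3, 0, 5, 9, 5, 9, 3, 3, 9, 5, 9, 5, 1], [0, 2, 8, 6, 8, 4, 8, 6, 8, 0, 4, 1, 4, 2, 11]]
    (by decide +kernel) (by decide +kernel)
    [0, 0, 0, 0, 0, 0, 0, 0, 0, 0, 0, 0, 2, 2, 2, 2, 2, 2, 2, 2, 2, 4, 4, 4, 4, 4, 4, 6, 6, 6, 8, 8, 8, 8, 10]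
    (by decide +kernel) (by decide +kernel)

/-- the generators are products of commutators -/
theorem gR_mem_commutator (l : ℕ) (hl : l < 12) : gG l ∈ commutator G := by
  interval_cases l
  · exact cert0
  · rw [show (1 : ℕ) = PC2Suz.P.invR 0 from rfl, hinv 0 (by decide)]
    exact Subgroup.inv_mem _ cert0
  · exact cert2
  · rw [show (3 : ℕ) = PC2Suz.P.invR 2 from rfl, hinv 2 (by decide)]
    exact Subgroup.inv_mem _ cert2
  · exact cert4
  · rw [show (5 : ℕ) = PC2Suz.P.invR 4 from rfl, hinv 4 (by decide)]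
    exact Subgroup.inv_mem _ cert4
  · exact cert6
  · rw [show (7 : ℕ) = PC2Suz.P.invR 6 from rfl, hinv 6 (by decide)]
    exact Subgroup.inv_mem _ cert6
  · exact cert8
  · rw [show (9 : ℕ) = PC2Suz.P.invR 8 from rfl, hinv 8 (by decide)]
    exact Subgroup.inv_mem _ cert8
  · exact cert10
  · rw [show (11 : ℕ) = PC2Suz.P.invR 10 from rfl, hinv 10 (by decide)]
    exact Subgroup.inv_mem _ cert10

theorem perfect : commutator G = ⊤ :=
  commutator_eq_top_of_letters PC2Suz.P PC2Suz.valid gR_mem_commutator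

/-- the covering homomorphism is a stem extension -/
theorem isStem : IsStemExtension π := by
  refine ⟨π_surjective, ?_, ?_⟩
  · rw [ker_eq]
    exact Z_le_center
  · rw [perfect]
    exact le_top

/-- the kernel is cyclic of order 2 -/
theorem ker_equiv : Nonempty (π.ker ≃* Multiplicative (ZMod 2)) := by
  have h1 : IsCyclic Z := by
    unfold Z
    infer_instance
  have h1' : IsCyclic π.ker := by
    rw [ker_eq]
    exact h1
  have h2 : Nat.card (Multiplicative (ZMod 2)) = 2 := by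
    rw [Nat.card_eq_fintype_card]
    exact ZMod.card 2
  exact ⟨mulEquivOfCyclicCardEq (card_ker.trans h2.symm)⟩

/-- the permutation representation on 65520 points is faithful: the group is a perfect central extension of a
simple group and the central letter acts nontrivially -/
theorem phi_injective : Function.Injective C2SuzR.prep.phi := by
  have hz : C2SuzR.prep.phi z ≠ 1 := by
    intro h
    have h1 := C2SuzR.prep.phi_gR 10 (by decide) ⟨0, by decide⟩
    have h2 : C2SuzR.prep.phi (gG 10) = 1 := h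
    rw [h2] at h1
    have h3 : C2SuzR.T.tbl 0 (C2SuzR.D.inv 10) ≠ 0 := by decide +kernel
    exact h3 h1.symm
  apply injective_of_central_simple π π_surjective (by rw [ker_eq]; exact Z_le_center) SuzpMain.simple_aux perfect
  · rw [ker_eq]
    exact eq_one_of_mem_zpowers_prime C2SuzR.prep.phi z 2 (by norm_num) z_sq hz
  · exact ⟨z, hz⟩

/-- the order and the faithful permutation representation -/
theorem order_aux : Finite G ∧ Function.Injective C2SuzR.prep.phi ∧ Nat.card G = 896690995200 :=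
  ⟨order_card.1, phi_injective, order_card.2⟩

end Cfsg.Agent.Lib.Helper4.C2SuzCover
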