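import Mathlib
import Cfsg.Agent.Lib.Helper4.C2SuzCover
import Cfsg.Agent.Lib.Helper4.TCD_C2SuzB_Fin
import Cfsg.Agent.Lib.Helper4.C2G24NoStem
import Cfsg.Agent.Lib.Helper4.TC19
import Cfsg.Agent.Lib.Helper4.StemLib6

/-! The presented group `C2Suz` contains the presented double cover `C2G24` of the group G2(4)
as the subgroup of index 1782 generated by `c`, `d`, `t`, `s`, and stem extensions with kernel of prime order split over it. -/

set_option autoImplicit false

namespace Cfsg.Agent.Lib.Helper4.C2SuzSub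

open Cfsg Cfsg.Agent.Lib.Helper4.TC Cfsg.Agent.Lib.Helper4.TCD Cfsg.Agent.Lib.Helper4.TC.Log Cfsg.Agent.Lib.Helper4.Stem

/-- the letters of `C2G24` as letters of `C2Suz` -/
def embK (l : ℕ) : ℕ := [0, 1, 2, 3, 4, 5, 6, 7, 10, 11].getD l 12

theorem real_subK : ∀ L ∈ PC2G24.P.real, L.map embK ∈ PC2Suz.P.real := by decide +kernel

theorem embK_emb : LetterEmb PC2G24.P PC2Suz.P embK where
  hP := PC2G24.valid
  hQ := PC2Suz.valid
  hlt := by
    intro l hl
    have hl : l < 10 := hl
    show embK l < 12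
    interval_cases l <;> decide
  hinv := by
    intro l hl
    have hl : l < 10 := hl
    interval_cases l <;> rfl
  hrel := by
    intro L hL
    exact (PC2Suz.valid.real_sound _ (real_subK L hL)).2

/-- the homomorphism from `C2G24` -/
noncomputable def f : PC2G24.P.Grp →* PC2Suz.P.Grp := embK_emb.hom

/-- the words generating `C2G24` -/
def subsK : List (List ℕ) := [[0], [2], [4], [6], [8]]

theorem subG_K_top : Inst.subG PC2G24.P subsK = ⊤ := by
  rw [eq_top_iff, ← PC2G24.valid.gen_top, Subgroup.closure_le]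
  rintro _ ⟨l, hl, rfl⟩
  have hl : l < 10 := hl
  interval_cases l
  · exact Subgroup.subset_closure ⟨[0], by decide, by rw [wordP_cons, wordP_nil, mul_one]⟩
  · have h : PC2G24.P.gR 1 = (PC2G24.P.gR 0)⁻¹ := (PC2G24.valid.invR_sound 0 (by decide)).2
    rw [h]
    exact Subgroup.inv_mem _ (Subgroup.subset_closure ⟨[0], by decide, by rw [wordP_cons, wordP_nil, mul_one]⟩)
  · exact Subgroup.subset_closure ⟨[2], by decide, by rw [wordP_cons, wordP_nil, mul_one]⟩
  · have h : PC2G24.P.gR 3 = (PC2G24.P.gR 2)⁻¹ := (PC2G24.valid.invR_sound 2 (by decide)).2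
    rw [h]
    exact Subgroup.inv_mem _ (Subgroup.subset_closure ⟨[2], by decide, by rw [wordP_cons, wordP_nil, mul_one]⟩)
  · exact Subgroup.subset_closure ⟨[4], by decide, by rw [wordP_cons, wordP_nil, mul_one]⟩
  · have h : PC2G24.P.gR 5 = (PC2G24.P.gR 4)⁻¹ := (PC2G24.valid.invR_sound 4 (by decide)).2
    rw [h]
    exact Subgroup.inv_mem _ (Subgroup.subset_closure ⟨[4], by decide, by rw [wordP_cons, wordP_nil, mul_one]⟩)
  · exact Subgroup.subset_closure ⟨[6], by decide, by rw [wordP_cons, wordP_nil, mul_one]⟩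
  · have h : PC2G24.P.gR 7 = (PC2G24.P.gR 6)⁻¹ := (PC2G24.valid.invR_sound 6 (by decide)).2
    rw [h]
    exact Subgroup.inv_mem _ (Subgroup.subset_closure ⟨[6], by decide, by rw [wordP_cons, wordP_nil, mul_one]⟩)
  · exact Subgroup.subset_closure ⟨[8], by decide, by rw [wordP_cons, wordP_nil, mul_one]⟩
  · have h : PC2G24.P.gR 9 = (PC2G24.P.gR 8)⁻¹ := (PC2G24.valid.invR_sound 8 (by decide)).2
    rw [h]
    exact Subgroup.inv_mem _ (Subgroup.subset_closure ⟨[8], by decide, by rw [wordP_cons, wordP_nil, mul_one]⟩)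

theorem range_hom : f.range = Inst.subG PC2Suz.P [[0], [2], [4], [6], [10]] := by
  rw [f, MonoidHom.range_eq_map, ← subG_K_top, embK_emb.map_subG subsK (by decide)]
  rfl

/-- the central letter is the square of `t` -/
theorem z_eq : PC2Suz.P.gR 10 = PC2Suz.P.gR 4 * PC2Suz.P.gR 4 := by
  have h := (PC2Suz.valid.real_sound [4, 4, 11] (by decide +kernel)).2
  have i11 : PC2Suz.P.gR 11 = (PC2Suz.P.gR 10)⁻¹ := (PC2Suz.valid.invR_sound 10 (by decide)).2
  simp only [wordP_cons, wordP_nil, mul_one] at h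
  rw [i11] at h
  calc PC2Suz.P.gR 10 = (PC2Suz.P.gR 4 * (PC2Suz.P.gR 4 * (PC2Suz.P.gR 10)⁻¹)) * PC2Suz.P.gR 10 := by rw [h, one_mul]
    _ = PC2Suz.P.gR 4 * PC2Suz.P.gR 4 := by group

theorem range_eq : f.range = Inst.subG PC2Suz.P C2SuzB.subs := by
  rw [range_hom]
  have hs : C2SuzB.subs = [[0], [2], [4], [6]] := by decide
  rw [hs]
  unfold Inst.subG
  apply le_antisymm
  · rw [Subgroup.closure_le]
    rintro _ ⟨u, hu, rfl⟩
    simp only [List.mem_cons, List.not_mem_nil, or_false] at hu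
    rcases hu with rfl | rfl | rfl | rfl | rfl
    · exact Subgroup.subset_closure ⟨[0], by decide, rfl⟩
    · exact Subgroup.subset_closure ⟨[2], by decide, rfl⟩
    · exact Subgroup.subset_closure ⟨[4], by decide, rfl⟩
    · exact Subgroup.subset_closure ⟨[6], by decide, rfl⟩
    · have h4 : wordP PC2Suz.P.gR [4] ∈ Subgroup.closure {s | ∃ u ∈ [[0], [2], [4], [6]], s = wordP PC2Suz.P.gR u} :=
        Subgroup.subset_closure ⟨[4], by decide, rfl⟩
      rw [SetLike.mem_coe, wordP_cons, wordP_nil, mul_one, z_eq]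
      rw [wordP_cons, wordP_nil, mul_one] at h4
      exact mul_mem h4 h4
  · apply Subgroup.closure_mono
    rintro _ ⟨u, hu, rfl⟩
    refine ⟨u, ?_, rfl⟩
    simp only [List.mem_cons, List.not_mem_nil, or_false] at hu ⊢
    rcases hu with rfl | rfl | rfl | rfl
    · exact Or.inl rfl
    · exact Or.inr (Or.inl rfl)
    · exact Or.inr (Or.inr (Or.inl rfl))
    · exact Or.inr (Or.inr (Or.inr (Or.inl rfl)))


/-- the subgroup is an image of `C2G24` -/
theorem sub_card : Finite (Inst.subG PC2Suz.P C2SuzB.subs) ∧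
    Nat.card (Inst.subG PC2Suz.P C2SuzB.subs) ≤ 503193600 := by
  obtain ⟨fK, _, cK⟩ := C2G24Main.order_aux
  rw [← range_eq]
  have := fK
  refine ⟨Finite.of_surjective f.rangeRestrict f.rangeRestrict_surjective, ?_⟩
  rw [← cK]
  exact Nat.card_le_card_of_surjective f.rangeRestrict f.rangeRestrict_surjective

/-- the subgroup has order 503193600 -/
theorem sub_card_eq : Nat.card (Inst.subG PC2Suz.P C2SuzB.subs) = 503193600 := by
  obtain ⟨fG, _, hcard⟩ := C2SuzCover.order_aux
  have h := Subgroup.card_mul_index (Inst.subG PC2Suz.P C2SuzB.subs)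
  rw [C2SuzB.index_eq, hcard] at h
  have e : (896690995200 : ℕ) = 503193600 * 1782 := by norm_num
  rw [e] at h
  exact Nat.eq_of_mul_eq_mul_right (by norm_num) h

/-- `C2G24` embeds -/
theorem hom_injective : Function.Injective f := by
  obtain ⟨fK, _, cK⟩ := C2G24Main.order_aux
  have := fK
  have hs : Function.Surjective f.rangeRestrict := f.rangeRestrict_surjective
  have hc : Nat.card PC2G24.P.Grp ≤ Nat.card f.range := by
    rw [range_eq, sub_card_eq, cK]
  have hb : Function.Bijective f.rangeRestrict := hs.bijective_of_nat_card_le hc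
  intro x y hxy
  apply hb.1
  apply Subtype.ext
  exact hxy

/-- stem extensions split over the subgroup -/
theorem liftsP_sub (p : ℕ) (hp : p.Prime) :
    LiftsP PC2Suz.P.Grp (Inst.subG PC2Suz.P C2SuzB.subs) p :=
  liftsP_of_injective f hom_injective _ range_eq p hp C2G24Cover.perfect (C2G24NoStem.noStem p hp)

end Cfsg.Agent.Lib.Helper4.C2SuzSub
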