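import Mathlib
import Cfsg.Agent.Lib.Helper4.C4U43Main
import Cfsg.Agent.Lib.Helper4.AbelCert
import Cfsg.Agent.Lib.Helper4.StemLib6
import Cfsg.Agent.Lib.Helper4.RelLib

/-!
The presented group `C4U43` is a perfect central extension of the presented group `U43p` whose kernel is
cyclic of order 4.
-/

set_option autoImplicit false

namespace Cfsg.Agent.Lib.Helper4.C4U43Cover

open Cfsg Cfsg.Agent.Lib.Helper4.TC Cfsg.Agent.Lib.Helper4.TCD Cfsg.Agent.Lib.Helper4.TC.Log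
  Cfsg.Agent.Lib.Helper4.Stem Cfsg.Agent.Lib.Helper4.AbelCert
  Cfsg.Agent.Lib.Helper4.C4U43Main

local notation "G" => PC4U43.P.Grp
local notation "gG" => PC4U43.P.gR

/-- the letters of `C4U43` as words of `U43p`: the central letter is killed -/
def Wl (l : ℕ) : List ℕ := [[0], [1], [2], [3], [4], [5], [], []].getD l []

/-- the image of a relator is a relator of `U43p`, or empty, or a letter and its inverse -/
theorem rel_cases : ∀ L ∈ PC4U43.P.real, L.flatMap Wl ∈ PU43p.P.real ∨ L.flatMap Wl = [] ∨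
    L.flatMap Wl ∈ (List.range 6).map (fun l => [PU43p.P.invR l, l]) := by decide +kernel

theorem exists_hom : ∃ π : G →* PU43p.P.Grp, ∀ l, l < PC4U43.P.k →
    π (gG l) = xw PU43p.P Wl l := by
  obtain ⟨fG, hinj, hcard⟩ := U43pMain.order_aux
  apply exists_hom_of_letters PC4U43.P PC4U43.valid (xw PU43p.P Wl)
  · intro l hl
    have hl : l < 8 := hl
    have h1 : PU43p.P.gR 1 = (PU43p.P.gR 0)⁻¹ := (PU43p.valid.invR_sound 0 (by decide)).2
    have h3 : PU43p.P.gR 3 = (PU43p.P.gR 2)⁻¹ := (PU43p.valid.invR_sound 2 (by decide)).2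
    have h5 : PU43p.P.gR 5 = (PU43p.P.gR 4)⁻¹ := (PU43p.valid.invR_sound 4 (by decide)).2
    interval_cases l
    · show wordP PU43p.P.gR [0] * wordP PU43p.P.gR [1] = 1
      simp only [wordP_cons, wordP_nil, mul_one, h1, mul_inv_cancel]
    · show wordP PU43p.P.gR [1] * wordP PU43p.P.gR [0] = 1
      simp only [wordP_cons, wordP_nil, mul_one, h1, inv_mul_cancel]
    · show wordP PU43p.P.gR [2] * wordP PU43p.P.gR [3] = 1
      simp only [wordP_cons, wordP_nil, mul_one, h3, mul_inv_cancel]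
    · show wordP PU43p.P.gR [3] * wordP PU43p.P.gR [2] = 1
      simp only [wordP_cons, wordP_nil, mul_one, h3, inv_mul_cancel]
    · show wordP PU43p.P.gR [4] * wordP PU43p.P.gR [5] = 1
      simp only [wordP_cons, wordP_nil, mul_one, h5, mul_inv_cancel]
    · show wordP PU43p.P.gR [5] * wordP PU43p.P.gR [4] = 1
      simp only [wordP_cons, wordP_nil, mul_one, h5, inv_mul_cancel]
    · show wordP PU43p.P.gR [] * wordP PU43p.P.gR [] = 1
      simp only [wordP_nil, mul_one]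
    · show wordP PU43p.P.gR [] * wordP PU43p.P.gR [] = 1
      simp only [wordP_nil, mul_one]
  · intro L hL
    rw [wordP_xw]
    rcases rel_cases L hL with h | h | h
    · exact (PU43p.valid.real_sound _ h).2
    · rw [h, wordP_nil]
    · obtain ⟨l, hl, hl2⟩ := List.mem_map.1 h
      have hl : l < 6 := List.mem_range.1 hl
      rw [← hl2, wordP_cons, wordP_cons, wordP_nil, mul_one,
        (PU43p.valid.invR_sound l (by show l ≤ 6; omega)).2, inv_mul_cancel]

/-- the covering homomorphism -/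
noncomputable def π : G →* PU43p.P.Grp := Classical.choose exists_hom

theorem π_gR (l : ℕ) (hl : l < 8) : π (gG l) = xw PU43p.P Wl l :=
  Classical.choose_spec exists_hom l hl

theorem π_surjective : Function.Surjective π := by
  rw [← MonoidHom.range_eq_top, eq_top_iff, ← PU43p.valid.gen_top, Subgroup.closure_le]
  rintro _ ⟨y, hy, rfl⟩
  have hy : y < 6 := hy
  interval_cases y
  · exact ⟨gG 0, by rw [π_gR 0 (by decide)]; simp [xw, Wl, wordP_cons, wordP_nil]⟩
  · exact ⟨gG 1, by rw [π_gR 1 (by decide)]; simp [xw, Wl, wordP_cons, wordP_nil]⟩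
  · exact ⟨gG 2, by rw [π_gR 2 (by decide)]; simp [xw, Wl, wordP_cons, wordP_nil]⟩
  · exact ⟨gG 3, by rw [π_gR 3 (by decide)]; simp [xw, Wl, wordP_cons, wordP_nil]⟩
  · exact ⟨gG 4, by rw [π_gR 4 (by decide)]; simp [xw, Wl, wordP_cons, wordP_nil]⟩
  · exact ⟨gG 5, by rw [π_gR 5 (by decide)]; simp [xw, Wl, wordP_cons, wordP_nil]⟩

theorem Z_le_ker : Z ≤ π.ker := by
  rw [Z, Subgroup.zpowers_le]
  show z ∈ π.ker
  rw [MonoidHom.mem_ker]
  show π (gG 6) = 1
  rw [π_gR 6 (by decide)]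
  rfl

theorem card_ker : Nat.card π.ker = 4 := by
  obtain ⟨fG, _, hcard⟩ := C4U43Main.order_aux
  obtain ⟨fG', _, hcard'⟩ := U43pMain.order_aux
  have h := card_eq_of_stem π π_surjective
  rw [hcard, hcard'] at h
  omega

/-- the kernel is the central subgroup generated by `z` -/
theorem ker_eq : π.ker = Z := by
  obtain ⟨fG, _, _⟩ := C4U43Main.order_aux
  have := fG
  symm
  apply Subgroup.eq_of_le_of_card_ge Z_le_ker
  rw [card_ker, card_Z]

theorem cert0 : PC4U43.P.gR 0 ∈ commutator PC4U43.P.Grp := by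
  apply mem_commutator_of_perm PC4U43.P PC4U43.valid 0
    [[0, 0, 0, 0, 0, 0, 0], [2, 2, 1, 1, 2, 2, 1, 1, 3, 3, 1, 1], [0, 0, 0, 3, 4, 1, 3, 4, 1, 3, 7], [6, 6, 6, 5, 2, 0, 2, 0, 4, 0, 3, 1, 3, 1], [0, 0, 0, 2, 1, 2, 1, 1, 1, 5, 1, 3, 5, 7, 7]]
    (by decide +kernel) (by decide +kernel)
    [0, 0, 0, 0, 0, 0, 0, 0, 0, 0, 0, 0, 0, 0, 0, 2, 2, 2, 2, 2, 2, 2, 2, 4, 4, 4, 6, 6, 6]
    (by decide +kernel) (by decide +kernel)

theorem cert2 : PC4U43.P.gR 2 ∈ commutator PC4U43.P.Grp := by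
  apply mem_commutator_of_perm PC4U43.P PC4U43.valid 2
    [[0, 0, 0, 0, 0, 0, 0], [6, 2, 0, 5, 2, 0, 5, 2, 1, 1, 1], [6, 6, 6, 4, 3, 1, 1, 1, 3, 0, 4, 1, 1, 1, 1], [7, 7, 7, 7]]
    (by decide +kernel) (by decide +kernel)
    [0, 0, 0, 0, 0, 0, 0, 0, 0, 0, 2, 2, 4, 4, 6, 6, 6, 6]
    (by decide +kernel) (by decide +kernel)

theorem cert4 : PC4U43.P.gR 4 ∈ commutator PC4U43.P.Grp := by
  apply mem_commutator_of_perm PC4U43.P PC4U43.valid 4
    [[0, 0, 2, 1, 2, 0, 3, 0, 2, 1, 2], [4, 4, 4, 4, 4, 4, 4], [6, 6, 5, 3, 5, 3, 5, 3, 5, 3], [0, 0, 0, 2, 1, 2, 1, 1, 1, 5, 1, 3, 5, 7, 7]]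
    (by decide +kernel) (by decide +kernel)
    [0, 0, 0, 0, 0, 0, 0, 2, 2, 2, 2, 2, 2, 4, 4, 4, 4, 4, 4, 6, 6]
    (by decide +kernel) (by decide +kernel)

theorem cert6 : PC4U43.P.gR 6 ∈ commutator PC4U43.P.Grp := by
  apply mem_commutator_of_perm PC4U43.P PC4U43.valid 6
    [[0, 0, 0, 0, 0, 0, 0], [2, 2, 1, 1, 2, 2, 1, 1, 3, 3, 1, 1], [0, 0, 0, 3, 4, 1, 3, 4, 1, 3, 7], [0, 0, 0, 2, 1, 2, 1, 1, 1, 5, 1, 3, 5, 7, 7], [6, 6, 6, 6]]
    (by decide +kernel) (by decide +kernel)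
    [0, 0, 0, 0, 0, 0, 0, 0, 0, 0, 0, 0, 0, 2, 2, 2, 2, 2, 2, 4, 4, 6, 6, 6]
    (by decide +kernel) (by decide +kernel)

/-- the generators are products of commutators -/
theorem gR_mem_commutator (l : ℕ) (hl : l < 8) : gG l ∈ commutator G := by
  interval_cases l
  · exact cert0
  · rw [show (1 : ℕ) = PC4U43.P.invR 0 from rfl, hinv 0 (by decide)]
    exact Subgroup.inv_mem _ cert0
  · exact cert2
  · rw [show (3 : ℕ) = PC4U43.P.invR 2 from rfl, hinv 2 (by decide)]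
    exact Subgroup.inv_mem _ cert2
  · exact cert4
  · rw [show (5 : ℕ) = PC4U43.P.invR 4 from rfl, hinv 4 (by decide)]
    exact Subgroup.inv_mem _ cert4
  · exact cert6
  · rw [show (7 : ℕ) = PC4U43.P.invR 6 from rfl, hinv 6 (by decide)]
    exact Subgroup.inv_mem _ cert6

theorem perfect : commutator G = ⊤ :=
  commutator_eq_top_of_letters PC4U43.P PC4U43.valid gR_mem_commutator

/-- the covering homomorphism is a stem extension -/
theorem isStem : IsStemExtension π := by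
  refine ⟨π_surjective, ?_, ?_⟩
  · rw [ker_eq]
    exact Z_le_center
  · rw [perfect]
    exact le_top

/-- the kernel is cyclic of order 4 -/
theorem ker_equiv : Nonempty (π.ker ≃* Multiplicative (ZMod 4)) := by
  have h1 : IsCyclic Z := by
    unfold Z
    infer_instance
  have h1' : IsCyclic π.ker := by
    rw [ker_eq]
    exact h1
  have h2 : Nat.card (Multiplicative (ZMod 4)) = 4 := by
    rw [Nat.card_eq_fintype_card]
    exact ZMod.card 4
  exact ⟨mulEquivOfCyclicCardEq (card_ker.trans h2.symm)⟩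

end Cfsg.Agent.Lib.Helper4.C4U43Cover
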