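import Mathlib
import Cfsg.Agent.Lib.Helper4.TCD_C9U43R_Fin
import Cfsg.Agent.Lib.Helper4.TCD_C9U43L_Fin
import Cfsg.Agent.Lib.Helper4.U43pMain
import Cfsg.Agent.Lib.Helper4.TC20
import Cfsg.Agent.Lib.Helper4.StemLib5
import Cfsg.Agent.Lib.Helper4.AbelKer

/-!
The presented group `C9U43` (the ninefold cover of the unitary group U4(3)) has order 9 · 3265920 = 29393280 and
acts faithfully on 4860 points.  Upper bound: modulo the central subgroup generated by `a` and `b` (of order at
most 9) it is an image of the presented group `U43p`.  Lower bound: a strong generating set in the permutation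
representation.
-/

set_option autoImplicit false

namespace Cfsg.Agent.Lib.Helper4.C9U43Main

open Cfsg Cfsg.Agent.Lib.Helper4.TC Cfsg.Agent.Lib.Helper4.TCD Cfsg.Agent.Lib.Helper4.TC.Log
  Cfsg.Agent.Lib.Helper4.Stem Cfsg.Agent.Lib.Helper4.AbelKer

local notation "G" => PC9U43.P.Grp
local notation "gG" => PC9U43.P.gR

theorem hinv (y : ℕ) (hy : y < 10) : gG (PC9U43.P.invR y) = (gG y)⁻¹ :=
  (PC9U43.valid.invR_sound y (by show y ≤ 10; omega)).2

/-- the first central element of order 3 -/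
noncomputable def a : G := gG 6
/-- the second central element of order 3 -/
noncomputable def b : G := gG 8

theorem comm_rel : ∀ p ∈ [(6, 0), (6, 2), (6, 4), (8, 0), (8, 2), (8, 4), (6, 8)],
    [p.1 + 1, p.2 + 1, p.1, p.2] ∈ PC9U43.P.real := by decide +kernel

theorem comm_of_rel (c x : ℕ) (hc : c < 10) (hx : x < 10) (hci : PC9U43.P.invR c = c + 1)
    (hxi : PC9U43.P.invR x = x + 1) (h : [c + 1, x + 1, c, x] ∈ PC9U43.P.real) :
    gG c * gG x = gG x * gG c := by
  have h1 := (PC9U43.valid.real_sound _ h).2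
  simp only [wordP_cons, wordP_nil, mul_one] at h1
  rw [← hci, ← hxi, hinv c hc, hinv x hx] at h1
  calc gG c * gG x = gG x * gG c * ((gG c)⁻¹ * ((gG x)⁻¹ * (gG c * gG x))) := by group
    _ = gG x * gG c := by rw [h1, mul_one]

theorem comm_inv {Γ : Type*} [Group Γ] (a b : Γ) (h : a * b = b * a) : a * b⁻¹ = b⁻¹ * a := by
  calc a * b⁻¹ = b⁻¹ * (b * a) * b⁻¹ := by group
    _ = b⁻¹ * (a * b) * b⁻¹ := by rw [h]
    _ = b⁻¹ * a := by group

theorem c60 : gG 6 * gG 0 = gG 0 * gG 6 := comm_of_rel 6 0 (by decide) (by decide) rfl rfl (comm_rel (6, 0) (by decide))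
theorem c62 : gG 6 * gG 2 = gG 2 * gG 6 := comm_of_rel 6 2 (by decide) (by decide) rfl rfl (comm_rel (6, 2) (by decide))
theorem c64 : gG 6 * gG 4 = gG 4 * gG 6 := comm_of_rel 6 4 (by decide) (by decide) rfl rfl (comm_rel (6, 4) (by decide))
theorem c80 : gG 8 * gG 0 = gG 0 * gG 8 := comm_of_rel 8 0 (by decide) (by decide) rfl rfl (comm_rel (8, 0) (by decide))
theorem c82 : gG 8 * gG 2 = gG 2 * gG 8 := comm_of_rel 8 2 (by decide) (by decide) rfl rfl (comm_rel (8, 2) (by decide))
theorem c84 : gG 8 * gG 4 = gG 4 * gG 8 := comm_of_rel 8 4 (by decide) (by decide) rfl rfl (comm_rel (8, 4) (by decide))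
theorem c68 : gG 6 * gG 8 = gG 8 * gG 6 := comm_of_rel 6 8 (by decide) (by decide) rfl rfl (comm_rel (6, 8) (by decide))

theorem a_comm (x : ℕ) (hx : x < 10) : a * gG x = gG x * a := by
  have i1 : gG 1 = (gG 0)⁻¹ := hinv 0 (by decide)
  have i3 : gG 3 = (gG 2)⁻¹ := hinv 2 (by decide)
  have i5 : gG 5 = (gG 4)⁻¹ := hinv 4 (by decide)
  have i7 : gG 7 = (gG 6)⁻¹ := hinv 6 (by decide)
  have i9 : gG 9 = (gG 8)⁻¹ := hinv 8 (by decide)
  show gG 6 * gG x = gG x * gG 6
  interval_cases x
  · exact c60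
  · rw [i1]; exact comm_inv _ _ c60
  · exact c62
  · rw [i3]; exact comm_inv _ _ c62
  · exact c64
  · rw [i5]; exact comm_inv _ _ c64
  · rfl
  · rw [i7, mul_inv_cancel, inv_mul_cancel]
  · exact c68
  · rw [i9]; exact comm_inv _ _ c68

theorem b_comm (x : ℕ) (hx : x < 10) : b * gG x = gG x * b := by
  have i1 : gG 1 = (gG 0)⁻¹ := hinv 0 (by decide)
  have i3 : gG 3 = (gG 2)⁻¹ := hinv 2 (by decide)
  have i5 : gG 5 = (gG 4)⁻¹ := hinv 4 (by decide)
  have i7 : gG 7 = (gG 6)⁻¹ := hinv 6 (by decide)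
  have i9 : gG 9 = (gG 8)⁻¹ := hinv 8 (by decide)
  show gG 8 * gG x = gG x * gG 8
  interval_cases x
  · exact c80
  · rw [i1]; exact comm_inv _ _ c80
  · exact c82
  · rw [i3]; exact comm_inv _ _ c82
  · exact c84
  · rw [i5]; exact comm_inv _ _ c84
  · exact c68.symm
  · rw [i7]; exact comm_inv _ _ c68.symm
  · rfl
  · rw [i9, mul_inv_cancel, inv_mul_cancel]

theorem central_of_comm (c : G) (h : ∀ x, x < 10 → c * gG x = gG x * c) : c ∈ Subgroup.center G := by
  rw [Subgroup.mem_center_iff]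
  intro γ
  have hγ : γ ∈ Subgroup.closure (gG '' Set.Iio PC9U43.P.k) := by
    rw [PC9U43.valid.gen_top]
    trivial
  induction hγ using Subgroup.closure_induction with
  | mem s hs =>
    obtain ⟨x, hx, rfl⟩ := hs
    exact (h x hx).symm
  | one => simp
  | mul a b _ _ iha ihb => rw [mul_assoc, ihb, ← mul_assoc, iha, mul_assoc]
  | inv a _ iha =>
    calc a⁻¹ * c = a⁻¹ * (c * a) * a⁻¹ := by group
      _ = a⁻¹ * (a * c) * a⁻¹ := by rw [iha]
      _ = c * a⁻¹ := by group

theorem a_central : a ∈ Subgroup.center G := central_of_comm a a_comm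
theorem b_central : b ∈ Subgroup.center G := central_of_comm b b_comm

theorem a_pow3 : a ^ 3 = 1 := by
  have h := (PC9U43.valid.real_sound (List.replicate 3 [6]).flatten (by decide +kernel)).2
  rw [wordP_replicate_flatten, wordP_cons, wordP_nil, mul_one] at h
  exact h

theorem b_pow3 : b ^ 3 = 1 := by
  have h := (PC9U43.valid.real_sound (List.replicate 3 [8]).flatten (by decide +kernel)).2
  rw [wordP_replicate_flatten, wordP_cons, wordP_nil, mul_one] at h
  exact h

/-- the central subgroup generated by `a` and `b` -/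
noncomputable def Z : Subgroup G := Subgroup.closure {a, b}

theorem Z_le_center : Z ≤ Subgroup.center G := by
  rw [Z, Subgroup.closure_le]
  rintro x hx
  rcases hx with rfl | rfl
  · exact a_central
  · exact b_central

instance Z_normal : Z.Normal := normal_of_le_center Z Z_le_center

theorem card_Z_le : Finite Z ∧ Nat.card Z ≤ 9 :=
  card_closure_pair_le a b 3 3 (by decide) (by decide) a_pow3 b_pow3 c68

theorem letter_mem_Z (x : ℕ) (h6 : 6 ≤ x) (h10 : x < 10) : gG x ∈ Z := by
  have ma : gG 6 ∈ Z := Subgroup.subset_closure (by left; rfl)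
  have mb : gG 8 ∈ Z := Subgroup.subset_closure (by right; rfl)
  have i7 : gG 7 = (gG 6)⁻¹ := hinv 6 (by decide)
  have i9 : gG 9 = (gG 8)⁻¹ := hinv 8 (by decide)
  interval_cases x
  · exact ma
  · rw [i7]; exact inv_mem ma
  · exact mb
  · rw [i9]; exact inv_mem mb

/-- a relator of `U43p` followed by central letters -/
theorem mem_Z_of_rel (L C : List ℕ) (h : L ++ C ∈ PC9U43.P.real) (hC : ∀ x ∈ C, 6 ≤ x ∧ x < 10) :
    wordP gG L ∈ Z := by
  have h1 := (PC9U43.valid.real_sound _ h).2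
  rw [wordP_append] at h1
  have h2 : wordP gG C ∈ Z := Sgs.wordP_mem_closure gG Z C (fun e he => letter_mem_Z e (hC e he).1 (hC e he).2)
  have h3 : wordP gG L = (wordP gG C)⁻¹ := eq_inv_of_mul_eq_one_left h1
  rw [h3]
  exact inv_mem h2

/-- the central parts of the relators -/
def cens : List (List ℕ) := [[], [7], [9], [9, 9]]

theorem cens_ok : ∀ C ∈ cens, ∀ x ∈ C, 6 ≤ x ∧ x < 10 := by decide

theorem partner : ∀ L ∈ PU43p.P.real, ∃ C ∈ cens, L ++ C ∈ PC9U43.P.real := by decide +kernel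

/-- the images of the letters of `U43p` modulo `Z` -/
noncomputable def gψ (l : ℕ) : G ⧸ Z := QuotientGroup.mk (gG l)

theorem wordP_gψ (L : List ℕ) : wordP gψ L = QuotientGroup.mk (wordP gG L) := by
  induction L with
  | nil => rfl
  | cons x L ih => rw [wordP_cons, wordP_cons, ih]; rfl

theorem exists_ψ : ∃ ψ : PU43p.P.Grp →* G ⧸ Z, ∀ l, l < PU43p.P.k → ψ (PU43p.P.gR l) = gψ l := by
  apply exists_hom_of_letters PU43p.P PU43p.valid gψ
  · intro l hl
    have hl : l < 6 := hl
    have e : PU43p.P.invR l = PC9U43.P.invR l := by interval_cases l <;> rfl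
    show (QuotientGroup.mk (gG l * gG (PU43p.P.invR l)) : G ⧸ Z) = 1
    rw [e, hinv l (by omega), mul_inv_cancel]
    rfl
  · intro L hL
    rw [wordP_gψ, QuotientGroup.eq_one_iff]
    obtain ⟨C, hC, hLC⟩ := partner L hL
    exact mem_Z_of_rel L C hLC (cens_ok C hC)

/-- the homomorphism from `U43p` onto the quotient by `Z` -/
noncomputable def ψ : PU43p.P.Grp →* G ⧸ Z := Classical.choose exists_ψ

theorem ψ_gR (l : ℕ) (hl : l < 6) : ψ (PU43p.P.gR l) = gψ l := Classical.choose_spec exists_ψ l hl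

theorem ψ_surjective : Function.Surjective ψ := by
  rw [← MonoidHom.range_eq_top, eq_top_iff]
  intro q hq
  clear hq
  obtain ⟨g, rfl⟩ := QuotientGroup.mk_surjective q
  have hg : g ∈ Subgroup.closure (gG '' Set.Iio PC9U43.P.k) := by
    rw [PC9U43.valid.gen_top]
    trivial
  induction hg using Subgroup.closure_induction with
  | mem s hs =>
    obtain ⟨x, hx, rfl⟩ := hs
    have hx : x < 10 := hx
    by_cases h4 : x < 6
    · exact ⟨PU43p.P.gR x, ψ_gR x h4⟩
    · have : (QuotientGroup.mk (gG x) : G ⧸ Z) = 1 := by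
        rw [QuotientGroup.eq_one_iff]
        exact letter_mem_Z x (by omega) hx
      rw [this]
      exact one_mem _
  | one => exact one_mem _
  | mul a b _ _ iha ihb => exact mul_mem iha ihb
  | inv a _ iha => exact inv_mem iha

/-- the order and the faithful permutation representation -/
theorem order_aux : Finite G ∧ Function.Injective C9U43R.prep.phi ∧ Nat.card G = 29393280 := by
  obtain ⟨fK, _, cK⟩ := U43pMain.order_aux
  obtain ⟨fZ, cZ⟩ := card_Z_le
  have fQ : Finite (G ⧸ Z) := Finite.of_surjective ψ ψ_surjective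
  have cQ : Nat.card (G ⧸ Z) ≤ 3265920 := by
    rw [← cK]
    exact Nat.card_le_card_of_surjective ψ ψ_surjective
  have hmul : Nat.card G = Nat.card (G ⧸ Z) * Nat.card Z := Subgroup.card_eq_card_quotient_mul_card_subgroup Z
  have hQpos : 0 < Nat.card (G ⧸ Z) := Nat.card_pos
  have hZpos : 0 < Nat.card Z := Nat.card_pos
  have fG : Finite G := by
    apply Nat.finite_of_card_ne_zero
    rw [hmul]
    exact Nat.mul_ne_zero (by omega) (by omega)
  have hub : Nat.card G ≤ 29393280 := by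
    rw [hmul]
    calc Nat.card (G ⧸ Z) * Nat.card Z ≤ 3265920 * 9 := Nat.mul_le_mul cQ cZ
      _ = 29393280 := by norm_num
  obtain ⟨hinj, hcard⟩ := C9U43R.prep.card_eq C9U43L.S rfl rfl C9U43L.htab0 C9U43L.ok 29393280 (by decide)
    C9U43L.prod_eq fG hub
  exact ⟨fG, hinj, hcard⟩

/-- the central subgroup has order 9 -/
theorem card_Z : Nat.card Z = 9 := by
  obtain ⟨fK, _, cK⟩ := U43pMain.order_aux
  obtain ⟨fG, _, hcard⟩ := order_aux
  obtain ⟨fZ, cZ⟩ := card_Z_le
  have cQ : Nat.card (G ⧸ Z) ≤ 3265920 := by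
    rw [← cK]
    exact Nat.card_le_card_of_surjective ψ ψ_surjective
  have hmul : Nat.card G = Nat.card (G ⧸ Z) * Nat.card Z := Subgroup.card_eq_card_quotient_mul_card_subgroup Z
  rw [hcard] at hmul
  by_contra hne
  have h1 : Nat.card Z ≤ 8 := by omega
  have : Nat.card (G ⧸ Z) * Nat.card Z ≤ 3265920 * 8 := Nat.mul_le_mul cQ h1
  omega

end Cfsg.Agent.Lib.Helper4.C9U43Main
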