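import Mathlib
import Cfsg.Agent.Lib.Helper4.C9U43Main
import Cfsg.Agent.Lib.Helper4.AbelCert
import Cfsg.Agent.Lib.Helper4.AbelKer2
import Cfsg.Agent.Lib.Helper4.StemLib6
import Cfsg.Agent.Lib.Helper4.RelLib

/-!
The presented group `C9U43` is a perfect central extension of the presented group `U43p` whose kernel is
elementary abelian of order 9.
-/

set_option autoImplicit false

namespace Cfsg.Agent.Lib.Helper4.C9U43Cover

open Cfsg Cfsg.Agent.Lib.Helper4.TC Cfsg.Agent.Lib.Helper4.TCD Cfsg.Agent.Lib.Helper4.TC.Log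
  Cfsg.Agent.Lib.Helper4.Stem Cfsg.Agent.Lib.Helper4.AbelCert Cfsg.Agent.Lib.Helper4.AbelKer
  Cfsg.Agent.Lib.Helper4.C9U43Main

local notation "G" => PC9U43.P.Grp
local notation "gG" => PC9U43.P.gR

/-- the letters of `C9U43` as words of `U43p`: the central letters are killed -/
def Wl (l : ℕ) : List ℕ := [[0], [1], [2], [3], [4], [5], [], [], [], []].getD l []

/-- the image of a relator is a relator of `U43p`, or empty, or a letter and its inverse -/
theorem rel_cases : ∀ L ∈ PC9U43.P.real, L.flatMap Wl ∈ PU43p.P.real ∨ L.flatMap Wl = [] ∨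
    L.flatMap Wl ∈ (List.range 6).map (fun l => [PU43p.P.invR l, l]) := by decide +kernel

theorem exists_hom : ∃ π : G →* PU43p.P.Grp, ∀ l, l < PC9U43.P.k →
    π (gG l) = xw PU43p.P Wl l := by
  apply exists_hom_of_letters PC9U43.P PC9U43.valid (xw PU43p.P Wl)
  · intro l hl
    have hl : l < 10 := hl
    have h1 : PU43p.P.gR 1 = (PU43p.P.gR 0)⁻¹ := (PU43p.valid.invR_sound 0 (by decide)).2
    have h3 : PU43p.P.gR 3 = (PU43p.P.gR 2)⁻¹ := (PU43p.valid.invR_sound 2 (by decide)).2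
    have h5 : PU43p.P.gR 5 = (PU43p.P.gR 4)⁻¹ := (PU43p.valid.invR_sound 4 (by decide)).2
    interval_cases l
    · show wordP PU43p.P.gR [0] * wordP PU43p.P.gR [1] = 1
      simp only [wordP_cons, wordP_nil, mul_one, h1, mul_inv_cancel]
    · show wordP PU43p.P.gR [1] * wordP PU43p.P.gR [0] = 1
      simp only [wordP_cons, wordP_nil, mul_one, h1, inv_mul_cancel]
    · show wordP PU43p.P.gR [2] * wordP PU43p.P.gR [3] = 1
      simp only [wordP_cons, wordP_nil, mul_one, h3, mul_inv_cancel]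
    · show wordP PU43p.P.gR [3] * wordP PU43p.P.gR [2] = 1
      simp only [wordP_cons, wordP_nil, mul_one, h3, inv_mul_cancel]
    · show wordP PU43p.P.gR [4] * wordP PU43p.P.gR [5] = 1
      simp only [wordP_cons, wordP_nil, mul_one, h5, mul_inv_cancel]
    · show wordP PU43p.P.gR [5] * wordP PU43p.P.gR [4] = 1
      simp only [wordP_cons, wordP_nil, mul_one, h5, inv_mul_cancel]
    · show wordP PU43p.P.gR [] * wordP PU43p.P.gR [] = 1
      simp only [wordP_nil, mul_one]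
    · show wordP PU43p.P.gR [] * wordP PU43p.P.gR [] = 1
      simp only [wordP_nil, mul_one]
    · show wordP PU43p.P.gR [] * wordP PU43p.P.gR [] = 1
      simp only [wordP_nil, mul_one]
    · show wordP PU43p.P.gR [] * wordP PU43p.P.gR [] = 1
      simp only [wordP_nil, mul_one]
  · intro L hL
    rw [wordP_xw]
    rcases rel_cases L hL with h | h | h
    · exact (PU43p.valid.real_sound _ h).2
    · rw [h, wordP_nil]
    · obtain ⟨l, hl, hl2⟩ := List.mem_map.1 h
      have hl : l < 6 := List.mem_range.1 hl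
      rw [← hl2, wordP_cons, wordP_cons, wordP_nil, mul_one,
        (PU43p.valid.invR_sound l (by show l ≤ 6; omega)).2, inv_mul_cancel]

/-- the covering homomorphism -/
noncomputable def π : G →* PU43p.P.Grp := Classical.choose exists_hom

theorem π_gR (l : ℕ) (hl : l < 10) : π (gG l) = xw PU43p.P Wl l :=
  Classical.choose_spec exists_hom l hl

theorem π_surjective : Function.Surjective π := by
  rw [← MonoidHom.range_eq_top, eq_top_iff, ← PU43p.valid.gen_top, Subgroup.closure_le]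
  rintro _ ⟨y, hy, rfl⟩
  have hy : y < 6 := hy
  interval_cases y
  · exact ⟨gG 0, by rw [π_gR 0 (by decide)]; simp [xw, Wl, wordP_cons, wordP_nil]⟩
  · exact ⟨gG 1, by rw [π_gR 1 (by decide)]; simp [xw, Wl, wordP_cons, wordP_nil]⟩
  · exact ⟨gG 2, by rw [π_gR 2 (by decide)]; simp [xw, Wl, wordP_cons, wordP_nil]⟩
  · exact ⟨gG 3, by rw [π_gR 3 (by decide)]; simp [xw, Wl, wordP_cons, wordP_nil]⟩
  · exact ⟨gG 4, by rw [π_gR 4 (by decide)]; simp [xw, Wl, wordP_cons, wordP_nil]⟩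
  · exact ⟨gG 5, by rw [π_gR 5 (by decide)]; simp [xw, Wl, wordP_cons, wordP_nil]⟩

theorem Z_le_ker : Z ≤ π.ker := by
  rw [Z, Subgroup.closure_le]
  rintro x hx
  rcases hx with rfl | rfl
  · show a ∈ π.ker
    rw [MonoidHom.mem_ker]
    show π (gG 6) = 1
    rw [π_gR 6 (by decide)]
    rfl
  · show b ∈ π.ker
    rw [MonoidHom.mem_ker]
    show π (gG 8) = 1
    rw [π_gR 8 (by decide)]
    rfl

theorem card_ker : Nat.card π.ker = 9 := by
  obtain ⟨fG, _, hcard⟩ := C9U43Main.order_aux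
  obtain ⟨fG', _, hcard'⟩ := U43pMain.order_aux
  have h := card_eq_of_stem π π_surjective
  rw [hcard, hcard'] at h
  omega

/-- the kernel is the central subgroup generated by `a` and `b` -/
theorem ker_eq : π.ker = Z := by
  obtain ⟨fG, _, _⟩ := C9U43Main.order_aux
  have := fG
  symm
  apply Subgroup.eq_of_le_of_card_ge Z_le_ker
  rw [card_ker, card_Z]

theorem cert0 : PC9U43.P.gR 0 ∈ commutator PC9U43.P.Grp := by
  apply mem_commutator_of_perm PC9U43.P PC9U43.valid 0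
    [[5, 2, 0, 2, 0, 4, 0, 3, 1, 3, 1]]
    (by decide +kernel) (by decide +kernel)
    [0, 0, 2, 2, 4]
    (by decide +kernel) (by decide +kernel)

theorem cert2 : PC9U43.P.gR 2 ∈ commutator PC9U43.P.Grp := by
  apply mem_commutator_of_perm PC9U43.P PC9U43.valid 2
    [[0, 0, 0, 0, 0, 0, 0], [8, 2, 0, 5, 2, 0, 5, 2, 1, 1, 1], [8, 8, 4, 3, 1, 1, 1, 3, 0, 4, 1, 1, 1, 1], [9, 9, 9]]
    (by decide +kernel) (by decide +kernel)
    [0, 0, 0, 0, 0, 0, 0, 0, 0, 0, 2, 2, 4, 4, 8, 8, 8]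
    (by decide +kernel) (by decide +kernel)

theorem cert4 : PC9U43.P.gR 4 ∈ commutator PC9U43.P.Grp := by
  apply mem_commutator_of_perm PC9U43.P PC9U43.valid 4
    [[3, 1, 1, 1, 3, 1, 1, 1, 3, 1, 1, 1], [3, 1, 1, 1, 3, 1, 1, 1, 3, 1, 1, 1], [4, 4, 4, 4, 4, 4, 4], [0, 0, 0, 0, 5, 1, 2, 0, 0, 0, 2, 5, 9, 9], [0, 0, 0, 0, 5, 1, 2, 0, 0, 0, 2, 5, 9, 9], [0, 0, 0, 0, 5, 1, 2, 0, 0, 0, 2, 5, 9, 9], [8, 8, 8], [8, 8, 8]]
    (by decide +kernel) (by decide +kernel)
    [0, 0, 0, 0, 0, 0, 0, 0, 0, 0, 0, 0, 0, 0, 0, 0, 0, 0, 0, 0, 0, 2, 2, 2, 2, 2, 2, 4, 4, 4, 4, 4, 4, 8, 8, 8, 8, 8, 8]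
    (by decide +kernel) (by decide +kernel)

theorem cert6 : PC9U43.P.gR 6 ∈ commutator PC9U43.P.Grp := by
  apply mem_commutator_of_perm PC9U43.P PC9U43.valid 6
    [[3, 1, 1, 1, 3, 1, 1, 1, 3, 1, 1, 1], [5, 5, 5, 5, 5, 5, 5], [2, 4, 2, 4, 2, 4, 2, 4, 7], [2, 4, 2, 4, 2, 4, 2, 4, 7], [0, 0, 0, 3, 4, 1, 3, 4, 1, 3, 9], [0, 2, 0, 2, 1, 5, 1, 3, 1, 3, 4], [8, 8, 4, 2, 0, 4, 0, 0, 0, 3, 0, 3, 1, 1, 1], [0, 0, 2, 0, 0, 3, 0, 5, 0, 5, 5, 5, 0, 5, 3, 9], [6, 6, 6]]
    (by decide +kernel) (by decide +kernel)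
    [0, 0, 0, 0, 0, 0, 0, 0, 0, 0, 0, 0, 0, 0, 0, 0, 0, 2, 2, 2, 2, 2, 2, 2, 2, 2, 2, 2, 2, 4, 4, 4, 4, 4, 4, 4, 4, 4, 4, 4, 4, 4, 6, 6, 8, 8]
    (by decide +kernel) (by decide +kernel)

theorem cert8 : PC9U43.P.gR 8 ∈ commutator PC9U43.P.Grp := by
  apply mem_commutator_of_perm PC9U43.P PC9U43.valid 8
    [[0, 0, 0, 3, 4, 1, 3, 4, 1, 3, 9], [0, 2, 0, 2, 1, 5, 1, 3, 1, 3, 4], [0, 2, 0, 2, 1, 5, 1, 3, 1, 3, 4], [0, 2, 0, 2, 1, 5, 1, 3, 1, 3, 4], [0, 0, 2, 4, 0, 5, 1, 1, 5, 3, 5, 2, 0, 2, 2, 9], [8, 8, 8]]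
    (by decide +kernel) (by decide +kernel)
    [0, 0, 0, 0, 0, 0, 0, 0, 0, 0, 0, 0, 0, 2, 2, 2, 2, 2, 2, 2, 2, 2, 2, 4, 4, 4, 4, 4, 4, 8, 8]
    (by decide +kernel) (by decide +kernel)

/-- the generators are products of commutators -/
theorem gR_mem_commutator (l : ℕ) (hl : l < 10) : gG l ∈ commutator G := by
  interval_cases l
  · exact cert0
  · rw [show (1 : ℕ) = PC9U43.P.invR 0 from rfl, hinv 0 (by decide)]
    exact Subgroup.inv_mem _ cert0
  · exact cert2
  · rw [show (3 : ℕ) = PC9U43.P.invR 2 from rfl, hinv 2 (by decide)]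
    exact Subgroup.inv_mem _ cert2
  · exact cert4
  · rw [show (5 : ℕ) = PC9U43.P.invR 4 from rfl, hinv 4 (by decide)]
    exact Subgroup.inv_mem _ cert4
  · exact cert6
  · rw [show (7 : ℕ) = PC9U43.P.invR 6 from rfl, hinv 6 (by decide)]
    exact Subgroup.inv_mem _ cert6
  · exact cert8
  · rw [show (9 : ℕ) = PC9U43.P.invR 8 from rfl, hinv 8 (by decide)]
    exact Subgroup.inv_mem _ cert8

theorem perfect : commutator G = ⊤ :=
  commutator_eq_top_of_letters PC9U43.P PC9U43.valid gR_mem_commutator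

/-- the covering homomorphism is a stem extension -/
theorem isStem : IsStemExtension π := by
  refine ⟨π_surjective, ?_, ?_⟩
  · rw [ker_eq]
    exact Z_le_center
  · rw [perfect]
    exact le_top

theorem word_ne_one (u : List ℕ) (hu : ∀ x ∈ u, x < 10) (i : ℕ) (hi : i < 4860)
    (h : Tab.act C9U43R.T C9U43R.D u i ≠ i) : wordP gG u ≠ 1 := by
  intro h1
  have h2 := C9U43R.prep.phi_word u hu ⟨i, hi⟩
  rw [h1, map_one] at h2
  exact h h2.symm

/-- the word `a^i b^j` -/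
def zw (i j : ℕ) : List ℕ := List.replicate i 6 ++ List.replicate j 8

theorem zw_lt : ∀ i, i < 3 → ∀ j, j < 3 → ∀ x ∈ zw i j, x < 10 := by decide +kernel

theorem zw_moves : ∀ i, i < 3 → ∀ j, j < 3 → ¬ (i = 0 ∧ j = 0) →
    Tab.act C9U43R.T C9U43R.D (zw i j) 0 ≠ 0 := by decide +kernel

theorem wordP_replicate' (n x : ℕ) : wordP gG (List.replicate n x) = gG x ^ n := by
  induction n with
  | zero => simp [wordP_nil]
  | succ n ih => rw [List.replicate_succ, wordP_cons, ih, pow_succ']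

theorem wordP_zw (i j : ℕ) : wordP gG (zw i j) = a ^ i * b ^ j := by
  rw [zw, wordP_append, wordP_replicate', wordP_replicate']
  rfl

/-- the kernel is the product of two cyclic groups of order 3 -/
theorem ker_equiv : Nonempty (π.ker ≃* Multiplicative (ZMod 3 × ZMod 3)) := by
  obtain ⟨fG, _, _⟩ := C9U43Main.order_aux
  have := fG
  let _ : CommGroup (Subgroup.center G) :=
    { (inferInstance : Group (Subgroup.center G)) with
      mul_comm := fun a b => Subtype.ext (Subgroup.mem_center_iff.1 b.2 a.1) }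
  let x : Subgroup.center G := ⟨a, a_central⟩
  let y : Subgroup.center G := ⟨b, b_central⟩
  have hx : x ^ 3 = 1 := by
    apply Subtype.ext
    exact a_pow3
  have hy : y ^ 3 = 1 := by
    apply Subtype.ext
    exact b_pow3
  let F0 : Multiplicative (ZMod 3 × ZMod 3) →* Subgroup.center G := pairHom x y 3 3 hx hy
  let F : Multiplicative (ZMod 3 × ZMod 3) →* G := (Subgroup.center G).subtype.comp F0
  have hF : ∀ p, F p = a ^ (Multiplicative.toAdd p).1.val * b ^ (Multiplicative.toAdd p).2.val := fun p => rfl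
  have hFinj : Function.Injective F := by
    rw [injective_iff_map_eq_one]
    intro p hp
    rw [hF, ← wordP_zw] at hp
    have h1 := ZMod.val_lt (Multiplicative.toAdd p).1
    have h2 := ZMod.val_lt (Multiplicative.toAdd p).2
    by_contra hne
    apply word_ne_one _ (zw_lt _ h1 _ h2) 0 (by decide) (zw_moves _ h1 _ h2 ?_) hp
    rintro ⟨e1, e2⟩
    apply hne
    have e1' : (Multiplicative.toAdd p).1 = 0 := (ZMod.val_eq_zero _).1 e1
    have e2' : (Multiplicative.toAdd p).2 = 0 := (ZMod.val_eq_zero _).1 e2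
    show Multiplicative.toAdd p = 0
    exact Prod.ext e1' e2'
  have hrange : F.range ≤ π.ker := by
    rintro _ ⟨p, rfl⟩
    rw [ker_eq, hF]
    have ma : a ∈ Z := Subgroup.subset_closure (by left; rfl)
    have mb : b ∈ Z := Subgroup.subset_closure (by right; rfl)
    exact mul_mem (pow_mem ma _) (pow_mem mb _)
  have hcardR : Nat.card F.range = 9 := by
    rw [← Nat.card_congr (MonoidHom.ofInjective hFinj).toEquiv, Nat.card_eq_fintype_card,
      Fintype.card_multiplicative, Fintype.card_prod, ZMod.card]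
  have heq : F.range = π.ker := by
    apply Subgroup.eq_of_le_of_card_ge hrange
    rw [card_ker, hcardR]
  exact ⟨((MonoidHom.ofInjective hFinj).trans (MulEquiv.subgroupCongr heq)).symm⟩

end Cfsg.Agent.Lib.Helper4.C9U43Cover
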