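import Mathlib
import Cfsg.Agent.Lib.Helper4.C4U43Main
import Cfsg.Agent.Lib.Helper4.TCD_C4U43B_Fin
import Cfsg.Agent.Lib.Helper4.TCD_C4U43S
import Cfsg.Agent.Lib.Helper4.U33pStem
import Cfsg.Agent.Lib.Helper4.TC19
import Cfsg.Agent.Lib.Helper4.StemLib6

/-! The presented group `C4U43` contains the presented group `U33p`
as a subgroup of index 2160, and stem extensions with kernel of prime order split over it. -/

set_option autoImplicit false

namespace Cfsg.Agent.Lib.Helper4.C4U43Sub

open Cfsg.Agent.Lib.Helper4.TC Cfsg.Agent.Lib.Helper4.TCD Cfsg.Agent.Lib.Helper4.TC.Log Cfsg.Agent.Lib.Helper4.Stem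

/-- the letters of `U33p` as words of `C4U43` -/
def Wf (l : ℕ) : List ℕ := [[0], [1], [2], [3]].getD l []

theorem checks_eq : PU33p.P.real.map (fun L => L.flatMap Wf) ++
    (List.range 4).map (fun l => Wf l ++ Wf (PU33p.P.invR l)) = C4U43S.chkAll := by decide +kernel

theorem word_one (w : List ℕ) (hw : w ∈ C4U43S.chkAll) : wordP PC4U43.P.gR w = 1 := by
  obtain ⟨fG, hinj, hcard⟩ := C4U43Main.order_aux
  exact C4U43R.prep.word_eq_one hinj w (C4U43S.hAll_lt w hw) (C4U43S.hAll w hw)

theorem emb : WordEmb PU33p.P PC4U43.P.gR Wf where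
  hP := PU33p.valid
  hinv := by
    intro l hl
    have hl : l < 4 := hl
    apply word_one
    rw [← checks_eq]
    apply List.mem_append_right
    exact List.mem_map.2 ⟨l, List.mem_range.2 hl, rfl⟩
  hrel := by
    intro L hL
    apply word_one
    rw [← checks_eq]
    apply List.mem_append_left
    exact List.mem_map.2 ⟨L, hL, rfl⟩

/-- the homomorphism from `U33p` -/
noncomputable def f : PU33p.P.Grp →* PC4U43.P.Grp := emb.hom

theorem f_gR (l : ℕ) (hl : l < 4) : f (PU33p.P.gR l) = wordP PC4U43.P.gR (Wf l) := emb.hom_gR l hl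

theorem range_eq : f.range = Inst.subG PC4U43.P C4U43B.subs := by
  have i1 : PU33p.P.gR 1 = (PU33p.P.gR 0)⁻¹ := (PU33p.valid.invR_sound 0 (by decide)).2
  have i3 : PU33p.P.gR 3 = (PU33p.P.gR 2)⁻¹ := (PU33p.valid.invR_sound 2 (by decide)).2
  have m0 : f (PU33p.P.gR 0) ∈ Inst.subG PC4U43.P C4U43B.subs := by
    rw [f_gR 0 (by decide)]
    exact Subgroup.subset_closure ⟨Wf 0, by decide, rfl⟩
  have m2 : f (PU33p.P.gR 2) ∈ Inst.subG PC4U43.P C4U43B.subs := by
    rw [f_gR 2 (by decide)]
    exact Subgroup.subset_closure ⟨Wf 2, by decide, rfl⟩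
  rw [MonoidHom.range_eq_map, ← PU33p.valid.gen_top, MonoidHom.map_closure]
  apply le_antisymm
  · rw [Subgroup.closure_le]
    rintro _ ⟨_, ⟨l, hl, rfl⟩, rfl⟩
    have hl : l < 4 := hl
    rw [SetLike.mem_coe]
    interval_cases l
    · exact m0
    · rw [i1, map_inv]; exact inv_mem m0
    · exact m2
    · rw [i3, map_inv]; exact inv_mem m2
  · unfold Inst.subG
    rw [Subgroup.closure_le]
    rintro _ ⟨u, hu, rfl⟩
    have hu' : u = Wf 0 ∨ u = Wf 2 := by
      have : C4U43B.subs = [Wf 0, Wf 2] := by decide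
      rw [this] at hu
      simpa using hu
    rcases hu' with rfl | rfl
    · exact Subgroup.subset_closure ⟨PU33p.P.gR 0, ⟨0, by decide, rfl⟩, f_gR 0 (by decide)⟩
    · exact Subgroup.subset_closure ⟨PU33p.P.gR 2, ⟨2, by decide, rfl⟩, f_gR 2 (by decide)⟩

/-- the subgroup is an image of `U33p` -/
theorem sub_card : Finite (Inst.subG PC4U43.P C4U43B.subs) ∧
    Nat.card (Inst.subG PC4U43.P C4U43B.subs) ≤ 6048 := by
  obtain ⟨fK, _, cK⟩ := U33pMain.order_aux
  rw [← range_eq]
  have := fK
  refine ⟨Finite.of_surjective f.rangeRestrict f.rangeRestrict_surjective, ?_⟩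
  rw [← cK]
  exact Nat.card_le_card_of_surjective f.rangeRestrict f.rangeRestrict_surjective

/-- the subgroup has order 6048 -/
theorem sub_card_eq : Nat.card (Inst.subG PC4U43.P C4U43B.subs) = 6048 := by
  obtain ⟨fG, _, hcard⟩ := C4U43Main.order_aux
  have h := Subgroup.card_mul_index (Inst.subG PC4U43.P C4U43B.subs)
  rw [C4U43B.index_eq, hcard] at h
  have e : (13063680 : ℕ) = 6048 * 2160 := by norm_num
  rw [e] at h
  exact Nat.eq_of_mul_eq_mul_right (by norm_num) h

/-- `U33p` embeds -/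
theorem hom_injective : Function.Injective f := by
  obtain ⟨fK, _, cK⟩ := U33pMain.order_aux
  have := fK
  have hs : Function.Surjective f.rangeRestrict := f.rangeRestrict_surjective
  have hc : Nat.card PU33p.P.Grp ≤ Nat.card f.range := by
    rw [range_eq, sub_card_eq, cK]
  have hb : Function.Bijective f.rangeRestrict := hs.bijective_of_nat_card_le hc
  intro x y hxy
  apply hb.1
  apply Subtype.ext
  exact hxy

/-- stem extensions split over the subgroup -/
theorem liftsP_sub (p : ℕ) (hp : p.Prime) :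
    LiftsP PC4U43.P.Grp (Inst.subG PC4U43.P C4U43B.subs) p :=
  liftsP_of_injective f hom_injective _ range_eq p hp U33pStem.perfect (U33pStem.noStem p hp)

end Cfsg.Agent.Lib.Helper4.C4U43Sub
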