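import Cfsg.Agent.Lib.Helper4.TCD_SC4U43p2A_Acc

namespace Cfsg.Agent.Lib.Helper4.TCD.SC4U43p2A

open Cfsg.Agent.Lib.Helper4.TC

set_option maxRecDepth 100000
set_option Elab.async false

theorem c_act104_0 : allRange (fun i => Nat.beq (actR104 i) i) 0 2160 = true := by decide +kernel
theorem c_act105_0 : allRange (fun i => Nat.beq (actR105 i) i) 0 2160 = true := by decide +kernel
theorem c_act106_0 : allRange (fun i => Nat.beq (actR106 i) i) 0 2160 = true := by decide +kernel
theorem c_act107_0 : allRange (fun i => Nat.beq (actR107 i) i) 0 2160 = true := by decide +kernel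
theorem c_act108_0 : allRange (fun i => Nat.beq (actR108 i) i) 0 2160 = true := by decide +kernel
theorem c_act109_0 : allRange (fun i => Nat.beq (actR109 i) i) 0 2160 = true := by decide +kernel
theorem c_act110_0 : allRange (fun i => Nat.beq (actR110 i) i) 0 2160 = true := by decide +kernel
theorem c_act111_0 : allRange (fun i => Nat.beq (actR111 i) i) 0 2160 = true := by decide +kernel
theorem c_act112_0 : allRange (fun i => Nat.beq (actR112 i) i) 0 2160 = true := by decide +kernel
theorem c_act113_0 : allRange (fun i => Nat.beq (actR113 i) i) 0 2160 = true := by decide +kernel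

end Cfsg.Agent.Lib.Helper4.TCD.SC4U43p2A
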