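import Cfsg.Agent.Lib.Helper4.TCD_C4U43R_Acc
import Cfsg.Agent.Lib.Helper4.TC13

namespace Cfsg.Agent.Lib.Helper4.TCD.SC4U43p2W

open Cfsg.Agent.Lib.Helper4.TC Cfsg.Agent.Lib.Helper4.TCD.C4U43R

set_option maxRecDepth 100000
set_option Elab.async false

def chk0 : List Nat := [0, 0, 0, 0, 0, 0, 0]
noncomputable def act0 (i : Nat) : Nat := col1 (col1 (col1 (col1 (col1 (col1 (col1 (i)))))))
theorem act0_eq (i : Nat) : act0 i = Tab.act T D chk0 i := rfl
theorem c0_0 : allRange (fun i => Nat.beq (act0 i) i) 0 2160 = true := by decide +kernel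
theorem h0 : ∀ i, i < T.N → Tab.relActOK T D chk0 i = true := by
  intro i hi
  rw [Tab.relActOK, ← act0_eq]
  exact (range_of_allRange c0_0) i (Nat.zero_le _) hi

def chk1 : List Nat := [2, 2, 2, 2]
noncomputable def act1 (i : Nat) : Nat := col3 (col3 (col3 (col3 (i))))
theorem act1_eq (i : Nat) : act1 i = Tab.act T D chk1 i := rfl
theorem c1_0 : allRange (fun i => Nat.beq (act1 i) i) 0 2160 = true := by decide +kernel
theorem h1 : ∀ i, i < T.N → Tab.relActOK T D chk1 i = true := by
  intro i hi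
  rw [Tab.relActOK, ← act1_eq]
  exact (range_of_allRange c1_0) i (Nat.zero_le _) hi

def chk2 : List Nat := [4, 4, 4, 4, 4, 4, 4]
noncomputable def act2 (i : Nat) : Nat := col5 (col5 (col5 (col5 (col5 (col5 (col5 (i)))))))
theorem act2_eq (i : Nat) : act2 i = Tab.act T D chk2 i := rfl
theorem c2_0 : allRange (fun i => Nat.beq (act2 i) i) 0 2160 = true := by decide +kernel
theorem h2 : ∀ i, i < T.N → Tab.relActOK T D chk2 i = true := by
  intro i hi
  rw [Tab.relActOK, ← act2_eq]
  exact (range_of_allRange c2_0) i (Nat.zero_le _) hi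

def chk3 : List Nat := [0, 0, 0, 3, 4, 1, 3, 4, 1, 3, 7]
noncomputable def act3 (i : Nat) : Nat := col1 (col1 (col1 (col2 (col5 (col0 (col2 (col5 (col0 (col2 (col6 (i)))))))))))
theorem act3_eq (i : Nat) : act3 i = Tab.act T D chk3 i := rfl
theorem c3_0 : allRange (fun i => Nat.beq (act3 i) i) 0 2160 = true := by decide +kernel
theorem h3 : ∀ i, i < T.N → Tab.relActOK T D chk3 i = true := by
  intro i hi
  rw [Tab.relActOK, ← act3_eq]
  exact (range_of_allRange c3_0) i (Nat.zero_le _) hi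

def chk4 : List Nat := [2, 4, 2, 4, 2, 4, 2, 4, 7, 7]
noncomputable def act4 (i : Nat) : Nat := col3 (col5 (col3 (col5 (col3 (col5 (col3 (col5 (col6 (col6 (i))))))))))
theorem act4_eq (i : Nat) : act4 i = Tab.act T D chk4 i := rfl
theorem c4_0 : allRange (fun i => Nat.beq (act4 i) i) 0 2160 = true := by decide +kernel
theorem h4 : ∀ i, i < T.N → Tab.relActOK T D chk4 i = true := by
  intro i hi
  rw [Tab.relActOK, ← act4_eq]
  exact (range_of_allRange c4_0) i (Nat.zero_le _) hi

def chk5 : List Nat := [0, 2, 0, 2, 1, 5, 1, 3, 1, 3, 4, 7, 7, 7]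
noncomputable def act5 (i : Nat) : Nat := col1 (col3 (col1 (col3 (col0 (col4 (col0 (col2 (col0 (col2 (col5 (col6 (col6 (col6 (i))))))))))))))
theorem act5_eq (i : Nat) : act5 i = Tab.act T D chk5 i := rfl
theorem c5_0 : allRange (fun i => Nat.beq (act5 i) i) 0 2160 = true := by decide +kernel
theorem h5 : ∀ i, i < T.N → Tab.relActOK T D chk5 i = true := by
  intro i hi
  rw [Tab.relActOK, ← act5_eq]
  exact (range_of_allRange c5_0) i (Nat.zero_le _) hi

def chk6 : List Nat := [0, 0, 0, 0, 5, 1, 2, 0, 0, 0, 2, 5, 7, 7, 7]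
noncomputable def act6 (i : Nat) : Nat := col1 (col1 (col1 (col1 (col4 (col0 (col3 (col1 (col1 (col1 (col3 (col4 (col6 (col6 (col6 (i)))))))))))))))
theorem act6_eq (i : Nat) : act6 i = Tab.act T D chk6 i := rfl
theorem c6_0 : allRange (fun i => Nat.beq (act6 i) i) 0 2160 = true := by decide +kernel
theorem h6 : ∀ i, i < T.N → Tab.relActOK T D chk6 i = true := by
  intro i hi
  rw [Tab.relActOK, ← act6_eq]
  exact (range_of_allRange c6_0) i (Nat.zero_le _) hi

def chk7 : List Nat := [0, 0, 0, 2, 1, 2, 1, 1, 1, 5, 1, 3, 5, 7, 7]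
noncomputable def act7 (i : Nat) : Nat := col1 (col1 (col1 (col3 (col0 (col3 (col0 (col0 (col0 (col4 (col0 (col2 (col4 (col6 (col6 (i)))))))))))))))
theorem act7_eq (i : Nat) : act7 i = Tab.act T D chk7 i := rfl
theorem c7_0 : allRange (fun i => Nat.beq (act7 i) i) 0 2160 = true := by decide +kernel
theorem h7 : ∀ i, i < T.N → Tab.relActOK T D chk7 i = true := by
  intro i hi
  rw [Tab.relActOK, ← act7_eq]
  exact (range_of_allRange c7_0) i (Nat.zero_le _) hi

def chk8 : List Nat := [0, 0, 3, 1, 3, 0, 0, 4, 2, 1, 1, 5, 2, 7]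
noncomputable def act8 (i : Nat) : Nat := col1 (col1 (col2 (col0 (col2 (col1 (col1 (col5 (col3 (col0 (col0 (col4 (col3 (col6 (i))))))))))))))
theorem act8_eq (i : Nat) : act8 i = Tab.act T D chk8 i := rfl
theorem c8_0 : allRange (fun i => Nat.beq (act8 i) i) 0 2160 = true := by decide +kernel
theorem h8 : ∀ i, i < T.N → Tab.relActOK T D chk8 i = true := by
  intro i hi
  rw [Tab.relActOK, ← act8_eq]
  exact (range_of_allRange c8_0) i (Nat.zero_le _) hi

def chk9 : List Nat := [0, 0, 2, 0, 0, 3, 0, 5, 0, 5, 5, 5, 0, 5, 3, 7, 7]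
noncomputable def act9 (i : Nat) : Nat := col1 (col1 (col3 (col1 (col1 (col2 (col1 (col4 (col1 (col4 (col4 (col4 (col1 (col4 (col2 (col6 (col6 (i)))))))))))))))))
theorem act9_eq (i : Nat) : act9 i = Tab.act T D chk9 i := rfl
theorem c9_0 : allRange (fun i => Nat.beq (act9 i) i) 0 2160 = true := by decide +kernel
theorem h9 : ∀ i, i < T.N → Tab.relActOK T D chk9 i = true := by
  intro i hi
  rw [Tab.relActOK, ← act9_eq]
  exact (range_of_allRange c9_0) i (Nat.zero_le _) hi

def chk10 : List Nat := [0, 0, 2, 4, 0, 5, 1, 1, 5, 3, 5, 2, 0, 2, 2]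
noncomputable def act10 (i : Nat) : Nat := col1 (col1 (col3 (col5 (col1 (col4 (col0 (col0 (col4 (col2 (col4 (col3 (col1 (col3 (col3 (i)))))))))))))))
theorem act10_eq (i : Nat) : act10 i = Tab.act T D chk10 i := rfl
theorem c10_0 : allRange (fun i => Nat.beq (act10 i) i) 0 2160 = true := by decide +kernel
theorem h10 : ∀ i, i < T.N → Tab.relActOK T D chk10 i = true := by
  intro i hi
  rw [Tab.relActOK, ← act10_eq]
  exact (range_of_allRange c10_0) i (Nat.zero_le _) hi

def chk11 : List Nat := [6, 6, 6, 6]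
noncomputable def act11 (i : Nat) : Nat := col7 (col7 (col7 (col7 (i))))
theorem act11_eq (i : Nat) : act11 i = Tab.act T D chk11 i := rfl
theorem c11_0 : allRange (fun i => Nat.beq (act11 i) i) 0 2160 = true := by decide +kernel
theorem h11 : ∀ i, i < T.N → Tab.relActOK T D chk11 i = true := by
  intro i hi
  rw [Tab.relActOK, ← act11_eq]
  exact (range_of_allRange c11_0) i (Nat.zero_le _) hi

def chk12 : List Nat := [7, 1, 6, 0]
noncomputable def act12 (i : Nat) : Nat := col6 (col0 (col7 (col1 (i))))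
theorem act12_eq (i : Nat) : act12 i = Tab.act T D chk12 i := rfl
theorem c12_0 : allRange (fun i => Nat.beq (act12 i) i) 0 2160 = true := by decide +kernel
theorem h12 : ∀ i, i < T.N → Tab.relActOK T D chk12 i = true := by
  intro i hi
  rw [Tab.relActOK, ← act12_eq]
  exact (range_of_allRange c12_0) i (Nat.zero_le _) hi

def chk13 : List Nat := [7, 3, 6, 2]
noncomputable def act13 (i : Nat) : Nat := col6 (col2 (col7 (col3 (i))))
theorem act13_eq (i : Nat) : act13 i = Tab.act T D chk13 i := rfl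
theorem c13_0 : allRange (fun i => Nat.beq (act13 i) i) 0 2160 = true := by decide +kernel
theorem h13 : ∀ i, i < T.N → Tab.relActOK T D chk13 i = true := by
  intro i hi
  rw [Tab.relActOK, ← act13_eq]
  exact (range_of_allRange c13_0) i (Nat.zero_le _) hi

def chk14 : List Nat := [7, 5, 6, 4]
noncomputable def act14 (i : Nat) : Nat := col6 (col4 (col7 (col5 (i))))
theorem act14_eq (i : Nat) : act14 i = Tab.act T D chk14 i := rfl
theorem c14_0 : allRange (fun i => Nat.beq (act14 i) i) 0 2160 = true := by decide +kernel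
theorem h14 : ∀ i, i < T.N → Tab.relActOK T D chk14 i = true := by
  intro i hi
  rw [Tab.relActOK, ← act14_eq]
  exact (range_of_allRange c14_0) i (Nat.zero_le _) hi

def chk15 : List Nat := [0, 0, 0, 0, 0, 0, 0]
noncomputable def act15 (i : Nat) : Nat := col1 (col1 (col1 (col1 (col1 (col1 (col1 (i)))))))
theorem act15_eq (i : Nat) : act15 i = Tab.act T D chk15 i := rfl
theorem c15_0 : allRange (fun i => Nat.beq (act15 i) i) 0 2160 = true := by decide +kernel
theorem h15 : ∀ i, i < T.N → Tab.relActOK T D chk15 i = true := by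
  intro i hi
  rw [Tab.relActOK, ← act15_eq]
  exact (range_of_allRange c15_0) i (Nat.zero_le _) hi

def chk16 : List Nat := [0, 0, 2, 1, 2, 0, 3, 0, 2, 1, 2]
noncomputable def act16 (i : Nat) : Nat := col1 (col1 (col3 (col0 (col3 (col1 (col2 (col1 (col3 (col0 (col3 (i)))))))))))
theorem act16_eq (i : Nat) : act16 i = Tab.act T D chk16 i := rfl
theorem c16_0 : allRange (fun i => Nat.beq (act16 i) i) 0 2160 = true := by decide +kernel
theorem h16 : ∀ i, i < T.N → Tab.relActOK T D chk16 i = true := by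
  intro i hi
  rw [Tab.relActOK, ← act16_eq]
  exact (range_of_allRange c16_0) i (Nat.zero_le _) hi

def chk17 : List Nat := [0, 0, 0, 2, 0, 0, 0, 2, 0, 0, 0, 2]
noncomputable def act17 (i : Nat) : Nat := col1 (col1 (col1 (col3 (col1 (col1 (col1 (col3 (col1 (col1 (col1 (col3 (i))))))))))))
theorem act17_eq (i : Nat) : act17 i = Tab.act T D chk17 i := rfl
theorem c17_0 : allRange (fun i => Nat.beq (act17 i) i) 0 2160 = true := by decide +kernel
theorem h17 : ∀ i, i < T.N → Tab.relActOK T D chk17 i = true := by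
  intro i hi
  rw [Tab.relActOK, ← act17_eq]
  exact (range_of_allRange c17_0) i (Nat.zero_le _) hi

def chk18 : List Nat := [0, 0, 2, 2, 0, 0, 3, 3, 0, 0, 3, 3]
noncomputable def act18 (i : Nat) : Nat := col1 (col1 (col3 (col3 (col1 (col1 (col2 (col2 (col1 (col1 (col2 (col2 (i))))))))))))
theorem act18_eq (i : Nat) : act18 i = Tab.act T D chk18 i := rfl
theorem c18_0 : allRange (fun i => Nat.beq (act18 i) i) 0 2160 = true := by decide +kernel
theorem h18 : ∀ i, i < T.N → Tab.relActOK T D chk18 i = true := by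
  intro i hi
  rw [Tab.relActOK, ← act18_eq]
  exact (range_of_allRange c18_0) i (Nat.zero_le _) hi

def chk19 : List Nat := [4, 0, 3, 1, 3, 0, 3, 5, 1, 2, 1, 2, 0, 2]
noncomputable def act19 (i : Nat) : Nat := col5 (col1 (col2 (col0 (col2 (col1 (col2 (col4 (col0 (col3 (col0 (col3 (col1 (col3 (i))))))))))))))
theorem act19_eq (i : Nat) : act19 i = Tab.act T D chk19 i := rfl
theorem c19_0 : allRange (fun i => Nat.beq (act19 i) i) 0 2160 = true := by decide +kernel
theorem h19 : ∀ i, i < T.N → Tab.relActOK T D chk19 i = true := by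
  intro i hi
  rw [Tab.relActOK, ← act19_eq]
  exact (range_of_allRange c19_0) i (Nat.zero_le _) hi

def chk20 : List Nat := [0, 3, 1, 3, 0, 3, 0, 3, 1, 3, 0, 3, 0, 3, 1, 3, 0, 3]
noncomputable def act20 (i : Nat) : Nat := col1 (col2 (col0 (col2 (col1 (col2 (col1 (col2 (col0 (col2 (col1 (col2 (col1 (col2 (col0 (col2 (col1 (col2 (i))))))))))))))))))
theorem act20_eq (i : Nat) : act20 i = Tab.act T D chk20 i := rfl
theorem c20_0 : allRange (fun i => Nat.beq (act20 i) i) 0 2160 = true := by decide +kernel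
theorem h20 : ∀ i, i < T.N → Tab.relActOK T D chk20 i = true := by
  intro i hi
  rw [Tab.relActOK, ← act20_eq]
  exact (range_of_allRange c20_0) i (Nat.zero_le _) hi

def chk21 : List Nat := [3, 1, 3, 0, 3, 0, 3, 1, 3, 0, 3, 0, 3, 1, 3, 0, 3, 0]
noncomputable def act21 (i : Nat) : Nat := col2 (col0 (col2 (col1 (col2 (col1 (col2 (col0 (col2 (col1 (col2 (col1 (col2 (col0 (col2 (col1 (col2 (col1 (i))))))))))))))))))
theorem act21_eq (i : Nat) : act21 i = Tab.act T D chk21 i := rfl
theorem c21_0 : allRange (fun i => Nat.beq (act21 i) i) 0 2160 = true := by decide +kernel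
theorem h21 : ∀ i, i < T.N → Tab.relActOK T D chk21 i = true := by
  intro i hi
  rw [Tab.relActOK, ← act21_eq]
  exact (range_of_allRange c21_0) i (Nat.zero_le _) hi

def chk22 : List Nat := [4, 1, 2, 0, 2, 1, 2, 5, 3, 1, 3, 0, 3, 0]
noncomputable def act22 (i : Nat) : Nat := col5 (col0 (col3 (col1 (col3 (col0 (col3 (col4 (col2 (col0 (col2 (col1 (col2 (col1 (i))))))))))))))
theorem act22_eq (i : Nat) : act22 i = Tab.act T D chk22 i := rfl
theorem c22_0 : allRange (fun i => Nat.beq (act22 i) i) 0 2160 = true := by decide +kernel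
theorem h22 : ∀ i, i < T.N → Tab.relActOK T D chk22 i = true := by
  intro i hi
  rw [Tab.relActOK, ← act22_eq]
  exact (range_of_allRange c22_0) i (Nat.zero_le _) hi

def chk23 : List Nat := [1, 2, 0, 2, 1, 2, 1, 2, 0, 2, 1, 2, 1, 2, 0, 2, 1, 2]
noncomputable def act23 (i : Nat) : Nat := col0 (col3 (col1 (col3 (col0 (col3 (col0 (col3 (col1 (col3 (col0 (col3 (col0 (col3 (col1 (col3 (col0 (col3 (i))))))))))))))))))
theorem act23_eq (i : Nat) : act23 i = Tab.act T D chk23 i := rfl
theorem c23_0 : allRange (fun i => Nat.beq (act23 i) i) 0 2160 = true := by decide +kernel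
theorem h23 : ∀ i, i < T.N → Tab.relActOK T D chk23 i = true := by
  intro i hi
  rw [Tab.relActOK, ← act23_eq]
  exact (range_of_allRange c23_0) i (Nat.zero_le _) hi

def chk24 : List Nat := [1, 2, 1, 2, 0, 2, 1, 2, 1, 2, 0, 2, 1, 2, 1, 2, 0, 2]
noncomputable def act24 (i : Nat) : Nat := col0 (col3 (col0 (col3 (col1 (col3 (col0 (col3 (col0 (col3 (col1 (col3 (col0 (col3 (col0 (col3 (col1 (col3 (i))))))))))))))))))
theorem act24_eq (i : Nat) : act24 i = Tab.act T D chk24 i := rfl
theorem c24_0 : allRange (fun i => Nat.beq (act24 i) i) 0 2160 = true := by decide +kernel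
theorem h24 : ∀ i, i < T.N → Tab.relActOK T D chk24 i = true := by
  intro i hi
  rw [Tab.relActOK, ← act24_eq]
  exact (range_of_allRange c24_0) i (Nat.zero_le _) hi

def chk25 : List Nat := [5, 1, 2, 1, 2, 0, 2, 4, 3, 0, 3, 1, 3, 0]
noncomputable def act25 (i : Nat) : Nat := col4 (col0 (col3 (col0 (col3 (col1 (col3 (col5 (col2 (col1 (col2 (col0 (col2 (col1 (i))))))))))))))
theorem act25_eq (i : Nat) : act25 i = Tab.act T D chk25 i := rfl
theorem c25_0 : allRange (fun i => Nat.beq (act25 i) i) 0 2160 = true := by decide +kernel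
theorem h25 : ∀ i, i < T.N → Tab.relActOK T D chk25 i = true := by
  intro i hi
  rw [Tab.relActOK, ← act25_eq]
  exact (range_of_allRange c25_0) i (Nat.zero_le _) hi

def chk26 : List Nat := [1, 2, 1, 2, 0, 2, 1, 2, 1, 2, 0, 2, 1, 2, 1, 2, 0, 2]
noncomputable def act26 (i : Nat) : Nat := col0 (col3 (col0 (col3 (col1 (col3 (col0 (col3 (col0 (col3 (col1 (col3 (col0 (col3 (col0 (col3 (col1 (col3 (i))))))))))))))))))
theorem act26_eq (i : Nat) : act26 i = Tab.act T D chk26 i := rfl
theorem c26_0 : allRange (fun i => Nat.beq (act26 i) i) 0 2160 = true := by decide +kernel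
theorem h26 : ∀ i, i < T.N → Tab.relActOK T D chk26 i = true := by
  intro i hi
  rw [Tab.relActOK, ← act26_eq]
  exact (range_of_allRange c26_0) i (Nat.zero_le _) hi

def chk27 : List Nat := [1, 2, 0, 2, 1, 2, 1, 2, 0, 2, 1, 2, 1, 2, 0, 2, 1, 2]
noncomputable def act27 (i : Nat) : Nat := col0 (col3 (col1 (col3 (col0 (col3 (col0 (col3 (col1 (col3 (col0 (col3 (col0 (col3 (col1 (col3 (col0 (col3 (i))))))))))))))))))
theorem act27_eq (i : Nat) : act27 i = Tab.act T D chk27 i := rfl
theorem c27_0 : allRange (fun i => Nat.beq (act27 i) i) 0 2160 = true := by decide +kernel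
theorem h27 : ∀ i, i < T.N → Tab.relActOK T D chk27 i = true := by
  intro i hi
  rw [Tab.relActOK, ← act27_eq]
  exact (range_of_allRange c27_0) i (Nat.zero_le _) hi

def chk28 : List Nat := [5, 3, 1, 3, 0, 3, 0, 4, 2, 1, 2, 0, 2, 1]
noncomputable def act28 (i : Nat) : Nat := col4 (col2 (col0 (col2 (col1 (col2 (col1 (col5 (col3 (col0 (col3 (col1 (col3 (col0 (i))))))))))))))
theorem act28_eq (i : Nat) : act28 i = Tab.act T D chk28 i := rfl
theorem c28_0 : allRange (fun i => Nat.beq (act28 i) i) 0 2160 = true := by decide +kernel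
theorem h28 : ∀ i, i < T.N → Tab.relActOK T D chk28 i = true := by
  intro i hi
  rw [Tab.relActOK, ← act28_eq]
  exact (range_of_allRange c28_0) i (Nat.zero_le _) hi

def chk29 : List Nat := [3, 1, 3, 0, 3, 0, 3, 1, 3, 0, 3, 0, 3, 1, 3, 0, 3, 0]
noncomputable def act29 (i : Nat) : Nat := col2 (col0 (col2 (col1 (col2 (col1 (col2 (col0 (col2 (col1 (col2 (col1 (col2 (col0 (col2 (col1 (col2 (col1 (i))))))))))))))))))
theorem act29_eq (i : Nat) : act29 i = Tab.act T D chk29 i := rfl
theorem c29_0 : allRange (fun i => Nat.beq (act29 i) i) 0 2160 = true := by decide +kernel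
theorem h29 : ∀ i, i < T.N → Tab.relActOK T D chk29 i = true := by
  intro i hi
  rw [Tab.relActOK, ← act29_eq]
  exact (range_of_allRange c29_0) i (Nat.zero_le _) hi

def chk30 : List Nat := [0, 3, 1, 3, 0, 3, 0, 3, 1, 3, 0, 3, 0, 3, 1, 3, 0, 3]
noncomputable def act30 (i : Nat) : Nat := col1 (col2 (col0 (col2 (col1 (col2 (col1 (col2 (col0 (col2 (col1 (col2 (col1 (col2 (col0 (col2 (col1 (col2 (i))))))))))))))))))
theorem act30_eq (i : Nat) : act30 i = Tab.act T D chk30 i := rfl
theorem c30_0 : allRange (fun i => Nat.beq (act30 i) i) 0 2160 = true := by decide +kernel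
theorem h30 : ∀ i, i < T.N → Tab.relActOK T D chk30 i = true := by
  intro i hi
  rw [Tab.relActOK, ← act30_eq]
  exact (range_of_allRange c30_0) i (Nat.zero_le _) hi

def chk31 : List Nat := [4, 0, 1, 2, 1, 2, 0, 2, 1, 5, 3, 1, 3, 0, 3, 0]
noncomputable def act31 (i : Nat) : Nat := col5 (col1 (col0 (col3 (col0 (col3 (col1 (col3 (col0 (col4 (col2 (col0 (col2 (col1 (col2 (col1 (i))))))))))))))))
theorem act31_eq (i : Nat) : act31 i = Tab.act T D chk31 i := rfl
theorem c31_0 : allRange (fun i => Nat.beq (act31 i) i) 0 2160 = true := by decide +kernel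
theorem h31 : ∀ i, i < T.N → Tab.relActOK T D chk31 i = true := by
  intro i hi
  rw [Tab.relActOK, ← act31_eq]
  exact (range_of_allRange c31_0) i (Nat.zero_le _) hi

def chk32 : List Nat := [1, 2, 1, 2, 0, 2, 1, 2, 1, 2, 0, 2, 1, 2, 1, 2, 0, 2]
noncomputable def act32 (i : Nat) : Nat := col0 (col3 (col0 (col3 (col1 (col3 (col0 (col3 (col0 (col3 (col1 (col3 (col0 (col3 (col0 (col3 (col1 (col3 (i))))))))))))))))))
theorem act32_eq (i : Nat) : act32 i = Tab.act T D chk32 i := rfl
theorem c32_0 : allRange (fun i => Nat.beq (act32 i) i) 0 2160 = true := by decide +kernel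
theorem h32 : ∀ i, i < T.N → Tab.relActOK T D chk32 i = true := by
  intro i hi
  rw [Tab.relActOK, ← act32_eq]
  exact (range_of_allRange c32_0) i (Nat.zero_le _) hi

def chk33 : List Nat := [1, 2, 1, 2, 0, 2, 1, 2, 1, 2, 0, 2, 1, 2, 1, 2, 0, 2]
noncomputable def act33 (i : Nat) : Nat := col0 (col3 (col0 (col3 (col1 (col3 (col0 (col3 (col0 (col3 (col1 (col3 (col0 (col3 (col0 (col3 (col1 (col3 (i))))))))))))))))))
theorem act33_eq (i : Nat) : act33 i = Tab.act T D chk33 i := rfl
theorem c33_0 : allRange (fun i => Nat.beq (act33 i) i) 0 2160 = true := by decide +kernel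
theorem h33 : ∀ i, i < T.N → Tab.relActOK T D chk33 i = true := by
  intro i hi
  rw [Tab.relActOK, ← act33_eq]
  exact (range_of_allRange c33_0) i (Nat.zero_le _) hi

def chk34 : List Nat := [4, 0, 3, 1, 3, 0, 3, 0, 1, 5, 1, 2, 1, 2, 0, 2]
noncomputable def act34 (i : Nat) : Nat := col5 (col1 (col2 (col0 (col2 (col1 (col2 (col1 (col0 (col4 (col0 (col3 (col0 (col3 (col1 (col3 (i))))))))))))))))
theorem act34_eq (i : Nat) : act34 i = Tab.act T D chk34 i := rfl
theorem c34_0 : allRange (fun i => Nat.beq (act34 i) i) 0 2160 = true := by decide +kernel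
theorem h34 : ∀ i, i < T.N → Tab.relActOK T D chk34 i = true := by
  intro i hi
  rw [Tab.relActOK, ← act34_eq]
  exact (range_of_allRange c34_0) i (Nat.zero_le _) hi

def chk35 : List Nat := [3, 1, 3, 0, 3, 0, 3, 1, 3, 0, 3, 0, 3, 1, 3, 0, 3, 0]
noncomputable def act35 (i : Nat) : Nat := col2 (col0 (col2 (col1 (col2 (col1 (col2 (col0 (col2 (col1 (col2 (col1 (col2 (col0 (col2 (col1 (col2 (col1 (i))))))))))))))))))
theorem act35_eq (i : Nat) : act35 i = Tab.act T D chk35 i := rfl
theorem c35_0 : allRange (fun i => Nat.beq (act35 i) i) 0 2160 = true := by decide +kernel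
theorem h35 : ∀ i, i < T.N → Tab.relActOK T D chk35 i = true := by
  intro i hi
  rw [Tab.relActOK, ← act35_eq]
  exact (range_of_allRange c35_0) i (Nat.zero_le _) hi

def chk36 : List Nat := [3, 1, 3, 0, 3, 0, 3, 1, 3, 0, 3, 0, 3, 1, 3, 0, 3, 0]
noncomputable def act36 (i : Nat) : Nat := col2 (col0 (col2 (col1 (col2 (col1 (col2 (col0 (col2 (col1 (col2 (col1 (col2 (col0 (col2 (col1 (col2 (col1 (i))))))))))))))))))
theorem act36_eq (i : Nat) : act36 i = Tab.act T D chk36 i := rfl
theorem c36_0 : allRange (fun i => Nat.beq (act36 i) i) 0 2160 = true := by decide +kernel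
theorem h36 : ∀ i, i < T.N → Tab.relActOK T D chk36 i = true := by
  intro i hi
  rw [Tab.relActOK, ← act36_eq]
  exact (range_of_allRange c36_0) i (Nat.zero_le _) hi

def chk37 : List Nat := [4, 1, 0, 3, 0, 3, 1, 3, 0, 5, 1, 2, 1, 2, 0, 2]
noncomputable def act37 (i : Nat) : Nat := col5 (col0 (col1 (col2 (col1 (col2 (col0 (col2 (col1 (col4 (col0 (col3 (col0 (col3 (col1 (col3 (i))))))))))))))))
theorem act37_eq (i : Nat) : act37 i = Tab.act T D chk37 i := rfl
theorem c37_0 : allRange (fun i => Nat.beq (act37 i) i) 0 2160 = true := by decide +kernel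
theorem h37 : ∀ i, i < T.N → Tab.relActOK T D chk37 i = true := by
  intro i hi
  rw [Tab.relActOK, ← act37_eq]
  exact (range_of_allRange c37_0) i (Nat.zero_le _) hi

def chk38 : List Nat := [0, 3, 0, 3, 1, 3, 0, 3, 0, 3, 1, 3, 0, 3, 0, 3, 1, 3]
noncomputable def act38 (i : Nat) : Nat := col1 (col2 (col1 (col2 (col0 (col2 (col1 (col2 (col1 (col2 (col0 (col2 (col1 (col2 (col1 (col2 (col0 (col2 (i))))))))))))))))))
theorem act38_eq (i : Nat) : act38 i = Tab.act T D chk38 i := rfl
theorem c38_0 : allRange (fun i => Nat.beq (act38 i) i) 0 2160 = true := by decide +kernel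
theorem h38 : ∀ i, i < T.N → Tab.relActOK T D chk38 i = true := by
  intro i hi
  rw [Tab.relActOK, ← act38_eq]
  exact (range_of_allRange c38_0) i (Nat.zero_le _) hi

def chk39 : List Nat := [3, 1, 3, 0, 3, 0, 3, 1, 3, 0, 3, 0, 3, 1, 3, 0, 3, 0]
noncomputable def act39 (i : Nat) : Nat := col2 (col0 (col2 (col1 (col2 (col1 (col2 (col0 (col2 (col1 (col2 (col1 (col2 (col0 (col2 (col1 (col2 (col1 (i))))))))))))))))))
theorem act39_eq (i : Nat) : act39 i = Tab.act T D chk39 i := rfl
theorem c39_0 : allRange (fun i => Nat.beq (act39 i) i) 0 2160 = true := by decide +kernel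
theorem h39 : ∀ i, i < T.N → Tab.relActOK T D chk39 i = true := by
  intro i hi
  rw [Tab.relActOK, ← act39_eq]
  exact (range_of_allRange c39_0) i (Nat.zero_le _) hi

def chk40 : List Nat := [4, 1, 2, 0, 2, 1, 2, 1, 0, 5, 3, 1, 3, 0, 3, 0]
noncomputable def act40 (i : Nat) : Nat := col5 (col0 (col3 (col1 (col3 (col0 (col3 (col0 (col1 (col4 (col2 (col0 (col2 (col1 (col2 (col1 (i))))))))))))))))
theorem act40_eq (i : Nat) : act40 i = Tab.act T D chk40 i := rfl
theorem c40_0 : allRange (fun i => Nat.beq (act40 i) i) 0 2160 = true := by decide +kernel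
theorem h40 : ∀ i, i < T.N → Tab.relActOK T D chk40 i = true := by
  intro i hi
  rw [Tab.relActOK, ← act40_eq]
  exact (range_of_allRange c40_0) i (Nat.zero_le _) hi

def chk41 : List Nat := [2, 0, 2, 1, 2, 1, 2, 0, 2, 1, 2, 1, 2, 0, 2, 1, 2, 1]
noncomputable def act41 (i : Nat) : Nat := col3 (col1 (col3 (col0 (col3 (col0 (col3 (col1 (col3 (col0 (col3 (col0 (col3 (col1 (col3 (col0 (col3 (col0 (i))))))))))))))))))
theorem act41_eq (i : Nat) : act41 i = Tab.act T D chk41 i := rfl
theorem c41_0 : allRange (fun i => Nat.beq (act41 i) i) 0 2160 = true := by decide +kernel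
theorem h41 : ∀ i, i < T.N → Tab.relActOK T D chk41 i = true := by
  intro i hi
  rw [Tab.relActOK, ← act41_eq]
  exact (range_of_allRange c41_0) i (Nat.zero_le _) hi

def chk42 : List Nat := [1, 2, 1, 2, 0, 2, 1, 2, 1, 2, 0, 2, 1, 2, 1, 2, 0, 2]
noncomputable def act42 (i : Nat) : Nat := col0 (col3 (col0 (col3 (col1 (col3 (col0 (col3 (col0 (col3 (col1 (col3 (col0 (col3 (col0 (col3 (col1 (col3 (i))))))))))))))))))
theorem act42_eq (i : Nat) : act42 i = Tab.act T D chk42 i := rfl
theorem c42_0 : allRange (fun i => Nat.beq (act42 i) i) 0 2160 = true := by decide +kernel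
theorem h42 : ∀ i, i < T.N → Tab.relActOK T D chk42 i = true := by
  intro i hi
  rw [Tab.relActOK, ← act42_eq]
  exact (range_of_allRange c42_0) i (Nat.zero_le _) hi

def chk43 : List Nat := [4, 2, 0, 3, 1, 3, 0, 3, 3, 5, 1, 2, 1, 2, 0, 2]
noncomputable def act43 (i : Nat) : Nat := col5 (col3 (col1 (col2 (col0 (col2 (col1 (col2 (col2 (col4 (col0 (col3 (col0 (col3 (col1 (col3 (i))))))))))))))))
theorem act43_eq (i : Nat) : act43 i = Tab.act T D chk43 i := rfl
theorem c43_0 : allRange (fun i => Nat.beq (act43 i) i) 0 2160 = true := by decide +kernel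
theorem h43 : ∀ i, i < T.N → Tab.relActOK T D chk43 i = true := by
  intro i hi
  rw [Tab.relActOK, ← act43_eq]
  exact (range_of_allRange c43_0) i (Nat.zero_le _) hi

def chk44 : List Nat := [0, 3, 1, 3, 0, 3, 0, 3, 1, 3, 0, 3, 0, 3, 1, 3, 0, 3]
noncomputable def act44 (i : Nat) : Nat := col1 (col2 (col0 (col2 (col1 (col2 (col1 (col2 (col0 (col2 (col1 (col2 (col1 (col2 (col0 (col2 (col1 (col2 (i))))))))))))))))))
theorem act44_eq (i : Nat) : act44 i = Tab.act T D chk44 i := rfl
theorem c44_0 : allRange (fun i => Nat.beq (act44 i) i) 0 2160 = true := by decide +kernel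
theorem h44 : ∀ i, i < T.N → Tab.relActOK T D chk44 i = true := by
  intro i hi
  rw [Tab.relActOK, ← act44_eq]
  exact (range_of_allRange c44_0) i (Nat.zero_le _) hi

def chk45 : List Nat := [3, 1, 3, 0, 3, 0, 3, 1, 3, 0, 3, 0, 3, 1, 3, 0, 3, 0]
noncomputable def act45 (i : Nat) : Nat := col2 (col0 (col2 (col1 (col2 (col1 (col2 (col0 (col2 (col1 (col2 (col1 (col2 (col0 (col2 (col1 (col2 (col1 (i))))))))))))))))))
theorem act45_eq (i : Nat) : act45 i = Tab.act T D chk45 i := rfl
theorem c45_0 : allRange (fun i => Nat.beq (act45 i) i) 0 2160 = true := by decide +kernel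
theorem h45 : ∀ i, i < T.N → Tab.relActOK T D chk45 i = true := by
  intro i hi
  rw [Tab.relActOK, ← act45_eq]
  exact (range_of_allRange c45_0) i (Nat.zero_le _) hi

def chk46 : List Nat := [4, 2, 1, 2, 0, 2, 1, 2, 3, 5, 3, 1, 3, 0, 3, 0]
noncomputable def act46 (i : Nat) : Nat := col5 (col3 (col0 (col3 (col1 (col3 (col0 (col3 (col2 (col4 (col2 (col0 (col2 (col1 (col2 (col1 (i))))))))))))))))
theorem act46_eq (i : Nat) : act46 i = Tab.act T D chk46 i := rfl
theorem c46_0 : allRange (fun i => Nat.beq (act46 i) i) 0 2160 = true := by decide +kernel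
theorem h46 : ∀ i, i < T.N → Tab.relActOK T D chk46 i = true := by
  intro i hi
  rw [Tab.relActOK, ← act46_eq]
  exact (range_of_allRange c46_0) i (Nat.zero_le _) hi

def chk47 : List Nat := [1, 2, 0, 2, 1, 2, 1, 2, 0, 2, 1, 2, 1, 2, 0, 2, 1, 2]
noncomputable def act47 (i : Nat) : Nat := col0 (col3 (col1 (col3 (col0 (col3 (col0 (col3 (col1 (col3 (col0 (col3 (col0 (col3 (col1 (col3 (col0 (col3 (i))))))))))))))))))
theorem act47_eq (i : Nat) : act47 i = Tab.act T D chk47 i := rfl
theorem c47_0 : allRange (fun i => Nat.beq (act47 i) i) 0 2160 = true := by decide +kernel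
theorem h47 : ∀ i, i < T.N → Tab.relActOK T D chk47 i = true := by
  intro i hi
  rw [Tab.relActOK, ← act47_eq]
  exact (range_of_allRange c47_0) i (Nat.zero_le _) hi

def chk48 : List Nat := [1, 2, 1, 2, 0, 2, 1, 2, 1, 2, 0, 2, 1, 2, 1, 2, 0, 2]
noncomputable def act48 (i : Nat) : Nat := col0 (col3 (col0 (col3 (col1 (col3 (col0 (col3 (col0 (col3 (col1 (col3 (col0 (col3 (col0 (col3 (col1 (col3 (i))))))))))))))))))
theorem act48_eq (i : Nat) : act48 i = Tab.act T D chk48 i := rfl
theorem c48_0 : allRange (fun i => Nat.beq (act48 i) i) 0 2160 = true := by decide +kernel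
theorem h48 : ∀ i, i < T.N → Tab.relActOK T D chk48 i = true := by
  intro i hi
  rw [Tab.relActOK, ← act48_eq]
  exact (range_of_allRange c48_0) i (Nat.zero_le _) hi

def chk49 : List Nat := [4, 3, 0, 3, 1, 3, 0, 3, 2, 5, 1, 2, 1, 2, 0, 2]
noncomputable def act49 (i : Nat) : Nat := col5 (col2 (col1 (col2 (col0 (col2 (col1 (col2 (col3 (col4 (col0 (col3 (col0 (col3 (col1 (col3 (i))))))))))))))))
theorem act49_eq (i : Nat) : act49 i = Tab.act T D chk49 i := rfl
theorem c49_0 : allRange (fun i => Nat.beq (act49 i) i) 0 2160 = true := by decide +kernel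
theorem h49 : ∀ i, i < T.N → Tab.relActOK T D chk49 i = true := by
  intro i hi
  rw [Tab.relActOK, ← act49_eq]
  exact (range_of_allRange c49_0) i (Nat.zero_le _) hi

def chk50 : List Nat := [0, 3, 1, 3, 0, 3, 0, 3, 1, 3, 0, 3, 0, 3, 1, 3, 0, 3]
noncomputable def act50 (i : Nat) : Nat := col1 (col2 (col0 (col2 (col1 (col2 (col1 (col2 (col0 (col2 (col1 (col2 (col1 (col2 (col0 (col2 (col1 (col2 (i))))))))))))))))))
theorem act50_eq (i : Nat) : act50 i = Tab.act T D chk50 i := rfl
theorem c50_0 : allRange (fun i => Nat.beq (act50 i) i) 0 2160 = true := by decide +kernel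
theorem h50 : ∀ i, i < T.N → Tab.relActOK T D chk50 i = true := by
  intro i hi
  rw [Tab.relActOK, ← act50_eq]
  exact (range_of_allRange c50_0) i (Nat.zero_le _) hi

def chk51 : List Nat := [3, 1, 3, 0, 3, 0, 3, 1, 3, 0, 3, 0, 3, 1, 3, 0, 3, 0]
noncomputable def act51 (i : Nat) : Nat := col2 (col0 (col2 (col1 (col2 (col1 (col2 (col0 (col2 (col1 (col2 (col1 (col2 (col0 (col2 (col1 (col2 (col1 (i))))))))))))))))))
theorem act51_eq (i : Nat) : act51 i = Tab.act T D chk51 i := rfl
theorem c51_0 : allRange (fun i => Nat.beq (act51 i) i) 0 2160 = true := by decide +kernel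
theorem h51 : ∀ i, i < T.N → Tab.relActOK T D chk51 i = true := by
  intro i hi
  rw [Tab.relActOK, ← act51_eq]
  exact (range_of_allRange c51_0) i (Nat.zero_le _) hi

def chk52 : List Nat := [4, 3, 1, 2, 0, 2, 1, 2, 2, 5, 3, 1, 3, 0, 3, 0]
noncomputable def act52 (i : Nat) : Nat := col5 (col2 (col0 (col3 (col1 (col3 (col0 (col3 (col3 (col4 (col2 (col0 (col2 (col1 (col2 (col1 (i))))))))))))))))
theorem act52_eq (i : Nat) : act52 i = Tab.act T D chk52 i := rfl
theorem c52_0 : allRange (fun i => Nat.beq (act52 i) i) 0 2160 = true := by decide +kernel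
theorem h52 : ∀ i, i < T.N → Tab.relActOK T D chk52 i = true := by
  intro i hi
  rw [Tab.relActOK, ← act52_eq]
  exact (range_of_allRange c52_0) i (Nat.zero_le _) hi

def chk53 : List Nat := [1, 2, 0, 2, 1, 2, 1, 2, 0, 2, 1, 2, 1, 2, 0, 2, 1, 2]
noncomputable def act53 (i : Nat) : Nat := col0 (col3 (col1 (col3 (col0 (col3 (col0 (col3 (col1 (col3 (col0 (col3 (col0 (col3 (col1 (col3 (col0 (col3 (i))))))))))))))))))
theorem act53_eq (i : Nat) : act53 i = Tab.act T D chk53 i := rfl
theorem c53_0 : allRange (fun i => Nat.beq (act53 i) i) 0 2160 = true := by decide +kernel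
theorem h53 : ∀ i, i < T.N → Tab.relActOK T D chk53 i = true := by
  intro i hi
  rw [Tab.relActOK, ← act53_eq]
  exact (range_of_allRange c53_0) i (Nat.zero_le _) hi

def chk54 : List Nat := [1, 2, 1, 2, 0, 2, 1, 2, 1, 2, 0, 2, 1, 2, 1, 2, 0, 2]
noncomputable def act54 (i : Nat) : Nat := col0 (col3 (col0 (col3 (col1 (col3 (col0 (col3 (col0 (col3 (col1 (col3 (col0 (col3 (col0 (col3 (col1 (col3 (i))))))))))))))))))
theorem act54_eq (i : Nat) : act54 i = Tab.act T D chk54 i := rfl
theorem c54_0 : allRange (fun i => Nat.beq (act54 i) i) 0 2160 = true := by decide +kernel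
theorem h54 : ∀ i, i < T.N → Tab.relActOK T D chk54 i = true := by
  intro i hi
  rw [Tab.relActOK, ← act54_eq]
  exact (range_of_allRange c54_0) i (Nat.zero_le _) hi

def chk55 : List Nat := [5, 3, 1, 3, 0, 3, 0, 3, 2, 4, 2, 1, 2, 0, 2, 1]
noncomputable def act55 (i : Nat) : Nat := col4 (col2 (col0 (col2 (col1 (col2 (col1 (col2 (col3 (col5 (col3 (col0 (col3 (col1 (col3 (col0 (i))))))))))))))))
theorem act55_eq (i : Nat) : act55 i = Tab.act T D chk55 i := rfl
theorem c55_0 : allRange (fun i => Nat.beq (act55 i) i) 0 2160 = true := by decide +kernel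
theorem h55 : ∀ i, i < T.N → Tab.relActOK T D chk55 i = true := by
  intro i hi
  rw [Tab.relActOK, ← act55_eq]
  exact (range_of_allRange c55_0) i (Nat.zero_le _) hi

def chk56 : List Nat := [1, 3, 0, 3, 0, 3, 1, 3, 0, 3, 0, 3, 1, 3, 0, 3, 0, 3]
noncomputable def act56 (i : Nat) : Nat := col0 (col2 (col1 (col2 (col1 (col2 (col0 (col2 (col1 (col2 (col1 (col2 (col0 (col2 (col1 (col2 (col1 (col2 (i))))))))))))))))))
theorem act56_eq (i : Nat) : act56 i = Tab.act T D chk56 i := rfl
theorem c56_0 : allRange (fun i => Nat.beq (act56 i) i) 0 2160 = true := by decide +kernel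
theorem h56 : ∀ i, i < T.N → Tab.relActOK T D chk56 i = true := by
  intro i hi
  rw [Tab.relActOK, ← act56_eq]
  exact (range_of_allRange c56_0) i (Nat.zero_le _) hi

def chk57 : List Nat := [0, 3, 1, 3, 0, 3, 0, 3, 1, 3, 0, 3, 0, 3, 1, 3, 0, 3]
noncomputable def act57 (i : Nat) : Nat := col1 (col2 (col0 (col2 (col1 (col2 (col1 (col2 (col0 (col2 (col1 (col2 (col1 (col2 (col0 (col2 (col1 (col2 (i))))))))))))))))))
theorem act57_eq (i : Nat) : act57 i = Tab.act T D chk57 i := rfl
theorem c57_0 : allRange (fun i => Nat.beq (act57 i) i) 0 2160 = true := by decide +kernel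
theorem h57 : ∀ i, i < T.N → Tab.relActOK T D chk57 i = true := by
  intro i hi
  rw [Tab.relActOK, ← act57_eq]
  exact (range_of_allRange c57_0) i (Nat.zero_le _) hi

def chk58 : List Nat := [5, 3, 2, 1, 2, 1, 2, 0, 2, 4, 3, 0, 3, 1, 3, 0]
noncomputable def act58 (i : Nat) : Nat := col4 (col2 (col3 (col0 (col3 (col0 (col3 (col1 (col3 (col5 (col2 (col1 (col2 (col0 (col2 (col1 (i))))))))))))))))
theorem act58_eq (i : Nat) : act58 i = Tab.act T D chk58 i := rfl
theorem c58_0 : allRange (fun i => Nat.beq (act58 i) i) 0 2160 = true := by decide +kernel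
theorem h58 : ∀ i, i < T.N → Tab.relActOK T D chk58 i = true := by
  intro i hi
  rw [Tab.relActOK, ← act58_eq]
  exact (range_of_allRange c58_0) i (Nat.zero_le _) hi

def chk59 : List Nat := [2, 1, 2, 1, 2, 0, 2, 1, 2, 1, 2, 0, 2, 1, 2, 1, 2, 0]
noncomputable def act59 (i : Nat) : Nat := col3 (col0 (col3 (col0 (col3 (col1 (col3 (col0 (col3 (col0 (col3 (col1 (col3 (col0 (col3 (col0 (col3 (col1 (i))))))))))))))))))
theorem act59_eq (i : Nat) : act59 i = Tab.act T D chk59 i := rfl
theorem c59_0 : allRange (fun i => Nat.beq (act59 i) i) 0 2160 = true := by decide +kernel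
theorem h59 : ∀ i, i < T.N → Tab.relActOK T D chk59 i = true := by
  intro i hi
  rw [Tab.relActOK, ← act59_eq]
  exact (range_of_allRange c59_0) i (Nat.zero_le _) hi

def chk60 : List Nat := [1, 2, 0, 2, 1, 2, 1, 2, 0, 2, 1, 2, 1, 2, 0, 2, 1, 2]
noncomputable def act60 (i : Nat) : Nat := col0 (col3 (col1 (col3 (col0 (col3 (col0 (col3 (col1 (col3 (col0 (col3 (col0 (col3 (col1 (col3 (col0 (col3 (i))))))))))))))))))
theorem act60_eq (i : Nat) : act60 i = Tab.act T D chk60 i := rfl
theorem c60_0 : allRange (fun i => Nat.beq (act60 i) i) 0 2160 = true := by decide +kernel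
theorem h60 : ∀ i, i < T.N → Tab.relActOK T D chk60 i = true := by
  intro i hi
  rw [Tab.relActOK, ← act60_eq]
  exact (range_of_allRange c60_0) i (Nat.zero_le _) hi

def chk61 : List Nat := [4, 0, 0, 3, 0, 3, 1, 3, 1, 5, 3, 3, 0, 2, 1, 2, 1, 3]
noncomputable def act61 (i : Nat) : Nat := col5 (col1 (col1 (col2 (col1 (col2 (col0 (col2 (col0 (col4 (col2 (col2 (col1 (col3 (col0 (col3 (col0 (col2 (i))))))))))))))))))
theorem act61_eq (i : Nat) : act61 i = Tab.act T D chk61 i := rfl
theorem c61_0 : allRange (fun i => Nat.beq (act61 i) i) 0 2160 = true := by decide +kernel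
theorem h61 : ∀ i, i < T.N → Tab.relActOK T D chk61 i = true := by
  intro i hi
  rw [Tab.relActOK, ← act61_eq]
  exact (range_of_allRange c61_0) i (Nat.zero_le _) hi

def chk62 : List Nat := [0, 0, 3, 0, 3, 1, 3, 1, 0, 0, 3, 0, 3, 1, 3, 1, 0, 0, 3, 0, 3, 1, 3, 1]
noncomputable def act62 (i : Nat) : Nat := col1 (col1 (col2 (col1 (col2 (col0 (col2 (col0 (col1 (col1 (col2 (col1 (col2 (col0 (col2 (col0 (col1 (col1 (col2 (col1 (col2 (col0 (col2 (col0 (i))))))))))))))))))))))))
theorem act62_eq (i : Nat) : act62 i = Tab.act T D chk62 i := rfl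
theorem c62_0 : allRange (fun i => Nat.beq (act62 i) i) 0 2160 = true := by decide +kernel
theorem h62 : ∀ i, i < T.N → Tab.relActOK T D chk62 i = true := by
  intro i hi
  rw [Tab.relActOK, ← act62_eq]
  exact (range_of_allRange c62_0) i (Nat.zero_le _) hi

def chk63 : List Nat := [2, 0, 3, 0, 3, 1, 2, 2, 2, 0, 3, 0, 3, 1, 2, 2, 2, 0, 3, 0, 3, 1, 2, 2]
noncomputable def act63 (i : Nat) : Nat := col3 (col1 (col2 (col1 (col2 (col0 (col3 (col3 (col3 (col1 (col2 (col1 (col2 (col0 (col3 (col3 (col3 (col1 (col2 (col1 (col2 (col0 (col3 (col3 (i))))))))))))))))))))))))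
theorem act63_eq (i : Nat) : act63 i = Tab.act T D chk63 i := rfl
theorem c63_0 : allRange (fun i => Nat.beq (act63 i) i) 0 2160 = true := by decide +kernel
theorem h63 : ∀ i, i < T.N → Tab.relActOK T D chk63 i = true := by
  intro i hi
  rw [Tab.relActOK, ← act63_eq]
  exact (range_of_allRange c63_0) i (Nat.zero_le _) hi

def chk64 : List Nat := [4, 0, 2, 0, 2, 1, 2, 1, 1, 5, 2, 0, 3, 0, 3, 1, 3, 3]
noncomputable def act64 (i : Nat) : Nat := col5 (col1 (col3 (col1 (col3 (col0 (col3 (col0 (col0 (col4 (col3 (col1 (col2 (col1 (col2 (col0 (col2 (col2 (i))))))))))))))))))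
theorem act64_eq (i : Nat) : act64 i = Tab.act T D chk64 i := rfl
theorem c64_0 : allRange (fun i => Nat.beq (act64 i) i) 0 2160 = true := by decide +kernel
theorem h64 : ∀ i, i < T.N → Tab.relActOK T D chk64 i = true := by
  intro i hi
  rw [Tab.relActOK, ← act64_eq]
  exact (range_of_allRange c64_0) i (Nat.zero_le _) hi

def chk65 : List Nat := [0, 2, 0, 2, 1, 2, 1, 1, 0, 2, 0, 2, 1, 2, 1, 1, 0, 2, 0, 2, 1, 2, 1, 1]
noncomputable def act65 (i : Nat) : Nat := col1 (col3 (col1 (col3 (col0 (col3 (col0 (col0 (col1 (col3 (col1 (col3 (col0 (col3 (col0 (col0 (col1 (col3 (col1 (col3 (col0 (col3 (col0 (col0 (i))))))))))))))))))))))))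
theorem act65_eq (i : Nat) : act65 i = Tab.act T D chk65 i := rfl
theorem c65_0 : allRange (fun i => Nat.beq (act65 i) i) 0 2160 = true := by decide +kernel
theorem h65 : ∀ i, i < T.N → Tab.relActOK T D chk65 i = true := by
  intro i hi
  rw [Tab.relActOK, ← act65_eq]
  exact (range_of_allRange c65_0) i (Nat.zero_le _) hi

def chk66 : List Nat := [2, 2, 0, 2, 1, 2, 1, 3, 2, 2, 0, 2, 1, 2, 1, 3, 2, 2, 0, 2, 1, 2, 1, 3]
noncomputable def act66 (i : Nat) : Nat := col3 (col3 (col1 (col3 (col0 (col3 (col0 (col2 (col3 (col3 (col1 (col3 (col0 (col3 (col0 (col2 (col3 (col3 (col1 (col3 (col0 (col3 (col0 (col2 (i))))))))))))))))))))))))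
theorem act66_eq (i : Nat) : act66 i = Tab.act T D chk66 i := rfl
theorem c66_0 : allRange (fun i => Nat.beq (act66 i) i) 0 2160 = true := by decide +kernel
theorem h66 : ∀ i, i < T.N → Tab.relActOK T D chk66 i = true := by
  intro i hi
  rw [Tab.relActOK, ← act66_eq]
  exact (range_of_allRange c66_0) i (Nat.zero_le _) hi

def chk67 : List Nat := [4, 1, 2, 0, 3, 1, 2, 0, 3, 5, 3, 1, 2, 0, 3, 1, 2, 0]
noncomputable def act67 (i : Nat) : Nat := col5 (col0 (col3 (col1 (col2 (col0 (col3 (col1 (col2 (col4 (col2 (col0 (col3 (col1 (col2 (col0 (col3 (col1 (i))))))))))))))))))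
theorem act67_eq (i : Nat) : act67 i = Tab.act T D chk67 i := rfl
theorem c67_0 : allRange (fun i => Nat.beq (act67 i) i) 0 2160 = true := by decide +kernel
theorem h67 : ∀ i, i < T.N → Tab.relActOK T D chk67 i = true := by
  intro i hi
  rw [Tab.relActOK, ← act67_eq]
  exact (range_of_allRange c67_0) i (Nat.zero_le _) hi

def chk68 : List Nat := [1, 2, 0, 3, 1, 2, 0, 3, 1, 2, 0, 3, 1, 2, 0, 3, 1, 2, 0, 3, 1, 2, 0, 3]
noncomputable def act68 (i : Nat) : Nat := col0 (col3 (col1 (col2 (col0 (col3 (col1 (col2 (col0 (col3 (col1 (col2 (col0 (col3 (col1 (col2 (col0 (col3 (col1 (col2 (col0 (col3 (col1 (col2 (i))))))))))))))))))))))))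
theorem act68_eq (i : Nat) : act68 i = Tab.act T D chk68 i := rfl
theorem c68_0 : allRange (fun i => Nat.beq (act68 i) i) 0 2160 = true := by decide +kernel
theorem h68 : ∀ i, i < T.N → Tab.relActOK T D chk68 i = true := by
  intro i hi
  rw [Tab.relActOK, ← act68_eq]
  exact (range_of_allRange c68_0) i (Nat.zero_le _) hi

def chk69 : List Nat := [1, 3, 0, 2, 1, 3, 0, 2, 1, 3, 0, 2, 1, 3, 0, 2, 1, 3, 0, 2, 1, 3, 0, 2]
noncomputable def act69 (i : Nat) : Nat := col0 (col2 (col1 (col3 (col0 (col2 (col1 (col3 (col0 (col2 (col1 (col3 (col0 (col2 (col1 (col3 (col0 (col2 (col1 (col3 (col0 (col2 (col1 (col3 (i))))))))))))))))))))))))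
theorem act69_eq (i : Nat) : act69 i = Tab.act T D chk69 i := rfl
theorem c69_0 : allRange (fun i => Nat.beq (act69 i) i) 0 2160 = true := by decide +kernel
theorem h69 : ∀ i, i < T.N → Tab.relActOK T D chk69 i = true := by
  intro i hi
  rw [Tab.relActOK, ← act69_eq]
  exact (range_of_allRange c69_0) i (Nat.zero_le _) hi

def chk70 : List Nat := [4, 2, 1, 3, 0, 2, 1, 3, 0, 5, 1, 3, 0, 2, 1, 3, 0, 2]
noncomputable def act70 (i : Nat) : Nat := col5 (col3 (col0 (col2 (col1 (col3 (col0 (col2 (col1 (col4 (col0 (col2 (col1 (col3 (col0 (col2 (col1 (col3 (i))))))))))))))))))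
theorem act70_eq (i : Nat) : act70 i = Tab.act T D chk70 i := rfl
theorem c70_0 : allRange (fun i => Nat.beq (act70 i) i) 0 2160 = true := by decide +kernel
theorem h70 : ∀ i, i < T.N → Tab.relActOK T D chk70 i = true := by
  intro i hi
  rw [Tab.relActOK, ← act70_eq]
  exact (range_of_allRange c70_0) i (Nat.zero_le _) hi

def chk71 : List Nat := [2, 1, 3, 0, 2, 1, 3, 0, 2, 1, 3, 0, 2, 1, 3, 0, 2, 1, 3, 0, 2, 1, 3, 0]
noncomputable def act71 (i : Nat) : Nat := col3 (col0 (col2 (col1 (col3 (col0 (col2 (col1 (col3 (col0 (col2 (col1 (col3 (col0 (col2 (col1 (col3 (col0 (col2 (col1 (col3 (col0 (col2 (col1 (i))))))))))))))))))))))))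
theorem act71_eq (i : Nat) : act71 i = Tab.act T D chk71 i := rfl
theorem c71_0 : allRange (fun i => Nat.beq (act71 i) i) 0 2160 = true := by decide +kernel
theorem h71 : ∀ i, i < T.N → Tab.relActOK T D chk71 i = true := by
  intro i hi
  rw [Tab.relActOK, ← act71_eq]
  exact (range_of_allRange c71_0) i (Nat.zero_le _) hi

def chk72 : List Nat := [3, 1, 2, 0, 3, 1, 2, 0, 3, 1, 2, 0, 3, 1, 2, 0, 3, 1, 2, 0, 3, 1, 2, 0]
noncomputable def act72 (i : Nat) : Nat := col2 (col0 (col3 (col1 (col2 (col0 (col3 (col1 (col2 (col0 (col3 (col1 (col2 (col0 (col3 (col1 (col2 (col0 (col3 (col1 (col2 (col0 (col3 (col1 (i))))))))))))))))))))))))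
theorem act72_eq (i : Nat) : act72 i = Tab.act T D chk72 i := rfl
theorem c72_0 : allRange (fun i => Nat.beq (act72 i) i) 0 2160 = true := by decide +kernel
theorem h72 : ∀ i, i < T.N → Tab.relActOK T D chk72 i = true := by
  intro i hi
  rw [Tab.relActOK, ← act72_eq]
  exact (range_of_allRange c72_0) i (Nat.zero_le _) hi

def chk73 : List Nat := [5, 1, 3, 0, 2, 1, 3, 0, 2, 4, 2, 1, 3, 0, 2, 1, 3, 0]
noncomputable def act73 (i : Nat) : Nat := col4 (col0 (col2 (col1 (col3 (col0 (col2 (col1 (col3 (col5 (col3 (col0 (col2 (col1 (col3 (col0 (col2 (col1 (i))))))))))))))))))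
theorem act73_eq (i : Nat) : act73 i = Tab.act T D chk73 i := rfl
theorem c73_0 : allRange (fun i => Nat.beq (act73 i) i) 0 2160 = true := by decide +kernel
theorem h73 : ∀ i, i < T.N → Tab.relActOK T D chk73 i = true := by
  intro i hi
  rw [Tab.relActOK, ← act73_eq]
  exact (range_of_allRange c73_0) i (Nat.zero_le _) hi

def chk74 : List Nat := [1, 3, 0, 2, 1, 3, 0, 2, 1, 3, 0, 2, 1, 3, 0, 2, 1, 3, 0, 2, 1, 3, 0, 2]
noncomputable def act74 (i : Nat) : Nat := col0 (col2 (col1 (col3 (col0 (col2 (col1 (col3 (col0 (col2 (col1 (col3 (col0 (col2 (col1 (col3 (col0 (col2 (col1 (col3 (col0 (col2 (col1 (col3 (i))))))))))))))))))))))))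
theorem act74_eq (i : Nat) : act74 i = Tab.act T D chk74 i := rfl
theorem c74_0 : allRange (fun i => Nat.beq (act74 i) i) 0 2160 = true := by decide +kernel
theorem h74 : ∀ i, i < T.N → Tab.relActOK T D chk74 i = true := by
  intro i hi
  rw [Tab.relActOK, ← act74_eq]
  exact (range_of_allRange c74_0) i (Nat.zero_le _) hi

def chk75 : List Nat := [1, 2, 0, 3, 1, 2, 0, 3, 1, 2, 0, 3, 1, 2, 0, 3, 1, 2, 0, 3, 1, 2, 0, 3]
noncomputable def act75 (i : Nat) : Nat := col0 (col3 (col1 (col2 (col0 (col3 (col1 (col2 (col0 (col3 (col1 (col2 (col0 (col3 (col1 (col2 (col0 (col3 (col1 (col2 (col0 (col3 (col1 (col2 (i))))))))))))))))))))))))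
theorem act75_eq (i : Nat) : act75 i = Tab.act T D chk75 i := rfl
theorem c75_0 : allRange (fun i => Nat.beq (act75 i) i) 0 2160 = true := by decide +kernel
theorem h75 : ∀ i, i < T.N → Tab.relActOK T D chk75 i = true := by
  intro i hi
  rw [Tab.relActOK, ← act75_eq]
  exact (range_of_allRange c75_0) i (Nat.zero_le _) hi

def chk76 : List Nat := [5, 2, 0, 3, 0, 3, 1, 2, 2, 4, 0, 2, 0, 2, 1, 2, 1, 1]
noncomputable def act76 (i : Nat) : Nat := col4 (col3 (col1 (col2 (col1 (col2 (col0 (col3 (col3 (col5 (col1 (col3 (col1 (col3 (col0 (col3 (col0 (col0 (i))))))))))))))))))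
theorem act76_eq (i : Nat) : act76 i = Tab.act T D chk76 i := rfl
theorem c76_0 : allRange (fun i => Nat.beq (act76 i) i) 0 2160 = true := by decide +kernel
theorem h76 : ∀ i, i < T.N → Tab.relActOK T D chk76 i = true := by
  intro i hi
  rw [Tab.relActOK, ← act76_eq]
  exact (range_of_allRange c76_0) i (Nat.zero_le _) hi

def chk77 : List Nat := [2, 0, 3, 0, 3, 1, 2, 2, 2, 0, 3, 0, 3, 1, 2, 2, 2, 0, 3, 0, 3, 1, 2, 2]
noncomputable def act77 (i : Nat) : Nat := col3 (col1 (col2 (col1 (col2 (col0 (col3 (col3 (col3 (col1 (col2 (col1 (col2 (col0 (col3 (col3 (col3 (col1 (col2 (col1 (col2 (col0 (col3 (col3 (i))))))))))))))))))))))))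
theorem act77_eq (i : Nat) : act77 i = Tab.act T D chk77 i := rfl
theorem c77_0 : allRange (fun i => Nat.beq (act77 i) i) 0 2160 = true := by decide +kernel
theorem h77 : ∀ i, i < T.N → Tab.relActOK T D chk77 i = true := by
  intro i hi
  rw [Tab.relActOK, ← act77_eq]
  exact (range_of_allRange c77_0) i (Nat.zero_le _) hi

def chk78 : List Nat := [0, 0, 3, 0, 3, 1, 3, 1, 0, 0, 3, 0, 3, 1, 3, 1, 0, 0, 3, 0, 3, 1, 3, 1]
noncomputable def act78 (i : Nat) : Nat := col1 (col1 (col2 (col1 (col2 (col0 (col2 (col0 (col1 (col1 (col2 (col1 (col2 (col0 (col2 (col0 (col1 (col1 (col2 (col1 (col2 (col0 (col2 (col0 (i))))))))))))))))))))))))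
theorem act78_eq (i : Nat) : act78 i = Tab.act T D chk78 i := rfl
theorem c78_0 : allRange (fun i => Nat.beq (act78 i) i) 0 2160 = true := by decide +kernel
theorem h78 : ∀ i, i < T.N → Tab.relActOK T D chk78 i = true := by
  intro i hi
  rw [Tab.relActOK, ← act78_eq]
  exact (range_of_allRange c78_0) i (Nat.zero_le _) hi

def chk79 : List Nat := [5, 2, 2, 0, 2, 1, 2, 1, 3, 4, 0, 0, 3, 0, 3, 1, 3, 1]
noncomputable def act79 (i : Nat) : Nat := col4 (col3 (col3 (col1 (col3 (col0 (col3 (col0 (col2 (col5 (col1 (col1 (col2 (col1 (col2 (col0 (col2 (col0 (i))))))))))))))))))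
theorem act79_eq (i : Nat) : act79 i = Tab.act T D chk79 i := rfl
theorem c79_0 : allRange (fun i => Nat.beq (act79 i) i) 0 2160 = true := by decide +kernel
theorem h79 : ∀ i, i < T.N → Tab.relActOK T D chk79 i = true := by
  intro i hi
  rw [Tab.relActOK, ← act79_eq]
  exact (range_of_allRange c79_0) i (Nat.zero_le _) hi

def chk80 : List Nat := [2, 2, 0, 2, 1, 2, 1, 3, 2, 2, 0, 2, 1, 2, 1, 3, 2, 2, 0, 2, 1, 2, 1, 3]
noncomputable def act80 (i : Nat) : Nat := col3 (col3 (col1 (col3 (col0 (col3 (col0 (col2 (col3 (col3 (col1 (col3 (col0 (col3 (col0 (col2 (col3 (col3 (col1 (col3 (col0 (col3 (col0 (col2 (i))))))))))))))))))))))))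
theorem act80_eq (i : Nat) : act80 i = Tab.act T D chk80 i := rfl
theorem c80_0 : allRange (fun i => Nat.beq (act80 i) i) 0 2160 = true := by decide +kernel
theorem h80 : ∀ i, i < T.N → Tab.relActOK T D chk80 i = true := by
  intro i hi
  rw [Tab.relActOK, ← act80_eq]
  exact (range_of_allRange c80_0) i (Nat.zero_le _) hi

def chk81 : List Nat := [0, 2, 0, 2, 1, 2, 1, 1, 0, 2, 0, 2, 1, 2, 1, 1, 0, 2, 0, 2, 1, 2, 1, 1]
noncomputable def act81 (i : Nat) : Nat := col1 (col3 (col1 (col3 (col0 (col3 (col0 (col0 (col1 (col3 (col1 (col3 (col0 (col3 (col0 (col0 (col1 (col3 (col1 (col3 (col0 (col3 (col0 (col0 (i))))))))))))))))))))))))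
theorem act81_eq (i : Nat) : act81 i = Tab.act T D chk81 i := rfl
theorem c81_0 : allRange (fun i => Nat.beq (act81 i) i) 0 2160 = true := by decide +kernel
theorem h81 : ∀ i, i < T.N → Tab.relActOK T D chk81 i = true := by
  intro i hi
  rw [Tab.relActOK, ← act81_eq]
  exact (range_of_allRange c81_0) i (Nat.zero_le _) hi

def chk82 : List Nat := [5, 3, 1, 2, 0, 3, 1, 2, 0, 4, 1, 2, 0, 3, 1, 2, 0, 3]
noncomputable def act82 (i : Nat) : Nat := col4 (col2 (col0 (col3 (col1 (col2 (col0 (col3 (col1 (col5 (col0 (col3 (col1 (col2 (col0 (col3 (col1 (col2 (i))))))))))))))))))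
theorem act82_eq (i : Nat) : act82 i = Tab.act T D chk82 i := rfl
theorem c82_0 : allRange (fun i => Nat.beq (act82 i) i) 0 2160 = true := by decide +kernel
theorem h82 : ∀ i, i < T.N → Tab.relActOK T D chk82 i = true := by
  intro i hi
  rw [Tab.relActOK, ← act82_eq]
  exact (range_of_allRange c82_0) i (Nat.zero_le _) hi

def chk83 : List Nat := [3, 1, 2, 0, 3, 1, 2, 0, 3, 1, 2, 0, 3, 1, 2, 0, 3, 1, 2, 0, 3, 1, 2, 0]
noncomputable def act83 (i : Nat) : Nat := col2 (col0 (col3 (col1 (col2 (col0 (col3 (col1 (col2 (col0 (col3 (col1 (col2 (col0 (col3 (col1 (col2 (col0 (col3 (col1 (col2 (col0 (col3 (col1 (i))))))))))))))))))))))))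
theorem act83_eq (i : Nat) : act83 i = Tab.act T D chk83 i := rfl
theorem c83_0 : allRange (fun i => Nat.beq (act83 i) i) 0 2160 = true := by decide +kernel
theorem h83 : ∀ i, i < T.N → Tab.relActOK T D chk83 i = true := by
  intro i hi
  rw [Tab.relActOK, ← act83_eq]
  exact (range_of_allRange c83_0) i (Nat.zero_le _) hi

def chk84 : List Nat := [2, 1, 3, 0, 2, 1, 3, 0, 2, 1, 3, 0, 2, 1, 3, 0, 2, 1, 3, 0, 2, 1, 3, 0]
noncomputable def act84 (i : Nat) : Nat := col3 (col0 (col2 (col1 (col3 (col0 (col2 (col1 (col3 (col0 (col2 (col1 (col3 (col0 (col2 (col1 (col3 (col0 (col2 (col1 (col3 (col0 (col2 (col1 (i))))))))))))))))))))))))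
theorem act84_eq (i : Nat) : act84 i = Tab.act T D chk84 i := rfl
theorem c84_0 : allRange (fun i => Nat.beq (act84 i) i) 0 2160 = true := by decide +kernel
theorem h84 : ∀ i, i < T.N → Tab.relActOK T D chk84 i = true := by
  intro i hi
  rw [Tab.relActOK, ← act84_eq]
  exact (range_of_allRange c84_0) i (Nat.zero_le _) hi

def chk85 : List Nat := [4, 0, 0, 3, 0, 3, 1, 3, 1, 5, 3, 3, 0, 2, 1, 2, 1, 3]
noncomputable def act85 (i : Nat) : Nat := col5 (col1 (col1 (col2 (col1 (col2 (col0 (col2 (col0 (col4 (col2 (col2 (col1 (col3 (col0 (col3 (col0 (col2 (i))))))))))))))))))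
theorem act85_eq (i : Nat) : act85 i = Tab.act T D chk85 i := rfl
theorem c85_0 : allRange (fun i => Nat.beq (act85 i) i) 0 2160 = true := by decide +kernel
theorem h85 : ∀ i, i < T.N → Tab.relActOK T D chk85 i = true := by
  intro i hi
  rw [Tab.relActOK, ← act85_eq]
  exact (range_of_allRange c85_0) i (Nat.zero_le _) hi

def chk86 : List Nat := [0, 3, 0, 3, 1, 3, 0, 3, 0, 3, 1, 3, 0, 3, 0, 3, 1, 3]
noncomputable def act86 (i : Nat) : Nat := col1 (col2 (col1 (col2 (col0 (col2 (col1 (col2 (col1 (col2 (col0 (col2 (col1 (col2 (col1 (col2 (col0 (col2 (i))))))))))))))))))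
theorem act86_eq (i : Nat) : act86 i = Tab.act T D chk86 i := rfl
theorem c86_0 : allRange (fun i => Nat.beq (act86 i) i) 0 2160 = true := by decide +kernel
theorem h86 : ∀ i, i < T.N → Tab.relActOK T D chk86 i = true := by
  intro i hi
  rw [Tab.relActOK, ← act86_eq]
  exact (range_of_allRange c86_0) i (Nat.zero_le _) hi

def chk87 : List Nat := [2, 0, 3, 0, 3, 1, 2, 2, 2, 0, 3, 0, 3, 1, 2, 2, 2, 0, 3, 0, 3, 1, 2, 2]
noncomputable def act87 (i : Nat) : Nat := col3 (col1 (col2 (col1 (col2 (col0 (col3 (col3 (col3 (col1 (col2 (col1 (col2 (col0 (col3 (col3 (col3 (col1 (col2 (col1 (col2 (col0 (col3 (col3 (i))))))))))))))))))))))))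
theorem act87_eq (i : Nat) : act87 i = Tab.act T D chk87 i := rfl
theorem c87_0 : allRange (fun i => Nat.beq (act87 i) i) 0 2160 = true := by decide +kernel
theorem h87 : ∀ i, i < T.N → Tab.relActOK T D chk87 i = true := by
  intro i hi
  rw [Tab.relActOK, ← act87_eq]
  exact (range_of_allRange c87_0) i (Nat.zero_le _) hi

def chk88 : List Nat := [4, 0, 2, 0, 2, 1, 2, 1, 1, 5, 2, 0, 3, 0, 3, 1, 3, 3]
noncomputable def act88 (i : Nat) : Nat := col5 (col1 (col3 (col1 (col3 (col0 (col3 (col0 (col0 (col4 (col3 (col1 (col2 (col1 (col2 (col0 (col2 (col2 (i))))))))))))))))))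
theorem act88_eq (i : Nat) : act88 i = Tab.act T D chk88 i := rfl
theorem c88_0 : allRange (fun i => Nat.beq (act88 i) i) 0 2160 = true := by decide +kernel
theorem h88 : ∀ i, i < T.N → Tab.relActOK T D chk88 i = true := by
  intro i hi
  rw [Tab.relActOK, ← act88_eq]
  exact (range_of_allRange c88_0) i (Nat.zero_le _) hi

def chk89 : List Nat := [2, 0, 2, 1, 2, 1, 2, 0, 2, 1, 2, 1, 2, 0, 2, 1, 2, 1]
noncomputable def act89 (i : Nat) : Nat := col3 (col1 (col3 (col0 (col3 (col0 (col3 (col1 (col3 (col0 (col3 (col0 (col3 (col1 (col3 (col0 (col3 (col0 (i))))))))))))))))))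
theorem act89_eq (i : Nat) : act89 i = Tab.act T D chk89 i := rfl
theorem c89_0 : allRange (fun i => Nat.beq (act89 i) i) 0 2160 = true := by decide +kernel
theorem h89 : ∀ i, i < T.N → Tab.relActOK T D chk89 i = true := by
  intro i hi
  rw [Tab.relActOK, ← act89_eq]
  exact (range_of_allRange c89_0) i (Nat.zero_le _) hi

def chk90 : List Nat := [2, 2, 0, 2, 1, 2, 1, 3, 2, 2, 0, 2, 1, 2, 1, 3, 2, 2, 0, 2, 1, 2, 1, 3]
noncomputable def act90 (i : Nat) : Nat := col3 (col3 (col1 (col3 (col0 (col3 (col0 (col2 (col3 (col3 (col1 (col3 (col0 (col3 (col0 (col2 (col3 (col3 (col1 (col3 (col0 (col3 (col0 (col2 (i))))))))))))))))))))))))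
theorem act90_eq (i : Nat) : act90 i = Tab.act T D chk90 i := rfl
theorem c90_0 : allRange (fun i => Nat.beq (act90 i) i) 0 2160 = true := by decide +kernel
theorem h90 : ∀ i, i < T.N → Tab.relActOK T D chk90 i = true := by
  intro i hi
  rw [Tab.relActOK, ← act90_eq]
  exact (range_of_allRange c90_0) i (Nat.zero_le _) hi

def chk91 : List Nat := [4, 3, 0, 0, 2, 0, 0, 2, 2, 5, 3, 3, 0, 2, 1, 2, 1, 3]
noncomputable def act91 (i : Nat) : Nat := col5 (col2 (col1 (col1 (col3 (col1 (col1 (col3 (col3 (col4 (col2 (col2 (col1 (col3 (col0 (col3 (col0 (col2 (i))))))))))))))))))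
theorem act91_eq (i : Nat) : act91 i = Tab.act T D chk91 i := rfl
theorem c91_0 : allRange (fun i => Nat.beq (act91 i) i) 0 2160 = true := by decide +kernel
theorem h91 : ∀ i, i < T.N → Tab.relActOK T D chk91 i = true := by
  intro i hi
  rw [Tab.relActOK, ← act91_eq]
  exact (range_of_allRange c91_0) i (Nat.zero_le _) hi

def chk92 : List Nat := [0, 0, 2, 0, 0, 2, 0, 0, 2, 0, 0, 2, 0, 0, 2, 0, 0, 2]
noncomputable def act92 (i : Nat) : Nat := col1 (col1 (col3 (col1 (col1 (col3 (col1 (col1 (col3 (col1 (col1 (col3 (col1 (col1 (col3 (col1 (col1 (col3 (i))))))))))))))))))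
theorem act92_eq (i : Nat) : act92 i = Tab.act T D chk92 i := rfl
theorem c92_0 : allRange (fun i => Nat.beq (act92 i) i) 0 2160 = true := by decide +kernel
theorem h92 : ∀ i, i < T.N → Tab.relActOK T D chk92 i = true := by
  intro i hi
  rw [Tab.relActOK, ← act92_eq]
  exact (range_of_allRange c92_0) i (Nat.zero_le _) hi

def chk93 : List Nat := [2, 0, 3, 0, 3, 1, 2, 2, 2, 0, 3, 0, 3, 1, 2, 2, 2, 0, 3, 0, 3, 1, 2, 2]
noncomputable def act93 (i : Nat) : Nat := col3 (col1 (col2 (col1 (col2 (col0 (col3 (col3 (col3 (col1 (col2 (col1 (col2 (col0 (col3 (col3 (col3 (col1 (col2 (col1 (col2 (col0 (col3 (col3 (i))))))))))))))))))))))))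
theorem act93_eq (i : Nat) : act93 i = Tab.act T D chk93 i := rfl
theorem c93_0 : allRange (fun i => Nat.beq (act93 i) i) 0 2160 = true := by decide +kernel
theorem h93 : ∀ i, i < T.N → Tab.relActOK T D chk93 i = true := by
  intro i hi
  rw [Tab.relActOK, ← act93_eq]
  exact (range_of_allRange c93_0) i (Nat.zero_le _) hi

def chk94 : List Nat := [4, 3, 3, 1, 1, 3, 1, 1, 2, 5, 2, 0, 3, 0, 3, 1, 3, 3]
noncomputable def act94 (i : Nat) : Nat := col5 (col2 (col2 (col0 (col0 (col2 (col0 (col0 (col3 (col4 (col3 (col1 (col2 (col1 (col2 (col0 (col2 (col2 (i))))))))))))))))))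
theorem act94_eq (i : Nat) : act94 i = Tab.act T D chk94 i := rfl
theorem c94_0 : allRange (fun i => Nat.beq (act94 i) i) 0 2160 = true := by decide +kernel
theorem h94 : ∀ i, i < T.N → Tab.relActOK T D chk94 i = true := by
  intro i hi
  rw [Tab.relActOK, ← act94_eq]
  exact (range_of_allRange c94_0) i (Nat.zero_le _) hi

def chk95 : List Nat := [3, 1, 1, 3, 1, 1, 3, 1, 1, 3, 1, 1, 3, 1, 1, 3, 1, 1]
noncomputable def act95 (i : Nat) : Nat := col2 (col0 (col0 (col2 (col0 (col0 (col2 (col0 (col0 (col2 (col0 (col0 (col2 (col0 (col0 (col2 (col0 (col0 (i))))))))))))))))))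
theorem act95_eq (i : Nat) : act95 i = Tab.act T D chk95 i := rfl
theorem c95_0 : allRange (fun i => Nat.beq (act95 i) i) 0 2160 = true := by decide +kernel
theorem h95 : ∀ i, i < T.N → Tab.relActOK T D chk95 i = true := by
  intro i hi
  rw [Tab.relActOK, ← act95_eq]
  exact (range_of_allRange c95_0) i (Nat.zero_le _) hi

def chk96 : List Nat := [2, 2, 0, 2, 1, 2, 1, 3, 2, 2, 0, 2, 1, 2, 1, 3, 2, 2, 0, 2, 1, 2, 1, 3]
noncomputable def act96 (i : Nat) : Nat := col3 (col3 (col1 (col3 (col0 (col3 (col0 (col2 (col3 (col3 (col1 (col3 (col0 (col3 (col0 (col2 (col3 (col3 (col1 (col3 (col0 (col3 (col0 (col2 (i))))))))))))))))))))))))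
theorem act96_eq (i : Nat) : act96 i = Tab.act T D chk96 i := rfl
theorem c96_0 : allRange (fun i => Nat.beq (act96 i) i) 0 2160 = true := by decide +kernel
theorem h96 : ∀ i, i < T.N → Tab.relActOK T D chk96 i = true := by
  intro i hi
  rw [Tab.relActOK, ← act96_eq]
  exact (range_of_allRange c96_0) i (Nat.zero_le _) hi

def chk97 : List Nat := [4, 4, 2, 0, 3, 0, 3, 1, 2, 2, 5, 5, 0, 0, 2, 0, 0, 2]
noncomputable def act97 (i : Nat) : Nat := col5 (col5 (col3 (col1 (col2 (col1 (col2 (col0 (col3 (col3 (col4 (col4 (col1 (col1 (col3 (col1 (col1 (col3 (i))))))))))))))))))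
theorem act97_eq (i : Nat) : act97 i = Tab.act T D chk97 i := rfl
theorem c97_0 : allRange (fun i => Nat.beq (act97 i) i) 0 2160 = true := by decide +kernel
theorem h97 : ∀ i, i < T.N → Tab.relActOK T D chk97 i = true := by
  intro i hi
  rw [Tab.relActOK, ← act97_eq]
  exact (range_of_allRange c97_0) i (Nat.zero_le _) hi

def chk98 : List Nat := [2, 0, 3, 0, 3, 1, 2, 2, 2, 0, 3, 0, 3, 1, 2, 2, 2, 0, 3, 0, 3, 1, 2, 2]
noncomputable def act98 (i : Nat) : Nat := col3 (col1 (col2 (col1 (col2 (col0 (col3 (col3 (col3 (col1 (col2 (col1 (col2 (col0 (col3 (col3 (col3 (col1 (col2 (col1 (col2 (col0 (col3 (col3 (i))))))))))))))))))))))))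
theorem act98_eq (i : Nat) : act98 i = Tab.act T D chk98 i := rfl
theorem c98_0 : allRange (fun i => Nat.beq (act98 i) i) 0 2160 = true := by decide +kernel
theorem h98 : ∀ i, i < T.N → Tab.relActOK T D chk98 i = true := by
  intro i hi
  rw [Tab.relActOK, ← act98_eq]
  exact (range_of_allRange c98_0) i (Nat.zero_le _) hi

def chk99 : List Nat := [3, 1, 1, 3, 1, 1, 3, 1, 1, 3, 1, 1, 3, 1, 1, 3, 1, 1]
noncomputable def act99 (i : Nat) : Nat := col2 (col0 (col0 (col2 (col0 (col0 (col2 (col0 (col0 (col2 (col0 (col0 (col2 (col0 (col0 (col2 (col0 (col0 (i))))))))))))))))))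
theorem act99_eq (i : Nat) : act99 i = Tab.act T D chk99 i := rfl
theorem c99_0 : allRange (fun i => Nat.beq (act99 i) i) 0 2160 = true := by decide +kernel
theorem h99 : ∀ i, i < T.N → Tab.relActOK T D chk99 i = true := by
  intro i hi
  rw [Tab.relActOK, ← act99_eq]
  exact (range_of_allRange c99_0) i (Nat.zero_le _) hi

def chk100 : List Nat := [4, 4, 2, 2, 0, 2, 1, 2, 1, 3, 5, 5, 3, 1, 1, 3, 1, 1]
noncomputable def act100 (i : Nat) : Nat := col5 (col5 (col3 (col3 (col1 (col3 (col0 (col3 (col0 (col2 (col4 (col4 (col2 (col0 (col0 (col2 (col0 (col0 (i))))))))))))))))))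
theorem act100_eq (i : Nat) : act100 i = Tab.act T D chk100 i := rfl
theorem c100_0 : allRange (fun i => Nat.beq (act100 i) i) 0 2160 = true := by decide +kernel
theorem h100 : ∀ i, i < T.N → Tab.relActOK T D chk100 i = true := by
  intro i hi
  rw [Tab.relActOK, ← act100_eq]
  exact (range_of_allRange c100_0) i (Nat.zero_le _) hi

def chk101 : List Nat := [2, 2, 0, 2, 1, 2, 1, 3, 2, 2, 0, 2, 1, 2, 1, 3, 2, 2, 0, 2, 1, 2, 1, 3]
noncomputable def act101 (i : Nat) : Nat := col3 (col3 (col1 (col3 (col0 (col3 (col0 (col2 (col3 (col3 (col1 (col3 (col0 (col3 (col0 (col2 (col3 (col3 (col1 (col3 (col0 (col3 (col0 (col2 (i))))))))))))))))))))))))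
theorem act101_eq (i : Nat) : act101 i = Tab.act T D chk101 i := rfl
theorem c101_0 : allRange (fun i => Nat.beq (act101 i) i) 0 2160 = true := by decide +kernel
theorem h101 : ∀ i, i < T.N → Tab.relActOK T D chk101 i = true := by
  intro i hi
  rw [Tab.relActOK, ← act101_eq]
  exact (range_of_allRange c101_0) i (Nat.zero_le _) hi

def chk102 : List Nat := [0, 0, 2, 0, 0, 2, 0, 0, 2, 0, 0, 2, 0, 0, 2, 0, 0, 2]
noncomputable def act102 (i : Nat) : Nat := col1 (col1 (col3 (col1 (col1 (col3 (col1 (col1 (col3 (col1 (col1 (col3 (col1 (col1 (col3 (col1 (col1 (col3 (i))))))))))))))))))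
theorem act102_eq (i : Nat) : act102 i = Tab.act T D chk102 i := rfl
theorem c102_0 : allRange (fun i => Nat.beq (act102 i) i) 0 2160 = true := by decide +kernel
theorem h102 : ∀ i, i < T.N → Tab.relActOK T D chk102 i = true := by
  intro i hi
  rw [Tab.relActOK, ← act102_eq]
  exact (range_of_allRange c102_0) i (Nat.zero_le _) hi

def chk103 : List Nat := [5, 0, 1, 1, 2, 1, 2, 0, 2, 0, 1, 4, 3, 0, 3, 1, 3, 0]
noncomputable def act103 (i : Nat) : Nat := col4 (col1 (col0 (col0 (col3 (col0 (col3 (col1 (col3 (col1 (col0 (col5 (col2 (col1 (col2 (col0 (col2 (col1 (i))))))))))))))))))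
theorem act103_eq (i : Nat) : act103 i = Tab.act T D chk103 i := rfl
theorem c103_0 : allRange (fun i => Nat.beq (act103 i) i) 0 2160 = true := by decide +kernel
theorem h103 : ∀ i, i < T.N → Tab.relActOK T D chk103 i = true := by
  intro i hi
  rw [Tab.relActOK, ← act103_eq]
  exact (range_of_allRange c103_0) i (Nat.zero_le _) hi

def chk104 : List Nat := [1, 1, 2, 1, 2, 0, 2, 0, 1, 1, 2, 1, 2, 0, 2, 0, 1, 1, 2, 1, 2, 0, 2, 0]
noncomputable def act104 (i : Nat) : Nat := col0 (col0 (col3 (col0 (col3 (col1 (col3 (col1 (col0 (col0 (col3 (col0 (col3 (col1 (col3 (col1 (col0 (col0 (col3 (col0 (col3 (col1 (col3 (col1 (i))))))))))))))))))))))))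
theorem act104_eq (i : Nat) : act104 i = Tab.act T D chk104 i := rfl
theorem c104_0 : allRange (fun i => Nat.beq (act104 i) i) 0 2160 = true := by decide +kernel
theorem h104 : ∀ i, i < T.N → Tab.relActOK T D chk104 i = true := by
  intro i hi
  rw [Tab.relActOK, ← act104_eq]
  exact (range_of_allRange c104_0) i (Nat.zero_le _) hi

def chk105 : List Nat := [1, 2, 0, 2, 1, 2, 1, 2, 0, 2, 1, 2, 1, 2, 0, 2, 1, 2]
noncomputable def act105 (i : Nat) : Nat := col0 (col3 (col1 (col3 (col0 (col3 (col0 (col3 (col1 (col3 (col0 (col3 (col0 (col3 (col1 (col3 (col0 (col3 (i))))))))))))))))))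
theorem act105_eq (i : Nat) : act105 i = Tab.act T D chk105 i := rfl
theorem c105_0 : allRange (fun i => Nat.beq (act105 i) i) 0 2160 = true := by decide +kernel
theorem h105 : ∀ i, i < T.N → Tab.relActOK T D chk105 i = true := by
  intro i hi
  rw [Tab.relActOK, ← act105_eq]
  exact (range_of_allRange c105_0) i (Nat.zero_le _) hi

def chk106 : List Nat := [5, 0, 1, 3, 1, 3, 0, 3, 0, 0, 1, 4, 2, 1, 2, 0, 2, 1]
noncomputable def act106 (i : Nat) : Nat := col4 (col1 (col0 (col2 (col0 (col2 (col1 (col2 (col1 (col1 (col0 (col5 (col3 (col0 (col3 (col1 (col3 (col0 (i))))))))))))))))))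
theorem act106_eq (i : Nat) : act106 i = Tab.act T D chk106 i := rfl
theorem c106_0 : allRange (fun i => Nat.beq (act106 i) i) 0 2160 = true := by decide +kernel
theorem h106 : ∀ i, i < T.N → Tab.relActOK T D chk106 i = true := by
  intro i hi
  rw [Tab.relActOK, ← act106_eq]
  exact (range_of_allRange c106_0) i (Nat.zero_le _) hi

def chk107 : List Nat := [1, 3, 1, 3, 0, 3, 0, 0, 1, 3, 1, 3, 0, 3, 0, 0, 1, 3, 1, 3, 0, 3, 0, 0]
noncomputable def act107 (i : Nat) : Nat := col0 (col2 (col0 (col2 (col1 (col2 (col1 (col1 (col0 (col2 (col0 (col2 (col1 (col2 (col1 (col1 (col0 (col2 (col0 (col2 (col1 (col2 (col1 (col1 (i))))))))))))))))))))))))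
theorem act107_eq (i : Nat) : act107 i = Tab.act T D chk107 i := rfl
theorem c107_0 : allRange (fun i => Nat.beq (act107 i) i) 0 2160 = true := by decide +kernel
theorem h107 : ∀ i, i < T.N → Tab.relActOK T D chk107 i = true := by
  intro i hi
  rw [Tab.relActOK, ← act107_eq]
  exact (range_of_allRange c107_0) i (Nat.zero_le _) hi

def chk108 : List Nat := [0, 3, 1, 3, 0, 3, 0, 3, 1, 3, 0, 3, 0, 3, 1, 3, 0, 3]
noncomputable def act108 (i : Nat) : Nat := col1 (col2 (col0 (col2 (col1 (col2 (col1 (col2 (col0 (col2 (col1 (col2 (col1 (col2 (col0 (col2 (col1 (col2 (i))))))))))))))))))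
theorem act108_eq (i : Nat) : act108 i = Tab.act T D chk108 i := rfl
theorem c108_0 : allRange (fun i => Nat.beq (act108 i) i) 0 2160 = true := by decide +kernel
theorem h108 : ∀ i, i < T.N → Tab.relActOK T D chk108 i = true := by
  intro i hi
  rw [Tab.relActOK, ← act108_eq]
  exact (range_of_allRange c108_0) i (Nat.zero_le _) hi

def chk109 : List Nat := [5, 5, 0, 0, 2, 0, 0, 2, 4, 4, 2, 0, 3, 0, 3, 1, 3, 3]
noncomputable def act109 (i : Nat) : Nat := col4 (col4 (col1 (col1 (col3 (col1 (col1 (col3 (col5 (col5 (col3 (col1 (col2 (col1 (col2 (col0 (col2 (col2 (i))))))))))))))))))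
theorem act109_eq (i : Nat) : act109 i = Tab.act T D chk109 i := rfl
theorem c109_0 : allRange (fun i => Nat.beq (act109 i) i) 0 2160 = true := by decide +kernel
theorem h109 : ∀ i, i < T.N → Tab.relActOK T D chk109 i = true := by
  intro i hi
  rw [Tab.relActOK, ← act109_eq]
  exact (range_of_allRange c109_0) i (Nat.zero_le _) hi

def chk110 : List Nat := [0, 0, 2, 0, 0, 2, 0, 0, 2, 0, 0, 2, 0, 0, 2, 0, 0, 2]
noncomputable def act110 (i : Nat) : Nat := col1 (col1 (col3 (col1 (col1 (col3 (col1 (col1 (col3 (col1 (col1 (col3 (col1 (col1 (col3 (col1 (col1 (col3 (i))))))))))))))))))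
theorem act110_eq (i : Nat) : act110 i = Tab.act T D chk110 i := rfl
theorem c110_0 : allRange (fun i => Nat.beq (act110 i) i) 0 2160 = true := by decide +kernel
theorem h110 : ∀ i, i < T.N → Tab.relActOK T D chk110 i = true := by
  intro i hi
  rw [Tab.relActOK, ← act110_eq]
  exact (range_of_allRange c110_0) i (Nat.zero_le _) hi

def chk111 : List Nat := [2, 2, 0, 2, 1, 2, 1, 3, 2, 2, 0, 2, 1, 2, 1, 3, 2, 2, 0, 2, 1, 2, 1, 3]
noncomputable def act111 (i : Nat) : Nat := col3 (col3 (col1 (col3 (col0 (col3 (col0 (col2 (col3 (col3 (col1 (col3 (col0 (col3 (col0 (col2 (col3 (col3 (col1 (col3 (col0 (col3 (col0 (col2 (i))))))))))))))))))))))))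
theorem act111_eq (i : Nat) : act111 i = Tab.act T D chk111 i := rfl
theorem c111_0 : allRange (fun i => Nat.beq (act111 i) i) 0 2160 = true := by decide +kernel
theorem h111 : ∀ i, i < T.N → Tab.relActOK T D chk111 i = true := by
  intro i hi
  rw [Tab.relActOK, ← act111_eq]
  exact (range_of_allRange c111_0) i (Nat.zero_le _) hi

def chk112 : List Nat := [5, 5, 3, 1, 1, 3, 1, 1, 4, 4, 3, 3, 0, 2, 1, 2, 1, 3]
noncomputable def act112 (i : Nat) : Nat := col4 (col4 (col2 (col0 (col0 (col2 (col0 (col0 (col5 (col5 (col2 (col2 (col1 (col3 (col0 (col3 (col0 (col2 (i))))))))))))))))))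
theorem act112_eq (i : Nat) : act112 i = Tab.act T D chk112 i := rfl
theorem c112_0 : allRange (fun i => Nat.beq (act112 i) i) 0 2160 = true := by decide +kernel
theorem h112 : ∀ i, i < T.N → Tab.relActOK T D chk112 i = true := by
  intro i hi
  rw [Tab.relActOK, ← act112_eq]
  exact (range_of_allRange c112_0) i (Nat.zero_le _) hi

def chk113 : List Nat := [3, 1, 1, 3, 1, 1, 3, 1, 1, 3, 1, 1, 3, 1, 1, 3, 1, 1]
noncomputable def act113 (i : Nat) : Nat := col2 (col0 (col0 (col2 (col0 (col0 (col2 (col0 (col0 (col2 (col0 (col0 (col2 (col0 (col0 (col2 (col0 (col0 (i))))))))))))))))))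
theorem act113_eq (i : Nat) : act113 i = Tab.act T D chk113 i := rfl
theorem c113_0 : allRange (fun i => Nat.beq (act113 i) i) 0 2160 = true := by decide +kernel
theorem h113 : ∀ i, i < T.N → Tab.relActOK T D chk113 i = true := by
  intro i hi
  rw [Tab.relActOK, ← act113_eq]
  exact (range_of_allRange c113_0) i (Nat.zero_le _) hi

def chk114 : List Nat := [2, 0, 3, 0, 3, 1, 2, 2, 2, 0, 3, 0, 3, 1, 2, 2, 2, 0, 3, 0, 3, 1, 2, 2]
noncomputable def act114 (i : Nat) : Nat := col3 (col1 (col2 (col1 (col2 (col0 (col3 (col3 (col3 (col1 (col2 (col1 (col2 (col0 (col3 (col3 (col3 (col1 (col2 (col1 (col2 (col0 (col3 (col3 (i))))))))))))))))))))))))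
theorem act114_eq (i : Nat) : act114 i = Tab.act T D chk114 i := rfl
theorem c114_0 : allRange (fun i => Nat.beq (act114 i) i) 0 2160 = true := by decide +kernel
theorem h114 : ∀ i, i < T.N → Tab.relActOK T D chk114 i = true := by
  intro i hi
  rw [Tab.relActOK, ← act114_eq]
  exact (range_of_allRange c114_0) i (Nat.zero_le _) hi

def chk115 : List Nat := [4, 0, 2, 1, 3, 0, 2, 1, 3, 5, 2, 0, 3, 1, 3, 3, 0, 3, 3, 1]
noncomputable def act115 (i : Nat) : Nat := col5 (col1 (col3 (col0 (col2 (col1 (col3 (col0 (col2 (col4 (col3 (col1 (col2 (col0 (col2 (col2 (col1 (col2 (col2 (col0 (i))))))))))))))))))))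
theorem act115_eq (i : Nat) : act115 i = Tab.act T D chk115 i := rfl
theorem c115_0 : allRange (fun i => Nat.beq (act115 i) i) 0 2160 = true := by decide +kernel
theorem h115 : ∀ i, i < T.N → Tab.relActOK T D chk115 i = true := by
  intro i hi
  rw [Tab.relActOK, ← act115_eq]
  exact (range_of_allRange c115_0) i (Nat.zero_le _) hi

def chk116 : List Nat := [0, 2, 1, 3, 0, 2, 1, 3, 0, 2, 1, 3, 0, 2, 1, 3, 0, 2, 1, 3, 0, 2, 1, 3]
noncomputable def act116 (i : Nat) : Nat := col1 (col3 (col0 (col2 (col1 (col3 (col0 (col2 (col1 (col3 (col0 (col2 (col1 (col3 (col0 (col2 (col1 (col3 (col0 (col2 (col1 (col3 (col0 (col2 (i))))))))))))))))))))))))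
theorem act116_eq (i : Nat) : act116 i = Tab.act T D chk116 i := rfl
theorem c116_0 : allRange (fun i => Nat.beq (act116 i) i) 0 2160 = true := by decide +kernel
theorem h116 : ∀ i, i < T.N → Tab.relActOK T D chk116 i = true := by
  intro i hi
  rw [Tab.relActOK, ← act116_eq]
  exact (range_of_allRange c116_0) i (Nat.zero_le _) hi

def chk117 : List Nat := [0, 2, 2, 1, 2, 2, 0, 2, 1, 3, 0, 2, 2, 1, 2, 2, 0, 2, 1, 3, 0, 2, 2, 1, 2, 2, 0, 2, 1, 3]
noncomputable def act117 (i : Nat) : Nat := col1 (col3 (col3 (col0 (col3 (col3 (col1 (col3 (col0 (col2 (col1 (col3 (col3 (col0 (col3 (col3 (col1 (col3 (col0 (col2 (col1 (col3 (col3 (col0 (col3 (col3 (col1 (col3 (col0 (col2 (i))))))))))))))))))))))))))))))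
theorem act117_eq (i : Nat) : act117 i = Tab.act T D chk117 i := rfl
theorem c117_0 : allRange (fun i => Nat.beq (act117 i) i) 0 1875 = true := by decide +kernel
theorem c117_1 : allRange (fun i => Nat.beq (act117 i) i) 1875 285 = true := by decide +kernel
theorem h117 : ∀ i, i < T.N → Tab.relActOK T D chk117 i = true := by
  intro i hi
  rw [Tab.relActOK, ← act117_eq]
  exact (range_glue (range_of_allRange c117_0) (range_of_allRange c117_1)) i (Nat.zero_le _) hi

def chk118 : List Nat := [4, 2, 0, 3, 1, 2, 0, 3, 1, 5, 1, 2, 1, 2, 0, 3, 3, 1, 1, 1]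
noncomputable def act118 (i : Nat) : Nat := col5 (col3 (col1 (col2 (col0 (col3 (col1 (col2 (col0 (col4 (col0 (col3 (col0 (col3 (col1 (col2 (col2 (col0 (col0 (col0 (i))))))))))))))))))))
theorem act118_eq (i : Nat) : act118 i = Tab.act T D chk118 i := rfl
theorem c118_0 : allRange (fun i => Nat.beq (act118 i) i) 0 2160 = true := by decide +kernel
theorem h118 : ∀ i, i < T.N → Tab.relActOK T D chk118 i = true := by
  intro i hi
  rw [Tab.relActOK, ← act118_eq]
  exact (range_of_allRange c118_0) i (Nat.zero_le _) hi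

def chk119 : List Nat := [2, 0, 3, 1, 2, 0, 3, 1, 2, 0, 3, 1, 2, 0, 3, 1, 2, 0, 3, 1, 2, 0, 3, 1]
noncomputable def act119 (i : Nat) : Nat := col3 (col1 (col2 (col0 (col3 (col1 (col2 (col0 (col3 (col1 (col2 (col0 (col3 (col1 (col2 (col0 (col3 (col1 (col2 (col0 (col3 (col1 (col2 (col0 (i))))))))))))))))))))))))
theorem act119_eq (i : Nat) : act119 i = Tab.act T D chk119 i := rfl
theorem c119_0 : allRange (fun i => Nat.beq (act119 i) i) 0 2160 = true := by decide +kernel
theorem h119 : ∀ i, i < T.N → Tab.relActOK T D chk119 i = true := by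
  intro i hi
  rw [Tab.relActOK, ← act119_eq]
  exact (range_of_allRange c119_0) i (Nat.zero_le _) hi

def chk120 : List Nat := [0, 0, 0, 2, 2, 1, 3, 0, 3, 0, 0, 0, 0, 2, 2, 1, 3, 0, 3, 0, 0, 0, 0, 2, 2, 1, 3, 0, 3, 0]
noncomputable def act120 (i : Nat) : Nat := col1 (col1 (col1 (col3 (col3 (col0 (col2 (col1 (col2 (col1 (col1 (col1 (col1 (col3 (col3 (col0 (col2 (col1 (col2 (col1 (col1 (col1 (col1 (col3 (col3 (col0 (col2 (col1 (col2 (col1 (i))))))))))))))))))))))))))))))
theorem act120_eq (i : Nat) : act120 i = Tab.act T D chk120 i := rfl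
theorem c120_0 : allRange (fun i => Nat.beq (act120 i) i) 0 1875 = true := by decide +kernel
theorem c120_1 : allRange (fun i => Nat.beq (act120 i) i) 1875 285 = true := by decide +kernel
theorem h120 : ∀ i, i < T.N → Tab.relActOK T D chk120 i = true := by
  intro i hi
  rw [Tab.relActOK, ← act120_eq]
  exact (range_glue (range_of_allRange c120_0) (range_of_allRange c120_1)) i (Nat.zero_le _) hi

def chk121 : List Nat := [4, 0, 0, 3, 1, 2, 0, 3, 1, 2, 1, 5, 1, 3, 0, 2, 1, 3, 0, 2]
noncomputable def act121 (i : Nat) : Nat := col5 (col1 (col1 (col2 (col0 (col3 (col1 (col2 (col0 (col3 (col0 (col4 (col0 (col2 (col1 (col3 (col0 (col2 (col1 (col3 (i))))))))))))))))))))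
theorem act121_eq (i : Nat) : act121 i = Tab.act T D chk121 i := rfl
theorem c121_0 : allRange (fun i => Nat.beq (act121 i) i) 0 2160 = true := by decide +kernel
theorem h121 : ∀ i, i < T.N → Tab.relActOK T D chk121 i = true := by
  intro i hi
  rw [Tab.relActOK, ← act121_eq]
  exact (range_of_allRange c121_0) i (Nat.zero_le _) hi

def chk122 : List Nat := [0, 3, 1, 2, 0, 3, 1, 2, 0, 3, 1, 2, 0, 3, 1, 2, 0, 3, 1, 2, 0, 3, 1, 2]
noncomputable def act122 (i : Nat) : Nat := col1 (col2 (col0 (col3 (col1 (col2 (col0 (col3 (col1 (col2 (col0 (col3 (col1 (col2 (col0 (col3 (col1 (col2 (col0 (col3 (col1 (col2 (col0 (col3 (i))))))))))))))))))))))))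
theorem act122_eq (i : Nat) : act122 i = Tab.act T D chk122 i := rfl
theorem c122_0 : allRange (fun i => Nat.beq (act122 i) i) 0 2160 = true := by decide +kernel
theorem h122 : ∀ i, i < T.N → Tab.relActOK T D chk122 i = true := by
  intro i hi
  rw [Tab.relActOK, ← act122_eq]
  exact (range_of_allRange c122_0) i (Nat.zero_le _) hi

def chk123 : List Nat := [3, 1, 2, 0, 3, 1, 2, 0, 3, 1, 2, 0, 3, 1, 2, 0, 3, 1, 2, 0, 3, 1, 2, 0]
noncomputable def act123 (i : Nat) : Nat := col2 (col0 (col3 (col1 (col2 (col0 (col3 (col1 (col2 (col0 (col3 (col1 (col2 (col0 (col3 (col1 (col2 (col0 (col3 (col1 (col2 (col0 (col3 (col1 (i))))))))))))))))))))))))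
theorem act123_eq (i : Nat) : act123 i = Tab.act T D chk123 i := rfl
theorem c123_0 : allRange (fun i => Nat.beq (act123 i) i) 0 2160 = true := by decide +kernel
theorem h123 : ∀ i, i < T.N → Tab.relActOK T D chk123 i = true := by
  intro i hi
  rw [Tab.relActOK, ← act123_eq]
  exact (range_of_allRange c123_0) i (Nat.zero_le _) hi

def chk124 : List Nat := [4, 0, 3, 0, 2, 1, 3, 0, 2, 1, 1, 5, 3, 1, 2, 0, 3, 1, 2, 0]
noncomputable def act124 (i : Nat) : Nat := col5 (col1 (col2 (col1 (col3 (col0 (col2 (col1 (col3 (col0 (col0 (col4 (col2 (col0 (col3 (col1 (col2 (col0 (col3 (col1 (i))))))))))))))))))))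
theorem act124_eq (i : Nat) : act124 i = Tab.act T D chk124 i := rfl
theorem c124_0 : allRange (fun i => Nat.beq (act124 i) i) 0 2160 = true := by decide +kernel
theorem h124 : ∀ i, i < T.N → Tab.relActOK T D chk124 i = true := by
  intro i hi
  rw [Tab.relActOK, ← act124_eq]
  exact (range_of_allRange c124_0) i (Nat.zero_le _) hi

def chk125 : List Nat := [3, 0, 2, 1, 3, 0, 2, 1, 3, 0, 2, 1, 3, 0, 2, 1, 3, 0, 2, 1, 3, 0, 2, 1]
noncomputable def act125 (i : Nat) : Nat := col2 (col1 (col3 (col0 (col2 (col1 (col3 (col0 (col2 (col1 (col3 (col0 (col2 (col1 (col3 (col0 (col2 (col1 (col3 (col0 (col2 (col1 (col3 (col0 (i))))))))))))))))))))))))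
theorem act125_eq (i : Nat) : act125 i = Tab.act T D chk125 i := rfl
theorem c125_0 : allRange (fun i => Nat.beq (act125 i) i) 0 2160 = true := by decide +kernel
theorem h125 : ∀ i, i < T.N → Tab.relActOK T D chk125 i = true := by
  intro i hi
  rw [Tab.relActOK, ← act125_eq]
  exact (range_of_allRange c125_0) i (Nat.zero_le _) hi

def chk126 : List Nat := [1, 3, 0, 2, 1, 3, 0, 2, 1, 3, 0, 2, 1, 3, 0, 2, 1, 3, 0, 2, 1, 3, 0, 2]
noncomputable def act126 (i : Nat) : Nat := col0 (col2 (col1 (col3 (col0 (col2 (col1 (col3 (col0 (col2 (col1 (col3 (col0 (col2 (col1 (col3 (col0 (col2 (col1 (col3 (col0 (col2 (col1 (col3 (i))))))))))))))))))))))))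
theorem act126_eq (i : Nat) : act126 i = Tab.act T D chk126 i := rfl
theorem c126_0 : allRange (fun i => Nat.beq (act126 i) i) 0 2160 = true := by decide +kernel
theorem h126 : ∀ i, i < T.N → Tab.relActOK T D chk126 i = true := by
  intro i hi
  rw [Tab.relActOK, ← act126_eq]
  exact (range_of_allRange c126_0) i (Nat.zero_le _) hi

def chk127 : List Nat := [4, 1, 0, 2, 1, 3, 0, 2, 1, 3, 0, 5, 1, 3, 0, 2, 1, 3, 0, 2]
noncomputable def act127 (i : Nat) : Nat := col5 (col0 (col1 (col3 (col0 (col2 (col1 (col3 (col0 (col2 (col1 (col4 (col0 (col2 (col1 (col3 (col0 (col2 (col1 (col3 (i))))))))))))))))))))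
theorem act127_eq (i : Nat) : act127 i = Tab.act T D chk127 i := rfl
theorem c127_0 : allRange (fun i => Nat.beq (act127 i) i) 0 2160 = true := by decide +kernel
theorem h127 : ∀ i, i < T.N → Tab.relActOK T D chk127 i = true := by
  intro i hi
  rw [Tab.relActOK, ← act127_eq]
  exact (range_of_allRange c127_0) i (Nat.zero_le _) hi

def chk128 : List Nat := [0, 2, 1, 3, 0, 2, 1, 3, 0, 2, 1, 3, 0, 2, 1, 3, 0, 2, 1, 3, 0, 2, 1, 3]
noncomputable def act128 (i : Nat) : Nat := col1 (col3 (col0 (col2 (col1 (col3 (col0 (col2 (col1 (col3 (col0 (col2 (col1 (col3 (col0 (col2 (col1 (col3 (col0 (col2 (col1 (col3 (col0 (col2 (i))))))))))))))))))))))))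
theorem act128_eq (i : Nat) : act128 i = Tab.act T D chk128 i := rfl
theorem c128_0 : allRange (fun i => Nat.beq (act128 i) i) 0 2160 = true := by decide +kernel
theorem h128 : ∀ i, i < T.N → Tab.relActOK T D chk128 i = true := by
  intro i hi
  rw [Tab.relActOK, ← act128_eq]
  exact (range_of_allRange c128_0) i (Nat.zero_le _) hi

def chk129 : List Nat := [3, 1, 2, 0, 3, 1, 2, 0, 3, 1, 2, 0, 3, 1, 2, 0, 3, 1, 2, 0, 3, 1, 2, 0]
noncomputable def act129 (i : Nat) : Nat := col2 (col0 (col3 (col1 (col2 (col0 (col3 (col1 (col2 (col0 (col3 (col1 (col2 (col0 (col3 (col1 (col2 (col0 (col3 (col1 (col2 (col0 (col3 (col1 (i))))))))))))))))))))))))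
theorem act129_eq (i : Nat) : act129 i = Tab.act T D chk129 i := rfl
theorem c129_0 : allRange (fun i => Nat.beq (act129 i) i) 0 2160 = true := by decide +kernel
theorem h129 : ∀ i, i < T.N → Tab.relActOK T D chk129 i = true := by
  intro i hi
  rw [Tab.relActOK, ← act129_eq]
  exact (range_of_allRange c129_0) i (Nat.zero_le _) hi

def chk130 : List Nat := [4, 1, 2, 0, 3, 1, 2, 0, 3, 1, 0, 5, 3, 1, 2, 0, 3, 1, 2, 0]
noncomputable def act130 (i : Nat) : Nat := col5 (col0 (col3 (col1 (col2 (col0 (col3 (col1 (col2 (col0 (col1 (col4 (col2 (col0 (col3 (col1 (col2 (col0 (col3 (col1 (i))))))))))))))))))))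
theorem act130_eq (i : Nat) : act130 i = Tab.act T D chk130 i := rfl
theorem c130_0 : allRange (fun i => Nat.beq (act130 i) i) 0 2160 = true := by decide +kernel
theorem h130 : ∀ i, i < T.N → Tab.relActOK T D chk130 i = true := by
  intro i hi
  rw [Tab.relActOK, ← act130_eq]
  exact (range_of_allRange c130_0) i (Nat.zero_le _) hi

def chk131 : List Nat := [2, 0, 3, 1, 2, 0, 3, 1, 2, 0, 3, 1, 2, 0, 3, 1, 2, 0, 3, 1, 2, 0, 3, 1]
noncomputable def act131 (i : Nat) : Nat := col3 (col1 (col2 (col0 (col3 (col1 (col2 (col0 (col3 (col1 (col2 (col0 (col3 (col1 (col2 (col0 (col3 (col1 (col2 (col0 (col3 (col1 (col2 (col0 (i))))))))))))))))))))))))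
theorem act131_eq (i : Nat) : act131 i = Tab.act T D chk131 i := rfl
theorem c131_0 : allRange (fun i => Nat.beq (act131 i) i) 0 2160 = true := by decide +kernel
theorem h131 : ∀ i, i < T.N → Tab.relActOK T D chk131 i = true := by
  intro i hi
  rw [Tab.relActOK, ← act131_eq]
  exact (range_of_allRange c131_0) i (Nat.zero_le _) hi

def chk132 : List Nat := [1, 3, 0, 2, 1, 3, 0, 2, 1, 3, 0, 2, 1, 3, 0, 2, 1, 3, 0, 2, 1, 3, 0, 2]
noncomputable def act132 (i : Nat) : Nat := col0 (col2 (col1 (col3 (col0 (col2 (col1 (col3 (col0 (col2 (col1 (col3 (col0 (col2 (col1 (col3 (col0 (col2 (col1 (col3 (col0 (col2 (col1 (col3 (i))))))))))))))))))))))))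
theorem act132_eq (i : Nat) : act132 i = Tab.act T D chk132 i := rfl
theorem c132_0 : allRange (fun i => Nat.beq (act132 i) i) 0 2160 = true := by decide +kernel
theorem h132 : ∀ i, i < T.N → Tab.relActOK T D chk132 i = true := by
  intro i hi
  rw [Tab.relActOK, ← act132_eq]
  exact (range_of_allRange c132_0) i (Nat.zero_le _) hi

def chk133 : List Nat := [4, 2, 1, 1, 2, 1, 2, 0, 2, 0, 3, 5, 2, 0, 3, 0, 3, 1, 3, 3]
noncomputable def act133 (i : Nat) : Nat := col5 (col3 (col0 (col0 (col3 (col0 (col3 (col1 (col3 (col1 (col2 (col4 (col3 (col1 (col2 (col1 (col2 (col0 (col2 (col2 (i))))))))))))))))))))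
theorem act133_eq (i : Nat) : act133 i = Tab.act T D chk133 i := rfl
theorem c133_0 : allRange (fun i => Nat.beq (act133 i) i) 0 2160 = true := by decide +kernel
theorem h133 : ∀ i, i < T.N → Tab.relActOK T D chk133 i = true := by
  intro i hi
  rw [Tab.relActOK, ← act133_eq]
  exact (range_of_allRange c133_0) i (Nat.zero_le _) hi

def chk134 : List Nat := [1, 1, 2, 1, 2, 0, 2, 0, 1, 1, 2, 1, 2, 0, 2, 0, 1, 1, 2, 1, 2, 0, 2, 0]
noncomputable def act134 (i : Nat) : Nat := col0 (col0 (col3 (col0 (col3 (col1 (col3 (col1 (col0 (col0 (col3 (col0 (col3 (col1 (col3 (col1 (col0 (col0 (col3 (col0 (col3 (col1 (col3 (col1 (i))))))))))))))))))))))))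
theorem act134_eq (i : Nat) : act134 i = Tab.act T D chk134 i := rfl
theorem c134_0 : allRange (fun i => Nat.beq (act134 i) i) 0 2160 = true := by decide +kernel
theorem h134 : ∀ i, i < T.N → Tab.relActOK T D chk134 i = true := by
  intro i hi
  rw [Tab.relActOK, ← act134_eq]
  exact (range_of_allRange c134_0) i (Nat.zero_le _) hi

def chk135 : List Nat := [2, 2, 0, 2, 1, 2, 1, 3, 2, 2, 0, 2, 1, 2, 1, 3, 2, 2, 0, 2, 1, 2, 1, 3]
noncomputable def act135 (i : Nat) : Nat := col3 (col3 (col1 (col3 (col0 (col3 (col0 (col2 (col3 (col3 (col1 (col3 (col0 (col3 (col0 (col2 (col3 (col3 (col1 (col3 (col0 (col3 (col0 (col2 (i))))))))))))))))))))))))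
theorem act135_eq (i : Nat) : act135 i = Tab.act T D chk135 i := rfl
theorem c135_0 : allRange (fun i => Nat.beq (act135 i) i) 0 2160 = true := by decide +kernel
theorem h135 : ∀ i, i < T.N → Tab.relActOK T D chk135 i = true := by
  intro i hi
  rw [Tab.relActOK, ← act135_eq]
  exact (range_of_allRange c135_0) i (Nat.zero_le _) hi

def chk136 : List Nat := [4, 2, 1, 3, 0, 2, 1, 3, 0, 2, 3, 5, 1, 3, 0, 2, 1, 3, 0, 2]
noncomputable def act136 (i : Nat) : Nat := col5 (col3 (col0 (col2 (col1 (col3 (col0 (col2 (col1 (col3 (col2 (col4 (col0 (col2 (col1 (col3 (col0 (col2 (col1 (col3 (i))))))))))))))))))))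
theorem act136_eq (i : Nat) : act136 i = Tab.act T D chk136 i := rfl
theorem c136_0 : allRange (fun i => Nat.beq (act136 i) i) 0 2160 = true := by decide +kernel
theorem h136 : ∀ i, i < T.N → Tab.relActOK T D chk136 i = true := by
  intro i hi
  rw [Tab.relActOK, ← act136_eq]
  exact (range_of_allRange c136_0) i (Nat.zero_le _) hi

def chk137 : List Nat := [1, 3, 0, 2, 1, 3, 0, 2, 1, 3, 0, 2, 1, 3, 0, 2, 1, 3, 0, 2, 1, 3, 0, 2]
noncomputable def act137 (i : Nat) : Nat := col0 (col2 (col1 (col3 (col0 (col2 (col1 (col3 (col0 (col2 (col1 (col3 (col0 (col2 (col1 (col3 (col0 (col2 (col1 (col3 (col0 (col2 (col1 (col3 (i))))))))))))))))))))))))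
theorem act137_eq (i : Nat) : act137 i = Tab.act T D chk137 i := rfl
theorem c137_0 : allRange (fun i => Nat.beq (act137 i) i) 0 2160 = true := by decide +kernel
theorem h137 : ∀ i, i < T.N → Tab.relActOK T D chk137 i = true := by
  intro i hi
  rw [Tab.relActOK, ← act137_eq]
  exact (range_of_allRange c137_0) i (Nat.zero_le _) hi

def chk138 : List Nat := [3, 1, 2, 0, 3, 1, 2, 0, 3, 1, 2, 0, 3, 1, 2, 0, 3, 1, 2, 0, 3, 1, 2, 0]
noncomputable def act138 (i : Nat) : Nat := col2 (col0 (col3 (col1 (col2 (col0 (col3 (col1 (col2 (col0 (col3 (col1 (col2 (col0 (col3 (col1 (col2 (col0 (col3 (col1 (col2 (col0 (col3 (col1 (i))))))))))))))))))))))))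
theorem act138_eq (i : Nat) : act138 i = Tab.act T D chk138 i := rfl
theorem c138_0 : allRange (fun i => Nat.beq (act138 i) i) 0 2160 = true := by decide +kernel
theorem h138 : ∀ i, i < T.N → Tab.relActOK T D chk138 i = true := by
  intro i hi
  rw [Tab.relActOK, ← act138_eq]
  exact (range_of_allRange c138_0) i (Nat.zero_le _) hi

def chkAll : List (List Nat) := [chk0, chk1, chk2, chk3, chk4, chk5, chk6, chk7, chk8, chk9, chk10, chk11, chk12, chk13, chk14, chk15, chk16, chk17, chk18, chk19, chk20, chk21, chk22, chk23, chk24, chk25, chk26, chk27, chk28, chk29, chk30, chk31, chk32, chk33, chk34, chk35, chk36, chk37, chk38, chk39, chk40, chk41, chk42, chk43, chk44, chk45, chk46, chk47, chk48, chk49, chk50, chk51, chk52, chk53, chk54, chk55, chk56, chk57, chk58, chk59, chk60, chk61, chk62, chk63, chk64, chk65, chk66, chk67, chk68, chk69, chk70, chk71, chk72, chk73, chk74, chk75, chk76, chk77, chk78, chk79, chk80, chk81, chk82, chk83, chk84, chk85, chk86, chk87, chk88,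 chk89, chk90, chk91, chk92, chk93, chk94, chk95, chk96, chk97, chk98, chk99, chk100, chk101, chk102, chk103, chk104, chk105, chk106, chk107, chk108, chk109, chk110, chk111, chk112, chk113, chk114, chk115, chk116, chk117, chk118, chk119, chk120, chk121, chk122, chk123, chk124, chk125, chk126, chk127, chk128, chk129, chk130, chk131, chk132, chk133, chk134, chk135, chk136, chk137, chk138]
theorem hAll : ∀ w ∈ chkAll, ∀ i, i < T.N → Tab.relActOK T D w i = true := by
  intro w hw
  simp only [chkAll, List.mem_cons, List.not_mem_nil, or_false] at hw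
  rcases hw with rfl | rfl | rfl | rfl | rfl | rfl | rfl | rfl | rfl | rfl | rfl | rfl | rfl | rfl | rfl | rfl | rfl | rfl | rfl | rfl | rfl | rfl | rfl | rfl | rfl | rfl | rfl | rfl | rfl | rfl | rfl | rfl | rfl | rfl | rfl | rfl | rfl | rfl | rfl | rfl | rfl | rfl | rfl | rfl | rfl | rfl | rfl | rfl | rfl | rfl | rfl | rfl | rfl | rfl | rfl | rfl | rfl | rfl | rfl | rfl | rfl | rfl | rfl | rfl | rfl | rfl | rfl | rfl | rfl | rfl | rfl | rfl | rfl | rfl | rfl | rfl | rfl | rfl | rfl | rfl | rfl | rfl | rfl | rfl | rfl | rfl | rfl | rfl | rfl | rfl | rfl | rfl | rfl | rfl | rfl | rfl | rfl | rfl | rfl | rfl | rfl | rfl | rfl | rfl | rfl | rfl | rfl | rfl | rfl | rfl | rfl | rfl | rfl | rfl | rfl | rfl | rfl | rfl | rfl | rfl | rfl | rfl | rfl | rfl | rfl | rfl | rfl | rfl | rfl | rfl | rfl | rfl | rfl | rfl | rfl | rfl | rfl | rfl | rfl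
  · exact h0
  · exact h1
  · exact h2
  · exact h3
  · exact h4
  · exact h5
  · exact h6
  · exact h7
  · exact h8
  · exact h9
  · exact h10
  · exact h11
  · exact h12
  · exact h13
  · exact h14
  · exact h15
  · exact h16
  · exact h17
  · exact h18
  · exact h19
  · exact h20
  · exact h21
  · exact h22
  · exact h23
  · exact h24
  · exact h25
  · exact h26
  · exact h27
  · exact h28
  · exact h29
  · exact h30
  · exact h31
  · exact h32
  · exact h33
  · exact h34
  · exact h35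
  · exact h36
  · exact h37
  · exact h38
  · exact h39
  · exact h40
  · exact h41
  · exact h42
  · exact h43
  · exact h44
  · exact h45
  · exact h46
  · exact h47
  · exact h48
  · exact h49
  · exact h50
  · exact h51
  · exact h52
  · exact h53
  · exact h54
  · exact h55
  · exact h56
  · exact h57
  · exact h58
  · exact h59
  · exact h60
  · exact h61
  · exact h62
  · exact h63
  · exact h64
  · exact h65
  · exact h66
  · exact h67
  · exact h68
  · exact h69
  · exact h70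
  · exact h71
  · exact h72
  · exact h73
  · exact h74
  · exact h75
  · exact h76
  · exact h77
  · exact h78
  · exact h79
  · exact h80
  · exact h81
  · exact h82
  · exact h83
  · exact h84
  · exact h85
  · exact h86
  · exact h87
  · exact h88
  · exact h89
  · exact h90
  · exact h91
  · exact h92
  · exact h93
  · exact h94
  · exact h95
  · exact h96
  · exact h97
  · exact h98
  · exact h99
  · exact h100
  · exact h101
  · exact h102
  · exact h103
  · exact h104
  · exact h105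
  · exact h106
  · exact h107
  · exact h108
  · exact h109
  · exact h110
  · exact h111
  · exact h112
  · exact h113
  · exact h114
  · exact h115
  · exact h116
  · exact h117
  · exact h118
  · exact h119
  · exact h120
  · exact h121
  · exact h122
  · exact h123
  · exact h124
  · exact h125
  · exact h126
  · exact h127
  · exact h128
  · exact h129
  · exact h130
  · exact h131
  · exact h132
  · exact h133
  · exact h134
  · exact h135
  · exact h136
  · exact h137
  · exact h138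
theorem hAll_lt : ∀ w ∈ chkAll, ∀ x ∈ w, x < 8 := by decide +kernel

end Cfsg.Agent.Lib.Helper4.TCD.SC4U43p2W
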