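import Cfsg.Agent.Lib.Helper4.TCD_SC9U43p3A_Acc

namespace Cfsg.Agent.Lib.Helper4.TCD.SC9U43p3A

open Cfsg.Agent.Lib.Helper4.TC

set_option maxRecDepth 100000
set_option Elab.async false

theorem c_act115_0 : allRange (fun i => Nat.beq (actR115 i) i) 0 4860 = true := by decide +kernel
theorem c_act116_0 : allRange (fun i => Nat.beq (actR116 i) i) 0 4860 = true := by decide +kernel
theorem c_act117_0 : allRange (fun i => Nat.beq (actR117 i) i) 0 4860 = true := by decide +kernel
theorem c_act118_0 : allRange (fun i => Nat.beq (actR118 i) i) 0 4860 = true := by decide +kernel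
theorem c_act119_0 : allRange (fun i => Nat.beq (actR119 i) i) 0 4860 = true := by decide +kernel
theorem c_act120_0 : allRange (fun i => Nat.beq (actR120 i) i) 0 4860 = true := by decide +kernel
theorem c_act121_0 : allRange (fun i => Nat.beq (actR121 i) i) 0 4860 = true := by decide +kernel
theorem c_act122_0 : allRange (fun i => Nat.beq (actR122 i) i) 0 4860 = true := by decide +kernel
theorem c_act123_0 : allRange (fun i => Nat.beq (actR123 i) i) 0 4860 = true := by decide +kernel
theorem c_act124_0 : allRange (fun i => Nat.beq (actR124 i) i) 0 4860 = true := by decide +kernel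
theorem c_act125_0 : allRange (fun i => Nat.beq (actR125 i) i) 0 4860 = true := by decide +kernel
theorem c_act126_0 : allRange (fun i => Nat.beq (actR126 i) i) 0 4615 = true := by decide +kernel
theorem c_act126_1 : allRange (fun i => Nat.beq (actR126 i) i) 4615 245 = true := by decide +kernel
theorem c_act127_0 : allRange (fun i => Nat.beq (actR127 i) i) 0 4615 = true := by decide +kernel
theorem c_act127_1 : allRange (fun i => Nat.beq (actR127 i) i) 4615 245 = true := by decide +kernel
theorem c_act128_0 : allRange (fun i => Nat.beq (actR128 i) i) 0 4615 = true := by decide +kernel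
theorem c_act128_1 : allRange (fun i => Nat.beq (actR128 i) i) 4615 245 = true := by decide +kernel
theorem c_act129_0 : allRange (fun i => Nat.beq (actR129 i) i) 0 4615 = true := by decide +kernel
theorem c_act129_1 : allRange (fun i => Nat.beq (actR129 i) i) 4615 245 = true := by decide +kernel
theorem c_act130_0 : allRange (fun i => Nat.beq (actR130 i) i) 0 4615 = true := by decide +kernel
theorem c_act130_1 : allRange (fun i => Nat.beq (actR130 i) i) 4615 245 = true := by decide +kernel
theorem c_act131_0 : allRange (fun i => Nat.beq (actR131 i) i) 0 4615 = true := by decide +kernel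
theorem c_act131_1 : allRange (fun i => Nat.beq (actR131 i) i) 4615 245 = true := by decide +kernel
theorem c_act132_0 : allRange (fun i => Nat.beq (actR132 i) i) 0 4615 = true := by decide +kernel
theorem c_act132_1 : allRange (fun i => Nat.beq (actR132 i) i) 4615 245 = true := by decide +kernel
theorem c_act133_0 : allRange (fun i => Nat.beq (actR133 i) i) 0 4615 = true := by decide +kernel
theorem c_act133_1 : allRange (fun i => Nat.beq (actR133 i) i) 4615 245 = true := by decide +kernel
theorem c_act134_0 : allRange (fun i => Nat.beq (actR134 i) i) 0 3750 = true := by decide +kernel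
theorem c_act134_1 : allRange (fun i => Nat.beq (actR134 i) i) 3750 1110 = true := by decide +kernel
theorem c_act135_0 : allRange (fun i => Nat.beq (actR135 i) i) 0 3750 = true := by decide +kernel
theorem c_act135_1 : allRange (fun i => Nat.beq (actR135 i) i) 3750 1110 = true := by decide +kernel
theorem c_act136_0 : allRange (fun i => Nat.beq (actR136 i) i) 0 3750 = true := by decide +kernel
theorem c_act136_1 : allRange (fun i => Nat.beq (actR136 i) i) 3750 1110 = true := by decide +kernel
theorem c_act137_0 : allRange (fun i => Nat.beq (actR137 i) i) 0 3750 = true := by decide +kernel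
theorem c_act137_1 : allRange (fun i => Nat.beq (actR137 i) i) 3750 1110 = true := by decide +kernel
theorem c_act138_0 : allRange (fun i => Nat.beq (actR138 i) i) 0 3157 = true := by decide +kernel
theorem c_act138_1 : allRange (fun i => Nat.beq (actR138 i) i) 3157 1703 = true := by decide +kernel
theorem c_act139_0 : allRange (fun i => Nat.beq (actR139 i) i) 0 3157 = true := by decide +kernel
theorem c_act139_1 : allRange (fun i => Nat.beq (actR139 i) i) 3157 1703 = true := by decide +kernel
theorem c_act140_0 : allRange (fun i => Nat.beq (actR140 i) i) 0 3000 = true := by decide +kernel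
theorem c_act140_1 : allRange (fun i => Nat.beq (actR140 i) i) 3000 1860 = true := by decide +kernel
theorem c_act141_0 : allRange (fun i => Nat.beq (actR141 i) i) 0 3000 = true := by decide +kernel
theorem c_act141_1 : allRange (fun i => Nat.beq (actR141 i) i) 3000 1860 = true := by decide +kernel
theorem c_act142_0 : allRange (fun i => Nat.beq (actR142 i) i) 0 3000 = true := by decide +kernel
theorem c_act142_1 : allRange (fun i => Nat.beq (actR142 i) i) 3000 1860 = true := by decide +kernel
theorem c_act143_0 : allRange (fun i => Nat.beq (actR143 i) i) 0 3000 = true := by decide +kernel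
theorem c_act143_1 : allRange (fun i => Nat.beq (actR143 i) i) 3000 1860 = true := by decide +kernel
theorem c_act144_0 : allRange (fun i => Nat.beq (actR144 i) i) 0 2727 = true := by decide +kernel
theorem c_act144_1 : allRange (fun i => Nat.beq (actR144 i) i) 2727 2133 = true := by decide +kernel
theorem c_act145_0 : allRange (fun i => Nat.beq (actR145 i) i) 0 2727 = true := by decide +kernel
theorem c_act145_1 : allRange (fun i => Nat.beq (actR145 i) i) 2727 2133 = true := by decide +kernel
theorem c_act146_0 : allRange (fun i => Nat.beq (actR146 i) i) 0 2727 = true := by decide +kernel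
theorem c_act146_1 : allRange (fun i => Nat.beq (actR146 i) i) 2727 2133 = true := by decide +kernel
theorem c_act147_0 : allRange (fun i => Nat.beq (actR147 i) i) 0 2727 = true := by decide +kernel
theorem c_act147_1 : allRange (fun i => Nat.beq (actR147 i) i) 2727 2133 = true := by decide +kernel

end Cfsg.Agent.Lib.Helper4.TCD.SC9U43p3A
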