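import Mathlib
import Cfsg.Agent.Lib.Helper4.C9U43Main
import Cfsg.Agent.Lib.Helper4.TCD_SC9U43p3A_Fin
import Cfsg.Agent.Lib.Helper4.TCD_SC9U43p3W
import Cfsg.Agent.Lib.Helper4.StemLib8
import Cfsg.Agent.Lib.Helper4.C9U43Sub

/-! `C9U43` has no stem extension with kernel of order 3 (generated). -/

namespace Cfsg.Agent.Lib.Helper4.SC9U43p3Main

open Cfsg.Agent.Lib.Helper4.TC Cfsg.Agent.Lib.Helper4.TCD Cfsg.Agent.Lib.Helper4.TC.Log Cfsg.Agent.Lib.Helper4.Stem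

/-- the description of the auxiliary presentation -/
def spec : Spec4 :=
  { p := 3
    items := [(0, [], 7),
      (2, [], 4),
      (4, [], 7),
      (6, [2, 4, 2, 4, 2, 4, 2, 4], 0),
      (8, [0, 0, 0, 3, 4, 1, 3, 4, 1, 3], 0),
      (10, [0, 2, 0, 2, 1, 5, 1, 3, 1, 3, 4], 0),
      (12, [0, 0, 0, 0, 5, 1, 2, 0, 0, 0, 2, 5, 9, 9], 0),
      (14, [0, 0, 0, 2, 1, 2, 1, 1, 1, 5, 1, 3, 5, 9, 9], 0),
      (16, [0, 0, 3, 1, 3, 0, 0, 4, 2, 1, 1, 5, 2], 0),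
      (18, [0, 0, 2, 0, 0, 3, 0, 5, 0, 5, 5, 5, 0, 5, 3, 9], 0),
      (20, [0, 0, 2, 4, 0, 5, 1, 1, 5, 3, 5, 2, 0, 2, 2, 9], 0),
      (22, [6, 6, 6], 0),
      (24, [8, 8, 8], 0),
      (26, [7, 1, 6, 0], 0),
      (28, [7, 3, 6, 2], 0),
      (30, [7, 5, 6, 4], 0),
      (32, [9, 1, 8, 0], 0),
      (34, [9, 3, 8, 2], 0),
      (36, [9, 5, 8, 4], 0),
      (38, [7, 9, 6, 8], 0)]
    cen := [10, 12, 14, 16, 18, 20, 22, 24, 26, 28, 30, 32, 34, 36, 38]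
    R := []
    sub := [0, 2]
    PR := [[0, 0, 0, 0, 0, 0, 0], [0, 0, 2, 1, 2, 0, 3, 0, 2, 1, 2], [0, 0, 0, 2, 0, 0, 0, 2, 0, 0, 0, 2], [0, 0, 2, 2, 0, 0, 3, 3, 0, 0, 3, 3]]
    XR := [([4], [0, 0, 0, 2, 0], [2, 1, 1, 1], 4),
      ([4], [0, 2, 0, 2, 1], [2, 0, 2, 0], 4),
      ([4], [0, 3, 1, 3, 1], [1, 3, 1, 3], 4),
      ([4], [1, 3, 1, 1, 1], [0, 0, 0, 3], 4),
      ([5], [0, 0, 0, 3], [1, 3, 1, 1, 1], 4),
      ([5], [1, 3, 1, 3], [0, 3, 1, 3, 1], 4),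
      ([5], [2, 0, 2, 0], [0, 2, 0, 2, 1], 4),
      ([5], [2, 1, 1, 1], [0, 0, 0, 2, 0], 4),
      ([4, 0], [2, 0, 2], [2, 0, 2, 0], 4),
      ([4, 0], [3, 1, 3], [1, 3, 1, 3], 4),
      ([4, 1], [1, 1, 1, 2], [2, 1, 1, 1], 4),
      ([4, 1], [3, 0, 0, 0], [0, 0, 0, 3], 4),
      ([4], [0, 0, 3], [2, 0, 0, 3, 1, 3, 0, 0], 8),
      ([4], [2, 1, 1], [1, 1, 2, 0, 2, 1, 1, 3], 8),
      ([4], [1, 3, 1, 3], [1, 1, 3, 1, 3, 0, 0], 4),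
      ([4], [2, 0, 2, 0], [1, 1, 2, 0, 2, 0, 0], 4),
      ([5], [1, 1, 2, 0, 2, 0, 0], [2, 0, 2, 0], 4),
      ([5], [1, 1, 3, 1, 3, 0, 0], [1, 3, 1, 3], 4),
      ([5], [1, 1, 2, 0, 2, 1, 1, 3], [2, 1, 1], 8),
      ([5], [2, 0, 0, 3, 1, 3, 0, 0], [0, 0, 3], 8),
      ([4, 4], [0, 2, 0, 2, 1], [1, 1, 2, 0, 2, 0, 0], 4),
      ([4, 4], [0, 3, 1, 3, 1], [1, 1, 3, 1, 3, 0, 0], 4),
      ([5, 5], [1, 1, 2, 0, 2, 0, 0], [0, 2, 0, 2, 1], 4),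
      ([5, 5], [1, 1, 3, 1, 3, 0, 0], [0, 3, 1, 3, 1], 4),
      ([4, 4], [0, 0, 3, 1, 3, 1, 3], [0, 3, 0, 2, 2, 1, 2, 1], 2),
      ([5, 5], [0, 3, 0, 2, 2, 1, 2, 1], [0, 0, 3, 1, 3, 1, 3], 2),
      ([4, 4], [1, 2, 0, 3, 0, 0, 0, 2], [3, 1, 2, 1, 1, 1, 3, 0], 4),
      ([4, 4], [3, 1, 1, 1, 2, 1, 3, 0], [1, 2, 0, 0, 0, 3, 0, 2], 4),
      ([5, 5], [1, 2, 0, 0, 0, 3, 0, 2], [3, 1, 1, 1, 2, 1, 3, 0], 4),
      ([5, 5], [3, 1, 2, 1, 1, 1, 3, 0], [1, 2, 0, 3, 0, 0, 0, 2], 4),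
      ([4, 4], [1, 1, 1, 2, 1, 3, 0, 0, 2], [0, 2, 1, 1, 2, 2, 0, 3, 1], 4),
      ([4, 4], [3, 1, 1, 2, 0, 3, 0, 0, 0], [0, 0, 3, 0, 2, 1, 1, 3, 0], 4),
      ([5, 5], [0, 0, 3, 0, 2, 1, 1, 3, 0], [3, 1, 1, 2, 0, 3, 0, 0, 0], 4),
      ([5, 5], [0, 2, 1, 1, 2, 2, 0, 3, 1], [1, 1, 1, 2, 1, 3, 0, 0, 2], 4)] }

/-- the letters of the auxiliary presentation as words of the base group -/
def Wl (l : ℕ) : List ℕ :=
  [[0], [1], [2], [3], [4], [5], [6], [7], [8], [9], [], [], [], [], [], [], [], [], [], [], [], [], [], [], [], [], [], [], [], [], [], [], [], [], [], [], [], [], [], []].getD l []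

theorem checks_eq : checks spec.toSpec2 PC9U43.P.invR Wl ++ checksX spec PSC9U43p3.P.invR Wl = SC9U43p3W.chkAll := by decide +kernel

theorem sub_eq : Subgroup.closure (xw PC9U43.P Wl '' {l | l ∈ spec.sub}) = Inst.subG PC9U43.P C9U43B.subs := by
  rw [closure_xw_eq]
  rfl

set_option maxRecDepth 100000 in
theorem noStem : NoStemPrime PC9U43.P.Grp 3 := by
  obtain ⟨fG, hinj, hcard⟩ := C9U43Main.order_aux
  have hall : ∀ w ∈ checks spec.toSpec2 PC9U43.P.invR Wl ++ checksX spec PSC9U43p3.P.invR Wl, wordP PC9U43.P.gR w = 1 := by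
    rw [checks_eq]
    intro w hw
    exact C9U43R.prep.word_eq_one hinj w (SC9U43p3W.hAll_lt w hw) (SC9U43p3W.hAll w hw)
  exact noStemPrime_pres4 PC9U43.P PC9U43.valid PSC9U43p3.P PSC9U43p3.valid spec (by show Nat.Prime 3; norm_num) Wl
    (by decide +kernel) (by decide +kernel) (fun w hw => hall w (List.mem_append_left _ hw))
    (fun w hw => hall w (List.mem_append_right _ hw)) (by decide +kernel)
    (by rw [sub_eq]; exact C9U43Sub.liftsP_sub 3 (by norm_num))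
    6048 (by rw [sub_eq]; exact C9U43Sub.sub_card.2)
    4860 (by decide) SC9U43p3A.index_eq fG 29393280 hcard (by decide)

end Cfsg.Agent.Lib.Helper4.SC9U43p3Main
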