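import Mathlib
import Cfsg.Prelude.Def_Classical
import Cfsg.Agent.Lib.Helper4.MatWord
import Cfsg.Agent.Lib.Helper4.TC20
import Cfsg.Agent.Lib.Helper4.U43pMain
import Cfsg.Agent.Lib.Helper4.RepLib
import Cfsg.Agent.Lib.Helper5.HermCard

/-!
The presented group `U43p` of order 3265920 is isomorphic to `PSU₄(3)`: explicit unitary matrices over the
field with nine elements satisfy the relators up to scalars.
-/

namespace Cfsg.Agent.Lib.Helper4.U43pIso

open Matrix Cfsg.Agent.Lib.Helper4.TC Cfsg.Agent.Lib.Helper4.TC.Log Cfsg.Agent.Lib.Helper4.MatWord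

/-- the field with nine elements: `re + im * i` with `i² = -1` -/
@[ext] structure F9c where
  re : ZMod 3
  im : ZMod 3
deriving DecidableEq, Fintype

namespace F9c

instance : Zero F9c := ⟨⟨0, 0⟩⟩
instance : One F9c := ⟨⟨1, 0⟩⟩
instance : Add F9c := ⟨fun a b => ⟨a.re + b.re, a.im + b.im⟩⟩
instance : Neg F9c := ⟨fun a => ⟨-a.re, -a.im⟩⟩
instance : Mul F9c := ⟨fun a b => ⟨a.re * b.re - a.im * b.im, a.re * b.im + a.im * b.re⟩⟩

instance : CommRing F9c where
  add_assoc := by decide +kernel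
  zero_add := by decide +kernel
  add_zero := by decide +kernel
  nsmul := nsmulRec
  zsmul := zsmulRec
  neg_add_cancel := by decide +kernel
  add_comm := by decide +kernel
  left_distrib := by decide +kernel
  right_distrib := by decide +kernel
  zero_mul := by decide +kernel
  mul_zero := by decide +kernel
  mul_assoc := by decide +kernel
  one_mul := by decide +kernel
  mul_one := by decide +kernel
  mul_comm := by decide +kernel

@[simp] theorem zero_re : (0 : F9c).re = 0 := rfl
@[simp] theorem zero_im : (0 : F9c).im = 0 := rfl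
@[simp] theorem one_re : (1 : F9c).re = 1 := rfl
@[simp] theorem one_im : (1 : F9c).im = 0 := rfl
@[simp] theorem add_re (a b : F9c) : (a + b).re = a.re + b.re := rfl
@[simp] theorem add_im (a b : F9c) : (a + b).im = a.im + b.im := rfl
@[simp] theorem mul_re (a b : F9c) : (a * b).re = a.re * b.re - a.im * b.im := rfl
@[simp] theorem mul_im (a b : F9c) : (a * b).im = a.re * b.im + a.im * b.re := rfl

def e0 : F9c := ⟨0, 0⟩
def e1 : F9c := ⟨1, 0⟩
def e2 : F9c := ⟨2, 0⟩
def e3 : F9c := ⟨0, 1⟩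
def e4 : F9c := ⟨1, 1⟩
def e5 : F9c := ⟨2, 1⟩
def e6 : F9c := ⟨0, 2⟩
def e7 : F9c := ⟨1, 2⟩
def e8 : F9c := ⟨2, 2⟩

theorem exists_inv : ∀ x : F9c, x ≠ 0 → ∃ y : F9c, x * y = 1 := by decide +kernel

/-- the homomorphism to a field of characteristic three with a square root of `-1` -/
noncomputable def toF {F : Type*} [Field F] [CharP F 3] (i : F) (hi : i ^ 2 = -1) : F9c →+* F where
  toFun x := ZMod.castHom (dvd_refl 3) F x.re + ZMod.castHom (dvd_refl 3) F x.im * i
  map_one' := by simp
  map_zero' := by simp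
  map_add' := by
    intro a b
    simp only [add_re, add_im, map_add]
    ring
  map_mul' := by
    intro a b
    simp only [mul_re, mul_im, map_add, map_sub, map_mul]
    linear_combination (-(ZMod.castHom (dvd_refl 3) F a.im * ZMod.castHom (dvd_refl 3) F b.im)) * hi

theorem toF_injective {F : Type*} [Field F] [CharP F 3] (i : F) (hi : i ^ 2 = -1) :
    Function.Injective (toF i hi) := by
  rw [injective_iff_map_eq_zero]
  intro x hx
  by_contra hne
  obtain ⟨y, hy⟩ := exists_inv x hne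
  have h := congrArg (toF i hi) hy
  rw [map_mul, hx, zero_mul, map_one] at h
  exact zero_ne_one h

end F9c

open F9c

/-- the images of the letters -/
def Cc : Matrix (Fin 4) (Fin 4) F9c := !![e0, e0, e2, e0; e8, e4, e0, e0; e7, e7, e0, e0; e0, e0, e0, e1]
def Cci : Matrix (Fin 4) (Fin 4) F9c := !![e0, e5, e4, e0; e0, e7, e4, e0; e2, e0, e0, e0; e0, e0, e0, e1]
def Dc : Matrix (Fin 4) (Fin 4) F9c := !![e2, e5, e1, e0; e7, e2, e3, e0; e3, e1, e7, e0; e0, e0, e0, e1]
def Dci : Matrix (Fin 4) (Fin 4) F9c := !![e2, e4, e6, e0; e8, e2, e1, e0; e1, e6, e4, e0; e0, e0, e0, e1]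
def Tc : Matrix (Fin 4) (Fin 4) F9c := !![e2, e4, e0, e6; e2, e7, e7, e5; e2, e6, e2, e1; e1, e8, e6, e0]
def Tci : Matrix (Fin 4) (Fin 4) F9c := !![e2, e2, e2, e1; e7, e4, e3, e5; e0, e4, e2, e3; e3, e8, e1, e0]
def Zc : Matrix (Fin 4) (Fin 4) F9c := !![e3, e0, e0, e0; e0, e3, e0, e0; e0, e0, e3, e0; e0, e0, e0, e3]

/-- the matrices of the letters, and a scalar matrix of order four -/
def Mc : ℕ → Matrix (Fin 4) (Fin 4) F9c
  | 0 => Cc
  | 1 => Cci
  | 2 => Dc
  | 3 => Dci
  | 4 => Tc
  | 5 => Tci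
  | 6 => Zc
  | _ => 1

/-- a matrix is scalar -/
def IsScal (M : Matrix (Fin 4) (Fin 4) F9c) : Prop := M = M 0 0 • (1 : Matrix (Fin 4) (Fin 4) F9c)

instance (M : Matrix (Fin 4) (Fin 4) F9c) : Decidable (IsScal M) := by
  unfold IsScal
  infer_instance

set_option maxRecDepth 100000 in
theorem c_det : ∀ l, l < 7 → det4 (Mc l) = 1 := by decide +kernel

set_option maxRecDepth 100000 in
theorem c_unit : ∀ l, l < 7 → (Mc l)ᵀ * (Mc l).map (· ^ 3) = 1 := by decide +kernel

set_option maxRecDepth 100000 in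
theorem c_rel : ∀ L ∈ PU43p.P.real ++ [[0, 1], [1, 0], [2, 3], [3, 2], [4, 5], [5, 4], [6]],
    IsScal (L.map Mc).prod := by
  decide +kernel

set_option maxRecDepth 100000 in
theorem c_noncomm : Mc 0 * Mc 2 ≠ Mc 2 * Mc 0 := by decide +kernel

set_option maxRecDepth 100000 in
theorem z_pow_four : ([6, 6, 6, 6].map Mc).prod = 1 := by decide +kernel

set_option maxRecDepth 100000 in
theorem z_pow_two : ([6, 6].map Mc).prod ≠ 1 := by decide +kernel

section Field

variable {F : Type*} [Field F] [Fintype F]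

theorem charP_three (hF : Fintype.card F = 9) : CharP F 3 := by
  obtain ⟨p, hp⟩ := CharP.exists F
  obtain ⟨n, hpr, hc⟩ := FiniteField.card F p
  rw [hF] at hc
  have h2 : p ∣ 3 ^ 2 := by
    rw [show (3 : ℕ) ^ 2 = 9 from rfl, hc]
    exact dvd_pow_self p n.ne_zero
  have : p = 3 := (Nat.prime_dvd_prime_iff_eq hpr Nat.prime_three).1 (hpr.dvd_of_dvd_pow h2)
  subst this
  exact hp

theorem exists_i (hF : Fintype.card F = 9) : ∃ i : F, i ^ 2 = -1 := by
  classical
  obtain ⟨g, hg⟩ := IsCyclic.exists_generator (α := Fˣ)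
  have hcard : Nat.card Fˣ = 8 := by
    rw [Nat.card_units, Nat.card_eq_fintype_card, hF]
  have hord : orderOf g = 8 := by
    rw [orderOf_eq_card_of_forall_mem_zpowers hg, hcard]
  have h8 : (g : F) ^ 8 = 1 := by
    have h := pow_orderOf_eq_one g
    rw [hord] at h
    have h' := congrArg Units.val h
    rwa [Units.val_pow_eq_pow_val, Units.val_one] at h'
  have h4 : (g : F) ^ 4 ≠ 1 := by
    intro h
    have h' : g ^ 4 = 1 := Units.ext (by rw [Units.val_pow_eq_pow_val, h, Units.val_one])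
    have h'' := orderOf_dvd_of_pow_eq_one h'
    rw [hord] at h''
    exact absurd (Nat.le_of_dvd (by norm_num) h'') (by norm_num)
  refine ⟨(g : F) ^ 2, ?_⟩
  have h : ((g : F) ^ 4 - 1) * ((g : F) ^ 4 + 1) = 0 := by linear_combination h8
  rcases mul_eq_zero.1 h with h | h
  · exact absurd (sub_eq_zero.1 h) h4
  · linear_combination h

theorem add_pow_three (hF : Fintype.card F = 9) (x y : F) : (x + y) ^ 3 = x ^ 3 + y ^ 3 := by
  have := charP_three hF
  have h5 : (3 : F) = 0 := CharP.ofNat_eq_zero F 3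
  linear_combination (x ^ 2 * y + x * y ^ 2) * h5

end Field

section Hom

variable {F : Type*} [Field F] [Fintype F]

/-- the special unitary matrix that is the image of an explicit matrix -/
noncomputable def mkSU (hF : Fintype.card F = 9) (φ : F9c →+* F) (M : Matrix (Fin 4) (Fin 4) F9c) (hd : det4 M = 1)
    (hu : Mᵀ * M.map (· ^ 3) = 1) : ↥(Cfsg.SU 4 F 3) :=
  ⟨⟨M.map φ, by
    have h := RingHom.map_det φ M
    rw [RingHom.mapMatrix_apply] at h
    rw [← h, det_eq_det4, hd, map_one]⟩, by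
    intro u v
    apply hermForm_mulVec (by norm_num) (add_pow_three hF)
    show ((M.map φ)ᵀ * (M.map φ).map (· ^ 3)) = 1
    have e : (M.map φ).map (· ^ 3) = (M.map (· ^ 3)).map φ := by
      ext i j
      simp [map_pow]
    rw [e, ← Matrix.transpose_map, ← Matrix.map_mul, hu]
    exact (φ.mapMatrix (m := Fin 4)).map_one⟩

/-- the matrix of an element of the special unitary group -/
noncomputable def toMat : ↥(Cfsg.SU 4 F 3) →* Matrix (Fin 4) (Fin 4) F :=
  (Cfsg.slToMat 4 F).comp (Cfsg.SU 4 F 3).subtype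

omit [Fintype F] in
theorem toMat_injective : Function.Injective (toMat (F := F)) := by
  intro x y h
  apply Subtype.ext
  apply Subtype.ext
  exact h

theorem toMat_mkSU (hF : Fintype.card F = 9) (φ : F9c →+* F) (M : Matrix (Fin 4) (Fin 4) F9c) (hd : det4 M = 1)
    (hu : Mᵀ * M.map (· ^ 3) = 1) : toMat (mkSU hF φ M hd hu) = M.map φ := rfl

/-- the images of the letters in the special unitary group -/
noncomputable def gU (hF : Fintype.card F = 9) (φ : F9c →+* F) (l : ℕ) : ↥(Cfsg.SU 4 F 3) :=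
  if h : l < 7 then mkSU hF φ (Mc l) (c_det l h) (c_unit l h) else 1

theorem toMat_gU (hF : Fintype.card F = 9) (φ : F9c →+* F) (l : ℕ) : toMat (gU hF φ l) = (Mc l).map φ := by
  unfold gU
  split_ifs with h
  · rfl
  · rw [map_one]
    have : Mc l = 1 := by
      match l, h with
      | 0, h => exact absurd (by norm_num) h
      | 1, h => exact absurd (by norm_num) h
      | 2, h => exact absurd (by norm_num) h
      | 3, h => exact absurd (by norm_num) h
      | 4, h => exact absurd (by norm_num) h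
      | 5, h => exact absurd (by norm_num) h
      | 6, h => exact absurd (by norm_num) h
      | (n + 7), _ => rfl
    rw [this]
    exact ((φ.mapMatrix (m := Fin 4)).map_one).symm

theorem toMat_wordP (hF : Fintype.card F = 9) (φ : F9c →+* F) (L : List ℕ) :
    toMat (wordP (gU hF φ) L) = ((L.map Mc).prod).map φ := by
  rw [wordP, _root_.map_list_prod, List.map_map]
  have e : (toMat ∘ gU hF φ) = fun l => (Mc l).map φ := by
    funext l
    exact toMat_gU hF φ l
  rw [e, MatWord.map_list_prod, List.map_map]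
  rfl

theorem wordP_gU (hF : Fintype.card F = 9) (φ : F9c →+* F) (L : List ℕ) (h : (L.map Mc).prod = 1) :
    wordP (gU hF φ) L = 1 := by
  apply toMat_injective
  rw [map_one, toMat_wordP, h]
  exact (φ.mapMatrix (m := Fin 4)).map_one

/-- words evaluating to scalar matrices are central -/
theorem wordP_gU_center (hF : Fintype.card F = 9) (φ : F9c →+* F) (L : List ℕ) (h : IsScal (L.map Mc).prod) :
    wordP (gU hF φ) L ∈ Subgroup.center ↥(Cfsg.SU 4 F 3) := by
  rw [Subgroup.mem_center_iff]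
  intro g
  apply toMat_injective
  have hz : toMat (wordP (gU hF φ) L) = φ ((L.map Mc).prod 0 0) • (1 : Matrix (Fin 4) (Fin 4) F) := by
    rw [toMat_wordP]
    conv_lhs => rw [h]
    ext a b
    simp only [Matrix.map_apply, Matrix.smul_apply, smul_eq_mul, Matrix.one_apply]
    split_ifs <;> simp
  rw [map_mul, map_mul, hz, Matrix.mul_smul, Matrix.smul_mul, mul_one, one_mul]

/-- the images of the letters in the projective special unitary group -/
noncomputable def gP (hF : Fintype.card F = 9) (φ : F9c →+* F) (l : ℕ) : Cfsg.PSU 4 F 3 :=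
  QuotientGroup.mk (gU hF φ l)

theorem wordP_gP (hF : Fintype.card F = 9) (φ : F9c →+* F) (L : List ℕ) :
    wordP (gP hF φ) L = QuotientGroup.mk (wordP (gU hF φ) L) := by
  induction L with
  | nil => rfl
  | cons a L ih => rw [wordP_cons, wordP_cons, ih]; rfl

theorem wordP_gP_eq_one (hF : Fintype.card F = 9) (φ : F9c →+* F) (L : List ℕ) (h : IsScal (L.map Mc).prod) :
    wordP (gP hF φ) L = 1 := by
  rw [wordP_gP, QuotientGroup.eq_one_iff]
  exact wordP_gU_center hF φ L h

theorem exists_hom (hF : Fintype.card F = 9) (φ : F9c →+* F) :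
    ∃ ψ : PU43p.P.Grp →* Cfsg.PSU 4 F 3, ∀ l, l < 6 → ψ (PU43p.P.gR l) = gP hF φ l := by
  apply exists_hom_of_letters PU43p.P PU43p.valid (gP hF φ)
  · intro l hl
    have hl : l < 6 := hl
    have h := wordP_gP_eq_one hF φ [l, PU43p.P.invR l]
    rw [wordP_cons, wordP_cons, wordP_nil, mul_one] at h
    apply h
    interval_cases l
    · exact c_rel [0, 1] (by simp)
    · exact c_rel [1, 0] (by simp)
    · exact c_rel [2, 3] (by simp)
    · exact c_rel [3, 2] (by simp)
    · exact c_rel [4, 5] (by simp)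
    · exact c_rel [5, 4] (by simp)
  · intro L hL
    exact wordP_gP_eq_one hF φ L (c_rel L (List.mem_append_left _ hL))

theorem card_SU (hF : Fintype.card F = 9) : Nat.card ↥(Cfsg.SU 4 F 3) = 13063680 := by
  have hF' : Fintype.card F = 3 ^ 2 := by rw [hF]; norm_num
  have h1 := Cfsg.Agent.Lib.Helper5.HermCard.card_SU hF' 4 (by norm_num)
  have h2 := Cfsg.Agent.Lib.Helper5.HermCard.card_GU hF' 4
  rw [h2] at h1
  have h3 : (3 : ℕ) ^ (4 * (4 - 1) / 2) *
      ∏ i ∈ Finset.range 4, (if Even i then 3 ^ (i + 1) + 1 else 3 ^ (i + 1) - 1) = 52254720 := by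
    decide
  rw [h3] at h1
  omega

theorem four_dvd_card_center (hF : Fintype.card F = 9) (φ : F9c →+* F) (hφ : Function.Injective φ) :
    4 ∣ Nat.card ↥(Subgroup.center ↥(Cfsg.SU 4 F 3)) := by
  have hx1 : wordP (gU hF φ) [6] = gU hF φ 6 := by rw [wordP_cons, wordP_nil, mul_one]
  have hz : gU hF φ 6 ∈ Subgroup.center ↥(Cfsg.SU 4 F 3) := by
    rw [← hx1]
    exact wordP_gU_center hF φ [6] (c_rel [6] (by simp))
  have h4 : (gU hF φ 6) ^ 2 ^ (1 + 1) = 1 := by
    have h := wordP_gU hF φ [6, 6, 6, 6] z_pow_four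
    simp only [wordP_cons, wordP_nil, mul_one] at h
    show (gU hF φ 6) ^ 4 = 1
    rw [pow_succ, pow_succ, pow_succ, pow_one, mul_assoc, mul_assoc]
    exact h
  have h2 : ¬ (gU hF φ 6) ^ 2 ^ 1 = 1 := by
    intro h
    have e : wordP (gU hF φ) [6, 6] = 1 := by
      simp only [wordP_cons, wordP_nil, mul_one]
      have h' : (gU hF φ 6) ^ 2 = 1 := h
      rw [← pow_two]
      exact h'
    have e2 := congrArg toMat e
    rw [toMat_wordP, map_one] at e2
    apply z_pow_two
    apply Matrix.map_injective hφ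
    show (([6, 6].map Mc).prod).map φ = (1 : Matrix (Fin 4) (Fin 4) F9c).map φ
    rw [e2]
    exact ((φ.mapMatrix (m := Fin 4)).map_one).symm
  have ho : orderOf (gU hF φ 6) = 2 ^ (1 + 1) := orderOf_eq_prime_pow h2 h4
  have ho' : orderOf (⟨gU hF φ 6, hz⟩ : ↥(Subgroup.center ↥(Cfsg.SU 4 F 3))) = 2 ^ (1 + 1) := by
    rw [← Subgroup.orderOf_coe]
    exact ho
  have hd := orderOf_dvd_natCard (⟨gU hF φ 6, hz⟩ : ↥(Subgroup.center ↥(Cfsg.SU 4 F 3)))
  rw [ho'] at hd
  exact hd

theorem card_PSU_le (hF : Fintype.card F = 9) (φ : F9c →+* F) (hφ : Function.Injective φ) :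
    Nat.card (Cfsg.PSU 4 F 3) ≤ 3265920 := by
  have h1 : 13063680 = Nat.card (Cfsg.PSU 4 F 3) * Nat.card ↥(Subgroup.center ↥(Cfsg.SU 4 F 3)) := by
    rw [← card_SU hF]
    exact Subgroup.card_eq_card_quotient_mul_card_subgroup (Subgroup.center ↥(Cfsg.SU 4 F 3))
  obtain ⟨k, hk⟩ := four_dvd_card_center hF φ hφ
  have hpos : 0 < Nat.card ↥(Subgroup.center ↥(Cfsg.SU 4 F 3)) := Nat.card_pos
  rw [hk] at h1 hpos
  have hk1 : 1 ≤ k := by omega
  have h2 : Nat.card (Cfsg.PSU 4 F 3) * 4 ≤ Nat.card (Cfsg.PSU 4 F 3) * (4 * k) := by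
    apply Nat.mul_le_mul_left
    omega
  omega

/-- the presented group is the projective special unitary group -/
theorem equiv_PSU (hF : Fintype.card F = 9) : Nonempty (PU43p.P.Grp ≃* Cfsg.PSU 4 F 3) := by
  have := charP_three hF
  obtain ⟨i, hi⟩ := exists_i hF
  have hφ := F9c.toF_injective i hi
  obtain ⟨ψ, hψ⟩ := exists_hom hF (F9c.toF i hi)
  obtain ⟨fG, _, hcard⟩ := U43pMain.order_aux
  have hinj : Function.Injective ψ := by
    apply RepLib.injective_of_simple U43pMain.simple_aux ψ (PU43p.P.gR 0)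
    rw [hψ 0 (by norm_num)]
    intro h
    have hc : gU hF (F9c.toF i hi) 0 ∈ Subgroup.center ↥(Cfsg.SU 4 F 3) := by
      rwa [gP, QuotientGroup.eq_one_iff] at h
    rw [Subgroup.mem_center_iff] at hc
    have h2 := congrArg toMat (hc (gU hF (F9c.toF i hi) 2))
    rw [map_mul, map_mul, toMat_gU, toMat_gU, ← Matrix.map_mul, ← Matrix.map_mul] at h2
    exact c_noncomm (Matrix.map_injective hφ h2).symm
  have hfin : Finite (Cfsg.PSU 4 F 3) := inferInstance
  have hbij : Function.Bijective ψ := by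
    apply hinj.bijective_of_nat_card_le
    rw [hcard]
    exact card_PSU_le hF _ hφ
  exact ⟨MulEquiv.ofBijective ψ hbij⟩

end Hom

end Cfsg.Agent.Lib.Helper4.U43pIso
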