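import Mathlib
import Cfsg.Prelude.Def_KGroupFacts
import Cfsg.Agent.Lib.Helper4.U43pIso
import Cfsg.Agent.Lib.Helper4.C4U43Cover
import Cfsg.Agent.Lib.Helper4.C9U43Cover
import Cfsg.Agent.Lib.Helper4.SC4U43p2Main
import Cfsg.Agent.Lib.Helper4.SC9U43p3Main
import Cfsg.Agent.Lib.Helper4.FibreCover

/-!
The Schur multiplier of `PSU₄(3)` is the product of cyclic groups of orders 4, 3 and 3: the fibre product of the
presented fourfold cover `C4U43` and the presented ninefold cover `C9U43` is a stem extension with kernel of order 36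
without further stem extensions with kernel of prime order.
-/

set_option autoImplicit false

namespace Cfsg.Agent.Lib.Helper4.C36U43Stem

open Cfsg Cfsg.Agent.Lib.Helper4.TC Cfsg.Agent.Lib.Helper4.TCD Cfsg.Agent.Lib.Helper4.TC.Log
  Cfsg.Agent.Lib.Helper4.Stem

/-- the fourfold cover has no stem extension with kernel of prime order other than 3 -/
theorem noStem4 : ∀ p, p.Prime → p ≠ 3 → NoStemPrime PC4U43.P.Grp p := by
  obtain ⟨fG, _, hcard⟩ := C4U43Main.order_aux
  have := fG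
  intro p hp h3
  by_cases h1 : p ∣ Nat.card PC4U43.P.Grp
  · by_cases h2 : p ^ 2 ∣ Nat.card PC4U43.P.Grp
    · rw [hcard] at h1 h2
      have hm : p ∈ [2, 3] := sq_dvd_mem_of_factors 13063680
        [2, 2, 2, 2, 2, 2, 2, 2, 2, 3, 3, 3, 3, 3, 3, 5, 7] (by norm_num) (by decide) [2, 3] (by decide) p hp h1 h2
      simp only [List.mem_cons, List.not_mem_nil, or_false] at hm
      rcases hm with rfl | rfl
      · exact SC4U43p2Main.noStem
      · exact absurd rfl h3
    · exact noStemPrime_of_sq_not_dvd _ p hp h2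
  · exact noStemPrime_of_not_dvd _ p hp h1

/-- the Schur multiplier of `PSU₄(3)` -/
theorem hasMult {F : Type*} [Field F] [Fintype F] (hF : Fintype.card F = 9) :
    Cfsg.HasSchurMultiplier (Cfsg.PSU 4 F 3) (Multiplicative (ZMod 4 × ZMod 3 × ZMod 3)) := by
  obtain ⟨e⟩ := U43pIso.equiv_PSU hF
  obtain ⟨f4, _, _⟩ := C4U43Main.order_aux
  have := f4
  obtain ⟨f9, _, _⟩ := C9U43Main.order_aux
  have := f9
  obtain ⟨fL, _, _⟩ := U43pMain.order_aux
  have := fL
  have : Finite (Cfsg.PSU 4 F 3) := Finite.of_equiv _ e.toEquiv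
  let τ4 : PC4U43.P.Grp →* Cfsg.PSU 4 F 3 := e.toMonoidHom.comp C4U43Cover.π
  let τ9 : PC9U43.P.Grp →* Cfsg.PSU 4 F 3 := e.toMonoidHom.comp C9U43Cover.π
  have hker4 : τ4.ker = C4U43Cover.π.ker := by
    ext x
    rw [MonoidHom.mem_ker, MonoidHom.mem_ker]
    show e (C4U43Cover.π x) = 1 ↔ _
    exact EmbeddingLike.map_eq_one_iff
  have hker9 : τ9.ker = C9U43Cover.π.ker := by
    ext x
    rw [MonoidHom.mem_ker, MonoidHom.mem_ker]
    show e (C9U43Cover.π x) = 1 ↔ _
    exact EmbeddingLike.map_eq_one_iff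
  have hτ4 : IsStemExtension τ4 := by
    refine ⟨?_, ?_, ?_⟩
    · exact e.surjective.comp C4U43Cover.isStem.1
    · rw [hker4]
      exact C4U43Cover.isStem.2.1
    · rw [hker4]
      exact C4U43Cover.isStem.2.2
  have hτ9 : IsStemExtension τ9 := by
    refine ⟨?_, ?_, ?_⟩
    · exact e.surjective.comp C9U43Cover.isStem.1
    · rw [hker9]
      exact C9U43Cover.isStem.2.1
    · rw [hker9]
      exact C9U43Cover.isStem.2.2
  have hc4 : Nat.card τ4.ker = 4 := by rw [hker4]; exact C4U43Cover.card_ker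
  have hc9 : Nat.card τ9.ker = 9 := by rw [hker9]; exact C9U43Cover.card_ker
  obtain ⟨ek4⟩ := C4U43Cover.ker_equiv
  obtain ⟨ek9⟩ := C9U43Cover.ker_equiv
  have ek : τ4.ker × τ9.ker ≃* Multiplicative (ZMod 4 × ZMod 3 × ZMod 3) :=
    (MulEquiv.prodCongr ((MulEquiv.subgroupCongr hker4).trans ek4) ((MulEquiv.subgroupCongr hker9).trans ek9)).trans
      (MulEquiv.prodMultiplicative (ZMod 4) (ZMod 3 × ZMod 3)).symm
  apply hasSchurMultiplier_of_fib PC4U43.P.Grp PC9U43.P.Grp τ4 τ9 hτ4 hτ9 C4U43Cover.perfect C9U43Cover.perfect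
    (by rw [hc4, hc9]; decide) ek
  intro p hp
  by_cases h3 : p = 3
  · right
    subst h3
    refine ⟨by rw [hc4]; decide, SC9U43p3Main.noStem⟩
  · left
    refine ⟨?_, noStem4 p hp h3⟩
    rw [hc9, show (9 : ℕ) = 3 ^ 2 from rfl]
    exact Nat.Coprime.pow_left 2 ((Nat.coprime_primes Nat.prime_three hp).2 (Ne.symm h3))

end Cfsg.Agent.Lib.Helper4.C36U43Stem
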