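import Cfsg.Agent.Lib.Helper4.TCD_Fi22yR_Acc

namespace Cfsg.Agent.Lib.Helper4.TCD.Fi22yR

open Cfsg.Agent.Lib.Helper4.TC

set_option maxRecDepth 100000
set_option Elab.async false

theorem c_act54_0 : allRange (fun i => Nat.beq (actR54 i) i) 0 3510 = true := by decide +kernel
theorem c_act55_0 : allRange (fun i => Nat.beq (actR55 i) i) 0 3510 = true := by decide +kernel
theorem c_act56_0 : allRange (fun i => Nat.beq (actR56 i) i) 0 3510 = true := by decide +kernel
theorem c_act57_0 : allRange (fun i => Nat.beq (actR57 i) i) 0 3510 = true := by decide +kernel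
theorem c_act58_0 : allRange (fun i => Nat.beq (actR58 i) i) 0 3510 = true := by decide +kernel
theorem c_act59_0 : allRange (fun i => Nat.beq (actR59 i) i) 0 3510 = true := by decide +kernel
theorem c_act60_0 : allRange (fun i => Nat.beq (actR60 i) i) 0 3510 = true := by decide +kernel
theorem c_act61_0 : allRange (fun i => Nat.beq (actR61 i) i) 0 3510 = true := by decide +kernel
theorem c_act62_0 : allRange (fun i => Nat.beq (actR62 i) i) 0 3510 = true := by decide +kernel
theorem c_act63_0 : allRange (fun i => Nat.beq (actR63 i) i) 0 3510 = true := by decide +kernel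
theorem c_act64_0 : allRange (fun i => Nat.beq (actR64 i) i) 0 3510 = true := by decide +kernel
theorem c_act65_0 : allRange (fun i => Nat.beq (actR65 i) i) 0 3510 = true := by decide +kernel
theorem c_act66_0 : allRange (fun i => Nat.beq (actR66 i) i) 0 3510 = true := by decide +kernel
theorem c_act67_0 : allRange (fun i => Nat.beq (actR67 i) i) 0 3510 = true := by decide +kernel
theorem c_act68_0 : allRange (fun i => Nat.beq (actR68 i) i) 0 3510 = true := by decide +kernel
theorem c_act69_0 : allRange (fun i => Nat.beq (actR69 i) i) 0 3510 = true := by decide +kernel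
theorem c_act70_0 : allRange (fun i => Nat.beq (actR70 i) i) 0 3510 = true := by decide +kernel
theorem c_act71_0 : allRange (fun i => Nat.beq (actR71 i) i) 0 3510 = true := by decide +kernel
theorem c_act72_0 : allRange (fun i => Nat.beq (actR72 i) i) 0 3510 = true := by decide +kernel
theorem c_act73_0 : allRange (fun i => Nat.beq (actR73 i) i) 0 3510 = true := by decide +kernel
theorem c_act74_0 : allRange (fun i => Nat.beq (actR74 i) i) 0 3510 = true := by decide +kernel
theorem c_act75_0 : allRange (fun i => Nat.beq (actR75 i) i) 0 3510 = true := by decide +kernel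
theorem c_act76_0 : allRange (fun i => Nat.beq (actR76 i) i) 0 3510 = true := by decide +kernel
theorem c_act77_0 : allRange (fun i => Nat.beq (actR77 i) i) 0 3510 = true := by decide +kernel
theorem c_act78_0 : allRange (fun i => Nat.beq (actR78 i) i) 0 3510 = true := by decide +kernel
theorem c_act79_0 : allRange (fun i => Nat.beq (actR79 i) i) 0 3333 = true := by decide +kernel
theorem c_act79_1 : allRange (fun i => Nat.beq (actR79 i) i) 3333 177 = true := by decide +kernel

end Cfsg.Agent.Lib.Helper4.TCD.Fi22yR
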