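import Cfsg.Agent.Lib.Helper4.TCD_C3Fi22yR_Acc

namespace Cfsg.Agent.Lib.Helper4.TCD.C3Fi22yR

open Cfsg.Agent.Lib.Helper4.TC

set_option maxRecDepth 100000
set_option Elab.async false

theorem c_perm_100 : allGrid (T.permOK1 D) 115300 1153 26 = true := by decide +kernel
theorem c_perm_101 : allGrid (T.permOK1 D) 116453 1153 26 = true := by decide +kernel
theorem c_perm_102 : allGrid (T.permOK1 D) 117606 1153 26 = true := by decide +kernel
theorem c_perm_103 : allGrid (T.permOK1 D) 118759 1153 26 = true := by decide +kernel
theorem c_perm_104 : allGrid (T.permOK1 D) 119912 1153 26 = true := by decide +kernel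
theorem c_perm_105 : allGrid (T.permOK1 D) 121065 1153 26 = true := by decide +kernel
theorem c_perm_106 : allGrid (T.permOK1 D) 122218 1153 26 = true := by decide +kernel
theorem c_perm_107 : allGrid (T.permOK1 D) 123371 1153 26 = true := by decide +kernel
theorem c_perm_108 : allGrid (T.permOK1 D) 124524 1153 26 = true := by decide +kernel
theorem c_perm_109 : allGrid (T.permOK1 D) 125677 1153 26 = true := by decide +kernel
theorem c_perm_110 : allGrid (T.permOK1 D) 126830 1153 26 = true := by decide +kernel
theorem c_perm_111 : allGrid (T.permOK1 D) 127983 1153 26 = true := by decide +kernel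
theorem c_perm_112 : allGrid (T.permOK1 D) 129136 1153 26 = true := by decide +kernel
theorem c_perm_113 : allGrid (T.permOK1 D) 130289 1153 26 = true := by decide +kernel
theorem c_perm_114 : allGrid (T.permOK1 D) 131442 1153 26 = true := by decide +kernel
theorem c_perm_115 : allGrid (T.permOK1 D) 132595 1153 26 = true := by decide +kernel
theorem c_perm_116 : allGrid (T.permOK1 D) 133748 1153 26 = true := by decide +kernel
theorem c_perm_117 : allGrid (T.permOK1 D) 134901 1153 26 = true := by decide +kernel
theorem c_perm_118 : allGrid (T.permOK1 D) 136054 1153 26 = true := by decide +kernel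
theorem c_perm_119 : allGrid (T.permOK1 D) 137207 1153 26 = true := by decide +kernel
theorem c_perm_120 : allGrid (T.permOK1 D) 138360 1153 26 = true := by decide +kernel
theorem c_perm_121 : allGrid (T.permOK1 D) 139513 1153 26 = true := by decide +kernel
theorem c_perm_122 : allGrid (T.permOK1 D) 140666 1153 26 = true := by decide +kernel
theorem c_perm_123 : allGrid (T.permOK1 D) 141819 1153 26 = true := by decide +kernel
theorem c_perm_124 : allGrid (T.permOK1 D) 142972 1153 26 = true := by decide +kernel
theorem c_perm_125 : allGrid (T.permOK1 D) 144125 1153 26 = true := by decide +kernel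
theorem c_perm_126 : allGrid (T.permOK1 D) 145278 1153 26 = true := by decide +kernel
theorem c_perm_127 : allGrid (T.permOK1 D) 146431 1153 26 = true := by decide +kernel
theorem c_perm_128 : allGrid (T.permOK1 D) 147584 1153 26 = true := by decide +kernel
theorem c_perm_129 : allGrid (T.permOK1 D) 148737 1153 26 = true := by decide +kernel
theorem c_perm_130 : allGrid (T.permOK1 D) 149890 1153 26 = true := by decide +kernel
theorem c_perm_131 : allGrid (T.permOK1 D) 151043 1153 26 = true := by decide +kernel
theorem c_perm_132 : allGrid (T.permOK1 D) 152196 1153 26 = true := by decide +kernel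
theorem c_perm_133 : allGrid (T.permOK1 D) 153349 1153 26 = true := by decide +kernel
theorem c_perm_134 : allGrid (T.permOK1 D) 154502 1153 26 = true := by decide +kernel
theorem c_perm_135 : allGrid (T.permOK1 D) 155655 1153 26 = true := by decide +kernel
theorem c_perm_136 : allGrid (T.permOK1 D) 156808 1153 26 = true := by decide +kernel
theorem c_perm_137 : allGrid (T.permOK1 D) 157961 1153 26 = true := by decide +kernel
theorem c_perm_138 : allGrid (T.permOK1 D) 159114 1153 26 = true := by decide +kernel
theorem c_perm_139 : allGrid (T.permOK1 D) 160267 1153 26 = true := by decide +kernel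
theorem c_perm_140 : allGrid (T.permOK1 D) 161420 1153 26 = true := by decide +kernel
theorem c_perm_141 : allGrid (T.permOK1 D) 162573 1153 26 = true := by decide +kernel
theorem c_perm_142 : allGrid (T.permOK1 D) 163726 1153 26 = true := by decide +kernel
theorem c_perm_143 : allGrid (T.permOK1 D) 164879 1153 26 = true := by decide +kernel
theorem c_perm_144 : allGrid (T.permOK1 D) 166032 1153 26 = true := by decide +kernel
theorem c_perm_145 : allGrid (T.permOK1 D) 167185 1153 26 = true := by decide +kernel
theorem c_perm_146 : allGrid (T.permOK1 D) 168338 1153 26 = true := by decide +kernel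
theorem c_perm_147 : allGrid (T.permOK1 D) 169491 1153 26 = true := by decide +kernel
theorem c_perm_148 : allGrid (T.permOK1 D) 170644 1153 26 = true := by decide +kernel
theorem c_perm_149 : allGrid (T.permOK1 D) 171797 1153 26 = true := by decide +kernel
theorem c_perm_150 : allGrid (T.permOK1 D) 172950 1153 26 = true := by decide +kernel
theorem c_perm_151 : allGrid (T.permOK1 D) 174103 1153 26 = true := by decide +kernel
theorem c_perm_152 : allGrid (T.permOK1 D) 175256 1153 26 = true := by decide +kernel
theorem c_perm_153 : allGrid (T.permOK1 D) 176409 1153 26 = true := by decide +kernel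
theorem c_perm_154 : allGrid (T.permOK1 D) 177562 1153 26 = true := by decide +kernel
theorem c_perm_155 : allGrid (T.permOK1 D) 178715 1153 26 = true := by decide +kernel
theorem c_perm_156 : allGrid (T.permOK1 D) 179868 1153 26 = true := by decide +kernel
theorem c_perm_157 : allGrid (T.permOK1 D) 181021 1153 26 = true := by decide +kernel
theorem c_perm_158 : allGrid (T.permOK1 D) 182174 1153 26 = true := by decide +kernel
theorem c_perm_159 : allGrid (T.permOK1 D) 183327 1153 26 = true := by decide +kernel
theorem c_perm_160 : allGrid (T.permOK1 D) 184480 848 26 = true := by decide +kernel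
theorem c_act0_0 : allRange (fun i => Nat.beq (actR0 i) i) 0 30000 = true := by decide +kernel
theorem c_act0_1 : allRange (fun i => Nat.beq (actR0 i) i) 30000 30000 = true := by decide +kernel
theorem c_act0_2 : allRange (fun i => Nat.beq (actR0 i) i) 60000 30000 = true := by decide +kernel
theorem c_act0_3 : allRange (fun i => Nat.beq (actR0 i) i) 90000 30000 = true := by decide +kernel
theorem c_act0_4 : allRange (fun i => Nat.beq (actR0 i) i) 120000 30000 = true := by decide +kernel
theorem c_act0_5 : allRange (fun i => Nat.beq (actR0 i) i) 150000 30000 = true := by decide +kernel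
theorem c_act0_6 : allRange (fun i => Nat.beq (actR0 i) i) 180000 5328 = true := by decide +kernel
theorem c_act1_0 : allRange (fun i => Nat.beq (actR1 i) i) 0 10000 = true := by decide +kernel
theorem c_act1_1 : allRange (fun i => Nat.beq (actR1 i) i) 10000 10000 = true := by decide +kernel
theorem c_act1_2 : allRange (fun i => Nat.beq (actR1 i) i) 20000 10000 = true := by decide +kernel
theorem c_act1_3 : allRange (fun i => Nat.beq (actR1 i) i) 30000 10000 = true := by decide +kernel
theorem c_act1_4 : allRange (fun i => Nat.beq (actR1 i) i) 40000 10000 = true := by decide +kernel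
theorem c_act1_5 : allRange (fun i => Nat.beq (actR1 i) i) 50000 10000 = true := by decide +kernel
theorem c_act1_6 : allRange (fun i => Nat.beq (actR1 i) i) 60000 10000 = true := by decide +kernel
theorem c_act1_7 : allRange (fun i => Nat.beq (actR1 i) i) 70000 10000 = true := by decide +kernel
theorem c_act1_8 : allRange (fun i => Nat.beq (actR1 i) i) 80000 10000 = true := by decide +kernel
theorem c_act1_9 : allRange (fun i => Nat.beq (actR1 i) i) 90000 10000 = true := by decide +kernel
theorem c_act1_10 : allRange (fun i => Nat.beq (actR1 i) i) 100000 10000 = true := by decide +kernel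
theorem c_act1_11 : allRange (fun i => Nat.beq (actR1 i) i) 110000 10000 = true := by decide +kernel
theorem c_act1_12 : allRange (fun i => Nat.beq (actR1 i) i) 120000 10000 = true := by decide +kernel
theorem c_act1_13 : allRange (fun i => Nat.beq (actR1 i) i) 130000 10000 = true := by decide +kernel
theorem c_act1_14 : allRange (fun i => Nat.beq (actR1 i) i) 140000 10000 = true := by decide +kernel
theorem c_act1_15 : allRange (fun i => Nat.beq (actR1 i) i) 150000 10000 = true := by decide +kernel
theorem c_act1_16 : allRange (fun i => Nat.beq (actR1 i) i) 160000 10000 = true := by decide +kernel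
theorem c_act1_17 : allRange (fun i => Nat.beq (actR1 i) i) 170000 10000 = true := by decide +kernel
theorem c_act1_18 : allRange (fun i => Nat.beq (actR1 i) i) 180000 5328 = true := by decide +kernel
theorem c_act2_0 : allRange (fun i => Nat.beq (actR2 i) i) 0 15000 = true := by decide +kernel
theorem c_act2_1 : allRange (fun i => Nat.beq (actR2 i) i) 15000 15000 = true := by decide +kernel
theorem c_act2_2 : allRange (fun i => Nat.beq (actR2 i) i) 30000 15000 = true := by decide +kernel
theorem c_act2_3 : allRange (fun i => Nat.beq (actR2 i) i) 45000 15000 = true := by decide +kernel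
theorem c_act2_4 : allRange (fun i => Nat.beq (actR2 i) i) 60000 15000 = true := by decide +kernel
theorem c_act2_5 : allRange (fun i => Nat.beq (actR2 i) i) 75000 15000 = true := by decide +kernel
theorem c_act2_6 : allRange (fun i => Nat.beq (actR2 i) i) 90000 15000 = true := by decide +kernel
theorem c_act2_7 : allRange (fun i => Nat.beq (actR2 i) i) 105000 15000 = true := by decide +kernel
theorem c_act2_8 : allRange (fun i => Nat.beq (actR2 i) i) 120000 15000 = true := by decide +kernel
theorem c_act2_9 : allRange (fun i => Nat.beq (actR2 i) i) 135000 15000 = true := by decide +kernel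
theorem c_act2_10 : allRange (fun i => Nat.beq (actR2 i) i) 150000 15000 = true := by decide +kernel
theorem c_act2_11 : allRange (fun i => Nat.beq (actR2 i) i) 165000 15000 = true := by decide +kernel
theorem c_act2_12 : allRange (fun i => Nat.beq (actR2 i) i) 180000 5328 = true := by decide +kernel
theorem c_act3_0 : allRange (fun i => Nat.beq (actR3 i) i) 0 15000 = true := by decide +kernel
theorem c_act3_1 : allRange (fun i => Nat.beq (actR3 i) i) 15000 15000 = true := by decide +kernel

end Cfsg.Agent.Lib.Helper4.TCD.C3Fi22yR
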