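import Cfsg.Agent.Lib.Helper4.TCD_C3Fi22yR_Acc

namespace Cfsg.Agent.Lib.Helper4.TCD.C3Fi22yR

open Cfsg.Agent.Lib.Helper4.TC

set_option maxRecDepth 100000
set_option Elab.async false

theorem c_act46_4 : allRange (fun i => Nat.beq (actR46 i) i) 3808 952 = true := by decide +kernel
theorem c_act46_5 : allRange (fun i => Nat.beq (actR46 i) i) 4760 952 = true := by decide +kernel
theorem c_act46_6 : allRange (fun i => Nat.beq (actR46 i) i) 5712 952 = true := by decide +kernel
theorem c_act46_7 : allRange (fun i => Nat.beq (actR46 i) i) 6664 952 = true := by decide +kernel
theorem c_act46_8 : allRange (fun i => Nat.beq (actR46 i) i) 7616 952 = true := by decide +kernel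
theorem c_act46_9 : allRange (fun i => Nat.beq (actR46 i) i) 8568 952 = true := by decide +kernel
theorem c_act46_10 : allRange (fun i => Nat.beq (actR46 i) i) 9520 952 = true := by decide +kernel
theorem c_act46_11 : allRange (fun i => Nat.beq (actR46 i) i) 10472 952 = true := by decide +kernel
theorem c_act46_12 : allRange (fun i => Nat.beq (actR46 i) i) 11424 952 = true := by decide +kernel
theorem c_act46_13 : allRange (fun i => Nat.beq (actR46 i) i) 12376 952 = true := by decide +kernel
theorem c_act46_14 : allRange (fun i => Nat.beq (actR46 i) i) 13328 952 = true := by decide +kernel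
theorem c_act46_15 : allRange (fun i => Nat.beq (actR46 i) i) 14280 952 = true := by decide +kernel
theorem c_act46_16 : allRange (fun i => Nat.beq (actR46 i) i) 15232 952 = true := by decide +kernel
theorem c_act46_17 : allRange (fun i => Nat.beq (actR46 i) i) 16184 952 = true := by decide +kernel
theorem c_act46_18 : allRange (fun i => Nat.beq (actR46 i) i) 17136 952 = true := by decide +kernel
theorem c_act46_19 : allRange (fun i => Nat.beq (actR46 i) i) 18088 952 = true := by decide +kernel
theorem c_act46_20 : allRange (fun i => Nat.beq (actR46 i) i) 19040 952 = true := by decide +kernel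
theorem c_act46_21 : allRange (fun i => Nat.beq (actR46 i) i) 19992 952 = true := by decide +kernel
theorem c_act46_22 : allRange (fun i => Nat.beq (actR46 i) i) 20944 952 = true := by decide +kernel
theorem c_act46_23 : allRange (fun i => Nat.beq (actR46 i) i) 21896 952 = true := by decide +kernel
theorem c_act46_24 : allRange (fun i => Nat.beq (actR46 i) i) 22848 952 = true := by decide +kernel
theorem c_act46_25 : allRange (fun i => Nat.beq (actR46 i) i) 23800 952 = true := by decide +kernel
theorem c_act46_26 : allRange (fun i => Nat.beq (actR46 i) i) 24752 952 = true := by decide +kernel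
theorem c_act46_27 : allRange (fun i => Nat.beq (actR46 i) i) 25704 952 = true := by decide +kernel
theorem c_act46_28 : allRange (fun i => Nat.beq (actR46 i) i) 26656 952 = true := by decide +kernel
theorem c_act46_29 : allRange (fun i => Nat.beq (actR46 i) i) 27608 952 = true := by decide +kernel
theorem c_act46_30 : allRange (fun i => Nat.beq (actR46 i) i) 28560 952 = true := by decide +kernel
theorem c_act46_31 : allRange (fun i => Nat.beq (actR46 i) i) 29512 952 = true := by decide +kernel
theorem c_act46_32 : allRange (fun i => Nat.beq (actR46 i) i) 30464 952 = true := by decide +kernel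
theorem c_act46_33 : allRange (fun i => Nat.beq (actR46 i) i) 31416 952 = true := by decide +kernel
theorem c_act46_34 : allRange (fun i => Nat.beq (actR46 i) i) 32368 952 = true := by decide +kernel
theorem c_act46_35 : allRange (fun i => Nat.beq (actR46 i) i) 33320 952 = true := by decide +kernel
theorem c_act46_36 : allRange (fun i => Nat.beq (actR46 i) i) 34272 952 = true := by decide +kernel
theorem c_act46_37 : allRange (fun i => Nat.beq (actR46 i) i) 35224 952 = true := by decide +kernel
theorem c_act46_38 : allRange (fun i => Nat.beq (actR46 i) i) 36176 952 = true := by decide +kernel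
theorem c_act46_39 : allRange (fun i => Nat.beq (actR46 i) i) 37128 952 = true := by decide +kernel
theorem c_act46_40 : allRange (fun i => Nat.beq (actR46 i) i) 38080 952 = true := by decide +kernel
theorem c_act46_41 : allRange (fun i => Nat.beq (actR46 i) i) 39032 952 = true := by decide +kernel
theorem c_act46_42 : allRange (fun i => Nat.beq (actR46 i) i) 39984 952 = true := by decide +kernel
theorem c_act46_43 : allRange (fun i => Nat.beq (actR46 i) i) 40936 952 = true := by decide +kernel
theorem c_act46_44 : allRange (fun i => Nat.beq (actR46 i) i) 41888 952 = true := by decide +kernel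
theorem c_act46_45 : allRange (fun i => Nat.beq (actR46 i) i) 42840 952 = true := by decide +kernel
theorem c_act46_46 : allRange (fun i => Nat.beq (actR46 i) i) 43792 952 = true := by decide +kernel
theorem c_act46_47 : allRange (fun i => Nat.beq (actR46 i) i) 44744 952 = true := by decide +kernel
theorem c_act46_48 : allRange (fun i => Nat.beq (actR46 i) i) 45696 952 = true := by decide +kernel
theorem c_act46_49 : allRange (fun i => Nat.beq (actR46 i) i) 46648 952 = true := by decide +kernel
theorem c_act46_50 : allRange (fun i => Nat.beq (actR46 i) i) 47600 952 = true := by decide +kernel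
theorem c_act46_51 : allRange (fun i => Nat.beq (actR46 i) i) 48552 952 = true := by decide +kernel
theorem c_act46_52 : allRange (fun i => Nat.beq (actR46 i) i) 49504 952 = true := by decide +kernel
theorem c_act46_53 : allRange (fun i => Nat.beq (actR46 i) i) 50456 952 = true := by decide +kernel
theorem c_act46_54 : allRange (fun i => Nat.beq (actR46 i) i) 51408 952 = true := by decide +kernel
theorem c_act46_55 : allRange (fun i => Nat.beq (actR46 i) i) 52360 952 = true := by decide +kernel
theorem c_act46_56 : allRange (fun i => Nat.beq (actR46 i) i) 53312 952 = true := by decide +kernel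
theorem c_act46_57 : allRange (fun i => Nat.beq (actR46 i) i) 54264 952 = true := by decide +kernel
theorem c_act46_58 : allRange (fun i => Nat.beq (actR46 i) i) 55216 952 = true := by decide +kernel
theorem c_act46_59 : allRange (fun i => Nat.beq (actR46 i) i) 56168 952 = true := by decide +kernel
theorem c_act46_60 : allRange (fun i => Nat.beq (actR46 i) i) 57120 952 = true := by decide +kernel
theorem c_act46_61 : allRange (fun i => Nat.beq (actR46 i) i) 58072 952 = true := by decide +kernel
theorem c_act46_62 : allRange (fun i => Nat.beq (actR46 i) i) 59024 952 = true := by decide +kernel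
theorem c_act46_63 : allRange (fun i => Nat.beq (actR46 i) i) 59976 952 = true := by decide +kernel
theorem c_act46_64 : allRange (fun i => Nat.beq (actR46 i) i) 60928 952 = true := by decide +kernel
theorem c_act46_65 : allRange (fun i => Nat.beq (actR46 i) i) 61880 952 = true := by decide +kernel
theorem c_act46_66 : allRange (fun i => Nat.beq (actR46 i) i) 62832 952 = true := by decide +kernel
theorem c_act46_67 : allRange (fun i => Nat.beq (actR46 i) i) 63784 952 = true := by decide +kernel
theorem c_act46_68 : allRange (fun i => Nat.beq (actR46 i) i) 64736 952 = true := by decide +kernel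
theorem c_act46_69 : allRange (fun i => Nat.beq (actR46 i) i) 65688 952 = true := by decide +kernel
theorem c_act46_70 : allRange (fun i => Nat.beq (actR46 i) i) 66640 952 = true := by decide +kernel
theorem c_act46_71 : allRange (fun i => Nat.beq (actR46 i) i) 67592 952 = true := by decide +kernel
theorem c_act46_72 : allRange (fun i => Nat.beq (actR46 i) i) 68544 952 = true := by decide +kernel
theorem c_act46_73 : allRange (fun i => Nat.beq (actR46 i) i) 69496 952 = true := by decide +kernel
theorem c_act46_74 : allRange (fun i => Nat.beq (actR46 i) i) 70448 952 = true := by decide +kernel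
theorem c_act46_75 : allRange (fun i => Nat.beq (actR46 i) i) 71400 952 = true := by decide +kernel
theorem c_act46_76 : allRange (fun i => Nat.beq (actR46 i) i) 72352 952 = true := by decide +kernel
theorem c_act46_77 : allRange (fun i => Nat.beq (actR46 i) i) 73304 952 = true := by decide +kernel
theorem c_act46_78 : allRange (fun i => Nat.beq (actR46 i) i) 74256 952 = true := by decide +kernel
theorem c_act46_79 : allRange (fun i => Nat.beq (actR46 i) i) 75208 952 = true := by decide +kernel
theorem c_act46_80 : allRange (fun i => Nat.beq (actR46 i) i) 76160 952 = true := by decide +kernel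
theorem c_act46_81 : allRange (fun i => Nat.beq (actR46 i) i) 77112 952 = true := by decide +kernel
theorem c_act46_82 : allRange (fun i => Nat.beq (actR46 i) i) 78064 952 = true := by decide +kernel
theorem c_act46_83 : allRange (fun i => Nat.beq (actR46 i) i) 79016 952 = true := by decide +kernel
theorem c_act46_84 : allRange (fun i => Nat.beq (actR46 i) i) 79968 952 = true := by decide +kernel
theorem c_act46_85 : allRange (fun i => Nat.beq (actR46 i) i) 80920 952 = true := by decide +kernel
theorem c_act46_86 : allRange (fun i => Nat.beq (actR46 i) i) 81872 952 = true := by decide +kernel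
theorem c_act46_87 : allRange (fun i => Nat.beq (actR46 i) i) 82824 952 = true := by decide +kernel
theorem c_act46_88 : allRange (fun i => Nat.beq (actR46 i) i) 83776 952 = true := by decide +kernel
theorem c_act46_89 : allRange (fun i => Nat.beq (actR46 i) i) 84728 952 = true := by decide +kernel
theorem c_act46_90 : allRange (fun i => Nat.beq (actR46 i) i) 85680 952 = true := by decide +kernel
theorem c_act46_91 : allRange (fun i => Nat.beq (actR46 i) i) 86632 952 = true := by decide +kernel
theorem c_act46_92 : allRange (fun i => Nat.beq (actR46 i) i) 87584 952 = true := by decide +kernel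
theorem c_act46_93 : allRange (fun i => Nat.beq (actR46 i) i) 88536 952 = true := by decide +kernel
theorem c_act46_94 : allRange (fun i => Nat.beq (actR46 i) i) 89488 952 = true := by decide +kernel
theorem c_act46_95 : allRange (fun i => Nat.beq (actR46 i) i) 90440 952 = true := by decide +kernel
theorem c_act46_96 : allRange (fun i => Nat.beq (actR46 i) i) 91392 952 = true := by decide +kernel
theorem c_act46_97 : allRange (fun i => Nat.beq (actR46 i) i) 92344 952 = true := by decide +kernel
theorem c_act46_98 : allRange (fun i => Nat.beq (actR46 i) i) 93296 952 = true := by decide +kernel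
theorem c_act46_99 : allRange (fun i => Nat.beq (actR46 i) i) 94248 952 = true := by decide +kernel
theorem c_act46_100 : allRange (fun i => Nat.beq (actR46 i) i) 95200 952 = true := by decide +kernel
theorem c_act46_101 : allRange (fun i => Nat.beq (actR46 i) i) 96152 952 = true := by decide +kernel
theorem c_act46_102 : allRange (fun i => Nat.beq (actR46 i) i) 97104 952 = true := by decide +kernel
theorem c_act46_103 : allRange (fun i => Nat.beq (actR46 i) i) 98056 952 = true := by decide +kernel

end Cfsg.Agent.Lib.Helper4.TCD.C3Fi22yR
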