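import Cfsg.Agent.Lib.Helper4.TCD_C3Fi22yR_Acc

namespace Cfsg.Agent.Lib.Helper4.TCD.C3Fi22yR

open Cfsg.Agent.Lib.Helper4.TC

set_option maxRecDepth 100000
set_option Elab.async false

theorem c_act47_9 : allRange (fun i => Nat.beq (actR47 i) i) 8568 952 = true := by decide +kernel
theorem c_act47_10 : allRange (fun i => Nat.beq (actR47 i) i) 9520 952 = true := by decide +kernel
theorem c_act47_11 : allRange (fun i => Nat.beq (actR47 i) i) 10472 952 = true := by decide +kernel
theorem c_act47_12 : allRange (fun i => Nat.beq (actR47 i) i) 11424 952 = true := by decide +kernel
theorem c_act47_13 : allRange (fun i => Nat.beq (actR47 i) i) 12376 952 = true := by decide +kernel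
theorem c_act47_14 : allRange (fun i => Nat.beq (actR47 i) i) 13328 952 = true := by decide +kernel
theorem c_act47_15 : allRange (fun i => Nat.beq (actR47 i) i) 14280 952 = true := by decide +kernel
theorem c_act47_16 : allRange (fun i => Nat.beq (actR47 i) i) 15232 952 = true := by decide +kernel
theorem c_act47_17 : allRange (fun i => Nat.beq (actR47 i) i) 16184 952 = true := by decide +kernel
theorem c_act47_18 : allRange (fun i => Nat.beq (actR47 i) i) 17136 952 = true := by decide +kernel
theorem c_act47_19 : allRange (fun i => Nat.beq (actR47 i) i) 18088 952 = true := by decide +kernel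
theorem c_act47_20 : allRange (fun i => Nat.beq (actR47 i) i) 19040 952 = true := by decide +kernel
theorem c_act47_21 : allRange (fun i => Nat.beq (actR47 i) i) 19992 952 = true := by decide +kernel
theorem c_act47_22 : allRange (fun i => Nat.beq (actR47 i) i) 20944 952 = true := by decide +kernel
theorem c_act47_23 : allRange (fun i => Nat.beq (actR47 i) i) 21896 952 = true := by decide +kernel
theorem c_act47_24 : allRange (fun i => Nat.beq (actR47 i) i) 22848 952 = true := by decide +kernel
theorem c_act47_25 : allRange (fun i => Nat.beq (actR47 i) i) 23800 952 = true := by decide +kernel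
theorem c_act47_26 : allRange (fun i => Nat.beq (actR47 i) i) 24752 952 = true := by decide +kernel
theorem c_act47_27 : allRange (fun i => Nat.beq (actR47 i) i) 25704 952 = true := by decide +kernel
theorem c_act47_28 : allRange (fun i => Nat.beq (actR47 i) i) 26656 952 = true := by decide +kernel
theorem c_act47_29 : allRange (fun i => Nat.beq (actR47 i) i) 27608 952 = true := by decide +kernel
theorem c_act47_30 : allRange (fun i => Nat.beq (actR47 i) i) 28560 952 = true := by decide +kernel
theorem c_act47_31 : allRange (fun i => Nat.beq (actR47 i) i) 29512 952 = true := by decide +kernel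
theorem c_act47_32 : allRange (fun i => Nat.beq (actR47 i) i) 30464 952 = true := by decide +kernel
theorem c_act47_33 : allRange (fun i => Nat.beq (actR47 i) i) 31416 952 = true := by decide +kernel
theorem c_act47_34 : allRange (fun i => Nat.beq (actR47 i) i) 32368 952 = true := by decide +kernel
theorem c_act47_35 : allRange (fun i => Nat.beq (actR47 i) i) 33320 952 = true := by decide +kernel
theorem c_act47_36 : allRange (fun i => Nat.beq (actR47 i) i) 34272 952 = true := by decide +kernel
theorem c_act47_37 : allRange (fun i => Nat.beq (actR47 i) i) 35224 952 = true := by decide +kernel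
theorem c_act47_38 : allRange (fun i => Nat.beq (actR47 i) i) 36176 952 = true := by decide +kernel
theorem c_act47_39 : allRange (fun i => Nat.beq (actR47 i) i) 37128 952 = true := by decide +kernel
theorem c_act47_40 : allRange (fun i => Nat.beq (actR47 i) i) 38080 952 = true := by decide +kernel
theorem c_act47_41 : allRange (fun i => Nat.beq (actR47 i) i) 39032 952 = true := by decide +kernel
theorem c_act47_42 : allRange (fun i => Nat.beq (actR47 i) i) 39984 952 = true := by decide +kernel
theorem c_act47_43 : allRange (fun i => Nat.beq (actR47 i) i) 40936 952 = true := by decide +kernel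
theorem c_act47_44 : allRange (fun i => Nat.beq (actR47 i) i) 41888 952 = true := by decide +kernel
theorem c_act47_45 : allRange (fun i => Nat.beq (actR47 i) i) 42840 952 = true := by decide +kernel
theorem c_act47_46 : allRange (fun i => Nat.beq (actR47 i) i) 43792 952 = true := by decide +kernel
theorem c_act47_47 : allRange (fun i => Nat.beq (actR47 i) i) 44744 952 = true := by decide +kernel
theorem c_act47_48 : allRange (fun i => Nat.beq (actR47 i) i) 45696 952 = true := by decide +kernel
theorem c_act47_49 : allRange (fun i => Nat.beq (actR47 i) i) 46648 952 = true := by decide +kernel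
theorem c_act47_50 : allRange (fun i => Nat.beq (actR47 i) i) 47600 952 = true := by decide +kernel
theorem c_act47_51 : allRange (fun i => Nat.beq (actR47 i) i) 48552 952 = true := by decide +kernel
theorem c_act47_52 : allRange (fun i => Nat.beq (actR47 i) i) 49504 952 = true := by decide +kernel
theorem c_act47_53 : allRange (fun i => Nat.beq (actR47 i) i) 50456 952 = true := by decide +kernel
theorem c_act47_54 : allRange (fun i => Nat.beq (actR47 i) i) 51408 952 = true := by decide +kernel
theorem c_act47_55 : allRange (fun i => Nat.beq (actR47 i) i) 52360 952 = true := by decide +kernel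
theorem c_act47_56 : allRange (fun i => Nat.beq (actR47 i) i) 53312 952 = true := by decide +kernel
theorem c_act47_57 : allRange (fun i => Nat.beq (actR47 i) i) 54264 952 = true := by decide +kernel
theorem c_act47_58 : allRange (fun i => Nat.beq (actR47 i) i) 55216 952 = true := by decide +kernel
theorem c_act47_59 : allRange (fun i => Nat.beq (actR47 i) i) 56168 952 = true := by decide +kernel
theorem c_act47_60 : allRange (fun i => Nat.beq (actR47 i) i) 57120 952 = true := by decide +kernel
theorem c_act47_61 : allRange (fun i => Nat.beq (actR47 i) i) 58072 952 = true := by decide +kernel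
theorem c_act47_62 : allRange (fun i => Nat.beq (actR47 i) i) 59024 952 = true := by decide +kernel
theorem c_act47_63 : allRange (fun i => Nat.beq (actR47 i) i) 59976 952 = true := by decide +kernel
theorem c_act47_64 : allRange (fun i => Nat.beq (actR47 i) i) 60928 952 = true := by decide +kernel
theorem c_act47_65 : allRange (fun i => Nat.beq (actR47 i) i) 61880 952 = true := by decide +kernel
theorem c_act47_66 : allRange (fun i => Nat.beq (actR47 i) i) 62832 952 = true := by decide +kernel
theorem c_act47_67 : allRange (fun i => Nat.beq (actR47 i) i) 63784 952 = true := by decide +kernel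
theorem c_act47_68 : allRange (fun i => Nat.beq (actR47 i) i) 64736 952 = true := by decide +kernel
theorem c_act47_69 : allRange (fun i => Nat.beq (actR47 i) i) 65688 952 = true := by decide +kernel
theorem c_act47_70 : allRange (fun i => Nat.beq (actR47 i) i) 66640 952 = true := by decide +kernel
theorem c_act47_71 : allRange (fun i => Nat.beq (actR47 i) i) 67592 952 = true := by decide +kernel
theorem c_act47_72 : allRange (fun i => Nat.beq (actR47 i) i) 68544 952 = true := by decide +kernel
theorem c_act47_73 : allRange (fun i => Nat.beq (actR47 i) i) 69496 952 = true := by decide +kernel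
theorem c_act47_74 : allRange (fun i => Nat.beq (actR47 i) i) 70448 952 = true := by decide +kernel
theorem c_act47_75 : allRange (fun i => Nat.beq (actR47 i) i) 71400 952 = true := by decide +kernel
theorem c_act47_76 : allRange (fun i => Nat.beq (actR47 i) i) 72352 952 = true := by decide +kernel
theorem c_act47_77 : allRange (fun i => Nat.beq (actR47 i) i) 73304 952 = true := by decide +kernel
theorem c_act47_78 : allRange (fun i => Nat.beq (actR47 i) i) 74256 952 = true := by decide +kernel
theorem c_act47_79 : allRange (fun i => Nat.beq (actR47 i) i) 75208 952 = true := by decide +kernel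
theorem c_act47_80 : allRange (fun i => Nat.beq (actR47 i) i) 76160 952 = true := by decide +kernel
theorem c_act47_81 : allRange (fun i => Nat.beq (actR47 i) i) 77112 952 = true := by decide +kernel
theorem c_act47_82 : allRange (fun i => Nat.beq (actR47 i) i) 78064 952 = true := by decide +kernel
theorem c_act47_83 : allRange (fun i => Nat.beq (actR47 i) i) 79016 952 = true := by decide +kernel
theorem c_act47_84 : allRange (fun i => Nat.beq (actR47 i) i) 79968 952 = true := by decide +kernel
theorem c_act47_85 : allRange (fun i => Nat.beq (actR47 i) i) 80920 952 = true := by decide +kernel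
theorem c_act47_86 : allRange (fun i => Nat.beq (actR47 i) i) 81872 952 = true := by decide +kernel
theorem c_act47_87 : allRange (fun i => Nat.beq (actR47 i) i) 82824 952 = true := by decide +kernel
theorem c_act47_88 : allRange (fun i => Nat.beq (actR47 i) i) 83776 952 = true := by decide +kernel
theorem c_act47_89 : allRange (fun i => Nat.beq (actR47 i) i) 84728 952 = true := by decide +kernel
theorem c_act47_90 : allRange (fun i => Nat.beq (actR47 i) i) 85680 952 = true := by decide +kernel
theorem c_act47_91 : allRange (fun i => Nat.beq (actR47 i) i) 86632 952 = true := by decide +kernel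
theorem c_act47_92 : allRange (fun i => Nat.beq (actR47 i) i) 87584 952 = true := by decide +kernel
theorem c_act47_93 : allRange (fun i => Nat.beq (actR47 i) i) 88536 952 = true := by decide +kernel
theorem c_act47_94 : allRange (fun i => Nat.beq (actR47 i) i) 89488 952 = true := by decide +kernel
theorem c_act47_95 : allRange (fun i => Nat.beq (actR47 i) i) 90440 952 = true := by decide +kernel
theorem c_act47_96 : allRange (fun i => Nat.beq (actR47 i) i) 91392 952 = true := by decide +kernel
theorem c_act47_97 : allRange (fun i => Nat.beq (actR47 i) i) 92344 952 = true := by decide +kernel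
theorem c_act47_98 : allRange (fun i => Nat.beq (actR47 i) i) 93296 952 = true := by decide +kernel
theorem c_act47_99 : allRange (fun i => Nat.beq (actR47 i) i) 94248 952 = true := by decide +kernel
theorem c_act47_100 : allRange (fun i => Nat.beq (actR47 i) i) 95200 952 = true := by decide +kernel
theorem c_act47_101 : allRange (fun i => Nat.beq (actR47 i) i) 96152 952 = true := by decide +kernel
theorem c_act47_102 : allRange (fun i => Nat.beq (actR47 i) i) 97104 952 = true := by decide +kernel
theorem c_act47_103 : allRange (fun i => Nat.beq (actR47 i) i) 98056 952 = true := by decide +kernel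
theorem c_act47_104 : allRange (fun i => Nat.beq (actR47 i) i) 99008 952 = true := by decide +kernel
theorem c_act47_105 : allRange (fun i => Nat.beq (actR47 i) i) 99960 952 = true := by decide +kernel
theorem c_act47_106 : allRange (fun i => Nat.beq (actR47 i) i) 100912 952 = true := by decide +kernel
theorem c_act47_107 : allRange (fun i => Nat.beq (actR47 i) i) 101864 952 = true := by decide +kernel
theorem c_act47_108 : allRange (fun i => Nat.beq (actR47 i) i) 102816 952 = true := by decide +kernel

end Cfsg.Agent.Lib.Helper4.TCD.C3Fi22yR
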