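import Cfsg.Agent.Lib.Helper4.TCD_C3Fi22yR_Acc

namespace Cfsg.Agent.Lib.Helper4.TCD.C3Fi22yR

open Cfsg.Agent.Lib.Helper4.TC

set_option maxRecDepth 100000
set_option Elab.async false

theorem c_act48_14 : allRange (fun i => Nat.beq (actR48 i) i) 5418 387 = true := by decide +kernel
theorem c_act48_15 : allRange (fun i => Nat.beq (actR48 i) i) 5805 387 = true := by decide +kernel
theorem c_act48_16 : allRange (fun i => Nat.beq (actR48 i) i) 6192 387 = true := by decide +kernel
theorem c_act48_17 : allRange (fun i => Nat.beq (actR48 i) i) 6579 387 = true := by decide +kernel
theorem c_act48_18 : allRange (fun i => Nat.beq (actR48 i) i) 6966 387 = true := by decide +kernel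
theorem c_act48_19 : allRange (fun i => Nat.beq (actR48 i) i) 7353 387 = true := by decide +kernel
theorem c_act48_20 : allRange (fun i => Nat.beq (actR48 i) i) 7740 387 = true := by decide +kernel
theorem c_act48_21 : allRange (fun i => Nat.beq (actR48 i) i) 8127 387 = true := by decide +kernel
theorem c_act48_22 : allRange (fun i => Nat.beq (actR48 i) i) 8514 387 = true := by decide +kernel
theorem c_act48_23 : allRange (fun i => Nat.beq (actR48 i) i) 8901 387 = true := by decide +kernel
theorem c_act48_24 : allRange (fun i => Nat.beq (actR48 i) i) 9288 387 = true := by decide +kernel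
theorem c_act48_25 : allRange (fun i => Nat.beq (actR48 i) i) 9675 387 = true := by decide +kernel
theorem c_act48_26 : allRange (fun i => Nat.beq (actR48 i) i) 10062 387 = true := by decide +kernel
theorem c_act48_27 : allRange (fun i => Nat.beq (actR48 i) i) 10449 387 = true := by decide +kernel
theorem c_act48_28 : allRange (fun i => Nat.beq (actR48 i) i) 10836 387 = true := by decide +kernel
theorem c_act48_29 : allRange (fun i => Nat.beq (actR48 i) i) 11223 387 = true := by decide +kernel
theorem c_act48_30 : allRange (fun i => Nat.beq (actR48 i) i) 11610 387 = true := by decide +kernel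
theorem c_act48_31 : allRange (fun i => Nat.beq (actR48 i) i) 11997 387 = true := by decide +kernel
theorem c_act48_32 : allRange (fun i => Nat.beq (actR48 i) i) 12384 387 = true := by decide +kernel
theorem c_act48_33 : allRange (fun i => Nat.beq (actR48 i) i) 12771 387 = true := by decide +kernel
theorem c_act48_34 : allRange (fun i => Nat.beq (actR48 i) i) 13158 387 = true := by decide +kernel
theorem c_act48_35 : allRange (fun i => Nat.beq (actR48 i) i) 13545 387 = true := by decide +kernel
theorem c_act48_36 : allRange (fun i => Nat.beq (actR48 i) i) 13932 387 = true := by decide +kernel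
theorem c_act48_37 : allRange (fun i => Nat.beq (actR48 i) i) 14319 387 = true := by decide +kernel
theorem c_act48_38 : allRange (fun i => Nat.beq (actR48 i) i) 14706 387 = true := by decide +kernel
theorem c_act48_39 : allRange (fun i => Nat.beq (actR48 i) i) 15093 387 = true := by decide +kernel
theorem c_act48_40 : allRange (fun i => Nat.beq (actR48 i) i) 15480 387 = true := by decide +kernel
theorem c_act48_41 : allRange (fun i => Nat.beq (actR48 i) i) 15867 387 = true := by decide +kernel
theorem c_act48_42 : allRange (fun i => Nat.beq (actR48 i) i) 16254 387 = true := by decide +kernel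
theorem c_act48_43 : allRange (fun i => Nat.beq (actR48 i) i) 16641 387 = true := by decide +kernel
theorem c_act48_44 : allRange (fun i => Nat.beq (actR48 i) i) 17028 387 = true := by decide +kernel
theorem c_act48_45 : allRange (fun i => Nat.beq (actR48 i) i) 17415 387 = true := by decide +kernel
theorem c_act48_46 : allRange (fun i => Nat.beq (actR48 i) i) 17802 387 = true := by decide +kernel
theorem c_act48_47 : allRange (fun i => Nat.beq (actR48 i) i) 18189 387 = true := by decide +kernel
theorem c_act48_48 : allRange (fun i => Nat.beq (actR48 i) i) 18576 387 = true := by decide +kernel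
theorem c_act48_49 : allRange (fun i => Nat.beq (actR48 i) i) 18963 387 = true := by decide +kernel
theorem c_act48_50 : allRange (fun i => Nat.beq (actR48 i) i) 19350 387 = true := by decide +kernel
theorem c_act48_51 : allRange (fun i => Nat.beq (actR48 i) i) 19737 387 = true := by decide +kernel
theorem c_act48_52 : allRange (fun i => Nat.beq (actR48 i) i) 20124 387 = true := by decide +kernel
theorem c_act48_53 : allRange (fun i => Nat.beq (actR48 i) i) 20511 387 = true := by decide +kernel
theorem c_act48_54 : allRange (fun i => Nat.beq (actR48 i) i) 20898 387 = true := by decide +kernel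
theorem c_act48_55 : allRange (fun i => Nat.beq (actR48 i) i) 21285 387 = true := by decide +kernel
theorem c_act48_56 : allRange (fun i => Nat.beq (actR48 i) i) 21672 387 = true := by decide +kernel
theorem c_act48_57 : allRange (fun i => Nat.beq (actR48 i) i) 22059 387 = true := by decide +kernel
theorem c_act48_58 : allRange (fun i => Nat.beq (actR48 i) i) 22446 387 = true := by decide +kernel
theorem c_act48_59 : allRange (fun i => Nat.beq (actR48 i) i) 22833 387 = true := by decide +kernel
theorem c_act48_60 : allRange (fun i => Nat.beq (actR48 i) i) 23220 387 = true := by decide +kernel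
theorem c_act48_61 : allRange (fun i => Nat.beq (actR48 i) i) 23607 387 = true := by decide +kernel
theorem c_act48_62 : allRange (fun i => Nat.beq (actR48 i) i) 23994 387 = true := by decide +kernel
theorem c_act48_63 : allRange (fun i => Nat.beq (actR48 i) i) 24381 387 = true := by decide +kernel
theorem c_act48_64 : allRange (fun i => Nat.beq (actR48 i) i) 24768 387 = true := by decide +kernel
theorem c_act48_65 : allRange (fun i => Nat.beq (actR48 i) i) 25155 387 = true := by decide +kernel
theorem c_act48_66 : allRange (fun i => Nat.beq (actR48 i) i) 25542 387 = true := by decide +kernel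
theorem c_act48_67 : allRange (fun i => Nat.beq (actR48 i) i) 25929 387 = true := by decide +kernel
theorem c_act48_68 : allRange (fun i => Nat.beq (actR48 i) i) 26316 387 = true := by decide +kernel
theorem c_act48_69 : allRange (fun i => Nat.beq (actR48 i) i) 26703 387 = true := by decide +kernel
theorem c_act48_70 : allRange (fun i => Nat.beq (actR48 i) i) 27090 387 = true := by decide +kernel
theorem c_act48_71 : allRange (fun i => Nat.beq (actR48 i) i) 27477 387 = true := by decide +kernel
theorem c_act48_72 : allRange (fun i => Nat.beq (actR48 i) i) 27864 387 = true := by decide +kernel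
theorem c_act48_73 : allRange (fun i => Nat.beq (actR48 i) i) 28251 387 = true := by decide +kernel
theorem c_act48_74 : allRange (fun i => Nat.beq (actR48 i) i) 28638 387 = true := by decide +kernel
theorem c_act48_75 : allRange (fun i => Nat.beq (actR48 i) i) 29025 387 = true := by decide +kernel
theorem c_act48_76 : allRange (fun i => Nat.beq (actR48 i) i) 29412 387 = true := by decide +kernel
theorem c_act48_77 : allRange (fun i => Nat.beq (actR48 i) i) 29799 387 = true := by decide +kernel
theorem c_act48_78 : allRange (fun i => Nat.beq (actR48 i) i) 30186 387 = true := by decide +kernel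
theorem c_act48_79 : allRange (fun i => Nat.beq (actR48 i) i) 30573 387 = true := by decide +kernel
theorem c_act48_80 : allRange (fun i => Nat.beq (actR48 i) i) 30960 387 = true := by decide +kernel
theorem c_act48_81 : allRange (fun i => Nat.beq (actR48 i) i) 31347 387 = true := by decide +kernel
theorem c_act48_82 : allRange (fun i => Nat.beq (actR48 i) i) 31734 387 = true := by decide +kernel
theorem c_act48_83 : allRange (fun i => Nat.beq (actR48 i) i) 32121 387 = true := by decide +kernel
theorem c_act48_84 : allRange (fun i => Nat.beq (actR48 i) i) 32508 387 = true := by decide +kernel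
theorem c_act48_85 : allRange (fun i => Nat.beq (actR48 i) i) 32895 387 = true := by decide +kernel
theorem c_act48_86 : allRange (fun i => Nat.beq (actR48 i) i) 33282 387 = true := by decide +kernel
theorem c_act48_87 : allRange (fun i => Nat.beq (actR48 i) i) 33669 387 = true := by decide +kernel
theorem c_act48_88 : allRange (fun i => Nat.beq (actR48 i) i) 34056 387 = true := by decide +kernel
theorem c_act48_89 : allRange (fun i => Nat.beq (actR48 i) i) 34443 387 = true := by decide +kernel
theorem c_act48_90 : allRange (fun i => Nat.beq (actR48 i) i) 34830 387 = true := by decide +kernel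
theorem c_act48_91 : allRange (fun i => Nat.beq (actR48 i) i) 35217 387 = true := by decide +kernel
theorem c_act48_92 : allRange (fun i => Nat.beq (actR48 i) i) 35604 387 = true := by decide +kernel
theorem c_act48_93 : allRange (fun i => Nat.beq (actR48 i) i) 35991 387 = true := by decide +kernel
theorem c_act48_94 : allRange (fun i => Nat.beq (actR48 i) i) 36378 387 = true := by decide +kernel
theorem c_act48_95 : allRange (fun i => Nat.beq (actR48 i) i) 36765 387 = true := by decide +kernel
theorem c_act48_96 : allRange (fun i => Nat.beq (actR48 i) i) 37152 387 = true := by decide +kernel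
theorem c_act48_97 : allRange (fun i => Nat.beq (actR48 i) i) 37539 387 = true := by decide +kernel
theorem c_act48_98 : allRange (fun i => Nat.beq (actR48 i) i) 37926 387 = true := by decide +kernel
theorem c_act48_99 : allRange (fun i => Nat.beq (actR48 i) i) 38313 387 = true := by decide +kernel
theorem c_act48_100 : allRange (fun i => Nat.beq (actR48 i) i) 38700 387 = true := by decide +kernel
theorem c_act48_101 : allRange (fun i => Nat.beq (actR48 i) i) 39087 387 = true := by decide +kernel
theorem c_act48_102 : allRange (fun i => Nat.beq (actR48 i) i) 39474 387 = true := by decide +kernel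
theorem c_act48_103 : allRange (fun i => Nat.beq (actR48 i) i) 39861 387 = true := by decide +kernel
theorem c_act48_104 : allRange (fun i => Nat.beq (actR48 i) i) 40248 387 = true := by decide +kernel
theorem c_act48_105 : allRange (fun i => Nat.beq (actR48 i) i) 40635 387 = true := by decide +kernel
theorem c_act48_106 : allRange (fun i => Nat.beq (actR48 i) i) 41022 387 = true := by decide +kernel
theorem c_act48_107 : allRange (fun i => Nat.beq (actR48 i) i) 41409 387 = true := by decide +kernel
theorem c_act48_108 : allRange (fun i => Nat.beq (actR48 i) i) 41796 387 = true := by decide +kernel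
theorem c_act48_109 : allRange (fun i => Nat.beq (actR48 i) i) 42183 387 = true := by decide +kernel
theorem c_act48_110 : allRange (fun i => Nat.beq (actR48 i) i) 42570 387 = true := by decide +kernel
theorem c_act48_111 : allRange (fun i => Nat.beq (actR48 i) i) 42957 387 = true := by decide +kernel
theorem c_act48_112 : allRange (fun i => Nat.beq (actR48 i) i) 43344 387 = true := by decide +kernel
theorem c_act48_113 : allRange (fun i => Nat.beq (actR48 i) i) 43731 387 = true := by decide +kernel

end Cfsg.Agent.Lib.Helper4.TCD.C3Fi22yR
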