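import Cfsg.Agent.Lib.Helper4.TCD_C3Fi22yR_Acc

namespace Cfsg.Agent.Lib.Helper4.TCD.C3Fi22yR

open Cfsg.Agent.Lib.Helper4.TC

set_option maxRecDepth 100000
set_option Elab.async false

theorem c_act48_114 : allRange (fun i => Nat.beq (actR48 i) i) 44118 387 = true := by decide +kernel
theorem c_act48_115 : allRange (fun i => Nat.beq (actR48 i) i) 44505 387 = true := by decide +kernel
theorem c_act48_116 : allRange (fun i => Nat.beq (actR48 i) i) 44892 387 = true := by decide +kernel
theorem c_act48_117 : allRange (fun i => Nat.beq (actR48 i) i) 45279 387 = true := by decide +kernel
theorem c_act48_118 : allRange (fun i => Nat.beq (actR48 i) i) 45666 387 = true := by decide +kernel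
theorem c_act48_119 : allRange (fun i => Nat.beq (actR48 i) i) 46053 387 = true := by decide +kernel
theorem c_act48_120 : allRange (fun i => Nat.beq (actR48 i) i) 46440 387 = true := by decide +kernel
theorem c_act48_121 : allRange (fun i => Nat.beq (actR48 i) i) 46827 387 = true := by decide +kernel
theorem c_act48_122 : allRange (fun i => Nat.beq (actR48 i) i) 47214 387 = true := by decide +kernel
theorem c_act48_123 : allRange (fun i => Nat.beq (actR48 i) i) 47601 387 = true := by decide +kernel
theorem c_act48_124 : allRange (fun i => Nat.beq (actR48 i) i) 47988 387 = true := by decide +kernel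
theorem c_act48_125 : allRange (fun i => Nat.beq (actR48 i) i) 48375 387 = true := by decide +kernel
theorem c_act48_126 : allRange (fun i => Nat.beq (actR48 i) i) 48762 387 = true := by decide +kernel
theorem c_act48_127 : allRange (fun i => Nat.beq (actR48 i) i) 49149 387 = true := by decide +kernel
theorem c_act48_128 : allRange (fun i => Nat.beq (actR48 i) i) 49536 387 = true := by decide +kernel
theorem c_act48_129 : allRange (fun i => Nat.beq (actR48 i) i) 49923 387 = true := by decide +kernel
theorem c_act48_130 : allRange (fun i => Nat.beq (actR48 i) i) 50310 387 = true := by decide +kernel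
theorem c_act48_131 : allRange (fun i => Nat.beq (actR48 i) i) 50697 387 = true := by decide +kernel
theorem c_act48_132 : allRange (fun i => Nat.beq (actR48 i) i) 51084 387 = true := by decide +kernel
theorem c_act48_133 : allRange (fun i => Nat.beq (actR48 i) i) 51471 387 = true := by decide +kernel
theorem c_act48_134 : allRange (fun i => Nat.beq (actR48 i) i) 51858 387 = true := by decide +kernel
theorem c_act48_135 : allRange (fun i => Nat.beq (actR48 i) i) 52245 387 = true := by decide +kernel
theorem c_act48_136 : allRange (fun i => Nat.beq (actR48 i) i) 52632 387 = true := by decide +kernel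
theorem c_act48_137 : allRange (fun i => Nat.beq (actR48 i) i) 53019 387 = true := by decide +kernel
theorem c_act48_138 : allRange (fun i => Nat.beq (actR48 i) i) 53406 387 = true := by decide +kernel
theorem c_act48_139 : allRange (fun i => Nat.beq (actR48 i) i) 53793 387 = true := by decide +kernel
theorem c_act48_140 : allRange (fun i => Nat.beq (actR48 i) i) 54180 387 = true := by decide +kernel
theorem c_act48_141 : allRange (fun i => Nat.beq (actR48 i) i) 54567 387 = true := by decide +kernel
theorem c_act48_142 : allRange (fun i => Nat.beq (actR48 i) i) 54954 387 = true := by decide +kernel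
theorem c_act48_143 : allRange (fun i => Nat.beq (actR48 i) i) 55341 387 = true := by decide +kernel
theorem c_act48_144 : allRange (fun i => Nat.beq (actR48 i) i) 55728 387 = true := by decide +kernel
theorem c_act48_145 : allRange (fun i => Nat.beq (actR48 i) i) 56115 387 = true := by decide +kernel
theorem c_act48_146 : allRange (fun i => Nat.beq (actR48 i) i) 56502 387 = true := by decide +kernel
theorem c_act48_147 : allRange (fun i => Nat.beq (actR48 i) i) 56889 387 = true := by decide +kernel
theorem c_act48_148 : allRange (fun i => Nat.beq (actR48 i) i) 57276 387 = true := by decide +kernel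
theorem c_act48_149 : allRange (fun i => Nat.beq (actR48 i) i) 57663 387 = true := by decide +kernel
theorem c_act48_150 : allRange (fun i => Nat.beq (actR48 i) i) 58050 387 = true := by decide +kernel
theorem c_act48_151 : allRange (fun i => Nat.beq (actR48 i) i) 58437 387 = true := by decide +kernel
theorem c_act48_152 : allRange (fun i => Nat.beq (actR48 i) i) 58824 387 = true := by decide +kernel
theorem c_act48_153 : allRange (fun i => Nat.beq (actR48 i) i) 59211 387 = true := by decide +kernel
theorem c_act48_154 : allRange (fun i => Nat.beq (actR48 i) i) 59598 387 = true := by decide +kernel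
theorem c_act48_155 : allRange (fun i => Nat.beq (actR48 i) i) 59985 387 = true := by decide +kernel
theorem c_act48_156 : allRange (fun i => Nat.beq (actR48 i) i) 60372 387 = true := by decide +kernel
theorem c_act48_157 : allRange (fun i => Nat.beq (actR48 i) i) 60759 387 = true := by decide +kernel
theorem c_act48_158 : allRange (fun i => Nat.beq (actR48 i) i) 61146 387 = true := by decide +kernel
theorem c_act48_159 : allRange (fun i => Nat.beq (actR48 i) i) 61533 387 = true := by decide +kernel
theorem c_act48_160 : allRange (fun i => Nat.beq (actR48 i) i) 61920 387 = true := by decide +kernel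
theorem c_act48_161 : allRange (fun i => Nat.beq (actR48 i) i) 62307 387 = true := by decide +kernel
theorem c_act48_162 : allRange (fun i => Nat.beq (actR48 i) i) 62694 387 = true := by decide +kernel
theorem c_act48_163 : allRange (fun i => Nat.beq (actR48 i) i) 63081 387 = true := by decide +kernel
theorem c_act48_164 : allRange (fun i => Nat.beq (actR48 i) i) 63468 387 = true := by decide +kernel
theorem c_act48_165 : allRange (fun i => Nat.beq (actR48 i) i) 63855 387 = true := by decide +kernel
theorem c_act48_166 : allRange (fun i => Nat.beq (actR48 i) i) 64242 387 = true := by decide +kernel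
theorem c_act48_167 : allRange (fun i => Nat.beq (actR48 i) i) 64629 387 = true := by decide +kernel
theorem c_act48_168 : allRange (fun i => Nat.beq (actR48 i) i) 65016 387 = true := by decide +kernel
theorem c_act48_169 : allRange (fun i => Nat.beq (actR48 i) i) 65403 387 = true := by decide +kernel
theorem c_act48_170 : allRange (fun i => Nat.beq (actR48 i) i) 65790 387 = true := by decide +kernel
theorem c_act48_171 : allRange (fun i => Nat.beq (actR48 i) i) 66177 387 = true := by decide +kernel
theorem c_act48_172 : allRange (fun i => Nat.beq (actR48 i) i) 66564 387 = true := by decide +kernel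
theorem c_act48_173 : allRange (fun i => Nat.beq (actR48 i) i) 66951 387 = true := by decide +kernel
theorem c_act48_174 : allRange (fun i => Nat.beq (actR48 i) i) 67338 387 = true := by decide +kernel
theorem c_act48_175 : allRange (fun i => Nat.beq (actR48 i) i) 67725 387 = true := by decide +kernel
theorem c_act48_176 : allRange (fun i => Nat.beq (actR48 i) i) 68112 387 = true := by decide +kernel
theorem c_act48_177 : allRange (fun i => Nat.beq (actR48 i) i) 68499 387 = true := by decide +kernel
theorem c_act48_178 : allRange (fun i => Nat.beq (actR48 i) i) 68886 387 = true := by decide +kernel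
theorem c_act48_179 : allRange (fun i => Nat.beq (actR48 i) i) 69273 387 = true := by decide +kernel
theorem c_act48_180 : allRange (fun i => Nat.beq (actR48 i) i) 69660 387 = true := by decide +kernel
theorem c_act48_181 : allRange (fun i => Nat.beq (actR48 i) i) 70047 387 = true := by decide +kernel
theorem c_act48_182 : allRange (fun i => Nat.beq (actR48 i) i) 70434 387 = true := by decide +kernel
theorem c_act48_183 : allRange (fun i => Nat.beq (actR48 i) i) 70821 387 = true := by decide +kernel
theorem c_act48_184 : allRange (fun i => Nat.beq (actR48 i) i) 71208 387 = true := by decide +kernel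
theorem c_act48_185 : allRange (fun i => Nat.beq (actR48 i) i) 71595 387 = true := by decide +kernel
theorem c_act48_186 : allRange (fun i => Nat.beq (actR48 i) i) 71982 387 = true := by decide +kernel
theorem c_act48_187 : allRange (fun i => Nat.beq (actR48 i) i) 72369 387 = true := by decide +kernel
theorem c_act48_188 : allRange (fun i => Nat.beq (actR48 i) i) 72756 387 = true := by decide +kernel
theorem c_act48_189 : allRange (fun i => Nat.beq (actR48 i) i) 73143 387 = true := by decide +kernel
theorem c_act48_190 : allRange (fun i => Nat.beq (actR48 i) i) 73530 387 = true := by decide +kernel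
theorem c_act48_191 : allRange (fun i => Nat.beq (actR48 i) i) 73917 387 = true := by decide +kernel
theorem c_act48_192 : allRange (fun i => Nat.beq (actR48 i) i) 74304 387 = true := by decide +kernel
theorem c_act48_193 : allRange (fun i => Nat.beq (actR48 i) i) 74691 387 = true := by decide +kernel
theorem c_act48_194 : allRange (fun i => Nat.beq (actR48 i) i) 75078 387 = true := by decide +kernel
theorem c_act48_195 : allRange (fun i => Nat.beq (actR48 i) i) 75465 387 = true := by decide +kernel
theorem c_act48_196 : allRange (fun i => Nat.beq (actR48 i) i) 75852 387 = true := by decide +kernel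
theorem c_act48_197 : allRange (fun i => Nat.beq (actR48 i) i) 76239 387 = true := by decide +kernel
theorem c_act48_198 : allRange (fun i => Nat.beq (actR48 i) i) 76626 387 = true := by decide +kernel
theorem c_act48_199 : allRange (fun i => Nat.beq (actR48 i) i) 77013 387 = true := by decide +kernel
theorem c_act48_200 : allRange (fun i => Nat.beq (actR48 i) i) 77400 387 = true := by decide +kernel
theorem c_act48_201 : allRange (fun i => Nat.beq (actR48 i) i) 77787 387 = true := by decide +kernel
theorem c_act48_202 : allRange (fun i => Nat.beq (actR48 i) i) 78174 387 = true := by decide +kernel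
theorem c_act48_203 : allRange (fun i => Nat.beq (actR48 i) i) 78561 387 = true := by decide +kernel
theorem c_act48_204 : allRange (fun i => Nat.beq (actR48 i) i) 78948 387 = true := by decide +kernel
theorem c_act48_205 : allRange (fun i => Nat.beq (actR48 i) i) 79335 387 = true := by decide +kernel
theorem c_act48_206 : allRange (fun i => Nat.beq (actR48 i) i) 79722 387 = true := by decide +kernel
theorem c_act48_207 : allRange (fun i => Nat.beq (actR48 i) i) 80109 387 = true := by decide +kernel
theorem c_act48_208 : allRange (fun i => Nat.beq (actR48 i) i) 80496 387 = true := by decide +kernel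
theorem c_act48_209 : allRange (fun i => Nat.beq (actR48 i) i) 80883 387 = true := by decide +kernel
theorem c_act48_210 : allRange (fun i => Nat.beq (actR48 i) i) 81270 387 = true := by decide +kernel
theorem c_act48_211 : allRange (fun i => Nat.beq (actR48 i) i) 81657 387 = true := by decide +kernel
theorem c_act48_212 : allRange (fun i => Nat.beq (actR48 i) i) 82044 387 = true := by decide +kernel
theorem c_act48_213 : allRange (fun i => Nat.beq (actR48 i) i) 82431 387 = true := by decide +kernel

end Cfsg.Agent.Lib.Helper4.TCD.C3Fi22yR
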