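import Cfsg.Agent.Lib.Helper4.TCD_C3Fi22yR_Acc

namespace Cfsg.Agent.Lib.Helper4.TCD.C3Fi22yR

open Cfsg.Agent.Lib.Helper4.TC

set_option maxRecDepth 100000
set_option Elab.async false

theorem c_act48_214 : allRange (fun i => Nat.beq (actR48 i) i) 82818 387 = true := by decide +kernel
theorem c_act48_215 : allRange (fun i => Nat.beq (actR48 i) i) 83205 387 = true := by decide +kernel
theorem c_act48_216 : allRange (fun i => Nat.beq (actR48 i) i) 83592 387 = true := by decide +kernel
theorem c_act48_217 : allRange (fun i => Nat.beq (actR48 i) i) 83979 387 = true := by decide +kernel
theorem c_act48_218 : allRange (fun i => Nat.beq (actR48 i) i) 84366 387 = true := by decide +kernel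
theorem c_act48_219 : allRange (fun i => Nat.beq (actR48 i) i) 84753 387 = true := by decide +kernel
theorem c_act48_220 : allRange (fun i => Nat.beq (actR48 i) i) 85140 387 = true := by decide +kernel
theorem c_act48_221 : allRange (fun i => Nat.beq (actR48 i) i) 85527 387 = true := by decide +kernel
theorem c_act48_222 : allRange (fun i => Nat.beq (actR48 i) i) 85914 387 = true := by decide +kernel
theorem c_act48_223 : allRange (fun i => Nat.beq (actR48 i) i) 86301 387 = true := by decide +kernel
theorem c_act48_224 : allRange (fun i => Nat.beq (actR48 i) i) 86688 387 = true := by decide +kernel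
theorem c_act48_225 : allRange (fun i => Nat.beq (actR48 i) i) 87075 387 = true := by decide +kernel
theorem c_act48_226 : allRange (fun i => Nat.beq (actR48 i) i) 87462 387 = true := by decide +kernel
theorem c_act48_227 : allRange (fun i => Nat.beq (actR48 i) i) 87849 387 = true := by decide +kernel
theorem c_act48_228 : allRange (fun i => Nat.beq (actR48 i) i) 88236 387 = true := by decide +kernel
theorem c_act48_229 : allRange (fun i => Nat.beq (actR48 i) i) 88623 387 = true := by decide +kernel
theorem c_act48_230 : allRange (fun i => Nat.beq (actR48 i) i) 89010 387 = true := by decide +kernel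
theorem c_act48_231 : allRange (fun i => Nat.beq (actR48 i) i) 89397 387 = true := by decide +kernel
theorem c_act48_232 : allRange (fun i => Nat.beq (actR48 i) i) 89784 387 = true := by decide +kernel
theorem c_act48_233 : allRange (fun i => Nat.beq (actR48 i) i) 90171 387 = true := by decide +kernel
theorem c_act48_234 : allRange (fun i => Nat.beq (actR48 i) i) 90558 387 = true := by decide +kernel
theorem c_act48_235 : allRange (fun i => Nat.beq (actR48 i) i) 90945 387 = true := by decide +kernel
theorem c_act48_236 : allRange (fun i => Nat.beq (actR48 i) i) 91332 387 = true := by decide +kernel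
theorem c_act48_237 : allRange (fun i => Nat.beq (actR48 i) i) 91719 387 = true := by decide +kernel
theorem c_act48_238 : allRange (fun i => Nat.beq (actR48 i) i) 92106 387 = true := by decide +kernel
theorem c_act48_239 : allRange (fun i => Nat.beq (actR48 i) i) 92493 387 = true := by decide +kernel
theorem c_act48_240 : allRange (fun i => Nat.beq (actR48 i) i) 92880 387 = true := by decide +kernel
theorem c_act48_241 : allRange (fun i => Nat.beq (actR48 i) i) 93267 387 = true := by decide +kernel
theorem c_act48_242 : allRange (fun i => Nat.beq (actR48 i) i) 93654 387 = true := by decide +kernel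
theorem c_act48_243 : allRange (fun i => Nat.beq (actR48 i) i) 94041 387 = true := by decide +kernel
theorem c_act48_244 : allRange (fun i => Nat.beq (actR48 i) i) 94428 387 = true := by decide +kernel
theorem c_act48_245 : allRange (fun i => Nat.beq (actR48 i) i) 94815 387 = true := by decide +kernel
theorem c_act48_246 : allRange (fun i => Nat.beq (actR48 i) i) 95202 387 = true := by decide +kernel
theorem c_act48_247 : allRange (fun i => Nat.beq (actR48 i) i) 95589 387 = true := by decide +kernel
theorem c_act48_248 : allRange (fun i => Nat.beq (actR48 i) i) 95976 387 = true := by decide +kernel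
theorem c_act48_249 : allRange (fun i => Nat.beq (actR48 i) i) 96363 387 = true := by decide +kernel
theorem c_act48_250 : allRange (fun i => Nat.beq (actR48 i) i) 96750 387 = true := by decide +kernel
theorem c_act48_251 : allRange (fun i => Nat.beq (actR48 i) i) 97137 387 = true := by decide +kernel
theorem c_act48_252 : allRange (fun i => Nat.beq (actR48 i) i) 97524 387 = true := by decide +kernel
theorem c_act48_253 : allRange (fun i => Nat.beq (actR48 i) i) 97911 387 = true := by decide +kernel
theorem c_act48_254 : allRange (fun i => Nat.beq (actR48 i) i) 98298 387 = true := by decide +kernel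
theorem c_act48_255 : allRange (fun i => Nat.beq (actR48 i) i) 98685 387 = true := by decide +kernel
theorem c_act48_256 : allRange (fun i => Nat.beq (actR48 i) i) 99072 387 = true := by decide +kernel
theorem c_act48_257 : allRange (fun i => Nat.beq (actR48 i) i) 99459 387 = true := by decide +kernel
theorem c_act48_258 : allRange (fun i => Nat.beq (actR48 i) i) 99846 387 = true := by decide +kernel
theorem c_act48_259 : allRange (fun i => Nat.beq (actR48 i) i) 100233 387 = true := by decide +kernel
theorem c_act48_260 : allRange (fun i => Nat.beq (actR48 i) i) 100620 387 = true := by decide +kernel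
theorem c_act48_261 : allRange (fun i => Nat.beq (actR48 i) i) 101007 387 = true := by decide +kernel
theorem c_act48_262 : allRange (fun i => Nat.beq (actR48 i) i) 101394 387 = true := by decide +kernel
theorem c_act48_263 : allRange (fun i => Nat.beq (actR48 i) i) 101781 387 = true := by decide +kernel
theorem c_act48_264 : allRange (fun i => Nat.beq (actR48 i) i) 102168 387 = true := by decide +kernel
theorem c_act48_265 : allRange (fun i => Nat.beq (actR48 i) i) 102555 387 = true := by decide +kernel
theorem c_act48_266 : allRange (fun i => Nat.beq (actR48 i) i) 102942 387 = true := by decide +kernel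
theorem c_act48_267 : allRange (fun i => Nat.beq (actR48 i) i) 103329 387 = true := by decide +kernel
theorem c_act48_268 : allRange (fun i => Nat.beq (actR48 i) i) 103716 387 = true := by decide +kernel
theorem c_act48_269 : allRange (fun i => Nat.beq (actR48 i) i) 104103 387 = true := by decide +kernel
theorem c_act48_270 : allRange (fun i => Nat.beq (actR48 i) i) 104490 387 = true := by decide +kernel
theorem c_act48_271 : allRange (fun i => Nat.beq (actR48 i) i) 104877 387 = true := by decide +kernel
theorem c_act48_272 : allRange (fun i => Nat.beq (actR48 i) i) 105264 387 = true := by decide +kernel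
theorem c_act48_273 : allRange (fun i => Nat.beq (actR48 i) i) 105651 387 = true := by decide +kernel
theorem c_act48_274 : allRange (fun i => Nat.beq (actR48 i) i) 106038 387 = true := by decide +kernel
theorem c_act48_275 : allRange (fun i => Nat.beq (actR48 i) i) 106425 387 = true := by decide +kernel
theorem c_act48_276 : allRange (fun i => Nat.beq (actR48 i) i) 106812 387 = true := by decide +kernel
theorem c_act48_277 : allRange (fun i => Nat.beq (actR48 i) i) 107199 387 = true := by decide +kernel
theorem c_act48_278 : allRange (fun i => Nat.beq (actR48 i) i) 107586 387 = true := by decide +kernel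
theorem c_act48_279 : allRange (fun i => Nat.beq (actR48 i) i) 107973 387 = true := by decide +kernel
theorem c_act48_280 : allRange (fun i => Nat.beq (actR48 i) i) 108360 387 = true := by decide +kernel
theorem c_act48_281 : allRange (fun i => Nat.beq (actR48 i) i) 108747 387 = true := by decide +kernel
theorem c_act48_282 : allRange (fun i => Nat.beq (actR48 i) i) 109134 387 = true := by decide +kernel
theorem c_act48_283 : allRange (fun i => Nat.beq (actR48 i) i) 109521 387 = true := by decide +kernel
theorem c_act48_284 : allRange (fun i => Nat.beq (actR48 i) i) 109908 387 = true := by decide +kernel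
theorem c_act48_285 : allRange (fun i => Nat.beq (actR48 i) i) 110295 387 = true := by decide +kernel
theorem c_act48_286 : allRange (fun i => Nat.beq (actR48 i) i) 110682 387 = true := by decide +kernel
theorem c_act48_287 : allRange (fun i => Nat.beq (actR48 i) i) 111069 387 = true := by decide +kernel
theorem c_act48_288 : allRange (fun i => Nat.beq (actR48 i) i) 111456 387 = true := by decide +kernel
theorem c_act48_289 : allRange (fun i => Nat.beq (actR48 i) i) 111843 387 = true := by decide +kernel
theorem c_act48_290 : allRange (fun i => Nat.beq (actR48 i) i) 112230 387 = true := by decide +kernel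
theorem c_act48_291 : allRange (fun i => Nat.beq (actR48 i) i) 112617 387 = true := by decide +kernel
theorem c_act48_292 : allRange (fun i => Nat.beq (actR48 i) i) 113004 387 = true := by decide +kernel
theorem c_act48_293 : allRange (fun i => Nat.beq (actR48 i) i) 113391 387 = true := by decide +kernel
theorem c_act48_294 : allRange (fun i => Nat.beq (actR48 i) i) 113778 387 = true := by decide +kernel
theorem c_act48_295 : allRange (fun i => Nat.beq (actR48 i) i) 114165 387 = true := by decide +kernel
theorem c_act48_296 : allRange (fun i => Nat.beq (actR48 i) i) 114552 387 = true := by decide +kernel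
theorem c_act48_297 : allRange (fun i => Nat.beq (actR48 i) i) 114939 387 = true := by decide +kernel
theorem c_act48_298 : allRange (fun i => Nat.beq (actR48 i) i) 115326 387 = true := by decide +kernel
theorem c_act48_299 : allRange (fun i => Nat.beq (actR48 i) i) 115713 387 = true := by decide +kernel
theorem c_act48_300 : allRange (fun i => Nat.beq (actR48 i) i) 116100 387 = true := by decide +kernel
theorem c_act48_301 : allRange (fun i => Nat.beq (actR48 i) i) 116487 387 = true := by decide +kernel
theorem c_act48_302 : allRange (fun i => Nat.beq (actR48 i) i) 116874 387 = true := by decide +kernel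
theorem c_act48_303 : allRange (fun i => Nat.beq (actR48 i) i) 117261 387 = true := by decide +kernel
theorem c_act48_304 : allRange (fun i => Nat.beq (actR48 i) i) 117648 387 = true := by decide +kernel
theorem c_act48_305 : allRange (fun i => Nat.beq (actR48 i) i) 118035 387 = true := by decide +kernel
theorem c_act48_306 : allRange (fun i => Nat.beq (actR48 i) i) 118422 387 = true := by decide +kernel
theorem c_act48_307 : allRange (fun i => Nat.beq (actR48 i) i) 118809 387 = true := by decide +kernel
theorem c_act48_308 : allRange (fun i => Nat.beq (actR48 i) i) 119196 387 = true := by decide +kernel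
theorem c_act48_309 : allRange (fun i => Nat.beq (actR48 i) i) 119583 387 = true := by decide +kernel
theorem c_act48_310 : allRange (fun i => Nat.beq (actR48 i) i) 119970 387 = true := by decide +kernel
theorem c_act48_311 : allRange (fun i => Nat.beq (actR48 i) i) 120357 387 = true := by decide +kernel
theorem c_act48_312 : allRange (fun i => Nat.beq (actR48 i) i) 120744 387 = true := by decide +kernel
theorem c_act48_313 : allRange (fun i => Nat.beq (actR48 i) i) 121131 387 = true := by decide +kernel

end Cfsg.Agent.Lib.Helper4.TCD.C3Fi22yR
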