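import Cfsg.Agent.Lib.Helper4.TCD_C3Fi22yR_Acc

namespace Cfsg.Agent.Lib.Helper4.TCD.C3Fi22yR

open Cfsg.Agent.Lib.Helper4.TC

set_option maxRecDepth 100000
set_option Elab.async false

theorem c_act48_314 : allRange (fun i => Nat.beq (actR48 i) i) 121518 387 = true := by decide +kernel
theorem c_act48_315 : allRange (fun i => Nat.beq (actR48 i) i) 121905 387 = true := by decide +kernel
theorem c_act48_316 : allRange (fun i => Nat.beq (actR48 i) i) 122292 387 = true := by decide +kernel
theorem c_act48_317 : allRange (fun i => Nat.beq (actR48 i) i) 122679 387 = true := by decide +kernel
theorem c_act48_318 : allRange (fun i => Nat.beq (actR48 i) i) 123066 387 = true := by decide +kernel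
theorem c_act48_319 : allRange (fun i => Nat.beq (actR48 i) i) 123453 387 = true := by decide +kernel
theorem c_act48_320 : allRange (fun i => Nat.beq (actR48 i) i) 123840 387 = true := by decide +kernel
theorem c_act48_321 : allRange (fun i => Nat.beq (actR48 i) i) 124227 387 = true := by decide +kernel
theorem c_act48_322 : allRange (fun i => Nat.beq (actR48 i) i) 124614 387 = true := by decide +kernel
theorem c_act48_323 : allRange (fun i => Nat.beq (actR48 i) i) 125001 387 = true := by decide +kernel
theorem c_act48_324 : allRange (fun i => Nat.beq (actR48 i) i) 125388 387 = true := by decide +kernel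
theorem c_act48_325 : allRange (fun i => Nat.beq (actR48 i) i) 125775 387 = true := by decide +kernel
theorem c_act48_326 : allRange (fun i => Nat.beq (actR48 i) i) 126162 387 = true := by decide +kernel
theorem c_act48_327 : allRange (fun i => Nat.beq (actR48 i) i) 126549 387 = true := by decide +kernel
theorem c_act48_328 : allRange (fun i => Nat.beq (actR48 i) i) 126936 387 = true := by decide +kernel
theorem c_act48_329 : allRange (fun i => Nat.beq (actR48 i) i) 127323 387 = true := by decide +kernel
theorem c_act48_330 : allRange (fun i => Nat.beq (actR48 i) i) 127710 387 = true := by decide +kernel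
theorem c_act48_331 : allRange (fun i => Nat.beq (actR48 i) i) 128097 387 = true := by decide +kernel
theorem c_act48_332 : allRange (fun i => Nat.beq (actR48 i) i) 128484 387 = true := by decide +kernel
theorem c_act48_333 : allRange (fun i => Nat.beq (actR48 i) i) 128871 387 = true := by decide +kernel
theorem c_act48_334 : allRange (fun i => Nat.beq (actR48 i) i) 129258 387 = true := by decide +kernel
theorem c_act48_335 : allRange (fun i => Nat.beq (actR48 i) i) 129645 387 = true := by decide +kernel
theorem c_act48_336 : allRange (fun i => Nat.beq (actR48 i) i) 130032 387 = true := by decide +kernel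
theorem c_act48_337 : allRange (fun i => Nat.beq (actR48 i) i) 130419 387 = true := by decide +kernel
theorem c_act48_338 : allRange (fun i => Nat.beq (actR48 i) i) 130806 387 = true := by decide +kernel
theorem c_act48_339 : allRange (fun i => Nat.beq (actR48 i) i) 131193 387 = true := by decide +kernel
theorem c_act48_340 : allRange (fun i => Nat.beq (actR48 i) i) 131580 387 = true := by decide +kernel
theorem c_act48_341 : allRange (fun i => Nat.beq (actR48 i) i) 131967 387 = true := by decide +kernel
theorem c_act48_342 : allRange (fun i => Nat.beq (actR48 i) i) 132354 387 = true := by decide +kernel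
theorem c_act48_343 : allRange (fun i => Nat.beq (actR48 i) i) 132741 387 = true := by decide +kernel
theorem c_act48_344 : allRange (fun i => Nat.beq (actR48 i) i) 133128 387 = true := by decide +kernel
theorem c_act48_345 : allRange (fun i => Nat.beq (actR48 i) i) 133515 387 = true := by decide +kernel
theorem c_act48_346 : allRange (fun i => Nat.beq (actR48 i) i) 133902 387 = true := by decide +kernel
theorem c_act48_347 : allRange (fun i => Nat.beq (actR48 i) i) 134289 387 = true := by decide +kernel
theorem c_act48_348 : allRange (fun i => Nat.beq (actR48 i) i) 134676 387 = true := by decide +kernel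
theorem c_act48_349 : allRange (fun i => Nat.beq (actR48 i) i) 135063 387 = true := by decide +kernel
theorem c_act48_350 : allRange (fun i => Nat.beq (actR48 i) i) 135450 387 = true := by decide +kernel
theorem c_act48_351 : allRange (fun i => Nat.beq (actR48 i) i) 135837 387 = true := by decide +kernel
theorem c_act48_352 : allRange (fun i => Nat.beq (actR48 i) i) 136224 387 = true := by decide +kernel
theorem c_act48_353 : allRange (fun i => Nat.beq (actR48 i) i) 136611 387 = true := by decide +kernel
theorem c_act48_354 : allRange (fun i => Nat.beq (actR48 i) i) 136998 387 = true := by decide +kernel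
theorem c_act48_355 : allRange (fun i => Nat.beq (actR48 i) i) 137385 387 = true := by decide +kernel
theorem c_act48_356 : allRange (fun i => Nat.beq (actR48 i) i) 137772 387 = true := by decide +kernel
theorem c_act48_357 : allRange (fun i => Nat.beq (actR48 i) i) 138159 387 = true := by decide +kernel
theorem c_act48_358 : allRange (fun i => Nat.beq (actR48 i) i) 138546 387 = true := by decide +kernel
theorem c_act48_359 : allRange (fun i => Nat.beq (actR48 i) i) 138933 387 = true := by decide +kernel
theorem c_act48_360 : allRange (fun i => Nat.beq (actR48 i) i) 139320 387 = true := by decide +kernel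
theorem c_act48_361 : allRange (fun i => Nat.beq (actR48 i) i) 139707 387 = true := by decide +kernel
theorem c_act48_362 : allRange (fun i => Nat.beq (actR48 i) i) 140094 387 = true := by decide +kernel
theorem c_act48_363 : allRange (fun i => Nat.beq (actR48 i) i) 140481 387 = true := by decide +kernel
theorem c_act48_364 : allRange (fun i => Nat.beq (actR48 i) i) 140868 387 = true := by decide +kernel
theorem c_act48_365 : allRange (fun i => Nat.beq (actR48 i) i) 141255 387 = true := by decide +kernel
theorem c_act48_366 : allRange (fun i => Nat.beq (actR48 i) i) 141642 387 = true := by decide +kernel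
theorem c_act48_367 : allRange (fun i => Nat.beq (actR48 i) i) 142029 387 = true := by decide +kernel
theorem c_act48_368 : allRange (fun i => Nat.beq (actR48 i) i) 142416 387 = true := by decide +kernel
theorem c_act48_369 : allRange (fun i => Nat.beq (actR48 i) i) 142803 387 = true := by decide +kernel
theorem c_act48_370 : allRange (fun i => Nat.beq (actR48 i) i) 143190 387 = true := by decide +kernel
theorem c_act48_371 : allRange (fun i => Nat.beq (actR48 i) i) 143577 387 = true := by decide +kernel
theorem c_act48_372 : allRange (fun i => Nat.beq (actR48 i) i) 143964 387 = true := by decide +kernel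
theorem c_act48_373 : allRange (fun i => Nat.beq (actR48 i) i) 144351 387 = true := by decide +kernel
theorem c_act48_374 : allRange (fun i => Nat.beq (actR48 i) i) 144738 387 = true := by decide +kernel
theorem c_act48_375 : allRange (fun i => Nat.beq (actR48 i) i) 145125 387 = true := by decide +kernel
theorem c_act48_376 : allRange (fun i => Nat.beq (actR48 i) i) 145512 387 = true := by decide +kernel
theorem c_act48_377 : allRange (fun i => Nat.beq (actR48 i) i) 145899 387 = true := by decide +kernel
theorem c_act48_378 : allRange (fun i => Nat.beq (actR48 i) i) 146286 387 = true := by decide +kernel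
theorem c_act48_379 : allRange (fun i => Nat.beq (actR48 i) i) 146673 387 = true := by decide +kernel
theorem c_act48_380 : allRange (fun i => Nat.beq (actR48 i) i) 147060 387 = true := by decide +kernel
theorem c_act48_381 : allRange (fun i => Nat.beq (actR48 i) i) 147447 387 = true := by decide +kernel
theorem c_act48_382 : allRange (fun i => Nat.beq (actR48 i) i) 147834 387 = true := by decide +kernel
theorem c_act48_383 : allRange (fun i => Nat.beq (actR48 i) i) 148221 387 = true := by decide +kernel
theorem c_act48_384 : allRange (fun i => Nat.beq (actR48 i) i) 148608 387 = true := by decide +kernel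
theorem c_act48_385 : allRange (fun i => Nat.beq (actR48 i) i) 148995 387 = true := by decide +kernel
theorem c_act48_386 : allRange (fun i => Nat.beq (actR48 i) i) 149382 387 = true := by decide +kernel
theorem c_act48_387 : allRange (fun i => Nat.beq (actR48 i) i) 149769 387 = true := by decide +kernel
theorem c_act48_388 : allRange (fun i => Nat.beq (actR48 i) i) 150156 387 = true := by decide +kernel
theorem c_act48_389 : allRange (fun i => Nat.beq (actR48 i) i) 150543 387 = true := by decide +kernel
theorem c_act48_390 : allRange (fun i => Nat.beq (actR48 i) i) 150930 387 = true := by decide +kernel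
theorem c_act48_391 : allRange (fun i => Nat.beq (actR48 i) i) 151317 387 = true := by decide +kernel
theorem c_act48_392 : allRange (fun i => Nat.beq (actR48 i) i) 151704 387 = true := by decide +kernel
theorem c_act48_393 : allRange (fun i => Nat.beq (actR48 i) i) 152091 387 = true := by decide +kernel
theorem c_act48_394 : allRange (fun i => Nat.beq (actR48 i) i) 152478 387 = true := by decide +kernel
theorem c_act48_395 : allRange (fun i => Nat.beq (actR48 i) i) 152865 387 = true := by decide +kernel
theorem c_act48_396 : allRange (fun i => Nat.beq (actR48 i) i) 153252 387 = true := by decide +kernel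
theorem c_act48_397 : allRange (fun i => Nat.beq (actR48 i) i) 153639 387 = true := by decide +kernel
theorem c_act48_398 : allRange (fun i => Nat.beq (actR48 i) i) 154026 387 = true := by decide +kernel
theorem c_act48_399 : allRange (fun i => Nat.beq (actR48 i) i) 154413 387 = true := by decide +kernel
theorem c_act48_400 : allRange (fun i => Nat.beq (actR48 i) i) 154800 387 = true := by decide +kernel
theorem c_act48_401 : allRange (fun i => Nat.beq (actR48 i) i) 155187 387 = true := by decide +kernel
theorem c_act48_402 : allRange (fun i => Nat.beq (actR48 i) i) 155574 387 = true := by decide +kernel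
theorem c_act48_403 : allRange (fun i => Nat.beq (actR48 i) i) 155961 387 = true := by decide +kernel
theorem c_act48_404 : allRange (fun i => Nat.beq (actR48 i) i) 156348 387 = true := by decide +kernel
theorem c_act48_405 : allRange (fun i => Nat.beq (actR48 i) i) 156735 387 = true := by decide +kernel
theorem c_act48_406 : allRange (fun i => Nat.beq (actR48 i) i) 157122 387 = true := by decide +kernel
theorem c_act48_407 : allRange (fun i => Nat.beq (actR48 i) i) 157509 387 = true := by decide +kernel
theorem c_act48_408 : allRange (fun i => Nat.beq (actR48 i) i) 157896 387 = true := by decide +kernel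
theorem c_act48_409 : allRange (fun i => Nat.beq (actR48 i) i) 158283 387 = true := by decide +kernel
theorem c_act48_410 : allRange (fun i => Nat.beq (actR48 i) i) 158670 387 = true := by decide +kernel
theorem c_act48_411 : allRange (fun i => Nat.beq (actR48 i) i) 159057 387 = true := by decide +kernel
theorem c_act48_412 : allRange (fun i => Nat.beq (actR48 i) i) 159444 387 = true := by decide +kernel
theorem c_act48_413 : allRange (fun i => Nat.beq (actR48 i) i) 159831 387 = true := by decide +kernel

end Cfsg.Agent.Lib.Helper4.TCD.C3Fi22yR
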