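import Cfsg.Agent.Lib.Helper4.TCD_C3Fi22yR_Acc

namespace Cfsg.Agent.Lib.Helper4.TCD.C3Fi22yR

open Cfsg.Agent.Lib.Helper4.TC

set_option maxRecDepth 100000
set_option Elab.async false

theorem c_act48_414 : allRange (fun i => Nat.beq (actR48 i) i) 160218 387 = true := by decide +kernel
theorem c_act48_415 : allRange (fun i => Nat.beq (actR48 i) i) 160605 387 = true := by decide +kernel
theorem c_act48_416 : allRange (fun i => Nat.beq (actR48 i) i) 160992 387 = true := by decide +kernel
theorem c_act48_417 : allRange (fun i => Nat.beq (actR48 i) i) 161379 387 = true := by decide +kernel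
theorem c_act48_418 : allRange (fun i => Nat.beq (actR48 i) i) 161766 387 = true := by decide +kernel
theorem c_act48_419 : allRange (fun i => Nat.beq (actR48 i) i) 162153 387 = true := by decide +kernel
theorem c_act48_420 : allRange (fun i => Nat.beq (actR48 i) i) 162540 387 = true := by decide +kernel
theorem c_act48_421 : allRange (fun i => Nat.beq (actR48 i) i) 162927 387 = true := by decide +kernel
theorem c_act48_422 : allRange (fun i => Nat.beq (actR48 i) i) 163314 387 = true := by decide +kernel
theorem c_act48_423 : allRange (fun i => Nat.beq (actR48 i) i) 163701 387 = true := by decide +kernel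
theorem c_act48_424 : allRange (fun i => Nat.beq (actR48 i) i) 164088 387 = true := by decide +kernel
theorem c_act48_425 : allRange (fun i => Nat.beq (actR48 i) i) 164475 387 = true := by decide +kernel
theorem c_act48_426 : allRange (fun i => Nat.beq (actR48 i) i) 164862 387 = true := by decide +kernel
theorem c_act48_427 : allRange (fun i => Nat.beq (actR48 i) i) 165249 387 = true := by decide +kernel
theorem c_act48_428 : allRange (fun i => Nat.beq (actR48 i) i) 165636 387 = true := by decide +kernel
theorem c_act48_429 : allRange (fun i => Nat.beq (actR48 i) i) 166023 387 = true := by decide +kernel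
theorem c_act48_430 : allRange (fun i => Nat.beq (actR48 i) i) 166410 387 = true := by decide +kernel
theorem c_act48_431 : allRange (fun i => Nat.beq (actR48 i) i) 166797 387 = true := by decide +kernel
theorem c_act48_432 : allRange (fun i => Nat.beq (actR48 i) i) 167184 387 = true := by decide +kernel
theorem c_act48_433 : allRange (fun i => Nat.beq (actR48 i) i) 167571 387 = true := by decide +kernel
theorem c_act48_434 : allRange (fun i => Nat.beq (actR48 i) i) 167958 387 = true := by decide +kernel
theorem c_act48_435 : allRange (fun i => Nat.beq (actR48 i) i) 168345 387 = true := by decide +kernel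
theorem c_act48_436 : allRange (fun i => Nat.beq (actR48 i) i) 168732 387 = true := by decide +kernel
theorem c_act48_437 : allRange (fun i => Nat.beq (actR48 i) i) 169119 387 = true := by decide +kernel
theorem c_act48_438 : allRange (fun i => Nat.beq (actR48 i) i) 169506 387 = true := by decide +kernel
theorem c_act48_439 : allRange (fun i => Nat.beq (actR48 i) i) 169893 387 = true := by decide +kernel
theorem c_act48_440 : allRange (fun i => Nat.beq (actR48 i) i) 170280 387 = true := by decide +kernel
theorem c_act48_441 : allRange (fun i => Nat.beq (actR48 i) i) 170667 387 = true := by decide +kernel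
theorem c_act48_442 : allRange (fun i => Nat.beq (actR48 i) i) 171054 387 = true := by decide +kernel
theorem c_act48_443 : allRange (fun i => Nat.beq (actR48 i) i) 171441 387 = true := by decide +kernel
theorem c_act48_444 : allRange (fun i => Nat.beq (actR48 i) i) 171828 387 = true := by decide +kernel
theorem c_act48_445 : allRange (fun i => Nat.beq (actR48 i) i) 172215 387 = true := by decide +kernel
theorem c_act48_446 : allRange (fun i => Nat.beq (actR48 i) i) 172602 387 = true := by decide +kernel
theorem c_act48_447 : allRange (fun i => Nat.beq (actR48 i) i) 172989 387 = true := by decide +kernel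
theorem c_act48_448 : allRange (fun i => Nat.beq (actR48 i) i) 173376 387 = true := by decide +kernel
theorem c_act48_449 : allRange (fun i => Nat.beq (actR48 i) i) 173763 387 = true := by decide +kernel
theorem c_act48_450 : allRange (fun i => Nat.beq (actR48 i) i) 174150 387 = true := by decide +kernel
theorem c_act48_451 : allRange (fun i => Nat.beq (actR48 i) i) 174537 387 = true := by decide +kernel
theorem c_act48_452 : allRange (fun i => Nat.beq (actR48 i) i) 174924 387 = true := by decide +kernel
theorem c_act48_453 : allRange (fun i => Nat.beq (actR48 i) i) 175311 387 = true := by decide +kernel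
theorem c_act48_454 : allRange (fun i => Nat.beq (actR48 i) i) 175698 387 = true := by decide +kernel
theorem c_act48_455 : allRange (fun i => Nat.beq (actR48 i) i) 176085 387 = true := by decide +kernel
theorem c_act48_456 : allRange (fun i => Nat.beq (actR48 i) i) 176472 387 = true := by decide +kernel
theorem c_act48_457 : allRange (fun i => Nat.beq (actR48 i) i) 176859 387 = true := by decide +kernel
theorem c_act48_458 : allRange (fun i => Nat.beq (actR48 i) i) 177246 387 = true := by decide +kernel
theorem c_act48_459 : allRange (fun i => Nat.beq (actR48 i) i) 177633 387 = true := by decide +kernel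
theorem c_act48_460 : allRange (fun i => Nat.beq (actR48 i) i) 178020 387 = true := by decide +kernel
theorem c_act48_461 : allRange (fun i => Nat.beq (actR48 i) i) 178407 387 = true := by decide +kernel
theorem c_act48_462 : allRange (fun i => Nat.beq (actR48 i) i) 178794 387 = true := by decide +kernel
theorem c_act48_463 : allRange (fun i => Nat.beq (actR48 i) i) 179181 387 = true := by decide +kernel
theorem c_act48_464 : allRange (fun i => Nat.beq (actR48 i) i) 179568 387 = true := by decide +kernel
theorem c_act48_465 : allRange (fun i => Nat.beq (actR48 i) i) 179955 387 = true := by decide +kernel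
theorem c_act48_466 : allRange (fun i => Nat.beq (actR48 i) i) 180342 387 = true := by decide +kernel
theorem c_act48_467 : allRange (fun i => Nat.beq (actR48 i) i) 180729 387 = true := by decide +kernel
theorem c_act48_468 : allRange (fun i => Nat.beq (actR48 i) i) 181116 387 = true := by decide +kernel
theorem c_act48_469 : allRange (fun i => Nat.beq (actR48 i) i) 181503 387 = true := by decide +kernel
theorem c_act48_470 : allRange (fun i => Nat.beq (actR48 i) i) 181890 387 = true := by decide +kernel
theorem c_act48_471 : allRange (fun i => Nat.beq (actR48 i) i) 182277 387 = true := by decide +kernel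
theorem c_act48_472 : allRange (fun i => Nat.beq (actR48 i) i) 182664 387 = true := by decide +kernel
theorem c_act48_473 : allRange (fun i => Nat.beq (actR48 i) i) 183051 387 = true := by decide +kernel
theorem c_act48_474 : allRange (fun i => Nat.beq (actR48 i) i) 183438 387 = true := by decide +kernel
theorem c_act48_475 : allRange (fun i => Nat.beq (actR48 i) i) 183825 387 = true := by decide +kernel
theorem c_act48_476 : allRange (fun i => Nat.beq (actR48 i) i) 184212 387 = true := by decide +kernel
theorem c_act48_477 : allRange (fun i => Nat.beq (actR48 i) i) 184599 387 = true := by decide +kernel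
theorem c_act48_478 : allRange (fun i => Nat.beq (actR48 i) i) 184986 342 = true := by decide +kernel
theorem c_act49_0 : allRange (fun i => Nat.beq (actR49 i) i) 0 517 = true := by decide +kernel
theorem c_act49_1 : allRange (fun i => Nat.beq (actR49 i) i) 517 517 = true := by decide +kernel
theorem c_act49_2 : allRange (fun i => Nat.beq (actR49 i) i) 1034 517 = true := by decide +kernel
theorem c_act49_3 : allRange (fun i => Nat.beq (actR49 i) i) 1551 517 = true := by decide +kernel
theorem c_act49_4 : allRange (fun i => Nat.beq (actR49 i) i) 2068 517 = true := by decide +kernel
theorem c_act49_5 : allRange (fun i => Nat.beq (actR49 i) i) 2585 517 = true := by decide +kernel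
theorem c_act49_6 : allRange (fun i => Nat.beq (actR49 i) i) 3102 517 = true := by decide +kernel
theorem c_act49_7 : allRange (fun i => Nat.beq (actR49 i) i) 3619 517 = true := by decide +kernel
theorem c_act49_8 : allRange (fun i => Nat.beq (actR49 i) i) 4136 517 = true := by decide +kernel
theorem c_act49_9 : allRange (fun i => Nat.beq (actR49 i) i) 4653 517 = true := by decide +kernel
theorem c_act49_10 : allRange (fun i => Nat.beq (actR49 i) i) 5170 517 = true := by decide +kernel
theorem c_act49_11 : allRange (fun i => Nat.beq (actR49 i) i) 5687 517 = true := by decide +kernel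
theorem c_act49_12 : allRange (fun i => Nat.beq (actR49 i) i) 6204 517 = true := by decide +kernel
theorem c_act49_13 : allRange (fun i => Nat.beq (actR49 i) i) 6721 517 = true := by decide +kernel
theorem c_act49_14 : allRange (fun i => Nat.beq (actR49 i) i) 7238 517 = true := by decide +kernel
theorem c_act49_15 : allRange (fun i => Nat.beq (actR49 i) i) 7755 517 = true := by decide +kernel
theorem c_act49_16 : allRange (fun i => Nat.beq (actR49 i) i) 8272 517 = true := by decide +kernel
theorem c_act49_17 : allRange (fun i => Nat.beq (actR49 i) i) 8789 517 = true := by decide +kernel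
theorem c_act49_18 : allRange (fun i => Nat.beq (actR49 i) i) 9306 517 = true := by decide +kernel
theorem c_act49_19 : allRange (fun i => Nat.beq (actR49 i) i) 9823 517 = true := by decide +kernel
theorem c_act49_20 : allRange (fun i => Nat.beq (actR49 i) i) 10340 517 = true := by decide +kernel
theorem c_act49_21 : allRange (fun i => Nat.beq (actR49 i) i) 10857 517 = true := by decide +kernel
theorem c_act49_22 : allRange (fun i => Nat.beq (actR49 i) i) 11374 517 = true := by decide +kernel
theorem c_act49_23 : allRange (fun i => Nat.beq (actR49 i) i) 11891 517 = true := by decide +kernel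
theorem c_act49_24 : allRange (fun i => Nat.beq (actR49 i) i) 12408 517 = true := by decide +kernel
theorem c_act49_25 : allRange (fun i => Nat.beq (actR49 i) i) 12925 517 = true := by decide +kernel
theorem c_act49_26 : allRange (fun i => Nat.beq (actR49 i) i) 13442 517 = true := by decide +kernel
theorem c_act49_27 : allRange (fun i => Nat.beq (actR49 i) i) 13959 517 = true := by decide +kernel
theorem c_act49_28 : allRange (fun i => Nat.beq (actR49 i) i) 14476 517 = true := by decide +kernel
theorem c_act49_29 : allRange (fun i => Nat.beq (actR49 i) i) 14993 517 = true := by decide +kernel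
theorem c_act49_30 : allRange (fun i => Nat.beq (actR49 i) i) 15510 517 = true := by decide +kernel
theorem c_act49_31 : allRange (fun i => Nat.beq (actR49 i) i) 16027 517 = true := by decide +kernel
theorem c_act49_32 : allRange (fun i => Nat.beq (actR49 i) i) 16544 517 = true := by decide +kernel
theorem c_act49_33 : allRange (fun i => Nat.beq (actR49 i) i) 17061 517 = true := by decide +kernel
theorem c_act49_34 : allRange (fun i => Nat.beq (actR49 i) i) 17578 517 = true := by decide +kernel

end Cfsg.Agent.Lib.Helper4.TCD.C3Fi22yR
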