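import Cfsg.Agent.Lib.Helper4.TCD_C3Fi22yR_Acc

namespace Cfsg.Agent.Lib.Helper4.TCD.C3Fi22yR

open Cfsg.Agent.Lib.Helper4.TC

set_option maxRecDepth 100000
set_option Elab.async false

theorem c_act49_35 : allRange (fun i => Nat.beq (actR49 i) i) 18095 517 = true := by decide +kernel
theorem c_act49_36 : allRange (fun i => Nat.beq (actR49 i) i) 18612 517 = true := by decide +kernel
theorem c_act49_37 : allRange (fun i => Nat.beq (actR49 i) i) 19129 517 = true := by decide +kernel
theorem c_act49_38 : allRange (fun i => Nat.beq (actR49 i) i) 19646 517 = true := by decide +kernel
theorem c_act49_39 : allRange (fun i => Nat.beq (actR49 i) i) 20163 517 = true := by decide +kernel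
theorem c_act49_40 : allRange (fun i => Nat.beq (actR49 i) i) 20680 517 = true := by decide +kernel
theorem c_act49_41 : allRange (fun i => Nat.beq (actR49 i) i) 21197 517 = true := by decide +kernel
theorem c_act49_42 : allRange (fun i => Nat.beq (actR49 i) i) 21714 517 = true := by decide +kernel
theorem c_act49_43 : allRange (fun i => Nat.beq (actR49 i) i) 22231 517 = true := by decide +kernel
theorem c_act49_44 : allRange (fun i => Nat.beq (actR49 i) i) 22748 517 = true := by decide +kernel
theorem c_act49_45 : allRange (fun i => Nat.beq (actR49 i) i) 23265 517 = true := by decide +kernel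
theorem c_act49_46 : allRange (fun i => Nat.beq (actR49 i) i) 23782 517 = true := by decide +kernel
theorem c_act49_47 : allRange (fun i => Nat.beq (actR49 i) i) 24299 517 = true := by decide +kernel
theorem c_act49_48 : allRange (fun i => Nat.beq (actR49 i) i) 24816 517 = true := by decide +kernel
theorem c_act49_49 : allRange (fun i => Nat.beq (actR49 i) i) 25333 517 = true := by decide +kernel
theorem c_act49_50 : allRange (fun i => Nat.beq (actR49 i) i) 25850 517 = true := by decide +kernel
theorem c_act49_51 : allRange (fun i => Nat.beq (actR49 i) i) 26367 517 = true := by decide +kernel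
theorem c_act49_52 : allRange (fun i => Nat.beq (actR49 i) i) 26884 517 = true := by decide +kernel
theorem c_act49_53 : allRange (fun i => Nat.beq (actR49 i) i) 27401 517 = true := by decide +kernel
theorem c_act49_54 : allRange (fun i => Nat.beq (actR49 i) i) 27918 517 = true := by decide +kernel
theorem c_act49_55 : allRange (fun i => Nat.beq (actR49 i) i) 28435 517 = true := by decide +kernel
theorem c_act49_56 : allRange (fun i => Nat.beq (actR49 i) i) 28952 517 = true := by decide +kernel
theorem c_act49_57 : allRange (fun i => Nat.beq (actR49 i) i) 29469 517 = true := by decide +kernel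
theorem c_act49_58 : allRange (fun i => Nat.beq (actR49 i) i) 29986 517 = true := by decide +kernel
theorem c_act49_59 : allRange (fun i => Nat.beq (actR49 i) i) 30503 517 = true := by decide +kernel
theorem c_act49_60 : allRange (fun i => Nat.beq (actR49 i) i) 31020 517 = true := by decide +kernel
theorem c_act49_61 : allRange (fun i => Nat.beq (actR49 i) i) 31537 517 = true := by decide +kernel
theorem c_act49_62 : allRange (fun i => Nat.beq (actR49 i) i) 32054 517 = true := by decide +kernel
theorem c_act49_63 : allRange (fun i => Nat.beq (actR49 i) i) 32571 517 = true := by decide +kernel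
theorem c_act49_64 : allRange (fun i => Nat.beq (actR49 i) i) 33088 517 = true := by decide +kernel
theorem c_act49_65 : allRange (fun i => Nat.beq (actR49 i) i) 33605 517 = true := by decide +kernel
theorem c_act49_66 : allRange (fun i => Nat.beq (actR49 i) i) 34122 517 = true := by decide +kernel
theorem c_act49_67 : allRange (fun i => Nat.beq (actR49 i) i) 34639 517 = true := by decide +kernel
theorem c_act49_68 : allRange (fun i => Nat.beq (actR49 i) i) 35156 517 = true := by decide +kernel
theorem c_act49_69 : allRange (fun i => Nat.beq (actR49 i) i) 35673 517 = true := by decide +kernel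
theorem c_act49_70 : allRange (fun i => Nat.beq (actR49 i) i) 36190 517 = true := by decide +kernel
theorem c_act49_71 : allRange (fun i => Nat.beq (actR49 i) i) 36707 517 = true := by decide +kernel
theorem c_act49_72 : allRange (fun i => Nat.beq (actR49 i) i) 37224 517 = true := by decide +kernel
theorem c_act49_73 : allRange (fun i => Nat.beq (actR49 i) i) 37741 517 = true := by decide +kernel
theorem c_act49_74 : allRange (fun i => Nat.beq (actR49 i) i) 38258 517 = true := by decide +kernel
theorem c_act49_75 : allRange (fun i => Nat.beq (actR49 i) i) 38775 517 = true := by decide +kernel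
theorem c_act49_76 : allRange (fun i => Nat.beq (actR49 i) i) 39292 517 = true := by decide +kernel
theorem c_act49_77 : allRange (fun i => Nat.beq (actR49 i) i) 39809 517 = true := by decide +kernel
theorem c_act49_78 : allRange (fun i => Nat.beq (actR49 i) i) 40326 517 = true := by decide +kernel
theorem c_act49_79 : allRange (fun i => Nat.beq (actR49 i) i) 40843 517 = true := by decide +kernel
theorem c_act49_80 : allRange (fun i => Nat.beq (actR49 i) i) 41360 517 = true := by decide +kernel
theorem c_act49_81 : allRange (fun i => Nat.beq (actR49 i) i) 41877 517 = true := by decide +kernel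
theorem c_act49_82 : allRange (fun i => Nat.beq (actR49 i) i) 42394 517 = true := by decide +kernel
theorem c_act49_83 : allRange (fun i => Nat.beq (actR49 i) i) 42911 517 = true := by decide +kernel
theorem c_act49_84 : allRange (fun i => Nat.beq (actR49 i) i) 43428 517 = true := by decide +kernel
theorem c_act49_85 : allRange (fun i => Nat.beq (actR49 i) i) 43945 517 = true := by decide +kernel
theorem c_act49_86 : allRange (fun i => Nat.beq (actR49 i) i) 44462 517 = true := by decide +kernel
theorem c_act49_87 : allRange (fun i => Nat.beq (actR49 i) i) 44979 517 = true := by decide +kernel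
theorem c_act49_88 : allRange (fun i => Nat.beq (actR49 i) i) 45496 517 = true := by decide +kernel
theorem c_act49_89 : allRange (fun i => Nat.beq (actR49 i) i) 46013 517 = true := by decide +kernel
theorem c_act49_90 : allRange (fun i => Nat.beq (actR49 i) i) 46530 517 = true := by decide +kernel
theorem c_act49_91 : allRange (fun i => Nat.beq (actR49 i) i) 47047 517 = true := by decide +kernel
theorem c_act49_92 : allRange (fun i => Nat.beq (actR49 i) i) 47564 517 = true := by decide +kernel
theorem c_act49_93 : allRange (fun i => Nat.beq (actR49 i) i) 48081 517 = true := by decide +kernel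
theorem c_act49_94 : allRange (fun i => Nat.beq (actR49 i) i) 48598 517 = true := by decide +kernel
theorem c_act49_95 : allRange (fun i => Nat.beq (actR49 i) i) 49115 517 = true := by decide +kernel
theorem c_act49_96 : allRange (fun i => Nat.beq (actR49 i) i) 49632 517 = true := by decide +kernel
theorem c_act49_97 : allRange (fun i => Nat.beq (actR49 i) i) 50149 517 = true := by decide +kernel
theorem c_act49_98 : allRange (fun i => Nat.beq (actR49 i) i) 50666 517 = true := by decide +kernel
theorem c_act49_99 : allRange (fun i => Nat.beq (actR49 i) i) 51183 517 = true := by decide +kernel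
theorem c_act49_100 : allRange (fun i => Nat.beq (actR49 i) i) 51700 517 = true := by decide +kernel
theorem c_act49_101 : allRange (fun i => Nat.beq (actR49 i) i) 52217 517 = true := by decide +kernel
theorem c_act49_102 : allRange (fun i => Nat.beq (actR49 i) i) 52734 517 = true := by decide +kernel
theorem c_act49_103 : allRange (fun i => Nat.beq (actR49 i) i) 53251 517 = true := by decide +kernel
theorem c_act49_104 : allRange (fun i => Nat.beq (actR49 i) i) 53768 517 = true := by decide +kernel
theorem c_act49_105 : allRange (fun i => Nat.beq (actR49 i) i) 54285 517 = true := by decide +kernel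
theorem c_act49_106 : allRange (fun i => Nat.beq (actR49 i) i) 54802 517 = true := by decide +kernel
theorem c_act49_107 : allRange (fun i => Nat.beq (actR49 i) i) 55319 517 = true := by decide +kernel
theorem c_act49_108 : allRange (fun i => Nat.beq (actR49 i) i) 55836 517 = true := by decide +kernel
theorem c_act49_109 : allRange (fun i => Nat.beq (actR49 i) i) 56353 517 = true := by decide +kernel
theorem c_act49_110 : allRange (fun i => Nat.beq (actR49 i) i) 56870 517 = true := by decide +kernel
theorem c_act49_111 : allRange (fun i => Nat.beq (actR49 i) i) 57387 517 = true := by decide +kernel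
theorem c_act49_112 : allRange (fun i => Nat.beq (actR49 i) i) 57904 517 = true := by decide +kernel
theorem c_act49_113 : allRange (fun i => Nat.beq (actR49 i) i) 58421 517 = true := by decide +kernel
theorem c_act49_114 : allRange (fun i => Nat.beq (actR49 i) i) 58938 517 = true := by decide +kernel
theorem c_act49_115 : allRange (fun i => Nat.beq (actR49 i) i) 59455 517 = true := by decide +kernel
theorem c_act49_116 : allRange (fun i => Nat.beq (actR49 i) i) 59972 517 = true := by decide +kernel
theorem c_act49_117 : allRange (fun i => Nat.beq (actR49 i) i) 60489 517 = true := by decide +kernel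
theorem c_act49_118 : allRange (fun i => Nat.beq (actR49 i) i) 61006 517 = true := by decide +kernel
theorem c_act49_119 : allRange (fun i => Nat.beq (actR49 i) i) 61523 517 = true := by decide +kernel
theorem c_act49_120 : allRange (fun i => Nat.beq (actR49 i) i) 62040 517 = true := by decide +kernel
theorem c_act49_121 : allRange (fun i => Nat.beq (actR49 i) i) 62557 517 = true := by decide +kernel
theorem c_act49_122 : allRange (fun i => Nat.beq (actR49 i) i) 63074 517 = true := by decide +kernel
theorem c_act49_123 : allRange (fun i => Nat.beq (actR49 i) i) 63591 517 = true := by decide +kernel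
theorem c_act49_124 : allRange (fun i => Nat.beq (actR49 i) i) 64108 517 = true := by decide +kernel
theorem c_act49_125 : allRange (fun i => Nat.beq (actR49 i) i) 64625 517 = true := by decide +kernel
theorem c_act49_126 : allRange (fun i => Nat.beq (actR49 i) i) 65142 517 = true := by decide +kernel
theorem c_act49_127 : allRange (fun i => Nat.beq (actR49 i) i) 65659 517 = true := by decide +kernel
theorem c_act49_128 : allRange (fun i => Nat.beq (actR49 i) i) 66176 517 = true := by decide +kernel
theorem c_act49_129 : allRange (fun i => Nat.beq (actR49 i) i) 66693 517 = true := by decide +kernel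
theorem c_act49_130 : allRange (fun i => Nat.beq (actR49 i) i) 67210 517 = true := by decide +kernel
theorem c_act49_131 : allRange (fun i => Nat.beq (actR49 i) i) 67727 517 = true := by decide +kernel
theorem c_act49_132 : allRange (fun i => Nat.beq (actR49 i) i) 68244 517 = true := by decide +kernel
theorem c_act49_133 : allRange (fun i => Nat.beq (actR49 i) i) 68761 517 = true := by decide +kernel
theorem c_act49_134 : allRange (fun i => Nat.beq (actR49 i) i) 69278 517 = true := by decide +kernel

end Cfsg.Agent.Lib.Helper4.TCD.C3Fi22yR
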