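import Cfsg.Agent.Lib.Helper4.TCD_C3Fi22yR_Acc

namespace Cfsg.Agent.Lib.Helper4.TCD.C3Fi22yR

open Cfsg.Agent.Lib.Helper4.TC

set_option maxRecDepth 100000
set_option Elab.async false

theorem c_act3_2 : allRange (fun i => Nat.beq (actR3 i) i) 30000 15000 = true := by decide +kernel
theorem c_act3_3 : allRange (fun i => Nat.beq (actR3 i) i) 45000 15000 = true := by decide +kernel
theorem c_act3_4 : allRange (fun i => Nat.beq (actR3 i) i) 60000 15000 = true := by decide +kernel
theorem c_act3_5 : allRange (fun i => Nat.beq (actR3 i) i) 75000 15000 = true := by decide +kernel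
theorem c_act3_6 : allRange (fun i => Nat.beq (actR3 i) i) 90000 15000 = true := by decide +kernel
theorem c_act3_7 : allRange (fun i => Nat.beq (actR3 i) i) 105000 15000 = true := by decide +kernel
theorem c_act3_8 : allRange (fun i => Nat.beq (actR3 i) i) 120000 15000 = true := by decide +kernel
theorem c_act3_9 : allRange (fun i => Nat.beq (actR3 i) i) 135000 15000 = true := by decide +kernel
theorem c_act3_10 : allRange (fun i => Nat.beq (actR3 i) i) 150000 15000 = true := by decide +kernel
theorem c_act3_11 : allRange (fun i => Nat.beq (actR3 i) i) 165000 15000 = true := by decide +kernel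
theorem c_act3_12 : allRange (fun i => Nat.beq (actR3 i) i) 180000 5328 = true := by decide +kernel
theorem c_act4_0 : allRange (fun i => Nat.beq (actR4 i) i) 0 15000 = true := by decide +kernel
theorem c_act4_1 : allRange (fun i => Nat.beq (actR4 i) i) 15000 15000 = true := by decide +kernel
theorem c_act4_2 : allRange (fun i => Nat.beq (actR4 i) i) 30000 15000 = true := by decide +kernel
theorem c_act4_3 : allRange (fun i => Nat.beq (actR4 i) i) 45000 15000 = true := by decide +kernel
theorem c_act4_4 : allRange (fun i => Nat.beq (actR4 i) i) 60000 15000 = true := by decide +kernel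
theorem c_act4_5 : allRange (fun i => Nat.beq (actR4 i) i) 75000 15000 = true := by decide +kernel
theorem c_act4_6 : allRange (fun i => Nat.beq (actR4 i) i) 90000 15000 = true := by decide +kernel
theorem c_act4_7 : allRange (fun i => Nat.beq (actR4 i) i) 105000 15000 = true := by decide +kernel
theorem c_act4_8 : allRange (fun i => Nat.beq (actR4 i) i) 120000 15000 = true := by decide +kernel
theorem c_act4_9 : allRange (fun i => Nat.beq (actR4 i) i) 135000 15000 = true := by decide +kernel
theorem c_act4_10 : allRange (fun i => Nat.beq (actR4 i) i) 150000 15000 = true := by decide +kernel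
theorem c_act4_11 : allRange (fun i => Nat.beq (actR4 i) i) 165000 15000 = true := by decide +kernel
theorem c_act4_12 : allRange (fun i => Nat.beq (actR4 i) i) 180000 5328 = true := by decide +kernel
theorem c_act5_0 : allRange (fun i => Nat.beq (actR5 i) i) 0 15000 = true := by decide +kernel
theorem c_act5_1 : allRange (fun i => Nat.beq (actR5 i) i) 15000 15000 = true := by decide +kernel
theorem c_act5_2 : allRange (fun i => Nat.beq (actR5 i) i) 30000 15000 = true := by decide +kernel
theorem c_act5_3 : allRange (fun i => Nat.beq (actR5 i) i) 45000 15000 = true := by decide +kernel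
theorem c_act5_4 : allRange (fun i => Nat.beq (actR5 i) i) 60000 15000 = true := by decide +kernel
theorem c_act5_5 : allRange (fun i => Nat.beq (actR5 i) i) 75000 15000 = true := by decide +kernel
theorem c_act5_6 : allRange (fun i => Nat.beq (actR5 i) i) 90000 15000 = true := by decide +kernel
theorem c_act5_7 : allRange (fun i => Nat.beq (actR5 i) i) 105000 15000 = true := by decide +kernel
theorem c_act5_8 : allRange (fun i => Nat.beq (actR5 i) i) 120000 15000 = true := by decide +kernel
theorem c_act5_9 : allRange (fun i => Nat.beq (actR5 i) i) 135000 15000 = true := by decide +kernel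
theorem c_act5_10 : allRange (fun i => Nat.beq (actR5 i) i) 150000 15000 = true := by decide +kernel
theorem c_act5_11 : allRange (fun i => Nat.beq (actR5 i) i) 165000 15000 = true := by decide +kernel
theorem c_act5_12 : allRange (fun i => Nat.beq (actR5 i) i) 180000 5328 = true := by decide +kernel
theorem c_act6_0 : allRange (fun i => Nat.beq (actR6 i) i) 0 15000 = true := by decide +kernel
theorem c_act6_1 : allRange (fun i => Nat.beq (actR6 i) i) 15000 15000 = true := by decide +kernel
theorem c_act6_2 : allRange (fun i => Nat.beq (actR6 i) i) 30000 15000 = true := by decide +kernel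
theorem c_act6_3 : allRange (fun i => Nat.beq (actR6 i) i) 45000 15000 = true := by decide +kernel
theorem c_act6_4 : allRange (fun i => Nat.beq (actR6 i) i) 60000 15000 = true := by decide +kernel
theorem c_act6_5 : allRange (fun i => Nat.beq (actR6 i) i) 75000 15000 = true := by decide +kernel
theorem c_act6_6 : allRange (fun i => Nat.beq (actR6 i) i) 90000 15000 = true := by decide +kernel
theorem c_act6_7 : allRange (fun i => Nat.beq (actR6 i) i) 105000 15000 = true := by decide +kernel
theorem c_act6_8 : allRange (fun i => Nat.beq (actR6 i) i) 120000 15000 = true := by decide +kernel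
theorem c_act6_9 : allRange (fun i => Nat.beq (actR6 i) i) 135000 15000 = true := by decide +kernel
theorem c_act6_10 : allRange (fun i => Nat.beq (actR6 i) i) 150000 15000 = true := by decide +kernel
theorem c_act6_11 : allRange (fun i => Nat.beq (actR6 i) i) 165000 15000 = true := by decide +kernel
theorem c_act6_12 : allRange (fun i => Nat.beq (actR6 i) i) 180000 5328 = true := by decide +kernel
theorem c_act7_0 : allRange (fun i => Nat.beq (actR7 i) i) 0 15000 = true := by decide +kernel
theorem c_act7_1 : allRange (fun i => Nat.beq (actR7 i) i) 15000 15000 = true := by decide +kernel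
theorem c_act7_2 : allRange (fun i => Nat.beq (actR7 i) i) 30000 15000 = true := by decide +kernel
theorem c_act7_3 : allRange (fun i => Nat.beq (actR7 i) i) 45000 15000 = true := by decide +kernel
theorem c_act7_4 : allRange (fun i => Nat.beq (actR7 i) i) 60000 15000 = true := by decide +kernel
theorem c_act7_5 : allRange (fun i => Nat.beq (actR7 i) i) 75000 15000 = true := by decide +kernel
theorem c_act7_6 : allRange (fun i => Nat.beq (actR7 i) i) 90000 15000 = true := by decide +kernel
theorem c_act7_7 : allRange (fun i => Nat.beq (actR7 i) i) 105000 15000 = true := by decide +kernel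
theorem c_act7_8 : allRange (fun i => Nat.beq (actR7 i) i) 120000 15000 = true := by decide +kernel
theorem c_act7_9 : allRange (fun i => Nat.beq (actR7 i) i) 135000 15000 = true := by decide +kernel
theorem c_act7_10 : allRange (fun i => Nat.beq (actR7 i) i) 150000 15000 = true := by decide +kernel
theorem c_act7_11 : allRange (fun i => Nat.beq (actR7 i) i) 165000 15000 = true := by decide +kernel
theorem c_act7_12 : allRange (fun i => Nat.beq (actR7 i) i) 180000 5328 = true := by decide +kernel
theorem c_act8_0 : allRange (fun i => Nat.beq (actR8 i) i) 0 15000 = true := by decide +kernel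
theorem c_act8_1 : allRange (fun i => Nat.beq (actR8 i) i) 15000 15000 = true := by decide +kernel
theorem c_act8_2 : allRange (fun i => Nat.beq (actR8 i) i) 30000 15000 = true := by decide +kernel
theorem c_act8_3 : allRange (fun i => Nat.beq (actR8 i) i) 45000 15000 = true := by decide +kernel
theorem c_act8_4 : allRange (fun i => Nat.beq (actR8 i) i) 60000 15000 = true := by decide +kernel
theorem c_act8_5 : allRange (fun i => Nat.beq (actR8 i) i) 75000 15000 = true := by decide +kernel
theorem c_act8_6 : allRange (fun i => Nat.beq (actR8 i) i) 90000 15000 = true := by decide +kernel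
theorem c_act8_7 : allRange (fun i => Nat.beq (actR8 i) i) 105000 15000 = true := by decide +kernel
theorem c_act8_8 : allRange (fun i => Nat.beq (actR8 i) i) 120000 15000 = true := by decide +kernel
theorem c_act8_9 : allRange (fun i => Nat.beq (actR8 i) i) 135000 15000 = true := by decide +kernel
theorem c_act8_10 : allRange (fun i => Nat.beq (actR8 i) i) 150000 15000 = true := by decide +kernel
theorem c_act8_11 : allRange (fun i => Nat.beq (actR8 i) i) 165000 15000 = true := by decide +kernel
theorem c_act8_12 : allRange (fun i => Nat.beq (actR8 i) i) 180000 5328 = true := by decide +kernel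
theorem c_act9_0 : allRange (fun i => Nat.beq (actR9 i) i) 0 30000 = true := by decide +kernel
theorem c_act9_1 : allRange (fun i => Nat.beq (actR9 i) i) 30000 30000 = true := by decide +kernel
theorem c_act9_2 : allRange (fun i => Nat.beq (actR9 i) i) 60000 30000 = true := by decide +kernel
theorem c_act9_3 : allRange (fun i => Nat.beq (actR9 i) i) 90000 30000 = true := by decide +kernel
theorem c_act9_4 : allRange (fun i => Nat.beq (actR9 i) i) 120000 30000 = true := by decide +kernel
theorem c_act9_5 : allRange (fun i => Nat.beq (actR9 i) i) 150000 30000 = true := by decide +kernel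
theorem c_act9_6 : allRange (fun i => Nat.beq (actR9 i) i) 180000 5328 = true := by decide +kernel
theorem c_act10_0 : allRange (fun i => Nat.beq (actR10 i) i) 0 10000 = true := by decide +kernel
theorem c_act10_1 : allRange (fun i => Nat.beq (actR10 i) i) 10000 10000 = true := by decide +kernel
theorem c_act10_2 : allRange (fun i => Nat.beq (actR10 i) i) 20000 10000 = true := by decide +kernel
theorem c_act10_3 : allRange (fun i => Nat.beq (actR10 i) i) 30000 10000 = true := by decide +kernel
theorem c_act10_4 : allRange (fun i => Nat.beq (actR10 i) i) 40000 10000 = true := by decide +kernel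
theorem c_act10_5 : allRange (fun i => Nat.beq (actR10 i) i) 50000 10000 = true := by decide +kernel
theorem c_act10_6 : allRange (fun i => Nat.beq (actR10 i) i) 60000 10000 = true := by decide +kernel
theorem c_act10_7 : allRange (fun i => Nat.beq (actR10 i) i) 70000 10000 = true := by decide +kernel
theorem c_act10_8 : allRange (fun i => Nat.beq (actR10 i) i) 80000 10000 = true := by decide +kernel
theorem c_act10_9 : allRange (fun i => Nat.beq (actR10 i) i) 90000 10000 = true := by decide +kernel
theorem c_act10_10 : allRange (fun i => Nat.beq (actR10 i) i) 100000 10000 = true := by decide +kernel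
theorem c_act10_11 : allRange (fun i => Nat.beq (actR10 i) i) 110000 10000 = true := by decide +kernel
theorem c_act10_12 : allRange (fun i => Nat.beq (actR10 i) i) 120000 10000 = true := by decide +kernel
theorem c_act10_13 : allRange (fun i => Nat.beq (actR10 i) i) 130000 10000 = true := by decide +kernel
theorem c_act10_14 : allRange (fun i => Nat.beq (actR10 i) i) 140000 10000 = true := by decide +kernel
theorem c_act10_15 : allRange (fun i => Nat.beq (actR10 i) i) 150000 10000 = true := by decide +kernel
theorem c_act10_16 : allRange (fun i => Nat.beq (actR10 i) i) 160000 10000 = true := by decide +kernel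
theorem c_act10_17 : allRange (fun i => Nat.beq (actR10 i) i) 170000 10000 = true := by decide +kernel
theorem c_act10_18 : allRange (fun i => Nat.beq (actR10 i) i) 180000 5328 = true := by decide +kernel
theorem c_act11_0 : allRange (fun i => Nat.beq (actR11 i) i) 0 15000 = true := by decide +kernel
theorem c_act11_1 : allRange (fun i => Nat.beq (actR11 i) i) 15000 15000 = true := by decide +kernel
theorem c_act11_2 : allRange (fun i => Nat.beq (actR11 i) i) 30000 15000 = true := by decide +kernel

end Cfsg.Agent.Lib.Helper4.TCD.C3Fi22yR
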