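import Cfsg.Agent.Lib.Helper4.TCD_C3Fi22yR_Acc

namespace Cfsg.Agent.Lib.Helper4.TCD.C3Fi22yR

open Cfsg.Agent.Lib.Helper4.TC

set_option maxRecDepth 100000
set_option Elab.async false

theorem c_act49_135 : allRange (fun i => Nat.beq (actR49 i) i) 69795 517 = true := by decide +kernel
theorem c_act49_136 : allRange (fun i => Nat.beq (actR49 i) i) 70312 517 = true := by decide +kernel
theorem c_act49_137 : allRange (fun i => Nat.beq (actR49 i) i) 70829 517 = true := by decide +kernel
theorem c_act49_138 : allRange (fun i => Nat.beq (actR49 i) i) 71346 517 = true := by decide +kernel
theorem c_act49_139 : allRange (fun i => Nat.beq (actR49 i) i) 71863 517 = true := by decide +kernel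
theorem c_act49_140 : allRange (fun i => Nat.beq (actR49 i) i) 72380 517 = true := by decide +kernel
theorem c_act49_141 : allRange (fun i => Nat.beq (actR49 i) i) 72897 517 = true := by decide +kernel
theorem c_act49_142 : allRange (fun i => Nat.beq (actR49 i) i) 73414 517 = true := by decide +kernel
theorem c_act49_143 : allRange (fun i => Nat.beq (actR49 i) i) 73931 517 = true := by decide +kernel
theorem c_act49_144 : allRange (fun i => Nat.beq (actR49 i) i) 74448 517 = true := by decide +kernel
theorem c_act49_145 : allRange (fun i => Nat.beq (actR49 i) i) 74965 517 = true := by decide +kernel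
theorem c_act49_146 : allRange (fun i => Nat.beq (actR49 i) i) 75482 517 = true := by decide +kernel
theorem c_act49_147 : allRange (fun i => Nat.beq (actR49 i) i) 75999 517 = true := by decide +kernel
theorem c_act49_148 : allRange (fun i => Nat.beq (actR49 i) i) 76516 517 = true := by decide +kernel
theorem c_act49_149 : allRange (fun i => Nat.beq (actR49 i) i) 77033 517 = true := by decide +kernel
theorem c_act49_150 : allRange (fun i => Nat.beq (actR49 i) i) 77550 517 = true := by decide +kernel
theorem c_act49_151 : allRange (fun i => Nat.beq (actR49 i) i) 78067 517 = true := by decide +kernel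
theorem c_act49_152 : allRange (fun i => Nat.beq (actR49 i) i) 78584 517 = true := by decide +kernel
theorem c_act49_153 : allRange (fun i => Nat.beq (actR49 i) i) 79101 517 = true := by decide +kernel
theorem c_act49_154 : allRange (fun i => Nat.beq (actR49 i) i) 79618 517 = true := by decide +kernel
theorem c_act49_155 : allRange (fun i => Nat.beq (actR49 i) i) 80135 517 = true := by decide +kernel
theorem c_act49_156 : allRange (fun i => Nat.beq (actR49 i) i) 80652 517 = true := by decide +kernel
theorem c_act49_157 : allRange (fun i => Nat.beq (actR49 i) i) 81169 517 = true := by decide +kernel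
theorem c_act49_158 : allRange (fun i => Nat.beq (actR49 i) i) 81686 517 = true := by decide +kernel
theorem c_act49_159 : allRange (fun i => Nat.beq (actR49 i) i) 82203 517 = true := by decide +kernel
theorem c_act49_160 : allRange (fun i => Nat.beq (actR49 i) i) 82720 517 = true := by decide +kernel
theorem c_act49_161 : allRange (fun i => Nat.beq (actR49 i) i) 83237 517 = true := by decide +kernel
theorem c_act49_162 : allRange (fun i => Nat.beq (actR49 i) i) 83754 517 = true := by decide +kernel
theorem c_act49_163 : allRange (fun i => Nat.beq (actR49 i) i) 84271 517 = true := by decide +kernel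
theorem c_act49_164 : allRange (fun i => Nat.beq (actR49 i) i) 84788 517 = true := by decide +kernel
theorem c_act49_165 : allRange (fun i => Nat.beq (actR49 i) i) 85305 517 = true := by decide +kernel
theorem c_act49_166 : allRange (fun i => Nat.beq (actR49 i) i) 85822 517 = true := by decide +kernel
theorem c_act49_167 : allRange (fun i => Nat.beq (actR49 i) i) 86339 517 = true := by decide +kernel
theorem c_act49_168 : allRange (fun i => Nat.beq (actR49 i) i) 86856 517 = true := by decide +kernel
theorem c_act49_169 : allRange (fun i => Nat.beq (actR49 i) i) 87373 517 = true := by decide +kernel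
theorem c_act49_170 : allRange (fun i => Nat.beq (actR49 i) i) 87890 517 = true := by decide +kernel
theorem c_act49_171 : allRange (fun i => Nat.beq (actR49 i) i) 88407 517 = true := by decide +kernel
theorem c_act49_172 : allRange (fun i => Nat.beq (actR49 i) i) 88924 517 = true := by decide +kernel
theorem c_act49_173 : allRange (fun i => Nat.beq (actR49 i) i) 89441 517 = true := by decide +kernel
theorem c_act49_174 : allRange (fun i => Nat.beq (actR49 i) i) 89958 517 = true := by decide +kernel
theorem c_act49_175 : allRange (fun i => Nat.beq (actR49 i) i) 90475 517 = true := by decide +kernel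
theorem c_act49_176 : allRange (fun i => Nat.beq (actR49 i) i) 90992 517 = true := by decide +kernel
theorem c_act49_177 : allRange (fun i => Nat.beq (actR49 i) i) 91509 517 = true := by decide +kernel
theorem c_act49_178 : allRange (fun i => Nat.beq (actR49 i) i) 92026 517 = true := by decide +kernel
theorem c_act49_179 : allRange (fun i => Nat.beq (actR49 i) i) 92543 517 = true := by decide +kernel
theorem c_act49_180 : allRange (fun i => Nat.beq (actR49 i) i) 93060 517 = true := by decide +kernel
theorem c_act49_181 : allRange (fun i => Nat.beq (actR49 i) i) 93577 517 = true := by decide +kernel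
theorem c_act49_182 : allRange (fun i => Nat.beq (actR49 i) i) 94094 517 = true := by decide +kernel
theorem c_act49_183 : allRange (fun i => Nat.beq (actR49 i) i) 94611 517 = true := by decide +kernel
theorem c_act49_184 : allRange (fun i => Nat.beq (actR49 i) i) 95128 517 = true := by decide +kernel
theorem c_act49_185 : allRange (fun i => Nat.beq (actR49 i) i) 95645 517 = true := by decide +kernel
theorem c_act49_186 : allRange (fun i => Nat.beq (actR49 i) i) 96162 517 = true := by decide +kernel
theorem c_act49_187 : allRange (fun i => Nat.beq (actR49 i) i) 96679 517 = true := by decide +kernel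
theorem c_act49_188 : allRange (fun i => Nat.beq (actR49 i) i) 97196 517 = true := by decide +kernel
theorem c_act49_189 : allRange (fun i => Nat.beq (actR49 i) i) 97713 517 = true := by decide +kernel
theorem c_act49_190 : allRange (fun i => Nat.beq (actR49 i) i) 98230 517 = true := by decide +kernel
theorem c_act49_191 : allRange (fun i => Nat.beq (actR49 i) i) 98747 517 = true := by decide +kernel
theorem c_act49_192 : allRange (fun i => Nat.beq (actR49 i) i) 99264 517 = true := by decide +kernel
theorem c_act49_193 : allRange (fun i => Nat.beq (actR49 i) i) 99781 517 = true := by decide +kernel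
theorem c_act49_194 : allRange (fun i => Nat.beq (actR49 i) i) 100298 517 = true := by decide +kernel
theorem c_act49_195 : allRange (fun i => Nat.beq (actR49 i) i) 100815 517 = true := by decide +kernel
theorem c_act49_196 : allRange (fun i => Nat.beq (actR49 i) i) 101332 517 = true := by decide +kernel
theorem c_act49_197 : allRange (fun i => Nat.beq (actR49 i) i) 101849 517 = true := by decide +kernel
theorem c_act49_198 : allRange (fun i => Nat.beq (actR49 i) i) 102366 517 = true := by decide +kernel
theorem c_act49_199 : allRange (fun i => Nat.beq (actR49 i) i) 102883 517 = true := by decide +kernel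
theorem c_act49_200 : allRange (fun i => Nat.beq (actR49 i) i) 103400 517 = true := by decide +kernel
theorem c_act49_201 : allRange (fun i => Nat.beq (actR49 i) i) 103917 517 = true := by decide +kernel
theorem c_act49_202 : allRange (fun i => Nat.beq (actR49 i) i) 104434 517 = true := by decide +kernel
theorem c_act49_203 : allRange (fun i => Nat.beq (actR49 i) i) 104951 517 = true := by decide +kernel
theorem c_act49_204 : allRange (fun i => Nat.beq (actR49 i) i) 105468 517 = true := by decide +kernel
theorem c_act49_205 : allRange (fun i => Nat.beq (actR49 i) i) 105985 517 = true := by decide +kernel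
theorem c_act49_206 : allRange (fun i => Nat.beq (actR49 i) i) 106502 517 = true := by decide +kernel
theorem c_act49_207 : allRange (fun i => Nat.beq (actR49 i) i) 107019 517 = true := by decide +kernel
theorem c_act49_208 : allRange (fun i => Nat.beq (actR49 i) i) 107536 517 = true := by decide +kernel
theorem c_act49_209 : allRange (fun i => Nat.beq (actR49 i) i) 108053 517 = true := by decide +kernel
theorem c_act49_210 : allRange (fun i => Nat.beq (actR49 i) i) 108570 517 = true := by decide +kernel
theorem c_act49_211 : allRange (fun i => Nat.beq (actR49 i) i) 109087 517 = true := by decide +kernel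
theorem c_act49_212 : allRange (fun i => Nat.beq (actR49 i) i) 109604 517 = true := by decide +kernel
theorem c_act49_213 : allRange (fun i => Nat.beq (actR49 i) i) 110121 517 = true := by decide +kernel
theorem c_act49_214 : allRange (fun i => Nat.beq (actR49 i) i) 110638 517 = true := by decide +kernel
theorem c_act49_215 : allRange (fun i => Nat.beq (actR49 i) i) 111155 517 = true := by decide +kernel
theorem c_act49_216 : allRange (fun i => Nat.beq (actR49 i) i) 111672 517 = true := by decide +kernel
theorem c_act49_217 : allRange (fun i => Nat.beq (actR49 i) i) 112189 517 = true := by decide +kernel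
theorem c_act49_218 : allRange (fun i => Nat.beq (actR49 i) i) 112706 517 = true := by decide +kernel
theorem c_act49_219 : allRange (fun i => Nat.beq (actR49 i) i) 113223 517 = true := by decide +kernel
theorem c_act49_220 : allRange (fun i => Nat.beq (actR49 i) i) 113740 517 = true := by decide +kernel
theorem c_act49_221 : allRange (fun i => Nat.beq (actR49 i) i) 114257 517 = true := by decide +kernel
theorem c_act49_222 : allRange (fun i => Nat.beq (actR49 i) i) 114774 517 = true := by decide +kernel
theorem c_act49_223 : allRange (fun i => Nat.beq (actR49 i) i) 115291 517 = true := by decide +kernel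
theorem c_act49_224 : allRange (fun i => Nat.beq (actR49 i) i) 115808 517 = true := by decide +kernel
theorem c_act49_225 : allRange (fun i => Nat.beq (actR49 i) i) 116325 517 = true := by decide +kernel
theorem c_act49_226 : allRange (fun i => Nat.beq (actR49 i) i) 116842 517 = true := by decide +kernel
theorem c_act49_227 : allRange (fun i => Nat.beq (actR49 i) i) 117359 517 = true := by decide +kernel
theorem c_act49_228 : allRange (fun i => Nat.beq (actR49 i) i) 117876 517 = true := by decide +kernel
theorem c_act49_229 : allRange (fun i => Nat.beq (actR49 i) i) 118393 517 = true := by decide +kernel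
theorem c_act49_230 : allRange (fun i => Nat.beq (actR49 i) i) 118910 517 = true := by decide +kernel
theorem c_act49_231 : allRange (fun i => Nat.beq (actR49 i) i) 119427 517 = true := by decide +kernel
theorem c_act49_232 : allRange (fun i => Nat.beq (actR49 i) i) 119944 517 = true := by decide +kernel
theorem c_act49_233 : allRange (fun i => Nat.beq (actR49 i) i) 120461 517 = true := by decide +kernel
theorem c_act49_234 : allRange (fun i => Nat.beq (actR49 i) i) 120978 517 = true := by decide +kernel

end Cfsg.Agent.Lib.Helper4.TCD.C3Fi22yR
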