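import Cfsg.Agent.Lib.Helper4.TCD_C3Fi22yR_Acc

namespace Cfsg.Agent.Lib.Helper4.TCD.C3Fi22yR

open Cfsg.Agent.Lib.Helper4.TC

set_option maxRecDepth 100000
set_option Elab.async false

theorem c_act49_235 : allRange (fun i => Nat.beq (actR49 i) i) 121495 517 = true := by decide +kernel
theorem c_act49_236 : allRange (fun i => Nat.beq (actR49 i) i) 122012 517 = true := by decide +kernel
theorem c_act49_237 : allRange (fun i => Nat.beq (actR49 i) i) 122529 517 = true := by decide +kernel
theorem c_act49_238 : allRange (fun i => Nat.beq (actR49 i) i) 123046 517 = true := by decide +kernel
theorem c_act49_239 : allRange (fun i => Nat.beq (actR49 i) i) 123563 517 = true := by decide +kernel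
theorem c_act49_240 : allRange (fun i => Nat.beq (actR49 i) i) 124080 517 = true := by decide +kernel
theorem c_act49_241 : allRange (fun i => Nat.beq (actR49 i) i) 124597 517 = true := by decide +kernel
theorem c_act49_242 : allRange (fun i => Nat.beq (actR49 i) i) 125114 517 = true := by decide +kernel
theorem c_act49_243 : allRange (fun i => Nat.beq (actR49 i) i) 125631 517 = true := by decide +kernel
theorem c_act49_244 : allRange (fun i => Nat.beq (actR49 i) i) 126148 517 = true := by decide +kernel
theorem c_act49_245 : allRange (fun i => Nat.beq (actR49 i) i) 126665 517 = true := by decide +kernel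
theorem c_act49_246 : allRange (fun i => Nat.beq (actR49 i) i) 127182 517 = true := by decide +kernel
theorem c_act49_247 : allRange (fun i => Nat.beq (actR49 i) i) 127699 517 = true := by decide +kernel
theorem c_act49_248 : allRange (fun i => Nat.beq (actR49 i) i) 128216 517 = true := by decide +kernel
theorem c_act49_249 : allRange (fun i => Nat.beq (actR49 i) i) 128733 517 = true := by decide +kernel
theorem c_act49_250 : allRange (fun i => Nat.beq (actR49 i) i) 129250 517 = true := by decide +kernel
theorem c_act49_251 : allRange (fun i => Nat.beq (actR49 i) i) 129767 517 = true := by decide +kernel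
theorem c_act49_252 : allRange (fun i => Nat.beq (actR49 i) i) 130284 517 = true := by decide +kernel
theorem c_act49_253 : allRange (fun i => Nat.beq (actR49 i) i) 130801 517 = true := by decide +kernel
theorem c_act49_254 : allRange (fun i => Nat.beq (actR49 i) i) 131318 517 = true := by decide +kernel
theorem c_act49_255 : allRange (fun i => Nat.beq (actR49 i) i) 131835 517 = true := by decide +kernel
theorem c_act49_256 : allRange (fun i => Nat.beq (actR49 i) i) 132352 517 = true := by decide +kernel
theorem c_act49_257 : allRange (fun i => Nat.beq (actR49 i) i) 132869 517 = true := by decide +kernel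
theorem c_act49_258 : allRange (fun i => Nat.beq (actR49 i) i) 133386 517 = true := by decide +kernel
theorem c_act49_259 : allRange (fun i => Nat.beq (actR49 i) i) 133903 517 = true := by decide +kernel
theorem c_act49_260 : allRange (fun i => Nat.beq (actR49 i) i) 134420 517 = true := by decide +kernel
theorem c_act49_261 : allRange (fun i => Nat.beq (actR49 i) i) 134937 517 = true := by decide +kernel
theorem c_act49_262 : allRange (fun i => Nat.beq (actR49 i) i) 135454 517 = true := by decide +kernel
theorem c_act49_263 : allRange (fun i => Nat.beq (actR49 i) i) 135971 517 = true := by decide +kernel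
theorem c_act49_264 : allRange (fun i => Nat.beq (actR49 i) i) 136488 517 = true := by decide +kernel
theorem c_act49_265 : allRange (fun i => Nat.beq (actR49 i) i) 137005 517 = true := by decide +kernel
theorem c_act49_266 : allRange (fun i => Nat.beq (actR49 i) i) 137522 517 = true := by decide +kernel
theorem c_act49_267 : allRange (fun i => Nat.beq (actR49 i) i) 138039 517 = true := by decide +kernel
theorem c_act49_268 : allRange (fun i => Nat.beq (actR49 i) i) 138556 517 = true := by decide +kernel
theorem c_act49_269 : allRange (fun i => Nat.beq (actR49 i) i) 139073 517 = true := by decide +kernel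
theorem c_act49_270 : allRange (fun i => Nat.beq (actR49 i) i) 139590 517 = true := by decide +kernel
theorem c_act49_271 : allRange (fun i => Nat.beq (actR49 i) i) 140107 517 = true := by decide +kernel
theorem c_act49_272 : allRange (fun i => Nat.beq (actR49 i) i) 140624 517 = true := by decide +kernel
theorem c_act49_273 : allRange (fun i => Nat.beq (actR49 i) i) 141141 517 = true := by decide +kernel
theorem c_act49_274 : allRange (fun i => Nat.beq (actR49 i) i) 141658 517 = true := by decide +kernel
theorem c_act49_275 : allRange (fun i => Nat.beq (actR49 i) i) 142175 517 = true := by decide +kernel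
theorem c_act49_276 : allRange (fun i => Nat.beq (actR49 i) i) 142692 517 = true := by decide +kernel
theorem c_act49_277 : allRange (fun i => Nat.beq (actR49 i) i) 143209 517 = true := by decide +kernel
theorem c_act49_278 : allRange (fun i => Nat.beq (actR49 i) i) 143726 517 = true := by decide +kernel
theorem c_act49_279 : allRange (fun i => Nat.beq (actR49 i) i) 144243 517 = true := by decide +kernel
theorem c_act49_280 : allRange (fun i => Nat.beq (actR49 i) i) 144760 517 = true := by decide +kernel
theorem c_act49_281 : allRange (fun i => Nat.beq (actR49 i) i) 145277 517 = true := by decide +kernel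
theorem c_act49_282 : allRange (fun i => Nat.beq (actR49 i) i) 145794 517 = true := by decide +kernel
theorem c_act49_283 : allRange (fun i => Nat.beq (actR49 i) i) 146311 517 = true := by decide +kernel
theorem c_act49_284 : allRange (fun i => Nat.beq (actR49 i) i) 146828 517 = true := by decide +kernel
theorem c_act49_285 : allRange (fun i => Nat.beq (actR49 i) i) 147345 517 = true := by decide +kernel
theorem c_act49_286 : allRange (fun i => Nat.beq (actR49 i) i) 147862 517 = true := by decide +kernel
theorem c_act49_287 : allRange (fun i => Nat.beq (actR49 i) i) 148379 517 = true := by decide +kernel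
theorem c_act49_288 : allRange (fun i => Nat.beq (actR49 i) i) 148896 517 = true := by decide +kernel
theorem c_act49_289 : allRange (fun i => Nat.beq (actR49 i) i) 149413 517 = true := by decide +kernel
theorem c_act49_290 : allRange (fun i => Nat.beq (actR49 i) i) 149930 517 = true := by decide +kernel
theorem c_act49_291 : allRange (fun i => Nat.beq (actR49 i) i) 150447 517 = true := by decide +kernel
theorem c_act49_292 : allRange (fun i => Nat.beq (actR49 i) i) 150964 517 = true := by decide +kernel
theorem c_act49_293 : allRange (fun i => Nat.beq (actR49 i) i) 151481 517 = true := by decide +kernel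
theorem c_act49_294 : allRange (fun i => Nat.beq (actR49 i) i) 151998 517 = true := by decide +kernel
theorem c_act49_295 : allRange (fun i => Nat.beq (actR49 i) i) 152515 517 = true := by decide +kernel
theorem c_act49_296 : allRange (fun i => Nat.beq (actR49 i) i) 153032 517 = true := by decide +kernel
theorem c_act49_297 : allRange (fun i => Nat.beq (actR49 i) i) 153549 517 = true := by decide +kernel
theorem c_act49_298 : allRange (fun i => Nat.beq (actR49 i) i) 154066 517 = true := by decide +kernel
theorem c_act49_299 : allRange (fun i => Nat.beq (actR49 i) i) 154583 517 = true := by decide +kernel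
theorem c_act49_300 : allRange (fun i => Nat.beq (actR49 i) i) 155100 517 = true := by decide +kernel
theorem c_act49_301 : allRange (fun i => Nat.beq (actR49 i) i) 155617 517 = true := by decide +kernel
theorem c_act49_302 : allRange (fun i => Nat.beq (actR49 i) i) 156134 517 = true := by decide +kernel
theorem c_act49_303 : allRange (fun i => Nat.beq (actR49 i) i) 156651 517 = true := by decide +kernel
theorem c_act49_304 : allRange (fun i => Nat.beq (actR49 i) i) 157168 517 = true := by decide +kernel
theorem c_act49_305 : allRange (fun i => Nat.beq (actR49 i) i) 157685 517 = true := by decide +kernel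
theorem c_act49_306 : allRange (fun i => Nat.beq (actR49 i) i) 158202 517 = true := by decide +kernel
theorem c_act49_307 : allRange (fun i => Nat.beq (actR49 i) i) 158719 517 = true := by decide +kernel
theorem c_act49_308 : allRange (fun i => Nat.beq (actR49 i) i) 159236 517 = true := by decide +kernel
theorem c_act49_309 : allRange (fun i => Nat.beq (actR49 i) i) 159753 517 = true := by decide +kernel
theorem c_act49_310 : allRange (fun i => Nat.beq (actR49 i) i) 160270 517 = true := by decide +kernel
theorem c_act49_311 : allRange (fun i => Nat.beq (actR49 i) i) 160787 517 = true := by decide +kernel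
theorem c_act49_312 : allRange (fun i => Nat.beq (actR49 i) i) 161304 517 = true := by decide +kernel
theorem c_act49_313 : allRange (fun i => Nat.beq (actR49 i) i) 161821 517 = true := by decide +kernel
theorem c_act49_314 : allRange (fun i => Nat.beq (actR49 i) i) 162338 517 = true := by decide +kernel
theorem c_act49_315 : allRange (fun i => Nat.beq (actR49 i) i) 162855 517 = true := by decide +kernel
theorem c_act49_316 : allRange (fun i => Nat.beq (actR49 i) i) 163372 517 = true := by decide +kernel
theorem c_act49_317 : allRange (fun i => Nat.beq (actR49 i) i) 163889 517 = true := by decide +kernel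
theorem c_act49_318 : allRange (fun i => Nat.beq (actR49 i) i) 164406 517 = true := by decide +kernel
theorem c_act49_319 : allRange (fun i => Nat.beq (actR49 i) i) 164923 517 = true := by decide +kernel
theorem c_act49_320 : allRange (fun i => Nat.beq (actR49 i) i) 165440 517 = true := by decide +kernel
theorem c_act49_321 : allRange (fun i => Nat.beq (actR49 i) i) 165957 517 = true := by decide +kernel
theorem c_act49_322 : allRange (fun i => Nat.beq (actR49 i) i) 166474 517 = true := by decide +kernel
theorem c_act49_323 : allRange (fun i => Nat.beq (actR49 i) i) 166991 517 = true := by decide +kernel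
theorem c_act49_324 : allRange (fun i => Nat.beq (actR49 i) i) 167508 517 = true := by decide +kernel
theorem c_act49_325 : allRange (fun i => Nat.beq (actR49 i) i) 168025 517 = true := by decide +kernel
theorem c_act49_326 : allRange (fun i => Nat.beq (actR49 i) i) 168542 517 = true := by decide +kernel
theorem c_act49_327 : allRange (fun i => Nat.beq (actR49 i) i) 169059 517 = true := by decide +kernel
theorem c_act49_328 : allRange (fun i => Nat.beq (actR49 i) i) 169576 517 = true := by decide +kernel
theorem c_act49_329 : allRange (fun i => Nat.beq (actR49 i) i) 170093 517 = true := by decide +kernel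
theorem c_act49_330 : allRange (fun i => Nat.beq (actR49 i) i) 170610 517 = true := by decide +kernel
theorem c_act49_331 : allRange (fun i => Nat.beq (actR49 i) i) 171127 517 = true := by decide +kernel
theorem c_act49_332 : allRange (fun i => Nat.beq (actR49 i) i) 171644 517 = true := by decide +kernel
theorem c_act49_333 : allRange (fun i => Nat.beq (actR49 i) i) 172161 517 = true := by decide +kernel
theorem c_act49_334 : allRange (fun i => Nat.beq (actR49 i) i) 172678 517 = true := by decide +kernel

end Cfsg.Agent.Lib.Helper4.TCD.C3Fi22yR
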