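import Cfsg.Agent.Lib.Helper4.TCD_C3Fi22yR_Acc

namespace Cfsg.Agent.Lib.Helper4.TCD.C3Fi22yR

open Cfsg.Agent.Lib.Helper4.TC

set_option maxRecDepth 100000
set_option Elab.async false

theorem c_act49_335 : allRange (fun i => Nat.beq (actR49 i) i) 173195 517 = true := by decide +kernel
theorem c_act49_336 : allRange (fun i => Nat.beq (actR49 i) i) 173712 517 = true := by decide +kernel
theorem c_act49_337 : allRange (fun i => Nat.beq (actR49 i) i) 174229 517 = true := by decide +kernel
theorem c_act49_338 : allRange (fun i => Nat.beq (actR49 i) i) 174746 517 = true := by decide +kernel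
theorem c_act49_339 : allRange (fun i => Nat.beq (actR49 i) i) 175263 517 = true := by decide +kernel
theorem c_act49_340 : allRange (fun i => Nat.beq (actR49 i) i) 175780 517 = true := by decide +kernel
theorem c_act49_341 : allRange (fun i => Nat.beq (actR49 i) i) 176297 517 = true := by decide +kernel
theorem c_act49_342 : allRange (fun i => Nat.beq (actR49 i) i) 176814 517 = true := by decide +kernel
theorem c_act49_343 : allRange (fun i => Nat.beq (actR49 i) i) 177331 517 = true := by decide +kernel
theorem c_act49_344 : allRange (fun i => Nat.beq (actR49 i) i) 177848 517 = true := by decide +kernel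
theorem c_act49_345 : allRange (fun i => Nat.beq (actR49 i) i) 178365 517 = true := by decide +kernel
theorem c_act49_346 : allRange (fun i => Nat.beq (actR49 i) i) 178882 517 = true := by decide +kernel
theorem c_act49_347 : allRange (fun i => Nat.beq (actR49 i) i) 179399 517 = true := by decide +kernel
theorem c_act49_348 : allRange (fun i => Nat.beq (actR49 i) i) 179916 517 = true := by decide +kernel
theorem c_act49_349 : allRange (fun i => Nat.beq (actR49 i) i) 180433 517 = true := by decide +kernel
theorem c_act49_350 : allRange (fun i => Nat.beq (actR49 i) i) 180950 517 = true := by decide +kernel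
theorem c_act49_351 : allRange (fun i => Nat.beq (actR49 i) i) 181467 517 = true := by decide +kernel
theorem c_act49_352 : allRange (fun i => Nat.beq (actR49 i) i) 181984 517 = true := by decide +kernel
theorem c_act49_353 : allRange (fun i => Nat.beq (actR49 i) i) 182501 517 = true := by decide +kernel
theorem c_act49_354 : allRange (fun i => Nat.beq (actR49 i) i) 183018 517 = true := by decide +kernel
theorem c_act49_355 : allRange (fun i => Nat.beq (actR49 i) i) 183535 517 = true := by decide +kernel
theorem c_act49_356 : allRange (fun i => Nat.beq (actR49 i) i) 184052 517 = true := by decide +kernel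
theorem c_act49_357 : allRange (fun i => Nat.beq (actR49 i) i) 184569 517 = true := by decide +kernel
theorem c_act49_358 : allRange (fun i => Nat.beq (actR49 i) i) 185086 242 = true := by decide +kernel
theorem c_act50_0 : allRange (fun i => Nat.beq (actR50 i) i) 0 535 = true := by decide +kernel
theorem c_act50_1 : allRange (fun i => Nat.beq (actR50 i) i) 535 535 = true := by decide +kernel
theorem c_act50_2 : allRange (fun i => Nat.beq (actR50 i) i) 1070 535 = true := by decide +kernel
theorem c_act50_3 : allRange (fun i => Nat.beq (actR50 i) i) 1605 535 = true := by decide +kernel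
theorem c_act50_4 : allRange (fun i => Nat.beq (actR50 i) i) 2140 535 = true := by decide +kernel
theorem c_act50_5 : allRange (fun i => Nat.beq (actR50 i) i) 2675 535 = true := by decide +kernel
theorem c_act50_6 : allRange (fun i => Nat.beq (actR50 i) i) 3210 535 = true := by decide +kernel
theorem c_act50_7 : allRange (fun i => Nat.beq (actR50 i) i) 3745 535 = true := by decide +kernel
theorem c_act50_8 : allRange (fun i => Nat.beq (actR50 i) i) 4280 535 = true := by decide +kernel
theorem c_act50_9 : allRange (fun i => Nat.beq (actR50 i) i) 4815 535 = true := by decide +kernel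
theorem c_act50_10 : allRange (fun i => Nat.beq (actR50 i) i) 5350 535 = true := by decide +kernel
theorem c_act50_11 : allRange (fun i => Nat.beq (actR50 i) i) 5885 535 = true := by decide +kernel
theorem c_act50_12 : allRange (fun i => Nat.beq (actR50 i) i) 6420 535 = true := by decide +kernel
theorem c_act50_13 : allRange (fun i => Nat.beq (actR50 i) i) 6955 535 = true := by decide +kernel
theorem c_act50_14 : allRange (fun i => Nat.beq (actR50 i) i) 7490 535 = true := by decide +kernel
theorem c_act50_15 : allRange (fun i => Nat.beq (actR50 i) i) 8025 535 = true := by decide +kernel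
theorem c_act50_16 : allRange (fun i => Nat.beq (actR50 i) i) 8560 535 = true := by decide +kernel
theorem c_act50_17 : allRange (fun i => Nat.beq (actR50 i) i) 9095 535 = true := by decide +kernel
theorem c_act50_18 : allRange (fun i => Nat.beq (actR50 i) i) 9630 535 = true := by decide +kernel
theorem c_act50_19 : allRange (fun i => Nat.beq (actR50 i) i) 10165 535 = true := by decide +kernel
theorem c_act50_20 : allRange (fun i => Nat.beq (actR50 i) i) 10700 535 = true := by decide +kernel
theorem c_act50_21 : allRange (fun i => Nat.beq (actR50 i) i) 11235 535 = true := by decide +kernel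
theorem c_act50_22 : allRange (fun i => Nat.beq (actR50 i) i) 11770 535 = true := by decide +kernel
theorem c_act50_23 : allRange (fun i => Nat.beq (actR50 i) i) 12305 535 = true := by decide +kernel
theorem c_act50_24 : allRange (fun i => Nat.beq (actR50 i) i) 12840 535 = true := by decide +kernel
theorem c_act50_25 : allRange (fun i => Nat.beq (actR50 i) i) 13375 535 = true := by decide +kernel
theorem c_act50_26 : allRange (fun i => Nat.beq (actR50 i) i) 13910 535 = true := by decide +kernel
theorem c_act50_27 : allRange (fun i => Nat.beq (actR50 i) i) 14445 535 = true := by decide +kernel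
theorem c_act50_28 : allRange (fun i => Nat.beq (actR50 i) i) 14980 535 = true := by decide +kernel
theorem c_act50_29 : allRange (fun i => Nat.beq (actR50 i) i) 15515 535 = true := by decide +kernel
theorem c_act50_30 : allRange (fun i => Nat.beq (actR50 i) i) 16050 535 = true := by decide +kernel
theorem c_act50_31 : allRange (fun i => Nat.beq (actR50 i) i) 16585 535 = true := by decide +kernel
theorem c_act50_32 : allRange (fun i => Nat.beq (actR50 i) i) 17120 535 = true := by decide +kernel
theorem c_act50_33 : allRange (fun i => Nat.beq (actR50 i) i) 17655 535 = true := by decide +kernel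
theorem c_act50_34 : allRange (fun i => Nat.beq (actR50 i) i) 18190 535 = true := by decide +kernel
theorem c_act50_35 : allRange (fun i => Nat.beq (actR50 i) i) 18725 535 = true := by decide +kernel
theorem c_act50_36 : allRange (fun i => Nat.beq (actR50 i) i) 19260 535 = true := by decide +kernel
theorem c_act50_37 : allRange (fun i => Nat.beq (actR50 i) i) 19795 535 = true := by decide +kernel
theorem c_act50_38 : allRange (fun i => Nat.beq (actR50 i) i) 20330 535 = true := by decide +kernel
theorem c_act50_39 : allRange (fun i => Nat.beq (actR50 i) i) 20865 535 = true := by decide +kernel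
theorem c_act50_40 : allRange (fun i => Nat.beq (actR50 i) i) 21400 535 = true := by decide +kernel
theorem c_act50_41 : allRange (fun i => Nat.beq (actR50 i) i) 21935 535 = true := by decide +kernel
theorem c_act50_42 : allRange (fun i => Nat.beq (actR50 i) i) 22470 535 = true := by decide +kernel
theorem c_act50_43 : allRange (fun i => Nat.beq (actR50 i) i) 23005 535 = true := by decide +kernel
theorem c_act50_44 : allRange (fun i => Nat.beq (actR50 i) i) 23540 535 = true := by decide +kernel
theorem c_act50_45 : allRange (fun i => Nat.beq (actR50 i) i) 24075 535 = true := by decide +kernel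
theorem c_act50_46 : allRange (fun i => Nat.beq (actR50 i) i) 24610 535 = true := by decide +kernel
theorem c_act50_47 : allRange (fun i => Nat.beq (actR50 i) i) 25145 535 = true := by decide +kernel
theorem c_act50_48 : allRange (fun i => Nat.beq (actR50 i) i) 25680 535 = true := by decide +kernel
theorem c_act50_49 : allRange (fun i => Nat.beq (actR50 i) i) 26215 535 = true := by decide +kernel
theorem c_act50_50 : allRange (fun i => Nat.beq (actR50 i) i) 26750 535 = true := by decide +kernel
theorem c_act50_51 : allRange (fun i => Nat.beq (actR50 i) i) 27285 535 = true := by decide +kernel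
theorem c_act50_52 : allRange (fun i => Nat.beq (actR50 i) i) 27820 535 = true := by decide +kernel
theorem c_act50_53 : allRange (fun i => Nat.beq (actR50 i) i) 28355 535 = true := by decide +kernel
theorem c_act50_54 : allRange (fun i => Nat.beq (actR50 i) i) 28890 535 = true := by decide +kernel
theorem c_act50_55 : allRange (fun i => Nat.beq (actR50 i) i) 29425 535 = true := by decide +kernel
theorem c_act50_56 : allRange (fun i => Nat.beq (actR50 i) i) 29960 535 = true := by decide +kernel
theorem c_act50_57 : allRange (fun i => Nat.beq (actR50 i) i) 30495 535 = true := by decide +kernel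
theorem c_act50_58 : allRange (fun i => Nat.beq (actR50 i) i) 31030 535 = true := by decide +kernel
theorem c_act50_59 : allRange (fun i => Nat.beq (actR50 i) i) 31565 535 = true := by decide +kernel
theorem c_act50_60 : allRange (fun i => Nat.beq (actR50 i) i) 32100 535 = true := by decide +kernel
theorem c_act50_61 : allRange (fun i => Nat.beq (actR50 i) i) 32635 535 = true := by decide +kernel
theorem c_act50_62 : allRange (fun i => Nat.beq (actR50 i) i) 33170 535 = true := by decide +kernel
theorem c_act50_63 : allRange (fun i => Nat.beq (actR50 i) i) 33705 535 = true := by decide +kernel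
theorem c_act50_64 : allRange (fun i => Nat.beq (actR50 i) i) 34240 535 = true := by decide +kernel
theorem c_act50_65 : allRange (fun i => Nat.beq (actR50 i) i) 34775 535 = true := by decide +kernel
theorem c_act50_66 : allRange (fun i => Nat.beq (actR50 i) i) 35310 535 = true := by decide +kernel
theorem c_act50_67 : allRange (fun i => Nat.beq (actR50 i) i) 35845 535 = true := by decide +kernel
theorem c_act50_68 : allRange (fun i => Nat.beq (actR50 i) i) 36380 535 = true := by decide +kernel
theorem c_act50_69 : allRange (fun i => Nat.beq (actR50 i) i) 36915 535 = true := by decide +kernel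
theorem c_act50_70 : allRange (fun i => Nat.beq (actR50 i) i) 37450 535 = true := by decide +kernel
theorem c_act50_71 : allRange (fun i => Nat.beq (actR50 i) i) 37985 535 = true := by decide +kernel
theorem c_act50_72 : allRange (fun i => Nat.beq (actR50 i) i) 38520 535 = true := by decide +kernel
theorem c_act50_73 : allRange (fun i => Nat.beq (actR50 i) i) 39055 535 = true := by decide +kernel
theorem c_act50_74 : allRange (fun i => Nat.beq (actR50 i) i) 39590 535 = true := by decide +kernel
theorem c_act50_75 : allRange (fun i => Nat.beq (actR50 i) i) 40125 535 = true := by decide +kernel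

end Cfsg.Agent.Lib.Helper4.TCD.C3Fi22yR
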