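import Cfsg.Agent.Lib.Helper4.TCD_C3Fi22yR_Acc

namespace Cfsg.Agent.Lib.Helper4.TCD.C3Fi22yR

open Cfsg.Agent.Lib.Helper4.TC

set_option maxRecDepth 100000
set_option Elab.async false

theorem c_act50_76 : allRange (fun i => Nat.beq (actR50 i) i) 40660 535 = true := by decide +kernel
theorem c_act50_77 : allRange (fun i => Nat.beq (actR50 i) i) 41195 535 = true := by decide +kernel
theorem c_act50_78 : allRange (fun i => Nat.beq (actR50 i) i) 41730 535 = true := by decide +kernel
theorem c_act50_79 : allRange (fun i => Nat.beq (actR50 i) i) 42265 535 = true := by decide +kernel
theorem c_act50_80 : allRange (fun i => Nat.beq (actR50 i) i) 42800 535 = true := by decide +kernel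
theorem c_act50_81 : allRange (fun i => Nat.beq (actR50 i) i) 43335 535 = true := by decide +kernel
theorem c_act50_82 : allRange (fun i => Nat.beq (actR50 i) i) 43870 535 = true := by decide +kernel
theorem c_act50_83 : allRange (fun i => Nat.beq (actR50 i) i) 44405 535 = true := by decide +kernel
theorem c_act50_84 : allRange (fun i => Nat.beq (actR50 i) i) 44940 535 = true := by decide +kernel
theorem c_act50_85 : allRange (fun i => Nat.beq (actR50 i) i) 45475 535 = true := by decide +kernel
theorem c_act50_86 : allRange (fun i => Nat.beq (actR50 i) i) 46010 535 = true := by decide +kernel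
theorem c_act50_87 : allRange (fun i => Nat.beq (actR50 i) i) 46545 535 = true := by decide +kernel
theorem c_act50_88 : allRange (fun i => Nat.beq (actR50 i) i) 47080 535 = true := by decide +kernel
theorem c_act50_89 : allRange (fun i => Nat.beq (actR50 i) i) 47615 535 = true := by decide +kernel
theorem c_act50_90 : allRange (fun i => Nat.beq (actR50 i) i) 48150 535 = true := by decide +kernel
theorem c_act50_91 : allRange (fun i => Nat.beq (actR50 i) i) 48685 535 = true := by decide +kernel
theorem c_act50_92 : allRange (fun i => Nat.beq (actR50 i) i) 49220 535 = true := by decide +kernel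
theorem c_act50_93 : allRange (fun i => Nat.beq (actR50 i) i) 49755 535 = true := by decide +kernel
theorem c_act50_94 : allRange (fun i => Nat.beq (actR50 i) i) 50290 535 = true := by decide +kernel
theorem c_act50_95 : allRange (fun i => Nat.beq (actR50 i) i) 50825 535 = true := by decide +kernel
theorem c_act50_96 : allRange (fun i => Nat.beq (actR50 i) i) 51360 535 = true := by decide +kernel
theorem c_act50_97 : allRange (fun i => Nat.beq (actR50 i) i) 51895 535 = true := by decide +kernel
theorem c_act50_98 : allRange (fun i => Nat.beq (actR50 i) i) 52430 535 = true := by decide +kernel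
theorem c_act50_99 : allRange (fun i => Nat.beq (actR50 i) i) 52965 535 = true := by decide +kernel
theorem c_act50_100 : allRange (fun i => Nat.beq (actR50 i) i) 53500 535 = true := by decide +kernel
theorem c_act50_101 : allRange (fun i => Nat.beq (actR50 i) i) 54035 535 = true := by decide +kernel
theorem c_act50_102 : allRange (fun i => Nat.beq (actR50 i) i) 54570 535 = true := by decide +kernel
theorem c_act50_103 : allRange (fun i => Nat.beq (actR50 i) i) 55105 535 = true := by decide +kernel
theorem c_act50_104 : allRange (fun i => Nat.beq (actR50 i) i) 55640 535 = true := by decide +kernel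
theorem c_act50_105 : allRange (fun i => Nat.beq (actR50 i) i) 56175 535 = true := by decide +kernel
theorem c_act50_106 : allRange (fun i => Nat.beq (actR50 i) i) 56710 535 = true := by decide +kernel
theorem c_act50_107 : allRange (fun i => Nat.beq (actR50 i) i) 57245 535 = true := by decide +kernel
theorem c_act50_108 : allRange (fun i => Nat.beq (actR50 i) i) 57780 535 = true := by decide +kernel
theorem c_act50_109 : allRange (fun i => Nat.beq (actR50 i) i) 58315 535 = true := by decide +kernel
theorem c_act50_110 : allRange (fun i => Nat.beq (actR50 i) i) 58850 535 = true := by decide +kernel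
theorem c_act50_111 : allRange (fun i => Nat.beq (actR50 i) i) 59385 535 = true := by decide +kernel
theorem c_act50_112 : allRange (fun i => Nat.beq (actR50 i) i) 59920 535 = true := by decide +kernel
theorem c_act50_113 : allRange (fun i => Nat.beq (actR50 i) i) 60455 535 = true := by decide +kernel
theorem c_act50_114 : allRange (fun i => Nat.beq (actR50 i) i) 60990 535 = true := by decide +kernel
theorem c_act50_115 : allRange (fun i => Nat.beq (actR50 i) i) 61525 535 = true := by decide +kernel
theorem c_act50_116 : allRange (fun i => Nat.beq (actR50 i) i) 62060 535 = true := by decide +kernel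
theorem c_act50_117 : allRange (fun i => Nat.beq (actR50 i) i) 62595 535 = true := by decide +kernel
theorem c_act50_118 : allRange (fun i => Nat.beq (actR50 i) i) 63130 535 = true := by decide +kernel
theorem c_act50_119 : allRange (fun i => Nat.beq (actR50 i) i) 63665 535 = true := by decide +kernel
theorem c_act50_120 : allRange (fun i => Nat.beq (actR50 i) i) 64200 535 = true := by decide +kernel
theorem c_act50_121 : allRange (fun i => Nat.beq (actR50 i) i) 64735 535 = true := by decide +kernel
theorem c_act50_122 : allRange (fun i => Nat.beq (actR50 i) i) 65270 535 = true := by decide +kernel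
theorem c_act50_123 : allRange (fun i => Nat.beq (actR50 i) i) 65805 535 = true := by decide +kernel
theorem c_act50_124 : allRange (fun i => Nat.beq (actR50 i) i) 66340 535 = true := by decide +kernel
theorem c_act50_125 : allRange (fun i => Nat.beq (actR50 i) i) 66875 535 = true := by decide +kernel
theorem c_act50_126 : allRange (fun i => Nat.beq (actR50 i) i) 67410 535 = true := by decide +kernel
theorem c_act50_127 : allRange (fun i => Nat.beq (actR50 i) i) 67945 535 = true := by decide +kernel
theorem c_act50_128 : allRange (fun i => Nat.beq (actR50 i) i) 68480 535 = true := by decide +kernel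
theorem c_act50_129 : allRange (fun i => Nat.beq (actR50 i) i) 69015 535 = true := by decide +kernel
theorem c_act50_130 : allRange (fun i => Nat.beq (actR50 i) i) 69550 535 = true := by decide +kernel
theorem c_act50_131 : allRange (fun i => Nat.beq (actR50 i) i) 70085 535 = true := by decide +kernel
theorem c_act50_132 : allRange (fun i => Nat.beq (actR50 i) i) 70620 535 = true := by decide +kernel
theorem c_act50_133 : allRange (fun i => Nat.beq (actR50 i) i) 71155 535 = true := by decide +kernel
theorem c_act50_134 : allRange (fun i => Nat.beq (actR50 i) i) 71690 535 = true := by decide +kernel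
theorem c_act50_135 : allRange (fun i => Nat.beq (actR50 i) i) 72225 535 = true := by decide +kernel
theorem c_act50_136 : allRange (fun i => Nat.beq (actR50 i) i) 72760 535 = true := by decide +kernel
theorem c_act50_137 : allRange (fun i => Nat.beq (actR50 i) i) 73295 535 = true := by decide +kernel
theorem c_act50_138 : allRange (fun i => Nat.beq (actR50 i) i) 73830 535 = true := by decide +kernel
theorem c_act50_139 : allRange (fun i => Nat.beq (actR50 i) i) 74365 535 = true := by decide +kernel
theorem c_act50_140 : allRange (fun i => Nat.beq (actR50 i) i) 74900 535 = true := by decide +kernel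
theorem c_act50_141 : allRange (fun i => Nat.beq (actR50 i) i) 75435 535 = true := by decide +kernel
theorem c_act50_142 : allRange (fun i => Nat.beq (actR50 i) i) 75970 535 = true := by decide +kernel
theorem c_act50_143 : allRange (fun i => Nat.beq (actR50 i) i) 76505 535 = true := by decide +kernel
theorem c_act50_144 : allRange (fun i => Nat.beq (actR50 i) i) 77040 535 = true := by decide +kernel
theorem c_act50_145 : allRange (fun i => Nat.beq (actR50 i) i) 77575 535 = true := by decide +kernel
theorem c_act50_146 : allRange (fun i => Nat.beq (actR50 i) i) 78110 535 = true := by decide +kernel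
theorem c_act50_147 : allRange (fun i => Nat.beq (actR50 i) i) 78645 535 = true := by decide +kernel
theorem c_act50_148 : allRange (fun i => Nat.beq (actR50 i) i) 79180 535 = true := by decide +kernel
theorem c_act50_149 : allRange (fun i => Nat.beq (actR50 i) i) 79715 535 = true := by decide +kernel
theorem c_act50_150 : allRange (fun i => Nat.beq (actR50 i) i) 80250 535 = true := by decide +kernel
theorem c_act50_151 : allRange (fun i => Nat.beq (actR50 i) i) 80785 535 = true := by decide +kernel
theorem c_act50_152 : allRange (fun i => Nat.beq (actR50 i) i) 81320 535 = true := by decide +kernel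
theorem c_act50_153 : allRange (fun i => Nat.beq (actR50 i) i) 81855 535 = true := by decide +kernel
theorem c_act50_154 : allRange (fun i => Nat.beq (actR50 i) i) 82390 535 = true := by decide +kernel
theorem c_act50_155 : allRange (fun i => Nat.beq (actR50 i) i) 82925 535 = true := by decide +kernel
theorem c_act50_156 : allRange (fun i => Nat.beq (actR50 i) i) 83460 535 = true := by decide +kernel
theorem c_act50_157 : allRange (fun i => Nat.beq (actR50 i) i) 83995 535 = true := by decide +kernel
theorem c_act50_158 : allRange (fun i => Nat.beq (actR50 i) i) 84530 535 = true := by decide +kernel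
theorem c_act50_159 : allRange (fun i => Nat.beq (actR50 i) i) 85065 535 = true := by decide +kernel
theorem c_act50_160 : allRange (fun i => Nat.beq (actR50 i) i) 85600 535 = true := by decide +kernel
theorem c_act50_161 : allRange (fun i => Nat.beq (actR50 i) i) 86135 535 = true := by decide +kernel
theorem c_act50_162 : allRange (fun i => Nat.beq (actR50 i) i) 86670 535 = true := by decide +kernel
theorem c_act50_163 : allRange (fun i => Nat.beq (actR50 i) i) 87205 535 = true := by decide +kernel
theorem c_act50_164 : allRange (fun i => Nat.beq (actR50 i) i) 87740 535 = true := by decide +kernel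
theorem c_act50_165 : allRange (fun i => Nat.beq (actR50 i) i) 88275 535 = true := by decide +kernel
theorem c_act50_166 : allRange (fun i => Nat.beq (actR50 i) i) 88810 535 = true := by decide +kernel
theorem c_act50_167 : allRange (fun i => Nat.beq (actR50 i) i) 89345 535 = true := by decide +kernel
theorem c_act50_168 : allRange (fun i => Nat.beq (actR50 i) i) 89880 535 = true := by decide +kernel
theorem c_act50_169 : allRange (fun i => Nat.beq (actR50 i) i) 90415 535 = true := by decide +kernel
theorem c_act50_170 : allRange (fun i => Nat.beq (actR50 i) i) 90950 535 = true := by decide +kernel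
theorem c_act50_171 : allRange (fun i => Nat.beq (actR50 i) i) 91485 535 = true := by decide +kernel
theorem c_act50_172 : allRange (fun i => Nat.beq (actR50 i) i) 92020 535 = true := by decide +kernel
theorem c_act50_173 : allRange (fun i => Nat.beq (actR50 i) i) 92555 535 = true := by decide +kernel
theorem c_act50_174 : allRange (fun i => Nat.beq (actR50 i) i) 93090 535 = true := by decide +kernel
theorem c_act50_175 : allRange (fun i => Nat.beq (actR50 i) i) 93625 535 = true := by decide +kernel

end Cfsg.Agent.Lib.Helper4.TCD.C3Fi22yR
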