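import Cfsg.Agent.Lib.Helper4.TCD_C3Fi22yR_Acc

namespace Cfsg.Agent.Lib.Helper4.TCD.C3Fi22yR

open Cfsg.Agent.Lib.Helper4.TC

set_option maxRecDepth 100000
set_option Elab.async false

theorem c_act50_176 : allRange (fun i => Nat.beq (actR50 i) i) 94160 535 = true := by decide +kernel
theorem c_act50_177 : allRange (fun i => Nat.beq (actR50 i) i) 94695 535 = true := by decide +kernel
theorem c_act50_178 : allRange (fun i => Nat.beq (actR50 i) i) 95230 535 = true := by decide +kernel
theorem c_act50_179 : allRange (fun i => Nat.beq (actR50 i) i) 95765 535 = true := by decide +kernel
theorem c_act50_180 : allRange (fun i => Nat.beq (actR50 i) i) 96300 535 = true := by decide +kernel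
theorem c_act50_181 : allRange (fun i => Nat.beq (actR50 i) i) 96835 535 = true := by decide +kernel
theorem c_act50_182 : allRange (fun i => Nat.beq (actR50 i) i) 97370 535 = true := by decide +kernel
theorem c_act50_183 : allRange (fun i => Nat.beq (actR50 i) i) 97905 535 = true := by decide +kernel
theorem c_act50_184 : allRange (fun i => Nat.beq (actR50 i) i) 98440 535 = true := by decide +kernel
theorem c_act50_185 : allRange (fun i => Nat.beq (actR50 i) i) 98975 535 = true := by decide +kernel
theorem c_act50_186 : allRange (fun i => Nat.beq (actR50 i) i) 99510 535 = true := by decide +kernel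
theorem c_act50_187 : allRange (fun i => Nat.beq (actR50 i) i) 100045 535 = true := by decide +kernel
theorem c_act50_188 : allRange (fun i => Nat.beq (actR50 i) i) 100580 535 = true := by decide +kernel
theorem c_act50_189 : allRange (fun i => Nat.beq (actR50 i) i) 101115 535 = true := by decide +kernel
theorem c_act50_190 : allRange (fun i => Nat.beq (actR50 i) i) 101650 535 = true := by decide +kernel
theorem c_act50_191 : allRange (fun i => Nat.beq (actR50 i) i) 102185 535 = true := by decide +kernel
theorem c_act50_192 : allRange (fun i => Nat.beq (actR50 i) i) 102720 535 = true := by decide +kernel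
theorem c_act50_193 : allRange (fun i => Nat.beq (actR50 i) i) 103255 535 = true := by decide +kernel
theorem c_act50_194 : allRange (fun i => Nat.beq (actR50 i) i) 103790 535 = true := by decide +kernel
theorem c_act50_195 : allRange (fun i => Nat.beq (actR50 i) i) 104325 535 = true := by decide +kernel
theorem c_act50_196 : allRange (fun i => Nat.beq (actR50 i) i) 104860 535 = true := by decide +kernel
theorem c_act50_197 : allRange (fun i => Nat.beq (actR50 i) i) 105395 535 = true := by decide +kernel
theorem c_act50_198 : allRange (fun i => Nat.beq (actR50 i) i) 105930 535 = true := by decide +kernel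
theorem c_act50_199 : allRange (fun i => Nat.beq (actR50 i) i) 106465 535 = true := by decide +kernel
theorem c_act50_200 : allRange (fun i => Nat.beq (actR50 i) i) 107000 535 = true := by decide +kernel
theorem c_act50_201 : allRange (fun i => Nat.beq (actR50 i) i) 107535 535 = true := by decide +kernel
theorem c_act50_202 : allRange (fun i => Nat.beq (actR50 i) i) 108070 535 = true := by decide +kernel
theorem c_act50_203 : allRange (fun i => Nat.beq (actR50 i) i) 108605 535 = true := by decide +kernel
theorem c_act50_204 : allRange (fun i => Nat.beq (actR50 i) i) 109140 535 = true := by decide +kernel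
theorem c_act50_205 : allRange (fun i => Nat.beq (actR50 i) i) 109675 535 = true := by decide +kernel
theorem c_act50_206 : allRange (fun i => Nat.beq (actR50 i) i) 110210 535 = true := by decide +kernel
theorem c_act50_207 : allRange (fun i => Nat.beq (actR50 i) i) 110745 535 = true := by decide +kernel
theorem c_act50_208 : allRange (fun i => Nat.beq (actR50 i) i) 111280 535 = true := by decide +kernel
theorem c_act50_209 : allRange (fun i => Nat.beq (actR50 i) i) 111815 535 = true := by decide +kernel
theorem c_act50_210 : allRange (fun i => Nat.beq (actR50 i) i) 112350 535 = true := by decide +kernel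
theorem c_act50_211 : allRange (fun i => Nat.beq (actR50 i) i) 112885 535 = true := by decide +kernel
theorem c_act50_212 : allRange (fun i => Nat.beq (actR50 i) i) 113420 535 = true := by decide +kernel
theorem c_act50_213 : allRange (fun i => Nat.beq (actR50 i) i) 113955 535 = true := by decide +kernel
theorem c_act50_214 : allRange (fun i => Nat.beq (actR50 i) i) 114490 535 = true := by decide +kernel
theorem c_act50_215 : allRange (fun i => Nat.beq (actR50 i) i) 115025 535 = true := by decide +kernel
theorem c_act50_216 : allRange (fun i => Nat.beq (actR50 i) i) 115560 535 = true := by decide +kernel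
theorem c_act50_217 : allRange (fun i => Nat.beq (actR50 i) i) 116095 535 = true := by decide +kernel
theorem c_act50_218 : allRange (fun i => Nat.beq (actR50 i) i) 116630 535 = true := by decide +kernel
theorem c_act50_219 : allRange (fun i => Nat.beq (actR50 i) i) 117165 535 = true := by decide +kernel
theorem c_act50_220 : allRange (fun i => Nat.beq (actR50 i) i) 117700 535 = true := by decide +kernel
theorem c_act50_221 : allRange (fun i => Nat.beq (actR50 i) i) 118235 535 = true := by decide +kernel
theorem c_act50_222 : allRange (fun i => Nat.beq (actR50 i) i) 118770 535 = true := by decide +kernel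
theorem c_act50_223 : allRange (fun i => Nat.beq (actR50 i) i) 119305 535 = true := by decide +kernel
theorem c_act50_224 : allRange (fun i => Nat.beq (actR50 i) i) 119840 535 = true := by decide +kernel
theorem c_act50_225 : allRange (fun i => Nat.beq (actR50 i) i) 120375 535 = true := by decide +kernel
theorem c_act50_226 : allRange (fun i => Nat.beq (actR50 i) i) 120910 535 = true := by decide +kernel
theorem c_act50_227 : allRange (fun i => Nat.beq (actR50 i) i) 121445 535 = true := by decide +kernel
theorem c_act50_228 : allRange (fun i => Nat.beq (actR50 i) i) 121980 535 = true := by decide +kernel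
theorem c_act50_229 : allRange (fun i => Nat.beq (actR50 i) i) 122515 535 = true := by decide +kernel
theorem c_act50_230 : allRange (fun i => Nat.beq (actR50 i) i) 123050 535 = true := by decide +kernel
theorem c_act50_231 : allRange (fun i => Nat.beq (actR50 i) i) 123585 535 = true := by decide +kernel
theorem c_act50_232 : allRange (fun i => Nat.beq (actR50 i) i) 124120 535 = true := by decide +kernel
theorem c_act50_233 : allRange (fun i => Nat.beq (actR50 i) i) 124655 535 = true := by decide +kernel
theorem c_act50_234 : allRange (fun i => Nat.beq (actR50 i) i) 125190 535 = true := by decide +kernel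
theorem c_act50_235 : allRange (fun i => Nat.beq (actR50 i) i) 125725 535 = true := by decide +kernel
theorem c_act50_236 : allRange (fun i => Nat.beq (actR50 i) i) 126260 535 = true := by decide +kernel
theorem c_act50_237 : allRange (fun i => Nat.beq (actR50 i) i) 126795 535 = true := by decide +kernel
theorem c_act50_238 : allRange (fun i => Nat.beq (actR50 i) i) 127330 535 = true := by decide +kernel
theorem c_act50_239 : allRange (fun i => Nat.beq (actR50 i) i) 127865 535 = true := by decide +kernel
theorem c_act50_240 : allRange (fun i => Nat.beq (actR50 i) i) 128400 535 = true := by decide +kernel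
theorem c_act50_241 : allRange (fun i => Nat.beq (actR50 i) i) 128935 535 = true := by decide +kernel
theorem c_act50_242 : allRange (fun i => Nat.beq (actR50 i) i) 129470 535 = true := by decide +kernel
theorem c_act50_243 : allRange (fun i => Nat.beq (actR50 i) i) 130005 535 = true := by decide +kernel
theorem c_act50_244 : allRange (fun i => Nat.beq (actR50 i) i) 130540 535 = true := by decide +kernel
theorem c_act50_245 : allRange (fun i => Nat.beq (actR50 i) i) 131075 535 = true := by decide +kernel
theorem c_act50_246 : allRange (fun i => Nat.beq (actR50 i) i) 131610 535 = true := by decide +kernel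
theorem c_act50_247 : allRange (fun i => Nat.beq (actR50 i) i) 132145 535 = true := by decide +kernel
theorem c_act50_248 : allRange (fun i => Nat.beq (actR50 i) i) 132680 535 = true := by decide +kernel
theorem c_act50_249 : allRange (fun i => Nat.beq (actR50 i) i) 133215 535 = true := by decide +kernel
theorem c_act50_250 : allRange (fun i => Nat.beq (actR50 i) i) 133750 535 = true := by decide +kernel
theorem c_act50_251 : allRange (fun i => Nat.beq (actR50 i) i) 134285 535 = true := by decide +kernel
theorem c_act50_252 : allRange (fun i => Nat.beq (actR50 i) i) 134820 535 = true := by decide +kernel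
theorem c_act50_253 : allRange (fun i => Nat.beq (actR50 i) i) 135355 535 = true := by decide +kernel
theorem c_act50_254 : allRange (fun i => Nat.beq (actR50 i) i) 135890 535 = true := by decide +kernel
theorem c_act50_255 : allRange (fun i => Nat.beq (actR50 i) i) 136425 535 = true := by decide +kernel
theorem c_act50_256 : allRange (fun i => Nat.beq (actR50 i) i) 136960 535 = true := by decide +kernel
theorem c_act50_257 : allRange (fun i => Nat.beq (actR50 i) i) 137495 535 = true := by decide +kernel
theorem c_act50_258 : allRange (fun i => Nat.beq (actR50 i) i) 138030 535 = true := by decide +kernel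
theorem c_act50_259 : allRange (fun i => Nat.beq (actR50 i) i) 138565 535 = true := by decide +kernel
theorem c_act50_260 : allRange (fun i => Nat.beq (actR50 i) i) 139100 535 = true := by decide +kernel
theorem c_act50_261 : allRange (fun i => Nat.beq (actR50 i) i) 139635 535 = true := by decide +kernel
theorem c_act50_262 : allRange (fun i => Nat.beq (actR50 i) i) 140170 535 = true := by decide +kernel
theorem c_act50_263 : allRange (fun i => Nat.beq (actR50 i) i) 140705 535 = true := by decide +kernel
theorem c_act50_264 : allRange (fun i => Nat.beq (actR50 i) i) 141240 535 = true := by decide +kernel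
theorem c_act50_265 : allRange (fun i => Nat.beq (actR50 i) i) 141775 535 = true := by decide +kernel
theorem c_act50_266 : allRange (fun i => Nat.beq (actR50 i) i) 142310 535 = true := by decide +kernel
theorem c_act50_267 : allRange (fun i => Nat.beq (actR50 i) i) 142845 535 = true := by decide +kernel
theorem c_act50_268 : allRange (fun i => Nat.beq (actR50 i) i) 143380 535 = true := by decide +kernel
theorem c_act50_269 : allRange (fun i => Nat.beq (actR50 i) i) 143915 535 = true := by decide +kernel
theorem c_act50_270 : allRange (fun i => Nat.beq (actR50 i) i) 144450 535 = true := by decide +kernel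
theorem c_act50_271 : allRange (fun i => Nat.beq (actR50 i) i) 144985 535 = true := by decide +kernel
theorem c_act50_272 : allRange (fun i => Nat.beq (actR50 i) i) 145520 535 = true := by decide +kernel
theorem c_act50_273 : allRange (fun i => Nat.beq (actR50 i) i) 146055 535 = true := by decide +kernel
theorem c_act50_274 : allRange (fun i => Nat.beq (actR50 i) i) 146590 535 = true := by decide +kernel
theorem c_act50_275 : allRange (fun i => Nat.beq (actR50 i) i) 147125 535 = true := by decide +kernel

end Cfsg.Agent.Lib.Helper4.TCD.C3Fi22yR
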