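import Cfsg.Agent.Lib.Helper4.TCD_C3Fi22yR_Acc

namespace Cfsg.Agent.Lib.Helper4.TCD.C3Fi22yR

open Cfsg.Agent.Lib.Helper4.TC

set_option maxRecDepth 100000
set_option Elab.async false

theorem c_act50_276 : allRange (fun i => Nat.beq (actR50 i) i) 147660 535 = true := by decide +kernel
theorem c_act50_277 : allRange (fun i => Nat.beq (actR50 i) i) 148195 535 = true := by decide +kernel
theorem c_act50_278 : allRange (fun i => Nat.beq (actR50 i) i) 148730 535 = true := by decide +kernel
theorem c_act50_279 : allRange (fun i => Nat.beq (actR50 i) i) 149265 535 = true := by decide +kernel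
theorem c_act50_280 : allRange (fun i => Nat.beq (actR50 i) i) 149800 535 = true := by decide +kernel
theorem c_act50_281 : allRange (fun i => Nat.beq (actR50 i) i) 150335 535 = true := by decide +kernel
theorem c_act50_282 : allRange (fun i => Nat.beq (actR50 i) i) 150870 535 = true := by decide +kernel
theorem c_act50_283 : allRange (fun i => Nat.beq (actR50 i) i) 151405 535 = true := by decide +kernel
theorem c_act50_284 : allRange (fun i => Nat.beq (actR50 i) i) 151940 535 = true := by decide +kernel
theorem c_act50_285 : allRange (fun i => Nat.beq (actR50 i) i) 152475 535 = true := by decide +kernel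
theorem c_act50_286 : allRange (fun i => Nat.beq (actR50 i) i) 153010 535 = true := by decide +kernel
theorem c_act50_287 : allRange (fun i => Nat.beq (actR50 i) i) 153545 535 = true := by decide +kernel
theorem c_act50_288 : allRange (fun i => Nat.beq (actR50 i) i) 154080 535 = true := by decide +kernel
theorem c_act50_289 : allRange (fun i => Nat.beq (actR50 i) i) 154615 535 = true := by decide +kernel
theorem c_act50_290 : allRange (fun i => Nat.beq (actR50 i) i) 155150 535 = true := by decide +kernel
theorem c_act50_291 : allRange (fun i => Nat.beq (actR50 i) i) 155685 535 = true := by decide +kernel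
theorem c_act50_292 : allRange (fun i => Nat.beq (actR50 i) i) 156220 535 = true := by decide +kernel
theorem c_act50_293 : allRange (fun i => Nat.beq (actR50 i) i) 156755 535 = true := by decide +kernel
theorem c_act50_294 : allRange (fun i => Nat.beq (actR50 i) i) 157290 535 = true := by decide +kernel
theorem c_act50_295 : allRange (fun i => Nat.beq (actR50 i) i) 157825 535 = true := by decide +kernel
theorem c_act50_296 : allRange (fun i => Nat.beq (actR50 i) i) 158360 535 = true := by decide +kernel
theorem c_act50_297 : allRange (fun i => Nat.beq (actR50 i) i) 158895 535 = true := by decide +kernel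
theorem c_act50_298 : allRange (fun i => Nat.beq (actR50 i) i) 159430 535 = true := by decide +kernel
theorem c_act50_299 : allRange (fun i => Nat.beq (actR50 i) i) 159965 535 = true := by decide +kernel
theorem c_act50_300 : allRange (fun i => Nat.beq (actR50 i) i) 160500 535 = true := by decide +kernel
theorem c_act50_301 : allRange (fun i => Nat.beq (actR50 i) i) 161035 535 = true := by decide +kernel
theorem c_act50_302 : allRange (fun i => Nat.beq (actR50 i) i) 161570 535 = true := by decide +kernel
theorem c_act50_303 : allRange (fun i => Nat.beq (actR50 i) i) 162105 535 = true := by decide +kernel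
theorem c_act50_304 : allRange (fun i => Nat.beq (actR50 i) i) 162640 535 = true := by decide +kernel
theorem c_act50_305 : allRange (fun i => Nat.beq (actR50 i) i) 163175 535 = true := by decide +kernel
theorem c_act50_306 : allRange (fun i => Nat.beq (actR50 i) i) 163710 535 = true := by decide +kernel
theorem c_act50_307 : allRange (fun i => Nat.beq (actR50 i) i) 164245 535 = true := by decide +kernel
theorem c_act50_308 : allRange (fun i => Nat.beq (actR50 i) i) 164780 535 = true := by decide +kernel
theorem c_act50_309 : allRange (fun i => Nat.beq (actR50 i) i) 165315 535 = true := by decide +kernel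
theorem c_act50_310 : allRange (fun i => Nat.beq (actR50 i) i) 165850 535 = true := by decide +kernel
theorem c_act50_311 : allRange (fun i => Nat.beq (actR50 i) i) 166385 535 = true := by decide +kernel
theorem c_act50_312 : allRange (fun i => Nat.beq (actR50 i) i) 166920 535 = true := by decide +kernel
theorem c_act50_313 : allRange (fun i => Nat.beq (actR50 i) i) 167455 535 = true := by decide +kernel
theorem c_act50_314 : allRange (fun i => Nat.beq (actR50 i) i) 167990 535 = true := by decide +kernel
theorem c_act50_315 : allRange (fun i => Nat.beq (actR50 i) i) 168525 535 = true := by decide +kernel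
theorem c_act50_316 : allRange (fun i => Nat.beq (actR50 i) i) 169060 535 = true := by decide +kernel
theorem c_act50_317 : allRange (fun i => Nat.beq (actR50 i) i) 169595 535 = true := by decide +kernel
theorem c_act50_318 : allRange (fun i => Nat.beq (actR50 i) i) 170130 535 = true := by decide +kernel
theorem c_act50_319 : allRange (fun i => Nat.beq (actR50 i) i) 170665 535 = true := by decide +kernel
theorem c_act50_320 : allRange (fun i => Nat.beq (actR50 i) i) 171200 535 = true := by decide +kernel
theorem c_act50_321 : allRange (fun i => Nat.beq (actR50 i) i) 171735 535 = true := by decide +kernel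
theorem c_act50_322 : allRange (fun i => Nat.beq (actR50 i) i) 172270 535 = true := by decide +kernel
theorem c_act50_323 : allRange (fun i => Nat.beq (actR50 i) i) 172805 535 = true := by decide +kernel
theorem c_act50_324 : allRange (fun i => Nat.beq (actR50 i) i) 173340 535 = true := by decide +kernel
theorem c_act50_325 : allRange (fun i => Nat.beq (actR50 i) i) 173875 535 = true := by decide +kernel
theorem c_act50_326 : allRange (fun i => Nat.beq (actR50 i) i) 174410 535 = true := by decide +kernel
theorem c_act50_327 : allRange (fun i => Nat.beq (actR50 i) i) 174945 535 = true := by decide +kernel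
theorem c_act50_328 : allRange (fun i => Nat.beq (actR50 i) i) 175480 535 = true := by decide +kernel
theorem c_act50_329 : allRange (fun i => Nat.beq (actR50 i) i) 176015 535 = true := by decide +kernel
theorem c_act50_330 : allRange (fun i => Nat.beq (actR50 i) i) 176550 535 = true := by decide +kernel
theorem c_act50_331 : allRange (fun i => Nat.beq (actR50 i) i) 177085 535 = true := by decide +kernel
theorem c_act50_332 : allRange (fun i => Nat.beq (actR50 i) i) 177620 535 = true := by decide +kernel
theorem c_act50_333 : allRange (fun i => Nat.beq (actR50 i) i) 178155 535 = true := by decide +kernel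
theorem c_act50_334 : allRange (fun i => Nat.beq (actR50 i) i) 178690 535 = true := by decide +kernel
theorem c_act50_335 : allRange (fun i => Nat.beq (actR50 i) i) 179225 535 = true := by decide +kernel
theorem c_act50_336 : allRange (fun i => Nat.beq (actR50 i) i) 179760 535 = true := by decide +kernel
theorem c_act50_337 : allRange (fun i => Nat.beq (actR50 i) i) 180295 535 = true := by decide +kernel
theorem c_act50_338 : allRange (fun i => Nat.beq (actR50 i) i) 180830 535 = true := by decide +kernel
theorem c_act50_339 : allRange (fun i => Nat.beq (actR50 i) i) 181365 535 = true := by decide +kernel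
theorem c_act50_340 : allRange (fun i => Nat.beq (actR50 i) i) 181900 535 = true := by decide +kernel
theorem c_act50_341 : allRange (fun i => Nat.beq (actR50 i) i) 182435 535 = true := by decide +kernel
theorem c_act50_342 : allRange (fun i => Nat.beq (actR50 i) i) 182970 535 = true := by decide +kernel
theorem c_act50_343 : allRange (fun i => Nat.beq (actR50 i) i) 183505 535 = true := by decide +kernel
theorem c_act50_344 : allRange (fun i => Nat.beq (actR50 i) i) 184040 535 = true := by decide +kernel
theorem c_act50_345 : allRange (fun i => Nat.beq (actR50 i) i) 184575 535 = true := by decide +kernel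
theorem c_act50_346 : allRange (fun i => Nat.beq (actR50 i) i) 185110 218 = true := by decide +kernel
theorem c_act51_0 : allRange (fun i => Nat.beq (actR51 i) i) 0 8571 = true := by decide +kernel
theorem c_act51_1 : allRange (fun i => Nat.beq (actR51 i) i) 8571 8571 = true := by decide +kernel
theorem c_act51_2 : allRange (fun i => Nat.beq (actR51 i) i) 17142 8571 = true := by decide +kernel
theorem c_act51_3 : allRange (fun i => Nat.beq (actR51 i) i) 25713 8571 = true := by decide +kernel
theorem c_act51_4 : allRange (fun i => Nat.beq (actR51 i) i) 34284 8571 = true := by decide +kernel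
theorem c_act51_5 : allRange (fun i => Nat.beq (actR51 i) i) 42855 8571 = true := by decide +kernel
theorem c_act51_6 : allRange (fun i => Nat.beq (actR51 i) i) 51426 8571 = true := by decide +kernel
theorem c_act51_7 : allRange (fun i => Nat.beq (actR51 i) i) 59997 8571 = true := by decide +kernel
theorem c_act51_8 : allRange (fun i => Nat.beq (actR51 i) i) 68568 8571 = true := by decide +kernel
theorem c_act51_9 : allRange (fun i => Nat.beq (actR51 i) i) 77139 8571 = true := by decide +kernel
theorem c_act51_10 : allRange (fun i => Nat.beq (actR51 i) i) 85710 8571 = true := by decide +kernel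
theorem c_act51_11 : allRange (fun i => Nat.beq (actR51 i) i) 94281 8571 = true := by decide +kernel
theorem c_act51_12 : allRange (fun i => Nat.beq (actR51 i) i) 102852 8571 = true := by decide +kernel
theorem c_act51_13 : allRange (fun i => Nat.beq (actR51 i) i) 111423 8571 = true := by decide +kernel
theorem c_act51_14 : allRange (fun i => Nat.beq (actR51 i) i) 119994 8571 = true := by decide +kernel
theorem c_act51_15 : allRange (fun i => Nat.beq (actR51 i) i) 128565 8571 = true := by decide +kernel
theorem c_act51_16 : allRange (fun i => Nat.beq (actR51 i) i) 137136 8571 = true := by decide +kernel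
theorem c_act51_17 : allRange (fun i => Nat.beq (actR51 i) i) 145707 8571 = true := by decide +kernel
theorem c_act51_18 : allRange (fun i => Nat.beq (actR51 i) i) 154278 8571 = true := by decide +kernel
theorem c_act51_19 : allRange (fun i => Nat.beq (actR51 i) i) 162849 8571 = true := by decide +kernel
theorem c_act51_20 : allRange (fun i => Nat.beq (actR51 i) i) 171420 8571 = true := by decide +kernel
theorem c_act51_21 : allRange (fun i => Nat.beq (actR51 i) i) 179991 5337 = true := by decide +kernel
theorem c_act52_0 : allRange (fun i => Nat.beq (actR52 i) i) 0 5454 = true := by decide +kernel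
theorem c_act52_1 : allRange (fun i => Nat.beq (actR52 i) i) 5454 5454 = true := by decide +kernel
theorem c_act52_2 : allRange (fun i => Nat.beq (actR52 i) i) 10908 5454 = true := by decide +kernel
theorem c_act52_3 : allRange (fun i => Nat.beq (actR52 i) i) 16362 5454 = true := by decide +kernel
theorem c_act52_4 : allRange (fun i => Nat.beq (actR52 i) i) 21816 5454 = true := by decide +kernel
theorem c_act52_5 : allRange (fun i => Nat.beq (actR52 i) i) 27270 5454 = true := by decide +kernel
theorem c_act52_6 : allRange (fun i => Nat.beq (actR52 i) i) 32724 5454 = true := by decide +kernel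
theorem c_act52_7 : allRange (fun i => Nat.beq (actR52 i) i) 38178 5454 = true := by decide +kernel

end Cfsg.Agent.Lib.Helper4.TCD.C3Fi22yR
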