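import Cfsg.Agent.Lib.Helper4.TCD_C3Fi22yR_Acc

namespace Cfsg.Agent.Lib.Helper4.TCD.C3Fi22yR

open Cfsg.Agent.Lib.Helper4.TC

set_option maxRecDepth 100000
set_option Elab.async false

theorem c_act54_36 : allRange (fun i => Nat.beq (actR54 i) i) 180000 5000 = true := by decide +kernel
theorem c_act54_37 : allRange (fun i => Nat.beq (actR54 i) i) 185000 328 = true := by decide +kernel
theorem c_act55_0 : allRange (fun i => Nat.beq (actR55 i) i) 0 20000 = true := by decide +kernel
theorem c_act55_1 : allRange (fun i => Nat.beq (actR55 i) i) 20000 20000 = true := by decide +kernel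
theorem c_act55_2 : allRange (fun i => Nat.beq (actR55 i) i) 40000 20000 = true := by decide +kernel
theorem c_act55_3 : allRange (fun i => Nat.beq (actR55 i) i) 60000 20000 = true := by decide +kernel
theorem c_act55_4 : allRange (fun i => Nat.beq (actR55 i) i) 80000 20000 = true := by decide +kernel
theorem c_act55_5 : allRange (fun i => Nat.beq (actR55 i) i) 100000 20000 = true := by decide +kernel
theorem c_act55_6 : allRange (fun i => Nat.beq (actR55 i) i) 120000 20000 = true := by decide +kernel
theorem c_act55_7 : allRange (fun i => Nat.beq (actR55 i) i) 140000 20000 = true := by decide +kernel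
theorem c_act55_8 : allRange (fun i => Nat.beq (actR55 i) i) 160000 20000 = true := by decide +kernel
theorem c_act55_9 : allRange (fun i => Nat.beq (actR55 i) i) 180000 5328 = true := by decide +kernel
theorem c_act56_0 : allRange (fun i => Nat.beq (actR56 i) i) 0 7500 = true := by decide +kernel
theorem c_act56_1 : allRange (fun i => Nat.beq (actR56 i) i) 7500 7500 = true := by decide +kernel
theorem c_act56_2 : allRange (fun i => Nat.beq (actR56 i) i) 15000 7500 = true := by decide +kernel
theorem c_act56_3 : allRange (fun i => Nat.beq (actR56 i) i) 22500 7500 = true := by decide +kernel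
theorem c_act56_4 : allRange (fun i => Nat.beq (actR56 i) i) 30000 7500 = true := by decide +kernel
theorem c_act56_5 : allRange (fun i => Nat.beq (actR56 i) i) 37500 7500 = true := by decide +kernel
theorem c_act56_6 : allRange (fun i => Nat.beq (actR56 i) i) 45000 7500 = true := by decide +kernel
theorem c_act56_7 : allRange (fun i => Nat.beq (actR56 i) i) 52500 7500 = true := by decide +kernel
theorem c_act56_8 : allRange (fun i => Nat.beq (actR56 i) i) 60000 7500 = true := by decide +kernel
theorem c_act56_9 : allRange (fun i => Nat.beq (actR56 i) i) 67500 7500 = true := by decide +kernel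
theorem c_act56_10 : allRange (fun i => Nat.beq (actR56 i) i) 75000 7500 = true := by decide +kernel
theorem c_act56_11 : allRange (fun i => Nat.beq (actR56 i) i) 82500 7500 = true := by decide +kernel
theorem c_act56_12 : allRange (fun i => Nat.beq (actR56 i) i) 90000 7500 = true := by decide +kernel
theorem c_act56_13 : allRange (fun i => Nat.beq (actR56 i) i) 97500 7500 = true := by decide +kernel
theorem c_act56_14 : allRange (fun i => Nat.beq (actR56 i) i) 105000 7500 = true := by decide +kernel
theorem c_act56_15 : allRange (fun i => Nat.beq (actR56 i) i) 112500 7500 = true := by decide +kernel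
theorem c_act56_16 : allRange (fun i => Nat.beq (actR56 i) i) 120000 7500 = true := by decide +kernel
theorem c_act56_17 : allRange (fun i => Nat.beq (actR56 i) i) 127500 7500 = true := by decide +kernel
theorem c_act56_18 : allRange (fun i => Nat.beq (actR56 i) i) 135000 7500 = true := by decide +kernel
theorem c_act56_19 : allRange (fun i => Nat.beq (actR56 i) i) 142500 7500 = true := by decide +kernel
theorem c_act56_20 : allRange (fun i => Nat.beq (actR56 i) i) 150000 7500 = true := by decide +kernel
theorem c_act56_21 : allRange (fun i => Nat.beq (actR56 i) i) 157500 7500 = true := by decide +kernel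
theorem c_act56_22 : allRange (fun i => Nat.beq (actR56 i) i) 165000 7500 = true := by decide +kernel
theorem c_act56_23 : allRange (fun i => Nat.beq (actR56 i) i) 172500 7500 = true := by decide +kernel
theorem c_act56_24 : allRange (fun i => Nat.beq (actR56 i) i) 180000 5328 = true := by decide +kernel
theorem c_act57_0 : allRange (fun i => Nat.beq (actR57 i) i) 0 6666 = true := by decide +kernel
theorem c_act57_1 : allRange (fun i => Nat.beq (actR57 i) i) 6666 6666 = true := by decide +kernel
theorem c_act57_2 : allRange (fun i => Nat.beq (actR57 i) i) 13332 6666 = true := by decide +kernel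
theorem c_act57_3 : allRange (fun i => Nat.beq (actR57 i) i) 19998 6666 = true := by decide +kernel
theorem c_act57_4 : allRange (fun i => Nat.beq (actR57 i) i) 26664 6666 = true := by decide +kernel
theorem c_act57_5 : allRange (fun i => Nat.beq (actR57 i) i) 33330 6666 = true := by decide +kernel
theorem c_act57_6 : allRange (fun i => Nat.beq (actR57 i) i) 39996 6666 = true := by decide +kernel
theorem c_act57_7 : allRange (fun i => Nat.beq (actR57 i) i) 46662 6666 = true := by decide +kernel
theorem c_act57_8 : allRange (fun i => Nat.beq (actR57 i) i) 53328 6666 = true := by decide +kernel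
theorem c_act57_9 : allRange (fun i => Nat.beq (actR57 i) i) 59994 6666 = true := by decide +kernel
theorem c_act57_10 : allRange (fun i => Nat.beq (actR57 i) i) 66660 6666 = true := by decide +kernel
theorem c_act57_11 : allRange (fun i => Nat.beq (actR57 i) i) 73326 6666 = true := by decide +kernel
theorem c_act57_12 : allRange (fun i => Nat.beq (actR57 i) i) 79992 6666 = true := by decide +kernel
theorem c_act57_13 : allRange (fun i => Nat.beq (actR57 i) i) 86658 6666 = true := by decide +kernel
theorem c_act57_14 : allRange (fun i => Nat.beq (actR57 i) i) 93324 6666 = true := by decide +kernel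
theorem c_act57_15 : allRange (fun i => Nat.beq (actR57 i) i) 99990 6666 = true := by decide +kernel
theorem c_act57_16 : allRange (fun i => Nat.beq (actR57 i) i) 106656 6666 = true := by decide +kernel
theorem c_act57_17 : allRange (fun i => Nat.beq (actR57 i) i) 113322 6666 = true := by decide +kernel
theorem c_act57_18 : allRange (fun i => Nat.beq (actR57 i) i) 119988 6666 = true := by decide +kernel
theorem c_act57_19 : allRange (fun i => Nat.beq (actR57 i) i) 126654 6666 = true := by decide +kernel
theorem c_act57_20 : allRange (fun i => Nat.beq (actR57 i) i) 133320 6666 = true := by decide +kernel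
theorem c_act57_21 : allRange (fun i => Nat.beq (actR57 i) i) 139986 6666 = true := by decide +kernel
theorem c_act57_22 : allRange (fun i => Nat.beq (actR57 i) i) 146652 6666 = true := by decide +kernel
theorem c_act57_23 : allRange (fun i => Nat.beq (actR57 i) i) 153318 6666 = true := by decide +kernel
theorem c_act57_24 : allRange (fun i => Nat.beq (actR57 i) i) 159984 6666 = true := by decide +kernel
theorem c_act57_25 : allRange (fun i => Nat.beq (actR57 i) i) 166650 6666 = true := by decide +kernel
theorem c_act57_26 : allRange (fun i => Nat.beq (actR57 i) i) 173316 6666 = true := by decide +kernel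
theorem c_act57_27 : allRange (fun i => Nat.beq (actR57 i) i) 179982 5346 = true := by decide +kernel
theorem c_act58_0 : allRange (fun i => Nat.beq (actR58 i) i) 0 6000 = true := by decide +kernel
theorem c_act58_1 : allRange (fun i => Nat.beq (actR58 i) i) 6000 6000 = true := by decide +kernel
theorem c_act58_2 : allRange (fun i => Nat.beq (actR58 i) i) 12000 6000 = true := by decide +kernel
theorem c_act58_3 : allRange (fun i => Nat.beq (actR58 i) i) 18000 6000 = true := by decide +kernel
theorem c_act58_4 : allRange (fun i => Nat.beq (actR58 i) i) 24000 6000 = true := by decide +kernel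
theorem c_act58_5 : allRange (fun i => Nat.beq (actR58 i) i) 30000 6000 = true := by decide +kernel
theorem c_act58_6 : allRange (fun i => Nat.beq (actR58 i) i) 36000 6000 = true := by decide +kernel
theorem c_act58_7 : allRange (fun i => Nat.beq (actR58 i) i) 42000 6000 = true := by decide +kernel
theorem c_act58_8 : allRange (fun i => Nat.beq (actR58 i) i) 48000 6000 = true := by decide +kernel
theorem c_act58_9 : allRange (fun i => Nat.beq (actR58 i) i) 54000 6000 = true := by decide +kernel
theorem c_act58_10 : allRange (fun i => Nat.beq (actR58 i) i) 60000 6000 = true := by decide +kernel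
theorem c_act58_11 : allRange (fun i => Nat.beq (actR58 i) i) 66000 6000 = true := by decide +kernel
theorem c_act58_12 : allRange (fun i => Nat.beq (actR58 i) i) 72000 6000 = true := by decide +kernel
theorem c_act58_13 : allRange (fun i => Nat.beq (actR58 i) i) 78000 6000 = true := by decide +kernel
theorem c_act58_14 : allRange (fun i => Nat.beq (actR58 i) i) 84000 6000 = true := by decide +kernel
theorem c_act58_15 : allRange (fun i => Nat.beq (actR58 i) i) 90000 6000 = true := by decide +kernel
theorem c_act58_16 : allRange (fun i => Nat.beq (actR58 i) i) 96000 6000 = true := by decide +kernel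
theorem c_act58_17 : allRange (fun i => Nat.beq (actR58 i) i) 102000 6000 = true := by decide +kernel
theorem c_act58_18 : allRange (fun i => Nat.beq (actR58 i) i) 108000 6000 = true := by decide +kernel
theorem c_act58_19 : allRange (fun i => Nat.beq (actR58 i) i) 114000 6000 = true := by decide +kernel
theorem c_act58_20 : allRange (fun i => Nat.beq (actR58 i) i) 120000 6000 = true := by decide +kernel
theorem c_act58_21 : allRange (fun i => Nat.beq (actR58 i) i) 126000 6000 = true := by decide +kernel
theorem c_act58_22 : allRange (fun i => Nat.beq (actR58 i) i) 132000 6000 = true := by decide +kernel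
theorem c_act58_23 : allRange (fun i => Nat.beq (actR58 i) i) 138000 6000 = true := by decide +kernel
theorem c_act58_24 : allRange (fun i => Nat.beq (actR58 i) i) 144000 6000 = true := by decide +kernel
theorem c_act58_25 : allRange (fun i => Nat.beq (actR58 i) i) 150000 6000 = true := by decide +kernel
theorem c_act58_26 : allRange (fun i => Nat.beq (actR58 i) i) 156000 6000 = true := by decide +kernel
theorem c_act58_27 : allRange (fun i => Nat.beq (actR58 i) i) 162000 6000 = true := by decide +kernel
theorem c_act58_28 : allRange (fun i => Nat.beq (actR58 i) i) 168000 6000 = true := by decide +kernel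
theorem c_act58_29 : allRange (fun i => Nat.beq (actR58 i) i) 174000 6000 = true := by decide +kernel
theorem c_act58_30 : allRange (fun i => Nat.beq (actR58 i) i) 180000 5328 = true := by decide +kernel
theorem c_act59_0 : allRange (fun i => Nat.beq (actR59 i) i) 0 6000 = true := by decide +kernel
theorem c_act59_1 : allRange (fun i => Nat.beq (actR59 i) i) 6000 6000 = true := by decide +kernel
theorem c_act59_2 : allRange (fun i => Nat.beq (actR59 i) i) 12000 6000 = true := by decide +kernel
theorem c_act59_3 : allRange (fun i => Nat.beq (actR59 i) i) 18000 6000 = true := by decide +kernel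
theorem c_act59_4 : allRange (fun i => Nat.beq (actR59 i) i) 24000 6000 = true := by decide +kernel
theorem c_act59_5 : allRange (fun i => Nat.beq (actR59 i) i) 30000 6000 = true := by decide +kernel

end Cfsg.Agent.Lib.Helper4.TCD.C3Fi22yR
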