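import Cfsg.Agent.Lib.Helper4.TCD_C3Fi22yR_Acc

namespace Cfsg.Agent.Lib.Helper4.TCD.C3Fi22yR

open Cfsg.Agent.Lib.Helper4.TC

set_option maxRecDepth 100000
set_option Elab.async false

theorem c_act59_6 : allRange (fun i => Nat.beq (actR59 i) i) 36000 6000 = true := by decide +kernel
theorem c_act59_7 : allRange (fun i => Nat.beq (actR59 i) i) 42000 6000 = true := by decide +kernel
theorem c_act59_8 : allRange (fun i => Nat.beq (actR59 i) i) 48000 6000 = true := by decide +kernel
theorem c_act59_9 : allRange (fun i => Nat.beq (actR59 i) i) 54000 6000 = true := by decide +kernel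
theorem c_act59_10 : allRange (fun i => Nat.beq (actR59 i) i) 60000 6000 = true := by decide +kernel
theorem c_act59_11 : allRange (fun i => Nat.beq (actR59 i) i) 66000 6000 = true := by decide +kernel
theorem c_act59_12 : allRange (fun i => Nat.beq (actR59 i) i) 72000 6000 = true := by decide +kernel
theorem c_act59_13 : allRange (fun i => Nat.beq (actR59 i) i) 78000 6000 = true := by decide +kernel
theorem c_act59_14 : allRange (fun i => Nat.beq (actR59 i) i) 84000 6000 = true := by decide +kernel
theorem c_act59_15 : allRange (fun i => Nat.beq (actR59 i) i) 90000 6000 = true := by decide +kernel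
theorem c_act59_16 : allRange (fun i => Nat.beq (actR59 i) i) 96000 6000 = true := by decide +kernel
theorem c_act59_17 : allRange (fun i => Nat.beq (actR59 i) i) 102000 6000 = true := by decide +kernel
theorem c_act59_18 : allRange (fun i => Nat.beq (actR59 i) i) 108000 6000 = true := by decide +kernel
theorem c_act59_19 : allRange (fun i => Nat.beq (actR59 i) i) 114000 6000 = true := by decide +kernel
theorem c_act59_20 : allRange (fun i => Nat.beq (actR59 i) i) 120000 6000 = true := by decide +kernel
theorem c_act59_21 : allRange (fun i => Nat.beq (actR59 i) i) 126000 6000 = true := by decide +kernel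
theorem c_act59_22 : allRange (fun i => Nat.beq (actR59 i) i) 132000 6000 = true := by decide +kernel
theorem c_act59_23 : allRange (fun i => Nat.beq (actR59 i) i) 138000 6000 = true := by decide +kernel
theorem c_act59_24 : allRange (fun i => Nat.beq (actR59 i) i) 144000 6000 = true := by decide +kernel
theorem c_act59_25 : allRange (fun i => Nat.beq (actR59 i) i) 150000 6000 = true := by decide +kernel
theorem c_act59_26 : allRange (fun i => Nat.beq (actR59 i) i) 156000 6000 = true := by decide +kernel
theorem c_act59_27 : allRange (fun i => Nat.beq (actR59 i) i) 162000 6000 = true := by decide +kernel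
theorem c_act59_28 : allRange (fun i => Nat.beq (actR59 i) i) 168000 6000 = true := by decide +kernel
theorem c_act59_29 : allRange (fun i => Nat.beq (actR59 i) i) 174000 6000 = true := by decide +kernel
theorem c_act59_30 : allRange (fun i => Nat.beq (actR59 i) i) 180000 5328 = true := by decide +kernel
theorem c_act60_0 : allRange (fun i => Nat.beq (actR60 i) i) 0 4000 = true := by decide +kernel
theorem c_act60_1 : allRange (fun i => Nat.beq (actR60 i) i) 4000 4000 = true := by decide +kernel
theorem c_act60_2 : allRange (fun i => Nat.beq (actR60 i) i) 8000 4000 = true := by decide +kernel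
theorem c_act60_3 : allRange (fun i => Nat.beq (actR60 i) i) 12000 4000 = true := by decide +kernel
theorem c_act60_4 : allRange (fun i => Nat.beq (actR60 i) i) 16000 4000 = true := by decide +kernel
theorem c_act60_5 : allRange (fun i => Nat.beq (actR60 i) i) 20000 4000 = true := by decide +kernel
theorem c_act60_6 : allRange (fun i => Nat.beq (actR60 i) i) 24000 4000 = true := by decide +kernel
theorem c_act60_7 : allRange (fun i => Nat.beq (actR60 i) i) 28000 4000 = true := by decide +kernel
theorem c_act60_8 : allRange (fun i => Nat.beq (actR60 i) i) 32000 4000 = true := by decide +kernel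
theorem c_act60_9 : allRange (fun i => Nat.beq (actR60 i) i) 36000 4000 = true := by decide +kernel
theorem c_act60_10 : allRange (fun i => Nat.beq (actR60 i) i) 40000 4000 = true := by decide +kernel
theorem c_act60_11 : allRange (fun i => Nat.beq (actR60 i) i) 44000 4000 = true := by decide +kernel
theorem c_act60_12 : allRange (fun i => Nat.beq (actR60 i) i) 48000 4000 = true := by decide +kernel
theorem c_act60_13 : allRange (fun i => Nat.beq (actR60 i) i) 52000 4000 = true := by decide +kernel
theorem c_act60_14 : allRange (fun i => Nat.beq (actR60 i) i) 56000 4000 = true := by decide +kernel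
theorem c_act60_15 : allRange (fun i => Nat.beq (actR60 i) i) 60000 4000 = true := by decide +kernel
theorem c_act60_16 : allRange (fun i => Nat.beq (actR60 i) i) 64000 4000 = true := by decide +kernel
theorem c_act60_17 : allRange (fun i => Nat.beq (actR60 i) i) 68000 4000 = true := by decide +kernel
theorem c_act60_18 : allRange (fun i => Nat.beq (actR60 i) i) 72000 4000 = true := by decide +kernel
theorem c_act60_19 : allRange (fun i => Nat.beq (actR60 i) i) 76000 4000 = true := by decide +kernel
theorem c_act60_20 : allRange (fun i => Nat.beq (actR60 i) i) 80000 4000 = true := by decide +kernel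
theorem c_act60_21 : allRange (fun i => Nat.beq (actR60 i) i) 84000 4000 = true := by decide +kernel
theorem c_act60_22 : allRange (fun i => Nat.beq (actR60 i) i) 88000 4000 = true := by decide +kernel
theorem c_act60_23 : allRange (fun i => Nat.beq (actR60 i) i) 92000 4000 = true := by decide +kernel
theorem c_act60_24 : allRange (fun i => Nat.beq (actR60 i) i) 96000 4000 = true := by decide +kernel
theorem c_act60_25 : allRange (fun i => Nat.beq (actR60 i) i) 100000 4000 = true := by decide +kernel
theorem c_act60_26 : allRange (fun i => Nat.beq (actR60 i) i) 104000 4000 = true := by decide +kernel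
theorem c_act60_27 : allRange (fun i => Nat.beq (actR60 i) i) 108000 4000 = true := by decide +kernel
theorem c_act60_28 : allRange (fun i => Nat.beq (actR60 i) i) 112000 4000 = true := by decide +kernel
theorem c_act60_29 : allRange (fun i => Nat.beq (actR60 i) i) 116000 4000 = true := by decide +kernel
theorem c_act60_30 : allRange (fun i => Nat.beq (actR60 i) i) 120000 4000 = true := by decide +kernel
theorem c_act60_31 : allRange (fun i => Nat.beq (actR60 i) i) 124000 4000 = true := by decide +kernel
theorem c_act60_32 : allRange (fun i => Nat.beq (actR60 i) i) 128000 4000 = true := by decide +kernel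
theorem c_act60_33 : allRange (fun i => Nat.beq (actR60 i) i) 132000 4000 = true := by decide +kernel
theorem c_act60_34 : allRange (fun i => Nat.beq (actR60 i) i) 136000 4000 = true := by decide +kernel
theorem c_act60_35 : allRange (fun i => Nat.beq (actR60 i) i) 140000 4000 = true := by decide +kernel
theorem c_act60_36 : allRange (fun i => Nat.beq (actR60 i) i) 144000 4000 = true := by decide +kernel
theorem c_act60_37 : allRange (fun i => Nat.beq (actR60 i) i) 148000 4000 = true := by decide +kernel
theorem c_act60_38 : allRange (fun i => Nat.beq (actR60 i) i) 152000 4000 = true := by decide +kernel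
theorem c_act60_39 : allRange (fun i => Nat.beq (actR60 i) i) 156000 4000 = true := by decide +kernel
theorem c_act60_40 : allRange (fun i => Nat.beq (actR60 i) i) 160000 4000 = true := by decide +kernel
theorem c_act60_41 : allRange (fun i => Nat.beq (actR60 i) i) 164000 4000 = true := by decide +kernel
theorem c_act60_42 : allRange (fun i => Nat.beq (actR60 i) i) 168000 4000 = true := by decide +kernel
theorem c_act60_43 : allRange (fun i => Nat.beq (actR60 i) i) 172000 4000 = true := by decide +kernel
theorem c_act60_44 : allRange (fun i => Nat.beq (actR60 i) i) 176000 4000 = true := by decide +kernel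
theorem c_act60_45 : allRange (fun i => Nat.beq (actR60 i) i) 180000 4000 = true := by decide +kernel
theorem c_act60_46 : allRange (fun i => Nat.beq (actR60 i) i) 184000 1328 = true := by decide +kernel
theorem c_act61_0 : allRange (fun i => Nat.beq (actR61 i) i) 0 7500 = true := by decide +kernel
theorem c_act61_1 : allRange (fun i => Nat.beq (actR61 i) i) 7500 7500 = true := by decide +kernel
theorem c_act61_2 : allRange (fun i => Nat.beq (actR61 i) i) 15000 7500 = true := by decide +kernel
theorem c_act61_3 : allRange (fun i => Nat.beq (actR61 i) i) 22500 7500 = true := by decide +kernel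
theorem c_act61_4 : allRange (fun i => Nat.beq (actR61 i) i) 30000 7500 = true := by decide +kernel
theorem c_act61_5 : allRange (fun i => Nat.beq (actR61 i) i) 37500 7500 = true := by decide +kernel
theorem c_act61_6 : allRange (fun i => Nat.beq (actR61 i) i) 45000 7500 = true := by decide +kernel
theorem c_act61_7 : allRange (fun i => Nat.beq (actR61 i) i) 52500 7500 = true := by decide +kernel
theorem c_act61_8 : allRange (fun i => Nat.beq (actR61 i) i) 60000 7500 = true := by decide +kernel
theorem c_act61_9 : allRange (fun i => Nat.beq (actR61 i) i) 67500 7500 = true := by decide +kernel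
theorem c_act61_10 : allRange (fun i => Nat.beq (actR61 i) i) 75000 7500 = true := by decide +kernel
theorem c_act61_11 : allRange (fun i => Nat.beq (actR61 i) i) 82500 7500 = true := by decide +kernel
theorem c_act61_12 : allRange (fun i => Nat.beq (actR61 i) i) 90000 7500 = true := by decide +kernel
theorem c_act61_13 : allRange (fun i => Nat.beq (actR61 i) i) 97500 7500 = true := by decide +kernel
theorem c_act61_14 : allRange (fun i => Nat.beq (actR61 i) i) 105000 7500 = true := by decide +kernel
theorem c_act61_15 : allRange (fun i => Nat.beq (actR61 i) i) 112500 7500 = true := by decide +kernel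
theorem c_act61_16 : allRange (fun i => Nat.beq (actR61 i) i) 120000 7500 = true := by decide +kernel
theorem c_act61_17 : allRange (fun i => Nat.beq (actR61 i) i) 127500 7500 = true := by decide +kernel
theorem c_act61_18 : allRange (fun i => Nat.beq (actR61 i) i) 135000 7500 = true := by decide +kernel
theorem c_act61_19 : allRange (fun i => Nat.beq (actR61 i) i) 142500 7500 = true := by decide +kernel
theorem c_act61_20 : allRange (fun i => Nat.beq (actR61 i) i) 150000 7500 = true := by decide +kernel
theorem c_act61_21 : allRange (fun i => Nat.beq (actR61 i) i) 157500 7500 = true := by decide +kernel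
theorem c_act61_22 : allRange (fun i => Nat.beq (actR61 i) i) 165000 7500 = true := by decide +kernel
theorem c_act61_23 : allRange (fun i => Nat.beq (actR61 i) i) 172500 7500 = true := by decide +kernel
theorem c_act61_24 : allRange (fun i => Nat.beq (actR61 i) i) 180000 5328 = true := by decide +kernel
theorem c_act62_0 : allRange (fun i => Nat.beq (actR62 i) i) 0 7500 = true := by decide +kernel
theorem c_act62_1 : allRange (fun i => Nat.beq (actR62 i) i) 7500 7500 = true := by decide +kernel
theorem c_act62_2 : allRange (fun i => Nat.beq (actR62 i) i) 15000 7500 = true := by decide +kernel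
theorem c_act62_3 : allRange (fun i => Nat.beq (actR62 i) i) 22500 7500 = true := by decide +kernel

end Cfsg.Agent.Lib.Helper4.TCD.C3Fi22yR
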