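import Cfsg.Agent.Lib.Helper4.TCD_C3Fi22yR_Acc

namespace Cfsg.Agent.Lib.Helper4.TCD.C3Fi22yR

open Cfsg.Agent.Lib.Helper4.TC

set_option maxRecDepth 100000
set_option Elab.async false

theorem c_act62_4 : allRange (fun i => Nat.beq (actR62 i) i) 30000 7500 = true := by decide +kernel
theorem c_act62_5 : allRange (fun i => Nat.beq (actR62 i) i) 37500 7500 = true := by decide +kernel
theorem c_act62_6 : allRange (fun i => Nat.beq (actR62 i) i) 45000 7500 = true := by decide +kernel
theorem c_act62_7 : allRange (fun i => Nat.beq (actR62 i) i) 52500 7500 = true := by decide +kernel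
theorem c_act62_8 : allRange (fun i => Nat.beq (actR62 i) i) 60000 7500 = true := by decide +kernel
theorem c_act62_9 : allRange (fun i => Nat.beq (actR62 i) i) 67500 7500 = true := by decide +kernel
theorem c_act62_10 : allRange (fun i => Nat.beq (actR62 i) i) 75000 7500 = true := by decide +kernel
theorem c_act62_11 : allRange (fun i => Nat.beq (actR62 i) i) 82500 7500 = true := by decide +kernel
theorem c_act62_12 : allRange (fun i => Nat.beq (actR62 i) i) 90000 7500 = true := by decide +kernel
theorem c_act62_13 : allRange (fun i => Nat.beq (actR62 i) i) 97500 7500 = true := by decide +kernel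
theorem c_act62_14 : allRange (fun i => Nat.beq (actR62 i) i) 105000 7500 = true := by decide +kernel
theorem c_act62_15 : allRange (fun i => Nat.beq (actR62 i) i) 112500 7500 = true := by decide +kernel
theorem c_act62_16 : allRange (fun i => Nat.beq (actR62 i) i) 120000 7500 = true := by decide +kernel
theorem c_act62_17 : allRange (fun i => Nat.beq (actR62 i) i) 127500 7500 = true := by decide +kernel
theorem c_act62_18 : allRange (fun i => Nat.beq (actR62 i) i) 135000 7500 = true := by decide +kernel
theorem c_act62_19 : allRange (fun i => Nat.beq (actR62 i) i) 142500 7500 = true := by decide +kernel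
theorem c_act62_20 : allRange (fun i => Nat.beq (actR62 i) i) 150000 7500 = true := by decide +kernel
theorem c_act62_21 : allRange (fun i => Nat.beq (actR62 i) i) 157500 7500 = true := by decide +kernel
theorem c_act62_22 : allRange (fun i => Nat.beq (actR62 i) i) 165000 7500 = true := by decide +kernel
theorem c_act62_23 : allRange (fun i => Nat.beq (actR62 i) i) 172500 7500 = true := by decide +kernel
theorem c_act62_24 : allRange (fun i => Nat.beq (actR62 i) i) 180000 5328 = true := by decide +kernel
theorem c_act63_0 : allRange (fun i => Nat.beq (actR63 i) i) 0 6000 = true := by decide +kernel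
theorem c_act63_1 : allRange (fun i => Nat.beq (actR63 i) i) 6000 6000 = true := by decide +kernel
theorem c_act63_2 : allRange (fun i => Nat.beq (actR63 i) i) 12000 6000 = true := by decide +kernel
theorem c_act63_3 : allRange (fun i => Nat.beq (actR63 i) i) 18000 6000 = true := by decide +kernel
theorem c_act63_4 : allRange (fun i => Nat.beq (actR63 i) i) 24000 6000 = true := by decide +kernel
theorem c_act63_5 : allRange (fun i => Nat.beq (actR63 i) i) 30000 6000 = true := by decide +kernel
theorem c_act63_6 : allRange (fun i => Nat.beq (actR63 i) i) 36000 6000 = true := by decide +kernel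
theorem c_act63_7 : allRange (fun i => Nat.beq (actR63 i) i) 42000 6000 = true := by decide +kernel
theorem c_act63_8 : allRange (fun i => Nat.beq (actR63 i) i) 48000 6000 = true := by decide +kernel
theorem c_act63_9 : allRange (fun i => Nat.beq (actR63 i) i) 54000 6000 = true := by decide +kernel
theorem c_act63_10 : allRange (fun i => Nat.beq (actR63 i) i) 60000 6000 = true := by decide +kernel
theorem c_act63_11 : allRange (fun i => Nat.beq (actR63 i) i) 66000 6000 = true := by decide +kernel
theorem c_act63_12 : allRange (fun i => Nat.beq (actR63 i) i) 72000 6000 = true := by decide +kernel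
theorem c_act63_13 : allRange (fun i => Nat.beq (actR63 i) i) 78000 6000 = true := by decide +kernel
theorem c_act63_14 : allRange (fun i => Nat.beq (actR63 i) i) 84000 6000 = true := by decide +kernel
theorem c_act63_15 : allRange (fun i => Nat.beq (actR63 i) i) 90000 6000 = true := by decide +kernel
theorem c_act63_16 : allRange (fun i => Nat.beq (actR63 i) i) 96000 6000 = true := by decide +kernel
theorem c_act63_17 : allRange (fun i => Nat.beq (actR63 i) i) 102000 6000 = true := by decide +kernel
theorem c_act63_18 : allRange (fun i => Nat.beq (actR63 i) i) 108000 6000 = true := by decide +kernel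
theorem c_act63_19 : allRange (fun i => Nat.beq (actR63 i) i) 114000 6000 = true := by decide +kernel
theorem c_act63_20 : allRange (fun i => Nat.beq (actR63 i) i) 120000 6000 = true := by decide +kernel
theorem c_act63_21 : allRange (fun i => Nat.beq (actR63 i) i) 126000 6000 = true := by decide +kernel
theorem c_act63_22 : allRange (fun i => Nat.beq (actR63 i) i) 132000 6000 = true := by decide +kernel
theorem c_act63_23 : allRange (fun i => Nat.beq (actR63 i) i) 138000 6000 = true := by decide +kernel
theorem c_act63_24 : allRange (fun i => Nat.beq (actR63 i) i) 144000 6000 = true := by decide +kernel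
theorem c_act63_25 : allRange (fun i => Nat.beq (actR63 i) i) 150000 6000 = true := by decide +kernel
theorem c_act63_26 : allRange (fun i => Nat.beq (actR63 i) i) 156000 6000 = true := by decide +kernel
theorem c_act63_27 : allRange (fun i => Nat.beq (actR63 i) i) 162000 6000 = true := by decide +kernel
theorem c_act63_28 : allRange (fun i => Nat.beq (actR63 i) i) 168000 6000 = true := by decide +kernel
theorem c_act63_29 : allRange (fun i => Nat.beq (actR63 i) i) 174000 6000 = true := by decide +kernel
theorem c_act63_30 : allRange (fun i => Nat.beq (actR63 i) i) 180000 5328 = true := by decide +kernel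
theorem c_act64_0 : allRange (fun i => Nat.beq (actR64 i) i) 0 6000 = true := by decide +kernel
theorem c_act64_1 : allRange (fun i => Nat.beq (actR64 i) i) 6000 6000 = true := by decide +kernel
theorem c_act64_2 : allRange (fun i => Nat.beq (actR64 i) i) 12000 6000 = true := by decide +kernel
theorem c_act64_3 : allRange (fun i => Nat.beq (actR64 i) i) 18000 6000 = true := by decide +kernel
theorem c_act64_4 : allRange (fun i => Nat.beq (actR64 i) i) 24000 6000 = true := by decide +kernel
theorem c_act64_5 : allRange (fun i => Nat.beq (actR64 i) i) 30000 6000 = true := by decide +kernel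
theorem c_act64_6 : allRange (fun i => Nat.beq (actR64 i) i) 36000 6000 = true := by decide +kernel
theorem c_act64_7 : allRange (fun i => Nat.beq (actR64 i) i) 42000 6000 = true := by decide +kernel
theorem c_act64_8 : allRange (fun i => Nat.beq (actR64 i) i) 48000 6000 = true := by decide +kernel
theorem c_act64_9 : allRange (fun i => Nat.beq (actR64 i) i) 54000 6000 = true := by decide +kernel
theorem c_act64_10 : allRange (fun i => Nat.beq (actR64 i) i) 60000 6000 = true := by decide +kernel
theorem c_act64_11 : allRange (fun i => Nat.beq (actR64 i) i) 66000 6000 = true := by decide +kernel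
theorem c_act64_12 : allRange (fun i => Nat.beq (actR64 i) i) 72000 6000 = true := by decide +kernel
theorem c_act64_13 : allRange (fun i => Nat.beq (actR64 i) i) 78000 6000 = true := by decide +kernel
theorem c_act64_14 : allRange (fun i => Nat.beq (actR64 i) i) 84000 6000 = true := by decide +kernel
theorem c_act64_15 : allRange (fun i => Nat.beq (actR64 i) i) 90000 6000 = true := by decide +kernel
theorem c_act64_16 : allRange (fun i => Nat.beq (actR64 i) i) 96000 6000 = true := by decide +kernel
theorem c_act64_17 : allRange (fun i => Nat.beq (actR64 i) i) 102000 6000 = true := by decide +kernel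
theorem c_act64_18 : allRange (fun i => Nat.beq (actR64 i) i) 108000 6000 = true := by decide +kernel
theorem c_act64_19 : allRange (fun i => Nat.beq (actR64 i) i) 114000 6000 = true := by decide +kernel
theorem c_act64_20 : allRange (fun i => Nat.beq (actR64 i) i) 120000 6000 = true := by decide +kernel
theorem c_act64_21 : allRange (fun i => Nat.beq (actR64 i) i) 126000 6000 = true := by decide +kernel
theorem c_act64_22 : allRange (fun i => Nat.beq (actR64 i) i) 132000 6000 = true := by decide +kernel
theorem c_act64_23 : allRange (fun i => Nat.beq (actR64 i) i) 138000 6000 = true := by decide +kernel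
theorem c_act64_24 : allRange (fun i => Nat.beq (actR64 i) i) 144000 6000 = true := by decide +kernel
theorem c_act64_25 : allRange (fun i => Nat.beq (actR64 i) i) 150000 6000 = true := by decide +kernel
theorem c_act64_26 : allRange (fun i => Nat.beq (actR64 i) i) 156000 6000 = true := by decide +kernel
theorem c_act64_27 : allRange (fun i => Nat.beq (actR64 i) i) 162000 6000 = true := by decide +kernel
theorem c_act64_28 : allRange (fun i => Nat.beq (actR64 i) i) 168000 6000 = true := by decide +kernel
theorem c_act64_29 : allRange (fun i => Nat.beq (actR64 i) i) 174000 6000 = true := by decide +kernel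
theorem c_act64_30 : allRange (fun i => Nat.beq (actR64 i) i) 180000 5328 = true := by decide +kernel
theorem c_act65_0 : allRange (fun i => Nat.beq (actR65 i) i) 0 5454 = true := by decide +kernel
theorem c_act65_1 : allRange (fun i => Nat.beq (actR65 i) i) 5454 5454 = true := by decide +kernel
theorem c_act65_2 : allRange (fun i => Nat.beq (actR65 i) i) 10908 5454 = true := by decide +kernel
theorem c_act65_3 : allRange (fun i => Nat.beq (actR65 i) i) 16362 5454 = true := by decide +kernel
theorem c_act65_4 : allRange (fun i => Nat.beq (actR65 i) i) 21816 5454 = true := by decide +kernel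
theorem c_act65_5 : allRange (fun i => Nat.beq (actR65 i) i) 27270 5454 = true := by decide +kernel
theorem c_act65_6 : allRange (fun i => Nat.beq (actR65 i) i) 32724 5454 = true := by decide +kernel
theorem c_act65_7 : allRange (fun i => Nat.beq (actR65 i) i) 38178 5454 = true := by decide +kernel
theorem c_act65_8 : allRange (fun i => Nat.beq (actR65 i) i) 43632 5454 = true := by decide +kernel
theorem c_act65_9 : allRange (fun i => Nat.beq (actR65 i) i) 49086 5454 = true := by decide +kernel
theorem c_act65_10 : allRange (fun i => Nat.beq (actR65 i) i) 54540 5454 = true := by decide +kernel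
theorem c_act65_11 : allRange (fun i => Nat.beq (actR65 i) i) 59994 5454 = true := by decide +kernel
theorem c_act65_12 : allRange (fun i => Nat.beq (actR65 i) i) 65448 5454 = true := by decide +kernel
theorem c_act65_13 : allRange (fun i => Nat.beq (actR65 i) i) 70902 5454 = true := by decide +kernel
theorem c_act65_14 : allRange (fun i => Nat.beq (actR65 i) i) 76356 5454 = true := by decide +kernel
theorem c_act65_15 : allRange (fun i => Nat.beq (actR65 i) i) 81810 5454 = true := by decide +kernel
theorem c_act65_16 : allRange (fun i => Nat.beq (actR65 i) i) 87264 5454 = true := by decide +kernel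

end Cfsg.Agent.Lib.Helper4.TCD.C3Fi22yR
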