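import Cfsg.Agent.Lib.Helper4.TCD_C3Fi22yR_Acc

namespace Cfsg.Agent.Lib.Helper4.TCD.C3Fi22yR

open Cfsg.Agent.Lib.Helper4.TC

set_option maxRecDepth 100000
set_option Elab.async false

theorem c_act11_3 : allRange (fun i => Nat.beq (actR11 i) i) 45000 15000 = true := by decide +kernel
theorem c_act11_4 : allRange (fun i => Nat.beq (actR11 i) i) 60000 15000 = true := by decide +kernel
theorem c_act11_5 : allRange (fun i => Nat.beq (actR11 i) i) 75000 15000 = true := by decide +kernel
theorem c_act11_6 : allRange (fun i => Nat.beq (actR11 i) i) 90000 15000 = true := by decide +kernel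
theorem c_act11_7 : allRange (fun i => Nat.beq (actR11 i) i) 105000 15000 = true := by decide +kernel
theorem c_act11_8 : allRange (fun i => Nat.beq (actR11 i) i) 120000 15000 = true := by decide +kernel
theorem c_act11_9 : allRange (fun i => Nat.beq (actR11 i) i) 135000 15000 = true := by decide +kernel
theorem c_act11_10 : allRange (fun i => Nat.beq (actR11 i) i) 150000 15000 = true := by decide +kernel
theorem c_act11_11 : allRange (fun i => Nat.beq (actR11 i) i) 165000 15000 = true := by decide +kernel
theorem c_act11_12 : allRange (fun i => Nat.beq (actR11 i) i) 180000 5328 = true := by decide +kernel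
theorem c_act12_0 : allRange (fun i => Nat.beq (actR12 i) i) 0 15000 = true := by decide +kernel
theorem c_act12_1 : allRange (fun i => Nat.beq (actR12 i) i) 15000 15000 = true := by decide +kernel
theorem c_act12_2 : allRange (fun i => Nat.beq (actR12 i) i) 30000 15000 = true := by decide +kernel
theorem c_act12_3 : allRange (fun i => Nat.beq (actR12 i) i) 45000 15000 = true := by decide +kernel
theorem c_act12_4 : allRange (fun i => Nat.beq (actR12 i) i) 60000 15000 = true := by decide +kernel
theorem c_act12_5 : allRange (fun i => Nat.beq (actR12 i) i) 75000 15000 = true := by decide +kernel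
theorem c_act12_6 : allRange (fun i => Nat.beq (actR12 i) i) 90000 15000 = true := by decide +kernel
theorem c_act12_7 : allRange (fun i => Nat.beq (actR12 i) i) 105000 15000 = true := by decide +kernel
theorem c_act12_8 : allRange (fun i => Nat.beq (actR12 i) i) 120000 15000 = true := by decide +kernel
theorem c_act12_9 : allRange (fun i => Nat.beq (actR12 i) i) 135000 15000 = true := by decide +kernel
theorem c_act12_10 : allRange (fun i => Nat.beq (actR12 i) i) 150000 15000 = true := by decide +kernel
theorem c_act12_11 : allRange (fun i => Nat.beq (actR12 i) i) 165000 15000 = true := by decide +kernel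
theorem c_act12_12 : allRange (fun i => Nat.beq (actR12 i) i) 180000 5328 = true := by decide +kernel
theorem c_act13_0 : allRange (fun i => Nat.beq (actR13 i) i) 0 15000 = true := by decide +kernel
theorem c_act13_1 : allRange (fun i => Nat.beq (actR13 i) i) 15000 15000 = true := by decide +kernel
theorem c_act13_2 : allRange (fun i => Nat.beq (actR13 i) i) 30000 15000 = true := by decide +kernel
theorem c_act13_3 : allRange (fun i => Nat.beq (actR13 i) i) 45000 15000 = true := by decide +kernel
theorem c_act13_4 : allRange (fun i => Nat.beq (actR13 i) i) 60000 15000 = true := by decide +kernel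
theorem c_act13_5 : allRange (fun i => Nat.beq (actR13 i) i) 75000 15000 = true := by decide +kernel
theorem c_act13_6 : allRange (fun i => Nat.beq (actR13 i) i) 90000 15000 = true := by decide +kernel
theorem c_act13_7 : allRange (fun i => Nat.beq (actR13 i) i) 105000 15000 = true := by decide +kernel
theorem c_act13_8 : allRange (fun i => Nat.beq (actR13 i) i) 120000 15000 = true := by decide +kernel
theorem c_act13_9 : allRange (fun i => Nat.beq (actR13 i) i) 135000 15000 = true := by decide +kernel
theorem c_act13_10 : allRange (fun i => Nat.beq (actR13 i) i) 150000 15000 = true := by decide +kernel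
theorem c_act13_11 : allRange (fun i => Nat.beq (actR13 i) i) 165000 15000 = true := by decide +kernel
theorem c_act13_12 : allRange (fun i => Nat.beq (actR13 i) i) 180000 5328 = true := by decide +kernel
theorem c_act14_0 : allRange (fun i => Nat.beq (actR14 i) i) 0 15000 = true := by decide +kernel
theorem c_act14_1 : allRange (fun i => Nat.beq (actR14 i) i) 15000 15000 = true := by decide +kernel
theorem c_act14_2 : allRange (fun i => Nat.beq (actR14 i) i) 30000 15000 = true := by decide +kernel
theorem c_act14_3 : allRange (fun i => Nat.beq (actR14 i) i) 45000 15000 = true := by decide +kernel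
theorem c_act14_4 : allRange (fun i => Nat.beq (actR14 i) i) 60000 15000 = true := by decide +kernel
theorem c_act14_5 : allRange (fun i => Nat.beq (actR14 i) i) 75000 15000 = true := by decide +kernel
theorem c_act14_6 : allRange (fun i => Nat.beq (actR14 i) i) 90000 15000 = true := by decide +kernel
theorem c_act14_7 : allRange (fun i => Nat.beq (actR14 i) i) 105000 15000 = true := by decide +kernel
theorem c_act14_8 : allRange (fun i => Nat.beq (actR14 i) i) 120000 15000 = true := by decide +kernel
theorem c_act14_9 : allRange (fun i => Nat.beq (actR14 i) i) 135000 15000 = true := by decide +kernel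
theorem c_act14_10 : allRange (fun i => Nat.beq (actR14 i) i) 150000 15000 = true := by decide +kernel
theorem c_act14_11 : allRange (fun i => Nat.beq (actR14 i) i) 165000 15000 = true := by decide +kernel
theorem c_act14_12 : allRange (fun i => Nat.beq (actR14 i) i) 180000 5328 = true := by decide +kernel
theorem c_act15_0 : allRange (fun i => Nat.beq (actR15 i) i) 0 15000 = true := by decide +kernel
theorem c_act15_1 : allRange (fun i => Nat.beq (actR15 i) i) 15000 15000 = true := by decide +kernel
theorem c_act15_2 : allRange (fun i => Nat.beq (actR15 i) i) 30000 15000 = true := by decide +kernel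
theorem c_act15_3 : allRange (fun i => Nat.beq (actR15 i) i) 45000 15000 = true := by decide +kernel
theorem c_act15_4 : allRange (fun i => Nat.beq (actR15 i) i) 60000 15000 = true := by decide +kernel
theorem c_act15_5 : allRange (fun i => Nat.beq (actR15 i) i) 75000 15000 = true := by decide +kernel
theorem c_act15_6 : allRange (fun i => Nat.beq (actR15 i) i) 90000 15000 = true := by decide +kernel
theorem c_act15_7 : allRange (fun i => Nat.beq (actR15 i) i) 105000 15000 = true := by decide +kernel
theorem c_act15_8 : allRange (fun i => Nat.beq (actR15 i) i) 120000 15000 = true := by decide +kernel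
theorem c_act15_9 : allRange (fun i => Nat.beq (actR15 i) i) 135000 15000 = true := by decide +kernel
theorem c_act15_10 : allRange (fun i => Nat.beq (actR15 i) i) 150000 15000 = true := by decide +kernel
theorem c_act15_11 : allRange (fun i => Nat.beq (actR15 i) i) 165000 15000 = true := by decide +kernel
theorem c_act15_12 : allRange (fun i => Nat.beq (actR15 i) i) 180000 5328 = true := by decide +kernel
theorem c_act16_0 : allRange (fun i => Nat.beq (actR16 i) i) 0 15000 = true := by decide +kernel
theorem c_act16_1 : allRange (fun i => Nat.beq (actR16 i) i) 15000 15000 = true := by decide +kernel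
theorem c_act16_2 : allRange (fun i => Nat.beq (actR16 i) i) 30000 15000 = true := by decide +kernel
theorem c_act16_3 : allRange (fun i => Nat.beq (actR16 i) i) 45000 15000 = true := by decide +kernel
theorem c_act16_4 : allRange (fun i => Nat.beq (actR16 i) i) 60000 15000 = true := by decide +kernel
theorem c_act16_5 : allRange (fun i => Nat.beq (actR16 i) i) 75000 15000 = true := by decide +kernel
theorem c_act16_6 : allRange (fun i => Nat.beq (actR16 i) i) 90000 15000 = true := by decide +kernel
theorem c_act16_7 : allRange (fun i => Nat.beq (actR16 i) i) 105000 15000 = true := by decide +kernel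
theorem c_act16_8 : allRange (fun i => Nat.beq (actR16 i) i) 120000 15000 = true := by decide +kernel
theorem c_act16_9 : allRange (fun i => Nat.beq (actR16 i) i) 135000 15000 = true := by decide +kernel
theorem c_act16_10 : allRange (fun i => Nat.beq (actR16 i) i) 150000 15000 = true := by decide +kernel
theorem c_act16_11 : allRange (fun i => Nat.beq (actR16 i) i) 165000 15000 = true := by decide +kernel
theorem c_act16_12 : allRange (fun i => Nat.beq (actR16 i) i) 180000 5328 = true := by decide +kernel
theorem c_act17_0 : allRange (fun i => Nat.beq (actR17 i) i) 0 30000 = true := by decide +kernel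
theorem c_act17_1 : allRange (fun i => Nat.beq (actR17 i) i) 30000 30000 = true := by decide +kernel
theorem c_act17_2 : allRange (fun i => Nat.beq (actR17 i) i) 60000 30000 = true := by decide +kernel
theorem c_act17_3 : allRange (fun i => Nat.beq (actR17 i) i) 90000 30000 = true := by decide +kernel
theorem c_act17_4 : allRange (fun i => Nat.beq (actR17 i) i) 120000 30000 = true := by decide +kernel
theorem c_act17_5 : allRange (fun i => Nat.beq (actR17 i) i) 150000 30000 = true := by decide +kernel
theorem c_act17_6 : allRange (fun i => Nat.beq (actR17 i) i) 180000 5328 = true := by decide +kernel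
theorem c_act18_0 : allRange (fun i => Nat.beq (actR18 i) i) 0 10000 = true := by decide +kernel
theorem c_act18_1 : allRange (fun i => Nat.beq (actR18 i) i) 10000 10000 = true := by decide +kernel
theorem c_act18_2 : allRange (fun i => Nat.beq (actR18 i) i) 20000 10000 = true := by decide +kernel
theorem c_act18_3 : allRange (fun i => Nat.beq (actR18 i) i) 30000 10000 = true := by decide +kernel
theorem c_act18_4 : allRange (fun i => Nat.beq (actR18 i) i) 40000 10000 = true := by decide +kernel
theorem c_act18_5 : allRange (fun i => Nat.beq (actR18 i) i) 50000 10000 = true := by decide +kernel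
theorem c_act18_6 : allRange (fun i => Nat.beq (actR18 i) i) 60000 10000 = true := by decide +kernel
theorem c_act18_7 : allRange (fun i => Nat.beq (actR18 i) i) 70000 10000 = true := by decide +kernel
theorem c_act18_8 : allRange (fun i => Nat.beq (actR18 i) i) 80000 10000 = true := by decide +kernel
theorem c_act18_9 : allRange (fun i => Nat.beq (actR18 i) i) 90000 10000 = true := by decide +kernel
theorem c_act18_10 : allRange (fun i => Nat.beq (actR18 i) i) 100000 10000 = true := by decide +kernel
theorem c_act18_11 : allRange (fun i => Nat.beq (actR18 i) i) 110000 10000 = true := by decide +kernel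
theorem c_act18_12 : allRange (fun i => Nat.beq (actR18 i) i) 120000 10000 = true := by decide +kernel
theorem c_act18_13 : allRange (fun i => Nat.beq (actR18 i) i) 130000 10000 = true := by decide +kernel
theorem c_act18_14 : allRange (fun i => Nat.beq (actR18 i) i) 140000 10000 = true := by decide +kernel
theorem c_act18_15 : allRange (fun i => Nat.beq (actR18 i) i) 150000 10000 = true := by decide +kernel
theorem c_act18_16 : allRange (fun i => Nat.beq (actR18 i) i) 160000 10000 = true := by decide +kernel
theorem c_act18_17 : allRange (fun i => Nat.beq (actR18 i) i) 170000 10000 = true := by decide +kernel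
theorem c_act18_18 : allRange (fun i => Nat.beq (actR18 i) i) 180000 5328 = true := by decide +kernel
theorem c_act19_0 : allRange (fun i => Nat.beq (actR19 i) i) 0 15000 = true := by decide +kernel
theorem c_act19_1 : allRange (fun i => Nat.beq (actR19 i) i) 15000 15000 = true := by decide +kernel
theorem c_act19_2 : allRange (fun i => Nat.beq (actR19 i) i) 30000 15000 = true := by decide +kernel
theorem c_act19_3 : allRange (fun i => Nat.beq (actR19 i) i) 45000 15000 = true := by decide +kernel

end Cfsg.Agent.Lib.Helper4.TCD.C3Fi22yR
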