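import Cfsg.Agent.Lib.Helper4.TCD_C3Fi22yR_Acc

namespace Cfsg.Agent.Lib.Helper4.TCD.C3Fi22yR

open Cfsg.Agent.Lib.Helper4.TC

set_option maxRecDepth 100000
set_option Elab.async false

theorem c_act65_17 : allRange (fun i => Nat.beq (actR65 i) i) 92718 5454 = true := by decide +kernel
theorem c_act65_18 : allRange (fun i => Nat.beq (actR65 i) i) 98172 5454 = true := by decide +kernel
theorem c_act65_19 : allRange (fun i => Nat.beq (actR65 i) i) 103626 5454 = true := by decide +kernel
theorem c_act65_20 : allRange (fun i => Nat.beq (actR65 i) i) 109080 5454 = true := by decide +kernel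
theorem c_act65_21 : allRange (fun i => Nat.beq (actR65 i) i) 114534 5454 = true := by decide +kernel
theorem c_act65_22 : allRange (fun i => Nat.beq (actR65 i) i) 119988 5454 = true := by decide +kernel
theorem c_act65_23 : allRange (fun i => Nat.beq (actR65 i) i) 125442 5454 = true := by decide +kernel
theorem c_act65_24 : allRange (fun i => Nat.beq (actR65 i) i) 130896 5454 = true := by decide +kernel
theorem c_act65_25 : allRange (fun i => Nat.beq (actR65 i) i) 136350 5454 = true := by decide +kernel
theorem c_act65_26 : allRange (fun i => Nat.beq (actR65 i) i) 141804 5454 = true := by decide +kernel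
theorem c_act65_27 : allRange (fun i => Nat.beq (actR65 i) i) 147258 5454 = true := by decide +kernel
theorem c_act65_28 : allRange (fun i => Nat.beq (actR65 i) i) 152712 5454 = true := by decide +kernel
theorem c_act65_29 : allRange (fun i => Nat.beq (actR65 i) i) 158166 5454 = true := by decide +kernel
theorem c_act65_30 : allRange (fun i => Nat.beq (actR65 i) i) 163620 5454 = true := by decide +kernel
theorem c_act65_31 : allRange (fun i => Nat.beq (actR65 i) i) 169074 5454 = true := by decide +kernel
theorem c_act65_32 : allRange (fun i => Nat.beq (actR65 i) i) 174528 5454 = true := by decide +kernel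
theorem c_act65_33 : allRange (fun i => Nat.beq (actR65 i) i) 179982 5346 = true := by decide +kernel
theorem c_act66_0 : allRange (fun i => Nat.beq (actR66 i) i) 0 5000 = true := by decide +kernel
theorem c_act66_1 : allRange (fun i => Nat.beq (actR66 i) i) 5000 5000 = true := by decide +kernel
theorem c_act66_2 : allRange (fun i => Nat.beq (actR66 i) i) 10000 5000 = true := by decide +kernel
theorem c_act66_3 : allRange (fun i => Nat.beq (actR66 i) i) 15000 5000 = true := by decide +kernel
theorem c_act66_4 : allRange (fun i => Nat.beq (actR66 i) i) 20000 5000 = true := by decide +kernel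
theorem c_act66_5 : allRange (fun i => Nat.beq (actR66 i) i) 25000 5000 = true := by decide +kernel
theorem c_act66_6 : allRange (fun i => Nat.beq (actR66 i) i) 30000 5000 = true := by decide +kernel
theorem c_act66_7 : allRange (fun i => Nat.beq (actR66 i) i) 35000 5000 = true := by decide +kernel
theorem c_act66_8 : allRange (fun i => Nat.beq (actR66 i) i) 40000 5000 = true := by decide +kernel
theorem c_act66_9 : allRange (fun i => Nat.beq (actR66 i) i) 45000 5000 = true := by decide +kernel
theorem c_act66_10 : allRange (fun i => Nat.beq (actR66 i) i) 50000 5000 = true := by decide +kernel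
theorem c_act66_11 : allRange (fun i => Nat.beq (actR66 i) i) 55000 5000 = true := by decide +kernel
theorem c_act66_12 : allRange (fun i => Nat.beq (actR66 i) i) 60000 5000 = true := by decide +kernel
theorem c_act66_13 : allRange (fun i => Nat.beq (actR66 i) i) 65000 5000 = true := by decide +kernel
theorem c_act66_14 : allRange (fun i => Nat.beq (actR66 i) i) 70000 5000 = true := by decide +kernel
theorem c_act66_15 : allRange (fun i => Nat.beq (actR66 i) i) 75000 5000 = true := by decide +kernel
theorem c_act66_16 : allRange (fun i => Nat.beq (actR66 i) i) 80000 5000 = true := by decide +kernel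
theorem c_act66_17 : allRange (fun i => Nat.beq (actR66 i) i) 85000 5000 = true := by decide +kernel
theorem c_act66_18 : allRange (fun i => Nat.beq (actR66 i) i) 90000 5000 = true := by decide +kernel
theorem c_act66_19 : allRange (fun i => Nat.beq (actR66 i) i) 95000 5000 = true := by decide +kernel
theorem c_act66_20 : allRange (fun i => Nat.beq (actR66 i) i) 100000 5000 = true := by decide +kernel
theorem c_act66_21 : allRange (fun i => Nat.beq (actR66 i) i) 105000 5000 = true := by decide +kernel
theorem c_act66_22 : allRange (fun i => Nat.beq (actR66 i) i) 110000 5000 = true := by decide +kernel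
theorem c_act66_23 : allRange (fun i => Nat.beq (actR66 i) i) 115000 5000 = true := by decide +kernel
theorem c_act66_24 : allRange (fun i => Nat.beq (actR66 i) i) 120000 5000 = true := by decide +kernel
theorem c_act66_25 : allRange (fun i => Nat.beq (actR66 i) i) 125000 5000 = true := by decide +kernel
theorem c_act66_26 : allRange (fun i => Nat.beq (actR66 i) i) 130000 5000 = true := by decide +kernel
theorem c_act66_27 : allRange (fun i => Nat.beq (actR66 i) i) 135000 5000 = true := by decide +kernel
theorem c_act66_28 : allRange (fun i => Nat.beq (actR66 i) i) 140000 5000 = true := by decide +kernel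
theorem c_act66_29 : allRange (fun i => Nat.beq (actR66 i) i) 145000 5000 = true := by decide +kernel
theorem c_act66_30 : allRange (fun i => Nat.beq (actR66 i) i) 150000 5000 = true := by decide +kernel
theorem c_act66_31 : allRange (fun i => Nat.beq (actR66 i) i) 155000 5000 = true := by decide +kernel
theorem c_act66_32 : allRange (fun i => Nat.beq (actR66 i) i) 160000 5000 = true := by decide +kernel
theorem c_act66_33 : allRange (fun i => Nat.beq (actR66 i) i) 165000 5000 = true := by decide +kernel
theorem c_act66_34 : allRange (fun i => Nat.beq (actR66 i) i) 170000 5000 = true := by decide +kernel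
theorem c_act66_35 : allRange (fun i => Nat.beq (actR66 i) i) 175000 5000 = true := by decide +kernel
theorem c_act66_36 : allRange (fun i => Nat.beq (actR66 i) i) 180000 5000 = true := by decide +kernel
theorem c_act66_37 : allRange (fun i => Nat.beq (actR66 i) i) 185000 328 = true := by decide +kernel
theorem c_act67_0 : allRange (fun i => Nat.beq (actR67 i) i) 0 5000 = true := by decide +kernel
theorem c_act67_1 : allRange (fun i => Nat.beq (actR67 i) i) 5000 5000 = true := by decide +kernel
theorem c_act67_2 : allRange (fun i => Nat.beq (actR67 i) i) 10000 5000 = true := by decide +kernel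
theorem c_act67_3 : allRange (fun i => Nat.beq (actR67 i) i) 15000 5000 = true := by decide +kernel
theorem c_act67_4 : allRange (fun i => Nat.beq (actR67 i) i) 20000 5000 = true := by decide +kernel
theorem c_act67_5 : allRange (fun i => Nat.beq (actR67 i) i) 25000 5000 = true := by decide +kernel
theorem c_act67_6 : allRange (fun i => Nat.beq (actR67 i) i) 30000 5000 = true := by decide +kernel
theorem c_act67_7 : allRange (fun i => Nat.beq (actR67 i) i) 35000 5000 = true := by decide +kernel
theorem c_act67_8 : allRange (fun i => Nat.beq (actR67 i) i) 40000 5000 = true := by decide +kernel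
theorem c_act67_9 : allRange (fun i => Nat.beq (actR67 i) i) 45000 5000 = true := by decide +kernel
theorem c_act67_10 : allRange (fun i => Nat.beq (actR67 i) i) 50000 5000 = true := by decide +kernel
theorem c_act67_11 : allRange (fun i => Nat.beq (actR67 i) i) 55000 5000 = true := by decide +kernel
theorem c_act67_12 : allRange (fun i => Nat.beq (actR67 i) i) 60000 5000 = true := by decide +kernel
theorem c_act67_13 : allRange (fun i => Nat.beq (actR67 i) i) 65000 5000 = true := by decide +kernel
theorem c_act67_14 : allRange (fun i => Nat.beq (actR67 i) i) 70000 5000 = true := by decide +kernel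
theorem c_act67_15 : allRange (fun i => Nat.beq (actR67 i) i) 75000 5000 = true := by decide +kernel
theorem c_act67_16 : allRange (fun i => Nat.beq (actR67 i) i) 80000 5000 = true := by decide +kernel
theorem c_act67_17 : allRange (fun i => Nat.beq (actR67 i) i) 85000 5000 = true := by decide +kernel
theorem c_act67_18 : allRange (fun i => Nat.beq (actR67 i) i) 90000 5000 = true := by decide +kernel
theorem c_act67_19 : allRange (fun i => Nat.beq (actR67 i) i) 95000 5000 = true := by decide +kernel
theorem c_act67_20 : allRange (fun i => Nat.beq (actR67 i) i) 100000 5000 = true := by decide +kernel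
theorem c_act67_21 : allRange (fun i => Nat.beq (actR67 i) i) 105000 5000 = true := by decide +kernel
theorem c_act67_22 : allRange (fun i => Nat.beq (actR67 i) i) 110000 5000 = true := by decide +kernel
theorem c_act67_23 : allRange (fun i => Nat.beq (actR67 i) i) 115000 5000 = true := by decide +kernel
theorem c_act67_24 : allRange (fun i => Nat.beq (actR67 i) i) 120000 5000 = true := by decide +kernel
theorem c_act67_25 : allRange (fun i => Nat.beq (actR67 i) i) 125000 5000 = true := by decide +kernel
theorem c_act67_26 : allRange (fun i => Nat.beq (actR67 i) i) 130000 5000 = true := by decide +kernel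
theorem c_act67_27 : allRange (fun i => Nat.beq (actR67 i) i) 135000 5000 = true := by decide +kernel
theorem c_act67_28 : allRange (fun i => Nat.beq (actR67 i) i) 140000 5000 = true := by decide +kernel
theorem c_act67_29 : allRange (fun i => Nat.beq (actR67 i) i) 145000 5000 = true := by decide +kernel
theorem c_act67_30 : allRange (fun i => Nat.beq (actR67 i) i) 150000 5000 = true := by decide +kernel
theorem c_act67_31 : allRange (fun i => Nat.beq (actR67 i) i) 155000 5000 = true := by decide +kernel
theorem c_act67_32 : allRange (fun i => Nat.beq (actR67 i) i) 160000 5000 = true := by decide +kernel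
theorem c_act67_33 : allRange (fun i => Nat.beq (actR67 i) i) 165000 5000 = true := by decide +kernel
theorem c_act67_34 : allRange (fun i => Nat.beq (actR67 i) i) 170000 5000 = true := by decide +kernel
theorem c_act67_35 : allRange (fun i => Nat.beq (actR67 i) i) 175000 5000 = true := by decide +kernel
theorem c_act67_36 : allRange (fun i => Nat.beq (actR67 i) i) 180000 5000 = true := by decide +kernel
theorem c_act67_37 : allRange (fun i => Nat.beq (actR67 i) i) 185000 328 = true := by decide +kernel
theorem c_act68_0 : allRange (fun i => Nat.beq (actR68 i) i) 0 5000 = true := by decide +kernel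
theorem c_act68_1 : allRange (fun i => Nat.beq (actR68 i) i) 5000 5000 = true := by decide +kernel
theorem c_act68_2 : allRange (fun i => Nat.beq (actR68 i) i) 10000 5000 = true := by decide +kernel
theorem c_act68_3 : allRange (fun i => Nat.beq (actR68 i) i) 15000 5000 = true := by decide +kernel
theorem c_act68_4 : allRange (fun i => Nat.beq (actR68 i) i) 20000 5000 = true := by decide +kernel
theorem c_act68_5 : allRange (fun i => Nat.beq (actR68 i) i) 25000 5000 = true := by decide +kernel
theorem c_act68_6 : allRange (fun i => Nat.beq (actR68 i) i) 30000 5000 = true := by decide +kernel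
theorem c_act68_7 : allRange (fun i => Nat.beq (actR68 i) i) 35000 5000 = true := by decide +kernel

end Cfsg.Agent.Lib.Helper4.TCD.C3Fi22yR
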