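import Cfsg.Agent.Lib.Helper4.TCD_C3Fi22yR_Acc

namespace Cfsg.Agent.Lib.Helper4.TCD.C3Fi22yR

open Cfsg.Agent.Lib.Helper4.TC

set_option maxRecDepth 100000
set_option Elab.async false

theorem c_act68_8 : allRange (fun i => Nat.beq (actR68 i) i) 40000 5000 = true := by decide +kernel
theorem c_act68_9 : allRange (fun i => Nat.beq (actR68 i) i) 45000 5000 = true := by decide +kernel
theorem c_act68_10 : allRange (fun i => Nat.beq (actR68 i) i) 50000 5000 = true := by decide +kernel
theorem c_act68_11 : allRange (fun i => Nat.beq (actR68 i) i) 55000 5000 = true := by decide +kernel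
theorem c_act68_12 : allRange (fun i => Nat.beq (actR68 i) i) 60000 5000 = true := by decide +kernel
theorem c_act68_13 : allRange (fun i => Nat.beq (actR68 i) i) 65000 5000 = true := by decide +kernel
theorem c_act68_14 : allRange (fun i => Nat.beq (actR68 i) i) 70000 5000 = true := by decide +kernel
theorem c_act68_15 : allRange (fun i => Nat.beq (actR68 i) i) 75000 5000 = true := by decide +kernel
theorem c_act68_16 : allRange (fun i => Nat.beq (actR68 i) i) 80000 5000 = true := by decide +kernel
theorem c_act68_17 : allRange (fun i => Nat.beq (actR68 i) i) 85000 5000 = true := by decide +kernel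
theorem c_act68_18 : allRange (fun i => Nat.beq (actR68 i) i) 90000 5000 = true := by decide +kernel
theorem c_act68_19 : allRange (fun i => Nat.beq (actR68 i) i) 95000 5000 = true := by decide +kernel
theorem c_act68_20 : allRange (fun i => Nat.beq (actR68 i) i) 100000 5000 = true := by decide +kernel
theorem c_act68_21 : allRange (fun i => Nat.beq (actR68 i) i) 105000 5000 = true := by decide +kernel
theorem c_act68_22 : allRange (fun i => Nat.beq (actR68 i) i) 110000 5000 = true := by decide +kernel
theorem c_act68_23 : allRange (fun i => Nat.beq (actR68 i) i) 115000 5000 = true := by decide +kernel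
theorem c_act68_24 : allRange (fun i => Nat.beq (actR68 i) i) 120000 5000 = true := by decide +kernel
theorem c_act68_25 : allRange (fun i => Nat.beq (actR68 i) i) 125000 5000 = true := by decide +kernel
theorem c_act68_26 : allRange (fun i => Nat.beq (actR68 i) i) 130000 5000 = true := by decide +kernel
theorem c_act68_27 : allRange (fun i => Nat.beq (actR68 i) i) 135000 5000 = true := by decide +kernel
theorem c_act68_28 : allRange (fun i => Nat.beq (actR68 i) i) 140000 5000 = true := by decide +kernel
theorem c_act68_29 : allRange (fun i => Nat.beq (actR68 i) i) 145000 5000 = true := by decide +kernel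
theorem c_act68_30 : allRange (fun i => Nat.beq (actR68 i) i) 150000 5000 = true := by decide +kernel
theorem c_act68_31 : allRange (fun i => Nat.beq (actR68 i) i) 155000 5000 = true := by decide +kernel
theorem c_act68_32 : allRange (fun i => Nat.beq (actR68 i) i) 160000 5000 = true := by decide +kernel
theorem c_act68_33 : allRange (fun i => Nat.beq (actR68 i) i) 165000 5000 = true := by decide +kernel
theorem c_act68_34 : allRange (fun i => Nat.beq (actR68 i) i) 170000 5000 = true := by decide +kernel
theorem c_act68_35 : allRange (fun i => Nat.beq (actR68 i) i) 175000 5000 = true := by decide +kernel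
theorem c_act68_36 : allRange (fun i => Nat.beq (actR68 i) i) 180000 5000 = true := by decide +kernel
theorem c_act68_37 : allRange (fun i => Nat.beq (actR68 i) i) 185000 328 = true := by decide +kernel
theorem c_act69_0 : allRange (fun i => Nat.beq (actR69 i) i) 0 5000 = true := by decide +kernel
theorem c_act69_1 : allRange (fun i => Nat.beq (actR69 i) i) 5000 5000 = true := by decide +kernel
theorem c_act69_2 : allRange (fun i => Nat.beq (actR69 i) i) 10000 5000 = true := by decide +kernel
theorem c_act69_3 : allRange (fun i => Nat.beq (actR69 i) i) 15000 5000 = true := by decide +kernel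
theorem c_act69_4 : allRange (fun i => Nat.beq (actR69 i) i) 20000 5000 = true := by decide +kernel
theorem c_act69_5 : allRange (fun i => Nat.beq (actR69 i) i) 25000 5000 = true := by decide +kernel
theorem c_act69_6 : allRange (fun i => Nat.beq (actR69 i) i) 30000 5000 = true := by decide +kernel
theorem c_act69_7 : allRange (fun i => Nat.beq (actR69 i) i) 35000 5000 = true := by decide +kernel
theorem c_act69_8 : allRange (fun i => Nat.beq (actR69 i) i) 40000 5000 = true := by decide +kernel
theorem c_act69_9 : allRange (fun i => Nat.beq (actR69 i) i) 45000 5000 = true := by decide +kernel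
theorem c_act69_10 : allRange (fun i => Nat.beq (actR69 i) i) 50000 5000 = true := by decide +kernel
theorem c_act69_11 : allRange (fun i => Nat.beq (actR69 i) i) 55000 5000 = true := by decide +kernel
theorem c_act69_12 : allRange (fun i => Nat.beq (actR69 i) i) 60000 5000 = true := by decide +kernel
theorem c_act69_13 : allRange (fun i => Nat.beq (actR69 i) i) 65000 5000 = true := by decide +kernel
theorem c_act69_14 : allRange (fun i => Nat.beq (actR69 i) i) 70000 5000 = true := by decide +kernel
theorem c_act69_15 : allRange (fun i => Nat.beq (actR69 i) i) 75000 5000 = true := by decide +kernel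
theorem c_act69_16 : allRange (fun i => Nat.beq (actR69 i) i) 80000 5000 = true := by decide +kernel
theorem c_act69_17 : allRange (fun i => Nat.beq (actR69 i) i) 85000 5000 = true := by decide +kernel
theorem c_act69_18 : allRange (fun i => Nat.beq (actR69 i) i) 90000 5000 = true := by decide +kernel
theorem c_act69_19 : allRange (fun i => Nat.beq (actR69 i) i) 95000 5000 = true := by decide +kernel
theorem c_act69_20 : allRange (fun i => Nat.beq (actR69 i) i) 100000 5000 = true := by decide +kernel
theorem c_act69_21 : allRange (fun i => Nat.beq (actR69 i) i) 105000 5000 = true := by decide +kernel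
theorem c_act69_22 : allRange (fun i => Nat.beq (actR69 i) i) 110000 5000 = true := by decide +kernel
theorem c_act69_23 : allRange (fun i => Nat.beq (actR69 i) i) 115000 5000 = true := by decide +kernel
theorem c_act69_24 : allRange (fun i => Nat.beq (actR69 i) i) 120000 5000 = true := by decide +kernel
theorem c_act69_25 : allRange (fun i => Nat.beq (actR69 i) i) 125000 5000 = true := by decide +kernel
theorem c_act69_26 : allRange (fun i => Nat.beq (actR69 i) i) 130000 5000 = true := by decide +kernel
theorem c_act69_27 : allRange (fun i => Nat.beq (actR69 i) i) 135000 5000 = true := by decide +kernel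
theorem c_act69_28 : allRange (fun i => Nat.beq (actR69 i) i) 140000 5000 = true := by decide +kernel
theorem c_act69_29 : allRange (fun i => Nat.beq (actR69 i) i) 145000 5000 = true := by decide +kernel
theorem c_act69_30 : allRange (fun i => Nat.beq (actR69 i) i) 150000 5000 = true := by decide +kernel
theorem c_act69_31 : allRange (fun i => Nat.beq (actR69 i) i) 155000 5000 = true := by decide +kernel
theorem c_act69_32 : allRange (fun i => Nat.beq (actR69 i) i) 160000 5000 = true := by decide +kernel
theorem c_act69_33 : allRange (fun i => Nat.beq (actR69 i) i) 165000 5000 = true := by decide +kernel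
theorem c_act69_34 : allRange (fun i => Nat.beq (actR69 i) i) 170000 5000 = true := by decide +kernel
theorem c_act69_35 : allRange (fun i => Nat.beq (actR69 i) i) 175000 5000 = true := by decide +kernel
theorem c_act69_36 : allRange (fun i => Nat.beq (actR69 i) i) 180000 5000 = true := by decide +kernel
theorem c_act69_37 : allRange (fun i => Nat.beq (actR69 i) i) 185000 328 = true := by decide +kernel
theorem c_act70_0 : allRange (fun i => Nat.beq (actR70 i) i) 0 4615 = true := by decide +kernel
theorem c_act70_1 : allRange (fun i => Nat.beq (actR70 i) i) 4615 4615 = true := by decide +kernel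
theorem c_act70_2 : allRange (fun i => Nat.beq (actR70 i) i) 9230 4615 = true := by decide +kernel
theorem c_act70_3 : allRange (fun i => Nat.beq (actR70 i) i) 13845 4615 = true := by decide +kernel
theorem c_act70_4 : allRange (fun i => Nat.beq (actR70 i) i) 18460 4615 = true := by decide +kernel
theorem c_act70_5 : allRange (fun i => Nat.beq (actR70 i) i) 23075 4615 = true := by decide +kernel
theorem c_act70_6 : allRange (fun i => Nat.beq (actR70 i) i) 27690 4615 = true := by decide +kernel
theorem c_act70_7 : allRange (fun i => Nat.beq (actR70 i) i) 32305 4615 = true := by decide +kernel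
theorem c_act70_8 : allRange (fun i => Nat.beq (actR70 i) i) 36920 4615 = true := by decide +kernel
theorem c_act70_9 : allRange (fun i => Nat.beq (actR70 i) i) 41535 4615 = true := by decide +kernel
theorem c_act70_10 : allRange (fun i => Nat.beq (actR70 i) i) 46150 4615 = true := by decide +kernel
theorem c_act70_11 : allRange (fun i => Nat.beq (actR70 i) i) 50765 4615 = true := by decide +kernel
theorem c_act70_12 : allRange (fun i => Nat.beq (actR70 i) i) 55380 4615 = true := by decide +kernel
theorem c_act70_13 : allRange (fun i => Nat.beq (actR70 i) i) 59995 4615 = true := by decide +kernel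
theorem c_act70_14 : allRange (fun i => Nat.beq (actR70 i) i) 64610 4615 = true := by decide +kernel
theorem c_act70_15 : allRange (fun i => Nat.beq (actR70 i) i) 69225 4615 = true := by decide +kernel
theorem c_act70_16 : allRange (fun i => Nat.beq (actR70 i) i) 73840 4615 = true := by decide +kernel
theorem c_act70_17 : allRange (fun i => Nat.beq (actR70 i) i) 78455 4615 = true := by decide +kernel
theorem c_act70_18 : allRange (fun i => Nat.beq (actR70 i) i) 83070 4615 = true := by decide +kernel
theorem c_act70_19 : allRange (fun i => Nat.beq (actR70 i) i) 87685 4615 = true := by decide +kernel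
theorem c_act70_20 : allRange (fun i => Nat.beq (actR70 i) i) 92300 4615 = true := by decide +kernel
theorem c_act70_21 : allRange (fun i => Nat.beq (actR70 i) i) 96915 4615 = true := by decide +kernel
theorem c_act70_22 : allRange (fun i => Nat.beq (actR70 i) i) 101530 4615 = true := by decide +kernel
theorem c_act70_23 : allRange (fun i => Nat.beq (actR70 i) i) 106145 4615 = true := by decide +kernel
theorem c_act70_24 : allRange (fun i => Nat.beq (actR70 i) i) 110760 4615 = true := by decide +kernel
theorem c_act70_25 : allRange (fun i => Nat.beq (actR70 i) i) 115375 4615 = true := by decide +kernel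
theorem c_act70_26 : allRange (fun i => Nat.beq (actR70 i) i) 119990 4615 = true := by decide +kernel
theorem c_act70_27 : allRange (fun i => Nat.beq (actR70 i) i) 124605 4615 = true := by decide +kernel
theorem c_act70_28 : allRange (fun i => Nat.beq (actR70 i) i) 129220 4615 = true := by decide +kernel
theorem c_act70_29 : allRange (fun i => Nat.beq (actR70 i) i) 133835 4615 = true := by decide +kernel
theorem c_act70_30 : allRange (fun i => Nat.beq (actR70 i) i) 138450 4615 = true := by decide +kernel
theorem c_act70_31 : allRange (fun i => Nat.beq (actR70 i) i) 143065 4615 = true := by decide +kernel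
theorem c_act70_32 : allRange (fun i => Nat.beq (actR70 i) i) 147680 4615 = true := by decide +kernel

end Cfsg.Agent.Lib.Helper4.TCD.C3Fi22yR
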