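import Cfsg.Agent.Lib.Helper4.TCD_C3Fi22yR_Acc

namespace Cfsg.Agent.Lib.Helper4.TCD.C3Fi22yR

open Cfsg.Agent.Lib.Helper4.TC

set_option maxRecDepth 100000
set_option Elab.async false

theorem c_act70_33 : allRange (fun i => Nat.beq (actR70 i) i) 152295 4615 = true := by decide +kernel
theorem c_act70_34 : allRange (fun i => Nat.beq (actR70 i) i) 156910 4615 = true := by decide +kernel
theorem c_act70_35 : allRange (fun i => Nat.beq (actR70 i) i) 161525 4615 = true := by decide +kernel
theorem c_act70_36 : allRange (fun i => Nat.beq (actR70 i) i) 166140 4615 = true := by decide +kernel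
theorem c_act70_37 : allRange (fun i => Nat.beq (actR70 i) i) 170755 4615 = true := by decide +kernel
theorem c_act70_38 : allRange (fun i => Nat.beq (actR70 i) i) 175370 4615 = true := by decide +kernel
theorem c_act70_39 : allRange (fun i => Nat.beq (actR70 i) i) 179985 4615 = true := by decide +kernel
theorem c_act70_40 : allRange (fun i => Nat.beq (actR70 i) i) 184600 728 = true := by decide +kernel
theorem c_act71_0 : allRange (fun i => Nat.beq (actR71 i) i) 0 4285 = true := by decide +kernel
theorem c_act71_1 : allRange (fun i => Nat.beq (actR71 i) i) 4285 4285 = true := by decide +kernel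
theorem c_act71_2 : allRange (fun i => Nat.beq (actR71 i) i) 8570 4285 = true := by decide +kernel
theorem c_act71_3 : allRange (fun i => Nat.beq (actR71 i) i) 12855 4285 = true := by decide +kernel
theorem c_act71_4 : allRange (fun i => Nat.beq (actR71 i) i) 17140 4285 = true := by decide +kernel
theorem c_act71_5 : allRange (fun i => Nat.beq (actR71 i) i) 21425 4285 = true := by decide +kernel
theorem c_act71_6 : allRange (fun i => Nat.beq (actR71 i) i) 25710 4285 = true := by decide +kernel
theorem c_act71_7 : allRange (fun i => Nat.beq (actR71 i) i) 29995 4285 = true := by decide +kernel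
theorem c_act71_8 : allRange (fun i => Nat.beq (actR71 i) i) 34280 4285 = true := by decide +kernel
theorem c_act71_9 : allRange (fun i => Nat.beq (actR71 i) i) 38565 4285 = true := by decide +kernel
theorem c_act71_10 : allRange (fun i => Nat.beq (actR71 i) i) 42850 4285 = true := by decide +kernel
theorem c_act71_11 : allRange (fun i => Nat.beq (actR71 i) i) 47135 4285 = true := by decide +kernel
theorem c_act71_12 : allRange (fun i => Nat.beq (actR71 i) i) 51420 4285 = true := by decide +kernel
theorem c_act71_13 : allRange (fun i => Nat.beq (actR71 i) i) 55705 4285 = true := by decide +kernel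
theorem c_act71_14 : allRange (fun i => Nat.beq (actR71 i) i) 59990 4285 = true := by decide +kernel
theorem c_act71_15 : allRange (fun i => Nat.beq (actR71 i) i) 64275 4285 = true := by decide +kernel
theorem c_act71_16 : allRange (fun i => Nat.beq (actR71 i) i) 68560 4285 = true := by decide +kernel
theorem c_act71_17 : allRange (fun i => Nat.beq (actR71 i) i) 72845 4285 = true := by decide +kernel
theorem c_act71_18 : allRange (fun i => Nat.beq (actR71 i) i) 77130 4285 = true := by decide +kernel
theorem c_act71_19 : allRange (fun i => Nat.beq (actR71 i) i) 81415 4285 = true := by decide +kernel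
theorem c_act71_20 : allRange (fun i => Nat.beq (actR71 i) i) 85700 4285 = true := by decide +kernel
theorem c_act71_21 : allRange (fun i => Nat.beq (actR71 i) i) 89985 4285 = true := by decide +kernel
theorem c_act71_22 : allRange (fun i => Nat.beq (actR71 i) i) 94270 4285 = true := by decide +kernel
theorem c_act71_23 : allRange (fun i => Nat.beq (actR71 i) i) 98555 4285 = true := by decide +kernel
theorem c_act71_24 : allRange (fun i => Nat.beq (actR71 i) i) 102840 4285 = true := by decide +kernel
theorem c_act71_25 : allRange (fun i => Nat.beq (actR71 i) i) 107125 4285 = true := by decide +kernel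
theorem c_act71_26 : allRange (fun i => Nat.beq (actR71 i) i) 111410 4285 = true := by decide +kernel
theorem c_act71_27 : allRange (fun i => Nat.beq (actR71 i) i) 115695 4285 = true := by decide +kernel
theorem c_act71_28 : allRange (fun i => Nat.beq (actR71 i) i) 119980 4285 = true := by decide +kernel
theorem c_act71_29 : allRange (fun i => Nat.beq (actR71 i) i) 124265 4285 = true := by decide +kernel
theorem c_act71_30 : allRange (fun i => Nat.beq (actR71 i) i) 128550 4285 = true := by decide +kernel
theorem c_act71_31 : allRange (fun i => Nat.beq (actR71 i) i) 132835 4285 = true := by decide +kernel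
theorem c_act71_32 : allRange (fun i => Nat.beq (actR71 i) i) 137120 4285 = true := by decide +kernel
theorem c_act71_33 : allRange (fun i => Nat.beq (actR71 i) i) 141405 4285 = true := by decide +kernel
theorem c_act71_34 : allRange (fun i => Nat.beq (actR71 i) i) 145690 4285 = true := by decide +kernel
theorem c_act71_35 : allRange (fun i => Nat.beq (actR71 i) i) 149975 4285 = true := by decide +kernel
theorem c_act71_36 : allRange (fun i => Nat.beq (actR71 i) i) 154260 4285 = true := by decide +kernel
theorem c_act71_37 : allRange (fun i => Nat.beq (actR71 i) i) 158545 4285 = true := by decide +kernel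
theorem c_act71_38 : allRange (fun i => Nat.beq (actR71 i) i) 162830 4285 = true := by decide +kernel
theorem c_act71_39 : allRange (fun i => Nat.beq (actR71 i) i) 167115 4285 = true := by decide +kernel
theorem c_act71_40 : allRange (fun i => Nat.beq (actR71 i) i) 171400 4285 = true := by decide +kernel
theorem c_act71_41 : allRange (fun i => Nat.beq (actR71 i) i) 175685 4285 = true := by decide +kernel
theorem c_act71_42 : allRange (fun i => Nat.beq (actR71 i) i) 179970 4285 = true := by decide +kernel
theorem c_act71_43 : allRange (fun i => Nat.beq (actR71 i) i) 184255 1073 = true := by decide +kernel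
theorem c_act72_0 : allRange (fun i => Nat.beq (actR72 i) i) 0 4285 = true := by decide +kernel
theorem c_act72_1 : allRange (fun i => Nat.beq (actR72 i) i) 4285 4285 = true := by decide +kernel
theorem c_act72_2 : allRange (fun i => Nat.beq (actR72 i) i) 8570 4285 = true := by decide +kernel
theorem c_act72_3 : allRange (fun i => Nat.beq (actR72 i) i) 12855 4285 = true := by decide +kernel
theorem c_act72_4 : allRange (fun i => Nat.beq (actR72 i) i) 17140 4285 = true := by decide +kernel
theorem c_act72_5 : allRange (fun i => Nat.beq (actR72 i) i) 21425 4285 = true := by decide +kernel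
theorem c_act72_6 : allRange (fun i => Nat.beq (actR72 i) i) 25710 4285 = true := by decide +kernel
theorem c_act72_7 : allRange (fun i => Nat.beq (actR72 i) i) 29995 4285 = true := by decide +kernel
theorem c_act72_8 : allRange (fun i => Nat.beq (actR72 i) i) 34280 4285 = true := by decide +kernel
theorem c_act72_9 : allRange (fun i => Nat.beq (actR72 i) i) 38565 4285 = true := by decide +kernel
theorem c_act72_10 : allRange (fun i => Nat.beq (actR72 i) i) 42850 4285 = true := by decide +kernel
theorem c_act72_11 : allRange (fun i => Nat.beq (actR72 i) i) 47135 4285 = true := by decide +kernel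
theorem c_act72_12 : allRange (fun i => Nat.beq (actR72 i) i) 51420 4285 = true := by decide +kernel
theorem c_act72_13 : allRange (fun i => Nat.beq (actR72 i) i) 55705 4285 = true := by decide +kernel
theorem c_act72_14 : allRange (fun i => Nat.beq (actR72 i) i) 59990 4285 = true := by decide +kernel
theorem c_act72_15 : allRange (fun i => Nat.beq (actR72 i) i) 64275 4285 = true := by decide +kernel
theorem c_act72_16 : allRange (fun i => Nat.beq (actR72 i) i) 68560 4285 = true := by decide +kernel
theorem c_act72_17 : allRange (fun i => Nat.beq (actR72 i) i) 72845 4285 = true := by decide +kernel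
theorem c_act72_18 : allRange (fun i => Nat.beq (actR72 i) i) 77130 4285 = true := by decide +kernel
theorem c_act72_19 : allRange (fun i => Nat.beq (actR72 i) i) 81415 4285 = true := by decide +kernel
theorem c_act72_20 : allRange (fun i => Nat.beq (actR72 i) i) 85700 4285 = true := by decide +kernel
theorem c_act72_21 : allRange (fun i => Nat.beq (actR72 i) i) 89985 4285 = true := by decide +kernel
theorem c_act72_22 : allRange (fun i => Nat.beq (actR72 i) i) 94270 4285 = true := by decide +kernel
theorem c_act72_23 : allRange (fun i => Nat.beq (actR72 i) i) 98555 4285 = true := by decide +kernel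
theorem c_act72_24 : allRange (fun i => Nat.beq (actR72 i) i) 102840 4285 = true := by decide +kernel
theorem c_act72_25 : allRange (fun i => Nat.beq (actR72 i) i) 107125 4285 = true := by decide +kernel
theorem c_act72_26 : allRange (fun i => Nat.beq (actR72 i) i) 111410 4285 = true := by decide +kernel
theorem c_act72_27 : allRange (fun i => Nat.beq (actR72 i) i) 115695 4285 = true := by decide +kernel
theorem c_act72_28 : allRange (fun i => Nat.beq (actR72 i) i) 119980 4285 = true := by decide +kernel
theorem c_act72_29 : allRange (fun i => Nat.beq (actR72 i) i) 124265 4285 = true := by decide +kernel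
theorem c_act72_30 : allRange (fun i => Nat.beq (actR72 i) i) 128550 4285 = true := by decide +kernel
theorem c_act72_31 : allRange (fun i => Nat.beq (actR72 i) i) 132835 4285 = true := by decide +kernel
theorem c_act72_32 : allRange (fun i => Nat.beq (actR72 i) i) 137120 4285 = true := by decide +kernel
theorem c_act72_33 : allRange (fun i => Nat.beq (actR72 i) i) 141405 4285 = true := by decide +kernel
theorem c_act72_34 : allRange (fun i => Nat.beq (actR72 i) i) 145690 4285 = true := by decide +kernel
theorem c_act72_35 : allRange (fun i => Nat.beq (actR72 i) i) 149975 4285 = true := by decide +kernel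
theorem c_act72_36 : allRange (fun i => Nat.beq (actR72 i) i) 154260 4285 = true := by decide +kernel
theorem c_act72_37 : allRange (fun i => Nat.beq (actR72 i) i) 158545 4285 = true := by decide +kernel
theorem c_act72_38 : allRange (fun i => Nat.beq (actR72 i) i) 162830 4285 = true := by decide +kernel
theorem c_act72_39 : allRange (fun i => Nat.beq (actR72 i) i) 167115 4285 = true := by decide +kernel
theorem c_act72_40 : allRange (fun i => Nat.beq (actR72 i) i) 171400 4285 = true := by decide +kernel
theorem c_act72_41 : allRange (fun i => Nat.beq (actR72 i) i) 175685 4285 = true := by decide +kernel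
theorem c_act72_42 : allRange (fun i => Nat.beq (actR72 i) i) 179970 4285 = true := by decide +kernel
theorem c_act72_43 : allRange (fun i => Nat.beq (actR72 i) i) 184255 1073 = true := by decide +kernel
theorem c_act73_0 : allRange (fun i => Nat.beq (actR73 i) i) 0 4285 = true := by decide +kernel
theorem c_act73_1 : allRange (fun i => Nat.beq (actR73 i) i) 4285 4285 = true := by decide +kernel
theorem c_act73_2 : allRange (fun i => Nat.beq (actR73 i) i) 8570 4285 = true := by decide +kernel
theorem c_act73_3 : allRange (fun i => Nat.beq (actR73 i) i) 12855 4285 = true := by decide +kernel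
theorem c_act73_4 : allRange (fun i => Nat.beq (actR73 i) i) 17140 4285 = true := by decide +kernel
theorem c_act73_5 : allRange (fun i => Nat.beq (actR73 i) i) 21425 4285 = true := by decide +kernel

end Cfsg.Agent.Lib.Helper4.TCD.C3Fi22yR
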