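import Cfsg.Agent.Lib.Helper4.TCD_C3Fi22yR_Acc

namespace Cfsg.Agent.Lib.Helper4.TCD.C3Fi22yR

open Cfsg.Agent.Lib.Helper4.TC

set_option maxRecDepth 100000
set_option Elab.async false

theorem c_act73_6 : allRange (fun i => Nat.beq (actR73 i) i) 25710 4285 = true := by decide +kernel
theorem c_act73_7 : allRange (fun i => Nat.beq (actR73 i) i) 29995 4285 = true := by decide +kernel
theorem c_act73_8 : allRange (fun i => Nat.beq (actR73 i) i) 34280 4285 = true := by decide +kernel
theorem c_act73_9 : allRange (fun i => Nat.beq (actR73 i) i) 38565 4285 = true := by decide +kernel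
theorem c_act73_10 : allRange (fun i => Nat.beq (actR73 i) i) 42850 4285 = true := by decide +kernel
theorem c_act73_11 : allRange (fun i => Nat.beq (actR73 i) i) 47135 4285 = true := by decide +kernel
theorem c_act73_12 : allRange (fun i => Nat.beq (actR73 i) i) 51420 4285 = true := by decide +kernel
theorem c_act73_13 : allRange (fun i => Nat.beq (actR73 i) i) 55705 4285 = true := by decide +kernel
theorem c_act73_14 : allRange (fun i => Nat.beq (actR73 i) i) 59990 4285 = true := by decide +kernel
theorem c_act73_15 : allRange (fun i => Nat.beq (actR73 i) i) 64275 4285 = true := by decide +kernel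
theorem c_act73_16 : allRange (fun i => Nat.beq (actR73 i) i) 68560 4285 = true := by decide +kernel
theorem c_act73_17 : allRange (fun i => Nat.beq (actR73 i) i) 72845 4285 = true := by decide +kernel
theorem c_act73_18 : allRange (fun i => Nat.beq (actR73 i) i) 77130 4285 = true := by decide +kernel
theorem c_act73_19 : allRange (fun i => Nat.beq (actR73 i) i) 81415 4285 = true := by decide +kernel
theorem c_act73_20 : allRange (fun i => Nat.beq (actR73 i) i) 85700 4285 = true := by decide +kernel
theorem c_act73_21 : allRange (fun i => Nat.beq (actR73 i) i) 89985 4285 = true := by decide +kernel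
theorem c_act73_22 : allRange (fun i => Nat.beq (actR73 i) i) 94270 4285 = true := by decide +kernel
theorem c_act73_23 : allRange (fun i => Nat.beq (actR73 i) i) 98555 4285 = true := by decide +kernel
theorem c_act73_24 : allRange (fun i => Nat.beq (actR73 i) i) 102840 4285 = true := by decide +kernel
theorem c_act73_25 : allRange (fun i => Nat.beq (actR73 i) i) 107125 4285 = true := by decide +kernel
theorem c_act73_26 : allRange (fun i => Nat.beq (actR73 i) i) 111410 4285 = true := by decide +kernel
theorem c_act73_27 : allRange (fun i => Nat.beq (actR73 i) i) 115695 4285 = true := by decide +kernel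
theorem c_act73_28 : allRange (fun i => Nat.beq (actR73 i) i) 119980 4285 = true := by decide +kernel
theorem c_act73_29 : allRange (fun i => Nat.beq (actR73 i) i) 124265 4285 = true := by decide +kernel
theorem c_act73_30 : allRange (fun i => Nat.beq (actR73 i) i) 128550 4285 = true := by decide +kernel
theorem c_act73_31 : allRange (fun i => Nat.beq (actR73 i) i) 132835 4285 = true := by decide +kernel
theorem c_act73_32 : allRange (fun i => Nat.beq (actR73 i) i) 137120 4285 = true := by decide +kernel
theorem c_act73_33 : allRange (fun i => Nat.beq (actR73 i) i) 141405 4285 = true := by decide +kernel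
theorem c_act73_34 : allRange (fun i => Nat.beq (actR73 i) i) 145690 4285 = true := by decide +kernel
theorem c_act73_35 : allRange (fun i => Nat.beq (actR73 i) i) 149975 4285 = true := by decide +kernel
theorem c_act73_36 : allRange (fun i => Nat.beq (actR73 i) i) 154260 4285 = true := by decide +kernel
theorem c_act73_37 : allRange (fun i => Nat.beq (actR73 i) i) 158545 4285 = true := by decide +kernel
theorem c_act73_38 : allRange (fun i => Nat.beq (actR73 i) i) 162830 4285 = true := by decide +kernel
theorem c_act73_39 : allRange (fun i => Nat.beq (actR73 i) i) 167115 4285 = true := by decide +kernel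
theorem c_act73_40 : allRange (fun i => Nat.beq (actR73 i) i) 171400 4285 = true := by decide +kernel
theorem c_act73_41 : allRange (fun i => Nat.beq (actR73 i) i) 175685 4285 = true := by decide +kernel
theorem c_act73_42 : allRange (fun i => Nat.beq (actR73 i) i) 179970 4285 = true := by decide +kernel
theorem c_act73_43 : allRange (fun i => Nat.beq (actR73 i) i) 184255 1073 = true := by decide +kernel
theorem c_act74_0 : allRange (fun i => Nat.beq (actR74 i) i) 0 4285 = true := by decide +kernel
theorem c_act74_1 : allRange (fun i => Nat.beq (actR74 i) i) 4285 4285 = true := by decide +kernel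
theorem c_act74_2 : allRange (fun i => Nat.beq (actR74 i) i) 8570 4285 = true := by decide +kernel
theorem c_act74_3 : allRange (fun i => Nat.beq (actR74 i) i) 12855 4285 = true := by decide +kernel
theorem c_act74_4 : allRange (fun i => Nat.beq (actR74 i) i) 17140 4285 = true := by decide +kernel
theorem c_act74_5 : allRange (fun i => Nat.beq (actR74 i) i) 21425 4285 = true := by decide +kernel
theorem c_act74_6 : allRange (fun i => Nat.beq (actR74 i) i) 25710 4285 = true := by decide +kernel
theorem c_act74_7 : allRange (fun i => Nat.beq (actR74 i) i) 29995 4285 = true := by decide +kernel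
theorem c_act74_8 : allRange (fun i => Nat.beq (actR74 i) i) 34280 4285 = true := by decide +kernel
theorem c_act74_9 : allRange (fun i => Nat.beq (actR74 i) i) 38565 4285 = true := by decide +kernel
theorem c_act74_10 : allRange (fun i => Nat.beq (actR74 i) i) 42850 4285 = true := by decide +kernel
theorem c_act74_11 : allRange (fun i => Nat.beq (actR74 i) i) 47135 4285 = true := by decide +kernel
theorem c_act74_12 : allRange (fun i => Nat.beq (actR74 i) i) 51420 4285 = true := by decide +kernel
theorem c_act74_13 : allRange (fun i => Nat.beq (actR74 i) i) 55705 4285 = true := by decide +kernel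
theorem c_act74_14 : allRange (fun i => Nat.beq (actR74 i) i) 59990 4285 = true := by decide +kernel
theorem c_act74_15 : allRange (fun i => Nat.beq (actR74 i) i) 64275 4285 = true := by decide +kernel
theorem c_act74_16 : allRange (fun i => Nat.beq (actR74 i) i) 68560 4285 = true := by decide +kernel
theorem c_act74_17 : allRange (fun i => Nat.beq (actR74 i) i) 72845 4285 = true := by decide +kernel
theorem c_act74_18 : allRange (fun i => Nat.beq (actR74 i) i) 77130 4285 = true := by decide +kernel
theorem c_act74_19 : allRange (fun i => Nat.beq (actR74 i) i) 81415 4285 = true := by decide +kernel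
theorem c_act74_20 : allRange (fun i => Nat.beq (actR74 i) i) 85700 4285 = true := by decide +kernel
theorem c_act74_21 : allRange (fun i => Nat.beq (actR74 i) i) 89985 4285 = true := by decide +kernel
theorem c_act74_22 : allRange (fun i => Nat.beq (actR74 i) i) 94270 4285 = true := by decide +kernel
theorem c_act74_23 : allRange (fun i => Nat.beq (actR74 i) i) 98555 4285 = true := by decide +kernel
theorem c_act74_24 : allRange (fun i => Nat.beq (actR74 i) i) 102840 4285 = true := by decide +kernel
theorem c_act74_25 : allRange (fun i => Nat.beq (actR74 i) i) 107125 4285 = true := by decide +kernel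
theorem c_act74_26 : allRange (fun i => Nat.beq (actR74 i) i) 111410 4285 = true := by decide +kernel
theorem c_act74_27 : allRange (fun i => Nat.beq (actR74 i) i) 115695 4285 = true := by decide +kernel
theorem c_act74_28 : allRange (fun i => Nat.beq (actR74 i) i) 119980 4285 = true := by decide +kernel
theorem c_act74_29 : allRange (fun i => Nat.beq (actR74 i) i) 124265 4285 = true := by decide +kernel
theorem c_act74_30 : allRange (fun i => Nat.beq (actR74 i) i) 128550 4285 = true := by decide +kernel
theorem c_act74_31 : allRange (fun i => Nat.beq (actR74 i) i) 132835 4285 = true := by decide +kernel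
theorem c_act74_32 : allRange (fun i => Nat.beq (actR74 i) i) 137120 4285 = true := by decide +kernel
theorem c_act74_33 : allRange (fun i => Nat.beq (actR74 i) i) 141405 4285 = true := by decide +kernel
theorem c_act74_34 : allRange (fun i => Nat.beq (actR74 i) i) 145690 4285 = true := by decide +kernel
theorem c_act74_35 : allRange (fun i => Nat.beq (actR74 i) i) 149975 4285 = true := by decide +kernel
theorem c_act74_36 : allRange (fun i => Nat.beq (actR74 i) i) 154260 4285 = true := by decide +kernel
theorem c_act74_37 : allRange (fun i => Nat.beq (actR74 i) i) 158545 4285 = true := by decide +kernel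
theorem c_act74_38 : allRange (fun i => Nat.beq (actR74 i) i) 162830 4285 = true := by decide +kernel
theorem c_act74_39 : allRange (fun i => Nat.beq (actR74 i) i) 167115 4285 = true := by decide +kernel
theorem c_act74_40 : allRange (fun i => Nat.beq (actR74 i) i) 171400 4285 = true := by decide +kernel
theorem c_act74_41 : allRange (fun i => Nat.beq (actR74 i) i) 175685 4285 = true := by decide +kernel
theorem c_act74_42 : allRange (fun i => Nat.beq (actR74 i) i) 179970 4285 = true := by decide +kernel
theorem c_act74_43 : allRange (fun i => Nat.beq (actR74 i) i) 184255 1073 = true := by decide +kernel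
theorem c_act75_0 : allRange (fun i => Nat.beq (actR75 i) i) 0 4285 = true := by decide +kernel
theorem c_act75_1 : allRange (fun i => Nat.beq (actR75 i) i) 4285 4285 = true := by decide +kernel
theorem c_act75_2 : allRange (fun i => Nat.beq (actR75 i) i) 8570 4285 = true := by decide +kernel
theorem c_act75_3 : allRange (fun i => Nat.beq (actR75 i) i) 12855 4285 = true := by decide +kernel
theorem c_act75_4 : allRange (fun i => Nat.beq (actR75 i) i) 17140 4285 = true := by decide +kernel
theorem c_act75_5 : allRange (fun i => Nat.beq (actR75 i) i) 21425 4285 = true := by decide +kernel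
theorem c_act75_6 : allRange (fun i => Nat.beq (actR75 i) i) 25710 4285 = true := by decide +kernel
theorem c_act75_7 : allRange (fun i => Nat.beq (actR75 i) i) 29995 4285 = true := by decide +kernel
theorem c_act75_8 : allRange (fun i => Nat.beq (actR75 i) i) 34280 4285 = true := by decide +kernel
theorem c_act75_9 : allRange (fun i => Nat.beq (actR75 i) i) 38565 4285 = true := by decide +kernel
theorem c_act75_10 : allRange (fun i => Nat.beq (actR75 i) i) 42850 4285 = true := by decide +kernel
theorem c_act75_11 : allRange (fun i => Nat.beq (actR75 i) i) 47135 4285 = true := by decide +kernel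
theorem c_act75_12 : allRange (fun i => Nat.beq (actR75 i) i) 51420 4285 = true := by decide +kernel
theorem c_act75_13 : allRange (fun i => Nat.beq (actR75 i) i) 55705 4285 = true := by decide +kernel
theorem c_act75_14 : allRange (fun i => Nat.beq (actR75 i) i) 59990 4285 = true := by decide +kernel
theorem c_act75_15 : allRange (fun i => Nat.beq (actR75 i) i) 64275 4285 = true := by decide +kernel
theorem c_act75_16 : allRange (fun i => Nat.beq (actR75 i) i) 68560 4285 = true := by decide +kernel
theorem c_act75_17 : allRange (fun i => Nat.beq (actR75 i) i) 72845 4285 = true := by decide +kernel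
theorem c_act75_18 : allRange (fun i => Nat.beq (actR75 i) i) 77130 4285 = true := by decide +kernel

end Cfsg.Agent.Lib.Helper4.TCD.C3Fi22yR
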