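import Cfsg.Agent.Lib.Helper4.TCD_C3Fi22yR_Acc

namespace Cfsg.Agent.Lib.Helper4.TCD.C3Fi22yR

open Cfsg.Agent.Lib.Helper4.TC

set_option maxRecDepth 100000
set_option Elab.async false

theorem c_act75_19 : allRange (fun i => Nat.beq (actR75 i) i) 81415 4285 = true := by decide +kernel
theorem c_act75_20 : allRange (fun i => Nat.beq (actR75 i) i) 85700 4285 = true := by decide +kernel
theorem c_act75_21 : allRange (fun i => Nat.beq (actR75 i) i) 89985 4285 = true := by decide +kernel
theorem c_act75_22 : allRange (fun i => Nat.beq (actR75 i) i) 94270 4285 = true := by decide +kernel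
theorem c_act75_23 : allRange (fun i => Nat.beq (actR75 i) i) 98555 4285 = true := by decide +kernel
theorem c_act75_24 : allRange (fun i => Nat.beq (actR75 i) i) 102840 4285 = true := by decide +kernel
theorem c_act75_25 : allRange (fun i => Nat.beq (actR75 i) i) 107125 4285 = true := by decide +kernel
theorem c_act75_26 : allRange (fun i => Nat.beq (actR75 i) i) 111410 4285 = true := by decide +kernel
theorem c_act75_27 : allRange (fun i => Nat.beq (actR75 i) i) 115695 4285 = true := by decide +kernel
theorem c_act75_28 : allRange (fun i => Nat.beq (actR75 i) i) 119980 4285 = true := by decide +kernel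
theorem c_act75_29 : allRange (fun i => Nat.beq (actR75 i) i) 124265 4285 = true := by decide +kernel
theorem c_act75_30 : allRange (fun i => Nat.beq (actR75 i) i) 128550 4285 = true := by decide +kernel
theorem c_act75_31 : allRange (fun i => Nat.beq (actR75 i) i) 132835 4285 = true := by decide +kernel
theorem c_act75_32 : allRange (fun i => Nat.beq (actR75 i) i) 137120 4285 = true := by decide +kernel
theorem c_act75_33 : allRange (fun i => Nat.beq (actR75 i) i) 141405 4285 = true := by decide +kernel
theorem c_act75_34 : allRange (fun i => Nat.beq (actR75 i) i) 145690 4285 = true := by decide +kernel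
theorem c_act75_35 : allRange (fun i => Nat.beq (actR75 i) i) 149975 4285 = true := by decide +kernel
theorem c_act75_36 : allRange (fun i => Nat.beq (actR75 i) i) 154260 4285 = true := by decide +kernel
theorem c_act75_37 : allRange (fun i => Nat.beq (actR75 i) i) 158545 4285 = true := by decide +kernel
theorem c_act75_38 : allRange (fun i => Nat.beq (actR75 i) i) 162830 4285 = true := by decide +kernel
theorem c_act75_39 : allRange (fun i => Nat.beq (actR75 i) i) 167115 4285 = true := by decide +kernel
theorem c_act75_40 : allRange (fun i => Nat.beq (actR75 i) i) 171400 4285 = true := by decide +kernel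
theorem c_act75_41 : allRange (fun i => Nat.beq (actR75 i) i) 175685 4285 = true := by decide +kernel
theorem c_act75_42 : allRange (fun i => Nat.beq (actR75 i) i) 179970 4285 = true := by decide +kernel
theorem c_act75_43 : allRange (fun i => Nat.beq (actR75 i) i) 184255 1073 = true := by decide +kernel
theorem c_act76_0 : allRange (fun i => Nat.beq (actR76 i) i) 0 4285 = true := by decide +kernel
theorem c_act76_1 : allRange (fun i => Nat.beq (actR76 i) i) 4285 4285 = true := by decide +kernel
theorem c_act76_2 : allRange (fun i => Nat.beq (actR76 i) i) 8570 4285 = true := by decide +kernel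
theorem c_act76_3 : allRange (fun i => Nat.beq (actR76 i) i) 12855 4285 = true := by decide +kernel
theorem c_act76_4 : allRange (fun i => Nat.beq (actR76 i) i) 17140 4285 = true := by decide +kernel
theorem c_act76_5 : allRange (fun i => Nat.beq (actR76 i) i) 21425 4285 = true := by decide +kernel
theorem c_act76_6 : allRange (fun i => Nat.beq (actR76 i) i) 25710 4285 = true := by decide +kernel
theorem c_act76_7 : allRange (fun i => Nat.beq (actR76 i) i) 29995 4285 = true := by decide +kernel
theorem c_act76_8 : allRange (fun i => Nat.beq (actR76 i) i) 34280 4285 = true := by decide +kernel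
theorem c_act76_9 : allRange (fun i => Nat.beq (actR76 i) i) 38565 4285 = true := by decide +kernel
theorem c_act76_10 : allRange (fun i => Nat.beq (actR76 i) i) 42850 4285 = true := by decide +kernel
theorem c_act76_11 : allRange (fun i => Nat.beq (actR76 i) i) 47135 4285 = true := by decide +kernel
theorem c_act76_12 : allRange (fun i => Nat.beq (actR76 i) i) 51420 4285 = true := by decide +kernel
theorem c_act76_13 : allRange (fun i => Nat.beq (actR76 i) i) 55705 4285 = true := by decide +kernel
theorem c_act76_14 : allRange (fun i => Nat.beq (actR76 i) i) 59990 4285 = true := by decide +kernel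
theorem c_act76_15 : allRange (fun i => Nat.beq (actR76 i) i) 64275 4285 = true := by decide +kernel
theorem c_act76_16 : allRange (fun i => Nat.beq (actR76 i) i) 68560 4285 = true := by decide +kernel
theorem c_act76_17 : allRange (fun i => Nat.beq (actR76 i) i) 72845 4285 = true := by decide +kernel
theorem c_act76_18 : allRange (fun i => Nat.beq (actR76 i) i) 77130 4285 = true := by decide +kernel
theorem c_act76_19 : allRange (fun i => Nat.beq (actR76 i) i) 81415 4285 = true := by decide +kernel
theorem c_act76_20 : allRange (fun i => Nat.beq (actR76 i) i) 85700 4285 = true := by decide +kernel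
theorem c_act76_21 : allRange (fun i => Nat.beq (actR76 i) i) 89985 4285 = true := by decide +kernel
theorem c_act76_22 : allRange (fun i => Nat.beq (actR76 i) i) 94270 4285 = true := by decide +kernel
theorem c_act76_23 : allRange (fun i => Nat.beq (actR76 i) i) 98555 4285 = true := by decide +kernel
theorem c_act76_24 : allRange (fun i => Nat.beq (actR76 i) i) 102840 4285 = true := by decide +kernel
theorem c_act76_25 : allRange (fun i => Nat.beq (actR76 i) i) 107125 4285 = true := by decide +kernel
theorem c_act76_26 : allRange (fun i => Nat.beq (actR76 i) i) 111410 4285 = true := by decide +kernel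
theorem c_act76_27 : allRange (fun i => Nat.beq (actR76 i) i) 115695 4285 = true := by decide +kernel
theorem c_act76_28 : allRange (fun i => Nat.beq (actR76 i) i) 119980 4285 = true := by decide +kernel
theorem c_act76_29 : allRange (fun i => Nat.beq (actR76 i) i) 124265 4285 = true := by decide +kernel
theorem c_act76_30 : allRange (fun i => Nat.beq (actR76 i) i) 128550 4285 = true := by decide +kernel
theorem c_act76_31 : allRange (fun i => Nat.beq (actR76 i) i) 132835 4285 = true := by decide +kernel
theorem c_act76_32 : allRange (fun i => Nat.beq (actR76 i) i) 137120 4285 = true := by decide +kernel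
theorem c_act76_33 : allRange (fun i => Nat.beq (actR76 i) i) 141405 4285 = true := by decide +kernel
theorem c_act76_34 : allRange (fun i => Nat.beq (actR76 i) i) 145690 4285 = true := by decide +kernel
theorem c_act76_35 : allRange (fun i => Nat.beq (actR76 i) i) 149975 4285 = true := by decide +kernel
theorem c_act76_36 : allRange (fun i => Nat.beq (actR76 i) i) 154260 4285 = true := by decide +kernel
theorem c_act76_37 : allRange (fun i => Nat.beq (actR76 i) i) 158545 4285 = true := by decide +kernel
theorem c_act76_38 : allRange (fun i => Nat.beq (actR76 i) i) 162830 4285 = true := by decide +kernel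
theorem c_act76_39 : allRange (fun i => Nat.beq (actR76 i) i) 167115 4285 = true := by decide +kernel
theorem c_act76_40 : allRange (fun i => Nat.beq (actR76 i) i) 171400 4285 = true := by decide +kernel
theorem c_act76_41 : allRange (fun i => Nat.beq (actR76 i) i) 175685 4285 = true := by decide +kernel
theorem c_act76_42 : allRange (fun i => Nat.beq (actR76 i) i) 179970 4285 = true := by decide +kernel
theorem c_act76_43 : allRange (fun i => Nat.beq (actR76 i) i) 184255 1073 = true := by decide +kernel
theorem c_act77_0 : allRange (fun i => Nat.beq (actR77 i) i) 0 4285 = true := by decide +kernel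
theorem c_act77_1 : allRange (fun i => Nat.beq (actR77 i) i) 4285 4285 = true := by decide +kernel
theorem c_act77_2 : allRange (fun i => Nat.beq (actR77 i) i) 8570 4285 = true := by decide +kernel
theorem c_act77_3 : allRange (fun i => Nat.beq (actR77 i) i) 12855 4285 = true := by decide +kernel
theorem c_act77_4 : allRange (fun i => Nat.beq (actR77 i) i) 17140 4285 = true := by decide +kernel
theorem c_act77_5 : allRange (fun i => Nat.beq (actR77 i) i) 21425 4285 = true := by decide +kernel
theorem c_act77_6 : allRange (fun i => Nat.beq (actR77 i) i) 25710 4285 = true := by decide +kernel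
theorem c_act77_7 : allRange (fun i => Nat.beq (actR77 i) i) 29995 4285 = true := by decide +kernel
theorem c_act77_8 : allRange (fun i => Nat.beq (actR77 i) i) 34280 4285 = true := by decide +kernel
theorem c_act77_9 : allRange (fun i => Nat.beq (actR77 i) i) 38565 4285 = true := by decide +kernel
theorem c_act77_10 : allRange (fun i => Nat.beq (actR77 i) i) 42850 4285 = true := by decide +kernel
theorem c_act77_11 : allRange (fun i => Nat.beq (actR77 i) i) 47135 4285 = true := by decide +kernel
theorem c_act77_12 : allRange (fun i => Nat.beq (actR77 i) i) 51420 4285 = true := by decide +kernel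
theorem c_act77_13 : allRange (fun i => Nat.beq (actR77 i) i) 55705 4285 = true := by decide +kernel
theorem c_act77_14 : allRange (fun i => Nat.beq (actR77 i) i) 59990 4285 = true := by decide +kernel
theorem c_act77_15 : allRange (fun i => Nat.beq (actR77 i) i) 64275 4285 = true := by decide +kernel
theorem c_act77_16 : allRange (fun i => Nat.beq (actR77 i) i) 68560 4285 = true := by decide +kernel
theorem c_act77_17 : allRange (fun i => Nat.beq (actR77 i) i) 72845 4285 = true := by decide +kernel
theorem c_act77_18 : allRange (fun i => Nat.beq (actR77 i) i) 77130 4285 = true := by decide +kernel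
theorem c_act77_19 : allRange (fun i => Nat.beq (actR77 i) i) 81415 4285 = true := by decide +kernel
theorem c_act77_20 : allRange (fun i => Nat.beq (actR77 i) i) 85700 4285 = true := by decide +kernel
theorem c_act77_21 : allRange (fun i => Nat.beq (actR77 i) i) 89985 4285 = true := by decide +kernel
theorem c_act77_22 : allRange (fun i => Nat.beq (actR77 i) i) 94270 4285 = true := by decide +kernel
theorem c_act77_23 : allRange (fun i => Nat.beq (actR77 i) i) 98555 4285 = true := by decide +kernel
theorem c_act77_24 : allRange (fun i => Nat.beq (actR77 i) i) 102840 4285 = true := by decide +kernel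
theorem c_act77_25 : allRange (fun i => Nat.beq (actR77 i) i) 107125 4285 = true := by decide +kernel
theorem c_act77_26 : allRange (fun i => Nat.beq (actR77 i) i) 111410 4285 = true := by decide +kernel
theorem c_act77_27 : allRange (fun i => Nat.beq (actR77 i) i) 115695 4285 = true := by decide +kernel
theorem c_act77_28 : allRange (fun i => Nat.beq (actR77 i) i) 119980 4285 = true := by decide +kernel
theorem c_act77_29 : allRange (fun i => Nat.beq (actR77 i) i) 124265 4285 = true := by decide +kernel
theorem c_act77_30 : allRange (fun i => Nat.beq (actR77 i) i) 128550 4285 = true := by decide +kernel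
theorem c_act77_31 : allRange (fun i => Nat.beq (actR77 i) i) 132835 4285 = true := by decide +kernel

end Cfsg.Agent.Lib.Helper4.TCD.C3Fi22yR
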