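import Cfsg.Agent.Lib.Helper4.TCD_C3Fi22yR_Acc

namespace Cfsg.Agent.Lib.Helper4.TCD.C3Fi22yR

open Cfsg.Agent.Lib.Helper4.TC

set_option maxRecDepth 100000
set_option Elab.async false

theorem c_act77_32 : allRange (fun i => Nat.beq (actR77 i) i) 137120 4285 = true := by decide +kernel
theorem c_act77_33 : allRange (fun i => Nat.beq (actR77 i) i) 141405 4285 = true := by decide +kernel
theorem c_act77_34 : allRange (fun i => Nat.beq (actR77 i) i) 145690 4285 = true := by decide +kernel
theorem c_act77_35 : allRange (fun i => Nat.beq (actR77 i) i) 149975 4285 = true := by decide +kernel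
theorem c_act77_36 : allRange (fun i => Nat.beq (actR77 i) i) 154260 4285 = true := by decide +kernel
theorem c_act77_37 : allRange (fun i => Nat.beq (actR77 i) i) 158545 4285 = true := by decide +kernel
theorem c_act77_38 : allRange (fun i => Nat.beq (actR77 i) i) 162830 4285 = true := by decide +kernel
theorem c_act77_39 : allRange (fun i => Nat.beq (actR77 i) i) 167115 4285 = true := by decide +kernel
theorem c_act77_40 : allRange (fun i => Nat.beq (actR77 i) i) 171400 4285 = true := by decide +kernel
theorem c_act77_41 : allRange (fun i => Nat.beq (actR77 i) i) 175685 4285 = true := by decide +kernel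
theorem c_act77_42 : allRange (fun i => Nat.beq (actR77 i) i) 179970 4285 = true := by decide +kernel
theorem c_act77_43 : allRange (fun i => Nat.beq (actR77 i) i) 184255 1073 = true := by decide +kernel
theorem c_act78_0 : allRange (fun i => Nat.beq (actR78 i) i) 0 3529 = true := by decide +kernel
theorem c_act78_1 : allRange (fun i => Nat.beq (actR78 i) i) 3529 3529 = true := by decide +kernel
theorem c_act78_2 : allRange (fun i => Nat.beq (actR78 i) i) 7058 3529 = true := by decide +kernel
theorem c_act78_3 : allRange (fun i => Nat.beq (actR78 i) i) 10587 3529 = true := by decide +kernel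
theorem c_act78_4 : allRange (fun i => Nat.beq (actR78 i) i) 14116 3529 = true := by decide +kernel
theorem c_act78_5 : allRange (fun i => Nat.beq (actR78 i) i) 17645 3529 = true := by decide +kernel
theorem c_act78_6 : allRange (fun i => Nat.beq (actR78 i) i) 21174 3529 = true := by decide +kernel
theorem c_act78_7 : allRange (fun i => Nat.beq (actR78 i) i) 24703 3529 = true := by decide +kernel
theorem c_act78_8 : allRange (fun i => Nat.beq (actR78 i) i) 28232 3529 = true := by decide +kernel
theorem c_act78_9 : allRange (fun i => Nat.beq (actR78 i) i) 31761 3529 = true := by decide +kernel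
theorem c_act78_10 : allRange (fun i => Nat.beq (actR78 i) i) 35290 3529 = true := by decide +kernel
theorem c_act78_11 : allRange (fun i => Nat.beq (actR78 i) i) 38819 3529 = true := by decide +kernel
theorem c_act78_12 : allRange (fun i => Nat.beq (actR78 i) i) 42348 3529 = true := by decide +kernel
theorem c_act78_13 : allRange (fun i => Nat.beq (actR78 i) i) 45877 3529 = true := by decide +kernel
theorem c_act78_14 : allRange (fun i => Nat.beq (actR78 i) i) 49406 3529 = true := by decide +kernel
theorem c_act78_15 : allRange (fun i => Nat.beq (actR78 i) i) 52935 3529 = true := by decide +kernel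
theorem c_act78_16 : allRange (fun i => Nat.beq (actR78 i) i) 56464 3529 = true := by decide +kernel
theorem c_act78_17 : allRange (fun i => Nat.beq (actR78 i) i) 59993 3529 = true := by decide +kernel
theorem c_act78_18 : allRange (fun i => Nat.beq (actR78 i) i) 63522 3529 = true := by decide +kernel
theorem c_act78_19 : allRange (fun i => Nat.beq (actR78 i) i) 67051 3529 = true := by decide +kernel
theorem c_act78_20 : allRange (fun i => Nat.beq (actR78 i) i) 70580 3529 = true := by decide +kernel
theorem c_act78_21 : allRange (fun i => Nat.beq (actR78 i) i) 74109 3529 = true := by decide +kernel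
theorem c_act78_22 : allRange (fun i => Nat.beq (actR78 i) i) 77638 3529 = true := by decide +kernel
theorem c_act78_23 : allRange (fun i => Nat.beq (actR78 i) i) 81167 3529 = true := by decide +kernel
theorem c_act78_24 : allRange (fun i => Nat.beq (actR78 i) i) 84696 3529 = true := by decide +kernel
theorem c_act78_25 : allRange (fun i => Nat.beq (actR78 i) i) 88225 3529 = true := by decide +kernel
theorem c_act78_26 : allRange (fun i => Nat.beq (actR78 i) i) 91754 3529 = true := by decide +kernel
theorem c_act78_27 : allRange (fun i => Nat.beq (actR78 i) i) 95283 3529 = true := by decide +kernel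
theorem c_act78_28 : allRange (fun i => Nat.beq (actR78 i) i) 98812 3529 = true := by decide +kernel
theorem c_act78_29 : allRange (fun i => Nat.beq (actR78 i) i) 102341 3529 = true := by decide +kernel
theorem c_act78_30 : allRange (fun i => Nat.beq (actR78 i) i) 105870 3529 = true := by decide +kernel
theorem c_act78_31 : allRange (fun i => Nat.beq (actR78 i) i) 109399 3529 = true := by decide +kernel
theorem c_act78_32 : allRange (fun i => Nat.beq (actR78 i) i) 112928 3529 = true := by decide +kernel
theorem c_act78_33 : allRange (fun i => Nat.beq (actR78 i) i) 116457 3529 = true := by decide +kernel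
theorem c_act78_34 : allRange (fun i => Nat.beq (actR78 i) i) 119986 3529 = true := by decide +kernel
theorem c_act78_35 : allRange (fun i => Nat.beq (actR78 i) i) 123515 3529 = true := by decide +kernel
theorem c_act78_36 : allRange (fun i => Nat.beq (actR78 i) i) 127044 3529 = true := by decide +kernel
theorem c_act78_37 : allRange (fun i => Nat.beq (actR78 i) i) 130573 3529 = true := by decide +kernel
theorem c_act78_38 : allRange (fun i => Nat.beq (actR78 i) i) 134102 3529 = true := by decide +kernel
theorem c_act78_39 : allRange (fun i => Nat.beq (actR78 i) i) 137631 3529 = true := by decide +kernel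
theorem c_act78_40 : allRange (fun i => Nat.beq (actR78 i) i) 141160 3529 = true := by decide +kernel
theorem c_act78_41 : allRange (fun i => Nat.beq (actR78 i) i) 144689 3529 = true := by decide +kernel
theorem c_act78_42 : allRange (fun i => Nat.beq (actR78 i) i) 148218 3529 = true := by decide +kernel
theorem c_act78_43 : allRange (fun i => Nat.beq (actR78 i) i) 151747 3529 = true := by decide +kernel
theorem c_act78_44 : allRange (fun i => Nat.beq (actR78 i) i) 155276 3529 = true := by decide +kernel
theorem c_act78_45 : allRange (fun i => Nat.beq (actR78 i) i) 158805 3529 = true := by decide +kernel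
theorem c_act78_46 : allRange (fun i => Nat.beq (actR78 i) i) 162334 3529 = true := by decide +kernel
theorem c_act78_47 : allRange (fun i => Nat.beq (actR78 i) i) 165863 3529 = true := by decide +kernel
theorem c_act78_48 : allRange (fun i => Nat.beq (actR78 i) i) 169392 3529 = true := by decide +kernel
theorem c_act78_49 : allRange (fun i => Nat.beq (actR78 i) i) 172921 3529 = true := by decide +kernel
theorem c_act78_50 : allRange (fun i => Nat.beq (actR78 i) i) 176450 3529 = true := by decide +kernel
theorem c_act78_51 : allRange (fun i => Nat.beq (actR78 i) i) 179979 3529 = true := by decide +kernel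
theorem c_act78_52 : allRange (fun i => Nat.beq (actR78 i) i) 183508 1820 = true := by decide +kernel
theorem c_act79_0 : allRange (fun i => Nat.beq (actR79 i) i) 0 3000 = true := by decide +kernel
theorem c_act79_1 : allRange (fun i => Nat.beq (actR79 i) i) 3000 3000 = true := by decide +kernel
theorem c_act79_2 : allRange (fun i => Nat.beq (actR79 i) i) 6000 3000 = true := by decide +kernel
theorem c_act79_3 : allRange (fun i => Nat.beq (actR79 i) i) 9000 3000 = true := by decide +kernel
theorem c_act79_4 : allRange (fun i => Nat.beq (actR79 i) i) 12000 3000 = true := by decide +kernel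
theorem c_act79_5 : allRange (fun i => Nat.beq (actR79 i) i) 15000 3000 = true := by decide +kernel
theorem c_act79_6 : allRange (fun i => Nat.beq (actR79 i) i) 18000 3000 = true := by decide +kernel
theorem c_act79_7 : allRange (fun i => Nat.beq (actR79 i) i) 21000 3000 = true := by decide +kernel
theorem c_act79_8 : allRange (fun i => Nat.beq (actR79 i) i) 24000 3000 = true := by decide +kernel
theorem c_act79_9 : allRange (fun i => Nat.beq (actR79 i) i) 27000 3000 = true := by decide +kernel
theorem c_act79_10 : allRange (fun i => Nat.beq (actR79 i) i) 30000 3000 = true := by decide +kernel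
theorem c_act79_11 : allRange (fun i => Nat.beq (actR79 i) i) 33000 3000 = true := by decide +kernel
theorem c_act79_12 : allRange (fun i => Nat.beq (actR79 i) i) 36000 3000 = true := by decide +kernel
theorem c_act79_13 : allRange (fun i => Nat.beq (actR79 i) i) 39000 3000 = true := by decide +kernel
theorem c_act79_14 : allRange (fun i => Nat.beq (actR79 i) i) 42000 3000 = true := by decide +kernel
theorem c_act79_15 : allRange (fun i => Nat.beq (actR79 i) i) 45000 3000 = true := by decide +kernel
theorem c_act79_16 : allRange (fun i => Nat.beq (actR79 i) i) 48000 3000 = true := by decide +kernel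
theorem c_act79_17 : allRange (fun i => Nat.beq (actR79 i) i) 51000 3000 = true := by decide +kernel
theorem c_act79_18 : allRange (fun i => Nat.beq (actR79 i) i) 54000 3000 = true := by decide +kernel
theorem c_act79_19 : allRange (fun i => Nat.beq (actR79 i) i) 57000 3000 = true := by decide +kernel
theorem c_act79_20 : allRange (fun i => Nat.beq (actR79 i) i) 60000 3000 = true := by decide +kernel
theorem c_act79_21 : allRange (fun i => Nat.beq (actR79 i) i) 63000 3000 = true := by decide +kernel
theorem c_act79_22 : allRange (fun i => Nat.beq (actR79 i) i) 66000 3000 = true := by decide +kernel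
theorem c_act79_23 : allRange (fun i => Nat.beq (actR79 i) i) 69000 3000 = true := by decide +kernel
theorem c_act79_24 : allRange (fun i => Nat.beq (actR79 i) i) 72000 3000 = true := by decide +kernel
theorem c_act79_25 : allRange (fun i => Nat.beq (actR79 i) i) 75000 3000 = true := by decide +kernel
theorem c_act79_26 : allRange (fun i => Nat.beq (actR79 i) i) 78000 3000 = true := by decide +kernel
theorem c_act79_27 : allRange (fun i => Nat.beq (actR79 i) i) 81000 3000 = true := by decide +kernel
theorem c_act79_28 : allRange (fun i => Nat.beq (actR79 i) i) 84000 3000 = true := by decide +kernel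
theorem c_act79_29 : allRange (fun i => Nat.beq (actR79 i) i) 87000 3000 = true := by decide +kernel
theorem c_act79_30 : allRange (fun i => Nat.beq (actR79 i) i) 90000 3000 = true := by decide +kernel
theorem c_act79_31 : allRange (fun i => Nat.beq (actR79 i) i) 93000 3000 = true := by decide +kernel
theorem c_act79_32 : allRange (fun i => Nat.beq (actR79 i) i) 96000 3000 = true := by decide +kernel
theorem c_act79_33 : allRange (fun i => Nat.beq (actR79 i) i) 99000 3000 = true := by decide +kernel
theorem c_act79_34 : allRange (fun i => Nat.beq (actR79 i) i) 102000 3000 = true := by decide +kernel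
theorem c_act79_35 : allRange (fun i => Nat.beq (actR79 i) i) 105000 3000 = true := by decide +kernel

end Cfsg.Agent.Lib.Helper4.TCD.C3Fi22yR
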