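import Cfsg.Agent.Lib.Helper4.TCD_C3Fi22yR_Acc

namespace Cfsg.Agent.Lib.Helper4.TCD.C3Fi22yR

open Cfsg.Agent.Lib.Helper4.TC

set_option maxRecDepth 100000
set_option Elab.async false

theorem c_act79_36 : allRange (fun i => Nat.beq (actR79 i) i) 108000 3000 = true := by decide +kernel
theorem c_act79_37 : allRange (fun i => Nat.beq (actR79 i) i) 111000 3000 = true := by decide +kernel
theorem c_act79_38 : allRange (fun i => Nat.beq (actR79 i) i) 114000 3000 = true := by decide +kernel
theorem c_act79_39 : allRange (fun i => Nat.beq (actR79 i) i) 117000 3000 = true := by decide +kernel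
theorem c_act79_40 : allRange (fun i => Nat.beq (actR79 i) i) 120000 3000 = true := by decide +kernel
theorem c_act79_41 : allRange (fun i => Nat.beq (actR79 i) i) 123000 3000 = true := by decide +kernel
theorem c_act79_42 : allRange (fun i => Nat.beq (actR79 i) i) 126000 3000 = true := by decide +kernel
theorem c_act79_43 : allRange (fun i => Nat.beq (actR79 i) i) 129000 3000 = true := by decide +kernel
theorem c_act79_44 : allRange (fun i => Nat.beq (actR79 i) i) 132000 3000 = true := by decide +kernel
theorem c_act79_45 : allRange (fun i => Nat.beq (actR79 i) i) 135000 3000 = true := by decide +kernel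
theorem c_act79_46 : allRange (fun i => Nat.beq (actR79 i) i) 138000 3000 = true := by decide +kernel
theorem c_act79_47 : allRange (fun i => Nat.beq (actR79 i) i) 141000 3000 = true := by decide +kernel
theorem c_act79_48 : allRange (fun i => Nat.beq (actR79 i) i) 144000 3000 = true := by decide +kernel
theorem c_act79_49 : allRange (fun i => Nat.beq (actR79 i) i) 147000 3000 = true := by decide +kernel
theorem c_act79_50 : allRange (fun i => Nat.beq (actR79 i) i) 150000 3000 = true := by decide +kernel
theorem c_act79_51 : allRange (fun i => Nat.beq (actR79 i) i) 153000 3000 = true := by decide +kernel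
theorem c_act79_52 : allRange (fun i => Nat.beq (actR79 i) i) 156000 3000 = true := by decide +kernel
theorem c_act79_53 : allRange (fun i => Nat.beq (actR79 i) i) 159000 3000 = true := by decide +kernel
theorem c_act79_54 : allRange (fun i => Nat.beq (actR79 i) i) 162000 3000 = true := by decide +kernel
theorem c_act79_55 : allRange (fun i => Nat.beq (actR79 i) i) 165000 3000 = true := by decide +kernel
theorem c_act79_56 : allRange (fun i => Nat.beq (actR79 i) i) 168000 3000 = true := by decide +kernel
theorem c_act79_57 : allRange (fun i => Nat.beq (actR79 i) i) 171000 3000 = true := by decide +kernel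
theorem c_act79_58 : allRange (fun i => Nat.beq (actR79 i) i) 174000 3000 = true := by decide +kernel
theorem c_act79_59 : allRange (fun i => Nat.beq (actR79 i) i) 177000 3000 = true := by decide +kernel
theorem c_act79_60 : allRange (fun i => Nat.beq (actR79 i) i) 180000 3000 = true := by decide +kernel
theorem c_act79_61 : allRange (fun i => Nat.beq (actR79 i) i) 183000 2328 = true := by decide +kernel
theorem c_act80_0 : allRange (fun i => Nat.beq (actR80 i) i) 0 20000 = true := by decide +kernel
theorem c_act80_1 : allRange (fun i => Nat.beq (actR80 i) i) 20000 20000 = true := by decide +kernel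
theorem c_act80_2 : allRange (fun i => Nat.beq (actR80 i) i) 40000 20000 = true := by decide +kernel
theorem c_act80_3 : allRange (fun i => Nat.beq (actR80 i) i) 60000 20000 = true := by decide +kernel
theorem c_act80_4 : allRange (fun i => Nat.beq (actR80 i) i) 80000 20000 = true := by decide +kernel
theorem c_act80_5 : allRange (fun i => Nat.beq (actR80 i) i) 100000 20000 = true := by decide +kernel
theorem c_act80_6 : allRange (fun i => Nat.beq (actR80 i) i) 120000 20000 = true := by decide +kernel
theorem c_act80_7 : allRange (fun i => Nat.beq (actR80 i) i) 140000 20000 = true := by decide +kernel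
theorem c_act80_8 : allRange (fun i => Nat.beq (actR80 i) i) 160000 20000 = true := by decide +kernel
theorem c_act80_9 : allRange (fun i => Nat.beq (actR80 i) i) 180000 5328 = true := by decide +kernel
theorem c_act81_0 : allRange (fun i => Nat.beq (actR81 i) i) 0 15000 = true := by decide +kernel
theorem c_act81_1 : allRange (fun i => Nat.beq (actR81 i) i) 15000 15000 = true := by decide +kernel
theorem c_act81_2 : allRange (fun i => Nat.beq (actR81 i) i) 30000 15000 = true := by decide +kernel
theorem c_act81_3 : allRange (fun i => Nat.beq (actR81 i) i) 45000 15000 = true := by decide +kernel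
theorem c_act81_4 : allRange (fun i => Nat.beq (actR81 i) i) 60000 15000 = true := by decide +kernel
theorem c_act81_5 : allRange (fun i => Nat.beq (actR81 i) i) 75000 15000 = true := by decide +kernel
theorem c_act81_6 : allRange (fun i => Nat.beq (actR81 i) i) 90000 15000 = true := by decide +kernel
theorem c_act81_7 : allRange (fun i => Nat.beq (actR81 i) i) 105000 15000 = true := by decide +kernel
theorem c_act81_8 : allRange (fun i => Nat.beq (actR81 i) i) 120000 15000 = true := by decide +kernel
theorem c_act81_9 : allRange (fun i => Nat.beq (actR81 i) i) 135000 15000 = true := by decide +kernel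
theorem c_act81_10 : allRange (fun i => Nat.beq (actR81 i) i) 150000 15000 = true := by decide +kernel
theorem c_act81_11 : allRange (fun i => Nat.beq (actR81 i) i) 165000 15000 = true := by decide +kernel
theorem c_act81_12 : allRange (fun i => Nat.beq (actR81 i) i) 180000 5328 = true := by decide +kernel
theorem c_act82_0 : allRange (fun i => Nat.beq (actR82 i) i) 0 15000 = true := by decide +kernel
theorem c_act82_1 : allRange (fun i => Nat.beq (actR82 i) i) 15000 15000 = true := by decide +kernel
theorem c_act82_2 : allRange (fun i => Nat.beq (actR82 i) i) 30000 15000 = true := by decide +kernel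
theorem c_act82_3 : allRange (fun i => Nat.beq (actR82 i) i) 45000 15000 = true := by decide +kernel
theorem c_act82_4 : allRange (fun i => Nat.beq (actR82 i) i) 60000 15000 = true := by decide +kernel
theorem c_act82_5 : allRange (fun i => Nat.beq (actR82 i) i) 75000 15000 = true := by decide +kernel
theorem c_act82_6 : allRange (fun i => Nat.beq (actR82 i) i) 90000 15000 = true := by decide +kernel
theorem c_act82_7 : allRange (fun i => Nat.beq (actR82 i) i) 105000 15000 = true := by decide +kernel
theorem c_act82_8 : allRange (fun i => Nat.beq (actR82 i) i) 120000 15000 = true := by decide +kernel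
theorem c_act82_9 : allRange (fun i => Nat.beq (actR82 i) i) 135000 15000 = true := by decide +kernel
theorem c_act82_10 : allRange (fun i => Nat.beq (actR82 i) i) 150000 15000 = true := by decide +kernel
theorem c_act82_11 : allRange (fun i => Nat.beq (actR82 i) i) 165000 15000 = true := by decide +kernel
theorem c_act82_12 : allRange (fun i => Nat.beq (actR82 i) i) 180000 5328 = true := by decide +kernel
theorem c_act83_0 : allRange (fun i => Nat.beq (actR83 i) i) 0 15000 = true := by decide +kernel
theorem c_act83_1 : allRange (fun i => Nat.beq (actR83 i) i) 15000 15000 = true := by decide +kernel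
theorem c_act83_2 : allRange (fun i => Nat.beq (actR83 i) i) 30000 15000 = true := by decide +kernel
theorem c_act83_3 : allRange (fun i => Nat.beq (actR83 i) i) 45000 15000 = true := by decide +kernel
theorem c_act83_4 : allRange (fun i => Nat.beq (actR83 i) i) 60000 15000 = true := by decide +kernel
theorem c_act83_5 : allRange (fun i => Nat.beq (actR83 i) i) 75000 15000 = true := by decide +kernel
theorem c_act83_6 : allRange (fun i => Nat.beq (actR83 i) i) 90000 15000 = true := by decide +kernel
theorem c_act83_7 : allRange (fun i => Nat.beq (actR83 i) i) 105000 15000 = true := by decide +kernel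
theorem c_act83_8 : allRange (fun i => Nat.beq (actR83 i) i) 120000 15000 = true := by decide +kernel
theorem c_act83_9 : allRange (fun i => Nat.beq (actR83 i) i) 135000 15000 = true := by decide +kernel
theorem c_act83_10 : allRange (fun i => Nat.beq (actR83 i) i) 150000 15000 = true := by decide +kernel
theorem c_act83_11 : allRange (fun i => Nat.beq (actR83 i) i) 165000 15000 = true := by decide +kernel
theorem c_act83_12 : allRange (fun i => Nat.beq (actR83 i) i) 180000 5328 = true := by decide +kernel
theorem c_act84_0 : allRange (fun i => Nat.beq (actR84 i) i) 0 15000 = true := by decide +kernel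
theorem c_act84_1 : allRange (fun i => Nat.beq (actR84 i) i) 15000 15000 = true := by decide +kernel
theorem c_act84_2 : allRange (fun i => Nat.beq (actR84 i) i) 30000 15000 = true := by decide +kernel
theorem c_act84_3 : allRange (fun i => Nat.beq (actR84 i) i) 45000 15000 = true := by decide +kernel
theorem c_act84_4 : allRange (fun i => Nat.beq (actR84 i) i) 60000 15000 = true := by decide +kernel
theorem c_act84_5 : allRange (fun i => Nat.beq (actR84 i) i) 75000 15000 = true := by decide +kernel
theorem c_act84_6 : allRange (fun i => Nat.beq (actR84 i) i) 90000 15000 = true := by decide +kernel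
theorem c_act84_7 : allRange (fun i => Nat.beq (actR84 i) i) 105000 15000 = true := by decide +kernel
theorem c_act84_8 : allRange (fun i => Nat.beq (actR84 i) i) 120000 15000 = true := by decide +kernel
theorem c_act84_9 : allRange (fun i => Nat.beq (actR84 i) i) 135000 15000 = true := by decide +kernel
theorem c_act84_10 : allRange (fun i => Nat.beq (actR84 i) i) 150000 15000 = true := by decide +kernel
theorem c_act84_11 : allRange (fun i => Nat.beq (actR84 i) i) 165000 15000 = true := by decide +kernel
theorem c_act84_12 : allRange (fun i => Nat.beq (actR84 i) i) 180000 5328 = true := by decide +kernel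
theorem c_act85_0 : allRange (fun i => Nat.beq (actR85 i) i) 0 15000 = true := by decide +kernel
theorem c_act85_1 : allRange (fun i => Nat.beq (actR85 i) i) 15000 15000 = true := by decide +kernel
theorem c_act85_2 : allRange (fun i => Nat.beq (actR85 i) i) 30000 15000 = true := by decide +kernel
theorem c_act85_3 : allRange (fun i => Nat.beq (actR85 i) i) 45000 15000 = true := by decide +kernel
theorem c_act85_4 : allRange (fun i => Nat.beq (actR85 i) i) 60000 15000 = true := by decide +kernel
theorem c_act85_5 : allRange (fun i => Nat.beq (actR85 i) i) 75000 15000 = true := by decide +kernel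
theorem c_act85_6 : allRange (fun i => Nat.beq (actR85 i) i) 90000 15000 = true := by decide +kernel
theorem c_act85_7 : allRange (fun i => Nat.beq (actR85 i) i) 105000 15000 = true := by decide +kernel
theorem c_act85_8 : allRange (fun i => Nat.beq (actR85 i) i) 120000 15000 = true := by decide +kernel
theorem c_act85_9 : allRange (fun i => Nat.beq (actR85 i) i) 135000 15000 = true := by decide +kernel
theorem c_act85_10 : allRange (fun i => Nat.beq (actR85 i) i) 150000 15000 = true := by decide +kernel
theorem c_act85_11 : allRange (fun i => Nat.beq (actR85 i) i) 165000 15000 = true := by decide +kernel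
theorem c_act85_12 : allRange (fun i => Nat.beq (actR85 i) i) 180000 5328 = true := by decide +kernel
theorem c_act86_0 : allRange (fun i => Nat.beq (actR86 i) i) 0 15000 = true := by decide +kernel
theorem c_act86_1 : allRange (fun i => Nat.beq (actR86 i) i) 15000 15000 = true := by decide +kernel
theorem c_act86_2 : allRange (fun i => Nat.beq (actR86 i) i) 30000 15000 = true := by decide +kernel

end Cfsg.Agent.Lib.Helper4.TCD.C3Fi22yR
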