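import Cfsg.Agent.Lib.Helper4.TCD_C3Fi22yR_Acc

namespace Cfsg.Agent.Lib.Helper4.TCD.C3Fi22yR

open Cfsg.Agent.Lib.Helper4.TC

set_option maxRecDepth 100000
set_option Elab.async false

theorem c_act86_3 : allRange (fun i => Nat.beq (actR86 i) i) 45000 15000 = true := by decide +kernel
theorem c_act86_4 : allRange (fun i => Nat.beq (actR86 i) i) 60000 15000 = true := by decide +kernel
theorem c_act86_5 : allRange (fun i => Nat.beq (actR86 i) i) 75000 15000 = true := by decide +kernel
theorem c_act86_6 : allRange (fun i => Nat.beq (actR86 i) i) 90000 15000 = true := by decide +kernel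
theorem c_act86_7 : allRange (fun i => Nat.beq (actR86 i) i) 105000 15000 = true := by decide +kernel
theorem c_act86_8 : allRange (fun i => Nat.beq (actR86 i) i) 120000 15000 = true := by decide +kernel
theorem c_act86_9 : allRange (fun i => Nat.beq (actR86 i) i) 135000 15000 = true := by decide +kernel
theorem c_act86_10 : allRange (fun i => Nat.beq (actR86 i) i) 150000 15000 = true := by decide +kernel
theorem c_act86_11 : allRange (fun i => Nat.beq (actR86 i) i) 165000 15000 = true := by decide +kernel
theorem c_act86_12 : allRange (fun i => Nat.beq (actR86 i) i) 180000 5328 = true := by decide +kernel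
theorem c_act87_0 : allRange (fun i => Nat.beq (actR87 i) i) 0 15000 = true := by decide +kernel
theorem c_act87_1 : allRange (fun i => Nat.beq (actR87 i) i) 15000 15000 = true := by decide +kernel
theorem c_act87_2 : allRange (fun i => Nat.beq (actR87 i) i) 30000 15000 = true := by decide +kernel
theorem c_act87_3 : allRange (fun i => Nat.beq (actR87 i) i) 45000 15000 = true := by decide +kernel
theorem c_act87_4 : allRange (fun i => Nat.beq (actR87 i) i) 60000 15000 = true := by decide +kernel
theorem c_act87_5 : allRange (fun i => Nat.beq (actR87 i) i) 75000 15000 = true := by decide +kernel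
theorem c_act87_6 : allRange (fun i => Nat.beq (actR87 i) i) 90000 15000 = true := by decide +kernel
theorem c_act87_7 : allRange (fun i => Nat.beq (actR87 i) i) 105000 15000 = true := by decide +kernel
theorem c_act87_8 : allRange (fun i => Nat.beq (actR87 i) i) 120000 15000 = true := by decide +kernel
theorem c_act87_9 : allRange (fun i => Nat.beq (actR87 i) i) 135000 15000 = true := by decide +kernel
theorem c_act87_10 : allRange (fun i => Nat.beq (actR87 i) i) 150000 15000 = true := by decide +kernel
theorem c_act87_11 : allRange (fun i => Nat.beq (actR87 i) i) 165000 15000 = true := by decide +kernel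
theorem c_act87_12 : allRange (fun i => Nat.beq (actR87 i) i) 180000 5328 = true := by decide +kernel
theorem c_act88_0 : allRange (fun i => Nat.beq (actR88 i) i) 0 15000 = true := by decide +kernel
theorem c_act88_1 : allRange (fun i => Nat.beq (actR88 i) i) 15000 15000 = true := by decide +kernel
theorem c_act88_2 : allRange (fun i => Nat.beq (actR88 i) i) 30000 15000 = true := by decide +kernel
theorem c_act88_3 : allRange (fun i => Nat.beq (actR88 i) i) 45000 15000 = true := by decide +kernel
theorem c_act88_4 : allRange (fun i => Nat.beq (actR88 i) i) 60000 15000 = true := by decide +kernel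
theorem c_act88_5 : allRange (fun i => Nat.beq (actR88 i) i) 75000 15000 = true := by decide +kernel
theorem c_act88_6 : allRange (fun i => Nat.beq (actR88 i) i) 90000 15000 = true := by decide +kernel
theorem c_act88_7 : allRange (fun i => Nat.beq (actR88 i) i) 105000 15000 = true := by decide +kernel
theorem c_act88_8 : allRange (fun i => Nat.beq (actR88 i) i) 120000 15000 = true := by decide +kernel
theorem c_act88_9 : allRange (fun i => Nat.beq (actR88 i) i) 135000 15000 = true := by decide +kernel
theorem c_act88_10 : allRange (fun i => Nat.beq (actR88 i) i) 150000 15000 = true := by decide +kernel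
theorem c_act88_11 : allRange (fun i => Nat.beq (actR88 i) i) 165000 15000 = true := by decide +kernel
theorem c_act88_12 : allRange (fun i => Nat.beq (actR88 i) i) 180000 5328 = true := by decide +kernel
theorem c_act89_0 : allRange (fun i => Nat.beq (actR89 i) i) 0 15000 = true := by decide +kernel
theorem c_act89_1 : allRange (fun i => Nat.beq (actR89 i) i) 15000 15000 = true := by decide +kernel
theorem c_act89_2 : allRange (fun i => Nat.beq (actR89 i) i) 30000 15000 = true := by decide +kernel
theorem c_act89_3 : allRange (fun i => Nat.beq (actR89 i) i) 45000 15000 = true := by decide +kernel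
theorem c_act89_4 : allRange (fun i => Nat.beq (actR89 i) i) 60000 15000 = true := by decide +kernel
theorem c_act89_5 : allRange (fun i => Nat.beq (actR89 i) i) 75000 15000 = true := by decide +kernel
theorem c_act89_6 : allRange (fun i => Nat.beq (actR89 i) i) 90000 15000 = true := by decide +kernel
theorem c_act89_7 : allRange (fun i => Nat.beq (actR89 i) i) 105000 15000 = true := by decide +kernel
theorem c_act89_8 : allRange (fun i => Nat.beq (actR89 i) i) 120000 15000 = true := by decide +kernel
theorem c_act89_9 : allRange (fun i => Nat.beq (actR89 i) i) 135000 15000 = true := by decide +kernel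
theorem c_act89_10 : allRange (fun i => Nat.beq (actR89 i) i) 150000 15000 = true := by decide +kernel
theorem c_act89_11 : allRange (fun i => Nat.beq (actR89 i) i) 165000 15000 = true := by decide +kernel
theorem c_act89_12 : allRange (fun i => Nat.beq (actR89 i) i) 180000 5328 = true := by decide +kernel
theorem c_act90_0 : allRange (fun i => Nat.beq (actR90 i) i) 0 15000 = true := by decide +kernel
theorem c_act90_1 : allRange (fun i => Nat.beq (actR90 i) i) 15000 15000 = true := by decide +kernel
theorem c_act90_2 : allRange (fun i => Nat.beq (actR90 i) i) 30000 15000 = true := by decide +kernel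
theorem c_act90_3 : allRange (fun i => Nat.beq (actR90 i) i) 45000 15000 = true := by decide +kernel
theorem c_act90_4 : allRange (fun i => Nat.beq (actR90 i) i) 60000 15000 = true := by decide +kernel
theorem c_act90_5 : allRange (fun i => Nat.beq (actR90 i) i) 75000 15000 = true := by decide +kernel
theorem c_act90_6 : allRange (fun i => Nat.beq (actR90 i) i) 90000 15000 = true := by decide +kernel
theorem c_act90_7 : allRange (fun i => Nat.beq (actR90 i) i) 105000 15000 = true := by decide +kernel
theorem c_act90_8 : allRange (fun i => Nat.beq (actR90 i) i) 120000 15000 = true := by decide +kernel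
theorem c_act90_9 : allRange (fun i => Nat.beq (actR90 i) i) 135000 15000 = true := by decide +kernel
theorem c_act90_10 : allRange (fun i => Nat.beq (actR90 i) i) 150000 15000 = true := by decide +kernel
theorem c_act90_11 : allRange (fun i => Nat.beq (actR90 i) i) 165000 15000 = true := by decide +kernel
theorem c_act90_12 : allRange (fun i => Nat.beq (actR90 i) i) 180000 5328 = true := by decide +kernel
theorem c_act91_0 : allRange (fun i => Nat.beq (actR91 i) i) 0 15000 = true := by decide +kernel
theorem c_act91_1 : allRange (fun i => Nat.beq (actR91 i) i) 15000 15000 = true := by decide +kernel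
theorem c_act91_2 : allRange (fun i => Nat.beq (actR91 i) i) 30000 15000 = true := by decide +kernel
theorem c_act91_3 : allRange (fun i => Nat.beq (actR91 i) i) 45000 15000 = true := by decide +kernel
theorem c_act91_4 : allRange (fun i => Nat.beq (actR91 i) i) 60000 15000 = true := by decide +kernel
theorem c_act91_5 : allRange (fun i => Nat.beq (actR91 i) i) 75000 15000 = true := by decide +kernel
theorem c_act91_6 : allRange (fun i => Nat.beq (actR91 i) i) 90000 15000 = true := by decide +kernel
theorem c_act91_7 : allRange (fun i => Nat.beq (actR91 i) i) 105000 15000 = true := by decide +kernel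
theorem c_act91_8 : allRange (fun i => Nat.beq (actR91 i) i) 120000 15000 = true := by decide +kernel
theorem c_act91_9 : allRange (fun i => Nat.beq (actR91 i) i) 135000 15000 = true := by decide +kernel
theorem c_act91_10 : allRange (fun i => Nat.beq (actR91 i) i) 150000 15000 = true := by decide +kernel
theorem c_act91_11 : allRange (fun i => Nat.beq (actR91 i) i) 165000 15000 = true := by decide +kernel
theorem c_act91_12 : allRange (fun i => Nat.beq (actR91 i) i) 180000 5328 = true := by decide +kernel
theorem c_act92_0 : allRange (fun i => Nat.beq (actR92 i) i) 0 15000 = true := by decide +kernel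
theorem c_act92_1 : allRange (fun i => Nat.beq (actR92 i) i) 15000 15000 = true := by decide +kernel
theorem c_act92_2 : allRange (fun i => Nat.beq (actR92 i) i) 30000 15000 = true := by decide +kernel
theorem c_act92_3 : allRange (fun i => Nat.beq (actR92 i) i) 45000 15000 = true := by decide +kernel
theorem c_act92_4 : allRange (fun i => Nat.beq (actR92 i) i) 60000 15000 = true := by decide +kernel
theorem c_act92_5 : allRange (fun i => Nat.beq (actR92 i) i) 75000 15000 = true := by decide +kernel
theorem c_act92_6 : allRange (fun i => Nat.beq (actR92 i) i) 90000 15000 = true := by decide +kernel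
theorem c_act92_7 : allRange (fun i => Nat.beq (actR92 i) i) 105000 15000 = true := by decide +kernel
theorem c_act92_8 : allRange (fun i => Nat.beq (actR92 i) i) 120000 15000 = true := by decide +kernel
theorem c_act92_9 : allRange (fun i => Nat.beq (actR92 i) i) 135000 15000 = true := by decide +kernel
theorem c_act92_10 : allRange (fun i => Nat.beq (actR92 i) i) 150000 15000 = true := by decide +kernel
theorem c_act92_11 : allRange (fun i => Nat.beq (actR92 i) i) 165000 15000 = true := by decide +kernel
theorem c_act92_12 : allRange (fun i => Nat.beq (actR92 i) i) 180000 5328 = true := by decide +kernel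

end Cfsg.Agent.Lib.Helper4.TCD.C3Fi22yR
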