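import Cfsg.Agent.Lib.Helper4.TCD_C3Fi22yR_Acc

namespace Cfsg.Agent.Lib.Helper4.TCD.C3Fi22yR

open Cfsg.Agent.Lib.Helper4.TC

set_option maxRecDepth 100000
set_option Elab.async false

theorem c_act19_4 : allRange (fun i => Nat.beq (actR19 i) i) 60000 15000 = true := by decide +kernel
theorem c_act19_5 : allRange (fun i => Nat.beq (actR19 i) i) 75000 15000 = true := by decide +kernel
theorem c_act19_6 : allRange (fun i => Nat.beq (actR19 i) i) 90000 15000 = true := by decide +kernel
theorem c_act19_7 : allRange (fun i => Nat.beq (actR19 i) i) 105000 15000 = true := by decide +kernel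
theorem c_act19_8 : allRange (fun i => Nat.beq (actR19 i) i) 120000 15000 = true := by decide +kernel
theorem c_act19_9 : allRange (fun i => Nat.beq (actR19 i) i) 135000 15000 = true := by decide +kernel
theorem c_act19_10 : allRange (fun i => Nat.beq (actR19 i) i) 150000 15000 = true := by decide +kernel
theorem c_act19_11 : allRange (fun i => Nat.beq (actR19 i) i) 165000 15000 = true := by decide +kernel
theorem c_act19_12 : allRange (fun i => Nat.beq (actR19 i) i) 180000 5328 = true := by decide +kernel
theorem c_act20_0 : allRange (fun i => Nat.beq (actR20 i) i) 0 15000 = true := by decide +kernel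
theorem c_act20_1 : allRange (fun i => Nat.beq (actR20 i) i) 15000 15000 = true := by decide +kernel
theorem c_act20_2 : allRange (fun i => Nat.beq (actR20 i) i) 30000 15000 = true := by decide +kernel
theorem c_act20_3 : allRange (fun i => Nat.beq (actR20 i) i) 45000 15000 = true := by decide +kernel
theorem c_act20_4 : allRange (fun i => Nat.beq (actR20 i) i) 60000 15000 = true := by decide +kernel
theorem c_act20_5 : allRange (fun i => Nat.beq (actR20 i) i) 75000 15000 = true := by decide +kernel
theorem c_act20_6 : allRange (fun i => Nat.beq (actR20 i) i) 90000 15000 = true := by decide +kernel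
theorem c_act20_7 : allRange (fun i => Nat.beq (actR20 i) i) 105000 15000 = true := by decide +kernel
theorem c_act20_8 : allRange (fun i => Nat.beq (actR20 i) i) 120000 15000 = true := by decide +kernel
theorem c_act20_9 : allRange (fun i => Nat.beq (actR20 i) i) 135000 15000 = true := by decide +kernel
theorem c_act20_10 : allRange (fun i => Nat.beq (actR20 i) i) 150000 15000 = true := by decide +kernel
theorem c_act20_11 : allRange (fun i => Nat.beq (actR20 i) i) 165000 15000 = true := by decide +kernel
theorem c_act20_12 : allRange (fun i => Nat.beq (actR20 i) i) 180000 5328 = true := by decide +kernel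
theorem c_act21_0 : allRange (fun i => Nat.beq (actR21 i) i) 0 15000 = true := by decide +kernel
theorem c_act21_1 : allRange (fun i => Nat.beq (actR21 i) i) 15000 15000 = true := by decide +kernel
theorem c_act21_2 : allRange (fun i => Nat.beq (actR21 i) i) 30000 15000 = true := by decide +kernel
theorem c_act21_3 : allRange (fun i => Nat.beq (actR21 i) i) 45000 15000 = true := by decide +kernel
theorem c_act21_4 : allRange (fun i => Nat.beq (actR21 i) i) 60000 15000 = true := by decide +kernel
theorem c_act21_5 : allRange (fun i => Nat.beq (actR21 i) i) 75000 15000 = true := by decide +kernel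
theorem c_act21_6 : allRange (fun i => Nat.beq (actR21 i) i) 90000 15000 = true := by decide +kernel
theorem c_act21_7 : allRange (fun i => Nat.beq (actR21 i) i) 105000 15000 = true := by decide +kernel
theorem c_act21_8 : allRange (fun i => Nat.beq (actR21 i) i) 120000 15000 = true := by decide +kernel
theorem c_act21_9 : allRange (fun i => Nat.beq (actR21 i) i) 135000 15000 = true := by decide +kernel
theorem c_act21_10 : allRange (fun i => Nat.beq (actR21 i) i) 150000 15000 = true := by decide +kernel
theorem c_act21_11 : allRange (fun i => Nat.beq (actR21 i) i) 165000 15000 = true := by decide +kernel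
theorem c_act21_12 : allRange (fun i => Nat.beq (actR21 i) i) 180000 5328 = true := by decide +kernel
theorem c_act22_0 : allRange (fun i => Nat.beq (actR22 i) i) 0 15000 = true := by decide +kernel
theorem c_act22_1 : allRange (fun i => Nat.beq (actR22 i) i) 15000 15000 = true := by decide +kernel
theorem c_act22_2 : allRange (fun i => Nat.beq (actR22 i) i) 30000 15000 = true := by decide +kernel
theorem c_act22_3 : allRange (fun i => Nat.beq (actR22 i) i) 45000 15000 = true := by decide +kernel
theorem c_act22_4 : allRange (fun i => Nat.beq (actR22 i) i) 60000 15000 = true := by decide +kernel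
theorem c_act22_5 : allRange (fun i => Nat.beq (actR22 i) i) 75000 15000 = true := by decide +kernel
theorem c_act22_6 : allRange (fun i => Nat.beq (actR22 i) i) 90000 15000 = true := by decide +kernel
theorem c_act22_7 : allRange (fun i => Nat.beq (actR22 i) i) 105000 15000 = true := by decide +kernel
theorem c_act22_8 : allRange (fun i => Nat.beq (actR22 i) i) 120000 15000 = true := by decide +kernel
theorem c_act22_9 : allRange (fun i => Nat.beq (actR22 i) i) 135000 15000 = true := by decide +kernel
theorem c_act22_10 : allRange (fun i => Nat.beq (actR22 i) i) 150000 15000 = true := by decide +kernel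
theorem c_act22_11 : allRange (fun i => Nat.beq (actR22 i) i) 165000 15000 = true := by decide +kernel
theorem c_act22_12 : allRange (fun i => Nat.beq (actR22 i) i) 180000 5328 = true := by decide +kernel
theorem c_act23_0 : allRange (fun i => Nat.beq (actR23 i) i) 0 15000 = true := by decide +kernel
theorem c_act23_1 : allRange (fun i => Nat.beq (actR23 i) i) 15000 15000 = true := by decide +kernel
theorem c_act23_2 : allRange (fun i => Nat.beq (actR23 i) i) 30000 15000 = true := by decide +kernel
theorem c_act23_3 : allRange (fun i => Nat.beq (actR23 i) i) 45000 15000 = true := by decide +kernel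
theorem c_act23_4 : allRange (fun i => Nat.beq (actR23 i) i) 60000 15000 = true := by decide +kernel
theorem c_act23_5 : allRange (fun i => Nat.beq (actR23 i) i) 75000 15000 = true := by decide +kernel
theorem c_act23_6 : allRange (fun i => Nat.beq (actR23 i) i) 90000 15000 = true := by decide +kernel
theorem c_act23_7 : allRange (fun i => Nat.beq (actR23 i) i) 105000 15000 = true := by decide +kernel
theorem c_act23_8 : allRange (fun i => Nat.beq (actR23 i) i) 120000 15000 = true := by decide +kernel
theorem c_act23_9 : allRange (fun i => Nat.beq (actR23 i) i) 135000 15000 = true := by decide +kernel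
theorem c_act23_10 : allRange (fun i => Nat.beq (actR23 i) i) 150000 15000 = true := by decide +kernel
theorem c_act23_11 : allRange (fun i => Nat.beq (actR23 i) i) 165000 15000 = true := by decide +kernel
theorem c_act23_12 : allRange (fun i => Nat.beq (actR23 i) i) 180000 5328 = true := by decide +kernel
theorem c_act24_0 : allRange (fun i => Nat.beq (actR24 i) i) 0 30000 = true := by decide +kernel
theorem c_act24_1 : allRange (fun i => Nat.beq (actR24 i) i) 30000 30000 = true := by decide +kernel
theorem c_act24_2 : allRange (fun i => Nat.beq (actR24 i) i) 60000 30000 = true := by decide +kernel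
theorem c_act24_3 : allRange (fun i => Nat.beq (actR24 i) i) 90000 30000 = true := by decide +kernel
theorem c_act24_4 : allRange (fun i => Nat.beq (actR24 i) i) 120000 30000 = true := by decide +kernel
theorem c_act24_5 : allRange (fun i => Nat.beq (actR24 i) i) 150000 30000 = true := by decide +kernel
theorem c_act24_6 : allRange (fun i => Nat.beq (actR24 i) i) 180000 5328 = true := by decide +kernel
theorem c_act25_0 : allRange (fun i => Nat.beq (actR25 i) i) 0 10000 = true := by decide +kernel
theorem c_act25_1 : allRange (fun i => Nat.beq (actR25 i) i) 10000 10000 = true := by decide +kernel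
theorem c_act25_2 : allRange (fun i => Nat.beq (actR25 i) i) 20000 10000 = true := by decide +kernel
theorem c_act25_3 : allRange (fun i => Nat.beq (actR25 i) i) 30000 10000 = true := by decide +kernel
theorem c_act25_4 : allRange (fun i => Nat.beq (actR25 i) i) 40000 10000 = true := by decide +kernel
theorem c_act25_5 : allRange (fun i => Nat.beq (actR25 i) i) 50000 10000 = true := by decide +kernel
theorem c_act25_6 : allRange (fun i => Nat.beq (actR25 i) i) 60000 10000 = true := by decide +kernel
theorem c_act25_7 : allRange (fun i => Nat.beq (actR25 i) i) 70000 10000 = true := by decide +kernel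
theorem c_act25_8 : allRange (fun i => Nat.beq (actR25 i) i) 80000 10000 = true := by decide +kernel
theorem c_act25_9 : allRange (fun i => Nat.beq (actR25 i) i) 90000 10000 = true := by decide +kernel
theorem c_act25_10 : allRange (fun i => Nat.beq (actR25 i) i) 100000 10000 = true := by decide +kernel
theorem c_act25_11 : allRange (fun i => Nat.beq (actR25 i) i) 110000 10000 = true := by decide +kernel
theorem c_act25_12 : allRange (fun i => Nat.beq (actR25 i) i) 120000 10000 = true := by decide +kernel
theorem c_act25_13 : allRange (fun i => Nat.beq (actR25 i) i) 130000 10000 = true := by decide +kernel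
theorem c_act25_14 : allRange (fun i => Nat.beq (actR25 i) i) 140000 10000 = true := by decide +kernel
theorem c_act25_15 : allRange (fun i => Nat.beq (actR25 i) i) 150000 10000 = true := by decide +kernel
theorem c_act25_16 : allRange (fun i => Nat.beq (actR25 i) i) 160000 10000 = true := by decide +kernel
theorem c_act25_17 : allRange (fun i => Nat.beq (actR25 i) i) 170000 10000 = true := by decide +kernel
theorem c_act25_18 : allRange (fun i => Nat.beq (actR25 i) i) 180000 5328 = true := by decide +kernel
theorem c_act26_0 : allRange (fun i => Nat.beq (actR26 i) i) 0 10000 = true := by decide +kernel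
theorem c_act26_1 : allRange (fun i => Nat.beq (actR26 i) i) 10000 10000 = true := by decide +kernel
theorem c_act26_2 : allRange (fun i => Nat.beq (actR26 i) i) 20000 10000 = true := by decide +kernel
theorem c_act26_3 : allRange (fun i => Nat.beq (actR26 i) i) 30000 10000 = true := by decide +kernel
theorem c_act26_4 : allRange (fun i => Nat.beq (actR26 i) i) 40000 10000 = true := by decide +kernel
theorem c_act26_5 : allRange (fun i => Nat.beq (actR26 i) i) 50000 10000 = true := by decide +kernel
theorem c_act26_6 : allRange (fun i => Nat.beq (actR26 i) i) 60000 10000 = true := by decide +kernel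
theorem c_act26_7 : allRange (fun i => Nat.beq (actR26 i) i) 70000 10000 = true := by decide +kernel
theorem c_act26_8 : allRange (fun i => Nat.beq (actR26 i) i) 80000 10000 = true := by decide +kernel
theorem c_act26_9 : allRange (fun i => Nat.beq (actR26 i) i) 90000 10000 = true := by decide +kernel
theorem c_act26_10 : allRange (fun i => Nat.beq (actR26 i) i) 100000 10000 = true := by decide +kernel
theorem c_act26_11 : allRange (fun i => Nat.beq (actR26 i) i) 110000 10000 = true := by decide +kernel
theorem c_act26_12 : allRange (fun i => Nat.beq (actR26 i) i) 120000 10000 = true := by decide +kernel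
theorem c_act26_13 : allRange (fun i => Nat.beq (actR26 i) i) 130000 10000 = true := by decide +kernel
theorem c_act26_14 : allRange (fun i => Nat.beq (actR26 i) i) 140000 10000 = true := by decide +kernel
theorem c_act26_15 : allRange (fun i => Nat.beq (actR26 i) i) 150000 10000 = true := by decide +kernel
theorem c_act26_16 : allRange (fun i => Nat.beq (actR26 i) i) 160000 10000 = true := by decide +kernel

end Cfsg.Agent.Lib.Helper4.TCD.C3Fi22yR
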