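import Cfsg.Agent.Lib.Helper4.TCD_C3Fi22yR_Acc

namespace Cfsg.Agent.Lib.Helper4.TCD.C3Fi22yR

open Cfsg.Agent.Lib.Helper4.TC

set_option maxRecDepth 100000
set_option Elab.async false

theorem c_act26_17 : allRange (fun i => Nat.beq (actR26 i) i) 170000 10000 = true := by decide +kernel
theorem c_act26_18 : allRange (fun i => Nat.beq (actR26 i) i) 180000 5328 = true := by decide +kernel
theorem c_act27_0 : allRange (fun i => Nat.beq (actR27 i) i) 0 15000 = true := by decide +kernel
theorem c_act27_1 : allRange (fun i => Nat.beq (actR27 i) i) 15000 15000 = true := by decide +kernel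
theorem c_act27_2 : allRange (fun i => Nat.beq (actR27 i) i) 30000 15000 = true := by decide +kernel
theorem c_act27_3 : allRange (fun i => Nat.beq (actR27 i) i) 45000 15000 = true := by decide +kernel
theorem c_act27_4 : allRange (fun i => Nat.beq (actR27 i) i) 60000 15000 = true := by decide +kernel
theorem c_act27_5 : allRange (fun i => Nat.beq (actR27 i) i) 75000 15000 = true := by decide +kernel
theorem c_act27_6 : allRange (fun i => Nat.beq (actR27 i) i) 90000 15000 = true := by decide +kernel
theorem c_act27_7 : allRange (fun i => Nat.beq (actR27 i) i) 105000 15000 = true := by decide +kernel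
theorem c_act27_8 : allRange (fun i => Nat.beq (actR27 i) i) 120000 15000 = true := by decide +kernel
theorem c_act27_9 : allRange (fun i => Nat.beq (actR27 i) i) 135000 15000 = true := by decide +kernel
theorem c_act27_10 : allRange (fun i => Nat.beq (actR27 i) i) 150000 15000 = true := by decide +kernel
theorem c_act27_11 : allRange (fun i => Nat.beq (actR27 i) i) 165000 15000 = true := by decide +kernel
theorem c_act27_12 : allRange (fun i => Nat.beq (actR27 i) i) 180000 5328 = true := by decide +kernel
theorem c_act28_0 : allRange (fun i => Nat.beq (actR28 i) i) 0 15000 = true := by decide +kernel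
theorem c_act28_1 : allRange (fun i => Nat.beq (actR28 i) i) 15000 15000 = true := by decide +kernel
theorem c_act28_2 : allRange (fun i => Nat.beq (actR28 i) i) 30000 15000 = true := by decide +kernel
theorem c_act28_3 : allRange (fun i => Nat.beq (actR28 i) i) 45000 15000 = true := by decide +kernel
theorem c_act28_4 : allRange (fun i => Nat.beq (actR28 i) i) 60000 15000 = true := by decide +kernel
theorem c_act28_5 : allRange (fun i => Nat.beq (actR28 i) i) 75000 15000 = true := by decide +kernel
theorem c_act28_6 : allRange (fun i => Nat.beq (actR28 i) i) 90000 15000 = true := by decide +kernel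
theorem c_act28_7 : allRange (fun i => Nat.beq (actR28 i) i) 105000 15000 = true := by decide +kernel
theorem c_act28_8 : allRange (fun i => Nat.beq (actR28 i) i) 120000 15000 = true := by decide +kernel
theorem c_act28_9 : allRange (fun i => Nat.beq (actR28 i) i) 135000 15000 = true := by decide +kernel
theorem c_act28_10 : allRange (fun i => Nat.beq (actR28 i) i) 150000 15000 = true := by decide +kernel
theorem c_act28_11 : allRange (fun i => Nat.beq (actR28 i) i) 165000 15000 = true := by decide +kernel
theorem c_act28_12 : allRange (fun i => Nat.beq (actR28 i) i) 180000 5328 = true := by decide +kernel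
theorem c_act29_0 : allRange (fun i => Nat.beq (actR29 i) i) 0 15000 = true := by decide +kernel
theorem c_act29_1 : allRange (fun i => Nat.beq (actR29 i) i) 15000 15000 = true := by decide +kernel
theorem c_act29_2 : allRange (fun i => Nat.beq (actR29 i) i) 30000 15000 = true := by decide +kernel
theorem c_act29_3 : allRange (fun i => Nat.beq (actR29 i) i) 45000 15000 = true := by decide +kernel
theorem c_act29_4 : allRange (fun i => Nat.beq (actR29 i) i) 60000 15000 = true := by decide +kernel
theorem c_act29_5 : allRange (fun i => Nat.beq (actR29 i) i) 75000 15000 = true := by decide +kernel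
theorem c_act29_6 : allRange (fun i => Nat.beq (actR29 i) i) 90000 15000 = true := by decide +kernel
theorem c_act29_7 : allRange (fun i => Nat.beq (actR29 i) i) 105000 15000 = true := by decide +kernel
theorem c_act29_8 : allRange (fun i => Nat.beq (actR29 i) i) 120000 15000 = true := by decide +kernel
theorem c_act29_9 : allRange (fun i => Nat.beq (actR29 i) i) 135000 15000 = true := by decide +kernel
theorem c_act29_10 : allRange (fun i => Nat.beq (actR29 i) i) 150000 15000 = true := by decide +kernel
theorem c_act29_11 : allRange (fun i => Nat.beq (actR29 i) i) 165000 15000 = true := by decide +kernel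
theorem c_act29_12 : allRange (fun i => Nat.beq (actR29 i) i) 180000 5328 = true := by decide +kernel
theorem c_act30_0 : allRange (fun i => Nat.beq (actR30 i) i) 0 30000 = true := by decide +kernel
theorem c_act30_1 : allRange (fun i => Nat.beq (actR30 i) i) 30000 30000 = true := by decide +kernel
theorem c_act30_2 : allRange (fun i => Nat.beq (actR30 i) i) 60000 30000 = true := by decide +kernel
theorem c_act30_3 : allRange (fun i => Nat.beq (actR30 i) i) 90000 30000 = true := by decide +kernel
theorem c_act30_4 : allRange (fun i => Nat.beq (actR30 i) i) 120000 30000 = true := by decide +kernel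
theorem c_act30_5 : allRange (fun i => Nat.beq (actR30 i) i) 150000 30000 = true := by decide +kernel
theorem c_act30_6 : allRange (fun i => Nat.beq (actR30 i) i) 180000 5328 = true := by decide +kernel
theorem c_act31_0 : allRange (fun i => Nat.beq (actR31 i) i) 0 15000 = true := by decide +kernel
theorem c_act31_1 : allRange (fun i => Nat.beq (actR31 i) i) 15000 15000 = true := by decide +kernel
theorem c_act31_2 : allRange (fun i => Nat.beq (actR31 i) i) 30000 15000 = true := by decide +kernel
theorem c_act31_3 : allRange (fun i => Nat.beq (actR31 i) i) 45000 15000 = true := by decide +kernel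
theorem c_act31_4 : allRange (fun i => Nat.beq (actR31 i) i) 60000 15000 = true := by decide +kernel
theorem c_act31_5 : allRange (fun i => Nat.beq (actR31 i) i) 75000 15000 = true := by decide +kernel
theorem c_act31_6 : allRange (fun i => Nat.beq (actR31 i) i) 90000 15000 = true := by decide +kernel
theorem c_act31_7 : allRange (fun i => Nat.beq (actR31 i) i) 105000 15000 = true := by decide +kernel
theorem c_act31_8 : allRange (fun i => Nat.beq (actR31 i) i) 120000 15000 = true := by decide +kernel
theorem c_act31_9 : allRange (fun i => Nat.beq (actR31 i) i) 135000 15000 = true := by decide +kernel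
theorem c_act31_10 : allRange (fun i => Nat.beq (actR31 i) i) 150000 15000 = true := by decide +kernel
theorem c_act31_11 : allRange (fun i => Nat.beq (actR31 i) i) 165000 15000 = true := by decide +kernel
theorem c_act31_12 : allRange (fun i => Nat.beq (actR31 i) i) 180000 5328 = true := by decide +kernel
theorem c_act32_0 : allRange (fun i => Nat.beq (actR32 i) i) 0 10000 = true := by decide +kernel
theorem c_act32_1 : allRange (fun i => Nat.beq (actR32 i) i) 10000 10000 = true := by decide +kernel
theorem c_act32_2 : allRange (fun i => Nat.beq (actR32 i) i) 20000 10000 = true := by decide +kernel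
theorem c_act32_3 : allRange (fun i => Nat.beq (actR32 i) i) 30000 10000 = true := by decide +kernel
theorem c_act32_4 : allRange (fun i => Nat.beq (actR32 i) i) 40000 10000 = true := by decide +kernel
theorem c_act32_5 : allRange (fun i => Nat.beq (actR32 i) i) 50000 10000 = true := by decide +kernel
theorem c_act32_6 : allRange (fun i => Nat.beq (actR32 i) i) 60000 10000 = true := by decide +kernel
theorem c_act32_7 : allRange (fun i => Nat.beq (actR32 i) i) 70000 10000 = true := by decide +kernel
theorem c_act32_8 : allRange (fun i => Nat.beq (actR32 i) i) 80000 10000 = true := by decide +kernel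
theorem c_act32_9 : allRange (fun i => Nat.beq (actR32 i) i) 90000 10000 = true := by decide +kernel
theorem c_act32_10 : allRange (fun i => Nat.beq (actR32 i) i) 100000 10000 = true := by decide +kernel
theorem c_act32_11 : allRange (fun i => Nat.beq (actR32 i) i) 110000 10000 = true := by decide +kernel
theorem c_act32_12 : allRange (fun i => Nat.beq (actR32 i) i) 120000 10000 = true := by decide +kernel
theorem c_act32_13 : allRange (fun i => Nat.beq (actR32 i) i) 130000 10000 = true := by decide +kernel
theorem c_act32_14 : allRange (fun i => Nat.beq (actR32 i) i) 140000 10000 = true := by decide +kernel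
theorem c_act32_15 : allRange (fun i => Nat.beq (actR32 i) i) 150000 10000 = true := by decide +kernel
theorem c_act32_16 : allRange (fun i => Nat.beq (actR32 i) i) 160000 10000 = true := by decide +kernel
theorem c_act32_17 : allRange (fun i => Nat.beq (actR32 i) i) 170000 10000 = true := by decide +kernel
theorem c_act32_18 : allRange (fun i => Nat.beq (actR32 i) i) 180000 5328 = true := by decide +kernel
theorem c_act33_0 : allRange (fun i => Nat.beq (actR33 i) i) 0 15000 = true := by decide +kernel
theorem c_act33_1 : allRange (fun i => Nat.beq (actR33 i) i) 15000 15000 = true := by decide +kernel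
theorem c_act33_2 : allRange (fun i => Nat.beq (actR33 i) i) 30000 15000 = true := by decide +kernel
theorem c_act33_3 : allRange (fun i => Nat.beq (actR33 i) i) 45000 15000 = true := by decide +kernel
theorem c_act33_4 : allRange (fun i => Nat.beq (actR33 i) i) 60000 15000 = true := by decide +kernel
theorem c_act33_5 : allRange (fun i => Nat.beq (actR33 i) i) 75000 15000 = true := by decide +kernel
theorem c_act33_6 : allRange (fun i => Nat.beq (actR33 i) i) 90000 15000 = true := by decide +kernel
theorem c_act33_7 : allRange (fun i => Nat.beq (actR33 i) i) 105000 15000 = true := by decide +kernel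
theorem c_act33_8 : allRange (fun i => Nat.beq (actR33 i) i) 120000 15000 = true := by decide +kernel
theorem c_act33_9 : allRange (fun i => Nat.beq (actR33 i) i) 135000 15000 = true := by decide +kernel
theorem c_act33_10 : allRange (fun i => Nat.beq (actR33 i) i) 150000 15000 = true := by decide +kernel
theorem c_act33_11 : allRange (fun i => Nat.beq (actR33 i) i) 165000 15000 = true := by decide +kernel
theorem c_act33_12 : allRange (fun i => Nat.beq (actR33 i) i) 180000 5328 = true := by decide +kernel
theorem c_act34_0 : allRange (fun i => Nat.beq (actR34 i) i) 0 15000 = true := by decide +kernel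
theorem c_act34_1 : allRange (fun i => Nat.beq (actR34 i) i) 15000 15000 = true := by decide +kernel
theorem c_act34_2 : allRange (fun i => Nat.beq (actR34 i) i) 30000 15000 = true := by decide +kernel
theorem c_act34_3 : allRange (fun i => Nat.beq (actR34 i) i) 45000 15000 = true := by decide +kernel
theorem c_act34_4 : allRange (fun i => Nat.beq (actR34 i) i) 60000 15000 = true := by decide +kernel
theorem c_act34_5 : allRange (fun i => Nat.beq (actR34 i) i) 75000 15000 = true := by decide +kernel
theorem c_act34_6 : allRange (fun i => Nat.beq (actR34 i) i) 90000 15000 = true := by decide +kernel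
theorem c_act34_7 : allRange (fun i => Nat.beq (actR34 i) i) 105000 15000 = true := by decide +kernel
theorem c_act34_8 : allRange (fun i => Nat.beq (actR34 i) i) 120000 15000 = true := by decide +kernel
theorem c_act34_9 : allRange (fun i => Nat.beq (actR34 i) i) 135000 15000 = true := by decide +kernel
theorem c_act34_10 : allRange (fun i => Nat.beq (actR34 i) i) 150000 15000 = true := by decide +kernel

end Cfsg.Agent.Lib.Helper4.TCD.C3Fi22yR
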