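import Cfsg.Agent.Lib.Helper4.TCD_C3Fi22yR_Acc

namespace Cfsg.Agent.Lib.Helper4.TCD.C3Fi22yR

open Cfsg.Agent.Lib.Helper4.TC

set_option maxRecDepth 100000
set_option Elab.async false

theorem c_act34_11 : allRange (fun i => Nat.beq (actR34 i) i) 165000 15000 = true := by decide +kernel
theorem c_act34_12 : allRange (fun i => Nat.beq (actR34 i) i) 180000 5328 = true := by decide +kernel
theorem c_act35_0 : allRange (fun i => Nat.beq (actR35 i) i) 0 30000 = true := by decide +kernel
theorem c_act35_1 : allRange (fun i => Nat.beq (actR35 i) i) 30000 30000 = true := by decide +kernel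
theorem c_act35_2 : allRange (fun i => Nat.beq (actR35 i) i) 60000 30000 = true := by decide +kernel
theorem c_act35_3 : allRange (fun i => Nat.beq (actR35 i) i) 90000 30000 = true := by decide +kernel
theorem c_act35_4 : allRange (fun i => Nat.beq (actR35 i) i) 120000 30000 = true := by decide +kernel
theorem c_act35_5 : allRange (fun i => Nat.beq (actR35 i) i) 150000 30000 = true := by decide +kernel
theorem c_act35_6 : allRange (fun i => Nat.beq (actR35 i) i) 180000 5328 = true := by decide +kernel
theorem c_act36_0 : allRange (fun i => Nat.beq (actR36 i) i) 0 15000 = true := by decide +kernel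
theorem c_act36_1 : allRange (fun i => Nat.beq (actR36 i) i) 15000 15000 = true := by decide +kernel
theorem c_act36_2 : allRange (fun i => Nat.beq (actR36 i) i) 30000 15000 = true := by decide +kernel
theorem c_act36_3 : allRange (fun i => Nat.beq (actR36 i) i) 45000 15000 = true := by decide +kernel
theorem c_act36_4 : allRange (fun i => Nat.beq (actR36 i) i) 60000 15000 = true := by decide +kernel
theorem c_act36_5 : allRange (fun i => Nat.beq (actR36 i) i) 75000 15000 = true := by decide +kernel
theorem c_act36_6 : allRange (fun i => Nat.beq (actR36 i) i) 90000 15000 = true := by decide +kernel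
theorem c_act36_7 : allRange (fun i => Nat.beq (actR36 i) i) 105000 15000 = true := by decide +kernel
theorem c_act36_8 : allRange (fun i => Nat.beq (actR36 i) i) 120000 15000 = true := by decide +kernel
theorem c_act36_9 : allRange (fun i => Nat.beq (actR36 i) i) 135000 15000 = true := by decide +kernel
theorem c_act36_10 : allRange (fun i => Nat.beq (actR36 i) i) 150000 15000 = true := by decide +kernel
theorem c_act36_11 : allRange (fun i => Nat.beq (actR36 i) i) 165000 15000 = true := by decide +kernel
theorem c_act36_12 : allRange (fun i => Nat.beq (actR36 i) i) 180000 5328 = true := by decide +kernel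
theorem c_act37_0 : allRange (fun i => Nat.beq (actR37 i) i) 0 15000 = true := by decide +kernel
theorem c_act37_1 : allRange (fun i => Nat.beq (actR37 i) i) 15000 15000 = true := by decide +kernel
theorem c_act37_2 : allRange (fun i => Nat.beq (actR37 i) i) 30000 15000 = true := by decide +kernel
theorem c_act37_3 : allRange (fun i => Nat.beq (actR37 i) i) 45000 15000 = true := by decide +kernel
theorem c_act37_4 : allRange (fun i => Nat.beq (actR37 i) i) 60000 15000 = true := by decide +kernel
theorem c_act37_5 : allRange (fun i => Nat.beq (actR37 i) i) 75000 15000 = true := by decide +kernel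
theorem c_act37_6 : allRange (fun i => Nat.beq (actR37 i) i) 90000 15000 = true := by decide +kernel
theorem c_act37_7 : allRange (fun i => Nat.beq (actR37 i) i) 105000 15000 = true := by decide +kernel
theorem c_act37_8 : allRange (fun i => Nat.beq (actR37 i) i) 120000 15000 = true := by decide +kernel
theorem c_act37_9 : allRange (fun i => Nat.beq (actR37 i) i) 135000 15000 = true := by decide +kernel
theorem c_act37_10 : allRange (fun i => Nat.beq (actR37 i) i) 150000 15000 = true := by decide +kernel
theorem c_act37_11 : allRange (fun i => Nat.beq (actR37 i) i) 165000 15000 = true := by decide +kernel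
theorem c_act37_12 : allRange (fun i => Nat.beq (actR37 i) i) 180000 5328 = true := by decide +kernel
theorem c_act38_0 : allRange (fun i => Nat.beq (actR38 i) i) 0 10000 = true := by decide +kernel
theorem c_act38_1 : allRange (fun i => Nat.beq (actR38 i) i) 10000 10000 = true := by decide +kernel
theorem c_act38_2 : allRange (fun i => Nat.beq (actR38 i) i) 20000 10000 = true := by decide +kernel
theorem c_act38_3 : allRange (fun i => Nat.beq (actR38 i) i) 30000 10000 = true := by decide +kernel
theorem c_act38_4 : allRange (fun i => Nat.beq (actR38 i) i) 40000 10000 = true := by decide +kernel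
theorem c_act38_5 : allRange (fun i => Nat.beq (actR38 i) i) 50000 10000 = true := by decide +kernel
theorem c_act38_6 : allRange (fun i => Nat.beq (actR38 i) i) 60000 10000 = true := by decide +kernel
theorem c_act38_7 : allRange (fun i => Nat.beq (actR38 i) i) 70000 10000 = true := by decide +kernel
theorem c_act38_8 : allRange (fun i => Nat.beq (actR38 i) i) 80000 10000 = true := by decide +kernel
theorem c_act38_9 : allRange (fun i => Nat.beq (actR38 i) i) 90000 10000 = true := by decide +kernel
theorem c_act38_10 : allRange (fun i => Nat.beq (actR38 i) i) 100000 10000 = true := by decide +kernel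
theorem c_act38_11 : allRange (fun i => Nat.beq (actR38 i) i) 110000 10000 = true := by decide +kernel
theorem c_act38_12 : allRange (fun i => Nat.beq (actR38 i) i) 120000 10000 = true := by decide +kernel
theorem c_act38_13 : allRange (fun i => Nat.beq (actR38 i) i) 130000 10000 = true := by decide +kernel
theorem c_act38_14 : allRange (fun i => Nat.beq (actR38 i) i) 140000 10000 = true := by decide +kernel
theorem c_act38_15 : allRange (fun i => Nat.beq (actR38 i) i) 150000 10000 = true := by decide +kernel
theorem c_act38_16 : allRange (fun i => Nat.beq (actR38 i) i) 160000 10000 = true := by decide +kernel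
theorem c_act38_17 : allRange (fun i => Nat.beq (actR38 i) i) 170000 10000 = true := by decide +kernel
theorem c_act38_18 : allRange (fun i => Nat.beq (actR38 i) i) 180000 5328 = true := by decide +kernel
theorem c_act39_0 : allRange (fun i => Nat.beq (actR39 i) i) 0 30000 = true := by decide +kernel
theorem c_act39_1 : allRange (fun i => Nat.beq (actR39 i) i) 30000 30000 = true := by decide +kernel
theorem c_act39_2 : allRange (fun i => Nat.beq (actR39 i) i) 60000 30000 = true := by decide +kernel
theorem c_act39_3 : allRange (fun i => Nat.beq (actR39 i) i) 90000 30000 = true := by decide +kernel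
theorem c_act39_4 : allRange (fun i => Nat.beq (actR39 i) i) 120000 30000 = true := by decide +kernel
theorem c_act39_5 : allRange (fun i => Nat.beq (actR39 i) i) 150000 30000 = true := by decide +kernel
theorem c_act39_6 : allRange (fun i => Nat.beq (actR39 i) i) 180000 5328 = true := by decide +kernel
theorem c_act40_0 : allRange (fun i => Nat.beq (actR40 i) i) 0 10000 = true := by decide +kernel
theorem c_act40_1 : allRange (fun i => Nat.beq (actR40 i) i) 10000 10000 = true := by decide +kernel
theorem c_act40_2 : allRange (fun i => Nat.beq (actR40 i) i) 20000 10000 = true := by decide +kernel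
theorem c_act40_3 : allRange (fun i => Nat.beq (actR40 i) i) 30000 10000 = true := by decide +kernel
theorem c_act40_4 : allRange (fun i => Nat.beq (actR40 i) i) 40000 10000 = true := by decide +kernel
theorem c_act40_5 : allRange (fun i => Nat.beq (actR40 i) i) 50000 10000 = true := by decide +kernel
theorem c_act40_6 : allRange (fun i => Nat.beq (actR40 i) i) 60000 10000 = true := by decide +kernel
theorem c_act40_7 : allRange (fun i => Nat.beq (actR40 i) i) 70000 10000 = true := by decide +kernel
theorem c_act40_8 : allRange (fun i => Nat.beq (actR40 i) i) 80000 10000 = true := by decide +kernel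
theorem c_act40_9 : allRange (fun i => Nat.beq (actR40 i) i) 90000 10000 = true := by decide +kernel
theorem c_act40_10 : allRange (fun i => Nat.beq (actR40 i) i) 100000 10000 = true := by decide +kernel
theorem c_act40_11 : allRange (fun i => Nat.beq (actR40 i) i) 110000 10000 = true := by decide +kernel
theorem c_act40_12 : allRange (fun i => Nat.beq (actR40 i) i) 120000 10000 = true := by decide +kernel
theorem c_act40_13 : allRange (fun i => Nat.beq (actR40 i) i) 130000 10000 = true := by decide +kernel
theorem c_act40_14 : allRange (fun i => Nat.beq (actR40 i) i) 140000 10000 = true := by decide +kernel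
theorem c_act40_15 : allRange (fun i => Nat.beq (actR40 i) i) 150000 10000 = true := by decide +kernel
theorem c_act40_16 : allRange (fun i => Nat.beq (actR40 i) i) 160000 10000 = true := by decide +kernel
theorem c_act40_17 : allRange (fun i => Nat.beq (actR40 i) i) 170000 10000 = true := by decide +kernel
theorem c_act40_18 : allRange (fun i => Nat.beq (actR40 i) i) 180000 5328 = true := by decide +kernel
theorem c_act41_0 : allRange (fun i => Nat.beq (actR41 i) i) 0 15000 = true := by decide +kernel
theorem c_act41_1 : allRange (fun i => Nat.beq (actR41 i) i) 15000 15000 = true := by decide +kernel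
theorem c_act41_2 : allRange (fun i => Nat.beq (actR41 i) i) 30000 15000 = true := by decide +kernel
theorem c_act41_3 : allRange (fun i => Nat.beq (actR41 i) i) 45000 15000 = true := by decide +kernel
theorem c_act41_4 : allRange (fun i => Nat.beq (actR41 i) i) 60000 15000 = true := by decide +kernel
theorem c_act41_5 : allRange (fun i => Nat.beq (actR41 i) i) 75000 15000 = true := by decide +kernel
theorem c_act41_6 : allRange (fun i => Nat.beq (actR41 i) i) 90000 15000 = true := by decide +kernel
theorem c_act41_7 : allRange (fun i => Nat.beq (actR41 i) i) 105000 15000 = true := by decide +kernel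
theorem c_act41_8 : allRange (fun i => Nat.beq (actR41 i) i) 120000 15000 = true := by decide +kernel
theorem c_act41_9 : allRange (fun i => Nat.beq (actR41 i) i) 135000 15000 = true := by decide +kernel
theorem c_act41_10 : allRange (fun i => Nat.beq (actR41 i) i) 150000 15000 = true := by decide +kernel
theorem c_act41_11 : allRange (fun i => Nat.beq (actR41 i) i) 165000 15000 = true := by decide +kernel
theorem c_act41_12 : allRange (fun i => Nat.beq (actR41 i) i) 180000 5328 = true := by decide +kernel
theorem c_act42_0 : allRange (fun i => Nat.beq (actR42 i) i) 0 30000 = true := by decide +kernel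
theorem c_act42_1 : allRange (fun i => Nat.beq (actR42 i) i) 30000 30000 = true := by decide +kernel
theorem c_act42_2 : allRange (fun i => Nat.beq (actR42 i) i) 60000 30000 = true := by decide +kernel
theorem c_act42_3 : allRange (fun i => Nat.beq (actR42 i) i) 90000 30000 = true := by decide +kernel
theorem c_act42_4 : allRange (fun i => Nat.beq (actR42 i) i) 120000 30000 = true := by decide +kernel
theorem c_act42_5 : allRange (fun i => Nat.beq (actR42 i) i) 150000 30000 = true := by decide +kernel
theorem c_act42_6 : allRange (fun i => Nat.beq (actR42 i) i) 180000 5328 = true := by decide +kernel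
theorem c_act43_0 : allRange (fun i => Nat.beq (actR43 i) i) 0 15000 = true := by decide +kernel
theorem c_act43_1 : allRange (fun i => Nat.beq (actR43 i) i) 15000 15000 = true := by decide +kernel
theorem c_act43_2 : allRange (fun i => Nat.beq (actR43 i) i) 30000 15000 = true := by decide +kernel
theorem c_act43_3 : allRange (fun i => Nat.beq (actR43 i) i) 45000 15000 = true := by decide +kernel
theorem c_act43_4 : allRange (fun i => Nat.beq (actR43 i) i) 60000 15000 = true := by decide +kernel

end Cfsg.Agent.Lib.Helper4.TCD.C3Fi22yR
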