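import Cfsg.Agent.Lib.Helper4.TCD_C3Fi22yR_Acc

namespace Cfsg.Agent.Lib.Helper4.TCD.C3Fi22yR

open Cfsg.Agent.Lib.Helper4.TC

set_option maxRecDepth 100000
set_option Elab.async false

theorem c_act43_5 : allRange (fun i => Nat.beq (actR43 i) i) 75000 15000 = true := by decide +kernel
theorem c_act43_6 : allRange (fun i => Nat.beq (actR43 i) i) 90000 15000 = true := by decide +kernel
theorem c_act43_7 : allRange (fun i => Nat.beq (actR43 i) i) 105000 15000 = true := by decide +kernel
theorem c_act43_8 : allRange (fun i => Nat.beq (actR43 i) i) 120000 15000 = true := by decide +kernel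
theorem c_act43_9 : allRange (fun i => Nat.beq (actR43 i) i) 135000 15000 = true := by decide +kernel
theorem c_act43_10 : allRange (fun i => Nat.beq (actR43 i) i) 150000 15000 = true := by decide +kernel
theorem c_act43_11 : allRange (fun i => Nat.beq (actR43 i) i) 165000 15000 = true := by decide +kernel
theorem c_act43_12 : allRange (fun i => Nat.beq (actR43 i) i) 180000 5328 = true := by decide +kernel
theorem c_act44_0 : allRange (fun i => Nat.beq (actR44 i) i) 0 30000 = true := by decide +kernel
theorem c_act44_1 : allRange (fun i => Nat.beq (actR44 i) i) 30000 30000 = true := by decide +kernel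
theorem c_act44_2 : allRange (fun i => Nat.beq (actR44 i) i) 60000 30000 = true := by decide +kernel
theorem c_act44_3 : allRange (fun i => Nat.beq (actR44 i) i) 90000 30000 = true := by decide +kernel
theorem c_act44_4 : allRange (fun i => Nat.beq (actR44 i) i) 120000 30000 = true := by decide +kernel
theorem c_act44_5 : allRange (fun i => Nat.beq (actR44 i) i) 150000 30000 = true := by decide +kernel
theorem c_act44_6 : allRange (fun i => Nat.beq (actR44 i) i) 180000 5328 = true := by decide +kernel
theorem c_act45_0 : allRange (fun i => Nat.beq (actR45 i) i) 0 659 = true := by decide +kernel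
theorem c_act45_1 : allRange (fun i => Nat.beq (actR45 i) i) 659 659 = true := by decide +kernel
theorem c_act45_2 : allRange (fun i => Nat.beq (actR45 i) i) 1318 659 = true := by decide +kernel
theorem c_act45_3 : allRange (fun i => Nat.beq (actR45 i) i) 1977 659 = true := by decide +kernel
theorem c_act45_4 : allRange (fun i => Nat.beq (actR45 i) i) 2636 659 = true := by decide +kernel
theorem c_act45_5 : allRange (fun i => Nat.beq (actR45 i) i) 3295 659 = true := by decide +kernel
theorem c_act45_6 : allRange (fun i => Nat.beq (actR45 i) i) 3954 659 = true := by decide +kernel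
theorem c_act45_7 : allRange (fun i => Nat.beq (actR45 i) i) 4613 659 = true := by decide +kernel
theorem c_act45_8 : allRange (fun i => Nat.beq (actR45 i) i) 5272 659 = true := by decide +kernel
theorem c_act45_9 : allRange (fun i => Nat.beq (actR45 i) i) 5931 659 = true := by decide +kernel
theorem c_act45_10 : allRange (fun i => Nat.beq (actR45 i) i) 6590 659 = true := by decide +kernel
theorem c_act45_11 : allRange (fun i => Nat.beq (actR45 i) i) 7249 659 = true := by decide +kernel
theorem c_act45_12 : allRange (fun i => Nat.beq (actR45 i) i) 7908 659 = true := by decide +kernel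
theorem c_act45_13 : allRange (fun i => Nat.beq (actR45 i) i) 8567 659 = true := by decide +kernel
theorem c_act45_14 : allRange (fun i => Nat.beq (actR45 i) i) 9226 659 = true := by decide +kernel
theorem c_act45_15 : allRange (fun i => Nat.beq (actR45 i) i) 9885 659 = true := by decide +kernel
theorem c_act45_16 : allRange (fun i => Nat.beq (actR45 i) i) 10544 659 = true := by decide +kernel
theorem c_act45_17 : allRange (fun i => Nat.beq (actR45 i) i) 11203 659 = true := by decide +kernel
theorem c_act45_18 : allRange (fun i => Nat.beq (actR45 i) i) 11862 659 = true := by decide +kernel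
theorem c_act45_19 : allRange (fun i => Nat.beq (actR45 i) i) 12521 659 = true := by decide +kernel
theorem c_act45_20 : allRange (fun i => Nat.beq (actR45 i) i) 13180 659 = true := by decide +kernel
theorem c_act45_21 : allRange (fun i => Nat.beq (actR45 i) i) 13839 659 = true := by decide +kernel
theorem c_act45_22 : allRange (fun i => Nat.beq (actR45 i) i) 14498 659 = true := by decide +kernel
theorem c_act45_23 : allRange (fun i => Nat.beq (actR45 i) i) 15157 659 = true := by decide +kernel
theorem c_act45_24 : allRange (fun i => Nat.beq (actR45 i) i) 15816 659 = true := by decide +kernel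
theorem c_act45_25 : allRange (fun i => Nat.beq (actR45 i) i) 16475 659 = true := by decide +kernel
theorem c_act45_26 : allRange (fun i => Nat.beq (actR45 i) i) 17134 659 = true := by decide +kernel
theorem c_act45_27 : allRange (fun i => Nat.beq (actR45 i) i) 17793 659 = true := by decide +kernel
theorem c_act45_28 : allRange (fun i => Nat.beq (actR45 i) i) 18452 659 = true := by decide +kernel
theorem c_act45_29 : allRange (fun i => Nat.beq (actR45 i) i) 19111 659 = true := by decide +kernel
theorem c_act45_30 : allRange (fun i => Nat.beq (actR45 i) i) 19770 659 = true := by decide +kernel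
theorem c_act45_31 : allRange (fun i => Nat.beq (actR45 i) i) 20429 659 = true := by decide +kernel
theorem c_act45_32 : allRange (fun i => Nat.beq (actR45 i) i) 21088 659 = true := by decide +kernel
theorem c_act45_33 : allRange (fun i => Nat.beq (actR45 i) i) 21747 659 = true := by decide +kernel
theorem c_act45_34 : allRange (fun i => Nat.beq (actR45 i) i) 22406 659 = true := by decide +kernel
theorem c_act45_35 : allRange (fun i => Nat.beq (actR45 i) i) 23065 659 = true := by decide +kernel
theorem c_act45_36 : allRange (fun i => Nat.beq (actR45 i) i) 23724 659 = true := by decide +kernel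
theorem c_act45_37 : allRange (fun i => Nat.beq (actR45 i) i) 24383 659 = true := by decide +kernel
theorem c_act45_38 : allRange (fun i => Nat.beq (actR45 i) i) 25042 659 = true := by decide +kernel
theorem c_act45_39 : allRange (fun i => Nat.beq (actR45 i) i) 25701 659 = true := by decide +kernel
theorem c_act45_40 : allRange (fun i => Nat.beq (actR45 i) i) 26360 659 = true := by decide +kernel
theorem c_act45_41 : allRange (fun i => Nat.beq (actR45 i) i) 27019 659 = true := by decide +kernel
theorem c_act45_42 : allRange (fun i => Nat.beq (actR45 i) i) 27678 659 = true := by decide +kernel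
theorem c_act45_43 : allRange (fun i => Nat.beq (actR45 i) i) 28337 659 = true := by decide +kernel
theorem c_act45_44 : allRange (fun i => Nat.beq (actR45 i) i) 28996 659 = true := by decide +kernel
theorem c_act45_45 : allRange (fun i => Nat.beq (actR45 i) i) 29655 659 = true := by decide +kernel
theorem c_act45_46 : allRange (fun i => Nat.beq (actR45 i) i) 30314 659 = true := by decide +kernel
theorem c_act45_47 : allRange (fun i => Nat.beq (actR45 i) i) 30973 659 = true := by decide +kernel
theorem c_act45_48 : allRange (fun i => Nat.beq (actR45 i) i) 31632 659 = true := by decide +kernel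
theorem c_act45_49 : allRange (fun i => Nat.beq (actR45 i) i) 32291 659 = true := by decide +kernel
theorem c_act45_50 : allRange (fun i => Nat.beq (actR45 i) i) 32950 659 = true := by decide +kernel
theorem c_act45_51 : allRange (fun i => Nat.beq (actR45 i) i) 33609 659 = true := by decide +kernel
theorem c_act45_52 : allRange (fun i => Nat.beq (actR45 i) i) 34268 659 = true := by decide +kernel
theorem c_act45_53 : allRange (fun i => Nat.beq (actR45 i) i) 34927 659 = true := by decide +kernel
theorem c_act45_54 : allRange (fun i => Nat.beq (actR45 i) i) 35586 659 = true := by decide +kernel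
theorem c_act45_55 : allRange (fun i => Nat.beq (actR45 i) i) 36245 659 = true := by decide +kernel
theorem c_act45_56 : allRange (fun i => Nat.beq (actR45 i) i) 36904 659 = true := by decide +kernel
theorem c_act45_57 : allRange (fun i => Nat.beq (actR45 i) i) 37563 659 = true := by decide +kernel
theorem c_act45_58 : allRange (fun i => Nat.beq (actR45 i) i) 38222 659 = true := by decide +kernel
theorem c_act45_59 : allRange (fun i => Nat.beq (actR45 i) i) 38881 659 = true := by decide +kernel
theorem c_act45_60 : allRange (fun i => Nat.beq (actR45 i) i) 39540 659 = true := by decide +kernel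
theorem c_act45_61 : allRange (fun i => Nat.beq (actR45 i) i) 40199 659 = true := by decide +kernel
theorem c_act45_62 : allRange (fun i => Nat.beq (actR45 i) i) 40858 659 = true := by decide +kernel
theorem c_act45_63 : allRange (fun i => Nat.beq (actR45 i) i) 41517 659 = true := by decide +kernel
theorem c_act45_64 : allRange (fun i => Nat.beq (actR45 i) i) 42176 659 = true := by decide +kernel
theorem c_act45_65 : allRange (fun i => Nat.beq (actR45 i) i) 42835 659 = true := by decide +kernel
theorem c_act45_66 : allRange (fun i => Nat.beq (actR45 i) i) 43494 659 = true := by decide +kernel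
theorem c_act45_67 : allRange (fun i => Nat.beq (actR45 i) i) 44153 659 = true := by decide +kernel
theorem c_act45_68 : allRange (fun i => Nat.beq (actR45 i) i) 44812 659 = true := by decide +kernel
theorem c_act45_69 : allRange (fun i => Nat.beq (actR45 i) i) 45471 659 = true := by decide +kernel
theorem c_act45_70 : allRange (fun i => Nat.beq (actR45 i) i) 46130 659 = true := by decide +kernel
theorem c_act45_71 : allRange (fun i => Nat.beq (actR45 i) i) 46789 659 = true := by decide +kernel
theorem c_act45_72 : allRange (fun i => Nat.beq (actR45 i) i) 47448 659 = true := by decide +kernel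
theorem c_act45_73 : allRange (fun i => Nat.beq (actR45 i) i) 48107 659 = true := by decide +kernel
theorem c_act45_74 : allRange (fun i => Nat.beq (actR45 i) i) 48766 659 = true := by decide +kernel
theorem c_act45_75 : allRange (fun i => Nat.beq (actR45 i) i) 49425 659 = true := by decide +kernel
theorem c_act45_76 : allRange (fun i => Nat.beq (actR45 i) i) 50084 659 = true := by decide +kernel
theorem c_act45_77 : allRange (fun i => Nat.beq (actR45 i) i) 50743 659 = true := by decide +kernel
theorem c_act45_78 : allRange (fun i => Nat.beq (actR45 i) i) 51402 659 = true := by decide +kernel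
theorem c_act45_79 : allRange (fun i => Nat.beq (actR45 i) i) 52061 659 = true := by decide +kernel
theorem c_act45_80 : allRange (fun i => Nat.beq (actR45 i) i) 52720 659 = true := by decide +kernel
theorem c_act45_81 : allRange (fun i => Nat.beq (actR45 i) i) 53379 659 = true := by decide +kernel
theorem c_act45_82 : allRange (fun i => Nat.beq (actR45 i) i) 54038 659 = true := by decide +kernel
theorem c_act45_83 : allRange (fun i => Nat.beq (actR45 i) i) 54697 659 = true := by decide +kernel
theorem c_act45_84 : allRange (fun i => Nat.beq (actR45 i) i) 55356 659 = true := by decide +kernel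
theorem c_act45_85 : allRange (fun i => Nat.beq (actR45 i) i) 56015 659 = true := by decide +kernel

end Cfsg.Agent.Lib.Helper4.TCD.C3Fi22yR
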