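import Cfsg.Agent.Lib.Helper4.TCD_C3Fi22yR_Acc

namespace Cfsg.Agent.Lib.Helper4.TCD.C3Fi22yR

open Cfsg.Agent.Lib.Helper4.TC

set_option maxRecDepth 100000
set_option Elab.async false

theorem c_act45_86 : allRange (fun i => Nat.beq (actR45 i) i) 56674 659 = true := by decide +kernel
theorem c_act45_87 : allRange (fun i => Nat.beq (actR45 i) i) 57333 659 = true := by decide +kernel
theorem c_act45_88 : allRange (fun i => Nat.beq (actR45 i) i) 57992 659 = true := by decide +kernel
theorem c_act45_89 : allRange (fun i => Nat.beq (actR45 i) i) 58651 659 = true := by decide +kernel
theorem c_act45_90 : allRange (fun i => Nat.beq (actR45 i) i) 59310 659 = true := by decide +kernel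
theorem c_act45_91 : allRange (fun i => Nat.beq (actR45 i) i) 59969 659 = true := by decide +kernel
theorem c_act45_92 : allRange (fun i => Nat.beq (actR45 i) i) 60628 659 = true := by decide +kernel
theorem c_act45_93 : allRange (fun i => Nat.beq (actR45 i) i) 61287 659 = true := by decide +kernel
theorem c_act45_94 : allRange (fun i => Nat.beq (actR45 i) i) 61946 659 = true := by decide +kernel
theorem c_act45_95 : allRange (fun i => Nat.beq (actR45 i) i) 62605 659 = true := by decide +kernel
theorem c_act45_96 : allRange (fun i => Nat.beq (actR45 i) i) 63264 659 = true := by decide +kernel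
theorem c_act45_97 : allRange (fun i => Nat.beq (actR45 i) i) 63923 659 = true := by decide +kernel
theorem c_act45_98 : allRange (fun i => Nat.beq (actR45 i) i) 64582 659 = true := by decide +kernel
theorem c_act45_99 : allRange (fun i => Nat.beq (actR45 i) i) 65241 659 = true := by decide +kernel
theorem c_act45_100 : allRange (fun i => Nat.beq (actR45 i) i) 65900 659 = true := by decide +kernel
theorem c_act45_101 : allRange (fun i => Nat.beq (actR45 i) i) 66559 659 = true := by decide +kernel
theorem c_act45_102 : allRange (fun i => Nat.beq (actR45 i) i) 67218 659 = true := by decide +kernel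
theorem c_act45_103 : allRange (fun i => Nat.beq (actR45 i) i) 67877 659 = true := by decide +kernel
theorem c_act45_104 : allRange (fun i => Nat.beq (actR45 i) i) 68536 659 = true := by decide +kernel
theorem c_act45_105 : allRange (fun i => Nat.beq (actR45 i) i) 69195 659 = true := by decide +kernel
theorem c_act45_106 : allRange (fun i => Nat.beq (actR45 i) i) 69854 659 = true := by decide +kernel
theorem c_act45_107 : allRange (fun i => Nat.beq (actR45 i) i) 70513 659 = true := by decide +kernel
theorem c_act45_108 : allRange (fun i => Nat.beq (actR45 i) i) 71172 659 = true := by decide +kernel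
theorem c_act45_109 : allRange (fun i => Nat.beq (actR45 i) i) 71831 659 = true := by decide +kernel
theorem c_act45_110 : allRange (fun i => Nat.beq (actR45 i) i) 72490 659 = true := by decide +kernel
theorem c_act45_111 : allRange (fun i => Nat.beq (actR45 i) i) 73149 659 = true := by decide +kernel
theorem c_act45_112 : allRange (fun i => Nat.beq (actR45 i) i) 73808 659 = true := by decide +kernel
theorem c_act45_113 : allRange (fun i => Nat.beq (actR45 i) i) 74467 659 = true := by decide +kernel
theorem c_act45_114 : allRange (fun i => Nat.beq (actR45 i) i) 75126 659 = true := by decide +kernel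
theorem c_act45_115 : allRange (fun i => Nat.beq (actR45 i) i) 75785 659 = true := by decide +kernel
theorem c_act45_116 : allRange (fun i => Nat.beq (actR45 i) i) 76444 659 = true := by decide +kernel
theorem c_act45_117 : allRange (fun i => Nat.beq (actR45 i) i) 77103 659 = true := by decide +kernel
theorem c_act45_118 : allRange (fun i => Nat.beq (actR45 i) i) 77762 659 = true := by decide +kernel
theorem c_act45_119 : allRange (fun i => Nat.beq (actR45 i) i) 78421 659 = true := by decide +kernel
theorem c_act45_120 : allRange (fun i => Nat.beq (actR45 i) i) 79080 659 = true := by decide +kernel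
theorem c_act45_121 : allRange (fun i => Nat.beq (actR45 i) i) 79739 659 = true := by decide +kernel
theorem c_act45_122 : allRange (fun i => Nat.beq (actR45 i) i) 80398 659 = true := by decide +kernel
theorem c_act45_123 : allRange (fun i => Nat.beq (actR45 i) i) 81057 659 = true := by decide +kernel
theorem c_act45_124 : allRange (fun i => Nat.beq (actR45 i) i) 81716 659 = true := by decide +kernel
theorem c_act45_125 : allRange (fun i => Nat.beq (actR45 i) i) 82375 659 = true := by decide +kernel
theorem c_act45_126 : allRange (fun i => Nat.beq (actR45 i) i) 83034 659 = true := by decide +kernel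
theorem c_act45_127 : allRange (fun i => Nat.beq (actR45 i) i) 83693 659 = true := by decide +kernel
theorem c_act45_128 : allRange (fun i => Nat.beq (actR45 i) i) 84352 659 = true := by decide +kernel
theorem c_act45_129 : allRange (fun i => Nat.beq (actR45 i) i) 85011 659 = true := by decide +kernel
theorem c_act45_130 : allRange (fun i => Nat.beq (actR45 i) i) 85670 659 = true := by decide +kernel
theorem c_act45_131 : allRange (fun i => Nat.beq (actR45 i) i) 86329 659 = true := by decide +kernel
theorem c_act45_132 : allRange (fun i => Nat.beq (actR45 i) i) 86988 659 = true := by decide +kernel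
theorem c_act45_133 : allRange (fun i => Nat.beq (actR45 i) i) 87647 659 = true := by decide +kernel
theorem c_act45_134 : allRange (fun i => Nat.beq (actR45 i) i) 88306 659 = true := by decide +kernel
theorem c_act45_135 : allRange (fun i => Nat.beq (actR45 i) i) 88965 659 = true := by decide +kernel
theorem c_act45_136 : allRange (fun i => Nat.beq (actR45 i) i) 89624 659 = true := by decide +kernel
theorem c_act45_137 : allRange (fun i => Nat.beq (actR45 i) i) 90283 659 = true := by decide +kernel
theorem c_act45_138 : allRange (fun i => Nat.beq (actR45 i) i) 90942 659 = true := by decide +kernel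
theorem c_act45_139 : allRange (fun i => Nat.beq (actR45 i) i) 91601 659 = true := by decide +kernel
theorem c_act45_140 : allRange (fun i => Nat.beq (actR45 i) i) 92260 659 = true := by decide +kernel
theorem c_act45_141 : allRange (fun i => Nat.beq (actR45 i) i) 92919 659 = true := by decide +kernel
theorem c_act45_142 : allRange (fun i => Nat.beq (actR45 i) i) 93578 659 = true := by decide +kernel
theorem c_act45_143 : allRange (fun i => Nat.beq (actR45 i) i) 94237 659 = true := by decide +kernel
theorem c_act45_144 : allRange (fun i => Nat.beq (actR45 i) i) 94896 659 = true := by decide +kernel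
theorem c_act45_145 : allRange (fun i => Nat.beq (actR45 i) i) 95555 659 = true := by decide +kernel
theorem c_act45_146 : allRange (fun i => Nat.beq (actR45 i) i) 96214 659 = true := by decide +kernel
theorem c_act45_147 : allRange (fun i => Nat.beq (actR45 i) i) 96873 659 = true := by decide +kernel
theorem c_act45_148 : allRange (fun i => Nat.beq (actR45 i) i) 97532 659 = true := by decide +kernel
theorem c_act45_149 : allRange (fun i => Nat.beq (actR45 i) i) 98191 659 = true := by decide +kernel
theorem c_act45_150 : allRange (fun i => Nat.beq (actR45 i) i) 98850 659 = true := by decide +kernel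
theorem c_act45_151 : allRange (fun i => Nat.beq (actR45 i) i) 99509 659 = true := by decide +kernel
theorem c_act45_152 : allRange (fun i => Nat.beq (actR45 i) i) 100168 659 = true := by decide +kernel
theorem c_act45_153 : allRange (fun i => Nat.beq (actR45 i) i) 100827 659 = true := by decide +kernel
theorem c_act45_154 : allRange (fun i => Nat.beq (actR45 i) i) 101486 659 = true := by decide +kernel
theorem c_act45_155 : allRange (fun i => Nat.beq (actR45 i) i) 102145 659 = true := by decide +kernel
theorem c_act45_156 : allRange (fun i => Nat.beq (actR45 i) i) 102804 659 = true := by decide +kernel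
theorem c_act45_157 : allRange (fun i => Nat.beq (actR45 i) i) 103463 659 = true := by decide +kernel
theorem c_act45_158 : allRange (fun i => Nat.beq (actR45 i) i) 104122 659 = true := by decide +kernel
theorem c_act45_159 : allRange (fun i => Nat.beq (actR45 i) i) 104781 659 = true := by decide +kernel
theorem c_act45_160 : allRange (fun i => Nat.beq (actR45 i) i) 105440 659 = true := by decide +kernel
theorem c_act45_161 : allRange (fun i => Nat.beq (actR45 i) i) 106099 659 = true := by decide +kernel
theorem c_act45_162 : allRange (fun i => Nat.beq (actR45 i) i) 106758 659 = true := by decide +kernel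
theorem c_act45_163 : allRange (fun i => Nat.beq (actR45 i) i) 107417 659 = true := by decide +kernel
theorem c_act45_164 : allRange (fun i => Nat.beq (actR45 i) i) 108076 659 = true := by decide +kernel
theorem c_act45_165 : allRange (fun i => Nat.beq (actR45 i) i) 108735 659 = true := by decide +kernel
theorem c_act45_166 : allRange (fun i => Nat.beq (actR45 i) i) 109394 659 = true := by decide +kernel
theorem c_act45_167 : allRange (fun i => Nat.beq (actR45 i) i) 110053 659 = true := by decide +kernel
theorem c_act45_168 : allRange (fun i => Nat.beq (actR45 i) i) 110712 659 = true := by decide +kernel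
theorem c_act45_169 : allRange (fun i => Nat.beq (actR45 i) i) 111371 659 = true := by decide +kernel
theorem c_act45_170 : allRange (fun i => Nat.beq (actR45 i) i) 112030 659 = true := by decide +kernel
theorem c_act45_171 : allRange (fun i => Nat.beq (actR45 i) i) 112689 659 = true := by decide +kernel
theorem c_act45_172 : allRange (fun i => Nat.beq (actR45 i) i) 113348 659 = true := by decide +kernel
theorem c_act45_173 : allRange (fun i => Nat.beq (actR45 i) i) 114007 659 = true := by decide +kernel
theorem c_act45_174 : allRange (fun i => Nat.beq (actR45 i) i) 114666 659 = true := by decide +kernel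
theorem c_act45_175 : allRange (fun i => Nat.beq (actR45 i) i) 115325 659 = true := by decide +kernel
theorem c_act45_176 : allRange (fun i => Nat.beq (actR45 i) i) 115984 659 = true := by decide +kernel
theorem c_act45_177 : allRange (fun i => Nat.beq (actR45 i) i) 116643 659 = true := by decide +kernel
theorem c_act45_178 : allRange (fun i => Nat.beq (actR45 i) i) 117302 659 = true := by decide +kernel
theorem c_act45_179 : allRange (fun i => Nat.beq (actR45 i) i) 117961 659 = true := by decide +kernel
theorem c_act45_180 : allRange (fun i => Nat.beq (actR45 i) i) 118620 659 = true := by decide +kernel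
theorem c_act45_181 : allRange (fun i => Nat.beq (actR45 i) i) 119279 659 = true := by decide +kernel
theorem c_act45_182 : allRange (fun i => Nat.beq (actR45 i) i) 119938 659 = true := by decide +kernel
theorem c_act45_183 : allRange (fun i => Nat.beq (actR45 i) i) 120597 659 = true := by decide +kernel
theorem c_act45_184 : allRange (fun i => Nat.beq (actR45 i) i) 121256 659 = true := by decide +kernel
theorem c_act45_185 : allRange (fun i => Nat.beq (actR45 i) i) 121915 659 = true := by decide +kernel

end Cfsg.Agent.Lib.Helper4.TCD.C3Fi22yR
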