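import Cfsg.Agent.Lib.Helper4.TCD_C3Fi22yR_Acc

namespace Cfsg.Agent.Lib.Helper4.TCD.C3Fi22yR

open Cfsg.Agent.Lib.Helper4.TC

set_option maxRecDepth 100000
set_option Elab.async false

theorem c_act45_186 : allRange (fun i => Nat.beq (actR45 i) i) 122574 659 = true := by decide +kernel
theorem c_act45_187 : allRange (fun i => Nat.beq (actR45 i) i) 123233 659 = true := by decide +kernel
theorem c_act45_188 : allRange (fun i => Nat.beq (actR45 i) i) 123892 659 = true := by decide +kernel
theorem c_act45_189 : allRange (fun i => Nat.beq (actR45 i) i) 124551 659 = true := by decide +kernel
theorem c_act45_190 : allRange (fun i => Nat.beq (actR45 i) i) 125210 659 = true := by decide +kernel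
theorem c_act45_191 : allRange (fun i => Nat.beq (actR45 i) i) 125869 659 = true := by decide +kernel
theorem c_act45_192 : allRange (fun i => Nat.beq (actR45 i) i) 126528 659 = true := by decide +kernel
theorem c_act45_193 : allRange (fun i => Nat.beq (actR45 i) i) 127187 659 = true := by decide +kernel
theorem c_act45_194 : allRange (fun i => Nat.beq (actR45 i) i) 127846 659 = true := by decide +kernel
theorem c_act45_195 : allRange (fun i => Nat.beq (actR45 i) i) 128505 659 = true := by decide +kernel
theorem c_act45_196 : allRange (fun i => Nat.beq (actR45 i) i) 129164 659 = true := by decide +kernel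
theorem c_act45_197 : allRange (fun i => Nat.beq (actR45 i) i) 129823 659 = true := by decide +kernel
theorem c_act45_198 : allRange (fun i => Nat.beq (actR45 i) i) 130482 659 = true := by decide +kernel
theorem c_act45_199 : allRange (fun i => Nat.beq (actR45 i) i) 131141 659 = true := by decide +kernel
theorem c_act45_200 : allRange (fun i => Nat.beq (actR45 i) i) 131800 659 = true := by decide +kernel
theorem c_act45_201 : allRange (fun i => Nat.beq (actR45 i) i) 132459 659 = true := by decide +kernel
theorem c_act45_202 : allRange (fun i => Nat.beq (actR45 i) i) 133118 659 = true := by decide +kernel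
theorem c_act45_203 : allRange (fun i => Nat.beq (actR45 i) i) 133777 659 = true := by decide +kernel
theorem c_act45_204 : allRange (fun i => Nat.beq (actR45 i) i) 134436 659 = true := by decide +kernel
theorem c_act45_205 : allRange (fun i => Nat.beq (actR45 i) i) 135095 659 = true := by decide +kernel
theorem c_act45_206 : allRange (fun i => Nat.beq (actR45 i) i) 135754 659 = true := by decide +kernel
theorem c_act45_207 : allRange (fun i => Nat.beq (actR45 i) i) 136413 659 = true := by decide +kernel
theorem c_act45_208 : allRange (fun i => Nat.beq (actR45 i) i) 137072 659 = true := by decide +kernel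
theorem c_act45_209 : allRange (fun i => Nat.beq (actR45 i) i) 137731 659 = true := by decide +kernel
theorem c_act45_210 : allRange (fun i => Nat.beq (actR45 i) i) 138390 659 = true := by decide +kernel
theorem c_act45_211 : allRange (fun i => Nat.beq (actR45 i) i) 139049 659 = true := by decide +kernel
theorem c_act45_212 : allRange (fun i => Nat.beq (actR45 i) i) 139708 659 = true := by decide +kernel
theorem c_act45_213 : allRange (fun i => Nat.beq (actR45 i) i) 140367 659 = true := by decide +kernel
theorem c_act45_214 : allRange (fun i => Nat.beq (actR45 i) i) 141026 659 = true := by decide +kernel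
theorem c_act45_215 : allRange (fun i => Nat.beq (actR45 i) i) 141685 659 = true := by decide +kernel
theorem c_act45_216 : allRange (fun i => Nat.beq (actR45 i) i) 142344 659 = true := by decide +kernel
theorem c_act45_217 : allRange (fun i => Nat.beq (actR45 i) i) 143003 659 = true := by decide +kernel
theorem c_act45_218 : allRange (fun i => Nat.beq (actR45 i) i) 143662 659 = true := by decide +kernel
theorem c_act45_219 : allRange (fun i => Nat.beq (actR45 i) i) 144321 659 = true := by decide +kernel
theorem c_act45_220 : allRange (fun i => Nat.beq (actR45 i) i) 144980 659 = true := by decide +kernel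
theorem c_act45_221 : allRange (fun i => Nat.beq (actR45 i) i) 145639 659 = true := by decide +kernel
theorem c_act45_222 : allRange (fun i => Nat.beq (actR45 i) i) 146298 659 = true := by decide +kernel
theorem c_act45_223 : allRange (fun i => Nat.beq (actR45 i) i) 146957 659 = true := by decide +kernel
theorem c_act45_224 : allRange (fun i => Nat.beq (actR45 i) i) 147616 659 = true := by decide +kernel
theorem c_act45_225 : allRange (fun i => Nat.beq (actR45 i) i) 148275 659 = true := by decide +kernel
theorem c_act45_226 : allRange (fun i => Nat.beq (actR45 i) i) 148934 659 = true := by decide +kernel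
theorem c_act45_227 : allRange (fun i => Nat.beq (actR45 i) i) 149593 659 = true := by decide +kernel
theorem c_act45_228 : allRange (fun i => Nat.beq (actR45 i) i) 150252 659 = true := by decide +kernel
theorem c_act45_229 : allRange (fun i => Nat.beq (actR45 i) i) 150911 659 = true := by decide +kernel
theorem c_act45_230 : allRange (fun i => Nat.beq (actR45 i) i) 151570 659 = true := by decide +kernel
theorem c_act45_231 : allRange (fun i => Nat.beq (actR45 i) i) 152229 659 = true := by decide +kernel
theorem c_act45_232 : allRange (fun i => Nat.beq (actR45 i) i) 152888 659 = true := by decide +kernel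
theorem c_act45_233 : allRange (fun i => Nat.beq (actR45 i) i) 153547 659 = true := by decide +kernel
theorem c_act45_234 : allRange (fun i => Nat.beq (actR45 i) i) 154206 659 = true := by decide +kernel
theorem c_act45_235 : allRange (fun i => Nat.beq (actR45 i) i) 154865 659 = true := by decide +kernel
theorem c_act45_236 : allRange (fun i => Nat.beq (actR45 i) i) 155524 659 = true := by decide +kernel
theorem c_act45_237 : allRange (fun i => Nat.beq (actR45 i) i) 156183 659 = true := by decide +kernel
theorem c_act45_238 : allRange (fun i => Nat.beq (actR45 i) i) 156842 659 = true := by decide +kernel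
theorem c_act45_239 : allRange (fun i => Nat.beq (actR45 i) i) 157501 659 = true := by decide +kernel
theorem c_act45_240 : allRange (fun i => Nat.beq (actR45 i) i) 158160 659 = true := by decide +kernel
theorem c_act45_241 : allRange (fun i => Nat.beq (actR45 i) i) 158819 659 = true := by decide +kernel
theorem c_act45_242 : allRange (fun i => Nat.beq (actR45 i) i) 159478 659 = true := by decide +kernel
theorem c_act45_243 : allRange (fun i => Nat.beq (actR45 i) i) 160137 659 = true := by decide +kernel
theorem c_act45_244 : allRange (fun i => Nat.beq (actR45 i) i) 160796 659 = true := by decide +kernel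
theorem c_act45_245 : allRange (fun i => Nat.beq (actR45 i) i) 161455 659 = true := by decide +kernel
theorem c_act45_246 : allRange (fun i => Nat.beq (actR45 i) i) 162114 659 = true := by decide +kernel
theorem c_act45_247 : allRange (fun i => Nat.beq (actR45 i) i) 162773 659 = true := by decide +kernel
theorem c_act45_248 : allRange (fun i => Nat.beq (actR45 i) i) 163432 659 = true := by decide +kernel
theorem c_act45_249 : allRange (fun i => Nat.beq (actR45 i) i) 164091 659 = true := by decide +kernel
theorem c_act45_250 : allRange (fun i => Nat.beq (actR45 i) i) 164750 659 = true := by decide +kernel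
theorem c_act45_251 : allRange (fun i => Nat.beq (actR45 i) i) 165409 659 = true := by decide +kernel
theorem c_act45_252 : allRange (fun i => Nat.beq (actR45 i) i) 166068 659 = true := by decide +kernel
theorem c_act45_253 : allRange (fun i => Nat.beq (actR45 i) i) 166727 659 = true := by decide +kernel
theorem c_act45_254 : allRange (fun i => Nat.beq (actR45 i) i) 167386 659 = true := by decide +kernel
theorem c_act45_255 : allRange (fun i => Nat.beq (actR45 i) i) 168045 659 = true := by decide +kernel
theorem c_act45_256 : allRange (fun i => Nat.beq (actR45 i) i) 168704 659 = true := by decide +kernel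
theorem c_act45_257 : allRange (fun i => Nat.beq (actR45 i) i) 169363 659 = true := by decide +kernel
theorem c_act45_258 : allRange (fun i => Nat.beq (actR45 i) i) 170022 659 = true := by decide +kernel
theorem c_act45_259 : allRange (fun i => Nat.beq (actR45 i) i) 170681 659 = true := by decide +kernel
theorem c_act45_260 : allRange (fun i => Nat.beq (actR45 i) i) 171340 659 = true := by decide +kernel
theorem c_act45_261 : allRange (fun i => Nat.beq (actR45 i) i) 171999 659 = true := by decide +kernel
theorem c_act45_262 : allRange (fun i => Nat.beq (actR45 i) i) 172658 659 = true := by decide +kernel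
theorem c_act45_263 : allRange (fun i => Nat.beq (actR45 i) i) 173317 659 = true := by decide +kernel
theorem c_act45_264 : allRange (fun i => Nat.beq (actR45 i) i) 173976 659 = true := by decide +kernel
theorem c_act45_265 : allRange (fun i => Nat.beq (actR45 i) i) 174635 659 = true := by decide +kernel
theorem c_act45_266 : allRange (fun i => Nat.beq (actR45 i) i) 175294 659 = true := by decide +kernel
theorem c_act45_267 : allRange (fun i => Nat.beq (actR45 i) i) 175953 659 = true := by decide +kernel
theorem c_act45_268 : allRange (fun i => Nat.beq (actR45 i) i) 176612 659 = true := by decide +kernel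
theorem c_act45_269 : allRange (fun i => Nat.beq (actR45 i) i) 177271 659 = true := by decide +kernel
theorem c_act45_270 : allRange (fun i => Nat.beq (actR45 i) i) 177930 659 = true := by decide +kernel
theorem c_act45_271 : allRange (fun i => Nat.beq (actR45 i) i) 178589 659 = true := by decide +kernel
theorem c_act45_272 : allRange (fun i => Nat.beq (actR45 i) i) 179248 659 = true := by decide +kernel
theorem c_act45_273 : allRange (fun i => Nat.beq (actR45 i) i) 179907 659 = true := by decide +kernel
theorem c_act45_274 : allRange (fun i => Nat.beq (actR45 i) i) 180566 659 = true := by decide +kernel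
theorem c_act45_275 : allRange (fun i => Nat.beq (actR45 i) i) 181225 659 = true := by decide +kernel
theorem c_act45_276 : allRange (fun i => Nat.beq (actR45 i) i) 181884 659 = true := by decide +kernel
theorem c_act45_277 : allRange (fun i => Nat.beq (actR45 i) i) 182543 659 = true := by decide +kernel
theorem c_act45_278 : allRange (fun i => Nat.beq (actR45 i) i) 183202 659 = true := by decide +kernel
theorem c_act45_279 : allRange (fun i => Nat.beq (actR45 i) i) 183861 659 = true := by decide +kernel
theorem c_act45_280 : allRange (fun i => Nat.beq (actR45 i) i) 184520 659 = true := by decide +kernel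
theorem c_act45_281 : allRange (fun i => Nat.beq (actR45 i) i) 185179 149 = true := by decide +kernel
theorem c_act46_0 : allRange (fun i => Nat.beq (actR46 i) i) 0 952 = true := by decide +kernel
theorem c_act46_1 : allRange (fun i => Nat.beq (actR46 i) i) 952 952 = true := by decide +kernel
theorem c_act46_2 : allRange (fun i => Nat.beq (actR46 i) i) 1904 952 = true := by decide +kernel
theorem c_act46_3 : allRange (fun i => Nat.beq (actR46 i) i) 2856 952 = true := by decide +kernel

end Cfsg.Agent.Lib.Helper4.TCD.C3Fi22yR
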