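import Cfsg.Agent.Lib.Helper4.TCD_C3Fi22yR_C0
import Cfsg.Agent.Lib.Helper4.TCD_C3Fi22yR_C1
import Cfsg.Agent.Lib.Helper4.TCD_C3Fi22yR_C2
import Cfsg.Agent.Lib.Helper4.TCD_C3Fi22yR_C3
import Cfsg.Agent.Lib.Helper4.TCD_C3Fi22yR_C4
import Cfsg.Agent.Lib.Helper4.TCD_C3Fi22yR_C5
import Cfsg.Agent.Lib.Helper4.TCD_C3Fi22yR_C6
import Cfsg.Agent.Lib.Helper4.TCD_C3Fi22yR_C7
import Cfsg.Agent.Lib.Helper4.TCD_C3Fi22yR_C8
import Cfsg.Agent.Lib.Helper4.TCD_C3Fi22yR_C9
import Cfsg.Agent.Lib.Helper4.TCD_C3Fi22yR_C10
import Cfsg.Agent.Lib.Helper4.TCD_C3Fi22yR_C11
import Cfsg.Agent.Lib.Helper4.TCD_C3Fi22yR_C12
import Cfsg.Agent.Lib.Helper4.TCD_C3Fi22yR_C13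
import Cfsg.Agent.Lib.Helper4.TCD_C3Fi22yR_C14
import Cfsg.Agent.Lib.Helper4.TCD_C3Fi22yR_C15
import Cfsg.Agent.Lib.Helper4.TCD_C3Fi22yR_C16
import Cfsg.Agent.Lib.Helper4.TCD_C3Fi22yR_C17
import Cfsg.Agent.Lib.Helper4.TCD_C3Fi22yR_C18
import Cfsg.Agent.Lib.Helper4.TCD_C3Fi22yR_C19
import Cfsg.Agent.Lib.Helper4.TCD_C3Fi22yR_C20
import Cfsg.Agent.Lib.Helper4.TCD_C3Fi22yR_C21
import Cfsg.Agent.Lib.Helper4.TCD_C3Fi22yR_C22
import Cfsg.Agent.Lib.Helper4.TCD_C3Fi22yR_C23
import Cfsg.Agent.Lib.Helper4.TCD_C3Fi22yR_C24
import Cfsg.Agent.Lib.Helper4.TCD_C3Fi22yR_C25
import Cfsg.Agent.Lib.Helper4.TCD_C3Fi22yR_C26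
import Cfsg.Agent.Lib.Helper4.TCD_C3Fi22yR_C27
import Cfsg.Agent.Lib.Helper4.TCD_C3Fi22yR_C28
import Cfsg.Agent.Lib.Helper4.TCD_C3Fi22yR_C29
import Cfsg.Agent.Lib.Helper4.TCD_C3Fi22yR_C30
import Cfsg.Agent.Lib.Helper4.TCD_C3Fi22yR_C31
import Cfsg.Agent.Lib.Helper4.TCD_C3Fi22yR_C32
import Cfsg.Agent.Lib.Helper4.TCD_C3Fi22yR_C33
import Cfsg.Agent.Lib.Helper4.TCD_C3Fi22yR_C34
import Cfsg.Agent.Lib.Helper4.TCD_C3Fi22yR_C35
import Cfsg.Agent.Lib.Helper4.TCD_C3Fi22yR_C36
import Cfsg.Agent.Lib.Helper4.TCD_C3Fi22yR_C37

namespace Cfsg.Agent.Lib.Helper4.TCD.C3Fi22yR

open Cfsg.Agent.Lib.Helper4.TC

theorem h_perm_p0 : ∀ i, 0 ≤ i → i < 46120 → ∀ x, x < 26 → T.permOK1 D i x = true :=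
  (range_glue (range_of_allGrid c_perm_0) (range_glue (range_of_allGrid c_perm_1) (range_glue (range_of_allGrid c_perm_2) (range_glue (range_of_allGrid c_perm_3) (range_glue (range_of_allGrid c_perm_4) (range_glue (range_of_allGrid c_perm_5) (range_glue (range_of_allGrid c_perm_6) (range_glue (range_of_allGrid c_perm_7) (range_glue (range_of_allGrid c_perm_8) (range_glue (range_of_allGrid c_perm_9) (range_glue (range_of_allGrid c_perm_10) (range_glue (range_of_allGrid c_perm_11) (range_glue (range_of_allGrid c_perm_12) (range_glue (range_of_allGrid c_perm_13) (range_glue (range_of_allGrid c_perm_14) (range_glue (range_of_allGrid c_perm_15) (range_glue (range_of_allGrid c_perm_16) (range_glue (range_of_allGrid c_perm_17) (range_glue (range_of_allGrid c_perm_18) (range_glue (range_of_allGrid c_perm_19) (range_glue (range_of_allGrid c_perm_20) (range_glue (range_of_allGrid c_perm_21) (range_glue (range_of_allGrid c_perm_22) (range_glue (range_of_allGrid c_perm_23) (range_glue (range_of_allGrid c_perm_24) (range_glue (range_of_allGrid c_perm_25) (range_glue (range_of_allGrid c_perm_26) (range_glue (range_of_allGrid c_perm_27) (range_glue (range_of_allGrid c_perm_28) (range_glue (range_of_allGrid c_perm_29)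 (range_glue (range_of_allGrid c_perm_30) (range_glue (range_of_allGrid c_perm_31) (range_glue (range_of_allGrid c_perm_32) (range_glue (range_of_allGrid c_perm_33) (range_glue (range_of_allGrid c_perm_34) (range_glue (range_of_allGrid c_perm_35) (range_glue (range_of_allGrid c_perm_36) (range_glue (range_of_allGrid c_perm_37) (range_glue (range_of_allGrid c_perm_38) (range_of_allGrid c_perm_39))))))))))))))))))))))))))))))))))))))))
theorem h_perm_p1 : ∀ i, 46120 ≤ i → i < 92240 → ∀ x, x < 26 → T.permOK1 D i x = true :=
  (range_glue (range_of_allGrid c_perm_40) (range_glue (range_of_allGrid c_perm_41) (range_glue (range_of_allGrid c_perm_42) (range_glue (range_of_allGrid c_perm_43) (range_glue (range_of_allGrid c_perm_44) (range_glue (range_of_allGrid c_perm_45) (range_glue (range_of_allGrid c_perm_46) (range_glue (range_of_allGrid c_perm_47) (range_glue (range_of_allGrid c_perm_48) (range_glue (range_of_allGrid c_perm_49) (range_glue (range_of_allGrid c_perm_50) (range_glue (range_of_allGrid c_perm_51) (range_glue (range_of_allGrid c_perm_52) (range_glue (range_of_allGrid c_perm_53) (range_glue (range_of_allGrid c_perm_54) (range_glue (range_of_allGrid c_perm_55) (range_glue (range_of_allGrid c_perm_56)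 (range_glue (range_of_allGrid c_perm_57) (range_glue (range_of_allGrid c_perm_58) (range_glue (range_of_allGrid c_perm_59) (range_glue (range_of_allGrid c_perm_60) (range_glue (range_of_allGrid c_perm_61) (range_glue (range_of_allGrid c_perm_62) (range_glue (range_of_allGrid c_perm_63) (range_glue (range_of_allGrid c_perm_64) (range_glue (range_of_allGrid c_perm_65) (range_glue (range_of_allGrid c_perm_66) (range_glue (range_of_allGrid c_perm_67) (range_glue (range_of_allGrid c_perm_68) (range_glue (range_of_allGrid c_perm_69) (range_glue (range_of_allGrid c_perm_70) (range_glue (range_of_allGrid c_perm_71) (range_glue (range_of_allGrid c_perm_72) (range_glue (range_of_allGrid c_perm_73) (range_glue (range_of_allGrid c_perm_74) (range_glue (range_of_allGrid c_perm_75) (range_glue (range_of_allGrid c_perm_76) (range_glue (range_of_allGrid c_perm_77) (range_glue (range_of_allGrid c_perm_78) (range_of_allGrid c_perm_79))))))))))))))))))))))))))))))))))))))))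
theorem h_perm_p2 : ∀ i, 92240 ≤ i → i < 138360 → ∀ x, x < 26 → T.permOK1 D i x = true :=
  (range_glue (range_of_allGrid c_perm_80) (range_glue (range_of_allGrid c_perm_81) (range_glue (range_of_allGrid c_perm_82) (range_glue (range_of_allGrid c_perm_83) (range_glue (range_of_allGrid c_perm_84) (range_glue (range_of_allGrid c_perm_85) (range_glue (range_of_allGrid c_perm_86) (range_glue (range_of_allGrid c_perm_87) (range_glue (range_of_allGrid c_perm_88) (range_glue (range_of_allGrid c_perm_89) (range_glue (range_of_allGrid c_perm_90) (range_glue (range_of_allGrid c_perm_91) (range_glue (range_of_allGrid c_perm_92) (range_glue (range_of_allGrid c_perm_93) (range_glue (range_of_allGrid c_perm_94) (range_glue (range_of_allGrid c_perm_95) (range_glue (range_of_allGrid c_perm_96) (range_glue (range_of_allGrid c_perm_97) (range_glue (range_of_allGrid c_perm_98) (range_glue (range_of_allGrid c_perm_99) (range_glue (range_of_allGrid c_perm_100) (range_glue (range_of_allGrid c_perm_101) (range_glue (range_of_allGrid c_perm_102) (range_glue (range_of_allGrid c_perm_103) (range_glue (range_of_allGrid c_perm_104) (range_glue (range_of_allGrid c_perm_105) (range_glue (range_of_allGrid c_perm_106) (range_glue (range_of_allGrid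 c_perm_107) (range_glue (range_of_allGrid c_perm_108) (range_glue (range_of_allGrid c_perm_109) (range_glue (range_of_allGrid c_perm_110) (range_glue (range_of_allGrid c_perm_111) (range_glue (range_of_allGrid c_perm_112) (range_glue (range_of_allGrid c_perm_113) (range_glue (range_of_allGrid c_perm_114) (range_glue (range_of_allGrid c_perm_115) (range_glue (range_of_allGrid c_perm_116) (range_glue (range_of_allGrid c_perm_117) (range_glue (range_of_allGrid c_perm_118) (range_of_allGrid c_perm_119))))))))))))))))))))))))))))))))))))))))
theorem h_perm_p3 : ∀ i, 138360 ≤ i → i < 184480 → ∀ x, x < 26 → T.permOK1 D i x = true :=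
  (range_glue (range_of_allGrid c_perm_120) (range_glue (range_of_allGrid c_perm_121) (range_glue (range_of_allGrid c_perm_122) (range_glue (range_of_allGrid c_perm_123) (range_glue (range_of_allGrid c_perm_124) (range_glue (range_of_allGrid c_perm_125) (range_glue (range_of_allGrid c_perm_126) (range_glue (range_of_allGrid c_perm_127) (range_glue (range_of_allGrid c_perm_128) (range_glue (range_of_allGrid c_perm_129) (range_glue (range_of_allGrid c_perm_130) (range_glue (range_of_allGrid c_perm_131) (range_glue (range_of_allGrid c_perm_132) (range_glue (range_of_allGrid c_perm_133) (range_glue (range_of_allGrid c_perm_134) (range_glue (range_of_allGrid c_perm_135) (range_glue (range_of_allGrid c_perm_136) (range_glue (range_of_allGrid c_perm_137) (range_glue (range_of_allGrid c_perm_138) (range_glue (range_of_allGrid c_perm_139) (range_glue (range_of_allGrid c_perm_140) (range_glue (range_of_allGrid c_perm_141) (range_glue (range_of_allGrid c_perm_142) (range_glue (range_of_allGrid c_perm_143) (range_glue (range_of_allGrid c_perm_144) (range_glue (range_of_allGrid c_perm_145) (range_glue (range_of_allGrid c_perm_146) (range_glue (range_of_allGrid c_perm_147) (range_glue (range_of_allGrid c_perm_148)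 (range_glue (range_of_allGrid c_perm_149) (range_glue (range_of_allGrid c_perm_150) (range_glue (range_of_allGrid c_perm_151) (range_glue (range_of_allGrid c_perm_152) (range_glue (range_of_allGrid c_perm_153) (range_glue (range_of_allGrid c_perm_154) (range_glue (range_of_allGrid c_perm_155) (range_glue (range_of_allGrid c_perm_156) (range_glue (range_of_allGrid c_perm_157) (range_glue (range_of_allGrid c_perm_158) (range_of_allGrid c_perm_159))))))))))))))))))))))))))))))))))))))))
theorem h_perm_p4 : ∀ i, 184480 ≤ i → i < 185328 → ∀ x, x < 26 → T.permOK1 D i x = true :=
  (range_of_allGrid c_perm_160)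
theorem h_perm : ∀ i, 0 ≤ i → i < 185328 → ∀ x, x < 26 → T.permOK1 D i x = true :=
  (range_glue h_perm_p0 (range_glue h_perm_p1 (range_glue h_perm_p2 (range_glue h_perm_p3 h_perm_p4))))
theorem h_act0 : ∀ i, 0 ≤ i → i < 185328 → Nat.beq (actR0 i) i = true :=
  (range_glue (range_of_allRange c_act0_0) (range_glue (range_of_allRange c_act0_1) (range_glue (range_of_allRange c_act0_2) (range_glue (range_of_allRange c_act0_3) (range_glue (range_of_allRange c_act0_4) (range_glue (range_of_allRange c_act0_5) (range_of_allRange c_act0_6)))))))
theorem h_act1 : ∀ i, 0 ≤ i → i < 185328 → Nat.beq (actR1 i) i = true :=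
  (range_glue (range_of_allRange c_act1_0) (range_glue (range_of_allRange c_act1_1) (range_glue (range_of_allRange c_act1_2) (range_glue (range_of_allRange c_act1_3) (range_glue (range_of_allRange c_act1_4) (range_glue (range_of_allRange c_act1_5) (range_glue (range_of_allRange c_act1_6) (range_glue (range_of_allRange c_act1_7) (range_glue (range_of_allRange c_act1_8) (range_glue (range_of_allRange c_act1_9) (range_glue (range_of_allRange c_act1_10) (range_glue (range_of_allRange c_act1_11) (range_glue (range_of_allRange c_act1_12) (range_glue (range_of_allRange c_act1_13) (range_glue (range_of_allRange c_act1_14) (range_glue (range_of_allRange c_act1_15) (range_glue (range_of_allRange c_act1_16) (range_glue (range_of_allRange c_act1_17) (range_of_allRange c_act1_18)))))))))))))))))))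
theorem h_act2 : ∀ i, 0 ≤ i → i < 185328 → Nat.beq (actR2 i) i = true :=
  (range_glue (range_of_allRange c_act2_0) (range_glue (range_of_allRange c_act2_1) (range_glue (range_of_allRange c_act2_2) (range_glue (range_of_allRange c_act2_3) (range_glue (range_of_allRange c_act2_4) (range_glue (range_of_allRange c_act2_5) (range_glue (range_of_allRange c_act2_6) (range_glue (range_of_allRange c_act2_7) (range_glue (range_of_allRange c_act2_8) (range_glue (range_of_allRange c_act2_9) (range_glue (range_of_allRange c_act2_10) (range_glue (range_of_allRange c_act2_11) (range_of_allRange c_act2_12)))))))))))))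
theorem h_act3 : ∀ i, 0 ≤ i → i < 185328 → Nat.beq (actR3 i) i = true :=
  (range_glue (range_of_allRange c_act3_0) (range_glue (range_of_allRange c_act3_1) (range_glue (range_of_allRange c_act3_2) (range_glue (range_of_allRange c_act3_3) (range_glue (range_of_allRange c_act3_4) (range_glue (range_of_allRange c_act3_5) (range_glue (range_of_allRange c_act3_6) (range_glue (range_of_allRange c_act3_7) (range_glue (range_of_allRange c_act3_8) (range_glue (range_of_allRange c_act3_9) (range_glue (range_of_allRange c_act3_10) (range_glue (range_of_allRange c_act3_11) (range_of_allRange c_act3_12)))))))))))))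
theorem h_act4 : ∀ i, 0 ≤ i → i < 185328 → Nat.beq (actR4 i) i = true :=
  (range_glue (range_of_allRange c_act4_0) (range_glue (range_of_allRange c_act4_1) (range_glue (range_of_allRange c_act4_2) (range_glue (range_of_allRange c_act4_3) (range_glue (range_of_allRange c_act4_4) (range_glue (range_of_allRange c_act4_5) (range_glue (range_of_allRange c_act4_6) (range_glue (range_of_allRange c_act4_7) (range_glue (range_of_allRange c_act4_8) (range_glue (range_of_allRange c_act4_9) (range_glue (range_of_allRange c_act4_10) (range_glue (range_of_allRange c_act4_11) (range_of_allRange c_act4_12)))))))))))))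
theorem h_act5 : ∀ i, 0 ≤ i → i < 185328 → Nat.beq (actR5 i) i = true :=
  (range_glue (range_of_allRange c_act5_0) (range_glue (range_of_allRange c_act5_1) (range_glue (range_of_allRange c_act5_2) (range_glue (range_of_allRange c_act5_3) (range_glue (range_of_allRange c_act5_4) (range_glue (range_of_allRange c_act5_5) (range_glue (range_of_allRange c_act5_6) (range_glue (range_of_allRange c_act5_7) (range_glue (range_of_allRange c_act5_8) (range_glue (range_of_allRange c_act5_9) (range_glue (range_of_allRange c_act5_10) (range_glue (range_of_allRange c_act5_11) (range_of_allRange c_act5_12)))))))))))))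
theorem h_act6 : ∀ i, 0 ≤ i → i < 185328 → Nat.beq (actR6 i) i = true :=
  (range_glue (range_of_allRange c_act6_0) (range_glue (range_of_allRange c_act6_1) (range_glue (range_of_allRange c_act6_2) (range_glue (range_of_allRange c_act6_3) (range_glue (range_of_allRange c_act6_4) (range_glue (range_of_allRange c_act6_5) (range_glue (range_of_allRange c_act6_6) (range_glue (range_of_allRange c_act6_7) (range_glue (range_of_allRange c_act6_8) (range_glue (range_of_allRange c_act6_9) (range_glue (range_of_allRange c_act6_10) (range_glue (range_of_allRange c_act6_11) (range_of_allRange c_act6_12)))))))))))))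
theorem h_act7 : ∀ i, 0 ≤ i → i < 185328 → Nat.beq (actR7 i) i = true :=
  (range_glue (range_of_allRange c_act7_0) (range_glue (range_of_allRange c_act7_1) (range_glue (range_of_allRange c_act7_2) (range_glue (range_of_allRange c_act7_3) (range_glue (range_of_allRange c_act7_4) (range_glue (range_of_allRange c_act7_5) (range_glue (range_of_allRange c_act7_6) (range_glue (range_of_allRange c_act7_7) (range_glue (range_of_allRange c_act7_8) (range_glue (range_of_allRange c_act7_9) (range_glue (range_of_allRange c_act7_10) (range_glue (range_of_allRange c_act7_11) (range_of_allRange c_act7_12)))))))))))))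
theorem h_act8 : ∀ i, 0 ≤ i → i < 185328 → Nat.beq (actR8 i) i = true :=
  (range_glue (range_of_allRange c_act8_0) (range_glue (range_of_allRange c_act8_1) (range_glue (range_of_allRange c_act8_2) (range_glue (range_of_allRange c_act8_3) (range_glue (range_of_allRange c_act8_4) (range_glue (range_of_allRange c_act8_5) (range_glue (range_of_allRange c_act8_6) (range_glue (range_of_allRange c_act8_7) (range_glue (range_of_allRange c_act8_8) (range_glue (range_of_allRange c_act8_9) (range_glue (range_of_allRange c_act8_10) (range_glue (range_of_allRange c_act8_11) (range_of_allRange c_act8_12)))))))))))))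
theorem h_act9 : ∀ i, 0 ≤ i → i < 185328 → Nat.beq (actR9 i) i = true :=
  (range_glue (range_of_allRange c_act9_0) (range_glue (range_of_allRange c_act9_1) (range_glue (range_of_allRange c_act9_2) (range_glue (range_of_allRange c_act9_3) (range_glue (range_of_allRange c_act9_4) (range_glue (range_of_allRange c_act9_5) (range_of_allRange c_act9_6)))))))
theorem h_act10 : ∀ i, 0 ≤ i → i < 185328 → Nat.beq (actR10 i) i = true :=
  (range_glue (range_of_allRange c_act10_0) (range_glue (range_of_allRange c_act10_1) (range_glue (range_of_allRange c_act10_2) (range_glue (range_of_allRange c_act10_3) (range_glue (range_of_allRange c_act10_4) (range_glue (range_of_allRange c_act10_5) (range_glue (range_of_allRange c_act10_6) (range_glue (range_of_allRange c_act10_7) (range_glue (range_of_allRange c_act10_8) (range_glue (range_of_allRange c_act10_9) (range_glue (range_of_allRange c_act10_10) (range_glue (range_of_allRange c_act10_11) (range_glue (range_of_allRange c_act10_12) (range_glue (range_of_allRange c_act10_13) (range_glue (range_of_allRange c_act10_14) (range_glue (range_of_allRange c_act10_15) (range_glue (range_of_allRange c_act10_16) (range_glue (range_of_allRange c_act10_17) (range_of_allRange c_act10_18)))))))))))))))))))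
theorem h_act11 : ∀ i, 0 ≤ i → i < 185328 → Nat.beq (actR11 i) i = true :=
  (range_glue (range_of_allRange c_act11_0) (range_glue (range_of_allRange c_act11_1) (range_glue (range_of_allRange c_act11_2) (range_glue (range_of_allRange c_act11_3) (range_glue (range_of_allRange c_act11_4) (range_glue (range_of_allRange c_act11_5) (range_glue (range_of_allRange c_act11_6) (range_glue (range_of_allRange c_act11_7) (range_glue (range_of_allRange c_act11_8) (range_glue (range_of_allRange c_act11_9) (range_glue (range_of_allRange c_act11_10) (range_glue (range_of_allRange c_act11_11) (range_of_allRange c_act11_12)))))))))))))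
theorem h_act12 : ∀ i, 0 ≤ i → i < 185328 → Nat.beq (actR12 i) i = true :=
  (range_glue (range_of_allRange c_act12_0) (range_glue (range_of_allRange c_act12_1) (range_glue (range_of_allRange c_act12_2) (range_glue (range_of_allRange c_act12_3) (range_glue (range_of_allRange c_act12_4) (range_glue (range_of_allRange c_act12_5) (range_glue (range_of_allRange c_act12_6) (range_glue (range_of_allRange c_act12_7) (range_glue (range_of_allRange c_act12_8) (range_glue (range_of_allRange c_act12_9) (range_glue (range_of_allRange c_act12_10) (range_glue (range_of_allRange c_act12_11) (range_of_allRange c_act12_12)))))))))))))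
theorem h_act13 : ∀ i, 0 ≤ i → i < 185328 → Nat.beq (actR13 i) i = true :=
  (range_glue (range_of_allRange c_act13_0) (range_glue (range_of_allRange c_act13_1) (range_glue (range_of_allRange c_act13_2) (range_glue (range_of_allRange c_act13_3) (range_glue (range_of_allRange c_act13_4) (range_glue (range_of_allRange c_act13_5) (range_glue (range_of_allRange c_act13_6) (range_glue (range_of_allRange c_act13_7) (range_glue (range_of_allRange c_act13_8) (range_glue (range_of_allRange c_act13_9) (range_glue (range_of_allRange c_act13_10) (range_glue (range_of_allRange c_act13_11) (range_of_allRange c_act13_12)))))))))))))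
theorem h_act14 : ∀ i, 0 ≤ i → i < 185328 → Nat.beq (actR14 i) i = true :=
  (range_glue (range_of_allRange c_act14_0) (range_glue (range_of_allRange c_act14_1) (range_glue (range_of_allRange c_act14_2) (range_glue (range_of_allRange c_act14_3) (range_glue (range_of_allRange c_act14_4) (range_glue (range_of_allRange c_act14_5) (range_glue (range_of_allRange c_act14_6) (range_glue (range_of_allRange c_act14_7) (range_glue (range_of_allRange c_act14_8) (range_glue (range_of_allRange c_act14_9) (range_glue (range_of_allRange c_act14_10) (range_glue (range_of_allRange c_act14_11) (range_of_allRange c_act14_12)))))))))))))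
theorem h_act15 : ∀ i, 0 ≤ i → i < 185328 → Nat.beq (actR15 i) i = true :=
  (range_glue (range_of_allRange c_act15_0) (range_glue (range_of_allRange c_act15_1) (range_glue (range_of_allRange c_act15_2) (range_glue (range_of_allRange c_act15_3) (range_glue (range_of_allRange c_act15_4) (range_glue (range_of_allRange c_act15_5) (range_glue (range_of_allRange c_act15_6) (range_glue (range_of_allRange c_act15_7) (range_glue (range_of_allRange c_act15_8) (range_glue (range_of_allRange c_act15_9) (range_glue (range_of_allRange c_act15_10) (range_glue (range_of_allRange c_act15_11) (range_of_allRange c_act15_12)))))))))))))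
theorem h_act16 : ∀ i, 0 ≤ i → i < 185328 → Nat.beq (actR16 i) i = true :=
  (range_glue (range_of_allRange c_act16_0) (range_glue (range_of_allRange c_act16_1) (range_glue (range_of_allRange c_act16_2) (range_glue (range_of_allRange c_act16_3) (range_glue (range_of_allRange c_act16_4) (range_glue (range_of_allRange c_act16_5) (range_glue (range_of_allRange c_act16_6) (range_glue (range_of_allRange c_act16_7) (range_glue (range_of_allRange c_act16_8) (range_glue (range_of_allRange c_act16_9) (range_glue (range_of_allRange c_act16_10) (range_glue (range_of_allRange c_act16_11) (range_of_allRange c_act16_12)))))))))))))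
theorem h_act17 : ∀ i, 0 ≤ i → i < 185328 → Nat.beq (actR17 i) i = true :=
  (range_glue (range_of_allRange c_act17_0) (range_glue (range_of_allRange c_act17_1) (range_glue (range_of_allRange c_act17_2) (range_glue (range_of_allRange c_act17_3) (range_glue (range_of_allRange c_act17_4) (range_glue (range_of_allRange c_act17_5) (range_of_allRange c_act17_6)))))))
theorem h_act18 : ∀ i, 0 ≤ i → i < 185328 → Nat.beq (actR18 i) i = true :=
  (range_glue (range_of_allRange c_act18_0) (range_glue (range_of_allRange c_act18_1) (range_glue (range_of_allRange c_act18_2) (range_glue (range_of_allRange c_act18_3) (range_glue (range_of_allRange c_act18_4) (range_glue (range_of_allRange c_act18_5) (range_glue (range_of_allRange c_act18_6) (range_glue (range_of_allRange c_act18_7) (range_glue (range_of_allRange c_act18_8) (range_glue (range_of_allRange c_act18_9) (range_glue (range_of_allRange c_act18_10) (range_glue (range_of_allRange c_act18_11) (range_glue (range_of_allRange c_act18_12) (range_glue (range_of_allRange c_act18_13) (range_glue (range_of_allRange c_act18_14) (range_glue (range_of_allRange c_act18_15) (range_glue (range_of_allRange c_act18_16) (range_glue (range_of_allRange c_act18_17) (range_of_allRange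 c_act18_18)))))))))))))))))))
theorem h_act19 : ∀ i, 0 ≤ i → i < 185328 → Nat.beq (actR19 i) i = true :=
  (range_glue (range_of_allRange c_act19_0) (range_glue (range_of_allRange c_act19_1) (range_glue (range_of_allRange c_act19_2) (range_glue (range_of_allRange c_act19_3) (range_glue (range_of_allRange c_act19_4) (range_glue (range_of_allRange c_act19_5) (range_glue (range_of_allRange c_act19_6) (range_glue (range_of_allRange c_act19_7) (range_glue (range_of_allRange c_act19_8) (range_glue (range_of_allRange c_act19_9) (range_glue (range_of_allRange c_act19_10) (range_glue (range_of_allRange c_act19_11) (range_of_allRange c_act19_12)))))))))))))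
theorem h_act20 : ∀ i, 0 ≤ i → i < 185328 → Nat.beq (actR20 i) i = true :=
  (range_glue (range_of_allRange c_act20_0) (range_glue (range_of_allRange c_act20_1) (range_glue (range_of_allRange c_act20_2) (range_glue (range_of_allRange c_act20_3) (range_glue (range_of_allRange c_act20_4) (range_glue (range_of_allRange c_act20_5) (range_glue (range_of_allRange c_act20_6) (range_glue (range_of_allRange c_act20_7) (range_glue (range_of_allRange c_act20_8) (range_glue (range_of_allRange c_act20_9) (range_glue (range_of_allRange c_act20_10) (range_glue (range_of_allRange c_act20_11) (range_of_allRange c_act20_12)))))))))))))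
theorem h_act21 : ∀ i, 0 ≤ i → i < 185328 → Nat.beq (actR21 i) i = true :=
  (range_glue (range_of_allRange c_act21_0) (range_glue (range_of_allRange c_act21_1) (range_glue (range_of_allRange c_act21_2) (range_glue (range_of_allRange c_act21_3) (range_glue (range_of_allRange c_act21_4) (range_glue (range_of_allRange c_act21_5) (range_glue (range_of_allRange c_act21_6) (range_glue (range_of_allRange c_act21_7) (range_glue (range_of_allRange c_act21_8) (range_glue (range_of_allRange c_act21_9) (range_glue (range_of_allRange c_act21_10) (range_glue (range_of_allRange c_act21_11) (range_of_allRange c_act21_12)))))))))))))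
theorem h_act22 : ∀ i, 0 ≤ i → i < 185328 → Nat.beq (actR22 i) i = true :=
  (range_glue (range_of_allRange c_act22_0) (range_glue (range_of_allRange c_act22_1) (range_glue (range_of_allRange c_act22_2) (range_glue (range_of_allRange c_act22_3) (range_glue (range_of_allRange c_act22_4) (range_glue (range_of_allRange c_act22_5) (range_glue (range_of_allRange c_act22_6) (range_glue (range_of_allRange c_act22_7) (range_glue (range_of_allRange c_act22_8) (range_glue (range_of_allRange c_act22_9) (range_glue (range_of_allRange c_act22_10) (range_glue (range_of_allRange c_act22_11) (range_of_allRange c_act22_12)))))))))))))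
theorem h_act23 : ∀ i, 0 ≤ i → i < 185328 → Nat.beq (actR23 i) i = true :=
  (range_glue (range_of_allRange c_act23_0) (range_glue (range_of_allRange c_act23_1) (range_glue (range_of_allRange c_act23_2) (range_glue (range_of_allRange c_act23_3) (range_glue (range_of_allRange c_act23_4) (range_glue (range_of_allRange c_act23_5) (range_glue (range_of_allRange c_act23_6) (range_glue (range_of_allRange c_act23_7) (range_glue (range_of_allRange c_act23_8) (range_glue (range_of_allRange c_act23_9) (range_glue (range_of_allRange c_act23_10) (range_glue (range_of_allRange c_act23_11) (range_of_allRange c_act23_12)))))))))))))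
theorem h_act24 : ∀ i, 0 ≤ i → i < 185328 → Nat.beq (actR24 i) i = true :=
  (range_glue (range_of_allRange c_act24_0) (range_glue (range_of_allRange c_act24_1) (range_glue (range_of_allRange c_act24_2) (range_glue (range_of_allRange c_act24_3) (range_glue (range_of_allRange c_act24_4) (range_glue (range_of_allRange c_act24_5) (range_of_allRange c_act24_6)))))))
theorem h_act25 : ∀ i, 0 ≤ i → i < 185328 → Nat.beq (actR25 i) i = true :=
  (range_glue (range_of_allRange c_act25_0) (range_glue (range_of_allRange c_act25_1) (range_glue (range_of_allRange c_act25_2) (range_glue (range_of_allRange c_act25_3) (range_glue (range_of_allRange c_act25_4) (range_glue (range_of_allRange c_act25_5) (range_glue (range_of_allRange c_act25_6) (range_glue (range_of_allRange c_act25_7) (range_glue (range_of_allRange c_act25_8) (range_glue (range_of_allRange c_act25_9) (range_glue (range_of_allRange c_act25_10) (range_glue (range_of_allRange c_act25_11) (range_glue (range_of_allRange c_act25_12) (range_glue (range_of_allRange c_act25_13) (range_glue (range_of_allRange c_act25_14) (range_glue (range_of_allRange c_act25_15) (range_glue (range_of_allRange c_act25_16) (range_glue (range_of_allRange c_act25_17) (range_of_allRange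 c_act25_18)))))))))))))))))))
theorem h_act26 : ∀ i, 0 ≤ i → i < 185328 → Nat.beq (actR26 i) i = true :=
  (range_glue (range_of_allRange c_act26_0) (range_glue (range_of_allRange c_act26_1) (range_glue (range_of_allRange c_act26_2) (range_glue (range_of_allRange c_act26_3) (range_glue (range_of_allRange c_act26_4) (range_glue (range_of_allRange c_act26_5) (range_glue (range_of_allRange c_act26_6) (range_glue (range_of_allRange c_act26_7) (range_glue (range_of_allRange c_act26_8) (range_glue (range_of_allRange c_act26_9) (range_glue (range_of_allRange c_act26_10) (range_glue (range_of_allRange c_act26_11) (range_glue (range_of_allRange c_act26_12) (range_glue (range_of_allRange c_act26_13) (range_glue (range_of_allRange c_act26_14) (range_glue (range_of_allRange c_act26_15) (range_glue (range_of_allRange c_act26_16) (range_glue (range_of_allRange c_act26_17) (range_of_allRange c_act26_18)))))))))))))))))))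
theorem h_act27 : ∀ i, 0 ≤ i → i < 185328 → Nat.beq (actR27 i) i = true :=
  (range_glue (range_of_allRange c_act27_0) (range_glue (range_of_allRange c_act27_1) (range_glue (range_of_allRange c_act27_2) (range_glue (range_of_allRange c_act27_3) (range_glue (range_of_allRange c_act27_4) (range_glue (range_of_allRange c_act27_5) (range_glue (range_of_allRange c_act27_6) (range_glue (range_of_allRange c_act27_7) (range_glue (range_of_allRange c_act27_8) (range_glue (range_of_allRange c_act27_9) (range_glue (range_of_allRange c_act27_10) (range_glue (range_of_allRange c_act27_11) (range_of_allRange c_act27_12)))))))))))))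
theorem h_act28 : ∀ i, 0 ≤ i → i < 185328 → Nat.beq (actR28 i) i = true :=
  (range_glue (range_of_allRange c_act28_0) (range_glue (range_of_allRange c_act28_1) (range_glue (range_of_allRange c_act28_2) (range_glue (range_of_allRange c_act28_3) (range_glue (range_of_allRange c_act28_4) (range_glue (range_of_allRange c_act28_5) (range_glue (range_of_allRange c_act28_6) (range_glue (range_of_allRange c_act28_7) (range_glue (range_of_allRange c_act28_8) (range_glue (range_of_allRange c_act28_9) (range_glue (range_of_allRange c_act28_10) (range_glue (range_of_allRange c_act28_11) (range_of_allRange c_act28_12)))))))))))))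
theorem h_act29 : ∀ i, 0 ≤ i → i < 185328 → Nat.beq (actR29 i) i = true :=
  (range_glue (range_of_allRange c_act29_0) (range_glue (range_of_allRange c_act29_1) (range_glue (range_of_allRange c_act29_2) (range_glue (range_of_allRange c_act29_3) (range_glue (range_of_allRange c_act29_4) (range_glue (range_of_allRange c_act29_5) (range_glue (range_of_allRange c_act29_6) (range_glue (range_of_allRange c_act29_7) (range_glue (range_of_allRange c_act29_8) (range_glue (range_of_allRange c_act29_9) (range_glue (range_of_allRange c_act29_10) (range_glue (range_of_allRange c_act29_11) (range_of_allRange c_act29_12)))))))))))))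
theorem h_act30 : ∀ i, 0 ≤ i → i < 185328 → Nat.beq (actR30 i) i = true :=
  (range_glue (range_of_allRange c_act30_0) (range_glue (range_of_allRange c_act30_1) (range_glue (range_of_allRange c_act30_2) (range_glue (range_of_allRange c_act30_3) (range_glue (range_of_allRange c_act30_4) (range_glue (range_of_allRange c_act30_5) (range_of_allRange c_act30_6)))))))
theorem h_act31 : ∀ i, 0 ≤ i → i < 185328 → Nat.beq (actR31 i) i = true :=
  (range_glue (range_of_allRange c_act31_0) (range_glue (range_of_allRange c_act31_1) (range_glue (range_of_allRange c_act31_2) (range_glue (range_of_allRange c_act31_3) (range_glue (range_of_allRange c_act31_4) (range_glue (range_of_allRange c_act31_5) (range_glue (range_of_allRange c_act31_6) (range_glue (range_of_allRange c_act31_7) (range_glue (range_of_allRange c_act31_8) (range_glue (range_of_allRange c_act31_9) (range_glue (range_of_allRange c_act31_10) (range_glue (range_of_allRange c_act31_11) (range_of_allRange c_act31_12)))))))))))))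
theorem h_act32 : ∀ i, 0 ≤ i → i < 185328 → Nat.beq (actR32 i) i = true :=
  (range_glue (range_of_allRange c_act32_0) (range_glue (range_of_allRange c_act32_1) (range_glue (range_of_allRange c_act32_2) (range_glue (range_of_allRange c_act32_3) (range_glue (range_of_allRange c_act32_4) (range_glue (range_of_allRange c_act32_5) (range_glue (range_of_allRange c_act32_6) (range_glue (range_of_allRange c_act32_7) (range_glue (range_of_allRange c_act32_8) (range_glue (range_of_allRange c_act32_9) (range_glue (range_of_allRange c_act32_10) (range_glue (range_of_allRange c_act32_11) (range_glue (range_of_allRange c_act32_12) (range_glue (range_of_allRange c_act32_13) (range_glue (range_of_allRange c_act32_14) (range_glue (range_of_allRange c_act32_15) (range_glue (range_of_allRange c_act32_16) (range_glue (range_of_allRange c_act32_17) (range_of_allRange c_act32_18)))))))))))))))))))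
theorem h_act33 : ∀ i, 0 ≤ i → i < 185328 → Nat.beq (actR33 i) i = true :=
  (range_glue (range_of_allRange c_act33_0) (range_glue (range_of_allRange c_act33_1) (range_glue (range_of_allRange c_act33_2) (range_glue (range_of_allRange c_act33_3) (range_glue (range_of_allRange c_act33_4) (range_glue (range_of_allRange c_act33_5) (range_glue (range_of_allRange c_act33_6) (range_glue (range_of_allRange c_act33_7) (range_glue (range_of_allRange c_act33_8) (range_glue (range_of_allRange c_act33_9) (range_glue (range_of_allRange c_act33_10) (range_glue (range_of_allRange c_act33_11) (range_of_allRange c_act33_12)))))))))))))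
theorem h_act34 : ∀ i, 0 ≤ i → i < 185328 → Nat.beq (actR34 i) i = true :=
  (range_glue (range_of_allRange c_act34_0) (range_glue (range_of_allRange c_act34_1) (range_glue (range_of_allRange c_act34_2) (range_glue (range_of_allRange c_act34_3) (range_glue (range_of_allRange c_act34_4) (range_glue (range_of_allRange c_act34_5) (range_glue (range_of_allRange c_act34_6) (range_glue (range_of_allRange c_act34_7) (range_glue (range_of_allRange c_act34_8) (range_glue (range_of_allRange c_act34_9) (range_glue (range_of_allRange c_act34_10) (range_glue (range_of_allRange c_act34_11) (range_of_allRange c_act34_12)))))))))))))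
theorem h_act35 : ∀ i, 0 ≤ i → i < 185328 → Nat.beq (actR35 i) i = true :=
  (range_glue (range_of_allRange c_act35_0) (range_glue (range_of_allRange c_act35_1) (range_glue (range_of_allRange c_act35_2) (range_glue (range_of_allRange c_act35_3) (range_glue (range_of_allRange c_act35_4) (range_glue (range_of_allRange c_act35_5) (range_of_allRange c_act35_6)))))))
theorem h_act36 : ∀ i, 0 ≤ i → i < 185328 → Nat.beq (actR36 i) i = true :=
  (range_glue (range_of_allRange c_act36_0) (range_glue (range_of_allRange c_act36_1) (range_glue (range_of_allRange c_act36_2) (range_glue (range_of_allRange c_act36_3) (range_glue (range_of_allRange c_act36_4) (range_glue (range_of_allRange c_act36_5) (range_glue (range_of_allRange c_act36_6) (range_glue (range_of_allRange c_act36_7) (range_glue (range_of_allRange c_act36_8) (range_glue (range_of_allRange c_act36_9) (range_glue (range_of_allRange c_act36_10) (range_glue (range_of_allRange c_act36_11) (range_of_allRange c_act36_12)))))))))))))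
theorem h_act37 : ∀ i, 0 ≤ i → i < 185328 → Nat.beq (actR37 i) i = true :=
  (range_glue (range_of_allRange c_act37_0) (range_glue (range_of_allRange c_act37_1) (range_glue (range_of_allRange c_act37_2) (range_glue (range_of_allRange c_act37_3) (range_glue (range_of_allRange c_act37_4) (range_glue (range_of_allRange c_act37_5) (range_glue (range_of_allRange c_act37_6) (range_glue (range_of_allRange c_act37_7) (range_glue (range_of_allRange c_act37_8) (range_glue (range_of_allRange c_act37_9) (range_glue (range_of_allRange c_act37_10) (range_glue (range_of_allRange c_act37_11) (range_of_allRange c_act37_12)))))))))))))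
theorem h_act38 : ∀ i, 0 ≤ i → i < 185328 → Nat.beq (actR38 i) i = true :=
  (range_glue (range_of_allRange c_act38_0) (range_glue (range_of_allRange c_act38_1) (range_glue (range_of_allRange c_act38_2) (range_glue (range_of_allRange c_act38_3) (range_glue (range_of_allRange c_act38_4) (range_glue (range_of_allRange c_act38_5) (range_glue (range_of_allRange c_act38_6) (range_glue (range_of_allRange c_act38_7) (range_glue (range_of_allRange c_act38_8) (range_glue (range_of_allRange c_act38_9) (range_glue (range_of_allRange c_act38_10) (range_glue (range_of_allRange c_act38_11) (range_glue (range_of_allRange c_act38_12) (range_glue (range_of_allRange c_act38_13) (range_glue (range_of_allRange c_act38_14) (range_glue (range_of_allRange c_act38_15) (range_glue (range_of_allRange c_act38_16) (range_glue (range_of_allRange c_act38_17) (range_of_allRange c_act38_18)))))))))))))))))))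
theorem h_act39 : ∀ i, 0 ≤ i → i < 185328 → Nat.beq (actR39 i) i = true :=
  (range_glue (range_of_allRange c_act39_0) (range_glue (range_of_allRange c_act39_1) (range_glue (range_of_allRange c_act39_2) (range_glue (range_of_allRange c_act39_3) (range_glue (range_of_allRange c_act39_4) (range_glue (range_of_allRange c_act39_5) (range_of_allRange c_act39_6)))))))
theorem h_act40 : ∀ i, 0 ≤ i → i < 185328 → Nat.beq (actR40 i) i = true :=
  (range_glue (range_of_allRange c_act40_0) (range_glue (range_of_allRange c_act40_1) (range_glue (range_of_allRange c_act40_2) (range_glue (range_of_allRange c_act40_3) (range_glue (range_of_allRange c_act40_4) (range_glue (range_of_allRange c_act40_5) (range_glue (range_of_allRange c_act40_6) (range_glue (range_of_allRange c_act40_7) (range_glue (range_of_allRange c_act40_8) (range_glue (range_of_allRange c_act40_9) (range_glue (range_of_allRange c_act40_10) (range_glue (range_of_allRange c_act40_11) (range_glue (range_of_allRange c_act40_12) (range_glue (range_of_allRange c_act40_13) (range_glue (range_of_allRange c_act40_14) (range_glue (range_of_allRange c_act40_15) (range_glue (range_of_allRange c_act40_16) (range_glue (range_of_allRange c_act40_17) (range_of_allRange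 c_act40_18)))))))))))))))))))
theorem h_act41 : ∀ i, 0 ≤ i → i < 185328 → Nat.beq (actR41 i) i = true :=
  (range_glue (range_of_allRange c_act41_0) (range_glue (range_of_allRange c_act41_1) (range_glue (range_of_allRange c_act41_2) (range_glue (range_of_allRange c_act41_3) (range_glue (range_of_allRange c_act41_4) (range_glue (range_of_allRange c_act41_5) (range_glue (range_of_allRange c_act41_6) (range_glue (range_of_allRange c_act41_7) (range_glue (range_of_allRange c_act41_8) (range_glue (range_of_allRange c_act41_9) (range_glue (range_of_allRange c_act41_10) (range_glue (range_of_allRange c_act41_11) (range_of_allRange c_act41_12)))))))))))))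
theorem h_act42 : ∀ i, 0 ≤ i → i < 185328 → Nat.beq (actR42 i) i = true :=
  (range_glue (range_of_allRange c_act42_0) (range_glue (range_of_allRange c_act42_1) (range_glue (range_of_allRange c_act42_2) (range_glue (range_of_allRange c_act42_3) (range_glue (range_of_allRange c_act42_4) (range_glue (range_of_allRange c_act42_5) (range_of_allRange c_act42_6)))))))
theorem h_act43 : ∀ i, 0 ≤ i → i < 185328 → Nat.beq (actR43 i) i = true :=
  (range_glue (range_of_allRange c_act43_0) (range_glue (range_of_allRange c_act43_1) (range_glue (range_of_allRange c_act43_2) (range_glue (range_of_allRange c_act43_3) (range_glue (range_of_allRange c_act43_4) (range_glue (range_of_allRange c_act43_5) (range_glue (range_of_allRange c_act43_6) (range_glue (range_of_allRange c_act43_7) (range_glue (range_of_allRange c_act43_8) (range_glue (range_of_allRange c_act43_9) (range_glue (range_of_allRange c_act43_10) (range_glue (range_of_allRange c_act43_11) (range_of_allRange c_act43_12)))))))))))))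
theorem h_act44 : ∀ i, 0 ≤ i → i < 185328 → Nat.beq (actR44 i) i = true :=
  (range_glue (range_of_allRange c_act44_0) (range_glue (range_of_allRange c_act44_1) (range_glue (range_of_allRange c_act44_2) (range_glue (range_of_allRange c_act44_3) (range_glue (range_of_allRange c_act44_4) (range_glue (range_of_allRange c_act44_5) (range_of_allRange c_act44_6)))))))
theorem h_act45_p0 : ∀ i, 0 ≤ i → i < 26360 → Nat.beq (actR45 i) i = true :=
  (range_glue (range_of_allRange c_act45_0) (range_glue (range_of_allRange c_act45_1) (range_glue (range_of_allRange c_act45_2) (range_glue (range_of_allRange c_act45_3) (range_glue (range_of_allRange c_act45_4) (range_glue (range_of_allRange c_act45_5) (range_glue (range_of_allRange c_act45_6) (range_glue (range_of_allRange c_act45_7) (range_glue (range_of_allRange c_act45_8) (range_glue (range_of_allRange c_act45_9) (range_glue (range_of_allRange c_act45_10) (range_glue (range_of_allRange c_act45_11) (range_glue (range_of_allRange c_act45_12) (range_glue (range_of_allRange c_act45_13) (range_glue (range_of_allRange c_act45_14) (range_glue (range_of_allRange c_act45_15) (range_glue (range_of_allRange c_act45_16) (range_glue (range_of_allRange c_act45_17) (range_glue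 (range_of_allRange c_act45_18) (range_glue (range_of_allRange c_act45_19) (range_glue (range_of_allRange c_act45_20) (range_glue (range_of_allRange c_act45_21) (range_glue (range_of_allRange c_act45_22) (range_glue (range_of_allRange c_act45_23) (range_glue (range_of_allRange c_act45_24) (range_glue (range_of_allRange c_act45_25) (range_glue (range_of_allRange c_act45_26) (range_glue (range_of_allRange c_act45_27) (range_glue (range_of_allRange c_act45_28) (range_glue (range_of_allRange c_act45_29) (range_glue (range_of_allRange c_act45_30) (range_glue (range_of_allRange c_act45_31) (range_glue (range_of_allRange c_act45_32) (range_glue (range_of_allRange c_act45_33) (range_glue (range_of_allRange c_act45_34) (range_glue (range_of_allRange c_act45_35) (range_glue (range_of_allRange c_act45_36) (range_glue (range_of_allRange c_act45_37) (range_glue (range_of_allRange c_act45_38) (range_of_allRange c_act45_39))))))))))))))))))))))))))))))))))))))))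
theorem h_act45_p1 : ∀ i, 26360 ≤ i → i < 52720 → Nat.beq (actR45 i) i = true :=
  (range_glue (range_of_allRange c_act45_40) (range_glue (range_of_allRange c_act45_41) (range_glue (range_of_allRange c_act45_42) (range_glue (range_of_allRange c_act45_43) (range_glue (range_of_allRange c_act45_44) (range_glue (range_of_allRange c_act45_45) (range_glue (range_of_allRange c_act45_46) (range_glue (range_of_allRange c_act45_47) (range_glue (range_of_allRange c_act45_48) (range_glue (range_of_allRange c_act45_49) (range_glue (range_of_allRange c_act45_50) (range_glue (range_of_allRange c_act45_51) (range_glue (range_of_allRange c_act45_52) (range_glue (range_of_allRange c_act45_53) (range_glue (range_of_allRange c_act45_54) (range_glue (range_of_allRange c_act45_55) (range_glue (range_of_allRange c_act45_56) (range_glue (range_of_allRange c_act45_57) (range_glue (range_of_allRange c_act45_58) (range_glue (range_of_allRange c_act45_59) (range_glue (range_of_allRange c_act45_60) (range_glue (range_of_allRange c_act45_61) (range_glue (range_of_allRange c_act45_62) (range_glue (range_of_allRange c_act45_63) (range_glue (range_of_allRange c_act45_64) (range_glue (range_of_allRange c_act45_65) (range_glue (range_of_allRange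 c_act45_66) (range_glue (range_of_allRange c_act45_67) (range_glue (range_of_allRange c_act45_68) (range_glue (range_of_allRange c_act45_69) (range_glue (range_of_allRange c_act45_70) (range_glue (range_of_allRange c_act45_71) (range_glue (range_of_allRange c_act45_72) (range_glue (range_of_allRange c_act45_73) (range_glue (range_of_allRange c_act45_74) (range_glue (range_of_allRange c_act45_75) (range_glue (range_of_allRange c_act45_76) (range_glue (range_of_allRange c_act45_77) (range_glue (range_of_allRange c_act45_78) (range_of_allRange c_act45_79))))))))))))))))))))))))))))))))))))))))
theorem h_act45_p2 : ∀ i, 52720 ≤ i → i < 79080 → Nat.beq (actR45 i) i = true :=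
  (range_glue (range_of_allRange c_act45_80) (range_glue (range_of_allRange c_act45_81) (range_glue (range_of_allRange c_act45_82) (range_glue (range_of_allRange c_act45_83) (range_glue (range_of_allRange c_act45_84) (range_glue (range_of_allRange c_act45_85) (range_glue (range_of_allRange c_act45_86) (range_glue (range_of_allRange c_act45_87) (range_glue (range_of_allRange c_act45_88) (range_glue (range_of_allRange c_act45_89) (range_glue (range_of_allRange c_act45_90) (range_glue (range_of_allRange c_act45_91) (range_glue (range_of_allRange c_act45_92) (range_glue (range_of_allRange c_act45_93) (range_glue (range_of_allRange c_act45_94) (range_glue (range_of_allRange c_act45_95) (range_glue (range_of_allRange c_act45_96) (range_glue (range_of_allRange c_act45_97) (range_glue (range_of_allRange c_act45_98) (range_glue (range_of_allRange c_act45_99) (range_glue (range_of_allRange c_act45_100) (range_glue (range_of_allRange c_act45_101) (range_glue (range_of_allRange c_act45_102) (range_glue (range_of_allRange c_act45_103) (range_glue (range_of_allRange c_act45_104) (range_glue (range_of_allRange c_act45_105) (range_glue (range_of_allRange c_act45_106) (range_glue (range_of_allRange c_act45_107) (range_glue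 (range_of_allRange c_act45_108) (range_glue (range_of_allRange c_act45_109) (range_glue (range_of_allRange c_act45_110) (range_glue (range_of_allRange c_act45_111) (range_glue (range_of_allRange c_act45_112) (range_glue (range_of_allRange c_act45_113) (range_glue (range_of_allRange c_act45_114) (range_glue (range_of_allRange c_act45_115) (range_glue (range_of_allRange c_act45_116) (range_glue (range_of_allRange c_act45_117) (range_glue (range_of_allRange c_act45_118) (range_of_allRange c_act45_119))))))))))))))))))))))))))))))))))))))))
theorem h_act45_p3 : ∀ i, 79080 ≤ i → i < 105440 → Nat.beq (actR45 i) i = true :=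
  (range_glue (range_of_allRange c_act45_120) (range_glue (range_of_allRange c_act45_121) (range_glue (range_of_allRange c_act45_122) (range_glue (range_of_allRange c_act45_123) (range_glue (range_of_allRange c_act45_124) (range_glue (range_of_allRange c_act45_125) (range_glue (range_of_allRange c_act45_126) (range_glue (range_of_allRange c_act45_127) (range_glue (range_of_allRange c_act45_128) (range_glue (range_of_allRange c_act45_129) (range_glue (range_of_allRange c_act45_130) (range_glue (range_of_allRange c_act45_131) (range_glue (range_of_allRange c_act45_132) (range_glue (range_of_allRange c_act45_133) (range_glue (range_of_allRange c_act45_134) (range_glue (range_of_allRange c_act45_135) (range_glue (range_of_allRange c_act45_136) (range_glue (range_of_allRange c_act45_137) (range_glue (range_of_allRange c_act45_138) (range_glue (range_of_allRange c_act45_139) (range_glue (range_of_allRange c_act45_140) (range_glue (range_of_allRange c_act45_141) (range_glue (range_of_allRange c_act45_142) (range_glue (range_of_allRange c_act45_143) (range_glue (range_of_allRange c_act45_144) (range_glue (range_of_allRange c_act45_145) (range_glue (range_of_allRange c_act45_146) (range_glue (range_of_allRange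 c_act45_147) (range_glue (range_of_allRange c_act45_148) (range_glue (range_of_allRange c_act45_149) (range_glue (range_of_allRange c_act45_150) (range_glue (range_of_allRange c_act45_151) (range_glue (range_of_allRange c_act45_152) (range_glue (range_of_allRange c_act45_153) (range_glue (range_of_allRange c_act45_154) (range_glue (range_of_allRange c_act45_155) (range_glue (range_of_allRange c_act45_156) (range_glue (range_of_allRange c_act45_157) (range_glue (range_of_allRange c_act45_158) (range_of_allRange c_act45_159))))))))))))))))))))))))))))))))))))))))
theorem h_act45_p4 : ∀ i, 105440 ≤ i → i < 131800 → Nat.beq (actR45 i) i = true :=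
  (range_glue (range_of_allRange c_act45_160) (range_glue (range_of_allRange c_act45_161) (range_glue (range_of_allRange c_act45_162) (range_glue (range_of_allRange c_act45_163) (range_glue (range_of_allRange c_act45_164) (range_glue (range_of_allRange c_act45_165) (range_glue (range_of_allRange c_act45_166) (range_glue (range_of_allRange c_act45_167) (range_glue (range_of_allRange c_act45_168) (range_glue (range_of_allRange c_act45_169) (range_glue (range_of_allRange c_act45_170) (range_glue (range_of_allRange c_act45_171) (range_glue (range_of_allRange c_act45_172) (range_glue (range_of_allRange c_act45_173) (range_glue (range_of_allRange c_act45_174) (range_glue (range_of_allRange c_act45_175) (range_glue (range_of_allRange c_act45_176) (range_glue (range_of_allRange c_act45_177) (range_glue (range_of_allRange c_act45_178) (range_glue (range_of_allRange c_act45_179) (range_glue (range_of_allRange c_act45_180) (range_glue (range_of_allRange c_act45_181) (range_glue (range_of_allRange c_act45_182) (range_glue (range_of_allRange c_act45_183) (range_glue (range_of_allRange c_act45_184) (range_glue (range_of_allRange c_act45_185) (range_glue (range_of_allRange c_act45_186) (range_glue (range_of_allRange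 c_act45_187) (range_glue (range_of_allRange c_act45_188) (range_glue (range_of_allRange c_act45_189) (range_glue (range_of_allRange c_act45_190) (range_glue (range_of_allRange c_act45_191) (range_glue (range_of_allRange c_act45_192) (range_glue (range_of_allRange c_act45_193) (range_glue (range_of_allRange c_act45_194) (range_glue (range_of_allRange c_act45_195) (range_glue (range_of_allRange c_act45_196) (range_glue (range_of_allRange c_act45_197) (range_glue (range_of_allRange c_act45_198) (range_of_allRange c_act45_199))))))))))))))))))))))))))))))))))))))))
theorem h_act45_p5 : ∀ i, 131800 ≤ i → i < 158160 → Nat.beq (actR45 i) i = true :=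
  (range_glue (range_of_allRange c_act45_200) (range_glue (range_of_allRange c_act45_201) (range_glue (range_of_allRange c_act45_202) (range_glue (range_of_allRange c_act45_203) (range_glue (range_of_allRange c_act45_204) (range_glue (range_of_allRange c_act45_205) (range_glue (range_of_allRange c_act45_206) (range_glue (range_of_allRange c_act45_207) (range_glue (range_of_allRange c_act45_208) (range_glue (range_of_allRange c_act45_209) (range_glue (range_of_allRange c_act45_210) (range_glue (range_of_allRange c_act45_211) (range_glue (range_of_allRange c_act45_212) (range_glue (range_of_allRange c_act45_213) (range_glue (range_of_allRange c_act45_214) (range_glue (range_of_allRange c_act45_215) (range_glue (range_of_allRange c_act45_216) (range_glue (range_of_allRange c_act45_217) (range_glue (range_of_allRange c_act45_218) (range_glue (range_of_allRange c_act45_219) (range_glue (range_of_allRange c_act45_220) (range_glue (range_of_allRange c_act45_221) (range_glue (range_of_allRange c_act45_222) (range_glue (range_of_allRange c_act45_223) (range_glue (range_of_allRange c_act45_224) (range_glue (range_of_allRange c_act45_225) (range_glue (range_of_allRange c_act45_226) (range_glue (range_of_allRange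 c_act45_227) (range_glue (range_of_allRange c_act45_228) (range_glue (range_of_allRange c_act45_229) (range_glue (range_of_allRange c_act45_230) (range_glue (range_of_allRange c_act45_231) (range_glue (range_of_allRange c_act45_232) (range_glue (range_of_allRange c_act45_233) (range_glue (range_of_allRange c_act45_234) (range_glue (range_of_allRange c_act45_235) (range_glue (range_of_allRange c_act45_236) (range_glue (range_of_allRange c_act45_237) (range_glue (range_of_allRange c_act45_238) (range_of_allRange c_act45_239))))))))))))))))))))))))))))))))))))))))
theorem h_act45_p6 : ∀ i, 158160 ≤ i → i < 184520 → Nat.beq (actR45 i) i = true :=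
  (range_glue (range_of_allRange c_act45_240) (range_glue (range_of_allRange c_act45_241) (range_glue (range_of_allRange c_act45_242) (range_glue (range_of_allRange c_act45_243) (range_glue (range_of_allRange c_act45_244) (range_glue (range_of_allRange c_act45_245) (range_glue (range_of_allRange c_act45_246) (range_glue (range_of_allRange c_act45_247) (range_glue (range_of_allRange c_act45_248) (range_glue (range_of_allRange c_act45_249) (range_glue (range_of_allRange c_act45_250) (range_glue (range_of_allRange c_act45_251) (range_glue (range_of_allRange c_act45_252) (range_glue (range_of_allRange c_act45_253) (range_glue (range_of_allRange c_act45_254) (range_glue (range_of_allRange c_act45_255) (range_glue (range_of_allRange c_act45_256) (range_glue (range_of_allRange c_act45_257) (range_glue (range_of_allRange c_act45_258) (range_glue (range_of_allRange c_act45_259) (range_glue (range_of_allRange c_act45_260) (range_glue (range_of_allRange c_act45_261) (range_glue (range_of_allRange c_act45_262) (range_glue (range_of_allRange c_act45_263) (range_glue (range_of_allRange c_act45_264) (range_glue (range_of_allRange c_act45_265) (range_glue (range_of_allRange c_act45_266) (range_glue (range_of_allRange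 c_act45_267) (range_glue (range_of_allRange c_act45_268) (range_glue (range_of_allRange c_act45_269) (range_glue (range_of_allRange c_act45_270) (range_glue (range_of_allRange c_act45_271) (range_glue (range_of_allRange c_act45_272) (range_glue (range_of_allRange c_act45_273) (range_glue (range_of_allRange c_act45_274) (range_glue (range_of_allRange c_act45_275) (range_glue (range_of_allRange c_act45_276) (range_glue (range_of_allRange c_act45_277) (range_glue (range_of_allRange c_act45_278) (range_of_allRange c_act45_279))))))))))))))))))))))))))))))))))))))))
theorem h_act45_p7 : ∀ i, 184520 ≤ i → i < 185328 → Nat.beq (actR45 i) i = true :=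
  (range_glue (range_of_allRange c_act45_280) (range_of_allRange c_act45_281))
theorem h_act45 : ∀ i, 0 ≤ i → i < 185328 → Nat.beq (actR45 i) i = true :=
  (range_glue h_act45_p0 (range_glue h_act45_p1 (range_glue h_act45_p2 (range_glue h_act45_p3 (range_glue h_act45_p4 (range_glue h_act45_p5 (range_glue h_act45_p6 h_act45_p7)))))))
theorem h_act46_p0 : ∀ i, 0 ≤ i → i < 38080 → Nat.beq (actR46 i) i = true :=
  (range_glue (range_of_allRange c_act46_0) (range_glue (range_of_allRange c_act46_1) (range_glue (range_of_allRange c_act46_2) (range_glue (range_of_allRange c_act46_3) (range_glue (range_of_allRange c_act46_4) (range_glue (range_of_allRange c_act46_5) (range_glue (range_of_allRange c_act46_6) (range_glue (range_of_allRange c_act46_7) (range_glue (range_of_allRange c_act46_8) (range_glue (range_of_allRange c_act46_9) (range_glue (range_of_allRange c_act46_10) (range_glue (range_of_allRange c_act46_11) (range_glue (range_of_allRange c_act46_12) (range_glue (range_of_allRange c_act46_13) (range_glue (range_of_allRange c_act46_14) (range_glue (range_of_allRange c_act46_15) (range_glue (range_of_allRange c_act46_16) (range_glue (range_of_allRange c_act46_17) (range_glue (range_of_allRange c_act46_18)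 (range_glue (range_of_allRange c_act46_19) (range_glue (range_of_allRange c_act46_20) (range_glue (range_of_allRange c_act46_21) (range_glue (range_of_allRange c_act46_22) (range_glue (range_of_allRange c_act46_23) (range_glue (range_of_allRange c_act46_24) (range_glue (range_of_allRange c_act46_25) (range_glue (range_of_allRange c_act46_26) (range_glue (range_of_allRange c_act46_27) (range_glue (range_of_allRange c_act46_28) (range_glue (range_of_allRange c_act46_29) (range_glue (range_of_allRange c_act46_30) (range_glue (range_of_allRange c_act46_31) (range_glue (range_of_allRange c_act46_32) (range_glue (range_of_allRange c_act46_33) (range_glue (range_of_allRange c_act46_34) (range_glue (range_of_allRange c_act46_35) (range_glue (range_of_allRange c_act46_36) (range_glue (range_of_allRange c_act46_37) (range_glue (range_of_allRange c_act46_38) (range_of_allRange c_act46_39))))))))))))))))))))))))))))))))))))))))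
theorem h_act46_p1 : ∀ i, 38080 ≤ i → i < 76160 → Nat.beq (actR46 i) i = true :=
  (range_glue (range_of_allRange c_act46_40) (range_glue (range_of_allRange c_act46_41) (range_glue (range_of_allRange c_act46_42) (range_glue (range_of_allRange c_act46_43) (range_glue (range_of_allRange c_act46_44) (range_glue (range_of_allRange c_act46_45) (range_glue (range_of_allRange c_act46_46) (range_glue (range_of_allRange c_act46_47) (range_glue (range_of_allRange c_act46_48) (range_glue (range_of_allRange c_act46_49) (range_glue (range_of_allRange c_act46_50) (range_glue (range_of_allRange c_act46_51) (range_glue (range_of_allRange c_act46_52) (range_glue (range_of_allRange c_act46_53) (range_glue (range_of_allRange c_act46_54) (range_glue (range_of_allRange c_act46_55) (range_glue (range_of_allRange c_act46_56) (range_glue (range_of_allRange c_act46_57) (range_glue (range_of_allRange c_act46_58) (range_glue (range_of_allRange c_act46_59) (range_glue (range_of_allRange c_act46_60) (range_glue (range_of_allRange c_act46_61) (range_glue (range_of_allRange c_act46_62) (range_glue (range_of_allRange c_act46_63) (range_glue (range_of_allRange c_act46_64) (range_glue (range_of_allRange c_act46_65) (range_glue (range_of_allRange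 c_act46_66) (range_glue (range_of_allRange c_act46_67) (range_glue (range_of_allRange c_act46_68) (range_glue (range_of_allRange c_act46_69) (range_glue (range_of_allRange c_act46_70) (range_glue (range_of_allRange c_act46_71) (range_glue (range_of_allRange c_act46_72) (range_glue (range_of_allRange c_act46_73) (range_glue (range_of_allRange c_act46_74) (range_glue (range_of_allRange c_act46_75) (range_glue (range_of_allRange c_act46_76) (range_glue (range_of_allRange c_act46_77) (range_glue (range_of_allRange c_act46_78) (range_of_allRange c_act46_79))))))))))))))))))))))))))))))))))))))))
theorem h_act46_p2 : ∀ i, 76160 ≤ i → i < 114240 → Nat.beq (actR46 i) i = true :=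
  (range_glue (range_of_allRange c_act46_80) (range_glue (range_of_allRange c_act46_81) (range_glue (range_of_allRange c_act46_82) (range_glue (range_of_allRange c_act46_83) (range_glue (range_of_allRange c_act46_84) (range_glue (range_of_allRange c_act46_85) (range_glue (range_of_allRange c_act46_86) (range_glue (range_of_allRange c_act46_87) (range_glue (range_of_allRange c_act46_88) (range_glue (range_of_allRange c_act46_89) (range_glue (range_of_allRange c_act46_90) (range_glue (range_of_allRange c_act46_91) (range_glue (range_of_allRange c_act46_92) (range_glue (range_of_allRange c_act46_93) (range_glue (range_of_allRange c_act46_94) (range_glue (range_of_allRange c_act46_95) (range_glue (range_of_allRange c_act46_96) (range_glue (range_of_allRange c_act46_97) (range_glue (range_of_allRange c_act46_98) (range_glue (range_of_allRange c_act46_99) (range_glue (range_of_allRange c_act46_100) (range_glue (range_of_allRange c_act46_101) (range_glue (range_of_allRange c_act46_102) (range_glue (range_of_allRange c_act46_103) (range_glue (range_of_allRange c_act46_104) (range_glue (range_of_allRange c_act46_105) (range_glue (range_of_allRange c_act46_106) (range_glue (range_of_allRange c_act46_107) (range_glue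 (range_of_allRange c_act46_108) (range_glue (range_of_allRange c_act46_109) (range_glue (range_of_allRange c_act46_110) (range_glue (range_of_allRange c_act46_111) (range_glue (range_of_allRange c_act46_112) (range_glue (range_of_allRange c_act46_113) (range_glue (range_of_allRange c_act46_114) (range_glue (range_of_allRange c_act46_115) (range_glue (range_of_allRange c_act46_116) (range_glue (range_of_allRange c_act46_117) (range_glue (range_of_allRange c_act46_118) (range_of_allRange c_act46_119))))))))))))))))))))))))))))))))))))))))
theorem h_act46_p3 : ∀ i, 114240 ≤ i → i < 152320 → Nat.beq (actR46 i) i = true :=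
  (range_glue (range_of_allRange c_act46_120) (range_glue (range_of_allRange c_act46_121) (range_glue (range_of_allRange c_act46_122) (range_glue (range_of_allRange c_act46_123) (range_glue (range_of_allRange c_act46_124) (range_glue (range_of_allRange c_act46_125) (range_glue (range_of_allRange c_act46_126) (range_glue (range_of_allRange c_act46_127) (range_glue (range_of_allRange c_act46_128) (range_glue (range_of_allRange c_act46_129) (range_glue (range_of_allRange c_act46_130) (range_glue (range_of_allRange c_act46_131) (range_glue (range_of_allRange c_act46_132) (range_glue (range_of_allRange c_act46_133) (range_glue (range_of_allRange c_act46_134) (range_glue (range_of_allRange c_act46_135) (range_glue (range_of_allRange c_act46_136) (range_glue (range_of_allRange c_act46_137) (range_glue (range_of_allRange c_act46_138) (range_glue (range_of_allRange c_act46_139) (range_glue (range_of_allRange c_act46_140) (range_glue (range_of_allRange c_act46_141) (range_glue (range_of_allRange c_act46_142) (range_glue (range_of_allRange c_act46_143) (range_glue (range_of_allRange c_act46_144) (range_glue (range_of_allRange c_act46_145) (range_glue (range_of_allRange c_act46_146) (range_glue (range_of_allRange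 c_act46_147) (range_glue (range_of_allRange c_act46_148) (range_glue (range_of_allRange c_act46_149) (range_glue (range_of_allRange c_act46_150) (range_glue (range_of_allRange c_act46_151) (range_glue (range_of_allRange c_act46_152) (range_glue (range_of_allRange c_act46_153) (range_glue (range_of_allRange c_act46_154) (range_glue (range_of_allRange c_act46_155) (range_glue (range_of_allRange c_act46_156) (range_glue (range_of_allRange c_act46_157) (range_glue (range_of_allRange c_act46_158) (range_of_allRange c_act46_159))))))))))))))))))))))))))))))))))))))))
theorem h_act46_p4 : ∀ i, 152320 ≤ i → i < 185328 → Nat.beq (actR46 i) i = true :=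
  (range_glue (range_of_allRange c_act46_160) (range_glue (range_of_allRange c_act46_161) (range_glue (range_of_allRange c_act46_162) (range_glue (range_of_allRange c_act46_163) (range_glue (range_of_allRange c_act46_164) (range_glue (range_of_allRange c_act46_165) (range_glue (range_of_allRange c_act46_166) (range_glue (range_of_allRange c_act46_167) (range_glue (range_of_allRange c_act46_168) (range_glue (range_of_allRange c_act46_169) (range_glue (range_of_allRange c_act46_170) (range_glue (range_of_allRange c_act46_171) (range_glue (range_of_allRange c_act46_172) (range_glue (range_of_allRange c_act46_173) (range_glue (range_of_allRange c_act46_174) (range_glue (range_of_allRange c_act46_175) (range_glue (range_of_allRange c_act46_176) (range_glue (range_of_allRange c_act46_177) (range_glue (range_of_allRange c_act46_178) (range_glue (range_of_allRange c_act46_179) (range_glue (range_of_allRange c_act46_180) (range_glue (range_of_allRange c_act46_181) (range_glue (range_of_allRange c_act46_182) (range_glue (range_of_allRange c_act46_183) (range_glue (range_of_allRange c_act46_184) (range_glue (range_of_allRange c_act46_185) (range_glue (range_of_allRange c_act46_186) (range_glue (range_of_allRange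 c_act46_187) (range_glue (range_of_allRange c_act46_188) (range_glue (range_of_allRange c_act46_189) (range_glue (range_of_allRange c_act46_190) (range_glue (range_of_allRange c_act46_191) (range_glue (range_of_allRange c_act46_192) (range_glue (range_of_allRange c_act46_193) (range_of_allRange c_act46_194)))))))))))))))))))))))))))))))))))
theorem h_act46 : ∀ i, 0 ≤ i → i < 185328 → Nat.beq (actR46 i) i = true :=
  (range_glue h_act46_p0 (range_glue h_act46_p1 (range_glue h_act46_p2 (range_glue h_act46_p3 h_act46_p4))))
theorem h_act47_p0 : ∀ i, 0 ≤ i → i < 38080 → Nat.beq (actR47 i) i = true :=
  (range_glue (range_of_allRange c_act47_0) (range_glue (range_of_allRange c_act47_1) (range_glue (range_of_allRange c_act47_2) (range_glue (range_of_allRange c_act47_3) (range_glue (range_of_allRange c_act47_4) (range_glue (range_of_allRange c_act47_5) (range_glue (range_of_allRange c_act47_6) (range_glue (range_of_allRange c_act47_7) (range_glue (range_of_allRange c_act47_8) (range_glue (range_of_allRange c_act47_9) (range_glue (range_of_allRange c_act47_10) (range_glue (range_of_allRange c_act47_11) (range_glue (range_of_allRange c_act47_12) (range_glue (range_of_allRange c_act47_13) (range_glue (range_of_allRange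 c_act47_14) (range_glue (range_of_allRange c_act47_15) (range_glue (range_of_allRange c_act47_16) (range_glue (range_of_allRange c_act47_17) (range_glue (range_of_allRange c_act47_18) (range_glue (range_of_allRange c_act47_19) (range_glue (range_of_allRange c_act47_20) (range_glue (range_of_allRange c_act47_21) (range_glue (range_of_allRange c_act47_22) (range_glue (range_of_allRange c_act47_23) (range_glue (range_of_allRange c_act47_24) (range_glue (range_of_allRange c_act47_25) (range_glue (range_of_allRange c_act47_26) (range_glue (range_of_allRange c_act47_27) (range_glue (range_of_allRange c_act47_28) (range_glue (range_of_allRange c_act47_29) (range_glue (range_of_allRange c_act47_30) (range_glue (range_of_allRange c_act47_31) (range_glue (range_of_allRange c_act47_32) (range_glue (range_of_allRange c_act47_33) (range_glue (range_of_allRange c_act47_34) (range_glue (range_of_allRange c_act47_35) (range_glue (range_of_allRange c_act47_36) (range_glue (range_of_allRange c_act47_37) (range_glue (range_of_allRange c_act47_38) (range_of_allRange c_act47_39))))))))))))))))))))))))))))))))))))))))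
theorem h_act47_p1 : ∀ i, 38080 ≤ i → i < 76160 → Nat.beq (actR47 i) i = true :=
  (range_glue (range_of_allRange c_act47_40) (range_glue (range_of_allRange c_act47_41) (range_glue (range_of_allRange c_act47_42) (range_glue (range_of_allRange c_act47_43) (range_glue (range_of_allRange c_act47_44) (range_glue (range_of_allRange c_act47_45) (range_glue (range_of_allRange c_act47_46) (range_glue (range_of_allRange c_act47_47) (range_glue (range_of_allRange c_act47_48) (range_glue (range_of_allRange c_act47_49) (range_glue (range_of_allRange c_act47_50) (range_glue (range_of_allRange c_act47_51) (range_glue (range_of_allRange c_act47_52) (range_glue (range_of_allRange c_act47_53) (range_glue (range_of_allRange c_act47_54) (range_glue (range_of_allRange c_act47_55) (range_glue (range_of_allRange c_act47_56) (range_glue (range_of_allRange c_act47_57) (range_glue (range_of_allRange c_act47_58) (range_glue (range_of_allRange c_act47_59) (range_glue (range_of_allRange c_act47_60) (range_glue (range_of_allRange c_act47_61) (range_glue (range_of_allRange c_act47_62) (range_glue (range_of_allRange c_act47_63) (range_glue (range_of_allRange c_act47_64) (range_glue (range_of_allRange c_act47_65) (range_glue (range_of_allRange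 c_act47_66) (range_glue (range_of_allRange c_act47_67) (range_glue (range_of_allRange c_act47_68) (range_glue (range_of_allRange c_act47_69) (range_glue (range_of_allRange c_act47_70) (range_glue (range_of_allRange c_act47_71) (range_glue (range_of_allRange c_act47_72) (range_glue (range_of_allRange c_act47_73) (range_glue (range_of_allRange c_act47_74) (range_glue (range_of_allRange c_act47_75) (range_glue (range_of_allRange c_act47_76) (range_glue (range_of_allRange c_act47_77) (range_glue (range_of_allRange c_act47_78) (range_of_allRange c_act47_79))))))))))))))))))))))))))))))))))))))))
theorem h_act47_p2 : ∀ i, 76160 ≤ i → i < 114240 → Nat.beq (actR47 i) i = true :=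
  (range_glue (range_of_allRange c_act47_80) (range_glue (range_of_allRange c_act47_81) (range_glue (range_of_allRange c_act47_82) (range_glue (range_of_allRange c_act47_83) (range_glue (range_of_allRange c_act47_84) (range_glue (range_of_allRange c_act47_85) (range_glue (range_of_allRange c_act47_86) (range_glue (range_of_allRange c_act47_87) (range_glue (range_of_allRange c_act47_88) (range_glue (range_of_allRange c_act47_89) (range_glue (range_of_allRange c_act47_90) (range_glue (range_of_allRange c_act47_91) (range_glue (range_of_allRange c_act47_92) (range_glue (range_of_allRange c_act47_93) (range_glue (range_of_allRange c_act47_94) (range_glue (range_of_allRange c_act47_95) (range_glue (range_of_allRange c_act47_96) (range_glue (range_of_allRange c_act47_97) (range_glue (range_of_allRange c_act47_98) (range_glue (range_of_allRange c_act47_99) (range_glue (range_of_allRange c_act47_100) (range_glue (range_of_allRange c_act47_101) (range_glue (range_of_allRange c_act47_102) (range_glue (range_of_allRange c_act47_103) (range_glue (range_of_allRange c_act47_104) (range_glue (range_of_allRange c_act47_105) (range_glue (range_of_allRange c_act47_106) (range_glue (range_of_allRange c_act47_107) (range_glue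 (range_of_allRange c_act47_108) (range_glue (range_of_allRange c_act47_109) (range_glue (range_of_allRange c_act47_110) (range_glue (range_of_allRange c_act47_111) (range_glue (range_of_allRange c_act47_112) (range_glue (range_of_allRange c_act47_113) (range_glue (range_of_allRange c_act47_114) (range_glue (range_of_allRange c_act47_115) (range_glue (range_of_allRange c_act47_116) (range_glue (range_of_allRange c_act47_117) (range_glue (range_of_allRange c_act47_118) (range_of_allRange c_act47_119))))))))))))))))))))))))))))))))))))))))
theorem h_act47_p3 : ∀ i, 114240 ≤ i → i < 152320 → Nat.beq (actR47 i) i = true :=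
  (range_glue (range_of_allRange c_act47_120) (range_glue (range_of_allRange c_act47_121) (range_glue (range_of_allRange c_act47_122) (range_glue (range_of_allRange c_act47_123) (range_glue (range_of_allRange c_act47_124) (range_glue (range_of_allRange c_act47_125) (range_glue (range_of_allRange c_act47_126) (range_glue (range_of_allRange c_act47_127) (range_glue (range_of_allRange c_act47_128) (range_glue (range_of_allRange c_act47_129) (range_glue (range_of_allRange c_act47_130) (range_glue (range_of_allRange c_act47_131) (range_glue (range_of_allRange c_act47_132) (range_glue (range_of_allRange c_act47_133) (range_glue (range_of_allRange c_act47_134) (range_glue (range_of_allRange c_act47_135) (range_glue (range_of_allRange c_act47_136) (range_glue (range_of_allRange c_act47_137) (range_glue (range_of_allRange c_act47_138) (range_glue (range_of_allRange c_act47_139) (range_glue (range_of_allRange c_act47_140) (range_glue (range_of_allRange c_act47_141) (range_glue (range_of_allRange c_act47_142) (range_glue (range_of_allRange c_act47_143) (range_glue (range_of_allRange c_act47_144) (range_glue (range_of_allRange c_act47_145) (range_glue (range_of_allRange c_act47_146) (range_glue (range_of_allRange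 c_act47_147) (range_glue (range_of_allRange c_act47_148) (range_glue (range_of_allRange c_act47_149) (range_glue (range_of_allRange c_act47_150) (range_glue (range_of_allRange c_act47_151) (range_glue (range_of_allRange c_act47_152) (range_glue (range_of_allRange c_act47_153) (range_glue (range_of_allRange c_act47_154) (range_glue (range_of_allRange c_act47_155) (range_glue (range_of_allRange c_act47_156) (range_glue (range_of_allRange c_act47_157) (range_glue (range_of_allRange c_act47_158) (range_of_allRange c_act47_159))))))))))))))))))))))))))))))))))))))))
theorem h_act47_p4 : ∀ i, 152320 ≤ i → i < 185328 → Nat.beq (actR47 i) i = true :=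
  (range_glue (range_of_allRange c_act47_160) (range_glue (range_of_allRange c_act47_161) (range_glue (range_of_allRange c_act47_162) (range_glue (range_of_allRange c_act47_163) (range_glue (range_of_allRange c_act47_164) (range_glue (range_of_allRange c_act47_165) (range_glue (range_of_allRange c_act47_166) (range_glue (range_of_allRange c_act47_167) (range_glue (range_of_allRange c_act47_168) (range_glue (range_of_allRange c_act47_169) (range_glue (range_of_allRange c_act47_170) (range_glue (range_of_allRange c_act47_171) (range_glue (range_of_allRange c_act47_172) (range_glue (range_of_allRange c_act47_173) (range_glue (range_of_allRange c_act47_174) (range_glue (range_of_allRange c_act47_175) (range_glue (range_of_allRange c_act47_176) (range_glue (range_of_allRange c_act47_177) (range_glue (range_of_allRange c_act47_178) (range_glue (range_of_allRange c_act47_179) (range_glue (range_of_allRange c_act47_180) (range_glue (range_of_allRange c_act47_181) (range_glue (range_of_allRange c_act47_182) (range_glue (range_of_allRange c_act47_183) (range_glue (range_of_allRange c_act47_184) (range_glue (range_of_allRange c_act47_185) (range_glue (range_of_allRange c_act47_186) (range_glue (range_of_allRange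 c_act47_187) (range_glue (range_of_allRange c_act47_188) (range_glue (range_of_allRange c_act47_189) (range_glue (range_of_allRange c_act47_190) (range_glue (range_of_allRange c_act47_191) (range_glue (range_of_allRange c_act47_192) (range_glue (range_of_allRange c_act47_193) (range_of_allRange c_act47_194)))))))))))))))))))))))))))))))))))
theorem h_act47 : ∀ i, 0 ≤ i → i < 185328 → Nat.beq (actR47 i) i = true :=
  (range_glue h_act47_p0 (range_glue h_act47_p1 (range_glue h_act47_p2 (range_glue h_act47_p3 h_act47_p4))))
theorem h_act48_p0 : ∀ i, 0 ≤ i → i < 15480 → Nat.beq (actR48 i) i = true :=
  (range_glue (range_of_allRange c_act48_0) (range_glue (range_of_allRange c_act48_1) (range_glue (range_of_allRange c_act48_2) (range_glue (range_of_allRange c_act48_3) (range_glue (range_of_allRange c_act48_4) (range_glue (range_of_allRange c_act48_5) (range_glue (range_of_allRange c_act48_6) (range_glue (range_of_allRange c_act48_7) (range_glue (range_of_allRange c_act48_8) (range_glue (range_of_allRange c_act48_9) (range_glue (range_of_allRange c_act48_10) (range_glue (range_of_allRange c_act48_11) (range_glue (range_of_allRange c_act48_12) (range_glue (range_of_allRange c_act48_13) (range_glue (range_of_allRange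 c_act48_14) (range_glue (range_of_allRange c_act48_15) (range_glue (range_of_allRange c_act48_16) (range_glue (range_of_allRange c_act48_17) (range_glue (range_of_allRange c_act48_18) (range_glue (range_of_allRange c_act48_19) (range_glue (range_of_allRange c_act48_20) (range_glue (range_of_allRange c_act48_21) (range_glue (range_of_allRange c_act48_22) (range_glue (range_of_allRange c_act48_23) (range_glue (range_of_allRange c_act48_24) (range_glue (range_of_allRange c_act48_25) (range_glue (range_of_allRange c_act48_26) (range_glue (range_of_allRange c_act48_27) (range_glue (range_of_allRange c_act48_28) (range_glue (range_of_allRange c_act48_29) (range_glue (range_of_allRange c_act48_30) (range_glue (range_of_allRange c_act48_31) (range_glue (range_of_allRange c_act48_32) (range_glue (range_of_allRange c_act48_33) (range_glue (range_of_allRange c_act48_34) (range_glue (range_of_allRange c_act48_35) (range_glue (range_of_allRange c_act48_36) (range_glue (range_of_allRange c_act48_37) (range_glue (range_of_allRange c_act48_38) (range_of_allRange c_act48_39))))))))))))))))))))))))))))))))))))))))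
theorem h_act48_p1 : ∀ i, 15480 ≤ i → i < 30960 → Nat.beq (actR48 i) i = true :=
  (range_glue (range_of_allRange c_act48_40) (range_glue (range_of_allRange c_act48_41) (range_glue (range_of_allRange c_act48_42) (range_glue (range_of_allRange c_act48_43) (range_glue (range_of_allRange c_act48_44) (range_glue (range_of_allRange c_act48_45) (range_glue (range_of_allRange c_act48_46) (range_glue (range_of_allRange c_act48_47) (range_glue (range_of_allRange c_act48_48) (range_glue (range_of_allRange c_act48_49) (range_glue (range_of_allRange c_act48_50) (range_glue (range_of_allRange c_act48_51) (range_glue (range_of_allRange c_act48_52) (range_glue (range_of_allRange c_act48_53) (range_glue (range_of_allRange c_act48_54) (range_glue (range_of_allRange c_act48_55) (range_glue (range_of_allRange c_act48_56) (range_glue (range_of_allRange c_act48_57) (range_glue (range_of_allRange c_act48_58) (range_glue (range_of_allRange c_act48_59) (range_glue (range_of_allRange c_act48_60) (range_glue (range_of_allRange c_act48_61) (range_glue (range_of_allRange c_act48_62) (range_glue (range_of_allRange c_act48_63) (range_glue (range_of_allRange c_act48_64) (range_glue (range_of_allRange c_act48_65) (range_glue (range_of_allRange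 c_act48_66) (range_glue (range_of_allRange c_act48_67) (range_glue (range_of_allRange c_act48_68) (range_glue (range_of_allRange c_act48_69) (range_glue (range_of_allRange c_act48_70) (range_glue (range_of_allRange c_act48_71) (range_glue (range_of_allRange c_act48_72) (range_glue (range_of_allRange c_act48_73) (range_glue (range_of_allRange c_act48_74) (range_glue (range_of_allRange c_act48_75) (range_glue (range_of_allRange c_act48_76) (range_glue (range_of_allRange c_act48_77) (range_glue (range_of_allRange c_act48_78) (range_of_allRange c_act48_79))))))))))))))))))))))))))))))))))))))))
theorem h_act48_p2 : ∀ i, 30960 ≤ i → i < 46440 → Nat.beq (actR48 i) i = true :=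
  (range_glue (range_of_allRange c_act48_80) (range_glue (range_of_allRange c_act48_81) (range_glue (range_of_allRange c_act48_82) (range_glue (range_of_allRange c_act48_83) (range_glue (range_of_allRange c_act48_84) (range_glue (range_of_allRange c_act48_85) (range_glue (range_of_allRange c_act48_86) (range_glue (range_of_allRange c_act48_87) (range_glue (range_of_allRange c_act48_88) (range_glue (range_of_allRange c_act48_89) (range_glue (range_of_allRange c_act48_90) (range_glue (range_of_allRange c_act48_91) (range_glue (range_of_allRange c_act48_92) (range_glue (range_of_allRange c_act48_93) (range_glue (range_of_allRange c_act48_94) (range_glue (range_of_allRange c_act48_95) (range_glue (range_of_allRange c_act48_96) (range_glue (range_of_allRange c_act48_97) (range_glue (range_of_allRange c_act48_98) (range_glue (range_of_allRange c_act48_99) (range_glue (range_of_allRange c_act48_100) (range_glue (range_of_allRange c_act48_101) (range_glue (range_of_allRange c_act48_102) (range_glue (range_of_allRange c_act48_103) (range_glue (range_of_allRange c_act48_104) (range_glue (range_of_allRange c_act48_105) (range_glue (range_of_allRange c_act48_106) (range_glue (range_of_allRange c_act48_107) (range_glue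 (range_of_allRange c_act48_108) (range_glue (range_of_allRange c_act48_109) (range_glue (range_of_allRange c_act48_110) (range_glue (range_of_allRange c_act48_111) (range_glue (range_of_allRange c_act48_112) (range_glue (range_of_allRange c_act48_113) (range_glue (range_of_allRange c_act48_114) (range_glue (range_of_allRange c_act48_115) (range_glue (range_of_allRange c_act48_116) (range_glue (range_of_allRange c_act48_117) (range_glue (range_of_allRange c_act48_118) (range_of_allRange c_act48_119))))))))))))))))))))))))))))))))))))))))
theorem h_act48_p3 : ∀ i, 46440 ≤ i → i < 61920 → Nat.beq (actR48 i) i = true :=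
  (range_glue (range_of_allRange c_act48_120) (range_glue (range_of_allRange c_act48_121) (range_glue (range_of_allRange c_act48_122) (range_glue (range_of_allRange c_act48_123) (range_glue (range_of_allRange c_act48_124) (range_glue (range_of_allRange c_act48_125) (range_glue (range_of_allRange c_act48_126) (range_glue (range_of_allRange c_act48_127) (range_glue (range_of_allRange c_act48_128) (range_glue (range_of_allRange c_act48_129) (range_glue (range_of_allRange c_act48_130) (range_glue (range_of_allRange c_act48_131) (range_glue (range_of_allRange c_act48_132) (range_glue (range_of_allRange c_act48_133) (range_glue (range_of_allRange c_act48_134) (range_glue (range_of_allRange c_act48_135) (range_glue (range_of_allRange c_act48_136) (range_glue (range_of_allRange c_act48_137) (range_glue (range_of_allRange c_act48_138) (range_glue (range_of_allRange c_act48_139) (range_glue (range_of_allRange c_act48_140) (range_glue (range_of_allRange c_act48_141) (range_glue (range_of_allRange c_act48_142) (range_glue (range_of_allRange c_act48_143) (range_glue (range_of_allRange c_act48_144) (range_glue (range_of_allRange c_act48_145) (range_glue (range_of_allRange c_act48_146) (range_glue (range_of_allRange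 c_act48_147) (range_glue (range_of_allRange c_act48_148) (range_glue (range_of_allRange c_act48_149) (range_glue (range_of_allRange c_act48_150) (range_glue (range_of_allRange c_act48_151) (range_glue (range_of_allRange c_act48_152) (range_glue (range_of_allRange c_act48_153) (range_glue (range_of_allRange c_act48_154) (range_glue (range_of_allRange c_act48_155) (range_glue (range_of_allRange c_act48_156) (range_glue (range_of_allRange c_act48_157) (range_glue (range_of_allRange c_act48_158) (range_of_allRange c_act48_159))))))))))))))))))))))))))))))))))))))))
theorem h_act48_p4 : ∀ i, 61920 ≤ i → i < 77400 → Nat.beq (actR48 i) i = true :=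
  (range_glue (range_of_allRange c_act48_160) (range_glue (range_of_allRange c_act48_161) (range_glue (range_of_allRange c_act48_162) (range_glue (range_of_allRange c_act48_163) (range_glue (range_of_allRange c_act48_164) (range_glue (range_of_allRange c_act48_165) (range_glue (range_of_allRange c_act48_166) (range_glue (range_of_allRange c_act48_167) (range_glue (range_of_allRange c_act48_168) (range_glue (range_of_allRange c_act48_169) (range_glue (range_of_allRange c_act48_170) (range_glue (range_of_allRange c_act48_171) (range_glue (range_of_allRange c_act48_172) (range_glue (range_of_allRange c_act48_173) (range_glue (range_of_allRange c_act48_174) (range_glue (range_of_allRange c_act48_175) (range_glue (range_of_allRange c_act48_176) (range_glue (range_of_allRange c_act48_177) (range_glue (range_of_allRange c_act48_178) (range_glue (range_of_allRange c_act48_179) (range_glue (range_of_allRange c_act48_180) (range_glue (range_of_allRange c_act48_181) (range_glue (range_of_allRange c_act48_182) (range_glue (range_of_allRange c_act48_183) (range_glue (range_of_allRange c_act48_184) (range_glue (range_of_allRange c_act48_185) (range_glue (range_of_allRange c_act48_186) (range_glue (range_of_allRange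 c_act48_187) (range_glue (range_of_allRange c_act48_188) (range_glue (range_of_allRange c_act48_189) (range_glue (range_of_allRange c_act48_190) (range_glue (range_of_allRange c_act48_191) (range_glue (range_of_allRange c_act48_192) (range_glue (range_of_allRange c_act48_193) (range_glue (range_of_allRange c_act48_194) (range_glue (range_of_allRange c_act48_195) (range_glue (range_of_allRange c_act48_196) (range_glue (range_of_allRange c_act48_197) (range_glue (range_of_allRange c_act48_198) (range_of_allRange c_act48_199))))))))))))))))))))))))))))))))))))))))
theorem h_act48_p5 : ∀ i, 77400 ≤ i → i < 92880 → Nat.beq (actR48 i) i = true :=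
  (range_glue (range_of_allRange c_act48_200) (range_glue (range_of_allRange c_act48_201) (range_glue (range_of_allRange c_act48_202) (range_glue (range_of_allRange c_act48_203) (range_glue (range_of_allRange c_act48_204) (range_glue (range_of_allRange c_act48_205) (range_glue (range_of_allRange c_act48_206) (range_glue (range_of_allRange c_act48_207) (range_glue (range_of_allRange c_act48_208) (range_glue (range_of_allRange c_act48_209) (range_glue (range_of_allRange c_act48_210) (range_glue (range_of_allRange c_act48_211) (range_glue (range_of_allRange c_act48_212) (range_glue (range_of_allRange c_act48_213) (range_glue (range_of_allRange c_act48_214) (range_glue (range_of_allRange c_act48_215) (range_glue (range_of_allRange c_act48_216) (range_glue (range_of_allRange c_act48_217) (range_glue (range_of_allRange c_act48_218) (range_glue (range_of_allRange c_act48_219) (range_glue (range_of_allRange c_act48_220) (range_glue (range_of_allRange c_act48_221) (range_glue (range_of_allRange c_act48_222) (range_glue (range_of_allRange c_act48_223) (range_glue (range_of_allRange c_act48_224) (range_glue (range_of_allRange c_act48_225) (range_glue (range_of_allRange c_act48_226) (range_glue (range_of_allRange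 c_act48_227) (range_glue (range_of_allRange c_act48_228) (range_glue (range_of_allRange c_act48_229) (range_glue (range_of_allRange c_act48_230) (range_glue (range_of_allRange c_act48_231) (range_glue (range_of_allRange c_act48_232) (range_glue (range_of_allRange c_act48_233) (range_glue (range_of_allRange c_act48_234) (range_glue (range_of_allRange c_act48_235) (range_glue (range_of_allRange c_act48_236) (range_glue (range_of_allRange c_act48_237) (range_glue (range_of_allRange c_act48_238) (range_of_allRange c_act48_239))))))))))))))))))))))))))))))))))))))))
theorem h_act48_p6 : ∀ i, 92880 ≤ i → i < 108360 → Nat.beq (actR48 i) i = true :=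
  (range_glue (range_of_allRange c_act48_240) (range_glue (range_of_allRange c_act48_241) (range_glue (range_of_allRange c_act48_242) (range_glue (range_of_allRange c_act48_243) (range_glue (range_of_allRange c_act48_244) (range_glue (range_of_allRange c_act48_245) (range_glue (range_of_allRange c_act48_246) (range_glue (range_of_allRange c_act48_247) (range_glue (range_of_allRange c_act48_248) (range_glue (range_of_allRange c_act48_249) (range_glue (range_of_allRange c_act48_250) (range_glue (range_of_allRange c_act48_251) (range_glue (range_of_allRange c_act48_252) (range_glue (range_of_allRange c_act48_253) (range_glue (range_of_allRange c_act48_254) (range_glue (range_of_allRange c_act48_255) (range_glue (range_of_allRange c_act48_256) (range_glue (range_of_allRange c_act48_257) (range_glue (range_of_allRange c_act48_258) (range_glue (range_of_allRange c_act48_259) (range_glue (range_of_allRange c_act48_260) (range_glue (range_of_allRange c_act48_261) (range_glue (range_of_allRange c_act48_262) (range_glue (range_of_allRange c_act48_263) (range_glue (range_of_allRange c_act48_264) (range_glue (range_of_allRange c_act48_265) (range_glue (range_of_allRange c_act48_266) (range_glue (range_of_allRange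 c_act48_267) (range_glue (range_of_allRange c_act48_268) (range_glue (range_of_allRange c_act48_269) (range_glue (range_of_allRange c_act48_270) (range_glue (range_of_allRange c_act48_271) (range_glue (range_of_allRange c_act48_272) (range_glue (range_of_allRange c_act48_273) (range_glue (range_of_allRange c_act48_274) (range_glue (range_of_allRange c_act48_275) (range_glue (range_of_allRange c_act48_276) (range_glue (range_of_allRange c_act48_277) (range_glue (range_of_allRange c_act48_278) (range_of_allRange c_act48_279))))))))))))))))))))))))))))))))))))))))
theorem h_act48_p7 : ∀ i, 108360 ≤ i → i < 123840 → Nat.beq (actR48 i) i = true :=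
  (range_glue (range_of_allRange c_act48_280) (range_glue (range_of_allRange c_act48_281) (range_glue (range_of_allRange c_act48_282) (range_glue (range_of_allRange c_act48_283) (range_glue (range_of_allRange c_act48_284) (range_glue (range_of_allRange c_act48_285) (range_glue (range_of_allRange c_act48_286) (range_glue (range_of_allRange c_act48_287) (range_glue (range_of_allRange c_act48_288) (range_glue (range_of_allRange c_act48_289) (range_glue (range_of_allRange c_act48_290) (range_glue (range_of_allRange c_act48_291) (range_glue (range_of_allRange c_act48_292) (range_glue (range_of_allRange c_act48_293) (range_glue (range_of_allRange c_act48_294) (range_glue (range_of_allRange c_act48_295) (range_glue (range_of_allRange c_act48_296) (range_glue (range_of_allRange c_act48_297) (range_glue (range_of_allRange c_act48_298) (range_glue (range_of_allRange c_act48_299) (range_glue (range_of_allRange c_act48_300) (range_glue (range_of_allRange c_act48_301) (range_glue (range_of_allRange c_act48_302) (range_glue (range_of_allRange c_act48_303) (range_glue (range_of_allRange c_act48_304) (range_glue (range_of_allRange c_act48_305) (range_glue (range_of_allRange c_act48_306) (range_glue (range_of_allRange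 c_act48_307) (range_glue (range_of_allRange c_act48_308) (range_glue (range_of_allRange c_act48_309) (range_glue (range_of_allRange c_act48_310) (range_glue (range_of_allRange c_act48_311) (range_glue (range_of_allRange c_act48_312) (range_glue (range_of_allRange c_act48_313) (range_glue (range_of_allRange c_act48_314) (range_glue (range_of_allRange c_act48_315) (range_glue (range_of_allRange c_act48_316) (range_glue (range_of_allRange c_act48_317) (range_glue (range_of_allRange c_act48_318) (range_of_allRange c_act48_319))))))))))))))))))))))))))))))))))))))))
theorem h_act48_p8 : ∀ i, 123840 ≤ i → i < 139320 → Nat.beq (actR48 i) i = true :=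
  (range_glue (range_of_allRange c_act48_320) (range_glue (range_of_allRange c_act48_321) (range_glue (range_of_allRange c_act48_322) (range_glue (range_of_allRange c_act48_323) (range_glue (range_of_allRange c_act48_324) (range_glue (range_of_allRange c_act48_325) (range_glue (range_of_allRange c_act48_326) (range_glue (range_of_allRange c_act48_327) (range_glue (range_of_allRange c_act48_328) (range_glue (range_of_allRange c_act48_329) (range_glue (range_of_allRange c_act48_330) (range_glue (range_of_allRange c_act48_331) (range_glue (range_of_allRange c_act48_332) (range_glue (range_of_allRange c_act48_333) (range_glue (range_of_allRange c_act48_334) (range_glue (range_of_allRange c_act48_335) (range_glue (range_of_allRange c_act48_336) (range_glue (range_of_allRange c_act48_337) (range_glue (range_of_allRange c_act48_338) (range_glue (range_of_allRange c_act48_339) (range_glue (range_of_allRange c_act48_340) (range_glue (range_of_allRange c_act48_341) (range_glue (range_of_allRange c_act48_342) (range_glue (range_of_allRange c_act48_343) (range_glue (range_of_allRange c_act48_344) (range_glue (range_of_allRange c_act48_345) (range_glue (range_of_allRange c_act48_346) (range_glue (range_of_allRange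 c_act48_347) (range_glue (range_of_allRange c_act48_348) (range_glue (range_of_allRange c_act48_349) (range_glue (range_of_allRange c_act48_350) (range_glue (range_of_allRange c_act48_351) (range_glue (range_of_allRange c_act48_352) (range_glue (range_of_allRange c_act48_353) (range_glue (range_of_allRange c_act48_354) (range_glue (range_of_allRange c_act48_355) (range_glue (range_of_allRange c_act48_356) (range_glue (range_of_allRange c_act48_357) (range_glue (range_of_allRange c_act48_358) (range_of_allRange c_act48_359))))))))))))))))))))))))))))))))))))))))
theorem h_act48_p9 : ∀ i, 139320 ≤ i → i < 154800 → Nat.beq (actR48 i) i = true :=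
  (range_glue (range_of_allRange c_act48_360) (range_glue (range_of_allRange c_act48_361) (range_glue (range_of_allRange c_act48_362) (range_glue (range_of_allRange c_act48_363) (range_glue (range_of_allRange c_act48_364) (range_glue (range_of_allRange c_act48_365) (range_glue (range_of_allRange c_act48_366) (range_glue (range_of_allRange c_act48_367) (range_glue (range_of_allRange c_act48_368) (range_glue (range_of_allRange c_act48_369) (range_glue (range_of_allRange c_act48_370) (range_glue (range_of_allRange c_act48_371) (range_glue (range_of_allRange c_act48_372) (range_glue (range_of_allRange c_act48_373) (range_glue (range_of_allRange c_act48_374) (range_glue (range_of_allRange c_act48_375) (range_glue (range_of_allRange c_act48_376) (range_glue (range_of_allRange c_act48_377) (range_glue (range_of_allRange c_act48_378) (range_glue (range_of_allRange c_act48_379) (range_glue (range_of_allRange c_act48_380) (range_glue (range_of_allRange c_act48_381) (range_glue (range_of_allRange c_act48_382) (range_glue (range_of_allRange c_act48_383) (range_glue (range_of_allRange c_act48_384) (range_glue (range_of_allRange c_act48_385) (range_glue (range_of_allRange c_act48_386) (range_glue (range_of_allRange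 c_act48_387) (range_glue (range_of_allRange c_act48_388) (range_glue (range_of_allRange c_act48_389) (range_glue (range_of_allRange c_act48_390) (range_glue (range_of_allRange c_act48_391) (range_glue (range_of_allRange c_act48_392) (range_glue (range_of_allRange c_act48_393) (range_glue (range_of_allRange c_act48_394) (range_glue (range_of_allRange c_act48_395) (range_glue (range_of_allRange c_act48_396) (range_glue (range_of_allRange c_act48_397) (range_glue (range_of_allRange c_act48_398) (range_of_allRange c_act48_399))))))))))))))))))))))))))))))))))))))))
theorem h_act48_p10 : ∀ i, 154800 ≤ i → i < 170280 → Nat.beq (actR48 i) i = true :=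
  (range_glue (range_of_allRange c_act48_400) (range_glue (range_of_allRange c_act48_401) (range_glue (range_of_allRange c_act48_402) (range_glue (range_of_allRange c_act48_403) (range_glue (range_of_allRange c_act48_404) (range_glue (range_of_allRange c_act48_405) (range_glue (range_of_allRange c_act48_406) (range_glue (range_of_allRange c_act48_407) (range_glue (range_of_allRange c_act48_408) (range_glue (range_of_allRange c_act48_409) (range_glue (range_of_allRange c_act48_410) (range_glue (range_of_allRange c_act48_411) (range_glue (range_of_allRange c_act48_412) (range_glue (range_of_allRange c_act48_413) (range_glue (range_of_allRange c_act48_414) (range_glue (range_of_allRange c_act48_415) (range_glue (range_of_allRange c_act48_416) (range_glue (range_of_allRange c_act48_417) (range_glue (range_of_allRange c_act48_418) (range_glue (range_of_allRange c_act48_419) (range_glue (range_of_allRange c_act48_420) (range_glue (range_of_allRange c_act48_421) (range_glue (range_of_allRange c_act48_422) (range_glue (range_of_allRange c_act48_423) (range_glue (range_of_allRange c_act48_424) (range_glue (range_of_allRange c_act48_425) (range_glue (range_of_allRange c_act48_426) (range_glue (range_of_allRange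 c_act48_427) (range_glue (range_of_allRange c_act48_428) (range_glue (range_of_allRange c_act48_429) (range_glue (range_of_allRange c_act48_430) (range_glue (range_of_allRange c_act48_431) (range_glue (range_of_allRange c_act48_432) (range_glue (range_of_allRange c_act48_433) (range_glue (range_of_allRange c_act48_434) (range_glue (range_of_allRange c_act48_435) (range_glue (range_of_allRange c_act48_436) (range_glue (range_of_allRange c_act48_437) (range_glue (range_of_allRange c_act48_438) (range_of_allRange c_act48_439))))))))))))))))))))))))))))))))))))))))
theorem h_act48_p11 : ∀ i, 170280 ≤ i → i < 185328 → Nat.beq (actR48 i) i = true :=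
  (range_glue (range_of_allRange c_act48_440) (range_glue (range_of_allRange c_act48_441) (range_glue (range_of_allRange c_act48_442) (range_glue (range_of_allRange c_act48_443) (range_glue (range_of_allRange c_act48_444) (range_glue (range_of_allRange c_act48_445) (range_glue (range_of_allRange c_act48_446) (range_glue (range_of_allRange c_act48_447) (range_glue (range_of_allRange c_act48_448) (range_glue (range_of_allRange c_act48_449) (range_glue (range_of_allRange c_act48_450) (range_glue (range_of_allRange c_act48_451) (range_glue (range_of_allRange c_act48_452) (range_glue (range_of_allRange c_act48_453) (range_glue (range_of_allRange c_act48_454) (range_glue (range_of_allRange c_act48_455) (range_glue (range_of_allRange c_act48_456) (range_glue (range_of_allRange c_act48_457) (range_glue (range_of_allRange c_act48_458) (range_glue (range_of_allRange c_act48_459) (range_glue (range_of_allRange c_act48_460) (range_glue (range_of_allRange c_act48_461) (range_glue (range_of_allRange c_act48_462) (range_glue (range_of_allRange c_act48_463) (range_glue (range_of_allRange c_act48_464) (range_glue (range_of_allRange c_act48_465) (range_glue (range_of_allRange c_act48_466) (range_glue (range_of_allRange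 c_act48_467) (range_glue (range_of_allRange c_act48_468) (range_glue (range_of_allRange c_act48_469) (range_glue (range_of_allRange c_act48_470) (range_glue (range_of_allRange c_act48_471) (range_glue (range_of_allRange c_act48_472) (range_glue (range_of_allRange c_act48_473) (range_glue (range_of_allRange c_act48_474) (range_glue (range_of_allRange c_act48_475) (range_glue (range_of_allRange c_act48_476) (range_glue (range_of_allRange c_act48_477) (range_of_allRange c_act48_478)))))))))))))))))))))))))))))))))))))))
theorem h_act48 : ∀ i, 0 ≤ i → i < 185328 → Nat.beq (actR48 i) i = true :=
  (range_glue h_act48_p0 (range_glue h_act48_p1 (range_glue h_act48_p2 (range_glue h_act48_p3 (range_glue h_act48_p4 (range_glue h_act48_p5 (range_glue h_act48_p6 (range_glue h_act48_p7 (range_glue h_act48_p8 (range_glue h_act48_p9 (range_glue h_act48_p10 h_act48_p11)))))))))))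
theorem h_act49_p0 : ∀ i, 0 ≤ i → i < 20680 → Nat.beq (actR49 i) i = true :=
  (range_glue (range_of_allRange c_act49_0) (range_glue (range_of_allRange c_act49_1) (range_glue (range_of_allRange c_act49_2) (range_glue (range_of_allRange c_act49_3) (range_glue (range_of_allRange c_act49_4) (range_glue (range_of_allRange c_act49_5) (range_glue (range_of_allRange c_act49_6) (range_glue (range_of_allRange c_act49_7) (range_glue (range_of_allRange c_act49_8) (range_glue (range_of_allRange c_act49_9) (range_glue (range_of_allRange c_act49_10) (range_glue (range_of_allRange c_act49_11) (range_glue (range_of_allRange c_act49_12) (range_glue (range_of_allRange c_act49_13) (range_glue (range_of_allRange c_act49_14) (range_glue (range_of_allRange c_act49_15) (range_glue (range_of_allRange c_act49_16) (range_glue (range_of_allRange c_act49_17) (range_glue (range_of_allRange c_act49_18) (range_glue (range_of_allRange c_act49_19) (range_glue (range_of_allRange c_act49_20) (range_glue (range_of_allRange c_act49_21) (range_glue (range_of_allRange c_act49_22) (range_glue (range_of_allRange c_act49_23) (range_glue (range_of_allRange c_act49_24) (range_glue (range_of_allRange c_act49_25) (range_glue (range_of_allRange c_act49_26)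 (range_glue (range_of_allRange c_act49_27) (range_glue (range_of_allRange c_act49_28) (range_glue (range_of_allRange c_act49_29) (range_glue (range_of_allRange c_act49_30) (range_glue (range_of_allRange c_act49_31) (range_glue (range_of_allRange c_act49_32) (range_glue (range_of_allRange c_act49_33) (range_glue (range_of_allRange c_act49_34) (range_glue (range_of_allRange c_act49_35) (range_glue (range_of_allRange c_act49_36) (range_glue (range_of_allRange c_act49_37) (range_glue (range_of_allRange c_act49_38) (range_of_allRange c_act49_39))))))))))))))))))))))))))))))))))))))))
theorem h_act49_p1 : ∀ i, 20680 ≤ i → i < 41360 → Nat.beq (actR49 i) i = true :=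
  (range_glue (range_of_allRange c_act49_40) (range_glue (range_of_allRange c_act49_41) (range_glue (range_of_allRange c_act49_42) (range_glue (range_of_allRange c_act49_43) (range_glue (range_of_allRange c_act49_44) (range_glue (range_of_allRange c_act49_45) (range_glue (range_of_allRange c_act49_46) (range_glue (range_of_allRange c_act49_47) (range_glue (range_of_allRange c_act49_48) (range_glue (range_of_allRange c_act49_49) (range_glue (range_of_allRange c_act49_50) (range_glue (range_of_allRange c_act49_51) (range_glue (range_of_allRange c_act49_52) (range_glue (range_of_allRange c_act49_53) (range_glue (range_of_allRange c_act49_54) (range_glue (range_of_allRange c_act49_55) (range_glue (range_of_allRange c_act49_56) (range_glue (range_of_allRange c_act49_57) (range_glue (range_of_allRange c_act49_58) (range_glue (range_of_allRange c_act49_59) (range_glue (range_of_allRange c_act49_60) (range_glue (range_of_allRange c_act49_61) (range_glue (range_of_allRange c_act49_62) (range_glue (range_of_allRange c_act49_63) (range_glue (range_of_allRange c_act49_64) (range_glue (range_of_allRange c_act49_65) (range_glue (range_of_allRange c_act49_66) (range_glue (range_of_allRange c_act49_67) (range_glue (range_of_allRange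 c_act49_68) (range_glue (range_of_allRange c_act49_69) (range_glue (range_of_allRange c_act49_70) (range_glue (range_of_allRange c_act49_71) (range_glue (range_of_allRange c_act49_72) (range_glue (range_of_allRange c_act49_73) (range_glue (range_of_allRange c_act49_74) (range_glue (range_of_allRange c_act49_75) (range_glue (range_of_allRange c_act49_76) (range_glue (range_of_allRange c_act49_77) (range_glue (range_of_allRange c_act49_78) (range_of_allRange c_act49_79))))))))))))))))))))))))))))))))))))))))
theorem h_act49_p2 : ∀ i, 41360 ≤ i → i < 62040 → Nat.beq (actR49 i) i = true :=
  (range_glue (range_of_allRange c_act49_80) (range_glue (range_of_allRange c_act49_81) (range_glue (range_of_allRange c_act49_82) (range_glue (range_of_allRange c_act49_83) (range_glue (range_of_allRange c_act49_84) (range_glue (range_of_allRange c_act49_85) (range_glue (range_of_allRange c_act49_86) (range_glue (range_of_allRange c_act49_87) (range_glue (range_of_allRange c_act49_88) (range_glue (range_of_allRange c_act49_89) (range_glue (range_of_allRange c_act49_90) (range_glue (range_of_allRange c_act49_91) (range_glue (range_of_allRange c_act49_92) (range_glue (range_of_allRange c_act49_93) (range_glue (range_of_allRange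 c_act49_94) (range_glue (range_of_allRange c_act49_95) (range_glue (range_of_allRange c_act49_96) (range_glue (range_of_allRange c_act49_97) (range_glue (range_of_allRange c_act49_98) (range_glue (range_of_allRange c_act49_99) (range_glue (range_of_allRange c_act49_100) (range_glue (range_of_allRange c_act49_101) (range_glue (range_of_allRange c_act49_102) (range_glue (range_of_allRange c_act49_103) (range_glue (range_of_allRange c_act49_104) (range_glue (range_of_allRange c_act49_105) (range_glue (range_of_allRange c_act49_106) (range_glue (range_of_allRange c_act49_107) (range_glue (range_of_allRange c_act49_108) (range_glue (range_of_allRange c_act49_109) (range_glue (range_of_allRange c_act49_110) (range_glue (range_of_allRange c_act49_111) (range_glue (range_of_allRange c_act49_112) (range_glue (range_of_allRange c_act49_113) (range_glue (range_of_allRange c_act49_114) (range_glue (range_of_allRange c_act49_115) (range_glue (range_of_allRange c_act49_116) (range_glue (range_of_allRange c_act49_117) (range_glue (range_of_allRange c_act49_118) (range_of_allRange c_act49_119))))))))))))))))))))))))))))))))))))))))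
theorem h_act49_p3 : ∀ i, 62040 ≤ i → i < 82720 → Nat.beq (actR49 i) i = true :=
  (range_glue (range_of_allRange c_act49_120) (range_glue (range_of_allRange c_act49_121) (range_glue (range_of_allRange c_act49_122) (range_glue (range_of_allRange c_act49_123) (range_glue (range_of_allRange c_act49_124) (range_glue (range_of_allRange c_act49_125) (range_glue (range_of_allRange c_act49_126) (range_glue (range_of_allRange c_act49_127) (range_glue (range_of_allRange c_act49_128) (range_glue (range_of_allRange c_act49_129) (range_glue (range_of_allRange c_act49_130) (range_glue (range_of_allRange c_act49_131) (range_glue (range_of_allRange c_act49_132) (range_glue (range_of_allRange c_act49_133) (range_glue (range_of_allRange c_act49_134) (range_glue (range_of_allRange c_act49_135) (range_glue (range_of_allRange c_act49_136) (range_glue (range_of_allRange c_act49_137) (range_glue (range_of_allRange c_act49_138) (range_glue (range_of_allRange c_act49_139) (range_glue (range_of_allRange c_act49_140) (range_glue (range_of_allRange c_act49_141) (range_glue (range_of_allRange c_act49_142) (range_glue (range_of_allRange c_act49_143) (range_glue (range_of_allRange c_act49_144) (range_glue (range_of_allRange c_act49_145)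 (range_glue (range_of_allRange c_act49_146) (range_glue (range_of_allRange c_act49_147) (range_glue (range_of_allRange c_act49_148) (range_glue (range_of_allRange c_act49_149) (range_glue (range_of_allRange c_act49_150) (range_glue (range_of_allRange c_act49_151) (range_glue (range_of_allRange c_act49_152) (range_glue (range_of_allRange c_act49_153) (range_glue (range_of_allRange c_act49_154) (range_glue (range_of_allRange c_act49_155) (range_glue (range_of_allRange c_act49_156) (range_glue (range_of_allRange c_act49_157) (range_glue (range_of_allRange c_act49_158) (range_of_allRange c_act49_159))))))))))))))))))))))))))))))))))))))))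
theorem h_act49_p4 : ∀ i, 82720 ≤ i → i < 103400 → Nat.beq (actR49 i) i = true :=
  (range_glue (range_of_allRange c_act49_160) (range_glue (range_of_allRange c_act49_161) (range_glue (range_of_allRange c_act49_162) (range_glue (range_of_allRange c_act49_163) (range_glue (range_of_allRange c_act49_164) (range_glue (range_of_allRange c_act49_165) (range_glue (range_of_allRange c_act49_166) (range_glue (range_of_allRange c_act49_167) (range_glue (range_of_allRange c_act49_168) (range_glue (range_of_allRange c_act49_169) (range_glue (range_of_allRange c_act49_170) (range_glue (range_of_allRange c_act49_171) (range_glue (range_of_allRange c_act49_172) (range_glue (range_of_allRange c_act49_173) (range_glue (range_of_allRange c_act49_174) (range_glue (range_of_allRange c_act49_175) (range_glue (range_of_allRange c_act49_176) (range_glue (range_of_allRange c_act49_177) (range_glue (range_of_allRange c_act49_178) (range_glue (range_of_allRange c_act49_179) (range_glue (range_of_allRange c_act49_180) (range_glue (range_of_allRange c_act49_181) (range_glue (range_of_allRange c_act49_182) (range_glue (range_of_allRange c_act49_183) (range_glue (range_of_allRange c_act49_184) (range_glue (range_of_allRange c_act49_185)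 (range_glue (range_of_allRange c_act49_186) (range_glue (range_of_allRange c_act49_187) (range_glue (range_of_allRange c_act49_188) (range_glue (range_of_allRange c_act49_189) (range_glue (range_of_allRange c_act49_190) (range_glue (range_of_allRange c_act49_191) (range_glue (range_of_allRange c_act49_192) (range_glue (range_of_allRange c_act49_193) (range_glue (range_of_allRange c_act49_194) (range_glue (range_of_allRange c_act49_195) (range_glue (range_of_allRange c_act49_196) (range_glue (range_of_allRange c_act49_197) (range_glue (range_of_allRange c_act49_198) (range_of_allRange c_act49_199))))))))))))))))))))))))))))))))))))))))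
theorem h_act49_p5 : ∀ i, 103400 ≤ i → i < 124080 → Nat.beq (actR49 i) i = true :=
  (range_glue (range_of_allRange c_act49_200) (range_glue (range_of_allRange c_act49_201) (range_glue (range_of_allRange c_act49_202) (range_glue (range_of_allRange c_act49_203) (range_glue (range_of_allRange c_act49_204) (range_glue (range_of_allRange c_act49_205) (range_glue (range_of_allRange c_act49_206) (range_glue (range_of_allRange c_act49_207) (range_glue (range_of_allRange c_act49_208) (range_glue (range_of_allRange c_act49_209) (range_glue (range_of_allRange c_act49_210) (range_glue (range_of_allRange c_act49_211) (range_glue (range_of_allRange c_act49_212) (range_glue (range_of_allRange c_act49_213) (range_glue (range_of_allRange c_act49_214) (range_glue (range_of_allRange c_act49_215) (range_glue (range_of_allRange c_act49_216) (range_glue (range_of_allRange c_act49_217) (range_glue (range_of_allRange c_act49_218) (range_glue (range_of_allRange c_act49_219) (range_glue (range_of_allRange c_act49_220) (range_glue (range_of_allRange c_act49_221) (range_glue (range_of_allRange c_act49_222) (range_glue (range_of_allRange c_act49_223) (range_glue (range_of_allRange c_act49_224) (range_glue (range_of_allRange c_act49_225)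 (range_glue (range_of_allRange c_act49_226) (range_glue (range_of_allRange c_act49_227) (range_glue (range_of_allRange c_act49_228) (range_glue (range_of_allRange c_act49_229) (range_glue (range_of_allRange c_act49_230) (range_glue (range_of_allRange c_act49_231) (range_glue (range_of_allRange c_act49_232) (range_glue (range_of_allRange c_act49_233) (range_glue (range_of_allRange c_act49_234) (range_glue (range_of_allRange c_act49_235) (range_glue (range_of_allRange c_act49_236) (range_glue (range_of_allRange c_act49_237) (range_glue (range_of_allRange c_act49_238) (range_of_allRange c_act49_239))))))))))))))))))))))))))))))))))))))))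
theorem h_act49_p6 : ∀ i, 124080 ≤ i → i < 144760 → Nat.beq (actR49 i) i = true :=
  (range_glue (range_of_allRange c_act49_240) (range_glue (range_of_allRange c_act49_241) (range_glue (range_of_allRange c_act49_242) (range_glue (range_of_allRange c_act49_243) (range_glue (range_of_allRange c_act49_244) (range_glue (range_of_allRange c_act49_245) (range_glue (range_of_allRange c_act49_246) (range_glue (range_of_allRange c_act49_247) (range_glue (range_of_allRange c_act49_248) (range_glue (range_of_allRange c_act49_249) (range_glue (range_of_allRange c_act49_250) (range_glue (range_of_allRange c_act49_251) (range_glue (range_of_allRange c_act49_252) (range_glue (range_of_allRange c_act49_253) (range_glue (range_of_allRange c_act49_254) (range_glue (range_of_allRange c_act49_255) (range_glue (range_of_allRange c_act49_256) (range_glue (range_of_allRange c_act49_257) (range_glue (range_of_allRange c_act49_258) (range_glue (range_of_allRange c_act49_259) (range_glue (range_of_allRange c_act49_260) (range_glue (range_of_allRange c_act49_261) (range_glue (range_of_allRange c_act49_262) (range_glue (range_of_allRange c_act49_263) (range_glue (range_of_allRange c_act49_264) (range_glue (range_of_allRange c_act49_265)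 (range_glue (range_of_allRange c_act49_266) (range_glue (range_of_allRange c_act49_267) (range_glue (range_of_allRange c_act49_268) (range_glue (range_of_allRange c_act49_269) (range_glue (range_of_allRange c_act49_270) (range_glue (range_of_allRange c_act49_271) (range_glue (range_of_allRange c_act49_272) (range_glue (range_of_allRange c_act49_273) (range_glue (range_of_allRange c_act49_274) (range_glue (range_of_allRange c_act49_275) (range_glue (range_of_allRange c_act49_276) (range_glue (range_of_allRange c_act49_277) (range_glue (range_of_allRange c_act49_278) (range_of_allRange c_act49_279))))))))))))))))))))))))))))))))))))))))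
theorem h_act49_p7 : ∀ i, 144760 ≤ i → i < 165440 → Nat.beq (actR49 i) i = true :=
  (range_glue (range_of_allRange c_act49_280) (range_glue (range_of_allRange c_act49_281) (range_glue (range_of_allRange c_act49_282) (range_glue (range_of_allRange c_act49_283) (range_glue (range_of_allRange c_act49_284) (range_glue (range_of_allRange c_act49_285) (range_glue (range_of_allRange c_act49_286) (range_glue (range_of_allRange c_act49_287) (range_glue (range_of_allRange c_act49_288) (range_glue (range_of_allRange c_act49_289) (range_glue (range_of_allRange c_act49_290) (range_glue (range_of_allRange c_act49_291) (range_glue (range_of_allRange c_act49_292) (range_glue (range_of_allRange c_act49_293) (range_glue (range_of_allRange c_act49_294) (range_glue (range_of_allRange c_act49_295) (range_glue (range_of_allRange c_act49_296) (range_glue (range_of_allRange c_act49_297) (range_glue (range_of_allRange c_act49_298) (range_glue (range_of_allRange c_act49_299) (range_glue (range_of_allRange c_act49_300) (range_glue (range_of_allRange c_act49_301) (range_glue (range_of_allRange c_act49_302) (range_glue (range_of_allRange c_act49_303) (range_glue (range_of_allRange c_act49_304) (range_glue (range_of_allRange c_act49_305)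 (range_glue (range_of_allRange c_act49_306) (range_glue (range_of_allRange c_act49_307) (range_glue (range_of_allRange c_act49_308) (range_glue (range_of_allRange c_act49_309) (range_glue (range_of_allRange c_act49_310) (range_glue (range_of_allRange c_act49_311) (range_glue (range_of_allRange c_act49_312) (range_glue (range_of_allRange c_act49_313) (range_glue (range_of_allRange c_act49_314) (range_glue (range_of_allRange c_act49_315) (range_glue (range_of_allRange c_act49_316) (range_glue (range_of_allRange c_act49_317) (range_glue (range_of_allRange c_act49_318) (range_of_allRange c_act49_319))))))))))))))))))))))))))))))))))))))))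
theorem h_act49_p8 : ∀ i, 165440 ≤ i → i < 185328 → Nat.beq (actR49 i) i = true :=
  (range_glue (range_of_allRange c_act49_320) (range_glue (range_of_allRange c_act49_321) (range_glue (range_of_allRange c_act49_322) (range_glue (range_of_allRange c_act49_323) (range_glue (range_of_allRange c_act49_324) (range_glue (range_of_allRange c_act49_325) (range_glue (range_of_allRange c_act49_326) (range_glue (range_of_allRange c_act49_327) (range_glue (range_of_allRange c_act49_328) (range_glue (range_of_allRange c_act49_329) (range_glue (range_of_allRange c_act49_330) (range_glue (range_of_allRange c_act49_331) (range_glue (range_of_allRange c_act49_332) (range_glue (range_of_allRange c_act49_333) (range_glue (range_of_allRange c_act49_334) (range_glue (range_of_allRange c_act49_335) (range_glue (range_of_allRange c_act49_336) (range_glue (range_of_allRange c_act49_337) (range_glue (range_of_allRange c_act49_338) (range_glue (range_of_allRange c_act49_339) (range_glue (range_of_allRange c_act49_340) (range_glue (range_of_allRange c_act49_341) (range_glue (range_of_allRange c_act49_342) (range_glue (range_of_allRange c_act49_343) (range_glue (range_of_allRange c_act49_344) (range_glue (range_of_allRange c_act49_345)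 (range_glue (range_of_allRange c_act49_346) (range_glue (range_of_allRange c_act49_347) (range_glue (range_of_allRange c_act49_348) (range_glue (range_of_allRange c_act49_349) (range_glue (range_of_allRange c_act49_350) (range_glue (range_of_allRange c_act49_351) (range_glue (range_of_allRange c_act49_352) (range_glue (range_of_allRange c_act49_353) (range_glue (range_of_allRange c_act49_354) (range_glue (range_of_allRange c_act49_355) (range_glue (range_of_allRange c_act49_356) (range_glue (range_of_allRange c_act49_357) (range_of_allRange c_act49_358)))))))))))))))))))))))))))))))))))))))
theorem h_act49 : ∀ i, 0 ≤ i → i < 185328 → Nat.beq (actR49 i) i = true :=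
  (range_glue h_act49_p0 (range_glue h_act49_p1 (range_glue h_act49_p2 (range_glue h_act49_p3 (range_glue h_act49_p4 (range_glue h_act49_p5 (range_glue h_act49_p6 (range_glue h_act49_p7 h_act49_p8))))))))
theorem h_act50_p0 : ∀ i, 0 ≤ i → i < 21400 → Nat.beq (actR50 i) i = true :=
  (range_glue (range_of_allRange c_act50_0) (range_glue (range_of_allRange c_act50_1) (range_glue (range_of_allRange c_act50_2) (range_glue (range_of_allRange c_act50_3) (range_glue (range_of_allRange c_act50_4) (range_glue (range_of_allRange c_act50_5) (range_glue (range_of_allRange c_act50_6) (range_glue (range_of_allRange c_act50_7) (range_glue (range_of_allRange c_act50_8) (range_glue (range_of_allRange c_act50_9) (range_glue (range_of_allRange c_act50_10) (range_glue (range_of_allRange c_act50_11) (range_glue (range_of_allRange c_act50_12) (range_glue (range_of_allRange c_act50_13) (range_glue (range_of_allRange c_act50_14) (range_glue (range_of_allRange c_act50_15) (range_glue (range_of_allRange c_act50_16) (range_glue (range_of_allRange c_act50_17) (range_glue (range_of_allRange c_act50_18) (range_glue (range_of_allRange c_act50_19) (range_glue (range_of_allRange c_act50_20) (range_glue (range_of_allRange c_act50_21)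 (range_glue (range_of_allRange c_act50_22) (range_glue (range_of_allRange c_act50_23) (range_glue (range_of_allRange c_act50_24) (range_glue (range_of_allRange c_act50_25) (range_glue (range_of_allRange c_act50_26) (range_glue (range_of_allRange c_act50_27) (range_glue (range_of_allRange c_act50_28) (range_glue (range_of_allRange c_act50_29) (range_glue (range_of_allRange c_act50_30) (range_glue (range_of_allRange c_act50_31) (range_glue (range_of_allRange c_act50_32) (range_glue (range_of_allRange c_act50_33) (range_glue (range_of_allRange c_act50_34) (range_glue (range_of_allRange c_act50_35) (range_glue (range_of_allRange c_act50_36) (range_glue (range_of_allRange c_act50_37) (range_glue (range_of_allRange c_act50_38) (range_of_allRange c_act50_39))))))))))))))))))))))))))))))))))))))))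
theorem h_act50_p1 : ∀ i, 21400 ≤ i → i < 42800 → Nat.beq (actR50 i) i = true :=
  (range_glue (range_of_allRange c_act50_40) (range_glue (range_of_allRange c_act50_41) (range_glue (range_of_allRange c_act50_42) (range_glue (range_of_allRange c_act50_43) (range_glue (range_of_allRange c_act50_44) (range_glue (range_of_allRange c_act50_45) (range_glue (range_of_allRange c_act50_46) (range_glue (range_of_allRange c_act50_47) (range_glue (range_of_allRange c_act50_48) (range_glue (range_of_allRange c_act50_49) (range_glue (range_of_allRange c_act50_50) (range_glue (range_of_allRange c_act50_51) (range_glue (range_of_allRange c_act50_52) (range_glue (range_of_allRange c_act50_53) (range_glue (range_of_allRange c_act50_54) (range_glue (range_of_allRange c_act50_55) (range_glue (range_of_allRange c_act50_56) (range_glue (range_of_allRange c_act50_57) (range_glue (range_of_allRange c_act50_58) (range_glue (range_of_allRange c_act50_59) (range_glue (range_of_allRange c_act50_60) (range_glue (range_of_allRange c_act50_61) (range_glue (range_of_allRange c_act50_62) (range_glue (range_of_allRange c_act50_63) (range_glue (range_of_allRange c_act50_64) (range_glue (range_of_allRange c_act50_65) (range_glue (range_of_allRange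 c_act50_66) (range_glue (range_of_allRange c_act50_67) (range_glue (range_of_allRange c_act50_68) (range_glue (range_of_allRange c_act50_69) (range_glue (range_of_allRange c_act50_70) (range_glue (range_of_allRange c_act50_71) (range_glue (range_of_allRange c_act50_72) (range_glue (range_of_allRange c_act50_73) (range_glue (range_of_allRange c_act50_74) (range_glue (range_of_allRange c_act50_75) (range_glue (range_of_allRange c_act50_76) (range_glue (range_of_allRange c_act50_77) (range_glue (range_of_allRange c_act50_78) (range_of_allRange c_act50_79))))))))))))))))))))))))))))))))))))))))
theorem h_act50_p2 : ∀ i, 42800 ≤ i → i < 64200 → Nat.beq (actR50 i) i = true :=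
  (range_glue (range_of_allRange c_act50_80) (range_glue (range_of_allRange c_act50_81) (range_glue (range_of_allRange c_act50_82) (range_glue (range_of_allRange c_act50_83) (range_glue (range_of_allRange c_act50_84) (range_glue (range_of_allRange c_act50_85) (range_glue (range_of_allRange c_act50_86) (range_glue (range_of_allRange c_act50_87) (range_glue (range_of_allRange c_act50_88) (range_glue (range_of_allRange c_act50_89) (range_glue (range_of_allRange c_act50_90) (range_glue (range_of_allRange c_act50_91) (range_glue (range_of_allRange c_act50_92) (range_glue (range_of_allRange c_act50_93) (range_glue (range_of_allRange c_act50_94) (range_glue (range_of_allRange c_act50_95) (range_glue (range_of_allRange c_act50_96) (range_glue (range_of_allRange c_act50_97) (range_glue (range_of_allRange c_act50_98) (range_glue (range_of_allRange c_act50_99) (range_glue (range_of_allRange c_act50_100) (range_glue (range_of_allRange c_act50_101) (range_glue (range_of_allRange c_act50_102) (range_glue (range_of_allRange c_act50_103) (range_glue (range_of_allRange c_act50_104) (range_glue (range_of_allRange c_act50_105) (range_glue (range_of_allRange c_act50_106) (range_glue (range_of_allRange c_act50_107) (range_glue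 (range_of_allRange c_act50_108) (range_glue (range_of_allRange c_act50_109) (range_glue (range_of_allRange c_act50_110) (range_glue (range_of_allRange c_act50_111) (range_glue (range_of_allRange c_act50_112) (range_glue (range_of_allRange c_act50_113) (range_glue (range_of_allRange c_act50_114) (range_glue (range_of_allRange c_act50_115) (range_glue (range_of_allRange c_act50_116) (range_glue (range_of_allRange c_act50_117) (range_glue (range_of_allRange c_act50_118) (range_of_allRange c_act50_119))))))))))))))))))))))))))))))))))))))))
theorem h_act50_p3 : ∀ i, 64200 ≤ i → i < 85600 → Nat.beq (actR50 i) i = true :=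
  (range_glue (range_of_allRange c_act50_120) (range_glue (range_of_allRange c_act50_121) (range_glue (range_of_allRange c_act50_122) (range_glue (range_of_allRange c_act50_123) (range_glue (range_of_allRange c_act50_124) (range_glue (range_of_allRange c_act50_125) (range_glue (range_of_allRange c_act50_126) (range_glue (range_of_allRange c_act50_127) (range_glue (range_of_allRange c_act50_128) (range_glue (range_of_allRange c_act50_129) (range_glue (range_of_allRange c_act50_130) (range_glue (range_of_allRange c_act50_131) (range_glue (range_of_allRange c_act50_132) (range_glue (range_of_allRange c_act50_133) (range_glue (range_of_allRange c_act50_134) (range_glue (range_of_allRange c_act50_135) (range_glue (range_of_allRange c_act50_136) (range_glue (range_of_allRange c_act50_137) (range_glue (range_of_allRange c_act50_138) (range_glue (range_of_allRange c_act50_139) (range_glue (range_of_allRange c_act50_140) (range_glue (range_of_allRange c_act50_141) (range_glue (range_of_allRange c_act50_142) (range_glue (range_of_allRange c_act50_143) (range_glue (range_of_allRange c_act50_144) (range_glue (range_of_allRange c_act50_145) (range_glue (range_of_allRange c_act50_146) (range_glue (range_of_allRange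 c_act50_147) (range_glue (range_of_allRange c_act50_148) (range_glue (range_of_allRange c_act50_149) (range_glue (range_of_allRange c_act50_150) (range_glue (range_of_allRange c_act50_151) (range_glue (range_of_allRange c_act50_152) (range_glue (range_of_allRange c_act50_153) (range_glue (range_of_allRange c_act50_154) (range_glue (range_of_allRange c_act50_155) (range_glue (range_of_allRange c_act50_156) (range_glue (range_of_allRange c_act50_157) (range_glue (range_of_allRange c_act50_158) (range_of_allRange c_act50_159))))))))))))))))))))))))))))))))))))))))
theorem h_act50_p4 : ∀ i, 85600 ≤ i → i < 107000 → Nat.beq (actR50 i) i = true :=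
  (range_glue (range_of_allRange c_act50_160) (range_glue (range_of_allRange c_act50_161) (range_glue (range_of_allRange c_act50_162) (range_glue (range_of_allRange c_act50_163) (range_glue (range_of_allRange c_act50_164) (range_glue (range_of_allRange c_act50_165) (range_glue (range_of_allRange c_act50_166) (range_glue (range_of_allRange c_act50_167) (range_glue (range_of_allRange c_act50_168) (range_glue (range_of_allRange c_act50_169) (range_glue (range_of_allRange c_act50_170) (range_glue (range_of_allRange c_act50_171) (range_glue (range_of_allRange c_act50_172) (range_glue (range_of_allRange c_act50_173) (range_glue (range_of_allRange c_act50_174) (range_glue (range_of_allRange c_act50_175) (range_glue (range_of_allRange c_act50_176) (range_glue (range_of_allRange c_act50_177) (range_glue (range_of_allRange c_act50_178) (range_glue (range_of_allRange c_act50_179) (range_glue (range_of_allRange c_act50_180) (range_glue (range_of_allRange c_act50_181) (range_glue (range_of_allRange c_act50_182) (range_glue (range_of_allRange c_act50_183) (range_glue (range_of_allRange c_act50_184) (range_glue (range_of_allRange c_act50_185) (range_glue (range_of_allRange c_act50_186) (range_glue (range_of_allRange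 c_act50_187) (range_glue (range_of_allRange c_act50_188) (range_glue (range_of_allRange c_act50_189) (range_glue (range_of_allRange c_act50_190) (range_glue (range_of_allRange c_act50_191) (range_glue (range_of_allRange c_act50_192) (range_glue (range_of_allRange c_act50_193) (range_glue (range_of_allRange c_act50_194) (range_glue (range_of_allRange c_act50_195) (range_glue (range_of_allRange c_act50_196) (range_glue (range_of_allRange c_act50_197) (range_glue (range_of_allRange c_act50_198) (range_of_allRange c_act50_199))))))))))))))))))))))))))))))))))))))))
theorem h_act50_p5 : ∀ i, 107000 ≤ i → i < 128400 → Nat.beq (actR50 i) i = true :=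
  (range_glue (range_of_allRange c_act50_200) (range_glue (range_of_allRange c_act50_201) (range_glue (range_of_allRange c_act50_202) (range_glue (range_of_allRange c_act50_203) (range_glue (range_of_allRange c_act50_204) (range_glue (range_of_allRange c_act50_205) (range_glue (range_of_allRange c_act50_206) (range_glue (range_of_allRange c_act50_207) (range_glue (range_of_allRange c_act50_208) (range_glue (range_of_allRange c_act50_209) (range_glue (range_of_allRange c_act50_210) (range_glue (range_of_allRange c_act50_211) (range_glue (range_of_allRange c_act50_212) (range_glue (range_of_allRange c_act50_213) (range_glue (range_of_allRange c_act50_214) (range_glue (range_of_allRange c_act50_215) (range_glue (range_of_allRange c_act50_216) (range_glue (range_of_allRange c_act50_217) (range_glue (range_of_allRange c_act50_218) (range_glue (range_of_allRange c_act50_219) (range_glue (range_of_allRange c_act50_220) (range_glue (range_of_allRange c_act50_221) (range_glue (range_of_allRange c_act50_222) (range_glue (range_of_allRange c_act50_223) (range_glue (range_of_allRange c_act50_224) (range_glue (range_of_allRange c_act50_225) (range_glue (range_of_allRange c_act50_226) (range_glue (range_of_allRange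 c_act50_227) (range_glue (range_of_allRange c_act50_228) (range_glue (range_of_allRange c_act50_229) (range_glue (range_of_allRange c_act50_230) (range_glue (range_of_allRange c_act50_231) (range_glue (range_of_allRange c_act50_232) (range_glue (range_of_allRange c_act50_233) (range_glue (range_of_allRange c_act50_234) (range_glue (range_of_allRange c_act50_235) (range_glue (range_of_allRange c_act50_236) (range_glue (range_of_allRange c_act50_237) (range_glue (range_of_allRange c_act50_238) (range_of_allRange c_act50_239))))))))))))))))))))))))))))))))))))))))
theorem h_act50_p6 : ∀ i, 128400 ≤ i → i < 149800 → Nat.beq (actR50 i) i = true :=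
  (range_glue (range_of_allRange c_act50_240) (range_glue (range_of_allRange c_act50_241) (range_glue (range_of_allRange c_act50_242) (range_glue (range_of_allRange c_act50_243) (range_glue (range_of_allRange c_act50_244) (range_glue (range_of_allRange c_act50_245) (range_glue (range_of_allRange c_act50_246) (range_glue (range_of_allRange c_act50_247) (range_glue (range_of_allRange c_act50_248) (range_glue (range_of_allRange c_act50_249) (range_glue (range_of_allRange c_act50_250) (range_glue (range_of_allRange c_act50_251) (range_glue (range_of_allRange c_act50_252) (range_glue (range_of_allRange c_act50_253) (range_glue (range_of_allRange c_act50_254) (range_glue (range_of_allRange c_act50_255) (range_glue (range_of_allRange c_act50_256) (range_glue (range_of_allRange c_act50_257) (range_glue (range_of_allRange c_act50_258) (range_glue (range_of_allRange c_act50_259) (range_glue (range_of_allRange c_act50_260) (range_glue (range_of_allRange c_act50_261) (range_glue (range_of_allRange c_act50_262) (range_glue (range_of_allRange c_act50_263) (range_glue (range_of_allRange c_act50_264) (range_glue (range_of_allRange c_act50_265) (range_glue (range_of_allRange c_act50_266) (range_glue (range_of_allRange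 c_act50_267) (range_glue (range_of_allRange c_act50_268) (range_glue (range_of_allRange c_act50_269) (range_glue (range_of_allRange c_act50_270) (range_glue (range_of_allRange c_act50_271) (range_glue (range_of_allRange c_act50_272) (range_glue (range_of_allRange c_act50_273) (range_glue (range_of_allRange c_act50_274) (range_glue (range_of_allRange c_act50_275) (range_glue (range_of_allRange c_act50_276) (range_glue (range_of_allRange c_act50_277) (range_glue (range_of_allRange c_act50_278) (range_of_allRange c_act50_279))))))))))))))))))))))))))))))))))))))))
theorem h_act50_p7 : ∀ i, 149800 ≤ i → i < 171200 → Nat.beq (actR50 i) i = true :=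
  (range_glue (range_of_allRange c_act50_280) (range_glue (range_of_allRange c_act50_281) (range_glue (range_of_allRange c_act50_282) (range_glue (range_of_allRange c_act50_283) (range_glue (range_of_allRange c_act50_284) (range_glue (range_of_allRange c_act50_285) (range_glue (range_of_allRange c_act50_286) (range_glue (range_of_allRange c_act50_287) (range_glue (range_of_allRange c_act50_288) (range_glue (range_of_allRange c_act50_289) (range_glue (range_of_allRange c_act50_290) (range_glue (range_of_allRange c_act50_291) (range_glue (range_of_allRange c_act50_292) (range_glue (range_of_allRange c_act50_293) (range_glue (range_of_allRange c_act50_294) (range_glue (range_of_allRange c_act50_295) (range_glue (range_of_allRange c_act50_296) (range_glue (range_of_allRange c_act50_297) (range_glue (range_of_allRange c_act50_298) (range_glue (range_of_allRange c_act50_299) (range_glue (range_of_allRange c_act50_300) (range_glue (range_of_allRange c_act50_301) (range_glue (range_of_allRange c_act50_302) (range_glue (range_of_allRange c_act50_303) (range_glue (range_of_allRange c_act50_304) (range_glue (range_of_allRange c_act50_305) (range_glue (range_of_allRange c_act50_306) (range_glue (range_of_allRange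 c_act50_307) (range_glue (range_of_allRange c_act50_308) (range_glue (range_of_allRange c_act50_309) (range_glue (range_of_allRange c_act50_310) (range_glue (range_of_allRange c_act50_311) (range_glue (range_of_allRange c_act50_312) (range_glue (range_of_allRange c_act50_313) (range_glue (range_of_allRange c_act50_314) (range_glue (range_of_allRange c_act50_315) (range_glue (range_of_allRange c_act50_316) (range_glue (range_of_allRange c_act50_317) (range_glue (range_of_allRange c_act50_318) (range_of_allRange c_act50_319))))))))))))))))))))))))))))))))))))))))
theorem h_act50_p8 : ∀ i, 171200 ≤ i → i < 185328 → Nat.beq (actR50 i) i = true :=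
  (range_glue (range_of_allRange c_act50_320) (range_glue (range_of_allRange c_act50_321) (range_glue (range_of_allRange c_act50_322) (range_glue (range_of_allRange c_act50_323) (range_glue (range_of_allRange c_act50_324) (range_glue (range_of_allRange c_act50_325) (range_glue (range_of_allRange c_act50_326) (range_glue (range_of_allRange c_act50_327) (range_glue (range_of_allRange c_act50_328) (range_glue (range_of_allRange c_act50_329) (range_glue (range_of_allRange c_act50_330) (range_glue (range_of_allRange c_act50_331) (range_glue (range_of_allRange c_act50_332) (range_glue (range_of_allRange c_act50_333) (range_glue (range_of_allRange c_act50_334) (range_glue (range_of_allRange c_act50_335) (range_glue (range_of_allRange c_act50_336) (range_glue (range_of_allRange c_act50_337) (range_glue (range_of_allRange c_act50_338) (range_glue (range_of_allRange c_act50_339) (range_glue (range_of_allRange c_act50_340) (range_glue (range_of_allRange c_act50_341) (range_glue (range_of_allRange c_act50_342) (range_glue (range_of_allRange c_act50_343) (range_glue (range_of_allRange c_act50_344) (range_glue (range_of_allRange c_act50_345) (range_of_allRange c_act50_346)))))))))))))))))))))))))))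
theorem h_act50 : ∀ i, 0 ≤ i → i < 185328 → Nat.beq (actR50 i) i = true :=
  (range_glue h_act50_p0 (range_glue h_act50_p1 (range_glue h_act50_p2 (range_glue h_act50_p3 (range_glue h_act50_p4 (range_glue h_act50_p5 (range_glue h_act50_p6 (range_glue h_act50_p7 h_act50_p8))))))))
theorem h_act51 : ∀ i, 0 ≤ i → i < 185328 → Nat.beq (actR51 i) i = true :=
  (range_glue (range_of_allRange c_act51_0) (range_glue (range_of_allRange c_act51_1) (range_glue (range_of_allRange c_act51_2) (range_glue (range_of_allRange c_act51_3) (range_glue (range_of_allRange c_act51_4) (range_glue (range_of_allRange c_act51_5) (range_glue (range_of_allRange c_act51_6) (range_glue (range_of_allRange c_act51_7) (range_glue (range_of_allRange c_act51_8) (range_glue (range_of_allRange c_act51_9) (range_glue (range_of_allRange c_act51_10) (range_glue (range_of_allRange c_act51_11) (range_glue (range_of_allRange c_act51_12) (range_glue (range_of_allRange c_act51_13) (range_glue (range_of_allRange c_act51_14) (range_glue (range_of_allRange c_act51_15) (range_glue (range_of_allRange c_act51_16) (range_glue (range_of_allRange c_act51_17) (range_glue (range_of_allRange c_act51_18) (range_glue (range_of_allRange c_act51_19) (range_glue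 (range_of_allRange c_act51_20) (range_of_allRange c_act51_21))))))))))))))))))))))
theorem h_act52 : ∀ i, 0 ≤ i → i < 185328 → Nat.beq (actR52 i) i = true :=
  (range_glue (range_of_allRange c_act52_0) (range_glue (range_of_allRange c_act52_1) (range_glue (range_of_allRange c_act52_2) (range_glue (range_of_allRange c_act52_3) (range_glue (range_of_allRange c_act52_4) (range_glue (range_of_allRange c_act52_5) (range_glue (range_of_allRange c_act52_6) (range_glue (range_of_allRange c_act52_7) (range_glue (range_of_allRange c_act52_8) (range_glue (range_of_allRange c_act52_9) (range_glue (range_of_allRange c_act52_10) (range_glue (range_of_allRange c_act52_11) (range_glue (range_of_allRange c_act52_12) (range_glue (range_of_allRange c_act52_13) (range_glue (range_of_allRange c_act52_14) (range_glue (range_of_allRange c_act52_15) (range_glue (range_of_allRange c_act52_16) (range_glue (range_of_allRange c_act52_17) (range_glue (range_of_allRange c_act52_18) (range_glue (range_of_allRange c_act52_19) (range_glue (range_of_allRange c_act52_20) (range_glue (range_of_allRange c_act52_21) (range_glue (range_of_allRange c_act52_22) (range_glue (range_of_allRange c_act52_23) (range_glue (range_of_allRange c_act52_24)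 (range_glue (range_of_allRange c_act52_25) (range_glue (range_of_allRange c_act52_26) (range_glue (range_of_allRange c_act52_27) (range_glue (range_of_allRange c_act52_28) (range_glue (range_of_allRange c_act52_29) (range_glue (range_of_allRange c_act52_30) (range_glue (range_of_allRange c_act52_31) (range_glue (range_of_allRange c_act52_32) (range_of_allRange c_act52_33))))))))))))))))))))))))))))))))))
theorem h_act53 : ∀ i, 0 ≤ i → i < 185328 → Nat.beq (actR53 i) i = true :=
  (range_glue (range_of_allRange c_act53_0) (range_glue (range_of_allRange c_act53_1) (range_glue (range_of_allRange c_act53_2) (range_glue (range_of_allRange c_act53_3) (range_glue (range_of_allRange c_act53_4) (range_glue (range_of_allRange c_act53_5) (range_glue (range_of_allRange c_act53_6) (range_glue (range_of_allRange c_act53_7) (range_glue (range_of_allRange c_act53_8) (range_glue (range_of_allRange c_act53_9) (range_glue (range_of_allRange c_act53_10) (range_glue (range_of_allRange c_act53_11) (range_glue (range_of_allRange c_act53_12) (range_glue (range_of_allRange c_act53_13) (range_glue (range_of_allRange c_act53_14) (range_glue (range_of_allRange c_act53_15) (range_glue (range_of_allRange c_act53_16) (range_glue (range_of_allRange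 c_act53_17) (range_glue (range_of_allRange c_act53_18) (range_glue (range_of_allRange c_act53_19) (range_glue (range_of_allRange c_act53_20) (range_glue (range_of_allRange c_act53_21) (range_glue (range_of_allRange c_act53_22) (range_glue (range_of_allRange c_act53_23) (range_glue (range_of_allRange c_act53_24) (range_glue (range_of_allRange c_act53_25) (range_glue (range_of_allRange c_act53_26) (range_glue (range_of_allRange c_act53_27) (range_glue (range_of_allRange c_act53_28) (range_glue (range_of_allRange c_act53_29) (range_glue (range_of_allRange c_act53_30) (range_glue (range_of_allRange c_act53_31) (range_glue (range_of_allRange c_act53_32) (range_glue (range_of_allRange c_act53_33) (range_glue (range_of_allRange c_act53_34) (range_glue (range_of_allRange c_act53_35) (range_glue (range_of_allRange c_act53_36) (range_of_allRange c_act53_37))))))))))))))))))))))))))))))))))))))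
theorem h_act54 : ∀ i, 0 ≤ i → i < 185328 → Nat.beq (actR54 i) i = true :=
  (range_glue (range_of_allRange c_act54_0) (range_glue (range_of_allRange c_act54_1) (range_glue (range_of_allRange c_act54_2) (range_glue (range_of_allRange c_act54_3) (range_glue (range_of_allRange c_act54_4) (range_glue (range_of_allRange c_act54_5) (range_glue (range_of_allRange c_act54_6) (range_glue (range_of_allRange c_act54_7) (range_glue (range_of_allRange c_act54_8) (range_glue (range_of_allRange c_act54_9) (range_glue (range_of_allRange c_act54_10) (range_glue (range_of_allRange c_act54_11) (range_glue (range_of_allRange c_act54_12) (range_glue (range_of_allRange c_act54_13) (range_glue (range_of_allRange c_act54_14) (range_glue (range_of_allRange c_act54_15) (range_glue (range_of_allRange c_act54_16) (range_glue (range_of_allRange c_act54_17) (range_glue (range_of_allRange c_act54_18) (range_glue (range_of_allRange c_act54_19) (range_glue (range_of_allRange c_act54_20) (range_glue (range_of_allRange c_act54_21) (range_glue (range_of_allRange c_act54_22) (range_glue (range_of_allRange c_act54_23) (range_glue (range_of_allRange c_act54_24) (range_glue (range_of_allRange c_act54_25) (range_glue (range_of_allRange c_act54_26)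 (range_glue (range_of_allRange c_act54_27) (range_glue (range_of_allRange c_act54_28) (range_glue (range_of_allRange c_act54_29) (range_glue (range_of_allRange c_act54_30) (range_glue (range_of_allRange c_act54_31) (range_glue (range_of_allRange c_act54_32) (range_glue (range_of_allRange c_act54_33) (range_glue (range_of_allRange c_act54_34) (range_glue (range_of_allRange c_act54_35) (range_glue (range_of_allRange c_act54_36) (range_of_allRange c_act54_37))))))))))))))))))))))))))))))))))))))
theorem h_act55 : ∀ i, 0 ≤ i → i < 185328 → Nat.beq (actR55 i) i = true :=
  (range_glue (range_of_allRange c_act55_0) (range_glue (range_of_allRange c_act55_1) (range_glue (range_of_allRange c_act55_2) (range_glue (range_of_allRange c_act55_3) (range_glue (range_of_allRange c_act55_4) (range_glue (range_of_allRange c_act55_5) (range_glue (range_of_allRange c_act55_6) (range_glue (range_of_allRange c_act55_7) (range_glue (range_of_allRange c_act55_8) (range_of_allRange c_act55_9))))))))))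
theorem h_act56 : ∀ i, 0 ≤ i → i < 185328 → Nat.beq (actR56 i) i = true :=
  (range_glue (range_of_allRange c_act56_0) (range_glue (range_of_allRange c_act56_1) (range_glue (range_of_allRange c_act56_2) (range_glue (range_of_allRange c_act56_3) (range_glue (range_of_allRange c_act56_4) (range_glue (range_of_allRange c_act56_5) (range_glue (range_of_allRange c_act56_6) (range_glue (range_of_allRange c_act56_7) (range_glue (range_of_allRange c_act56_8) (range_glue (range_of_allRange c_act56_9) (range_glue (range_of_allRange c_act56_10) (range_glue (range_of_allRange c_act56_11) (range_glue (range_of_allRange c_act56_12) (range_glue (range_of_allRange c_act56_13) (range_glue (range_of_allRange c_act56_14) (range_glue (range_of_allRange c_act56_15) (range_glue (range_of_allRange c_act56_16) (range_glue (range_of_allRange c_act56_17) (range_glue (range_of_allRange c_act56_18) (range_glue (range_of_allRange c_act56_19) (range_glue (range_of_allRange c_act56_20) (range_glue (range_of_allRange c_act56_21) (range_glue (range_of_allRange c_act56_22) (range_glue (range_of_allRange c_act56_23) (range_of_allRange c_act56_24)))))))))))))))))))))))))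
theorem h_act57 : ∀ i, 0 ≤ i → i < 185328 → Nat.beq (actR57 i) i = true :=
  (range_glue (range_of_allRange c_act57_0) (range_glue (range_of_allRange c_act57_1) (range_glue (range_of_allRange c_act57_2) (range_glue (range_of_allRange c_act57_3) (range_glue (range_of_allRange c_act57_4) (range_glue (range_of_allRange c_act57_5) (range_glue (range_of_allRange c_act57_6) (range_glue (range_of_allRange c_act57_7) (range_glue (range_of_allRange c_act57_8) (range_glue (range_of_allRange c_act57_9) (range_glue (range_of_allRange c_act57_10) (range_glue (range_of_allRange c_act57_11) (range_glue (range_of_allRange c_act57_12) (range_glue (range_of_allRange c_act57_13) (range_glue (range_of_allRange c_act57_14) (range_glue (range_of_allRange c_act57_15) (range_glue (range_of_allRange c_act57_16) (range_glue (range_of_allRange c_act57_17) (range_glue (range_of_allRange c_act57_18) (range_glue (range_of_allRange c_act57_19) (range_glue (range_of_allRange c_act57_20) (range_glue (range_of_allRange c_act57_21) (range_glue (range_of_allRange c_act57_22) (range_glue (range_of_allRange c_act57_23) (range_glue (range_of_allRange c_act57_24) (range_glue (range_of_allRange c_act57_25) (range_glue (range_of_allRange c_act57_26)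 (range_of_allRange c_act57_27))))))))))))))))))))))))))))
theorem h_act58 : ∀ i, 0 ≤ i → i < 185328 → Nat.beq (actR58 i) i = true :=
  (range_glue (range_of_allRange c_act58_0) (range_glue (range_of_allRange c_act58_1) (range_glue (range_of_allRange c_act58_2) (range_glue (range_of_allRange c_act58_3) (range_glue (range_of_allRange c_act58_4) (range_glue (range_of_allRange c_act58_5) (range_glue (range_of_allRange c_act58_6) (range_glue (range_of_allRange c_act58_7) (range_glue (range_of_allRange c_act58_8) (range_glue (range_of_allRange c_act58_9) (range_glue (range_of_allRange c_act58_10) (range_glue (range_of_allRange c_act58_11) (range_glue (range_of_allRange c_act58_12) (range_glue (range_of_allRange c_act58_13) (range_glue (range_of_allRange c_act58_14) (range_glue (range_of_allRange c_act58_15) (range_glue (range_of_allRange c_act58_16) (range_glue (range_of_allRange c_act58_17) (range_glue (range_of_allRange c_act58_18) (range_glue (range_of_allRange c_act58_19) (range_glue (range_of_allRange c_act58_20) (range_glue (range_of_allRange c_act58_21) (range_glue (range_of_allRange c_act58_22) (range_glue (range_of_allRange c_act58_23) (range_glue (range_of_allRange c_act58_24) (range_glue (range_of_allRange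 c_act58_25) (range_glue (range_of_allRange c_act58_26) (range_glue (range_of_allRange c_act58_27) (range_glue (range_of_allRange c_act58_28) (range_glue (range_of_allRange c_act58_29) (range_of_allRange c_act58_30)))))))))))))))))))))))))))))))
theorem h_act59 : ∀ i, 0 ≤ i → i < 185328 → Nat.beq (actR59 i) i = true :=
  (range_glue (range_of_allRange c_act59_0) (range_glue (range_of_allRange c_act59_1) (range_glue (range_of_allRange c_act59_2) (range_glue (range_of_allRange c_act59_3) (range_glue (range_of_allRange c_act59_4) (range_glue (range_of_allRange c_act59_5) (range_glue (range_of_allRange c_act59_6) (range_glue (range_of_allRange c_act59_7) (range_glue (range_of_allRange c_act59_8) (range_glue (range_of_allRange c_act59_9) (range_glue (range_of_allRange c_act59_10) (range_glue (range_of_allRange c_act59_11) (range_glue (range_of_allRange c_act59_12) (range_glue (range_of_allRange c_act59_13) (range_glue (range_of_allRange c_act59_14) (range_glue (range_of_allRange c_act59_15) (range_glue (range_of_allRange c_act59_16) (range_glue (range_of_allRange c_act59_17) (range_glue (range_of_allRange c_act59_18) (range_glue (range_of_allRange c_act59_19) (range_glue (range_of_allRange c_act59_20) (range_glue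 (range_of_allRange c_act59_21) (range_glue (range_of_allRange c_act59_22) (range_glue (range_of_allRange c_act59_23) (range_glue (range_of_allRange c_act59_24) (range_glue (range_of_allRange c_act59_25) (range_glue (range_of_allRange c_act59_26) (range_glue (range_of_allRange c_act59_27) (range_glue (range_of_allRange c_act59_28) (range_glue (range_of_allRange c_act59_29) (range_of_allRange c_act59_30)))))))))))))))))))))))))))))))
theorem h_act60_p0 : ∀ i, 0 ≤ i → i < 160000 → Nat.beq (actR60 i) i = true :=
  (range_glue (range_of_allRange c_act60_0) (range_glue (range_of_allRange c_act60_1) (range_glue (range_of_allRange c_act60_2) (range_glue (range_of_allRange c_act60_3) (range_glue (range_of_allRange c_act60_4) (range_glue (range_of_allRange c_act60_5) (range_glue (range_of_allRange c_act60_6) (range_glue (range_of_allRange c_act60_7) (range_glue (range_of_allRange c_act60_8) (range_glue (range_of_allRange c_act60_9) (range_glue (range_of_allRange c_act60_10) (range_glue (range_of_allRange c_act60_11) (range_glue (range_of_allRange c_act60_12) (range_glue (range_of_allRange c_act60_13) (range_glue (range_of_allRange c_act60_14) (range_glue (range_of_allRange c_act60_15) (range_glue (range_of_allRange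 c_act60_16) (range_glue (range_of_allRange c_act60_17) (range_glue (range_of_allRange c_act60_18) (range_glue (range_of_allRange c_act60_19) (range_glue (range_of_allRange c_act60_20) (range_glue (range_of_allRange c_act60_21) (range_glue (range_of_allRange c_act60_22) (range_glue (range_of_allRange c_act60_23) (range_glue (range_of_allRange c_act60_24) (range_glue (range_of_allRange c_act60_25) (range_glue (range_of_allRange c_act60_26) (range_glue (range_of_allRange c_act60_27) (range_glue (range_of_allRange c_act60_28) (range_glue (range_of_allRange c_act60_29) (range_glue (range_of_allRange c_act60_30) (range_glue (range_of_allRange c_act60_31) (range_glue (range_of_allRange c_act60_32) (range_glue (range_of_allRange c_act60_33) (range_glue (range_of_allRange c_act60_34) (range_glue (range_of_allRange c_act60_35) (range_glue (range_of_allRange c_act60_36) (range_glue (range_of_allRange c_act60_37) (range_glue (range_of_allRange c_act60_38) (range_of_allRange c_act60_39))))))))))))))))))))))))))))))))))))))))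
theorem h_act60_p1 : ∀ i, 160000 ≤ i → i < 185328 → Nat.beq (actR60 i) i = true :=
  (range_glue (range_of_allRange c_act60_40) (range_glue (range_of_allRange c_act60_41) (range_glue (range_of_allRange c_act60_42) (range_glue (range_of_allRange c_act60_43) (range_glue (range_of_allRange c_act60_44) (range_glue (range_of_allRange c_act60_45) (range_of_allRange c_act60_46)))))))
theorem h_act60 : ∀ i, 0 ≤ i → i < 185328 → Nat.beq (actR60 i) i = true :=
  (range_glue h_act60_p0 h_act60_p1)
theorem h_act61 : ∀ i, 0 ≤ i → i < 185328 → Nat.beq (actR61 i) i = true :=
  (range_glue (range_of_allRange c_act61_0) (range_glue (range_of_allRange c_act61_1) (range_glue (range_of_allRange c_act61_2) (range_glue (range_of_allRange c_act61_3) (range_glue (range_of_allRange c_act61_4) (range_glue (range_of_allRange c_act61_5) (range_glue (range_of_allRange c_act61_6) (range_glue (range_of_allRange c_act61_7) (range_glue (range_of_allRange c_act61_8) (range_glue (range_of_allRange c_act61_9) (range_glue (range_of_allRange c_act61_10) (range_glue (range_of_allRange c_act61_11) (range_glue (range_of_allRange c_act61_12) (range_glue (range_of_allRange c_act61_13) (range_glue (range_of_allRange c_act61_14) (range_glue (range_of_allRange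 c_act61_15) (range_glue (range_of_allRange c_act61_16) (range_glue (range_of_allRange c_act61_17) (range_glue (range_of_allRange c_act61_18) (range_glue (range_of_allRange c_act61_19) (range_glue (range_of_allRange c_act61_20) (range_glue (range_of_allRange c_act61_21) (range_glue (range_of_allRange c_act61_22) (range_glue (range_of_allRange c_act61_23) (range_of_allRange c_act61_24)))))))))))))))))))))))))
theorem h_act62 : ∀ i, 0 ≤ i → i < 185328 → Nat.beq (actR62 i) i = true :=
  (range_glue (range_of_allRange c_act62_0) (range_glue (range_of_allRange c_act62_1) (range_glue (range_of_allRange c_act62_2) (range_glue (range_of_allRange c_act62_3) (range_glue (range_of_allRange c_act62_4) (range_glue (range_of_allRange c_act62_5) (range_glue (range_of_allRange c_act62_6) (range_glue (range_of_allRange c_act62_7) (range_glue (range_of_allRange c_act62_8) (range_glue (range_of_allRange c_act62_9) (range_glue (range_of_allRange c_act62_10) (range_glue (range_of_allRange c_act62_11) (range_glue (range_of_allRange c_act62_12) (range_glue (range_of_allRange c_act62_13) (range_glue (range_of_allRange c_act62_14) (range_glue (range_of_allRange c_act62_15) (range_glue (range_of_allRange c_act62_16) (range_glue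 (range_of_allRange c_act62_17) (range_glue (range_of_allRange c_act62_18) (range_glue (range_of_allRange c_act62_19) (range_glue (range_of_allRange c_act62_20) (range_glue (range_of_allRange c_act62_21) (range_glue (range_of_allRange c_act62_22) (range_glue (range_of_allRange c_act62_23) (range_of_allRange c_act62_24)))))))))))))))))))))))))
theorem h_act63 : ∀ i, 0 ≤ i → i < 185328 → Nat.beq (actR63 i) i = true :=
  (range_glue (range_of_allRange c_act63_0) (range_glue (range_of_allRange c_act63_1) (range_glue (range_of_allRange c_act63_2) (range_glue (range_of_allRange c_act63_3) (range_glue (range_of_allRange c_act63_4) (range_glue (range_of_allRange c_act63_5) (range_glue (range_of_allRange c_act63_6) (range_glue (range_of_allRange c_act63_7) (range_glue (range_of_allRange c_act63_8) (range_glue (range_of_allRange c_act63_9) (range_glue (range_of_allRange c_act63_10) (range_glue (range_of_allRange c_act63_11) (range_glue (range_of_allRange c_act63_12) (range_glue (range_of_allRange c_act63_13) (range_glue (range_of_allRange c_act63_14) (range_glue (range_of_allRange c_act63_15) (range_glue (range_of_allRange c_act63_16) (range_glue (range_of_allRange c_act63_17) (range_glue (range_of_allRange c_act63_18)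 (range_glue (range_of_allRange c_act63_19) (range_glue (range_of_allRange c_act63_20) (range_glue (range_of_allRange c_act63_21) (range_glue (range_of_allRange c_act63_22) (range_glue (range_of_allRange c_act63_23) (range_glue (range_of_allRange c_act63_24) (range_glue (range_of_allRange c_act63_25) (range_glue (range_of_allRange c_act63_26) (range_glue (range_of_allRange c_act63_27) (range_glue (range_of_allRange c_act63_28) (range_glue (range_of_allRange c_act63_29) (range_of_allRange c_act63_30)))))))))))))))))))))))))))))))
theorem h_act64 : ∀ i, 0 ≤ i → i < 185328 → Nat.beq (actR64 i) i = true :=
  (range_glue (range_of_allRange c_act64_0) (range_glue (range_of_allRange c_act64_1) (range_glue (range_of_allRange c_act64_2) (range_glue (range_of_allRange c_act64_3) (range_glue (range_of_allRange c_act64_4) (range_glue (range_of_allRange c_act64_5) (range_glue (range_of_allRange c_act64_6) (range_glue (range_of_allRange c_act64_7) (range_glue (range_of_allRange c_act64_8) (range_glue (range_of_allRange c_act64_9) (range_glue (range_of_allRange c_act64_10) (range_glue (range_of_allRange c_act64_11) (range_glue (range_of_allRange c_act64_12) (range_glue (range_of_allRange c_act64_13) (range_glue (range_of_allRange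 c_act64_14) (range_glue (range_of_allRange c_act64_15) (range_glue (range_of_allRange c_act64_16) (range_glue (range_of_allRange c_act64_17) (range_glue (range_of_allRange c_act64_18) (range_glue (range_of_allRange c_act64_19) (range_glue (range_of_allRange c_act64_20) (range_glue (range_of_allRange c_act64_21) (range_glue (range_of_allRange c_act64_22) (range_glue (range_of_allRange c_act64_23) (range_glue (range_of_allRange c_act64_24) (range_glue (range_of_allRange c_act64_25) (range_glue (range_of_allRange c_act64_26) (range_glue (range_of_allRange c_act64_27) (range_glue (range_of_allRange c_act64_28) (range_glue (range_of_allRange c_act64_29) (range_of_allRange c_act64_30)))))))))))))))))))))))))))))))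
theorem h_act65 : ∀ i, 0 ≤ i → i < 185328 → Nat.beq (actR65 i) i = true :=
  (range_glue (range_of_allRange c_act65_0) (range_glue (range_of_allRange c_act65_1) (range_glue (range_of_allRange c_act65_2) (range_glue (range_of_allRange c_act65_3) (range_glue (range_of_allRange c_act65_4) (range_glue (range_of_allRange c_act65_5) (range_glue (range_of_allRange c_act65_6) (range_glue (range_of_allRange c_act65_7) (range_glue (range_of_allRange c_act65_8) (range_glue (range_of_allRange c_act65_9) (range_glue (range_of_allRange c_act65_10) (range_glue (range_of_allRange c_act65_11) (range_glue (range_of_allRange c_act65_12) (range_glue (range_of_allRange c_act65_13) (range_glue (range_of_allRange c_act65_14) (range_glue (range_of_allRange c_act65_15) (range_glue (range_of_allRange c_act65_16) (range_glue (range_of_allRange c_act65_17) (range_glue (range_of_allRange c_act65_18) (range_glue (range_of_allRange c_act65_19) (range_glue (range_of_allRange c_act65_20) (range_glue (range_of_allRange c_act65_21) (range_glue (range_of_allRange c_act65_22) (range_glue (range_of_allRange c_act65_23) (range_glue (range_of_allRange c_act65_24) (range_glue (range_of_allRange c_act65_25) (range_glue (range_of_allRange c_act65_26)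 (range_glue (range_of_allRange c_act65_27) (range_glue (range_of_allRange c_act65_28) (range_glue (range_of_allRange c_act65_29) (range_glue (range_of_allRange c_act65_30) (range_glue (range_of_allRange c_act65_31) (range_glue (range_of_allRange c_act65_32) (range_of_allRange c_act65_33))))))))))))))))))))))))))))))))))
theorem h_act66 : ∀ i, 0 ≤ i → i < 185328 → Nat.beq (actR66 i) i = true :=
  (range_glue (range_of_allRange c_act66_0) (range_glue (range_of_allRange c_act66_1) (range_glue (range_of_allRange c_act66_2) (range_glue (range_of_allRange c_act66_3) (range_glue (range_of_allRange c_act66_4) (range_glue (range_of_allRange c_act66_5) (range_glue (range_of_allRange c_act66_6) (range_glue (range_of_allRange c_act66_7) (range_glue (range_of_allRange c_act66_8) (range_glue (range_of_allRange c_act66_9) (range_glue (range_of_allRange c_act66_10) (range_glue (range_of_allRange c_act66_11) (range_glue (range_of_allRange c_act66_12) (range_glue (range_of_allRange c_act66_13) (range_glue (range_of_allRange c_act66_14) (range_glue (range_of_allRange c_act66_15) (range_glue (range_of_allRange c_act66_16) (range_glue (range_of_allRange c_act66_17) (range_glue (range_of_allRange c_act66_18) (range_glue (range_of_allRange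 c_act66_19) (range_glue (range_of_allRange c_act66_20) (range_glue (range_of_allRange c_act66_21) (range_glue (range_of_allRange c_act66_22) (range_glue (range_of_allRange c_act66_23) (range_glue (range_of_allRange c_act66_24) (range_glue (range_of_allRange c_act66_25) (range_glue (range_of_allRange c_act66_26) (range_glue (range_of_allRange c_act66_27) (range_glue (range_of_allRange c_act66_28) (range_glue (range_of_allRange c_act66_29) (range_glue (range_of_allRange c_act66_30) (range_glue (range_of_allRange c_act66_31) (range_glue (range_of_allRange c_act66_32) (range_glue (range_of_allRange c_act66_33) (range_glue (range_of_allRange c_act66_34) (range_glue (range_of_allRange c_act66_35) (range_glue (range_of_allRange c_act66_36) (range_of_allRange c_act66_37))))))))))))))))))))))))))))))))))))))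
theorem h_act67 : ∀ i, 0 ≤ i → i < 185328 → Nat.beq (actR67 i) i = true :=
  (range_glue (range_of_allRange c_act67_0) (range_glue (range_of_allRange c_act67_1) (range_glue (range_of_allRange c_act67_2) (range_glue (range_of_allRange c_act67_3) (range_glue (range_of_allRange c_act67_4) (range_glue (range_of_allRange c_act67_5) (range_glue (range_of_allRange c_act67_6) (range_glue (range_of_allRange c_act67_7) (range_glue (range_of_allRange c_act67_8) (range_glue (range_of_allRange c_act67_9) (range_glue (range_of_allRange c_act67_10) (range_glue (range_of_allRange c_act67_11) (range_glue (range_of_allRange c_act67_12) (range_glue (range_of_allRange c_act67_13) (range_glue (range_of_allRange c_act67_14) (range_glue (range_of_allRange c_act67_15) (range_glue (range_of_allRange c_act67_16) (range_glue (range_of_allRange c_act67_17) (range_glue (range_of_allRange c_act67_18) (range_glue (range_of_allRange c_act67_19) (range_glue (range_of_allRange c_act67_20) (range_glue (range_of_allRange c_act67_21) (range_glue (range_of_allRange c_act67_22) (range_glue (range_of_allRange c_act67_23) (range_glue (range_of_allRange c_act67_24) (range_glue (range_of_allRange c_act67_25) (range_glue (range_of_allRange c_act67_26)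 (range_glue (range_of_allRange c_act67_27) (range_glue (range_of_allRange c_act67_28) (range_glue (range_of_allRange c_act67_29) (range_glue (range_of_allRange c_act67_30) (range_glue (range_of_allRange c_act67_31) (range_glue (range_of_allRange c_act67_32) (range_glue (range_of_allRange c_act67_33) (range_glue (range_of_allRange c_act67_34) (range_glue (range_of_allRange c_act67_35) (range_glue (range_of_allRange c_act67_36) (range_of_allRange c_act67_37))))))))))))))))))))))))))))))))))))))
theorem h_act68 : ∀ i, 0 ≤ i → i < 185328 → Nat.beq (actR68 i) i = true :=
  (range_glue (range_of_allRange c_act68_0) (range_glue (range_of_allRange c_act68_1) (range_glue (range_of_allRange c_act68_2) (range_glue (range_of_allRange c_act68_3) (range_glue (range_of_allRange c_act68_4) (range_glue (range_of_allRange c_act68_5) (range_glue (range_of_allRange c_act68_6) (range_glue (range_of_allRange c_act68_7) (range_glue (range_of_allRange c_act68_8) (range_glue (range_of_allRange c_act68_9) (range_glue (range_of_allRange c_act68_10) (range_glue (range_of_allRange c_act68_11) (range_glue (range_of_allRange c_act68_12) (range_glue (range_of_allRange c_act68_13) (range_glue (range_of_allRange c_act68_14) (range_glue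 (range_of_allRange c_act68_15) (range_glue (range_of_allRange c_act68_16) (range_glue (range_of_allRange c_act68_17) (range_glue (range_of_allRange c_act68_18) (range_glue (range_of_allRange c_act68_19) (range_glue (range_of_allRange c_act68_20) (range_glue (range_of_allRange c_act68_21) (range_glue (range_of_allRange c_act68_22) (range_glue (range_of_allRange c_act68_23) (range_glue (range_of_allRange c_act68_24) (range_glue (range_of_allRange c_act68_25) (range_glue (range_of_allRange c_act68_26) (range_glue (range_of_allRange c_act68_27) (range_glue (range_of_allRange c_act68_28) (range_glue (range_of_allRange c_act68_29) (range_glue (range_of_allRange c_act68_30) (range_glue (range_of_allRange c_act68_31) (range_glue (range_of_allRange c_act68_32) (range_glue (range_of_allRange c_act68_33) (range_glue (range_of_allRange c_act68_34) (range_glue (range_of_allRange c_act68_35) (range_glue (range_of_allRange c_act68_36) (range_of_allRange c_act68_37))))))))))))))))))))))))))))))))))))))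
theorem h_act69 : ∀ i, 0 ≤ i → i < 185328 → Nat.beq (actR69 i) i = true :=
  (range_glue (range_of_allRange c_act69_0) (range_glue (range_of_allRange c_act69_1) (range_glue (range_of_allRange c_act69_2) (range_glue (range_of_allRange c_act69_3) (range_glue (range_of_allRange c_act69_4) (range_glue (range_of_allRange c_act69_5) (range_glue (range_of_allRange c_act69_6) (range_glue (range_of_allRange c_act69_7) (range_glue (range_of_allRange c_act69_8) (range_glue (range_of_allRange c_act69_9) (range_glue (range_of_allRange c_act69_10) (range_glue (range_of_allRange c_act69_11) (range_glue (range_of_allRange c_act69_12) (range_glue (range_of_allRange c_act69_13) (range_glue (range_of_allRange c_act69_14) (range_glue (range_of_allRange c_act69_15) (range_glue (range_of_allRange c_act69_16) (range_glue (range_of_allRange c_act69_17) (range_glue (range_of_allRange c_act69_18) (range_glue (range_of_allRange c_act69_19) (range_glue (range_of_allRange c_act69_20) (range_glue (range_of_allRange c_act69_21) (range_glue (range_of_allRange c_act69_22) (range_glue (range_of_allRange c_act69_23) (range_glue (range_of_allRange c_act69_24) (range_glue (range_of_allRange c_act69_25) (range_glue (range_of_allRange c_act69_26)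 (range_glue (range_of_allRange c_act69_27) (range_glue (range_of_allRange c_act69_28) (range_glue (range_of_allRange c_act69_29) (range_glue (range_of_allRange c_act69_30) (range_glue (range_of_allRange c_act69_31) (range_glue (range_of_allRange c_act69_32) (range_glue (range_of_allRange c_act69_33) (range_glue (range_of_allRange c_act69_34) (range_glue (range_of_allRange c_act69_35) (range_glue (range_of_allRange c_act69_36) (range_of_allRange c_act69_37))))))))))))))))))))))))))))))))))))))
theorem h_act70_p0 : ∀ i, 0 ≤ i → i < 184600 → Nat.beq (actR70 i) i = true :=
  (range_glue (range_of_allRange c_act70_0) (range_glue (range_of_allRange c_act70_1) (range_glue (range_of_allRange c_act70_2) (range_glue (range_of_allRange c_act70_3) (range_glue (range_of_allRange c_act70_4) (range_glue (range_of_allRange c_act70_5) (range_glue (range_of_allRange c_act70_6) (range_glue (range_of_allRange c_act70_7) (range_glue (range_of_allRange c_act70_8) (range_glue (range_of_allRange c_act70_9) (range_glue (range_of_allRange c_act70_10) (range_glue (range_of_allRange c_act70_11) (range_glue (range_of_allRange c_act70_12) (range_glue (range_of_allRange c_act70_13) (range_glue (range_of_allRange c_act70_14) (range_glue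 (range_of_allRange c_act70_15) (range_glue (range_of_allRange c_act70_16) (range_glue (range_of_allRange c_act70_17) (range_glue (range_of_allRange c_act70_18) (range_glue (range_of_allRange c_act70_19) (range_glue (range_of_allRange c_act70_20) (range_glue (range_of_allRange c_act70_21) (range_glue (range_of_allRange c_act70_22) (range_glue (range_of_allRange c_act70_23) (range_glue (range_of_allRange c_act70_24) (range_glue (range_of_allRange c_act70_25) (range_glue (range_of_allRange c_act70_26) (range_glue (range_of_allRange c_act70_27) (range_glue (range_of_allRange c_act70_28) (range_glue (range_of_allRange c_act70_29) (range_glue (range_of_allRange c_act70_30) (range_glue (range_of_allRange c_act70_31) (range_glue (range_of_allRange c_act70_32) (range_glue (range_of_allRange c_act70_33) (range_glue (range_of_allRange c_act70_34) (range_glue (range_of_allRange c_act70_35) (range_glue (range_of_allRange c_act70_36) (range_glue (range_of_allRange c_act70_37) (range_glue (range_of_allRange c_act70_38) (range_of_allRange c_act70_39))))))))))))))))))))))))))))))))))))))))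
theorem h_act70_p1 : ∀ i, 184600 ≤ i → i < 185328 → Nat.beq (actR70 i) i = true :=
  (range_of_allRange c_act70_40)
theorem h_act70 : ∀ i, 0 ≤ i → i < 185328 → Nat.beq (actR70 i) i = true :=
  (range_glue h_act70_p0 h_act70_p1)
theorem h_act71_p0 : ∀ i, 0 ≤ i → i < 171400 → Nat.beq (actR71 i) i = true :=
  (range_glue (range_of_allRange c_act71_0) (range_glue (range_of_allRange c_act71_1) (range_glue (range_of_allRange c_act71_2) (range_glue (range_of_allRange c_act71_3) (range_glue (range_of_allRange c_act71_4) (range_glue (range_of_allRange c_act71_5) (range_glue (range_of_allRange c_act71_6) (range_glue (range_of_allRange c_act71_7) (range_glue (range_of_allRange c_act71_8) (range_glue (range_of_allRange c_act71_9) (range_glue (range_of_allRange c_act71_10) (range_glue (range_of_allRange c_act71_11) (range_glue (range_of_allRange c_act71_12) (range_glue (range_of_allRange c_act71_13) (range_glue (range_of_allRange c_act71_14) (range_glue (range_of_allRange c_act71_15) (range_glue (range_of_allRange c_act71_16) (range_glue (range_of_allRange c_act71_17) (range_glue (range_of_allRange c_act71_18) (range_glue (range_of_allRange c_act71_19) (range_glue (range_of_allRange c_act71_20) (range_glue (range_of_allRange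 c_act71_21) (range_glue (range_of_allRange c_act71_22) (range_glue (range_of_allRange c_act71_23) (range_glue (range_of_allRange c_act71_24) (range_glue (range_of_allRange c_act71_25) (range_glue (range_of_allRange c_act71_26) (range_glue (range_of_allRange c_act71_27) (range_glue (range_of_allRange c_act71_28) (range_glue (range_of_allRange c_act71_29) (range_glue (range_of_allRange c_act71_30) (range_glue (range_of_allRange c_act71_31) (range_glue (range_of_allRange c_act71_32) (range_glue (range_of_allRange c_act71_33) (range_glue (range_of_allRange c_act71_34) (range_glue (range_of_allRange c_act71_35) (range_glue (range_of_allRange c_act71_36) (range_glue (range_of_allRange c_act71_37) (range_glue (range_of_allRange c_act71_38) (range_of_allRange c_act71_39))))))))))))))))))))))))))))))))))))))))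
theorem h_act71_p1 : ∀ i, 171400 ≤ i → i < 185328 → Nat.beq (actR71 i) i = true :=
  (range_glue (range_of_allRange c_act71_40) (range_glue (range_of_allRange c_act71_41) (range_glue (range_of_allRange c_act71_42) (range_of_allRange c_act71_43))))
theorem h_act71 : ∀ i, 0 ≤ i → i < 185328 → Nat.beq (actR71 i) i = true :=
  (range_glue h_act71_p0 h_act71_p1)
theorem h_act72_p0 : ∀ i, 0 ≤ i → i < 171400 → Nat.beq (actR72 i) i = true :=
  (range_glue (range_of_allRange c_act72_0) (range_glue (range_of_allRange c_act72_1) (range_glue (range_of_allRange c_act72_2) (range_glue (range_of_allRange c_act72_3) (range_glue (range_of_allRange c_act72_4) (range_glue (range_of_allRange c_act72_5) (range_glue (range_of_allRange c_act72_6) (range_glue (range_of_allRange c_act72_7) (range_glue (range_of_allRange c_act72_8) (range_glue (range_of_allRange c_act72_9) (range_glue (range_of_allRange c_act72_10) (range_glue (range_of_allRange c_act72_11) (range_glue (range_of_allRange c_act72_12) (range_glue (range_of_allRange c_act72_13) (range_glue (range_of_allRange c_act72_14) (range_glue (range_of_allRange c_act72_15) (range_glue (range_of_allRange c_act72_16) (range_glue (range_of_allRange c_act72_17) (range_glue (range_of_allRange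 c_act72_18) (range_glue (range_of_allRange c_act72_19) (range_glue (range_of_allRange c_act72_20) (range_glue (range_of_allRange c_act72_21) (range_glue (range_of_allRange c_act72_22) (range_glue (range_of_allRange c_act72_23) (range_glue (range_of_allRange c_act72_24) (range_glue (range_of_allRange c_act72_25) (range_glue (range_of_allRange c_act72_26) (range_glue (range_of_allRange c_act72_27) (range_glue (range_of_allRange c_act72_28) (range_glue (range_of_allRange c_act72_29) (range_glue (range_of_allRange c_act72_30) (range_glue (range_of_allRange c_act72_31) (range_glue (range_of_allRange c_act72_32) (range_glue (range_of_allRange c_act72_33) (range_glue (range_of_allRange c_act72_34) (range_glue (range_of_allRange c_act72_35) (range_glue (range_of_allRange c_act72_36) (range_glue (range_of_allRange c_act72_37) (range_glue (range_of_allRange c_act72_38) (range_of_allRange c_act72_39))))))))))))))))))))))))))))))))))))))))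
theorem h_act72_p1 : ∀ i, 171400 ≤ i → i < 185328 → Nat.beq (actR72 i) i = true :=
  (range_glue (range_of_allRange c_act72_40) (range_glue (range_of_allRange c_act72_41) (range_glue (range_of_allRange c_act72_42) (range_of_allRange c_act72_43))))
theorem h_act72 : ∀ i, 0 ≤ i → i < 185328 → Nat.beq (actR72 i) i = true :=
  (range_glue h_act72_p0 h_act72_p1)
theorem h_act73_p0 : ∀ i, 0 ≤ i → i < 171400 → Nat.beq (actR73 i) i = true :=
  (range_glue (range_of_allRange c_act73_0) (range_glue (range_of_allRange c_act73_1) (range_glue (range_of_allRange c_act73_2) (range_glue (range_of_allRange c_act73_3) (range_glue (range_of_allRange c_act73_4) (range_glue (range_of_allRange c_act73_5) (range_glue (range_of_allRange c_act73_6) (range_glue (range_of_allRange c_act73_7) (range_glue (range_of_allRange c_act73_8) (range_glue (range_of_allRange c_act73_9) (range_glue (range_of_allRange c_act73_10) (range_glue (range_of_allRange c_act73_11) (range_glue (range_of_allRange c_act73_12) (range_glue (range_of_allRange c_act73_13) (range_glue (range_of_allRange c_act73_14) (range_glue (range_of_allRange c_act73_15) (range_glue (range_of_allRange c_act73_16) (range_glue (range_of_allRange c_act73_17) (range_glue (range_of_allRange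 c_act73_18) (range_glue (range_of_allRange c_act73_19) (range_glue (range_of_allRange c_act73_20) (range_glue (range_of_allRange c_act73_21) (range_glue (range_of_allRange c_act73_22) (range_glue (range_of_allRange c_act73_23) (range_glue (range_of_allRange c_act73_24) (range_glue (range_of_allRange c_act73_25) (range_glue (range_of_allRange c_act73_26) (range_glue (range_of_allRange c_act73_27) (range_glue (range_of_allRange c_act73_28) (range_glue (range_of_allRange c_act73_29) (range_glue (range_of_allRange c_act73_30) (range_glue (range_of_allRange c_act73_31) (range_glue (range_of_allRange c_act73_32) (range_glue (range_of_allRange c_act73_33) (range_glue (range_of_allRange c_act73_34) (range_glue (range_of_allRange c_act73_35) (range_glue (range_of_allRange c_act73_36) (range_glue (range_of_allRange c_act73_37) (range_glue (range_of_allRange c_act73_38) (range_of_allRange c_act73_39))))))))))))))))))))))))))))))))))))))))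
theorem h_act73_p1 : ∀ i, 171400 ≤ i → i < 185328 → Nat.beq (actR73 i) i = true :=
  (range_glue (range_of_allRange c_act73_40) (range_glue (range_of_allRange c_act73_41) (range_glue (range_of_allRange c_act73_42) (range_of_allRange c_act73_43))))
theorem h_act73 : ∀ i, 0 ≤ i → i < 185328 → Nat.beq (actR73 i) i = true :=
  (range_glue h_act73_p0 h_act73_p1)
theorem h_act74_p0 : ∀ i, 0 ≤ i → i < 171400 → Nat.beq (actR74 i) i = true :=
  (range_glue (range_of_allRange c_act74_0) (range_glue (range_of_allRange c_act74_1) (range_glue (range_of_allRange c_act74_2) (range_glue (range_of_allRange c_act74_3) (range_glue (range_of_allRange c_act74_4) (range_glue (range_of_allRange c_act74_5) (range_glue (range_of_allRange c_act74_6) (range_glue (range_of_allRange c_act74_7) (range_glue (range_of_allRange c_act74_8) (range_glue (range_of_allRange c_act74_9) (range_glue (range_of_allRange c_act74_10) (range_glue (range_of_allRange c_act74_11) (range_glue (range_of_allRange c_act74_12) (range_glue (range_of_allRange c_act74_13) (range_glue (range_of_allRange c_act74_14) (range_glue (range_of_allRange c_act74_15) (range_glue (range_of_allRange c_act74_16) (range_glue (range_of_allRange c_act74_17) (range_glue (range_of_allRange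 c_act74_18) (range_glue (range_of_allRange c_act74_19) (range_glue (range_of_allRange c_act74_20) (range_glue (range_of_allRange c_act74_21) (range_glue (range_of_allRange c_act74_22) (range_glue (range_of_allRange c_act74_23) (range_glue (range_of_allRange c_act74_24) (range_glue (range_of_allRange c_act74_25) (range_glue (range_of_allRange c_act74_26) (range_glue (range_of_allRange c_act74_27) (range_glue (range_of_allRange c_act74_28) (range_glue (range_of_allRange c_act74_29) (range_glue (range_of_allRange c_act74_30) (range_glue (range_of_allRange c_act74_31) (range_glue (range_of_allRange c_act74_32) (range_glue (range_of_allRange c_act74_33) (range_glue (range_of_allRange c_act74_34) (range_glue (range_of_allRange c_act74_35) (range_glue (range_of_allRange c_act74_36) (range_glue (range_of_allRange c_act74_37) (range_glue (range_of_allRange c_act74_38) (range_of_allRange c_act74_39))))))))))))))))))))))))))))))))))))))))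
theorem h_act74_p1 : ∀ i, 171400 ≤ i → i < 185328 → Nat.beq (actR74 i) i = true :=
  (range_glue (range_of_allRange c_act74_40) (range_glue (range_of_allRange c_act74_41) (range_glue (range_of_allRange c_act74_42) (range_of_allRange c_act74_43))))
theorem h_act74 : ∀ i, 0 ≤ i → i < 185328 → Nat.beq (actR74 i) i = true :=
  (range_glue h_act74_p0 h_act74_p1)
theorem h_act75_p0 : ∀ i, 0 ≤ i → i < 171400 → Nat.beq (actR75 i) i = true :=
  (range_glue (range_of_allRange c_act75_0) (range_glue (range_of_allRange c_act75_1) (range_glue (range_of_allRange c_act75_2) (range_glue (range_of_allRange c_act75_3) (range_glue (range_of_allRange c_act75_4) (range_glue (range_of_allRange c_act75_5) (range_glue (range_of_allRange c_act75_6) (range_glue (range_of_allRange c_act75_7) (range_glue (range_of_allRange c_act75_8) (range_glue (range_of_allRange c_act75_9) (range_glue (range_of_allRange c_act75_10) (range_glue (range_of_allRange c_act75_11) (range_glue (range_of_allRange c_act75_12) (range_glue (range_of_allRange c_act75_13) (range_glue (range_of_allRange c_act75_14) (range_glue (range_of_allRange c_act75_15) (range_glue (range_of_allRange c_act75_16) (range_glue (range_of_allRange c_act75_17) (range_glue (range_of_allRange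 c_act75_18) (range_glue (range_of_allRange c_act75_19) (range_glue (range_of_allRange c_act75_20) (range_glue (range_of_allRange c_act75_21) (range_glue (range_of_allRange c_act75_22) (range_glue (range_of_allRange c_act75_23) (range_glue (range_of_allRange c_act75_24) (range_glue (range_of_allRange c_act75_25) (range_glue (range_of_allRange c_act75_26) (range_glue (range_of_allRange c_act75_27) (range_glue (range_of_allRange c_act75_28) (range_glue (range_of_allRange c_act75_29) (range_glue (range_of_allRange c_act75_30) (range_glue (range_of_allRange c_act75_31) (range_glue (range_of_allRange c_act75_32) (range_glue (range_of_allRange c_act75_33) (range_glue (range_of_allRange c_act75_34) (range_glue (range_of_allRange c_act75_35) (range_glue (range_of_allRange c_act75_36) (range_glue (range_of_allRange c_act75_37) (range_glue (range_of_allRange c_act75_38) (range_of_allRange c_act75_39))))))))))))))))))))))))))))))))))))))))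
theorem h_act75_p1 : ∀ i, 171400 ≤ i → i < 185328 → Nat.beq (actR75 i) i = true :=
  (range_glue (range_of_allRange c_act75_40) (range_glue (range_of_allRange c_act75_41) (range_glue (range_of_allRange c_act75_42) (range_of_allRange c_act75_43))))
theorem h_act75 : ∀ i, 0 ≤ i → i < 185328 → Nat.beq (actR75 i) i = true :=
  (range_glue h_act75_p0 h_act75_p1)
theorem h_act76_p0 : ∀ i, 0 ≤ i → i < 171400 → Nat.beq (actR76 i) i = true :=
  (range_glue (range_of_allRange c_act76_0) (range_glue (range_of_allRange c_act76_1) (range_glue (range_of_allRange c_act76_2) (range_glue (range_of_allRange c_act76_3) (range_glue (range_of_allRange c_act76_4) (range_glue (range_of_allRange c_act76_5) (range_glue (range_of_allRange c_act76_6) (range_glue (range_of_allRange c_act76_7) (range_glue (range_of_allRange c_act76_8) (range_glue (range_of_allRange c_act76_9) (range_glue (range_of_allRange c_act76_10) (range_glue (range_of_allRange c_act76_11) (range_glue (range_of_allRange c_act76_12) (range_glue (range_of_allRange c_act76_13) (range_glue (range_of_allRange c_act76_14) (range_glue (range_of_allRange c_act76_15) (range_glue (range_of_allRange c_act76_16) (range_glue (range_of_allRange c_act76_17) (range_glue (range_of_allRange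 c_act76_18) (range_glue (range_of_allRange c_act76_19) (range_glue (range_of_allRange c_act76_20) (range_glue (range_of_allRange c_act76_21) (range_glue (range_of_allRange c_act76_22) (range_glue (range_of_allRange c_act76_23) (range_glue (range_of_allRange c_act76_24) (range_glue (range_of_allRange c_act76_25) (range_glue (range_of_allRange c_act76_26) (range_glue (range_of_allRange c_act76_27) (range_glue (range_of_allRange c_act76_28) (range_glue (range_of_allRange c_act76_29) (range_glue (range_of_allRange c_act76_30) (range_glue (range_of_allRange c_act76_31) (range_glue (range_of_allRange c_act76_32) (range_glue (range_of_allRange c_act76_33) (range_glue (range_of_allRange c_act76_34) (range_glue (range_of_allRange c_act76_35) (range_glue (range_of_allRange c_act76_36) (range_glue (range_of_allRange c_act76_37) (range_glue (range_of_allRange c_act76_38) (range_of_allRange c_act76_39))))))))))))))))))))))))))))))))))))))))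
theorem h_act76_p1 : ∀ i, 171400 ≤ i → i < 185328 → Nat.beq (actR76 i) i = true :=
  (range_glue (range_of_allRange c_act76_40) (range_glue (range_of_allRange c_act76_41) (range_glue (range_of_allRange c_act76_42) (range_of_allRange c_act76_43))))
theorem h_act76 : ∀ i, 0 ≤ i → i < 185328 → Nat.beq (actR76 i) i = true :=
  (range_glue h_act76_p0 h_act76_p1)
theorem h_act77_p0 : ∀ i, 0 ≤ i → i < 171400 → Nat.beq (actR77 i) i = true :=
  (range_glue (range_of_allRange c_act77_0) (range_glue (range_of_allRange c_act77_1) (range_glue (range_of_allRange c_act77_2) (range_glue (range_of_allRange c_act77_3) (range_glue (range_of_allRange c_act77_4) (range_glue (range_of_allRange c_act77_5) (range_glue (range_of_allRange c_act77_6) (range_glue (range_of_allRange c_act77_7) (range_glue (range_of_allRange c_act77_8) (range_glue (range_of_allRange c_act77_9) (range_glue (range_of_allRange c_act77_10) (range_glue (range_of_allRange c_act77_11) (range_glue (range_of_allRange c_act77_12) (range_glue (range_of_allRange c_act77_13) (range_glue (range_of_allRange c_act77_14) (range_glue (range_of_allRange c_act77_15) (range_glue (range_of_allRange c_act77_16) (range_glue (range_of_allRange c_act77_17) (range_glue (range_of_allRange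 c_act77_18) (range_glue (range_of_allRange c_act77_19) (range_glue (range_of_allRange c_act77_20) (range_glue (range_of_allRange c_act77_21) (range_glue (range_of_allRange c_act77_22) (range_glue (range_of_allRange c_act77_23) (range_glue (range_of_allRange c_act77_24) (range_glue (range_of_allRange c_act77_25) (range_glue (range_of_allRange c_act77_26) (range_glue (range_of_allRange c_act77_27) (range_glue (range_of_allRange c_act77_28) (range_glue (range_of_allRange c_act77_29) (range_glue (range_of_allRange c_act77_30) (range_glue (range_of_allRange c_act77_31) (range_glue (range_of_allRange c_act77_32) (range_glue (range_of_allRange c_act77_33) (range_glue (range_of_allRange c_act77_34) (range_glue (range_of_allRange c_act77_35) (range_glue (range_of_allRange c_act77_36) (range_glue (range_of_allRange c_act77_37) (range_glue (range_of_allRange c_act77_38) (range_of_allRange c_act77_39))))))))))))))))))))))))))))))))))))))))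
theorem h_act77_p1 : ∀ i, 171400 ≤ i → i < 185328 → Nat.beq (actR77 i) i = true :=
  (range_glue (range_of_allRange c_act77_40) (range_glue (range_of_allRange c_act77_41) (range_glue (range_of_allRange c_act77_42) (range_of_allRange c_act77_43))))
theorem h_act77 : ∀ i, 0 ≤ i → i < 185328 → Nat.beq (actR77 i) i = true :=
  (range_glue h_act77_p0 h_act77_p1)
theorem h_act78_p0 : ∀ i, 0 ≤ i → i < 141160 → Nat.beq (actR78 i) i = true :=
  (range_glue (range_of_allRange c_act78_0) (range_glue (range_of_allRange c_act78_1) (range_glue (range_of_allRange c_act78_2) (range_glue (range_of_allRange c_act78_3) (range_glue (range_of_allRange c_act78_4) (range_glue (range_of_allRange c_act78_5) (range_glue (range_of_allRange c_act78_6) (range_glue (range_of_allRange c_act78_7) (range_glue (range_of_allRange c_act78_8) (range_glue (range_of_allRange c_act78_9) (range_glue (range_of_allRange c_act78_10) (range_glue (range_of_allRange c_act78_11) (range_glue (range_of_allRange c_act78_12) (range_glue (range_of_allRange c_act78_13) (range_glue (range_of_allRange c_act78_14) (range_glue (range_of_allRange c_act78_15) (range_glue (range_of_allRange c_act78_16) (range_glue (range_of_allRange c_act78_17) (range_glue (range_of_allRange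 c_act78_18) (range_glue (range_of_allRange c_act78_19) (range_glue (range_of_allRange c_act78_20) (range_glue (range_of_allRange c_act78_21) (range_glue (range_of_allRange c_act78_22) (range_glue (range_of_allRange c_act78_23) (range_glue (range_of_allRange c_act78_24) (range_glue (range_of_allRange c_act78_25) (range_glue (range_of_allRange c_act78_26) (range_glue (range_of_allRange c_act78_27) (range_glue (range_of_allRange c_act78_28) (range_glue (range_of_allRange c_act78_29) (range_glue (range_of_allRange c_act78_30) (range_glue (range_of_allRange c_act78_31) (range_glue (range_of_allRange c_act78_32) (range_glue (range_of_allRange c_act78_33) (range_glue (range_of_allRange c_act78_34) (range_glue (range_of_allRange c_act78_35) (range_glue (range_of_allRange c_act78_36) (range_glue (range_of_allRange c_act78_37) (range_glue (range_of_allRange c_act78_38) (range_of_allRange c_act78_39))))))))))))))))))))))))))))))))))))))))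
theorem h_act78_p1 : ∀ i, 141160 ≤ i → i < 185328 → Nat.beq (actR78 i) i = true :=
  (range_glue (range_of_allRange c_act78_40) (range_glue (range_of_allRange c_act78_41) (range_glue (range_of_allRange c_act78_42) (range_glue (range_of_allRange c_act78_43) (range_glue (range_of_allRange c_act78_44) (range_glue (range_of_allRange c_act78_45) (range_glue (range_of_allRange c_act78_46) (range_glue (range_of_allRange c_act78_47) (range_glue (range_of_allRange c_act78_48) (range_glue (range_of_allRange c_act78_49) (range_glue (range_of_allRange c_act78_50) (range_glue (range_of_allRange c_act78_51) (range_of_allRange c_act78_52)))))))))))))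
theorem h_act78 : ∀ i, 0 ≤ i → i < 185328 → Nat.beq (actR78 i) i = true :=
  (range_glue h_act78_p0 h_act78_p1)
theorem h_act79_p0 : ∀ i, 0 ≤ i → i < 120000 → Nat.beq (actR79 i) i = true :=
  (range_glue (range_of_allRange c_act79_0) (range_glue (range_of_allRange c_act79_1) (range_glue (range_of_allRange c_act79_2) (range_glue (range_of_allRange c_act79_3) (range_glue (range_of_allRange c_act79_4) (range_glue (range_of_allRange c_act79_5) (range_glue (range_of_allRange c_act79_6) (range_glue (range_of_allRange c_act79_7) (range_glue (range_of_allRange c_act79_8) (range_glue (range_of_allRange c_act79_9) (range_glue (range_of_allRange c_act79_10) (range_glue (range_of_allRange c_act79_11) (range_glue (range_of_allRange c_act79_12) (range_glue (range_of_allRange c_act79_13) (range_glue (range_of_allRange c_act79_14) (range_glue (range_of_allRange c_act79_15) (range_glue (range_of_allRange c_act79_16) (range_glue (range_of_allRange c_act79_17) (range_glue (range_of_allRange c_act79_18) (range_glue (range_of_allRange c_act79_19) (range_glue (range_of_allRange c_act79_20) (range_glue (range_of_allRange c_act79_21) (range_glue (range_of_allRange c_act79_22) (range_glue (range_of_allRange c_act79_23) (range_glue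 (range_of_allRange c_act79_24) (range_glue (range_of_allRange c_act79_25) (range_glue (range_of_allRange c_act79_26) (range_glue (range_of_allRange c_act79_27) (range_glue (range_of_allRange c_act79_28) (range_glue (range_of_allRange c_act79_29) (range_glue (range_of_allRange c_act79_30) (range_glue (range_of_allRange c_act79_31) (range_glue (range_of_allRange c_act79_32) (range_glue (range_of_allRange c_act79_33) (range_glue (range_of_allRange c_act79_34) (range_glue (range_of_allRange c_act79_35) (range_glue (range_of_allRange c_act79_36) (range_glue (range_of_allRange c_act79_37) (range_glue (range_of_allRange c_act79_38) (range_of_allRange c_act79_39))))))))))))))))))))))))))))))))))))))))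
theorem h_act79_p1 : ∀ i, 120000 ≤ i → i < 185328 → Nat.beq (actR79 i) i = true :=
  (range_glue (range_of_allRange c_act79_40) (range_glue (range_of_allRange c_act79_41) (range_glue (range_of_allRange c_act79_42) (range_glue (range_of_allRange c_act79_43) (range_glue (range_of_allRange c_act79_44) (range_glue (range_of_allRange c_act79_45) (range_glue (range_of_allRange c_act79_46) (range_glue (range_of_allRange c_act79_47) (range_glue (range_of_allRange c_act79_48) (range_glue (range_of_allRange c_act79_49) (range_glue (range_of_allRange c_act79_50) (range_glue (range_of_allRange c_act79_51) (range_glue (range_of_allRange c_act79_52) (range_glue (range_of_allRange c_act79_53) (range_glue (range_of_allRange c_act79_54) (range_glue (range_of_allRange c_act79_55) (range_glue (range_of_allRange c_act79_56) (range_glue (range_of_allRange c_act79_57) (range_glue (range_of_allRange c_act79_58) (range_glue (range_of_allRange c_act79_59) (range_glue (range_of_allRange c_act79_60) (range_of_allRange c_act79_61))))))))))))))))))))))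
theorem h_act79 : ∀ i, 0 ≤ i → i < 185328 → Nat.beq (actR79 i) i = true :=
  (range_glue h_act79_p0 h_act79_p1)
theorem h_act80 : ∀ i, 0 ≤ i → i < 185328 → Nat.beq (actR80 i) i = true :=
  (range_glue (range_of_allRange c_act80_0) (range_glue (range_of_allRange c_act80_1) (range_glue (range_of_allRange c_act80_2) (range_glue (range_of_allRange c_act80_3) (range_glue (range_of_allRange c_act80_4) (range_glue (range_of_allRange c_act80_5) (range_glue (range_of_allRange c_act80_6) (range_glue (range_of_allRange c_act80_7) (range_glue (range_of_allRange c_act80_8) (range_of_allRange c_act80_9))))))))))
theorem h_act81 : ∀ i, 0 ≤ i → i < 185328 → Nat.beq (actR81 i) i = true :=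
  (range_glue (range_of_allRange c_act81_0) (range_glue (range_of_allRange c_act81_1) (range_glue (range_of_allRange c_act81_2) (range_glue (range_of_allRange c_act81_3) (range_glue (range_of_allRange c_act81_4) (range_glue (range_of_allRange c_act81_5) (range_glue (range_of_allRange c_act81_6) (range_glue (range_of_allRange c_act81_7) (range_glue (range_of_allRange c_act81_8) (range_glue (range_of_allRange c_act81_9) (range_glue (range_of_allRange c_act81_10) (range_glue (range_of_allRange c_act81_11) (range_of_allRange c_act81_12)))))))))))))
theorem h_act82 : ∀ i, 0 ≤ i → i < 185328 → Nat.beq (actR82 i) i = true :=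
  (range_glue (range_of_allRange c_act82_0) (range_glue (range_of_allRange c_act82_1) (range_glue (range_of_allRange c_act82_2) (range_glue (range_of_allRange c_act82_3) (range_glue (range_of_allRange c_act82_4) (range_glue (range_of_allRange c_act82_5) (range_glue (range_of_allRange c_act82_6) (range_glue (range_of_allRange c_act82_7) (range_glue (range_of_allRange c_act82_8) (range_glue (range_of_allRange c_act82_9) (range_glue (range_of_allRange c_act82_10) (range_glue (range_of_allRange c_act82_11) (range_of_allRange c_act82_12)))))))))))))
theorem h_act83 : ∀ i, 0 ≤ i → i < 185328 → Nat.beq (actR83 i) i = true :=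
  (range_glue (range_of_allRange c_act83_0) (range_glue (range_of_allRange c_act83_1) (range_glue (range_of_allRange c_act83_2) (range_glue (range_of_allRange c_act83_3) (range_glue (range_of_allRange c_act83_4) (range_glue (range_of_allRange c_act83_5) (range_glue (range_of_allRange c_act83_6) (range_glue (range_of_allRange c_act83_7) (range_glue (range_of_allRange c_act83_8) (range_glue (range_of_allRange c_act83_9) (range_glue (range_of_allRange c_act83_10) (range_glue (range_of_allRange c_act83_11) (range_of_allRange c_act83_12)))))))))))))
theorem h_act84 : ∀ i, 0 ≤ i → i < 185328 → Nat.beq (actR84 i) i = true :=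
  (range_glue (range_of_allRange c_act84_0) (range_glue (range_of_allRange c_act84_1) (range_glue (range_of_allRange c_act84_2) (range_glue (range_of_allRange c_act84_3) (range_glue (range_of_allRange c_act84_4) (range_glue (range_of_allRange c_act84_5) (range_glue (range_of_allRange c_act84_6) (range_glue (range_of_allRange c_act84_7) (range_glue (range_of_allRange c_act84_8) (range_glue (range_of_allRange c_act84_9) (range_glue (range_of_allRange c_act84_10) (range_glue (range_of_allRange c_act84_11) (range_of_allRange c_act84_12)))))))))))))
theorem h_act85 : ∀ i, 0 ≤ i → i < 185328 → Nat.beq (actR85 i) i = true :=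
  (range_glue (range_of_allRange c_act85_0) (range_glue (range_of_allRange c_act85_1) (range_glue (range_of_allRange c_act85_2) (range_glue (range_of_allRange c_act85_3) (range_glue (range_of_allRange c_act85_4) (range_glue (range_of_allRange c_act85_5) (range_glue (range_of_allRange c_act85_6) (range_glue (range_of_allRange c_act85_7) (range_glue (range_of_allRange c_act85_8) (range_glue (range_of_allRange c_act85_9) (range_glue (range_of_allRange c_act85_10) (range_glue (range_of_allRange c_act85_11) (range_of_allRange c_act85_12)))))))))))))
theorem h_act86 : ∀ i, 0 ≤ i → i < 185328 → Nat.beq (actR86 i) i = true :=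
  (range_glue (range_of_allRange c_act86_0) (range_glue (range_of_allRange c_act86_1) (range_glue (range_of_allRange c_act86_2) (range_glue (range_of_allRange c_act86_3) (range_glue (range_of_allRange c_act86_4) (range_glue (range_of_allRange c_act86_5) (range_glue (range_of_allRange c_act86_6) (range_glue (range_of_allRange c_act86_7) (range_glue (range_of_allRange c_act86_8) (range_glue (range_of_allRange c_act86_9) (range_glue (range_of_allRange c_act86_10) (range_glue (range_of_allRange c_act86_11) (range_of_allRange c_act86_12)))))))))))))
theorem h_act87 : ∀ i, 0 ≤ i → i < 185328 → Nat.beq (actR87 i) i = true :=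
  (range_glue (range_of_allRange c_act87_0) (range_glue (range_of_allRange c_act87_1) (range_glue (range_of_allRange c_act87_2) (range_glue (range_of_allRange c_act87_3) (range_glue (range_of_allRange c_act87_4) (range_glue (range_of_allRange c_act87_5) (range_glue (range_of_allRange c_act87_6) (range_glue (range_of_allRange c_act87_7) (range_glue (range_of_allRange c_act87_8) (range_glue (range_of_allRange c_act87_9) (range_glue (range_of_allRange c_act87_10) (range_glue (range_of_allRange c_act87_11) (range_of_allRange c_act87_12)))))))))))))
theorem h_act88 : ∀ i, 0 ≤ i → i < 185328 → Nat.beq (actR88 i) i = true :=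
  (range_glue (range_of_allRange c_act88_0) (range_glue (range_of_allRange c_act88_1) (range_glue (range_of_allRange c_act88_2) (range_glue (range_of_allRange c_act88_3) (range_glue (range_of_allRange c_act88_4) (range_glue (range_of_allRange c_act88_5) (range_glue (range_of_allRange c_act88_6) (range_glue (range_of_allRange c_act88_7) (range_glue (range_of_allRange c_act88_8) (range_glue (range_of_allRange c_act88_9) (range_glue (range_of_allRange c_act88_10) (range_glue (range_of_allRange c_act88_11) (range_of_allRange c_act88_12)))))))))))))
theorem h_act89 : ∀ i, 0 ≤ i → i < 185328 → Nat.beq (actR89 i) i = true :=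
  (range_glue (range_of_allRange c_act89_0) (range_glue (range_of_allRange c_act89_1) (range_glue (range_of_allRange c_act89_2) (range_glue (range_of_allRange c_act89_3) (range_glue (range_of_allRange c_act89_4) (range_glue (range_of_allRange c_act89_5) (range_glue (range_of_allRange c_act89_6) (range_glue (range_of_allRange c_act89_7) (range_glue (range_of_allRange c_act89_8) (range_glue (range_of_allRange c_act89_9) (range_glue (range_of_allRange c_act89_10) (range_glue (range_of_allRange c_act89_11) (range_of_allRange c_act89_12)))))))))))))
theorem h_act90 : ∀ i, 0 ≤ i → i < 185328 → Nat.beq (actR90 i) i = true :=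
  (range_glue (range_of_allRange c_act90_0) (range_glue (range_of_allRange c_act90_1) (range_glue (range_of_allRange c_act90_2) (range_glue (range_of_allRange c_act90_3) (range_glue (range_of_allRange c_act90_4) (range_glue (range_of_allRange c_act90_5) (range_glue (range_of_allRange c_act90_6) (range_glue (range_of_allRange c_act90_7) (range_glue (range_of_allRange c_act90_8) (range_glue (range_of_allRange c_act90_9) (range_glue (range_of_allRange c_act90_10) (range_glue (range_of_allRange c_act90_11) (range_of_allRange c_act90_12)))))))))))))
theorem h_act91 : ∀ i, 0 ≤ i → i < 185328 → Nat.beq (actR91 i) i = true :=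
  (range_glue (range_of_allRange c_act91_0) (range_glue (range_of_allRange c_act91_1) (range_glue (range_of_allRange c_act91_2) (range_glue (range_of_allRange c_act91_3) (range_glue (range_of_allRange c_act91_4) (range_glue (range_of_allRange c_act91_5) (range_glue (range_of_allRange c_act91_6) (range_glue (range_of_allRange c_act91_7) (range_glue (range_of_allRange c_act91_8) (range_glue (range_of_allRange c_act91_9) (range_glue (range_of_allRange c_act91_10) (range_glue (range_of_allRange c_act91_11) (range_of_allRange c_act91_12)))))))))))))
theorem h_act92 : ∀ i, 0 ≤ i → i < 185328 → Nat.beq (actR92 i) i = true :=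
  (range_glue (range_of_allRange c_act92_0) (range_glue (range_of_allRange c_act92_1) (range_glue (range_of_allRange c_act92_2) (range_glue (range_of_allRange c_act92_3) (range_glue (range_of_allRange c_act92_4) (range_glue (range_of_allRange c_act92_5) (range_glue (range_of_allRange c_act92_6) (range_glue (range_of_allRange c_act92_7) (range_glue (range_of_allRange c_act92_8) (range_glue (range_of_allRange c_act92_9) (range_glue (range_of_allRange c_act92_10) (range_glue (range_of_allRange c_act92_11) (range_of_allRange c_act92_12)))))))))))))

set_option maxRecDepth 100000 in
theorem h_act : ∀ L ∈ PC3Fi22y.P.real, ∀ i, i < T.N → Tab.relActOK T D L i = true := by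
  rw [c_real]
  intro L hL
  simp only [realLit, List.mem_cons, List.not_mem_nil, or_false] at hL
  rcases hL with rfl | rfl | rfl | rfl | rfl | rfl | rfl | rfl | rfl | rfl | rfl | rfl | rfl | rfl | rfl | rfl | rfl | rfl | rfl | rfl | rfl | rfl | rfl | rfl | rfl | rfl | rfl | rfl | rfl | rfl | rfl | rfl | rfl | rfl | rfl | rfl | rfl | rfl | rfl | rfl | rfl | rfl | rfl | rfl | rfl | rfl | rfl | rfl | rfl | rfl | rfl | rfl | rfl | rfl | rfl | rfl | rfl | rfl | rfl | rfl | rfl | rfl | rfl | rfl | rfl | rfl | rfl | rfl | rfl | rfl | rfl | rfl | rfl | rfl | rfl | rfl | rfl | rfl | rfl | rfl | rfl | rfl | rfl | rfl | rfl | rfl | rfl | rfl | rfl | rfl | rfl | rfl | rfl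
  · intro i hi
    rw [Tab.relActOK, ← actR0_eq]
    exact h_act0 i (Nat.zero_le _) hi
  · intro i hi
    rw [Tab.relActOK, ← actR1_eq]
    exact h_act1 i (Nat.zero_le _) hi
  · intro i hi
    rw [Tab.relActOK, ← actR2_eq]
    exact h_act2 i (Nat.zero_le _) hi
  · intro i hi
    rw [Tab.relActOK, ← actR3_eq]
    exact h_act3 i (Nat.zero_le _) hi
  · intro i hi
    rw [Tab.relActOK, ← actR4_eq]
    exact h_act4 i (Nat.zero_le _) hi
  · intro i hi
    rw [Tab.relActOK, ← actR5_eq]
    exact h_act5 i (Nat.zero_le _) hi
  · intro i hi
    rw [Tab.relActOK, ← actR6_eq]
    exact h_act6 i (Nat.zero_le _) hi
  · intro i hi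
    rw [Tab.relActOK, ← actR7_eq]
    exact h_act7 i (Nat.zero_le _) hi
  · intro i hi
    rw [Tab.relActOK, ← actR8_eq]
    exact h_act8 i (Nat.zero_le _) hi
  · intro i hi
    rw [Tab.relActOK, ← actR9_eq]
    exact h_act9 i (Nat.zero_le _) hi
  · intro i hi
    rw [Tab.relActOK, ← actR10_eq]
    exact h_act10 i (Nat.zero_le _) hi
  · intro i hi
    rw [Tab.relActOK, ← actR11_eq]
    exact h_act11 i (Nat.zero_le _) hi
  · intro i hi
    rw [Tab.relActOK, ← actR12_eq]
    exact h_act12 i (Nat.zero_le _) hi
  · intro i hi
    rw [Tab.relActOK, ← actR13_eq]
    exact h_act13 i (Nat.zero_le _) hi
  · intro i hi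
    rw [Tab.relActOK, ← actR14_eq]
    exact h_act14 i (Nat.zero_le _) hi
  · intro i hi
    rw [Tab.relActOK, ← actR15_eq]
    exact h_act15 i (Nat.zero_le _) hi
  · intro i hi
    rw [Tab.relActOK, ← actR16_eq]
    exact h_act16 i (Nat.zero_le _) hi
  · intro i hi
    rw [Tab.relActOK, ← actR17_eq]
    exact h_act17 i (Nat.zero_le _) hi
  · intro i hi
    rw [Tab.relActOK, ← actR18_eq]
    exact h_act18 i (Nat.zero_le _) hi
  · intro i hi
    rw [Tab.relActOK, ← actR19_eq]
    exact h_act19 i (Nat.zero_le _) hi
  · intro i hi
    rw [Tab.relActOK, ← actR20_eq]
    exact h_act20 i (Nat.zero_le _) hi
  · intro i hi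
    rw [Tab.relActOK, ← actR21_eq]
    exact h_act21 i (Nat.zero_le _) hi
  · intro i hi
    rw [Tab.relActOK, ← actR22_eq]
    exact h_act22 i (Nat.zero_le _) hi
  · intro i hi
    rw [Tab.relActOK, ← actR23_eq]
    exact h_act23 i (Nat.zero_le _) hi
  · intro i hi
    rw [Tab.relActOK, ← actR24_eq]
    exact h_act24 i (Nat.zero_le _) hi
  · intro i hi
    rw [Tab.relActOK, ← actR25_eq]
    exact h_act25 i (Nat.zero_le _) hi
  · intro i hi
    rw [Tab.relActOK, ← actR26_eq]
    exact h_act26 i (Nat.zero_le _) hi
  · intro i hi
    rw [Tab.relActOK, ← actR27_eq]
    exact h_act27 i (Nat.zero_le _) hi
  · intro i hi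
    rw [Tab.relActOK, ← actR28_eq]
    exact h_act28 i (Nat.zero_le _) hi
  · intro i hi
    rw [Tab.relActOK, ← actR29_eq]
    exact h_act29 i (Nat.zero_le _) hi
  · intro i hi
    rw [Tab.relActOK, ← actR30_eq]
    exact h_act30 i (Nat.zero_le _) hi
  · intro i hi
    rw [Tab.relActOK, ← actR31_eq]
    exact h_act31 i (Nat.zero_le _) hi
  · intro i hi
    rw [Tab.relActOK, ← actR32_eq]
    exact h_act32 i (Nat.zero_le _) hi
  · intro i hi
    rw [Tab.relActOK, ← actR33_eq]
    exact h_act33 i (Nat.zero_le _) hi
  · intro i hi
    rw [Tab.relActOK, ← actR34_eq]
    exact h_act34 i (Nat.zero_le _) hi
  · intro i hi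
    rw [Tab.relActOK, ← actR35_eq]
    exact h_act35 i (Nat.zero_le _) hi
  · intro i hi
    rw [Tab.relActOK, ← actR36_eq]
    exact h_act36 i (Nat.zero_le _) hi
  · intro i hi
    rw [Tab.relActOK, ← actR37_eq]
    exact h_act37 i (Nat.zero_le _) hi
  · intro i hi
    rw [Tab.relActOK, ← actR38_eq]
    exact h_act38 i (Nat.zero_le _) hi
  · intro i hi
    rw [Tab.relActOK, ← actR39_eq]
    exact h_act39 i (Nat.zero_le _) hi
  · intro i hi
    rw [Tab.relActOK, ← actR40_eq]
    exact h_act40 i (Nat.zero_le _) hi
  · intro i hi
    rw [Tab.relActOK, ← actR41_eq]
    exact h_act41 i (Nat.zero_le _) hi
  · intro i hi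
    rw [Tab.relActOK, ← actR42_eq]
    exact h_act42 i (Nat.zero_le _) hi
  · intro i hi
    rw [Tab.relActOK, ← actR43_eq]
    exact h_act43 i (Nat.zero_le _) hi
  · intro i hi
    rw [Tab.relActOK, ← actR44_eq]
    exact h_act44 i (Nat.zero_le _) hi
  · intro i hi
    rw [Tab.relActOK, ← actR45_eq]
    exact h_act45 i (Nat.zero_le _) hi
  · intro i hi
    rw [Tab.relActOK, ← actR46_eq]
    exact h_act46 i (Nat.zero_le _) hi
  · intro i hi
    rw [Tab.relActOK, ← actR47_eq]
    exact h_act47 i (Nat.zero_le _) hi
  · intro i hi
    rw [Tab.relActOK, ← actR48_eq]
    exact h_act48 i (Nat.zero_le _) hi
  · intro i hi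
    rw [Tab.relActOK, ← actR49_eq]
    exact h_act49 i (Nat.zero_le _) hi
  · intro i hi
    rw [Tab.relActOK, ← actR50_eq]
    exact h_act50 i (Nat.zero_le _) hi
  · intro i hi
    rw [Tab.relActOK, ← actR51_eq]
    exact h_act51 i (Nat.zero_le _) hi
  · intro i hi
    rw [Tab.relActOK, ← actR52_eq]
    exact h_act52 i (Nat.zero_le _) hi
  · intro i hi
    rw [Tab.relActOK, ← actR53_eq]
    exact h_act53 i (Nat.zero_le _) hi
  · intro i hi
    rw [Tab.relActOK, ← actR54_eq]
    exact h_act54 i (Nat.zero_le _) hi
  · intro i hi
    rw [Tab.relActOK, ← actR55_eq]
    exact h_act55 i (Nat.zero_le _) hi
  · intro i hi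
    rw [Tab.relActOK, ← actR56_eq]
    exact h_act56 i (Nat.zero_le _) hi
  · intro i hi
    rw [Tab.relActOK, ← actR57_eq]
    exact h_act57 i (Nat.zero_le _) hi
  · intro i hi
    rw [Tab.relActOK, ← actR58_eq]
    exact h_act58 i (Nat.zero_le _) hi
  · intro i hi
    rw [Tab.relActOK, ← actR59_eq]
    exact h_act59 i (Nat.zero_le _) hi
  · intro i hi
    rw [Tab.relActOK, ← actR60_eq]
    exact h_act60 i (Nat.zero_le _) hi
  · intro i hi
    rw [Tab.relActOK, ← actR61_eq]
    exact h_act61 i (Nat.zero_le _) hi
  · intro i hi
    rw [Tab.relActOK, ← actR62_eq]
    exact h_act62 i (Nat.zero_le _) hi
  · intro i hi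
    rw [Tab.relActOK, ← actR63_eq]
    exact h_act63 i (Nat.zero_le _) hi
  · intro i hi
    rw [Tab.relActOK, ← actR64_eq]
    exact h_act64 i (Nat.zero_le _) hi
  · intro i hi
    rw [Tab.relActOK, ← actR65_eq]
    exact h_act65 i (Nat.zero_le _) hi
  · intro i hi
    rw [Tab.relActOK, ← actR66_eq]
    exact h_act66 i (Nat.zero_le _) hi
  · intro i hi
    rw [Tab.relActOK, ← actR67_eq]
    exact h_act67 i (Nat.zero_le _) hi
  · intro i hi
    rw [Tab.relActOK, ← actR68_eq]
    exact h_act68 i (Nat.zero_le _) hi
  · intro i hi
    rw [Tab.relActOK, ← actR69_eq]
    exact h_act69 i (Nat.zero_le _) hi
  · intro i hi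
    rw [Tab.relActOK, ← actR70_eq]
    exact h_act70 i (Nat.zero_le _) hi
  · intro i hi
    rw [Tab.relActOK, ← actR71_eq]
    exact h_act71 i (Nat.zero_le _) hi
  · intro i hi
    rw [Tab.relActOK, ← actR72_eq]
    exact h_act72 i (Nat.zero_le _) hi
  · intro i hi
    rw [Tab.relActOK, ← actR73_eq]
    exact h_act73 i (Nat.zero_le _) hi
  · intro i hi
    rw [Tab.relActOK, ← actR74_eq]
    exact h_act74 i (Nat.zero_le _) hi
  · intro i hi
    rw [Tab.relActOK, ← actR75_eq]
    exact h_act75 i (Nat.zero_le _) hi
  · intro i hi
    rw [Tab.relActOK, ← actR76_eq]
    exact h_act76 i (Nat.zero_le _) hi
  · intro i hi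
    rw [Tab.relActOK, ← actR77_eq]
    exact h_act77 i (Nat.zero_le _) hi
  · intro i hi
    rw [Tab.relActOK, ← actR78_eq]
    exact h_act78 i (Nat.zero_le _) hi
  · intro i hi
    rw [Tab.relActOK, ← actR79_eq]
    exact h_act79 i (Nat.zero_le _) hi
  · intro i hi
    rw [Tab.relActOK, ← actR80_eq]
    exact h_act80 i (Nat.zero_le _) hi
  · intro i hi
    rw [Tab.relActOK, ← actR81_eq]
    exact h_act81 i (Nat.zero_le _) hi
  · intro i hi
    rw [Tab.relActOK, ← actR82_eq]
    exact h_act82 i (Nat.zero_le _) hi
  · intro i hi
    rw [Tab.relActOK, ← actR83_eq]
    exact h_act83 i (Nat.zero_le _) hi
  · intro i hi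
    rw [Tab.relActOK, ← actR84_eq]
    exact h_act84 i (Nat.zero_le _) hi
  · intro i hi
    rw [Tab.relActOK, ← actR85_eq]
    exact h_act85 i (Nat.zero_le _) hi
  · intro i hi
    rw [Tab.relActOK, ← actR86_eq]
    exact h_act86 i (Nat.zero_le _) hi
  · intro i hi
    rw [Tab.relActOK, ← actR87_eq]
    exact h_act87 i (Nat.zero_le _) hi
  · intro i hi
    rw [Tab.relActOK, ← actR88_eq]
    exact h_act88 i (Nat.zero_le _) hi
  · intro i hi
    rw [Tab.relActOK, ← actR89_eq]
    exact h_act89 i (Nat.zero_le _) hi
  · intro i hi
    rw [Tab.relActOK, ← actR90_eq]
    exact h_act90 i (Nat.zero_le _) hi
  · intro i hi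
    rw [Tab.relActOK, ← actR91_eq]
    exact h_act91 i (Nat.zero_le _) hi
  · intro i hi
    rw [Tab.relActOK, ← actR92_eq]
    exact h_act92 i (Nat.zero_le _) hi

theorem prep : PRep PC3Fi22y.P T D where
  hP := PC3Fi22y.valid
  hk := rfl
  hinv := fun _ _ => rfl
  hperm := fun i x hi hx => h_perm i (Nat.zero_le _) hi x hx
  hlet := fun x hx => allBelow_eq_true.1 c_let x hx
  hact := h_act

end Cfsg.Agent.Lib.Helper4.TCD.C3Fi22yR
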