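import Cfsg.Agent.Lib.Helper4.TCD_C3O73R_Acc

namespace Cfsg.Agent.Lib.Helper4.TCD.C3O73R

open Cfsg.Agent.Lib.Helper4.TC

set_option maxRecDepth 100000
set_option Elab.async false

theorem c_act27_0 : allRange (fun i => Nat.beq (actR27 i) i) 0 4285 = true := by decide +kernel
theorem c_act27_1 : allRange (fun i => Nat.beq (actR27 i) i) 4285 4285 = true := by decide +kernel
theorem c_act27_2 : allRange (fun i => Nat.beq (actR27 i) i) 8570 907 = true := by decide +kernel
theorem c_act28_0 : allRange (fun i => Nat.beq (actR28 i) i) 0 3529 = true := by decide +kernel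
theorem c_act28_1 : allRange (fun i => Nat.beq (actR28 i) i) 3529 3529 = true := by decide +kernel
theorem c_act28_2 : allRange (fun i => Nat.beq (actR28 i) i) 7058 2419 = true := by decide +kernel
theorem c_act29_0 : allRange (fun i => Nat.beq (actR29 i) i) 0 3000 = true := by decide +kernel
theorem c_act29_1 : allRange (fun i => Nat.beq (actR29 i) i) 3000 3000 = true := by decide +kernel
theorem c_act29_2 : allRange (fun i => Nat.beq (actR29 i) i) 6000 3000 = true := by decide +kernel
theorem c_act29_3 : allRange (fun i => Nat.beq (actR29 i) i) 9000 477 = true := by decide +kernel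
theorem c_act30_0 : allRange (fun i => Nat.beq (actR30 i) i) 0 9477 = true := by decide +kernel
theorem c_act31_0 : allRange (fun i => Nat.beq (actR31 i) i) 0 9477 = true := by decide +kernel
theorem c_act32_0 : allRange (fun i => Nat.beq (actR32 i) i) 0 9477 = true := by decide +kernel
theorem c_act33_0 : allRange (fun i => Nat.beq (actR33 i) i) 0 9477 = true := by decide +kernel
theorem c_act34_0 : allRange (fun i => Nat.beq (actR34 i) i) 0 9477 = true := by decide +kernel

end Cfsg.Agent.Lib.Helper4.TCD.C3O73R
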