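import Mathlib
import Cfsg.Agent.Lib.Helper4.C3O73Cover
import Cfsg.Agent.Lib.Helper4.TCD_C3O73B_Fin
import Cfsg.Agent.Lib.Helper4.C3G23Stem
import Cfsg.Agent.Lib.Helper4.TC19
import Cfsg.Agent.Lib.Helper4.StemLib6

/-! The presented group `C3O73` contains the presented triple cover `C3G23` of the group G2(3)
as the subgroup of index 1080 generated by `c`, `d`, `t`, and stem extensions with kernel of prime order split over it. -/

set_option autoImplicit false

namespace Cfsg.Agent.Lib.Helper4.C3O73Sub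

open Cfsg Cfsg.Agent.Lib.Helper4.TC Cfsg.Agent.Lib.Helper4.TCD Cfsg.Agent.Lib.Helper4.TC.Log Cfsg.Agent.Lib.Helper4.Stem

/-- the letters of `C3G23` as letters of `C3O73` -/
def embK (l : ℕ) : ℕ := [0, 1, 2, 3, 4, 5, 8, 9].getD l 10

theorem real_subK : ∀ L ∈ PC3G23.P.real, L.map embK ∈ PC3O73.P.real := by decide +kernel

theorem embK_emb : LetterEmb PC3G23.P PC3O73.P embK where
  hP := PC3G23.valid
  hQ := PC3O73.valid
  hlt := by
    intro l hl
    have hl : l < 8 := hl
    show embK l < 10
    interval_cases l <;> decide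
  hinv := by
    intro l hl
    have hl : l < 8 := hl
    interval_cases l <;> rfl
  hrel := by
    intro L hL
    exact (PC3O73.valid.real_sound _ (real_subK L hL)).2

/-- the homomorphism from `C3G23` -/
noncomputable def f : PC3G23.P.Grp →* PC3O73.P.Grp := embK_emb.hom

/-- the words generating `C3G23` -/
def subsK : List (List ℕ) := [[0], [2], [4], [6]]

theorem subG_K_top : Inst.subG PC3G23.P subsK = ⊤ := by
  rw [eq_top_iff, ← PC3G23.valid.gen_top, Subgroup.closure_le]
  rintro _ ⟨l, hl, rfl⟩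
  have hl : l < 8 := hl
  interval_cases l
  · exact Subgroup.subset_closure ⟨[0], by decide, by rw [wordP_cons, wordP_nil, mul_one]⟩
  · have h : PC3G23.P.gR 1 = (PC3G23.P.gR 0)⁻¹ := (PC3G23.valid.invR_sound 0 (by decide)).2
    rw [h]
    exact Subgroup.inv_mem _ (Subgroup.subset_closure ⟨[0], by decide, by rw [wordP_cons, wordP_nil, mul_one]⟩)
  · exact Subgroup.subset_closure ⟨[2], by decide, by rw [wordP_cons, wordP_nil, mul_one]⟩
  · have h : PC3G23.P.gR 3 = (PC3G23.P.gR 2)⁻¹ := (PC3G23.valid.invR_sound 2 (by decide)).2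
    rw [h]
    exact Subgroup.inv_mem _ (Subgroup.subset_closure ⟨[2], by decide, by rw [wordP_cons, wordP_nil, mul_one]⟩)
  · exact Subgroup.subset_closure ⟨[4], by decide, by rw [wordP_cons, wordP_nil, mul_one]⟩
  · have h : PC3G23.P.gR 5 = (PC3G23.P.gR 4)⁻¹ := (PC3G23.valid.invR_sound 4 (by decide)).2
    rw [h]
    exact Subgroup.inv_mem _ (Subgroup.subset_closure ⟨[4], by decide, by rw [wordP_cons, wordP_nil, mul_one]⟩)
  · exact Subgroup.subset_closure ⟨[6], by decide, by rw [wordP_cons, wordP_nil, mul_one]⟩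
  · have h : PC3G23.P.gR 7 = (PC3G23.P.gR 6)⁻¹ := (PC3G23.valid.invR_sound 6 (by decide)).2
    rw [h]
    exact Subgroup.inv_mem _ (Subgroup.subset_closure ⟨[6], by decide, by rw [wordP_cons, wordP_nil, mul_one]⟩)

theorem range_hom : f.range = Inst.subG PC3O73.P [[0], [2], [4], [8]] := by
  rw [f, MonoidHom.range_eq_map, ← subG_K_top, embK_emb.map_subG subsK (by decide)]
  rfl

/-- the central letter as a word in `c`, `d`, `t` -/
def zW : List ℕ := [0, 0, 3, 0, 4, 1, 2, 1, 1, 2, 0, 5, 1, 3]

theorem z_eq : PC3O73.P.gR 8 = wordP PC3O73.P.gR zW := by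
  have h := (PC3O73.valid.real_sound (zW ++ [9]) (by decide +kernel)).2
  have i9 : PC3O73.P.gR 9 = (PC3O73.P.gR 8)⁻¹ := (PC3O73.valid.invR_sound 8 (by decide)).2
  rw [wordP_append, wordP_cons, wordP_nil, mul_one, i9] at h
  exact (mul_inv_eq_one.1 h).symm

theorem range_eq : f.range = Inst.subG PC3O73.P C3O73B.subs := by
  rw [range_hom]
  have hs : C3O73B.subs = [[0], [2], [4]] := by decide
  rw [hs]
  unfold Inst.subG
  apply le_antisymm
  · rw [Subgroup.closure_le]
    rintro _ ⟨u, hu, rfl⟩
    simp only [List.mem_cons, List.not_mem_nil, or_false] at hu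
    rcases hu with rfl | rfl | rfl | rfl
    · exact Subgroup.subset_closure ⟨[0], by decide, rfl⟩
    · exact Subgroup.subset_closure ⟨[2], by decide, rfl⟩
    · exact Subgroup.subset_closure ⟨[4], by decide, rfl⟩
    · rw [SetLike.mem_coe, wordP_cons, wordP_nil, mul_one, z_eq]
      have m0 : PC3O73.P.gR 0 ∈ Subgroup.closure {s | ∃ u ∈ [[0], [2], [4]], s = wordP PC3O73.P.gR u} :=
        Subgroup.subset_closure ⟨[0], by decide, by rw [wordP_cons, wordP_nil, mul_one]⟩
      have m2 : PC3O73.P.gR 2 ∈ Subgroup.closure {s | ∃ u ∈ [[0], [2], [4]], s = wordP PC3O73.P.gR u} :=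
        Subgroup.subset_closure ⟨[2], by decide, by rw [wordP_cons, wordP_nil, mul_one]⟩
      have m4 : PC3O73.P.gR 4 ∈ Subgroup.closure {s | ∃ u ∈ [[0], [2], [4]], s = wordP PC3O73.P.gR u} :=
        Subgroup.subset_closure ⟨[4], by decide, by rw [wordP_cons, wordP_nil, mul_one]⟩
      have i1 : PC3O73.P.gR 1 = (PC3O73.P.gR 0)⁻¹ := (PC3O73.valid.invR_sound 0 (by decide)).2
      have i3 : PC3O73.P.gR 3 = (PC3O73.P.gR 2)⁻¹ := (PC3O73.valid.invR_sound 2 (by decide)).2
      have i5 : PC3O73.P.gR 5 = (PC3O73.P.gR 4)⁻¹ := (PC3O73.valid.invR_sound 4 (by decide)).2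
      apply Sgs.wordP_mem_closure
      intro e he
      have he6 : e < 6 := by
        revert e
        decide
      interval_cases e
      · exact m0
      · rw [i1]; exact inv_mem m0
      · exact m2
      · rw [i3]; exact inv_mem m2
      · exact m4
      · rw [i5]; exact inv_mem m4
  · apply Subgroup.closure_mono
    rintro _ ⟨u, hu, rfl⟩
    refine ⟨u, ?_, rfl⟩
    simp only [List.mem_cons, List.not_mem_nil, or_false] at hu ⊢
    rcases hu with rfl | rfl | rfl
    · exact Or.inl rfl
    · exact Or.inr (Or.inl rfl)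
    · exact Or.inr (Or.inr (Or.inl rfl))


/-- the subgroup is an image of `C3G23` -/
theorem sub_card : Finite (Inst.subG PC3O73.P C3O73B.subs) ∧
    Nat.card (Inst.subG PC3O73.P C3O73B.subs) ≤ 12737088 := by
  obtain ⟨fK, _, cK⟩ := C3G23Main.order_aux
  rw [← range_eq]
  have := fK
  refine ⟨Finite.of_surjective f.rangeRestrict f.rangeRestrict_surjective, ?_⟩
  rw [← cK]
  exact Nat.card_le_card_of_surjective f.rangeRestrict f.rangeRestrict_surjective

/-- the subgroup has order 12737088 -/
theorem sub_card_eq : Nat.card (Inst.subG PC3O73.P C3O73B.subs) = 12737088 := by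
  obtain ⟨fG, _, hcard⟩ := C3O73Cover.order_aux
  have h := Subgroup.card_mul_index (Inst.subG PC3O73.P C3O73B.subs)
  rw [C3O73B.index_eq, hcard] at h
  have e : (13756055040 : ℕ) = 12737088 * 1080 := by norm_num
  rw [e] at h
  exact Nat.eq_of_mul_eq_mul_right (by norm_num) h

/-- `C3G23` embeds -/
theorem hom_injective : Function.Injective f := by
  obtain ⟨fK, _, cK⟩ := C3G23Main.order_aux
  have := fK
  have hs : Function.Surjective f.rangeRestrict := f.rangeRestrict_surjective
  have hc : Nat.card PC3G23.P.Grp ≤ Nat.card f.range := by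
    rw [range_eq, sub_card_eq, cK]
  have hb : Function.Bijective f.rangeRestrict := hs.bijective_of_nat_card_le hc
  intro x y hxy
  apply hb.1
  apply Subtype.ext
  exact hxy

/-- stem extensions split over the subgroup -/
theorem liftsP_sub (p : ℕ) (hp : p.Prime) :
    LiftsP PC3O73.P.Grp (Inst.subG PC3O73.P C3O73B.subs) p :=
  liftsP_of_injective f hom_injective _ range_eq p hp C3G23Cover.perfect (C3G23Stem.noStem p hp)

end Cfsg.Agent.Lib.Helper4.C3O73Sub
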