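import Cfsg.Agent.Lib.Helper4.TCD_C3O73R_Acc
import Cfsg.Agent.Lib.Helper4.TC13

namespace Cfsg.Agent.Lib.Helper4.TCD.SC3O73p3W

open Cfsg.Agent.Lib.Helper4.TC Cfsg.Agent.Lib.Helper4.TCD.C3O73R

set_option maxRecDepth 100000
set_option Elab.async false

def chk0 : List Nat := [0, 0, 0, 0, 0, 0, 0]
noncomputable def act0 (i : Nat) : Nat := col1 (col1 (col1 (col1 (col1 (col1 (col1 (i)))))))
theorem act0_eq (i : Nat) : act0 i = Tab.act T D chk0 i := rfl
theorem c0_0 : allRange (fun i => Nat.beq (act0 i) i) 0 6666 = true := by decide +kernel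
theorem c0_1 : allRange (fun i => Nat.beq (act0 i) i) 6666 2811 = true := by decide +kernel
theorem h0 : ∀ i, i < T.N → Tab.relActOK T D chk0 i = true := by
  intro i hi
  rw [Tab.relActOK, ← act0_eq]
  exact (range_glue (range_of_allRange c0_0) (range_of_allRange c0_1)) i (Nat.zero_le _) hi

def chk1 : List Nat := [2, 2, 2, 2]
noncomputable def act1 (i : Nat) : Nat := col3 (col3 (col3 (col3 (i))))
theorem act1_eq (i : Nat) : act1 i = Tab.act T D chk1 i := rfl
theorem c1_0 : allRange (fun i => Nat.beq (act1 i) i) 0 9477 = true := by decide +kernel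
theorem h1 : ∀ i, i < T.N → Tab.relActOK T D chk1 i = true := by
  intro i hi
  rw [Tab.relActOK, ← act1_eq]
  exact (range_of_allRange c1_0) i (Nat.zero_le _) hi

def chk2 : List Nat := [4, 4, 4]
noncomputable def act2 (i : Nat) : Nat := col5 (col5 (col5 (i)))
theorem act2_eq (i : Nat) : act2 i = Tab.act T D chk2 i := rfl
theorem c2_0 : allRange (fun i => Nat.beq (act2 i) i) 0 9477 = true := by decide +kernel
theorem h2 : ∀ i, i < T.N → Tab.relActOK T D chk2 i = true := by
  intro i hi
  rw [Tab.relActOK, ← act2_eq]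
  exact (range_of_allRange c2_0) i (Nat.zero_le _) hi

def chk3 : List Nat := [6, 6]
noncomputable def act3 (i : Nat) : Nat := col7 (col7 (i))
theorem act3_eq (i : Nat) : act3 i = Tab.act T D chk3 i := rfl
theorem c3_0 : allRange (fun i => Nat.beq (act3 i) i) 0 9477 = true := by decide +kernel
theorem h3 : ∀ i, i < T.N → Tab.relActOK T D chk3 i = true := by
  intro i hi
  rw [Tab.relActOK, ← act3_eq]
  exact (range_of_allRange c3_0) i (Nat.zero_le _) hi

def chk4 : List Nat := [0, 0, 3, 0, 4, 1, 2, 1, 1, 2, 0, 5, 1, 3, 9]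
noncomputable def act4 (i : Nat) : Nat := col1 (col1 (col2 (col1 (col5 (col0 (col3 (col0 (col0 (col3 (col1 (col4 (col0 (col2 (col8 (i)))))))))))))))
theorem act4_eq (i : Nat) : act4 i = Tab.act T D chk4 i := rfl
theorem c4_0 : allRange (fun i => Nat.beq (act4 i) i) 0 3529 = true := by decide +kernel
theorem c4_1 : allRange (fun i => Nat.beq (act4 i) i) 3529 3529 = true := by decide +kernel
theorem c4_2 : allRange (fun i => Nat.beq (act4 i) i) 7058 2419 = true := by decide +kernel
theorem h4 : ∀ i, i < T.N → Tab.relActOK T D chk4 i = true := by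
  intro i hi
  rw [Tab.relActOK, ← act4_eq]
  exact (range_glue (range_of_allRange c4_0) (range_glue (range_of_allRange c4_1) (range_of_allRange c4_2))) i (Nat.zero_le _) hi

def chk5 : List Nat := [0, 6, 1, 6, 0, 6, 1, 6]
noncomputable def act5 (i : Nat) : Nat := col1 (col7 (col0 (col7 (col1 (col7 (col0 (col7 (i))))))))
theorem act5_eq (i : Nat) : act5 i = Tab.act T D chk5 i := rfl
theorem c5_0 : allRange (fun i => Nat.beq (act5 i) i) 0 6000 = true := by decide +kernel
theorem c5_1 : allRange (fun i => Nat.beq (act5 i) i) 6000 3477 = true := by decide +kernel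
theorem h5 : ∀ i, i < T.N → Tab.relActOK T D chk5 i = true := by
  intro i hi
  rw [Tab.relActOK, ← act5_eq]
  exact (range_glue (range_of_allRange c5_0) (range_of_allRange c5_1)) i (Nat.zero_le _) hi

def chk6 : List Nat := [2, 6, 3, 6, 2, 6, 3, 6]
noncomputable def act6 (i : Nat) : Nat := col3 (col7 (col2 (col7 (col3 (col7 (col2 (col7 (i))))))))
theorem act6_eq (i : Nat) : act6 i = Tab.act T D chk6 i := rfl
theorem c6_0 : allRange (fun i => Nat.beq (act6 i) i) 0 6000 = true := by decide +kernel
theorem c6_1 : allRange (fun i => Nat.beq (act6 i) i) 6000 3477 = true := by decide +kernel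
theorem h6 : ∀ i, i < T.N → Tab.relActOK T D chk6 i = true := by
  intro i hi
  rw [Tab.relActOK, ← act6_eq]
  exact (range_glue (range_of_allRange c6_0) (range_of_allRange c6_1)) i (Nat.zero_le _) hi

def chk7 : List Nat := [0, 0, 2, 0, 6, 1, 3, 1, 1, 6]
noncomputable def act7 (i : Nat) : Nat := col1 (col1 (col3 (col1 (col7 (col0 (col2 (col0 (col0 (col7 (i))))))))))
theorem act7_eq (i : Nat) : act7 i = Tab.act T D chk7 i := rfl
theorem c7_0 : allRange (fun i => Nat.beq (act7 i) i) 0 5000 = true := by decide +kernel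
theorem c7_1 : allRange (fun i => Nat.beq (act7 i) i) 5000 4477 = true := by decide +kernel
theorem h7 : ∀ i, i < T.N → Tab.relActOK T D chk7 i = true := by
  intro i hi
  rw [Tab.relActOK, ← act7_eq]
  exact (range_glue (range_of_allRange c7_0) (range_of_allRange c7_1)) i (Nat.zero_le _) hi

def chk8 : List Nat := [0, 3, 5, 2, 6, 3, 4, 2, 1, 6]
noncomputable def act8 (i : Nat) : Nat := col1 (col2 (col4 (col3 (col7 (col2 (col5 (col3 (col0 (col7 (i))))))))))
theorem act8_eq (i : Nat) : act8 i = Tab.act T D chk8 i := rfl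
theorem c8_0 : allRange (fun i => Nat.beq (act8 i) i) 0 5000 = true := by decide +kernel
theorem c8_1 : allRange (fun i => Nat.beq (act8 i) i) 5000 4477 = true := by decide +kernel
theorem h8 : ∀ i, i < T.N → Tab.relActOK T D chk8 i = true := by
  intro i hi
  rw [Tab.relActOK, ← act8_eq]
  exact (range_glue (range_of_allRange c8_0) (range_of_allRange c8_1)) i (Nat.zero_le _) hi

def chk9 : List Nat := [0, 3, 4, 4, 2, 6, 3, 4, 2, 1, 6]
noncomputable def act9 (i : Nat) : Nat := col1 (col2 (col5 (col5 (col3 (col7 (col2 (col5 (col3 (col0 (col7 (i)))))))))))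
theorem act9_eq (i : Nat) : act9 i = Tab.act T D chk9 i := rfl
theorem c9_0 : allRange (fun i => Nat.beq (act9 i) i) 0 4615 = true := by decide +kernel
theorem c9_1 : allRange (fun i => Nat.beq (act9 i) i) 4615 4615 = true := by decide +kernel
theorem c9_2 : allRange (fun i => Nat.beq (act9 i) i) 9230 247 = true := by decide +kernel
theorem h9 : ∀ i, i < T.N → Tab.relActOK T D chk9 i = true := by
  intro i hi
  rw [Tab.relActOK, ← act9_eq]
  exact (range_glue (range_of_allRange c9_0) (range_glue (range_of_allRange c9_1) (range_of_allRange c9_2))) i (Nat.zero_le _) hi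

def chk10 : List Nat := [0, 0, 0, 4, 1, 1, 6, 3, 4, 2, 1, 6]
noncomputable def act10 (i : Nat) : Nat := col1 (col1 (col1 (col5 (col0 (col0 (col7 (col2 (col5 (col3 (col0 (col7 (i))))))))))))
theorem act10_eq (i : Nat) : act10 i = Tab.act T D chk10 i := rfl
theorem c10_0 : allRange (fun i => Nat.beq (act10 i) i) 0 4285 = true := by decide +kernel
theorem c10_1 : allRange (fun i => Nat.beq (act10 i) i) 4285 4285 = true := by decide +kernel
theorem c10_2 : allRange (fun i => Nat.beq (act10 i) i) 8570 907 = true := by decide +kernel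
theorem h10 : ∀ i, i < T.N → Tab.relActOK T D chk10 i = true := by
  intro i hi
  rw [Tab.relActOK, ← act10_eq]
  exact (range_glue (range_of_allRange c10_0) (range_glue (range_of_allRange c10_1) (range_of_allRange c10_2))) i (Nat.zero_le _) hi

def chk11 : List Nat := [0, 0, 2, 0, 6, 1, 2, 2, 2, 1, 1, 6]
noncomputable def act11 (i : Nat) : Nat := col1 (col1 (col3 (col1 (col7 (col0 (col3 (col3 (col3 (col0 (col0 (col7 (i))))))))))))
theorem act11_eq (i : Nat) : act11 i = Tab.act T D chk11 i := rfl
theorem c11_0 : allRange (fun i => Nat.beq (act11 i) i) 0 4285 = true := by decide +kernel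
theorem c11_1 : allRange (fun i => Nat.beq (act11 i) i) 4285 4285 = true := by decide +kernel
theorem c11_2 : allRange (fun i => Nat.beq (act11 i) i) 8570 907 = true := by decide +kernel
theorem h11 : ∀ i, i < T.N → Tab.relActOK T D chk11 i = true := by
  intro i hi
  rw [Tab.relActOK, ← act11_eq]
  exact (range_glue (range_of_allRange c11_0) (range_glue (range_of_allRange c11_1) (range_of_allRange c11_2))) i (Nat.zero_le _) hi

def chk12 : List Nat := [0, 2, 6, 2, 1, 5, 0, 2, 6, 2, 1, 5]
noncomputable def act12 (i : Nat) : Nat := col1 (col3 (col7 (col3 (col0 (col4 (col1 (col3 (col7 (col3 (col0 (col4 (i))))))))))))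
theorem act12_eq (i : Nat) : act12 i = Tab.act T D chk12 i := rfl
theorem c12_0 : allRange (fun i => Nat.beq (act12 i) i) 0 4285 = true := by decide +kernel
theorem c12_1 : allRange (fun i => Nat.beq (act12 i) i) 4285 4285 = true := by decide +kernel
theorem c12_2 : allRange (fun i => Nat.beq (act12 i) i) 8570 907 = true := by decide +kernel
theorem h12 : ∀ i, i < T.N → Tab.relActOK T D chk12 i = true := by
  intro i hi
  rw [Tab.relActOK, ← act12_eq]
  exact (range_glue (range_of_allRange c12_0) (range_glue (range_of_allRange c12_1) (range_of_allRange c12_2))) i (Nat.zero_le _) hi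

def chk13 : List Nat := [0, 2, 6, 3, 1, 4, 0, 3, 6, 2, 1, 5]
noncomputable def act13 (i : Nat) : Nat := col1 (col3 (col7 (col2 (col0 (col5 (col1 (col2 (col7 (col3 (col0 (col4 (i))))))))))))
theorem act13_eq (i : Nat) : act13 i = Tab.act T D chk13 i := rfl
theorem c13_0 : allRange (fun i => Nat.beq (act13 i) i) 0 4285 = true := by decide +kernel
theorem c13_1 : allRange (fun i => Nat.beq (act13 i) i) 4285 4285 = true := by decide +kernel
theorem c13_2 : allRange (fun i => Nat.beq (act13 i) i) 8570 907 = true := by decide +kernel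
theorem h13 : ∀ i, i < T.N → Tab.relActOK T D chk13 i = true := by
  intro i hi
  rw [Tab.relActOK, ← act13_eq]
  exact (range_glue (range_of_allRange c13_0) (range_glue (range_of_allRange c13_1) (range_of_allRange c13_2))) i (Nat.zero_le _) hi

def chk14 : List Nat := [0, 2, 6, 3, 1, 4, 0, 3, 6, 2, 1, 4, 4]
noncomputable def act14 (i : Nat) : Nat := col1 (col3 (col7 (col2 (col0 (col5 (col1 (col2 (col7 (col3 (col0 (col5 (col5 (i)))))))))))))
theorem act14_eq (i : Nat) : act14 i = Tab.act T D chk14 i := rfl
theorem c14_0 : allRange (fun i => Nat.beq (act14 i) i) 0 4000 = true := by decide +kernel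
theorem c14_1 : allRange (fun i => Nat.beq (act14 i) i) 4000 4000 = true := by decide +kernel
theorem c14_2 : allRange (fun i => Nat.beq (act14 i) i) 8000 1477 = true := by decide +kernel
theorem h14 : ∀ i, i < T.N → Tab.relActOK T D chk14 i = true := by
  intro i hi
  rw [Tab.relActOK, ← act14_eq]
  exact (range_glue (range_of_allRange c14_0) (range_glue (range_of_allRange c14_1) (range_of_allRange c14_2))) i (Nat.zero_le _) hi

def chk15 : List Nat := [0, 0, 4, 1, 2, 1, 6, 0, 3, 1, 3, 4, 2, 6]
noncomputable def act15 (i : Nat) : Nat := col1 (col1 (col5 (col0 (col3 (col0 (col7 (col1 (col2 (col0 (col2 (col5 (col3 (col7 (i))))))))))))))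
theorem act15_eq (i : Nat) : act15 i = Tab.act T D chk15 i := rfl
theorem c15_0 : allRange (fun i => Nat.beq (act15 i) i) 0 3750 = true := by decide +kernel
theorem c15_1 : allRange (fun i => Nat.beq (act15 i) i) 3750 3750 = true := by decide +kernel
theorem c15_2 : allRange (fun i => Nat.beq (act15 i) i) 7500 1977 = true := by decide +kernel
theorem h15 : ∀ i, i < T.N → Tab.relActOK T D chk15 i = true := by
  intro i hi
  rw [Tab.relActOK, ← act15_eq]
  exact (range_glue (range_of_allRange c15_0) (range_glue (range_of_allRange c15_1) (range_of_allRange c15_2))) i (Nat.zero_le _) hi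

def chk16 : List Nat := [0, 2, 2, 0, 5, 0, 6, 1, 4, 1, 2, 2, 1, 6]
noncomputable def act16 (i : Nat) : Nat := col1 (col3 (col3 (col1 (col4 (col1 (col7 (col0 (col5 (col0 (col3 (col3 (col0 (col7 (i))))))))))))))
theorem act16_eq (i : Nat) : act16 i = Tab.act T D chk16 i := rfl
theorem c16_0 : allRange (fun i => Nat.beq (act16 i) i) 0 3750 = true := by decide +kernel
theorem c16_1 : allRange (fun i => Nat.beq (act16 i) i) 3750 3750 = true := by decide +kernel
theorem c16_2 : allRange (fun i => Nat.beq (act16 i) i) 7500 1977 = true := by decide +kernel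
theorem h16 : ∀ i, i < T.N → Tab.relActOK T D chk16 i = true := by
  intro i hi
  rw [Tab.relActOK, ← act16_eq]
  exact (range_glue (range_of_allRange c16_0) (range_glue (range_of_allRange c16_1) (range_of_allRange c16_2))) i (Nat.zero_le _) hi

def chk17 : List Nat := [0, 2, 1, 5, 0, 6, 1, 4, 0, 3, 1, 3, 6, 2]
noncomputable def act17 (i : Nat) : Nat := col1 (col3 (col0 (col4 (col1 (col7 (col0 (col5 (col1 (col2 (col0 (col2 (col7 (col3 (i))))))))))))))
theorem act17_eq (i : Nat) : act17 i = Tab.act T D chk17 i := rfl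
theorem c17_0 : allRange (fun i => Nat.beq (act17 i) i) 0 3750 = true := by decide +kernel
theorem c17_1 : allRange (fun i => Nat.beq (act17 i) i) 3750 3750 = true := by decide +kernel
theorem c17_2 : allRange (fun i => Nat.beq (act17 i) i) 7500 1977 = true := by decide +kernel
theorem h17 : ∀ i, i < T.N → Tab.relActOK T D chk17 i = true := by
  intro i hi
  rw [Tab.relActOK, ← act17_eq]
  exact (range_glue (range_of_allRange c17_0) (range_glue (range_of_allRange c17_1) (range_of_allRange c17_2))) i (Nat.zero_le _) hi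

def chk18 : List Nat := [0, 0, 3, 0, 6, 1, 2, 1, 1, 4, 3, 6, 2, 5]
noncomputable def act18 (i : Nat) : Nat := col1 (col1 (col2 (col1 (col7 (col0 (col3 (col0 (col0 (col5 (col2 (col7 (col3 (col4 (i))))))))))))))
theorem act18_eq (i : Nat) : act18 i = Tab.act T D chk18 i := rfl
theorem c18_0 : allRange (fun i => Nat.beq (act18 i) i) 0 3750 = true := by decide +kernel
theorem c18_1 : allRange (fun i => Nat.beq (act18 i) i) 3750 3750 = true := by decide +kernel
theorem c18_2 : allRange (fun i => Nat.beq (act18 i) i) 7500 1977 = true := by decide +kernel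
theorem h18 : ∀ i, i < T.N → Tab.relActOK T D chk18 i = true := by
  intro i hi
  rw [Tab.relActOK, ← act18_eq]
  exact (range_glue (range_of_allRange c18_0) (range_glue (range_of_allRange c18_1) (range_of_allRange c18_2))) i (Nat.zero_le _) hi

def chk19 : List Nat := [0, 0, 2, 2, 6, 2, 2, 1, 1, 4, 2, 6, 3, 5]
noncomputable def act19 (i : Nat) : Nat := col1 (col1 (col3 (col3 (col7 (col3 (col3 (col0 (col0 (col5 (col3 (col7 (col2 (col4 (i))))))))))))))
theorem act19_eq (i : Nat) : act19 i = Tab.act T D chk19 i := rfl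
theorem c19_0 : allRange (fun i => Nat.beq (act19 i) i) 0 3750 = true := by decide +kernel
theorem c19_1 : allRange (fun i => Nat.beq (act19 i) i) 3750 3750 = true := by decide +kernel
theorem c19_2 : allRange (fun i => Nat.beq (act19 i) i) 7500 1977 = true := by decide +kernel
theorem h19 : ∀ i, i < T.N → Tab.relActOK T D chk19 i = true := by
  intro i hi
  rw [Tab.relActOK, ← act19_eq]
  exact (range_glue (range_of_allRange c19_0) (range_glue (range_of_allRange c19_1) (range_of_allRange c19_2))) i (Nat.zero_le _) hi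

def chk20 : List Nat := [0, 4, 2, 6, 3, 5, 1, 2, 5, 1, 6, 0, 4, 3]
noncomputable def act20 (i : Nat) : Nat := col1 (col5 (col3 (col7 (col2 (col4 (col0 (col3 (col4 (col0 (col7 (col1 (col5 (col2 (i))))))))))))))
theorem act20_eq (i : Nat) : act20 i = Tab.act T D chk20 i := rfl
theorem c20_0 : allRange (fun i => Nat.beq (act20 i) i) 0 3750 = true := by decide +kernel
theorem c20_1 : allRange (fun i => Nat.beq (act20 i) i) 3750 3750 = true := by decide +kernel
theorem c20_2 : allRange (fun i => Nat.beq (act20 i) i) 7500 1977 = true := by decide +kernel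
theorem h20 : ∀ i, i < T.N → Tab.relActOK T D chk20 i = true := by
  intro i hi
  rw [Tab.relActOK, ← act20_eq]
  exact (range_glue (range_of_allRange c20_0) (range_glue (range_of_allRange c20_1) (range_of_allRange c20_2))) i (Nat.zero_le _) hi

def chk21 : List Nat := [0, 3, 3, 0, 5, 6, 4, 1, 2, 2, 1, 5, 6, 4]
noncomputable def act21 (i : Nat) : Nat := col1 (col2 (col2 (col1 (col4 (col7 (col5 (col0 (col3 (col3 (col0 (col4 (col7 (col5 (i))))))))))))))
theorem act21_eq (i : Nat) : act21 i = Tab.act T D chk21 i := rfl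
theorem c21_0 : allRange (fun i => Nat.beq (act21 i) i) 0 3750 = true := by decide +kernel
theorem c21_1 : allRange (fun i => Nat.beq (act21 i) i) 3750 3750 = true := by decide +kernel
theorem c21_2 : allRange (fun i => Nat.beq (act21 i) i) 7500 1977 = true := by decide +kernel
theorem h21 : ∀ i, i < T.N → Tab.relActOK T D chk21 i = true := by
  intro i hi
  rw [Tab.relActOK, ← act21_eq]
  exact (range_glue (range_of_allRange c21_0) (range_glue (range_of_allRange c21_1) (range_of_allRange c21_2))) i (Nat.zero_le _) hi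

def chk22 : List Nat := [0, 0, 3, 0, 4, 1, 6, 2, 1, 1, 2, 0, 5, 6, 1, 3, 9]
noncomputable def act22 (i : Nat) : Nat := col1 (col1 (col2 (col1 (col5 (col0 (col7 (col3 (col0 (col0 (col3 (col1 (col4 (col7 (col0 (col2 (col8 (i)))))))))))))))))
theorem act22_eq (i : Nat) : act22 i = Tab.act T D chk22 i := rfl
theorem c22_0 : allRange (fun i => Nat.beq (act22 i) i) 0 3157 = true := by decide +kernel
theorem c22_1 : allRange (fun i => Nat.beq (act22 i) i) 3157 3157 = true := by decide +kernel
theorem c22_2 : allRange (fun i => Nat.beq (act22 i) i) 6314 3157 = true := by decide +kernel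
theorem c22_3 : allRange (fun i => Nat.beq (act22 i) i) 9471 6 = true := by decide +kernel
theorem h22 : ∀ i, i < T.N → Tab.relActOK T D chk22 i = true := by
  intro i hi
  rw [Tab.relActOK, ← act22_eq]
  exact (range_glue (range_of_allRange c22_0) (range_glue (range_of_allRange c22_1) (range_glue (range_of_allRange c22_2) (range_of_allRange c22_3)))) i (Nat.zero_le _) hi

def chk23 : List Nat := [0, 0, 3, 0, 2, 0, 3, 6, 4, 6, 4, 6, 3, 0, 2, 4, 1, 4, 9, 9]
noncomputable def act23 (i : Nat) : Nat := col1 (col1 (col2 (col1 (col3 (col1 (col2 (col7 (col5 (col7 (col5 (col7 (col2 (col1 (col3 (col5 (col0 (col5 (col8 (col8 (i))))))))))))))))))))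
theorem act23_eq (i : Nat) : act23 i = Tab.act T D chk23 i := rfl
theorem c23_0 : allRange (fun i => Nat.beq (act23 i) i) 0 2727 = true := by decide +kernel
theorem c23_1 : allRange (fun i => Nat.beq (act23 i) i) 2727 2727 = true := by decide +kernel
theorem c23_2 : allRange (fun i => Nat.beq (act23 i) i) 5454 2727 = true := by decide +kernel
theorem c23_3 : allRange (fun i => Nat.beq (act23 i) i) 8181 1296 = true := by decide +kernel
theorem h23 : ∀ i, i < T.N → Tab.relActOK T D chk23 i = true := by
  intro i hi
  rw [Tab.relActOK, ← act23_eq]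
  exact (range_glue (range_of_allRange c23_0) (range_glue (range_of_allRange c23_1) (range_glue (range_of_allRange c23_2) (range_of_allRange c23_3)))) i (Nat.zero_le _) hi

def chk24 : List Nat := [9, 7, 8, 6]
noncomputable def act24 (i : Nat) : Nat := col8 (col6 (col9 (col7 (i))))
theorem act24_eq (i : Nat) : act24 i = Tab.act T D chk24 i := rfl
theorem c24_0 : allRange (fun i => Nat.beq (act24 i) i) 0 9477 = true := by decide +kernel
theorem h24 : ∀ i, i < T.N → Tab.relActOK T D chk24 i = true := by
  intro i hi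
  rw [Tab.relActOK, ← act24_eq]
  exact (range_of_allRange c24_0) i (Nat.zero_le _) hi

def chk25 : List Nat := [0, 0, 0, 0, 0, 0, 0]
noncomputable def act25 (i : Nat) : Nat := col1 (col1 (col1 (col1 (col1 (col1 (col1 (i)))))))
theorem act25_eq (i : Nat) : act25 i = Tab.act T D chk25 i := rfl
theorem c25_0 : allRange (fun i => Nat.beq (act25 i) i) 0 6666 = true := by decide +kernel
theorem c25_1 : allRange (fun i => Nat.beq (act25 i) i) 6666 2811 = true := by decide +kernel
theorem h25 : ∀ i, i < T.N → Tab.relActOK T D chk25 i = true := by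
  intro i hi
  rw [Tab.relActOK, ← act25_eq]
  exact (range_glue (range_of_allRange c25_0) (range_of_allRange c25_1)) i (Nat.zero_le _) hi

def chk26 : List Nat := [0, 0, 2, 1, 2, 0, 3, 0, 2, 1, 2]
noncomputable def act26 (i : Nat) : Nat := col1 (col1 (col3 (col0 (col3 (col1 (col2 (col1 (col3 (col0 (col3 (i)))))))))))
theorem act26_eq (i : Nat) : act26 i = Tab.act T D chk26 i := rfl
theorem c26_0 : allRange (fun i => Nat.beq (act26 i) i) 0 4615 = true := by decide +kernel
theorem c26_1 : allRange (fun i => Nat.beq (act26 i) i) 4615 4615 = true := by decide +kernel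
theorem c26_2 : allRange (fun i => Nat.beq (act26 i) i) 9230 247 = true := by decide +kernel
theorem h26 : ∀ i, i < T.N → Tab.relActOK T D chk26 i = true := by
  intro i hi
  rw [Tab.relActOK, ← act26_eq]
  exact (range_glue (range_of_allRange c26_0) (range_glue (range_of_allRange c26_1) (range_of_allRange c26_2))) i (Nat.zero_le _) hi

def chk27 : List Nat := [0, 0, 0, 2, 0, 0, 0, 2, 0, 0, 0, 2]
noncomputable def act27 (i : Nat) : Nat := col1 (col1 (col1 (col3 (col1 (col1 (col1 (col3 (col1 (col1 (col1 (col3 (i))))))))))))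
theorem act27_eq (i : Nat) : act27 i = Tab.act T D chk27 i := rfl
theorem c27_0 : allRange (fun i => Nat.beq (act27 i) i) 0 4285 = true := by decide +kernel
theorem c27_1 : allRange (fun i => Nat.beq (act27 i) i) 4285 4285 = true := by decide +kernel
theorem c27_2 : allRange (fun i => Nat.beq (act27 i) i) 8570 907 = true := by decide +kernel
theorem h27 : ∀ i, i < T.N → Tab.relActOK T D chk27 i = true := by
  intro i hi
  rw [Tab.relActOK, ← act27_eq]
  exact (range_glue (range_of_allRange c27_0) (range_glue (range_of_allRange c27_1) (range_of_allRange c27_2))) i (Nat.zero_le _) hi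

def chk28 : List Nat := [0, 0, 2, 2, 0, 0, 3, 3, 0, 0, 3, 3]
noncomputable def act28 (i : Nat) : Nat := col1 (col1 (col3 (col3 (col1 (col1 (col2 (col2 (col1 (col1 (col2 (col2 (i))))))))))))
theorem act28_eq (i : Nat) : act28 i = Tab.act T D chk28 i := rfl
theorem c28_0 : allRange (fun i => Nat.beq (act28 i) i) 0 4285 = true := by decide +kernel
theorem c28_1 : allRange (fun i => Nat.beq (act28 i) i) 4285 4285 = true := by decide +kernel
theorem c28_2 : allRange (fun i => Nat.beq (act28 i) i) 8570 907 = true := by decide +kernel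
theorem h28 : ∀ i, i < T.N → Tab.relActOK T D chk28 i = true := by
  intro i hi
  rw [Tab.relActOK, ← act28_eq]
  exact (range_glue (range_of_allRange c28_0) (range_glue (range_of_allRange c28_1) (range_of_allRange c28_2))) i (Nat.zero_le _) hi

def chk29 : List Nat := [4, 4, 4]
noncomputable def act29 (i : Nat) : Nat := col5 (col5 (col5 (i)))
theorem act29_eq (i : Nat) : act29 i = Tab.act T D chk29 i := rfl
theorem c29_0 : allRange (fun i => Nat.beq (act29 i) i) 0 9477 = true := by decide +kernel
theorem h29 : ∀ i, i < T.N → Tab.relActOK T D chk29 i = true := by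
  intro i hi
  rw [Tab.relActOK, ← act29_eq]
  exact (range_of_allRange c29_0) i (Nat.zero_le _) hi

def chk30 : List Nat := [0, 0, 4, 1, 1, 3, 4, 2]
noncomputable def act30 (i : Nat) : Nat := col1 (col1 (col5 (col0 (col0 (col2 (col5 (col3 (i))))))))
theorem act30_eq (i : Nat) : act30 i = Tab.act T D chk30 i := rfl
theorem c30_0 : allRange (fun i => Nat.beq (act30 i) i) 0 6000 = true := by decide +kernel
theorem c30_1 : allRange (fun i => Nat.beq (act30 i) i) 6000 3477 = true := by decide +kernel
theorem h30 : ∀ i, i < T.N → Tab.relActOK T D chk30 i = true := by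
  intro i hi
  rw [Tab.relActOK, ← act30_eq]
  exact (range_glue (range_of_allRange c30_0) (range_of_allRange c30_1)) i (Nat.zero_le _) hi

def chk31 : List Nat := [0, 2, 4, 0, 2, 4, 0, 2, 4]
noncomputable def act31 (i : Nat) : Nat := col1 (col3 (col5 (col1 (col3 (col5 (col1 (col3 (col5 (i)))))))))
theorem act31_eq (i : Nat) : act31 i = Tab.act T D chk31 i := rfl
theorem c31_0 : allRange (fun i => Nat.beq (act31 i) i) 0 5454 = true := by decide +kernel
theorem c31_1 : allRange (fun i => Nat.beq (act31 i) i) 5454 4023 = true := by decide +kernel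
theorem h31 : ∀ i, i < T.N → Tab.relActOK T D chk31 i = true := by
  intro i hi
  rw [Tab.relActOK, ← act31_eq]
  exact (range_glue (range_of_allRange c31_0) (range_of_allRange c31_1)) i (Nat.zero_le _) hi

def chk32 : List Nat := [0, 2, 2, 1, 4, 0, 3, 3, 1, 4]
noncomputable def act32 (i : Nat) : Nat := col1 (col3 (col3 (col0 (col5 (col1 (col2 (col2 (col0 (col5 (i))))))))))
theorem act32_eq (i : Nat) : act32 i = Tab.act T D chk32 i := rfl
theorem c32_0 : allRange (fun i => Nat.beq (act32 i) i) 0 5000 = true := by decide +kernel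
theorem c32_1 : allRange (fun i => Nat.beq (act32 i) i) 5000 4477 = true := by decide +kernel
theorem h32 : ∀ i, i < T.N → Tab.relActOK T D chk32 i = true := by
  intro i hi
  rw [Tab.relActOK, ← act32_eq]
  exact (range_glue (range_of_allRange c32_0) (range_of_allRange c32_1)) i (Nat.zero_le _) hi

def chk33 : List Nat := [0, 4, 1, 4, 1, 2, 4, 3, 0, 5]
noncomputable def act33 (i : Nat) : Nat := col1 (col5 (col0 (col5 (col0 (col3 (col5 (col2 (col1 (col4 (i))))))))))
theorem act33_eq (i : Nat) : act33 i = Tab.act T D chk33 i := rfl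
theorem c33_0 : allRange (fun i => Nat.beq (act33 i) i) 0 5000 = true := by decide +kernel
theorem c33_1 : allRange (fun i => Nat.beq (act33 i) i) 5000 4477 = true := by decide +kernel
theorem h33 : ∀ i, i < T.N → Tab.relActOK T D chk33 i = true := by
  intro i hi
  rw [Tab.relActOK, ← act33_eq]
  exact (range_glue (range_of_allRange c33_0) (range_of_allRange c33_1)) i (Nat.zero_le _) hi

def chk34 : List Nat := [0, 0, 3, 0, 4, 1, 2, 1, 1, 2, 0, 5, 1, 3, 0, 0, 3, 0, 4, 1, 2, 1, 1, 2, 0, 5, 1, 3, 0, 0, 3, 0, 4, 1, 2, 1, 1, 2, 0, 5, 1, 3]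
noncomputable def act34 (i : Nat) : Nat := col1 (col1 (col2 (col1 (col5 (col0 (col3 (col0 (col0 (col3 (col1 (col4 (col0 (col2 (col1 (col1 (col2 (col1 (col5 (col0 (col3 (col0 (col0 (col3 (col1 (col4 (col0 (col2 (col1 (col1 (col2 (col1 (col5 (col0 (col3 (col0 (col0 (col3 (col1 (col4 (col0 (col2 (i))))))))))))))))))))))))))))))))))))))))))
theorem act34_eq (i : Nat) : act34 i = Tab.act T D chk34 i := rfl
theorem c34_0 : allRange (fun i => Nat.beq (act34 i) i) 0 1363 = true := by decide +kernel
theorem c34_1 : allRange (fun i => Nat.beq (act34 i) i) 1363 1363 = true := by decide +kernel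
theorem c34_2 : allRange (fun i => Nat.beq (act34 i) i) 2726 1363 = true := by decide +kernel
theorem c34_3 : allRange (fun i => Nat.beq (act34 i) i) 4089 1363 = true := by decide +kernel
theorem c34_4 : allRange (fun i => Nat.beq (act34 i) i) 5452 1363 = true := by decide +kernel
theorem c34_5 : allRange (fun i => Nat.beq (act34 i) i) 6815 1363 = true := by decide +kernel
theorem c34_6 : allRange (fun i => Nat.beq (act34 i) i) 8178 1299 = true := by decide +kernel
theorem h34 : ∀ i, i < T.N → Tab.relActOK T D chk34 i = true := by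
  intro i hi
  rw [Tab.relActOK, ← act34_eq]
  exact (range_glue (range_of_allRange c34_0) (range_glue (range_of_allRange c34_1) (range_glue (range_of_allRange c34_2) (range_glue (range_of_allRange c34_3) (range_glue (range_of_allRange c34_4) (range_glue (range_of_allRange c34_5) (range_of_allRange c34_6))))))) i (Nat.zero_le _) hi

def chk35 : List Nat := [2, 0, 4, 1, 3, 0, 0, 3, 0, 5, 1, 2, 1, 1, 1, 0, 0, 3, 0, 4, 1, 2, 1, 1, 2, 0, 5, 1, 3, 0]
noncomputable def act35 (i : Nat) : Nat := col3 (col1 (col5 (col0 (col2 (col1 (col1 (col2 (col1 (col4 (col0 (col3 (col0 (col0 (col0 (col1 (col1 (col2 (col1 (col5 (col0 (col3 (col0 (col0 (col3 (col1 (col4 (col0 (col2 (col1 (i))))))))))))))))))))))))))))))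
theorem act35_eq (i : Nat) : act35 i = Tab.act T D chk35 i := rfl
theorem c35_0 : allRange (fun i => Nat.beq (act35 i) i) 0 1875 = true := by decide +kernel
theorem c35_1 : allRange (fun i => Nat.beq (act35 i) i) 1875 1875 = true := by decide +kernel
theorem c35_2 : allRange (fun i => Nat.beq (act35 i) i) 3750 1875 = true := by decide +kernel
theorem c35_3 : allRange (fun i => Nat.beq (act35 i) i) 5625 1875 = true := by decide +kernel
theorem c35_4 : allRange (fun i => Nat.beq (act35 i) i) 7500 1875 = true := by decide +kernel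
theorem c35_5 : allRange (fun i => Nat.beq (act35 i) i) 9375 102 = true := by decide +kernel
theorem h35 : ∀ i, i < T.N → Tab.relActOK T D chk35 i = true := by
  intro i hi
  rw [Tab.relActOK, ← act35_eq]
  exact (range_glue (range_of_allRange c35_0) (range_glue (range_of_allRange c35_1) (range_glue (range_of_allRange c35_2) (range_glue (range_of_allRange c35_3) (range_glue (range_of_allRange c35_4) (range_of_allRange c35_5)))))) i (Nat.zero_le _) hi

def chk36 : List Nat := [2, 0, 4, 1, 3, 0, 0, 3, 0, 5, 1, 2, 1, 1, 3, 0, 0, 3, 0, 4, 1, 2, 1, 1, 2, 0, 5, 1, 3, 2]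
noncomputable def act36 (i : Nat) : Nat := col3 (col1 (col5 (col0 (col2 (col1 (col1 (col2 (col1 (col4 (col0 (col3 (col0 (col0 (col2 (col1 (col1 (col2 (col1 (col5 (col0 (col3 (col0 (col0 (col3 (col1 (col4 (col0 (col2 (col3 (i))))))))))))))))))))))))))))))
theorem act36_eq (i : Nat) : act36 i = Tab.act T D chk36 i := rfl
theorem c36_0 : allRange (fun i => Nat.beq (act36 i) i) 0 1875 = true := by decide +kernel
theorem c36_1 : allRange (fun i => Nat.beq (act36 i) i) 1875 1875 = true := by decide +kernel
theorem c36_2 : allRange (fun i => Nat.beq (act36 i) i) 3750 1875 = true := by decide +kernel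
theorem c36_3 : allRange (fun i => Nat.beq (act36 i) i) 5625 1875 = true := by decide +kernel
theorem c36_4 : allRange (fun i => Nat.beq (act36 i) i) 7500 1875 = true := by decide +kernel
theorem c36_5 : allRange (fun i => Nat.beq (act36 i) i) 9375 102 = true := by decide +kernel
theorem h36 : ∀ i, i < T.N → Tab.relActOK T D chk36 i = true := by
  intro i hi
  rw [Tab.relActOK, ← act36_eq]
  exact (range_glue (range_of_allRange c36_0) (range_glue (range_of_allRange c36_1) (range_glue (range_of_allRange c36_2) (range_glue (range_of_allRange c36_3) (range_glue (range_of_allRange c36_4) (range_of_allRange c36_5)))))) i (Nat.zero_le _) hi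

def chk37 : List Nat := [2, 0, 4, 1, 3, 0, 0, 3, 0, 5, 1, 2, 1, 1, 5, 0, 0, 3, 0, 4, 1, 2, 1, 1, 2, 0, 5, 1, 3, 4]
noncomputable def act37 (i : Nat) : Nat := col3 (col1 (col5 (col0 (col2 (col1 (col1 (col2 (col1 (col4 (col0 (col3 (col0 (col0 (col4 (col1 (col1 (col2 (col1 (col5 (col0 (col3 (col0 (col0 (col3 (col1 (col4 (col0 (col2 (col5 (i))))))))))))))))))))))))))))))
theorem act37_eq (i : Nat) : act37 i = Tab.act T D chk37 i := rfl
theorem c37_0 : allRange (fun i => Nat.beq (act37 i) i) 0 1875 = true := by decide +kernel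
theorem c37_1 : allRange (fun i => Nat.beq (act37 i) i) 1875 1875 = true := by decide +kernel
theorem c37_2 : allRange (fun i => Nat.beq (act37 i) i) 3750 1875 = true := by decide +kernel
theorem c37_3 : allRange (fun i => Nat.beq (act37 i) i) 5625 1875 = true := by decide +kernel
theorem c37_4 : allRange (fun i => Nat.beq (act37 i) i) 7500 1875 = true := by decide +kernel
theorem c37_5 : allRange (fun i => Nat.beq (act37 i) i) 9375 102 = true := by decide +kernel
theorem h37 : ∀ i, i < T.N → Tab.relActOK T D chk37 i = true := by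
  intro i hi
  rw [Tab.relActOK, ← act37_eq]
  exact (range_glue (range_of_allRange c37_0) (range_glue (range_of_allRange c37_1) (range_glue (range_of_allRange c37_2) (range_glue (range_of_allRange c37_3) (range_glue (range_of_allRange c37_4) (range_of_allRange c37_5)))))) i (Nat.zero_le _) hi

def chkAll : List (List Nat) := [chk0, chk1, chk2, chk3, chk4, chk5, chk6, chk7, chk8, chk9, chk10, chk11, chk12, chk13, chk14, chk15, chk16, chk17, chk18, chk19, chk20, chk21, chk22, chk23, chk24, chk25, chk26, chk27, chk28, chk29, chk30, chk31, chk32, chk33, chk34, chk35, chk36, chk37]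
theorem hAll : ∀ w ∈ chkAll, ∀ i, i < T.N → Tab.relActOK T D w i = true := by
  intro w hw
  simp only [chkAll, List.mem_cons, List.not_mem_nil, or_false] at hw
  rcases hw with rfl | rfl | rfl | rfl | rfl | rfl | rfl | rfl | rfl | rfl | rfl | rfl | rfl | rfl | rfl | rfl | rfl | rfl | rfl | rfl | rfl | rfl | rfl | rfl | rfl | rfl | rfl | rfl | rfl | rfl | rfl | rfl | rfl | rfl | rfl | rfl | rfl | rfl
  · exact h0
  · exact h1
  · exact h2
  · exact h3
  · exact h4
  · exact h5
  · exact h6
  · exact h7
  · exact h8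
  · exact h9
  · exact h10
  · exact h11
  · exact h12
  · exact h13
  · exact h14
  · exact h15
  · exact h16
  · exact h17
  · exact h18
  · exact h19
  · exact h20
  · exact h21
  · exact h22
  · exact h23
  · exact h24
  · exact h25
  · exact h26
  · exact h27
  · exact h28
  · exact h29
  · exact h30
  · exact h31
  · exact h32
  · exact h33
  · exact h34
  · exact h35
  · exact h36
  · exact h37
theorem hAll_lt : ∀ w ∈ chkAll, ∀ x ∈ w, x < 10 := by decide +kernel

end Cfsg.Agent.Lib.Helper4.TCD.SC3O73p3W
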