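import Cfsg.Agent.Lib.Helper4.TCD_C3Fi22yB_Acc

namespace Cfsg.Agent.Lib.Helper4.TCD.C3Fi22yB

open Cfsg.Agent.Lib.Helper4.TC

set_option maxRecDepth 100000
set_option Elab.async false

theorem c_rel_92 : allRange D.relOK 117243 3665 = true := by decide +kernel
theorem c_rel_93 : allRange D.relOK 120908 3474 = true := by decide +kernel
theorem c_rel_94 : allRange D.relOK 124382 3491 = true := by decide +kernel
theorem c_rel_95 : allRange D.relOK 127873 3537 = true := by decide +kernel
theorem c_rel_96 : allRange D.relOK 131410 3276 = true := by decide +kernel
theorem c_rel_97 : allRange D.relOK 134686 3424 = true := by decide +kernel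
theorem c_rel_98 : allRange D.relOK 138110 3389 = true := by decide +kernel
theorem c_rel_99 : allRange D.relOK 141499 3588 = true := by decide +kernel
theorem c_rel_100 : allRange D.relOK 145087 3285 = true := by decide +kernel
theorem c_rel_101 : allRange D.relOK 148372 3300 = true := by decide +kernel
theorem c_rel_102 : allRange D.relOK 151672 3269 = true := by decide +kernel
theorem c_rel_103 : allRange D.relOK 154941 3278 = true := by decide +kernel
theorem c_rel_104 : allRange D.relOK 158219 3504 = true := by decide +kernel
theorem c_rel_105 : allRange D.relOK 161723 3420 = true := by decide +kernel
theorem c_rel_106 : allRange D.relOK 165143 3464 = true := by decide +kernel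
theorem c_rel_107 : allRange D.relOK 168607 3406 = true := by decide +kernel
theorem c_rel_108 : allRange D.relOK 172013 3378 = true := by decide +kernel
theorem c_rel_109 : allRange D.relOK 175391 3254 = true := by decide +kernel
theorem c_rel_110 : allRange D.relOK 178645 2778 = true := by decide +kernel
theorem c_rel_111 : allRange D.relOK 181423 2872 = true := by decide +kernel
theorem c_rel_112 : allRange D.relOK 184295 2438 = true := by decide +kernel
theorem c_rel_113 : allRange D.relOK 186733 2154 = true := by decide +kernel
theorem c_rel_114 : allRange D.relOK 188887 1819 = true := by decide +kernel
theorem c_rel_115 : allRange D.relOK 190706 2167 = true := by decide +kernel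
theorem c_rel_116 : allRange D.relOK 192873 2049 = true := by decide +kernel
theorem c_rel_117 : allRange D.relOK 194922 1271 = true := by decide +kernel
theorem c_rel_118 : allRange D.relOK 196193 577 = true := by decide +kernel
theorem c_rel_119 : allRange D.relOK 196770 727 = true := by decide +kernel
theorem c_rel_120 : allRange D.relOK 197497 612 = true := by decide +kernel
theorem c_rel_121 : allRange D.relOK 198109 627 = true := by decide +kernel
theorem c_rel_122 : allRange D.relOK 198736 957 = true := by decide +kernel
theorem c_rel_123 : allRange D.relOK 199693 685 = true := by decide +kernel
theorem c_rel_124 : allRange D.relOK 200378 464 = true := by decide +kernel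
theorem c_rel_125 : allRange D.relOK 200842 246 = true := by decide +kernel
theorem c_rel_126 : allRange D.relOK 201088 524 = true := by decide +kernel
theorem c_rel_127 : allRange D.relOK 201612 583 = true := by decide +kernel
theorem c_rel_128 : allRange D.relOK 202195 582 = true := by decide +kernel
theorem c_rel_129 : allRange D.relOK 202777 307 = true := by decide +kernel
theorem c_rel_130 : allRange D.relOK 203084 828 = true := by decide +kernel
theorem c_rel_131 : allRange D.relOK 203912 755 = true := by decide +kernel
theorem c_rel_132 : allRange D.relOK 204667 777 = true := by decide +kernel
theorem c_rel_133 : allRange D.relOK 205444 654 = true := by decide +kernel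
theorem c_rel_134 : allRange D.relOK 206098 562 = true := by decide +kernel
theorem c_rel_135 : allRange D.relOK 206660 744 = true := by decide +kernel
theorem c_rel_136 : allRange D.relOK 207404 342 = true := by decide +kernel
theorem c_rel_137 : allRange D.relOK 207746 436 = true := by decide +kernel
theorem c_rel_138 : allRange D.relOK 208182 356 = true := by decide +kernel
theorem c_rel_139 : allRange D.relOK 208538 356 = true := by decide +kernel
theorem c_rel_140 : allRange D.relOK 208894 445 = true := by decide +kernel
theorem c_rel_141 : allRange D.relOK 209339 385 = true := by decide +kernel
theorem c_rel_142 : allRange D.relOK 209724 466 = true := by decide +kernel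
theorem c_rel_143 : allRange D.relOK 210190 369 = true := by decide +kernel
theorem c_rel_144 : allRange D.relOK 210559 250 = true := by decide +kernel
theorem c_rel_145 : allRange D.relOK 210809 326 = true := by decide +kernel
theorem c_rel_146 : allRange D.relOK 211135 295 = true := by decide +kernel
theorem c_rel_147 : allRange D.relOK 211430 379 = true := by decide +kernel
theorem c_rel_148 : allRange D.relOK 211809 241 = true := by decide +kernel
theorem c_rel_149 : allRange D.relOK 212050 248 = true := by decide +kernel
theorem c_rel_150 : allRange D.relOK 212298 252 = true := by decide +kernel
theorem c_rel_151 : allRange D.relOK 212550 200 = true := by decide +kernel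
theorem c_rel_152 : allRange D.relOK 212750 234 = true := by decide +kernel
theorem c_rel_153 : allRange D.relOK 212984 300 = true := by decide +kernel
theorem c_rel_154 : allRange D.relOK 213284 291 = true := by decide +kernel
theorem c_rel_155 : allRange D.relOK 213575 291 = true := by decide +kernel
theorem c_rel_156 : allRange D.relOK 213866 258 = true := by decide +kernel
theorem c_rel_157 : allRange D.relOK 214124 252 = true := by decide +kernel
theorem c_rel_158 : allRange D.relOK 214376 291 = true := by decide +kernel
theorem c_rel_159 : allRange D.relOK 214667 251 = true := by decide +kernel
theorem c_rel_160 : allRange D.relOK 214918 201 = true := by decide +kernel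
theorem c_rel_161 : allRange D.relOK 215119 201 = true := by decide +kernel
theorem c_rel_162 : allRange D.relOK 215320 244 = true := by decide +kernel
theorem c_rel_163 : allRange D.relOK 215564 229 = true := by decide +kernel
theorem c_rel_164 : allRange D.relOK 215793 222 = true := by decide +kernel
theorem c_rel_165 : allRange D.relOK 216015 268 = true := by decide +kernel
theorem c_rel_166 : allRange D.relOK 216283 278 = true := by decide +kernel
theorem c_rel_167 : allRange D.relOK 216561 205 = true := by decide +kernel
theorem c_rel_168 : allRange D.relOK 216766 220 = true := by decide +kernel
theorem c_rel_169 : allRange D.relOK 216986 250 = true := by decide +kernel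
theorem c_rel_170 : allRange D.relOK 217236 208 = true := by decide +kernel
theorem c_rel_171 : allRange D.relOK 217444 247 = true := by decide +kernel
theorem c_rel_172 : allRange D.relOK 217691 169 = true := by decide +kernel
theorem c_rel_173 : allRange D.relOK 217860 218 = true := by decide +kernel
theorem c_rel_174 : allRange D.relOK 218078 194 = true := by decide +kernel
theorem c_rel_175 : allRange D.relOK 218272 171 = true := by decide +kernel
theorem c_rel_176 : allRange D.relOK 218443 196 = true := by decide +kernel
theorem c_rel_177 : allRange D.relOK 218639 182 = true := by decide +kernel
theorem c_rel_178 : allRange D.relOK 218821 192 = true := by decide +kernel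
theorem c_rel_179 : allRange D.relOK 219013 200 = true := by decide +kernel
theorem c_rel_180 : allRange D.relOK 219213 175 = true := by decide +kernel
theorem c_rel_181 : allRange D.relOK 219388 171 = true := by decide +kernel
theorem c_rel_182 : allRange D.relOK 219559 171 = true := by decide +kernel
theorem c_rel_183 : allRange D.relOK 219730 189 = true := by decide +kernel
theorem c_rel_184 : allRange D.relOK 219919 176 = true := by decide +kernel
theorem c_rel_185 : allRange D.relOK 220095 198 = true := by decide +kernel
theorem c_rel_186 : allRange D.relOK 220293 159 = true := by decide +kernel
theorem c_rel_187 : allRange D.relOK 220452 189 = true := by decide +kernel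
theorem c_rel_188 : allRange D.relOK 220641 178 = true := by decide +kernel
theorem c_rel_189 : allRange D.relOK 220819 169 = true := by decide +kernel
theorem c_rel_190 : allRange D.relOK 220988 193 = true := by decide +kernel

end Cfsg.Agent.Lib.Helper4.TCD.C3Fi22yB
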