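import Cfsg.Agent.Lib.Helper4.TCD_C3Fi22yB_Acc

namespace Cfsg.Agent.Lib.Helper4.TCD.C3Fi22yB

open Cfsg.Agent.Lib.Helper4.TC

set_option maxRecDepth 100000
set_option Elab.async false

theorem c_rel_191 : allRange D.relOK 221181 154 = true := by decide +kernel
theorem c_rel_192 : allRange D.relOK 221335 176 = true := by decide +kernel
theorem c_rel_193 : allRange D.relOK 221511 178 = true := by decide +kernel
theorem c_rel_194 : allRange D.relOK 221689 172 = true := by decide +kernel
theorem c_rel_195 : allRange D.relOK 221861 223 = true := by decide +kernel
theorem c_rel_196 : allRange D.relOK 222084 176 = true := by decide +kernel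
theorem c_rel_197 : allRange D.relOK 222260 176 = true := by decide +kernel
theorem c_rel_198 : allRange D.relOK 222436 165 = true := by decide +kernel
theorem c_rel_199 : allRange D.relOK 222601 196 = true := by decide +kernel
theorem c_rel_200 : allRange D.relOK 222797 218 = true := by decide +kernel
theorem c_rel_201 : allRange D.relOK 223015 172 = true := by decide +kernel
theorem c_rel_202 : allRange D.relOK 223187 209 = true := by decide +kernel
theorem c_rel_203 : allRange D.relOK 223396 177 = true := by decide +kernel
theorem c_rel_204 : allRange D.relOK 223573 169 = true := by decide +kernel
theorem c_rel_205 : allRange D.relOK 223742 181 = true := by decide +kernel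
theorem c_rel_206 : allRange D.relOK 223923 213 = true := by decide +kernel
theorem c_rel_207 : allRange D.relOK 224136 220 = true := by decide +kernel
theorem c_rel_208 : allRange D.relOK 224356 242 = true := by decide +kernel
theorem c_rel_209 : allRange D.relOK 224598 260 = true := by decide +kernel
theorem c_rel_210 : allRange D.relOK 224858 254 = true := by decide +kernel
theorem c_rel_211 : allRange D.relOK 225112 552 = true := by decide +kernel
theorem c_rel_212 : allRange D.relOK 225664 888 = true := by decide +kernel
theorem c_rel_213 : allRange D.relOK 226552 1233 = true := by decide +kernel
theorem c_rel_214 : allRange D.relOK 227785 1342 = true := by decide +kernel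
theorem c_rel_215 : allRange D.relOK 229127 1320 = true := by decide +kernel
theorem c_rel_216 : allRange D.relOK 230447 1295 = true := by decide +kernel
theorem c_rel_217 : allRange D.relOK 231742 1279 = true := by decide +kernel
theorem c_rel_218 : allRange D.relOK 233021 1271 = true := by decide +kernel
theorem c_rel_219 : allRange D.relOK 234292 1296 = true := by decide +kernel
theorem c_rel_220 : allRange D.relOK 235588 1274 = true := by decide +kernel
theorem c_rel_221 : allRange D.relOK 236862 1117 = true := by decide +kernel
theorem c_rel_222 : allRange D.relOK 237979 643 = true := by decide +kernel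
theorem c_rel_223 : allRange D.relOK 238622 626 = true := by decide +kernel
theorem c_rel_224 : allRange D.relOK 239248 593 = true := by decide +kernel
theorem c_rel_225 : allRange D.relOK 239841 640 = true := by decide +kernel
theorem c_rel_226 : allRange D.relOK 240481 803 = true := by decide +kernel
theorem c_rel_227 : allRange D.relOK 241284 859 = true := by decide +kernel
theorem c_rel_228 : allRange D.relOK 242143 905 = true := by decide +kernel
theorem c_rel_229 : allRange D.relOK 243048 995 = true := by decide +kernel
theorem c_rel_230 : allRange D.relOK 244043 934 = true := by decide +kernel
theorem c_rel_231 : allRange D.relOK 244977 971 = true := by decide +kernel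
theorem c_rel_232 : allRange D.relOK 245948 1104 = true := by decide +kernel
theorem c_rel_233 : allRange D.relOK 247052 997 = true := by decide +kernel
theorem c_rel_234 : allRange D.relOK 248049 1000 = true := by decide +kernel
theorem c_rel_235 : allRange D.relOK 249049 1003 = true := by decide +kernel
theorem c_rel_236 : allRange D.relOK 250052 1043 = true := by decide +kernel
theorem c_rel_237 : allRange D.relOK 251095 972 = true := by decide +kernel
theorem c_rel_238 : allRange D.relOK 252067 942 = true := by decide +kernel
theorem c_rel_239 : allRange D.relOK 253009 941 = true := by decide +kernel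
theorem c_rel_240 : allRange D.relOK 253950 915 = true := by decide +kernel
theorem c_rel_241 : allRange D.relOK 254865 954 = true := by decide +kernel
theorem c_rel_242 : allRange D.relOK 255819 846 = true := by decide +kernel
theorem c_rel_243 : allRange D.relOK 256665 698 = true := by decide +kernel
theorem c_rel_244 : allRange D.relOK 257363 434 = true := by decide +kernel
theorem c_rel_245 : allRange D.relOK 257797 2956 = true := by decide +kernel
theorem c_rel_246 : allRange D.relOK 260753 3558 = true := by decide +kernel
theorem c_rel_247 : allRange D.relOK 264311 3561 = true := by decide +kernel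
theorem c_rel_248 : allRange D.relOK 267872 3601 = true := by decide +kernel
theorem c_rel_249 : allRange D.relOK 271473 3580 = true := by decide +kernel
theorem c_rel_250 : allRange D.relOK 275053 3596 = true := by decide +kernel
theorem c_rel_251 : allRange D.relOK 278649 3540 = true := by decide +kernel
theorem c_rel_252 : allRange D.relOK 282189 3557 = true := by decide +kernel
theorem c_rel_253 : allRange D.relOK 285746 3644 = true := by decide +kernel
theorem c_rel_254 : allRange D.relOK 289390 3541 = true := by decide +kernel
theorem c_rel_255 : allRange D.relOK 292931 3708 = true := by decide +kernel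
theorem c_rel_256 : allRange D.relOK 296639 3678 = true := by decide +kernel
theorem c_rel_257 : allRange D.relOK 300317 3665 = true := by decide +kernel
theorem c_rel_258 : allRange D.relOK 303982 3645 = true := by decide +kernel
theorem c_rel_259 : allRange D.relOK 307627 4080 = true := by decide +kernel
theorem c_rel_260 : allRange D.relOK 311707 4687 = true := by decide +kernel
theorem c_rel_261 : allRange D.relOK 316394 4848 = true := by decide +kernel
theorem c_rel_262 : allRange D.relOK 321242 3767 = true := by decide +kernel
theorem c_fin_0 : allGrid (T.finOK D) 0 461 26 = true := by decide +kernel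
theorem c_fin_1 : allGrid (T.finOK D) 461 461 26 = true := by decide +kernel
theorem c_fin_2 : allGrid (T.finOK D) 922 461 26 = true := by decide +kernel
theorem c_fin_3 : allGrid (T.finOK D) 1383 461 26 = true := by decide +kernel
theorem c_fin_4 : allGrid (T.finOK D) 1844 461 26 = true := by decide +kernel
theorem c_fin_5 : allGrid (T.finOK D) 2305 461 26 = true := by decide +kernel
theorem c_fin_6 : allGrid (T.finOK D) 2766 461 26 = true := by decide +kernel
theorem c_fin_7 : allGrid (T.finOK D) 3227 461 26 = true := by decide +kernel
theorem c_fin_8 : allGrid (T.finOK D) 3688 461 26 = true := by decide +kernel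
theorem c_fin_9 : allGrid (T.finOK D) 4149 461 26 = true := by decide +kernel
theorem c_fin_10 : allGrid (T.finOK D) 4610 461 26 = true := by decide +kernel
theorem c_fin_11 : allGrid (T.finOK D) 5071 461 26 = true := by decide +kernel
theorem c_fin_12 : allGrid (T.finOK D) 5532 461 26 = true := by decide +kernel
theorem c_fin_13 : allGrid (T.finOK D) 5993 461 26 = true := by decide +kernel

end Cfsg.Agent.Lib.Helper4.TCD.C3Fi22yB
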