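import Cfsg.Agent.Lib.Helper4.TCD_C3Fi22yB_Acc

namespace Cfsg.Agent.Lib.Helper4.TCD.C3Fi22yB

open Cfsg.Agent.Lib.Helper4.TC

set_option maxRecDepth 100000
set_option Elab.async false

theorem c_fin_14 : allGrid (T.finOK D) 6454 461 26 = true := by decide +kernel
theorem c_fin_15 : allGrid (T.finOK D) 6915 461 26 = true := by decide +kernel
theorem c_fin_16 : allGrid (T.finOK D) 7376 461 26 = true := by decide +kernel
theorem c_fin_17 : allGrid (T.finOK D) 7837 461 26 = true := by decide +kernel
theorem c_fin_18 : allGrid (T.finOK D) 8298 461 26 = true := by decide +kernel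
theorem c_fin_19 : allGrid (T.finOK D) 8759 461 26 = true := by decide +kernel
theorem c_fin_20 : allGrid (T.finOK D) 9220 461 26 = true := by decide +kernel
theorem c_fin_21 : allGrid (T.finOK D) 9681 461 26 = true := by decide +kernel
theorem c_fin_22 : allGrid (T.finOK D) 10142 461 26 = true := by decide +kernel
theorem c_fin_23 : allGrid (T.finOK D) 10603 461 26 = true := by decide +kernel
theorem c_fin_24 : allGrid (T.finOK D) 11064 461 26 = true := by decide +kernel
theorem c_fin_25 : allGrid (T.finOK D) 11525 461 26 = true := by decide +kernel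
theorem c_fin_26 : allGrid (T.finOK D) 11986 461 26 = true := by decide +kernel
theorem c_fin_27 : allGrid (T.finOK D) 12447 461 26 = true := by decide +kernel
theorem c_fin_28 : allGrid (T.finOK D) 12908 461 26 = true := by decide +kernel
theorem c_fin_29 : allGrid (T.finOK D) 13369 461 26 = true := by decide +kernel
theorem c_fin_30 : allGrid (T.finOK D) 13830 250 26 = true := by decide +kernel
theorem c_perm_0 : allGrid (T.permOK1 D) 0 1153 26 = true := by decide +kernel
theorem c_perm_1 : allGrid (T.permOK1 D) 1153 1153 26 = true := by decide +kernel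
theorem c_perm_2 : allGrid (T.permOK1 D) 2306 1153 26 = true := by decide +kernel
theorem c_perm_3 : allGrid (T.permOK1 D) 3459 1153 26 = true := by decide +kernel
theorem c_perm_4 : allGrid (T.permOK1 D) 4612 1153 26 = true := by decide +kernel
theorem c_perm_5 : allGrid (T.permOK1 D) 5765 1153 26 = true := by decide +kernel
theorem c_perm_6 : allGrid (T.permOK1 D) 6918 1153 26 = true := by decide +kernel
theorem c_perm_7 : allGrid (T.permOK1 D) 8071 1153 26 = true := by decide +kernel
theorem c_perm_8 : allGrid (T.permOK1 D) 9224 1153 26 = true := by decide +kernel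
theorem c_perm_9 : allGrid (T.permOK1 D) 10377 1153 26 = true := by decide +kernel
theorem c_perm_10 : allGrid (T.permOK1 D) 11530 1153 26 = true := by decide +kernel
theorem c_perm_11 : allGrid (T.permOK1 D) 12683 1153 26 = true := by decide +kernel
theorem c_perm_12 : allGrid (T.permOK1 D) 13836 244 26 = true := by decide +kernel
theorem c_act0_0 : allRange (fun i => Nat.beq (actR0 i) i) 0 14080 = true := by decide +kernel
theorem c_act1_0 : allRange (fun i => Nat.beq (actR1 i) i) 0 10000 = true := by decide +kernel
theorem c_act1_1 : allRange (fun i => Nat.beq (actR1 i) i) 10000 4080 = true := by decide +kernel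
theorem c_act2_0 : allRange (fun i => Nat.beq (actR2 i) i) 0 14080 = true := by decide +kernel
theorem c_act3_0 : allRange (fun i => Nat.beq (actR3 i) i) 0 14080 = true := by decide +kernel
theorem c_act4_0 : allRange (fun i => Nat.beq (actR4 i) i) 0 14080 = true := by decide +kernel
theorem c_act5_0 : allRange (fun i => Nat.beq (actR5 i) i) 0 14080 = true := by decide +kernel
theorem c_act6_0 : allRange (fun i => Nat.beq (actR6 i) i) 0 14080 = true := by decide +kernel
theorem c_act7_0 : allRange (fun i => Nat.beq (actR7 i) i) 0 14080 = true := by decide +kernel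
theorem c_act8_0 : allRange (fun i => Nat.beq (actR8 i) i) 0 14080 = true := by decide +kernel
theorem c_act9_0 : allRange (fun i => Nat.beq (actR9 i) i) 0 14080 = true := by decide +kernel
theorem c_act10_0 : allRange (fun i => Nat.beq (actR10 i) i) 0 10000 = true := by decide +kernel
theorem c_act10_1 : allRange (fun i => Nat.beq (actR10 i) i) 10000 4080 = true := by decide +kernel
theorem c_act11_0 : allRange (fun i => Nat.beq (actR11 i) i) 0 14080 = true := by decide +kernel
theorem c_act12_0 : allRange (fun i => Nat.beq (actR12 i) i) 0 14080 = true := by decide +kernel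
theorem c_act13_0 : allRange (fun i => Nat.beq (actR13 i) i) 0 14080 = true := by decide +kernel
theorem c_act14_0 : allRange (fun i => Nat.beq (actR14 i) i) 0 14080 = true := by decide +kernel
theorem c_act15_0 : allRange (fun i => Nat.beq (actR15 i) i) 0 14080 = true := by decide +kernel
theorem c_act16_0 : allRange (fun i => Nat.beq (actR16 i) i) 0 14080 = true := by decide +kernel
theorem c_act17_0 : allRange (fun i => Nat.beq (actR17 i) i) 0 14080 = true := by decide +kernel
theorem c_act18_0 : allRange (fun i => Nat.beq (actR18 i) i) 0 10000 = true := by decide +kernel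
theorem c_act18_1 : allRange (fun i => Nat.beq (actR18 i) i) 10000 4080 = true := by decide +kernel
theorem c_act19_0 : allRange (fun i => Nat.beq (actR19 i) i) 0 14080 = true := by decide +kernel
theorem c_act20_0 : allRange (fun i => Nat.beq (actR20 i) i) 0 14080 = true := by decide +kernel
theorem c_act21_0 : allRange (fun i => Nat.beq (actR21 i) i) 0 14080 = true := by decide +kernel

end Cfsg.Agent.Lib.Helper4.TCD.C3Fi22yB
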