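import Cfsg.Agent.Lib.Helper4.TCD_C3Fi22yB_Acc

namespace Cfsg.Agent.Lib.Helper4.TCD.C3Fi22yB

open Cfsg.Agent.Lib.Helper4.TC

set_option maxRecDepth 100000
set_option Elab.async false

theorem c_act22_0 : allRange (fun i => Nat.beq (actR22 i) i) 0 14080 = true := by decide +kernel
theorem c_act23_0 : allRange (fun i => Nat.beq (actR23 i) i) 0 14080 = true := by decide +kernel
theorem c_act24_0 : allRange (fun i => Nat.beq (actR24 i) i) 0 14080 = true := by decide +kernel
theorem c_act25_0 : allRange (fun i => Nat.beq (actR25 i) i) 0 10000 = true := by decide +kernel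
theorem c_act25_1 : allRange (fun i => Nat.beq (actR25 i) i) 10000 4080 = true := by decide +kernel
theorem c_act26_0 : allRange (fun i => Nat.beq (actR26 i) i) 0 10000 = true := by decide +kernel
theorem c_act26_1 : allRange (fun i => Nat.beq (actR26 i) i) 10000 4080 = true := by decide +kernel
theorem c_act27_0 : allRange (fun i => Nat.beq (actR27 i) i) 0 14080 = true := by decide +kernel
theorem c_act28_0 : allRange (fun i => Nat.beq (actR28 i) i) 0 14080 = true := by decide +kernel
theorem c_act29_0 : allRange (fun i => Nat.beq (actR29 i) i) 0 14080 = true := by decide +kernel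
theorem c_act30_0 : allRange (fun i => Nat.beq (actR30 i) i) 0 14080 = true := by decide +kernel
theorem c_act31_0 : allRange (fun i => Nat.beq (actR31 i) i) 0 14080 = true := by decide +kernel
theorem c_act32_0 : allRange (fun i => Nat.beq (actR32 i) i) 0 10000 = true := by decide +kernel
theorem c_act32_1 : allRange (fun i => Nat.beq (actR32 i) i) 10000 4080 = true := by decide +kernel
theorem c_act33_0 : allRange (fun i => Nat.beq (actR33 i) i) 0 14080 = true := by decide +kernel
theorem c_act34_0 : allRange (fun i => Nat.beq (actR34 i) i) 0 14080 = true := by decide +kernel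
theorem c_act35_0 : allRange (fun i => Nat.beq (actR35 i) i) 0 14080 = true := by decide +kernel
theorem c_act36_0 : allRange (fun i => Nat.beq (actR36 i) i) 0 14080 = true := by decide +kernel
theorem c_act37_0 : allRange (fun i => Nat.beq (actR37 i) i) 0 14080 = true := by decide +kernel
theorem c_act38_0 : allRange (fun i => Nat.beq (actR38 i) i) 0 10000 = true := by decide +kernel
theorem c_act38_1 : allRange (fun i => Nat.beq (actR38 i) i) 10000 4080 = true := by decide +kernel
theorem c_act39_0 : allRange (fun i => Nat.beq (actR39 i) i) 0 14080 = true := by decide +kernel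
theorem c_act40_0 : allRange (fun i => Nat.beq (actR40 i) i) 0 10000 = true := by decide +kernel
theorem c_act40_1 : allRange (fun i => Nat.beq (actR40 i) i) 10000 4080 = true := by decide +kernel
theorem c_act41_0 : allRange (fun i => Nat.beq (actR41 i) i) 0 14080 = true := by decide +kernel
theorem c_act42_0 : allRange (fun i => Nat.beq (actR42 i) i) 0 14080 = true := by decide +kernel
theorem c_act43_0 : allRange (fun i => Nat.beq (actR43 i) i) 0 14080 = true := by decide +kernel
theorem c_act44_0 : allRange (fun i => Nat.beq (actR44 i) i) 0 14080 = true := by decide +kernel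
theorem c_act45_0 : allRange (fun i => Nat.beq (actR45 i) i) 0 659 = true := by decide +kernel
theorem c_act45_1 : allRange (fun i => Nat.beq (actR45 i) i) 659 659 = true := by decide +kernel
theorem c_act45_2 : allRange (fun i => Nat.beq (actR45 i) i) 1318 659 = true := by decide +kernel
theorem c_act45_3 : allRange (fun i => Nat.beq (actR45 i) i) 1977 659 = true := by decide +kernel
theorem c_act45_4 : allRange (fun i => Nat.beq (actR45 i) i) 2636 659 = true := by decide +kernel
theorem c_act45_5 : allRange (fun i => Nat.beq (actR45 i) i) 3295 659 = true := by decide +kernel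
theorem c_act45_6 : allRange (fun i => Nat.beq (actR45 i) i) 3954 659 = true := by decide +kernel
theorem c_act45_7 : allRange (fun i => Nat.beq (actR45 i) i) 4613 659 = true := by decide +kernel
theorem c_act45_8 : allRange (fun i => Nat.beq (actR45 i) i) 5272 659 = true := by decide +kernel
theorem c_act45_9 : allRange (fun i => Nat.beq (actR45 i) i) 5931 659 = true := by decide +kernel
theorem c_act45_10 : allRange (fun i => Nat.beq (actR45 i) i) 6590 659 = true := by decide +kernel
theorem c_act45_11 : allRange (fun i => Nat.beq (actR45 i) i) 7249 659 = true := by decide +kernel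
theorem c_act45_12 : allRange (fun i => Nat.beq (actR45 i) i) 7908 659 = true := by decide +kernel
theorem c_act45_13 : allRange (fun i => Nat.beq (actR45 i) i) 8567 659 = true := by decide +kernel
theorem c_act45_14 : allRange (fun i => Nat.beq (actR45 i) i) 9226 659 = true := by decide +kernel
theorem c_act45_15 : allRange (fun i => Nat.beq (actR45 i) i) 9885 659 = true := by decide +kernel
theorem c_act45_16 : allRange (fun i => Nat.beq (actR45 i) i) 10544 659 = true := by decide +kernel
theorem c_act45_17 : allRange (fun i => Nat.beq (actR45 i) i) 11203 659 = true := by decide +kernel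
theorem c_act45_18 : allRange (fun i => Nat.beq (actR45 i) i) 11862 659 = true := by decide +kernel
theorem c_act45_19 : allRange (fun i => Nat.beq (actR45 i) i) 12521 659 = true := by decide +kernel
theorem c_act45_20 : allRange (fun i => Nat.beq (actR45 i) i) 13180 659 = true := by decide +kernel
theorem c_act45_21 : allRange (fun i => Nat.beq (actR45 i) i) 13839 241 = true := by decide +kernel
theorem c_act46_0 : allRange (fun i => Nat.beq (actR46 i) i) 0 952 = true := by decide +kernel
theorem c_act46_1 : allRange (fun i => Nat.beq (actR46 i) i) 952 952 = true := by decide +kernel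
theorem c_act46_2 : allRange (fun i => Nat.beq (actR46 i) i) 1904 952 = true := by decide +kernel
theorem c_act46_3 : allRange (fun i => Nat.beq (actR46 i) i) 2856 952 = true := by decide +kernel
theorem c_act46_4 : allRange (fun i => Nat.beq (actR46 i) i) 3808 952 = true := by decide +kernel
theorem c_act46_5 : allRange (fun i => Nat.beq (actR46 i) i) 4760 952 = true := by decide +kernel
theorem c_act46_6 : allRange (fun i => Nat.beq (actR46 i) i) 5712 952 = true := by decide +kernel

end Cfsg.Agent.Lib.Helper4.TCD.C3Fi22yB
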