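import Cfsg.Agent.Lib.Helper4.TCD_C3Fi22yB_Acc

namespace Cfsg.Agent.Lib.Helper4.TCD.C3Fi22yB

open Cfsg.Agent.Lib.Helper4.TC

set_option maxRecDepth 100000
set_option Elab.async false

theorem c_act46_7 : allRange (fun i => Nat.beq (actR46 i) i) 6664 952 = true := by decide +kernel
theorem c_act46_8 : allRange (fun i => Nat.beq (actR46 i) i) 7616 952 = true := by decide +kernel
theorem c_act46_9 : allRange (fun i => Nat.beq (actR46 i) i) 8568 952 = true := by decide +kernel
theorem c_act46_10 : allRange (fun i => Nat.beq (actR46 i) i) 9520 952 = true := by decide +kernel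
theorem c_act46_11 : allRange (fun i => Nat.beq (actR46 i) i) 10472 952 = true := by decide +kernel
theorem c_act46_12 : allRange (fun i => Nat.beq (actR46 i) i) 11424 952 = true := by decide +kernel
theorem c_act46_13 : allRange (fun i => Nat.beq (actR46 i) i) 12376 952 = true := by decide +kernel
theorem c_act46_14 : allRange (fun i => Nat.beq (actR46 i) i) 13328 752 = true := by decide +kernel
theorem c_act47_0 : allRange (fun i => Nat.beq (actR47 i) i) 0 952 = true := by decide +kernel
theorem c_act47_1 : allRange (fun i => Nat.beq (actR47 i) i) 952 952 = true := by decide +kernel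
theorem c_act47_2 : allRange (fun i => Nat.beq (actR47 i) i) 1904 952 = true := by decide +kernel
theorem c_act47_3 : allRange (fun i => Nat.beq (actR47 i) i) 2856 952 = true := by decide +kernel
theorem c_act47_4 : allRange (fun i => Nat.beq (actR47 i) i) 3808 952 = true := by decide +kernel
theorem c_act47_5 : allRange (fun i => Nat.beq (actR47 i) i) 4760 952 = true := by decide +kernel
theorem c_act47_6 : allRange (fun i => Nat.beq (actR47 i) i) 5712 952 = true := by decide +kernel
theorem c_act47_7 : allRange (fun i => Nat.beq (actR47 i) i) 6664 952 = true := by decide +kernel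
theorem c_act47_8 : allRange (fun i => Nat.beq (actR47 i) i) 7616 952 = true := by decide +kernel
theorem c_act47_9 : allRange (fun i => Nat.beq (actR47 i) i) 8568 952 = true := by decide +kernel
theorem c_act47_10 : allRange (fun i => Nat.beq (actR47 i) i) 9520 952 = true := by decide +kernel
theorem c_act47_11 : allRange (fun i => Nat.beq (actR47 i) i) 10472 952 = true := by decide +kernel
theorem c_act47_12 : allRange (fun i => Nat.beq (actR47 i) i) 11424 952 = true := by decide +kernel
theorem c_act47_13 : allRange (fun i => Nat.beq (actR47 i) i) 12376 952 = true := by decide +kernel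
theorem c_act47_14 : allRange (fun i => Nat.beq (actR47 i) i) 13328 752 = true := by decide +kernel
theorem c_act48_0 : allRange (fun i => Nat.beq (actR48 i) i) 0 387 = true := by decide +kernel
theorem c_act48_1 : allRange (fun i => Nat.beq (actR48 i) i) 387 387 = true := by decide +kernel
theorem c_act48_2 : allRange (fun i => Nat.beq (actR48 i) i) 774 387 = true := by decide +kernel
theorem c_act48_3 : allRange (fun i => Nat.beq (actR48 i) i) 1161 387 = true := by decide +kernel
theorem c_act48_4 : allRange (fun i => Nat.beq (actR48 i) i) 1548 387 = true := by decide +kernel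
theorem c_act48_5 : allRange (fun i => Nat.beq (actR48 i) i) 1935 387 = true := by decide +kernel
theorem c_act48_6 : allRange (fun i => Nat.beq (actR48 i) i) 2322 387 = true := by decide +kernel
theorem c_act48_7 : allRange (fun i => Nat.beq (actR48 i) i) 2709 387 = true := by decide +kernel
theorem c_act48_8 : allRange (fun i => Nat.beq (actR48 i) i) 3096 387 = true := by decide +kernel
theorem c_act48_9 : allRange (fun i => Nat.beq (actR48 i) i) 3483 387 = true := by decide +kernel
theorem c_act48_10 : allRange (fun i => Nat.beq (actR48 i) i) 3870 387 = true := by decide +kernel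
theorem c_act48_11 : allRange (fun i => Nat.beq (actR48 i) i) 4257 387 = true := by decide +kernel
theorem c_act48_12 : allRange (fun i => Nat.beq (actR48 i) i) 4644 387 = true := by decide +kernel
theorem c_act48_13 : allRange (fun i => Nat.beq (actR48 i) i) 5031 387 = true := by decide +kernel
theorem c_act48_14 : allRange (fun i => Nat.beq (actR48 i) i) 5418 387 = true := by decide +kernel
theorem c_act48_15 : allRange (fun i => Nat.beq (actR48 i) i) 5805 387 = true := by decide +kernel
theorem c_act48_16 : allRange (fun i => Nat.beq (actR48 i) i) 6192 387 = true := by decide +kernel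
theorem c_act48_17 : allRange (fun i => Nat.beq (actR48 i) i) 6579 387 = true := by decide +kernel
theorem c_act48_18 : allRange (fun i => Nat.beq (actR48 i) i) 6966 387 = true := by decide +kernel
theorem c_act48_19 : allRange (fun i => Nat.beq (actR48 i) i) 7353 387 = true := by decide +kernel
theorem c_act48_20 : allRange (fun i => Nat.beq (actR48 i) i) 7740 387 = true := by decide +kernel
theorem c_act48_21 : allRange (fun i => Nat.beq (actR48 i) i) 8127 387 = true := by decide +kernel
theorem c_act48_22 : allRange (fun i => Nat.beq (actR48 i) i) 8514 387 = true := by decide +kernel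
theorem c_act48_23 : allRange (fun i => Nat.beq (actR48 i) i) 8901 387 = true := by decide +kernel
theorem c_act48_24 : allRange (fun i => Nat.beq (actR48 i) i) 9288 387 = true := by decide +kernel
theorem c_act48_25 : allRange (fun i => Nat.beq (actR48 i) i) 9675 387 = true := by decide +kernel
theorem c_act48_26 : allRange (fun i => Nat.beq (actR48 i) i) 10062 387 = true := by decide +kernel

end Cfsg.Agent.Lib.Helper4.TCD.C3Fi22yB
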