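import Cfsg.Agent.Lib.Helper4.TCD_C3Fi22yB_Acc

namespace Cfsg.Agent.Lib.Helper4.TCD.C3Fi22yB

open Cfsg.Agent.Lib.Helper4.TC

set_option maxRecDepth 100000
set_option Elab.async false

theorem c_act48_27 : allRange (fun i => Nat.beq (actR48 i) i) 10449 387 = true := by decide +kernel
theorem c_act48_28 : allRange (fun i => Nat.beq (actR48 i) i) 10836 387 = true := by decide +kernel
theorem c_act48_29 : allRange (fun i => Nat.beq (actR48 i) i) 11223 387 = true := by decide +kernel
theorem c_act48_30 : allRange (fun i => Nat.beq (actR48 i) i) 11610 387 = true := by decide +kernel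
theorem c_act48_31 : allRange (fun i => Nat.beq (actR48 i) i) 11997 387 = true := by decide +kernel
theorem c_act48_32 : allRange (fun i => Nat.beq (actR48 i) i) 12384 387 = true := by decide +kernel
theorem c_act48_33 : allRange (fun i => Nat.beq (actR48 i) i) 12771 387 = true := by decide +kernel
theorem c_act48_34 : allRange (fun i => Nat.beq (actR48 i) i) 13158 387 = true := by decide +kernel
theorem c_act48_35 : allRange (fun i => Nat.beq (actR48 i) i) 13545 387 = true := by decide +kernel
theorem c_act48_36 : allRange (fun i => Nat.beq (actR48 i) i) 13932 148 = true := by decide +kernel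
theorem c_act49_0 : allRange (fun i => Nat.beq (actR49 i) i) 0 517 = true := by decide +kernel
theorem c_act49_1 : allRange (fun i => Nat.beq (actR49 i) i) 517 517 = true := by decide +kernel
theorem c_act49_2 : allRange (fun i => Nat.beq (actR49 i) i) 1034 517 = true := by decide +kernel
theorem c_act49_3 : allRange (fun i => Nat.beq (actR49 i) i) 1551 517 = true := by decide +kernel
theorem c_act49_4 : allRange (fun i => Nat.beq (actR49 i) i) 2068 517 = true := by decide +kernel
theorem c_act49_5 : allRange (fun i => Nat.beq (actR49 i) i) 2585 517 = true := by decide +kernel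
theorem c_act49_6 : allRange (fun i => Nat.beq (actR49 i) i) 3102 517 = true := by decide +kernel
theorem c_act49_7 : allRange (fun i => Nat.beq (actR49 i) i) 3619 517 = true := by decide +kernel
theorem c_act49_8 : allRange (fun i => Nat.beq (actR49 i) i) 4136 517 = true := by decide +kernel
theorem c_act49_9 : allRange (fun i => Nat.beq (actR49 i) i) 4653 517 = true := by decide +kernel
theorem c_act49_10 : allRange (fun i => Nat.beq (actR49 i) i) 5170 517 = true := by decide +kernel
theorem c_act49_11 : allRange (fun i => Nat.beq (actR49 i) i) 5687 517 = true := by decide +kernel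
theorem c_act49_12 : allRange (fun i => Nat.beq (actR49 i) i) 6204 517 = true := by decide +kernel
theorem c_act49_13 : allRange (fun i => Nat.beq (actR49 i) i) 6721 517 = true := by decide +kernel
theorem c_act49_14 : allRange (fun i => Nat.beq (actR49 i) i) 7238 517 = true := by decide +kernel
theorem c_act49_15 : allRange (fun i => Nat.beq (actR49 i) i) 7755 517 = true := by decide +kernel
theorem c_act49_16 : allRange (fun i => Nat.beq (actR49 i) i) 8272 517 = true := by decide +kernel
theorem c_act49_17 : allRange (fun i => Nat.beq (actR49 i) i) 8789 517 = true := by decide +kernel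
theorem c_act49_18 : allRange (fun i => Nat.beq (actR49 i) i) 9306 517 = true := by decide +kernel
theorem c_act49_19 : allRange (fun i => Nat.beq (actR49 i) i) 9823 517 = true := by decide +kernel
theorem c_act49_20 : allRange (fun i => Nat.beq (actR49 i) i) 10340 517 = true := by decide +kernel
theorem c_act49_21 : allRange (fun i => Nat.beq (actR49 i) i) 10857 517 = true := by decide +kernel
theorem c_act49_22 : allRange (fun i => Nat.beq (actR49 i) i) 11374 517 = true := by decide +kernel
theorem c_act49_23 : allRange (fun i => Nat.beq (actR49 i) i) 11891 517 = true := by decide +kernel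
theorem c_act49_24 : allRange (fun i => Nat.beq (actR49 i) i) 12408 517 = true := by decide +kernel
theorem c_act49_25 : allRange (fun i => Nat.beq (actR49 i) i) 12925 517 = true := by decide +kernel
theorem c_act49_26 : allRange (fun i => Nat.beq (actR49 i) i) 13442 517 = true := by decide +kernel
theorem c_act49_27 : allRange (fun i => Nat.beq (actR49 i) i) 13959 121 = true := by decide +kernel
theorem c_act50_0 : allRange (fun i => Nat.beq (actR50 i) i) 0 535 = true := by decide +kernel
theorem c_act50_1 : allRange (fun i => Nat.beq (actR50 i) i) 535 535 = true := by decide +kernel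
theorem c_act50_2 : allRange (fun i => Nat.beq (actR50 i) i) 1070 535 = true := by decide +kernel
theorem c_act50_3 : allRange (fun i => Nat.beq (actR50 i) i) 1605 535 = true := by decide +kernel
theorem c_act50_4 : allRange (fun i => Nat.beq (actR50 i) i) 2140 535 = true := by decide +kernel
theorem c_act50_5 : allRange (fun i => Nat.beq (actR50 i) i) 2675 535 = true := by decide +kernel
theorem c_act50_6 : allRange (fun i => Nat.beq (actR50 i) i) 3210 535 = true := by decide +kernel
theorem c_act50_7 : allRange (fun i => Nat.beq (actR50 i) i) 3745 535 = true := by decide +kernel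
theorem c_act50_8 : allRange (fun i => Nat.beq (actR50 i) i) 4280 535 = true := by decide +kernel
theorem c_act50_9 : allRange (fun i => Nat.beq (actR50 i) i) 4815 535 = true := by decide +kernel
theorem c_act50_10 : allRange (fun i => Nat.beq (actR50 i) i) 5350 535 = true := by decide +kernel
theorem c_act50_11 : allRange (fun i => Nat.beq (actR50 i) i) 5885 535 = true := by decide +kernel
theorem c_act50_12 : allRange (fun i => Nat.beq (actR50 i) i) 6420 535 = true := by decide +kernel

end Cfsg.Agent.Lib.Helper4.TCD.C3Fi22yB
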