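import Cfsg.Agent.Lib.Helper4.TCD_C3Fi22yB_Acc

namespace Cfsg.Agent.Lib.Helper4.TCD.C3Fi22yB

open Cfsg.Agent.Lib.Helper4.TC

set_option maxRecDepth 100000
set_option Elab.async false

theorem c_act50_13 : allRange (fun i => Nat.beq (actR50 i) i) 6955 535 = true := by decide +kernel
theorem c_act50_14 : allRange (fun i => Nat.beq (actR50 i) i) 7490 535 = true := by decide +kernel
theorem c_act50_15 : allRange (fun i => Nat.beq (actR50 i) i) 8025 535 = true := by decide +kernel
theorem c_act50_16 : allRange (fun i => Nat.beq (actR50 i) i) 8560 535 = true := by decide +kernel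
theorem c_act50_17 : allRange (fun i => Nat.beq (actR50 i) i) 9095 535 = true := by decide +kernel
theorem c_act50_18 : allRange (fun i => Nat.beq (actR50 i) i) 9630 535 = true := by decide +kernel
theorem c_act50_19 : allRange (fun i => Nat.beq (actR50 i) i) 10165 535 = true := by decide +kernel
theorem c_act50_20 : allRange (fun i => Nat.beq (actR50 i) i) 10700 535 = true := by decide +kernel
theorem c_act50_21 : allRange (fun i => Nat.beq (actR50 i) i) 11235 535 = true := by decide +kernel
theorem c_act50_22 : allRange (fun i => Nat.beq (actR50 i) i) 11770 535 = true := by decide +kernel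
theorem c_act50_23 : allRange (fun i => Nat.beq (actR50 i) i) 12305 535 = true := by decide +kernel
theorem c_act50_24 : allRange (fun i => Nat.beq (actR50 i) i) 12840 535 = true := by decide +kernel
theorem c_act50_25 : allRange (fun i => Nat.beq (actR50 i) i) 13375 535 = true := by decide +kernel
theorem c_act50_26 : allRange (fun i => Nat.beq (actR50 i) i) 13910 170 = true := by decide +kernel
theorem c_act51_0 : allRange (fun i => Nat.beq (actR51 i) i) 0 8571 = true := by decide +kernel
theorem c_act51_1 : allRange (fun i => Nat.beq (actR51 i) i) 8571 5509 = true := by decide +kernel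
theorem c_act52_0 : allRange (fun i => Nat.beq (actR52 i) i) 0 5454 = true := by decide +kernel
theorem c_act52_1 : allRange (fun i => Nat.beq (actR52 i) i) 5454 5454 = true := by decide +kernel
theorem c_act52_2 : allRange (fun i => Nat.beq (actR52 i) i) 10908 3172 = true := by decide +kernel
theorem c_act53_0 : allRange (fun i => Nat.beq (actR53 i) i) 0 5000 = true := by decide +kernel
theorem c_act53_1 : allRange (fun i => Nat.beq (actR53 i) i) 5000 5000 = true := by decide +kernel
theorem c_act53_2 : allRange (fun i => Nat.beq (actR53 i) i) 10000 4080 = true := by decide +kernel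
theorem c_act54_0 : allRange (fun i => Nat.beq (actR54 i) i) 0 5000 = true := by decide +kernel
theorem c_act54_1 : allRange (fun i => Nat.beq (actR54 i) i) 5000 5000 = true := by decide +kernel
theorem c_act54_2 : allRange (fun i => Nat.beq (actR54 i) i) 10000 4080 = true := by decide +kernel
theorem c_act55_0 : allRange (fun i => Nat.beq (actR55 i) i) 0 14080 = true := by decide +kernel
theorem c_act56_0 : allRange (fun i => Nat.beq (actR56 i) i) 0 7500 = true := by decide +kernel
theorem c_act56_1 : allRange (fun i => Nat.beq (actR56 i) i) 7500 6580 = true := by decide +kernel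
theorem c_act57_0 : allRange (fun i => Nat.beq (actR57 i) i) 0 6666 = true := by decide +kernel
theorem c_act57_1 : allRange (fun i => Nat.beq (actR57 i) i) 6666 6666 = true := by decide +kernel
theorem c_act57_2 : allRange (fun i => Nat.beq (actR57 i) i) 13332 748 = true := by decide +kernel
theorem c_act58_0 : allRange (fun i => Nat.beq (actR58 i) i) 0 6000 = true := by decide +kernel
theorem c_act58_1 : allRange (fun i => Nat.beq (actR58 i) i) 6000 6000 = true := by decide +kernel
theorem c_act58_2 : allRange (fun i => Nat.beq (actR58 i) i) 12000 2080 = true := by decide +kernel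
theorem c_act59_0 : allRange (fun i => Nat.beq (actR59 i) i) 0 6000 = true := by decide +kernel
theorem c_act59_1 : allRange (fun i => Nat.beq (actR59 i) i) 6000 6000 = true := by decide +kernel
theorem c_act59_2 : allRange (fun i => Nat.beq (actR59 i) i) 12000 2080 = true := by decide +kernel
theorem c_act60_0 : allRange (fun i => Nat.beq (actR60 i) i) 0 4000 = true := by decide +kernel
theorem c_act60_1 : allRange (fun i => Nat.beq (actR60 i) i) 4000 4000 = true := by decide +kernel
theorem c_act60_2 : allRange (fun i => Nat.beq (actR60 i) i) 8000 4000 = true := by decide +kernel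
theorem c_act60_3 : allRange (fun i => Nat.beq (actR60 i) i) 12000 2080 = true := by decide +kernel
theorem c_act61_0 : allRange (fun i => Nat.beq (actR61 i) i) 0 7500 = true := by decide +kernel
theorem c_act61_1 : allRange (fun i => Nat.beq (actR61 i) i) 7500 6580 = true := by decide +kernel
theorem c_act62_0 : allRange (fun i => Nat.beq (actR62 i) i) 0 7500 = true := by decide +kernel
theorem c_act62_1 : allRange (fun i => Nat.beq (actR62 i) i) 7500 6580 = true := by decide +kernel
theorem c_act63_0 : allRange (fun i => Nat.beq (actR63 i) i) 0 6000 = true := by decide +kernel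
theorem c_act63_1 : allRange (fun i => Nat.beq (actR63 i) i) 6000 6000 = true := by decide +kernel
theorem c_act63_2 : allRange (fun i => Nat.beq (actR63 i) i) 12000 2080 = true := by decide +kernel
theorem c_act64_0 : allRange (fun i => Nat.beq (actR64 i) i) 0 6000 = true := by decide +kernel
theorem c_act64_1 : allRange (fun i => Nat.beq (actR64 i) i) 6000 6000 = true := by decide +kernel
theorem c_act64_2 : allRange (fun i => Nat.beq (actR64 i) i) 12000 2080 = true := by decide +kernel
theorem c_act65_0 : allRange (fun i => Nat.beq (actR65 i) i) 0 5454 = true := by decide +kernel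
theorem c_act65_1 : allRange (fun i => Nat.beq (actR65 i) i) 5454 5454 = true := by decide +kernel
theorem c_act65_2 : allRange (fun i => Nat.beq (actR65 i) i) 10908 3172 = true := by decide +kernel
theorem c_act66_0 : allRange (fun i => Nat.beq (actR66 i) i) 0 5000 = true := by decide +kernel
theorem c_act66_1 : allRange (fun i => Nat.beq (actR66 i) i) 5000 5000 = true := by decide +kernel
theorem c_act66_2 : allRange (fun i => Nat.beq (actR66 i) i) 10000 4080 = true := by decide +kernel

end Cfsg.Agent.Lib.Helper4.TCD.C3Fi22yB
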