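import Cfsg.Agent.Lib.Helper4.TCD_C3Fi22yB_Acc

namespace Cfsg.Agent.Lib.Helper4.TCD.C3Fi22yB

open Cfsg.Agent.Lib.Helper4.TC

set_option maxRecDepth 100000
set_option Elab.async false

theorem c_act67_0 : allRange (fun i => Nat.beq (actR67 i) i) 0 5000 = true := by decide +kernel
theorem c_act67_1 : allRange (fun i => Nat.beq (actR67 i) i) 5000 5000 = true := by decide +kernel
theorem c_act67_2 : allRange (fun i => Nat.beq (actR67 i) i) 10000 4080 = true := by decide +kernel
theorem c_act68_0 : allRange (fun i => Nat.beq (actR68 i) i) 0 5000 = true := by decide +kernel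
theorem c_act68_1 : allRange (fun i => Nat.beq (actR68 i) i) 5000 5000 = true := by decide +kernel
theorem c_act68_2 : allRange (fun i => Nat.beq (actR68 i) i) 10000 4080 = true := by decide +kernel
theorem c_act69_0 : allRange (fun i => Nat.beq (actR69 i) i) 0 5000 = true := by decide +kernel
theorem c_act69_1 : allRange (fun i => Nat.beq (actR69 i) i) 5000 5000 = true := by decide +kernel
theorem c_act69_2 : allRange (fun i => Nat.beq (actR69 i) i) 10000 4080 = true := by decide +kernel
theorem c_act70_0 : allRange (fun i => Nat.beq (actR70 i) i) 0 4615 = true := by decide +kernel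
theorem c_act70_1 : allRange (fun i => Nat.beq (actR70 i) i) 4615 4615 = true := by decide +kernel
theorem c_act70_2 : allRange (fun i => Nat.beq (actR70 i) i) 9230 4615 = true := by decide +kernel
theorem c_act70_3 : allRange (fun i => Nat.beq (actR70 i) i) 13845 235 = true := by decide +kernel
theorem c_act71_0 : allRange (fun i => Nat.beq (actR71 i) i) 0 4285 = true := by decide +kernel
theorem c_act71_1 : allRange (fun i => Nat.beq (actR71 i) i) 4285 4285 = true := by decide +kernel
theorem c_act71_2 : allRange (fun i => Nat.beq (actR71 i) i) 8570 4285 = true := by decide +kernel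
theorem c_act71_3 : allRange (fun i => Nat.beq (actR71 i) i) 12855 1225 = true := by decide +kernel
theorem c_act72_0 : allRange (fun i => Nat.beq (actR72 i) i) 0 4285 = true := by decide +kernel
theorem c_act72_1 : allRange (fun i => Nat.beq (actR72 i) i) 4285 4285 = true := by decide +kernel
theorem c_act72_2 : allRange (fun i => Nat.beq (actR72 i) i) 8570 4285 = true := by decide +kernel
theorem c_act72_3 : allRange (fun i => Nat.beq (actR72 i) i) 12855 1225 = true := by decide +kernel
theorem c_act73_0 : allRange (fun i => Nat.beq (actR73 i) i) 0 4285 = true := by decide +kernel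
theorem c_act73_1 : allRange (fun i => Nat.beq (actR73 i) i) 4285 4285 = true := by decide +kernel
theorem c_act73_2 : allRange (fun i => Nat.beq (actR73 i) i) 8570 4285 = true := by decide +kernel
theorem c_act73_3 : allRange (fun i => Nat.beq (actR73 i) i) 12855 1225 = true := by decide +kernel
theorem c_act74_0 : allRange (fun i => Nat.beq (actR74 i) i) 0 4285 = true := by decide +kernel
theorem c_act74_1 : allRange (fun i => Nat.beq (actR74 i) i) 4285 4285 = true := by decide +kernel
theorem c_act74_2 : allRange (fun i => Nat.beq (actR74 i) i) 8570 4285 = true := by decide +kernel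
theorem c_act74_3 : allRange (fun i => Nat.beq (actR74 i) i) 12855 1225 = true := by decide +kernel
theorem c_act75_0 : allRange (fun i => Nat.beq (actR75 i) i) 0 4285 = true := by decide +kernel
theorem c_act75_1 : allRange (fun i => Nat.beq (actR75 i) i) 4285 4285 = true := by decide +kernel
theorem c_act75_2 : allRange (fun i => Nat.beq (actR75 i) i) 8570 4285 = true := by decide +kernel
theorem c_act75_3 : allRange (fun i => Nat.beq (actR75 i) i) 12855 1225 = true := by decide +kernel
theorem c_act76_0 : allRange (fun i => Nat.beq (actR76 i) i) 0 4285 = true := by decide +kernel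
theorem c_act76_1 : allRange (fun i => Nat.beq (actR76 i) i) 4285 4285 = true := by decide +kernel
theorem c_act76_2 : allRange (fun i => Nat.beq (actR76 i) i) 8570 4285 = true := by decide +kernel
theorem c_act76_3 : allRange (fun i => Nat.beq (actR76 i) i) 12855 1225 = true := by decide +kernel
theorem c_act77_0 : allRange (fun i => Nat.beq (actR77 i) i) 0 4285 = true := by decide +kernel
theorem c_act77_1 : allRange (fun i => Nat.beq (actR77 i) i) 4285 4285 = true := by decide +kernel
theorem c_act77_2 : allRange (fun i => Nat.beq (actR77 i) i) 8570 4285 = true := by decide +kernel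
theorem c_act77_3 : allRange (fun i => Nat.beq (actR77 i) i) 12855 1225 = true := by decide +kernel
theorem c_act78_0 : allRange (fun i => Nat.beq (actR78 i) i) 0 3529 = true := by decide +kernel
theorem c_act78_1 : allRange (fun i => Nat.beq (actR78 i) i) 3529 3529 = true := by decide +kernel
theorem c_act78_2 : allRange (fun i => Nat.beq (actR78 i) i) 7058 3529 = true := by decide +kernel
theorem c_act78_3 : allRange (fun i => Nat.beq (actR78 i) i) 10587 3493 = true := by decide +kernel
theorem c_act79_0 : allRange (fun i => Nat.beq (actR79 i) i) 0 3000 = true := by decide +kernel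
theorem c_act79_1 : allRange (fun i => Nat.beq (actR79 i) i) 3000 3000 = true := by decide +kernel
theorem c_act79_2 : allRange (fun i => Nat.beq (actR79 i) i) 6000 3000 = true := by decide +kernel
theorem c_act79_3 : allRange (fun i => Nat.beq (actR79 i) i) 9000 3000 = true := by decide +kernel
theorem c_act79_4 : allRange (fun i => Nat.beq (actR79 i) i) 12000 2080 = true := by decide +kernel
theorem c_act80_0 : allRange (fun i => Nat.beq (actR80 i) i) 0 14080 = true := by decide +kernel
theorem c_act81_0 : allRange (fun i => Nat.beq (actR81 i) i) 0 14080 = true := by decide +kernel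
theorem c_act82_0 : allRange (fun i => Nat.beq (actR82 i) i) 0 14080 = true := by decide +kernel
theorem c_act83_0 : allRange (fun i => Nat.beq (actR83 i) i) 0 14080 = true := by decide +kernel
theorem c_act84_0 : allRange (fun i => Nat.beq (actR84 i) i) 0 14080 = true := by decide +kernel
theorem c_act85_0 : allRange (fun i => Nat.beq (actR85 i) i) 0 14080 = true := by decide +kernel
theorem c_act86_0 : allRange (fun i => Nat.beq (actR86 i) i) 0 14080 = true := by decide +kernel

end Cfsg.Agent.Lib.Helper4.TCD.C3Fi22yB
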