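import Cfsg.Agent.Lib.Helper4.TCD_C3Fi22yB_Acc

namespace Cfsg.Agent.Lib.Helper4.TCD.C3Fi22yB

open Cfsg.Agent.Lib.Helper4.TC

set_option maxRecDepth 100000
set_option Elab.async false

theorem c_act87_0 : allRange (fun i => Nat.beq (actR87 i) i) 0 14080 = true := by decide +kernel
theorem c_act88_0 : allRange (fun i => Nat.beq (actR88 i) i) 0 14080 = true := by decide +kernel
theorem c_act89_0 : allRange (fun i => Nat.beq (actR89 i) i) 0 14080 = true := by decide +kernel
theorem c_act90_0 : allRange (fun i => Nat.beq (actR90 i) i) 0 14080 = true := by decide +kernel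
theorem c_act91_0 : allRange (fun i => Nat.beq (actR91 i) i) 0 14080 = true := by decide +kernel
theorem c_act92_0 : allRange (fun i => Nat.beq (actR92 i) i) 0 14080 = true := by decide +kernel

end Cfsg.Agent.Lib.Helper4.TCD.C3Fi22yB
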