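import Cfsg.Agent.Lib.Helper4.TCD_C3Fi22yB_C0
import Cfsg.Agent.Lib.Helper4.TCD_C3Fi22yB_C1
import Cfsg.Agent.Lib.Helper4.TCD_C3Fi22yB_C2
import Cfsg.Agent.Lib.Helper4.TCD_C3Fi22yB_C3
import Cfsg.Agent.Lib.Helper4.TCD_C3Fi22yB_C4
import Cfsg.Agent.Lib.Helper4.TCD_C3Fi22yB_C5
import Cfsg.Agent.Lib.Helper4.TCD_C3Fi22yB_C6
import Cfsg.Agent.Lib.Helper4.TCD_C3Fi22yB_C7
import Cfsg.Agent.Lib.Helper4.TCD_C3Fi22yB_C8
import Cfsg.Agent.Lib.Helper4.TCD_C3Fi22yB_C9

namespace Cfsg.Agent.Lib.Helper4.TCD.C3Fi22yB

open Cfsg.Agent.Lib.Helper4.TC

theorem h_rel_p0 : ∀ t, 37486 ≤ t → t < 100132 → D.relOK t = true :=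
  (range_glue (range_of_allRange c_rel_0) (range_glue (range_of_allRange c_rel_1) (range_glue (range_of_allRange c_rel_2) (range_glue (range_of_allRange c_rel_3) (range_glue (range_of_allRange c_rel_4) (range_glue (range_of_allRange c_rel_5) (range_glue (range_of_allRange c_rel_6) (range_glue (range_of_allRange c_rel_7) (range_glue (range_of_allRange c_rel_8) (range_glue (range_of_allRange c_rel_9) (range_glue (range_of_allRange c_rel_10) (range_glue (range_of_allRange c_rel_11) (range_glue (range_of_allRange c_rel_12) (range_glue (range_of_allRange c_rel_13) (range_glue (range_of_allRange c_rel_14) (range_glue (range_of_allRange c_rel_15) (range_glue (range_of_allRange c_rel_16) (range_glue (range_of_allRange c_rel_17) (range_glue (range_of_allRange c_rel_18) (range_glue (range_of_allRange c_rel_19) (range_glue (range_of_allRange c_rel_20) (range_glue (range_of_allRange c_rel_21) (range_glue (range_of_allRange c_rel_22) (range_glue (range_of_allRange c_rel_23) (range_glue (range_of_allRange c_rel_24) (range_glue (range_of_allRange c_rel_25) (range_glue (range_of_allRange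 c_rel_26) (range_glue (range_of_allRange c_rel_27) (range_glue (range_of_allRange c_rel_28) (range_glue (range_of_allRange c_rel_29) (range_glue (range_of_allRange c_rel_30) (range_glue (range_of_allRange c_rel_31) (range_glue (range_of_allRange c_rel_32) (range_glue (range_of_allRange c_rel_33) (range_glue (range_of_allRange c_rel_34) (range_glue (range_of_allRange c_rel_35) (range_glue (range_of_allRange c_rel_36) (range_glue (range_of_allRange c_rel_37) (range_glue (range_of_allRange c_rel_38) (range_of_allRange c_rel_39))))))))))))))))))))))))))))))))))))))))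
theorem h_rel_p1 : ∀ t, 100132 ≤ t → t < 112207 → D.relOK t = true :=
  (range_glue (range_of_allRange c_rel_40) (range_glue (range_of_allRange c_rel_41) (range_glue (range_of_allRange c_rel_42) (range_glue (range_of_allRange c_rel_43) (range_glue (range_of_allRange c_rel_44) (range_glue (range_of_allRange c_rel_45) (range_glue (range_of_allRange c_rel_46) (range_glue (range_of_allRange c_rel_47) (range_glue (range_of_allRange c_rel_48) (range_glue (range_of_allRange c_rel_49) (range_glue (range_of_allRange c_rel_50) (range_glue (range_of_allRange c_rel_51) (range_glue (range_of_allRange c_rel_52) (range_glue (range_of_allRange c_rel_53) (range_glue (range_of_allRange c_rel_54) (range_glue (range_of_allRange c_rel_55) (range_glue (range_of_allRange c_rel_56) (range_glue (range_of_allRange c_rel_57) (range_glue (range_of_allRange c_rel_58) (range_glue (range_of_allRange c_rel_59) (range_glue (range_of_allRange c_rel_60) (range_glue (range_of_allRange c_rel_61) (range_glue (range_of_allRange c_rel_62) (range_glue (range_of_allRange c_rel_63) (range_glue (range_of_allRange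 c_rel_64) (range_glue (range_of_allRange c_rel_65) (range_glue (range_of_allRange c_rel_66) (range_glue (range_of_allRange c_rel_67) (range_glue (range_of_allRange c_rel_68) (range_glue (range_of_allRange c_rel_69) (range_glue (range_of_allRange c_rel_70) (range_glue (range_of_allRange c_rel_71) (range_glue (range_of_allRange c_rel_72) (range_glue (range_of_allRange c_rel_73) (range_glue (range_of_allRange c_rel_74) (range_glue (range_of_allRange c_rel_75) (range_glue (range_of_allRange c_rel_76) (range_glue (range_of_allRange c_rel_77) (range_glue (range_of_allRange c_rel_78) (range_of_allRange c_rel_79))))))))))))))))))))))))))))))))))))))))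
theorem h_rel_p2 : ∀ t, 112207 ≤ t → t < 197497 → D.relOK t = true :=
  (range_glue (range_of_allRange c_rel_80) (range_glue (range_of_allRange c_rel_81) (range_glue (range_of_allRange c_rel_82) (range_glue (range_of_allRange c_rel_83) (range_glue (range_of_allRange c_rel_84) (range_glue (range_of_allRange c_rel_85) (range_glue (range_of_allRange c_rel_86) (range_glue (range_of_allRange c_rel_87) (range_glue (range_of_allRange c_rel_88) (range_glue (range_of_allRange c_rel_89) (range_glue (range_of_allRange c_rel_90) (range_glue (range_of_allRange c_rel_91) (range_glue (range_of_allRange c_rel_92) (range_glue (range_of_allRange c_rel_93) (range_glue (range_of_allRange c_rel_94) (range_glue (range_of_allRange c_rel_95) (range_glue (range_of_allRange c_rel_96) (range_glue (range_of_allRange c_rel_97) (range_glue (range_of_allRange c_rel_98) (range_glue (range_of_allRange c_rel_99) (range_glue (range_of_allRange c_rel_100) (range_glue (range_of_allRange c_rel_101) (range_glue (range_of_allRange c_rel_102) (range_glue (range_of_allRange c_rel_103) (range_glue (range_of_allRange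 c_rel_104) (range_glue (range_of_allRange c_rel_105) (range_glue (range_of_allRange c_rel_106) (range_glue (range_of_allRange c_rel_107) (range_glue (range_of_allRange c_rel_108) (range_glue (range_of_allRange c_rel_109) (range_glue (range_of_allRange c_rel_110) (range_glue (range_of_allRange c_rel_111) (range_glue (range_of_allRange c_rel_112) (range_glue (range_of_allRange c_rel_113) (range_glue (range_of_allRange c_rel_114) (range_glue (range_of_allRange c_rel_115) (range_glue (range_of_allRange c_rel_116) (range_glue (range_of_allRange c_rel_117) (range_glue (range_of_allRange c_rel_118) (range_of_allRange c_rel_119))))))))))))))))))))))))))))))))))))))))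
theorem h_rel_p3 : ∀ t, 197497 ≤ t → t < 214918 → D.relOK t = true :=
  (range_glue (range_of_allRange c_rel_120) (range_glue (range_of_allRange c_rel_121) (range_glue (range_of_allRange c_rel_122) (range_glue (range_of_allRange c_rel_123) (range_glue (range_of_allRange c_rel_124) (range_glue (range_of_allRange c_rel_125) (range_glue (range_of_allRange c_rel_126) (range_glue (range_of_allRange c_rel_127) (range_glue (range_of_allRange c_rel_128) (range_glue (range_of_allRange c_rel_129) (range_glue (range_of_allRange c_rel_130) (range_glue (range_of_allRange c_rel_131) (range_glue (range_of_allRange c_rel_132) (range_glue (range_of_allRange c_rel_133) (range_glue (range_of_allRange c_rel_134) (range_glue (range_of_allRange c_rel_135) (range_glue (range_of_allRange c_rel_136) (range_glue (range_of_allRange c_rel_137) (range_glue (range_of_allRange c_rel_138) (range_glue (range_of_allRange c_rel_139) (range_glue (range_of_allRange c_rel_140) (range_glue (range_of_allRange c_rel_141) (range_glue (range_of_allRange c_rel_142) (range_glue (range_of_allRange c_rel_143) (range_glue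 (range_of_allRange c_rel_144) (range_glue (range_of_allRange c_rel_145) (range_glue (range_of_allRange c_rel_146) (range_glue (range_of_allRange c_rel_147) (range_glue (range_of_allRange c_rel_148) (range_glue (range_of_allRange c_rel_149) (range_glue (range_of_allRange c_rel_150) (range_glue (range_of_allRange c_rel_151) (range_glue (range_of_allRange c_rel_152) (range_glue (range_of_allRange c_rel_153) (range_glue (range_of_allRange c_rel_154) (range_glue (range_of_allRange c_rel_155) (range_glue (range_of_allRange c_rel_156) (range_glue (range_of_allRange c_rel_157) (range_glue (range_of_allRange c_rel_158) (range_of_allRange c_rel_159))))))))))))))))))))))))))))))))))))))))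
theorem h_rel_p4 : ∀ t, 214918 ≤ t → t < 222797 → D.relOK t = true :=
  (range_glue (range_of_allRange c_rel_160) (range_glue (range_of_allRange c_rel_161) (range_glue (range_of_allRange c_rel_162) (range_glue (range_of_allRange c_rel_163) (range_glue (range_of_allRange c_rel_164) (range_glue (range_of_allRange c_rel_165) (range_glue (range_of_allRange c_rel_166) (range_glue (range_of_allRange c_rel_167) (range_glue (range_of_allRange c_rel_168) (range_glue (range_of_allRange c_rel_169) (range_glue (range_of_allRange c_rel_170) (range_glue (range_of_allRange c_rel_171) (range_glue (range_of_allRange c_rel_172) (range_glue (range_of_allRange c_rel_173) (range_glue (range_of_allRange c_rel_174) (range_glue (range_of_allRange c_rel_175) (range_glue (range_of_allRange c_rel_176) (range_glue (range_of_allRange c_rel_177) (range_glue (range_of_allRange c_rel_178) (range_glue (range_of_allRange c_rel_179) (range_glue (range_of_allRange c_rel_180) (range_glue (range_of_allRange c_rel_181) (range_glue (range_of_allRange c_rel_182) (range_glue (range_of_allRange c_rel_183) (range_glue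 (range_of_allRange c_rel_184) (range_glue (range_of_allRange c_rel_185) (range_glue (range_of_allRange c_rel_186) (range_glue (range_of_allRange c_rel_187) (range_glue (range_of_allRange c_rel_188) (range_glue (range_of_allRange c_rel_189) (range_glue (range_of_allRange c_rel_190) (range_glue (range_of_allRange c_rel_191) (range_glue (range_of_allRange c_rel_192) (range_glue (range_of_allRange c_rel_193) (range_glue (range_of_allRange c_rel_194) (range_glue (range_of_allRange c_rel_195) (range_glue (range_of_allRange c_rel_196) (range_glue (range_of_allRange c_rel_197) (range_glue (range_of_allRange c_rel_198) (range_of_allRange c_rel_199))))))))))))))))))))))))))))))))))))))))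
theorem h_rel_p5 : ∀ t, 222797 ≤ t → t < 253950 → D.relOK t = true :=
  (range_glue (range_of_allRange c_rel_200) (range_glue (range_of_allRange c_rel_201) (range_glue (range_of_allRange c_rel_202) (range_glue (range_of_allRange c_rel_203) (range_glue (range_of_allRange c_rel_204) (range_glue (range_of_allRange c_rel_205) (range_glue (range_of_allRange c_rel_206) (range_glue (range_of_allRange c_rel_207) (range_glue (range_of_allRange c_rel_208) (range_glue (range_of_allRange c_rel_209) (range_glue (range_of_allRange c_rel_210) (range_glue (range_of_allRange c_rel_211) (range_glue (range_of_allRange c_rel_212) (range_glue (range_of_allRange c_rel_213) (range_glue (range_of_allRange c_rel_214) (range_glue (range_of_allRange c_rel_215) (range_glue (range_of_allRange c_rel_216) (range_glue (range_of_allRange c_rel_217) (range_glue (range_of_allRange c_rel_218) (range_glue (range_of_allRange c_rel_219) (range_glue (range_of_allRange c_rel_220) (range_glue (range_of_allRange c_rel_221) (range_glue (range_of_allRange c_rel_222) (range_glue (range_of_allRange c_rel_223) (range_glue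 (range_of_allRange c_rel_224) (range_glue (range_of_allRange c_rel_225) (range_glue (range_of_allRange c_rel_226) (range_glue (range_of_allRange c_rel_227) (range_glue (range_of_allRange c_rel_228) (range_glue (range_of_allRange c_rel_229) (range_glue (range_of_allRange c_rel_230) (range_glue (range_of_allRange c_rel_231) (range_glue (range_of_allRange c_rel_232) (range_glue (range_of_allRange c_rel_233) (range_glue (range_of_allRange c_rel_234) (range_glue (range_of_allRange c_rel_235) (range_glue (range_of_allRange c_rel_236) (range_glue (range_of_allRange c_rel_237) (range_glue (range_of_allRange c_rel_238) (range_of_allRange c_rel_239))))))))))))))))))))))))))))))))))))))))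
theorem h_rel_p6 : ∀ t, 253950 ≤ t → t < 325009 → D.relOK t = true :=
  (range_glue (range_of_allRange c_rel_240) (range_glue (range_of_allRange c_rel_241) (range_glue (range_of_allRange c_rel_242) (range_glue (range_of_allRange c_rel_243) (range_glue (range_of_allRange c_rel_244) (range_glue (range_of_allRange c_rel_245) (range_glue (range_of_allRange c_rel_246) (range_glue (range_of_allRange c_rel_247) (range_glue (range_of_allRange c_rel_248) (range_glue (range_of_allRange c_rel_249) (range_glue (range_of_allRange c_rel_250) (range_glue (range_of_allRange c_rel_251) (range_glue (range_of_allRange c_rel_252) (range_glue (range_of_allRange c_rel_253) (range_glue (range_of_allRange c_rel_254) (range_glue (range_of_allRange c_rel_255) (range_glue (range_of_allRange c_rel_256) (range_glue (range_of_allRange c_rel_257) (range_glue (range_of_allRange c_rel_258) (range_glue (range_of_allRange c_rel_259) (range_glue (range_of_allRange c_rel_260) (range_glue (range_of_allRange c_rel_261) (range_of_allRange c_rel_262)))))))))))))))))))))))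
theorem h_rel : ∀ t, 37486 ≤ t → t < 325009 → D.relOK t = true :=
  (range_glue h_rel_p0 (range_glue h_rel_p1 (range_glue h_rel_p2 (range_glue h_rel_p3 (range_glue h_rel_p4 (range_glue h_rel_p5 h_rel_p6))))))
theorem h_names : ∀ t, 1 ≤ t → t < 37462 → D.nameOK t = true :=
  (range_of_allRange c_names_0)
theorem h_cls : ∀ t, 1 ≤ t → t < 37462 → T.clsOK D t = true :=
  (range_glue (range_of_allRange c_cls_0) (range_glue (range_of_allRange c_cls_1) (range_of_allRange c_cls_2)))
theorem h_rep : ∀ t, 0 ≤ t → t < 14080 → T.repOK D t = true :=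
  (range_of_allRange c_rep_0)
theorem h_fin : ∀ i, 0 ≤ i → i < 14080 → ∀ x, x < 26 → T.finOK D i x = true :=
  (range_glue (range_of_allGrid c_fin_0) (range_glue (range_of_allGrid c_fin_1) (range_glue (range_of_allGrid c_fin_2) (range_glue (range_of_allGrid c_fin_3) (range_glue (range_of_allGrid c_fin_4) (range_glue (range_of_allGrid c_fin_5) (range_glue (range_of_allGrid c_fin_6) (range_glue (range_of_allGrid c_fin_7) (range_glue (range_of_allGrid c_fin_8) (range_glue (range_of_allGrid c_fin_9) (range_glue (range_of_allGrid c_fin_10) (range_glue (range_of_allGrid c_fin_11) (range_glue (range_of_allGrid c_fin_12) (range_glue (range_of_allGrid c_fin_13) (range_glue (range_of_allGrid c_fin_14) (range_glue (range_of_allGrid c_fin_15) (range_glue (range_of_allGrid c_fin_16) (range_glue (range_of_allGrid c_fin_17) (range_glue (range_of_allGrid c_fin_18) (range_glue (range_of_allGrid c_fin_19) (range_glue (range_of_allGrid c_fin_20) (range_glue (range_of_allGrid c_fin_21) (range_glue (range_of_allGrid c_fin_22) (range_glue (range_of_allGrid c_fin_23) (range_glue (range_of_allGrid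 c_fin_24) (range_glue (range_of_allGrid c_fin_25) (range_glue (range_of_allGrid c_fin_26) (range_glue (range_of_allGrid c_fin_27) (range_glue (range_of_allGrid c_fin_28) (range_glue (range_of_allGrid c_fin_29) (range_of_allGrid c_fin_30)))))))))))))))))))))))))))))))
theorem h_perm : ∀ i, 0 ≤ i → i < 14080 → ∀ x, x < 26 → T.permOK1 D i x = true :=
  (range_glue (range_of_allGrid c_perm_0) (range_glue (range_of_allGrid c_perm_1) (range_glue (range_of_allGrid c_perm_2) (range_glue (range_of_allGrid c_perm_3) (range_glue (range_of_allGrid c_perm_4) (range_glue (range_of_allGrid c_perm_5) (range_glue (range_of_allGrid c_perm_6) (range_glue (range_of_allGrid c_perm_7) (range_glue (range_of_allGrid c_perm_8) (range_glue (range_of_allGrid c_perm_9) (range_glue (range_of_allGrid c_perm_10) (range_glue (range_of_allGrid c_perm_11) (range_of_allGrid c_perm_12)))))))))))))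
theorem h_act0 : ∀ i, 0 ≤ i → i < 14080 → Nat.beq (actR0 i) i = true :=
  (range_of_allRange c_act0_0)
theorem h_act1 : ∀ i, 0 ≤ i → i < 14080 → Nat.beq (actR1 i) i = true :=
  (range_glue (range_of_allRange c_act1_0) (range_of_allRange c_act1_1))
theorem h_act2 : ∀ i, 0 ≤ i → i < 14080 → Nat.beq (actR2 i) i = true :=
  (range_of_allRange c_act2_0)
theorem h_act3 : ∀ i, 0 ≤ i → i < 14080 → Nat.beq (actR3 i) i = true :=
  (range_of_allRange c_act3_0)
theorem h_act4 : ∀ i, 0 ≤ i → i < 14080 → Nat.beq (actR4 i) i = true :=
  (range_of_allRange c_act4_0)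
theorem h_act5 : ∀ i, 0 ≤ i → i < 14080 → Nat.beq (actR5 i) i = true :=
  (range_of_allRange c_act5_0)
theorem h_act6 : ∀ i, 0 ≤ i → i < 14080 → Nat.beq (actR6 i) i = true :=
  (range_of_allRange c_act6_0)
theorem h_act7 : ∀ i, 0 ≤ i → i < 14080 → Nat.beq (actR7 i) i = true :=
  (range_of_allRange c_act7_0)
theorem h_act8 : ∀ i, 0 ≤ i → i < 14080 → Nat.beq (actR8 i) i = true :=
  (range_of_allRange c_act8_0)
theorem h_act9 : ∀ i, 0 ≤ i → i < 14080 → Nat.beq (actR9 i) i = true :=
  (range_of_allRange c_act9_0)
theorem h_act10 : ∀ i, 0 ≤ i → i < 14080 → Nat.beq (actR10 i) i = true :=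
  (range_glue (range_of_allRange c_act10_0) (range_of_allRange c_act10_1))
theorem h_act11 : ∀ i, 0 ≤ i → i < 14080 → Nat.beq (actR11 i) i = true :=
  (range_of_allRange c_act11_0)
theorem h_act12 : ∀ i, 0 ≤ i → i < 14080 → Nat.beq (actR12 i) i = true :=
  (range_of_allRange c_act12_0)
theorem h_act13 : ∀ i, 0 ≤ i → i < 14080 → Nat.beq (actR13 i) i = true :=
  (range_of_allRange c_act13_0)
theorem h_act14 : ∀ i, 0 ≤ i → i < 14080 → Nat.beq (actR14 i) i = true :=
  (range_of_allRange c_act14_0)
theorem h_act15 : ∀ i, 0 ≤ i → i < 14080 → Nat.beq (actR15 i) i = true :=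
  (range_of_allRange c_act15_0)
theorem h_act16 : ∀ i, 0 ≤ i → i < 14080 → Nat.beq (actR16 i) i = true :=
  (range_of_allRange c_act16_0)
theorem h_act17 : ∀ i, 0 ≤ i → i < 14080 → Nat.beq (actR17 i) i = true :=
  (range_of_allRange c_act17_0)
theorem h_act18 : ∀ i, 0 ≤ i → i < 14080 → Nat.beq (actR18 i) i = true :=
  (range_glue (range_of_allRange c_act18_0) (range_of_allRange c_act18_1))
theorem h_act19 : ∀ i, 0 ≤ i → i < 14080 → Nat.beq (actR19 i) i = true :=
  (range_of_allRange c_act19_0)
theorem h_act20 : ∀ i, 0 ≤ i → i < 14080 → Nat.beq (actR20 i) i = true :=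
  (range_of_allRange c_act20_0)
theorem h_act21 : ∀ i, 0 ≤ i → i < 14080 → Nat.beq (actR21 i) i = true :=
  (range_of_allRange c_act21_0)
theorem h_act22 : ∀ i, 0 ≤ i → i < 14080 → Nat.beq (actR22 i) i = true :=
  (range_of_allRange c_act22_0)
theorem h_act23 : ∀ i, 0 ≤ i → i < 14080 → Nat.beq (actR23 i) i = true :=
  (range_of_allRange c_act23_0)
theorem h_act24 : ∀ i, 0 ≤ i → i < 14080 → Nat.beq (actR24 i) i = true :=
  (range_of_allRange c_act24_0)
theorem h_act25 : ∀ i, 0 ≤ i → i < 14080 → Nat.beq (actR25 i) i = true :=
  (range_glue (range_of_allRange c_act25_0) (range_of_allRange c_act25_1))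
theorem h_act26 : ∀ i, 0 ≤ i → i < 14080 → Nat.beq (actR26 i) i = true :=
  (range_glue (range_of_allRange c_act26_0) (range_of_allRange c_act26_1))
theorem h_act27 : ∀ i, 0 ≤ i → i < 14080 → Nat.beq (actR27 i) i = true :=
  (range_of_allRange c_act27_0)
theorem h_act28 : ∀ i, 0 ≤ i → i < 14080 → Nat.beq (actR28 i) i = true :=
  (range_of_allRange c_act28_0)
theorem h_act29 : ∀ i, 0 ≤ i → i < 14080 → Nat.beq (actR29 i) i = true :=
  (range_of_allRange c_act29_0)
theorem h_act30 : ∀ i, 0 ≤ i → i < 14080 → Nat.beq (actR30 i) i = true :=
  (range_of_allRange c_act30_0)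
theorem h_act31 : ∀ i, 0 ≤ i → i < 14080 → Nat.beq (actR31 i) i = true :=
  (range_of_allRange c_act31_0)
theorem h_act32 : ∀ i, 0 ≤ i → i < 14080 → Nat.beq (actR32 i) i = true :=
  (range_glue (range_of_allRange c_act32_0) (range_of_allRange c_act32_1))
theorem h_act33 : ∀ i, 0 ≤ i → i < 14080 → Nat.beq (actR33 i) i = true :=
  (range_of_allRange c_act33_0)
theorem h_act34 : ∀ i, 0 ≤ i → i < 14080 → Nat.beq (actR34 i) i = true :=
  (range_of_allRange c_act34_0)
theorem h_act35 : ∀ i, 0 ≤ i → i < 14080 → Nat.beq (actR35 i) i = true :=
  (range_of_allRange c_act35_0)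
theorem h_act36 : ∀ i, 0 ≤ i → i < 14080 → Nat.beq (actR36 i) i = true :=
  (range_of_allRange c_act36_0)
theorem h_act37 : ∀ i, 0 ≤ i → i < 14080 → Nat.beq (actR37 i) i = true :=
  (range_of_allRange c_act37_0)
theorem h_act38 : ∀ i, 0 ≤ i → i < 14080 → Nat.beq (actR38 i) i = true :=
  (range_glue (range_of_allRange c_act38_0) (range_of_allRange c_act38_1))
theorem h_act39 : ∀ i, 0 ≤ i → i < 14080 → Nat.beq (actR39 i) i = true :=
  (range_of_allRange c_act39_0)
theorem h_act40 : ∀ i, 0 ≤ i → i < 14080 → Nat.beq (actR40 i) i = true :=
  (range_glue (range_of_allRange c_act40_0) (range_of_allRange c_act40_1))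
theorem h_act41 : ∀ i, 0 ≤ i → i < 14080 → Nat.beq (actR41 i) i = true :=
  (range_of_allRange c_act41_0)
theorem h_act42 : ∀ i, 0 ≤ i → i < 14080 → Nat.beq (actR42 i) i = true :=
  (range_of_allRange c_act42_0)
theorem h_act43 : ∀ i, 0 ≤ i → i < 14080 → Nat.beq (actR43 i) i = true :=
  (range_of_allRange c_act43_0)
theorem h_act44 : ∀ i, 0 ≤ i → i < 14080 → Nat.beq (actR44 i) i = true :=
  (range_of_allRange c_act44_0)
theorem h_act45 : ∀ i, 0 ≤ i → i < 14080 → Nat.beq (actR45 i) i = true :=
  (range_glue (range_of_allRange c_act45_0) (range_glue (range_of_allRange c_act45_1) (range_glue (range_of_allRange c_act45_2) (range_glue (range_of_allRange c_act45_3) (range_glue (range_of_allRange c_act45_4) (range_glue (range_of_allRange c_act45_5) (range_glue (range_of_allRange c_act45_6) (range_glue (range_of_allRange c_act45_7) (range_glue (range_of_allRange c_act45_8) (range_glue (range_of_allRange c_act45_9) (range_glue (range_of_allRange c_act45_10) (range_glue (range_of_allRange c_act45_11) (range_glue (range_of_allRange c_act45_12) (range_glue (range_of_allRange c_act45_13)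 (range_glue (range_of_allRange c_act45_14) (range_glue (range_of_allRange c_act45_15) (range_glue (range_of_allRange c_act45_16) (range_glue (range_of_allRange c_act45_17) (range_glue (range_of_allRange c_act45_18) (range_glue (range_of_allRange c_act45_19) (range_glue (range_of_allRange c_act45_20) (range_of_allRange c_act45_21))))))))))))))))))))))
theorem h_act46 : ∀ i, 0 ≤ i → i < 14080 → Nat.beq (actR46 i) i = true :=
  (range_glue (range_of_allRange c_act46_0) (range_glue (range_of_allRange c_act46_1) (range_glue (range_of_allRange c_act46_2) (range_glue (range_of_allRange c_act46_3) (range_glue (range_of_allRange c_act46_4) (range_glue (range_of_allRange c_act46_5) (range_glue (range_of_allRange c_act46_6) (range_glue (range_of_allRange c_act46_7) (range_glue (range_of_allRange c_act46_8) (range_glue (range_of_allRange c_act46_9) (range_glue (range_of_allRange c_act46_10) (range_glue (range_of_allRange c_act46_11) (range_glue (range_of_allRange c_act46_12) (range_glue (range_of_allRange c_act46_13) (range_of_allRange c_act46_14)))))))))))))))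
theorem h_act47 : ∀ i, 0 ≤ i → i < 14080 → Nat.beq (actR47 i) i = true :=
  (range_glue (range_of_allRange c_act47_0) (range_glue (range_of_allRange c_act47_1) (range_glue (range_of_allRange c_act47_2) (range_glue (range_of_allRange c_act47_3) (range_glue (range_of_allRange c_act47_4) (range_glue (range_of_allRange c_act47_5) (range_glue (range_of_allRange c_act47_6) (range_glue (range_of_allRange c_act47_7) (range_glue (range_of_allRange c_act47_8) (range_glue (range_of_allRange c_act47_9) (range_glue (range_of_allRange c_act47_10) (range_glue (range_of_allRange c_act47_11) (range_glue (range_of_allRange c_act47_12) (range_glue (range_of_allRange c_act47_13) (range_of_allRange c_act47_14)))))))))))))))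
theorem h_act48 : ∀ i, 0 ≤ i → i < 14080 → Nat.beq (actR48 i) i = true :=
  (range_glue (range_of_allRange c_act48_0) (range_glue (range_of_allRange c_act48_1) (range_glue (range_of_allRange c_act48_2) (range_glue (range_of_allRange c_act48_3) (range_glue (range_of_allRange c_act48_4) (range_glue (range_of_allRange c_act48_5) (range_glue (range_of_allRange c_act48_6) (range_glue (range_of_allRange c_act48_7) (range_glue (range_of_allRange c_act48_8) (range_glue (range_of_allRange c_act48_9) (range_glue (range_of_allRange c_act48_10) (range_glue (range_of_allRange c_act48_11) (range_glue (range_of_allRange c_act48_12) (range_glue (range_of_allRange c_act48_13) (range_glue (range_of_allRange c_act48_14) (range_glue (range_of_allRange c_act48_15) (range_glue (range_of_allRange c_act48_16) (range_glue (range_of_allRange c_act48_17) (range_glue (range_of_allRange c_act48_18) (range_glue (range_of_allRange c_act48_19) (range_glue (range_of_allRange c_act48_20) (range_glue (range_of_allRange c_act48_21) (range_glue (range_of_allRange c_act48_22) (range_glue (range_of_allRange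 c_act48_23) (range_glue (range_of_allRange c_act48_24) (range_glue (range_of_allRange c_act48_25) (range_glue (range_of_allRange c_act48_26) (range_glue (range_of_allRange c_act48_27) (range_glue (range_of_allRange c_act48_28) (range_glue (range_of_allRange c_act48_29) (range_glue (range_of_allRange c_act48_30) (range_glue (range_of_allRange c_act48_31) (range_glue (range_of_allRange c_act48_32) (range_glue (range_of_allRange c_act48_33) (range_glue (range_of_allRange c_act48_34) (range_glue (range_of_allRange c_act48_35) (range_of_allRange c_act48_36)))))))))))))))))))))))))))))))))))))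
theorem h_act49 : ∀ i, 0 ≤ i → i < 14080 → Nat.beq (actR49 i) i = true :=
  (range_glue (range_of_allRange c_act49_0) (range_glue (range_of_allRange c_act49_1) (range_glue (range_of_allRange c_act49_2) (range_glue (range_of_allRange c_act49_3) (range_glue (range_of_allRange c_act49_4) (range_glue (range_of_allRange c_act49_5) (range_glue (range_of_allRange c_act49_6) (range_glue (range_of_allRange c_act49_7) (range_glue (range_of_allRange c_act49_8) (range_glue (range_of_allRange c_act49_9) (range_glue (range_of_allRange c_act49_10) (range_glue (range_of_allRange c_act49_11) (range_glue (range_of_allRange c_act49_12) (range_glue (range_of_allRange c_act49_13) (range_glue (range_of_allRange c_act49_14) (range_glue (range_of_allRange c_act49_15) (range_glue (range_of_allRange c_act49_16) (range_glue (range_of_allRange c_act49_17) (range_glue (range_of_allRange c_act49_18) (range_glue (range_of_allRange c_act49_19) (range_glue (range_of_allRange c_act49_20) (range_glue (range_of_allRange c_act49_21) (range_glue (range_of_allRange c_act49_22) (range_glue (range_of_allRange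 c_act49_23) (range_glue (range_of_allRange c_act49_24) (range_glue (range_of_allRange c_act49_25) (range_glue (range_of_allRange c_act49_26) (range_of_allRange c_act49_27))))))))))))))))))))))))))))
theorem h_act50 : ∀ i, 0 ≤ i → i < 14080 → Nat.beq (actR50 i) i = true :=
  (range_glue (range_of_allRange c_act50_0) (range_glue (range_of_allRange c_act50_1) (range_glue (range_of_allRange c_act50_2) (range_glue (range_of_allRange c_act50_3) (range_glue (range_of_allRange c_act50_4) (range_glue (range_of_allRange c_act50_5) (range_glue (range_of_allRange c_act50_6) (range_glue (range_of_allRange c_act50_7) (range_glue (range_of_allRange c_act50_8) (range_glue (range_of_allRange c_act50_9) (range_glue (range_of_allRange c_act50_10) (range_glue (range_of_allRange c_act50_11) (range_glue (range_of_allRange c_act50_12) (range_glue (range_of_allRange c_act50_13) (range_glue (range_of_allRange c_act50_14) (range_glue (range_of_allRange c_act50_15) (range_glue (range_of_allRange c_act50_16) (range_glue (range_of_allRange c_act50_17) (range_glue (range_of_allRange c_act50_18) (range_glue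 (range_of_allRange c_act50_19) (range_glue (range_of_allRange c_act50_20) (range_glue (range_of_allRange c_act50_21) (range_glue (range_of_allRange c_act50_22) (range_glue (range_of_allRange c_act50_23) (range_glue (range_of_allRange c_act50_24) (range_glue (range_of_allRange c_act50_25) (range_of_allRange c_act50_26)))))))))))))))))))))))))))
theorem h_act51 : ∀ i, 0 ≤ i → i < 14080 → Nat.beq (actR51 i) i = true :=
  (range_glue (range_of_allRange c_act51_0) (range_of_allRange c_act51_1))
theorem h_act52 : ∀ i, 0 ≤ i → i < 14080 → Nat.beq (actR52 i) i = true :=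
  (range_glue (range_of_allRange c_act52_0) (range_glue (range_of_allRange c_act52_1) (range_of_allRange c_act52_2)))
theorem h_act53 : ∀ i, 0 ≤ i → i < 14080 → Nat.beq (actR53 i) i = true :=
  (range_glue (range_of_allRange c_act53_0) (range_glue (range_of_allRange c_act53_1) (range_of_allRange c_act53_2)))
theorem h_act54 : ∀ i, 0 ≤ i → i < 14080 → Nat.beq (actR54 i) i = true :=
  (range_glue (range_of_allRange c_act54_0) (range_glue (range_of_allRange c_act54_1) (range_of_allRange c_act54_2)))
theorem h_act55 : ∀ i, 0 ≤ i → i < 14080 → Nat.beq (actR55 i) i = true :=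
  (range_of_allRange c_act55_0)
theorem h_act56 : ∀ i, 0 ≤ i → i < 14080 → Nat.beq (actR56 i) i = true :=
  (range_glue (range_of_allRange c_act56_0) (range_of_allRange c_act56_1))
theorem h_act57 : ∀ i, 0 ≤ i → i < 14080 → Nat.beq (actR57 i) i = true :=
  (range_glue (range_of_allRange c_act57_0) (range_glue (range_of_allRange c_act57_1) (range_of_allRange c_act57_2)))
theorem h_act58 : ∀ i, 0 ≤ i → i < 14080 → Nat.beq (actR58 i) i = true :=
  (range_glue (range_of_allRange c_act58_0) (range_glue (range_of_allRange c_act58_1) (range_of_allRange c_act58_2)))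
theorem h_act59 : ∀ i, 0 ≤ i → i < 14080 → Nat.beq (actR59 i) i = true :=
  (range_glue (range_of_allRange c_act59_0) (range_glue (range_of_allRange c_act59_1) (range_of_allRange c_act59_2)))
theorem h_act60 : ∀ i, 0 ≤ i → i < 14080 → Nat.beq (actR60 i) i = true :=
  (range_glue (range_of_allRange c_act60_0) (range_glue (range_of_allRange c_act60_1) (range_glue (range_of_allRange c_act60_2) (range_of_allRange c_act60_3))))
theorem h_act61 : ∀ i, 0 ≤ i → i < 14080 → Nat.beq (actR61 i) i = true :=
  (range_glue (range_of_allRange c_act61_0) (range_of_allRange c_act61_1))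
theorem h_act62 : ∀ i, 0 ≤ i → i < 14080 → Nat.beq (actR62 i) i = true :=
  (range_glue (range_of_allRange c_act62_0) (range_of_allRange c_act62_1))
theorem h_act63 : ∀ i, 0 ≤ i → i < 14080 → Nat.beq (actR63 i) i = true :=
  (range_glue (range_of_allRange c_act63_0) (range_glue (range_of_allRange c_act63_1) (range_of_allRange c_act63_2)))
theorem h_act64 : ∀ i, 0 ≤ i → i < 14080 → Nat.beq (actR64 i) i = true :=
  (range_glue (range_of_allRange c_act64_0) (range_glue (range_of_allRange c_act64_1) (range_of_allRange c_act64_2)))
theorem h_act65 : ∀ i, 0 ≤ i → i < 14080 → Nat.beq (actR65 i) i = true :=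
  (range_glue (range_of_allRange c_act65_0) (range_glue (range_of_allRange c_act65_1) (range_of_allRange c_act65_2)))
theorem h_act66 : ∀ i, 0 ≤ i → i < 14080 → Nat.beq (actR66 i) i = true :=
  (range_glue (range_of_allRange c_act66_0) (range_glue (range_of_allRange c_act66_1) (range_of_allRange c_act66_2)))
theorem h_act67 : ∀ i, 0 ≤ i → i < 14080 → Nat.beq (actR67 i) i = true :=
  (range_glue (range_of_allRange c_act67_0) (range_glue (range_of_allRange c_act67_1) (range_of_allRange c_act67_2)))
theorem h_act68 : ∀ i, 0 ≤ i → i < 14080 → Nat.beq (actR68 i) i = true :=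
  (range_glue (range_of_allRange c_act68_0) (range_glue (range_of_allRange c_act68_1) (range_of_allRange c_act68_2)))
theorem h_act69 : ∀ i, 0 ≤ i → i < 14080 → Nat.beq (actR69 i) i = true :=
  (range_glue (range_of_allRange c_act69_0) (range_glue (range_of_allRange c_act69_1) (range_of_allRange c_act69_2)))
theorem h_act70 : ∀ i, 0 ≤ i → i < 14080 → Nat.beq (actR70 i) i = true :=
  (range_glue (range_of_allRange c_act70_0) (range_glue (range_of_allRange c_act70_1) (range_glue (range_of_allRange c_act70_2) (range_of_allRange c_act70_3))))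
theorem h_act71 : ∀ i, 0 ≤ i → i < 14080 → Nat.beq (actR71 i) i = true :=
  (range_glue (range_of_allRange c_act71_0) (range_glue (range_of_allRange c_act71_1) (range_glue (range_of_allRange c_act71_2) (range_of_allRange c_act71_3))))
theorem h_act72 : ∀ i, 0 ≤ i → i < 14080 → Nat.beq (actR72 i) i = true :=
  (range_glue (range_of_allRange c_act72_0) (range_glue (range_of_allRange c_act72_1) (range_glue (range_of_allRange c_act72_2) (range_of_allRange c_act72_3))))
theorem h_act73 : ∀ i, 0 ≤ i → i < 14080 → Nat.beq (actR73 i) i = true :=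
  (range_glue (range_of_allRange c_act73_0) (range_glue (range_of_allRange c_act73_1) (range_glue (range_of_allRange c_act73_2) (range_of_allRange c_act73_3))))
theorem h_act74 : ∀ i, 0 ≤ i → i < 14080 → Nat.beq (actR74 i) i = true :=
  (range_glue (range_of_allRange c_act74_0) (range_glue (range_of_allRange c_act74_1) (range_glue (range_of_allRange c_act74_2) (range_of_allRange c_act74_3))))
theorem h_act75 : ∀ i, 0 ≤ i → i < 14080 → Nat.beq (actR75 i) i = true :=
  (range_glue (range_of_allRange c_act75_0) (range_glue (range_of_allRange c_act75_1) (range_glue (range_of_allRange c_act75_2) (range_of_allRange c_act75_3))))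
theorem h_act76 : ∀ i, 0 ≤ i → i < 14080 → Nat.beq (actR76 i) i = true :=
  (range_glue (range_of_allRange c_act76_0) (range_glue (range_of_allRange c_act76_1) (range_glue (range_of_allRange c_act76_2) (range_of_allRange c_act76_3))))
theorem h_act77 : ∀ i, 0 ≤ i → i < 14080 → Nat.beq (actR77 i) i = true :=
  (range_glue (range_of_allRange c_act77_0) (range_glue (range_of_allRange c_act77_1) (range_glue (range_of_allRange c_act77_2) (range_of_allRange c_act77_3))))
theorem h_act78 : ∀ i, 0 ≤ i → i < 14080 → Nat.beq (actR78 i) i = true :=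
  (range_glue (range_of_allRange c_act78_0) (range_glue (range_of_allRange c_act78_1) (range_glue (range_of_allRange c_act78_2) (range_of_allRange c_act78_3))))
theorem h_act79 : ∀ i, 0 ≤ i → i < 14080 → Nat.beq (actR79 i) i = true :=
  (range_glue (range_of_allRange c_act79_0) (range_glue (range_of_allRange c_act79_1) (range_glue (range_of_allRange c_act79_2) (range_glue (range_of_allRange c_act79_3) (range_of_allRange c_act79_4)))))
theorem h_act80 : ∀ i, 0 ≤ i → i < 14080 → Nat.beq (actR80 i) i = true :=
  (range_of_allRange c_act80_0)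
theorem h_act81 : ∀ i, 0 ≤ i → i < 14080 → Nat.beq (actR81 i) i = true :=
  (range_of_allRange c_act81_0)
theorem h_act82 : ∀ i, 0 ≤ i → i < 14080 → Nat.beq (actR82 i) i = true :=
  (range_of_allRange c_act82_0)
theorem h_act83 : ∀ i, 0 ≤ i → i < 14080 → Nat.beq (actR83 i) i = true :=
  (range_of_allRange c_act83_0)
theorem h_act84 : ∀ i, 0 ≤ i → i < 14080 → Nat.beq (actR84 i) i = true :=
  (range_of_allRange c_act84_0)
theorem h_act85 : ∀ i, 0 ≤ i → i < 14080 → Nat.beq (actR85 i) i = true :=
  (range_of_allRange c_act85_0)
theorem h_act86 : ∀ i, 0 ≤ i → i < 14080 → Nat.beq (actR86 i) i = true :=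
  (range_of_allRange c_act86_0)
theorem h_act87 : ∀ i, 0 ≤ i → i < 14080 → Nat.beq (actR87 i) i = true :=
  (range_of_allRange c_act87_0)
theorem h_act88 : ∀ i, 0 ≤ i → i < 14080 → Nat.beq (actR88 i) i = true :=
  (range_of_allRange c_act88_0)
theorem h_act89 : ∀ i, 0 ≤ i → i < 14080 → Nat.beq (actR89 i) i = true :=
  (range_of_allRange c_act89_0)
theorem h_act90 : ∀ i, 0 ≤ i → i < 14080 → Nat.beq (actR90 i) i = true :=
  (range_of_allRange c_act90_0)
theorem h_act91 : ∀ i, 0 ≤ i → i < 14080 → Nat.beq (actR91 i) i = true :=
  (range_of_allRange c_act91_0)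
theorem h_act92 : ∀ i, 0 ≤ i → i < 14080 → Nat.beq (actR92 i) i = true :=
  (range_of_allRange c_act92_0)

theorem checked : T.Checked D where
  hz := c_zero
  hn := fun d h0 hd => h_names d h0 hd
  hb := fun j hj => allBelow_eq_true.1 c_base j hj
  hr := fun t h1 h2 => h_rel t h1 h2
  hfin := fun i x hi hx => h_fin i (Nat.zero_le _) hi x hx
  hperm := fun i x hi hx => h_perm i (Nat.zero_le _) hi x hx
  hlet := fun x hx => allBelow_eq_true.1 c_let x hx
  hcls := fun d h0 hd => h_cls d h0 hd
  hrep := fun i hi => h_rep i (Nat.zero_le _) hi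
  hcls0 := c_cls0
  hname0 := c_name0
  hN := by decide
  hM := by decide

set_option maxRecDepth 100000 in
theorem h_act : ∀ L ∈ PC3Fi22y.P.real, ∀ i, i < T.N → Tab.relActOK T D L i = true := by
  rw [c_real]
  intro L hL
  simp only [realLit, List.mem_cons, List.not_mem_nil, or_false] at hL
  rcases hL with rfl | rfl | rfl | rfl | rfl | rfl | rfl | rfl | rfl | rfl | rfl | rfl | rfl | rfl | rfl | rfl | rfl | rfl | rfl | rfl | rfl | rfl | rfl | rfl | rfl | rfl | rfl | rfl | rfl | rfl | rfl | rfl | rfl | rfl | rfl | rfl | rfl | rfl | rfl | rfl | rfl | rfl | rfl | rfl | rfl | rfl | rfl | rfl | rfl | rfl | rfl | rfl | rfl | rfl | rfl | rfl | rfl | rfl | rfl | rfl | rfl | rfl | rfl | rfl | rfl | rfl | rfl | rfl | rfl | rfl | rfl | rfl | rfl | rfl | rfl | rfl | rfl | rfl | rfl | rfl | rfl | rfl | rfl | rfl | rfl | rfl | rfl | rfl | rfl | rfl | rfl | rfl | rfl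
  · intro i hi
    rw [Tab.relActOK, ← actR0_eq]
    exact h_act0 i (Nat.zero_le _) hi
  · intro i hi
    rw [Tab.relActOK, ← actR1_eq]
    exact h_act1 i (Nat.zero_le _) hi
  · intro i hi
    rw [Tab.relActOK, ← actR2_eq]
    exact h_act2 i (Nat.zero_le _) hi
  · intro i hi
    rw [Tab.relActOK, ← actR3_eq]
    exact h_act3 i (Nat.zero_le _) hi
  · intro i hi
    rw [Tab.relActOK, ← actR4_eq]
    exact h_act4 i (Nat.zero_le _) hi
  · intro i hi
    rw [Tab.relActOK, ← actR5_eq]
    exact h_act5 i (Nat.zero_le _) hi
  · intro i hi
    rw [Tab.relActOK, ← actR6_eq]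
    exact h_act6 i (Nat.zero_le _) hi
  · intro i hi
    rw [Tab.relActOK, ← actR7_eq]
    exact h_act7 i (Nat.zero_le _) hi
  · intro i hi
    rw [Tab.relActOK, ← actR8_eq]
    exact h_act8 i (Nat.zero_le _) hi
  · intro i hi
    rw [Tab.relActOK, ← actR9_eq]
    exact h_act9 i (Nat.zero_le _) hi
  · intro i hi
    rw [Tab.relActOK, ← actR10_eq]
    exact h_act10 i (Nat.zero_le _) hi
  · intro i hi
    rw [Tab.relActOK, ← actR11_eq]
    exact h_act11 i (Nat.zero_le _) hi
  · intro i hi
    rw [Tab.relActOK, ← actR12_eq]
    exact h_act12 i (Nat.zero_le _) hi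
  · intro i hi
    rw [Tab.relActOK, ← actR13_eq]
    exact h_act13 i (Nat.zero_le _) hi
  · intro i hi
    rw [Tab.relActOK, ← actR14_eq]
    exact h_act14 i (Nat.zero_le _) hi
  · intro i hi
    rw [Tab.relActOK, ← actR15_eq]
    exact h_act15 i (Nat.zero_le _) hi
  · intro i hi
    rw [Tab.relActOK, ← actR16_eq]
    exact h_act16 i (Nat.zero_le _) hi
  · intro i hi
    rw [Tab.relActOK, ← actR17_eq]
    exact h_act17 i (Nat.zero_le _) hi
  · intro i hi
    rw [Tab.relActOK, ← actR18_eq]
    exact h_act18 i (Nat.zero_le _) hi
  · intro i hi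
    rw [Tab.relActOK, ← actR19_eq]
    exact h_act19 i (Nat.zero_le _) hi
  · intro i hi
    rw [Tab.relActOK, ← actR20_eq]
    exact h_act20 i (Nat.zero_le _) hi
  · intro i hi
    rw [Tab.relActOK, ← actR21_eq]
    exact h_act21 i (Nat.zero_le _) hi
  · intro i hi
    rw [Tab.relActOK, ← actR22_eq]
    exact h_act22 i (Nat.zero_le _) hi
  · intro i hi
    rw [Tab.relActOK, ← actR23_eq]
    exact h_act23 i (Nat.zero_le _) hi
  · intro i hi
    rw [Tab.relActOK, ← actR24_eq]
    exact h_act24 i (Nat.zero_le _) hi
  · intro i hi
    rw [Tab.relActOK, ← actR25_eq]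
    exact h_act25 i (Nat.zero_le _) hi
  · intro i hi
    rw [Tab.relActOK, ← actR26_eq]
    exact h_act26 i (Nat.zero_le _) hi
  · intro i hi
    rw [Tab.relActOK, ← actR27_eq]
    exact h_act27 i (Nat.zero_le _) hi
  · intro i hi
    rw [Tab.relActOK, ← actR28_eq]
    exact h_act28 i (Nat.zero_le _) hi
  · intro i hi
    rw [Tab.relActOK, ← actR29_eq]
    exact h_act29 i (Nat.zero_le _) hi
  · intro i hi
    rw [Tab.relActOK, ← actR30_eq]
    exact h_act30 i (Nat.zero_le _) hi
  · intro i hi
    rw [Tab.relActOK, ← actR31_eq]
    exact h_act31 i (Nat.zero_le _) hi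
  · intro i hi
    rw [Tab.relActOK, ← actR32_eq]
    exact h_act32 i (Nat.zero_le _) hi
  · intro i hi
    rw [Tab.relActOK, ← actR33_eq]
    exact h_act33 i (Nat.zero_le _) hi
  · intro i hi
    rw [Tab.relActOK, ← actR34_eq]
    exact h_act34 i (Nat.zero_le _) hi
  · intro i hi
    rw [Tab.relActOK, ← actR35_eq]
    exact h_act35 i (Nat.zero_le _) hi
  · intro i hi
    rw [Tab.relActOK, ← actR36_eq]
    exact h_act36 i (Nat.zero_le _) hi
  · intro i hi
    rw [Tab.relActOK, ← actR37_eq]
    exact h_act37 i (Nat.zero_le _) hi
  · intro i hi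
    rw [Tab.relActOK, ← actR38_eq]
    exact h_act38 i (Nat.zero_le _) hi
  · intro i hi
    rw [Tab.relActOK, ← actR39_eq]
    exact h_act39 i (Nat.zero_le _) hi
  · intro i hi
    rw [Tab.relActOK, ← actR40_eq]
    exact h_act40 i (Nat.zero_le _) hi
  · intro i hi
    rw [Tab.relActOK, ← actR41_eq]
    exact h_act41 i (Nat.zero_le _) hi
  · intro i hi
    rw [Tab.relActOK, ← actR42_eq]
    exact h_act42 i (Nat.zero_le _) hi
  · intro i hi
    rw [Tab.relActOK, ← actR43_eq]
    exact h_act43 i (Nat.zero_le _) hi
  · intro i hi
    rw [Tab.relActOK, ← actR44_eq]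
    exact h_act44 i (Nat.zero_le _) hi
  · intro i hi
    rw [Tab.relActOK, ← actR45_eq]
    exact h_act45 i (Nat.zero_le _) hi
  · intro i hi
    rw [Tab.relActOK, ← actR46_eq]
    exact h_act46 i (Nat.zero_le _) hi
  · intro i hi
    rw [Tab.relActOK, ← actR47_eq]
    exact h_act47 i (Nat.zero_le _) hi
  · intro i hi
    rw [Tab.relActOK, ← actR48_eq]
    exact h_act48 i (Nat.zero_le _) hi
  · intro i hi
    rw [Tab.relActOK, ← actR49_eq]
    exact h_act49 i (Nat.zero_le _) hi
  · intro i hi
    rw [Tab.relActOK, ← actR50_eq]
    exact h_act50 i (Nat.zero_le _) hi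
  · intro i hi
    rw [Tab.relActOK, ← actR51_eq]
    exact h_act51 i (Nat.zero_le _) hi
  · intro i hi
    rw [Tab.relActOK, ← actR52_eq]
    exact h_act52 i (Nat.zero_le _) hi
  · intro i hi
    rw [Tab.relActOK, ← actR53_eq]
    exact h_act53 i (Nat.zero_le _) hi
  · intro i hi
    rw [Tab.relActOK, ← actR54_eq]
    exact h_act54 i (Nat.zero_le _) hi
  · intro i hi
    rw [Tab.relActOK, ← actR55_eq]
    exact h_act55 i (Nat.zero_le _) hi
  · intro i hi
    rw [Tab.relActOK, ← actR56_eq]
    exact h_act56 i (Nat.zero_le _) hi
  · intro i hi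
    rw [Tab.relActOK, ← actR57_eq]
    exact h_act57 i (Nat.zero_le _) hi
  · intro i hi
    rw [Tab.relActOK, ← actR58_eq]
    exact h_act58 i (Nat.zero_le _) hi
  · intro i hi
    rw [Tab.relActOK, ← actR59_eq]
    exact h_act59 i (Nat.zero_le _) hi
  · intro i hi
    rw [Tab.relActOK, ← actR60_eq]
    exact h_act60 i (Nat.zero_le _) hi
  · intro i hi
    rw [Tab.relActOK, ← actR61_eq]
    exact h_act61 i (Nat.zero_le _) hi
  · intro i hi
    rw [Tab.relActOK, ← actR62_eq]
    exact h_act62 i (Nat.zero_le _) hi
  · intro i hi
    rw [Tab.relActOK, ← actR63_eq]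
    exact h_act63 i (Nat.zero_le _) hi
  · intro i hi
    rw [Tab.relActOK, ← actR64_eq]
    exact h_act64 i (Nat.zero_le _) hi
  · intro i hi
    rw [Tab.relActOK, ← actR65_eq]
    exact h_act65 i (Nat.zero_le _) hi
  · intro i hi
    rw [Tab.relActOK, ← actR66_eq]
    exact h_act66 i (Nat.zero_le _) hi
  · intro i hi
    rw [Tab.relActOK, ← actR67_eq]
    exact h_act67 i (Nat.zero_le _) hi
  · intro i hi
    rw [Tab.relActOK, ← actR68_eq]
    exact h_act68 i (Nat.zero_le _) hi
  · intro i hi
    rw [Tab.relActOK, ← actR69_eq]
    exact h_act69 i (Nat.zero_le _) hi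
  · intro i hi
    rw [Tab.relActOK, ← actR70_eq]
    exact h_act70 i (Nat.zero_le _) hi
  · intro i hi
    rw [Tab.relActOK, ← actR71_eq]
    exact h_act71 i (Nat.zero_le _) hi
  · intro i hi
    rw [Tab.relActOK, ← actR72_eq]
    exact h_act72 i (Nat.zero_le _) hi
  · intro i hi
    rw [Tab.relActOK, ← actR73_eq]
    exact h_act73 i (Nat.zero_le _) hi
  · intro i hi
    rw [Tab.relActOK, ← actR74_eq]
    exact h_act74 i (Nat.zero_le _) hi
  · intro i hi
    rw [Tab.relActOK, ← actR75_eq]
    exact h_act75 i (Nat.zero_le _) hi
  · intro i hi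
    rw [Tab.relActOK, ← actR76_eq]
    exact h_act76 i (Nat.zero_le _) hi
  · intro i hi
    rw [Tab.relActOK, ← actR77_eq]
    exact h_act77 i (Nat.zero_le _) hi
  · intro i hi
    rw [Tab.relActOK, ← actR78_eq]
    exact h_act78 i (Nat.zero_le _) hi
  · intro i hi
    rw [Tab.relActOK, ← actR79_eq]
    exact h_act79 i (Nat.zero_le _) hi
  · intro i hi
    rw [Tab.relActOK, ← actR80_eq]
    exact h_act80 i (Nat.zero_le _) hi
  · intro i hi
    rw [Tab.relActOK, ← actR81_eq]
    exact h_act81 i (Nat.zero_le _) hi
  · intro i hi
    rw [Tab.relActOK, ← actR82_eq]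
    exact h_act82 i (Nat.zero_le _) hi
  · intro i hi
    rw [Tab.relActOK, ← actR83_eq]
    exact h_act83 i (Nat.zero_le _) hi
  · intro i hi
    rw [Tab.relActOK, ← actR84_eq]
    exact h_act84 i (Nat.zero_le _) hi
  · intro i hi
    rw [Tab.relActOK, ← actR85_eq]
    exact h_act85 i (Nat.zero_le _) hi
  · intro i hi
    rw [Tab.relActOK, ← actR86_eq]
    exact h_act86 i (Nat.zero_le _) hi
  · intro i hi
    rw [Tab.relActOK, ← actR87_eq]
    exact h_act87 i (Nat.zero_le _) hi
  · intro i hi
    rw [Tab.relActOK, ← actR88_eq]
    exact h_act88 i (Nat.zero_le _) hi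
  · intro i hi
    rw [Tab.relActOK, ← actR89_eq]
    exact h_act89 i (Nat.zero_le _) hi
  · intro i hi
    rw [Tab.relActOK, ← actR90_eq]
    exact h_act90 i (Nat.zero_le _) hi
  · intro i hi
    rw [Tab.relActOK, ← actR91_eq]
    exact h_act91 i (Nat.zero_le _) hi
  · intro i hi
    rw [Tab.relActOK, ← actR92_eq]
    exact h_act92 i (Nat.zero_le _) hi

theorem inst : Inst PC3Fi22y.P T D subs where
  hP := PC3Fi22y.valid
  hk := rfl
  hinv := rfl
  hsubs := by
    intro u hu x hx
    have h1 := List.all_eq_true.1 c_subs u hu
    exact ble_succ (List.all_eq_true.1 h1 x hx)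
  htab := c_tab
  hC := checked
  hact := h_act
  hsubfix := fun u hu => beq_eq (List.all_eq_true.1 c_subfix u hu)

theorem index_eq : (Inst.subG PC3Fi22y.P subs).index = 14080 := inst.index_eq


end Cfsg.Agent.Lib.Helper4.TCD.C3Fi22yB
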