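import Mathlib
import Cfsg.Agent.Lib.Helper4.C3Fi22yCover
import Cfsg.Agent.Lib.Helper4.TCD_C3Fi22yB_Fin
import Cfsg.Agent.Lib.Helper4.C3O73Cover
import Cfsg.Agent.Lib.Helper4.SC3O73p3Main
import Cfsg.Agent.Lib.Helper4.TC19
import Cfsg.Agent.Lib.Helper4.StemLib12
import Cfsg.Agent.Lib.Helper4.CoverLib

/-! The presented group `C3Fi22y` contains the presented group `C3O73` as a subgroup of index 14080 (the letters go to letters),
and stem extensions with kernel of prime order split over it. -/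

set_option autoImplicit false
set_option maxRecDepth 100000

namespace Cfsg.Agent.Lib.Helper4.C3Fi22ySub

open Cfsg Cfsg.Agent.Lib.Helper4.TC Cfsg.Agent.Lib.Helper4.TCD Cfsg.Agent.Lib.Helper4.TC.Log Cfsg.Agent.Lib.Helper4.Stem

local notation "G" => PC3Fi22y.P.Grp
local notation "gG" => PC3Fi22y.P.gR

theorem hinv (y : ℕ) (hy : y < 26) : gG (PC3Fi22y.P.invR y) = (gG y)⁻¹ :=
  (PC3Fi22y.valid.invR_sound y (by show y ≤ 26; omega)).2

section Gen

variable (S : Subgroup G) (h : ∀ l ∈ [0, 2, 4, 6, 8, 10, 12, 14, 16, 24], gG l ∈ S)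
include h

theorem old_mem (y : ℕ) (hy : y < 18 ∨ y = 24 ∨ y = 25) : gG y ∈ S := by
  have he : ∀ l, l < 9 → gG (2 * l) ∈ S := by
    intro l hl
    apply h
    interval_cases l <;> decide
  have ho : ∀ l, l < 9 → gG (2 * l + 1) ∈ S := by
    intro l hl
    have e : PC3Fi22y.P.invR (2 * l) = 2 * l + 1 := by interval_cases l <;> rfl
    rw [← e, hinv (2 * l) (by omega)]
    exact inv_mem (he l hl)
  rcases hy with hy | rfl | rfl
  · rcases Nat.even_or_odd' y with ⟨l, rfl | rfl⟩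
    · exact he l (by omega)
    · exact ho l (by omega)
  · exact h 24 (by decide)
  · rw [show (25 : ℕ) = PC3Fi22y.P.invR 24 from rfl, hinv 24 (by decide)]
    exact inv_mem (h 24 (by decide))

theorem new18_mem : gG 18 ∈ S := by
  have hr : [19, 8, 6, 14, 16, 14, 8, 10, 6, 8, 4, 6, 14, 12, 10, 8, 6, 4, 2, 4, 6, 8, 10, 12, 14, 6, 4, 8, 6, 10, 8, 14, 16, 14, 6, 8, 6, 8, 4, 6, 14, 16, 10, 8, 6, 14, 12, 10, 8, 6, 2, 4, 2, 4, 2, 6, 8, 10, 12, 14, 6, 8, 10, 16, 14, 6, 4, 8, 6, 2, 4, 6, 14, 16, 8, 6, 14, 12, 10, 8, 6, 2, 4, 2, 4, 2, 6, 8, 10, 12, 14, 6, 8, 16, 14, 6, 4, 2, 16, 14, 6, 2, 4, 2, 4, 2, 6, 14, 16, 10, 8, 4, 6, 14, 16, 8, 4, 6, 14, 10, 8, 6, 4, 2, 4, 6, 8, 10, 14, 6, 4, 8, 16, 14, 6, 4, 8, 10, 12, 10, 8, 4, 6, 2, 4, 2, 4, 2, 6, 4, 8, 10, 12, 24, 24] ∈ PC3Fi22y.P.real := by decide +kernel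
  have h0 := (PC3Fi22y.valid.real_sound _ hr).2
  rw [wordP_cons] at h0
  have h1 : gG 19 = (gG 18)⁻¹ := hinv 18 (by decide)
  rw [h1] at h0
  have h2 : gG 18 = wordP gG [8, 6, 14, 16, 14, 8, 10, 6, 8, 4, 6, 14, 12, 10, 8, 6, 4, 2, 4, 6, 8, 10, 12, 14, 6, 4, 8, 6, 10, 8, 14, 16, 14, 6, 8, 6, 8, 4, 6, 14, 16, 10, 8, 6, 14, 12, 10, 8, 6, 2, 4, 2, 4, 2, 6, 8, 10, 12, 14, 6, 8, 10, 16, 14, 6, 4, 8, 6, 2, 4, 6, 14, 16, 8, 6, 14, 12, 10, 8, 6, 2, 4, 2, 4, 2, 6, 8, 10, 12, 14, 6, 8, 16, 14, 6, 4, 2, 16, 14, 6, 2, 4, 2, 4, 2, 6, 14, 16, 10, 8, 4, 6, 14, 16, 8, 4, 6, 14, 10, 8, 6, 4, 2, 4, 6, 8, 10, 14, 6, 4, 8, 16, 14, 6, 4, 8, 10, 12, 10, 8, 4, 6, 2, 4, 2, 4, 2, 6, 4, 8, 10, 12, 24, 24] := by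
    rw [← mul_one (gG 18), ← h0]; group
  rw [h2]
  exact Sgs.wordP_mem_closure gG S _ (fun e he => old_mem S h e (by revert e; decide))

theorem new20_mem : gG 20 ∈ S := by
  have hr : [21, 10, 6, 8, 4, 6, 14, 16, 6, 8, 4, 6, 14, 12, 10, 8, 6, 4, 2, 4, 6, 8, 10, 12, 14, 6, 4, 8, 6, 16, 14, 6, 4, 8, 6, 10, 8, 6, 14, 16, 8, 4, 6, 14, 12, 10, 8, 6, 4, 2, 4, 6, 8, 10, 12, 14, 6, 4, 8, 16, 14, 6, 8, 14, 6, 8, 4, 6, 14, 10, 8, 6, 4, 2, 4, 6, 8, 10, 14, 6, 4, 8, 6, 14, 16, 4, 6, 14, 10, 8, 6, 4, 2, 4, 6, 8, 10, 14, 6, 4, 16, 14, 12, 10, 8, 6, 2, 4, 2, 4, 2, 6, 8, 10, 12, 14] ∈ PC3Fi22y.P.real := by decide +kernel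
  have h0 := (PC3Fi22y.valid.real_sound _ hr).2
  rw [wordP_cons] at h0
  have h1 : gG 21 = (gG 20)⁻¹ := hinv 20 (by decide)
  rw [h1] at h0
  have h2 : gG 20 = wordP gG [10, 6, 8, 4, 6, 14, 16, 6, 8, 4, 6, 14, 12, 10, 8, 6, 4, 2, 4, 6, 8, 10, 12, 14, 6, 4, 8, 6, 16, 14, 6, 4, 8, 6, 10, 8, 6, 14, 16, 8, 4, 6, 14, 12, 10, 8, 6, 4, 2, 4, 6, 8, 10, 12, 14, 6, 4, 8, 16, 14, 6, 8, 14, 6, 8, 4, 6, 14, 10, 8, 6, 4, 2, 4, 6, 8, 10, 14, 6, 4, 8, 6, 14, 16, 4, 6, 14, 10, 8, 6, 4, 2, 4, 6, 8, 10, 14, 6, 4, 16, 14, 12, 10, 8, 6, 2, 4, 2, 4, 2, 6, 8, 10, 12, 14] := by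
    rw [← mul_one (gG 20), ← h0]; group
  rw [h2]
  exact Sgs.wordP_mem_closure gG S _ (fun e he => old_mem S h e (by revert e; decide))

theorem new22_mem : gG 22 ∈ S := by
  have hr : [23, 14, 12, 10, 6, 8, 4, 6, 14, 16, 10, 8, 4, 6, 14, 12, 10, 8, 6, 4, 2, 4, 6, 8, 10, 12, 14, 6, 4, 8, 10, 16, 14, 6, 4, 8, 6, 10, 12, 14, 16, 14, 8, 10, 6, 8, 4, 6, 14, 12, 10, 8, 6, 4, 2, 4, 6, 8, 10, 12, 14, 6, 4, 8, 6, 10, 8, 14, 16, 14, 6, 4, 2, 4, 6, 14, 8, 6, 4, 2, 4, 6, 8, 14, 16, 8, 4, 6, 14, 12, 10, 8, 6, 4, 2, 4, 6, 8, 10, 12, 14, 6, 4, 8, 16, 14, 2, 4, 2, 4, 2, 24] ∈ PC3Fi22y.P.real := by decide +kernel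
  have h0 := (PC3Fi22y.valid.real_sound _ hr).2
  rw [wordP_cons] at h0
  have h1 : gG 23 = (gG 22)⁻¹ := hinv 22 (by decide)
  rw [h1] at h0
  have h2 : gG 22 = wordP gG [14, 12, 10, 6, 8, 4, 6, 14, 16, 10, 8, 4, 6, 14, 12, 10, 8, 6, 4, 2, 4, 6, 8, 10, 12, 14, 6, 4, 8, 10, 16, 14, 6, 4, 8, 6, 10, 12, 14, 16, 14, 8, 10, 6, 8, 4, 6, 14, 12, 10, 8, 6, 4, 2, 4, 6, 8, 10, 12, 14, 6, 4, 8, 6, 10, 8, 14, 16, 14, 6, 4, 2, 4, 6, 14, 8, 6, 4, 2, 4, 6, 8, 14, 16, 8, 4, 6, 14, 12, 10, 8, 6, 4, 2, 4, 6, 8, 10, 12, 14, 6, 4, 8, 16, 14, 2, 4, 2, 4, 2, 24] := by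
    rw [← mul_one (gG 22), ← h0]; group
  rw [h2]
  exact Sgs.wordP_mem_closure gG S _ (fun e he => old_mem S h e (by revert e; decide))

/-- the lifts of the generators of Fi22 and the central letter generate -/
theorem gen_of_old : S = ⊤ := by
  rw [eq_top_iff, ← PC3Fi22y.valid.gen_top, Subgroup.closure_le]
  rintro _ ⟨y, hy, rfl⟩
  have hy : y < 26 := hy
  by_cases h18 : y < 18
  · exact old_mem S h y (Or.inl h18)
  · interval_cases y
    · exact new18_mem S h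
    · rw [show (19 : ℕ) = PC3Fi22y.P.invR 18 from rfl, hinv 18 (by decide)]
      exact inv_mem (new18_mem S h)
    · exact new20_mem S h
    · rw [show (21 : ℕ) = PC3Fi22y.P.invR 20 from rfl, hinv 20 (by decide)]
      exact inv_mem (new20_mem S h)
    · exact new22_mem S h
    · rw [show (23 : ℕ) = PC3Fi22y.P.invR 22 from rfl, hinv 22 (by decide)]
      exact inv_mem (new22_mem S h)
    · exact old_mem S h 24 (Or.inr (Or.inl rfl))
    · exact old_mem S h 25 (Or.inr (Or.inr rfl))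

end Gen

/-- the letters of `C3O73` as letters of `C3Fi22y` -/
def embK (l : ℕ) : ℕ := [18, 19, 20, 21, 22, 23, 2, 3, 24, 25].getD l 26

theorem real_subK : ∀ L ∈ PC3O73.P.real, L.map embK ∈ PC3Fi22y.P.real := by decide +kernel

theorem embK_emb : LetterEmb PC3O73.P PC3Fi22y.P embK where
  hP := PC3O73.valid
  hQ := PC3Fi22y.valid
  hlt := by
    intro l hl
    have hl : l < 10 := hl
    show embK l < 26
    interval_cases l <;> decide
  hinv := by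
    intro l hl
    have hl : l < 10 := hl
    interval_cases l <;> rfl
  hrel := by
    intro L hL
    exact (PC3Fi22y.valid.real_sound _ (real_subK L hL)).2

/-- the homomorphism from `C3O73` -/
noncomputable def f : PC3O73.P.Grp →* G := embK_emb.hom

theorem f_gR (l : ℕ) (hl : l < 10) : f (PC3O73.P.gR l) = gG (embK l) := embK_emb.hom_gR l hl

/-- the words generating `C3O73` -/
def subsK : List (List ℕ) := [[0], [2], [4], [6], [8]]

theorem subG_K_top : Inst.subG PC3O73.P subsK = ⊤ := by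
  rw [eq_top_iff, ← PC3O73.valid.gen_top, Subgroup.closure_le]
  rintro _ ⟨l, hl, rfl⟩
  have hl : l < 10 := hl
  interval_cases l
  · exact Subgroup.subset_closure ⟨[0], by decide, by rw [wordP_cons, wordP_nil, mul_one]⟩
  · have h : PC3O73.P.gR 1 = (PC3O73.P.gR 0)⁻¹ := (PC3O73.valid.invR_sound 0 (by decide)).2
    rw [h]
    exact Subgroup.inv_mem _ (Subgroup.subset_closure ⟨[0], by decide, by rw [wordP_cons, wordP_nil, mul_one]⟩)
  · exact Subgroup.subset_closure ⟨[2], by decide, by rw [wordP_cons, wordP_nil, mul_one]⟩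
  · have h : PC3O73.P.gR 3 = (PC3O73.P.gR 2)⁻¹ := (PC3O73.valid.invR_sound 2 (by decide)).2
    rw [h]
    exact Subgroup.inv_mem _ (Subgroup.subset_closure ⟨[2], by decide, by rw [wordP_cons, wordP_nil, mul_one]⟩)
  · exact Subgroup.subset_closure ⟨[4], by decide, by rw [wordP_cons, wordP_nil, mul_one]⟩
  · have h : PC3O73.P.gR 5 = (PC3O73.P.gR 4)⁻¹ := (PC3O73.valid.invR_sound 4 (by decide)).2
    rw [h]
    exact Subgroup.inv_mem _ (Subgroup.subset_closure ⟨[4], by decide, by rw [wordP_cons, wordP_nil, mul_one]⟩)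
  · exact Subgroup.subset_closure ⟨[6], by decide, by rw [wordP_cons, wordP_nil, mul_one]⟩
  · have h : PC3O73.P.gR 7 = (PC3O73.P.gR 6)⁻¹ := (PC3O73.valid.invR_sound 6 (by decide)).2
    rw [h]
    exact Subgroup.inv_mem _ (Subgroup.subset_closure ⟨[6], by decide, by rw [wordP_cons, wordP_nil, mul_one]⟩)
  · exact Subgroup.subset_closure ⟨[8], by decide, by rw [wordP_cons, wordP_nil, mul_one]⟩
  · have h : PC3O73.P.gR 9 = (PC3O73.P.gR 8)⁻¹ := (PC3O73.valid.invR_sound 8 (by decide)).2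
    rw [h]
    exact Subgroup.inv_mem _ (Subgroup.subset_closure ⟨[8], by decide, by rw [wordP_cons, wordP_nil, mul_one]⟩)

theorem range_le : f.range ≤ Inst.subG PC3Fi22y.P C3Fi22yB.subs := by
  rw [f, MonoidHom.range_eq_map, ← subG_K_top, embK_emb.map_subG subsK (by decide)]
  exact subG_mono PC3Fi22y.P (by decide)

theorem phi_z_ne_one : C3Fi22yR.prep.phi (gG 24) ≠ 1 := by
  intro h
  have h1 := C3Fi22yR.prep.phi_gR 24 (by decide) ⟨0, by decide⟩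
  rw [h] at h1
  have h3 : C3Fi22yR.T.tbl 0 (C3Fi22yR.D.inv 24) ≠ 0 := by decide +kernel
  exact h3 h1.symm

/-- `C3O73` embeds -/
theorem hom_injective : Function.Injective f := by
  have hz : (C3Fi22yR.prep.phi.comp f) C3O73Main.z ≠ 1 := by
    show C3Fi22yR.prep.phi (f (PC3O73.P.gR 8)) ≠ 1
    rw [f_gR 8 (by decide)]
    exact phi_z_ne_one
  have hcomp : Function.Injective (C3Fi22yR.prep.phi.comp f) := by
    apply injective_of_central_simple C3O73Cover.π C3O73Cover.π_surjective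
      (by rw [C3O73Cover.ker_eq]; exact C3O73Main.Z_le_center) O73pMain.simple_aux C3O73Cover.perfect
    · rw [C3O73Cover.ker_eq]
      exact eq_one_of_mem_zpowers_prime (C3Fi22yR.prep.phi.comp f) C3O73Main.z 3 (by norm_num) C3O73Main.z_sq hz
    · exact ⟨C3O73Main.z, hz⟩
  exact Function.Injective.of_comp hcomp

theorem card_subB : Nat.card (Inst.subG PC3Fi22y.P C3Fi22yB.subs) = 13756055040 := by
  obtain ⟨fG, _, hcard⟩ := C3Fi22yCover.order_aux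
  have h := Subgroup.card_mul_index (Inst.subG PC3Fi22y.P C3Fi22yB.subs)
  rw [C3Fi22yB.index_eq, hcard] at h
  have e : (193685254963200 : ℕ) = 13756055040 * 14080 := by norm_num
  rw [e] at h
  exact Nat.eq_of_mul_eq_mul_right (by norm_num) h

theorem range_eq : f.range = Inst.subG PC3Fi22y.P C3Fi22yB.subs := by
  obtain ⟨fG, _, _⟩ := C3Fi22yCover.order_aux
  have := fG
  obtain ⟨fK, _, cK⟩ := C3O73Cover.order_aux
  apply Subgroup.eq_of_le_of_card_ge range_le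
  rw [card_subB, ← Nat.card_congr (MonoidHom.ofInjective hom_injective).toEquiv, cK]

/-- the words generating the subgroup used for the stem extensions -/
def subs : List (List ℕ) := [[2], [4], [6], [8], [10], [12], [14], [16], [24]]

theorem sub_le : Inst.subG PC3Fi22y.P subs ≤ Inst.subG PC3Fi22y.P C3Fi22yB.subs := subG_mono PC3Fi22y.P (by decide)

/-- the subgroup lies in an image of `C3O73` -/
theorem sub_card : Finite (Inst.subG PC3Fi22y.P subs) ∧ Nat.card (Inst.subG PC3Fi22y.P subs) ≤ 13756055040 := by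
  obtain ⟨fG, _, _⟩ := C3Fi22yCover.order_aux
  have := fG
  refine ⟨inferInstance, ?_⟩
  rw [← card_subB]
  exact Subgroup.card_le_of_le sub_le

theorem noStemK (p : ℕ) (hp : p = 3 ∨ p = 5) : NoStemPrime PC3O73.P.Grp p := by
  rcases hp with rfl | rfl
  · exact SC3O73p3Main.noStem
  · obtain ⟨fK, _, cK⟩ := C3O73Cover.order_aux
    have := fK
    apply noStemPrime_of_sq_not_dvd _ 5 (by norm_num)
    rw [cK]
    decide

/-- stem extensions with kernel of order 3 or 5 split over the subgroup -/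
theorem liftsP_sub (p : ℕ) (hp : p = 3 ∨ p = 5) : LiftsP G (Inst.subG PC3Fi22y.P subs) p := by
  have hpp : p.Prime := by rcases hp with rfl | rfl <;> norm_num
  exact liftsP_mono sub_le p
    (liftsP_of_injective f hom_injective _ range_eq p hpp C3O73Cover.perfect (noStemK p hp))

end Cfsg.Agent.Lib.Helper4.C3Fi22ySub
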