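import Mathlib
import Cfsg.Prelude.Def_SporCoxeter

/-! The triple cover of the group G2(3), of order 3·4245696, presented on lifts `c`, `d`, `t` of the generators of `G23p` and the central element `z` of order 3 (generated). -/

namespace Cfsg.Agent.Lib.Helper4

namespace C3G23

/-- the generators -/
inductive Gen
  | c
  | d
  | t
  | z
  deriving DecidableEq

abbrev c : FreeGroup Gen := FreeGroup.of Gen.c
abbrev d : FreeGroup Gen := FreeGroup.of Gen.d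
abbrev t : FreeGroup Gen := FreeGroup.of Gen.t
abbrev z : FreeGroup Gen := FreeGroup.of Gen.z

/-- no Coxeter graph -/
def edges : List (Gen × ℕ × Gen) := []

/-- the relators -/
def extra : List (FreeGroup Gen) := [
  c ^ 7,
  c * c * d * c⁻¹ * d * c * d⁻¹ * c * d * c⁻¹ * d,
  (c * c * c * d) ^ 3,
  c * c * d * d * c * c * d⁻¹ * d⁻¹ * c * c * d⁻¹ * d⁻¹,
  t ^ 3,
  c * c * t * c⁻¹ * c⁻¹ * d⁻¹ * t * d,
  (c * d * t) ^ 3,
  c * d * d * c⁻¹ * t * c * d⁻¹ * d⁻¹ * c⁻¹ * t,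
  c * t * c⁻¹ * t * c⁻¹ * d * t * d⁻¹ * c * t⁻¹,
  c * c * d⁻¹ * c * t * c⁻¹ * d * c⁻¹ * c⁻¹ * d * c * t⁻¹ * c⁻¹ * d⁻¹ * z⁻¹,
  z ^ 3,
  z⁻¹ * c⁻¹ * z * c,
  z⁻¹ * d⁻¹ * z * d,
  z⁻¹ * t⁻¹ * z * t ]

end C3G23

end Cfsg.Agent.Lib.Helper4
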