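import Mathlib
import Cfsg.Prelude.Def_SporCoxeter

/-! The triple cover of the Janko group J3, of order 3·50232960, presented on generators `x`, `y` of L2(16) (satisfying the relators of `L216p`) and an element `t` of order 8 with `t x t⁻¹ = x²` (generated). -/

namespace Cfsg.Agent.Lib.Helper4

namespace C3J3

/-- the generators -/
inductive Gen
  | x
  | y
  | t
  deriving DecidableEq

abbrev x : FreeGroup Gen := FreeGroup.of Gen.x
abbrev y : FreeGroup Gen := FreeGroup.of Gen.y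
abbrev t : FreeGroup Gen := FreeGroup.of Gen.t

/-- no Coxeter graph -/
def edges : List (Gen × ℕ × Gen) := []

/-- the relators -/
def extra : List (FreeGroup Gen) := [
  x ^ 17,
  y ^ 2,
  (x * x * x * y * x⁻¹ * y * x * y) ^ 2,
  ((x ^ 5) * y) ^ 3,
  t ^ 8,
  y * t * y * t * t * y * t * y * t⁻¹ * y * t⁻¹ * t⁻¹ * y * t⁻¹,
  x * y * t * t * y * t * x * t * y * t * t * y * t * x⁻¹ * t,
  x * x * t * t * y * t * t * y * t * x * t * y * t * t * y,
  x * x * y * x * t⁻¹ * t⁻¹ * y * t * x * y * x * y * x⁻¹ * y * t * y,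
  x * x * y * x * t⁻¹ * t⁻¹ * y * t * y * x * y * x⁻¹ * y * x⁻¹ * t * y,
  x * y * x * y * t⁻¹ * y * x * t⁻¹ * y * x * t⁻¹ * y * x * t⁻¹ * y * t⁻¹ ]

end C3J3

end Cfsg.Agent.Lib.Helper4
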