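import Mathlib
import Cfsg.Agent.Lib.Helper4.TCD_L216pA_Fin
import Cfsg.Agent.Lib.Helper4.TCD_L216pU1_Fin
import Cfsg.Agent.Lib.Helper4.TCD_L216pU2_Fin
import Cfsg.Agent.Lib.Helper4.TCD_L216pL_Fin
import Cfsg.Agent.Lib.Helper4.TCD_L216pX17_Fin
import Cfsg.Agent.Lib.Helper4.TCD_L216p17Q
import Cfsg.Agent.Lib.Helper4.TC16

/-! The presented group `L216p` has order 4080 (generated). -/

namespace Cfsg.Agent.Lib.Helper4.L216pMain

open Cfsg.Agent.Lib.Helper4.TC Cfsg.Agent.Lib.Helper4.TCD Cfsg.Agent.Lib.Helper4.TC.Log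

theorem letG_01 : letG PL216p.P [0] = letG PL216p.P [0, 1] := by
  apply le_antisymm
  · apply Subgroup.closure_mono
    rintro s ⟨x, hx, rfl⟩
    simp only [List.mem_cons, List.not_mem_nil, or_false] at hx
    exact ⟨x, by rw [hx]; simp, rfl⟩
  · rw [letG, Subgroup.closure_le]
    rintro s ⟨x, hx, rfl⟩
    simp only [List.mem_cons, List.not_mem_nil, or_false] at hx
    rcases hx with rfl | rfl
    · exact Subgroup.subset_closure ⟨0, by simp, rfl⟩
    · have h : PL216p.P.gR 1 = (PL216p.P.gR 0)⁻¹ := (PL216p.valid.invR_sound 0 (by decide)).2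
      rw [h]
      exact inv_mem (Subgroup.subset_closure ⟨0, by simp, rfl⟩)

/-- the order and the faithful permutation representation -/
theorem order_aux : Finite PL216p.P.Grp ∧ Function.Injective L216pA.inst.phi ∧ Nat.card PL216p.P.Grp = 4080 := by
  have e0 : letG PL216p.P [] = ⊥ := letG_nil _
  have f0 : Finite (letG PL216p.P []) := by rw [e0]; infer_instance
  have c0 : Nat.card (letG PL216p.P []) = 1 := by rw [e0]; exact Subgroup.card_bot
  obtain ⟨f2, c2⟩ := L216pU2.card_le f0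
  rw [← letG_01] at f2 c2
  obtain ⟨f1, c1⟩ := L216pU1.card_le f2
  have htop : letG PL216p.P [0, 1, 2, 3] = ⊤ := letG_all PL216p.P PL216p.valid
  have fG : Finite PL216p.P.Grp := by
    have h := f1
    rw [htop] at h
    exact Finite.of_equiv _ (Subgroup.topEquiv (G := PL216p.P.Grp)).toEquiv
  have cG : Nat.card PL216p.P.Grp ≤ 240 * (17 * 1) := by
    rw [← Subgroup.card_top (G := PL216p.P.Grp), ← htop]
    calc Nat.card (letG PL216p.P [0, 1, 2, 3]) ≤ 240 * Nat.card (letG PL216p.P [0]) := c1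
      _ ≤ 240 * (17 * Nat.card (letG PL216p.P [])) := Nat.mul_le_mul_left _ c2
      _ = 240 * (17 * 1) := by rw [c0]
  have hub : Nat.card PL216p.P.Grp ≤ 4080 := le_trans cG (by decide)
  obtain ⟨hinj, hcard⟩ := L216pA.inst.card_eq L216pL.S rfl rfl L216pL.htab0 L216pL.ok 4080 (by decide)
    L216pL.prod_eq fG hub
  exact ⟨fG, hinj, hcard⟩

theorem horb : OrbCond (Inst.subG PL216p.P L216pA.subs) L216pA.inst.equiv [1, 16] 0 := by
  refine ⟨?_, ?_, trivial⟩
  · intro j j' _ h2 _ h4
    have e1 : j = j' := Fin.ext (by omega)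
    exact ⟨1, one_mem _, by rw [one_smul, e1]⟩
  · intro j j' h1 h2 h3 h4
    exact L216pA.inst.trans_of_orbit_eq 1 17 (by decide) (by decide)
      (L216pA.inst.orbit_eq L216pA.oparTab L216pA.olabTab 1 17 (by decide) (by decide) L216pA.orb_inv_0 L216pA.orb_tree_0)
      j j' (by omega) (by omega) (by omega) (by omega)

theorem simple_aux : IsSimpleGroup PL216p.P.Grp := by
  obtain ⟨fG, hinj, hcard⟩ := order_aux
  apply L216pA.inst.simple2 hinj fG [1, 16] (by decide) horb (by decide) [17]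
  · intro q hq
    simp only [List.mem_cons, List.not_mem_nil, or_false] at hq
    rcases hq with rfl
    · refine ⟨by norm_num, by rw [hcard]; decide, Log.wordP PL216p.P.gR L216pX17.xw, ?_, L216pX17.normalClosure_eq_top⟩
      exact L216pA.inst.pow_eq_one hinj L216pX17.xw (by decide) 17 L216p17Q.h_xq
  · decide +kernel

end Cfsg.Agent.Lib.Helper4.L216pMain
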