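import Cfsg.Agent.Lib.Helper4.TCD_C3J3A_Acc

namespace Cfsg.Agent.Lib.Helper4.TCD.C3J3A

open Cfsg.Agent.Lib.Helper4.TC

set_option maxRecDepth 100000
set_option Elab.async false

theorem c_rel_62 : allRange D.relOK 364370 1603 = true := by decide +kernel
theorem c_rel_63 : allRange D.relOK 365973 1500 = true := by decide +kernel
theorem c_rel_64 : allRange D.relOK 367473 1479 = true := by decide +kernel
theorem c_rel_65 : allRange D.relOK 368952 1568 = true := by decide +kernel
theorem c_rel_66 : allRange D.relOK 370520 1491 = true := by decide +kernel
theorem c_rel_67 : allRange D.relOK 372011 1509 = true := by decide +kernel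
theorem c_rel_68 : allRange D.relOK 373520 1426 = true := by decide +kernel
theorem c_rel_69 : allRange D.relOK 374946 1513 = true := by decide +kernel
theorem c_rel_70 : allRange D.relOK 376459 1462 = true := by decide +kernel
theorem c_rel_71 : allRange D.relOK 377921 1385 = true := by decide +kernel
theorem c_rel_72 : allRange D.relOK 379306 1464 = true := by decide +kernel
theorem c_rel_73 : allRange D.relOK 380770 1529 = true := by decide +kernel
theorem c_rel_74 : allRange D.relOK 382299 1478 = true := by decide +kernel
theorem c_rel_75 : allRange D.relOK 383777 1404 = true := by decide +kernel
theorem c_rel_76 : allRange D.relOK 385181 1419 = true := by decide +kernel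
theorem c_rel_77 : allRange D.relOK 386600 1470 = true := by decide +kernel
theorem c_rel_78 : allRange D.relOK 388070 1402 = true := by decide +kernel
theorem c_rel_79 : allRange D.relOK 389472 1382 = true := by decide +kernel
theorem c_rel_80 : allRange D.relOK 390854 1394 = true := by decide +kernel
theorem c_rel_81 : allRange D.relOK 392248 1390 = true := by decide +kernel
theorem c_rel_82 : allRange D.relOK 393638 1417 = true := by decide +kernel
theorem c_rel_83 : allRange D.relOK 395055 1402 = true := by decide +kernel
theorem c_rel_84 : allRange D.relOK 396457 1419 = true := by decide +kernel
theorem c_rel_85 : allRange D.relOK 397876 1424 = true := by decide +kernel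
theorem c_rel_86 : allRange D.relOK 399300 1360 = true := by decide +kernel
theorem c_rel_87 : allRange D.relOK 400660 1393 = true := by decide +kernel
theorem c_rel_88 : allRange D.relOK 402053 1464 = true := by decide +kernel
theorem c_rel_89 : allRange D.relOK 403517 1343 = true := by decide +kernel
theorem c_rel_90 : allRange D.relOK 404860 1294 = true := by decide +kernel
theorem c_rel_91 : allRange D.relOK 406154 1336 = true := by decide +kernel
theorem c_rel_92 : allRange D.relOK 407490 1336 = true := by decide +kernel
theorem c_rel_93 : allRange D.relOK 408826 1216 = true := by decide +kernel
theorem c_rel_94 : allRange D.relOK 410042 1265 = true := by decide +kernel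
theorem c_rel_95 : allRange D.relOK 411307 1235 = true := by decide +kernel
theorem c_rel_96 : allRange D.relOK 412542 1182 = true := by decide +kernel
theorem c_rel_97 : allRange D.relOK 413724 1266 = true := by decide +kernel
theorem c_rel_98 : allRange D.relOK 414990 1149 = true := by decide +kernel
theorem c_rel_99 : allRange D.relOK 416139 1291 = true := by decide +kernel
theorem c_rel_100 : allRange D.relOK 417430 1187 = true := by decide +kernel
theorem c_rel_101 : allRange D.relOK 418617 1165 = true := by decide +kernel
theorem c_rel_102 : allRange D.relOK 419782 1116 = true := by decide +kernel
theorem c_rel_103 : allRange D.relOK 420898 1181 = true := by decide +kernel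
theorem c_rel_104 : allRange D.relOK 422079 1143 = true := by decide +kernel
theorem c_rel_105 : allRange D.relOK 423222 1181 = true := by decide +kernel
theorem c_rel_106 : allRange D.relOK 424403 1206 = true := by decide +kernel
theorem c_rel_107 : allRange D.relOK 425609 1121 = true := by decide +kernel
theorem c_rel_108 : allRange D.relOK 426730 1031 = true := by decide +kernel
theorem c_rel_109 : allRange D.relOK 427761 1107 = true := by decide +kernel
theorem c_rel_110 : allRange D.relOK 428868 1081 = true := by decide +kernel
theorem c_rel_111 : allRange D.relOK 429949 983 = true := by decide +kernel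
theorem c_rel_112 : allRange D.relOK 430932 1020 = true := by decide +kernel
theorem c_rel_113 : allRange D.relOK 431952 975 = true := by decide +kernel
theorem c_rel_114 : allRange D.relOK 432927 966 = true := by decide +kernel
theorem c_rel_115 : allRange D.relOK 433893 945 = true := by decide +kernel
theorem c_rel_116 : allRange D.relOK 434838 984 = true := by decide +kernel
theorem c_rel_117 : allRange D.relOK 435822 1027 = true := by decide +kernel
theorem c_rel_118 : allRange D.relOK 436849 943 = true := by decide +kernel
theorem c_rel_119 : allRange D.relOK 437792 900 = true := by decide +kernel
theorem c_rel_120 : allRange D.relOK 438692 933 = true := by decide +kernel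
theorem c_rel_121 : allRange D.relOK 439625 910 = true := by decide +kernel
theorem c_rel_122 : allRange D.relOK 440535 898 = true := by decide +kernel
theorem c_rel_123 : allRange D.relOK 441433 857 = true := by decide +kernel
theorem c_rel_124 : allRange D.relOK 442290 784 = true := by decide +kernel
theorem c_rel_125 : allRange D.relOK 443074 828 = true := by decide +kernel
theorem c_rel_126 : allRange D.relOK 443902 782 = true := by decide +kernel
theorem c_rel_127 : allRange D.relOK 444684 799 = true := by decide +kernel
theorem c_rel_128 : allRange D.relOK 445483 749 = true := by decide +kernel
theorem c_rel_129 : allRange D.relOK 446232 774 = true := by decide +kernel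
theorem c_rel_130 : allRange D.relOK 447006 728 = true := by decide +kernel
theorem c_rel_131 : allRange D.relOK 447734 732 = true := by decide +kernel
theorem c_rel_132 : allRange D.relOK 448466 745 = true := by decide +kernel
theorem c_rel_133 : allRange D.relOK 449211 759 = true := by decide +kernel
theorem c_rel_134 : allRange D.relOK 449970 2806 = true := by decide +kernel
theorem c_rel_135 : allRange D.relOK 452776 4648 = true := by decide +kernel
theorem c_rel_136 : allRange D.relOK 457424 4789 = true := by decide +kernel
theorem c_rel_137 : allRange D.relOK 462213 4826 = true := by decide +kernel
theorem c_rel_138 : allRange D.relOK 467039 4888 = true := by decide +kernel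
theorem c_rel_139 : allRange D.relOK 471927 4896 = true := by decide +kernel
theorem c_rel_140 : allRange D.relOK 476823 4897 = true := by decide +kernel
theorem c_rel_141 : allRange D.relOK 481720 4894 = true := by decide +kernel
theorem c_rel_142 : allRange D.relOK 486614 4904 = true := by decide +kernel
theorem c_rel_143 : allRange D.relOK 491518 4889 = true := by decide +kernel
theorem c_rel_144 : allRange D.relOK 496407 4896 = true := by decide +kernel
theorem c_rel_145 : allRange D.relOK 501303 4885 = true := by decide +kernel
theorem c_rel_146 : allRange D.relOK 506188 4897 = true := by decide +kernel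
theorem c_rel_147 : allRange D.relOK 511085 4854 = true := by decide +kernel
theorem c_rel_148 : allRange D.relOK 515939 4841 = true := by decide +kernel
theorem c_rel_149 : allRange D.relOK 520780 4837 = true := by decide +kernel
theorem c_rel_150 : allRange D.relOK 525617 4835 = true := by decide +kernel
theorem c_rel_151 : allRange D.relOK 530452 4825 = true := by decide +kernel
theorem c_rel_152 : allRange D.relOK 535277 4792 = true := by decide +kernel
theorem c_rel_153 : allRange D.relOK 540069 4706 = true := by decide +kernel
theorem c_rel_154 : allRange D.relOK 544775 4536 = true := by decide +kernel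
theorem c_rel_155 : allRange D.relOK 549311 4596 = true := by decide +kernel
theorem c_rel_156 : allRange D.relOK 553907 4635 = true := by decide +kernel
theorem c_rel_157 : allRange D.relOK 558542 2556 = true := by decide +kernel
theorem c_fin_0 : allGrid (T.finOK D) 0 2000 6 = true := by decide +kernel
theorem c_fin_1 : allGrid (T.finOK D) 2000 2000 6 = true := by decide +kernel

end Cfsg.Agent.Lib.Helper4.TCD.C3J3A
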