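import Cfsg.Agent.Lib.Helper4.TCD_C3J3A_Acc

namespace Cfsg.Agent.Lib.Helper4.TCD.C3J3A

open Cfsg.Agent.Lib.Helper4.TC

set_option maxRecDepth 100000
set_option Elab.async false

theorem c_fin_2 : allGrid (T.finOK D) 4000 2000 6 = true := by decide +kernel
theorem c_fin_3 : allGrid (T.finOK D) 6000 2000 6 = true := by decide +kernel
theorem c_fin_4 : allGrid (T.finOK D) 8000 2000 6 = true := by decide +kernel
theorem c_fin_5 : allGrid (T.finOK D) 10000 2000 6 = true := by decide +kernel
theorem c_fin_6 : allGrid (T.finOK D) 12000 2000 6 = true := by decide +kernel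
theorem c_fin_7 : allGrid (T.finOK D) 14000 2000 6 = true := by decide +kernel
theorem c_fin_8 : allGrid (T.finOK D) 16000 2000 6 = true := by decide +kernel
theorem c_fin_9 : allGrid (T.finOK D) 18000 2000 6 = true := by decide +kernel
theorem c_fin_10 : allGrid (T.finOK D) 20000 2000 6 = true := by decide +kernel
theorem c_fin_11 : allGrid (T.finOK D) 22000 2000 6 = true := by decide +kernel
theorem c_fin_12 : allGrid (T.finOK D) 24000 2000 6 = true := by decide +kernel
theorem c_fin_13 : allGrid (T.finOK D) 26000 2000 6 = true := by decide +kernel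
theorem c_fin_14 : allGrid (T.finOK D) 28000 2000 6 = true := by decide +kernel
theorem c_fin_15 : allGrid (T.finOK D) 30000 2000 6 = true := by decide +kernel
theorem c_fin_16 : allGrid (T.finOK D) 32000 2000 6 = true := by decide +kernel
theorem c_fin_17 : allGrid (T.finOK D) 34000 2000 6 = true := by decide +kernel
theorem c_fin_18 : allGrid (T.finOK D) 36000 936 6 = true := by decide +kernel
theorem c_perm_0 : allGrid (T.permOK1 D) 0 5000 6 = true := by decide +kernel
theorem c_perm_1 : allGrid (T.permOK1 D) 5000 5000 6 = true := by decide +kernel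
theorem c_perm_2 : allGrid (T.permOK1 D) 10000 5000 6 = true := by decide +kernel
theorem c_perm_3 : allGrid (T.permOK1 D) 15000 5000 6 = true := by decide +kernel
theorem c_perm_4 : allGrid (T.permOK1 D) 20000 5000 6 = true := by decide +kernel
theorem c_perm_5 : allGrid (T.permOK1 D) 25000 5000 6 = true := by decide +kernel
theorem c_perm_6 : allGrid (T.permOK1 D) 30000 5000 6 = true := by decide +kernel
theorem c_perm_7 : allGrid (T.permOK1 D) 35000 1936 6 = true := by decide +kernel
theorem c_act0_0 : allRange (fun i => Nat.beq (actR0 i) i) 0 3529 = true := by decide +kernel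
theorem c_act0_1 : allRange (fun i => Nat.beq (actR0 i) i) 3529 3529 = true := by decide +kernel
theorem c_act0_2 : allRange (fun i => Nat.beq (actR0 i) i) 7058 3529 = true := by decide +kernel
theorem c_act0_3 : allRange (fun i => Nat.beq (actR0 i) i) 10587 3529 = true := by decide +kernel
theorem c_act0_4 : allRange (fun i => Nat.beq (actR0 i) i) 14116 3529 = true := by decide +kernel
theorem c_act0_5 : allRange (fun i => Nat.beq (actR0 i) i) 17645 3529 = true := by decide +kernel
theorem c_act0_6 : allRange (fun i => Nat.beq (actR0 i) i) 21174 3529 = true := by decide +kernel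
theorem c_act0_7 : allRange (fun i => Nat.beq (actR0 i) i) 24703 3529 = true := by decide +kernel
theorem c_act0_8 : allRange (fun i => Nat.beq (actR0 i) i) 28232 3529 = true := by decide +kernel
theorem c_act0_9 : allRange (fun i => Nat.beq (actR0 i) i) 31761 3529 = true := by decide +kernel
theorem c_act0_10 : allRange (fun i => Nat.beq (actR0 i) i) 35290 1646 = true := by decide +kernel
theorem c_act1_0 : allRange (fun i => Nat.beq (actR1 i) i) 0 30000 = true := by decide +kernel
theorem c_act1_1 : allRange (fun i => Nat.beq (actR1 i) i) 30000 6936 = true := by decide +kernel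
theorem c_act2_0 : allRange (fun i => Nat.beq (actR2 i) i) 0 3750 = true := by decide +kernel
theorem c_act2_1 : allRange (fun i => Nat.beq (actR2 i) i) 3750 3750 = true := by decide +kernel
theorem c_act2_2 : allRange (fun i => Nat.beq (actR2 i) i) 7500 3750 = true := by decide +kernel
theorem c_act2_3 : allRange (fun i => Nat.beq (actR2 i) i) 11250 3750 = true := by decide +kernel
theorem c_act2_4 : allRange (fun i => Nat.beq (actR2 i) i) 15000 3750 = true := by decide +kernel
theorem c_act2_5 : allRange (fun i => Nat.beq (actR2 i) i) 18750 3750 = true := by decide +kernel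
theorem c_act2_6 : allRange (fun i => Nat.beq (actR2 i) i) 22500 3750 = true := by decide +kernel
theorem c_act2_7 : allRange (fun i => Nat.beq (actR2 i) i) 26250 3750 = true := by decide +kernel
theorem c_act2_8 : allRange (fun i => Nat.beq (actR2 i) i) 30000 3750 = true := by decide +kernel
theorem c_act2_9 : allRange (fun i => Nat.beq (actR2 i) i) 33750 3186 = true := by decide +kernel
theorem c_act3_0 : allRange (fun i => Nat.beq (actR3 i) i) 0 3333 = true := by decide +kernel
theorem c_act3_1 : allRange (fun i => Nat.beq (actR3 i) i) 3333 3333 = true := by decide +kernel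
theorem c_act3_2 : allRange (fun i => Nat.beq (actR3 i) i) 6666 3333 = true := by decide +kernel
theorem c_act3_3 : allRange (fun i => Nat.beq (actR3 i) i) 9999 3333 = true := by decide +kernel

end Cfsg.Agent.Lib.Helper4.TCD.C3J3A
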