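import Cfsg.Agent.Lib.Helper4.TCD_C3J3A_Acc

namespace Cfsg.Agent.Lib.Helper4.TCD.C3J3A

open Cfsg.Agent.Lib.Helper4.TC

set_option maxRecDepth 100000
set_option Elab.async false

theorem c_act3_4 : allRange (fun i => Nat.beq (actR3 i) i) 13332 3333 = true := by decide +kernel
theorem c_act3_5 : allRange (fun i => Nat.beq (actR3 i) i) 16665 3333 = true := by decide +kernel
theorem c_act3_6 : allRange (fun i => Nat.beq (actR3 i) i) 19998 3333 = true := by decide +kernel
theorem c_act3_7 : allRange (fun i => Nat.beq (actR3 i) i) 23331 3333 = true := by decide +kernel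
theorem c_act3_8 : allRange (fun i => Nat.beq (actR3 i) i) 26664 3333 = true := by decide +kernel
theorem c_act3_9 : allRange (fun i => Nat.beq (actR3 i) i) 29997 3333 = true := by decide +kernel
theorem c_act3_10 : allRange (fun i => Nat.beq (actR3 i) i) 33330 3333 = true := by decide +kernel
theorem c_act3_11 : allRange (fun i => Nat.beq (actR3 i) i) 36663 273 = true := by decide +kernel
theorem c_act4_0 : allRange (fun i => Nat.beq (actR4 i) i) 0 7500 = true := by decide +kernel
theorem c_act4_1 : allRange (fun i => Nat.beq (actR4 i) i) 7500 7500 = true := by decide +kernel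
theorem c_act4_2 : allRange (fun i => Nat.beq (actR4 i) i) 15000 7500 = true := by decide +kernel
theorem c_act4_3 : allRange (fun i => Nat.beq (actR4 i) i) 22500 7500 = true := by decide +kernel
theorem c_act4_4 : allRange (fun i => Nat.beq (actR4 i) i) 30000 6936 = true := by decide +kernel
theorem c_act5_0 : allRange (fun i => Nat.beq (actR5 i) i) 0 4285 = true := by decide +kernel
theorem c_act5_1 : allRange (fun i => Nat.beq (actR5 i) i) 4285 4285 = true := by decide +kernel
theorem c_act5_2 : allRange (fun i => Nat.beq (actR5 i) i) 8570 4285 = true := by decide +kernel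
theorem c_act5_3 : allRange (fun i => Nat.beq (actR5 i) i) 12855 4285 = true := by decide +kernel
theorem c_act5_4 : allRange (fun i => Nat.beq (actR5 i) i) 17140 4285 = true := by decide +kernel
theorem c_act5_5 : allRange (fun i => Nat.beq (actR5 i) i) 21425 4285 = true := by decide +kernel
theorem c_act5_6 : allRange (fun i => Nat.beq (actR5 i) i) 25710 4285 = true := by decide +kernel
theorem c_act5_7 : allRange (fun i => Nat.beq (actR5 i) i) 29995 4285 = true := by decide +kernel
theorem c_act5_8 : allRange (fun i => Nat.beq (actR5 i) i) 34280 2656 = true := by decide +kernel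
theorem c_act6_0 : allRange (fun i => Nat.beq (actR6 i) i) 0 4000 = true := by decide +kernel
theorem c_act6_1 : allRange (fun i => Nat.beq (actR6 i) i) 4000 4000 = true := by decide +kernel
theorem c_act6_2 : allRange (fun i => Nat.beq (actR6 i) i) 8000 4000 = true := by decide +kernel
theorem c_act6_3 : allRange (fun i => Nat.beq (actR6 i) i) 12000 4000 = true := by decide +kernel
theorem c_act6_4 : allRange (fun i => Nat.beq (actR6 i) i) 16000 4000 = true := by decide +kernel
theorem c_act6_5 : allRange (fun i => Nat.beq (actR6 i) i) 20000 4000 = true := by decide +kernel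
theorem c_act6_6 : allRange (fun i => Nat.beq (actR6 i) i) 24000 4000 = true := by decide +kernel
theorem c_act6_7 : allRange (fun i => Nat.beq (actR6 i) i) 28000 4000 = true := by decide +kernel
theorem c_act6_8 : allRange (fun i => Nat.beq (actR6 i) i) 32000 4000 = true := by decide +kernel
theorem c_act6_9 : allRange (fun i => Nat.beq (actR6 i) i) 36000 936 = true := by decide +kernel
theorem c_act7_0 : allRange (fun i => Nat.beq (actR7 i) i) 0 4000 = true := by decide +kernel
theorem c_act7_1 : allRange (fun i => Nat.beq (actR7 i) i) 4000 4000 = true := by decide +kernel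
theorem c_act7_2 : allRange (fun i => Nat.beq (actR7 i) i) 8000 4000 = true := by decide +kernel
theorem c_act7_3 : allRange (fun i => Nat.beq (actR7 i) i) 12000 4000 = true := by decide +kernel
theorem c_act7_4 : allRange (fun i => Nat.beq (actR7 i) i) 16000 4000 = true := by decide +kernel
theorem c_act7_5 : allRange (fun i => Nat.beq (actR7 i) i) 20000 4000 = true := by decide +kernel
theorem c_act7_6 : allRange (fun i => Nat.beq (actR7 i) i) 24000 4000 = true := by decide +kernel
theorem c_act7_7 : allRange (fun i => Nat.beq (actR7 i) i) 28000 4000 = true := by decide +kernel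
theorem c_act7_8 : allRange (fun i => Nat.beq (actR7 i) i) 32000 4000 = true := by decide +kernel
theorem c_act7_9 : allRange (fun i => Nat.beq (actR7 i) i) 36000 936 = true := by decide +kernel
theorem c_act8_0 : allRange (fun i => Nat.beq (actR8 i) i) 0 3750 = true := by decide +kernel
theorem c_act8_1 : allRange (fun i => Nat.beq (actR8 i) i) 3750 3750 = true := by decide +kernel
theorem c_act8_2 : allRange (fun i => Nat.beq (actR8 i) i) 7500 3750 = true := by decide +kernel
theorem c_act8_3 : allRange (fun i => Nat.beq (actR8 i) i) 11250 3750 = true := by decide +kernel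
theorem c_act8_4 : allRange (fun i => Nat.beq (actR8 i) i) 15000 3750 = true := by decide +kernel
theorem c_act8_5 : allRange (fun i => Nat.beq (actR8 i) i) 18750 3750 = true := by decide +kernel
theorem c_act8_6 : allRange (fun i => Nat.beq (actR8 i) i) 22500 3750 = true := by decide +kernel
theorem c_act8_7 : allRange (fun i => Nat.beq (actR8 i) i) 26250 3750 = true := by decide +kernel
theorem c_act8_8 : allRange (fun i => Nat.beq (actR8 i) i) 30000 3750 = true := by decide +kernel
theorem c_act8_9 : allRange (fun i => Nat.beq (actR8 i) i) 33750 3186 = true := by decide +kernel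
theorem c_act9_0 : allRange (fun i => Nat.beq (actR9 i) i) 0 3750 = true := by decide +kernel

end Cfsg.Agent.Lib.Helper4.TCD.C3J3A
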