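import Cfsg.Agent.Lib.Helper4.TCD_C3J3A_Acc

namespace Cfsg.Agent.Lib.Helper4.TCD.C3J3A

open Cfsg.Agent.Lib.Helper4.TC

set_option maxRecDepth 100000
set_option Elab.async false

theorem c_act9_1 : allRange (fun i => Nat.beq (actR9 i) i) 3750 3750 = true := by decide +kernel
theorem c_act9_2 : allRange (fun i => Nat.beq (actR9 i) i) 7500 3750 = true := by decide +kernel
theorem c_act9_3 : allRange (fun i => Nat.beq (actR9 i) i) 11250 3750 = true := by decide +kernel
theorem c_act9_4 : allRange (fun i => Nat.beq (actR9 i) i) 15000 3750 = true := by decide +kernel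
theorem c_act9_5 : allRange (fun i => Nat.beq (actR9 i) i) 18750 3750 = true := by decide +kernel
theorem c_act9_6 : allRange (fun i => Nat.beq (actR9 i) i) 22500 3750 = true := by decide +kernel
theorem c_act9_7 : allRange (fun i => Nat.beq (actR9 i) i) 26250 3750 = true := by decide +kernel
theorem c_act9_8 : allRange (fun i => Nat.beq (actR9 i) i) 30000 3750 = true := by decide +kernel
theorem c_act9_9 : allRange (fun i => Nat.beq (actR9 i) i) 33750 3186 = true := by decide +kernel
theorem c_act10_0 : allRange (fun i => Nat.beq (actR10 i) i) 0 3750 = true := by decide +kernel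
theorem c_act10_1 : allRange (fun i => Nat.beq (actR10 i) i) 3750 3750 = true := by decide +kernel
theorem c_act10_2 : allRange (fun i => Nat.beq (actR10 i) i) 7500 3750 = true := by decide +kernel
theorem c_act10_3 : allRange (fun i => Nat.beq (actR10 i) i) 11250 3750 = true := by decide +kernel
theorem c_act10_4 : allRange (fun i => Nat.beq (actR10 i) i) 15000 3750 = true := by decide +kernel
theorem c_act10_5 : allRange (fun i => Nat.beq (actR10 i) i) 18750 3750 = true := by decide +kernel
theorem c_act10_6 : allRange (fun i => Nat.beq (actR10 i) i) 22500 3750 = true := by decide +kernel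
theorem c_act10_7 : allRange (fun i => Nat.beq (actR10 i) i) 26250 3750 = true := by decide +kernel
theorem c_act10_8 : allRange (fun i => Nat.beq (actR10 i) i) 30000 3750 = true := by decide +kernel
theorem c_act10_9 : allRange (fun i => Nat.beq (actR10 i) i) 33750 3186 = true := by decide +kernel

end Cfsg.Agent.Lib.Helper4.TCD.C3J3A
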