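import Cfsg.Agent.Lib.Helper4.TCD_C3J3A_C0
import Cfsg.Agent.Lib.Helper4.TCD_C3J3A_C1
import Cfsg.Agent.Lib.Helper4.TCD_C3J3A_C2
import Cfsg.Agent.Lib.Helper4.TCD_C3J3A_C3
import Cfsg.Agent.Lib.Helper4.TCD_C3J3A_C4

namespace Cfsg.Agent.Lib.Helper4.TCD.C3J3A

open Cfsg.Agent.Lib.Helper4.TC

theorem h_rel_p0 : ∀ t, 209669 ≤ t → t < 322599 → D.relOK t = true :=
  (range_glue (range_of_allRange c_rel_0) (range_glue (range_of_allRange c_rel_1) (range_glue (range_of_allRange c_rel_2) (range_glue (range_of_allRange c_rel_3) (range_glue (range_of_allRange c_rel_4) (range_glue (range_of_allRange c_rel_5) (range_glue (range_of_allRange c_rel_6) (range_glue (range_of_allRange c_rel_7) (range_glue (range_of_allRange c_rel_8) (range_glue (range_of_allRange c_rel_9) (range_glue (range_of_allRange c_rel_10) (range_glue (range_of_allRange c_rel_11) (range_glue (range_of_allRange c_rel_12) (range_glue (range_of_allRange c_rel_13) (range_glue (range_of_allRange c_rel_14) (range_glue (range_of_allRange c_rel_15) (range_glue (range_of_allRange c_rel_16) (range_glue (range_of_allRange c_rel_17) (range_glue (range_of_allRange c_rel_18) (range_glue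 (range_of_allRange c_rel_19) (range_glue (range_of_allRange c_rel_20) (range_glue (range_of_allRange c_rel_21) (range_glue (range_of_allRange c_rel_22) (range_glue (range_of_allRange c_rel_23) (range_glue (range_of_allRange c_rel_24) (range_glue (range_of_allRange c_rel_25) (range_glue (range_of_allRange c_rel_26) (range_glue (range_of_allRange c_rel_27) (range_glue (range_of_allRange c_rel_28) (range_glue (range_of_allRange c_rel_29) (range_glue (range_of_allRange c_rel_30) (range_glue (range_of_allRange c_rel_31) (range_glue (range_of_allRange c_rel_32) (range_glue (range_of_allRange c_rel_33) (range_glue (range_of_allRange c_rel_34) (range_glue (range_of_allRange c_rel_35) (range_glue (range_of_allRange c_rel_36) (range_glue (range_of_allRange c_rel_37) (range_glue (range_of_allRange c_rel_38) (range_of_allRange c_rel_39))))))))))))))))))))))))))))))))))))))))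
theorem h_rel_p1 : ∀ t, 322599 ≤ t → t < 390854 → D.relOK t = true :=
  (range_glue (range_of_allRange c_rel_40) (range_glue (range_of_allRange c_rel_41) (range_glue (range_of_allRange c_rel_42) (range_glue (range_of_allRange c_rel_43) (range_glue (range_of_allRange c_rel_44) (range_glue (range_of_allRange c_rel_45) (range_glue (range_of_allRange c_rel_46) (range_glue (range_of_allRange c_rel_47) (range_glue (range_of_allRange c_rel_48) (range_glue (range_of_allRange c_rel_49) (range_glue (range_of_allRange c_rel_50) (range_glue (range_of_allRange c_rel_51) (range_glue (range_of_allRange c_rel_52) (range_glue (range_of_allRange c_rel_53) (range_glue (range_of_allRange c_rel_54) (range_glue (range_of_allRange c_rel_55) (range_glue (range_of_allRange c_rel_56) (range_glue (range_of_allRange c_rel_57) (range_glue (range_of_allRange c_rel_58) (range_glue (range_of_allRange c_rel_59) (range_glue (range_of_allRange c_rel_60) (range_glue (range_of_allRange c_rel_61) (range_glue (range_of_allRange c_rel_62) (range_glue (range_of_allRange c_rel_63) (range_glue (range_of_allRange c_rel_64) (range_glue (range_of_allRange c_rel_65)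 (range_glue (range_of_allRange c_rel_66) (range_glue (range_of_allRange c_rel_67) (range_glue (range_of_allRange c_rel_68) (range_glue (range_of_allRange c_rel_69) (range_glue (range_of_allRange c_rel_70) (range_glue (range_of_allRange c_rel_71) (range_glue (range_of_allRange c_rel_72) (range_glue (range_of_allRange c_rel_73) (range_glue (range_of_allRange c_rel_74) (range_glue (range_of_allRange c_rel_75) (range_glue (range_of_allRange c_rel_76) (range_glue (range_of_allRange c_rel_77) (range_glue (range_of_allRange c_rel_78) (range_of_allRange c_rel_79))))))))))))))))))))))))))))))))))))))))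
theorem h_rel_p2 : ∀ t, 390854 ≤ t → t < 438692 → D.relOK t = true :=
  (range_glue (range_of_allRange c_rel_80) (range_glue (range_of_allRange c_rel_81) (range_glue (range_of_allRange c_rel_82) (range_glue (range_of_allRange c_rel_83) (range_glue (range_of_allRange c_rel_84) (range_glue (range_of_allRange c_rel_85) (range_glue (range_of_allRange c_rel_86) (range_glue (range_of_allRange c_rel_87) (range_glue (range_of_allRange c_rel_88) (range_glue (range_of_allRange c_rel_89) (range_glue (range_of_allRange c_rel_90) (range_glue (range_of_allRange c_rel_91) (range_glue (range_of_allRange c_rel_92) (range_glue (range_of_allRange c_rel_93) (range_glue (range_of_allRange c_rel_94) (range_glue (range_of_allRange c_rel_95) (range_glue (range_of_allRange c_rel_96) (range_glue (range_of_allRange c_rel_97) (range_glue (range_of_allRange c_rel_98) (range_glue (range_of_allRange c_rel_99) (range_glue (range_of_allRange c_rel_100) (range_glue (range_of_allRange c_rel_101) (range_glue (range_of_allRange c_rel_102) (range_glue (range_of_allRange c_rel_103) (range_glue (range_of_allRange c_rel_104) (range_glue (range_of_allRange c_rel_105)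 (range_glue (range_of_allRange c_rel_106) (range_glue (range_of_allRange c_rel_107) (range_glue (range_of_allRange c_rel_108) (range_glue (range_of_allRange c_rel_109) (range_glue (range_of_allRange c_rel_110) (range_glue (range_of_allRange c_rel_111) (range_glue (range_of_allRange c_rel_112) (range_glue (range_of_allRange c_rel_113) (range_glue (range_of_allRange c_rel_114) (range_glue (range_of_allRange c_rel_115) (range_glue (range_of_allRange c_rel_116) (range_glue (range_of_allRange c_rel_117) (range_glue (range_of_allRange c_rel_118) (range_of_allRange c_rel_119))))))))))))))))))))))))))))))))))))))))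
theorem h_rel_p3 : ∀ t, 438692 ≤ t → t < 561098 → D.relOK t = true :=
  (range_glue (range_of_allRange c_rel_120) (range_glue (range_of_allRange c_rel_121) (range_glue (range_of_allRange c_rel_122) (range_glue (range_of_allRange c_rel_123) (range_glue (range_of_allRange c_rel_124) (range_glue (range_of_allRange c_rel_125) (range_glue (range_of_allRange c_rel_126) (range_glue (range_of_allRange c_rel_127) (range_glue (range_of_allRange c_rel_128) (range_glue (range_of_allRange c_rel_129) (range_glue (range_of_allRange c_rel_130) (range_glue (range_of_allRange c_rel_131) (range_glue (range_of_allRange c_rel_132) (range_glue (range_of_allRange c_rel_133) (range_glue (range_of_allRange c_rel_134) (range_glue (range_of_allRange c_rel_135) (range_glue (range_of_allRange c_rel_136) (range_glue (range_of_allRange c_rel_137) (range_glue (range_of_allRange c_rel_138) (range_glue (range_of_allRange c_rel_139) (range_glue (range_of_allRange c_rel_140) (range_glue (range_of_allRange c_rel_141) (range_glue (range_of_allRange c_rel_142) (range_glue (range_of_allRange c_rel_143) (range_glue (range_of_allRange c_rel_144) (range_glue (range_of_allRange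 c_rel_145) (range_glue (range_of_allRange c_rel_146) (range_glue (range_of_allRange c_rel_147) (range_glue (range_of_allRange c_rel_148) (range_glue (range_of_allRange c_rel_149) (range_glue (range_of_allRange c_rel_150) (range_glue (range_of_allRange c_rel_151) (range_glue (range_of_allRange c_rel_152) (range_glue (range_of_allRange c_rel_153) (range_glue (range_of_allRange c_rel_154) (range_glue (range_of_allRange c_rel_155) (range_glue (range_of_allRange c_rel_156) (range_of_allRange c_rel_157))))))))))))))))))))))))))))))))))))))
theorem h_rel : ∀ t, 209669 ≤ t → t < 561098 → D.relOK t = true :=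
  (range_glue h_rel_p0 (range_glue h_rel_p1 (range_glue h_rel_p2 h_rel_p3)))
theorem h_names : ∀ t, 1 ≤ t → t < 209665 → D.nameOK t = true :=
  (range_glue (range_of_allRange c_names_0) (range_glue (range_of_allRange c_names_1) (range_glue (range_of_allRange c_names_2) (range_of_allRange c_names_3))))
theorem h_cls : ∀ t, 1 ≤ t → t < 209665 → T.clsOK D t = true :=
  (range_glue (range_of_allRange c_cls_0) (range_glue (range_of_allRange c_cls_1) (range_glue (range_of_allRange c_cls_2) (range_glue (range_of_allRange c_cls_3) (range_glue (range_of_allRange c_cls_4) (range_glue (range_of_allRange c_cls_5) (range_glue (range_of_allRange c_cls_6) (range_glue (range_of_allRange c_cls_7) (range_glue (range_of_allRange c_cls_8) (range_glue (range_of_allRange c_cls_9) (range_glue (range_of_allRange c_cls_10) (range_glue (range_of_allRange c_cls_11) (range_glue (range_of_allRange c_cls_12) (range_of_allRange c_cls_13))))))))))))))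
theorem h_rep : ∀ t, 0 ≤ t → t < 36936 → T.repOK D t = true :=
  (range_glue (range_of_allRange c_rep_0) (range_of_allRange c_rep_1))
theorem h_fin : ∀ i, 0 ≤ i → i < 36936 → ∀ x, x < 6 → T.finOK D i x = true :=
  (range_glue (range_of_allGrid c_fin_0) (range_glue (range_of_allGrid c_fin_1) (range_glue (range_of_allGrid c_fin_2) (range_glue (range_of_allGrid c_fin_3) (range_glue (range_of_allGrid c_fin_4) (range_glue (range_of_allGrid c_fin_5) (range_glue (range_of_allGrid c_fin_6) (range_glue (range_of_allGrid c_fin_7) (range_glue (range_of_allGrid c_fin_8) (range_glue (range_of_allGrid c_fin_9) (range_glue (range_of_allGrid c_fin_10) (range_glue (range_of_allGrid c_fin_11) (range_glue (range_of_allGrid c_fin_12) (range_glue (range_of_allGrid c_fin_13) (range_glue (range_of_allGrid c_fin_14) (range_glue (range_of_allGrid c_fin_15) (range_glue (range_of_allGrid c_fin_16) (range_glue (range_of_allGrid c_fin_17) (range_of_allGrid c_fin_18)))))))))))))))))))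
theorem h_perm : ∀ i, 0 ≤ i → i < 36936 → ∀ x, x < 6 → T.permOK1 D i x = true :=
  (range_glue (range_of_allGrid c_perm_0) (range_glue (range_of_allGrid c_perm_1) (range_glue (range_of_allGrid c_perm_2) (range_glue (range_of_allGrid c_perm_3) (range_glue (range_of_allGrid c_perm_4) (range_glue (range_of_allGrid c_perm_5) (range_glue (range_of_allGrid c_perm_6) (range_of_allGrid c_perm_7))))))))
theorem h_act0 : ∀ i, 0 ≤ i → i < 36936 → Nat.beq (actR0 i) i = true :=
  (range_glue (range_of_allRange c_act0_0) (range_glue (range_of_allRange c_act0_1) (range_glue (range_of_allRange c_act0_2) (range_glue (range_of_allRange c_act0_3) (range_glue (range_of_allRange c_act0_4) (range_glue (range_of_allRange c_act0_5) (range_glue (range_of_allRange c_act0_6) (range_glue (range_of_allRange c_act0_7) (range_glue (range_of_allRange c_act0_8) (range_glue (range_of_allRange c_act0_9) (range_of_allRange c_act0_10)))))))))))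
theorem h_act1 : ∀ i, 0 ≤ i → i < 36936 → Nat.beq (actR1 i) i = true :=
  (range_glue (range_of_allRange c_act1_0) (range_of_allRange c_act1_1))
theorem h_act2 : ∀ i, 0 ≤ i → i < 36936 → Nat.beq (actR2 i) i = true :=
  (range_glue (range_of_allRange c_act2_0) (range_glue (range_of_allRange c_act2_1) (range_glue (range_of_allRange c_act2_2) (range_glue (range_of_allRange c_act2_3) (range_glue (range_of_allRange c_act2_4) (range_glue (range_of_allRange c_act2_5) (range_glue (range_of_allRange c_act2_6) (range_glue (range_of_allRange c_act2_7) (range_glue (range_of_allRange c_act2_8) (range_of_allRange c_act2_9))))))))))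
theorem h_act3 : ∀ i, 0 ≤ i → i < 36936 → Nat.beq (actR3 i) i = true :=
  (range_glue (range_of_allRange c_act3_0) (range_glue (range_of_allRange c_act3_1) (range_glue (range_of_allRange c_act3_2) (range_glue (range_of_allRange c_act3_3) (range_glue (range_of_allRange c_act3_4) (range_glue (range_of_allRange c_act3_5) (range_glue (range_of_allRange c_act3_6) (range_glue (range_of_allRange c_act3_7) (range_glue (range_of_allRange c_act3_8) (range_glue (range_of_allRange c_act3_9) (range_glue (range_of_allRange c_act3_10) (range_of_allRange c_act3_11))))))))))))
theorem h_act4 : ∀ i, 0 ≤ i → i < 36936 → Nat.beq (actR4 i) i = true :=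
  (range_glue (range_of_allRange c_act4_0) (range_glue (range_of_allRange c_act4_1) (range_glue (range_of_allRange c_act4_2) (range_glue (range_of_allRange c_act4_3) (range_of_allRange c_act4_4)))))
theorem h_act5 : ∀ i, 0 ≤ i → i < 36936 → Nat.beq (actR5 i) i = true :=
  (range_glue (range_of_allRange c_act5_0) (range_glue (range_of_allRange c_act5_1) (range_glue (range_of_allRange c_act5_2) (range_glue (range_of_allRange c_act5_3) (range_glue (range_of_allRange c_act5_4) (range_glue (range_of_allRange c_act5_5) (range_glue (range_of_allRange c_act5_6) (range_glue (range_of_allRange c_act5_7) (range_of_allRange c_act5_8)))))))))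
theorem h_act6 : ∀ i, 0 ≤ i → i < 36936 → Nat.beq (actR6 i) i = true :=
  (range_glue (range_of_allRange c_act6_0) (range_glue (range_of_allRange c_act6_1) (range_glue (range_of_allRange c_act6_2) (range_glue (range_of_allRange c_act6_3) (range_glue (range_of_allRange c_act6_4) (range_glue (range_of_allRange c_act6_5) (range_glue (range_of_allRange c_act6_6) (range_glue (range_of_allRange c_act6_7) (range_glue (range_of_allRange c_act6_8) (range_of_allRange c_act6_9))))))))))
theorem h_act7 : ∀ i, 0 ≤ i → i < 36936 → Nat.beq (actR7 i) i = true :=
  (range_glue (range_of_allRange c_act7_0) (range_glue (range_of_allRange c_act7_1) (range_glue (range_of_allRange c_act7_2) (range_glue (range_of_allRange c_act7_3) (range_glue (range_of_allRange c_act7_4) (range_glue (range_of_allRange c_act7_5) (range_glue (range_of_allRange c_act7_6) (range_glue (range_of_allRange c_act7_7) (range_glue (range_of_allRange c_act7_8) (range_of_allRange c_act7_9))))))))))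
theorem h_act8 : ∀ i, 0 ≤ i → i < 36936 → Nat.beq (actR8 i) i = true :=
  (range_glue (range_of_allRange c_act8_0) (range_glue (range_of_allRange c_act8_1) (range_glue (range_of_allRange c_act8_2) (range_glue (range_of_allRange c_act8_3) (range_glue (range_of_allRange c_act8_4) (range_glue (range_of_allRange c_act8_5) (range_glue (range_of_allRange c_act8_6) (range_glue (range_of_allRange c_act8_7) (range_glue (range_of_allRange c_act8_8) (range_of_allRange c_act8_9))))))))))
theorem h_act9 : ∀ i, 0 ≤ i → i < 36936 → Nat.beq (actR9 i) i = true :=
  (range_glue (range_of_allRange c_act9_0) (range_glue (range_of_allRange c_act9_1) (range_glue (range_of_allRange c_act9_2) (range_glue (range_of_allRange c_act9_3) (range_glue (range_of_allRange c_act9_4) (range_glue (range_of_allRange c_act9_5) (range_glue (range_of_allRange c_act9_6) (range_glue (range_of_allRange c_act9_7) (range_glue (range_of_allRange c_act9_8) (range_of_allRange c_act9_9))))))))))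
theorem h_act10 : ∀ i, 0 ≤ i → i < 36936 → Nat.beq (actR10 i) i = true :=
  (range_glue (range_of_allRange c_act10_0) (range_glue (range_of_allRange c_act10_1) (range_glue (range_of_allRange c_act10_2) (range_glue (range_of_allRange c_act10_3) (range_glue (range_of_allRange c_act10_4) (range_glue (range_of_allRange c_act10_5) (range_glue (range_of_allRange c_act10_6) (range_glue (range_of_allRange c_act10_7) (range_glue (range_of_allRange c_act10_8) (range_of_allRange c_act10_9))))))))))

theorem checked : T.Checked D where
  hz := c_zero
  hn := fun d h0 hd => h_names d h0 hd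
  hb := fun j hj => allBelow_eq_true.1 c_base j hj
  hr := fun t h1 h2 => h_rel t h1 h2
  hfin := fun i x hi hx => h_fin i (Nat.zero_le _) hi x hx
  hperm := fun i x hi hx => h_perm i (Nat.zero_le _) hi x hx
  hlet := fun x hx => allBelow_eq_true.1 c_let x hx
  hcls := fun d h0 hd => h_cls d h0 hd
  hrep := fun i hi => h_rep i (Nat.zero_le _) hi
  hcls0 := c_cls0
  hname0 := c_name0
  hN := by decide
  hM := by decide

theorem h_act : ∀ L ∈ PC3J3.P.real, ∀ i, i < T.N → Tab.relActOK T D L i = true := by
  rw [c_real]
  intro L hL
  simp only [realLit, List.mem_cons, List.not_mem_nil, or_false] at hL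
  rcases hL with rfl | rfl | rfl | rfl | rfl | rfl | rfl | rfl | rfl | rfl | rfl
  · intro i hi
    rw [Tab.relActOK, ← actR0_eq]
    exact h_act0 i (Nat.zero_le _) hi
  · intro i hi
    rw [Tab.relActOK, ← actR1_eq]
    exact h_act1 i (Nat.zero_le _) hi
  · intro i hi
    rw [Tab.relActOK, ← actR2_eq]
    exact h_act2 i (Nat.zero_le _) hi
  · intro i hi
    rw [Tab.relActOK, ← actR3_eq]
    exact h_act3 i (Nat.zero_le _) hi
  · intro i hi
    rw [Tab.relActOK, ← actR4_eq]
    exact h_act4 i (Nat.zero_le _) hi
  · intro i hi
    rw [Tab.relActOK, ← actR5_eq]
    exact h_act5 i (Nat.zero_le _) hi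
  · intro i hi
    rw [Tab.relActOK, ← actR6_eq]
    exact h_act6 i (Nat.zero_le _) hi
  · intro i hi
    rw [Tab.relActOK, ← actR7_eq]
    exact h_act7 i (Nat.zero_le _) hi
  · intro i hi
    rw [Tab.relActOK, ← actR8_eq]
    exact h_act8 i (Nat.zero_le _) hi
  · intro i hi
    rw [Tab.relActOK, ← actR9_eq]
    exact h_act9 i (Nat.zero_le _) hi
  · intro i hi
    rw [Tab.relActOK, ← actR10_eq]
    exact h_act10 i (Nat.zero_le _) hi

theorem inst : Inst PC3J3.P T D subs where
  hP := PC3J3.valid
  hk := rfl
  hinv := rfl
  hsubs := by
    intro u hu x hx
    have h1 := List.all_eq_true.1 c_subs u hu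
    exact ble_succ (List.all_eq_true.1 h1 x hx)
  htab := c_tab
  hC := checked
  hact := h_act
  hsubfix := fun u hu => beq_eq (List.all_eq_true.1 c_subfix u hu)

theorem index_eq : (Inst.subG PC3J3.P subs).index = 36936 := inst.index_eq


end Cfsg.Agent.Lib.Helper4.TCD.C3J3A
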