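import Mathlib
import Cfsg.Agent.Lib.Helper8.J3m
import Cfsg.Agent.Lib.Helper4.C3J3Main
import Cfsg.Agent.Lib.Helper4.TC20

/-!
The presented group `C3J3` is isomorphic to the matrix group `Cfsg.Spor.threeJ3 F ω` (the triple cover of the Janko
group J3) for every field `F` with 4 elements: the generators are sent to explicit words in the 43 generating matrices
(coded as natural numbers, see `Cfsg.Agent.Lib.Helper8.J3D`), the relators are checked on the codes, the image contains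
the two generators of helper8's description of the group, and both groups have order 150698880.
-/

set_option autoImplicit false

namespace Cfsg.Agent.Lib.Helper4.C3J3Iso

open Cfsg.Agent.Lib.Helper4.TC Cfsg.Agent.Lib.Helper4.TCD Cfsg.Agent.Lib.Helper4.TC.Log
open Cfsg.Agent.Lib.Helper8 Cfsg.Agent.Lib.Helper8.F4M Cfsg.Agent.Lib.Helper8.MatN Cfsg.Agent.Lib.Helper8.J3D Cfsg.Spor

/-- the letters of `C3J3` as words in the 43 generating matrices -/
def Wp (l : ℕ) : List ℕ := [[27, 35, 24, 27, 35, 24, 27, 35, 24], [21, 35, 28, 21, 35, 28, 21, 35, 28], [6, 41, 7, 33, 8, 4, 21, 20, 4, 30, 2, 35, 16, 6, 22, 36, 9, 3, 6, 41, 7, 33, 8, 4, 21, 20, 4, 30, 2, 35, 16, 6, 22, 36, 9, 3, 6, 41, 7, 33, 8, 4, 21, 20, 4, 30, 2, 35, 16, 6, 22, 36, 9, 3], [6, 41, 7, 33, 8, 4, 21, 20, 4, 30, 2, 35, 16, 6, 22, 36, 9, 3, 6, 41, 7, 33, 8, 4, 21, 20, 4, 30, 2, 35, 16, 6, 22, 36, 9, 3, 6, 41, 7, 33, 8, 4, 21, 20, 4, 30, 2, 35, 16,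 6, 22, 36, 9, 3], [12, 35, 22, 38, 12, 19, 38, 26, 26, 26, 26, 26, 26, 26, 26, 16, 16, 41, 25, 25, 25, 25, 25, 25, 25, 25, 35, 12, 12, 19, 38, 11, 22, 40, 2, 39, 22, 22, 22, 22, 22, 22, 22, 22, 15, 15, 38, 19, 19, 19, 19, 19, 19, 19, 19, 3, 25, 35, 19, 41, 19, 21, 37, 20, 20, 20, 20, 20, 20, 20, 20, 16, 16, 35, 19, 19, 19, 19, 19, 19, 19, 19], [20, 20, 20, 20, 20, 20, 20, 20, 35, 16, 16, 16, 16, 19, 19, 19, 19, 19, 19, 19, 19, 37, 24, 20, 41, 20, 35, 23, 6, 20, 20, 20, 20, 20, 20, 20, 20, 38, 15, 15, 15, 15, 26, 26, 26, 26, 26, 26, 26, 26, 39, 1, 40, 26, 11, 11, 38, 20, 12, 12, 12, 12, 35, 23, 23, 23, 23, 23, 23, 23, 23, 41, 16, 16, 16, 16, 22, 22, 22, 22, 22, 22, 22, 22, 38, 20, 12, 12, 38, 26, 35, 12, 12]].getD l []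

/-- helper8's first generator as a word of `C3J3` -/
def Aw : List ℕ := [0, 0, 0, 0, 0, 0, 0, 2, 1, 4, 2, 1, 4, 2, 4, 0, 2, 0, 0, 2, 5]

/-- helper8's second generator as a word of `C3J3` -/
def Bw : List ℕ := [1, 2, 0, 2, 0, 2, 0, 0, 0, 0, 2, 4, 2, 4, 0, 2, 1, 1, 5, 2, 5, 0, 2, 5]

/-- the words to be checked: the relators and the inverse pairs -/
def chk : List (List ℕ) := PC3J3.P.real.map (fun L => L.flatMap Wp) ++
  (List.range 6).map (fun l => Wp l ++ Wp (PC3J3.P.invR l))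

theorem chk_one : ∀ w ∈ chk, Nat.beq (prodB w) ID = true := by decide +kernel

theorem chkA : Nat.beq (prodB (Aw.flatMap Wp)) (D0.getG 0) = true := by decide +kernel

theorem chkB : Nat.beq (prodB (Bw.flatMap Wp)) (D0.getG 1) = true := by decide +kernel

theorem Wp_lt : ∀ l < 6, ∀ i ∈ Wp l, i < 43 := by decide

theorem real_lt : ∀ L ∈ PC3J3.P.real, ∀ l ∈ L, l < 6 := by decide +kernel

theorem Aw_lt : ∀ l ∈ Aw, l < 6 := by decide

theorem Bw_lt : ∀ l ∈ Bw, l < 6 := by decide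

theorem invR_lt : ∀ l < 6, PC3J3.P.invR l < 6 := by decide

theorem flat_lt (L : List ℕ) (hL : ∀ l ∈ L, l < 6) : ∀ i ∈ L.flatMap Wp, i < 43 := by
  intro i hi
  obtain ⟨l, hl, hil⟩ := List.mem_flatMap.1 hi
  exact Wp_lt l (hL l hl) i hil

variable {F : Type*} [Field F] [Fintype F] (ω : F)

theorem Q_prodB_append (h2 : (2 : F) = 0) (hω : ω ^ 2 + ω + 1 = 0) (w w' : List ℕ)
    (hw : ∀ i ∈ w, i < 43) (hw' : ∀ i ∈ w', i < 43) :
    Q ω (prodB (w ++ w')) = Q ω (prodB w) * Q ω (prodB w') := by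
  induction w with
  | nil => rw [List.nil_append, prodB_nil, Q_ID, one_mul]
  | cons i w ih =>
    have hi : i < 43 := hw i List.mem_cons_self
    have hw1 : ∀ j ∈ w, j < 43 := fun j hj => hw j (List.mem_cons_of_mem _ hj)
    have hww : ∀ j ∈ w ++ w', j < 43 := by
      intro j hj
      rcases List.mem_append.1 hj with h | h
      · exact hw1 j h
      · exact hw' j h
    rw [List.cons_append, prodB_cons, prodB_cons,
      Q_mulB ω h2 hω (gen_unit ω h2 hω i hi) (word_mem ω h2 hω (w ++ w') hww).1,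
      Q_mulB ω h2 hω (gen_unit ω h2 hω i hi) (word_mem ω h2 hω w hw1).1, ih hw1, mul_assoc]

/-- the images of the letters -/
noncomputable def gφ (l : ℕ) : Matrix.GeneralLinearGroup I9 F := Q ω (prodB (Wp l))

theorem wordP_gφ (h2 : (2 : F) = 0) (hω : ω ^ 2 + ω + 1 = 0) (L : List ℕ) (hL : ∀ l ∈ L, l < 6) :
    wordP (gφ ω) L = Q ω (prodB (L.flatMap Wp)) := by
  induction L with
  | nil => rw [wordP_nil, List.flatMap_nil, prodB_nil, Q_ID]
  | cons x L ih =>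
    have hx : x < 6 := hL x List.mem_cons_self
    have hL' : ∀ l ∈ L, l < 6 := fun l hl => hL l (List.mem_cons_of_mem _ hl)
    rw [wordP_cons, ih hL', List.flatMap_cons,
      Q_prodB_append ω h2 hω _ _ (Wp_lt x hx) (flat_lt L hL'), gφ]

theorem exists_φ (hF : Fintype.card F = 4) (hω : ω ^ 2 + ω + 1 = 0) :
    ∃ φ : PC3J3.P.Grp →* Matrix.GeneralLinearGroup I9 F, ∀ l, l < PC3J3.P.k →
      φ (PC3J3.P.gR l) = gφ ω l := by
  have h2 := two_eq_zero hF
  apply exists_hom_of_letters PC3J3.P PC3J3.valid (gφ ω)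
  · intro l hl
    have hl : l < 6 := hl
    show Q ω (prodB (Wp l)) * Q ω (prodB (Wp (PC3J3.P.invR l))) = 1
    rw [← Q_prodB_append ω h2 hω _ _ (Wp_lt l hl) (Wp_lt _ (invR_lt l hl))]
    have hm : Wp l ++ Wp (PC3J3.P.invR l) ∈ chk :=
      List.mem_append_right _ (List.mem_map.2 ⟨l, List.mem_range.2 hl, rfl⟩)
    rw [(beq_iff _ _).mp (chk_one _ hm), Q_ID]
  · intro L hL
    rw [wordP_gφ ω h2 hω L (real_lt L hL)]
    have hm : L.flatMap Wp ∈ chk := List.mem_append_left _ (List.mem_map.2 ⟨L, hL, rfl⟩)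
    rw [(beq_iff _ _).mp (chk_one _ hm), Q_ID]

/-- the homomorphism to the general linear group -/
noncomputable def φ (hF : Fintype.card F = 4) (hω : ω ^ 2 + ω + 1 = 0) :
    PC3J3.P.Grp →* Matrix.GeneralLinearGroup I9 F := Classical.choose (exists_φ ω hF hω)

theorem φ_gR (hF : Fintype.card F = 4) (hω : ω ^ 2 + ω + 1 = 0) (l : ℕ) (hl : l < 6) :
    φ ω hF hω (PC3J3.P.gR l) = gφ ω l := Classical.choose_spec (exists_φ ω hF hω) l hl

theorem φ_word (hF : Fintype.card F = 4) (hω : ω ^ 2 + ω + 1 = 0) (L : List ℕ) (hL : ∀ l ∈ L, l < 6) :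
    φ ω hF hω (wordP PC3J3.P.gR L) = Q ω (prodB (L.flatMap Wp)) := by
  have h2 := two_eq_zero hF
  rw [← wordP_gφ ω h2 hω L hL]
  clear h2
  induction L with
  | nil => rw [wordP_nil, wordP_nil, map_one]
  | cons x L ih =>
    rw [wordP_cons, wordP_cons, map_mul, φ_gR ω hF hω x (hL x List.mem_cons_self),
      ih fun y hy => hL y (List.mem_cons_of_mem _ hy)]

theorem range_le (hF : Fintype.card F = 4) (hω : ω ^ 2 + ω + 1 = 0) :
    (φ ω hF hω).range ≤ threeJ3 F ω := by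
  have h2 := two_eq_zero hF
  rw [MonoidHom.range_eq_map, ← PC3J3.valid.gen_top, MonoidHom.map_closure, Subgroup.closure_le]
  rintro _ ⟨_, ⟨l, hl, rfl⟩, rfl⟩
  have hl : l < 6 := hl
  rw [SetLike.mem_coe, φ_gR ω hF hω l hl]
  exact (word_mem ω h2 hω (Wp l) (Wp_lt l hl)).2

theorem le_range (hF : Fintype.card F = 4) (hω : ω ^ 2 + ω + 1 = 0) :
    threeJ3 F ω ≤ (φ ω hF hω).range := by
  apply gen2 ω hF hω
  · exact ⟨wordP PC3J3.P.gR Aw, by rw [φ_word ω hF hω Aw Aw_lt, (beq_iff _ _).mp chkA]⟩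
  · exact ⟨wordP PC3J3.P.gR Bw, by rw [φ_word ω hF hω Bw Bw_lt, (beq_iff _ _).mp chkB]⟩

/-- the homomorphism onto the matrix group -/
noncomputable def φK (hF : Fintype.card F = 4) (hω : ω ^ 2 + ω + 1 = 0) : PC3J3.P.Grp →* threeJ3 F ω :=
  (φ ω hF hω).codRestrict (threeJ3 F ω) (fun x => range_le ω hF hω ⟨x, rfl⟩)

theorem φK_surjective (hF : Fintype.card F = 4) (hω : ω ^ 2 + ω + 1 = 0) :
    Function.Surjective (φK ω hF hω) := by
  rintro ⟨k, hk⟩
  obtain ⟨x, hx⟩ := le_range ω hF hω hk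
  exact ⟨x, Subtype.ext hx⟩

theorem φK_bijective (hF : Fintype.card F = 4) (hω : ω ^ 2 + ω + 1 = 0) :
    Function.Bijective (φK ω hF hω) := by
  obtain ⟨fG, _, hcard⟩ := C3J3Main.order_aux
  have := fG
  exact (φK_surjective ω hF hω).bijective_of_nat_card_le (by rw [hcard, card_threeJ3 ω hF hω])

/-- the presented group `C3J3` is the triple cover of the Janko group J3 -/
theorem iso (hF : Fintype.card F = 4) (hω : ω ^ 2 + ω + 1 = 0) :
    Nonempty (PC3J3.P.Grp ≃* threeJ3 F ω) :=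
  ⟨MulEquiv.ofBijective (φK ω hF hω) (φK_bijective ω hF hω)⟩

end Cfsg.Agent.Lib.Helper4.C3J3Iso
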