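import Mathlib
import Cfsg.Agent.Lib.Helper4.L216pMain
import Cfsg.Agent.Lib.Helper4.TCD_SL216pp2A_Fin
import Cfsg.Agent.Lib.Helper4.TCD_SL216pp2W
import Cfsg.Agent.Lib.Helper4.StemLib8
import Cfsg.Agent.Lib.Helper4.L216pSub

/-! `L216p` has no stem extension with kernel of order 2 (generated). -/

namespace Cfsg.Agent.Lib.Helper4.SL216pp2Main

open Cfsg.Agent.Lib.Helper4.TC Cfsg.Agent.Lib.Helper4.TCD Cfsg.Agent.Lib.Helper4.TC.Log Cfsg.Agent.Lib.Helper4.Stem

/-- the description of the auxiliary presentation -/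
def spec : Spec4 :=
  { p := 2
    items := [(0, [], 17),
      (2, [], 15),
      (4, [1, 2], 0),
      (6, [4, 4], 0),
      (8, [0, 0, 0, 4, 1, 4, 0, 4, 0, 0, 0, 4, 1, 4, 0, 4], 0),
      (10, [0, 0, 0, 0, 0, 4, 0, 0, 0, 0, 0, 4, 0, 0, 0, 0, 0, 4], 0)]
    cen := [6, 8, 10]
    R := []
    sub := [0]
    PR := [[0, 0, 0, 0, 0, 0, 0, 0, 0, 0, 0, 0, 0, 0, 0, 0, 0]]
    XR := [] }

/-- the letters of the auxiliary presentation as words of the base group -/
def Wl (l : ℕ) : List ℕ :=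
  [[0], [1], [0, 2], [3, 1], [2], [3], [], [], [], [], [], []].getD l []

theorem checks_eq : checks spec.toSpec2 PL216p.P.invR Wl ++ checksX spec PSL216pp2.P.invR Wl = SL216pp2W.chkAll := by decide +kernel

theorem sub_eq : Subgroup.closure (xw PL216p.P Wl '' {l | l ∈ spec.sub}) = Inst.subG PL216p.P L216pB.subs := by
  rw [closure_xw_eq]
  rfl

set_option maxRecDepth 100000 in
theorem noStem : NoStemPrime PL216p.P.Grp 2 := by
  obtain ⟨fG, hinj, hcard⟩ := L216pMain.order_aux
  have hall : ∀ w ∈ checks spec.toSpec2 PL216p.P.invR Wl ++ checksX spec PSL216pp2.P.invR Wl, wordP PL216p.P.gR w = 1 := by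
    rw [checks_eq]
    intro w hw
    exact L216pA.inst.word_eq_one hinj w (SL216pp2W.hAll_lt w hw) (SL216pp2W.hAll w hw)
  exact noStemPrime_pres4 PL216p.P PL216p.valid PSL216pp2.P PSL216pp2.valid spec (by show Nat.Prime 2; norm_num) Wl
    (by decide +kernel) (by decide +kernel) (fun w hw => hall w (List.mem_append_left _ hw))
    (fun w hw => hall w (List.mem_append_right _ hw)) (by decide +kernel)
    (by rw [sub_eq]; exact L216pSub.liftsP_sub 2 (by norm_num))
    17 (by rw [sub_eq]; exact L216pSub.sub_card)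
    240 (by decide) SL216pp2A.index_eq fG 4080 hcard (by decide)

end Cfsg.Agent.Lib.Helper4.SL216pp2Main
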