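import Mathlib
import Cfsg.Agent.Lib.Helper4.SL216pp2Main
import Cfsg.Agent.Lib.Helper4.L216pMain
import Cfsg.Agent.Lib.Helper4.StemLib2
import Cfsg.Agent.Lib.Helper4.AbelCert
import Cfsg.Agent.Lib.Helper4.StemLib6
import Cfsg.Agent.Lib.Helper4.RelLib

/-!
The presented group `L216p` (the group L2(16)) is perfect and has no stem extension with kernel of prime order.
-/

set_option autoImplicit false

namespace Cfsg.Agent.Lib.Helper4.L216pStem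

open Cfsg Cfsg.Agent.Lib.Helper4.TC Cfsg.Agent.Lib.Helper4.TCD Cfsg.Agent.Lib.Helper4.TC.Log
  Cfsg.Agent.Lib.Helper4.Stem Cfsg.Agent.Lib.Helper4.AbelCert

theorem cert0 : PL216p.P.gR 0 ∈ commutator PL216p.P.Grp := by
  apply mem_commutator_of_perm PL216p.P PL216p.valid 0
    [[1, 1, 1, 1, 1, 1, 1, 1, 1, 1, 1, 1, 1, 1, 1, 1, 1], [3, 3], [3, 3], [3, 3], [3, 3], [3, 3], [3, 3], [3, 3], [3, 3], [3, 3], [0, 0, 0, 2, 1, 2, 0, 2, 0, 0, 0, 2, 1, 2, 0, 2], [0, 0, 0, 2, 1, 2, 0, 2, 0, 0, 0, 2, 1, 2, 0, 2], [0, 0, 0, 2, 1, 2, 0, 2, 0, 0, 0, 2, 1, 2, 0, 2]]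
    (by decide +kernel) (by decide +kernel)
    [0, 0, 0, 0, 0, 0, 0, 0, 0, 0, 0, 0, 0, 0, 0, 0, 0, 0, 0, 0, 0, 0, 0, 2, 2, 2, 2, 2, 2, 2, 2, 2, 2, 2, 2, 2, 2, 2, 2, 2, 2]
    (by decide +kernel) (by decide +kernel)

theorem cert2 : PL216p.P.gR 2 ∈ commutator PL216p.P.Grp := by
  apply mem_commutator_of_perm PL216p.P PL216p.valid 2
    [[1, 1, 1, 1, 1, 1, 1, 1, 1, 1, 1, 1, 1, 1, 1, 1, 1], [1, 1, 1, 1, 1, 1, 1, 1, 1, 1, 1, 1, 1, 1, 1, 1, 1], [1, 1, 1, 1, 1, 1, 1, 1, 1, 1, 1, 1, 1, 1, 1, 1, 1], [3, 3], [3, 3], [3, 3], [3, 3], [3, 3], [3, 3], [3, 3], [0, 0, 0, 2, 1, 2, 0, 2, 0, 0, 0, 2, 1, 2, 0, 2], [0, 0, 0, 0, 0, 2, 0, 0, 0, 0, 0, 2, 0, 0, 0, 0, 0, 2], [0, 0, 0, 0, 0, 2, 0, 0, 0, 0, 0, 2, 0, 0, 0, 0, 0, 2], [0, 0, 0, 0, 0, 2, 0, 0, 0, 0, 0, 2, 0, 0, 0, 0, 0, 2]]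
    (by decide +kernel) (by decide +kernel)
    [0, 0, 0, 0, 0, 0, 0, 0, 0, 0, 0, 0, 0, 0, 0, 0, 0, 0, 0, 0, 0, 0, 0, 0, 0, 0, 0, 0, 0, 0, 0, 0, 0, 0, 0, 0, 0, 0, 0, 0, 0, 0, 0, 0, 0, 0, 0, 0, 0, 0, 0, 0, 0, 2, 2, 2, 2, 2, 2, 2, 2, 2, 2, 2, 2, 2, 2]
    (by decide +kernel) (by decide +kernel)

/-- the generators are products of commutators -/
theorem gR_mem_commutator (l : ℕ) (hl : l < 4) : PL216p.P.gR l ∈ commutator PL216p.P.Grp := by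
  have hinv : ∀ y, y < 4 → PL216p.P.gR (PL216p.P.invR y) = (PL216p.P.gR y)⁻¹ := fun y hy =>
    (PL216p.valid.invR_sound y (by show y ≤ 4; omega)).2
  interval_cases l
  · exact cert0
  · rw [show (1 : ℕ) = PL216p.P.invR 0 from rfl, hinv 0 (by decide)]
    exact Subgroup.inv_mem _ cert0
  · exact cert2
  · rw [show (3 : ℕ) = PL216p.P.invR 2 from rfl, hinv 2 (by decide)]
    exact Subgroup.inv_mem _ cert2

theorem perfect : commutator PL216p.P.Grp = ⊤ :=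
  commutator_eq_top_of_letters PL216p.P PL216p.valid gR_mem_commutator

/-- no stem extension with kernel of prime order -/
theorem noStem : ∀ p, p.Prime → NoStemPrime PL216p.P.Grp p := by
  obtain ⟨fG, _, hcard⟩ := L216pMain.order_aux
  have := fG
  apply noStemPrime_all PL216p.P.Grp [2]
  · intro p hp
    simp only [List.mem_cons, List.not_mem_nil, or_false] at hp
    rcases hp with rfl
    · exact SL216pp2Main.noStem
  · rw [hcard]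
    exact sq_dvd_mem_of_factors 4080 [2, 2, 2, 2, 3, 5, 17] (by norm_num) (by decide) [2]
      (by decide)

end Cfsg.Agent.Lib.Helper4.L216pStem
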