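import Mathlib
import Cfsg.Agent.Lib.Helper4.C3J3Main
import Cfsg.Agent.Lib.Helper4.TCD_C3J3A_Fin
import Cfsg.Agent.Lib.Helper4.TCD_C3J3S
import Cfsg.Agent.Lib.Helper4.L216pStem
import Cfsg.Agent.Lib.Helper4.TC19
import Cfsg.Agent.Lib.Helper4.StemLib6
import Cfsg.Agent.Lib.Helper4.RelLib

/-! The presented group `C3J3` contains the presented group `L216p` as a subgroup of index 36936, and stem extensions with
kernel of prime order split over it. -/

set_option autoImplicit false

namespace Cfsg.Agent.Lib.Helper4.C3J3Sub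

open Cfsg.Agent.Lib.Helper4.TC Cfsg.Agent.Lib.Helper4.TCD Cfsg.Agent.Lib.Helper4.TC.Log Cfsg.Agent.Lib.Helper4.Stem

/-- the letters of `L216p` as words of `C3J3` -/
def Wf (l : ℕ) : List ℕ := [[0], [1], [2], [3]].getD l []

/-- the words of `L216p` for the further generators of the subgroup -/
def Xk : List (List ℕ) := []
/-- the further generators of the subgroup -/
def Xg : List (List ℕ) := []

theorem checks_eq : PL216p.P.real.map (fun L => L.flatMap Wf) ++
    (List.range 4).map (fun l => Wf l ++ Wf (PL216p.P.invR l)) ++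
    (List.zip Xk Xg).map (fun p => p.1.flatMap Wf ++ invWord PC3J3.P.invR p.2) = C3J3S.chkAll := by decide +kernel

theorem word_one (w : List ℕ) (hw : w ∈ C3J3S.chkAll) : wordP PC3J3.P.gR w = 1 := by
  obtain ⟨fG, hinj, hcard⟩ := C3J3Main.order_aux
  exact C3J3A.inst.word_eq_one hinj w (C3J3S.hAll_lt w hw) (C3J3S.hAll w hw)

theorem emb : WordEmb PL216p.P PC3J3.P.gR Wf where
  hP := PL216p.valid
  hinv := by
    intro l hl
    have hl : l < 4 := hl
    apply word_one
    rw [← checks_eq]
    apply List.mem_append_left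
    apply List.mem_append_right
    exact List.mem_map.2 ⟨l, List.mem_range.2 hl, rfl⟩
  hrel := by
    intro L hL
    apply word_one
    rw [← checks_eq]
    apply List.mem_append_left
    apply List.mem_append_left
    exact List.mem_map.2 ⟨L, hL, rfl⟩

/-- the homomorphism from `L216p` -/
noncomputable def f : PL216p.P.Grp →* PC3J3.P.Grp := emb.hom

theorem f_gR (l : ℕ) (hl : l < 4) : f (PL216p.P.gR l) = wordP PC3J3.P.gR (Wf l) := emb.hom_gR l hl

theorem f_word (L : List ℕ) (hL : ∀ x ∈ L, x < 4) : f (wordP PL216p.P.gR L) = wordP PC3J3.P.gR (L.flatMap Wf) := by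
  induction L with
  | nil => simp [wordP_nil]
  | cons x L ih =>
    rw [wordP_cons, map_mul, List.flatMap_cons, wordP_append, f_gR x (hL x List.mem_cons_self),
      ih fun y hy => hL y (List.mem_cons_of_mem _ hy)]

theorem hGinv (L : List ℕ) (hL : ∀ x ∈ L, x < 6) :
    wordP PC3J3.P.gR (invWord PC3J3.P.invR L) = (wordP PC3J3.P.gR L)⁻¹ := by
  apply Chain.wordP_invWord'
  intro y hy
  exact (PC3J3.valid.invR_sound y (le_of_lt (hL y hy))).2

theorem extra_mem : ∀ p ∈ List.zip Xk Xg, wordP PC3J3.P.gR p.2 ∈ f.range := by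
  intro p hp
  have hk : ∀ x ∈ p.1, x < 4 := by
    revert p
    decide
  have hg : ∀ x ∈ p.2, x < 6 := by
    revert p
    decide
  have hm : p.1.flatMap Wf ++ invWord PC3J3.P.invR p.2 ∈ C3J3S.chkAll := by
    rw [← checks_eq]
    apply List.mem_append_right
    exact List.mem_map.2 ⟨p, hp, rfl⟩
  have h1 := word_one _ hm
  rw [wordP_append, hGinv p.2 hg, mul_inv_eq_one] at h1
  exact ⟨wordP PL216p.P.gR p.1, by rw [f_word p.1 hk, h1]⟩

theorem range_eq : f.range = Inst.subG PC3J3.P C3J3A.subs := by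
  have i1 : PL216p.P.gR 1 = (PL216p.P.gR 0)⁻¹ := (PL216p.valid.invR_sound 0 (by decide)).2
  have i3 : PL216p.P.gR 3 = (PL216p.P.gR 2)⁻¹ := (PL216p.valid.invR_sound 2 (by decide)).2
  have m0 : f (PL216p.P.gR 0) ∈ Inst.subG PC3J3.P C3J3A.subs := by
    rw [f_gR 0 (by decide)]
    exact Subgroup.subset_closure ⟨Wf 0, by decide, rfl⟩
  have m2 : f (PL216p.P.gR 2) ∈ Inst.subG PC3J3.P C3J3A.subs := by
    rw [f_gR 2 (by decide)]
    exact Subgroup.subset_closure ⟨Wf 2, by decide, rfl⟩
  rw [MonoidHom.range_eq_map, ← PL216p.valid.gen_top, MonoidHom.map_closure]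
  apply le_antisymm
  · rw [Subgroup.closure_le]
    rintro _ ⟨_, ⟨l, hl, rfl⟩, rfl⟩
    have hl : l < 4 := hl
    rw [SetLike.mem_coe]
    interval_cases l
    · exact m0
    · rw [i1, map_inv]; exact inv_mem m0
    · exact m2
    · rw [i3, map_inv]; exact inv_mem m2
  · unfold Inst.subG
    rw [Subgroup.closure_le]
    rintro _ ⟨u, hu, rfl⟩
    have hu' : u ∈ [Wf 0, Wf 2] ∨ u ∈ Xg := by
      have : C3J3A.subs = [Wf 0, Wf 2] ++ Xg := by decide
      rw [this] at hu
      exact List.mem_append.1 hu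
    rcases hu' with hu' | hu'
    · simp only [List.mem_cons, List.not_mem_nil, or_false] at hu'
      rcases hu' with rfl | rfl
      · exact Subgroup.subset_closure ⟨PL216p.P.gR 0, ⟨0, by decide, rfl⟩, f_gR 0 (by decide)⟩
      · exact Subgroup.subset_closure ⟨PL216p.P.gR 2, ⟨2, by decide, rfl⟩, f_gR 2 (by decide)⟩
    · have hz : ∃ p ∈ List.zip Xk Xg, p.2 = u := by
        revert u
        decide
      obtain ⟨p, hp, rfl⟩ := hz
      have := extra_mem p hp
      rw [MonoidHom.range_eq_map, ← PL216p.valid.gen_top, MonoidHom.map_closure] at this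
      exact this

/-- the subgroup is an image of `L216p` -/
theorem sub_card : Finite (Inst.subG PC3J3.P C3J3A.subs) ∧
    Nat.card (Inst.subG PC3J3.P C3J3A.subs) ≤ 4080 := by
  obtain ⟨fK, _, cK⟩ := L216pMain.order_aux
  rw [← range_eq]
  have := fK
  refine ⟨Finite.of_surjective f.rangeRestrict f.rangeRestrict_surjective, ?_⟩
  rw [← cK]
  exact Nat.card_le_card_of_surjective f.rangeRestrict f.rangeRestrict_surjective

/-- the subgroup has order 4080 -/
theorem sub_card_eq : Nat.card (Inst.subG PC3J3.P C3J3A.subs) = 4080 := by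
  obtain ⟨fG, _, hcard⟩ := C3J3Main.order_aux
  have h := Subgroup.card_mul_index (Inst.subG PC3J3.P C3J3A.subs)
  rw [C3J3A.index_eq, hcard] at h
  have e : (150698880 : ℕ) = 4080 * 36936 := by norm_num
  rw [e] at h
  exact Nat.eq_of_mul_eq_mul_right (by norm_num) h

/-- `L216p` embeds -/
theorem hom_injective : Function.Injective f := by
  obtain ⟨fK, _, cK⟩ := L216pMain.order_aux
  have := fK
  have hs : Function.Surjective f.rangeRestrict := f.rangeRestrict_surjective
  have hc : Nat.card PL216p.P.Grp ≤ Nat.card f.range := by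
    rw [range_eq, sub_card_eq, cK]
  have hb : Function.Bijective f.rangeRestrict := hs.bijective_of_nat_card_le hc
  intro x y hxy
  apply hb.1
  apply Subtype.ext
  exact hxy

/-- stem extensions split over the subgroup -/
theorem liftsP_sub (p : ℕ) (hp : p.Prime) :
    LiftsP PC3J3.P.Grp (Inst.subG PC3J3.P C3J3A.subs) p :=
  liftsP_of_injective f hom_injective _ range_eq p hp L216pStem.perfect (L216pStem.noStem p hp)

end Cfsg.Agent.Lib.Helper4.C3J3Sub
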