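import Cfsg.Agent.Lib.Helper4.TCD_SC3J3p2A_Acc

namespace Cfsg.Agent.Lib.Helper4.TCD.SC3J3p2A

open Cfsg.Agent.Lib.Helper4.TC

set_option maxRecDepth 100000
set_option Elab.async false

theorem c_rel_83 : allRange D.relOK 346103 3336 = true := by decide +kernel
theorem c_rel_84 : allRange D.relOK 349439 3387 = true := by decide +kernel
theorem c_rel_85 : allRange D.relOK 352826 3281 = true := by decide +kernel
theorem c_rel_86 : allRange D.relOK 356107 2278 = true := by decide +kernel
theorem c_rel_87 : allRange D.relOK 358385 1720 = true := by decide +kernel
theorem c_rel_88 : allRange D.relOK 360105 1682 = true := by decide +kernel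
theorem c_rel_89 : allRange D.relOK 361787 1759 = true := by decide +kernel
theorem c_rel_90 : allRange D.relOK 363546 1686 = true := by decide +kernel
theorem c_rel_91 : allRange D.relOK 365232 1797 = true := by decide +kernel
theorem c_rel_92 : allRange D.relOK 367029 1716 = true := by decide +kernel
theorem c_rel_93 : allRange D.relOK 368745 1817 = true := by decide +kernel
theorem c_rel_94 : allRange D.relOK 370562 1804 = true := by decide +kernel
theorem c_rel_95 : allRange D.relOK 372366 2669 = true := by decide +kernel
theorem c_rel_96 : allRange D.relOK 375035 2477 = true := by decide +kernel
theorem c_rel_97 : allRange D.relOK 377512 2356 = true := by decide +kernel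
theorem c_rel_98 : allRange D.relOK 379868 2219 = true := by decide +kernel
theorem c_rel_99 : allRange D.relOK 382087 2039 = true := by decide +kernel
theorem c_rel_100 : allRange D.relOK 384126 2294 = true := by decide +kernel
theorem c_rel_101 : allRange D.relOK 386420 1989 = true := by decide +kernel
theorem c_rel_102 : allRange D.relOK 388409 2179 = true := by decide +kernel
theorem c_rel_103 : allRange D.relOK 390588 2405 = true := by decide +kernel
theorem c_rel_104 : allRange D.relOK 392993 2415 = true := by decide +kernel
theorem c_rel_105 : allRange D.relOK 395408 2321 = true := by decide +kernel
theorem c_rel_106 : allRange D.relOK 397729 2368 = true := by decide +kernel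
theorem c_rel_107 : allRange D.relOK 400097 2055 = true := by decide +kernel
theorem c_rel_108 : allRange D.relOK 402152 2003 = true := by decide +kernel
theorem c_rel_109 : allRange D.relOK 404155 2276 = true := by decide +kernel
theorem c_rel_110 : allRange D.relOK 406431 2147 = true := by decide +kernel
theorem c_rel_111 : allRange D.relOK 408578 2205 = true := by decide +kernel
theorem c_rel_112 : allRange D.relOK 410783 2123 = true := by decide +kernel
theorem c_rel_113 : allRange D.relOK 412906 2069 = true := by decide +kernel
theorem c_rel_114 : allRange D.relOK 414975 2082 = true := by decide +kernel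
theorem c_rel_115 : allRange D.relOK 417057 2186 = true := by decide +kernel
theorem c_rel_116 : allRange D.relOK 419243 2041 = true := by decide +kernel
theorem c_rel_117 : allRange D.relOK 421284 2137 = true := by decide +kernel
theorem c_rel_118 : allRange D.relOK 423421 2272 = true := by decide +kernel
theorem c_rel_119 : allRange D.relOK 425693 2111 = true := by decide +kernel
theorem c_rel_120 : allRange D.relOK 427804 2079 = true := by decide +kernel
theorem c_rel_121 : allRange D.relOK 429883 2102 = true := by decide +kernel
theorem c_rel_122 : allRange D.relOK 431985 2066 = true := by decide +kernel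
theorem c_rel_123 : allRange D.relOK 434051 2166 = true := by decide +kernel
theorem c_rel_124 : allRange D.relOK 436217 2124 = true := by decide +kernel
theorem c_rel_125 : allRange D.relOK 438341 2102 = true := by decide +kernel
theorem c_rel_126 : allRange D.relOK 440443 2121 = true := by decide +kernel
theorem c_rel_127 : allRange D.relOK 442564 2131 = true := by decide +kernel
theorem c_rel_128 : allRange D.relOK 444695 2058 = true := by decide +kernel
theorem c_rel_129 : allRange D.relOK 446753 1962 = true := by decide +kernel
theorem c_rel_130 : allRange D.relOK 448715 2078 = true := by decide +kernel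
theorem c_rel_131 : allRange D.relOK 450793 2042 = true := by decide +kernel
theorem c_rel_132 : allRange D.relOK 452835 2174 = true := by decide +kernel
theorem c_rel_133 : allRange D.relOK 455009 2109 = true := by decide +kernel
theorem c_rel_134 : allRange D.relOK 457118 2001 = true := by decide +kernel
theorem c_rel_135 : allRange D.relOK 459119 2047 = true := by decide +kernel
theorem c_rel_136 : allRange D.relOK 461166 2085 = true := by decide +kernel
theorem c_rel_137 : allRange D.relOK 463251 2023 = true := by decide +kernel
theorem c_rel_138 : allRange D.relOK 465274 1932 = true := by decide +kernel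
theorem c_rel_139 : allRange D.relOK 467206 2015 = true := by decide +kernel
theorem c_rel_140 : allRange D.relOK 469221 1904 = true := by decide +kernel
theorem c_rel_141 : allRange D.relOK 471125 1923 = true := by decide +kernel
theorem c_rel_142 : allRange D.relOK 473048 2028 = true := by decide +kernel
theorem c_rel_143 : allRange D.relOK 475076 1988 = true := by decide +kernel
theorem c_rel_144 : allRange D.relOK 477064 1896 = true := by decide +kernel
theorem c_rel_145 : allRange D.relOK 478960 1878 = true := by decide +kernel
theorem c_rel_146 : allRange D.relOK 480838 1943 = true := by decide +kernel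
theorem c_rel_147 : allRange D.relOK 482781 1851 = true := by decide +kernel
theorem c_rel_148 : allRange D.relOK 484632 1921 = true := by decide +kernel
theorem c_rel_149 : allRange D.relOK 486553 1896 = true := by decide +kernel
theorem c_rel_150 : allRange D.relOK 488449 1849 = true := by decide +kernel
theorem c_rel_151 : allRange D.relOK 490298 1907 = true := by decide +kernel
theorem c_rel_152 : allRange D.relOK 492205 1865 = true := by decide +kernel
theorem c_rel_153 : allRange D.relOK 494070 1885 = true := by decide +kernel
theorem c_rel_154 : allRange D.relOK 495955 1868 = true := by decide +kernel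
theorem c_rel_155 : allRange D.relOK 497823 1838 = true := by decide +kernel
theorem c_rel_156 : allRange D.relOK 499661 1807 = true := by decide +kernel
theorem c_rel_157 : allRange D.relOK 501468 1810 = true := by decide +kernel
theorem c_rel_158 : allRange D.relOK 503278 1855 = true := by decide +kernel
theorem c_rel_159 : allRange D.relOK 505133 1787 = true := by decide +kernel
theorem c_rel_160 : allRange D.relOK 506920 1775 = true := by decide +kernel
theorem c_rel_161 : allRange D.relOK 508695 1712 = true := by decide +kernel
theorem c_rel_162 : allRange D.relOK 510407 1746 = true := by decide +kernel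
theorem c_rel_163 : allRange D.relOK 512153 1728 = true := by decide +kernel
theorem c_rel_164 : allRange D.relOK 513881 1746 = true := by decide +kernel
theorem c_rel_165 : allRange D.relOK 515627 1712 = true := by decide +kernel
theorem c_rel_166 : allRange D.relOK 517339 1739 = true := by decide +kernel
theorem c_rel_167 : allRange D.relOK 519078 1693 = true := by decide +kernel
theorem c_rel_168 : allRange D.relOK 520771 1720 = true := by decide +kernel
theorem c_rel_169 : allRange D.relOK 522491 1677 = true := by decide +kernel
theorem c_rel_170 : allRange D.relOK 524168 1660 = true := by decide +kernel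
theorem c_rel_171 : allRange D.relOK 525828 1681 = true := by decide +kernel
theorem c_rel_172 : allRange D.relOK 527509 1692 = true := by decide +kernel
theorem c_rel_173 : allRange D.relOK 529201 3337 = true := by decide +kernel
theorem c_rel_174 : allRange D.relOK 532538 4938 = true := by decide +kernel
theorem c_rel_175 : allRange D.relOK 537476 4854 = true := by decide +kernel
theorem c_rel_176 : allRange D.relOK 542330 4851 = true := by decide +kernel
theorem c_rel_177 : allRange D.relOK 547181 4844 = true := by decide +kernel
theorem c_rel_178 : allRange D.relOK 552025 4882 = true := by decide +kernel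
theorem c_rel_179 : allRange D.relOK 556907 4819 = true := by decide +kernel
theorem c_rel_180 : allRange D.relOK 561726 4704 = true := by decide +kernel
theorem c_rel_181 : allRange D.relOK 566430 4817 = true := by decide +kernel

end Cfsg.Agent.Lib.Helper4.TCD.SC3J3p2A
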