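import Cfsg.Agent.Lib.Helper4.TCD_SC3J3p2A_Acc

namespace Cfsg.Agent.Lib.Helper4.TCD.SC3J3p2A

open Cfsg.Agent.Lib.Helper4.TC

set_option maxRecDepth 100000
set_option Elab.async false

theorem c_rel_182 : allRange D.relOK 571247 4801 = true := by decide +kernel
theorem c_rel_183 : allRange D.relOK 576048 4832 = true := by decide +kernel
theorem c_rel_184 : allRange D.relOK 580880 4896 = true := by decide +kernel
theorem c_rel_185 : allRange D.relOK 585776 4844 = true := by decide +kernel
theorem c_rel_186 : allRange D.relOK 590620 4790 = true := by decide +kernel
theorem c_rel_187 : allRange D.relOK 595410 4799 = true := by decide +kernel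
theorem c_rel_188 : allRange D.relOK 600209 4834 = true := by decide +kernel
theorem c_rel_189 : allRange D.relOK 605043 4855 = true := by decide +kernel
theorem c_rel_190 : allRange D.relOK 609898 4753 = true := by decide +kernel
theorem c_rel_191 : allRange D.relOK 614651 4760 = true := by decide +kernel
theorem c_rel_192 : allRange D.relOK 619411 4792 = true := by decide +kernel
theorem c_rel_193 : allRange D.relOK 624203 4664 = true := by decide +kernel
theorem c_rel_194 : allRange D.relOK 628867 4629 = true := by decide +kernel
theorem c_rel_195 : allRange D.relOK 633496 4680 = true := by decide +kernel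
theorem c_rel_196 : allRange D.relOK 638176 4745 = true := by decide +kernel
theorem c_rel_197 : allRange D.relOK 642921 4730 = true := by decide +kernel
theorem c_rel_198 : allRange D.relOK 647651 4801 = true := by decide +kernel
theorem c_rel_199 : allRange D.relOK 652452 4831 = true := by decide +kernel
theorem c_rel_200 : allRange D.relOK 657283 4896 = true := by decide +kernel
theorem c_rel_201 : allRange D.relOK 662179 4948 = true := by decide +kernel
theorem c_rel_202 : allRange D.relOK 667127 2788 = true := by decide +kernel
theorem c_fin_0 : allGrid (T.finOK D) 0 545 22 = true := by decide +kernel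
theorem c_fin_1 : allGrid (T.finOK D) 545 545 22 = true := by decide +kernel
theorem c_fin_2 : allGrid (T.finOK D) 1090 545 22 = true := by decide +kernel
theorem c_fin_3 : allGrid (T.finOK D) 1635 545 22 = true := by decide +kernel
theorem c_fin_4 : allGrid (T.finOK D) 2180 545 22 = true := by decide +kernel
theorem c_fin_5 : allGrid (T.finOK D) 2725 545 22 = true := by decide +kernel
theorem c_fin_6 : allGrid (T.finOK D) 3270 545 22 = true := by decide +kernel
theorem c_fin_7 : allGrid (T.finOK D) 3815 545 22 = true := by decide +kernel
theorem c_fin_8 : allGrid (T.finOK D) 4360 545 22 = true := by decide +kernel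
theorem c_fin_9 : allGrid (T.finOK D) 4905 545 22 = true := by decide +kernel
theorem c_fin_10 : allGrid (T.finOK D) 5450 545 22 = true := by decide +kernel
theorem c_fin_11 : allGrid (T.finOK D) 5995 545 22 = true := by decide +kernel
theorem c_fin_12 : allGrid (T.finOK D) 6540 545 22 = true := by decide +kernel
theorem c_fin_13 : allGrid (T.finOK D) 7085 545 22 = true := by decide +kernel
theorem c_fin_14 : allGrid (T.finOK D) 7630 545 22 = true := by decide +kernel
theorem c_fin_15 : allGrid (T.finOK D) 8175 545 22 = true := by decide +kernel
theorem c_fin_16 : allGrid (T.finOK D) 8720 545 22 = true := by decide +kernel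
theorem c_fin_17 : allGrid (T.finOK D) 9265 545 22 = true := by decide +kernel
theorem c_fin_18 : allGrid (T.finOK D) 9810 545 22 = true := by decide +kernel
theorem c_fin_19 : allGrid (T.finOK D) 10355 545 22 = true := by decide +kernel
theorem c_fin_20 : allGrid (T.finOK D) 10900 545 22 = true := by decide +kernel
theorem c_fin_21 : allGrid (T.finOK D) 11445 545 22 = true := by decide +kernel
theorem c_fin_22 : allGrid (T.finOK D) 11990 545 22 = true := by decide +kernel
theorem c_fin_23 : allGrid (T.finOK D) 12535 545 22 = true := by decide +kernel
theorem c_fin_24 : allGrid (T.finOK D) 13080 545 22 = true := by decide +kernel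
theorem c_fin_25 : allGrid (T.finOK D) 13625 545 22 = true := by decide +kernel
theorem c_fin_26 : allGrid (T.finOK D) 14170 545 22 = true := by decide +kernel
theorem c_fin_27 : allGrid (T.finOK D) 14715 545 22 = true := by decide +kernel
theorem c_fin_28 : allGrid (T.finOK D) 15260 545 22 = true := by decide +kernel
theorem c_fin_29 : allGrid (T.finOK D) 15805 545 22 = true := by decide +kernel
theorem c_fin_30 : allGrid (T.finOK D) 16350 545 22 = true := by decide +kernel
theorem c_fin_31 : allGrid (T.finOK D) 16895 545 22 = true := by decide +kernel
theorem c_fin_32 : allGrid (T.finOK D) 17440 545 22 = true := by decide +kernel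
theorem c_fin_33 : allGrid (T.finOK D) 17985 545 22 = true := by decide +kernel
theorem c_fin_34 : allGrid (T.finOK D) 18530 545 22 = true := by decide +kernel
theorem c_fin_35 : allGrid (T.finOK D) 19075 545 22 = true := by decide +kernel
theorem c_fin_36 : allGrid (T.finOK D) 19620 545 22 = true := by decide +kernel
theorem c_fin_37 : allGrid (T.finOK D) 20165 545 22 = true := by decide +kernel
theorem c_fin_38 : allGrid (T.finOK D) 20710 545 22 = true := by decide +kernel

end Cfsg.Agent.Lib.Helper4.TCD.SC3J3p2A
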