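import Cfsg.Agent.Lib.Helper4.TCD_SC3J3p2A_Acc

namespace Cfsg.Agent.Lib.Helper4.TCD.SC3J3p2A

open Cfsg.Agent.Lib.Helper4.TC

set_option maxRecDepth 100000
set_option Elab.async false

theorem c_fin_39 : allGrid (T.finOK D) 21255 545 22 = true := by decide +kernel
theorem c_fin_40 : allGrid (T.finOK D) 21800 545 22 = true := by decide +kernel
theorem c_fin_41 : allGrid (T.finOK D) 22345 545 22 = true := by decide +kernel
theorem c_fin_42 : allGrid (T.finOK D) 22890 545 22 = true := by decide +kernel
theorem c_fin_43 : allGrid (T.finOK D) 23435 545 22 = true := by decide +kernel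
theorem c_fin_44 : allGrid (T.finOK D) 23980 545 22 = true := by decide +kernel
theorem c_fin_45 : allGrid (T.finOK D) 24525 545 22 = true := by decide +kernel
theorem c_fin_46 : allGrid (T.finOK D) 25070 545 22 = true := by decide +kernel
theorem c_fin_47 : allGrid (T.finOK D) 25615 545 22 = true := by decide +kernel
theorem c_fin_48 : allGrid (T.finOK D) 26160 545 22 = true := by decide +kernel
theorem c_fin_49 : allGrid (T.finOK D) 26705 545 22 = true := by decide +kernel
theorem c_fin_50 : allGrid (T.finOK D) 27250 545 22 = true := by decide +kernel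
theorem c_fin_51 : allGrid (T.finOK D) 27795 545 22 = true := by decide +kernel
theorem c_fin_52 : allGrid (T.finOK D) 28340 545 22 = true := by decide +kernel
theorem c_fin_53 : allGrid (T.finOK D) 28885 545 22 = true := by decide +kernel
theorem c_fin_54 : allGrid (T.finOK D) 29430 545 22 = true := by decide +kernel
theorem c_fin_55 : allGrid (T.finOK D) 29975 545 22 = true := by decide +kernel
theorem c_fin_56 : allGrid (T.finOK D) 30520 545 22 = true := by decide +kernel
theorem c_fin_57 : allGrid (T.finOK D) 31065 545 22 = true := by decide +kernel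
theorem c_fin_58 : allGrid (T.finOK D) 31610 545 22 = true := by decide +kernel
theorem c_fin_59 : allGrid (T.finOK D) 32155 545 22 = true := by decide +kernel
theorem c_fin_60 : allGrid (T.finOK D) 32700 545 22 = true := by decide +kernel
theorem c_fin_61 : allGrid (T.finOK D) 33245 545 22 = true := by decide +kernel
theorem c_fin_62 : allGrid (T.finOK D) 33790 545 22 = true := by decide +kernel
theorem c_fin_63 : allGrid (T.finOK D) 34335 545 22 = true := by decide +kernel
theorem c_fin_64 : allGrid (T.finOK D) 34880 545 22 = true := by decide +kernel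
theorem c_fin_65 : allGrid (T.finOK D) 35425 545 22 = true := by decide +kernel
theorem c_fin_66 : allGrid (T.finOK D) 35970 545 22 = true := by decide +kernel
theorem c_fin_67 : allGrid (T.finOK D) 36515 421 22 = true := by decide +kernel
theorem c_perm_0 : allGrid (T.permOK1 D) 0 1363 22 = true := by decide +kernel
theorem c_perm_1 : allGrid (T.permOK1 D) 1363 1363 22 = true := by decide +kernel
theorem c_perm_2 : allGrid (T.permOK1 D) 2726 1363 22 = true := by decide +kernel
theorem c_perm_3 : allGrid (T.permOK1 D) 4089 1363 22 = true := by decide +kernel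
theorem c_perm_4 : allGrid (T.permOK1 D) 5452 1363 22 = true := by decide +kernel
theorem c_perm_5 : allGrid (T.permOK1 D) 6815 1363 22 = true := by decide +kernel
theorem c_perm_6 : allGrid (T.permOK1 D) 8178 1363 22 = true := by decide +kernel
theorem c_perm_7 : allGrid (T.permOK1 D) 9541 1363 22 = true := by decide +kernel
theorem c_perm_8 : allGrid (T.permOK1 D) 10904 1363 22 = true := by decide +kernel
theorem c_perm_9 : allGrid (T.permOK1 D) 12267 1363 22 = true := by decide +kernel
theorem c_perm_10 : allGrid (T.permOK1 D) 13630 1363 22 = true := by decide +kernel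
theorem c_perm_11 : allGrid (T.permOK1 D) 14993 1363 22 = true := by decide +kernel
theorem c_perm_12 : allGrid (T.permOK1 D) 16356 1363 22 = true := by decide +kernel
theorem c_perm_13 : allGrid (T.permOK1 D) 17719 1363 22 = true := by decide +kernel
theorem c_perm_14 : allGrid (T.permOK1 D) 19082 1363 22 = true := by decide +kernel
theorem c_perm_15 : allGrid (T.permOK1 D) 20445 1363 22 = true := by decide +kernel
theorem c_perm_16 : allGrid (T.permOK1 D) 21808 1363 22 = true := by decide +kernel
theorem c_perm_17 : allGrid (T.permOK1 D) 23171 1363 22 = true := by decide +kernel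
theorem c_perm_18 : allGrid (T.permOK1 D) 24534 1363 22 = true := by decide +kernel
theorem c_perm_19 : allGrid (T.permOK1 D) 25897 1363 22 = true := by decide +kernel
theorem c_perm_20 : allGrid (T.permOK1 D) 27260 1363 22 = true := by decide +kernel

end Cfsg.Agent.Lib.Helper4.TCD.SC3J3p2A
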