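import Cfsg.Agent.Lib.Helper4.TCD_SC3J3p2A_Acc

namespace Cfsg.Agent.Lib.Helper4.TCD.SC3J3p2A

open Cfsg.Agent.Lib.Helper4.TC

set_option maxRecDepth 100000
set_option Elab.async false

theorem c_act36_0 : allRange (fun i => Nat.beq (actR36 i) i) 0 15000 = true := by decide +kernel
theorem c_act36_1 : allRange (fun i => Nat.beq (actR36 i) i) 15000 15000 = true := by decide +kernel
theorem c_act36_2 : allRange (fun i => Nat.beq (actR36 i) i) 30000 6936 = true := by decide +kernel
theorem c_act37_0 : allRange (fun i => Nat.beq (actR37 i) i) 0 15000 = true := by decide +kernel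
theorem c_act37_1 : allRange (fun i => Nat.beq (actR37 i) i) 15000 15000 = true := by decide +kernel
theorem c_act37_2 : allRange (fun i => Nat.beq (actR37 i) i) 30000 6936 = true := by decide +kernel
theorem c_act38_0 : allRange (fun i => Nat.beq (actR38 i) i) 0 15000 = true := by decide +kernel
theorem c_act38_1 : allRange (fun i => Nat.beq (actR38 i) i) 15000 15000 = true := by decide +kernel
theorem c_act38_2 : allRange (fun i => Nat.beq (actR38 i) i) 30000 6936 = true := by decide +kernel
theorem c_act39_0 : allRange (fun i => Nat.beq (actR39 i) i) 0 15000 = true := by decide +kernel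
theorem c_act39_1 : allRange (fun i => Nat.beq (actR39 i) i) 15000 15000 = true := by decide +kernel
theorem c_act39_2 : allRange (fun i => Nat.beq (actR39 i) i) 30000 6936 = true := by decide +kernel
theorem c_act40_0 : allRange (fun i => Nat.beq (actR40 i) i) 0 15000 = true := by decide +kernel
theorem c_act40_1 : allRange (fun i => Nat.beq (actR40 i) i) 15000 15000 = true := by decide +kernel
theorem c_act40_2 : allRange (fun i => Nat.beq (actR40 i) i) 30000 6936 = true := by decide +kernel
theorem c_act41_0 : allRange (fun i => Nat.beq (actR41 i) i) 0 15000 = true := by decide +kernel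
theorem c_act41_1 : allRange (fun i => Nat.beq (actR41 i) i) 15000 15000 = true := by decide +kernel
theorem c_act41_2 : allRange (fun i => Nat.beq (actR41 i) i) 30000 6936 = true := by decide +kernel
theorem c_act42_0 : allRange (fun i => Nat.beq (actR42 i) i) 0 15000 = true := by decide +kernel
theorem c_act42_1 : allRange (fun i => Nat.beq (actR42 i) i) 15000 15000 = true := by decide +kernel
theorem c_act42_2 : allRange (fun i => Nat.beq (actR42 i) i) 30000 6936 = true := by decide +kernel
theorem c_act43_0 : allRange (fun i => Nat.beq (actR43 i) i) 0 15000 = true := by decide +kernel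
theorem c_act43_1 : allRange (fun i => Nat.beq (actR43 i) i) 15000 15000 = true := by decide +kernel
theorem c_act43_2 : allRange (fun i => Nat.beq (actR43 i) i) 30000 6936 = true := by decide +kernel
theorem c_act44_0 : allRange (fun i => Nat.beq (actR44 i) i) 0 15000 = true := by decide +kernel
theorem c_act44_1 : allRange (fun i => Nat.beq (actR44 i) i) 15000 15000 = true := by decide +kernel
theorem c_act44_2 : allRange (fun i => Nat.beq (actR44 i) i) 30000 6936 = true := by decide +kernel
theorem c_act45_0 : allRange (fun i => Nat.beq (actR45 i) i) 0 15000 = true := by decide +kernel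
theorem c_act45_1 : allRange (fun i => Nat.beq (actR45 i) i) 15000 15000 = true := by decide +kernel
theorem c_act45_2 : allRange (fun i => Nat.beq (actR45 i) i) 30000 6936 = true := by decide +kernel
theorem c_act46_0 : allRange (fun i => Nat.beq (actR46 i) i) 0 3529 = true := by decide +kernel
theorem c_act46_1 : allRange (fun i => Nat.beq (actR46 i) i) 3529 3529 = true := by decide +kernel
theorem c_act46_2 : allRange (fun i => Nat.beq (actR46 i) i) 7058 3529 = true := by decide +kernel
theorem c_act46_3 : allRange (fun i => Nat.beq (actR46 i) i) 10587 3529 = true := by decide +kernel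
theorem c_act46_4 : allRange (fun i => Nat.beq (actR46 i) i) 14116 3529 = true := by decide +kernel
theorem c_act46_5 : allRange (fun i => Nat.beq (actR46 i) i) 17645 3529 = true := by decide +kernel
theorem c_act46_6 : allRange (fun i => Nat.beq (actR46 i) i) 21174 3529 = true := by decide +kernel
theorem c_act46_7 : allRange (fun i => Nat.beq (actR46 i) i) 24703 3529 = true := by decide +kernel
theorem c_act46_8 : allRange (fun i => Nat.beq (actR46 i) i) 28232 3529 = true := by decide +kernel
theorem c_act46_9 : allRange (fun i => Nat.beq (actR46 i) i) 31761 3529 = true := by decide +kernel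
theorem c_act46_10 : allRange (fun i => Nat.beq (actR46 i) i) 35290 1646 = true := by decide +kernel
theorem c_act47_0 : allRange (fun i => Nat.beq (actR47 i) i) 0 30000 = true := by decide +kernel
theorem c_act47_1 : allRange (fun i => Nat.beq (actR47 i) i) 30000 6936 = true := by decide +kernel
theorem c_act48_0 : allRange (fun i => Nat.beq (actR48 i) i) 0 3750 = true := by decide +kernel
theorem c_act48_1 : allRange (fun i => Nat.beq (actR48 i) i) 3750 3750 = true := by decide +kernel
theorem c_act48_2 : allRange (fun i => Nat.beq (actR48 i) i) 7500 3750 = true := by decide +kernel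
theorem c_act48_3 : allRange (fun i => Nat.beq (actR48 i) i) 11250 3750 = true := by decide +kernel
theorem c_act48_4 : allRange (fun i => Nat.beq (actR48 i) i) 15000 3750 = true := by decide +kernel
theorem c_act48_5 : allRange (fun i => Nat.beq (actR48 i) i) 18750 3750 = true := by decide +kernel
theorem c_act48_6 : allRange (fun i => Nat.beq (actR48 i) i) 22500 3750 = true := by decide +kernel
theorem c_act48_7 : allRange (fun i => Nat.beq (actR48 i) i) 26250 3750 = true := by decide +kernel
theorem c_act48_8 : allRange (fun i => Nat.beq (actR48 i) i) 30000 3750 = true := by decide +kernel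
theorem c_act48_9 : allRange (fun i => Nat.beq (actR48 i) i) 33750 3186 = true := by decide +kernel
theorem c_act49_0 : allRange (fun i => Nat.beq (actR49 i) i) 0 3333 = true := by decide +kernel
theorem c_act49_1 : allRange (fun i => Nat.beq (actR49 i) i) 3333 3333 = true := by decide +kernel
theorem c_act49_2 : allRange (fun i => Nat.beq (actR49 i) i) 6666 3333 = true := by decide +kernel

end Cfsg.Agent.Lib.Helper4.TCD.SC3J3p2A
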