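import Cfsg.Agent.Lib.Helper4.TCD_SC3J3p2A_Acc

namespace Cfsg.Agent.Lib.Helper4.TCD.SC3J3p2A

open Cfsg.Agent.Lib.Helper4.TC

set_option maxRecDepth 100000
set_option Elab.async false

theorem c_act49_3 : allRange (fun i => Nat.beq (actR49 i) i) 9999 3333 = true := by decide +kernel
theorem c_act49_4 : allRange (fun i => Nat.beq (actR49 i) i) 13332 3333 = true := by decide +kernel
theorem c_act49_5 : allRange (fun i => Nat.beq (actR49 i) i) 16665 3333 = true := by decide +kernel
theorem c_act49_6 : allRange (fun i => Nat.beq (actR49 i) i) 19998 3333 = true := by decide +kernel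
theorem c_act49_7 : allRange (fun i => Nat.beq (actR49 i) i) 23331 3333 = true := by decide +kernel
theorem c_act49_8 : allRange (fun i => Nat.beq (actR49 i) i) 26664 3333 = true := by decide +kernel
theorem c_act49_9 : allRange (fun i => Nat.beq (actR49 i) i) 29997 3333 = true := by decide +kernel
theorem c_act49_10 : allRange (fun i => Nat.beq (actR49 i) i) 33330 3333 = true := by decide +kernel
theorem c_act49_11 : allRange (fun i => Nat.beq (actR49 i) i) 36663 273 = true := by decide +kernel
theorem c_act50_0 : allRange (fun i => Nat.beq (actR50 i) i) 0 12000 = true := by decide +kernel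
theorem c_act50_1 : allRange (fun i => Nat.beq (actR50 i) i) 12000 12000 = true := by decide +kernel
theorem c_act50_2 : allRange (fun i => Nat.beq (actR50 i) i) 24000 12000 = true := by decide +kernel
theorem c_act50_3 : allRange (fun i => Nat.beq (actR50 i) i) 36000 936 = true := by decide +kernel
theorem c_act51_0 : allRange (fun i => Nat.beq (actR51 i) i) 0 4285 = true := by decide +kernel
theorem c_act51_1 : allRange (fun i => Nat.beq (actR51 i) i) 4285 4285 = true := by decide +kernel
theorem c_act51_2 : allRange (fun i => Nat.beq (actR51 i) i) 8570 4285 = true := by decide +kernel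
theorem c_act51_3 : allRange (fun i => Nat.beq (actR51 i) i) 12855 4285 = true := by decide +kernel
theorem c_act51_4 : allRange (fun i => Nat.beq (actR51 i) i) 17140 4285 = true := by decide +kernel
theorem c_act51_5 : allRange (fun i => Nat.beq (actR51 i) i) 21425 4285 = true := by decide +kernel
theorem c_act51_6 : allRange (fun i => Nat.beq (actR51 i) i) 25710 4285 = true := by decide +kernel
theorem c_act51_7 : allRange (fun i => Nat.beq (actR51 i) i) 29995 4285 = true := by decide +kernel
theorem c_act51_8 : allRange (fun i => Nat.beq (actR51 i) i) 34280 2656 = true := by decide +kernel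

end Cfsg.Agent.Lib.Helper4.TCD.SC3J3p2A
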