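import Cfsg.Agent.Lib.Helper4.TCD_C3J3A_Acc
import Cfsg.Agent.Lib.Helper4.TC13

namespace Cfsg.Agent.Lib.Helper4.TCD.SC3J3p2W

open Cfsg.Agent.Lib.Helper4.TC Cfsg.Agent.Lib.Helper4.TCD.C3J3A

set_option maxRecDepth 100000
set_option Elab.async false

def chk0 : List Nat := [0, 0, 0, 0, 0, 0, 0, 0, 0, 0, 0, 0, 0, 0, 0, 0, 0]
noncomputable def act0 (i : Nat) : Nat := col1 (col1 (col1 (col1 (col1 (col1 (col1 (col1 (col1 (col1 (col1 (col1 (col1 (col1 (col1 (col1 (col1 (i)))))))))))))))))
theorem act0_eq (i : Nat) : act0 i = Tab.act T D chk0 i := rfl
theorem c0_0 : allRange (fun i => Nat.beq (act0 i) i) 0 3157 = true := by decide +kernel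
theorem c0_1 : allRange (fun i => Nat.beq (act0 i) i) 3157 3157 = true := by decide +kernel
theorem c0_2 : allRange (fun i => Nat.beq (act0 i) i) 6314 3157 = true := by decide +kernel
theorem c0_3 : allRange (fun i => Nat.beq (act0 i) i) 9471 3157 = true := by decide +kernel
theorem c0_4 : allRange (fun i => Nat.beq (act0 i) i) 12628 3157 = true := by decide +kernel
theorem c0_5 : allRange (fun i => Nat.beq (act0 i) i) 15785 3157 = true := by decide +kernel
theorem c0_6 : allRange (fun i => Nat.beq (act0 i) i) 18942 3157 = true := by decide +kernel
theorem c0_7 : allRange (fun i => Nat.beq (act0 i) i) 22099 3157 = true := by decide +kernel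
theorem c0_8 : allRange (fun i => Nat.beq (act0 i) i) 25256 3157 = true := by decide +kernel
theorem c0_9 : allRange (fun i => Nat.beq (act0 i) i) 28413 3157 = true := by decide +kernel
theorem c0_10 : allRange (fun i => Nat.beq (act0 i) i) 31570 3157 = true := by decide +kernel
theorem c0_11 : allRange (fun i => Nat.beq (act0 i) i) 34727 2209 = true := by decide +kernel
theorem h0 : ∀ i, i < T.N → Tab.relActOK T D chk0 i = true := by
  intro i hi
  rw [Tab.relActOK, ← act0_eq]
  exact (range_glue (range_of_allRange c0_0) (range_glue (range_of_allRange c0_1) (range_glue (range_of_allRange c0_2) (range_glue (range_of_allRange c0_3) (range_glue (range_of_allRange c0_4) (range_glue (range_of_allRange c0_5) (range_glue (range_of_allRange c0_6) (range_glue (range_of_allRange c0_7) (range_glue (range_of_allRange c0_8) (range_glue (range_of_allRange c0_9) (range_glue (range_of_allRange c0_10) (range_of_allRange c0_11)))))))))))) i (Nat.zero_le _) hi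

def chk1 : List Nat := [2, 2]
noncomputable def act1 (i : Nat) : Nat := col3 (col3 (i))
theorem act1_eq (i : Nat) : act1 i = Tab.act T D chk1 i := rfl
theorem c1_0 : allRange (fun i => Nat.beq (act1 i) i) 0 15000 = true := by decide +kernel
theorem c1_1 : allRange (fun i => Nat.beq (act1 i) i) 15000 15000 = true := by decide +kernel
theorem c1_2 : allRange (fun i => Nat.beq (act1 i) i) 30000 6936 = true := by decide +kernel
theorem h1 : ∀ i, i < T.N → Tab.relActOK T D chk1 i = true := by
  intro i hi
  rw [Tab.relActOK, ← act1_eq]
  exact (range_glue (range_of_allRange c1_0) (range_glue (range_of_allRange c1_1) (range_of_allRange c1_2))) i (Nat.zero_le _) hi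

def chk2 : List Nat := [4, 2, 0, 4, 2, 0, 4, 2, 0, 4, 2, 0, 4, 2, 0, 4, 2, 0, 4, 2, 0, 4, 2, 0, 4, 2, 0, 4, 2, 0, 4, 2, 0, 4, 2, 0, 4, 2, 0, 4, 2, 0, 4, 2, 0]
noncomputable def act2 (i : Nat) : Nat := col5 (col3 (col1 (col5 (col3 (col1 (col5 (col3 (col1 (col5 (col3 (col1 (col5 (col3 (col1 (col5 (col3 (col1 (col5 (col3 (col1 (col5 (col3 (col1 (col5 (col3 (col1 (col5 (col3 (col1 (col5 (col3 (col1 (col5 (col3 (col1 (col5 (col3 (col1 (col5 (col3 (col1 (col5 (col3 (col1 (i)))))))))))))))))))))))))))))))))))))))))))))
theorem act2_eq (i : Nat) : act2 i = Tab.act T D chk2 i := rfl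
theorem c2_0 : allRange (fun i => Nat.beq (act2 i) i) 0 1276 = true := by decide +kernel
theorem c2_1 : allRange (fun i => Nat.beq (act2 i) i) 1276 1276 = true := by decide +kernel
theorem c2_2 : allRange (fun i => Nat.beq (act2 i) i) 2552 1276 = true := by decide +kernel
theorem c2_3 : allRange (fun i => Nat.beq (act2 i) i) 3828 1276 = true := by decide +kernel
theorem c2_4 : allRange (fun i => Nat.beq (act2 i) i) 5104 1276 = true := by decide +kernel
theorem c2_5 : allRange (fun i => Nat.beq (act2 i) i) 6380 1276 = true := by decide +kernel
theorem c2_6 : allRange (fun i => Nat.beq (act2 i) i) 7656 1276 = true := by decide +kernel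
theorem c2_7 : allRange (fun i => Nat.beq (act2 i) i) 8932 1276 = true := by decide +kernel
theorem c2_8 : allRange (fun i => Nat.beq (act2 i) i) 10208 1276 = true := by decide +kernel
theorem c2_9 : allRange (fun i => Nat.beq (act2 i) i) 11484 1276 = true := by decide +kernel
theorem c2_10 : allRange (fun i => Nat.beq (act2 i) i) 12760 1276 = true := by decide +kernel
theorem c2_11 : allRange (fun i => Nat.beq (act2 i) i) 14036 1276 = true := by decide +kernel
theorem c2_12 : allRange (fun i => Nat.beq (act2 i) i) 15312 1276 = true := by decide +kernel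
theorem c2_13 : allRange (fun i => Nat.beq (act2 i) i) 16588 1276 = true := by decide +kernel
theorem c2_14 : allRange (fun i => Nat.beq (act2 i) i) 17864 1276 = true := by decide +kernel
theorem c2_15 : allRange (fun i => Nat.beq (act2 i) i) 19140 1276 = true := by decide +kernel
theorem c2_16 : allRange (fun i => Nat.beq (act2 i) i) 20416 1276 = true := by decide +kernel
theorem c2_17 : allRange (fun i => Nat.beq (act2 i) i) 21692 1276 = true := by decide +kernel
theorem c2_18 : allRange (fun i => Nat.beq (act2 i) i) 22968 1276 = true := by decide +kernel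
theorem c2_19 : allRange (fun i => Nat.beq (act2 i) i) 24244 1276 = true := by decide +kernel
theorem c2_20 : allRange (fun i => Nat.beq (act2 i) i) 25520 1276 = true := by decide +kernel
theorem c2_21 : allRange (fun i => Nat.beq (act2 i) i) 26796 1276 = true := by decide +kernel
theorem c2_22 : allRange (fun i => Nat.beq (act2 i) i) 28072 1276 = true := by decide +kernel
theorem c2_23 : allRange (fun i => Nat.beq (act2 i) i) 29348 1276 = true := by decide +kernel
theorem c2_24 : allRange (fun i => Nat.beq (act2 i) i) 30624 1276 = true := by decide +kernel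
theorem c2_25 : allRange (fun i => Nat.beq (act2 i) i) 31900 1276 = true := by decide +kernel
theorem c2_26 : allRange (fun i => Nat.beq (act2 i) i) 33176 1276 = true := by decide +kernel
theorem c2_27 : allRange (fun i => Nat.beq (act2 i) i) 34452 1276 = true := by decide +kernel
theorem c2_28 : allRange (fun i => Nat.beq (act2 i) i) 35728 1208 = true := by decide +kernel
theorem h2 : ∀ i, i < T.N → Tab.relActOK T D chk2 i = true := by
  intro i hi
  rw [Tab.relActOK, ← act2_eq]
  exact (range_glue (range_of_allRange c2_0) (range_glue (range_of_allRange c2_1) (range_glue (range_of_allRange c2_2) (range_glue (range_of_allRange c2_3) (range_glue (range_of_allRange c2_4) (range_glue (range_of_allRange c2_5) (range_glue (range_of_allRange c2_6) (range_glue (range_of_allRange c2_7) (range_glue (range_of_allRange c2_8) (range_glue (range_of_allRange c2_9) (range_glue (range_of_allRange c2_10) (range_glue (range_of_allRange c2_11) (range_glue (range_of_allRange c2_12) (range_glue (range_of_allRange c2_13) (range_glue (range_of_allRange c2_14) (range_glue (range_of_allRange c2_15) (range_glue (range_of_allRange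 c2_16) (range_glue (range_of_allRange c2_17) (range_glue (range_of_allRange c2_18) (range_glue (range_of_allRange c2_19) (range_glue (range_of_allRange c2_20) (range_glue (range_of_allRange c2_21) (range_glue (range_of_allRange c2_22) (range_glue (range_of_allRange c2_23) (range_glue (range_of_allRange c2_24) (range_glue (range_of_allRange c2_25) (range_glue (range_of_allRange c2_26) (range_glue (range_of_allRange c2_27) (range_of_allRange c2_28))))))))))))))))))))))))))))) i (Nat.zero_le _) hi

def chk3 : List Nat := [4, 2, 0, 1, 2, 5]
noncomputable def act3 (i : Nat) : Nat := col5 (col3 (col1 (col0 (col3 (col4 (i))))))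
theorem act3_eq (i : Nat) : act3 i = Tab.act T D chk3 i := rfl
theorem c3_0 : allRange (fun i => Nat.beq (act3 i) i) 0 7500 = true := by decide +kernel
theorem c3_1 : allRange (fun i => Nat.beq (act3 i) i) 7500 7500 = true := by decide +kernel
theorem c3_2 : allRange (fun i => Nat.beq (act3 i) i) 15000 7500 = true := by decide +kernel
theorem c3_3 : allRange (fun i => Nat.beq (act3 i) i) 22500 7500 = true := by decide +kernel
theorem c3_4 : allRange (fun i => Nat.beq (act3 i) i) 30000 6936 = true := by decide +kernel
theorem h3 : ∀ i, i < T.N → Tab.relActOK T D chk3 i = true := by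
  intro i hi
  rw [Tab.relActOK, ← act3_eq]
  exact (range_glue (range_of_allRange c3_0) (range_glue (range_of_allRange c3_1) (range_glue (range_of_allRange c3_2) (range_glue (range_of_allRange c3_3) (range_of_allRange c3_4))))) i (Nat.zero_le _) hi

def chk4 : List Nat := [4, 4, 4, 4, 4, 4, 4, 4]
noncomputable def act4 (i : Nat) : Nat := col5 (col5 (col5 (col5 (col5 (col5 (col5 (col5 (i))))))))
theorem act4_eq (i : Nat) : act4 i = Tab.act T D chk4 i := rfl
theorem c4_0 : allRange (fun i => Nat.beq (act4 i) i) 0 6000 = true := by decide +kernel
theorem c4_1 : allRange (fun i => Nat.beq (act4 i) i) 6000 6000 = true := by decide +kernel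
theorem c4_2 : allRange (fun i => Nat.beq (act4 i) i) 12000 6000 = true := by decide +kernel
theorem c4_3 : allRange (fun i => Nat.beq (act4 i) i) 18000 6000 = true := by decide +kernel
theorem c4_4 : allRange (fun i => Nat.beq (act4 i) i) 24000 6000 = true := by decide +kernel
theorem c4_5 : allRange (fun i => Nat.beq (act4 i) i) 30000 6000 = true := by decide +kernel
theorem c4_6 : allRange (fun i => Nat.beq (act4 i) i) 36000 936 = true := by decide +kernel
theorem h4 : ∀ i, i < T.N → Tab.relActOK T D chk4 i = true := by
  intro i hi
  rw [Tab.relActOK, ← act4_eq]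
  exact (range_glue (range_of_allRange c4_0) (range_glue (range_of_allRange c4_1) (range_glue (range_of_allRange c4_2) (range_glue (range_of_allRange c4_3) (range_glue (range_of_allRange c4_4) (range_glue (range_of_allRange c4_5) (range_of_allRange c4_6))))))) i (Nat.zero_le _) hi

def chk5 : List Nat := [2, 4, 2, 4, 4, 2, 4, 2, 5, 2, 5, 5, 2, 5]
noncomputable def act5 (i : Nat) : Nat := col3 (col5 (col3 (col5 (col5 (col3 (col5 (col3 (col4 (col3 (col4 (col4 (col3 (col4 (i))))))))))))))
theorem act5_eq (i : Nat) : act5 i = Tab.act T D chk5 i := rfl
theorem c5_0 : allRange (fun i => Nat.beq (act5 i) i) 0 3750 = true := by decide +kernel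
theorem c5_1 : allRange (fun i => Nat.beq (act5 i) i) 3750 3750 = true := by decide +kernel
theorem c5_2 : allRange (fun i => Nat.beq (act5 i) i) 7500 3750 = true := by decide +kernel
theorem c5_3 : allRange (fun i => Nat.beq (act5 i) i) 11250 3750 = true := by decide +kernel
theorem c5_4 : allRange (fun i => Nat.beq (act5 i) i) 15000 3750 = true := by decide +kernel
theorem c5_5 : allRange (fun i => Nat.beq (act5 i) i) 18750 3750 = true := by decide +kernel
theorem c5_6 : allRange (fun i => Nat.beq (act5 i) i) 22500 3750 = true := by decide +kernel
theorem c5_7 : allRange (fun i => Nat.beq (act5 i) i) 26250 3750 = true := by decide +kernel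
theorem c5_8 : allRange (fun i => Nat.beq (act5 i) i) 30000 3750 = true := by decide +kernel
theorem c5_9 : allRange (fun i => Nat.beq (act5 i) i) 33750 3186 = true := by decide +kernel
theorem h5 : ∀ i, i < T.N → Tab.relActOK T D chk5 i = true := by
  intro i hi
  rw [Tab.relActOK, ← act5_eq]
  exact (range_glue (range_of_allRange c5_0) (range_glue (range_of_allRange c5_1) (range_glue (range_of_allRange c5_2) (range_glue (range_of_allRange c5_3) (range_glue (range_of_allRange c5_4) (range_glue (range_of_allRange c5_5) (range_glue (range_of_allRange c5_6) (range_glue (range_of_allRange c5_7) (range_glue (range_of_allRange c5_8) (range_of_allRange c5_9)))))))))) i (Nat.zero_le _) hi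

def chk6 : List Nat := [0, 2, 4, 4, 2, 4, 0, 4, 2, 4, 4, 2, 4, 1, 4]
noncomputable def act6 (i : Nat) : Nat := col1 (col3 (col5 (col5 (col3 (col5 (col1 (col5 (col3 (col5 (col5 (col3 (col5 (col0 (col5 (i)))))))))))))))
theorem act6_eq (i : Nat) : act6 i = Tab.act T D chk6 i := rfl
theorem c6_0 : allRange (fun i => Nat.beq (act6 i) i) 0 3529 = true := by decide +kernel
theorem c6_1 : allRange (fun i => Nat.beq (act6 i) i) 3529 3529 = true := by decide +kernel
theorem c6_2 : allRange (fun i => Nat.beq (act6 i) i) 7058 3529 = true := by decide +kernel
theorem c6_3 : allRange (fun i => Nat.beq (act6 i) i) 10587 3529 = true := by decide +kernel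
theorem c6_4 : allRange (fun i => Nat.beq (act6 i) i) 14116 3529 = true := by decide +kernel
theorem c6_5 : allRange (fun i => Nat.beq (act6 i) i) 17645 3529 = true := by decide +kernel
theorem c6_6 : allRange (fun i => Nat.beq (act6 i) i) 21174 3529 = true := by decide +kernel
theorem c6_7 : allRange (fun i => Nat.beq (act6 i) i) 24703 3529 = true := by decide +kernel
theorem c6_8 : allRange (fun i => Nat.beq (act6 i) i) 28232 3529 = true := by decide +kernel
theorem c6_9 : allRange (fun i => Nat.beq (act6 i) i) 31761 3529 = true := by decide +kernel
theorem c6_10 : allRange (fun i => Nat.beq (act6 i) i) 35290 1646 = true := by decide +kernel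
theorem h6 : ∀ i, i < T.N → Tab.relActOK T D chk6 i = true := by
  intro i hi
  rw [Tab.relActOK, ← act6_eq]
  exact (range_glue (range_of_allRange c6_0) (range_glue (range_of_allRange c6_1) (range_glue (range_of_allRange c6_2) (range_glue (range_of_allRange c6_3) (range_glue (range_of_allRange c6_4) (range_glue (range_of_allRange c6_5) (range_glue (range_of_allRange c6_6) (range_glue (range_of_allRange c6_7) (range_glue (range_of_allRange c6_8) (range_glue (range_of_allRange c6_9) (range_of_allRange c6_10))))))))))) i (Nat.zero_le _) hi

def chk7 : List Nat := [0, 0, 4, 4, 2, 4, 4, 2, 4, 0, 4, 2, 4, 4, 2]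
noncomputable def act7 (i : Nat) : Nat := col1 (col1 (col5 (col5 (col3 (col5 (col5 (col3 (col5 (col1 (col5 (col3 (col5 (col5 (col3 (i)))))))))))))))
theorem act7_eq (i : Nat) : act7 i = Tab.act T D chk7 i := rfl
theorem c7_0 : allRange (fun i => Nat.beq (act7 i) i) 0 3529 = true := by decide +kernel
theorem c7_1 : allRange (fun i => Nat.beq (act7 i) i) 3529 3529 = true := by decide +kernel
theorem c7_2 : allRange (fun i => Nat.beq (act7 i) i) 7058 3529 = true := by decide +kernel
theorem c7_3 : allRange (fun i => Nat.beq (act7 i) i) 10587 3529 = true := by decide +kernel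
theorem c7_4 : allRange (fun i => Nat.beq (act7 i) i) 14116 3529 = true := by decide +kernel
theorem c7_5 : allRange (fun i => Nat.beq (act7 i) i) 17645 3529 = true := by decide +kernel
theorem c7_6 : allRange (fun i => Nat.beq (act7 i) i) 21174 3529 = true := by decide +kernel
theorem c7_7 : allRange (fun i => Nat.beq (act7 i) i) 24703 3529 = true := by decide +kernel
theorem c7_8 : allRange (fun i => Nat.beq (act7 i) i) 28232 3529 = true := by decide +kernel
theorem c7_9 : allRange (fun i => Nat.beq (act7 i) i) 31761 3529 = true := by decide +kernel
theorem c7_10 : allRange (fun i => Nat.beq (act7 i) i) 35290 1646 = true := by decide +kernel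
theorem h7 : ∀ i, i < T.N → Tab.relActOK T D chk7 i = true := by
  intro i hi
  rw [Tab.relActOK, ← act7_eq]
  exact (range_glue (range_of_allRange c7_0) (range_glue (range_of_allRange c7_1) (range_glue (range_of_allRange c7_2) (range_glue (range_of_allRange c7_3) (range_glue (range_of_allRange c7_4) (range_glue (range_of_allRange c7_5) (range_glue (range_of_allRange c7_6) (range_glue (range_of_allRange c7_7) (range_glue (range_of_allRange c7_8) (range_glue (range_of_allRange c7_9) (range_of_allRange c7_10))))))))))) i (Nat.zero_le _) hi

def chk8 : List Nat := [0, 0, 2, 0, 5, 5, 2, 4, 0, 2, 0, 2, 1, 2, 4, 2]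
noncomputable def act8 (i : Nat) : Nat := col1 (col1 (col3 (col1 (col4 (col4 (col3 (col5 (col1 (col3 (col1 (col3 (col0 (col3 (col5 (col3 (i))))))))))))))))
theorem act8_eq (i : Nat) : act8 i = Tab.act T D chk8 i := rfl
theorem c8_0 : allRange (fun i => Nat.beq (act8 i) i) 0 3333 = true := by decide +kernel
theorem c8_1 : allRange (fun i => Nat.beq (act8 i) i) 3333 3333 = true := by decide +kernel
theorem c8_2 : allRange (fun i => Nat.beq (act8 i) i) 6666 3333 = true := by decide +kernel
theorem c8_3 : allRange (fun i => Nat.beq (act8 i) i) 9999 3333 = true := by decide +kernel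
theorem c8_4 : allRange (fun i => Nat.beq (act8 i) i) 13332 3333 = true := by decide +kernel
theorem c8_5 : allRange (fun i => Nat.beq (act8 i) i) 16665 3333 = true := by decide +kernel
theorem c8_6 : allRange (fun i => Nat.beq (act8 i) i) 19998 3333 = true := by decide +kernel
theorem c8_7 : allRange (fun i => Nat.beq (act8 i) i) 23331 3333 = true := by decide +kernel
theorem c8_8 : allRange (fun i => Nat.beq (act8 i) i) 26664 3333 = true := by decide +kernel
theorem c8_9 : allRange (fun i => Nat.beq (act8 i) i) 29997 3333 = true := by decide +kernel
theorem c8_10 : allRange (fun i => Nat.beq (act8 i) i) 33330 3333 = true := by decide +kernel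
theorem c8_11 : allRange (fun i => Nat.beq (act8 i) i) 36663 273 = true := by decide +kernel
theorem h8 : ∀ i, i < T.N → Tab.relActOK T D chk8 i = true := by
  intro i hi
  rw [Tab.relActOK, ← act8_eq]
  exact (range_glue (range_of_allRange c8_0) (range_glue (range_of_allRange c8_1) (range_glue (range_of_allRange c8_2) (range_glue (range_of_allRange c8_3) (range_glue (range_of_allRange c8_4) (range_glue (range_of_allRange c8_5) (range_glue (range_of_allRange c8_6) (range_glue (range_of_allRange c8_7) (range_glue (range_of_allRange c8_8) (range_glue (range_of_allRange c8_9) (range_glue (range_of_allRange c8_10) (range_of_allRange c8_11)))))))))))) i (Nat.zero_le _) hi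

def chk9 : List Nat := [0, 0, 2, 0, 5, 5, 2, 4, 2, 0, 2, 1, 2, 1, 4, 2]
noncomputable def act9 (i : Nat) : Nat := col1 (col1 (col3 (col1 (col4 (col4 (col3 (col5 (col3 (col1 (col3 (col0 (col3 (col0 (col5 (col3 (i))))))))))))))))
theorem act9_eq (i : Nat) : act9 i = Tab.act T D chk9 i := rfl
theorem c9_0 : allRange (fun i => Nat.beq (act9 i) i) 0 3333 = true := by decide +kernel
theorem c9_1 : allRange (fun i => Nat.beq (act9 i) i) 3333 3333 = true := by decide +kernel
theorem c9_2 : allRange (fun i => Nat.beq (act9 i) i) 6666 3333 = true := by decide +kernel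
theorem c9_3 : allRange (fun i => Nat.beq (act9 i) i) 9999 3333 = true := by decide +kernel
theorem c9_4 : allRange (fun i => Nat.beq (act9 i) i) 13332 3333 = true := by decide +kernel
theorem c9_5 : allRange (fun i => Nat.beq (act9 i) i) 16665 3333 = true := by decide +kernel
theorem c9_6 : allRange (fun i => Nat.beq (act9 i) i) 19998 3333 = true := by decide +kernel
theorem c9_7 : allRange (fun i => Nat.beq (act9 i) i) 23331 3333 = true := by decide +kernel
theorem c9_8 : allRange (fun i => Nat.beq (act9 i) i) 26664 3333 = true := by decide +kernel
theorem c9_9 : allRange (fun i => Nat.beq (act9 i) i) 29997 3333 = true := by decide +kernel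
theorem c9_10 : allRange (fun i => Nat.beq (act9 i) i) 33330 3333 = true := by decide +kernel
theorem c9_11 : allRange (fun i => Nat.beq (act9 i) i) 36663 273 = true := by decide +kernel
theorem h9 : ∀ i, i < T.N → Tab.relActOK T D chk9 i = true := by
  intro i hi
  rw [Tab.relActOK, ← act9_eq]
  exact (range_glue (range_of_allRange c9_0) (range_glue (range_of_allRange c9_1) (range_glue (range_of_allRange c9_2) (range_glue (range_of_allRange c9_3) (range_glue (range_of_allRange c9_4) (range_glue (range_of_allRange c9_5) (range_glue (range_of_allRange c9_6) (range_glue (range_of_allRange c9_7) (range_glue (range_of_allRange c9_8) (range_glue (range_of_allRange c9_9) (range_glue (range_of_allRange c9_10) (range_of_allRange c9_11)))))))))))) i (Nat.zero_le _) hi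

def chk10 : List Nat := [0, 2, 0, 2, 5, 2, 0, 5, 2, 0, 5, 2, 0, 5, 2, 5]
noncomputable def act10 (i : Nat) : Nat := col1 (col3 (col1 (col3 (col4 (col3 (col1 (col4 (col3 (col1 (col4 (col3 (col1 (col4 (col3 (col4 (i))))))))))))))))
theorem act10_eq (i : Nat) : act10 i = Tab.act T D chk10 i := rfl
theorem c10_0 : allRange (fun i => Nat.beq (act10 i) i) 0 3333 = true := by decide +kernel
theorem c10_1 : allRange (fun i => Nat.beq (act10 i) i) 3333 3333 = true := by decide +kernel
theorem c10_2 : allRange (fun i => Nat.beq (act10 i) i) 6666 3333 = true := by decide +kernel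
theorem c10_3 : allRange (fun i => Nat.beq (act10 i) i) 9999 3333 = true := by decide +kernel
theorem c10_4 : allRange (fun i => Nat.beq (act10 i) i) 13332 3333 = true := by decide +kernel
theorem c10_5 : allRange (fun i => Nat.beq (act10 i) i) 16665 3333 = true := by decide +kernel
theorem c10_6 : allRange (fun i => Nat.beq (act10 i) i) 19998 3333 = true := by decide +kernel
theorem c10_7 : allRange (fun i => Nat.beq (act10 i) i) 23331 3333 = true := by decide +kernel
theorem c10_8 : allRange (fun i => Nat.beq (act10 i) i) 26664 3333 = true := by decide +kernel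
theorem c10_9 : allRange (fun i => Nat.beq (act10 i) i) 29997 3333 = true := by decide +kernel
theorem c10_10 : allRange (fun i => Nat.beq (act10 i) i) 33330 3333 = true := by decide +kernel
theorem c10_11 : allRange (fun i => Nat.beq (act10 i) i) 36663 273 = true := by decide +kernel
theorem h10 : ∀ i, i < T.N → Tab.relActOK T D chk10 i = true := by
  intro i hi
  rw [Tab.relActOK, ← act10_eq]
  exact (range_glue (range_of_allRange c10_0) (range_glue (range_of_allRange c10_1) (range_glue (range_of_allRange c10_2) (range_glue (range_of_allRange c10_3) (range_glue (range_of_allRange c10_4) (range_glue (range_of_allRange c10_5) (range_glue (range_of_allRange c10_6) (range_glue (range_of_allRange c10_7) (range_glue (range_of_allRange c10_8) (range_glue (range_of_allRange c10_9) (range_glue (range_of_allRange c10_10) (range_of_allRange c10_11)))))))))))) i (Nat.zero_le _) hi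

def chk11 : List Nat := [0, 0, 0, 0, 0, 0, 0, 0, 0, 0, 0, 0, 0, 0, 0, 0, 0]
noncomputable def act11 (i : Nat) : Nat := col1 (col1 (col1 (col1 (col1 (col1 (col1 (col1 (col1 (col1 (col1 (col1 (col1 (col1 (col1 (col1 (col1 (i)))))))))))))))))
theorem act11_eq (i : Nat) : act11 i = Tab.act T D chk11 i := rfl
theorem c11_0 : allRange (fun i => Nat.beq (act11 i) i) 0 3157 = true := by decide +kernel
theorem c11_1 : allRange (fun i => Nat.beq (act11 i) i) 3157 3157 = true := by decide +kernel
theorem c11_2 : allRange (fun i => Nat.beq (act11 i) i) 6314 3157 = true := by decide +kernel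
theorem c11_3 : allRange (fun i => Nat.beq (act11 i) i) 9471 3157 = true := by decide +kernel
theorem c11_4 : allRange (fun i => Nat.beq (act11 i) i) 12628 3157 = true := by decide +kernel
theorem c11_5 : allRange (fun i => Nat.beq (act11 i) i) 15785 3157 = true := by decide +kernel
theorem c11_6 : allRange (fun i => Nat.beq (act11 i) i) 18942 3157 = true := by decide +kernel
theorem c11_7 : allRange (fun i => Nat.beq (act11 i) i) 22099 3157 = true := by decide +kernel
theorem c11_8 : allRange (fun i => Nat.beq (act11 i) i) 25256 3157 = true := by decide +kernel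
theorem c11_9 : allRange (fun i => Nat.beq (act11 i) i) 28413 3157 = true := by decide +kernel
theorem c11_10 : allRange (fun i => Nat.beq (act11 i) i) 31570 3157 = true := by decide +kernel
theorem c11_11 : allRange (fun i => Nat.beq (act11 i) i) 34727 2209 = true := by decide +kernel
theorem h11 : ∀ i, i < T.N → Tab.relActOK T D chk11 i = true := by
  intro i hi
  rw [Tab.relActOK, ← act11_eq]
  exact (range_glue (range_of_allRange c11_0) (range_glue (range_of_allRange c11_1) (range_glue (range_of_allRange c11_2) (range_glue (range_of_allRange c11_3) (range_glue (range_of_allRange c11_4) (range_glue (range_of_allRange c11_5) (range_glue (range_of_allRange c11_6) (range_glue (range_of_allRange c11_7) (range_glue (range_of_allRange c11_8) (range_glue (range_of_allRange c11_9) (range_glue (range_of_allRange c11_10) (range_of_allRange c11_11)))))))))))) i (Nat.zero_le _) hi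

def chk12 : List Nat := [2, 2]
noncomputable def act12 (i : Nat) : Nat := col3 (col3 (i))
theorem act12_eq (i : Nat) : act12 i = Tab.act T D chk12 i := rfl
theorem c12_0 : allRange (fun i => Nat.beq (act12 i) i) 0 15000 = true := by decide +kernel
theorem c12_1 : allRange (fun i => Nat.beq (act12 i) i) 15000 15000 = true := by decide +kernel
theorem c12_2 : allRange (fun i => Nat.beq (act12 i) i) 30000 6936 = true := by decide +kernel
theorem h12 : ∀ i, i < T.N → Tab.relActOK T D chk12 i = true := by
  intro i hi
  rw [Tab.relActOK, ← act12_eq]
  exact (range_glue (range_of_allRange c12_0) (range_glue (range_of_allRange c12_1) (range_of_allRange c12_2))) i (Nat.zero_le _) hi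

def chk13 : List Nat := [0, 0, 0, 2, 1, 2, 0, 2, 0, 0, 0, 2, 1, 2, 0, 2]
noncomputable def act13 (i : Nat) : Nat := col1 (col1 (col1 (col3 (col0 (col3 (col1 (col3 (col1 (col1 (col1 (col3 (col0 (col3 (col1 (col3 (i))))))))))))))))
theorem act13_eq (i : Nat) : act13 i = Tab.act T D chk13 i := rfl
theorem c13_0 : allRange (fun i => Nat.beq (act13 i) i) 0 3333 = true := by decide +kernel
theorem c13_1 : allRange (fun i => Nat.beq (act13 i) i) 3333 3333 = true := by decide +kernel
theorem c13_2 : allRange (fun i => Nat.beq (act13 i) i) 6666 3333 = true := by decide +kernel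
theorem c13_3 : allRange (fun i => Nat.beq (act13 i) i) 9999 3333 = true := by decide +kernel
theorem c13_4 : allRange (fun i => Nat.beq (act13 i) i) 13332 3333 = true := by decide +kernel
theorem c13_5 : allRange (fun i => Nat.beq (act13 i) i) 16665 3333 = true := by decide +kernel
theorem c13_6 : allRange (fun i => Nat.beq (act13 i) i) 19998 3333 = true := by decide +kernel
theorem c13_7 : allRange (fun i => Nat.beq (act13 i) i) 23331 3333 = true := by decide +kernel
theorem c13_8 : allRange (fun i => Nat.beq (act13 i) i) 26664 3333 = true := by decide +kernel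
theorem c13_9 : allRange (fun i => Nat.beq (act13 i) i) 29997 3333 = true := by decide +kernel
theorem c13_10 : allRange (fun i => Nat.beq (act13 i) i) 33330 3333 = true := by decide +kernel
theorem c13_11 : allRange (fun i => Nat.beq (act13 i) i) 36663 273 = true := by decide +kernel
theorem h13 : ∀ i, i < T.N → Tab.relActOK T D chk13 i = true := by
  intro i hi
  rw [Tab.relActOK, ← act13_eq]
  exact (range_glue (range_of_allRange c13_0) (range_glue (range_of_allRange c13_1) (range_glue (range_of_allRange c13_2) (range_glue (range_of_allRange c13_3) (range_glue (range_of_allRange c13_4) (range_glue (range_of_allRange c13_5) (range_glue (range_of_allRange c13_6) (range_glue (range_of_allRange c13_7) (range_glue (range_of_allRange c13_8) (range_glue (range_of_allRange c13_9) (range_glue (range_of_allRange c13_10) (range_of_allRange c13_11)))))))))))) i (Nat.zero_le _) hi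

def chk14 : List Nat := [0, 0, 0, 0, 0, 2, 0, 0, 0, 0, 0, 2, 0, 0, 0, 0, 0, 2]
noncomputable def act14 (i : Nat) : Nat := col1 (col1 (col1 (col1 (col1 (col3 (col1 (col1 (col1 (col1 (col1 (col3 (col1 (col1 (col1 (col1 (col1 (col3 (i))))))))))))))))))
theorem act14_eq (i : Nat) : act14 i = Tab.act T D chk14 i := rfl
theorem c14_0 : allRange (fun i => Nat.beq (act14 i) i) 0 3000 = true := by decide +kernel
theorem c14_1 : allRange (fun i => Nat.beq (act14 i) i) 3000 3000 = true := by decide +kernel
theorem c14_2 : allRange (fun i => Nat.beq (act14 i) i) 6000 3000 = true := by decide +kernel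
theorem c14_3 : allRange (fun i => Nat.beq (act14 i) i) 9000 3000 = true := by decide +kernel
theorem c14_4 : allRange (fun i => Nat.beq (act14 i) i) 12000 3000 = true := by decide +kernel
theorem c14_5 : allRange (fun i => Nat.beq (act14 i) i) 15000 3000 = true := by decide +kernel
theorem c14_6 : allRange (fun i => Nat.beq (act14 i) i) 18000 3000 = true := by decide +kernel
theorem c14_7 : allRange (fun i => Nat.beq (act14 i) i) 21000 3000 = true := by decide +kernel
theorem c14_8 : allRange (fun i => Nat.beq (act14 i) i) 24000 3000 = true := by decide +kernel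
theorem c14_9 : allRange (fun i => Nat.beq (act14 i) i) 27000 3000 = true := by decide +kernel
theorem c14_10 : allRange (fun i => Nat.beq (act14 i) i) 30000 3000 = true := by decide +kernel
theorem c14_11 : allRange (fun i => Nat.beq (act14 i) i) 33000 3000 = true := by decide +kernel
theorem c14_12 : allRange (fun i => Nat.beq (act14 i) i) 36000 936 = true := by decide +kernel
theorem h14 : ∀ i, i < T.N → Tab.relActOK T D chk14 i = true := by
  intro i hi
  rw [Tab.relActOK, ← act14_eq]
  exact (range_glue (range_of_allRange c14_0) (range_glue (range_of_allRange c14_1) (range_glue (range_of_allRange c14_2) (range_glue (range_of_allRange c14_3) (range_glue (range_of_allRange c14_4) (range_glue (range_of_allRange c14_5) (range_glue (range_of_allRange c14_6) (range_glue (range_of_allRange c14_7) (range_glue (range_of_allRange c14_8) (range_glue (range_of_allRange c14_9) (range_glue (range_of_allRange c14_10) (range_glue (range_of_allRange c14_11) (range_of_allRange c14_12))))))))))))) i (Nat.zero_le _) hi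

def chk15 : List Nat := [4, 0, 5, 1, 1]
noncomputable def act15 (i : Nat) : Nat := col5 (col1 (col4 (col0 (col0 (i)))))
theorem act15_eq (i : Nat) : act15 i = Tab.act T D chk15 i := rfl
theorem c15_0 : allRange (fun i => Nat.beq (act15 i) i) 0 8571 = true := by decide +kernel
theorem c15_1 : allRange (fun i => Nat.beq (act15 i) i) 8571 8571 = true := by decide +kernel
theorem c15_2 : allRange (fun i => Nat.beq (act15 i) i) 17142 8571 = true := by decide +kernel
theorem c15_3 : allRange (fun i => Nat.beq (act15 i) i) 25713 8571 = true := by decide +kernel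
theorem c15_4 : allRange (fun i => Nat.beq (act15 i) i) 34284 2652 = true := by decide +kernel
theorem h15 : ∀ i, i < T.N → Tab.relActOK T D chk15 i = true := by
  intro i hi
  rw [Tab.relActOK, ← act15_eq]
  exact (range_glue (range_of_allRange c15_0) (range_glue (range_of_allRange c15_1) (range_glue (range_of_allRange c15_2) (range_glue (range_of_allRange c15_3) (range_of_allRange c15_4))))) i (Nat.zero_le _) hi

def chk16 : List Nat := [0, 0, 0, 0, 0, 0, 0, 0, 0, 0, 0, 0, 0, 0, 0, 0, 0]
noncomputable def act16 (i : Nat) : Nat := col1 (col1 (col1 (col1 (col1 (col1 (col1 (col1 (col1 (col1 (col1 (col1 (col1 (col1 (col1 (col1 (col1 (i)))))))))))))))))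
theorem act16_eq (i : Nat) : act16 i = Tab.act T D chk16 i := rfl
theorem c16_0 : allRange (fun i => Nat.beq (act16 i) i) 0 3157 = true := by decide +kernel
theorem c16_1 : allRange (fun i => Nat.beq (act16 i) i) 3157 3157 = true := by decide +kernel
theorem c16_2 : allRange (fun i => Nat.beq (act16 i) i) 6314 3157 = true := by decide +kernel
theorem c16_3 : allRange (fun i => Nat.beq (act16 i) i) 9471 3157 = true := by decide +kernel
theorem c16_4 : allRange (fun i => Nat.beq (act16 i) i) 12628 3157 = true := by decide +kernel
theorem c16_5 : allRange (fun i => Nat.beq (act16 i) i) 15785 3157 = true := by decide +kernel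
theorem c16_6 : allRange (fun i => Nat.beq (act16 i) i) 18942 3157 = true := by decide +kernel
theorem c16_7 : allRange (fun i => Nat.beq (act16 i) i) 22099 3157 = true := by decide +kernel
theorem c16_8 : allRange (fun i => Nat.beq (act16 i) i) 25256 3157 = true := by decide +kernel
theorem c16_9 : allRange (fun i => Nat.beq (act16 i) i) 28413 3157 = true := by decide +kernel
theorem c16_10 : allRange (fun i => Nat.beq (act16 i) i) 31570 3157 = true := by decide +kernel
theorem c16_11 : allRange (fun i => Nat.beq (act16 i) i) 34727 2209 = true := by decide +kernel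
theorem h16 : ∀ i, i < T.N → Tab.relActOK T D chk16 i = true := by
  intro i hi
  rw [Tab.relActOK, ← act16_eq]
  exact (range_glue (range_of_allRange c16_0) (range_glue (range_of_allRange c16_1) (range_glue (range_of_allRange c16_2) (range_glue (range_of_allRange c16_3) (range_glue (range_of_allRange c16_4) (range_glue (range_of_allRange c16_5) (range_glue (range_of_allRange c16_6) (range_glue (range_of_allRange c16_7) (range_glue (range_of_allRange c16_8) (range_glue (range_of_allRange c16_9) (range_glue (range_of_allRange c16_10) (range_of_allRange c16_11)))))))))))) i (Nat.zero_le _) hi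

def chk17 : List Nat := [0, 0, 0, 0, 0, 0, 0, 0, 0, 0, 0, 0, 0, 0, 0, 0, 0, 0, 0, 0, 0, 0, 0, 0, 0, 0, 0, 0, 0, 0, 0, 0, 0, 0]
noncomputable def act17 (i : Nat) : Nat := col1 (col1 (col1 (col1 (col1 (col1 (col1 (col1 (col1 (col1 (col1 (col1 (col1 (col1 (col1 (col1 (col1 (col1 (col1 (col1 (col1 (col1 (col1 (col1 (col1 (col1 (col1 (col1 (col1 (col1 (col1 (col1 (col1 (col1 (i))))))))))))))))))))))))))))))))))
theorem act17_eq (i : Nat) : act17 i = Tab.act T D chk17 i := rfl
theorem c17_0 : allRange (fun i => Nat.beq (act17 i) i) 0 1666 = true := by decide +kernel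
theorem c17_1 : allRange (fun i => Nat.beq (act17 i) i) 1666 1666 = true := by decide +kernel
theorem c17_2 : allRange (fun i => Nat.beq (act17 i) i) 3332 1666 = true := by decide +kernel
theorem c17_3 : allRange (fun i => Nat.beq (act17 i) i) 4998 1666 = true := by decide +kernel
theorem c17_4 : allRange (fun i => Nat.beq (act17 i) i) 6664 1666 = true := by decide +kernel
theorem c17_5 : allRange (fun i => Nat.beq (act17 i) i) 8330 1666 = true := by decide +kernel
theorem c17_6 : allRange (fun i => Nat.beq (act17 i) i) 9996 1666 = true := by decide +kernel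
theorem c17_7 : allRange (fun i => Nat.beq (act17 i) i) 11662 1666 = true := by decide +kernel
theorem c17_8 : allRange (fun i => Nat.beq (act17 i) i) 13328 1666 = true := by decide +kernel
theorem c17_9 : allRange (fun i => Nat.beq (act17 i) i) 14994 1666 = true := by decide +kernel
theorem c17_10 : allRange (fun i => Nat.beq (act17 i) i) 16660 1666 = true := by decide +kernel
theorem c17_11 : allRange (fun i => Nat.beq (act17 i) i) 18326 1666 = true := by decide +kernel
theorem c17_12 : allRange (fun i => Nat.beq (act17 i) i) 19992 1666 = true := by decide +kernel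
theorem c17_13 : allRange (fun i => Nat.beq (act17 i) i) 21658 1666 = true := by decide +kernel
theorem c17_14 : allRange (fun i => Nat.beq (act17 i) i) 23324 1666 = true := by decide +kernel
theorem c17_15 : allRange (fun i => Nat.beq (act17 i) i) 24990 1666 = true := by decide +kernel
theorem c17_16 : allRange (fun i => Nat.beq (act17 i) i) 26656 1666 = true := by decide +kernel
theorem c17_17 : allRange (fun i => Nat.beq (act17 i) i) 28322 1666 = true := by decide +kernel
theorem c17_18 : allRange (fun i => Nat.beq (act17 i) i) 29988 1666 = true := by decide +kernel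
theorem c17_19 : allRange (fun i => Nat.beq (act17 i) i) 31654 1666 = true := by decide +kernel
theorem c17_20 : allRange (fun i => Nat.beq (act17 i) i) 33320 1666 = true := by decide +kernel
theorem c17_21 : allRange (fun i => Nat.beq (act17 i) i) 34986 1666 = true := by decide +kernel
theorem c17_22 : allRange (fun i => Nat.beq (act17 i) i) 36652 284 = true := by decide +kernel
theorem h17 : ∀ i, i < T.N → Tab.relActOK T D chk17 i = true := by
  intro i hi
  rw [Tab.relActOK, ← act17_eq]
  exact (range_glue (range_of_allRange c17_0) (range_glue (range_of_allRange c17_1) (range_glue (range_of_allRange c17_2) (range_glue (range_of_allRange c17_3) (range_glue (range_of_allRange c17_4) (range_glue (range_of_allRange c17_5) (range_glue (range_of_allRange c17_6) (range_glue (range_of_allRange c17_7) (range_glue (range_of_allRange c17_8) (range_glue (range_of_allRange c17_9) (range_glue (range_of_allRange c17_10) (range_glue (range_of_allRange c17_11) (range_glue (range_of_allRange c17_12) (range_glue (range_of_allRange c17_13) (range_glue (range_of_allRange c17_14) (range_glue (range_of_allRange c17_15) (range_glue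 (range_of_allRange c17_16) (range_glue (range_of_allRange c17_17) (range_glue (range_of_allRange c17_18) (range_glue (range_of_allRange c17_19) (range_glue (range_of_allRange c17_20) (range_glue (range_of_allRange c17_21) (range_of_allRange c17_22))))))))))))))))))))))) i (Nat.zero_le _) hi

def chk18 : List Nat := [4, 4, 0, 2, 5, 5, 1, 1, 3, 1, 3, 1, 3, 1]
noncomputable def act18 (i : Nat) : Nat := col5 (col5 (col1 (col3 (col4 (col4 (col0 (col0 (col2 (col0 (col2 (col0 (col2 (col0 (i))))))))))))))
theorem act18_eq (i : Nat) : act18 i = Tab.act T D chk18 i := rfl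
theorem c18_0 : allRange (fun i => Nat.beq (act18 i) i) 0 3750 = true := by decide +kernel
theorem c18_1 : allRange (fun i => Nat.beq (act18 i) i) 3750 3750 = true := by decide +kernel
theorem c18_2 : allRange (fun i => Nat.beq (act18 i) i) 7500 3750 = true := by decide +kernel
theorem c18_3 : allRange (fun i => Nat.beq (act18 i) i) 11250 3750 = true := by decide +kernel
theorem c18_4 : allRange (fun i => Nat.beq (act18 i) i) 15000 3750 = true := by decide +kernel
theorem c18_5 : allRange (fun i => Nat.beq (act18 i) i) 18750 3750 = true := by decide +kernel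
theorem c18_6 : allRange (fun i => Nat.beq (act18 i) i) 22500 3750 = true := by decide +kernel
theorem c18_7 : allRange (fun i => Nat.beq (act18 i) i) 26250 3750 = true := by decide +kernel
theorem c18_8 : allRange (fun i => Nat.beq (act18 i) i) 30000 3750 = true := by decide +kernel
theorem c18_9 : allRange (fun i => Nat.beq (act18 i) i) 33750 3186 = true := by decide +kernel
theorem h18 : ∀ i, i < T.N → Tab.relActOK T D chk18 i = true := by
  intro i hi
  rw [Tab.relActOK, ← act18_eq]
  exact (range_glue (range_of_allRange c18_0) (range_glue (range_of_allRange c18_1) (range_glue (range_of_allRange c18_2) (range_glue (range_of_allRange c18_3) (range_glue (range_of_allRange c18_4) (range_glue (range_of_allRange c18_5) (range_glue (range_of_allRange c18_6) (range_glue (range_of_allRange c18_7) (range_glue (range_of_allRange c18_8) (range_of_allRange c18_9)))))))))) i (Nat.zero_le _) hi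

def chk19 : List Nat := [0, 2, 0, 2, 0, 2, 0, 2, 0, 2, 0, 2, 0, 2, 0, 2, 0, 2, 0, 2, 0, 2, 0, 2, 0, 2, 0, 2, 0, 2]
noncomputable def act19 (i : Nat) : Nat := col1 (col3 (col1 (col3 (col1 (col3 (col1 (col3 (col1 (col3 (col1 (col3 (col1 (col3 (col1 (col3 (col1 (col3 (col1 (col3 (col1 (col3 (col1 (col3 (col1 (col3 (col1 (col3 (col1 (col3 (i))))))))))))))))))))))))))))))
theorem act19_eq (i : Nat) : act19 i = Tab.act T D chk19 i := rfl
theorem c19_0 : allRange (fun i => Nat.beq (act19 i) i) 0 1875 = true := by decide +kernel
theorem c19_1 : allRange (fun i => Nat.beq (act19 i) i) 1875 1875 = true := by decide +kernel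
theorem c19_2 : allRange (fun i => Nat.beq (act19 i) i) 3750 1875 = true := by decide +kernel
theorem c19_3 : allRange (fun i => Nat.beq (act19 i) i) 5625 1875 = true := by decide +kernel
theorem c19_4 : allRange (fun i => Nat.beq (act19 i) i) 7500 1875 = true := by decide +kernel
theorem c19_5 : allRange (fun i => Nat.beq (act19 i) i) 9375 1875 = true := by decide +kernel
theorem c19_6 : allRange (fun i => Nat.beq (act19 i) i) 11250 1875 = true := by decide +kernel
theorem c19_7 : allRange (fun i => Nat.beq (act19 i) i) 13125 1875 = true := by decide +kernel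
theorem c19_8 : allRange (fun i => Nat.beq (act19 i) i) 15000 1875 = true := by decide +kernel
theorem c19_9 : allRange (fun i => Nat.beq (act19 i) i) 16875 1875 = true := by decide +kernel
theorem c19_10 : allRange (fun i => Nat.beq (act19 i) i) 18750 1875 = true := by decide +kernel
theorem c19_11 : allRange (fun i => Nat.beq (act19 i) i) 20625 1875 = true := by decide +kernel
theorem c19_12 : allRange (fun i => Nat.beq (act19 i) i) 22500 1875 = true := by decide +kernel
theorem c19_13 : allRange (fun i => Nat.beq (act19 i) i) 24375 1875 = true := by decide +kernel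
theorem c19_14 : allRange (fun i => Nat.beq (act19 i) i) 26250 1875 = true := by decide +kernel
theorem c19_15 : allRange (fun i => Nat.beq (act19 i) i) 28125 1875 = true := by decide +kernel
theorem c19_16 : allRange (fun i => Nat.beq (act19 i) i) 30000 1875 = true := by decide +kernel
theorem c19_17 : allRange (fun i => Nat.beq (act19 i) i) 31875 1875 = true := by decide +kernel
theorem c19_18 : allRange (fun i => Nat.beq (act19 i) i) 33750 1875 = true := by decide +kernel
theorem c19_19 : allRange (fun i => Nat.beq (act19 i) i) 35625 1311 = true := by decide +kernel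
theorem h19 : ∀ i, i < T.N → Tab.relActOK T D chk19 i = true := by
  intro i hi
  rw [Tab.relActOK, ← act19_eq]
  exact (range_glue (range_of_allRange c19_0) (range_glue (range_of_allRange c19_1) (range_glue (range_of_allRange c19_2) (range_glue (range_of_allRange c19_3) (range_glue (range_of_allRange c19_4) (range_glue (range_of_allRange c19_5) (range_glue (range_of_allRange c19_6) (range_glue (range_of_allRange c19_7) (range_glue (range_of_allRange c19_8) (range_glue (range_of_allRange c19_9) (range_glue (range_of_allRange c19_10) (range_glue (range_of_allRange c19_11) (range_glue (range_of_allRange c19_12) (range_glue (range_of_allRange c19_13) (range_glue (range_of_allRange c19_14) (range_glue (range_of_allRange c19_15) (range_glue (range_of_allRange c19_16) (range_glue (range_of_allRange c19_17) (range_glue (range_of_allRange c19_18) (range_of_allRange c19_19)))))))))))))))))))) i (Nat.zero_le _) hi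

def chk20 : List Nat := [0, 2, 0, 2, 0, 2, 0, 0, 0, 2, 0, 2, 0, 2, 0, 0, 0, 2, 0, 2, 0, 2, 0, 0, 0, 2, 0, 2, 0, 2, 0, 0, 0, 2, 0, 2, 0, 2, 0, 0, 0, 2, 0, 2, 0, 2, 0, 0, 0, 2, 0, 2, 0, 2, 0, 0, 0, 2, 0, 2, 0, 2, 0, 0, 0, 2, 0, 2, 0, 2, 0, 0, 0, 2, 0, 2, 0, 2, 0, 0, 0, 2, 0, 2, 0, 2, 0, 0, 0, 2, 0, 2, 0, 2, 0, 0, 0, 2, 0, 2, 0, 2, 0, 0, 0, 2, 0, 2, 0, 2, 0, 0, 0, 2, 0, 2, 0, 2, 0, 0]
noncomputable def act20 (i : Nat) : Nat := col1 (col3 (col1 (col3 (col1 (col3 (col1 (col1 (col1 (col3 (col1 (col3 (col1 (col3 (col1 (col1 (col1 (col3 (col1 (col3 (col1 (col3 (col1 (col1 (col1 (col3 (col1 (col3 (col1 (col3 (col1 (col1 (col1 (col3 (col1 (col3 (col1 (col3 (col1 (col1 (col1 (col3 (col1 (col3 (col1 (col3 (col1 (col1 (col1 (col3 (col1 (col3 (col1 (col3 (col1 (col1 (col1 (col3 (col1 (col3 (col1 (col3 (col1 (col1 (col1 (col3 (col1 (col3 (col1 (col3 (col1 (col1 (col1 (col3 (col1 (col3 (col1 (col3 (col1 (col1 (col1 (col3 (col1 (col3 (col1 (col3 (col1 (col1 (col1 (col3 (col1 (col3 (col1 (col3 (col1 (col1 (col1 (col3 (col1 (col3 (col1 (col3 (col1 (col1 (col1 (col3 (col1 (col3 (col1 (col3 (col1 (col1 (col1 (col3 (col1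 (col3 (col1 (col3 (col1 (col1 (i))))))))))))))))))))))))))))))))))))))))))))))))))))))))))))))))))))))))))))))))))))))))))))))))))))))))))))))))))))))))
theorem act20_eq (i : Nat) : act20 i = Tab.act T D chk20 i := rfl
theorem c20_0 : allRange (fun i => Nat.beq (act20 i) i) 0 491 = true := by decide +kernel
theorem c20_1 : allRange (fun i => Nat.beq (act20 i) i) 491 491 = true := by decide +kernel
theorem c20_2 : allRange (fun i => Nat.beq (act20 i) i) 982 491 = true := by decide +kernel
theorem c20_3 : allRange (fun i => Nat.beq (act20 i) i) 1473 491 = true := by decide +kernel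
theorem c20_4 : allRange (fun i => Nat.beq (act20 i) i) 1964 491 = true := by decide +kernel
theorem c20_5 : allRange (fun i => Nat.beq (act20 i) i) 2455 491 = true := by decide +kernel
theorem c20_6 : allRange (fun i => Nat.beq (act20 i) i) 2946 491 = true := by decide +kernel
theorem c20_7 : allRange (fun i => Nat.beq (act20 i) i) 3437 491 = true := by decide +kernel
theorem c20_8 : allRange (fun i => Nat.beq (act20 i) i) 3928 491 = true := by decide +kernel
theorem c20_9 : allRange (fun i => Nat.beq (act20 i) i) 4419 491 = true := by decide +kernel
theorem c20_10 : allRange (fun i => Nat.beq (act20 i) i) 4910 491 = true := by decide +kernel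
theorem c20_11 : allRange (fun i => Nat.beq (act20 i) i) 5401 491 = true := by decide +kernel
theorem c20_12 : allRange (fun i => Nat.beq (act20 i) i) 5892 491 = true := by decide +kernel
theorem c20_13 : allRange (fun i => Nat.beq (act20 i) i) 6383 491 = true := by decide +kernel
theorem c20_14 : allRange (fun i => Nat.beq (act20 i) i) 6874 491 = true := by decide +kernel
theorem c20_15 : allRange (fun i => Nat.beq (act20 i) i) 7365 491 = true := by decide +kernel
theorem c20_16 : allRange (fun i => Nat.beq (act20 i) i) 7856 491 = true := by decide +kernel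
theorem c20_17 : allRange (fun i => Nat.beq (act20 i) i) 8347 491 = true := by decide +kernel
theorem c20_18 : allRange (fun i => Nat.beq (act20 i) i) 8838 491 = true := by decide +kernel
theorem c20_19 : allRange (fun i => Nat.beq (act20 i) i) 9329 491 = true := by decide +kernel
theorem c20_20 : allRange (fun i => Nat.beq (act20 i) i) 9820 491 = true := by decide +kernel
theorem c20_21 : allRange (fun i => Nat.beq (act20 i) i) 10311 491 = true := by decide +kernel
theorem c20_22 : allRange (fun i => Nat.beq (act20 i) i) 10802 491 = true := by decide +kernel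
theorem c20_23 : allRange (fun i => Nat.beq (act20 i) i) 11293 491 = true := by decide +kernel
theorem c20_24 : allRange (fun i => Nat.beq (act20 i) i) 11784 491 = true := by decide +kernel
theorem c20_25 : allRange (fun i => Nat.beq (act20 i) i) 12275 491 = true := by decide +kernel
theorem c20_26 : allRange (fun i => Nat.beq (act20 i) i) 12766 491 = true := by decide +kernel
theorem c20_27 : allRange (fun i => Nat.beq (act20 i) i) 13257 491 = true := by decide +kernel
theorem c20_28 : allRange (fun i => Nat.beq (act20 i) i) 13748 491 = true := by decide +kernel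
theorem c20_29 : allRange (fun i => Nat.beq (act20 i) i) 14239 491 = true := by decide +kernel
theorem c20_30 : allRange (fun i => Nat.beq (act20 i) i) 14730 491 = true := by decide +kernel
theorem c20_31 : allRange (fun i => Nat.beq (act20 i) i) 15221 491 = true := by decide +kernel
theorem c20_32 : allRange (fun i => Nat.beq (act20 i) i) 15712 491 = true := by decide +kernel
theorem c20_33 : allRange (fun i => Nat.beq (act20 i) i) 16203 491 = true := by decide +kernel
theorem c20_34 : allRange (fun i => Nat.beq (act20 i) i) 16694 491 = true := by decide +kernel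
theorem c20_35 : allRange (fun i => Nat.beq (act20 i) i) 17185 491 = true := by decide +kernel
theorem c20_36 : allRange (fun i => Nat.beq (act20 i) i) 17676 491 = true := by decide +kernel
theorem c20_37 : allRange (fun i => Nat.beq (act20 i) i) 18167 491 = true := by decide +kernel
theorem c20_38 : allRange (fun i => Nat.beq (act20 i) i) 18658 491 = true := by decide +kernel
theorem c20_39 : allRange (fun i => Nat.beq (act20 i) i) 19149 491 = true := by decide +kernel
theorem c20_40 : allRange (fun i => Nat.beq (act20 i) i) 19640 491 = true := by decide +kernel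
theorem c20_41 : allRange (fun i => Nat.beq (act20 i) i) 20131 491 = true := by decide +kernel
theorem c20_42 : allRange (fun i => Nat.beq (act20 i) i) 20622 491 = true := by decide +kernel
theorem c20_43 : allRange (fun i => Nat.beq (act20 i) i) 21113 491 = true := by decide +kernel
theorem c20_44 : allRange (fun i => Nat.beq (act20 i) i) 21604 491 = true := by decide +kernel
theorem c20_45 : allRange (fun i => Nat.beq (act20 i) i) 22095 491 = true := by decide +kernel
theorem c20_46 : allRange (fun i => Nat.beq (act20 i) i) 22586 491 = true := by decide +kernel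
theorem c20_47 : allRange (fun i => Nat.beq (act20 i) i) 23077 491 = true := by decide +kernel
theorem c20_48 : allRange (fun i => Nat.beq (act20 i) i) 23568 491 = true := by decide +kernel
theorem c20_49 : allRange (fun i => Nat.beq (act20 i) i) 24059 491 = true := by decide +kernel
theorem c20_50 : allRange (fun i => Nat.beq (act20 i) i) 24550 491 = true := by decide +kernel
theorem c20_51 : allRange (fun i => Nat.beq (act20 i) i) 25041 491 = true := by decide +kernel
theorem c20_52 : allRange (fun i => Nat.beq (act20 i) i) 25532 491 = true := by decide +kernel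
theorem c20_53 : allRange (fun i => Nat.beq (act20 i) i) 26023 491 = true := by decide +kernel
theorem c20_54 : allRange (fun i => Nat.beq (act20 i) i) 26514 491 = true := by decide +kernel
theorem c20_55 : allRange (fun i => Nat.beq (act20 i) i) 27005 491 = true := by decide +kernel
theorem c20_56 : allRange (fun i => Nat.beq (act20 i) i) 27496 491 = true := by decide +kernel
theorem c20_57 : allRange (fun i => Nat.beq (act20 i) i) 27987 491 = true := by decide +kernel
theorem c20_58 : allRange (fun i => Nat.beq (act20 i) i) 28478 491 = true := by decide +kernel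
theorem c20_59 : allRange (fun i => Nat.beq (act20 i) i) 28969 491 = true := by decide +kernel
theorem c20_60 : allRange (fun i => Nat.beq (act20 i) i) 29460 491 = true := by decide +kernel
theorem c20_61 : allRange (fun i => Nat.beq (act20 i) i) 29951 491 = true := by decide +kernel
theorem c20_62 : allRange (fun i => Nat.beq (act20 i) i) 30442 491 = true := by decide +kernel
theorem c20_63 : allRange (fun i => Nat.beq (act20 i) i) 30933 491 = true := by decide +kernel
theorem c20_64 : allRange (fun i => Nat.beq (act20 i) i) 31424 491 = true := by decide +kernel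
theorem c20_65 : allRange (fun i => Nat.beq (act20 i) i) 31915 491 = true := by decide +kernel
theorem c20_66 : allRange (fun i => Nat.beq (act20 i) i) 32406 491 = true := by decide +kernel
theorem c20_67 : allRange (fun i => Nat.beq (act20 i) i) 32897 491 = true := by decide +kernel
theorem c20_68 : allRange (fun i => Nat.beq (act20 i) i) 33388 491 = true := by decide +kernel
theorem c20_69 : allRange (fun i => Nat.beq (act20 i) i) 33879 491 = true := by decide +kernel
theorem c20_70 : allRange (fun i => Nat.beq (act20 i) i) 34370 491 = true := by decide +kernel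
theorem c20_71 : allRange (fun i => Nat.beq (act20 i) i) 34861 491 = true := by decide +kernel
theorem c20_72 : allRange (fun i => Nat.beq (act20 i) i) 35352 491 = true := by decide +kernel
theorem c20_73 : allRange (fun i => Nat.beq (act20 i) i) 35843 491 = true := by decide +kernel
theorem c20_74 : allRange (fun i => Nat.beq (act20 i) i) 36334 491 = true := by decide +kernel
theorem c20_75 : allRange (fun i => Nat.beq (act20 i) i) 36825 111 = true := by decide +kernel
theorem h20 : ∀ i, i < T.N → Tab.relActOK T D chk20 i = true := by
  intro i hi
  rw [Tab.relActOK, ← act20_eq]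
  exact (range_glue (range_of_allRange c20_0) (range_glue (range_of_allRange c20_1) (range_glue (range_of_allRange c20_2) (range_glue (range_of_allRange c20_3) (range_glue (range_of_allRange c20_4) (range_glue (range_of_allRange c20_5) (range_glue (range_of_allRange c20_6) (range_glue (range_of_allRange c20_7) (range_glue (range_of_allRange c20_8) (range_glue (range_of_allRange c20_9) (range_glue (range_of_allRange c20_10) (range_glue (range_of_allRange c20_11) (range_glue (range_of_allRange c20_12) (range_glue (range_of_allRange c20_13) (range_glue (range_of_allRange c20_14) (range_glue (range_of_allRange c20_15) (range_glue (range_of_allRange c20_16) (range_glue (range_of_allRange c20_17) (range_glue (range_of_allRange c20_18) (range_glue (range_of_allRange c20_19) (range_glue (range_of_allRange c20_20) (range_glue (range_of_allRange c20_21) (range_glue (range_of_allRange c20_22) (range_glue (range_of_allRange c20_23) (range_glue (range_of_allRange c20_24) (range_glue (range_of_allRange c20_25) (range_glue (range_of_allRange c20_26) (range_glue (range_of_allRange c20_27) (range_glue (range_of_allRange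 c20_28) (range_glue (range_of_allRange c20_29) (range_glue (range_of_allRange c20_30) (range_glue (range_of_allRange c20_31) (range_glue (range_of_allRange c20_32) (range_glue (range_of_allRange c20_33) (range_glue (range_of_allRange c20_34) (range_glue (range_of_allRange c20_35) (range_glue (range_of_allRange c20_36) (range_glue (range_of_allRange c20_37) (range_glue (range_of_allRange c20_38) (range_glue (range_of_allRange c20_39) (range_glue (range_of_allRange c20_40) (range_glue (range_of_allRange c20_41) (range_glue (range_of_allRange c20_42) (range_glue (range_of_allRange c20_43) (range_glue (range_of_allRange c20_44) (range_glue (range_of_allRange c20_45) (range_glue (range_of_allRange c20_46) (range_glue (range_of_allRange c20_47) (range_glue (range_of_allRange c20_48) (range_glue (range_of_allRange c20_49) (range_glue (range_of_allRange c20_50) (range_glue (range_of_allRange c20_51) (range_glue (range_of_allRange c20_52) (range_glue (range_of_allRange c20_53) (range_glue (range_of_allRange c20_54) (range_glue (range_of_allRange c20_55) (range_glue (range_of_allRange c20_56) (range_glue (range_of_allRange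 c20_57) (range_glue (range_of_allRange c20_58) (range_glue (range_of_allRange c20_59) (range_glue (range_of_allRange c20_60) (range_glue (range_of_allRange c20_61) (range_glue (range_of_allRange c20_62) (range_glue (range_of_allRange c20_63) (range_glue (range_of_allRange c20_64) (range_glue (range_of_allRange c20_65) (range_glue (range_of_allRange c20_66) (range_glue (range_of_allRange c20_67) (range_glue (range_of_allRange c20_68) (range_glue (range_of_allRange c20_69) (range_glue (range_of_allRange c20_70) (range_glue (range_of_allRange c20_71) (range_glue (range_of_allRange c20_72) (range_glue (range_of_allRange c20_73) (range_glue (range_of_allRange c20_74) (range_of_allRange c20_75)))))))))))))))))))))))))))))))))))))))))))))))))))))))))))))))))))))))))))) i (Nat.zero_le _) hi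

def chkAll : List (List Nat) := [chk0, chk1, chk2, chk3, chk4, chk5, chk6, chk7, chk8, chk9, chk10, chk11, chk12, chk13, chk14, chk15, chk16, chk17, chk18, chk19, chk20]
theorem hAll : ∀ w ∈ chkAll, ∀ i, i < T.N → Tab.relActOK T D w i = true := by
  intro w hw
  simp only [chkAll, List.mem_cons, List.not_mem_nil, or_false] at hw
  rcases hw with rfl | rfl | rfl | rfl | rfl | rfl | rfl | rfl | rfl | rfl | rfl | rfl | rfl | rfl | rfl | rfl | rfl | rfl | rfl | rfl | rfl
  · exact h0
  · exact h1
  · exact h2
  · exact h3
  · exact h4
  · exact h5
  · exact h6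
  · exact h7
  · exact h8
  · exact h9
  · exact h10
  · exact h11
  · exact h12
  · exact h13
  · exact h14
  · exact h15
  · exact h16
  · exact h17
  · exact h18
  · exact h19
  · exact h20
theorem hAll_lt : ∀ w ∈ chkAll, ∀ x ∈ w, x < 6 := by decide +kernel

end Cfsg.Agent.Lib.Helper4.TCD.SC3J3p2W
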