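import Cfsg.Agent.Lib.Helper4.TCD_SC3J3p3A_Acc

namespace Cfsg.Agent.Lib.Helper4.TCD.SC3J3p3A

open Cfsg.Agent.Lib.Helper4.TC

set_option maxRecDepth 100000
set_option Elab.async false

theorem c_rel_88 : allRange D.relOK 294057 2162 = true := by decide +kernel
theorem c_rel_89 : allRange D.relOK 296219 2242 = true := by decide +kernel
theorem c_rel_90 : allRange D.relOK 298461 2100 = true := by decide +kernel
theorem c_rel_91 : allRange D.relOK 300561 2203 = true := by decide +kernel
theorem c_rel_92 : allRange D.relOK 302764 2114 = true := by decide +kernel
theorem c_rel_93 : allRange D.relOK 304878 2138 = true := by decide +kernel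
theorem c_rel_94 : allRange D.relOK 307016 2161 = true := by decide +kernel
theorem c_rel_95 : allRange D.relOK 309177 2199 = true := by decide +kernel
theorem c_rel_96 : allRange D.relOK 311376 2140 = true := by decide +kernel
theorem c_rel_97 : allRange D.relOK 313516 2107 = true := by decide +kernel
theorem c_rel_98 : allRange D.relOK 315623 2093 = true := by decide +kernel
theorem c_rel_99 : allRange D.relOK 317716 2110 = true := by decide +kernel
theorem c_rel_100 : allRange D.relOK 319826 2077 = true := by decide +kernel
theorem c_rel_101 : allRange D.relOK 321903 2106 = true := by decide +kernel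
theorem c_rel_102 : allRange D.relOK 324009 2039 = true := by decide +kernel
theorem c_rel_103 : allRange D.relOK 326048 2018 = true := by decide +kernel
theorem c_rel_104 : allRange D.relOK 328066 2030 = true := by decide +kernel
theorem c_rel_105 : allRange D.relOK 330096 1987 = true := by decide +kernel
theorem c_rel_106 : allRange D.relOK 332083 2034 = true := by decide +kernel
theorem c_rel_107 : allRange D.relOK 334117 1982 = true := by decide +kernel
theorem c_rel_108 : allRange D.relOK 336099 1967 = true := by decide +kernel
theorem c_rel_109 : allRange D.relOK 338066 1989 = true := by decide +kernel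
theorem c_rel_110 : allRange D.relOK 340055 1978 = true := by decide +kernel
theorem c_rel_111 : allRange D.relOK 342033 2050 = true := by decide +kernel
theorem c_rel_112 : allRange D.relOK 344083 1877 = true := by decide +kernel
theorem c_rel_113 : allRange D.relOK 345960 1871 = true := by decide +kernel
theorem c_rel_114 : allRange D.relOK 347831 1910 = true := by decide +kernel
theorem c_rel_115 : allRange D.relOK 349741 1910 = true := by decide +kernel
theorem c_rel_116 : allRange D.relOK 351651 1880 = true := by decide +kernel
theorem c_rel_117 : allRange D.relOK 353531 1835 = true := by decide +kernel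
theorem c_rel_118 : allRange D.relOK 355366 1846 = true := by decide +kernel
theorem c_rel_119 : allRange D.relOK 357212 1792 = true := by decide +kernel
theorem c_rel_120 : allRange D.relOK 359004 1799 = true := by decide +kernel
theorem c_rel_121 : allRange D.relOK 360803 1752 = true := by decide +kernel
theorem c_rel_122 : allRange D.relOK 362555 1740 = true := by decide +kernel
theorem c_rel_123 : allRange D.relOK 364295 1720 = true := by decide +kernel
theorem c_rel_124 : allRange D.relOK 366015 1684 = true := by decide +kernel
theorem c_rel_125 : allRange D.relOK 367699 2152 = true := by decide +kernel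
theorem c_rel_126 : allRange D.relOK 369851 4814 = true := by decide +kernel
theorem c_rel_127 : allRange D.relOK 374665 4795 = true := by decide +kernel
theorem c_rel_128 : allRange D.relOK 379460 4853 = true := by decide +kernel
theorem c_rel_129 : allRange D.relOK 384313 4168 = true := by decide +kernel
theorem c_fin_0 : allGrid (T.finOK D) 0 666 18 = true := by decide +kernel
theorem c_fin_1 : allGrid (T.finOK D) 666 666 18 = true := by decide +kernel
theorem c_fin_2 : allGrid (T.finOK D) 1332 666 18 = true := by decide +kernel
theorem c_fin_3 : allGrid (T.finOK D) 1998 666 18 = true := by decide +kernel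
theorem c_fin_4 : allGrid (T.finOK D) 2664 666 18 = true := by decide +kernel
theorem c_fin_5 : allGrid (T.finOK D) 3330 666 18 = true := by decide +kernel
theorem c_fin_6 : allGrid (T.finOK D) 3996 666 18 = true := by decide +kernel
theorem c_fin_7 : allGrid (T.finOK D) 4662 666 18 = true := by decide +kernel
theorem c_fin_8 : allGrid (T.finOK D) 5328 666 18 = true := by decide +kernel
theorem c_fin_9 : allGrid (T.finOK D) 5994 666 18 = true := by decide +kernel
theorem c_fin_10 : allGrid (T.finOK D) 6660 666 18 = true := by decide +kernel
theorem c_fin_11 : allGrid (T.finOK D) 7326 666 18 = true := by decide +kernel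
theorem c_fin_12 : allGrid (T.finOK D) 7992 666 18 = true := by decide +kernel
theorem c_fin_13 : allGrid (T.finOK D) 8658 666 18 = true := by decide +kernel
theorem c_fin_14 : allGrid (T.finOK D) 9324 666 18 = true := by decide +kernel
theorem c_fin_15 : allGrid (T.finOK D) 9990 666 18 = true := by decide +kernel
theorem c_fin_16 : allGrid (T.finOK D) 10656 666 18 = true := by decide +kernel
theorem c_fin_17 : allGrid (T.finOK D) 11322 666 18 = true := by decide +kernel
theorem c_fin_18 : allGrid (T.finOK D) 11988 666 18 = true := by decide +kernel
theorem c_fin_19 : allGrid (T.finOK D) 12654 666 18 = true := by decide +kernel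
theorem c_fin_20 : allGrid (T.finOK D) 13320 666 18 = true := by decide +kernel
theorem c_fin_21 : allGrid (T.finOK D) 13986 666 18 = true := by decide +kernel
theorem c_fin_22 : allGrid (T.finOK D) 14652 666 18 = true := by decide +kernel
theorem c_fin_23 : allGrid (T.finOK D) 15318 666 18 = true := by decide +kernel
theorem c_fin_24 : allGrid (T.finOK D) 15984 666 18 = true := by decide +kernel
theorem c_fin_25 : allGrid (T.finOK D) 16650 666 18 = true := by decide +kernel
theorem c_fin_26 : allGrid (T.finOK D) 17316 666 18 = true := by decide +kernel
theorem c_fin_27 : allGrid (T.finOK D) 17982 666 18 = true := by decide +kernel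
theorem c_fin_28 : allGrid (T.finOK D) 18648 666 18 = true := by decide +kernel

end Cfsg.Agent.Lib.Helper4.TCD.SC3J3p3A
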