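import Cfsg.Agent.Lib.Helper4.TCD_SC3J3p3A_Acc

namespace Cfsg.Agent.Lib.Helper4.TCD.SC3J3p3A

open Cfsg.Agent.Lib.Helper4.TC

set_option maxRecDepth 100000
set_option Elab.async false

theorem c_fin_29 : allGrid (T.finOK D) 19314 666 18 = true := by decide +kernel
theorem c_fin_30 : allGrid (T.finOK D) 19980 666 18 = true := by decide +kernel
theorem c_fin_31 : allGrid (T.finOK D) 20646 666 18 = true := by decide +kernel
theorem c_fin_32 : allGrid (T.finOK D) 21312 666 18 = true := by decide +kernel
theorem c_fin_33 : allGrid (T.finOK D) 21978 666 18 = true := by decide +kernel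
theorem c_fin_34 : allGrid (T.finOK D) 22644 666 18 = true := by decide +kernel
theorem c_fin_35 : allGrid (T.finOK D) 23310 666 18 = true := by decide +kernel
theorem c_fin_36 : allGrid (T.finOK D) 23976 666 18 = true := by decide +kernel
theorem c_fin_37 : allGrid (T.finOK D) 24642 666 18 = true := by decide +kernel
theorem c_fin_38 : allGrid (T.finOK D) 25308 666 18 = true := by decide +kernel
theorem c_fin_39 : allGrid (T.finOK D) 25974 666 18 = true := by decide +kernel
theorem c_fin_40 : allGrid (T.finOK D) 26640 666 18 = true := by decide +kernel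
theorem c_fin_41 : allGrid (T.finOK D) 27306 666 18 = true := by decide +kernel
theorem c_fin_42 : allGrid (T.finOK D) 27972 666 18 = true := by decide +kernel
theorem c_fin_43 : allGrid (T.finOK D) 28638 666 18 = true := by decide +kernel
theorem c_fin_44 : allGrid (T.finOK D) 29304 666 18 = true := by decide +kernel
theorem c_fin_45 : allGrid (T.finOK D) 29970 666 18 = true := by decide +kernel
theorem c_fin_46 : allGrid (T.finOK D) 30636 666 18 = true := by decide +kernel
theorem c_fin_47 : allGrid (T.finOK D) 31302 666 18 = true := by decide +kernel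
theorem c_fin_48 : allGrid (T.finOK D) 31968 666 18 = true := by decide +kernel
theorem c_fin_49 : allGrid (T.finOK D) 32634 666 18 = true := by decide +kernel
theorem c_fin_50 : allGrid (T.finOK D) 33300 666 18 = true := by decide +kernel
theorem c_fin_51 : allGrid (T.finOK D) 33966 666 18 = true := by decide +kernel
theorem c_fin_52 : allGrid (T.finOK D) 34632 666 18 = true := by decide +kernel
theorem c_fin_53 : allGrid (T.finOK D) 35298 666 18 = true := by decide +kernel
theorem c_fin_54 : allGrid (T.finOK D) 35964 666 18 = true := by decide +kernel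
theorem c_fin_55 : allGrid (T.finOK D) 36630 306 18 = true := by decide +kernel
theorem c_perm_0 : allGrid (T.permOK1 D) 0 1666 18 = true := by decide +kernel
theorem c_perm_1 : allGrid (T.permOK1 D) 1666 1666 18 = true := by decide +kernel
theorem c_perm_2 : allGrid (T.permOK1 D) 3332 1666 18 = true := by decide +kernel
theorem c_perm_3 : allGrid (T.permOK1 D) 4998 1666 18 = true := by decide +kernel
theorem c_perm_4 : allGrid (T.permOK1 D) 6664 1666 18 = true := by decide +kernel
theorem c_perm_5 : allGrid (T.permOK1 D) 8330 1666 18 = true := by decide +kernel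
theorem c_perm_6 : allGrid (T.permOK1 D) 9996 1666 18 = true := by decide +kernel
theorem c_perm_7 : allGrid (T.permOK1 D) 11662 1666 18 = true := by decide +kernel
theorem c_perm_8 : allGrid (T.permOK1 D) 13328 1666 18 = true := by decide +kernel
theorem c_perm_9 : allGrid (T.permOK1 D) 14994 1666 18 = true := by decide +kernel
theorem c_perm_10 : allGrid (T.permOK1 D) 16660 1666 18 = true := by decide +kernel
theorem c_perm_11 : allGrid (T.permOK1 D) 18326 1666 18 = true := by decide +kernel
theorem c_perm_12 : allGrid (T.permOK1 D) 19992 1666 18 = true := by decide +kernel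
theorem c_perm_13 : allGrid (T.permOK1 D) 21658 1666 18 = true := by decide +kernel
theorem c_perm_14 : allGrid (T.permOK1 D) 23324 1666 18 = true := by decide +kernel
theorem c_perm_15 : allGrid (T.permOK1 D) 24990 1666 18 = true := by decide +kernel
theorem c_perm_16 : allGrid (T.permOK1 D) 26656 1666 18 = true := by decide +kernel
theorem c_perm_17 : allGrid (T.permOK1 D) 28322 1666 18 = true := by decide +kernel
theorem c_perm_18 : allGrid (T.permOK1 D) 29988 1666 18 = true := by decide +kernel
theorem c_perm_19 : allGrid (T.permOK1 D) 31654 1666 18 = true := by decide +kernel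
theorem c_perm_20 : allGrid (T.permOK1 D) 33320 1666 18 = true := by decide +kernel
theorem c_perm_21 : allGrid (T.permOK1 D) 34986 1666 18 = true := by decide +kernel
theorem c_perm_22 : allGrid (T.permOK1 D) 36652 284 18 = true := by decide +kernel
theorem c_act0_0 : allRange (fun i => Nat.beq (actR0 i) i) 0 3529 = true := by decide +kernel

end Cfsg.Agent.Lib.Helper4.TCD.SC3J3p3A
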