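import Cfsg.Agent.Lib.Helper4.TCD_SC3J3p3A_Acc

namespace Cfsg.Agent.Lib.Helper4.TCD.SC3J3p3A

open Cfsg.Agent.Lib.Helper4.TC

set_option maxRecDepth 100000
set_option Elab.async false

theorem c_act20_0 : allRange (fun i => Nat.beq (actR20 i) i) 0 15000 = true := by decide +kernel
theorem c_act20_1 : allRange (fun i => Nat.beq (actR20 i) i) 15000 15000 = true := by decide +kernel
theorem c_act20_2 : allRange (fun i => Nat.beq (actR20 i) i) 30000 6936 = true := by decide +kernel
theorem c_act21_0 : allRange (fun i => Nat.beq (actR21 i) i) 0 15000 = true := by decide +kernel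
theorem c_act21_1 : allRange (fun i => Nat.beq (actR21 i) i) 15000 15000 = true := by decide +kernel
theorem c_act21_2 : allRange (fun i => Nat.beq (actR21 i) i) 30000 6936 = true := by decide +kernel
theorem c_act22_0 : allRange (fun i => Nat.beq (actR22 i) i) 0 15000 = true := by decide +kernel
theorem c_act22_1 : allRange (fun i => Nat.beq (actR22 i) i) 15000 15000 = true := by decide +kernel
theorem c_act22_2 : allRange (fun i => Nat.beq (actR22 i) i) 30000 6936 = true := by decide +kernel
theorem c_act23_0 : allRange (fun i => Nat.beq (actR23 i) i) 0 15000 = true := by decide +kernel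
theorem c_act23_1 : allRange (fun i => Nat.beq (actR23 i) i) 15000 15000 = true := by decide +kernel
theorem c_act23_2 : allRange (fun i => Nat.beq (actR23 i) i) 30000 6936 = true := by decide +kernel
theorem c_act24_0 : allRange (fun i => Nat.beq (actR24 i) i) 0 15000 = true := by decide +kernel
theorem c_act24_1 : allRange (fun i => Nat.beq (actR24 i) i) 15000 15000 = true := by decide +kernel
theorem c_act24_2 : allRange (fun i => Nat.beq (actR24 i) i) 30000 6936 = true := by decide +kernel
theorem c_act25_0 : allRange (fun i => Nat.beq (actR25 i) i) 0 15000 = true := by decide +kernel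
theorem c_act25_1 : allRange (fun i => Nat.beq (actR25 i) i) 15000 15000 = true := by decide +kernel
theorem c_act25_2 : allRange (fun i => Nat.beq (actR25 i) i) 30000 6936 = true := by decide +kernel
theorem c_act26_0 : allRange (fun i => Nat.beq (actR26 i) i) 0 15000 = true := by decide +kernel
theorem c_act26_1 : allRange (fun i => Nat.beq (actR26 i) i) 15000 15000 = true := by decide +kernel
theorem c_act26_2 : allRange (fun i => Nat.beq (actR26 i) i) 30000 6936 = true := by decide +kernel
theorem c_act27_0 : allRange (fun i => Nat.beq (actR27 i) i) 0 15000 = true := by decide +kernel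
theorem c_act27_1 : allRange (fun i => Nat.beq (actR27 i) i) 15000 15000 = true := by decide +kernel
theorem c_act27_2 : allRange (fun i => Nat.beq (actR27 i) i) 30000 6936 = true := by decide +kernel
theorem c_act28_0 : allRange (fun i => Nat.beq (actR28 i) i) 0 15000 = true := by decide +kernel
theorem c_act28_1 : allRange (fun i => Nat.beq (actR28 i) i) 15000 15000 = true := by decide +kernel
theorem c_act28_2 : allRange (fun i => Nat.beq (actR28 i) i) 30000 6936 = true := by decide +kernel
theorem c_act29_0 : allRange (fun i => Nat.beq (actR29 i) i) 0 15000 = true := by decide +kernel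
theorem c_act29_1 : allRange (fun i => Nat.beq (actR29 i) i) 15000 15000 = true := by decide +kernel
theorem c_act29_2 : allRange (fun i => Nat.beq (actR29 i) i) 30000 6936 = true := by decide +kernel
theorem c_act30_0 : allRange (fun i => Nat.beq (actR30 i) i) 0 15000 = true := by decide +kernel
theorem c_act30_1 : allRange (fun i => Nat.beq (actR30 i) i) 15000 15000 = true := by decide +kernel
theorem c_act30_2 : allRange (fun i => Nat.beq (actR30 i) i) 30000 6936 = true := by decide +kernel
theorem c_act31_0 : allRange (fun i => Nat.beq (actR31 i) i) 0 15000 = true := by decide +kernel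
theorem c_act31_1 : allRange (fun i => Nat.beq (actR31 i) i) 15000 15000 = true := by decide +kernel
theorem c_act31_2 : allRange (fun i => Nat.beq (actR31 i) i) 30000 6936 = true := by decide +kernel
theorem c_act32_0 : allRange (fun i => Nat.beq (actR32 i) i) 0 15000 = true := by decide +kernel
theorem c_act32_1 : allRange (fun i => Nat.beq (actR32 i) i) 15000 15000 = true := by decide +kernel
theorem c_act32_2 : allRange (fun i => Nat.beq (actR32 i) i) 30000 6936 = true := by decide +kernel
theorem c_act33_0 : allRange (fun i => Nat.beq (actR33 i) i) 0 3529 = true := by decide +kernel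
theorem c_act33_1 : allRange (fun i => Nat.beq (actR33 i) i) 3529 3529 = true := by decide +kernel
theorem c_act33_2 : allRange (fun i => Nat.beq (actR33 i) i) 7058 3529 = true := by decide +kernel
theorem c_act33_3 : allRange (fun i => Nat.beq (actR33 i) i) 10587 3529 = true := by decide +kernel
theorem c_act33_4 : allRange (fun i => Nat.beq (actR33 i) i) 14116 3529 = true := by decide +kernel
theorem c_act33_5 : allRange (fun i => Nat.beq (actR33 i) i) 17645 3529 = true := by decide +kernel
theorem c_act33_6 : allRange (fun i => Nat.beq (actR33 i) i) 21174 3529 = true := by decide +kernel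
theorem c_act33_7 : allRange (fun i => Nat.beq (actR33 i) i) 24703 3529 = true := by decide +kernel
theorem c_act33_8 : allRange (fun i => Nat.beq (actR33 i) i) 28232 3529 = true := by decide +kernel
theorem c_act33_9 : allRange (fun i => Nat.beq (actR33 i) i) 31761 3529 = true := by decide +kernel
theorem c_act33_10 : allRange (fun i => Nat.beq (actR33 i) i) 35290 1646 = true := by decide +kernel
theorem c_act34_0 : allRange (fun i => Nat.beq (actR34 i) i) 0 30000 = true := by decide +kernel
theorem c_act34_1 : allRange (fun i => Nat.beq (actR34 i) i) 30000 6936 = true := by decide +kernel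
theorem c_act35_0 : allRange (fun i => Nat.beq (actR35 i) i) 0 3750 = true := by decide +kernel
theorem c_act35_1 : allRange (fun i => Nat.beq (actR35 i) i) 3750 3750 = true := by decide +kernel
theorem c_act35_2 : allRange (fun i => Nat.beq (actR35 i) i) 7500 3750 = true := by decide +kernel
theorem c_act35_3 : allRange (fun i => Nat.beq (actR35 i) i) 11250 3750 = true := by decide +kernel
theorem c_act35_4 : allRange (fun i => Nat.beq (actR35 i) i) 15000 3750 = true := by decide +kernel
theorem c_act35_5 : allRange (fun i => Nat.beq (actR35 i) i) 18750 3750 = true := by decide +kernel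

end Cfsg.Agent.Lib.Helper4.TCD.SC3J3p3A
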