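import Cfsg.Agent.Lib.Helper4.TCD_SC3J3p3A_Acc

namespace Cfsg.Agent.Lib.Helper4.TCD.SC3J3p3A

open Cfsg.Agent.Lib.Helper4.TC

set_option maxRecDepth 100000
set_option Elab.async false

theorem c_act35_6 : allRange (fun i => Nat.beq (actR35 i) i) 22500 3750 = true := by decide +kernel
theorem c_act35_7 : allRange (fun i => Nat.beq (actR35 i) i) 26250 3750 = true := by decide +kernel
theorem c_act35_8 : allRange (fun i => Nat.beq (actR35 i) i) 30000 3750 = true := by decide +kernel
theorem c_act35_9 : allRange (fun i => Nat.beq (actR35 i) i) 33750 3186 = true := by decide +kernel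
theorem c_act36_0 : allRange (fun i => Nat.beq (actR36 i) i) 0 3333 = true := by decide +kernel
theorem c_act36_1 : allRange (fun i => Nat.beq (actR36 i) i) 3333 3333 = true := by decide +kernel
theorem c_act36_2 : allRange (fun i => Nat.beq (actR36 i) i) 6666 3333 = true := by decide +kernel
theorem c_act36_3 : allRange (fun i => Nat.beq (actR36 i) i) 9999 3333 = true := by decide +kernel
theorem c_act36_4 : allRange (fun i => Nat.beq (actR36 i) i) 13332 3333 = true := by decide +kernel
theorem c_act36_5 : allRange (fun i => Nat.beq (actR36 i) i) 16665 3333 = true := by decide +kernel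
theorem c_act36_6 : allRange (fun i => Nat.beq (actR36 i) i) 19998 3333 = true := by decide +kernel
theorem c_act36_7 : allRange (fun i => Nat.beq (actR36 i) i) 23331 3333 = true := by decide +kernel
theorem c_act36_8 : allRange (fun i => Nat.beq (actR36 i) i) 26664 3333 = true := by decide +kernel
theorem c_act36_9 : allRange (fun i => Nat.beq (actR36 i) i) 29997 3333 = true := by decide +kernel
theorem c_act36_10 : allRange (fun i => Nat.beq (actR36 i) i) 33330 3333 = true := by decide +kernel
theorem c_act36_11 : allRange (fun i => Nat.beq (actR36 i) i) 36663 273 = true := by decide +kernel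
theorem c_act37_0 : allRange (fun i => Nat.beq (actR37 i) i) 0 12000 = true := by decide +kernel
theorem c_act37_1 : allRange (fun i => Nat.beq (actR37 i) i) 12000 12000 = true := by decide +kernel
theorem c_act37_2 : allRange (fun i => Nat.beq (actR37 i) i) 24000 12000 = true := by decide +kernel
theorem c_act37_3 : allRange (fun i => Nat.beq (actR37 i) i) 36000 936 = true := by decide +kernel
theorem c_act38_0 : allRange (fun i => Nat.beq (actR38 i) i) 0 4000 = true := by decide +kernel
theorem c_act38_1 : allRange (fun i => Nat.beq (actR38 i) i) 4000 4000 = true := by decide +kernel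
theorem c_act38_2 : allRange (fun i => Nat.beq (actR38 i) i) 8000 4000 = true := by decide +kernel
theorem c_act38_3 : allRange (fun i => Nat.beq (actR38 i) i) 12000 4000 = true := by decide +kernel
theorem c_act38_4 : allRange (fun i => Nat.beq (actR38 i) i) 16000 4000 = true := by decide +kernel
theorem c_act38_5 : allRange (fun i => Nat.beq (actR38 i) i) 20000 4000 = true := by decide +kernel
theorem c_act38_6 : allRange (fun i => Nat.beq (actR38 i) i) 24000 4000 = true := by decide +kernel
theorem c_act38_7 : allRange (fun i => Nat.beq (actR38 i) i) 28000 4000 = true := by decide +kernel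
theorem c_act38_8 : allRange (fun i => Nat.beq (actR38 i) i) 32000 4000 = true := by decide +kernel
theorem c_act38_9 : allRange (fun i => Nat.beq (actR38 i) i) 36000 936 = true := by decide +kernel
theorem c_act39_0 : allRange (fun i => Nat.beq (actR39 i) i) 0 3333 = true := by decide +kernel
theorem c_act39_1 : allRange (fun i => Nat.beq (actR39 i) i) 3333 3333 = true := by decide +kernel
theorem c_act39_2 : allRange (fun i => Nat.beq (actR39 i) i) 6666 3333 = true := by decide +kernel
theorem c_act39_3 : allRange (fun i => Nat.beq (actR39 i) i) 9999 3333 = true := by decide +kernel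
theorem c_act39_4 : allRange (fun i => Nat.beq (actR39 i) i) 13332 3333 = true := by decide +kernel
theorem c_act39_5 : allRange (fun i => Nat.beq (actR39 i) i) 16665 3333 = true := by decide +kernel
theorem c_act39_6 : allRange (fun i => Nat.beq (actR39 i) i) 19998 3333 = true := by decide +kernel
theorem c_act39_7 : allRange (fun i => Nat.beq (actR39 i) i) 23331 3333 = true := by decide +kernel
theorem c_act39_8 : allRange (fun i => Nat.beq (actR39 i) i) 26664 3333 = true := by decide +kernel
theorem c_act39_9 : allRange (fun i => Nat.beq (actR39 i) i) 29997 3333 = true := by decide +kernel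
theorem c_act39_10 : allRange (fun i => Nat.beq (actR39 i) i) 33330 3333 = true := by decide +kernel
theorem c_act39_11 : allRange (fun i => Nat.beq (actR39 i) i) 36663 273 = true := by decide +kernel

end Cfsg.Agent.Lib.Helper4.TCD.SC3J3p3A
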