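import Cfsg.Agent.Lib.Helper4.TCD_C3J3A_Acc
import Cfsg.Agent.Lib.Helper4.TC13

namespace Cfsg.Agent.Lib.Helper4.TCD.SC3J3p3W

open Cfsg.Agent.Lib.Helper4.TC Cfsg.Agent.Lib.Helper4.TCD.C3J3A

set_option maxRecDepth 100000
set_option Elab.async false

def chk0 : List Nat := [0, 0, 0, 0, 0, 0, 0, 0, 0, 0, 0, 0, 0, 0, 0, 0, 0]
noncomputable def act0 (i : Nat) : Nat := col1 (col1 (col1 (col1 (col1 (col1 (col1 (col1 (col1 (col1 (col1 (col1 (col1 (col1 (col1 (col1 (col1 (i)))))))))))))))))
theorem act0_eq (i : Nat) : act0 i = Tab.act T D chk0 i := rfl
theorem c0_0 : allRange (fun i => Nat.beq (act0 i) i) 0 3157 = true := by decide +kernel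
theorem c0_1 : allRange (fun i => Nat.beq (act0 i) i) 3157 3157 = true := by decide +kernel
theorem c0_2 : allRange (fun i => Nat.beq (act0 i) i) 6314 3157 = true := by decide +kernel
theorem c0_3 : allRange (fun i => Nat.beq (act0 i) i) 9471 3157 = true := by decide +kernel
theorem c0_4 : allRange (fun i => Nat.beq (act0 i) i) 12628 3157 = true := by decide +kernel
theorem c0_5 : allRange (fun i => Nat.beq (act0 i) i) 15785 3157 = true := by decide +kernel
theorem c0_6 : allRange (fun i => Nat.beq (act0 i) i) 18942 3157 = true := by decide +kernel
theorem c0_7 : allRange (fun i => Nat.beq (act0 i) i) 22099 3157 = true := by decide +kernel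
theorem c0_8 : allRange (fun i => Nat.beq (act0 i) i) 25256 3157 = true := by decide +kernel
theorem c0_9 : allRange (fun i => Nat.beq (act0 i) i) 28413 3157 = true := by decide +kernel
theorem c0_10 : allRange (fun i => Nat.beq (act0 i) i) 31570 3157 = true := by decide +kernel
theorem c0_11 : allRange (fun i => Nat.beq (act0 i) i) 34727 2209 = true := by decide +kernel
theorem h0 : ∀ i, i < T.N → Tab.relActOK T D chk0 i = true := by
  intro i hi
  rw [Tab.relActOK, ← act0_eq]
  exact (range_glue (range_of_allRange c0_0) (range_glue (range_of_allRange c0_1) (range_glue (range_of_allRange c0_2) (range_glue (range_of_allRange c0_3) (range_glue (range_of_allRange c0_4) (range_glue (range_of_allRange c0_5) (range_glue (range_of_allRange c0_6) (range_glue (range_of_allRange c0_7) (range_glue (range_of_allRange c0_8) (range_glue (range_of_allRange c0_9) (range_glue (range_of_allRange c0_10) (range_of_allRange c0_11)))))))))))) i (Nat.zero_le _) hi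

def chk1 : List Nat := [2, 2]
noncomputable def act1 (i : Nat) : Nat := col3 (col3 (i))
theorem act1_eq (i : Nat) : act1 i = Tab.act T D chk1 i := rfl
theorem c1_0 : allRange (fun i => Nat.beq (act1 i) i) 0 15000 = true := by decide +kernel
theorem c1_1 : allRange (fun i => Nat.beq (act1 i) i) 15000 15000 = true := by decide +kernel
theorem c1_2 : allRange (fun i => Nat.beq (act1 i) i) 30000 6936 = true := by decide +kernel
theorem h1 : ∀ i, i < T.N → Tab.relActOK T D chk1 i = true := by
  intro i hi
  rw [Tab.relActOK, ← act1_eq]
  exact (range_glue (range_of_allRange c1_0) (range_glue (range_of_allRange c1_1) (range_of_allRange c1_2))) i (Nat.zero_le _) hi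

def chk2 : List Nat := [4, 4, 4, 4, 4, 4, 4, 4]
noncomputable def act2 (i : Nat) : Nat := col5 (col5 (col5 (col5 (col5 (col5 (col5 (col5 (i))))))))
theorem act2_eq (i : Nat) : act2 i = Tab.act T D chk2 i := rfl
theorem c2_0 : allRange (fun i => Nat.beq (act2 i) i) 0 6000 = true := by decide +kernel
theorem c2_1 : allRange (fun i => Nat.beq (act2 i) i) 6000 6000 = true := by decide +kernel
theorem c2_2 : allRange (fun i => Nat.beq (act2 i) i) 12000 6000 = true := by decide +kernel
theorem c2_3 : allRange (fun i => Nat.beq (act2 i) i) 18000 6000 = true := by decide +kernel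
theorem c2_4 : allRange (fun i => Nat.beq (act2 i) i) 24000 6000 = true := by decide +kernel
theorem c2_5 : allRange (fun i => Nat.beq (act2 i) i) 30000 6000 = true := by decide +kernel
theorem c2_6 : allRange (fun i => Nat.beq (act2 i) i) 36000 936 = true := by decide +kernel
theorem h2 : ∀ i, i < T.N → Tab.relActOK T D chk2 i = true := by
  intro i hi
  rw [Tab.relActOK, ← act2_eq]
  exact (range_glue (range_of_allRange c2_0) (range_glue (range_of_allRange c2_1) (range_glue (range_of_allRange c2_2) (range_glue (range_of_allRange c2_3) (range_glue (range_of_allRange c2_4) (range_glue (range_of_allRange c2_5) (range_of_allRange c2_6))))))) i (Nat.zero_le _) hi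

def chk3 : List Nat := [2, 4, 2, 4, 4, 2, 4, 2, 5, 2, 5, 5, 2, 5]
noncomputable def act3 (i : Nat) : Nat := col3 (col5 (col3 (col5 (col5 (col3 (col5 (col3 (col4 (col3 (col4 (col4 (col3 (col4 (i))))))))))))))
theorem act3_eq (i : Nat) : act3 i = Tab.act T D chk3 i := rfl
theorem c3_0 : allRange (fun i => Nat.beq (act3 i) i) 0 3750 = true := by decide +kernel
theorem c3_1 : allRange (fun i => Nat.beq (act3 i) i) 3750 3750 = true := by decide +kernel
theorem c3_2 : allRange (fun i => Nat.beq (act3 i) i) 7500 3750 = true := by decide +kernel
theorem c3_3 : allRange (fun i => Nat.beq (act3 i) i) 11250 3750 = true := by decide +kernel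
theorem c3_4 : allRange (fun i => Nat.beq (act3 i) i) 15000 3750 = true := by decide +kernel
theorem c3_5 : allRange (fun i => Nat.beq (act3 i) i) 18750 3750 = true := by decide +kernel
theorem c3_6 : allRange (fun i => Nat.beq (act3 i) i) 22500 3750 = true := by decide +kernel
theorem c3_7 : allRange (fun i => Nat.beq (act3 i) i) 26250 3750 = true := by decide +kernel
theorem c3_8 : allRange (fun i => Nat.beq (act3 i) i) 30000 3750 = true := by decide +kernel
theorem c3_9 : allRange (fun i => Nat.beq (act3 i) i) 33750 3186 = true := by decide +kernel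
theorem h3 : ∀ i, i < T.N → Tab.relActOK T D chk3 i = true := by
  intro i hi
  rw [Tab.relActOK, ← act3_eq]
  exact (range_glue (range_of_allRange c3_0) (range_glue (range_of_allRange c3_1) (range_glue (range_of_allRange c3_2) (range_glue (range_of_allRange c3_3) (range_glue (range_of_allRange c3_4) (range_glue (range_of_allRange c3_5) (range_glue (range_of_allRange c3_6) (range_glue (range_of_allRange c3_7) (range_glue (range_of_allRange c3_8) (range_of_allRange c3_9)))))))))) i (Nat.zero_le _) hi

def chk4 : List Nat := [0, 2, 4, 4, 2, 4, 0, 4, 2, 4, 4, 2, 4, 1, 4]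
noncomputable def act4 (i : Nat) : Nat := col1 (col3 (col5 (col5 (col3 (col5 (col1 (col5 (col3 (col5 (col5 (col3 (col5 (col0 (col5 (i)))))))))))))))
theorem act4_eq (i : Nat) : act4 i = Tab.act T D chk4 i := rfl
theorem c4_0 : allRange (fun i => Nat.beq (act4 i) i) 0 3529 = true := by decide +kernel
theorem c4_1 : allRange (fun i => Nat.beq (act4 i) i) 3529 3529 = true := by decide +kernel
theorem c4_2 : allRange (fun i => Nat.beq (act4 i) i) 7058 3529 = true := by decide +kernel
theorem c4_3 : allRange (fun i => Nat.beq (act4 i) i) 10587 3529 = true := by decide +kernel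
theorem c4_4 : allRange (fun i => Nat.beq (act4 i) i) 14116 3529 = true := by decide +kernel
theorem c4_5 : allRange (fun i => Nat.beq (act4 i) i) 17645 3529 = true := by decide +kernel
theorem c4_6 : allRange (fun i => Nat.beq (act4 i) i) 21174 3529 = true := by decide +kernel
theorem c4_7 : allRange (fun i => Nat.beq (act4 i) i) 24703 3529 = true := by decide +kernel
theorem c4_8 : allRange (fun i => Nat.beq (act4 i) i) 28232 3529 = true := by decide +kernel
theorem c4_9 : allRange (fun i => Nat.beq (act4 i) i) 31761 3529 = true := by decide +kernel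
theorem c4_10 : allRange (fun i => Nat.beq (act4 i) i) 35290 1646 = true := by decide +kernel
theorem h4 : ∀ i, i < T.N → Tab.relActOK T D chk4 i = true := by
  intro i hi
  rw [Tab.relActOK, ← act4_eq]
  exact (range_glue (range_of_allRange c4_0) (range_glue (range_of_allRange c4_1) (range_glue (range_of_allRange c4_2) (range_glue (range_of_allRange c4_3) (range_glue (range_of_allRange c4_4) (range_glue (range_of_allRange c4_5) (range_glue (range_of_allRange c4_6) (range_glue (range_of_allRange c4_7) (range_glue (range_of_allRange c4_8) (range_glue (range_of_allRange c4_9) (range_of_allRange c4_10))))))))))) i (Nat.zero_le _) hi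

def chk5 : List Nat := [0, 0, 4, 4, 2, 4, 4, 2, 4, 0, 4, 2, 4, 4, 2]
noncomputable def act5 (i : Nat) : Nat := col1 (col1 (col5 (col5 (col3 (col5 (col5 (col3 (col5 (col1 (col5 (col3 (col5 (col5 (col3 (i)))))))))))))))
theorem act5_eq (i : Nat) : act5 i = Tab.act T D chk5 i := rfl
theorem c5_0 : allRange (fun i => Nat.beq (act5 i) i) 0 3529 = true := by decide +kernel
theorem c5_1 : allRange (fun i => Nat.beq (act5 i) i) 3529 3529 = true := by decide +kernel
theorem c5_2 : allRange (fun i => Nat.beq (act5 i) i) 7058 3529 = true := by decide +kernel
theorem c5_3 : allRange (fun i => Nat.beq (act5 i) i) 10587 3529 = true := by decide +kernel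
theorem c5_4 : allRange (fun i => Nat.beq (act5 i) i) 14116 3529 = true := by decide +kernel
theorem c5_5 : allRange (fun i => Nat.beq (act5 i) i) 17645 3529 = true := by decide +kernel
theorem c5_6 : allRange (fun i => Nat.beq (act5 i) i) 21174 3529 = true := by decide +kernel
theorem c5_7 : allRange (fun i => Nat.beq (act5 i) i) 24703 3529 = true := by decide +kernel
theorem c5_8 : allRange (fun i => Nat.beq (act5 i) i) 28232 3529 = true := by decide +kernel
theorem c5_9 : allRange (fun i => Nat.beq (act5 i) i) 31761 3529 = true := by decide +kernel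
theorem c5_10 : allRange (fun i => Nat.beq (act5 i) i) 35290 1646 = true := by decide +kernel
theorem h5 : ∀ i, i < T.N → Tab.relActOK T D chk5 i = true := by
  intro i hi
  rw [Tab.relActOK, ← act5_eq]
  exact (range_glue (range_of_allRange c5_0) (range_glue (range_of_allRange c5_1) (range_glue (range_of_allRange c5_2) (range_glue (range_of_allRange c5_3) (range_glue (range_of_allRange c5_4) (range_glue (range_of_allRange c5_5) (range_glue (range_of_allRange c5_6) (range_glue (range_of_allRange c5_7) (range_glue (range_of_allRange c5_8) (range_glue (range_of_allRange c5_9) (range_of_allRange c5_10))))))))))) i (Nat.zero_le _) hi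

def chk6 : List Nat := [0, 0, 2, 0, 5, 5, 2, 4, 0, 2, 0, 2, 1, 2, 4, 2]
noncomputable def act6 (i : Nat) : Nat := col1 (col1 (col3 (col1 (col4 (col4 (col3 (col5 (col1 (col3 (col1 (col3 (col0 (col3 (col5 (col3 (i))))))))))))))))
theorem act6_eq (i : Nat) : act6 i = Tab.act T D chk6 i := rfl
theorem c6_0 : allRange (fun i => Nat.beq (act6 i) i) 0 3333 = true := by decide +kernel
theorem c6_1 : allRange (fun i => Nat.beq (act6 i) i) 3333 3333 = true := by decide +kernel
theorem c6_2 : allRange (fun i => Nat.beq (act6 i) i) 6666 3333 = true := by decide +kernel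
theorem c6_3 : allRange (fun i => Nat.beq (act6 i) i) 9999 3333 = true := by decide +kernel
theorem c6_4 : allRange (fun i => Nat.beq (act6 i) i) 13332 3333 = true := by decide +kernel
theorem c6_5 : allRange (fun i => Nat.beq (act6 i) i) 16665 3333 = true := by decide +kernel
theorem c6_6 : allRange (fun i => Nat.beq (act6 i) i) 19998 3333 = true := by decide +kernel
theorem c6_7 : allRange (fun i => Nat.beq (act6 i) i) 23331 3333 = true := by decide +kernel
theorem c6_8 : allRange (fun i => Nat.beq (act6 i) i) 26664 3333 = true := by decide +kernel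
theorem c6_9 : allRange (fun i => Nat.beq (act6 i) i) 29997 3333 = true := by decide +kernel
theorem c6_10 : allRange (fun i => Nat.beq (act6 i) i) 33330 3333 = true := by decide +kernel
theorem c6_11 : allRange (fun i => Nat.beq (act6 i) i) 36663 273 = true := by decide +kernel
theorem h6 : ∀ i, i < T.N → Tab.relActOK T D chk6 i = true := by
  intro i hi
  rw [Tab.relActOK, ← act6_eq]
  exact (range_glue (range_of_allRange c6_0) (range_glue (range_of_allRange c6_1) (range_glue (range_of_allRange c6_2) (range_glue (range_of_allRange c6_3) (range_glue (range_of_allRange c6_4) (range_glue (range_of_allRange c6_5) (range_glue (range_of_allRange c6_6) (range_glue (range_of_allRange c6_7) (range_glue (range_of_allRange c6_8) (range_glue (range_of_allRange c6_9) (range_glue (range_of_allRange c6_10) (range_of_allRange c6_11)))))))))))) i (Nat.zero_le _) hi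

def chk7 : List Nat := [0, 0, 2, 0, 5, 5, 2, 4, 2, 0, 2, 1, 2, 1, 4, 2]
noncomputable def act7 (i : Nat) : Nat := col1 (col1 (col3 (col1 (col4 (col4 (col3 (col5 (col3 (col1 (col3 (col0 (col3 (col0 (col5 (col3 (i))))))))))))))))
theorem act7_eq (i : Nat) : act7 i = Tab.act T D chk7 i := rfl
theorem c7_0 : allRange (fun i => Nat.beq (act7 i) i) 0 3333 = true := by decide +kernel
theorem c7_1 : allRange (fun i => Nat.beq (act7 i) i) 3333 3333 = true := by decide +kernel
theorem c7_2 : allRange (fun i => Nat.beq (act7 i) i) 6666 3333 = true := by decide +kernel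
theorem c7_3 : allRange (fun i => Nat.beq (act7 i) i) 9999 3333 = true := by decide +kernel
theorem c7_4 : allRange (fun i => Nat.beq (act7 i) i) 13332 3333 = true := by decide +kernel
theorem c7_5 : allRange (fun i => Nat.beq (act7 i) i) 16665 3333 = true := by decide +kernel
theorem c7_6 : allRange (fun i => Nat.beq (act7 i) i) 19998 3333 = true := by decide +kernel
theorem c7_7 : allRange (fun i => Nat.beq (act7 i) i) 23331 3333 = true := by decide +kernel
theorem c7_8 : allRange (fun i => Nat.beq (act7 i) i) 26664 3333 = true := by decide +kernel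
theorem c7_9 : allRange (fun i => Nat.beq (act7 i) i) 29997 3333 = true := by decide +kernel
theorem c7_10 : allRange (fun i => Nat.beq (act7 i) i) 33330 3333 = true := by decide +kernel
theorem c7_11 : allRange (fun i => Nat.beq (act7 i) i) 36663 273 = true := by decide +kernel
theorem h7 : ∀ i, i < T.N → Tab.relActOK T D chk7 i = true := by
  intro i hi
  rw [Tab.relActOK, ← act7_eq]
  exact (range_glue (range_of_allRange c7_0) (range_glue (range_of_allRange c7_1) (range_glue (range_of_allRange c7_2) (range_glue (range_of_allRange c7_3) (range_glue (range_of_allRange c7_4) (range_glue (range_of_allRange c7_5) (range_glue (range_of_allRange c7_6) (range_glue (range_of_allRange c7_7) (range_glue (range_of_allRange c7_8) (range_glue (range_of_allRange c7_9) (range_glue (range_of_allRange c7_10) (range_of_allRange c7_11)))))))))))) i (Nat.zero_le _) hi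

def chk8 : List Nat := [0, 2, 0, 2, 5, 2, 0, 5, 2, 0, 5, 2, 0, 5, 2, 5]
noncomputable def act8 (i : Nat) : Nat := col1 (col3 (col1 (col3 (col4 (col3 (col1 (col4 (col3 (col1 (col4 (col3 (col1 (col4 (col3 (col4 (i))))))))))))))))
theorem act8_eq (i : Nat) : act8 i = Tab.act T D chk8 i := rfl
theorem c8_0 : allRange (fun i => Nat.beq (act8 i) i) 0 3333 = true := by decide +kernel
theorem c8_1 : allRange (fun i => Nat.beq (act8 i) i) 3333 3333 = true := by decide +kernel
theorem c8_2 : allRange (fun i => Nat.beq (act8 i) i) 6666 3333 = true := by decide +kernel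
theorem c8_3 : allRange (fun i => Nat.beq (act8 i) i) 9999 3333 = true := by decide +kernel
theorem c8_4 : allRange (fun i => Nat.beq (act8 i) i) 13332 3333 = true := by decide +kernel
theorem c8_5 : allRange (fun i => Nat.beq (act8 i) i) 16665 3333 = true := by decide +kernel
theorem c8_6 : allRange (fun i => Nat.beq (act8 i) i) 19998 3333 = true := by decide +kernel
theorem c8_7 : allRange (fun i => Nat.beq (act8 i) i) 23331 3333 = true := by decide +kernel
theorem c8_8 : allRange (fun i => Nat.beq (act8 i) i) 26664 3333 = true := by decide +kernel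
theorem c8_9 : allRange (fun i => Nat.beq (act8 i) i) 29997 3333 = true := by decide +kernel
theorem c8_10 : allRange (fun i => Nat.beq (act8 i) i) 33330 3333 = true := by decide +kernel
theorem c8_11 : allRange (fun i => Nat.beq (act8 i) i) 36663 273 = true := by decide +kernel
theorem h8 : ∀ i, i < T.N → Tab.relActOK T D chk8 i = true := by
  intro i hi
  rw [Tab.relActOK, ← act8_eq]
  exact (range_glue (range_of_allRange c8_0) (range_glue (range_of_allRange c8_1) (range_glue (range_of_allRange c8_2) (range_glue (range_of_allRange c8_3) (range_glue (range_of_allRange c8_4) (range_glue (range_of_allRange c8_5) (range_glue (range_of_allRange c8_6) (range_glue (range_of_allRange c8_7) (range_glue (range_of_allRange c8_8) (range_glue (range_of_allRange c8_9) (range_glue (range_of_allRange c8_10) (range_of_allRange c8_11)))))))))))) i (Nat.zero_le _) hi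

def chk9 : List Nat := [0, 0, 0, 0, 0, 0, 0, 0, 0, 0, 0, 0, 0, 0, 0, 0, 0]
noncomputable def act9 (i : Nat) : Nat := col1 (col1 (col1 (col1 (col1 (col1 (col1 (col1 (col1 (col1 (col1 (col1 (col1 (col1 (col1 (col1 (col1 (i)))))))))))))))))
theorem act9_eq (i : Nat) : act9 i = Tab.act T D chk9 i := rfl
theorem c9_0 : allRange (fun i => Nat.beq (act9 i) i) 0 3157 = true := by decide +kernel
theorem c9_1 : allRange (fun i => Nat.beq (act9 i) i) 3157 3157 = true := by decide +kernel
theorem c9_2 : allRange (fun i => Nat.beq (act9 i) i) 6314 3157 = true := by decide +kernel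
theorem c9_3 : allRange (fun i => Nat.beq (act9 i) i) 9471 3157 = true := by decide +kernel
theorem c9_4 : allRange (fun i => Nat.beq (act9 i) i) 12628 3157 = true := by decide +kernel
theorem c9_5 : allRange (fun i => Nat.beq (act9 i) i) 15785 3157 = true := by decide +kernel
theorem c9_6 : allRange (fun i => Nat.beq (act9 i) i) 18942 3157 = true := by decide +kernel
theorem c9_7 : allRange (fun i => Nat.beq (act9 i) i) 22099 3157 = true := by decide +kernel
theorem c9_8 : allRange (fun i => Nat.beq (act9 i) i) 25256 3157 = true := by decide +kernel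
theorem c9_9 : allRange (fun i => Nat.beq (act9 i) i) 28413 3157 = true := by decide +kernel
theorem c9_10 : allRange (fun i => Nat.beq (act9 i) i) 31570 3157 = true := by decide +kernel
theorem c9_11 : allRange (fun i => Nat.beq (act9 i) i) 34727 2209 = true := by decide +kernel
theorem h9 : ∀ i, i < T.N → Tab.relActOK T D chk9 i = true := by
  intro i hi
  rw [Tab.relActOK, ← act9_eq]
  exact (range_glue (range_of_allRange c9_0) (range_glue (range_of_allRange c9_1) (range_glue (range_of_allRange c9_2) (range_glue (range_of_allRange c9_3) (range_glue (range_of_allRange c9_4) (range_glue (range_of_allRange c9_5) (range_glue (range_of_allRange c9_6) (range_glue (range_of_allRange c9_7) (range_glue (range_of_allRange c9_8) (range_glue (range_of_allRange c9_9) (range_glue (range_of_allRange c9_10) (range_of_allRange c9_11)))))))))))) i (Nat.zero_le _) hi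

def chk10 : List Nat := [2, 2]
noncomputable def act10 (i : Nat) : Nat := col3 (col3 (i))
theorem act10_eq (i : Nat) : act10 i = Tab.act T D chk10 i := rfl
theorem c10_0 : allRange (fun i => Nat.beq (act10 i) i) 0 15000 = true := by decide +kernel
theorem c10_1 : allRange (fun i => Nat.beq (act10 i) i) 15000 15000 = true := by decide +kernel
theorem c10_2 : allRange (fun i => Nat.beq (act10 i) i) 30000 6936 = true := by decide +kernel
theorem h10 : ∀ i, i < T.N → Tab.relActOK T D chk10 i = true := by
  intro i hi
  rw [Tab.relActOK, ← act10_eq]
  exact (range_glue (range_of_allRange c10_0) (range_glue (range_of_allRange c10_1) (range_of_allRange c10_2))) i (Nat.zero_le _) hi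

def chk11 : List Nat := [0, 0, 0, 2, 1, 2, 0, 2, 0, 0, 0, 2, 1, 2, 0, 2]
noncomputable def act11 (i : Nat) : Nat := col1 (col1 (col1 (col3 (col0 (col3 (col1 (col3 (col1 (col1 (col1 (col3 (col0 (col3 (col1 (col3 (i))))))))))))))))
theorem act11_eq (i : Nat) : act11 i = Tab.act T D chk11 i := rfl
theorem c11_0 : allRange (fun i => Nat.beq (act11 i) i) 0 3333 = true := by decide +kernel
theorem c11_1 : allRange (fun i => Nat.beq (act11 i) i) 3333 3333 = true := by decide +kernel
theorem c11_2 : allRange (fun i => Nat.beq (act11 i) i) 6666 3333 = true := by decide +kernel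
theorem c11_3 : allRange (fun i => Nat.beq (act11 i) i) 9999 3333 = true := by decide +kernel
theorem c11_4 : allRange (fun i => Nat.beq (act11 i) i) 13332 3333 = true := by decide +kernel
theorem c11_5 : allRange (fun i => Nat.beq (act11 i) i) 16665 3333 = true := by decide +kernel
theorem c11_6 : allRange (fun i => Nat.beq (act11 i) i) 19998 3333 = true := by decide +kernel
theorem c11_7 : allRange (fun i => Nat.beq (act11 i) i) 23331 3333 = true := by decide +kernel
theorem c11_8 : allRange (fun i => Nat.beq (act11 i) i) 26664 3333 = true := by decide +kernel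
theorem c11_9 : allRange (fun i => Nat.beq (act11 i) i) 29997 3333 = true := by decide +kernel
theorem c11_10 : allRange (fun i => Nat.beq (act11 i) i) 33330 3333 = true := by decide +kernel
theorem c11_11 : allRange (fun i => Nat.beq (act11 i) i) 36663 273 = true := by decide +kernel
theorem h11 : ∀ i, i < T.N → Tab.relActOK T D chk11 i = true := by
  intro i hi
  rw [Tab.relActOK, ← act11_eq]
  exact (range_glue (range_of_allRange c11_0) (range_glue (range_of_allRange c11_1) (range_glue (range_of_allRange c11_2) (range_glue (range_of_allRange c11_3) (range_glue (range_of_allRange c11_4) (range_glue (range_of_allRange c11_5) (range_glue (range_of_allRange c11_6) (range_glue (range_of_allRange c11_7) (range_glue (range_of_allRange c11_8) (range_glue (range_of_allRange c11_9) (range_glue (range_of_allRange c11_10) (range_of_allRange c11_11)))))))))))) i (Nat.zero_le _) hi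

def chk12 : List Nat := [0, 0, 0, 0, 0, 2, 0, 0, 0, 0, 0, 2, 0, 0, 0, 0, 0, 2]
noncomputable def act12 (i : Nat) : Nat := col1 (col1 (col1 (col1 (col1 (col3 (col1 (col1 (col1 (col1 (col1 (col3 (col1 (col1 (col1 (col1 (col1 (col3 (i))))))))))))))))))
theorem act12_eq (i : Nat) : act12 i = Tab.act T D chk12 i := rfl
theorem c12_0 : allRange (fun i => Nat.beq (act12 i) i) 0 3000 = true := by decide +kernel
theorem c12_1 : allRange (fun i => Nat.beq (act12 i) i) 3000 3000 = true := by decide +kernel
theorem c12_2 : allRange (fun i => Nat.beq (act12 i) i) 6000 3000 = true := by decide +kernel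
theorem c12_3 : allRange (fun i => Nat.beq (act12 i) i) 9000 3000 = true := by decide +kernel
theorem c12_4 : allRange (fun i => Nat.beq (act12 i) i) 12000 3000 = true := by decide +kernel
theorem c12_5 : allRange (fun i => Nat.beq (act12 i) i) 15000 3000 = true := by decide +kernel
theorem c12_6 : allRange (fun i => Nat.beq (act12 i) i) 18000 3000 = true := by decide +kernel
theorem c12_7 : allRange (fun i => Nat.beq (act12 i) i) 21000 3000 = true := by decide +kernel
theorem c12_8 : allRange (fun i => Nat.beq (act12 i) i) 24000 3000 = true := by decide +kernel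
theorem c12_9 : allRange (fun i => Nat.beq (act12 i) i) 27000 3000 = true := by decide +kernel
theorem c12_10 : allRange (fun i => Nat.beq (act12 i) i) 30000 3000 = true := by decide +kernel
theorem c12_11 : allRange (fun i => Nat.beq (act12 i) i) 33000 3000 = true := by decide +kernel
theorem c12_12 : allRange (fun i => Nat.beq (act12 i) i) 36000 936 = true := by decide +kernel
theorem h12 : ∀ i, i < T.N → Tab.relActOK T D chk12 i = true := by
  intro i hi
  rw [Tab.relActOK, ← act12_eq]
  exact (range_glue (range_of_allRange c12_0) (range_glue (range_of_allRange c12_1) (range_glue (range_of_allRange c12_2) (range_glue (range_of_allRange c12_3) (range_glue (range_of_allRange c12_4) (range_glue (range_of_allRange c12_5) (range_glue (range_of_allRange c12_6) (range_glue (range_of_allRange c12_7) (range_glue (range_of_allRange c12_8) (range_glue (range_of_allRange c12_9) (range_glue (range_of_allRange c12_10) (range_glue (range_of_allRange c12_11) (range_of_allRange c12_12))))))))))))) i (Nat.zero_le _) hi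

def chk13 : List Nat := [4, 0, 5, 1, 1]
noncomputable def act13 (i : Nat) : Nat := col5 (col1 (col4 (col0 (col0 (i)))))
theorem act13_eq (i : Nat) : act13 i = Tab.act T D chk13 i := rfl
theorem c13_0 : allRange (fun i => Nat.beq (act13 i) i) 0 8571 = true := by decide +kernel
theorem c13_1 : allRange (fun i => Nat.beq (act13 i) i) 8571 8571 = true := by decide +kernel
theorem c13_2 : allRange (fun i => Nat.beq (act13 i) i) 17142 8571 = true := by decide +kernel
theorem c13_3 : allRange (fun i => Nat.beq (act13 i) i) 25713 8571 = true := by decide +kernel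
theorem c13_4 : allRange (fun i => Nat.beq (act13 i) i) 34284 2652 = true := by decide +kernel
theorem h13 : ∀ i, i < T.N → Tab.relActOK T D chk13 i = true := by
  intro i hi
  rw [Tab.relActOK, ← act13_eq]
  exact (range_glue (range_of_allRange c13_0) (range_glue (range_of_allRange c13_1) (range_glue (range_of_allRange c13_2) (range_glue (range_of_allRange c13_3) (range_of_allRange c13_4))))) i (Nat.zero_le _) hi

def chk14 : List Nat := [0, 0, 0, 0, 0, 0, 0, 0, 0, 0, 0, 0, 0, 0, 0, 0, 0]
noncomputable def act14 (i : Nat) : Nat := col1 (col1 (col1 (col1 (col1 (col1 (col1 (col1 (col1 (col1 (col1 (col1 (col1 (col1 (col1 (col1 (col1 (i)))))))))))))))))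
theorem act14_eq (i : Nat) : act14 i = Tab.act T D chk14 i := rfl
theorem c14_0 : allRange (fun i => Nat.beq (act14 i) i) 0 3157 = true := by decide +kernel
theorem c14_1 : allRange (fun i => Nat.beq (act14 i) i) 3157 3157 = true := by decide +kernel
theorem c14_2 : allRange (fun i => Nat.beq (act14 i) i) 6314 3157 = true := by decide +kernel
theorem c14_3 : allRange (fun i => Nat.beq (act14 i) i) 9471 3157 = true := by decide +kernel
theorem c14_4 : allRange (fun i => Nat.beq (act14 i) i) 12628 3157 = true := by decide +kernel
theorem c14_5 : allRange (fun i => Nat.beq (act14 i) i) 15785 3157 = true := by decide +kernel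
theorem c14_6 : allRange (fun i => Nat.beq (act14 i) i) 18942 3157 = true := by decide +kernel
theorem c14_7 : allRange (fun i => Nat.beq (act14 i) i) 22099 3157 = true := by decide +kernel
theorem c14_8 : allRange (fun i => Nat.beq (act14 i) i) 25256 3157 = true := by decide +kernel
theorem c14_9 : allRange (fun i => Nat.beq (act14 i) i) 28413 3157 = true := by decide +kernel
theorem c14_10 : allRange (fun i => Nat.beq (act14 i) i) 31570 3157 = true := by decide +kernel
theorem c14_11 : allRange (fun i => Nat.beq (act14 i) i) 34727 2209 = true := by decide +kernel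
theorem h14 : ∀ i, i < T.N → Tab.relActOK T D chk14 i = true := by
  intro i hi
  rw [Tab.relActOK, ← act14_eq]
  exact (range_glue (range_of_allRange c14_0) (range_glue (range_of_allRange c14_1) (range_glue (range_of_allRange c14_2) (range_glue (range_of_allRange c14_3) (range_glue (range_of_allRange c14_4) (range_glue (range_of_allRange c14_5) (range_glue (range_of_allRange c14_6) (range_glue (range_of_allRange c14_7) (range_glue (range_of_allRange c14_8) (range_glue (range_of_allRange c14_9) (range_glue (range_of_allRange c14_10) (range_of_allRange c14_11)))))))))))) i (Nat.zero_le _) hi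

def chk15 : List Nat := [0, 0, 0, 0, 0, 0, 0, 0, 0, 0, 0, 0, 0, 0, 0, 0, 0, 0, 0, 0, 0, 0, 0, 0, 0, 0, 0, 0, 0, 0, 0, 0, 0, 0]
noncomputable def act15 (i : Nat) : Nat := col1 (col1 (col1 (col1 (col1 (col1 (col1 (col1 (col1 (col1 (col1 (col1 (col1 (col1 (col1 (col1 (col1 (col1 (col1 (col1 (col1 (col1 (col1 (col1 (col1 (col1 (col1 (col1 (col1 (col1 (col1 (col1 (col1 (col1 (i))))))))))))))))))))))))))))))))))
theorem act15_eq (i : Nat) : act15 i = Tab.act T D chk15 i := rfl
theorem c15_0 : allRange (fun i => Nat.beq (act15 i) i) 0 1666 = true := by decide +kernel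
theorem c15_1 : allRange (fun i => Nat.beq (act15 i) i) 1666 1666 = true := by decide +kernel
theorem c15_2 : allRange (fun i => Nat.beq (act15 i) i) 3332 1666 = true := by decide +kernel
theorem c15_3 : allRange (fun i => Nat.beq (act15 i) i) 4998 1666 = true := by decide +kernel
theorem c15_4 : allRange (fun i => Nat.beq (act15 i) i) 6664 1666 = true := by decide +kernel
theorem c15_5 : allRange (fun i => Nat.beq (act15 i) i) 8330 1666 = true := by decide +kernel
theorem c15_6 : allRange (fun i => Nat.beq (act15 i) i) 9996 1666 = true := by decide +kernel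
theorem c15_7 : allRange (fun i => Nat.beq (act15 i) i) 11662 1666 = true := by decide +kernel
theorem c15_8 : allRange (fun i => Nat.beq (act15 i) i) 13328 1666 = true := by decide +kernel
theorem c15_9 : allRange (fun i => Nat.beq (act15 i) i) 14994 1666 = true := by decide +kernel
theorem c15_10 : allRange (fun i => Nat.beq (act15 i) i) 16660 1666 = true := by decide +kernel
theorem c15_11 : allRange (fun i => Nat.beq (act15 i) i) 18326 1666 = true := by decide +kernel
theorem c15_12 : allRange (fun i => Nat.beq (act15 i) i) 19992 1666 = true := by decide +kernel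
theorem c15_13 : allRange (fun i => Nat.beq (act15 i) i) 21658 1666 = true := by decide +kernel
theorem c15_14 : allRange (fun i => Nat.beq (act15 i) i) 23324 1666 = true := by decide +kernel
theorem c15_15 : allRange (fun i => Nat.beq (act15 i) i) 24990 1666 = true := by decide +kernel
theorem c15_16 : allRange (fun i => Nat.beq (act15 i) i) 26656 1666 = true := by decide +kernel
theorem c15_17 : allRange (fun i => Nat.beq (act15 i) i) 28322 1666 = true := by decide +kernel
theorem c15_18 : allRange (fun i => Nat.beq (act15 i) i) 29988 1666 = true := by decide +kernel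
theorem c15_19 : allRange (fun i => Nat.beq (act15 i) i) 31654 1666 = true := by decide +kernel
theorem c15_20 : allRange (fun i => Nat.beq (act15 i) i) 33320 1666 = true := by decide +kernel
theorem c15_21 : allRange (fun i => Nat.beq (act15 i) i) 34986 1666 = true := by decide +kernel
theorem c15_22 : allRange (fun i => Nat.beq (act15 i) i) 36652 284 = true := by decide +kernel
theorem h15 : ∀ i, i < T.N → Tab.relActOK T D chk15 i = true := by
  intro i hi
  rw [Tab.relActOK, ← act15_eq]
  exact (range_glue (range_of_allRange c15_0) (range_glue (range_of_allRange c15_1) (range_glue (range_of_allRange c15_2) (range_glue (range_of_allRange c15_3) (range_glue (range_of_allRange c15_4) (range_glue (range_of_allRange c15_5) (range_glue (range_of_allRange c15_6) (range_glue (range_of_allRange c15_7) (range_glue (range_of_allRange c15_8) (range_glue (range_of_allRange c15_9) (range_glue (range_of_allRange c15_10) (range_glue (range_of_allRange c15_11) (range_glue (range_of_allRange c15_12) (range_glue (range_of_allRange c15_13) (range_glue (range_of_allRange c15_14) (range_glue (range_of_allRange c15_15)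 (range_glue (range_of_allRange c15_16) (range_glue (range_of_allRange c15_17) (range_glue (range_of_allRange c15_18) (range_glue (range_of_allRange c15_19) (range_glue (range_of_allRange c15_20) (range_glue (range_of_allRange c15_21) (range_of_allRange c15_22))))))))))))))))))))))) i (Nat.zero_le _) hi

def chk16 : List Nat := [4, 4, 2, 5, 5, 1, 1, 3, 1, 3, 1, 3, 0, 0, 0]
noncomputable def act16 (i : Nat) : Nat := col5 (col5 (col3 (col4 (col4 (col0 (col0 (col2 (col0 (col2 (col0 (col2 (col1 (col1 (col1 (i)))))))))))))))
theorem act16_eq (i : Nat) : act16 i = Tab.act T D chk16 i := rfl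
theorem c16_0 : allRange (fun i => Nat.beq (act16 i) i) 0 3529 = true := by decide +kernel
theorem c16_1 : allRange (fun i => Nat.beq (act16 i) i) 3529 3529 = true := by decide +kernel
theorem c16_2 : allRange (fun i => Nat.beq (act16 i) i) 7058 3529 = true := by decide +kernel
theorem c16_3 : allRange (fun i => Nat.beq (act16 i) i) 10587 3529 = true := by decide +kernel
theorem c16_4 : allRange (fun i => Nat.beq (act16 i) i) 14116 3529 = true := by decide +kernel
theorem c16_5 : allRange (fun i => Nat.beq (act16 i) i) 17645 3529 = true := by decide +kernel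
theorem c16_6 : allRange (fun i => Nat.beq (act16 i) i) 21174 3529 = true := by decide +kernel
theorem c16_7 : allRange (fun i => Nat.beq (act16 i) i) 24703 3529 = true := by decide +kernel
theorem c16_8 : allRange (fun i => Nat.beq (act16 i) i) 28232 3529 = true := by decide +kernel
theorem c16_9 : allRange (fun i => Nat.beq (act16 i) i) 31761 3529 = true := by decide +kernel
theorem c16_10 : allRange (fun i => Nat.beq (act16 i) i) 35290 1646 = true := by decide +kernel
theorem h16 : ∀ i, i < T.N → Tab.relActOK T D chk16 i = true := by
  intro i hi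
  rw [Tab.relActOK, ← act16_eq]
  exact (range_glue (range_of_allRange c16_0) (range_glue (range_of_allRange c16_1) (range_glue (range_of_allRange c16_2) (range_glue (range_of_allRange c16_3) (range_glue (range_of_allRange c16_4) (range_glue (range_of_allRange c16_5) (range_glue (range_of_allRange c16_6) (range_glue (range_of_allRange c16_7) (range_glue (range_of_allRange c16_8) (range_glue (range_of_allRange c16_9) (range_of_allRange c16_10))))))))))) i (Nat.zero_le _) hi

def chk17 : List Nat := [2, 2]
noncomputable def act17 (i : Nat) : Nat := col3 (col3 (i))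
theorem act17_eq (i : Nat) : act17 i = Tab.act T D chk17 i := rfl
theorem c17_0 : allRange (fun i => Nat.beq (act17 i) i) 0 15000 = true := by decide +kernel
theorem c17_1 : allRange (fun i => Nat.beq (act17 i) i) 15000 15000 = true := by decide +kernel
theorem c17_2 : allRange (fun i => Nat.beq (act17 i) i) 30000 6936 = true := by decide +kernel
theorem h17 : ∀ i, i < T.N → Tab.relActOK T D chk17 i = true := by
  intro i hi
  rw [Tab.relActOK, ← act17_eq]
  exact (range_glue (range_of_allRange c17_0) (range_glue (range_of_allRange c17_1) (range_of_allRange c17_2))) i (Nat.zero_le _) hi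

def chk18 : List Nat := [1, 1, 1, 2, 0, 2, 0, 2, 0, 0, 1, 1, 1, 2, 0, 2, 0, 2, 0, 0]
noncomputable def act18 (i : Nat) : Nat := col0 (col0 (col0 (col3 (col1 (col3 (col1 (col3 (col1 (col1 (col0 (col0 (col0 (col3 (col1 (col3 (col1 (col3 (col1 (col1 (i))))))))))))))))))))
theorem act18_eq (i : Nat) : act18 i = Tab.act T D chk18 i := rfl
theorem c18_0 : allRange (fun i => Nat.beq (act18 i) i) 0 2727 = true := by decide +kernel
theorem c18_1 : allRange (fun i => Nat.beq (act18 i) i) 2727 2727 = true := by decide +kernel
theorem c18_2 : allRange (fun i => Nat.beq (act18 i) i) 5454 2727 = true := by decide +kernel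
theorem c18_3 : allRange (fun i => Nat.beq (act18 i) i) 8181 2727 = true := by decide +kernel
theorem c18_4 : allRange (fun i => Nat.beq (act18 i) i) 10908 2727 = true := by decide +kernel
theorem c18_5 : allRange (fun i => Nat.beq (act18 i) i) 13635 2727 = true := by decide +kernel
theorem c18_6 : allRange (fun i => Nat.beq (act18 i) i) 16362 2727 = true := by decide +kernel
theorem c18_7 : allRange (fun i => Nat.beq (act18 i) i) 19089 2727 = true := by decide +kernel
theorem c18_8 : allRange (fun i => Nat.beq (act18 i) i) 21816 2727 = true := by decide +kernel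
theorem c18_9 : allRange (fun i => Nat.beq (act18 i) i) 24543 2727 = true := by decide +kernel
theorem c18_10 : allRange (fun i => Nat.beq (act18 i) i) 27270 2727 = true := by decide +kernel
theorem c18_11 : allRange (fun i => Nat.beq (act18 i) i) 29997 2727 = true := by decide +kernel
theorem c18_12 : allRange (fun i => Nat.beq (act18 i) i) 32724 2727 = true := by decide +kernel
theorem c18_13 : allRange (fun i => Nat.beq (act18 i) i) 35451 1485 = true := by decide +kernel
theorem h18 : ∀ i, i < T.N → Tab.relActOK T D chk18 i = true := by
  intro i hi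
  rw [Tab.relActOK, ← act18_eq]
  exact (range_glue (range_of_allRange c18_0) (range_glue (range_of_allRange c18_1) (range_glue (range_of_allRange c18_2) (range_glue (range_of_allRange c18_3) (range_glue (range_of_allRange c18_4) (range_glue (range_of_allRange c18_5) (range_glue (range_of_allRange c18_6) (range_glue (range_of_allRange c18_7) (range_glue (range_of_allRange c18_8) (range_glue (range_of_allRange c18_9) (range_glue (range_of_allRange c18_10) (range_glue (range_of_allRange c18_11) (range_glue (range_of_allRange c18_12) (range_of_allRange c18_13)))))))))))))) i (Nat.zero_le _) hi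

def chk19 : List Nat := [4, 4, 0, 2, 0, 2, 0, 2, 5, 5, 1, 3, 1, 1, 1, 1, 1, 3]
noncomputable def act19 (i : Nat) : Nat := col5 (col5 (col1 (col3 (col1 (col3 (col1 (col3 (col4 (col4 (col0 (col2 (col0 (col0 (col0 (col0 (col0 (col2 (i))))))))))))))))))
theorem act19_eq (i : Nat) : act19 i = Tab.act T D chk19 i := rfl
theorem c19_0 : allRange (fun i => Nat.beq (act19 i) i) 0 3000 = true := by decide +kernel
theorem c19_1 : allRange (fun i => Nat.beq (act19 i) i) 3000 3000 = true := by decide +kernel
theorem c19_2 : allRange (fun i => Nat.beq (act19 i) i) 6000 3000 = true := by decide +kernel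
theorem c19_3 : allRange (fun i => Nat.beq (act19 i) i) 9000 3000 = true := by decide +kernel
theorem c19_4 : allRange (fun i => Nat.beq (act19 i) i) 12000 3000 = true := by decide +kernel
theorem c19_5 : allRange (fun i => Nat.beq (act19 i) i) 15000 3000 = true := by decide +kernel
theorem c19_6 : allRange (fun i => Nat.beq (act19 i) i) 18000 3000 = true := by decide +kernel
theorem c19_7 : allRange (fun i => Nat.beq (act19 i) i) 21000 3000 = true := by decide +kernel
theorem c19_8 : allRange (fun i => Nat.beq (act19 i) i) 24000 3000 = true := by decide +kernel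
theorem c19_9 : allRange (fun i => Nat.beq (act19 i) i) 27000 3000 = true := by decide +kernel
theorem c19_10 : allRange (fun i => Nat.beq (act19 i) i) 30000 3000 = true := by decide +kernel
theorem c19_11 : allRange (fun i => Nat.beq (act19 i) i) 33000 3000 = true := by decide +kernel
theorem c19_12 : allRange (fun i => Nat.beq (act19 i) i) 36000 936 = true := by decide +kernel
theorem h19 : ∀ i, i < T.N → Tab.relActOK T D chk19 i = true := by
  intro i hi
  rw [Tab.relActOK, ← act19_eq]
  exact (range_glue (range_of_allRange c19_0) (range_glue (range_of_allRange c19_1) (range_glue (range_of_allRange c19_2) (range_glue (range_of_allRange c19_3) (range_glue (range_of_allRange c19_4) (range_glue (range_of_allRange c19_5) (range_glue (range_of_allRange c19_6) (range_glue (range_of_allRange c19_7) (range_glue (range_of_allRange c19_8) (range_glue (range_of_allRange c19_9) (range_glue (range_of_allRange c19_10) (range_glue (range_of_allRange c19_11) (range_of_allRange c19_12))))))))))))) i (Nat.zero_le _) hi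

def chk20 : List Nat := [0, 2, 0, 2, 0, 2, 0, 2, 0, 2, 0, 2, 0, 2, 0, 2, 0, 2, 0, 2, 0, 2, 0, 2, 0, 2, 0, 2, 0, 2]
noncomputable def act20 (i : Nat) : Nat := col1 (col3 (col1 (col3 (col1 (col3 (col1 (col3 (col1 (col3 (col1 (col3 (col1 (col3 (col1 (col3 (col1 (col3 (col1 (col3 (col1 (col3 (col1 (col3 (col1 (col3 (col1 (col3 (col1 (col3 (i))))))))))))))))))))))))))))))
theorem act20_eq (i : Nat) : act20 i = Tab.act T D chk20 i := rfl
theorem c20_0 : allRange (fun i => Nat.beq (act20 i) i) 0 1875 = true := by decide +kernel
theorem c20_1 : allRange (fun i => Nat.beq (act20 i) i) 1875 1875 = true := by decide +kernel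
theorem c20_2 : allRange (fun i => Nat.beq (act20 i) i) 3750 1875 = true := by decide +kernel
theorem c20_3 : allRange (fun i => Nat.beq (act20 i) i) 5625 1875 = true := by decide +kernel
theorem c20_4 : allRange (fun i => Nat.beq (act20 i) i) 7500 1875 = true := by decide +kernel
theorem c20_5 : allRange (fun i => Nat.beq (act20 i) i) 9375 1875 = true := by decide +kernel
theorem c20_6 : allRange (fun i => Nat.beq (act20 i) i) 11250 1875 = true := by decide +kernel
theorem c20_7 : allRange (fun i => Nat.beq (act20 i) i) 13125 1875 = true := by decide +kernel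
theorem c20_8 : allRange (fun i => Nat.beq (act20 i) i) 15000 1875 = true := by decide +kernel
theorem c20_9 : allRange (fun i => Nat.beq (act20 i) i) 16875 1875 = true := by decide +kernel
theorem c20_10 : allRange (fun i => Nat.beq (act20 i) i) 18750 1875 = true := by decide +kernel
theorem c20_11 : allRange (fun i => Nat.beq (act20 i) i) 20625 1875 = true := by decide +kernel
theorem c20_12 : allRange (fun i => Nat.beq (act20 i) i) 22500 1875 = true := by decide +kernel
theorem c20_13 : allRange (fun i => Nat.beq (act20 i) i) 24375 1875 = true := by decide +kernel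
theorem c20_14 : allRange (fun i => Nat.beq (act20 i) i) 26250 1875 = true := by decide +kernel
theorem c20_15 : allRange (fun i => Nat.beq (act20 i) i) 28125 1875 = true := by decide +kernel
theorem c20_16 : allRange (fun i => Nat.beq (act20 i) i) 30000 1875 = true := by decide +kernel
theorem c20_17 : allRange (fun i => Nat.beq (act20 i) i) 31875 1875 = true := by decide +kernel
theorem c20_18 : allRange (fun i => Nat.beq (act20 i) i) 33750 1875 = true := by decide +kernel
theorem c20_19 : allRange (fun i => Nat.beq (act20 i) i) 35625 1311 = true := by decide +kernel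
theorem h20 : ∀ i, i < T.N → Tab.relActOK T D chk20 i = true := by
  intro i hi
  rw [Tab.relActOK, ← act20_eq]
  exact (range_glue (range_of_allRange c20_0) (range_glue (range_of_allRange c20_1) (range_glue (range_of_allRange c20_2) (range_glue (range_of_allRange c20_3) (range_glue (range_of_allRange c20_4) (range_glue (range_of_allRange c20_5) (range_glue (range_of_allRange c20_6) (range_glue (range_of_allRange c20_7) (range_glue (range_of_allRange c20_8) (range_glue (range_of_allRange c20_9) (range_glue (range_of_allRange c20_10) (range_glue (range_of_allRange c20_11) (range_glue (range_of_allRange c20_12) (range_glue (range_of_allRange c20_13) (range_glue (range_of_allRange c20_14) (range_glue (range_of_allRange c20_15) (range_glue (range_of_allRange c20_16) (range_glue (range_of_allRange c20_17) (range_glue (range_of_allRange c20_18) (range_of_allRange c20_19)))))))))))))))))))) i (Nat.zero_le _) hi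

def chk21 : List Nat := [2, 0, 0, 0, 0, 0, 2, 0, 2, 0, 0, 0, 0, 0, 2, 0, 2, 0, 0, 0, 0, 0, 2, 0, 2, 0, 0, 0, 0, 0, 2, 0, 2, 0, 0, 0, 0, 0, 2, 0]
noncomputable def act21 (i : Nat) : Nat := col3 (col1 (col1 (col1 (col1 (col1 (col3 (col1 (col3 (col1 (col1 (col1 (col1 (col1 (col3 (col1 (col3 (col1 (col1 (col1 (col1 (col1 (col3 (col1 (col3 (col1 (col1 (col1 (col1 (col1 (col3 (col1 (col3 (col1 (col1 (col1 (col1 (col1 (col3 (col1 (i))))))))))))))))))))))))))))))))))))))))
theorem act21_eq (i : Nat) : act21 i = Tab.act T D chk21 i := rfl
theorem c21_0 : allRange (fun i => Nat.beq (act21 i) i) 0 1428 = true := by decide +kernel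
theorem c21_1 : allRange (fun i => Nat.beq (act21 i) i) 1428 1428 = true := by decide +kernel
theorem c21_2 : allRange (fun i => Nat.beq (act21 i) i) 2856 1428 = true := by decide +kernel
theorem c21_3 : allRange (fun i => Nat.beq (act21 i) i) 4284 1428 = true := by decide +kernel
theorem c21_4 : allRange (fun i => Nat.beq (act21 i) i) 5712 1428 = true := by decide +kernel
theorem c21_5 : allRange (fun i => Nat.beq (act21 i) i) 7140 1428 = true := by decide +kernel
theorem c21_6 : allRange (fun i => Nat.beq (act21 i) i) 8568 1428 = true := by decide +kernel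
theorem c21_7 : allRange (fun i => Nat.beq (act21 i) i) 9996 1428 = true := by decide +kernel
theorem c21_8 : allRange (fun i => Nat.beq (act21 i) i) 11424 1428 = true := by decide +kernel
theorem c21_9 : allRange (fun i => Nat.beq (act21 i) i) 12852 1428 = true := by decide +kernel
theorem c21_10 : allRange (fun i => Nat.beq (act21 i) i) 14280 1428 = true := by decide +kernel
theorem c21_11 : allRange (fun i => Nat.beq (act21 i) i) 15708 1428 = true := by decide +kernel
theorem c21_12 : allRange (fun i => Nat.beq (act21 i) i) 17136 1428 = true := by decide +kernel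
theorem c21_13 : allRange (fun i => Nat.beq (act21 i) i) 18564 1428 = true := by decide +kernel
theorem c21_14 : allRange (fun i => Nat.beq (act21 i) i) 19992 1428 = true := by decide +kernel
theorem c21_15 : allRange (fun i => Nat.beq (act21 i) i) 21420 1428 = true := by decide +kernel
theorem c21_16 : allRange (fun i => Nat.beq (act21 i) i) 22848 1428 = true := by decide +kernel
theorem c21_17 : allRange (fun i => Nat.beq (act21 i) i) 24276 1428 = true := by decide +kernel
theorem c21_18 : allRange (fun i => Nat.beq (act21 i) i) 25704 1428 = true := by decide +kernel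
theorem c21_19 : allRange (fun i => Nat.beq (act21 i) i) 27132 1428 = true := by decide +kernel
theorem c21_20 : allRange (fun i => Nat.beq (act21 i) i) 28560 1428 = true := by decide +kernel
theorem c21_21 : allRange (fun i => Nat.beq (act21 i) i) 29988 1428 = true := by decide +kernel
theorem c21_22 : allRange (fun i => Nat.beq (act21 i) i) 31416 1428 = true := by decide +kernel
theorem c21_23 : allRange (fun i => Nat.beq (act21 i) i) 32844 1428 = true := by decide +kernel
theorem c21_24 : allRange (fun i => Nat.beq (act21 i) i) 34272 1428 = true := by decide +kernel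
theorem c21_25 : allRange (fun i => Nat.beq (act21 i) i) 35700 1236 = true := by decide +kernel
theorem h21 : ∀ i, i < T.N → Tab.relActOK T D chk21 i = true := by
  intro i hi
  rw [Tab.relActOK, ← act21_eq]
  exact (range_glue (range_of_allRange c21_0) (range_glue (range_of_allRange c21_1) (range_glue (range_of_allRange c21_2) (range_glue (range_of_allRange c21_3) (range_glue (range_of_allRange c21_4) (range_glue (range_of_allRange c21_5) (range_glue (range_of_allRange c21_6) (range_glue (range_of_allRange c21_7) (range_glue (range_of_allRange c21_8) (range_glue (range_of_allRange c21_9) (range_glue (range_of_allRange c21_10) (range_glue (range_of_allRange c21_11) (range_glue (range_of_allRange c21_12) (range_glue (range_of_allRange c21_13) (range_glue (range_of_allRange c21_14) (range_glue (range_of_allRange c21_15) (range_glue (range_of_allRange c21_16) (range_glue (range_of_allRange c21_17) (range_glue (range_of_allRange c21_18) (range_glue (range_of_allRange c21_19) (range_glue (range_of_allRange c21_20) (range_glue (range_of_allRange c21_21) (range_glue (range_of_allRange c21_22) (range_glue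 (range_of_allRange c21_23) (range_glue (range_of_allRange c21_24) (range_of_allRange c21_25)))))))))))))))))))))))))) i (Nat.zero_le _) hi

def chkAll : List (List Nat) := [chk0, chk1, chk2, chk3, chk4, chk5, chk6, chk7, chk8, chk9, chk10, chk11, chk12, chk13, chk14, chk15, chk16, chk17, chk18, chk19, chk20, chk21]
theorem hAll : ∀ w ∈ chkAll, ∀ i, i < T.N → Tab.relActOK T D w i = true := by
  intro w hw
  simp only [chkAll, List.mem_cons, List.not_mem_nil, or_false] at hw
  rcases hw with rfl | rfl | rfl | rfl | rfl | rfl | rfl | rfl | rfl | rfl | rfl | rfl | rfl | rfl | rfl | rfl | rfl | rfl | rfl | rfl | rfl | rfl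
  · exact h0
  · exact h1
  · exact h2
  · exact h3
  · exact h4
  · exact h5
  · exact h6
  · exact h7
  · exact h8
  · exact h9
  · exact h10
  · exact h11
  · exact h12
  · exact h13
  · exact h14
  · exact h15
  · exact h16
  · exact h17
  · exact h18
  · exact h19
  · exact h20
  · exact h21
theorem hAll_lt : ∀ w ∈ chkAll, ∀ x ∈ w, x < 6 := by decide +kernel

end Cfsg.Agent.Lib.Helper4.TCD.SC3J3p3W
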