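import Mathlib
import Cfsg.Prelude.Def_KGroupFacts
import Cfsg.Agent.Lib.Helper4.C3J3Iso
import Cfsg.Agent.Lib.Helper4.SC3J3p2Main
import Cfsg.Agent.Lib.Helper4.SC3J3p3Main
import Cfsg.Agent.Lib.Helper4.AbelCert
import Cfsg.Agent.Lib.Helper4.StemLib2
import Cfsg.Agent.Lib.Helper4.StemLib6
import Cfsg.Agent.Lib.Helper4.RelLib

/-!
The presented group `C3J3` is perfect and has no stem extension with kernel of prime order, and the Schur multiplier
of the Janko group `J3 F ω` (the matrix group `threeJ3 F ω` modulo its centre) is cyclic of order 3.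
-/

set_option autoImplicit false

namespace Cfsg.Agent.Lib.Helper4.C3J3Stem

open Cfsg Cfsg.Agent.Lib.Helper4.TC Cfsg.Agent.Lib.Helper4.TCD Cfsg.Agent.Lib.Helper4.TC.Log
  Cfsg.Agent.Lib.Helper4.Stem Cfsg.Agent.Lib.Helper4.AbelCert

local notation "G" => PC3J3.P.Grp
local notation "gG" => PC3J3.P.gR

theorem hinv (y : ℕ) (hy : y < 6) : gG (PC3J3.P.invR y) = (gG y)⁻¹ :=
  (PC3J3.valid.invR_sound y (by show y ≤ 6; omega)).2

theorem cert0 : PC3J3.P.gR 0 ∈ commutator PC3J3.P.Grp := by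
  apply mem_commutator_of_perm PC3J3.P PC3J3.valid 0
    [[3, 3], [3, 3], [5, 5, 5, 5, 5, 5, 5, 5], [0, 2, 4, 4, 2, 4, 0, 4, 2, 4, 4, 2, 4, 1, 4]]
    (by decide +kernel) (by decide +kernel)
    [0, 2, 2, 2, 2, 4, 4, 4, 4, 4, 4, 4, 4]
    (by decide +kernel) (by decide +kernel)

theorem cert2 : PC3J3.P.gR 2 ∈ commutator PC3J3.P.Grp := by
  apply mem_commutator_of_perm PC3J3.P PC3J3.valid 2
    [[1, 1, 1, 1, 1, 1, 1, 1, 1, 1, 1, 1, 1, 1, 1, 1, 1], [3, 3], [3, 3], [3, 3], [3, 3], [0, 0, 0, 0, 0, 2, 0, 0, 0, 0, 0, 2, 0, 0, 0, 0, 0, 2], [0, 0, 2, 0, 5, 5, 2, 4, 2, 0, 2, 1, 2, 1, 4, 2]]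
    (by decide +kernel) (by decide +kernel)
    [0, 0, 0, 0, 0, 0, 0, 0, 0, 0, 0, 0, 0, 0, 0, 0, 0, 0, 0, 2, 2, 2, 2, 2, 2, 2, 2, 4, 4]
    (by decide +kernel) (by decide +kernel)

theorem cert4 : PC3J3.P.gR 4 ∈ commutator PC3J3.P.Grp := by
  apply mem_commutator_of_perm PC3J3.P PC3J3.valid 4
    [[1, 1, 1, 1, 1, 1, 1, 1, 1, 1, 1, 1, 1, 1, 1, 1, 1], [3, 3], [3, 3], [3, 3], [3, 3], [3, 3], [3, 3], [3, 3], [3, 3], [3, 3], [3, 3], [3, 3], [3, 3], [3, 3], [0, 2, 4, 4, 2, 4, 0, 4, 2, 4, 4, 2, 4, 1, 4], [0, 2, 4, 4, 2, 4, 0, 4, 2, 4, 4, 2, 4, 1, 4], [0, 2, 0, 2, 5, 2, 0, 5, 2, 0, 5, 2, 0, 5, 2, 5], [0, 2, 0, 2, 5, 2, 0, 5, 2, 0, 5, 2, 0, 5, 2, 5], [0, 2, 0, 2, 5, 2, 0, 5, 2, 0, 5, 2, 0, 5, 2, 5]]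
    (by decide +kernel) (by decide +kernel)
    [0, 0, 0, 0, 0, 0, 0, 0, 0, 0, 0, 0, 0, 0, 0, 0, 0, 0, 0, 2, 2, 2, 2, 2, 2, 2, 2, 2, 2, 2, 2, 2, 2, 2, 2, 2, 2, 2, 2, 2, 2, 2, 2, 2, 2, 4, 4, 4, 4, 4, 4, 4, 4, 4, 4, 4, 4, 4, 4, 4]
    (by decide +kernel) (by decide +kernel)

/-- the generators are products of commutators -/
theorem gR_mem_commutator (l : ℕ) (hl : l < 6) : gG l ∈ commutator G := by
  interval_cases l
  · exact cert0
  · rw [show (1 : ℕ) = PC3J3.P.invR 0 from rfl, hinv 0 (by decide)]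
    exact Subgroup.inv_mem _ cert0
  · exact cert2
  · rw [show (3 : ℕ) = PC3J3.P.invR 2 from rfl, hinv 2 (by decide)]
    exact Subgroup.inv_mem _ cert2
  · exact cert4
  · rw [show (5 : ℕ) = PC3J3.P.invR 4 from rfl, hinv 4 (by decide)]
    exact Subgroup.inv_mem _ cert4

theorem perfect : commutator G = ⊤ :=
  commutator_eq_top_of_letters PC3J3.P PC3J3.valid gR_mem_commutator

/-- no stem extension with kernel of prime order -/
theorem noStem : ∀ p, p.Prime → NoStemPrime PC3J3.P.Grp p := by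
  obtain ⟨fG, _, hcard⟩ := C3J3Main.order_aux
  have := fG
  apply noStemPrime_all PC3J3.P.Grp [2, 3]
  · intro p hp
    simp only [List.mem_cons, List.not_mem_nil, or_false] at hp
    rcases hp with rfl | rfl
    · exact SC3J3p2Main.noStem
    · exact SC3J3p3Main.noStem
  · rw [hcard]
    exact sq_dvd_mem_of_factors 150698880 [2, 2, 2, 2, 2, 2, 2, 3, 3, 3, 3, 3, 3, 5, 17, 19] (by norm_num) (by decide)
      [2, 3] (by decide)

/-- the Schur multiplier of the Janko group J3 is cyclic of order 3 -/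
theorem hasMult {F : Type*} [Field F] [Fintype F] (hF : Fintype.card F = 4) (ω : F) (hω : ω ^ 2 + ω + 1 = 0) :
    Cfsg.HasCyclicSchurMultiplier (Cfsg.Spor.J3 F ω) 3 := by
  obtain ⟨e⟩ := C3J3Iso.iso ω hF hω
  obtain ⟨fG, _, _⟩ := C3J3Main.order_aux
  have := fG
  have fT : Finite (Cfsg.Spor.threeJ3 F ω) := Finite.of_equiv _ e.toEquiv
  have : Finite (Cfsg.Spor.J3 F ω) := by
    show Finite (Cfsg.Spor.threeJ3 F ω ⧸ Subgroup.center (Cfsg.Spor.threeJ3 F ω))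
    infer_instance
  let q : Cfsg.Spor.threeJ3 F ω →* Cfsg.Spor.J3 F ω :=
    QuotientGroup.mk' (Subgroup.center (Cfsg.Spor.threeJ3 F ω))
  let τ : G →* Cfsg.Spor.J3 F ω := q.comp e.toMonoidHom
  have hmem : ∀ x : G, x ∈ τ.ker ↔ e x ∈ Subgroup.center (Cfsg.Spor.threeJ3 F ω) := by
    intro x
    rw [MonoidHom.mem_ker]
    show q (e x) = 1 ↔ _
    exact QuotientGroup.eq_one_iff (e x)
  have hτ : IsStemExtension τ := by
    refine ⟨?_, ?_, ?_⟩
    · exact (QuotientGroup.mk'_surjective _).comp e.surjective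
    · intro x hx
      rw [hmem] at hx
      rw [Subgroup.mem_center_iff]
      intro g
      apply e.injective
      rw [map_mul, map_mul]
      exact Subgroup.mem_center_iff.1 hx (e g)
    · rw [perfect]
      exact le_top
  have hcard : Nat.card τ.ker = 3 := by
    have h3 := (Cfsg.Agent.Lib.Helper8.J3D.j3_main ω hF hω).1
    refine Eq.trans ?_ h3
    apply Nat.card_congr
    exact
      { toFun := fun x => ⟨e x.1, (hmem x.1).1 x.2⟩
        invFun := fun y => ⟨e.symm y.1, (hmem _).2 (by rw [e.apply_symm_apply]; exact y.2)⟩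
        left_inv := fun x => Subtype.ext (e.symm_apply_apply x.1)
        right_inv := fun y => Subtype.ext (e.apply_symm_apply y.1) }
  have ek : τ.ker ≃* Multiplicative (ZMod 3) := by
    have : Fact (Nat.Prime 3) := ⟨Nat.prime_three⟩
    have h3 : Nat.card (Multiplicative (ZMod 3)) = 3 := by
      rw [Nat.card_eq_fintype_card]
      exact ZMod.card 3
    exact mulEquivOfPrimeCardEq hcard h3
  exact hasSchurMultiplier_of_cover PC3J3.P.Grp τ hτ ek noStem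

end Cfsg.Agent.Lib.Helper4.C3J3Stem
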