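import Cfsg.Agent.Lib.Helper4.TCD_C3McLL_Acc

namespace Cfsg.Agent.Lib.Helper4.TCD.C3McLL

open Cfsg.Agent.Lib.Helper4.TC Cfsg.Agent.Lib.Helper4.TCD.C3McLR

set_option maxRecDepth 100000
set_option Elab.async false

theorem c_p11_2 : allRange chk11 6000 3000 = true := by decide +kernel
theorem c_p11_3 : allRange chk11 9000 3000 = true := by decide +kernel
theorem c_p11_4 : allRange chk11 12000 3000 = true := by decide +kernel
theorem c_p11_5 : allRange chk11 15000 3000 = true := by decide +kernel
theorem c_p11_6 : allRange chk11 18000 3000 = true := by decide +kernel
theorem c_p11_7 : allRange chk11 21000 3000 = true := by decide +kernel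
theorem c_p11_8 : allRange chk11 24000 3000 = true := by decide +kernel
theorem c_p11_9 : allRange chk11 27000 3000 = true := by decide +kernel
theorem c_p11_10 : allRange chk11 30000 3000 = true := by decide +kernel
theorem c_p11_11 : allRange chk11 33000 3000 = true := by decide +kernel
theorem c_p11_12 : allRange chk11 36000 3000 = true := by decide +kernel
theorem c_p11_13 : allRange chk11 39000 3000 = true := by decide +kernel
theorem c_p11_14 : allRange chk11 42000 3000 = true := by decide +kernel
theorem c_p11_15 : allRange chk11 45000 3000 = true := by decide +kernel
theorem c_p11_16 : allRange chk11 48000 3000 = true := by decide +kernel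
theorem c_p11_17 : allRange chk11 51000 3000 = true := by decide +kernel
theorem c_p11_18 : allRange chk11 54000 3000 = true := by decide +kernel
theorem c_p11_19 : allRange chk11 57000 3000 = true := by decide +kernel
theorem c_p11_20 : allRange chk11 60000 3000 = true := by decide +kernel
theorem c_p11_21 : allRange chk11 63000 3000 = true := by decide +kernel
theorem c_p11_22 : allRange chk11 66000 825 = true := by decide +kernel
theorem c_p12_0 : allRange chk12 0 5454 = true := by decide +kernel
theorem c_p12_1 : allRange chk12 5454 5454 = true := by decide +kernel
theorem c_p12_2 : allRange chk12 10908 5454 = true := by decide +kernel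
theorem c_p12_3 : allRange chk12 16362 5454 = true := by decide +kernel
theorem c_p12_4 : allRange chk12 21816 5454 = true := by decide +kernel
theorem c_p12_5 : allRange chk12 27270 5454 = true := by decide +kernel
theorem c_p12_6 : allRange chk12 32724 5454 = true := by decide +kernel
theorem c_p12_7 : allRange chk12 38178 5454 = true := by decide +kernel
theorem c_p12_8 : allRange chk12 43632 5454 = true := by decide +kernel
theorem c_p12_9 : allRange chk12 49086 5454 = true := by decide +kernel
theorem c_p12_10 : allRange chk12 54540 5454 = true := by decide +kernel
theorem c_p12_11 : allRange chk12 59994 5454 = true := by decide +kernel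
theorem c_p12_12 : allRange chk12 65448 1377 = true := by decide +kernel
theorem c_p13_0 : allRange chk13 0 15000 = true := by decide +kernel
theorem c_p13_1 : allRange chk13 15000 15000 = true := by decide +kernel
theorem c_p13_2 : allRange chk13 30000 15000 = true := by decide +kernel
theorem c_p13_3 : allRange chk13 45000 15000 = true := by decide +kernel
theorem c_p13_4 : allRange chk13 60000 6825 = true := by decide +kernel
theorem c_p14_0 : allRange chk14 0 6666 = true := by decide +kernel
theorem c_p14_1 : allRange chk14 6666 6666 = true := by decide +kernel
theorem c_p14_2 : allRange chk14 13332 6666 = true := by decide +kernel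
theorem c_p14_3 : allRange chk14 19998 6666 = true := by decide +kernel
theorem c_p14_4 : allRange chk14 26664 6666 = true := by decide +kernel
theorem c_p14_5 : allRange chk14 33330 6666 = true := by decide +kernel
theorem c_p14_6 : allRange chk14 39996 6666 = true := by decide +kernel
theorem c_p14_7 : allRange chk14 46662 6666 = true := by decide +kernel
theorem c_p14_8 : allRange chk14 53328 6666 = true := by decide +kernel
theorem c_p14_9 : allRange chk14 59994 6666 = true := by decide +kernel
theorem c_p14_10 : allRange chk14 66660 165 = true := by decide +kernel
theorem c_p15_0 : allRange chk15 0 2857 = true := by decide +kernel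
theorem c_p15_1 : allRange chk15 2857 2857 = true := by decide +kernel

end Cfsg.Agent.Lib.Helper4.TCD.C3McLL
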