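import Cfsg.Agent.Lib.Helper4.TCD_C3McLL_Acc

namespace Cfsg.Agent.Lib.Helper4.TCD.C3McLL

open Cfsg.Agent.Lib.Helper4.TC Cfsg.Agent.Lib.Helper4.TCD.C3McLR

set_option maxRecDepth 100000
set_option Elab.async false

theorem c_p15_2 : allRange chk15 5714 2857 = true := by decide +kernel
theorem c_p15_3 : allRange chk15 8571 2857 = true := by decide +kernel
theorem c_p15_4 : allRange chk15 11428 2857 = true := by decide +kernel
theorem c_p15_5 : allRange chk15 14285 2857 = true := by decide +kernel
theorem c_p15_6 : allRange chk15 17142 2857 = true := by decide +kernel
theorem c_p15_7 : allRange chk15 19999 2857 = true := by decide +kernel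
theorem c_p15_8 : allRange chk15 22856 2857 = true := by decide +kernel
theorem c_p15_9 : allRange chk15 25713 2857 = true := by decide +kernel
theorem c_p15_10 : allRange chk15 28570 2857 = true := by decide +kernel
theorem c_p15_11 : allRange chk15 31427 2857 = true := by decide +kernel
theorem c_p15_12 : allRange chk15 34284 2857 = true := by decide +kernel
theorem c_p15_13 : allRange chk15 37141 2857 = true := by decide +kernel
theorem c_p15_14 : allRange chk15 39998 2857 = true := by decide +kernel
theorem c_p15_15 : allRange chk15 42855 2857 = true := by decide +kernel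
theorem c_p15_16 : allRange chk15 45712 2857 = true := by decide +kernel
theorem c_p15_17 : allRange chk15 48569 2857 = true := by decide +kernel
theorem c_p15_18 : allRange chk15 51426 2857 = true := by decide +kernel
theorem c_p15_19 : allRange chk15 54283 2857 = true := by decide +kernel
theorem c_p15_20 : allRange chk15 57140 2857 = true := by decide +kernel
theorem c_p15_21 : allRange chk15 59997 2857 = true := by decide +kernel
theorem c_p15_22 : allRange chk15 62854 2857 = true := by decide +kernel
theorem c_p15_23 : allRange chk15 65711 1114 = true := by decide +kernel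
theorem c_p16_0 : allRange chk16 0 15000 = true := by decide +kernel
theorem c_p16_1 : allRange chk16 15000 15000 = true := by decide +kernel
theorem c_p16_2 : allRange chk16 30000 15000 = true := by decide +kernel
theorem c_p16_3 : allRange chk16 45000 15000 = true := by decide +kernel
theorem c_p16_4 : allRange chk16 60000 6825 = true := by decide +kernel
theorem c_p17_0 : allRange chk17 0 6666 = true := by decide +kernel
theorem c_p17_1 : allRange chk17 6666 6666 = true := by decide +kernel
theorem c_p17_2 : allRange chk17 13332 6666 = true := by decide +kernel
theorem c_p17_3 : allRange chk17 19998 6666 = true := by decide +kernel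
theorem c_p17_4 : allRange chk17 26664 6666 = true := by decide +kernel
theorem c_p17_5 : allRange chk17 33330 6666 = true := by decide +kernel
theorem c_p17_6 : allRange chk17 39996 6666 = true := by decide +kernel
theorem c_p17_7 : allRange chk17 46662 6666 = true := by decide +kernel
theorem c_p17_8 : allRange chk17 53328 6666 = true := by decide +kernel
theorem c_p17_9 : allRange chk17 59994 6666 = true := by decide +kernel
theorem c_p17_10 : allRange chk17 66660 165 = true := by decide +kernel
theorem c_nd0_0 : allRange (S.nodeOK 0) 0 5000 = true := by decide +kernel
theorem c_nd0_1 : allRange (S.nodeOK 0) 5000 5000 = true := by decide +kernel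
theorem c_nd0_2 : allRange (S.nodeOK 0) 10000 5000 = true := by decide +kernel
theorem c_nd0_3 : allRange (S.nodeOK 0) 15000 5000 = true := by decide +kernel
theorem c_nd0_4 : allRange (S.nodeOK 0) 20000 5000 = true := by decide +kernel
theorem c_nd0_5 : allRange (S.nodeOK 0) 25000 5000 = true := by decide +kernel
theorem c_nd0_6 : allRange (S.nodeOK 0) 30000 5000 = true := by decide +kernel
theorem c_nd0_7 : allRange (S.nodeOK 0) 35000 5000 = true := by decide +kernel
theorem c_nd0_8 : allRange (S.nodeOK 0) 40000 5000 = true := by decide +kernel
theorem c_nd0_9 : allRange (S.nodeOK 0) 45000 5000 = true := by decide +kernel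
theorem c_nd0_10 : allRange (S.nodeOK 0) 50000 5000 = true := by decide +kernel
theorem c_nd0_11 : allRange (S.nodeOK 0) 55000 5000 = true := by decide +kernel
theorem c_nd0_12 : allRange (S.nodeOK 0) 60000 5000 = true := by decide +kernel
theorem c_nd0_13 : allRange (S.nodeOK 0) 65000 1825 = true := by decide +kernel
theorem c_nd1_0 : allRange (S.nodeOK 1) 0 630 = true := by decide +kernel
theorem c_nd2_0 : allRange (S.nodeOK 2) 0 16 = true := by decide +kernel
theorem c_nd3_0 : allRange (S.nodeOK 3) 0 4 = true := by decide +kernel

end Cfsg.Agent.Lib.Helper4.TCD.C3McLL
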