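import Cfsg.Agent.Lib.Helper4.TCD_C3McLL_C0
import Cfsg.Agent.Lib.Helper4.TCD_C3McLL_C1
import Cfsg.Agent.Lib.Helper4.TCD_C3McLL_C2
import Cfsg.Agent.Lib.Helper4.TC13

namespace Cfsg.Agent.Lib.Helper4.TCD.C3McLL

open Cfsg.Agent.Lib.Helper4.TC Cfsg.Agent.Lib.Helper4.TCD.C3McLR

theorem h_p8 : ∀ p, 0 ≤ p → p < 66825 → chk8 p = true :=
  (range_glue (range_of_allRange c_p8_0) (range_glue (range_of_allRange c_p8_1) (range_glue (range_of_allRange c_p8_2) (range_glue (range_of_allRange c_p8_3) (range_glue (range_of_allRange c_p8_4) (range_glue (range_of_allRange c_p8_5) (range_glue (range_of_allRange c_p8_6) (range_glue (range_of_allRange c_p8_7) (range_glue (range_of_allRange c_p8_8) (range_glue (range_of_allRange c_p8_9) (range_glue (range_of_allRange c_p8_10) (range_glue (range_of_allRange c_p8_11) (range_glue (range_of_allRange c_p8_12) (range_glue (range_of_allRange c_p8_13) (range_glue (range_of_allRange c_p8_14) (range_glue (range_of_allRange c_p8_15) (range_glue (range_of_allRange c_p8_16) (range_glue (range_of_allRange c_p8_17) (range_glue (range_of_allRange c_p8_18) (range_glue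 (range_of_allRange c_p8_19) (range_of_allRange c_p8_20)))))))))))))))))))))
theorem h_p9 : ∀ p, 0 ≤ p → p < 66825 → chk9 p = true :=
  (range_glue (range_of_allRange c_p9_0) (range_glue (range_of_allRange c_p9_1) (range_glue (range_of_allRange c_p9_2) (range_glue (range_of_allRange c_p9_3) (range_of_allRange c_p9_4)))))
theorem h_p10 : ∀ p, 0 ≤ p → p < 66825 → chk10 p = true :=
  (range_glue (range_of_allRange c_p10_0) (range_glue (range_of_allRange c_p10_1) (range_glue (range_of_allRange c_p10_2) (range_glue (range_of_allRange c_p10_3) (range_glue (range_of_allRange c_p10_4) (range_glue (range_of_allRange c_p10_5) (range_glue (range_of_allRange c_p10_6) (range_glue (range_of_allRange c_p10_7) (range_glue (range_of_allRange c_p10_8) (range_glue (range_of_allRange c_p10_9) (range_glue (range_of_allRange c_p10_10) (range_glue (range_of_allRange c_p10_11) (range_glue (range_of_allRange c_p10_12) (range_glue (range_of_allRange c_p10_13) (range_glue (range_of_allRange c_p10_14) (range_glue (range_of_allRange c_p10_15) (range_glue (range_of_allRange c_p10_16) (range_glue (range_of_allRange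 c_p10_17) (range_glue (range_of_allRange c_p10_18) (range_glue (range_of_allRange c_p10_19) (range_glue (range_of_allRange c_p10_20) (range_glue (range_of_allRange c_p10_21) (range_glue (range_of_allRange c_p10_22) (range_of_allRange c_p10_23))))))))))))))))))))))))
theorem h_p11 : ∀ p, 0 ≤ p → p < 66825 → chk11 p = true :=
  (range_glue (range_of_allRange c_p11_0) (range_glue (range_of_allRange c_p11_1) (range_glue (range_of_allRange c_p11_2) (range_glue (range_of_allRange c_p11_3) (range_glue (range_of_allRange c_p11_4) (range_glue (range_of_allRange c_p11_5) (range_glue (range_of_allRange c_p11_6) (range_glue (range_of_allRange c_p11_7) (range_glue (range_of_allRange c_p11_8) (range_glue (range_of_allRange c_p11_9) (range_glue (range_of_allRange c_p11_10) (range_glue (range_of_allRange c_p11_11) (range_glue (range_of_allRange c_p11_12) (range_glue (range_of_allRange c_p11_13) (range_glue (range_of_allRange c_p11_14) (range_glue (range_of_allRange c_p11_15) (range_glue (range_of_allRange c_p11_16) (range_glue (range_of_allRange c_p11_17) (range_glue (range_of_allRange c_p11_18)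 (range_glue (range_of_allRange c_p11_19) (range_glue (range_of_allRange c_p11_20) (range_glue (range_of_allRange c_p11_21) (range_of_allRange c_p11_22)))))))))))))))))))))))
theorem h_p12 : ∀ p, 0 ≤ p → p < 66825 → chk12 p = true :=
  (range_glue (range_of_allRange c_p12_0) (range_glue (range_of_allRange c_p12_1) (range_glue (range_of_allRange c_p12_2) (range_glue (range_of_allRange c_p12_3) (range_glue (range_of_allRange c_p12_4) (range_glue (range_of_allRange c_p12_5) (range_glue (range_of_allRange c_p12_6) (range_glue (range_of_allRange c_p12_7) (range_glue (range_of_allRange c_p12_8) (range_glue (range_of_allRange c_p12_9) (range_glue (range_of_allRange c_p12_10) (range_glue (range_of_allRange c_p12_11) (range_of_allRange c_p12_12)))))))))))))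
theorem h_p13 : ∀ p, 0 ≤ p → p < 66825 → chk13 p = true :=
  (range_glue (range_of_allRange c_p13_0) (range_glue (range_of_allRange c_p13_1) (range_glue (range_of_allRange c_p13_2) (range_glue (range_of_allRange c_p13_3) (range_of_allRange c_p13_4)))))
theorem h_p14 : ∀ p, 0 ≤ p → p < 66825 → chk14 p = true :=
  (range_glue (range_of_allRange c_p14_0) (range_glue (range_of_allRange c_p14_1) (range_glue (range_of_allRange c_p14_2) (range_glue (range_of_allRange c_p14_3) (range_glue (range_of_allRange c_p14_4) (range_glue (range_of_allRange c_p14_5) (range_glue (range_of_allRange c_p14_6) (range_glue (range_of_allRange c_p14_7) (range_glue (range_of_allRange c_p14_8) (range_glue (range_of_allRange c_p14_9) (range_of_allRange c_p14_10)))))))))))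
theorem h_p15 : ∀ p, 0 ≤ p → p < 66825 → chk15 p = true :=
  (range_glue (range_of_allRange c_p15_0) (range_glue (range_of_allRange c_p15_1) (range_glue (range_of_allRange c_p15_2) (range_glue (range_of_allRange c_p15_3) (range_glue (range_of_allRange c_p15_4) (range_glue (range_of_allRange c_p15_5) (range_glue (range_of_allRange c_p15_6) (range_glue (range_of_allRange c_p15_7) (range_glue (range_of_allRange c_p15_8) (range_glue (range_of_allRange c_p15_9) (range_glue (range_of_allRange c_p15_10) (range_glue (range_of_allRange c_p15_11) (range_glue (range_of_allRange c_p15_12) (range_glue (range_of_allRange c_p15_13) (range_glue (range_of_allRange c_p15_14) (range_glue (range_of_allRange c_p15_15) (range_glue (range_of_allRange c_p15_16) (range_glue (range_of_allRange c_p15_17) (range_glue (range_of_allRange c_p15_18) (range_glue (range_of_allRange c_p15_19) (range_glue (range_of_allRange c_p15_20) (range_glue (range_of_allRange c_p15_21) (range_glue (range_of_allRange c_p15_22) (range_of_allRange c_p15_23))))))))))))))))))))))))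
theorem h_p16 : ∀ p, 0 ≤ p → p < 66825 → chk16 p = true :=
  (range_glue (range_of_allRange c_p16_0) (range_glue (range_of_allRange c_p16_1) (range_glue (range_of_allRange c_p16_2) (range_glue (range_of_allRange c_p16_3) (range_of_allRange c_p16_4)))))
theorem h_p17 : ∀ p, 0 ≤ p → p < 66825 → chk17 p = true :=
  (range_glue (range_of_allRange c_p17_0) (range_glue (range_of_allRange c_p17_1) (range_glue (range_of_allRange c_p17_2) (range_glue (range_of_allRange c_p17_3) (range_glue (range_of_allRange c_p17_4) (range_glue (range_of_allRange c_p17_5) (range_glue (range_of_allRange c_p17_6) (range_glue (range_of_allRange c_p17_7) (range_glue (range_of_allRange c_p17_8) (range_glue (range_of_allRange c_p17_9) (range_of_allRange c_p17_10)))))))))))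
theorem h_nd0 : ∀ idx, 0 ≤ idx → idx < 66825 → S.nodeOK 0 idx = true :=
  (range_glue (range_of_allRange c_nd0_0) (range_glue (range_of_allRange c_nd0_1) (range_glue (range_of_allRange c_nd0_2) (range_glue (range_of_allRange c_nd0_3) (range_glue (range_of_allRange c_nd0_4) (range_glue (range_of_allRange c_nd0_5) (range_glue (range_of_allRange c_nd0_6) (range_glue (range_of_allRange c_nd0_7) (range_glue (range_of_allRange c_nd0_8) (range_glue (range_of_allRange c_nd0_9) (range_glue (range_of_allRange c_nd0_10) (range_glue (range_of_allRange c_nd0_11) (range_glue (range_of_allRange c_nd0_12) (range_of_allRange c_nd0_13))))))))))))))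
theorem h_nd1 : ∀ idx, 0 ≤ idx → idx < 630 → S.nodeOK 1 idx = true :=
  (range_of_allRange c_nd1_0)
theorem h_nd2 : ∀ idx, 0 ≤ idx → idx < 16 → S.nodeOK 2 idx = true :=
  (range_of_allRange c_nd2_0)
theorem h_nd3 : ∀ idx, 0 ≤ idx → idx < 4 → S.nodeOK 3 idx = true :=
  (range_of_allRange c_nd3_0)

theorem ok : S.OK where
  hkm := by decide
  hperm := by
    intro i p h1 h2 hp
    have h1 : 8 ≤ i := h1
    have h2 : i < 18 := h2
    have hp : p < 66825 := hp
    interval_cases i
    · rw [← chk8_eq]; exact h_p8 p (Nat.zero_le _) hp
    · rw [← chk9_eq]; exact h_p9 p (Nat.zero_le _) hp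
    · rw [← chk10_eq]; exact h_p10 p (Nat.zero_le _) hp
    · rw [← chk11_eq]; exact h_p11 p (Nat.zero_le _) hp
    · rw [← chk12_eq]; exact h_p12 p (Nat.zero_le _) hp
    · rw [← chk13_eq]; exact h_p13 p (Nat.zero_le _) hp
    · rw [← chk14_eq]; exact h_p14 p (Nat.zero_le _) hp
    · rw [← chk15_eq]; exact h_p15 p (Nat.zero_le _) hp
    · rw [← chk16_eq]; exact h_p16 p (Nat.zero_le _) hp
    · rw [← chk17_eq]; exact h_p17 p (Nat.zero_le _) hp
  hwords := fun i h1 h2 => range_of_allRange c_words i h1 h2
  hfix := fun i t hi ht => range_of_allGrid c_fix i (Nat.zero_le _) (by have h : i < 18 := hi; omega) t ht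
  hroot := fun j hj => ble_succ (allBelow_eq_true.1 c_root j hj)
  hnode := by
    intro j idx hj hidx
    have hj : j < 4 := hj
    interval_cases j
    · rw [c_n0] at hidx; exact h_nd0 idx (Nat.zero_le _) hidx
    · rw [c_n1] at hidx; exact h_nd1 idx (Nat.zero_le _) hidx
    · rw [c_n2] at hidx; exact h_nd2 idx (Nat.zero_le _) hidx
    · rw [c_n3] at hidx; exact h_nd3 idx (Nat.zero_le _) hidx

theorem htab0 : ∀ i, i < S.k → ∀ p, p < S.N → S.tab i p = T.tbl p (D.inv i) := by
  intro i hi p _
  have hi : i < 8 := hi
  interval_cases i <;> rfl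

theorem prod_eq : S.prodFrom S.r 0 = 2694384000 := by decide +kernel

end Cfsg.Agent.Lib.Helper4.TCD.C3McLL
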