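import Cfsg.Agent.Lib.Helper4.TCD_C3McLR_Acc

namespace Cfsg.Agent.Lib.Helper4.TCD.C3McLR

open Cfsg.Agent.Lib.Helper4.TC

set_option maxRecDepth 100000
set_option Elab.async false

theorem c_act6_18 : allRange (fun i => Nat.beq (actR6 i) i) 63522 3303 = true := by decide +kernel
theorem c_act7_0 : allRange (fun i => Nat.beq (actR7 i) i) 0 3529 = true := by decide +kernel
theorem c_act7_1 : allRange (fun i => Nat.beq (actR7 i) i) 3529 3529 = true := by decide +kernel
theorem c_act7_2 : allRange (fun i => Nat.beq (actR7 i) i) 7058 3529 = true := by decide +kernel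
theorem c_act7_3 : allRange (fun i => Nat.beq (actR7 i) i) 10587 3529 = true := by decide +kernel
theorem c_act7_4 : allRange (fun i => Nat.beq (actR7 i) i) 14116 3529 = true := by decide +kernel
theorem c_act7_5 : allRange (fun i => Nat.beq (actR7 i) i) 17645 3529 = true := by decide +kernel
theorem c_act7_6 : allRange (fun i => Nat.beq (actR7 i) i) 21174 3529 = true := by decide +kernel
theorem c_act7_7 : allRange (fun i => Nat.beq (actR7 i) i) 24703 3529 = true := by decide +kernel
theorem c_act7_8 : allRange (fun i => Nat.beq (actR7 i) i) 28232 3529 = true := by decide +kernel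
theorem c_act7_9 : allRange (fun i => Nat.beq (actR7 i) i) 31761 3529 = true := by decide +kernel
theorem c_act7_10 : allRange (fun i => Nat.beq (actR7 i) i) 35290 3529 = true := by decide +kernel
theorem c_act7_11 : allRange (fun i => Nat.beq (actR7 i) i) 38819 3529 = true := by decide +kernel
theorem c_act7_12 : allRange (fun i => Nat.beq (actR7 i) i) 42348 3529 = true := by decide +kernel
theorem c_act7_13 : allRange (fun i => Nat.beq (actR7 i) i) 45877 3529 = true := by decide +kernel
theorem c_act7_14 : allRange (fun i => Nat.beq (actR7 i) i) 49406 3529 = true := by decide +kernel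
theorem c_act7_15 : allRange (fun i => Nat.beq (actR7 i) i) 52935 3529 = true := by decide +kernel
theorem c_act7_16 : allRange (fun i => Nat.beq (actR7 i) i) 56464 3529 = true := by decide +kernel
theorem c_act7_17 : allRange (fun i => Nat.beq (actR7 i) i) 59993 3529 = true := by decide +kernel
theorem c_act7_18 : allRange (fun i => Nat.beq (actR7 i) i) 63522 3303 = true := by decide +kernel
theorem c_act8_0 : allRange (fun i => Nat.beq (actR8 i) i) 0 3333 = true := by decide +kernel
theorem c_act8_1 : allRange (fun i => Nat.beq (actR8 i) i) 3333 3333 = true := by decide +kernel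
theorem c_act8_2 : allRange (fun i => Nat.beq (actR8 i) i) 6666 3333 = true := by decide +kernel
theorem c_act8_3 : allRange (fun i => Nat.beq (actR8 i) i) 9999 3333 = true := by decide +kernel
theorem c_act8_4 : allRange (fun i => Nat.beq (actR8 i) i) 13332 3333 = true := by decide +kernel
theorem c_act8_5 : allRange (fun i => Nat.beq (actR8 i) i) 16665 3333 = true := by decide +kernel
theorem c_act8_6 : allRange (fun i => Nat.beq (actR8 i) i) 19998 3333 = true := by decide +kernel
theorem c_act8_7 : allRange (fun i => Nat.beq (actR8 i) i) 23331 3333 = true := by decide +kernel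
theorem c_act8_8 : allRange (fun i => Nat.beq (actR8 i) i) 26664 3333 = true := by decide +kernel
theorem c_act8_9 : allRange (fun i => Nat.beq (actR8 i) i) 29997 3333 = true := by decide +kernel
theorem c_act8_10 : allRange (fun i => Nat.beq (actR8 i) i) 33330 3333 = true := by decide +kernel
theorem c_act8_11 : allRange (fun i => Nat.beq (actR8 i) i) 36663 3333 = true := by decide +kernel
theorem c_act8_12 : allRange (fun i => Nat.beq (actR8 i) i) 39996 3333 = true := by decide +kernel
theorem c_act8_13 : allRange (fun i => Nat.beq (actR8 i) i) 43329 3333 = true := by decide +kernel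
theorem c_act8_14 : allRange (fun i => Nat.beq (actR8 i) i) 46662 3333 = true := by decide +kernel
theorem c_act8_15 : allRange (fun i => Nat.beq (actR8 i) i) 49995 3333 = true := by decide +kernel
theorem c_act8_16 : allRange (fun i => Nat.beq (actR8 i) i) 53328 3333 = true := by decide +kernel
theorem c_act8_17 : allRange (fun i => Nat.beq (actR8 i) i) 56661 3333 = true := by decide +kernel
theorem c_act8_18 : allRange (fun i => Nat.beq (actR8 i) i) 59994 3333 = true := by decide +kernel
theorem c_act8_19 : allRange (fun i => Nat.beq (actR8 i) i) 63327 3333 = true := by decide +kernel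
theorem c_act8_20 : allRange (fun i => Nat.beq (actR8 i) i) 66660 165 = true := by decide +kernel
theorem c_act9_0 : allRange (fun i => Nat.beq (actR9 i) i) 0 3529 = true := by decide +kernel
theorem c_act9_1 : allRange (fun i => Nat.beq (actR9 i) i) 3529 3529 = true := by decide +kernel
theorem c_act9_2 : allRange (fun i => Nat.beq (actR9 i) i) 7058 3529 = true := by decide +kernel
theorem c_act9_3 : allRange (fun i => Nat.beq (actR9 i) i) 10587 3529 = true := by decide +kernel
theorem c_act9_4 : allRange (fun i => Nat.beq (actR9 i) i) 14116 3529 = true := by decide +kernel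
theorem c_act9_5 : allRange (fun i => Nat.beq (actR9 i) i) 17645 3529 = true := by decide +kernel
theorem c_act9_6 : allRange (fun i => Nat.beq (actR9 i) i) 21174 3529 = true := by decide +kernel
theorem c_act9_7 : allRange (fun i => Nat.beq (actR9 i) i) 24703 3529 = true := by decide +kernel
theorem c_act9_8 : allRange (fun i => Nat.beq (actR9 i) i) 28232 3529 = true := by decide +kernel
theorem c_act9_9 : allRange (fun i => Nat.beq (actR9 i) i) 31761 3529 = true := by decide +kernel

end Cfsg.Agent.Lib.Helper4.TCD.C3McLR
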