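import Cfsg.Agent.Lib.Helper4.TCD_C3McLR_Acc

namespace Cfsg.Agent.Lib.Helper4.TCD.C3McLR

open Cfsg.Agent.Lib.Helper4.TC

set_option maxRecDepth 100000
set_option Elab.async false

theorem c_act12_4 : allRange (fun i => Nat.beq (actR12 i) i) 13332 3333 = true := by decide +kernel
theorem c_act12_5 : allRange (fun i => Nat.beq (actR12 i) i) 16665 3333 = true := by decide +kernel
theorem c_act12_6 : allRange (fun i => Nat.beq (actR12 i) i) 19998 3333 = true := by decide +kernel
theorem c_act12_7 : allRange (fun i => Nat.beq (actR12 i) i) 23331 3333 = true := by decide +kernel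
theorem c_act12_8 : allRange (fun i => Nat.beq (actR12 i) i) 26664 3333 = true := by decide +kernel
theorem c_act12_9 : allRange (fun i => Nat.beq (actR12 i) i) 29997 3333 = true := by decide +kernel
theorem c_act12_10 : allRange (fun i => Nat.beq (actR12 i) i) 33330 3333 = true := by decide +kernel
theorem c_act12_11 : allRange (fun i => Nat.beq (actR12 i) i) 36663 3333 = true := by decide +kernel
theorem c_act12_12 : allRange (fun i => Nat.beq (actR12 i) i) 39996 3333 = true := by decide +kernel
theorem c_act12_13 : allRange (fun i => Nat.beq (actR12 i) i) 43329 3333 = true := by decide +kernel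
theorem c_act12_14 : allRange (fun i => Nat.beq (actR12 i) i) 46662 3333 = true := by decide +kernel
theorem c_act12_15 : allRange (fun i => Nat.beq (actR12 i) i) 49995 3333 = true := by decide +kernel
theorem c_act12_16 : allRange (fun i => Nat.beq (actR12 i) i) 53328 3333 = true := by decide +kernel
theorem c_act12_17 : allRange (fun i => Nat.beq (actR12 i) i) 56661 3333 = true := by decide +kernel
theorem c_act12_18 : allRange (fun i => Nat.beq (actR12 i) i) 59994 3333 = true := by decide +kernel
theorem c_act12_19 : allRange (fun i => Nat.beq (actR12 i) i) 63327 3333 = true := by decide +kernel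
theorem c_act12_20 : allRange (fun i => Nat.beq (actR12 i) i) 66660 165 = true := by decide +kernel
theorem c_act13_0 : allRange (fun i => Nat.beq (actR13 i) i) 0 3529 = true := by decide +kernel
theorem c_act13_1 : allRange (fun i => Nat.beq (actR13 i) i) 3529 3529 = true := by decide +kernel
theorem c_act13_2 : allRange (fun i => Nat.beq (actR13 i) i) 7058 3529 = true := by decide +kernel
theorem c_act13_3 : allRange (fun i => Nat.beq (actR13 i) i) 10587 3529 = true := by decide +kernel
theorem c_act13_4 : allRange (fun i => Nat.beq (actR13 i) i) 14116 3529 = true := by decide +kernel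
theorem c_act13_5 : allRange (fun i => Nat.beq (actR13 i) i) 17645 3529 = true := by decide +kernel
theorem c_act13_6 : allRange (fun i => Nat.beq (actR13 i) i) 21174 3529 = true := by decide +kernel
theorem c_act13_7 : allRange (fun i => Nat.beq (actR13 i) i) 24703 3529 = true := by decide +kernel
theorem c_act13_8 : allRange (fun i => Nat.beq (actR13 i) i) 28232 3529 = true := by decide +kernel
theorem c_act13_9 : allRange (fun i => Nat.beq (actR13 i) i) 31761 3529 = true := by decide +kernel
theorem c_act13_10 : allRange (fun i => Nat.beq (actR13 i) i) 35290 3529 = true := by decide +kernel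
theorem c_act13_11 : allRange (fun i => Nat.beq (actR13 i) i) 38819 3529 = true := by decide +kernel
theorem c_act13_12 : allRange (fun i => Nat.beq (actR13 i) i) 42348 3529 = true := by decide +kernel
theorem c_act13_13 : allRange (fun i => Nat.beq (actR13 i) i) 45877 3529 = true := by decide +kernel
theorem c_act13_14 : allRange (fun i => Nat.beq (actR13 i) i) 49406 3529 = true := by decide +kernel
theorem c_act13_15 : allRange (fun i => Nat.beq (actR13 i) i) 52935 3529 = true := by decide +kernel
theorem c_act13_16 : allRange (fun i => Nat.beq (actR13 i) i) 56464 3529 = true := by decide +kernel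
theorem c_act13_17 : allRange (fun i => Nat.beq (actR13 i) i) 59993 3529 = true := by decide +kernel
theorem c_act13_18 : allRange (fun i => Nat.beq (actR13 i) i) 63522 3303 = true := by decide +kernel
theorem c_act14_0 : allRange (fun i => Nat.beq (actR14 i) i) 0 3157 = true := by decide +kernel
theorem c_act14_1 : allRange (fun i => Nat.beq (actR14 i) i) 3157 3157 = true := by decide +kernel
theorem c_act14_2 : allRange (fun i => Nat.beq (actR14 i) i) 6314 3157 = true := by decide +kernel
theorem c_act14_3 : allRange (fun i => Nat.beq (actR14 i) i) 9471 3157 = true := by decide +kernel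
theorem c_act14_4 : allRange (fun i => Nat.beq (actR14 i) i) 12628 3157 = true := by decide +kernel
theorem c_act14_5 : allRange (fun i => Nat.beq (actR14 i) i) 15785 3157 = true := by decide +kernel
theorem c_act14_6 : allRange (fun i => Nat.beq (actR14 i) i) 18942 3157 = true := by decide +kernel
theorem c_act14_7 : allRange (fun i => Nat.beq (actR14 i) i) 22099 3157 = true := by decide +kernel
theorem c_act14_8 : allRange (fun i => Nat.beq (actR14 i) i) 25256 3157 = true := by decide +kernel
theorem c_act14_9 : allRange (fun i => Nat.beq (actR14 i) i) 28413 3157 = true := by decide +kernel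
theorem c_act14_10 : allRange (fun i => Nat.beq (actR14 i) i) 31570 3157 = true := by decide +kernel
theorem c_act14_11 : allRange (fun i => Nat.beq (actR14 i) i) 34727 3157 = true := by decide +kernel
theorem c_act14_12 : allRange (fun i => Nat.beq (actR14 i) i) 37884 3157 = true := by decide +kernel
theorem c_act14_13 : allRange (fun i => Nat.beq (actR14 i) i) 41041 3157 = true := by decide +kernel
theorem c_act14_14 : allRange (fun i => Nat.beq (actR14 i) i) 44198 3157 = true := by decide +kernel

end Cfsg.Agent.Lib.Helper4.TCD.C3McLR
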