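import Cfsg.Agent.Lib.Helper4.TCD_C3McLR_Acc

namespace Cfsg.Agent.Lib.Helper4.TCD.C3McLR

open Cfsg.Agent.Lib.Helper4.TC

set_option maxRecDepth 100000
set_option Elab.async false

theorem c_act14_15 : allRange (fun i => Nat.beq (actR14 i) i) 47355 3157 = true := by decide +kernel
theorem c_act14_16 : allRange (fun i => Nat.beq (actR14 i) i) 50512 3157 = true := by decide +kernel
theorem c_act14_17 : allRange (fun i => Nat.beq (actR14 i) i) 53669 3157 = true := by decide +kernel
theorem c_act14_18 : allRange (fun i => Nat.beq (actR14 i) i) 56826 3157 = true := by decide +kernel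
theorem c_act14_19 : allRange (fun i => Nat.beq (actR14 i) i) 59983 3157 = true := by decide +kernel
theorem c_act14_20 : allRange (fun i => Nat.beq (actR14 i) i) 63140 3157 = true := by decide +kernel
theorem c_act14_21 : allRange (fun i => Nat.beq (actR14 i) i) 66297 528 = true := by decide +kernel
theorem c_act15_0 : allRange (fun i => Nat.beq (actR15 i) i) 0 20000 = true := by decide +kernel
theorem c_act15_1 : allRange (fun i => Nat.beq (actR15 i) i) 20000 20000 = true := by decide +kernel
theorem c_act15_2 : allRange (fun i => Nat.beq (actR15 i) i) 40000 20000 = true := by decide +kernel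
theorem c_act15_3 : allRange (fun i => Nat.beq (actR15 i) i) 60000 6825 = true := by decide +kernel
theorem c_act16_0 : allRange (fun i => Nat.beq (actR16 i) i) 0 15000 = true := by decide +kernel
theorem c_act16_1 : allRange (fun i => Nat.beq (actR16 i) i) 15000 15000 = true := by decide +kernel
theorem c_act16_2 : allRange (fun i => Nat.beq (actR16 i) i) 30000 15000 = true := by decide +kernel
theorem c_act16_3 : allRange (fun i => Nat.beq (actR16 i) i) 45000 15000 = true := by decide +kernel
theorem c_act16_4 : allRange (fun i => Nat.beq (actR16 i) i) 60000 6825 = true := by decide +kernel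
theorem c_act17_0 : allRange (fun i => Nat.beq (actR17 i) i) 0 15000 = true := by decide +kernel
theorem c_act17_1 : allRange (fun i => Nat.beq (actR17 i) i) 15000 15000 = true := by decide +kernel
theorem c_act17_2 : allRange (fun i => Nat.beq (actR17 i) i) 30000 15000 = true := by decide +kernel
theorem c_act17_3 : allRange (fun i => Nat.beq (actR17 i) i) 45000 15000 = true := by decide +kernel
theorem c_act17_4 : allRange (fun i => Nat.beq (actR17 i) i) 60000 6825 = true := by decide +kernel
theorem c_act18_0 : allRange (fun i => Nat.beq (actR18 i) i) 0 15000 = true := by decide +kernel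
theorem c_act18_1 : allRange (fun i => Nat.beq (actR18 i) i) 15000 15000 = true := by decide +kernel
theorem c_act18_2 : allRange (fun i => Nat.beq (actR18 i) i) 30000 15000 = true := by decide +kernel
theorem c_act18_3 : allRange (fun i => Nat.beq (actR18 i) i) 45000 15000 = true := by decide +kernel
theorem c_act18_4 : allRange (fun i => Nat.beq (actR18 i) i) 60000 6825 = true := by decide +kernel

end Cfsg.Agent.Lib.Helper4.TCD.C3McLR
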