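import Cfsg.Agent.Lib.Helper4.TCD_C3McLR_C0
import Cfsg.Agent.Lib.Helper4.TCD_C3McLR_C1
import Cfsg.Agent.Lib.Helper4.TCD_C3McLR_C2
import Cfsg.Agent.Lib.Helper4.TCD_C3McLR_C3
import Cfsg.Agent.Lib.Helper4.TCD_C3McLR_C4
import Cfsg.Agent.Lib.Helper4.TCD_C3McLR_C5

namespace Cfsg.Agent.Lib.Helper4.TCD.C3McLR

open Cfsg.Agent.Lib.Helper4.TC

theorem h_perm : ∀ i, 0 ≤ i → i < 66825 → ∀ x, x < 8 → T.permOK1 D i x = true :=
  (range_glue (range_of_allGrid c_perm_0) (range_glue (range_of_allGrid c_perm_1) (range_glue (range_of_allGrid c_perm_2) (range_glue (range_of_allGrid c_perm_3) (range_glue (range_of_allGrid c_perm_4) (range_glue (range_of_allGrid c_perm_5) (range_glue (range_of_allGrid c_perm_6) (range_glue (range_of_allGrid c_perm_7) (range_glue (range_of_allGrid c_perm_8) (range_glue (range_of_allGrid c_perm_9) (range_glue (range_of_allGrid c_perm_10) (range_glue (range_of_allGrid c_perm_11) (range_glue (range_of_allGrid c_perm_12) (range_glue (range_of_allGrid c_perm_13) (range_glue (range_of_allGrid c_perm_14) (range_glue (range_of_allGrid c_perm_15) (range_glue (range_of_allGrid c_perm_16) (range_of_allGrid c_perm_17))))))))))))))))))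
theorem h_act0 : ∀ i, 0 ≤ i → i < 66825 → Nat.beq (actR0 i) i = true :=
  (range_glue (range_of_allRange c_act0_0) (range_glue (range_of_allRange c_act0_1) (range_glue (range_of_allRange c_act0_2) (range_glue (range_of_allRange c_act0_3) (range_glue (range_of_allRange c_act0_4) (range_glue (range_of_allRange c_act0_5) (range_glue (range_of_allRange c_act0_6) (range_of_allRange c_act0_7))))))))
theorem h_act1 : ∀ i, 0 ≤ i → i < 66825 → Nat.beq (actR1 i) i = true :=
  (range_glue (range_of_allRange c_act1_0) (range_glue (range_of_allRange c_act1_1) (range_glue (range_of_allRange c_act1_2) (range_glue (range_of_allRange c_act1_3) (range_glue (range_of_allRange c_act1_4) (range_glue (range_of_allRange c_act1_5) (range_glue (range_of_allRange c_act1_6) (range_of_allRange c_act1_7))))))))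
theorem h_act2 : ∀ i, 0 ≤ i → i < 66825 → Nat.beq (actR2 i) i = true :=
  (range_glue (range_of_allRange c_act2_0) (range_glue (range_of_allRange c_act2_1) (range_glue (range_of_allRange c_act2_2) (range_glue (range_of_allRange c_act2_3) (range_glue (range_of_allRange c_act2_4) (range_glue (range_of_allRange c_act2_5) (range_glue (range_of_allRange c_act2_6) (range_glue (range_of_allRange c_act2_7) (range_glue (range_of_allRange c_act2_8) (range_glue (range_of_allRange c_act2_9) (range_glue (range_of_allRange c_act2_10) (range_glue (range_of_allRange c_act2_11) (range_glue (range_of_allRange c_act2_12) (range_of_allRange c_act2_13))))))))))))))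
theorem h_act3 : ∀ i, 0 ≤ i → i < 66825 → Nat.beq (actR3 i) i = true :=
  (range_glue (range_of_allRange c_act3_0) (range_glue (range_of_allRange c_act3_1) (range_glue (range_of_allRange c_act3_2) (range_glue (range_of_allRange c_act3_3) (range_glue (range_of_allRange c_act3_4) (range_glue (range_of_allRange c_act3_5) (range_glue (range_of_allRange c_act3_6) (range_glue (range_of_allRange c_act3_7) (range_glue (range_of_allRange c_act3_8) (range_glue (range_of_allRange c_act3_9) (range_glue (range_of_allRange c_act3_10) (range_glue (range_of_allRange c_act3_11) (range_glue (range_of_allRange c_act3_12) (range_of_allRange c_act3_13))))))))))))))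
theorem h_act4 : ∀ i, 0 ≤ i → i < 66825 → Nat.beq (actR4 i) i = true :=
  (range_glue (range_of_allRange c_act4_0) (range_glue (range_of_allRange c_act4_1) (range_glue (range_of_allRange c_act4_2) (range_of_allRange c_act4_3))))
theorem h_act5 : ∀ i, 0 ≤ i → i < 66825 → Nat.beq (actR5 i) i = true :=
  (range_glue (range_of_allRange c_act5_0) (range_glue (range_of_allRange c_act5_1) (range_glue (range_of_allRange c_act5_2) (range_glue (range_of_allRange c_act5_3) (range_glue (range_of_allRange c_act5_4) (range_glue (range_of_allRange c_act5_5) (range_glue (range_of_allRange c_act5_6) (range_glue (range_of_allRange c_act5_7) (range_glue (range_of_allRange c_act5_8) (range_glue (range_of_allRange c_act5_9) (range_glue (range_of_allRange c_act5_10) (range_glue (range_of_allRange c_act5_11) (range_glue (range_of_allRange c_act5_12) (range_glue (range_of_allRange c_act5_13) (range_glue (range_of_allRange c_act5_14) (range_glue (range_of_allRange c_act5_15) (range_glue (range_of_allRange c_act5_16) (range_of_allRange c_act5_17))))))))))))))))))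
theorem h_act6 : ∀ i, 0 ≤ i → i < 66825 → Nat.beq (actR6 i) i = true :=
  (range_glue (range_of_allRange c_act6_0) (range_glue (range_of_allRange c_act6_1) (range_glue (range_of_allRange c_act6_2) (range_glue (range_of_allRange c_act6_3) (range_glue (range_of_allRange c_act6_4) (range_glue (range_of_allRange c_act6_5) (range_glue (range_of_allRange c_act6_6) (range_glue (range_of_allRange c_act6_7) (range_glue (range_of_allRange c_act6_8) (range_glue (range_of_allRange c_act6_9) (range_glue (range_of_allRange c_act6_10) (range_glue (range_of_allRange c_act6_11) (range_glue (range_of_allRange c_act6_12) (range_glue (range_of_allRange c_act6_13) (range_glue (range_of_allRange c_act6_14) (range_glue (range_of_allRange c_act6_15) (range_glue (range_of_allRange c_act6_16) (range_glue (range_of_allRange c_act6_17) (range_of_allRange c_act6_18)))))))))))))))))))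
theorem h_act7 : ∀ i, 0 ≤ i → i < 66825 → Nat.beq (actR7 i) i = true :=
  (range_glue (range_of_allRange c_act7_0) (range_glue (range_of_allRange c_act7_1) (range_glue (range_of_allRange c_act7_2) (range_glue (range_of_allRange c_act7_3) (range_glue (range_of_allRange c_act7_4) (range_glue (range_of_allRange c_act7_5) (range_glue (range_of_allRange c_act7_6) (range_glue (range_of_allRange c_act7_7) (range_glue (range_of_allRange c_act7_8) (range_glue (range_of_allRange c_act7_9) (range_glue (range_of_allRange c_act7_10) (range_glue (range_of_allRange c_act7_11) (range_glue (range_of_allRange c_act7_12) (range_glue (range_of_allRange c_act7_13) (range_glue (range_of_allRange c_act7_14) (range_glue (range_of_allRange c_act7_15) (range_glue (range_of_allRange c_act7_16) (range_glue (range_of_allRange c_act7_17) (range_of_allRange c_act7_18)))))))))))))))))))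
theorem h_act8 : ∀ i, 0 ≤ i → i < 66825 → Nat.beq (actR8 i) i = true :=
  (range_glue (range_of_allRange c_act8_0) (range_glue (range_of_allRange c_act8_1) (range_glue (range_of_allRange c_act8_2) (range_glue (range_of_allRange c_act8_3) (range_glue (range_of_allRange c_act8_4) (range_glue (range_of_allRange c_act8_5) (range_glue (range_of_allRange c_act8_6) (range_glue (range_of_allRange c_act8_7) (range_glue (range_of_allRange c_act8_8) (range_glue (range_of_allRange c_act8_9) (range_glue (range_of_allRange c_act8_10) (range_glue (range_of_allRange c_act8_11) (range_glue (range_of_allRange c_act8_12) (range_glue (range_of_allRange c_act8_13) (range_glue (range_of_allRange c_act8_14) (range_glue (range_of_allRange c_act8_15) (range_glue (range_of_allRange c_act8_16) (range_glue (range_of_allRange c_act8_17) (range_glue (range_of_allRange c_act8_18) (range_glue (range_of_allRange c_act8_19) (range_of_allRange c_act8_20)))))))))))))))))))))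
theorem h_act9 : ∀ i, 0 ≤ i → i < 66825 → Nat.beq (actR9 i) i = true :=
  (range_glue (range_of_allRange c_act9_0) (range_glue (range_of_allRange c_act9_1) (range_glue (range_of_allRange c_act9_2) (range_glue (range_of_allRange c_act9_3) (range_glue (range_of_allRange c_act9_4) (range_glue (range_of_allRange c_act9_5) (range_glue (range_of_allRange c_act9_6) (range_glue (range_of_allRange c_act9_7) (range_glue (range_of_allRange c_act9_8) (range_glue (range_of_allRange c_act9_9) (range_glue (range_of_allRange c_act9_10) (range_glue (range_of_allRange c_act9_11) (range_glue (range_of_allRange c_act9_12) (range_glue (range_of_allRange c_act9_13) (range_glue (range_of_allRange c_act9_14) (range_glue (range_of_allRange c_act9_15) (range_glue (range_of_allRange c_act9_16) (range_glue (range_of_allRange c_act9_17) (range_of_allRange c_act9_18)))))))))))))))))))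
theorem h_act10 : ∀ i, 0 ≤ i → i < 66825 → Nat.beq (actR10 i) i = true :=
  (range_glue (range_of_allRange c_act10_0) (range_glue (range_of_allRange c_act10_1) (range_glue (range_of_allRange c_act10_2) (range_glue (range_of_allRange c_act10_3) (range_glue (range_of_allRange c_act10_4) (range_glue (range_of_allRange c_act10_5) (range_glue (range_of_allRange c_act10_6) (range_glue (range_of_allRange c_act10_7) (range_glue (range_of_allRange c_act10_8) (range_glue (range_of_allRange c_act10_9) (range_glue (range_of_allRange c_act10_10) (range_glue (range_of_allRange c_act10_11) (range_glue (range_of_allRange c_act10_12) (range_glue (range_of_allRange c_act10_13) (range_glue (range_of_allRange c_act10_14) (range_glue (range_of_allRange c_act10_15) (range_glue (range_of_allRange c_act10_16) (range_glue (range_of_allRange c_act10_17) (range_of_allRange c_act10_18)))))))))))))))))))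
theorem h_act11 : ∀ i, 0 ≤ i → i < 66825 → Nat.beq (actR11 i) i = true :=
  (range_glue (range_of_allRange c_act11_0) (range_glue (range_of_allRange c_act11_1) (range_glue (range_of_allRange c_act11_2) (range_glue (range_of_allRange c_act11_3) (range_glue (range_of_allRange c_act11_4) (range_glue (range_of_allRange c_act11_5) (range_glue (range_of_allRange c_act11_6) (range_glue (range_of_allRange c_act11_7) (range_glue (range_of_allRange c_act11_8) (range_glue (range_of_allRange c_act11_9) (range_glue (range_of_allRange c_act11_10) (range_glue (range_of_allRange c_act11_11) (range_glue (range_of_allRange c_act11_12) (range_glue (range_of_allRange c_act11_13) (range_glue (range_of_allRange c_act11_14) (range_glue (range_of_allRange c_act11_15) (range_glue (range_of_allRange c_act11_16) (range_of_allRange c_act11_17))))))))))))))))))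
theorem h_act12 : ∀ i, 0 ≤ i → i < 66825 → Nat.beq (actR12 i) i = true :=
  (range_glue (range_of_allRange c_act12_0) (range_glue (range_of_allRange c_act12_1) (range_glue (range_of_allRange c_act12_2) (range_glue (range_of_allRange c_act12_3) (range_glue (range_of_allRange c_act12_4) (range_glue (range_of_allRange c_act12_5) (range_glue (range_of_allRange c_act12_6) (range_glue (range_of_allRange c_act12_7) (range_glue (range_of_allRange c_act12_8) (range_glue (range_of_allRange c_act12_9) (range_glue (range_of_allRange c_act12_10) (range_glue (range_of_allRange c_act12_11) (range_glue (range_of_allRange c_act12_12) (range_glue (range_of_allRange c_act12_13) (range_glue (range_of_allRange c_act12_14) (range_glue (range_of_allRange c_act12_15) (range_glue (range_of_allRange c_act12_16) (range_glue (range_of_allRange c_act12_17) (range_glue (range_of_allRange c_act12_18) (range_glue (range_of_allRange c_act12_19) (range_of_allRange c_act12_20)))))))))))))))))))))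
theorem h_act13 : ∀ i, 0 ≤ i → i < 66825 → Nat.beq (actR13 i) i = true :=
  (range_glue (range_of_allRange c_act13_0) (range_glue (range_of_allRange c_act13_1) (range_glue (range_of_allRange c_act13_2) (range_glue (range_of_allRange c_act13_3) (range_glue (range_of_allRange c_act13_4) (range_glue (range_of_allRange c_act13_5) (range_glue (range_of_allRange c_act13_6) (range_glue (range_of_allRange c_act13_7) (range_glue (range_of_allRange c_act13_8) (range_glue (range_of_allRange c_act13_9) (range_glue (range_of_allRange c_act13_10) (range_glue (range_of_allRange c_act13_11) (range_glue (range_of_allRange c_act13_12) (range_glue (range_of_allRange c_act13_13) (range_glue (range_of_allRange c_act13_14) (range_glue (range_of_allRange c_act13_15) (range_glue (range_of_allRange c_act13_16) (range_glue (range_of_allRange c_act13_17) (range_of_allRange c_act13_18)))))))))))))))))))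
theorem h_act14 : ∀ i, 0 ≤ i → i < 66825 → Nat.beq (actR14 i) i = true :=
  (range_glue (range_of_allRange c_act14_0) (range_glue (range_of_allRange c_act14_1) (range_glue (range_of_allRange c_act14_2) (range_glue (range_of_allRange c_act14_3) (range_glue (range_of_allRange c_act14_4) (range_glue (range_of_allRange c_act14_5) (range_glue (range_of_allRange c_act14_6) (range_glue (range_of_allRange c_act14_7) (range_glue (range_of_allRange c_act14_8) (range_glue (range_of_allRange c_act14_9) (range_glue (range_of_allRange c_act14_10) (range_glue (range_of_allRange c_act14_11) (range_glue (range_of_allRange c_act14_12) (range_glue (range_of_allRange c_act14_13) (range_glue (range_of_allRange c_act14_14) (range_glue (range_of_allRange c_act14_15) (range_glue (range_of_allRange c_act14_16) (range_glue (range_of_allRange c_act14_17) (range_glue (range_of_allRange c_act14_18) (range_glue (range_of_allRange c_act14_19) (range_glue (range_of_allRange c_act14_20) (range_of_allRange c_act14_21))))))))))))))))))))))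
theorem h_act15 : ∀ i, 0 ≤ i → i < 66825 → Nat.beq (actR15 i) i = true :=
  (range_glue (range_of_allRange c_act15_0) (range_glue (range_of_allRange c_act15_1) (range_glue (range_of_allRange c_act15_2) (range_of_allRange c_act15_3))))
theorem h_act16 : ∀ i, 0 ≤ i → i < 66825 → Nat.beq (actR16 i) i = true :=
  (range_glue (range_of_allRange c_act16_0) (range_glue (range_of_allRange c_act16_1) (range_glue (range_of_allRange c_act16_2) (range_glue (range_of_allRange c_act16_3) (range_of_allRange c_act16_4)))))
theorem h_act17 : ∀ i, 0 ≤ i → i < 66825 → Nat.beq (actR17 i) i = true :=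
  (range_glue (range_of_allRange c_act17_0) (range_glue (range_of_allRange c_act17_1) (range_glue (range_of_allRange c_act17_2) (range_glue (range_of_allRange c_act17_3) (range_of_allRange c_act17_4)))))
theorem h_act18 : ∀ i, 0 ≤ i → i < 66825 → Nat.beq (actR18 i) i = true :=
  (range_glue (range_of_allRange c_act18_0) (range_glue (range_of_allRange c_act18_1) (range_glue (range_of_allRange c_act18_2) (range_glue (range_of_allRange c_act18_3) (range_of_allRange c_act18_4)))))

theorem h_act : ∀ L ∈ PC3McL.P.real, ∀ i, i < T.N → Tab.relActOK T D L i = true := by
  rw [c_real]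
  intro L hL
  simp only [realLit, List.mem_cons, List.not_mem_nil, or_false] at hL
  rcases hL with rfl | rfl | rfl | rfl | rfl | rfl | rfl | rfl | rfl | rfl | rfl | rfl | rfl | rfl | rfl | rfl | rfl | rfl | rfl
  · intro i hi
    rw [Tab.relActOK, ← actR0_eq]
    exact h_act0 i (Nat.zero_le _) hi
  · intro i hi
    rw [Tab.relActOK, ← actR1_eq]
    exact h_act1 i (Nat.zero_le _) hi
  · intro i hi
    rw [Tab.relActOK, ← actR2_eq]
    exact h_act2 i (Nat.zero_le _) hi
  · intro i hi
    rw [Tab.relActOK, ← actR3_eq]
    exact h_act3 i (Nat.zero_le _) hi
  · intro i hi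
    rw [Tab.relActOK, ← actR4_eq]
    exact h_act4 i (Nat.zero_le _) hi
  · intro i hi
    rw [Tab.relActOK, ← actR5_eq]
    exact h_act5 i (Nat.zero_le _) hi
  · intro i hi
    rw [Tab.relActOK, ← actR6_eq]
    exact h_act6 i (Nat.zero_le _) hi
  · intro i hi
    rw [Tab.relActOK, ← actR7_eq]
    exact h_act7 i (Nat.zero_le _) hi
  · intro i hi
    rw [Tab.relActOK, ← actR8_eq]
    exact h_act8 i (Nat.zero_le _) hi
  · intro i hi
    rw [Tab.relActOK, ← actR9_eq]
    exact h_act9 i (Nat.zero_le _) hi
  · intro i hi
    rw [Tab.relActOK, ← actR10_eq]
    exact h_act10 i (Nat.zero_le _) hi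
  · intro i hi
    rw [Tab.relActOK, ← actR11_eq]
    exact h_act11 i (Nat.zero_le _) hi
  · intro i hi
    rw [Tab.relActOK, ← actR12_eq]
    exact h_act12 i (Nat.zero_le _) hi
  · intro i hi
    rw [Tab.relActOK, ← actR13_eq]
    exact h_act13 i (Nat.zero_le _) hi
  · intro i hi
    rw [Tab.relActOK, ← actR14_eq]
    exact h_act14 i (Nat.zero_le _) hi
  · intro i hi
    rw [Tab.relActOK, ← actR15_eq]
    exact h_act15 i (Nat.zero_le _) hi
  · intro i hi
    rw [Tab.relActOK, ← actR16_eq]
    exact h_act16 i (Nat.zero_le _) hi
  · intro i hi
    rw [Tab.relActOK, ← actR17_eq]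
    exact h_act17 i (Nat.zero_le _) hi
  · intro i hi
    rw [Tab.relActOK, ← actR18_eq]
    exact h_act18 i (Nat.zero_le _) hi

theorem prep : PRep PC3McL.P T D where
  hP := PC3McL.valid
  hk := rfl
  hinv := fun _ _ => rfl
  hperm := fun i x hi hx => h_perm i (Nat.zero_le _) hi x hx
  hlet := fun x hx => allBelow_eq_true.1 c_let x hx
  hact := h_act

end Cfsg.Agent.Lib.Helper4.TCD.C3McLR
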