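import Mathlib
import Cfsg.Prelude.Def_SporCoxeter

/-! The triple cover of the McLaughlin group, of order 3·898128000, presented on lifts `x`, `y`, `t` of the generators of `McLp` and the central element `z` of order 3 (generated). -/

namespace Cfsg.Agent.Lib.Helper4

namespace C3McL

/-- the generators -/
inductive Gen
  | x
  | y
  | t
  | z
  deriving DecidableEq

abbrev x : FreeGroup Gen := FreeGroup.of Gen.x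
abbrev y : FreeGroup Gen := FreeGroup.of Gen.y
abbrev t : FreeGroup Gen := FreeGroup.of Gen.t
abbrev z : FreeGroup Gen := FreeGroup.of Gen.z

/-- no Coxeter graph -/
def edges : List (Gen × ℕ × Gen) := []

/-- the relators -/
def extra : List (FreeGroup Gen) := [
  x ^ 7,
  y ^ 7,
  x * x * y * x * y * y * y * x⁻¹ * y * y * x⁻¹ * y,
  x * y * x * y⁻¹ * x⁻¹ * y⁻¹ * y⁻¹ * x⁻¹ * y * x * y * y,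
  t ^ 3,
  x * x * y⁻¹ * x * y * y * t⁻¹ * x * y * x⁻¹ * y⁻¹ * x⁻¹ * t⁻¹ * y * x * y⁻¹,
  x * x * x * y⁻¹ * t * x⁻¹ * x⁻¹ * y⁻¹ * x * y⁻¹ * x * t⁻¹ * y⁻¹ * y⁻¹ * x * y * z⁻¹,
  x * x * y * x⁻¹ * y⁻¹ * x * y * x * t⁻¹ * y * y * x * y * x * t⁻¹ * y⁻¹ * z,
  x * x * x * y⁻¹ * x⁻¹ * x⁻¹ * y⁻¹ * x⁻¹ * x⁻¹ * y⁻¹ * x⁻¹ * t⁻¹ * y * x⁻¹ * x⁻¹ * y * t⁻¹ * z,
  x * x * y * x * y⁻¹ * t⁻¹ * x * y * x * x * t * x⁻¹ * t * x * x * y⁻¹ * y⁻¹,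
  x * x * y⁻¹ * x⁻¹ * y * x⁻¹ * t * y * x * y * x⁻¹ * x⁻¹ * y * x⁻¹ * t⁻¹ * y⁻¹ * z⁻¹,
  x * x * t * x⁻¹ * y * t⁻¹ * y⁻¹ * x⁻¹ * t * x * t⁻¹ * x⁻¹ * y⁻¹ * y⁻¹ * x * y⁻¹,
  x * x * x * y * x⁻¹ * x⁻¹ * y⁻¹ * t⁻¹ * x⁻¹ * y⁻¹ * y⁻¹ * x⁻¹ * x⁻¹ * x⁻¹ * y * x⁻¹ * t * z⁻¹,
  x * x * x * x * y⁻¹ * x⁻¹ * t⁻¹ * y * x⁻¹ * x⁻¹ * x⁻¹ * y * y * x⁻¹ * t⁻¹ * x * t⁻¹,
  x * x * y * x * y * x * y⁻¹ * x * x * y⁻¹ * t * x⁻¹ * y⁻¹ * y⁻¹ * x⁻¹ * x⁻¹ * t * y⁻¹ * z⁻¹,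
  z ^ 3,
  z⁻¹ * x⁻¹ * z * x,
  z⁻¹ * y⁻¹ * z * y,
  z⁻¹ * t⁻¹ * z * t ]

end C3McL

end Cfsg.Agent.Lib.Helper4
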