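import Mathlib
import Cfsg.Agent.Lib.Helper9.McLf
import Cfsg.Agent.Lib.Helper4.McLpMain
import Cfsg.Agent.Lib.Helper4.TC20

/-!
The presented group `McLp` is isomorphic to the McLaughlin group `Cfsg.Spor.McL`: it maps onto the permutation group
of degree 275 generated by three permutations (see `Cfsg.Agent.Lib.Helper9.McLa`), and both groups have order 898128000.
-/

set_option autoImplicit false

namespace Cfsg.Agent.Lib.Helper4.McLpIso

open Cfsg.Agent.Lib.Helper4.TC Cfsg.Agent.Lib.Helper4.TCD Cfsg.Agent.Lib.Helper4.TC.Log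
open Cfsg.Agent.Lib.Helper8 Cfsg.Agent.Lib.Helper8.SS Cfsg.Agent.Lib.Helper9

local notation "pN" => McLa.pN
local notation "pM" => McLa.pM

/-- the letters of `McLp` as words in the permutations of degree 275 of the table -/
def Wp (l : ℕ) : List ℕ := [[165, 354, 458, 475, 512], [13, 333, 428, 497, 509], [70, 299, 397, 482], [264, 312, 442, 494, 511], [169, 355, 429, 501, 509], [50, 371, 421, 493, 508]].getD l []

/-- the three generating permutations as words of `McLp` -/
def Pw (i : ℕ) : List ℕ := [[], [3, 1, 1, 2, 2, 1, 3, 3, 4, 3, 1, 2, 4, 0, 4, 3], [3, 3, 3, 1, 3, 0, 3, 0, 0, 5, 3, 4, 0, 2, 1, 1], [0, 0, 3, 0, 0, 3, 0, 0, 3, 0, 0, 3]].getD i []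

/-- the images of the letters -/
noncomputable def gφ (l : ℕ) : Equiv.Perm (Fin 275) := prodW 275 pN pM (Wp l)

theorem wordP_gφ (L : List ℕ) : wordP gφ L = prodW 275 pN pM (L.flatMap Wp) := by
  induction L with
  | nil =>
    rw [wordP_nil, List.flatMap_nil, prodW_nil]
  | cons x L ih =>
    rw [wordP_cons, ih, List.flatMap_cons, prodW_append, gφ]

/-- the words to be checked: the relators and the inverse pairs -/
def chk : List (List ℕ) := PMcLp.P.real.map (fun L => L.flatMap Wp) ++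
  (List.range 6).map (fun l => Wp l ++ Wp (PMcLp.P.invR l))

theorem chk_lt : ∀ w ∈ chk, ∀ i ∈ w, i < 528 := by decide +kernel

theorem chk_ev : ∀ w ∈ chk, ∀ x < 275, ev pN w x = x := by decide +kernel

theorem prodW_one (w : List ℕ) (hw : w ∈ chk) : prodW 275 pN pM w = 1 := by
  have h := prodW_eq_of_ev 275 pN pM (w := w) (w' := [])
    (fun i hi => McLa.valid_all i (chk_lt w hw i hi)) (fun i hi => absurd hi (List.not_mem_nil))
    (fun x hx => chk_ev w hw x hx)
  rw [h, prodW_nil]

theorem exists_φ : ∃ φ : PMcLp.P.Grp →* Equiv.Perm (Fin 275), ∀ l, l < PMcLp.P.k →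
    φ (PMcLp.P.gR l) = gφ l := by
  apply exists_hom_of_letters PMcLp.P PMcLp.valid gφ
  · intro l hl
    have hl : l < 6 := hl
    show prodW 275 pN pM (Wp l) * prodW 275 pN pM (Wp (PMcLp.P.invR l)) = 1
    rw [← prodW_append]
    apply prodW_one
    apply List.mem_append_right
    exact List.mem_map.2 ⟨l, List.mem_range.2 hl, rfl⟩
  · intro L hL
    rw [wordP_gφ]
    apply prodW_one
    apply List.mem_append_left
    exact List.mem_map.2 ⟨L, hL, rfl⟩

/-- the homomorphism to the permutations of degree 275 -/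
noncomputable def φ : PMcLp.P.Grp →* Equiv.Perm (Fin 275) := Classical.choose exists_φ

theorem φ_gR (l : ℕ) (hl : l < 6) : φ (PMcLp.P.gR l) = gφ l := Classical.choose_spec exists_φ l hl

theorem φ_word (L : List ℕ) (hL : ∀ x ∈ L, x < 6) :
    φ (wordP PMcLp.P.gR L) = prodW 275 pN pM (L.flatMap Wp) := by
  induction L with
  | nil =>
    rw [wordP_nil, map_one, List.flatMap_nil, prodW_nil]
  | cons x L ih =>
    rw [wordP_cons, map_mul, φ_gR x (hL x List.mem_cons_self),
      ih fun y hy => hL y (List.mem_cons_of_mem _ hy), List.flatMap_cons, prodW_append, gφ]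

theorem Wp_lt : ∀ l < 6, ∀ i ∈ Wp l, i < 528 := by decide

theorem range_le : φ.range ≤ McLa.K := by
  rw [MonoidHom.range_eq_map, ← PMcLp.valid.gen_top, MonoidHom.map_closure, Subgroup.closure_le]
  rintro _ ⟨_, ⟨l, hl, rfl⟩, rfl⟩
  have hl : l < 6 := hl
  rw [SetLike.mem_coe, φ_gR l hl]
  apply prodW_mem
  intro i hi
  exact McLa.P_mem_K i (Wp_lt l hl i hi)

theorem Pw_lt : ∀ i ∈ [1, 2, 3], ∀ x ∈ Pw i, x < 6 := by decide

theorem Pw_lt' : ∀ i ∈ [1, 2, 3], ∀ j ∈ (Pw i).flatMap Wp, j < 528 := by decide +kernel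

theorem Pw_ev : ∀ i ∈ [1, 2, 3], ∀ x < 275, ev pN ((Pw i).flatMap Wp) x = ev pN [i] x := by decide +kernel

theorem lt_of_mem : ∀ i ∈ [1, 2, 3], i < 528 := by decide

theorem K_le : McLa.K ≤ φ.range := by
  rw [McLa.K_eq]
  unfold grp
  rw [Subgroup.closure_le]
  rintro _ ⟨i, hi, rfl⟩
  refine ⟨wordP PMcLp.P.gR (Pw i), ?_⟩
  rw [φ_word _ (Pw_lt i hi)]
  have h := prodW_eq_of_ev 275 pN pM (w := (Pw i).flatMap Wp) (w' := [i])
    (fun j hj => McLa.valid_all j (Pw_lt' i hi j hj))
    (fun j hj => by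
      rw [List.mem_singleton] at hj
      rw [hj]
      exact McLa.valid_all i (lt_of_mem i hi))
    (fun x hx => Pw_ev i hi x hx)
  rw [h, prodW_cons, prodW_nil, mul_one]

/-- the homomorphism onto the permutation group -/
noncomputable def φK : PMcLp.P.Grp →* McLa.K := φ.codRestrict McLa.K (fun x => range_le ⟨x, rfl⟩)

theorem φK_surjective : Function.Surjective φK := by
  rintro ⟨k, hk⟩
  obtain ⟨x, hx⟩ := K_le hk
  exact ⟨x, Subtype.ext hx⟩

theorem φK_bijective : Function.Bijective φK := by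
  obtain ⟨fG, _, hcard⟩ := McLpMain.order_aux
  have := fG
  exact φK_surjective.bijective_of_nat_card_le (by rw [hcard, McLa.card_K])

/-- the presented group `McLp` is the McLaughlin group -/
theorem iso : Nonempty (PMcLp.P.Grp ≃* Cfsg.Spor.McL) := by
  obtain ⟨e⟩ := McLf.iso_K
  exact ⟨(MulEquiv.ofBijective φK φK_bijective).trans e.symm⟩

end Cfsg.Agent.Lib.Helper4.McLpIso
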