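import Cfsg.Agent.Lib.Helper4.TCD_C3McLB_Acc

namespace Cfsg.Agent.Lib.Helper4.TCD.C3McLB

open Cfsg.Agent.Lib.Helper4.TC

set_option maxRecDepth 100000
set_option Elab.async false

theorem c_rel_83 : allRange D.relOK 231512 1471 = true := by decide +kernel
theorem c_rel_84 : allRange D.relOK 232983 1462 = true := by decide +kernel
theorem c_rel_85 : allRange D.relOK 234445 1516 = true := by decide +kernel
theorem c_rel_86 : allRange D.relOK 235961 1459 = true := by decide +kernel
theorem c_rel_87 : allRange D.relOK 237420 1511 = true := by decide +kernel
theorem c_rel_88 : allRange D.relOK 238931 1464 = true := by decide +kernel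
theorem c_rel_89 : allRange D.relOK 240395 1509 = true := by decide +kernel
theorem c_rel_90 : allRange D.relOK 241904 1507 = true := by decide +kernel
theorem c_rel_91 : allRange D.relOK 243411 1453 = true := by decide +kernel
theorem c_rel_92 : allRange D.relOK 244864 1474 = true := by decide +kernel
theorem c_rel_93 : allRange D.relOK 246338 1458 = true := by decide +kernel
theorem c_rel_94 : allRange D.relOK 247796 1443 = true := by decide +kernel
theorem c_rel_95 : allRange D.relOK 249239 1412 = true := by decide +kernel
theorem c_rel_96 : allRange D.relOK 250651 1444 = true := by decide +kernel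
theorem c_rel_97 : allRange D.relOK 252095 1386 = true := by decide +kernel
theorem c_rel_98 : allRange D.relOK 253481 1393 = true := by decide +kernel
theorem c_rel_99 : allRange D.relOK 254874 1334 = true := by decide +kernel
theorem c_rel_100 : allRange D.relOK 256208 1348 = true := by decide +kernel
theorem c_rel_101 : allRange D.relOK 257556 1400 = true := by decide +kernel
theorem c_rel_102 : allRange D.relOK 258956 1348 = true := by decide +kernel
theorem c_rel_103 : allRange D.relOK 260304 1329 = true := by decide +kernel
theorem c_rel_104 : allRange D.relOK 261633 1337 = true := by decide +kernel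
theorem c_rel_105 : allRange D.relOK 262970 1318 = true := by decide +kernel
theorem c_rel_106 : allRange D.relOK 264288 1285 = true := by decide +kernel
theorem c_rel_107 : allRange D.relOK 265573 1309 = true := by decide +kernel
theorem c_rel_108 : allRange D.relOK 266882 1259 = true := by decide +kernel
theorem c_rel_109 : allRange D.relOK 268141 1279 = true := by decide +kernel
theorem c_rel_110 : allRange D.relOK 269420 1212 = true := by decide +kernel
theorem c_rel_111 : allRange D.relOK 270632 1910 = true := by decide +kernel
theorem c_rel_112 : allRange D.relOK 272542 4972 = true := by decide +kernel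
theorem c_rel_113 : allRange D.relOK 277514 2291 = true := by decide +kernel
theorem c_fin_0 : allGrid (T.finOK D) 0 1500 8 = true := by decide +kernel
theorem c_fin_1 : allGrid (T.finOK D) 1500 1500 8 = true := by decide +kernel
theorem c_fin_2 : allGrid (T.finOK D) 3000 1500 8 = true := by decide +kernel
theorem c_fin_3 : allGrid (T.finOK D) 4500 1500 8 = true := by decide +kernel
theorem c_fin_4 : allGrid (T.finOK D) 6000 1500 8 = true := by decide +kernel
theorem c_fin_5 : allGrid (T.finOK D) 7500 1500 8 = true := by decide +kernel
theorem c_fin_6 : allGrid (T.finOK D) 9000 1500 8 = true := by decide +kernel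
theorem c_fin_7 : allGrid (T.finOK D) 10500 1500 8 = true := by decide +kernel
theorem c_fin_8 : allGrid (T.finOK D) 12000 1500 8 = true := by decide +kernel
theorem c_fin_9 : allGrid (T.finOK D) 13500 1500 8 = true := by decide +kernel
theorem c_fin_10 : allGrid (T.finOK D) 15000 1500 8 = true := by decide +kernel
theorem c_fin_11 : allGrid (T.finOK D) 16500 1500 8 = true := by decide +kernel
theorem c_fin_12 : allGrid (T.finOK D) 18000 1500 8 = true := by decide +kernel
theorem c_fin_13 : allGrid (T.finOK D) 19500 1500 8 = true := by decide +kernel
theorem c_fin_14 : allGrid (T.finOK D) 21000 1500 8 = true := by decide +kernel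
theorem c_fin_15 : allGrid (T.finOK D) 22500 1500 8 = true := by decide +kernel
theorem c_fin_16 : allGrid (T.finOK D) 24000 1500 8 = true := by decide +kernel
theorem c_fin_17 : allGrid (T.finOK D) 25500 1500 8 = true := by decide +kernel
theorem c_fin_18 : allGrid (T.finOK D) 27000 1500 8 = true := by decide +kernel
theorem c_fin_19 : allGrid (T.finOK D) 28500 1500 8 = true := by decide +kernel
theorem c_fin_20 : allGrid (T.finOK D) 30000 1500 8 = true := by decide +kernel
theorem c_fin_21 : allGrid (T.finOK D) 31500 1500 8 = true := by decide +kernel
theorem c_fin_22 : allGrid (T.finOK D) 33000 1500 8 = true := by decide +kernel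
theorem c_fin_23 : allGrid (T.finOK D) 34500 1500 8 = true := by decide +kernel
theorem c_fin_24 : allGrid (T.finOK D) 36000 1500 8 = true := by decide +kernel
theorem c_fin_25 : allGrid (T.finOK D) 37500 1500 8 = true := by decide +kernel
theorem c_fin_26 : allGrid (T.finOK D) 39000 1500 8 = true := by decide +kernel
theorem c_fin_27 : allGrid (T.finOK D) 40500 1500 8 = true := by decide +kernel
theorem c_fin_28 : allGrid (T.finOK D) 42000 1500 8 = true := by decide +kernel
theorem c_fin_29 : allGrid (T.finOK D) 43500 1500 8 = true := by decide +kernel
theorem c_fin_30 : allGrid (T.finOK D) 45000 1500 8 = true := by decide +kernel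
theorem c_fin_31 : allGrid (T.finOK D) 46500 1500 8 = true := by decide +kernel
theorem c_fin_32 : allGrid (T.finOK D) 48000 1500 8 = true := by decide +kernel
theorem c_fin_33 : allGrid (T.finOK D) 49500 1500 8 = true := by decide +kernel

end Cfsg.Agent.Lib.Helper4.TCD.C3McLB
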