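import Cfsg.Agent.Lib.Helper4.TCD_C3McLB_Acc

namespace Cfsg.Agent.Lib.Helper4.TCD.C3McLB

open Cfsg.Agent.Lib.Helper4.TC

set_option maxRecDepth 100000
set_option Elab.async false

theorem c_act2_6 : allRange (fun i => Nat.beq (actR2 i) i) 30000 5000 = true := by decide +kernel
theorem c_act2_7 : allRange (fun i => Nat.beq (actR2 i) i) 35000 5000 = true := by decide +kernel
theorem c_act2_8 : allRange (fun i => Nat.beq (actR2 i) i) 40000 5000 = true := by decide +kernel
theorem c_act2_9 : allRange (fun i => Nat.beq (actR2 i) i) 45000 5000 = true := by decide +kernel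
theorem c_act2_10 : allRange (fun i => Nat.beq (actR2 i) i) 50000 5000 = true := by decide +kernel
theorem c_act2_11 : allRange (fun i => Nat.beq (actR2 i) i) 55000 5000 = true := by decide +kernel
theorem c_act2_12 : allRange (fun i => Nat.beq (actR2 i) i) 60000 5000 = true := by decide +kernel
theorem c_act2_13 : allRange (fun i => Nat.beq (actR2 i) i) 65000 1825 = true := by decide +kernel
theorem c_act3_0 : allRange (fun i => Nat.beq (actR3 i) i) 0 5000 = true := by decide +kernel
theorem c_act3_1 : allRange (fun i => Nat.beq (actR3 i) i) 5000 5000 = true := by decide +kernel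
theorem c_act3_2 : allRange (fun i => Nat.beq (actR3 i) i) 10000 5000 = true := by decide +kernel
theorem c_act3_3 : allRange (fun i => Nat.beq (actR3 i) i) 15000 5000 = true := by decide +kernel
theorem c_act3_4 : allRange (fun i => Nat.beq (actR3 i) i) 20000 5000 = true := by decide +kernel
theorem c_act3_5 : allRange (fun i => Nat.beq (actR3 i) i) 25000 5000 = true := by decide +kernel
theorem c_act3_6 : allRange (fun i => Nat.beq (actR3 i) i) 30000 5000 = true := by decide +kernel
theorem c_act3_7 : allRange (fun i => Nat.beq (actR3 i) i) 35000 5000 = true := by decide +kernel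
theorem c_act3_8 : allRange (fun i => Nat.beq (actR3 i) i) 40000 5000 = true := by decide +kernel
theorem c_act3_9 : allRange (fun i => Nat.beq (actR3 i) i) 45000 5000 = true := by decide +kernel
theorem c_act3_10 : allRange (fun i => Nat.beq (actR3 i) i) 50000 5000 = true := by decide +kernel
theorem c_act3_11 : allRange (fun i => Nat.beq (actR3 i) i) 55000 5000 = true := by decide +kernel
theorem c_act3_12 : allRange (fun i => Nat.beq (actR3 i) i) 60000 5000 = true := by decide +kernel
theorem c_act3_13 : allRange (fun i => Nat.beq (actR3 i) i) 65000 1825 = true := by decide +kernel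
theorem c_act4_0 : allRange (fun i => Nat.beq (actR4 i) i) 0 20000 = true := by decide +kernel
theorem c_act4_1 : allRange (fun i => Nat.beq (actR4 i) i) 20000 20000 = true := by decide +kernel
theorem c_act4_2 : allRange (fun i => Nat.beq (actR4 i) i) 40000 20000 = true := by decide +kernel
theorem c_act4_3 : allRange (fun i => Nat.beq (actR4 i) i) 60000 6825 = true := by decide +kernel
theorem c_act5_0 : allRange (fun i => Nat.beq (actR5 i) i) 0 3750 = true := by decide +kernel
theorem c_act5_1 : allRange (fun i => Nat.beq (actR5 i) i) 3750 3750 = true := by decide +kernel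
theorem c_act5_2 : allRange (fun i => Nat.beq (actR5 i) i) 7500 3750 = true := by decide +kernel
theorem c_act5_3 : allRange (fun i => Nat.beq (actR5 i) i) 11250 3750 = true := by decide +kernel
theorem c_act5_4 : allRange (fun i => Nat.beq (actR5 i) i) 15000 3750 = true := by decide +kernel
theorem c_act5_5 : allRange (fun i => Nat.beq (actR5 i) i) 18750 3750 = true := by decide +kernel
theorem c_act5_6 : allRange (fun i => Nat.beq (actR5 i) i) 22500 3750 = true := by decide +kernel
theorem c_act5_7 : allRange (fun i => Nat.beq (actR5 i) i) 26250 3750 = true := by decide +kernel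
theorem c_act5_8 : allRange (fun i => Nat.beq (actR5 i) i) 30000 3750 = true := by decide +kernel
theorem c_act5_9 : allRange (fun i => Nat.beq (actR5 i) i) 33750 3750 = true := by decide +kernel
theorem c_act5_10 : allRange (fun i => Nat.beq (actR5 i) i) 37500 3750 = true := by decide +kernel
theorem c_act5_11 : allRange (fun i => Nat.beq (actR5 i) i) 41250 3750 = true := by decide +kernel
theorem c_act5_12 : allRange (fun i => Nat.beq (actR5 i) i) 45000 3750 = true := by decide +kernel
theorem c_act5_13 : allRange (fun i => Nat.beq (actR5 i) i) 48750 3750 = true := by decide +kernel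
theorem c_act5_14 : allRange (fun i => Nat.beq (actR5 i) i) 52500 3750 = true := by decide +kernel
theorem c_act5_15 : allRange (fun i => Nat.beq (actR5 i) i) 56250 3750 = true := by decide +kernel
theorem c_act5_16 : allRange (fun i => Nat.beq (actR5 i) i) 60000 3750 = true := by decide +kernel
theorem c_act5_17 : allRange (fun i => Nat.beq (actR5 i) i) 63750 3075 = true := by decide +kernel
theorem c_act6_0 : allRange (fun i => Nat.beq (actR6 i) i) 0 3529 = true := by decide +kernel
theorem c_act6_1 : allRange (fun i => Nat.beq (actR6 i) i) 3529 3529 = true := by decide +kernel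
theorem c_act6_2 : allRange (fun i => Nat.beq (actR6 i) i) 7058 3529 = true := by decide +kernel
theorem c_act6_3 : allRange (fun i => Nat.beq (actR6 i) i) 10587 3529 = true := by decide +kernel
theorem c_act6_4 : allRange (fun i => Nat.beq (actR6 i) i) 14116 3529 = true := by decide +kernel
theorem c_act6_5 : allRange (fun i => Nat.beq (actR6 i) i) 17645 3529 = true := by decide +kernel
theorem c_act6_6 : allRange (fun i => Nat.beq (actR6 i) i) 21174 3529 = true := by decide +kernel
theorem c_act6_7 : allRange (fun i => Nat.beq (actR6 i) i) 24703 3529 = true := by decide +kernel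

end Cfsg.Agent.Lib.Helper4.TCD.C3McLB
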