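import Cfsg.Agent.Lib.Helper4.TCD_C3McLB_Acc

namespace Cfsg.Agent.Lib.Helper4.TCD.C3McLB

open Cfsg.Agent.Lib.Helper4.TC

set_option maxRecDepth 100000
set_option Elab.async false

theorem c_act9_0 : allRange (fun i => Nat.beq (actR9 i) i) 0 3529 = true := by decide +kernel
theorem c_act9_1 : allRange (fun i => Nat.beq (actR9 i) i) 3529 3529 = true := by decide +kernel
theorem c_act9_2 : allRange (fun i => Nat.beq (actR9 i) i) 7058 3529 = true := by decide +kernel
theorem c_act9_3 : allRange (fun i => Nat.beq (actR9 i) i) 10587 3529 = true := by decide +kernel
theorem c_act9_4 : allRange (fun i => Nat.beq (actR9 i) i) 14116 3529 = true := by decide +kernel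
theorem c_act9_5 : allRange (fun i => Nat.beq (actR9 i) i) 17645 3529 = true := by decide +kernel
theorem c_act9_6 : allRange (fun i => Nat.beq (actR9 i) i) 21174 3529 = true := by decide +kernel
theorem c_act9_7 : allRange (fun i => Nat.beq (actR9 i) i) 24703 3529 = true := by decide +kernel
theorem c_act9_8 : allRange (fun i => Nat.beq (actR9 i) i) 28232 3529 = true := by decide +kernel
theorem c_act9_9 : allRange (fun i => Nat.beq (actR9 i) i) 31761 3529 = true := by decide +kernel
theorem c_act9_10 : allRange (fun i => Nat.beq (actR9 i) i) 35290 3529 = true := by decide +kernel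
theorem c_act9_11 : allRange (fun i => Nat.beq (actR9 i) i) 38819 3529 = true := by decide +kernel
theorem c_act9_12 : allRange (fun i => Nat.beq (actR9 i) i) 42348 3529 = true := by decide +kernel
theorem c_act9_13 : allRange (fun i => Nat.beq (actR9 i) i) 45877 3529 = true := by decide +kernel
theorem c_act9_14 : allRange (fun i => Nat.beq (actR9 i) i) 49406 3529 = true := by decide +kernel
theorem c_act9_15 : allRange (fun i => Nat.beq (actR9 i) i) 52935 3529 = true := by decide +kernel
theorem c_act9_16 : allRange (fun i => Nat.beq (actR9 i) i) 56464 3529 = true := by decide +kernel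
theorem c_act9_17 : allRange (fun i => Nat.beq (actR9 i) i) 59993 3529 = true := by decide +kernel
theorem c_act9_18 : allRange (fun i => Nat.beq (actR9 i) i) 63522 3303 = true := by decide +kernel
theorem c_act10_0 : allRange (fun i => Nat.beq (actR10 i) i) 0 3529 = true := by decide +kernel
theorem c_act10_1 : allRange (fun i => Nat.beq (actR10 i) i) 3529 3529 = true := by decide +kernel
theorem c_act10_2 : allRange (fun i => Nat.beq (actR10 i) i) 7058 3529 = true := by decide +kernel
theorem c_act10_3 : allRange (fun i => Nat.beq (actR10 i) i) 10587 3529 = true := by decide +kernel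
theorem c_act10_4 : allRange (fun i => Nat.beq (actR10 i) i) 14116 3529 = true := by decide +kernel
theorem c_act10_5 : allRange (fun i => Nat.beq (actR10 i) i) 17645 3529 = true := by decide +kernel
theorem c_act10_6 : allRange (fun i => Nat.beq (actR10 i) i) 21174 3529 = true := by decide +kernel
theorem c_act10_7 : allRange (fun i => Nat.beq (actR10 i) i) 24703 3529 = true := by decide +kernel
theorem c_act10_8 : allRange (fun i => Nat.beq (actR10 i) i) 28232 3529 = true := by decide +kernel
theorem c_act10_9 : allRange (fun i => Nat.beq (actR10 i) i) 31761 3529 = true := by decide +kernel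
theorem c_act10_10 : allRange (fun i => Nat.beq (actR10 i) i) 35290 3529 = true := by decide +kernel
theorem c_act10_11 : allRange (fun i => Nat.beq (actR10 i) i) 38819 3529 = true := by decide +kernel
theorem c_act10_12 : allRange (fun i => Nat.beq (actR10 i) i) 42348 3529 = true := by decide +kernel
theorem c_act10_13 : allRange (fun i => Nat.beq (actR10 i) i) 45877 3529 = true := by decide +kernel
theorem c_act10_14 : allRange (fun i => Nat.beq (actR10 i) i) 49406 3529 = true := by decide +kernel
theorem c_act10_15 : allRange (fun i => Nat.beq (actR10 i) i) 52935 3529 = true := by decide +kernel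
theorem c_act10_16 : allRange (fun i => Nat.beq (actR10 i) i) 56464 3529 = true := by decide +kernel
theorem c_act10_17 : allRange (fun i => Nat.beq (actR10 i) i) 59993 3529 = true := by decide +kernel
theorem c_act10_18 : allRange (fun i => Nat.beq (actR10 i) i) 63522 3303 = true := by decide +kernel
theorem c_act11_0 : allRange (fun i => Nat.beq (actR11 i) i) 0 3750 = true := by decide +kernel
theorem c_act11_1 : allRange (fun i => Nat.beq (actR11 i) i) 3750 3750 = true := by decide +kernel
theorem c_act11_2 : allRange (fun i => Nat.beq (actR11 i) i) 7500 3750 = true := by decide +kernel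
theorem c_act11_3 : allRange (fun i => Nat.beq (actR11 i) i) 11250 3750 = true := by decide +kernel
theorem c_act11_4 : allRange (fun i => Nat.beq (actR11 i) i) 15000 3750 = true := by decide +kernel
theorem c_act11_5 : allRange (fun i => Nat.beq (actR11 i) i) 18750 3750 = true := by decide +kernel
theorem c_act11_6 : allRange (fun i => Nat.beq (actR11 i) i) 22500 3750 = true := by decide +kernel
theorem c_act11_7 : allRange (fun i => Nat.beq (actR11 i) i) 26250 3750 = true := by decide +kernel
theorem c_act11_8 : allRange (fun i => Nat.beq (actR11 i) i) 30000 3750 = true := by decide +kernel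
theorem c_act11_9 : allRange (fun i => Nat.beq (actR11 i) i) 33750 3750 = true := by decide +kernel
theorem c_act11_10 : allRange (fun i => Nat.beq (actR11 i) i) 37500 3750 = true := by decide +kernel
theorem c_act11_11 : allRange (fun i => Nat.beq (actR11 i) i) 41250 3750 = true := by decide +kernel

end Cfsg.Agent.Lib.Helper4.TCD.C3McLB
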