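import Cfsg.Agent.Lib.Helper4.TCD_C3McLB_C0
import Cfsg.Agent.Lib.Helper4.TCD_C3McLB_C1
import Cfsg.Agent.Lib.Helper4.TCD_C3McLB_C2
import Cfsg.Agent.Lib.Helper4.TCD_C3McLB_C3
import Cfsg.Agent.Lib.Helper4.TCD_C3McLB_C4
import Cfsg.Agent.Lib.Helper4.TCD_C3McLB_C5
import Cfsg.Agent.Lib.Helper4.TCD_C3McLB_C6
import Cfsg.Agent.Lib.Helper4.TCD_C3McLB_C7

namespace Cfsg.Agent.Lib.Helper4.TCD.C3McLB

open Cfsg.Agent.Lib.Helper4.TC

theorem h_rel_p0 : ∀ t, 68874 ≤ t → t < 156936 → D.relOK t = true :=
  (range_glue (range_of_allRange c_rel_0) (range_glue (range_of_allRange c_rel_1) (range_glue (range_of_allRange c_rel_2) (range_glue (range_of_allRange c_rel_3) (range_glue (range_of_allRange c_rel_4) (range_glue (range_of_allRange c_rel_5) (range_glue (range_of_allRange c_rel_6) (range_glue (range_of_allRange c_rel_7) (range_glue (range_of_allRange c_rel_8) (range_glue (range_of_allRange c_rel_9) (range_glue (range_of_allRange c_rel_10) (range_glue (range_of_allRange c_rel_11) (range_glue (range_of_allRange c_rel_12) (range_glue (range_of_allRange c_rel_13) (range_glue (range_of_allRange c_rel_14) (range_glue (range_of_allRange c_rel_15)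 (range_glue (range_of_allRange c_rel_16) (range_glue (range_of_allRange c_rel_17) (range_glue (range_of_allRange c_rel_18) (range_glue (range_of_allRange c_rel_19) (range_glue (range_of_allRange c_rel_20) (range_glue (range_of_allRange c_rel_21) (range_glue (range_of_allRange c_rel_22) (range_glue (range_of_allRange c_rel_23) (range_glue (range_of_allRange c_rel_24) (range_glue (range_of_allRange c_rel_25) (range_glue (range_of_allRange c_rel_26) (range_glue (range_of_allRange c_rel_27) (range_glue (range_of_allRange c_rel_28) (range_glue (range_of_allRange c_rel_29) (range_glue (range_of_allRange c_rel_30) (range_glue (range_of_allRange c_rel_31) (range_glue (range_of_allRange c_rel_32) (range_glue (range_of_allRange c_rel_33) (range_glue (range_of_allRange c_rel_34) (range_glue (range_of_allRange c_rel_35) (range_glue (range_of_allRange c_rel_36) (range_glue (range_of_allRange c_rel_37) (range_glue (range_of_allRange c_rel_38) (range_of_allRange c_rel_39))))))))))))))))))))))))))))))))))))))))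
theorem h_rel_p1 : ∀ t, 156936 ≤ t → t < 226901 → D.relOK t = true :=
  (range_glue (range_of_allRange c_rel_40) (range_glue (range_of_allRange c_rel_41) (range_glue (range_of_allRange c_rel_42) (range_glue (range_of_allRange c_rel_43) (range_glue (range_of_allRange c_rel_44) (range_glue (range_of_allRange c_rel_45) (range_glue (range_of_allRange c_rel_46) (range_glue (range_of_allRange c_rel_47) (range_glue (range_of_allRange c_rel_48) (range_glue (range_of_allRange c_rel_49) (range_glue (range_of_allRange c_rel_50) (range_glue (range_of_allRange c_rel_51) (range_glue (range_of_allRange c_rel_52) (range_glue (range_of_allRange c_rel_53) (range_glue (range_of_allRange c_rel_54) (range_glue (range_of_allRange c_rel_55) (range_glue (range_of_allRange c_rel_56) (range_glue (range_of_allRange c_rel_57) (range_glue (range_of_allRange c_rel_58) (range_glue (range_of_allRange c_rel_59) (range_glue (range_of_allRange c_rel_60) (range_glue (range_of_allRange c_rel_61) (range_glue (range_of_allRange c_rel_62) (range_glue (range_of_allRange c_rel_63) (range_glue (range_of_allRange c_rel_64) (range_glue (range_of_allRange c_rel_65) (range_glue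 (range_of_allRange c_rel_66) (range_glue (range_of_allRange c_rel_67) (range_glue (range_of_allRange c_rel_68) (range_glue (range_of_allRange c_rel_69) (range_glue (range_of_allRange c_rel_70) (range_glue (range_of_allRange c_rel_71) (range_glue (range_of_allRange c_rel_72) (range_glue (range_of_allRange c_rel_73) (range_glue (range_of_allRange c_rel_74) (range_glue (range_of_allRange c_rel_75) (range_glue (range_of_allRange c_rel_76) (range_glue (range_of_allRange c_rel_77) (range_glue (range_of_allRange c_rel_78) (range_of_allRange c_rel_79))))))))))))))))))))))))))))))))))))))))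
theorem h_rel_p2 : ∀ t, 226901 ≤ t → t < 279805 → D.relOK t = true :=
  (range_glue (range_of_allRange c_rel_80) (range_glue (range_of_allRange c_rel_81) (range_glue (range_of_allRange c_rel_82) (range_glue (range_of_allRange c_rel_83) (range_glue (range_of_allRange c_rel_84) (range_glue (range_of_allRange c_rel_85) (range_glue (range_of_allRange c_rel_86) (range_glue (range_of_allRange c_rel_87) (range_glue (range_of_allRange c_rel_88) (range_glue (range_of_allRange c_rel_89) (range_glue (range_of_allRange c_rel_90) (range_glue (range_of_allRange c_rel_91) (range_glue (range_of_allRange c_rel_92) (range_glue (range_of_allRange c_rel_93) (range_glue (range_of_allRange c_rel_94) (range_glue (range_of_allRange c_rel_95) (range_glue (range_of_allRange c_rel_96) (range_glue (range_of_allRange c_rel_97) (range_glue (range_of_allRange c_rel_98) (range_glue (range_of_allRange c_rel_99) (range_glue (range_of_allRange c_rel_100) (range_glue (range_of_allRange c_rel_101) (range_glue (range_of_allRange c_rel_102) (range_glue (range_of_allRange c_rel_103) (range_glue (range_of_allRange c_rel_104) (range_glue (range_of_allRange c_rel_105)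 (range_glue (range_of_allRange c_rel_106) (range_glue (range_of_allRange c_rel_107) (range_glue (range_of_allRange c_rel_108) (range_glue (range_of_allRange c_rel_109) (range_glue (range_of_allRange c_rel_110) (range_glue (range_of_allRange c_rel_111) (range_glue (range_of_allRange c_rel_112) (range_of_allRange c_rel_113))))))))))))))))))))))))))))))))))
theorem h_rel : ∀ t, 68874 ≤ t → t < 279805 → D.relOK t = true :=
  (range_glue h_rel_p0 (range_glue h_rel_p1 h_rel_p2))
theorem h_names : ∀ t, 1 ≤ t → t < 68870 → D.nameOK t = true :=
  (range_glue (range_of_allRange c_names_0) (range_of_allRange c_names_1))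
theorem h_cls : ∀ t, 1 ≤ t → t < 68870 → T.clsOK D t = true :=
  (range_glue (range_of_allRange c_cls_0) (range_glue (range_of_allRange c_cls_1) (range_glue (range_of_allRange c_cls_2) (range_glue (range_of_allRange c_cls_3) (range_of_allRange c_cls_4)))))
theorem h_rep : ∀ t, 0 ≤ t → t < 66825 → T.repOK D t = true :=
  (range_glue (range_of_allRange c_rep_0) (range_glue (range_of_allRange c_rep_1) (range_of_allRange c_rep_2)))
theorem h_fin_p0 : ∀ i, 0 ≤ i → i < 60000 → ∀ x, x < 8 → T.finOK D i x = true :=
  (range_glue (range_of_allGrid c_fin_0) (range_glue (range_of_allGrid c_fin_1) (range_glue (range_of_allGrid c_fin_2) (range_glue (range_of_allGrid c_fin_3) (range_glue (range_of_allGrid c_fin_4) (range_glue (range_of_allGrid c_fin_5) (range_glue (range_of_allGrid c_fin_6) (range_glue (range_of_allGrid c_fin_7) (range_glue (range_of_allGrid c_fin_8) (range_glue (range_of_allGrid c_fin_9) (range_glue (range_of_allGrid c_fin_10) (range_glue (range_of_allGrid c_fin_11) (range_glue (range_of_allGrid c_fin_12) (range_glue (range_of_allGrid c_fin_13) (range_glue (range_of_allGrid c_fin_14) (range_glue (range_of_allGrid c_fin_15)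 (range_glue (range_of_allGrid c_fin_16) (range_glue (range_of_allGrid c_fin_17) (range_glue (range_of_allGrid c_fin_18) (range_glue (range_of_allGrid c_fin_19) (range_glue (range_of_allGrid c_fin_20) (range_glue (range_of_allGrid c_fin_21) (range_glue (range_of_allGrid c_fin_22) (range_glue (range_of_allGrid c_fin_23) (range_glue (range_of_allGrid c_fin_24) (range_glue (range_of_allGrid c_fin_25) (range_glue (range_of_allGrid c_fin_26) (range_glue (range_of_allGrid c_fin_27) (range_glue (range_of_allGrid c_fin_28) (range_glue (range_of_allGrid c_fin_29) (range_glue (range_of_allGrid c_fin_30) (range_glue (range_of_allGrid c_fin_31) (range_glue (range_of_allGrid c_fin_32) (range_glue (range_of_allGrid c_fin_33) (range_glue (range_of_allGrid c_fin_34) (range_glue (range_of_allGrid c_fin_35) (range_glue (range_of_allGrid c_fin_36) (range_glue (range_of_allGrid c_fin_37) (range_glue (range_of_allGrid c_fin_38) (range_of_allGrid c_fin_39))))))))))))))))))))))))))))))))))))))))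
theorem h_fin_p1 : ∀ i, 60000 ≤ i → i < 66825 → ∀ x, x < 8 → T.finOK D i x = true :=
  (range_glue (range_of_allGrid c_fin_40) (range_glue (range_of_allGrid c_fin_41) (range_glue (range_of_allGrid c_fin_42) (range_glue (range_of_allGrid c_fin_43) (range_of_allGrid c_fin_44)))))
theorem h_fin : ∀ i, 0 ≤ i → i < 66825 → ∀ x, x < 8 → T.finOK D i x = true :=
  (range_glue h_fin_p0 h_fin_p1)
theorem h_perm : ∀ i, 0 ≤ i → i < 66825 → ∀ x, x < 8 → T.permOK1 D i x = true :=
  (range_glue (range_of_allGrid c_perm_0) (range_glue (range_of_allGrid c_perm_1) (range_glue (range_of_allGrid c_perm_2) (range_glue (range_of_allGrid c_perm_3) (range_glue (range_of_allGrid c_perm_4) (range_glue (range_of_allGrid c_perm_5) (range_glue (range_of_allGrid c_perm_6) (range_glue (range_of_allGrid c_perm_7) (range_glue (range_of_allGrid c_perm_8) (range_glue (range_of_allGrid c_perm_9) (range_glue (range_of_allGrid c_perm_10) (range_glue (range_of_allGrid c_perm_11) (range_glue (range_of_allGrid c_perm_12) (range_glue (range_of_allGrid c_perm_13) (range_glue (range_of_allGrid c_perm_14) (range_glue (range_of_allGrid c_perm_15) (range_glue (range_of_allGrid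 c_perm_16) (range_of_allGrid c_perm_17))))))))))))))))))
theorem h_act0 : ∀ i, 0 ≤ i → i < 66825 → Nat.beq (actR0 i) i = true :=
  (range_glue (range_of_allRange c_act0_0) (range_glue (range_of_allRange c_act0_1) (range_glue (range_of_allRange c_act0_2) (range_glue (range_of_allRange c_act0_3) (range_glue (range_of_allRange c_act0_4) (range_glue (range_of_allRange c_act0_5) (range_glue (range_of_allRange c_act0_6) (range_of_allRange c_act0_7))))))))
theorem h_act1 : ∀ i, 0 ≤ i → i < 66825 → Nat.beq (actR1 i) i = true :=
  (range_glue (range_of_allRange c_act1_0) (range_glue (range_of_allRange c_act1_1) (range_glue (range_of_allRange c_act1_2) (range_glue (range_of_allRange c_act1_3) (range_glue (range_of_allRange c_act1_4) (range_glue (range_of_allRange c_act1_5) (range_glue (range_of_allRange c_act1_6) (range_of_allRange c_act1_7))))))))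
theorem h_act2 : ∀ i, 0 ≤ i → i < 66825 → Nat.beq (actR2 i) i = true :=
  (range_glue (range_of_allRange c_act2_0) (range_glue (range_of_allRange c_act2_1) (range_glue (range_of_allRange c_act2_2) (range_glue (range_of_allRange c_act2_3) (range_glue (range_of_allRange c_act2_4) (range_glue (range_of_allRange c_act2_5) (range_glue (range_of_allRange c_act2_6) (range_glue (range_of_allRange c_act2_7) (range_glue (range_of_allRange c_act2_8) (range_glue (range_of_allRange c_act2_9) (range_glue (range_of_allRange c_act2_10) (range_glue (range_of_allRange c_act2_11) (range_glue (range_of_allRange c_act2_12) (range_of_allRange c_act2_13))))))))))))))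
theorem h_act3 : ∀ i, 0 ≤ i → i < 66825 → Nat.beq (actR3 i) i = true :=
  (range_glue (range_of_allRange c_act3_0) (range_glue (range_of_allRange c_act3_1) (range_glue (range_of_allRange c_act3_2) (range_glue (range_of_allRange c_act3_3) (range_glue (range_of_allRange c_act3_4) (range_glue (range_of_allRange c_act3_5) (range_glue (range_of_allRange c_act3_6) (range_glue (range_of_allRange c_act3_7) (range_glue (range_of_allRange c_act3_8) (range_glue (range_of_allRange c_act3_9) (range_glue (range_of_allRange c_act3_10) (range_glue (range_of_allRange c_act3_11) (range_glue (range_of_allRange c_act3_12) (range_of_allRange c_act3_13))))))))))))))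
theorem h_act4 : ∀ i, 0 ≤ i → i < 66825 → Nat.beq (actR4 i) i = true :=
  (range_glue (range_of_allRange c_act4_0) (range_glue (range_of_allRange c_act4_1) (range_glue (range_of_allRange c_act4_2) (range_of_allRange c_act4_3))))
theorem h_act5 : ∀ i, 0 ≤ i → i < 66825 → Nat.beq (actR5 i) i = true :=
  (range_glue (range_of_allRange c_act5_0) (range_glue (range_of_allRange c_act5_1) (range_glue (range_of_allRange c_act5_2) (range_glue (range_of_allRange c_act5_3) (range_glue (range_of_allRange c_act5_4) (range_glue (range_of_allRange c_act5_5) (range_glue (range_of_allRange c_act5_6) (range_glue (range_of_allRange c_act5_7) (range_glue (range_of_allRange c_act5_8) (range_glue (range_of_allRange c_act5_9) (range_glue (range_of_allRange c_act5_10) (range_glue (range_of_allRange c_act5_11) (range_glue (range_of_allRange c_act5_12) (range_glue (range_of_allRange c_act5_13) (range_glue (range_of_allRange c_act5_14) (range_glue (range_of_allRange c_act5_15) (range_glue (range_of_allRange c_act5_16) (range_of_allRange c_act5_17))))))))))))))))))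
theorem h_act6 : ∀ i, 0 ≤ i → i < 66825 → Nat.beq (actR6 i) i = true :=
  (range_glue (range_of_allRange c_act6_0) (range_glue (range_of_allRange c_act6_1) (range_glue (range_of_allRange c_act6_2) (range_glue (range_of_allRange c_act6_3) (range_glue (range_of_allRange c_act6_4) (range_glue (range_of_allRange c_act6_5) (range_glue (range_of_allRange c_act6_6) (range_glue (range_of_allRange c_act6_7) (range_glue (range_of_allRange c_act6_8) (range_glue (range_of_allRange c_act6_9) (range_glue (range_of_allRange c_act6_10) (range_glue (range_of_allRange c_act6_11) (range_glue (range_of_allRange c_act6_12) (range_glue (range_of_allRange c_act6_13) (range_glue (range_of_allRange c_act6_14) (range_glue (range_of_allRange c_act6_15) (range_glue (range_of_allRange c_act6_16) (range_glue (range_of_allRange c_act6_17) (range_of_allRange c_act6_18)))))))))))))))))))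
theorem h_act7 : ∀ i, 0 ≤ i → i < 66825 → Nat.beq (actR7 i) i = true :=
  (range_glue (range_of_allRange c_act7_0) (range_glue (range_of_allRange c_act7_1) (range_glue (range_of_allRange c_act7_2) (range_glue (range_of_allRange c_act7_3) (range_glue (range_of_allRange c_act7_4) (range_glue (range_of_allRange c_act7_5) (range_glue (range_of_allRange c_act7_6) (range_glue (range_of_allRange c_act7_7) (range_glue (range_of_allRange c_act7_8) (range_glue (range_of_allRange c_act7_9) (range_glue (range_of_allRange c_act7_10) (range_glue (range_of_allRange c_act7_11) (range_glue (range_of_allRange c_act7_12) (range_glue (range_of_allRange c_act7_13) (range_glue (range_of_allRange c_act7_14) (range_glue (range_of_allRange c_act7_15) (range_glue (range_of_allRange c_act7_16) (range_glue (range_of_allRange c_act7_17) (range_of_allRange c_act7_18)))))))))))))))))))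
theorem h_act8 : ∀ i, 0 ≤ i → i < 66825 → Nat.beq (actR8 i) i = true :=
  (range_glue (range_of_allRange c_act8_0) (range_glue (range_of_allRange c_act8_1) (range_glue (range_of_allRange c_act8_2) (range_glue (range_of_allRange c_act8_3) (range_glue (range_of_allRange c_act8_4) (range_glue (range_of_allRange c_act8_5) (range_glue (range_of_allRange c_act8_6) (range_glue (range_of_allRange c_act8_7) (range_glue (range_of_allRange c_act8_8) (range_glue (range_of_allRange c_act8_9) (range_glue (range_of_allRange c_act8_10) (range_glue (range_of_allRange c_act8_11) (range_glue (range_of_allRange c_act8_12) (range_glue (range_of_allRange c_act8_13) (range_glue (range_of_allRange c_act8_14) (range_glue (range_of_allRange c_act8_15) (range_glue (range_of_allRange c_act8_16) (range_glue (range_of_allRange c_act8_17) (range_glue (range_of_allRange c_act8_18) (range_glue (range_of_allRange c_act8_19) (range_of_allRange c_act8_20)))))))))))))))))))))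
theorem h_act9 : ∀ i, 0 ≤ i → i < 66825 → Nat.beq (actR9 i) i = true :=
  (range_glue (range_of_allRange c_act9_0) (range_glue (range_of_allRange c_act9_1) (range_glue (range_of_allRange c_act9_2) (range_glue (range_of_allRange c_act9_3) (range_glue (range_of_allRange c_act9_4) (range_glue (range_of_allRange c_act9_5) (range_glue (range_of_allRange c_act9_6) (range_glue (range_of_allRange c_act9_7) (range_glue (range_of_allRange c_act9_8) (range_glue (range_of_allRange c_act9_9) (range_glue (range_of_allRange c_act9_10) (range_glue (range_of_allRange c_act9_11) (range_glue (range_of_allRange c_act9_12) (range_glue (range_of_allRange c_act9_13) (range_glue (range_of_allRange c_act9_14) (range_glue (range_of_allRange c_act9_15) (range_glue (range_of_allRange c_act9_16) (range_glue (range_of_allRange c_act9_17) (range_of_allRange c_act9_18)))))))))))))))))))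
theorem h_act10 : ∀ i, 0 ≤ i → i < 66825 → Nat.beq (actR10 i) i = true :=
  (range_glue (range_of_allRange c_act10_0) (range_glue (range_of_allRange c_act10_1) (range_glue (range_of_allRange c_act10_2) (range_glue (range_of_allRange c_act10_3) (range_glue (range_of_allRange c_act10_4) (range_glue (range_of_allRange c_act10_5) (range_glue (range_of_allRange c_act10_6) (range_glue (range_of_allRange c_act10_7) (range_glue (range_of_allRange c_act10_8) (range_glue (range_of_allRange c_act10_9) (range_glue (range_of_allRange c_act10_10) (range_glue (range_of_allRange c_act10_11) (range_glue (range_of_allRange c_act10_12) (range_glue (range_of_allRange c_act10_13) (range_glue (range_of_allRange c_act10_14) (range_glue (range_of_allRange c_act10_15) (range_glue (range_of_allRange c_act10_16) (range_glue (range_of_allRange c_act10_17) (range_of_allRange c_act10_18)))))))))))))))))))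
theorem h_act11 : ∀ i, 0 ≤ i → i < 66825 → Nat.beq (actR11 i) i = true :=
  (range_glue (range_of_allRange c_act11_0) (range_glue (range_of_allRange c_act11_1) (range_glue (range_of_allRange c_act11_2) (range_glue (range_of_allRange c_act11_3) (range_glue (range_of_allRange c_act11_4) (range_glue (range_of_allRange c_act11_5) (range_glue (range_of_allRange c_act11_6) (range_glue (range_of_allRange c_act11_7) (range_glue (range_of_allRange c_act11_8) (range_glue (range_of_allRange c_act11_9) (range_glue (range_of_allRange c_act11_10) (range_glue (range_of_allRange c_act11_11) (range_glue (range_of_allRange c_act11_12) (range_glue (range_of_allRange c_act11_13) (range_glue (range_of_allRange c_act11_14) (range_glue (range_of_allRange c_act11_15) (range_glue (range_of_allRange c_act11_16) (range_of_allRange c_act11_17))))))))))))))))))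
theorem h_act12 : ∀ i, 0 ≤ i → i < 66825 → Nat.beq (actR12 i) i = true :=
  (range_glue (range_of_allRange c_act12_0) (range_glue (range_of_allRange c_act12_1) (range_glue (range_of_allRange c_act12_2) (range_glue (range_of_allRange c_act12_3) (range_glue (range_of_allRange c_act12_4) (range_glue (range_of_allRange c_act12_5) (range_glue (range_of_allRange c_act12_6) (range_glue (range_of_allRange c_act12_7) (range_glue (range_of_allRange c_act12_8) (range_glue (range_of_allRange c_act12_9) (range_glue (range_of_allRange c_act12_10) (range_glue (range_of_allRange c_act12_11) (range_glue (range_of_allRange c_act12_12) (range_glue (range_of_allRange c_act12_13) (range_glue (range_of_allRange c_act12_14) (range_glue (range_of_allRange c_act12_15) (range_glue (range_of_allRange c_act12_16) (range_glue (range_of_allRange c_act12_17) (range_glue (range_of_allRange c_act12_18) (range_glue (range_of_allRange c_act12_19) (range_of_allRange c_act12_20)))))))))))))))))))))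
theorem h_act13 : ∀ i, 0 ≤ i → i < 66825 → Nat.beq (actR13 i) i = true :=
  (range_glue (range_of_allRange c_act13_0) (range_glue (range_of_allRange c_act13_1) (range_glue (range_of_allRange c_act13_2) (range_glue (range_of_allRange c_act13_3) (range_glue (range_of_allRange c_act13_4) (range_glue (range_of_allRange c_act13_5) (range_glue (range_of_allRange c_act13_6) (range_glue (range_of_allRange c_act13_7) (range_glue (range_of_allRange c_act13_8) (range_glue (range_of_allRange c_act13_9) (range_glue (range_of_allRange c_act13_10) (range_glue (range_of_allRange c_act13_11) (range_glue (range_of_allRange c_act13_12) (range_glue (range_of_allRange c_act13_13) (range_glue (range_of_allRange c_act13_14) (range_glue (range_of_allRange c_act13_15) (range_glue (range_of_allRange c_act13_16) (range_glue (range_of_allRange c_act13_17) (range_of_allRange c_act13_18)))))))))))))))))))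
theorem h_act14 : ∀ i, 0 ≤ i → i < 66825 → Nat.beq (actR14 i) i = true :=
  (range_glue (range_of_allRange c_act14_0) (range_glue (range_of_allRange c_act14_1) (range_glue (range_of_allRange c_act14_2) (range_glue (range_of_allRange c_act14_3) (range_glue (range_of_allRange c_act14_4) (range_glue (range_of_allRange c_act14_5) (range_glue (range_of_allRange c_act14_6) (range_glue (range_of_allRange c_act14_7) (range_glue (range_of_allRange c_act14_8) (range_glue (range_of_allRange c_act14_9) (range_glue (range_of_allRange c_act14_10) (range_glue (range_of_allRange c_act14_11) (range_glue (range_of_allRange c_act14_12) (range_glue (range_of_allRange c_act14_13) (range_glue (range_of_allRange c_act14_14) (range_glue (range_of_allRange c_act14_15) (range_glue (range_of_allRange c_act14_16) (range_glue (range_of_allRange c_act14_17) (range_glue (range_of_allRange c_act14_18) (range_glue (range_of_allRange c_act14_19) (range_glue (range_of_allRange c_act14_20) (range_of_allRange c_act14_21))))))))))))))))))))))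
theorem h_act15 : ∀ i, 0 ≤ i → i < 66825 → Nat.beq (actR15 i) i = true :=
  (range_glue (range_of_allRange c_act15_0) (range_glue (range_of_allRange c_act15_1) (range_glue (range_of_allRange c_act15_2) (range_of_allRange c_act15_3))))
theorem h_act16 : ∀ i, 0 ≤ i → i < 66825 → Nat.beq (actR16 i) i = true :=
  (range_glue (range_of_allRange c_act16_0) (range_glue (range_of_allRange c_act16_1) (range_glue (range_of_allRange c_act16_2) (range_glue (range_of_allRange c_act16_3) (range_of_allRange c_act16_4)))))
theorem h_act17 : ∀ i, 0 ≤ i → i < 66825 → Nat.beq (actR17 i) i = true :=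
  (range_glue (range_of_allRange c_act17_0) (range_glue (range_of_allRange c_act17_1) (range_glue (range_of_allRange c_act17_2) (range_glue (range_of_allRange c_act17_3) (range_of_allRange c_act17_4)))))
theorem h_act18 : ∀ i, 0 ≤ i → i < 66825 → Nat.beq (actR18 i) i = true :=
  (range_glue (range_of_allRange c_act18_0) (range_glue (range_of_allRange c_act18_1) (range_glue (range_of_allRange c_act18_2) (range_glue (range_of_allRange c_act18_3) (range_of_allRange c_act18_4)))))

theorem checked : T.Checked D where
  hz := c_zero
  hn := fun d h0 hd => h_names d h0 hd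
  hb := fun j hj => allBelow_eq_true.1 c_base j hj
  hr := fun t h1 h2 => h_rel t h1 h2
  hfin := fun i x hi hx => h_fin i (Nat.zero_le _) hi x hx
  hperm := fun i x hi hx => h_perm i (Nat.zero_le _) hi x hx
  hlet := fun x hx => allBelow_eq_true.1 c_let x hx
  hcls := fun d h0 hd => h_cls d h0 hd
  hrep := fun i hi => h_rep i (Nat.zero_le _) hi
  hcls0 := c_cls0
  hname0 := c_name0
  hN := by decide
  hM := by decide

theorem h_act : ∀ L ∈ PC3McL.P.real, ∀ i, i < T.N → Tab.relActOK T D L i = true := by
  rw [c_real]
  intro L hL
  simp only [realLit, List.mem_cons, List.not_mem_nil, or_false] at hL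
  rcases hL with rfl | rfl | rfl | rfl | rfl | rfl | rfl | rfl | rfl | rfl | rfl | rfl | rfl | rfl | rfl | rfl | rfl | rfl | rfl
  · intro i hi
    rw [Tab.relActOK, ← actR0_eq]
    exact h_act0 i (Nat.zero_le _) hi
  · intro i hi
    rw [Tab.relActOK, ← actR1_eq]
    exact h_act1 i (Nat.zero_le _) hi
  · intro i hi
    rw [Tab.relActOK, ← actR2_eq]
    exact h_act2 i (Nat.zero_le _) hi
  · intro i hi
    rw [Tab.relActOK, ← actR3_eq]
    exact h_act3 i (Nat.zero_le _) hi
  · intro i hi
    rw [Tab.relActOK, ← actR4_eq]
    exact h_act4 i (Nat.zero_le _) hi
  · intro i hi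
    rw [Tab.relActOK, ← actR5_eq]
    exact h_act5 i (Nat.zero_le _) hi
  · intro i hi
    rw [Tab.relActOK, ← actR6_eq]
    exact h_act6 i (Nat.zero_le _) hi
  · intro i hi
    rw [Tab.relActOK, ← actR7_eq]
    exact h_act7 i (Nat.zero_le _) hi
  · intro i hi
    rw [Tab.relActOK, ← actR8_eq]
    exact h_act8 i (Nat.zero_le _) hi
  · intro i hi
    rw [Tab.relActOK, ← actR9_eq]
    exact h_act9 i (Nat.zero_le _) hi
  · intro i hi
    rw [Tab.relActOK, ← actR10_eq]
    exact h_act10 i (Nat.zero_le _) hi
  · intro i hi
    rw [Tab.relActOK, ← actR11_eq]
    exact h_act11 i (Nat.zero_le _) hi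
  · intro i hi
    rw [Tab.relActOK, ← actR12_eq]
    exact h_act12 i (Nat.zero_le _) hi
  · intro i hi
    rw [Tab.relActOK, ← actR13_eq]
    exact h_act13 i (Nat.zero_le _) hi
  · intro i hi
    rw [Tab.relActOK, ← actR14_eq]
    exact h_act14 i (Nat.zero_le _) hi
  · intro i hi
    rw [Tab.relActOK, ← actR15_eq]
    exact h_act15 i (Nat.zero_le _) hi
  · intro i hi
    rw [Tab.relActOK, ← actR16_eq]
    exact h_act16 i (Nat.zero_le _) hi
  · intro i hi
    rw [Tab.relActOK, ← actR17_eq]
    exact h_act17 i (Nat.zero_le _) hi
  · intro i hi
    rw [Tab.relActOK, ← actR18_eq]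
    exact h_act18 i (Nat.zero_le _) hi

theorem inst : Inst PC3McL.P T D subs where
  hP := PC3McL.valid
  hk := rfl
  hinv := rfl
  hsubs := by
    intro u hu x hx
    have h1 := List.all_eq_true.1 c_subs u hu
    exact ble_succ (List.all_eq_true.1 h1 x hx)
  htab := c_tab
  hC := checked
  hact := h_act
  hsubfix := fun u hu => beq_eq (List.all_eq_true.1 c_subfix u hu)

theorem index_eq : (Inst.subG PC3McL.P subs).index = 66825 := inst.index_eq


end Cfsg.Agent.Lib.Helper4.TCD.C3McLB
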