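import Cfsg.Agent.Lib.Helper4.TCD_C3McLR_Acc
import Cfsg.Agent.Lib.Helper4.TC13

namespace Cfsg.Agent.Lib.Helper4.TCD.C3McLS

open Cfsg.Agent.Lib.Helper4.TC Cfsg.Agent.Lib.Helper4.TCD.C3McLR

set_option maxRecDepth 100000
set_option Elab.async false

def chk0 : List Nat := [0, 0, 0, 0, 0, 0, 0]
noncomputable def act0 (i : Nat) : Nat := col1 (col1 (col1 (col1 (col1 (col1 (col1 (i)))))))
theorem act0_eq (i : Nat) : act0 i = Tab.act T D chk0 i := rfl
theorem c0_0 : allRange (fun i => Nat.beq (act0 i) i) 0 6666 = true := by decide +kernel
theorem c0_1 : allRange (fun i => Nat.beq (act0 i) i) 6666 6666 = true := by decide +kernel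
theorem c0_2 : allRange (fun i => Nat.beq (act0 i) i) 13332 6666 = true := by decide +kernel
theorem c0_3 : allRange (fun i => Nat.beq (act0 i) i) 19998 6666 = true := by decide +kernel
theorem c0_4 : allRange (fun i => Nat.beq (act0 i) i) 26664 6666 = true := by decide +kernel
theorem c0_5 : allRange (fun i => Nat.beq (act0 i) i) 33330 6666 = true := by decide +kernel
theorem c0_6 : allRange (fun i => Nat.beq (act0 i) i) 39996 6666 = true := by decide +kernel
theorem c0_7 : allRange (fun i => Nat.beq (act0 i) i) 46662 6666 = true := by decide +kernel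
theorem c0_8 : allRange (fun i => Nat.beq (act0 i) i) 53328 6666 = true := by decide +kernel
theorem c0_9 : allRange (fun i => Nat.beq (act0 i) i) 59994 6666 = true := by decide +kernel
theorem c0_10 : allRange (fun i => Nat.beq (act0 i) i) 66660 165 = true := by decide +kernel
theorem h0 : ∀ i, i < T.N → Tab.relActOK T D chk0 i = true := by
  intro i hi
  rw [Tab.relActOK, ← act0_eq]
  exact (range_glue (range_of_allRange c0_0) (range_glue (range_of_allRange c0_1) (range_glue (range_of_allRange c0_2) (range_glue (range_of_allRange c0_3) (range_glue (range_of_allRange c0_4) (range_glue (range_of_allRange c0_5) (range_glue (range_of_allRange c0_6) (range_glue (range_of_allRange c0_7) (range_glue (range_of_allRange c0_8) (range_glue (range_of_allRange c0_9) (range_of_allRange c0_10))))))))))) i (Nat.zero_le _) hi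

def chk1 : List Nat := [2, 2, 2, 2, 2, 2, 2]
noncomputable def act1 (i : Nat) : Nat := col3 (col3 (col3 (col3 (col3 (col3 (col3 (i)))))))
theorem act1_eq (i : Nat) : act1 i = Tab.act T D chk1 i := rfl
theorem c1_0 : allRange (fun i => Nat.beq (act1 i) i) 0 6666 = true := by decide +kernel
theorem c1_1 : allRange (fun i => Nat.beq (act1 i) i) 6666 6666 = true := by decide +kernel
theorem c1_2 : allRange (fun i => Nat.beq (act1 i) i) 13332 6666 = true := by decide +kernel
theorem c1_3 : allRange (fun i => Nat.beq (act1 i) i) 19998 6666 = true := by decide +kernel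
theorem c1_4 : allRange (fun i => Nat.beq (act1 i) i) 26664 6666 = true := by decide +kernel
theorem c1_5 : allRange (fun i => Nat.beq (act1 i) i) 33330 6666 = true := by decide +kernel
theorem c1_6 : allRange (fun i => Nat.beq (act1 i) i) 39996 6666 = true := by decide +kernel
theorem c1_7 : allRange (fun i => Nat.beq (act1 i) i) 46662 6666 = true := by decide +kernel
theorem c1_8 : allRange (fun i => Nat.beq (act1 i) i) 53328 6666 = true := by decide +kernel
theorem c1_9 : allRange (fun i => Nat.beq (act1 i) i) 59994 6666 = true := by decide +kernel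
theorem c1_10 : allRange (fun i => Nat.beq (act1 i) i) 66660 165 = true := by decide +kernel
theorem h1 : ∀ i, i < T.N → Tab.relActOK T D chk1 i = true := by
  intro i hi
  rw [Tab.relActOK, ← act1_eq]
  exact (range_glue (range_of_allRange c1_0) (range_glue (range_of_allRange c1_1) (range_glue (range_of_allRange c1_2) (range_glue (range_of_allRange c1_3) (range_glue (range_of_allRange c1_4) (range_glue (range_of_allRange c1_5) (range_glue (range_of_allRange c1_6) (range_glue (range_of_allRange c1_7) (range_glue (range_of_allRange c1_8) (range_glue (range_of_allRange c1_9) (range_of_allRange c1_10))))))))))) i (Nat.zero_le _) hi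

def chk2 : List Nat := [0, 0, 2, 0, 2, 2, 2, 1, 2, 2, 1, 2]
noncomputable def act2 (i : Nat) : Nat := col1 (col1 (col3 (col1 (col3 (col3 (col3 (col0 (col3 (col3 (col0 (col3 (i))))))))))))
theorem act2_eq (i : Nat) : act2 i = Tab.act T D chk2 i := rfl
theorem c2_0 : allRange (fun i => Nat.beq (act2 i) i) 0 4285 = true := by decide +kernel
theorem c2_1 : allRange (fun i => Nat.beq (act2 i) i) 4285 4285 = true := by decide +kernel
theorem c2_2 : allRange (fun i => Nat.beq (act2 i) i) 8570 4285 = true := by decide +kernel
theorem c2_3 : allRange (fun i => Nat.beq (act2 i) i) 12855 4285 = true := by decide +kernel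
theorem c2_4 : allRange (fun i => Nat.beq (act2 i) i) 17140 4285 = true := by decide +kernel
theorem c2_5 : allRange (fun i => Nat.beq (act2 i) i) 21425 4285 = true := by decide +kernel
theorem c2_6 : allRange (fun i => Nat.beq (act2 i) i) 25710 4285 = true := by decide +kernel
theorem c2_7 : allRange (fun i => Nat.beq (act2 i) i) 29995 4285 = true := by decide +kernel
theorem c2_8 : allRange (fun i => Nat.beq (act2 i) i) 34280 4285 = true := by decide +kernel
theorem c2_9 : allRange (fun i => Nat.beq (act2 i) i) 38565 4285 = true := by decide +kernel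
theorem c2_10 : allRange (fun i => Nat.beq (act2 i) i) 42850 4285 = true := by decide +kernel
theorem c2_11 : allRange (fun i => Nat.beq (act2 i) i) 47135 4285 = true := by decide +kernel
theorem c2_12 : allRange (fun i => Nat.beq (act2 i) i) 51420 4285 = true := by decide +kernel
theorem c2_13 : allRange (fun i => Nat.beq (act2 i) i) 55705 4285 = true := by decide +kernel
theorem c2_14 : allRange (fun i => Nat.beq (act2 i) i) 59990 4285 = true := by decide +kernel
theorem c2_15 : allRange (fun i => Nat.beq (act2 i) i) 64275 2550 = true := by decide +kernel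
theorem h2 : ∀ i, i < T.N → Tab.relActOK T D chk2 i = true := by
  intro i hi
  rw [Tab.relActOK, ← act2_eq]
  exact (range_glue (range_of_allRange c2_0) (range_glue (range_of_allRange c2_1) (range_glue (range_of_allRange c2_2) (range_glue (range_of_allRange c2_3) (range_glue (range_of_allRange c2_4) (range_glue (range_of_allRange c2_5) (range_glue (range_of_allRange c2_6) (range_glue (range_of_allRange c2_7) (range_glue (range_of_allRange c2_8) (range_glue (range_of_allRange c2_9) (range_glue (range_of_allRange c2_10) (range_glue (range_of_allRange c2_11) (range_glue (range_of_allRange c2_12) (range_glue (range_of_allRange c2_13) (range_glue (range_of_allRange c2_14) (range_of_allRange c2_15)))))))))))))))) i (Nat.zero_le _) hi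

def chk3 : List Nat := [0, 2, 0, 3, 1, 3, 3, 1, 2, 0, 2, 2]
noncomputable def act3 (i : Nat) : Nat := col1 (col3 (col1 (col2 (col0 (col2 (col2 (col0 (col3 (col1 (col3 (col3 (i))))))))))))
theorem act3_eq (i : Nat) : act3 i = Tab.act T D chk3 i := rfl
theorem c3_0 : allRange (fun i => Nat.beq (act3 i) i) 0 4285 = true := by decide +kernel
theorem c3_1 : allRange (fun i => Nat.beq (act3 i) i) 4285 4285 = true := by decide +kernel
theorem c3_2 : allRange (fun i => Nat.beq (act3 i) i) 8570 4285 = true := by decide +kernel
theorem c3_3 : allRange (fun i => Nat.beq (act3 i) i) 12855 4285 = true := by decide +kernel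
theorem c3_4 : allRange (fun i => Nat.beq (act3 i) i) 17140 4285 = true := by decide +kernel
theorem c3_5 : allRange (fun i => Nat.beq (act3 i) i) 21425 4285 = true := by decide +kernel
theorem c3_6 : allRange (fun i => Nat.beq (act3 i) i) 25710 4285 = true := by decide +kernel
theorem c3_7 : allRange (fun i => Nat.beq (act3 i) i) 29995 4285 = true := by decide +kernel
theorem c3_8 : allRange (fun i => Nat.beq (act3 i) i) 34280 4285 = true := by decide +kernel
theorem c3_9 : allRange (fun i => Nat.beq (act3 i) i) 38565 4285 = true := by decide +kernel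
theorem c3_10 : allRange (fun i => Nat.beq (act3 i) i) 42850 4285 = true := by decide +kernel
theorem c3_11 : allRange (fun i => Nat.beq (act3 i) i) 47135 4285 = true := by decide +kernel
theorem c3_12 : allRange (fun i => Nat.beq (act3 i) i) 51420 4285 = true := by decide +kernel
theorem c3_13 : allRange (fun i => Nat.beq (act3 i) i) 55705 4285 = true := by decide +kernel
theorem c3_14 : allRange (fun i => Nat.beq (act3 i) i) 59990 4285 = true := by decide +kernel
theorem c3_15 : allRange (fun i => Nat.beq (act3 i) i) 64275 2550 = true := by decide +kernel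
theorem h3 : ∀ i, i < T.N → Tab.relActOK T D chk3 i = true := by
  intro i hi
  rw [Tab.relActOK, ← act3_eq]
  exact (range_glue (range_of_allRange c3_0) (range_glue (range_of_allRange c3_1) (range_glue (range_of_allRange c3_2) (range_glue (range_of_allRange c3_3) (range_glue (range_of_allRange c3_4) (range_glue (range_of_allRange c3_5) (range_glue (range_of_allRange c3_6) (range_glue (range_of_allRange c3_7) (range_glue (range_of_allRange c3_8) (range_glue (range_of_allRange c3_9) (range_glue (range_of_allRange c3_10) (range_glue (range_of_allRange c3_11) (range_glue (range_of_allRange c3_12) (range_glue (range_of_allRange c3_13) (range_glue (range_of_allRange c3_14) (range_of_allRange c3_15)))))))))))))))) i (Nat.zero_le _) hi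

def chk4 : List Nat := [0, 1]
noncomputable def act4 (i : Nat) : Nat := col1 (col0 (i))
theorem act4_eq (i : Nat) : act4 i = Tab.act T D chk4 i := rfl
theorem c4_0 : allRange (fun i => Nat.beq (act4 i) i) 0 15000 = true := by decide +kernel
theorem c4_1 : allRange (fun i => Nat.beq (act4 i) i) 15000 15000 = true := by decide +kernel
theorem c4_2 : allRange (fun i => Nat.beq (act4 i) i) 30000 15000 = true := by decide +kernel
theorem c4_3 : allRange (fun i => Nat.beq (act4 i) i) 45000 15000 = true := by decide +kernel
theorem c4_4 : allRange (fun i => Nat.beq (act4 i) i) 60000 6825 = true := by decide +kernel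
theorem h4 : ∀ i, i < T.N → Tab.relActOK T D chk4 i = true := by
  intro i hi
  rw [Tab.relActOK, ← act4_eq]
  exact (range_glue (range_of_allRange c4_0) (range_glue (range_of_allRange c4_1) (range_glue (range_of_allRange c4_2) (range_glue (range_of_allRange c4_3) (range_of_allRange c4_4))))) i (Nat.zero_le _) hi

def chk5 : List Nat := [1, 0]
noncomputable def act5 (i : Nat) : Nat := col0 (col1 (i))
theorem act5_eq (i : Nat) : act5 i = Tab.act T D chk5 i := rfl
theorem c5_0 : allRange (fun i => Nat.beq (act5 i) i) 0 15000 = true := by decide +kernel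
theorem c5_1 : allRange (fun i => Nat.beq (act5 i) i) 15000 15000 = true := by decide +kernel
theorem c5_2 : allRange (fun i => Nat.beq (act5 i) i) 30000 15000 = true := by decide +kernel
theorem c5_3 : allRange (fun i => Nat.beq (act5 i) i) 45000 15000 = true := by decide +kernel
theorem c5_4 : allRange (fun i => Nat.beq (act5 i) i) 60000 6825 = true := by decide +kernel
theorem h5 : ∀ i, i < T.N → Tab.relActOK T D chk5 i = true := by
  intro i hi
  rw [Tab.relActOK, ← act5_eq]
  exact (range_glue (range_of_allRange c5_0) (range_glue (range_of_allRange c5_1) (range_glue (range_of_allRange c5_2) (range_glue (range_of_allRange c5_3) (range_of_allRange c5_4))))) i (Nat.zero_le _) hi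

def chk6 : List Nat := [2, 3]
noncomputable def act6 (i : Nat) : Nat := col3 (col2 (i))
theorem act6_eq (i : Nat) : act6 i = Tab.act T D chk6 i := rfl
theorem c6_0 : allRange (fun i => Nat.beq (act6 i) i) 0 15000 = true := by decide +kernel
theorem c6_1 : allRange (fun i => Nat.beq (act6 i) i) 15000 15000 = true := by decide +kernel
theorem c6_2 : allRange (fun i => Nat.beq (act6 i) i) 30000 15000 = true := by decide +kernel
theorem c6_3 : allRange (fun i => Nat.beq (act6 i) i) 45000 15000 = true := by decide +kernel
theorem c6_4 : allRange (fun i => Nat.beq (act6 i) i) 60000 6825 = true := by decide +kernel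
theorem h6 : ∀ i, i < T.N → Tab.relActOK T D chk6 i = true := by
  intro i hi
  rw [Tab.relActOK, ← act6_eq]
  exact (range_glue (range_of_allRange c6_0) (range_glue (range_of_allRange c6_1) (range_glue (range_of_allRange c6_2) (range_glue (range_of_allRange c6_3) (range_of_allRange c6_4))))) i (Nat.zero_le _) hi

def chk7 : List Nat := [3, 2]
noncomputable def act7 (i : Nat) : Nat := col2 (col3 (i))
theorem act7_eq (i : Nat) : act7 i = Tab.act T D chk7 i := rfl
theorem c7_0 : allRange (fun i => Nat.beq (act7 i) i) 0 15000 = true := by decide +kernel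
theorem c7_1 : allRange (fun i => Nat.beq (act7 i) i) 15000 15000 = true := by decide +kernel
theorem c7_2 : allRange (fun i => Nat.beq (act7 i) i) 30000 15000 = true := by decide +kernel
theorem c7_3 : allRange (fun i => Nat.beq (act7 i) i) 45000 15000 = true := by decide +kernel
theorem c7_4 : allRange (fun i => Nat.beq (act7 i) i) 60000 6825 = true := by decide +kernel
theorem h7 : ∀ i, i < T.N → Tab.relActOK T D chk7 i = true := by
  intro i hi
  rw [Tab.relActOK, ← act7_eq]
  exact (range_glue (range_of_allRange c7_0) (range_glue (range_of_allRange c7_1) (range_glue (range_of_allRange c7_2) (range_glue (range_of_allRange c7_3) (range_of_allRange c7_4))))) i (Nat.zero_le _) hi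

def chkAll : List (List Nat) := [chk0, chk1, chk2, chk3, chk4, chk5, chk6, chk7]
theorem hAll : ∀ w ∈ chkAll, ∀ i, i < T.N → Tab.relActOK T D w i = true := by
  intro w hw
  simp only [chkAll, List.mem_cons, List.not_mem_nil, or_false] at hw
  rcases hw with rfl | rfl | rfl | rfl | rfl | rfl | rfl | rfl
  · exact h0
  · exact h1
  · exact h2
  · exact h3
  · exact h4
  · exact h5
  · exact h6
  · exact h7
theorem hAll_lt : ∀ w ∈ chkAll, ∀ x ∈ w, x < 8 := by decide +kernel

end Cfsg.Agent.Lib.Helper4.TCD.C3McLS
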