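import Cfsg.Agent.Lib.Helper4.TCD_SC3McLp2A_Acc

namespace Cfsg.Agent.Lib.Helper4.TCD.SC3McLp2A

open Cfsg.Agent.Lib.Helper4.TC

set_option maxRecDepth 100000
set_option Elab.async false

theorem c_rel_75 : allRange D.relOK 371351 3367 = true := by decide +kernel
theorem c_rel_76 : allRange D.relOK 374718 3308 = true := by decide +kernel
theorem c_rel_77 : allRange D.relOK 378026 3459 = true := by decide +kernel
theorem c_rel_78 : allRange D.relOK 381485 3548 = true := by decide +kernel
theorem c_rel_79 : allRange D.relOK 385033 3510 = true := by decide +kernel
theorem c_rel_80 : allRange D.relOK 388543 3328 = true := by decide +kernel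
theorem c_rel_81 : allRange D.relOK 391871 3343 = true := by decide +kernel
theorem c_rel_82 : allRange D.relOK 395214 3311 = true := by decide +kernel
theorem c_rel_83 : allRange D.relOK 398525 3399 = true := by decide +kernel
theorem c_rel_84 : allRange D.relOK 401924 3385 = true := by decide +kernel
theorem c_rel_85 : allRange D.relOK 405309 3334 = true := by decide +kernel
theorem c_rel_86 : allRange D.relOK 408643 3335 = true := by decide +kernel
theorem c_rel_87 : allRange D.relOK 411978 3443 = true := by decide +kernel
theorem c_rel_88 : allRange D.relOK 415421 3230 = true := by decide +kernel
theorem c_rel_89 : allRange D.relOK 418651 3390 = true := by decide +kernel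
theorem c_rel_90 : allRange D.relOK 422041 3454 = true := by decide +kernel
theorem c_rel_91 : allRange D.relOK 425495 3506 = true := by decide +kernel
theorem c_rel_92 : allRange D.relOK 429001 3575 = true := by decide +kernel
theorem c_rel_93 : allRange D.relOK 432576 3359 = true := by decide +kernel
theorem c_rel_94 : allRange D.relOK 435935 3365 = true := by decide +kernel
theorem c_rel_95 : allRange D.relOK 439300 3373 = true := by decide +kernel
theorem c_rel_96 : allRange D.relOK 442673 3383 = true := by decide +kernel
theorem c_rel_97 : allRange D.relOK 446056 3471 = true := by decide +kernel
theorem c_rel_98 : allRange D.relOK 449527 3548 = true := by decide +kernel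
theorem c_rel_99 : allRange D.relOK 453075 3558 = true := by decide +kernel
theorem c_rel_100 : allRange D.relOK 456633 3538 = true := by decide +kernel
theorem c_rel_101 : allRange D.relOK 460171 3448 = true := by decide +kernel
theorem c_rel_102 : allRange D.relOK 463619 3532 = true := by decide +kernel
theorem c_rel_103 : allRange D.relOK 467151 3588 = true := by decide +kernel
theorem c_rel_104 : allRange D.relOK 470739 3338 = true := by decide +kernel
theorem c_rel_105 : allRange D.relOK 474077 3557 = true := by decide +kernel
theorem c_rel_106 : allRange D.relOK 477634 3397 = true := by decide +kernel
theorem c_rel_107 : allRange D.relOK 481031 3318 = true := by decide +kernel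
theorem c_rel_108 : allRange D.relOK 484349 3160 = true := by decide +kernel
theorem c_rel_109 : allRange D.relOK 487509 3483 = true := by decide +kernel
theorem c_rel_110 : allRange D.relOK 490992 3561 = true := by decide +kernel
theorem c_rel_111 : allRange D.relOK 494553 3488 = true := by decide +kernel
theorem c_rel_112 : allRange D.relOK 498041 3488 = true := by decide +kernel
theorem c_rel_113 : allRange D.relOK 501529 3234 = true := by decide +kernel
theorem c_rel_114 : allRange D.relOK 504763 2734 = true := by decide +kernel
theorem c_rel_115 : allRange D.relOK 507497 2101 = true := by decide +kernel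
theorem c_rel_116 : allRange D.relOK 509598 3067 = true := by decide +kernel
theorem c_rel_117 : allRange D.relOK 512665 3436 = true := by decide +kernel
theorem c_rel_118 : allRange D.relOK 516101 2927 = true := by decide +kernel
theorem c_rel_119 : allRange D.relOK 519028 3238 = true := by decide +kernel
theorem c_rel_120 : allRange D.relOK 522266 3495 = true := by decide +kernel
theorem c_rel_121 : allRange D.relOK 525761 3521 = true := by decide +kernel
theorem c_rel_122 : allRange D.relOK 529282 3449 = true := by decide +kernel
theorem c_rel_123 : allRange D.relOK 532731 3555 = true := by decide +kernel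
theorem c_rel_124 : allRange D.relOK 536286 3528 = true := by decide +kernel
theorem c_rel_125 : allRange D.relOK 539814 2934 = true := by decide +kernel
theorem c_rel_126 : allRange D.relOK 542748 3528 = true := by decide +kernel
theorem c_rel_127 : allRange D.relOK 546276 3446 = true := by decide +kernel
theorem c_rel_128 : allRange D.relOK 549722 2897 = true := by decide +kernel
theorem c_rel_129 : allRange D.relOK 552619 3254 = true := by decide +kernel
theorem c_rel_130 : allRange D.relOK 555873 3528 = true := by decide +kernel
theorem c_rel_131 : allRange D.relOK 559401 3527 = true := by decide +kernel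
theorem c_rel_132 : allRange D.relOK 562928 3243 = true := by decide +kernel
theorem c_rel_133 : allRange D.relOK 566171 3552 = true := by decide +kernel
theorem c_rel_134 : allRange D.relOK 569723 3557 = true := by decide +kernel
theorem c_rel_135 : allRange D.relOK 573280 3521 = true := by decide +kernel
theorem c_rel_136 : allRange D.relOK 576801 3482 = true := by decide +kernel
theorem c_rel_137 : allRange D.relOK 580283 3558 = true := by decide +kernel
theorem c_rel_138 : allRange D.relOK 583841 3489 = true := by decide +kernel
theorem c_rel_139 : allRange D.relOK 587330 3122 = true := by decide +kernel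
theorem c_rel_140 : allRange D.relOK 590452 3539 = true := by decide +kernel
theorem c_rel_141 : allRange D.relOK 593991 3502 = true := by decide +kernel
theorem c_rel_142 : allRange D.relOK 597493 3153 = true := by decide +kernel
theorem c_rel_143 : allRange D.relOK 600646 3403 = true := by decide +kernel
theorem c_rel_144 : allRange D.relOK 604049 3488 = true := by decide +kernel
theorem c_rel_145 : allRange D.relOK 607537 2718 = true := by decide +kernel
theorem c_rel_146 : allRange D.relOK 610255 3457 = true := by decide +kernel
theorem c_rel_147 : allRange D.relOK 613712 3524 = true := by decide +kernel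
theorem c_rel_148 : allRange D.relOK 617236 3339 = true := by decide +kernel
theorem c_rel_149 : allRange D.relOK 620575 3047 = true := by decide +kernel
theorem c_rel_150 : allRange D.relOK 623622 3632 = true := by decide +kernel
theorem c_rel_151 : allRange D.relOK 627254 3403 = true := by decide +kernel
theorem c_rel_152 : allRange D.relOK 630657 3600 = true := by decide +kernel
theorem c_rel_153 : allRange D.relOK 634257 3067 = true := by decide +kernel
theorem c_rel_154 : allRange D.relOK 637324 2780 = true := by decide +kernel
theorem c_rel_155 : allRange D.relOK 640104 3559 = true := by decide +kernel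
theorem c_rel_156 : allRange D.relOK 643663 3647 = true := by decide +kernel
theorem c_rel_157 : allRange D.relOK 647310 3600 = true := by decide +kernel
theorem c_rel_158 : allRange D.relOK 650910 3545 = true := by decide +kernel
theorem c_rel_159 : allRange D.relOK 654455 3652 = true := by decide +kernel
theorem c_rel_160 : allRange D.relOK 658107 3135 = true := by decide +kernel
theorem c_rel_161 : allRange D.relOK 661242 3039 = true := by decide +kernel
theorem c_rel_162 : allRange D.relOK 664281 3311 = true := by decide +kernel
theorem c_rel_163 : allRange D.relOK 667592 3102 = true := by decide +kernel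
theorem c_rel_164 : allRange D.relOK 670694 2725 = true := by decide +kernel
theorem c_rel_165 : allRange D.relOK 673419 3382 = true := by decide +kernel
theorem c_rel_166 : allRange D.relOK 676801 3545 = true := by decide +kernel
theorem c_rel_167 : allRange D.relOK 680346 2928 = true := by decide +kernel
theorem c_rel_168 : allRange D.relOK 683274 3400 = true := by decide +kernel
theorem c_rel_169 : allRange D.relOK 686674 3553 = true := by decide +kernel
theorem c_rel_170 : allRange D.relOK 690227 3084 = true := by decide +kernel
theorem c_rel_171 : allRange D.relOK 693311 3124 = true := by decide +kernel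
theorem c_rel_172 : allRange D.relOK 696435 3532 = true := by decide +kernel
theorem c_rel_173 : allRange D.relOK 699967 2764 = true := by decide +kernel

end Cfsg.Agent.Lib.Helper4.TCD.SC3McLp2A
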