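import Cfsg.Agent.Lib.Helper4.TCD_SC3McLp2A_Acc

namespace Cfsg.Agent.Lib.Helper4.TCD.SC3McLp2A

open Cfsg.Agent.Lib.Helper4.TC

set_option maxRecDepth 100000
set_option Elab.async false

theorem c_perm_46 : allGrid (T.permOK1 D) 40572 882 34 = true := by decide +kernel
theorem c_perm_47 : allGrid (T.permOK1 D) 41454 882 34 = true := by decide +kernel
theorem c_perm_48 : allGrid (T.permOK1 D) 42336 882 34 = true := by decide +kernel
theorem c_perm_49 : allGrid (T.permOK1 D) 43218 882 34 = true := by decide +kernel
theorem c_perm_50 : allGrid (T.permOK1 D) 44100 882 34 = true := by decide +kernel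
theorem c_perm_51 : allGrid (T.permOK1 D) 44982 882 34 = true := by decide +kernel
theorem c_perm_52 : allGrid (T.permOK1 D) 45864 882 34 = true := by decide +kernel
theorem c_perm_53 : allGrid (T.permOK1 D) 46746 882 34 = true := by decide +kernel
theorem c_perm_54 : allGrid (T.permOK1 D) 47628 882 34 = true := by decide +kernel
theorem c_perm_55 : allGrid (T.permOK1 D) 48510 882 34 = true := by decide +kernel
theorem c_perm_56 : allGrid (T.permOK1 D) 49392 882 34 = true := by decide +kernel
theorem c_perm_57 : allGrid (T.permOK1 D) 50274 882 34 = true := by decide +kernel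
theorem c_perm_58 : allGrid (T.permOK1 D) 51156 882 34 = true := by decide +kernel
theorem c_perm_59 : allGrid (T.permOK1 D) 52038 882 34 = true := by decide +kernel
theorem c_perm_60 : allGrid (T.permOK1 D) 52920 882 34 = true := by decide +kernel
theorem c_perm_61 : allGrid (T.permOK1 D) 53802 882 34 = true := by decide +kernel
theorem c_perm_62 : allGrid (T.permOK1 D) 54684 882 34 = true := by decide +kernel
theorem c_perm_63 : allGrid (T.permOK1 D) 55566 882 34 = true := by decide +kernel
theorem c_perm_64 : allGrid (T.permOK1 D) 56448 882 34 = true := by decide +kernel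
theorem c_perm_65 : allGrid (T.permOK1 D) 57330 882 34 = true := by decide +kernel
theorem c_perm_66 : allGrid (T.permOK1 D) 58212 882 34 = true := by decide +kernel
theorem c_perm_67 : allGrid (T.permOK1 D) 59094 882 34 = true := by decide +kernel
theorem c_perm_68 : allGrid (T.permOK1 D) 59976 882 34 = true := by decide +kernel
theorem c_perm_69 : allGrid (T.permOK1 D) 60858 882 34 = true := by decide +kernel
theorem c_perm_70 : allGrid (T.permOK1 D) 61740 882 34 = true := by decide +kernel
theorem c_perm_71 : allGrid (T.permOK1 D) 62622 882 34 = true := by decide +kernel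
theorem c_perm_72 : allGrid (T.permOK1 D) 63504 882 34 = true := by decide +kernel
theorem c_perm_73 : allGrid (T.permOK1 D) 64386 882 34 = true := by decide +kernel
theorem c_perm_74 : allGrid (T.permOK1 D) 65268 882 34 = true := by decide +kernel
theorem c_perm_75 : allGrid (T.permOK1 D) 66150 675 34 = true := by decide +kernel
theorem c_act0_0 : allRange (fun i => Nat.beq (actR0 i) i) 0 8571 = true := by decide +kernel
theorem c_act0_1 : allRange (fun i => Nat.beq (actR0 i) i) 8571 8571 = true := by decide +kernel
theorem c_act0_2 : allRange (fun i => Nat.beq (actR0 i) i) 17142 8571 = true := by decide +kernel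
theorem c_act0_3 : allRange (fun i => Nat.beq (actR0 i) i) 25713 8571 = true := by decide +kernel
theorem c_act0_4 : allRange (fun i => Nat.beq (actR0 i) i) 34284 8571 = true := by decide +kernel
theorem c_act0_5 : allRange (fun i => Nat.beq (actR0 i) i) 42855 8571 = true := by decide +kernel
theorem c_act0_6 : allRange (fun i => Nat.beq (actR0 i) i) 51426 8571 = true := by decide +kernel
theorem c_act0_7 : allRange (fun i => Nat.beq (actR0 i) i) 59997 6828 = true := by decide +kernel
theorem c_act1_0 : allRange (fun i => Nat.beq (actR1 i) i) 0 8571 = true := by decide +kernel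
theorem c_act1_1 : allRange (fun i => Nat.beq (actR1 i) i) 8571 8571 = true := by decide +kernel
theorem c_act1_2 : allRange (fun i => Nat.beq (actR1 i) i) 17142 8571 = true := by decide +kernel
theorem c_act1_3 : allRange (fun i => Nat.beq (actR1 i) i) 25713 8571 = true := by decide +kernel
theorem c_act1_4 : allRange (fun i => Nat.beq (actR1 i) i) 34284 8571 = true := by decide +kernel
theorem c_act1_5 : allRange (fun i => Nat.beq (actR1 i) i) 42855 8571 = true := by decide +kernel
theorem c_act1_6 : allRange (fun i => Nat.beq (actR1 i) i) 51426 8571 = true := by decide +kernel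
theorem c_act1_7 : allRange (fun i => Nat.beq (actR1 i) i) 59997 6828 = true := by decide +kernel
theorem c_act2_0 : allRange (fun i => Nat.beq (actR2 i) i) 0 20000 = true := by decide +kernel
theorem c_act2_1 : allRange (fun i => Nat.beq (actR2 i) i) 20000 20000 = true := by decide +kernel
theorem c_act2_2 : allRange (fun i => Nat.beq (actR2 i) i) 40000 20000 = true := by decide +kernel
theorem c_act2_3 : allRange (fun i => Nat.beq (actR2 i) i) 60000 6825 = true := by decide +kernel
theorem c_act3_0 : allRange (fun i => Nat.beq (actR3 i) i) 0 3529 = true := by decide +kernel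

end Cfsg.Agent.Lib.Helper4.TCD.SC3McLp2A
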