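import Cfsg.Agent.Lib.Helper4.TCD_SC3McLp2A_Acc

namespace Cfsg.Agent.Lib.Helper4.TCD.SC3McLp2A

open Cfsg.Agent.Lib.Helper4.TC

set_option maxRecDepth 100000
set_option Elab.async false

theorem c_act3_1 : allRange (fun i => Nat.beq (actR3 i) i) 3529 3529 = true := by decide +kernel
theorem c_act3_2 : allRange (fun i => Nat.beq (actR3 i) i) 7058 3529 = true := by decide +kernel
theorem c_act3_3 : allRange (fun i => Nat.beq (actR3 i) i) 10587 3529 = true := by decide +kernel
theorem c_act3_4 : allRange (fun i => Nat.beq (actR3 i) i) 14116 3529 = true := by decide +kernel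
theorem c_act3_5 : allRange (fun i => Nat.beq (actR3 i) i) 17645 3529 = true := by decide +kernel
theorem c_act3_6 : allRange (fun i => Nat.beq (actR3 i) i) 21174 3529 = true := by decide +kernel
theorem c_act3_7 : allRange (fun i => Nat.beq (actR3 i) i) 24703 3529 = true := by decide +kernel
theorem c_act3_8 : allRange (fun i => Nat.beq (actR3 i) i) 28232 3529 = true := by decide +kernel
theorem c_act3_9 : allRange (fun i => Nat.beq (actR3 i) i) 31761 3529 = true := by decide +kernel
theorem c_act3_10 : allRange (fun i => Nat.beq (actR3 i) i) 35290 3529 = true := by decide +kernel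
theorem c_act3_11 : allRange (fun i => Nat.beq (actR3 i) i) 38819 3529 = true := by decide +kernel
theorem c_act3_12 : allRange (fun i => Nat.beq (actR3 i) i) 42348 3529 = true := by decide +kernel
theorem c_act3_13 : allRange (fun i => Nat.beq (actR3 i) i) 45877 3529 = true := by decide +kernel
theorem c_act3_14 : allRange (fun i => Nat.beq (actR3 i) i) 49406 3529 = true := by decide +kernel
theorem c_act3_15 : allRange (fun i => Nat.beq (actR3 i) i) 52935 3529 = true := by decide +kernel
theorem c_act3_16 : allRange (fun i => Nat.beq (actR3 i) i) 56464 3529 = true := by decide +kernel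
theorem c_act3_17 : allRange (fun i => Nat.beq (actR3 i) i) 59993 3529 = true := by decide +kernel
theorem c_act3_18 : allRange (fun i => Nat.beq (actR3 i) i) 63522 3303 = true := by decide +kernel
theorem c_act4_0 : allRange (fun i => Nat.beq (actR4 i) i) 0 3529 = true := by decide +kernel
theorem c_act4_1 : allRange (fun i => Nat.beq (actR4 i) i) 3529 3529 = true := by decide +kernel
theorem c_act4_2 : allRange (fun i => Nat.beq (actR4 i) i) 7058 3529 = true := by decide +kernel
theorem c_act4_3 : allRange (fun i => Nat.beq (actR4 i) i) 10587 3529 = true := by decide +kernel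
theorem c_act4_4 : allRange (fun i => Nat.beq (actR4 i) i) 14116 3529 = true := by decide +kernel
theorem c_act4_5 : allRange (fun i => Nat.beq (actR4 i) i) 17645 3529 = true := by decide +kernel
theorem c_act4_6 : allRange (fun i => Nat.beq (actR4 i) i) 21174 3529 = true := by decide +kernel
theorem c_act4_7 : allRange (fun i => Nat.beq (actR4 i) i) 24703 3529 = true := by decide +kernel
theorem c_act4_8 : allRange (fun i => Nat.beq (actR4 i) i) 28232 3529 = true := by decide +kernel
theorem c_act4_9 : allRange (fun i => Nat.beq (actR4 i) i) 31761 3529 = true := by decide +kernel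
theorem c_act4_10 : allRange (fun i => Nat.beq (actR4 i) i) 35290 3529 = true := by decide +kernel
theorem c_act4_11 : allRange (fun i => Nat.beq (actR4 i) i) 38819 3529 = true := by decide +kernel
theorem c_act4_12 : allRange (fun i => Nat.beq (actR4 i) i) 42348 3529 = true := by decide +kernel
theorem c_act4_13 : allRange (fun i => Nat.beq (actR4 i) i) 45877 3529 = true := by decide +kernel
theorem c_act4_14 : allRange (fun i => Nat.beq (actR4 i) i) 49406 3529 = true := by decide +kernel
theorem c_act4_15 : allRange (fun i => Nat.beq (actR4 i) i) 52935 3529 = true := by decide +kernel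
theorem c_act4_16 : allRange (fun i => Nat.beq (actR4 i) i) 56464 3529 = true := by decide +kernel
theorem c_act4_17 : allRange (fun i => Nat.beq (actR4 i) i) 59993 3529 = true := by decide +kernel
theorem c_act4_18 : allRange (fun i => Nat.beq (actR4 i) i) 63522 3303 = true := by decide +kernel
theorem c_act5_0 : allRange (fun i => Nat.beq (actR5 i) i) 0 3333 = true := by decide +kernel
theorem c_act5_1 : allRange (fun i => Nat.beq (actR5 i) i) 3333 3333 = true := by decide +kernel
theorem c_act5_2 : allRange (fun i => Nat.beq (actR5 i) i) 6666 3333 = true := by decide +kernel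
theorem c_act5_3 : allRange (fun i => Nat.beq (actR5 i) i) 9999 3333 = true := by decide +kernel
theorem c_act5_4 : allRange (fun i => Nat.beq (actR5 i) i) 13332 3333 = true := by decide +kernel
theorem c_act5_5 : allRange (fun i => Nat.beq (actR5 i) i) 16665 3333 = true := by decide +kernel
theorem c_act5_6 : allRange (fun i => Nat.beq (actR5 i) i) 19998 3333 = true := by decide +kernel
theorem c_act5_7 : allRange (fun i => Nat.beq (actR5 i) i) 23331 3333 = true := by decide +kernel
theorem c_act5_8 : allRange (fun i => Nat.beq (actR5 i) i) 26664 3333 = true := by decide +kernel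
theorem c_act5_9 : allRange (fun i => Nat.beq (actR5 i) i) 29997 3333 = true := by decide +kernel
theorem c_act5_10 : allRange (fun i => Nat.beq (actR5 i) i) 33330 3333 = true := by decide +kernel
theorem c_act5_11 : allRange (fun i => Nat.beq (actR5 i) i) 36663 3333 = true := by decide +kernel
theorem c_act5_12 : allRange (fun i => Nat.beq (actR5 i) i) 39996 3333 = true := by decide +kernel

end Cfsg.Agent.Lib.Helper4.TCD.SC3McLp2A
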