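import Cfsg.Agent.Lib.Helper4.TCD_SC3McLp2A_Acc

namespace Cfsg.Agent.Lib.Helper4.TCD.SC3McLp2A

open Cfsg.Agent.Lib.Helper4.TC

set_option maxRecDepth 100000
set_option Elab.async false

theorem c_act10_12 : allRange (fun i => Nat.beq (actR10 i) i) 37884 3157 = true := by decide +kernel
theorem c_act10_13 : allRange (fun i => Nat.beq (actR10 i) i) 41041 3157 = true := by decide +kernel
theorem c_act10_14 : allRange (fun i => Nat.beq (actR10 i) i) 44198 3157 = true := by decide +kernel
theorem c_act10_15 : allRange (fun i => Nat.beq (actR10 i) i) 47355 3157 = true := by decide +kernel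
theorem c_act10_16 : allRange (fun i => Nat.beq (actR10 i) i) 50512 3157 = true := by decide +kernel
theorem c_act10_17 : allRange (fun i => Nat.beq (actR10 i) i) 53669 3157 = true := by decide +kernel
theorem c_act10_18 : allRange (fun i => Nat.beq (actR10 i) i) 56826 3157 = true := by decide +kernel
theorem c_act10_19 : allRange (fun i => Nat.beq (actR10 i) i) 59983 3157 = true := by decide +kernel
theorem c_act10_20 : allRange (fun i => Nat.beq (actR10 i) i) 63140 3157 = true := by decide +kernel
theorem c_act10_21 : allRange (fun i => Nat.beq (actR10 i) i) 66297 528 = true := by decide +kernel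
theorem c_act11_0 : allRange (fun i => Nat.beq (actR11 i) i) 0 3333 = true := by decide +kernel
theorem c_act11_1 : allRange (fun i => Nat.beq (actR11 i) i) 3333 3333 = true := by decide +kernel
theorem c_act11_2 : allRange (fun i => Nat.beq (actR11 i) i) 6666 3333 = true := by decide +kernel
theorem c_act11_3 : allRange (fun i => Nat.beq (actR11 i) i) 9999 3333 = true := by decide +kernel
theorem c_act11_4 : allRange (fun i => Nat.beq (actR11 i) i) 13332 3333 = true := by decide +kernel
theorem c_act11_5 : allRange (fun i => Nat.beq (actR11 i) i) 16665 3333 = true := by decide +kernel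
theorem c_act11_6 : allRange (fun i => Nat.beq (actR11 i) i) 19998 3333 = true := by decide +kernel
theorem c_act11_7 : allRange (fun i => Nat.beq (actR11 i) i) 23331 3333 = true := by decide +kernel
theorem c_act11_8 : allRange (fun i => Nat.beq (actR11 i) i) 26664 3333 = true := by decide +kernel
theorem c_act11_9 : allRange (fun i => Nat.beq (actR11 i) i) 29997 3333 = true := by decide +kernel
theorem c_act11_10 : allRange (fun i => Nat.beq (actR11 i) i) 33330 3333 = true := by decide +kernel
theorem c_act11_11 : allRange (fun i => Nat.beq (actR11 i) i) 36663 3333 = true := by decide +kernel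
theorem c_act11_12 : allRange (fun i => Nat.beq (actR11 i) i) 39996 3333 = true := by decide +kernel
theorem c_act11_13 : allRange (fun i => Nat.beq (actR11 i) i) 43329 3333 = true := by decide +kernel
theorem c_act11_14 : allRange (fun i => Nat.beq (actR11 i) i) 46662 3333 = true := by decide +kernel
theorem c_act11_15 : allRange (fun i => Nat.beq (actR11 i) i) 49995 3333 = true := by decide +kernel
theorem c_act11_16 : allRange (fun i => Nat.beq (actR11 i) i) 53328 3333 = true := by decide +kernel
theorem c_act11_17 : allRange (fun i => Nat.beq (actR11 i) i) 56661 3333 = true := by decide +kernel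
theorem c_act11_18 : allRange (fun i => Nat.beq (actR11 i) i) 59994 3333 = true := by decide +kernel
theorem c_act11_19 : allRange (fun i => Nat.beq (actR11 i) i) 63327 3333 = true := by decide +kernel
theorem c_act11_20 : allRange (fun i => Nat.beq (actR11 i) i) 66660 165 = true := by decide +kernel
theorem c_act12_0 : allRange (fun i => Nat.beq (actR12 i) i) 0 3000 = true := by decide +kernel
theorem c_act12_1 : allRange (fun i => Nat.beq (actR12 i) i) 3000 3000 = true := by decide +kernel
theorem c_act12_2 : allRange (fun i => Nat.beq (actR12 i) i) 6000 3000 = true := by decide +kernel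
theorem c_act12_3 : allRange (fun i => Nat.beq (actR12 i) i) 9000 3000 = true := by decide +kernel
theorem c_act12_4 : allRange (fun i => Nat.beq (actR12 i) i) 12000 3000 = true := by decide +kernel
theorem c_act12_5 : allRange (fun i => Nat.beq (actR12 i) i) 15000 3000 = true := by decide +kernel
theorem c_act12_6 : allRange (fun i => Nat.beq (actR12 i) i) 18000 3000 = true := by decide +kernel
theorem c_act12_7 : allRange (fun i => Nat.beq (actR12 i) i) 21000 3000 = true := by decide +kernel
theorem c_act12_8 : allRange (fun i => Nat.beq (actR12 i) i) 24000 3000 = true := by decide +kernel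
theorem c_act12_9 : allRange (fun i => Nat.beq (actR12 i) i) 27000 3000 = true := by decide +kernel
theorem c_act12_10 : allRange (fun i => Nat.beq (actR12 i) i) 30000 3000 = true := by decide +kernel
theorem c_act12_11 : allRange (fun i => Nat.beq (actR12 i) i) 33000 3000 = true := by decide +kernel
theorem c_act12_12 : allRange (fun i => Nat.beq (actR12 i) i) 36000 3000 = true := by decide +kernel
theorem c_act12_13 : allRange (fun i => Nat.beq (actR12 i) i) 39000 3000 = true := by decide +kernel
theorem c_act12_14 : allRange (fun i => Nat.beq (actR12 i) i) 42000 3000 = true := by decide +kernel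
theorem c_act12_15 : allRange (fun i => Nat.beq (actR12 i) i) 45000 3000 = true := by decide +kernel
theorem c_act12_16 : allRange (fun i => Nat.beq (actR12 i) i) 48000 3000 = true := by decide +kernel
theorem c_act12_17 : allRange (fun i => Nat.beq (actR12 i) i) 51000 3000 = true := by decide +kernel
theorem c_act12_18 : allRange (fun i => Nat.beq (actR12 i) i) 54000 3000 = true := by decide +kernel
theorem c_act12_19 : allRange (fun i => Nat.beq (actR12 i) i) 57000 3000 = true := by decide +kernel

end Cfsg.Agent.Lib.Helper4.TCD.SC3McLp2A
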