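import Cfsg.Agent.Lib.Helper4.TCD_SC3McLp2A_Acc

namespace Cfsg.Agent.Lib.Helper4.TCD.SC3McLp2A

open Cfsg.Agent.Lib.Helper4.TC

set_option maxRecDepth 100000
set_option Elab.async false

theorem c_act28_2 : allRange (fun i => Nat.beq (actR28 i) i) 60000 6825 = true := by decide +kernel
theorem c_act29_0 : allRange (fun i => Nat.beq (actR29 i) i) 0 30000 = true := by decide +kernel
theorem c_act29_1 : allRange (fun i => Nat.beq (actR29 i) i) 30000 30000 = true := by decide +kernel
theorem c_act29_2 : allRange (fun i => Nat.beq (actR29 i) i) 60000 6825 = true := by decide +kernel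
theorem c_act30_0 : allRange (fun i => Nat.beq (actR30 i) i) 0 15000 = true := by decide +kernel
theorem c_act30_1 : allRange (fun i => Nat.beq (actR30 i) i) 15000 15000 = true := by decide +kernel
theorem c_act30_2 : allRange (fun i => Nat.beq (actR30 i) i) 30000 15000 = true := by decide +kernel
theorem c_act30_3 : allRange (fun i => Nat.beq (actR30 i) i) 45000 15000 = true := by decide +kernel
theorem c_act30_4 : allRange (fun i => Nat.beq (actR30 i) i) 60000 6825 = true := by decide +kernel
theorem c_act31_0 : allRange (fun i => Nat.beq (actR31 i) i) 0 15000 = true := by decide +kernel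
theorem c_act31_1 : allRange (fun i => Nat.beq (actR31 i) i) 15000 15000 = true := by decide +kernel
theorem c_act31_2 : allRange (fun i => Nat.beq (actR31 i) i) 30000 15000 = true := by decide +kernel
theorem c_act31_3 : allRange (fun i => Nat.beq (actR31 i) i) 45000 15000 = true := by decide +kernel
theorem c_act31_4 : allRange (fun i => Nat.beq (actR31 i) i) 60000 6825 = true := by decide +kernel
theorem c_act32_0 : allRange (fun i => Nat.beq (actR32 i) i) 0 15000 = true := by decide +kernel
theorem c_act32_1 : allRange (fun i => Nat.beq (actR32 i) i) 15000 15000 = true := by decide +kernel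
theorem c_act32_2 : allRange (fun i => Nat.beq (actR32 i) i) 30000 15000 = true := by decide +kernel
theorem c_act32_3 : allRange (fun i => Nat.beq (actR32 i) i) 45000 15000 = true := by decide +kernel
theorem c_act32_4 : allRange (fun i => Nat.beq (actR32 i) i) 60000 6825 = true := by decide +kernel
theorem c_act33_0 : allRange (fun i => Nat.beq (actR33 i) i) 0 15000 = true := by decide +kernel
theorem c_act33_1 : allRange (fun i => Nat.beq (actR33 i) i) 15000 15000 = true := by decide +kernel
theorem c_act33_2 : allRange (fun i => Nat.beq (actR33 i) i) 30000 15000 = true := by decide +kernel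
theorem c_act33_3 : allRange (fun i => Nat.beq (actR33 i) i) 45000 15000 = true := by decide +kernel
theorem c_act33_4 : allRange (fun i => Nat.beq (actR33 i) i) 60000 6825 = true := by decide +kernel
theorem c_act34_0 : allRange (fun i => Nat.beq (actR34 i) i) 0 15000 = true := by decide +kernel
theorem c_act34_1 : allRange (fun i => Nat.beq (actR34 i) i) 15000 15000 = true := by decide +kernel
theorem c_act34_2 : allRange (fun i => Nat.beq (actR34 i) i) 30000 15000 = true := by decide +kernel
theorem c_act34_3 : allRange (fun i => Nat.beq (actR34 i) i) 45000 15000 = true := by decide +kernel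
theorem c_act34_4 : allRange (fun i => Nat.beq (actR34 i) i) 60000 6825 = true := by decide +kernel
theorem c_act35_0 : allRange (fun i => Nat.beq (actR35 i) i) 0 15000 = true := by decide +kernel
theorem c_act35_1 : allRange (fun i => Nat.beq (actR35 i) i) 15000 15000 = true := by decide +kernel
theorem c_act35_2 : allRange (fun i => Nat.beq (actR35 i) i) 30000 15000 = true := by decide +kernel
theorem c_act35_3 : allRange (fun i => Nat.beq (actR35 i) i) 45000 15000 = true := by decide +kernel
theorem c_act35_4 : allRange (fun i => Nat.beq (actR35 i) i) 60000 6825 = true := by decide +kernel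
theorem c_act36_0 : allRange (fun i => Nat.beq (actR36 i) i) 0 15000 = true := by decide +kernel
theorem c_act36_1 : allRange (fun i => Nat.beq (actR36 i) i) 15000 15000 = true := by decide +kernel
theorem c_act36_2 : allRange (fun i => Nat.beq (actR36 i) i) 30000 15000 = true := by decide +kernel
theorem c_act36_3 : allRange (fun i => Nat.beq (actR36 i) i) 45000 15000 = true := by decide +kernel
theorem c_act36_4 : allRange (fun i => Nat.beq (actR36 i) i) 60000 6825 = true := by decide +kernel
theorem c_act37_0 : allRange (fun i => Nat.beq (actR37 i) i) 0 15000 = true := by decide +kernel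
theorem c_act37_1 : allRange (fun i => Nat.beq (actR37 i) i) 15000 15000 = true := by decide +kernel
theorem c_act37_2 : allRange (fun i => Nat.beq (actR37 i) i) 30000 15000 = true := by decide +kernel
theorem c_act37_3 : allRange (fun i => Nat.beq (actR37 i) i) 45000 15000 = true := by decide +kernel
theorem c_act37_4 : allRange (fun i => Nat.beq (actR37 i) i) 60000 6825 = true := by decide +kernel
theorem c_act38_0 : allRange (fun i => Nat.beq (actR38 i) i) 0 15000 = true := by decide +kernel
theorem c_act38_1 : allRange (fun i => Nat.beq (actR38 i) i) 15000 15000 = true := by decide +kernel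
theorem c_act38_2 : allRange (fun i => Nat.beq (actR38 i) i) 30000 15000 = true := by decide +kernel
theorem c_act38_3 : allRange (fun i => Nat.beq (actR38 i) i) 45000 15000 = true := by decide +kernel
theorem c_act38_4 : allRange (fun i => Nat.beq (actR38 i) i) 60000 6825 = true := by decide +kernel
theorem c_act39_0 : allRange (fun i => Nat.beq (actR39 i) i) 0 15000 = true := by decide +kernel
theorem c_act39_1 : allRange (fun i => Nat.beq (actR39 i) i) 15000 15000 = true := by decide +kernel
theorem c_act39_2 : allRange (fun i => Nat.beq (actR39 i) i) 30000 15000 = true := by decide +kernel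
theorem c_act39_3 : allRange (fun i => Nat.beq (actR39 i) i) 45000 15000 = true := by decide +kernel
theorem c_act39_4 : allRange (fun i => Nat.beq (actR39 i) i) 60000 6825 = true := by decide +kernel
theorem c_act40_0 : allRange (fun i => Nat.beq (actR40 i) i) 0 15000 = true := by decide +kernel
theorem c_act40_1 : allRange (fun i => Nat.beq (actR40 i) i) 15000 15000 = true := by decide +kernel

end Cfsg.Agent.Lib.Helper4.TCD.SC3McLp2A
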