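import Cfsg.Agent.Lib.Helper4.TCD_SC3McLp2A_Acc

namespace Cfsg.Agent.Lib.Helper4.TCD.SC3McLp2A

open Cfsg.Agent.Lib.Helper4.TC

set_option maxRecDepth 100000
set_option Elab.async false

theorem c_act40_2 : allRange (fun i => Nat.beq (actR40 i) i) 30000 15000 = true := by decide +kernel
theorem c_act40_3 : allRange (fun i => Nat.beq (actR40 i) i) 45000 15000 = true := by decide +kernel
theorem c_act40_4 : allRange (fun i => Nat.beq (actR40 i) i) 60000 6825 = true := by decide +kernel
theorem c_act41_0 : allRange (fun i => Nat.beq (actR41 i) i) 0 15000 = true := by decide +kernel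
theorem c_act41_1 : allRange (fun i => Nat.beq (actR41 i) i) 15000 15000 = true := by decide +kernel
theorem c_act41_2 : allRange (fun i => Nat.beq (actR41 i) i) 30000 15000 = true := by decide +kernel
theorem c_act41_3 : allRange (fun i => Nat.beq (actR41 i) i) 45000 15000 = true := by decide +kernel
theorem c_act41_4 : allRange (fun i => Nat.beq (actR41 i) i) 60000 6825 = true := by decide +kernel
theorem c_act42_0 : allRange (fun i => Nat.beq (actR42 i) i) 0 15000 = true := by decide +kernel
theorem c_act42_1 : allRange (fun i => Nat.beq (actR42 i) i) 15000 15000 = true := by decide +kernel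
theorem c_act42_2 : allRange (fun i => Nat.beq (actR42 i) i) 30000 15000 = true := by decide +kernel
theorem c_act42_3 : allRange (fun i => Nat.beq (actR42 i) i) 45000 15000 = true := by decide +kernel
theorem c_act42_4 : allRange (fun i => Nat.beq (actR42 i) i) 60000 6825 = true := by decide +kernel
theorem c_act43_0 : allRange (fun i => Nat.beq (actR43 i) i) 0 15000 = true := by decide +kernel
theorem c_act43_1 : allRange (fun i => Nat.beq (actR43 i) i) 15000 15000 = true := by decide +kernel
theorem c_act43_2 : allRange (fun i => Nat.beq (actR43 i) i) 30000 15000 = true := by decide +kernel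
theorem c_act43_3 : allRange (fun i => Nat.beq (actR43 i) i) 45000 15000 = true := by decide +kernel
theorem c_act43_4 : allRange (fun i => Nat.beq (actR43 i) i) 60000 6825 = true := by decide +kernel
theorem c_act44_0 : allRange (fun i => Nat.beq (actR44 i) i) 0 15000 = true := by decide +kernel
theorem c_act44_1 : allRange (fun i => Nat.beq (actR44 i) i) 15000 15000 = true := by decide +kernel
theorem c_act44_2 : allRange (fun i => Nat.beq (actR44 i) i) 30000 15000 = true := by decide +kernel
theorem c_act44_3 : allRange (fun i => Nat.beq (actR44 i) i) 45000 15000 = true := by decide +kernel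
theorem c_act44_4 : allRange (fun i => Nat.beq (actR44 i) i) 60000 6825 = true := by decide +kernel
theorem c_act45_0 : allRange (fun i => Nat.beq (actR45 i) i) 0 15000 = true := by decide +kernel
theorem c_act45_1 : allRange (fun i => Nat.beq (actR45 i) i) 15000 15000 = true := by decide +kernel
theorem c_act45_2 : allRange (fun i => Nat.beq (actR45 i) i) 30000 15000 = true := by decide +kernel
theorem c_act45_3 : allRange (fun i => Nat.beq (actR45 i) i) 45000 15000 = true := by decide +kernel
theorem c_act45_4 : allRange (fun i => Nat.beq (actR45 i) i) 60000 6825 = true := by decide +kernel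
theorem c_act46_0 : allRange (fun i => Nat.beq (actR46 i) i) 0 15000 = true := by decide +kernel
theorem c_act46_1 : allRange (fun i => Nat.beq (actR46 i) i) 15000 15000 = true := by decide +kernel
theorem c_act46_2 : allRange (fun i => Nat.beq (actR46 i) i) 30000 15000 = true := by decide +kernel
theorem c_act46_3 : allRange (fun i => Nat.beq (actR46 i) i) 45000 15000 = true := by decide +kernel
theorem c_act46_4 : allRange (fun i => Nat.beq (actR46 i) i) 60000 6825 = true := by decide +kernel
theorem c_act47_0 : allRange (fun i => Nat.beq (actR47 i) i) 0 15000 = true := by decide +kernel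
theorem c_act47_1 : allRange (fun i => Nat.beq (actR47 i) i) 15000 15000 = true := by decide +kernel
theorem c_act47_2 : allRange (fun i => Nat.beq (actR47 i) i) 30000 15000 = true := by decide +kernel
theorem c_act47_3 : allRange (fun i => Nat.beq (actR47 i) i) 45000 15000 = true := by decide +kernel
theorem c_act47_4 : allRange (fun i => Nat.beq (actR47 i) i) 60000 6825 = true := by decide +kernel
theorem c_act48_0 : allRange (fun i => Nat.beq (actR48 i) i) 0 15000 = true := by decide +kernel
theorem c_act48_1 : allRange (fun i => Nat.beq (actR48 i) i) 15000 15000 = true := by decide +kernel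
theorem c_act48_2 : allRange (fun i => Nat.beq (actR48 i) i) 30000 15000 = true := by decide +kernel
theorem c_act48_3 : allRange (fun i => Nat.beq (actR48 i) i) 45000 15000 = true := by decide +kernel
theorem c_act48_4 : allRange (fun i => Nat.beq (actR48 i) i) 60000 6825 = true := by decide +kernel
theorem c_act49_0 : allRange (fun i => Nat.beq (actR49 i) i) 0 15000 = true := by decide +kernel
theorem c_act49_1 : allRange (fun i => Nat.beq (actR49 i) i) 15000 15000 = true := by decide +kernel
theorem c_act49_2 : allRange (fun i => Nat.beq (actR49 i) i) 30000 15000 = true := by decide +kernel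
theorem c_act49_3 : allRange (fun i => Nat.beq (actR49 i) i) 45000 15000 = true := by decide +kernel
theorem c_act49_4 : allRange (fun i => Nat.beq (actR49 i) i) 60000 6825 = true := by decide +kernel
theorem c_act50_0 : allRange (fun i => Nat.beq (actR50 i) i) 0 15000 = true := by decide +kernel
theorem c_act50_1 : allRange (fun i => Nat.beq (actR50 i) i) 15000 15000 = true := by decide +kernel
theorem c_act50_2 : allRange (fun i => Nat.beq (actR50 i) i) 30000 15000 = true := by decide +kernel
theorem c_act50_3 : allRange (fun i => Nat.beq (actR50 i) i) 45000 15000 = true := by decide +kernel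
theorem c_act50_4 : allRange (fun i => Nat.beq (actR50 i) i) 60000 6825 = true := by decide +kernel
theorem c_act51_0 : allRange (fun i => Nat.beq (actR51 i) i) 0 15000 = true := by decide +kernel
theorem c_act51_1 : allRange (fun i => Nat.beq (actR51 i) i) 15000 15000 = true := by decide +kernel

end Cfsg.Agent.Lib.Helper4.TCD.SC3McLp2A
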