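import Cfsg.Agent.Lib.Helper4.TCD_SC3McLp2A_Acc

namespace Cfsg.Agent.Lib.Helper4.TCD.SC3McLp2A

open Cfsg.Agent.Lib.Helper4.TC

set_option maxRecDepth 100000
set_option Elab.async false

theorem c_act62_2 : allRange (fun i => Nat.beq (actR62 i) i) 30000 15000 = true := by decide +kernel
theorem c_act62_3 : allRange (fun i => Nat.beq (actR62 i) i) 45000 15000 = true := by decide +kernel
theorem c_act62_4 : allRange (fun i => Nat.beq (actR62 i) i) 60000 6825 = true := by decide +kernel
theorem c_act63_0 : allRange (fun i => Nat.beq (actR63 i) i) 0 15000 = true := by decide +kernel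
theorem c_act63_1 : allRange (fun i => Nat.beq (actR63 i) i) 15000 15000 = true := by decide +kernel
theorem c_act63_2 : allRange (fun i => Nat.beq (actR63 i) i) 30000 15000 = true := by decide +kernel
theorem c_act63_3 : allRange (fun i => Nat.beq (actR63 i) i) 45000 15000 = true := by decide +kernel
theorem c_act63_4 : allRange (fun i => Nat.beq (actR63 i) i) 60000 6825 = true := by decide +kernel
theorem c_act64_0 : allRange (fun i => Nat.beq (actR64 i) i) 0 15000 = true := by decide +kernel
theorem c_act64_1 : allRange (fun i => Nat.beq (actR64 i) i) 15000 15000 = true := by decide +kernel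
theorem c_act64_2 : allRange (fun i => Nat.beq (actR64 i) i) 30000 15000 = true := by decide +kernel
theorem c_act64_3 : allRange (fun i => Nat.beq (actR64 i) i) 45000 15000 = true := by decide +kernel
theorem c_act64_4 : allRange (fun i => Nat.beq (actR64 i) i) 60000 6825 = true := by decide +kernel
theorem c_act65_0 : allRange (fun i => Nat.beq (actR65 i) i) 0 15000 = true := by decide +kernel
theorem c_act65_1 : allRange (fun i => Nat.beq (actR65 i) i) 15000 15000 = true := by decide +kernel
theorem c_act65_2 : allRange (fun i => Nat.beq (actR65 i) i) 30000 15000 = true := by decide +kernel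
theorem c_act65_3 : allRange (fun i => Nat.beq (actR65 i) i) 45000 15000 = true := by decide +kernel
theorem c_act65_4 : allRange (fun i => Nat.beq (actR65 i) i) 60000 6825 = true := by decide +kernel
theorem c_act66_0 : allRange (fun i => Nat.beq (actR66 i) i) 0 15000 = true := by decide +kernel
theorem c_act66_1 : allRange (fun i => Nat.beq (actR66 i) i) 15000 15000 = true := by decide +kernel
theorem c_act66_2 : allRange (fun i => Nat.beq (actR66 i) i) 30000 15000 = true := by decide +kernel
theorem c_act66_3 : allRange (fun i => Nat.beq (actR66 i) i) 45000 15000 = true := by decide +kernel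
theorem c_act66_4 : allRange (fun i => Nat.beq (actR66 i) i) 60000 6825 = true := by decide +kernel
theorem c_act67_0 : allRange (fun i => Nat.beq (actR67 i) i) 0 15000 = true := by decide +kernel
theorem c_act67_1 : allRange (fun i => Nat.beq (actR67 i) i) 15000 15000 = true := by decide +kernel
theorem c_act67_2 : allRange (fun i => Nat.beq (actR67 i) i) 30000 15000 = true := by decide +kernel
theorem c_act67_3 : allRange (fun i => Nat.beq (actR67 i) i) 45000 15000 = true := by decide +kernel
theorem c_act67_4 : allRange (fun i => Nat.beq (actR67 i) i) 60000 6825 = true := by decide +kernel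
theorem c_act68_0 : allRange (fun i => Nat.beq (actR68 i) i) 0 15000 = true := by decide +kernel
theorem c_act68_1 : allRange (fun i => Nat.beq (actR68 i) i) 15000 15000 = true := by decide +kernel
theorem c_act68_2 : allRange (fun i => Nat.beq (actR68 i) i) 30000 15000 = true := by decide +kernel
theorem c_act68_3 : allRange (fun i => Nat.beq (actR68 i) i) 45000 15000 = true := by decide +kernel
theorem c_act68_4 : allRange (fun i => Nat.beq (actR68 i) i) 60000 6825 = true := by decide +kernel
theorem c_act69_0 : allRange (fun i => Nat.beq (actR69 i) i) 0 15000 = true := by decide +kernel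
theorem c_act69_1 : allRange (fun i => Nat.beq (actR69 i) i) 15000 15000 = true := by decide +kernel
theorem c_act69_2 : allRange (fun i => Nat.beq (actR69 i) i) 30000 15000 = true := by decide +kernel
theorem c_act69_3 : allRange (fun i => Nat.beq (actR69 i) i) 45000 15000 = true := by decide +kernel
theorem c_act69_4 : allRange (fun i => Nat.beq (actR69 i) i) 60000 6825 = true := by decide +kernel
theorem c_act70_0 : allRange (fun i => Nat.beq (actR70 i) i) 0 15000 = true := by decide +kernel
theorem c_act70_1 : allRange (fun i => Nat.beq (actR70 i) i) 15000 15000 = true := by decide +kernel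
theorem c_act70_2 : allRange (fun i => Nat.beq (actR70 i) i) 30000 15000 = true := by decide +kernel
theorem c_act70_3 : allRange (fun i => Nat.beq (actR70 i) i) 45000 15000 = true := by decide +kernel
theorem c_act70_4 : allRange (fun i => Nat.beq (actR70 i) i) 60000 6825 = true := by decide +kernel
theorem c_act71_0 : allRange (fun i => Nat.beq (actR71 i) i) 0 15000 = true := by decide +kernel
theorem c_act71_1 : allRange (fun i => Nat.beq (actR71 i) i) 15000 15000 = true := by decide +kernel
theorem c_act71_2 : allRange (fun i => Nat.beq (actR71 i) i) 30000 15000 = true := by decide +kernel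
theorem c_act71_3 : allRange (fun i => Nat.beq (actR71 i) i) 45000 15000 = true := by decide +kernel
theorem c_act71_4 : allRange (fun i => Nat.beq (actR71 i) i) 60000 6825 = true := by decide +kernel
theorem c_act72_0 : allRange (fun i => Nat.beq (actR72 i) i) 0 15000 = true := by decide +kernel
theorem c_act72_1 : allRange (fun i => Nat.beq (actR72 i) i) 15000 15000 = true := by decide +kernel
theorem c_act72_2 : allRange (fun i => Nat.beq (actR72 i) i) 30000 15000 = true := by decide +kernel
theorem c_act72_3 : allRange (fun i => Nat.beq (actR72 i) i) 45000 15000 = true := by decide +kernel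
theorem c_act72_4 : allRange (fun i => Nat.beq (actR72 i) i) 60000 6825 = true := by decide +kernel
theorem c_act73_0 : allRange (fun i => Nat.beq (actR73 i) i) 0 15000 = true := by decide +kernel
theorem c_act73_1 : allRange (fun i => Nat.beq (actR73 i) i) 15000 15000 = true := by decide +kernel

end Cfsg.Agent.Lib.Helper4.TCD.SC3McLp2A
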