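import Cfsg.Agent.Lib.Helper4.TCD_SC3McLp2A_Acc

namespace Cfsg.Agent.Lib.Helper4.TCD.SC3McLp2A

open Cfsg.Agent.Lib.Helper4.TC

set_option maxRecDepth 100000
set_option Elab.async false

theorem c_rel_174 : allRange D.relOK 702731 2547 = true := by decide +kernel
theorem c_rel_175 : allRange D.relOK 705278 3314 = true := by decide +kernel
theorem c_rel_176 : allRange D.relOK 708592 3139 = true := by decide +kernel
theorem c_rel_177 : allRange D.relOK 711731 3352 = true := by decide +kernel
theorem c_rel_178 : allRange D.relOK 715083 3620 = true := by decide +kernel
theorem c_rel_179 : allRange D.relOK 718703 3394 = true := by decide +kernel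
theorem c_rel_180 : allRange D.relOK 722097 3071 = true := by decide +kernel
theorem c_rel_181 : allRange D.relOK 725168 3479 = true := by decide +kernel
theorem c_rel_182 : allRange D.relOK 728647 3275 = true := by decide +kernel
theorem c_rel_183 : allRange D.relOK 731922 3189 = true := by decide +kernel
theorem c_rel_184 : allRange D.relOK 735111 3192 = true := by decide +kernel
theorem c_rel_185 : allRange D.relOK 738303 3037 = true := by decide +kernel
theorem c_rel_186 : allRange D.relOK 741340 2954 = true := by decide +kernel
theorem c_rel_187 : allRange D.relOK 744294 3028 = true := by decide +kernel
theorem c_rel_188 : allRange D.relOK 747322 3260 = true := by decide +kernel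
theorem c_rel_189 : allRange D.relOK 750582 2831 = true := by decide +kernel
theorem c_rel_190 : allRange D.relOK 753413 3340 = true := by decide +kernel
theorem c_rel_191 : allRange D.relOK 756753 3125 = true := by decide +kernel
theorem c_rel_192 : allRange D.relOK 759878 3151 = true := by decide +kernel
theorem c_rel_193 : allRange D.relOK 763029 3167 = true := by decide +kernel
theorem c_rel_194 : allRange D.relOK 766196 2940 = true := by decide +kernel
theorem c_rel_195 : allRange D.relOK 769136 3192 = true := by decide +kernel
theorem c_rel_196 : allRange D.relOK 772328 3063 = true := by decide +kernel
theorem c_rel_197 : allRange D.relOK 775391 2958 = true := by decide +kernel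
theorem c_rel_198 : allRange D.relOK 778349 2691 = true := by decide +kernel
theorem c_rel_199 : allRange D.relOK 781040 2811 = true := by decide +kernel
theorem c_rel_200 : allRange D.relOK 783851 2838 = true := by decide +kernel
theorem c_rel_201 : allRange D.relOK 786689 3022 = true := by decide +kernel
theorem c_rel_202 : allRange D.relOK 789711 3394 = true := by decide +kernel
theorem c_rel_203 : allRange D.relOK 793105 3614 = true := by decide +kernel
theorem c_rel_204 : allRange D.relOK 796719 3537 = true := by decide +kernel
theorem c_rel_205 : allRange D.relOK 800256 1672 = true := by decide +kernel
theorem c_rel_206 : allRange D.relOK 801928 1762 = true := by decide +kernel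
theorem c_rel_207 : allRange D.relOK 803690 1490 = true := by decide +kernel
theorem c_rel_208 : allRange D.relOK 805180 1429 = true := by decide +kernel
theorem c_rel_209 : allRange D.relOK 806609 1353 = true := by decide +kernel
theorem c_rel_210 : allRange D.relOK 807962 1385 = true := by decide +kernel
theorem c_rel_211 : allRange D.relOK 809347 2352 = true := by decide +kernel
theorem c_rel_212 : allRange D.relOK 811699 2635 = true := by decide +kernel
theorem c_rel_213 : allRange D.relOK 814334 2486 = true := by decide +kernel
theorem c_rel_214 : allRange D.relOK 816820 2630 = true := by decide +kernel
theorem c_rel_215 : allRange D.relOK 819450 2659 = true := by decide +kernel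
theorem c_rel_216 : allRange D.relOK 822109 2452 = true := by decide +kernel
theorem c_rel_217 : allRange D.relOK 824561 2464 = true := by decide +kernel
theorem c_rel_218 : allRange D.relOK 827025 2456 = true := by decide +kernel
theorem c_rel_219 : allRange D.relOK 829481 2676 = true := by decide +kernel
theorem c_rel_220 : allRange D.relOK 832157 3071 = true := by decide +kernel
theorem c_rel_221 : allRange D.relOK 835228 3274 = true := by decide +kernel
theorem c_rel_222 : allRange D.relOK 838502 2705 = true := by decide +kernel
theorem c_rel_223 : allRange D.relOK 841207 2478 = true := by decide +kernel
theorem c_rel_224 : allRange D.relOK 843685 2510 = true := by decide +kernel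
theorem c_rel_225 : allRange D.relOK 846195 2445 = true := by decide +kernel
theorem c_rel_226 : allRange D.relOK 848640 2362 = true := by decide +kernel
theorem c_rel_227 : allRange D.relOK 851002 2508 = true := by decide +kernel
theorem c_rel_228 : allRange D.relOK 853510 2587 = true := by decide +kernel
theorem c_rel_229 : allRange D.relOK 856097 2607 = true := by decide +kernel
theorem c_rel_230 : allRange D.relOK 858704 2305 = true := by decide +kernel
theorem c_rel_231 : allRange D.relOK 861009 3082 = true := by decide +kernel
theorem c_rel_232 : allRange D.relOK 864091 2627 = true := by decide +kernel
theorem c_rel_233 : allRange D.relOK 866718 2407 = true := by decide +kernel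
theorem c_rel_234 : allRange D.relOK 869125 2619 = true := by decide +kernel
theorem c_rel_235 : allRange D.relOK 871744 2356 = true := by decide +kernel
theorem c_rel_236 : allRange D.relOK 874100 2367 = true := by decide +kernel
theorem c_rel_237 : allRange D.relOK 876467 2331 = true := by decide +kernel
theorem c_rel_238 : allRange D.relOK 878798 2703 = true := by decide +kernel
theorem c_rel_239 : allRange D.relOK 881501 2241 = true := by decide +kernel
theorem c_rel_240 : allRange D.relOK 883742 2221 = true := by decide +kernel
theorem c_rel_241 : allRange D.relOK 885963 2420 = true := by decide +kernel
theorem c_rel_242 : allRange D.relOK 888383 2484 = true := by decide +kernel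
theorem c_rel_243 : allRange D.relOK 890867 2492 = true := by decide +kernel
theorem c_rel_244 : allRange D.relOK 893359 2339 = true := by decide +kernel
theorem c_rel_245 : allRange D.relOK 895698 2682 = true := by decide +kernel
theorem c_rel_246 : allRange D.relOK 898380 2487 = true := by decide +kernel
theorem c_rel_247 : allRange D.relOK 900867 2408 = true := by decide +kernel
theorem c_rel_248 : allRange D.relOK 903275 2583 = true := by decide +kernel
theorem c_rel_249 : allRange D.relOK 905858 2562 = true := by decide +kernel
theorem c_rel_250 : allRange D.relOK 908420 2446 = true := by decide +kernel
theorem c_rel_251 : allRange D.relOK 910866 2435 = true := by decide +kernel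
theorem c_rel_252 : allRange D.relOK 913301 2650 = true := by decide +kernel
theorem c_rel_253 : allRange D.relOK 915951 2578 = true := by decide +kernel
theorem c_rel_254 : allRange D.relOK 918529 2286 = true := by decide +kernel
theorem c_rel_255 : allRange D.relOK 920815 2387 = true := by decide +kernel
theorem c_rel_256 : allRange D.relOK 923202 2498 = true := by decide +kernel
theorem c_rel_257 : allRange D.relOK 925700 2799 = true := by decide +kernel
theorem c_rel_258 : allRange D.relOK 928499 2642 = true := by decide +kernel
theorem c_rel_259 : allRange D.relOK 931141 2567 = true := by decide +kernel
theorem c_rel_260 : allRange D.relOK 933708 2474 = true := by decide +kernel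
theorem c_rel_261 : allRange D.relOK 936182 2840 = true := by decide +kernel
theorem c_rel_262 : allRange D.relOK 939022 2596 = true := by decide +kernel
theorem c_rel_263 : allRange D.relOK 941618 2928 = true := by decide +kernel
theorem c_rel_264 : allRange D.relOK 944546 2623 = true := by decide +kernel
theorem c_rel_265 : allRange D.relOK 947169 2355 = true := by decide +kernel
theorem c_rel_266 : allRange D.relOK 949524 2548 = true := by decide +kernel
theorem c_rel_267 : allRange D.relOK 952072 2706 = true := by decide +kernel
theorem c_rel_268 : allRange D.relOK 954778 2506 = true := by decide +kernel
theorem c_rel_269 : allRange D.relOK 957284 2489 = true := by decide +kernel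
theorem c_rel_270 : allRange D.relOK 959773 2809 = true := by decide +kernel
theorem c_rel_271 : allRange D.relOK 962582 2770 = true := by decide +kernel
theorem c_rel_272 : allRange D.relOK 965352 2749 = true := by decide +kernel

end Cfsg.Agent.Lib.Helper4.TCD.SC3McLp2A
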