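import Cfsg.Agent.Lib.Helper4.TCD_SC3McLp2A_Acc

namespace Cfsg.Agent.Lib.Helper4.TCD.SC3McLp2A

open Cfsg.Agent.Lib.Helper4.TC

set_option maxRecDepth 100000
set_option Elab.async false

theorem c_act73_2 : allRange (fun i => Nat.beq (actR73 i) i) 30000 15000 = true := by decide +kernel
theorem c_act73_3 : allRange (fun i => Nat.beq (actR73 i) i) 45000 15000 = true := by decide +kernel
theorem c_act73_4 : allRange (fun i => Nat.beq (actR73 i) i) 60000 6825 = true := by decide +kernel
theorem c_act74_0 : allRange (fun i => Nat.beq (actR74 i) i) 0 15000 = true := by decide +kernel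
theorem c_act74_1 : allRange (fun i => Nat.beq (actR74 i) i) 15000 15000 = true := by decide +kernel
theorem c_act74_2 : allRange (fun i => Nat.beq (actR74 i) i) 30000 15000 = true := by decide +kernel
theorem c_act74_3 : allRange (fun i => Nat.beq (actR74 i) i) 45000 15000 = true := by decide +kernel
theorem c_act74_4 : allRange (fun i => Nat.beq (actR74 i) i) 60000 6825 = true := by decide +kernel
theorem c_act75_0 : allRange (fun i => Nat.beq (actR75 i) i) 0 15000 = true := by decide +kernel
theorem c_act75_1 : allRange (fun i => Nat.beq (actR75 i) i) 15000 15000 = true := by decide +kernel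
theorem c_act75_2 : allRange (fun i => Nat.beq (actR75 i) i) 30000 15000 = true := by decide +kernel
theorem c_act75_3 : allRange (fun i => Nat.beq (actR75 i) i) 45000 15000 = true := by decide +kernel
theorem c_act75_4 : allRange (fun i => Nat.beq (actR75 i) i) 60000 6825 = true := by decide +kernel
theorem c_act76_0 : allRange (fun i => Nat.beq (actR76 i) i) 0 15000 = true := by decide +kernel
theorem c_act76_1 : allRange (fun i => Nat.beq (actR76 i) i) 15000 15000 = true := by decide +kernel
theorem c_act76_2 : allRange (fun i => Nat.beq (actR76 i) i) 30000 15000 = true := by decide +kernel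
theorem c_act76_3 : allRange (fun i => Nat.beq (actR76 i) i) 45000 15000 = true := by decide +kernel
theorem c_act76_4 : allRange (fun i => Nat.beq (actR76 i) i) 60000 6825 = true := by decide +kernel
theorem c_act77_0 : allRange (fun i => Nat.beq (actR77 i) i) 0 15000 = true := by decide +kernel
theorem c_act77_1 : allRange (fun i => Nat.beq (actR77 i) i) 15000 15000 = true := by decide +kernel
theorem c_act77_2 : allRange (fun i => Nat.beq (actR77 i) i) 30000 15000 = true := by decide +kernel
theorem c_act77_3 : allRange (fun i => Nat.beq (actR77 i) i) 45000 15000 = true := by decide +kernel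
theorem c_act77_4 : allRange (fun i => Nat.beq (actR77 i) i) 60000 6825 = true := by decide +kernel
theorem c_act78_0 : allRange (fun i => Nat.beq (actR78 i) i) 0 15000 = true := by decide +kernel
theorem c_act78_1 : allRange (fun i => Nat.beq (actR78 i) i) 15000 15000 = true := by decide +kernel
theorem c_act78_2 : allRange (fun i => Nat.beq (actR78 i) i) 30000 15000 = true := by decide +kernel
theorem c_act78_3 : allRange (fun i => Nat.beq (actR78 i) i) 45000 15000 = true := by decide +kernel
theorem c_act78_4 : allRange (fun i => Nat.beq (actR78 i) i) 60000 6825 = true := by decide +kernel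
theorem c_act79_0 : allRange (fun i => Nat.beq (actR79 i) i) 0 15000 = true := by decide +kernel
theorem c_act79_1 : allRange (fun i => Nat.beq (actR79 i) i) 15000 15000 = true := by decide +kernel
theorem c_act79_2 : allRange (fun i => Nat.beq (actR79 i) i) 30000 15000 = true := by decide +kernel
theorem c_act79_3 : allRange (fun i => Nat.beq (actR79 i) i) 45000 15000 = true := by decide +kernel
theorem c_act79_4 : allRange (fun i => Nat.beq (actR79 i) i) 60000 6825 = true := by decide +kernel
theorem c_act80_0 : allRange (fun i => Nat.beq (actR80 i) i) 0 15000 = true := by decide +kernel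
theorem c_act80_1 : allRange (fun i => Nat.beq (actR80 i) i) 15000 15000 = true := by decide +kernel
theorem c_act80_2 : allRange (fun i => Nat.beq (actR80 i) i) 30000 15000 = true := by decide +kernel
theorem c_act80_3 : allRange (fun i => Nat.beq (actR80 i) i) 45000 15000 = true := by decide +kernel
theorem c_act80_4 : allRange (fun i => Nat.beq (actR80 i) i) 60000 6825 = true := by decide +kernel
theorem c_act81_0 : allRange (fun i => Nat.beq (actR81 i) i) 0 15000 = true := by decide +kernel
theorem c_act81_1 : allRange (fun i => Nat.beq (actR81 i) i) 15000 15000 = true := by decide +kernel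
theorem c_act81_2 : allRange (fun i => Nat.beq (actR81 i) i) 30000 15000 = true := by decide +kernel
theorem c_act81_3 : allRange (fun i => Nat.beq (actR81 i) i) 45000 15000 = true := by decide +kernel
theorem c_act81_4 : allRange (fun i => Nat.beq (actR81 i) i) 60000 6825 = true := by decide +kernel
theorem c_act82_0 : allRange (fun i => Nat.beq (actR82 i) i) 0 8571 = true := by decide +kernel
theorem c_act82_1 : allRange (fun i => Nat.beq (actR82 i) i) 8571 8571 = true := by decide +kernel
theorem c_act82_2 : allRange (fun i => Nat.beq (actR82 i) i) 17142 8571 = true := by decide +kernel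
theorem c_act82_3 : allRange (fun i => Nat.beq (actR82 i) i) 25713 8571 = true := by decide +kernel
theorem c_act82_4 : allRange (fun i => Nat.beq (actR82 i) i) 34284 8571 = true := by decide +kernel
theorem c_act82_5 : allRange (fun i => Nat.beq (actR82 i) i) 42855 8571 = true := by decide +kernel
theorem c_act82_6 : allRange (fun i => Nat.beq (actR82 i) i) 51426 8571 = true := by decide +kernel
theorem c_act82_7 : allRange (fun i => Nat.beq (actR82 i) i) 59997 6828 = true := by decide +kernel
theorem c_act83_0 : allRange (fun i => Nat.beq (actR83 i) i) 0 8571 = true := by decide +kernel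
theorem c_act83_1 : allRange (fun i => Nat.beq (actR83 i) i) 8571 8571 = true := by decide +kernel
theorem c_act83_2 : allRange (fun i => Nat.beq (actR83 i) i) 17142 8571 = true := by decide +kernel
theorem c_act83_3 : allRange (fun i => Nat.beq (actR83 i) i) 25713 8571 = true := by decide +kernel

end Cfsg.Agent.Lib.Helper4.TCD.SC3McLp2A
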