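import Cfsg.Agent.Lib.Helper4.TCD_SC3McLp2A_Acc

namespace Cfsg.Agent.Lib.Helper4.TCD.SC3McLp2A

open Cfsg.Agent.Lib.Helper4.TC

set_option maxRecDepth 100000
set_option Elab.async false

theorem c_act83_4 : allRange (fun i => Nat.beq (actR83 i) i) 34284 8571 = true := by decide +kernel
theorem c_act83_5 : allRange (fun i => Nat.beq (actR83 i) i) 42855 8571 = true := by decide +kernel
theorem c_act83_6 : allRange (fun i => Nat.beq (actR83 i) i) 51426 8571 = true := by decide +kernel
theorem c_act83_7 : allRange (fun i => Nat.beq (actR83 i) i) 59997 6828 = true := by decide +kernel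
theorem c_act84_0 : allRange (fun i => Nat.beq (actR84 i) i) 0 5000 = true := by decide +kernel
theorem c_act84_1 : allRange (fun i => Nat.beq (actR84 i) i) 5000 5000 = true := by decide +kernel
theorem c_act84_2 : allRange (fun i => Nat.beq (actR84 i) i) 10000 5000 = true := by decide +kernel
theorem c_act84_3 : allRange (fun i => Nat.beq (actR84 i) i) 15000 5000 = true := by decide +kernel
theorem c_act84_4 : allRange (fun i => Nat.beq (actR84 i) i) 20000 5000 = true := by decide +kernel
theorem c_act84_5 : allRange (fun i => Nat.beq (actR84 i) i) 25000 5000 = true := by decide +kernel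
theorem c_act84_6 : allRange (fun i => Nat.beq (actR84 i) i) 30000 5000 = true := by decide +kernel
theorem c_act84_7 : allRange (fun i => Nat.beq (actR84 i) i) 35000 5000 = true := by decide +kernel
theorem c_act84_8 : allRange (fun i => Nat.beq (actR84 i) i) 40000 5000 = true := by decide +kernel
theorem c_act84_9 : allRange (fun i => Nat.beq (actR84 i) i) 45000 5000 = true := by decide +kernel
theorem c_act84_10 : allRange (fun i => Nat.beq (actR84 i) i) 50000 5000 = true := by decide +kernel
theorem c_act84_11 : allRange (fun i => Nat.beq (actR84 i) i) 55000 5000 = true := by decide +kernel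
theorem c_act84_12 : allRange (fun i => Nat.beq (actR84 i) i) 60000 5000 = true := by decide +kernel
theorem c_act84_13 : allRange (fun i => Nat.beq (actR84 i) i) 65000 1825 = true := by decide +kernel
theorem c_act85_0 : allRange (fun i => Nat.beq (actR85 i) i) 0 5000 = true := by decide +kernel
theorem c_act85_1 : allRange (fun i => Nat.beq (actR85 i) i) 5000 5000 = true := by decide +kernel
theorem c_act85_2 : allRange (fun i => Nat.beq (actR85 i) i) 10000 5000 = true := by decide +kernel
theorem c_act85_3 : allRange (fun i => Nat.beq (actR85 i) i) 15000 5000 = true := by decide +kernel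
theorem c_act85_4 : allRange (fun i => Nat.beq (actR85 i) i) 20000 5000 = true := by decide +kernel
theorem c_act85_5 : allRange (fun i => Nat.beq (actR85 i) i) 25000 5000 = true := by decide +kernel
theorem c_act85_6 : allRange (fun i => Nat.beq (actR85 i) i) 30000 5000 = true := by decide +kernel
theorem c_act85_7 : allRange (fun i => Nat.beq (actR85 i) i) 35000 5000 = true := by decide +kernel
theorem c_act85_8 : allRange (fun i => Nat.beq (actR85 i) i) 40000 5000 = true := by decide +kernel
theorem c_act85_9 : allRange (fun i => Nat.beq (actR85 i) i) 45000 5000 = true := by decide +kernel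
theorem c_act85_10 : allRange (fun i => Nat.beq (actR85 i) i) 50000 5000 = true := by decide +kernel
theorem c_act85_11 : allRange (fun i => Nat.beq (actR85 i) i) 55000 5000 = true := by decide +kernel
theorem c_act85_12 : allRange (fun i => Nat.beq (actR85 i) i) 60000 5000 = true := by decide +kernel
theorem c_act85_13 : allRange (fun i => Nat.beq (actR85 i) i) 65000 1825 = true := by decide +kernel

end Cfsg.Agent.Lib.Helper4.TCD.SC3McLp2A
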