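import Cfsg.Agent.Lib.Helper4.TCD_SC3McLp2A_Acc

namespace Cfsg.Agent.Lib.Helper4.TCD.SC3McLp2A

open Cfsg.Agent.Lib.Helper4.TC

set_option maxRecDepth 100000
set_option Elab.async false

theorem c_rel_273 : allRange D.relOK 968101 2082 = true := by decide +kernel
theorem c_rel_274 : allRange D.relOK 970183 2501 = true := by decide +kernel
theorem c_rel_275 : allRange D.relOK 972684 2686 = true := by decide +kernel
theorem c_rel_276 : allRange D.relOK 975370 2554 = true := by decide +kernel
theorem c_rel_277 : allRange D.relOK 977924 2792 = true := by decide +kernel
theorem c_rel_278 : allRange D.relOK 980716 2479 = true := by decide +kernel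
theorem c_rel_279 : allRange D.relOK 983195 2414 = true := by decide +kernel
theorem c_rel_280 : allRange D.relOK 985609 2746 = true := by decide +kernel
theorem c_rel_281 : allRange D.relOK 988355 2451 = true := by decide +kernel
theorem c_rel_282 : allRange D.relOK 990806 2683 = true := by decide +kernel
theorem c_rel_283 : allRange D.relOK 993489 2666 = true := by decide +kernel
theorem c_rel_284 : allRange D.relOK 996155 2442 = true := by decide +kernel
theorem c_rel_285 : allRange D.relOK 998597 2687 = true := by decide +kernel
theorem c_rel_286 : allRange D.relOK 1001284 2880 = true := by decide +kernel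
theorem c_rel_287 : allRange D.relOK 1004164 2603 = true := by decide +kernel
theorem c_rel_288 : allRange D.relOK 1006767 2653 = true := by decide +kernel
theorem c_rel_289 : allRange D.relOK 1009420 2700 = true := by decide +kernel
theorem c_rel_290 : allRange D.relOK 1012120 2595 = true := by decide +kernel
theorem c_rel_291 : allRange D.relOK 1014715 2574 = true := by decide +kernel
theorem c_rel_292 : allRange D.relOK 1017289 2706 = true := by decide +kernel
theorem c_rel_293 : allRange D.relOK 1019995 2518 = true := by decide +kernel
theorem c_rel_294 : allRange D.relOK 1022513 2591 = true := by decide +kernel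
theorem c_rel_295 : allRange D.relOK 1025104 2543 = true := by decide +kernel
theorem c_rel_296 : allRange D.relOK 1027647 2565 = true := by decide +kernel
theorem c_rel_297 : allRange D.relOK 1030212 2674 = true := by decide +kernel
theorem c_rel_298 : allRange D.relOK 1032886 2650 = true := by decide +kernel
theorem c_rel_299 : allRange D.relOK 1035536 2635 = true := by decide +kernel
theorem c_rel_300 : allRange D.relOK 1038171 2713 = true := by decide +kernel
theorem c_rel_301 : allRange D.relOK 1040884 2745 = true := by decide +kernel
theorem c_rel_302 : allRange D.relOK 1043629 2605 = true := by decide +kernel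
theorem c_rel_303 : allRange D.relOK 1046234 2611 = true := by decide +kernel
theorem c_rel_304 : allRange D.relOK 1048845 2732 = true := by decide +kernel
theorem c_rel_305 : allRange D.relOK 1051577 2786 = true := by decide +kernel
theorem c_rel_306 : allRange D.relOK 1054363 2661 = true := by decide +kernel
theorem c_rel_307 : allRange D.relOK 1057024 2656 = true := by decide +kernel
theorem c_rel_308 : allRange D.relOK 1059680 2560 = true := by decide +kernel
theorem c_rel_309 : allRange D.relOK 1062240 2525 = true := by decide +kernel
theorem c_rel_310 : allRange D.relOK 1064765 2711 = true := by decide +kernel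
theorem c_rel_311 : allRange D.relOK 1067476 2676 = true := by decide +kernel
theorem c_rel_312 : allRange D.relOK 1070152 2660 = true := by decide +kernel
theorem c_rel_313 : allRange D.relOK 1072812 2603 = true := by decide +kernel
theorem c_rel_314 : allRange D.relOK 1075415 2602 = true := by decide +kernel
theorem c_rel_315 : allRange D.relOK 1078017 2593 = true := by decide +kernel
theorem c_rel_316 : allRange D.relOK 1080610 2617 = true := by decide +kernel
theorem c_rel_317 : allRange D.relOK 1083227 2646 = true := by decide +kernel
theorem c_rel_318 : allRange D.relOK 1085873 2571 = true := by decide +kernel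
theorem c_rel_319 : allRange D.relOK 1088444 2692 = true := by decide +kernel
theorem c_rel_320 : allRange D.relOK 1091136 2670 = true := by decide +kernel
theorem c_rel_321 : allRange D.relOK 1093806 2679 = true := by decide +kernel
theorem c_rel_322 : allRange D.relOK 1096485 2574 = true := by decide +kernel
theorem c_rel_323 : allRange D.relOK 1099059 2652 = true := by decide +kernel
theorem c_rel_324 : allRange D.relOK 1101711 2609 = true := by decide +kernel
theorem c_rel_325 : allRange D.relOK 1104320 2645 = true := by decide +kernel
theorem c_rel_326 : allRange D.relOK 1106965 2511 = true := by decide +kernel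
theorem c_rel_327 : allRange D.relOK 1109476 2495 = true := by decide +kernel
theorem c_rel_328 : allRange D.relOK 1111971 2475 = true := by decide +kernel
theorem c_rel_329 : allRange D.relOK 1114446 2453 = true := by decide +kernel
theorem c_rel_330 : allRange D.relOK 1116899 2460 = true := by decide +kernel
theorem c_rel_331 : allRange D.relOK 1119359 2655 = true := by decide +kernel
theorem c_rel_332 : allRange D.relOK 1122014 2529 = true := by decide +kernel
theorem c_rel_333 : allRange D.relOK 1124543 2724 = true := by decide +kernel
theorem c_rel_334 : allRange D.relOK 1127267 2510 = true := by decide +kernel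
theorem c_rel_335 : allRange D.relOK 1129777 2614 = true := by decide +kernel
theorem c_rel_336 : allRange D.relOK 1132391 2461 = true := by decide +kernel
theorem c_rel_337 : allRange D.relOK 1134852 2517 = true := by decide +kernel
theorem c_rel_338 : allRange D.relOK 1137369 2553 = true := by decide +kernel
theorem c_rel_339 : allRange D.relOK 1139922 2674 = true := by decide +kernel
theorem c_rel_340 : allRange D.relOK 1142596 2517 = true := by decide +kernel
theorem c_rel_341 : allRange D.relOK 1145113 2541 = true := by decide +kernel
theorem c_rel_342 : allRange D.relOK 1147654 2602 = true := by decide +kernel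
theorem c_rel_343 : allRange D.relOK 1150256 2593 = true := by decide +kernel
theorem c_rel_344 : allRange D.relOK 1152849 2722 = true := by decide +kernel
theorem c_rel_345 : allRange D.relOK 1155571 2575 = true := by decide +kernel
theorem c_rel_346 : allRange D.relOK 1158146 2378 = true := by decide +kernel
theorem c_rel_347 : allRange D.relOK 1160524 2633 = true := by decide +kernel
theorem c_rel_348 : allRange D.relOK 1163157 2588 = true := by decide +kernel
theorem c_rel_349 : allRange D.relOK 1165745 2542 = true := by decide +kernel
theorem c_rel_350 : allRange D.relOK 1168287 2485 = true := by decide +kernel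
theorem c_rel_351 : allRange D.relOK 1170772 2467 = true := by decide +kernel
theorem c_rel_352 : allRange D.relOK 1173239 2613 = true := by decide +kernel
theorem c_rel_353 : allRange D.relOK 1175852 2341 = true := by decide +kernel
theorem c_rel_354 : allRange D.relOK 1178193 2427 = true := by decide +kernel
theorem c_rel_355 : allRange D.relOK 1180620 2519 = true := by decide +kernel
theorem c_rel_356 : allRange D.relOK 1183139 2479 = true := by decide +kernel
theorem c_rel_357 : allRange D.relOK 1185618 2671 = true := by decide +kernel
theorem c_rel_358 : allRange D.relOK 1188289 2524 = true := by decide +kernel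
theorem c_rel_359 : allRange D.relOK 1190813 2498 = true := by decide +kernel
theorem c_rel_360 : allRange D.relOK 1193311 2451 = true := by decide +kernel
theorem c_rel_361 : allRange D.relOK 1195762 2412 = true := by decide +kernel
theorem c_rel_362 : allRange D.relOK 1198174 2386 = true := by decide +kernel
theorem c_rel_363 : allRange D.relOK 1200560 2370 = true := by decide +kernel
theorem c_rel_364 : allRange D.relOK 1202930 2352 = true := by decide +kernel
theorem c_rel_365 : allRange D.relOK 1205282 2410 = true := by decide +kernel
theorem c_rel_366 : allRange D.relOK 1207692 2320 = true := by decide +kernel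
theorem c_rel_367 : allRange D.relOK 1210012 2420 = true := by decide +kernel
theorem c_rel_368 : allRange D.relOK 1212432 2372 = true := by decide +kernel
theorem c_rel_369 : allRange D.relOK 1214804 2308 = true := by decide +kernel
theorem c_rel_370 : allRange D.relOK 1217112 2376 = true := by decide +kernel
theorem c_rel_371 : allRange D.relOK 1219488 2367 = true := by decide +kernel

end Cfsg.Agent.Lib.Helper4.TCD.SC3McLp2A
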