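import Cfsg.Agent.Lib.Helper4.TCD_SC3McLp2A_Acc

namespace Cfsg.Agent.Lib.Helper4.TCD.SC3McLp2A

open Cfsg.Agent.Lib.Helper4.TC

set_option maxRecDepth 100000
set_option Elab.async false

theorem c_rel_372 : allRange D.relOK 1221855 2454 = true := by decide +kernel
theorem c_rel_373 : allRange D.relOK 1224309 2388 = true := by decide +kernel
theorem c_rel_374 : allRange D.relOK 1226697 2241 = true := by decide +kernel
theorem c_rel_375 : allRange D.relOK 1228938 2203 = true := by decide +kernel
theorem c_rel_376 : allRange D.relOK 1231141 2361 = true := by decide +kernel
theorem c_rel_377 : allRange D.relOK 1233502 2412 = true := by decide +kernel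
theorem c_rel_378 : allRange D.relOK 1235914 2247 = true := by decide +kernel
theorem c_rel_379 : allRange D.relOK 1238161 2420 = true := by decide +kernel
theorem c_rel_380 : allRange D.relOK 1240581 2293 = true := by decide +kernel
theorem c_rel_381 : allRange D.relOK 1242874 2395 = true := by decide +kernel
theorem c_rel_382 : allRange D.relOK 1245269 2413 = true := by decide +kernel
theorem c_rel_383 : allRange D.relOK 1247682 2251 = true := by decide +kernel
theorem c_rel_384 : allRange D.relOK 1249933 2306 = true := by decide +kernel
theorem c_rel_385 : allRange D.relOK 1252239 2260 = true := by decide +kernel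
theorem c_rel_386 : allRange D.relOK 1254499 2299 = true := by decide +kernel
theorem c_rel_387 : allRange D.relOK 1256798 2297 = true := by decide +kernel
theorem c_rel_388 : allRange D.relOK 1259095 2238 = true := by decide +kernel
theorem c_rel_389 : allRange D.relOK 1261333 2346 = true := by decide +kernel
theorem c_rel_390 : allRange D.relOK 1263679 2193 = true := by decide +kernel
theorem c_rel_391 : allRange D.relOK 1265872 2325 = true := by decide +kernel
theorem c_rel_392 : allRange D.relOK 1268197 2342 = true := by decide +kernel
theorem c_rel_393 : allRange D.relOK 1270539 2192 = true := by decide +kernel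
theorem c_rel_394 : allRange D.relOK 1272731 2197 = true := by decide +kernel
theorem c_rel_395 : allRange D.relOK 1274928 2233 = true := by decide +kernel
theorem c_rel_396 : allRange D.relOK 1277161 2166 = true := by decide +kernel
theorem c_rel_397 : allRange D.relOK 1279327 2225 = true := by decide +kernel
theorem c_rel_398 : allRange D.relOK 1281552 2102 = true := by decide +kernel
theorem c_rel_399 : allRange D.relOK 1283654 2255 = true := by decide +kernel
theorem c_rel_400 : allRange D.relOK 1285909 2390 = true := by decide +kernel
theorem c_rel_401 : allRange D.relOK 1288299 2345 = true := by decide +kernel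
theorem c_rel_402 : allRange D.relOK 1290644 2241 = true := by decide +kernel
theorem c_rel_403 : allRange D.relOK 1292885 2306 = true := by decide +kernel
theorem c_rel_404 : allRange D.relOK 1295191 2323 = true := by decide +kernel
theorem c_rel_405 : allRange D.relOK 1297514 2396 = true := by decide +kernel
theorem c_rel_406 : allRange D.relOK 1299910 2173 = true := by decide +kernel
theorem c_rel_407 : allRange D.relOK 1302083 2267 = true := by decide +kernel
theorem c_rel_408 : allRange D.relOK 1304350 2181 = true := by decide +kernel
theorem c_rel_409 : allRange D.relOK 1306531 2319 = true := by decide +kernel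
theorem c_rel_410 : allRange D.relOK 1308850 2330 = true := by decide +kernel
theorem c_rel_411 : allRange D.relOK 1311180 2224 = true := by decide +kernel
theorem c_rel_412 : allRange D.relOK 1313404 2303 = true := by decide +kernel
theorem c_rel_413 : allRange D.relOK 1315707 2255 = true := by decide +kernel
theorem c_rel_414 : allRange D.relOK 1317962 2219 = true := by decide +kernel
theorem c_rel_415 : allRange D.relOK 1320181 2267 = true := by decide +kernel
theorem c_rel_416 : allRange D.relOK 1322448 2176 = true := by decide +kernel
theorem c_rel_417 : allRange D.relOK 1324624 2192 = true := by decide +kernel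
theorem c_rel_418 : allRange D.relOK 1326816 2317 = true := by decide +kernel
theorem c_rel_419 : allRange D.relOK 1329133 2183 = true := by decide +kernel
theorem c_rel_420 : allRange D.relOK 1331316 2179 = true := by decide +kernel
theorem c_rel_421 : allRange D.relOK 1333495 2255 = true := by decide +kernel
theorem c_rel_422 : allRange D.relOK 1335750 2107 = true := by decide +kernel
theorem c_rel_423 : allRange D.relOK 1337857 2226 = true := by decide +kernel
theorem c_rel_424 : allRange D.relOK 1340083 2174 = true := by decide +kernel
theorem c_rel_425 : allRange D.relOK 1342257 2220 = true := by decide +kernel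
theorem c_rel_426 : allRange D.relOK 1344477 2149 = true := by decide +kernel
theorem c_rel_427 : allRange D.relOK 1346626 2202 = true := by decide +kernel
theorem c_rel_428 : allRange D.relOK 1348828 2154 = true := by decide +kernel
theorem c_rel_429 : allRange D.relOK 1350982 2107 = true := by decide +kernel
theorem c_rel_430 : allRange D.relOK 1353089 2139 = true := by decide +kernel
theorem c_rel_431 : allRange D.relOK 1355228 2178 = true := by decide +kernel
theorem c_rel_432 : allRange D.relOK 1357406 2167 = true := by decide +kernel
theorem c_rel_433 : allRange D.relOK 1359573 2052 = true := by decide +kernel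
theorem c_rel_434 : allRange D.relOK 1361625 2105 = true := by decide +kernel
theorem c_rel_435 : allRange D.relOK 1363730 2154 = true := by decide +kernel
theorem c_rel_436 : allRange D.relOK 1365884 2095 = true := by decide +kernel
theorem c_rel_437 : allRange D.relOK 1367979 2089 = true := by decide +kernel
theorem c_rel_438 : allRange D.relOK 1370068 2176 = true := by decide +kernel
theorem c_rel_439 : allRange D.relOK 1372244 2127 = true := by decide +kernel
theorem c_rel_440 : allRange D.relOK 1374371 2122 = true := by decide +kernel
theorem c_rel_441 : allRange D.relOK 1376493 2076 = true := by decide +kernel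
theorem c_rel_442 : allRange D.relOK 1378569 2002 = true := by decide +kernel
theorem c_rel_443 : allRange D.relOK 1380571 2101 = true := by decide +kernel
theorem c_rel_444 : allRange D.relOK 1382672 2083 = true := by decide +kernel
theorem c_rel_445 : allRange D.relOK 1384755 2085 = true := by decide +kernel
theorem c_rel_446 : allRange D.relOK 1386840 2091 = true := by decide +kernel
theorem c_rel_447 : allRange D.relOK 1388931 2027 = true := by decide +kernel
theorem c_rel_448 : allRange D.relOK 1390958 2087 = true := by decide +kernel
theorem c_rel_449 : allRange D.relOK 1393045 1968 = true := by decide +kernel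
theorem c_rel_450 : allRange D.relOK 1395013 1999 = true := by decide +kernel
theorem c_rel_451 : allRange D.relOK 1397012 2033 = true := by decide +kernel
theorem c_rel_452 : allRange D.relOK 1399045 1979 = true := by decide +kernel
theorem c_rel_453 : allRange D.relOK 1401024 1964 = true := by decide +kernel
theorem c_rel_454 : allRange D.relOK 1402988 2030 = true := by decide +kernel
theorem c_rel_455 : allRange D.relOK 1405018 1970 = true := by decide +kernel
theorem c_rel_456 : allRange D.relOK 1406988 1888 = true := by decide +kernel
theorem c_rel_457 : allRange D.relOK 1408876 1948 = true := by decide +kernel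
theorem c_rel_458 : allRange D.relOK 1410824 1934 = true := by decide +kernel
theorem c_rel_459 : allRange D.relOK 1412758 1925 = true := by decide +kernel
theorem c_rel_460 : allRange D.relOK 1414683 1894 = true := by decide +kernel
theorem c_rel_461 : allRange D.relOK 1416577 1933 = true := by decide +kernel
theorem c_rel_462 : allRange D.relOK 1418510 1939 = true := by decide +kernel
theorem c_rel_463 : allRange D.relOK 1420449 1890 = true := by decide +kernel
theorem c_rel_464 : allRange D.relOK 1422339 1980 = true := by decide +kernel
theorem c_rel_465 : allRange D.relOK 1424319 1959 = true := by decide +kernel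
theorem c_rel_466 : allRange D.relOK 1426278 1888 = true := by decide +kernel
theorem c_rel_467 : allRange D.relOK 1428166 1886 = true := by decide +kernel
theorem c_rel_468 : allRange D.relOK 1430052 1988 = true := by decide +kernel
theorem c_rel_469 : allRange D.relOK 1432040 1875 = true := by decide +kernel
theorem c_rel_470 : allRange D.relOK 1433915 1837 = true := by decide +kernel

end Cfsg.Agent.Lib.Helper4.TCD.SC3McLp2A
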