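import Cfsg.Agent.Lib.Helper4.TCD_SC3McLp2A_Acc

namespace Cfsg.Agent.Lib.Helper4.TCD.SC3McLp2A

open Cfsg.Agent.Lib.Helper4.TC

set_option maxRecDepth 100000
set_option Elab.async false

theorem c_rel_471 : allRange D.relOK 1435752 1874 = true := by decide +kernel
theorem c_rel_472 : allRange D.relOK 1437626 1787 = true := by decide +kernel
theorem c_rel_473 : allRange D.relOK 1439413 1816 = true := by decide +kernel
theorem c_rel_474 : allRange D.relOK 1441229 1875 = true := by decide +kernel
theorem c_rel_475 : allRange D.relOK 1443104 2202 = true := by decide +kernel
theorem c_rel_476 : allRange D.relOK 1445306 3771 = true := by decide +kernel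
theorem c_rel_477 : allRange D.relOK 1449077 3438 = true := by decide +kernel
theorem c_rel_478 : allRange D.relOK 1452515 3440 = true := by decide +kernel
theorem c_rel_479 : allRange D.relOK 1455955 3462 = true := by decide +kernel
theorem c_rel_480 : allRange D.relOK 1459417 3394 = true := by decide +kernel
theorem c_rel_481 : allRange D.relOK 1462811 3627 = true := by decide +kernel
theorem c_rel_482 : allRange D.relOK 1466438 3515 = true := by decide +kernel
theorem c_rel_483 : allRange D.relOK 1469953 3882 = true := by decide +kernel
theorem c_rel_484 : allRange D.relOK 1473835 3720 = true := by decide +kernel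
theorem c_rel_485 : allRange D.relOK 1477555 3989 = true := by decide +kernel
theorem c_rel_486 : allRange D.relOK 1481544 4344 = true := by decide +kernel
theorem c_rel_487 : allRange D.relOK 1485888 4247 = true := by decide +kernel
theorem c_rel_488 : allRange D.relOK 1490135 4442 = true := by decide +kernel
theorem c_rel_489 : allRange D.relOK 1494577 4458 = true := by decide +kernel
theorem c_rel_490 : allRange D.relOK 1499035 4575 = true := by decide +kernel
theorem c_rel_491 : allRange D.relOK 1503610 4538 = true := by decide +kernel
theorem c_rel_492 : allRange D.relOK 1508148 4557 = true := by decide +kernel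
theorem c_rel_493 : allRange D.relOK 1512705 4660 = true := by decide +kernel
theorem c_rel_494 : allRange D.relOK 1517365 4679 = true := by decide +kernel
theorem c_rel_495 : allRange D.relOK 1522044 4676 = true := by decide +kernel
theorem c_rel_496 : allRange D.relOK 1526720 4718 = true := by decide +kernel
theorem c_rel_497 : allRange D.relOK 1531438 4788 = true := by decide +kernel
theorem c_rel_498 : allRange D.relOK 1536226 2807 = true := by decide +kernel
theorem c_fin_0 : allGrid (T.finOK D) 0 352 34 = true := by decide +kernel
theorem c_fin_1 : allGrid (T.finOK D) 352 352 34 = true := by decide +kernel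
theorem c_fin_2 : allGrid (T.finOK D) 704 352 34 = true := by decide +kernel
theorem c_fin_3 : allGrid (T.finOK D) 1056 352 34 = true := by decide +kernel
theorem c_fin_4 : allGrid (T.finOK D) 1408 352 34 = true := by decide +kernel
theorem c_fin_5 : allGrid (T.finOK D) 1760 352 34 = true := by decide +kernel
theorem c_fin_6 : allGrid (T.finOK D) 2112 352 34 = true := by decide +kernel
theorem c_fin_7 : allGrid (T.finOK D) 2464 352 34 = true := by decide +kernel
theorem c_fin_8 : allGrid (T.finOK D) 2816 352 34 = true := by decide +kernel
theorem c_fin_9 : allGrid (T.finOK D) 3168 352 34 = true := by decide +kernel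
theorem c_fin_10 : allGrid (T.finOK D) 3520 352 34 = true := by decide +kernel
theorem c_fin_11 : allGrid (T.finOK D) 3872 352 34 = true := by decide +kernel
theorem c_fin_12 : allGrid (T.finOK D) 4224 352 34 = true := by decide +kernel
theorem c_fin_13 : allGrid (T.finOK D) 4576 352 34 = true := by decide +kernel
theorem c_fin_14 : allGrid (T.finOK D) 4928 352 34 = true := by decide +kernel
theorem c_fin_15 : allGrid (T.finOK D) 5280 352 34 = true := by decide +kernel
theorem c_fin_16 : allGrid (T.finOK D) 5632 352 34 = true := by decide +kernel
theorem c_fin_17 : allGrid (T.finOK D) 5984 352 34 = true := by decide +kernel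
theorem c_fin_18 : allGrid (T.finOK D) 6336 352 34 = true := by decide +kernel
theorem c_fin_19 : allGrid (T.finOK D) 6688 352 34 = true := by decide +kernel
theorem c_fin_20 : allGrid (T.finOK D) 7040 352 34 = true := by decide +kernel
theorem c_fin_21 : allGrid (T.finOK D) 7392 352 34 = true := by decide +kernel
theorem c_fin_22 : allGrid (T.finOK D) 7744 352 34 = true := by decide +kernel
theorem c_fin_23 : allGrid (T.finOK D) 8096 352 34 = true := by decide +kernel
theorem c_fin_24 : allGrid (T.finOK D) 8448 352 34 = true := by decide +kernel
theorem c_fin_25 : allGrid (T.finOK D) 8800 352 34 = true := by decide +kernel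
theorem c_fin_26 : allGrid (T.finOK D) 9152 352 34 = true := by decide +kernel
theorem c_fin_27 : allGrid (T.finOK D) 9504 352 34 = true := by decide +kernel
theorem c_fin_28 : allGrid (T.finOK D) 9856 352 34 = true := by decide +kernel
theorem c_fin_29 : allGrid (T.finOK D) 10208 352 34 = true := by decide +kernel
theorem c_fin_30 : allGrid (T.finOK D) 10560 352 34 = true := by decide +kernel
theorem c_fin_31 : allGrid (T.finOK D) 10912 352 34 = true := by decide +kernel
theorem c_fin_32 : allGrid (T.finOK D) 11264 352 34 = true := by decide +kernel
theorem c_fin_33 : allGrid (T.finOK D) 11616 352 34 = true := by decide +kernel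
theorem c_fin_34 : allGrid (T.finOK D) 11968 352 34 = true := by decide +kernel
theorem c_fin_35 : allGrid (T.finOK D) 12320 352 34 = true := by decide +kernel

end Cfsg.Agent.Lib.Helper4.TCD.SC3McLp2A
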