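import Cfsg.Agent.Lib.Helper4.TCD_SC3McLp2A_Acc

namespace Cfsg.Agent.Lib.Helper4.TCD.SC3McLp2A

open Cfsg.Agent.Lib.Helper4.TC

set_option maxRecDepth 100000
set_option Elab.async false

theorem c_fin_86 : allGrid (T.finOK D) 30272 352 34 = true := by decide +kernel
theorem c_fin_87 : allGrid (T.finOK D) 30624 352 34 = true := by decide +kernel
theorem c_fin_88 : allGrid (T.finOK D) 30976 352 34 = true := by decide +kernel
theorem c_fin_89 : allGrid (T.finOK D) 31328 352 34 = true := by decide +kernel
theorem c_fin_90 : allGrid (T.finOK D) 31680 352 34 = true := by decide +kernel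
theorem c_fin_91 : allGrid (T.finOK D) 32032 352 34 = true := by decide +kernel
theorem c_fin_92 : allGrid (T.finOK D) 32384 352 34 = true := by decide +kernel
theorem c_fin_93 : allGrid (T.finOK D) 32736 352 34 = true := by decide +kernel
theorem c_fin_94 : allGrid (T.finOK D) 33088 352 34 = true := by decide +kernel
theorem c_fin_95 : allGrid (T.finOK D) 33440 352 34 = true := by decide +kernel
theorem c_fin_96 : allGrid (T.finOK D) 33792 352 34 = true := by decide +kernel
theorem c_fin_97 : allGrid (T.finOK D) 34144 352 34 = true := by decide +kernel
theorem c_fin_98 : allGrid (T.finOK D) 34496 352 34 = true := by decide +kernel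
theorem c_fin_99 : allGrid (T.finOK D) 34848 352 34 = true := by decide +kernel
theorem c_fin_100 : allGrid (T.finOK D) 35200 352 34 = true := by decide +kernel
theorem c_fin_101 : allGrid (T.finOK D) 35552 352 34 = true := by decide +kernel
theorem c_fin_102 : allGrid (T.finOK D) 35904 352 34 = true := by decide +kernel
theorem c_fin_103 : allGrid (T.finOK D) 36256 352 34 = true := by decide +kernel
theorem c_fin_104 : allGrid (T.finOK D) 36608 352 34 = true := by decide +kernel
theorem c_fin_105 : allGrid (T.finOK D) 36960 352 34 = true := by decide +kernel
theorem c_fin_106 : allGrid (T.finOK D) 37312 352 34 = true := by decide +kernel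
theorem c_fin_107 : allGrid (T.finOK D) 37664 352 34 = true := by decide +kernel
theorem c_fin_108 : allGrid (T.finOK D) 38016 352 34 = true := by decide +kernel
theorem c_fin_109 : allGrid (T.finOK D) 38368 352 34 = true := by decide +kernel
theorem c_fin_110 : allGrid (T.finOK D) 38720 352 34 = true := by decide +kernel
theorem c_fin_111 : allGrid (T.finOK D) 39072 352 34 = true := by decide +kernel
theorem c_fin_112 : allGrid (T.finOK D) 39424 352 34 = true := by decide +kernel
theorem c_fin_113 : allGrid (T.finOK D) 39776 352 34 = true := by decide +kernel
theorem c_fin_114 : allGrid (T.finOK D) 40128 352 34 = true := by decide +kernel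
theorem c_fin_115 : allGrid (T.finOK D) 40480 352 34 = true := by decide +kernel
theorem c_fin_116 : allGrid (T.finOK D) 40832 352 34 = true := by decide +kernel
theorem c_fin_117 : allGrid (T.finOK D) 41184 352 34 = true := by decide +kernel
theorem c_fin_118 : allGrid (T.finOK D) 41536 352 34 = true := by decide +kernel
theorem c_fin_119 : allGrid (T.finOK D) 41888 352 34 = true := by decide +kernel
theorem c_fin_120 : allGrid (T.finOK D) 42240 352 34 = true := by decide +kernel
theorem c_fin_121 : allGrid (T.finOK D) 42592 352 34 = true := by decide +kernel
theorem c_fin_122 : allGrid (T.finOK D) 42944 352 34 = true := by decide +kernel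
theorem c_fin_123 : allGrid (T.finOK D) 43296 352 34 = true := by decide +kernel
theorem c_fin_124 : allGrid (T.finOK D) 43648 352 34 = true := by decide +kernel
theorem c_fin_125 : allGrid (T.finOK D) 44000 352 34 = true := by decide +kernel
theorem c_fin_126 : allGrid (T.finOK D) 44352 352 34 = true := by decide +kernel
theorem c_fin_127 : allGrid (T.finOK D) 44704 352 34 = true := by decide +kernel
theorem c_fin_128 : allGrid (T.finOK D) 45056 352 34 = true := by decide +kernel
theorem c_fin_129 : allGrid (T.finOK D) 45408 352 34 = true := by decide +kernel
theorem c_fin_130 : allGrid (T.finOK D) 45760 352 34 = true := by decide +kernel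
theorem c_fin_131 : allGrid (T.finOK D) 46112 352 34 = true := by decide +kernel
theorem c_fin_132 : allGrid (T.finOK D) 46464 352 34 = true := by decide +kernel
theorem c_fin_133 : allGrid (T.finOK D) 46816 352 34 = true := by decide +kernel
theorem c_fin_134 : allGrid (T.finOK D) 47168 352 34 = true := by decide +kernel
theorem c_fin_135 : allGrid (T.finOK D) 47520 352 34 = true := by decide +kernel

end Cfsg.Agent.Lib.Helper4.TCD.SC3McLp2A
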