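import Cfsg.Agent.Lib.Helper4.TCD_SC3McLp2A_Acc

namespace Cfsg.Agent.Lib.Helper4.TCD.SC3McLp2A

open Cfsg.Agent.Lib.Helper4.TC

set_option maxRecDepth 100000
set_option Elab.async false

theorem c_fin_136 : allGrid (T.finOK D) 47872 352 34 = true := by decide +kernel
theorem c_fin_137 : allGrid (T.finOK D) 48224 352 34 = true := by decide +kernel
theorem c_fin_138 : allGrid (T.finOK D) 48576 352 34 = true := by decide +kernel
theorem c_fin_139 : allGrid (T.finOK D) 48928 352 34 = true := by decide +kernel
theorem c_fin_140 : allGrid (T.finOK D) 49280 352 34 = true := by decide +kernel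
theorem c_fin_141 : allGrid (T.finOK D) 49632 352 34 = true := by decide +kernel
theorem c_fin_142 : allGrid (T.finOK D) 49984 352 34 = true := by decide +kernel
theorem c_fin_143 : allGrid (T.finOK D) 50336 352 34 = true := by decide +kernel
theorem c_fin_144 : allGrid (T.finOK D) 50688 352 34 = true := by decide +kernel
theorem c_fin_145 : allGrid (T.finOK D) 51040 352 34 = true := by decide +kernel
theorem c_fin_146 : allGrid (T.finOK D) 51392 352 34 = true := by decide +kernel
theorem c_fin_147 : allGrid (T.finOK D) 51744 352 34 = true := by decide +kernel
theorem c_fin_148 : allGrid (T.finOK D) 52096 352 34 = true := by decide +kernel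
theorem c_fin_149 : allGrid (T.finOK D) 52448 352 34 = true := by decide +kernel
theorem c_fin_150 : allGrid (T.finOK D) 52800 352 34 = true := by decide +kernel
theorem c_fin_151 : allGrid (T.finOK D) 53152 352 34 = true := by decide +kernel
theorem c_fin_152 : allGrid (T.finOK D) 53504 352 34 = true := by decide +kernel
theorem c_fin_153 : allGrid (T.finOK D) 53856 352 34 = true := by decide +kernel
theorem c_fin_154 : allGrid (T.finOK D) 54208 352 34 = true := by decide +kernel
theorem c_fin_155 : allGrid (T.finOK D) 54560 352 34 = true := by decide +kernel
theorem c_fin_156 : allGrid (T.finOK D) 54912 352 34 = true := by decide +kernel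
theorem c_fin_157 : allGrid (T.finOK D) 55264 352 34 = true := by decide +kernel
theorem c_fin_158 : allGrid (T.finOK D) 55616 352 34 = true := by decide +kernel
theorem c_fin_159 : allGrid (T.finOK D) 55968 352 34 = true := by decide +kernel
theorem c_fin_160 : allGrid (T.finOK D) 56320 352 34 = true := by decide +kernel
theorem c_fin_161 : allGrid (T.finOK D) 56672 352 34 = true := by decide +kernel
theorem c_fin_162 : allGrid (T.finOK D) 57024 352 34 = true := by decide +kernel
theorem c_fin_163 : allGrid (T.finOK D) 57376 352 34 = true := by decide +kernel
theorem c_fin_164 : allGrid (T.finOK D) 57728 352 34 = true := by decide +kernel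
theorem c_fin_165 : allGrid (T.finOK D) 58080 352 34 = true := by decide +kernel
theorem c_fin_166 : allGrid (T.finOK D) 58432 352 34 = true := by decide +kernel
theorem c_fin_167 : allGrid (T.finOK D) 58784 352 34 = true := by decide +kernel
theorem c_fin_168 : allGrid (T.finOK D) 59136 352 34 = true := by decide +kernel
theorem c_fin_169 : allGrid (T.finOK D) 59488 352 34 = true := by decide +kernel
theorem c_fin_170 : allGrid (T.finOK D) 59840 352 34 = true := by decide +kernel
theorem c_fin_171 : allGrid (T.finOK D) 60192 352 34 = true := by decide +kernel
theorem c_fin_172 : allGrid (T.finOK D) 60544 352 34 = true := by decide +kernel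
theorem c_fin_173 : allGrid (T.finOK D) 60896 352 34 = true := by decide +kernel
theorem c_fin_174 : allGrid (T.finOK D) 61248 352 34 = true := by decide +kernel
theorem c_fin_175 : allGrid (T.finOK D) 61600 352 34 = true := by decide +kernel
theorem c_fin_176 : allGrid (T.finOK D) 61952 352 34 = true := by decide +kernel
theorem c_fin_177 : allGrid (T.finOK D) 62304 352 34 = true := by decide +kernel
theorem c_fin_178 : allGrid (T.finOK D) 62656 352 34 = true := by decide +kernel
theorem c_fin_179 : allGrid (T.finOK D) 63008 352 34 = true := by decide +kernel
theorem c_fin_180 : allGrid (T.finOK D) 63360 352 34 = true := by decide +kernel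
theorem c_fin_181 : allGrid (T.finOK D) 63712 352 34 = true := by decide +kernel
theorem c_fin_182 : allGrid (T.finOK D) 64064 352 34 = true := by decide +kernel
theorem c_fin_183 : allGrid (T.finOK D) 64416 352 34 = true := by decide +kernel
theorem c_fin_184 : allGrid (T.finOK D) 64768 352 34 = true := by decide +kernel
theorem c_fin_185 : allGrid (T.finOK D) 65120 352 34 = true := by decide +kernel

end Cfsg.Agent.Lib.Helper4.TCD.SC3McLp2A
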