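import Cfsg.Agent.Lib.Helper4.TCD_SC3McLp2A_Acc

namespace Cfsg.Agent.Lib.Helper4.TCD.SC3McLp2A

open Cfsg.Agent.Lib.Helper4.TC

set_option maxRecDepth 100000
set_option Elab.async false

theorem c_fin_186 : allGrid (T.finOK D) 65472 352 34 = true := by decide +kernel
theorem c_fin_187 : allGrid (T.finOK D) 65824 352 34 = true := by decide +kernel
theorem c_fin_188 : allGrid (T.finOK D) 66176 352 34 = true := by decide +kernel
theorem c_fin_189 : allGrid (T.finOK D) 66528 297 34 = true := by decide +kernel
theorem c_perm_0 : allGrid (T.permOK1 D) 0 882 34 = true := by decide +kernel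
theorem c_perm_1 : allGrid (T.permOK1 D) 882 882 34 = true := by decide +kernel
theorem c_perm_2 : allGrid (T.permOK1 D) 1764 882 34 = true := by decide +kernel
theorem c_perm_3 : allGrid (T.permOK1 D) 2646 882 34 = true := by decide +kernel
theorem c_perm_4 : allGrid (T.permOK1 D) 3528 882 34 = true := by decide +kernel
theorem c_perm_5 : allGrid (T.permOK1 D) 4410 882 34 = true := by decide +kernel
theorem c_perm_6 : allGrid (T.permOK1 D) 5292 882 34 = true := by decide +kernel
theorem c_perm_7 : allGrid (T.permOK1 D) 6174 882 34 = true := by decide +kernel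
theorem c_perm_8 : allGrid (T.permOK1 D) 7056 882 34 = true := by decide +kernel
theorem c_perm_9 : allGrid (T.permOK1 D) 7938 882 34 = true := by decide +kernel
theorem c_perm_10 : allGrid (T.permOK1 D) 8820 882 34 = true := by decide +kernel
theorem c_perm_11 : allGrid (T.permOK1 D) 9702 882 34 = true := by decide +kernel
theorem c_perm_12 : allGrid (T.permOK1 D) 10584 882 34 = true := by decide +kernel
theorem c_perm_13 : allGrid (T.permOK1 D) 11466 882 34 = true := by decide +kernel
theorem c_perm_14 : allGrid (T.permOK1 D) 12348 882 34 = true := by decide +kernel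
theorem c_perm_15 : allGrid (T.permOK1 D) 13230 882 34 = true := by decide +kernel
theorem c_perm_16 : allGrid (T.permOK1 D) 14112 882 34 = true := by decide +kernel
theorem c_perm_17 : allGrid (T.permOK1 D) 14994 882 34 = true := by decide +kernel
theorem c_perm_18 : allGrid (T.permOK1 D) 15876 882 34 = true := by decide +kernel
theorem c_perm_19 : allGrid (T.permOK1 D) 16758 882 34 = true := by decide +kernel
theorem c_perm_20 : allGrid (T.permOK1 D) 17640 882 34 = true := by decide +kernel
theorem c_perm_21 : allGrid (T.permOK1 D) 18522 882 34 = true := by decide +kernel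
theorem c_perm_22 : allGrid (T.permOK1 D) 19404 882 34 = true := by decide +kernel
theorem c_perm_23 : allGrid (T.permOK1 D) 20286 882 34 = true := by decide +kernel
theorem c_perm_24 : allGrid (T.permOK1 D) 21168 882 34 = true := by decide +kernel
theorem c_perm_25 : allGrid (T.permOK1 D) 22050 882 34 = true := by decide +kernel
theorem c_perm_26 : allGrid (T.permOK1 D) 22932 882 34 = true := by decide +kernel
theorem c_perm_27 : allGrid (T.permOK1 D) 23814 882 34 = true := by decide +kernel
theorem c_perm_28 : allGrid (T.permOK1 D) 24696 882 34 = true := by decide +kernel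
theorem c_perm_29 : allGrid (T.permOK1 D) 25578 882 34 = true := by decide +kernel
theorem c_perm_30 : allGrid (T.permOK1 D) 26460 882 34 = true := by decide +kernel
theorem c_perm_31 : allGrid (T.permOK1 D) 27342 882 34 = true := by decide +kernel
theorem c_perm_32 : allGrid (T.permOK1 D) 28224 882 34 = true := by decide +kernel
theorem c_perm_33 : allGrid (T.permOK1 D) 29106 882 34 = true := by decide +kernel
theorem c_perm_34 : allGrid (T.permOK1 D) 29988 882 34 = true := by decide +kernel
theorem c_perm_35 : allGrid (T.permOK1 D) 30870 882 34 = true := by decide +kernel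
theorem c_perm_36 : allGrid (T.permOK1 D) 31752 882 34 = true := by decide +kernel
theorem c_perm_37 : allGrid (T.permOK1 D) 32634 882 34 = true := by decide +kernel
theorem c_perm_38 : allGrid (T.permOK1 D) 33516 882 34 = true := by decide +kernel
theorem c_perm_39 : allGrid (T.permOK1 D) 34398 882 34 = true := by decide +kernel
theorem c_perm_40 : allGrid (T.permOK1 D) 35280 882 34 = true := by decide +kernel
theorem c_perm_41 : allGrid (T.permOK1 D) 36162 882 34 = true := by decide +kernel
theorem c_perm_42 : allGrid (T.permOK1 D) 37044 882 34 = true := by decide +kernel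
theorem c_perm_43 : allGrid (T.permOK1 D) 37926 882 34 = true := by decide +kernel
theorem c_perm_44 : allGrid (T.permOK1 D) 38808 882 34 = true := by decide +kernel
theorem c_perm_45 : allGrid (T.permOK1 D) 39690 882 34 = true := by decide +kernel

end Cfsg.Agent.Lib.Helper4.TCD.SC3McLp2A
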