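import Cfsg.Agent.Lib.Helper4.TCD_SC3McLp3A_Acc

namespace Cfsg.Agent.Lib.Helper4.TCD.SC3McLp3A

open Cfsg.Agent.Lib.Helper4.TC

set_option maxRecDepth 100000
set_option Elab.async false

theorem c_rel_63 : allRange D.relOK 400002 3433 = true := by decide +kernel
theorem c_rel_64 : allRange D.relOK 403435 3568 = true := by decide +kernel
theorem c_rel_65 : allRange D.relOK 407003 3580 = true := by decide +kernel
theorem c_rel_66 : allRange D.relOK 410583 3567 = true := by decide +kernel
theorem c_rel_67 : allRange D.relOK 414150 3368 = true := by decide +kernel
theorem c_rel_68 : allRange D.relOK 417518 3336 = true := by decide +kernel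
theorem c_rel_69 : allRange D.relOK 420854 3058 = true := by decide +kernel
theorem c_rel_70 : allRange D.relOK 423912 3151 = true := by decide +kernel
theorem c_rel_71 : allRange D.relOK 427063 3220 = true := by decide +kernel
theorem c_rel_72 : allRange D.relOK 430283 3553 = true := by decide +kernel
theorem c_rel_73 : allRange D.relOK 433836 3572 = true := by decide +kernel
theorem c_rel_74 : allRange D.relOK 437408 3521 = true := by decide +kernel
theorem c_rel_75 : allRange D.relOK 440929 3491 = true := by decide +kernel
theorem c_rel_76 : allRange D.relOK 444420 3348 = true := by decide +kernel
theorem c_rel_77 : allRange D.relOK 447768 3547 = true := by decide +kernel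
theorem c_rel_78 : allRange D.relOK 451315 3540 = true := by decide +kernel
theorem c_rel_79 : allRange D.relOK 454855 3551 = true := by decide +kernel
theorem c_rel_80 : allRange D.relOK 458406 3358 = true := by decide +kernel
theorem c_rel_81 : allRange D.relOK 461764 3155 = true := by decide +kernel
theorem c_rel_82 : allRange D.relOK 464919 3297 = true := by decide +kernel
theorem c_rel_83 : allRange D.relOK 468216 3578 = true := by decide +kernel
theorem c_rel_84 : allRange D.relOK 471794 3555 = true := by decide +kernel
theorem c_rel_85 : allRange D.relOK 475349 3569 = true := by decide +kernel
theorem c_rel_86 : allRange D.relOK 478918 3581 = true := by decide +kernel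
theorem c_rel_87 : allRange D.relOK 482499 3570 = true := by decide +kernel
theorem c_rel_88 : allRange D.relOK 486069 3311 = true := by decide +kernel
theorem c_rel_89 : allRange D.relOK 489380 3262 = true := by decide +kernel
theorem c_rel_90 : allRange D.relOK 492642 3411 = true := by decide +kernel
theorem c_rel_91 : allRange D.relOK 496053 3117 = true := by decide +kernel
theorem c_rel_92 : allRange D.relOK 499170 3137 = true := by decide +kernel
theorem c_rel_93 : allRange D.relOK 502307 3297 = true := by decide +kernel
theorem c_rel_94 : allRange D.relOK 505604 3497 = true := by decide +kernel
theorem c_rel_95 : allRange D.relOK 509101 3474 = true := by decide +kernel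
theorem c_rel_96 : allRange D.relOK 512575 3492 = true := by decide +kernel
theorem c_rel_97 : allRange D.relOK 516067 3146 = true := by decide +kernel
theorem c_rel_98 : allRange D.relOK 519213 2994 = true := by decide +kernel
theorem c_rel_99 : allRange D.relOK 522207 3176 = true := by decide +kernel
theorem c_rel_100 : allRange D.relOK 525383 3355 = true := by decide +kernel
theorem c_rel_101 : allRange D.relOK 528738 3429 = true := by decide +kernel
theorem c_rel_102 : allRange D.relOK 532167 3440 = true := by decide +kernel
theorem c_rel_103 : allRange D.relOK 535607 3180 = true := by decide +kernel
theorem c_rel_104 : allRange D.relOK 538787 3085 = true := by decide +kernel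
theorem c_rel_105 : allRange D.relOK 541872 3352 = true := by decide +kernel
theorem c_rel_106 : allRange D.relOK 545224 3313 = true := by decide +kernel
theorem c_rel_107 : allRange D.relOK 548537 3394 = true := by decide +kernel
theorem c_rel_108 : allRange D.relOK 551931 3360 = true := by decide +kernel
theorem c_rel_109 : allRange D.relOK 555291 3309 = true := by decide +kernel
theorem c_rel_110 : allRange D.relOK 558600 2895 = true := by decide +kernel
theorem c_rel_111 : allRange D.relOK 561495 3429 = true := by decide +kernel
theorem c_rel_112 : allRange D.relOK 564924 3186 = true := by decide +kernel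
theorem c_rel_113 : allRange D.relOK 568110 3361 = true := by decide +kernel
theorem c_rel_114 : allRange D.relOK 571471 3091 = true := by decide +kernel
theorem c_rel_115 : allRange D.relOK 574562 3010 = true := by decide +kernel
theorem c_rel_116 : allRange D.relOK 577572 2843 = true := by decide +kernel
theorem c_rel_117 : allRange D.relOK 580415 2844 = true := by decide +kernel
theorem c_rel_118 : allRange D.relOK 583259 3459 = true := by decide +kernel
theorem c_rel_119 : allRange D.relOK 586718 3430 = true := by decide +kernel
theorem c_rel_120 : allRange D.relOK 590148 3384 = true := by decide +kernel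
theorem c_rel_121 : allRange D.relOK 593532 3223 = true := by decide +kernel
theorem c_rel_122 : allRange D.relOK 596755 2968 = true := by decide +kernel
theorem c_rel_123 : allRange D.relOK 599723 3100 = true := by decide +kernel
theorem c_rel_124 : allRange D.relOK 602823 3402 = true := by decide +kernel
theorem c_rel_125 : allRange D.relOK 606225 3369 = true := by decide +kernel
theorem c_rel_126 : allRange D.relOK 609594 3372 = true := by decide +kernel
theorem c_rel_127 : allRange D.relOK 612966 3064 = true := by decide +kernel
theorem c_rel_128 : allRange D.relOK 616030 2917 = true := by decide +kernel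
theorem c_rel_129 : allRange D.relOK 618947 3326 = true := by decide +kernel
theorem c_rel_130 : allRange D.relOK 622273 3304 = true := by decide +kernel
theorem c_rel_131 : allRange D.relOK 625577 3281 = true := by decide +kernel
theorem c_rel_132 : allRange D.relOK 628858 3225 = true := by decide +kernel
theorem c_rel_133 : allRange D.relOK 632083 2945 = true := by decide +kernel
theorem c_rel_134 : allRange D.relOK 635028 3275 = true := by decide +kernel
theorem c_rel_135 : allRange D.relOK 638303 3294 = true := by decide +kernel
theorem c_rel_136 : allRange D.relOK 641597 3327 = true := by decide +kernel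
theorem c_rel_137 : allRange D.relOK 644924 3307 = true := by decide +kernel
theorem c_rel_138 : allRange D.relOK 648231 3065 = true := by decide +kernel
theorem c_rel_139 : allRange D.relOK 651296 3116 = true := by decide +kernel
theorem c_rel_140 : allRange D.relOK 654412 3281 = true := by decide +kernel
theorem c_rel_141 : allRange D.relOK 657693 3153 = true := by decide +kernel
theorem c_rel_142 : allRange D.relOK 660846 3249 = true := by decide +kernel
theorem c_rel_143 : allRange D.relOK 664095 2640 = true := by decide +kernel
theorem c_rel_144 : allRange D.relOK 666735 3147 = true := by decide +kernel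
theorem c_rel_145 : allRange D.relOK 669882 3113 = true := by decide +kernel
theorem c_rel_146 : allRange D.relOK 672995 2930 = true := by decide +kernel
theorem c_rel_147 : allRange D.relOK 675925 3269 = true := by decide +kernel
theorem c_rel_148 : allRange D.relOK 679194 2936 = true := by decide +kernel
theorem c_rel_149 : allRange D.relOK 682130 2977 = true := by decide +kernel
theorem c_rel_150 : allRange D.relOK 685107 3268 = true := by decide +kernel
theorem c_rel_151 : allRange D.relOK 688375 3028 = true := by decide +kernel
theorem c_rel_152 : allRange D.relOK 691403 3123 = true := by decide +kernel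
theorem c_rel_153 : allRange D.relOK 694526 2905 = true := by decide +kernel
theorem c_rel_154 : allRange D.relOK 697431 3070 = true := by decide +kernel
theorem c_rel_155 : allRange D.relOK 700501 3236 = true := by decide +kernel
theorem c_rel_156 : allRange D.relOK 703737 3161 = true := by decide +kernel
theorem c_rel_157 : allRange D.relOK 706898 2996 = true := by decide +kernel
theorem c_rel_158 : allRange D.relOK 709894 3002 = true := by decide +kernel
theorem c_rel_159 : allRange D.relOK 712896 3109 = true := by decide +kernel
theorem c_rel_160 : allRange D.relOK 716005 3205 = true := by decide +kernel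
theorem c_rel_161 : allRange D.relOK 719210 3226 = true := by decide +kernel

end Cfsg.Agent.Lib.Helper4.TCD.SC3McLp3A
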