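import Cfsg.Agent.Lib.Helper4.TCD_SC3McLp3A_Acc

namespace Cfsg.Agent.Lib.Helper4.TCD.SC3McLp3A

open Cfsg.Agent.Lib.Helper4.TC

set_option maxRecDepth 100000
set_option Elab.async false

theorem c_fin_116 : allGrid (T.finOK D) 46400 400 30 = true := by decide +kernel
theorem c_fin_117 : allGrid (T.finOK D) 46800 400 30 = true := by decide +kernel
theorem c_fin_118 : allGrid (T.finOK D) 47200 400 30 = true := by decide +kernel
theorem c_fin_119 : allGrid (T.finOK D) 47600 400 30 = true := by decide +kernel
theorem c_fin_120 : allGrid (T.finOK D) 48000 400 30 = true := by decide +kernel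
theorem c_fin_121 : allGrid (T.finOK D) 48400 400 30 = true := by decide +kernel
theorem c_fin_122 : allGrid (T.finOK D) 48800 400 30 = true := by decide +kernel
theorem c_fin_123 : allGrid (T.finOK D) 49200 400 30 = true := by decide +kernel
theorem c_fin_124 : allGrid (T.finOK D) 49600 400 30 = true := by decide +kernel
theorem c_fin_125 : allGrid (T.finOK D) 50000 400 30 = true := by decide +kernel
theorem c_fin_126 : allGrid (T.finOK D) 50400 400 30 = true := by decide +kernel
theorem c_fin_127 : allGrid (T.finOK D) 50800 400 30 = true := by decide +kernel
theorem c_fin_128 : allGrid (T.finOK D) 51200 400 30 = true := by decide +kernel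
theorem c_fin_129 : allGrid (T.finOK D) 51600 400 30 = true := by decide +kernel
theorem c_fin_130 : allGrid (T.finOK D) 52000 400 30 = true := by decide +kernel
theorem c_fin_131 : allGrid (T.finOK D) 52400 400 30 = true := by decide +kernel
theorem c_fin_132 : allGrid (T.finOK D) 52800 400 30 = true := by decide +kernel
theorem c_fin_133 : allGrid (T.finOK D) 53200 400 30 = true := by decide +kernel
theorem c_fin_134 : allGrid (T.finOK D) 53600 400 30 = true := by decide +kernel
theorem c_fin_135 : allGrid (T.finOK D) 54000 400 30 = true := by decide +kernel
theorem c_fin_136 : allGrid (T.finOK D) 54400 400 30 = true := by decide +kernel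
theorem c_fin_137 : allGrid (T.finOK D) 54800 400 30 = true := by decide +kernel
theorem c_fin_138 : allGrid (T.finOK D) 55200 400 30 = true := by decide +kernel
theorem c_fin_139 : allGrid (T.finOK D) 55600 400 30 = true := by decide +kernel
theorem c_fin_140 : allGrid (T.finOK D) 56000 400 30 = true := by decide +kernel
theorem c_fin_141 : allGrid (T.finOK D) 56400 400 30 = true := by decide +kernel
theorem c_fin_142 : allGrid (T.finOK D) 56800 400 30 = true := by decide +kernel
theorem c_fin_143 : allGrid (T.finOK D) 57200 400 30 = true := by decide +kernel
theorem c_fin_144 : allGrid (T.finOK D) 57600 400 30 = true := by decide +kernel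
theorem c_fin_145 : allGrid (T.finOK D) 58000 400 30 = true := by decide +kernel
theorem c_fin_146 : allGrid (T.finOK D) 58400 400 30 = true := by decide +kernel
theorem c_fin_147 : allGrid (T.finOK D) 58800 400 30 = true := by decide +kernel
theorem c_fin_148 : allGrid (T.finOK D) 59200 400 30 = true := by decide +kernel
theorem c_fin_149 : allGrid (T.finOK D) 59600 400 30 = true := by decide +kernel
theorem c_fin_150 : allGrid (T.finOK D) 60000 400 30 = true := by decide +kernel
theorem c_fin_151 : allGrid (T.finOK D) 60400 400 30 = true := by decide +kernel
theorem c_fin_152 : allGrid (T.finOK D) 60800 400 30 = true := by decide +kernel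
theorem c_fin_153 : allGrid (T.finOK D) 61200 400 30 = true := by decide +kernel
theorem c_fin_154 : allGrid (T.finOK D) 61600 400 30 = true := by decide +kernel
theorem c_fin_155 : allGrid (T.finOK D) 62000 400 30 = true := by decide +kernel
theorem c_fin_156 : allGrid (T.finOK D) 62400 400 30 = true := by decide +kernel
theorem c_fin_157 : allGrid (T.finOK D) 62800 400 30 = true := by decide +kernel
theorem c_fin_158 : allGrid (T.finOK D) 63200 400 30 = true := by decide +kernel
theorem c_fin_159 : allGrid (T.finOK D) 63600 400 30 = true := by decide +kernel
theorem c_fin_160 : allGrid (T.finOK D) 64000 400 30 = true := by decide +kernel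
theorem c_fin_161 : allGrid (T.finOK D) 64400 400 30 = true := by decide +kernel
theorem c_fin_162 : allGrid (T.finOK D) 64800 400 30 = true := by decide +kernel
theorem c_fin_163 : allGrid (T.finOK D) 65200 400 30 = true := by decide +kernel
theorem c_fin_164 : allGrid (T.finOK D) 65600 400 30 = true := by decide +kernel
theorem c_fin_165 : allGrid (T.finOK D) 66000 400 30 = true := by decide +kernel

end Cfsg.Agent.Lib.Helper4.TCD.SC3McLp3A
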