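import Cfsg.Agent.Lib.Helper4.TCD_SC3McLp3A_Acc

namespace Cfsg.Agent.Lib.Helper4.TCD.SC3McLp3A

open Cfsg.Agent.Lib.Helper4.TC

set_option maxRecDepth 100000
set_option Elab.async false

theorem c_fin_166 : allGrid (T.finOK D) 66400 400 30 = true := by decide +kernel
theorem c_fin_167 : allGrid (T.finOK D) 66800 25 30 = true := by decide +kernel
theorem c_perm_0 : allGrid (T.permOK1 D) 0 1000 30 = true := by decide +kernel
theorem c_perm_1 : allGrid (T.permOK1 D) 1000 1000 30 = true := by decide +kernel
theorem c_perm_2 : allGrid (T.permOK1 D) 2000 1000 30 = true := by decide +kernel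
theorem c_perm_3 : allGrid (T.permOK1 D) 3000 1000 30 = true := by decide +kernel
theorem c_perm_4 : allGrid (T.permOK1 D) 4000 1000 30 = true := by decide +kernel
theorem c_perm_5 : allGrid (T.permOK1 D) 5000 1000 30 = true := by decide +kernel
theorem c_perm_6 : allGrid (T.permOK1 D) 6000 1000 30 = true := by decide +kernel
theorem c_perm_7 : allGrid (T.permOK1 D) 7000 1000 30 = true := by decide +kernel
theorem c_perm_8 : allGrid (T.permOK1 D) 8000 1000 30 = true := by decide +kernel
theorem c_perm_9 : allGrid (T.permOK1 D) 9000 1000 30 = true := by decide +kernel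
theorem c_perm_10 : allGrid (T.permOK1 D) 10000 1000 30 = true := by decide +kernel
theorem c_perm_11 : allGrid (T.permOK1 D) 11000 1000 30 = true := by decide +kernel
theorem c_perm_12 : allGrid (T.permOK1 D) 12000 1000 30 = true := by decide +kernel
theorem c_perm_13 : allGrid (T.permOK1 D) 13000 1000 30 = true := by decide +kernel
theorem c_perm_14 : allGrid (T.permOK1 D) 14000 1000 30 = true := by decide +kernel
theorem c_perm_15 : allGrid (T.permOK1 D) 15000 1000 30 = true := by decide +kernel
theorem c_perm_16 : allGrid (T.permOK1 D) 16000 1000 30 = true := by decide +kernel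
theorem c_perm_17 : allGrid (T.permOK1 D) 17000 1000 30 = true := by decide +kernel
theorem c_perm_18 : allGrid (T.permOK1 D) 18000 1000 30 = true := by decide +kernel
theorem c_perm_19 : allGrid (T.permOK1 D) 19000 1000 30 = true := by decide +kernel
theorem c_perm_20 : allGrid (T.permOK1 D) 20000 1000 30 = true := by decide +kernel
theorem c_perm_21 : allGrid (T.permOK1 D) 21000 1000 30 = true := by decide +kernel
theorem c_perm_22 : allGrid (T.permOK1 D) 22000 1000 30 = true := by decide +kernel
theorem c_perm_23 : allGrid (T.permOK1 D) 23000 1000 30 = true := by decide +kernel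
theorem c_perm_24 : allGrid (T.permOK1 D) 24000 1000 30 = true := by decide +kernel
theorem c_perm_25 : allGrid (T.permOK1 D) 25000 1000 30 = true := by decide +kernel
theorem c_perm_26 : allGrid (T.permOK1 D) 26000 1000 30 = true := by decide +kernel
theorem c_perm_27 : allGrid (T.permOK1 D) 27000 1000 30 = true := by decide +kernel
theorem c_perm_28 : allGrid (T.permOK1 D) 28000 1000 30 = true := by decide +kernel
theorem c_perm_29 : allGrid (T.permOK1 D) 29000 1000 30 = true := by decide +kernel
theorem c_perm_30 : allGrid (T.permOK1 D) 30000 1000 30 = true := by decide +kernel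
theorem c_perm_31 : allGrid (T.permOK1 D) 31000 1000 30 = true := by decide +kernel
theorem c_perm_32 : allGrid (T.permOK1 D) 32000 1000 30 = true := by decide +kernel
theorem c_perm_33 : allGrid (T.permOK1 D) 33000 1000 30 = true := by decide +kernel
theorem c_perm_34 : allGrid (T.permOK1 D) 34000 1000 30 = true := by decide +kernel
theorem c_perm_35 : allGrid (T.permOK1 D) 35000 1000 30 = true := by decide +kernel
theorem c_perm_36 : allGrid (T.permOK1 D) 36000 1000 30 = true := by decide +kernel
theorem c_perm_37 : allGrid (T.permOK1 D) 37000 1000 30 = true := by decide +kernel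
theorem c_perm_38 : allGrid (T.permOK1 D) 38000 1000 30 = true := by decide +kernel
theorem c_perm_39 : allGrid (T.permOK1 D) 39000 1000 30 = true := by decide +kernel
theorem c_perm_40 : allGrid (T.permOK1 D) 40000 1000 30 = true := by decide +kernel
theorem c_perm_41 : allGrid (T.permOK1 D) 41000 1000 30 = true := by decide +kernel
theorem c_perm_42 : allGrid (T.permOK1 D) 42000 1000 30 = true := by decide +kernel
theorem c_perm_43 : allGrid (T.permOK1 D) 43000 1000 30 = true := by decide +kernel
theorem c_perm_44 : allGrid (T.permOK1 D) 44000 1000 30 = true := by decide +kernel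
theorem c_perm_45 : allGrid (T.permOK1 D) 45000 1000 30 = true := by decide +kernel
theorem c_perm_46 : allGrid (T.permOK1 D) 46000 1000 30 = true := by decide +kernel
theorem c_perm_47 : allGrid (T.permOK1 D) 47000 1000 30 = true := by decide +kernel

end Cfsg.Agent.Lib.Helper4.TCD.SC3McLp3A
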