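import Cfsg.Agent.Lib.Helper4.TCD_SC3McLp3A_Acc

namespace Cfsg.Agent.Lib.Helper4.TCD.SC3McLp3A

open Cfsg.Agent.Lib.Helper4.TC

set_option maxRecDepth 100000
set_option Elab.async false

theorem c_act52_0 : allRange (fun i => Nat.beq (actR52 i) i) 0 15000 = true := by decide +kernel
theorem c_act52_1 : allRange (fun i => Nat.beq (actR52 i) i) 15000 15000 = true := by decide +kernel
theorem c_act52_2 : allRange (fun i => Nat.beq (actR52 i) i) 30000 15000 = true := by decide +kernel
theorem c_act52_3 : allRange (fun i => Nat.beq (actR52 i) i) 45000 15000 = true := by decide +kernel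
theorem c_act52_4 : allRange (fun i => Nat.beq (actR52 i) i) 60000 6825 = true := by decide +kernel
theorem c_act53_0 : allRange (fun i => Nat.beq (actR53 i) i) 0 15000 = true := by decide +kernel
theorem c_act53_1 : allRange (fun i => Nat.beq (actR53 i) i) 15000 15000 = true := by decide +kernel
theorem c_act53_2 : allRange (fun i => Nat.beq (actR53 i) i) 30000 15000 = true := by decide +kernel
theorem c_act53_3 : allRange (fun i => Nat.beq (actR53 i) i) 45000 15000 = true := by decide +kernel
theorem c_act53_4 : allRange (fun i => Nat.beq (actR53 i) i) 60000 6825 = true := by decide +kernel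
theorem c_act54_0 : allRange (fun i => Nat.beq (actR54 i) i) 0 15000 = true := by decide +kernel
theorem c_act54_1 : allRange (fun i => Nat.beq (actR54 i) i) 15000 15000 = true := by decide +kernel
theorem c_act54_2 : allRange (fun i => Nat.beq (actR54 i) i) 30000 15000 = true := by decide +kernel
theorem c_act54_3 : allRange (fun i => Nat.beq (actR54 i) i) 45000 15000 = true := by decide +kernel
theorem c_act54_4 : allRange (fun i => Nat.beq (actR54 i) i) 60000 6825 = true := by decide +kernel
theorem c_act55_0 : allRange (fun i => Nat.beq (actR55 i) i) 0 15000 = true := by decide +kernel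
theorem c_act55_1 : allRange (fun i => Nat.beq (actR55 i) i) 15000 15000 = true := by decide +kernel
theorem c_act55_2 : allRange (fun i => Nat.beq (actR55 i) i) 30000 15000 = true := by decide +kernel
theorem c_act55_3 : allRange (fun i => Nat.beq (actR55 i) i) 45000 15000 = true := by decide +kernel
theorem c_act55_4 : allRange (fun i => Nat.beq (actR55 i) i) 60000 6825 = true := by decide +kernel
theorem c_act56_0 : allRange (fun i => Nat.beq (actR56 i) i) 0 15000 = true := by decide +kernel
theorem c_act56_1 : allRange (fun i => Nat.beq (actR56 i) i) 15000 15000 = true := by decide +kernel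
theorem c_act56_2 : allRange (fun i => Nat.beq (actR56 i) i) 30000 15000 = true := by decide +kernel
theorem c_act56_3 : allRange (fun i => Nat.beq (actR56 i) i) 45000 15000 = true := by decide +kernel
theorem c_act56_4 : allRange (fun i => Nat.beq (actR56 i) i) 60000 6825 = true := by decide +kernel
theorem c_act57_0 : allRange (fun i => Nat.beq (actR57 i) i) 0 15000 = true := by decide +kernel
theorem c_act57_1 : allRange (fun i => Nat.beq (actR57 i) i) 15000 15000 = true := by decide +kernel
theorem c_act57_2 : allRange (fun i => Nat.beq (actR57 i) i) 30000 15000 = true := by decide +kernel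
theorem c_act57_3 : allRange (fun i => Nat.beq (actR57 i) i) 45000 15000 = true := by decide +kernel
theorem c_act57_4 : allRange (fun i => Nat.beq (actR57 i) i) 60000 6825 = true := by decide +kernel
theorem c_act58_0 : allRange (fun i => Nat.beq (actR58 i) i) 0 15000 = true := by decide +kernel
theorem c_act58_1 : allRange (fun i => Nat.beq (actR58 i) i) 15000 15000 = true := by decide +kernel
theorem c_act58_2 : allRange (fun i => Nat.beq (actR58 i) i) 30000 15000 = true := by decide +kernel
theorem c_act58_3 : allRange (fun i => Nat.beq (actR58 i) i) 45000 15000 = true := by decide +kernel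
theorem c_act58_4 : allRange (fun i => Nat.beq (actR58 i) i) 60000 6825 = true := by decide +kernel
theorem c_act59_0 : allRange (fun i => Nat.beq (actR59 i) i) 0 15000 = true := by decide +kernel
theorem c_act59_1 : allRange (fun i => Nat.beq (actR59 i) i) 15000 15000 = true := by decide +kernel
theorem c_act59_2 : allRange (fun i => Nat.beq (actR59 i) i) 30000 15000 = true := by decide +kernel
theorem c_act59_3 : allRange (fun i => Nat.beq (actR59 i) i) 45000 15000 = true := by decide +kernel
theorem c_act59_4 : allRange (fun i => Nat.beq (actR59 i) i) 60000 6825 = true := by decide +kernel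
theorem c_act60_0 : allRange (fun i => Nat.beq (actR60 i) i) 0 15000 = true := by decide +kernel
theorem c_act60_1 : allRange (fun i => Nat.beq (actR60 i) i) 15000 15000 = true := by decide +kernel
theorem c_act60_2 : allRange (fun i => Nat.beq (actR60 i) i) 30000 15000 = true := by decide +kernel
theorem c_act60_3 : allRange (fun i => Nat.beq (actR60 i) i) 45000 15000 = true := by decide +kernel
theorem c_act60_4 : allRange (fun i => Nat.beq (actR60 i) i) 60000 6825 = true := by decide +kernel
theorem c_act61_0 : allRange (fun i => Nat.beq (actR61 i) i) 0 15000 = true := by decide +kernel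
theorem c_act61_1 : allRange (fun i => Nat.beq (actR61 i) i) 15000 15000 = true := by decide +kernel
theorem c_act61_2 : allRange (fun i => Nat.beq (actR61 i) i) 30000 15000 = true := by decide +kernel
theorem c_act61_3 : allRange (fun i => Nat.beq (actR61 i) i) 45000 15000 = true := by decide +kernel
theorem c_act61_4 : allRange (fun i => Nat.beq (actR61 i) i) 60000 6825 = true := by decide +kernel
theorem c_act62_0 : allRange (fun i => Nat.beq (actR62 i) i) 0 15000 = true := by decide +kernel
theorem c_act62_1 : allRange (fun i => Nat.beq (actR62 i) i) 15000 15000 = true := by decide +kernel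
theorem c_act62_2 : allRange (fun i => Nat.beq (actR62 i) i) 30000 15000 = true := by decide +kernel
theorem c_act62_3 : allRange (fun i => Nat.beq (actR62 i) i) 45000 15000 = true := by decide +kernel
theorem c_act62_4 : allRange (fun i => Nat.beq (actR62 i) i) 60000 6825 = true := by decide +kernel

end Cfsg.Agent.Lib.Helper4.TCD.SC3McLp3A
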