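import Cfsg.Agent.Lib.Helper4.TCD_SC3McLp3A_Acc

namespace Cfsg.Agent.Lib.Helper4.TCD.SC3McLp3A

open Cfsg.Agent.Lib.Helper4.TC

set_option maxRecDepth 100000
set_option Elab.async false

theorem c_rel_162 : allRange D.relOK 722436 2721 = true := by decide +kernel
theorem c_rel_163 : allRange D.relOK 725157 2777 = true := by decide +kernel
theorem c_rel_164 : allRange D.relOK 727934 3097 = true := by decide +kernel
theorem c_rel_165 : allRange D.relOK 731031 3109 = true := by decide +kernel
theorem c_rel_166 : allRange D.relOK 734140 3276 = true := by decide +kernel
theorem c_rel_167 : allRange D.relOK 737416 3141 = true := by decide +kernel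
theorem c_rel_168 : allRange D.relOK 740557 2819 = true := by decide +kernel
theorem c_rel_169 : allRange D.relOK 743376 3098 = true := by decide +kernel
theorem c_rel_170 : allRange D.relOK 746474 3051 = true := by decide +kernel
theorem c_rel_171 : allRange D.relOK 749525 2872 = true := by decide +kernel
theorem c_rel_172 : allRange D.relOK 752397 3215 = true := by decide +kernel
theorem c_rel_173 : allRange D.relOK 755612 3283 = true := by decide +kernel
theorem c_rel_174 : allRange D.relOK 758895 2989 = true := by decide +kernel
theorem c_rel_175 : allRange D.relOK 761884 3057 = true := by decide +kernel
theorem c_rel_176 : allRange D.relOK 764941 3085 = true := by decide +kernel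
theorem c_rel_177 : allRange D.relOK 768026 3003 = true := by decide +kernel
theorem c_rel_178 : allRange D.relOK 771029 2853 = true := by decide +kernel
theorem c_rel_179 : allRange D.relOK 773882 3012 = true := by decide +kernel
theorem c_rel_180 : allRange D.relOK 776894 3220 = true := by decide +kernel
theorem c_rel_181 : allRange D.relOK 780114 3333 = true := by decide +kernel
theorem c_rel_182 : allRange D.relOK 783447 3079 = true := by decide +kernel
theorem c_rel_183 : allRange D.relOK 786526 3151 = true := by decide +kernel
theorem c_rel_184 : allRange D.relOK 789677 3062 = true := by decide +kernel
theorem c_rel_185 : allRange D.relOK 792739 2911 = true := by decide +kernel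
theorem c_rel_186 : allRange D.relOK 795650 2992 = true := by decide +kernel
theorem c_rel_187 : allRange D.relOK 798642 3155 = true := by decide +kernel
theorem c_rel_188 : allRange D.relOK 801797 2953 = true := by decide +kernel
theorem c_rel_189 : allRange D.relOK 804750 2867 = true := by decide +kernel
theorem c_rel_190 : allRange D.relOK 807617 2978 = true := by decide +kernel
theorem c_rel_191 : allRange D.relOK 810595 3187 = true := by decide +kernel
theorem c_rel_192 : allRange D.relOK 813782 3178 = true := by decide +kernel
theorem c_rel_193 : allRange D.relOK 816960 2835 = true := by decide +kernel
theorem c_rel_194 : allRange D.relOK 819795 2978 = true := by decide +kernel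
theorem c_rel_195 : allRange D.relOK 822773 3218 = true := by decide +kernel
theorem c_rel_196 : allRange D.relOK 825991 2924 = true := by decide +kernel
theorem c_rel_197 : allRange D.relOK 828915 2915 = true := by decide +kernel
theorem c_rel_198 : allRange D.relOK 831830 2763 = true := by decide +kernel
theorem c_rel_199 : allRange D.relOK 834593 3117 = true := by decide +kernel
theorem c_rel_200 : allRange D.relOK 837710 2848 = true := by decide +kernel
theorem c_rel_201 : allRange D.relOK 840558 3067 = true := by decide +kernel
theorem c_rel_202 : allRange D.relOK 843625 3051 = true := by decide +kernel
theorem c_rel_203 : allRange D.relOK 846676 3086 = true := by decide +kernel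
theorem c_rel_204 : allRange D.relOK 849762 3083 = true := by decide +kernel
theorem c_rel_205 : allRange D.relOK 852845 3080 = true := by decide +kernel
theorem c_rel_206 : allRange D.relOK 855925 3236 = true := by decide +kernel
theorem c_rel_207 : allRange D.relOK 859161 3318 = true := by decide +kernel
theorem c_rel_208 : allRange D.relOK 862479 3013 = true := by decide +kernel
theorem c_rel_209 : allRange D.relOK 865492 2976 = true := by decide +kernel
theorem c_rel_210 : allRange D.relOK 868468 3178 = true := by decide +kernel
theorem c_rel_211 : allRange D.relOK 871646 3225 = true := by decide +kernel
theorem c_rel_212 : allRange D.relOK 874871 3031 = true := by decide +kernel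
theorem c_rel_213 : allRange D.relOK 877902 3200 = true := by decide +kernel
theorem c_rel_214 : allRange D.relOK 881102 3149 = true := by decide +kernel
theorem c_rel_215 : allRange D.relOK 884251 3088 = true := by decide +kernel
theorem c_rel_216 : allRange D.relOK 887339 3264 = true := by decide +kernel
theorem c_rel_217 : allRange D.relOK 890603 3332 = true := by decide +kernel
theorem c_rel_218 : allRange D.relOK 893935 3172 = true := by decide +kernel
theorem c_rel_219 : allRange D.relOK 897107 2842 = true := by decide +kernel
theorem c_rel_220 : allRange D.relOK 899949 3184 = true := by decide +kernel
theorem c_rel_221 : allRange D.relOK 903133 3353 = true := by decide +kernel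
theorem c_rel_222 : allRange D.relOK 906486 3557 = true := by decide +kernel
theorem c_rel_223 : allRange D.relOK 910043 3550 = true := by decide +kernel
theorem c_rel_224 : allRange D.relOK 913593 3548 = true := by decide +kernel
theorem c_rel_225 : allRange D.relOK 917141 3391 = true := by decide +kernel
theorem c_rel_226 : allRange D.relOK 920532 3284 = true := by decide +kernel
theorem c_rel_227 : allRange D.relOK 923816 3296 = true := by decide +kernel
theorem c_rel_228 : allRange D.relOK 927112 2897 = true := by decide +kernel
theorem c_rel_229 : allRange D.relOK 930009 3034 = true := by decide +kernel
theorem c_rel_230 : allRange D.relOK 933043 3182 = true := by decide +kernel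
theorem c_rel_231 : allRange D.relOK 936225 3501 = true := by decide +kernel
theorem c_rel_232 : allRange D.relOK 939726 3513 = true := by decide +kernel
theorem c_rel_233 : allRange D.relOK 943239 3193 = true := by decide +kernel
theorem c_rel_234 : allRange D.relOK 946432 3147 = true := by decide +kernel
theorem c_rel_235 : allRange D.relOK 949579 3016 = true := by decide +kernel
theorem c_rel_236 : allRange D.relOK 952595 2790 = true := by decide +kernel
theorem c_rel_237 : allRange D.relOK 955385 2759 = true := by decide +kernel
theorem c_rel_238 : allRange D.relOK 958144 3125 = true := by decide +kernel
theorem c_rel_239 : allRange D.relOK 961269 3155 = true := by decide +kernel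
theorem c_rel_240 : allRange D.relOK 964424 3094 = true := by decide +kernel
theorem c_rel_241 : allRange D.relOK 967518 3457 = true := by decide +kernel
theorem c_rel_242 : allRange D.relOK 970975 3556 = true := by decide +kernel
theorem c_rel_243 : allRange D.relOK 974531 3405 = true := by decide +kernel
theorem c_rel_244 : allRange D.relOK 977936 3503 = true := by decide +kernel
theorem c_rel_245 : allRange D.relOK 981439 3093 = true := by decide +kernel
theorem c_rel_246 : allRange D.relOK 984532 3547 = true := by decide +kernel
theorem c_rel_247 : allRange D.relOK 988079 3561 = true := by decide +kernel
theorem c_rel_248 : allRange D.relOK 991640 3378 = true := by decide +kernel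
theorem c_rel_249 : allRange D.relOK 995018 2887 = true := by decide +kernel
theorem c_rel_250 : allRange D.relOK 997905 2869 = true := by decide +kernel
theorem c_rel_251 : allRange D.relOK 1000774 3052 = true := by decide +kernel
theorem c_rel_252 : allRange D.relOK 1003826 2951 = true := by decide +kernel
theorem c_rel_253 : allRange D.relOK 1006777 2908 = true := by decide +kernel
theorem c_rel_254 : allRange D.relOK 1009685 3034 = true := by decide +kernel
theorem c_rel_255 : allRange D.relOK 1012719 3222 = true := by decide +kernel
theorem c_rel_256 : allRange D.relOK 1015941 3334 = true := by decide +kernel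
theorem c_rel_257 : allRange D.relOK 1019275 2942 = true := by decide +kernel
theorem c_rel_258 : allRange D.relOK 1022217 3212 = true := by decide +kernel
theorem c_rel_259 : allRange D.relOK 1025429 3316 = true := by decide +kernel
theorem c_rel_260 : allRange D.relOK 1028745 3100 = true := by decide +kernel

end Cfsg.Agent.Lib.Helper4.TCD.SC3McLp3A
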