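import Cfsg.Agent.Lib.Helper4.TCD_SC3McLp3A_Acc

namespace Cfsg.Agent.Lib.Helper4.TCD.SC3McLp3A

open Cfsg.Agent.Lib.Helper4.TC

set_option maxRecDepth 100000
set_option Elab.async false

theorem c_act79_3 : allRange (fun i => Nat.beq (actR79 i) i) 9999 3333 = true := by decide +kernel
theorem c_act79_4 : allRange (fun i => Nat.beq (actR79 i) i) 13332 3333 = true := by decide +kernel
theorem c_act79_5 : allRange (fun i => Nat.beq (actR79 i) i) 16665 3333 = true := by decide +kernel
theorem c_act79_6 : allRange (fun i => Nat.beq (actR79 i) i) 19998 3333 = true := by decide +kernel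
theorem c_act79_7 : allRange (fun i => Nat.beq (actR79 i) i) 23331 3333 = true := by decide +kernel
theorem c_act79_8 : allRange (fun i => Nat.beq (actR79 i) i) 26664 3333 = true := by decide +kernel
theorem c_act79_9 : allRange (fun i => Nat.beq (actR79 i) i) 29997 3333 = true := by decide +kernel
theorem c_act79_10 : allRange (fun i => Nat.beq (actR79 i) i) 33330 3333 = true := by decide +kernel
theorem c_act79_11 : allRange (fun i => Nat.beq (actR79 i) i) 36663 3333 = true := by decide +kernel
theorem c_act79_12 : allRange (fun i => Nat.beq (actR79 i) i) 39996 3333 = true := by decide +kernel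
theorem c_act79_13 : allRange (fun i => Nat.beq (actR79 i) i) 43329 3333 = true := by decide +kernel
theorem c_act79_14 : allRange (fun i => Nat.beq (actR79 i) i) 46662 3333 = true := by decide +kernel
theorem c_act79_15 : allRange (fun i => Nat.beq (actR79 i) i) 49995 3333 = true := by decide +kernel
theorem c_act79_16 : allRange (fun i => Nat.beq (actR79 i) i) 53328 3333 = true := by decide +kernel
theorem c_act79_17 : allRange (fun i => Nat.beq (actR79 i) i) 56661 3333 = true := by decide +kernel
theorem c_act79_18 : allRange (fun i => Nat.beq (actR79 i) i) 59994 3333 = true := by decide +kernel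
theorem c_act79_19 : allRange (fun i => Nat.beq (actR79 i) i) 63327 3333 = true := by decide +kernel
theorem c_act79_20 : allRange (fun i => Nat.beq (actR79 i) i) 66660 165 = true := by decide +kernel
theorem c_act80_0 : allRange (fun i => Nat.beq (actR80 i) i) 0 3333 = true := by decide +kernel
theorem c_act80_1 : allRange (fun i => Nat.beq (actR80 i) i) 3333 3333 = true := by decide +kernel
theorem c_act80_2 : allRange (fun i => Nat.beq (actR80 i) i) 6666 3333 = true := by decide +kernel
theorem c_act80_3 : allRange (fun i => Nat.beq (actR80 i) i) 9999 3333 = true := by decide +kernel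
theorem c_act80_4 : allRange (fun i => Nat.beq (actR80 i) i) 13332 3333 = true := by decide +kernel
theorem c_act80_5 : allRange (fun i => Nat.beq (actR80 i) i) 16665 3333 = true := by decide +kernel
theorem c_act80_6 : allRange (fun i => Nat.beq (actR80 i) i) 19998 3333 = true := by decide +kernel
theorem c_act80_7 : allRange (fun i => Nat.beq (actR80 i) i) 23331 3333 = true := by decide +kernel
theorem c_act80_8 : allRange (fun i => Nat.beq (actR80 i) i) 26664 3333 = true := by decide +kernel
theorem c_act80_9 : allRange (fun i => Nat.beq (actR80 i) i) 29997 3333 = true := by decide +kernel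
theorem c_act80_10 : allRange (fun i => Nat.beq (actR80 i) i) 33330 3333 = true := by decide +kernel
theorem c_act80_11 : allRange (fun i => Nat.beq (actR80 i) i) 36663 3333 = true := by decide +kernel
theorem c_act80_12 : allRange (fun i => Nat.beq (actR80 i) i) 39996 3333 = true := by decide +kernel
theorem c_act80_13 : allRange (fun i => Nat.beq (actR80 i) i) 43329 3333 = true := by decide +kernel
theorem c_act80_14 : allRange (fun i => Nat.beq (actR80 i) i) 46662 3333 = true := by decide +kernel
theorem c_act80_15 : allRange (fun i => Nat.beq (actR80 i) i) 49995 3333 = true := by decide +kernel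
theorem c_act80_16 : allRange (fun i => Nat.beq (actR80 i) i) 53328 3333 = true := by decide +kernel
theorem c_act80_17 : allRange (fun i => Nat.beq (actR80 i) i) 56661 3333 = true := by decide +kernel
theorem c_act80_18 : allRange (fun i => Nat.beq (actR80 i) i) 59994 3333 = true := by decide +kernel
theorem c_act80_19 : allRange (fun i => Nat.beq (actR80 i) i) 63327 3333 = true := by decide +kernel
theorem c_act80_20 : allRange (fun i => Nat.beq (actR80 i) i) 66660 165 = true := by decide +kernel
theorem c_act81_0 : allRange (fun i => Nat.beq (actR81 i) i) 0 3333 = true := by decide +kernel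
theorem c_act81_1 : allRange (fun i => Nat.beq (actR81 i) i) 3333 3333 = true := by decide +kernel
theorem c_act81_2 : allRange (fun i => Nat.beq (actR81 i) i) 6666 3333 = true := by decide +kernel
theorem c_act81_3 : allRange (fun i => Nat.beq (actR81 i) i) 9999 3333 = true := by decide +kernel
theorem c_act81_4 : allRange (fun i => Nat.beq (actR81 i) i) 13332 3333 = true := by decide +kernel
theorem c_act81_5 : allRange (fun i => Nat.beq (actR81 i) i) 16665 3333 = true := by decide +kernel
theorem c_act81_6 : allRange (fun i => Nat.beq (actR81 i) i) 19998 3333 = true := by decide +kernel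
theorem c_act81_7 : allRange (fun i => Nat.beq (actR81 i) i) 23331 3333 = true := by decide +kernel
theorem c_act81_8 : allRange (fun i => Nat.beq (actR81 i) i) 26664 3333 = true := by decide +kernel
theorem c_act81_9 : allRange (fun i => Nat.beq (actR81 i) i) 29997 3333 = true := by decide +kernel
theorem c_act81_10 : allRange (fun i => Nat.beq (actR81 i) i) 33330 3333 = true := by decide +kernel
theorem c_act81_11 : allRange (fun i => Nat.beq (actR81 i) i) 36663 3333 = true := by decide +kernel

end Cfsg.Agent.Lib.Helper4.TCD.SC3McLp3A
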