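import Cfsg.Agent.Lib.Helper4.TCD_SC3McLp3A_Acc

namespace Cfsg.Agent.Lib.Helper4.TCD.SC3McLp3A

open Cfsg.Agent.Lib.Helper4.TC

set_option maxRecDepth 100000
set_option Elab.async false

theorem c_act81_12 : allRange (fun i => Nat.beq (actR81 i) i) 39996 3333 = true := by decide +kernel
theorem c_act81_13 : allRange (fun i => Nat.beq (actR81 i) i) 43329 3333 = true := by decide +kernel
theorem c_act81_14 : allRange (fun i => Nat.beq (actR81 i) i) 46662 3333 = true := by decide +kernel
theorem c_act81_15 : allRange (fun i => Nat.beq (actR81 i) i) 49995 3333 = true := by decide +kernel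
theorem c_act81_16 : allRange (fun i => Nat.beq (actR81 i) i) 53328 3333 = true := by decide +kernel
theorem c_act81_17 : allRange (fun i => Nat.beq (actR81 i) i) 56661 3333 = true := by decide +kernel
theorem c_act81_18 : allRange (fun i => Nat.beq (actR81 i) i) 59994 3333 = true := by decide +kernel
theorem c_act81_19 : allRange (fun i => Nat.beq (actR81 i) i) 63327 3333 = true := by decide +kernel
theorem c_act81_20 : allRange (fun i => Nat.beq (actR81 i) i) 66660 165 = true := by decide +kernel
theorem c_act82_0 : allRange (fun i => Nat.beq (actR82 i) i) 0 3333 = true := by decide +kernel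
theorem c_act82_1 : allRange (fun i => Nat.beq (actR82 i) i) 3333 3333 = true := by decide +kernel
theorem c_act82_2 : allRange (fun i => Nat.beq (actR82 i) i) 6666 3333 = true := by decide +kernel
theorem c_act82_3 : allRange (fun i => Nat.beq (actR82 i) i) 9999 3333 = true := by decide +kernel
theorem c_act82_4 : allRange (fun i => Nat.beq (actR82 i) i) 13332 3333 = true := by decide +kernel
theorem c_act82_5 : allRange (fun i => Nat.beq (actR82 i) i) 16665 3333 = true := by decide +kernel
theorem c_act82_6 : allRange (fun i => Nat.beq (actR82 i) i) 19998 3333 = true := by decide +kernel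
theorem c_act82_7 : allRange (fun i => Nat.beq (actR82 i) i) 23331 3333 = true := by decide +kernel
theorem c_act82_8 : allRange (fun i => Nat.beq (actR82 i) i) 26664 3333 = true := by decide +kernel
theorem c_act82_9 : allRange (fun i => Nat.beq (actR82 i) i) 29997 3333 = true := by decide +kernel
theorem c_act82_10 : allRange (fun i => Nat.beq (actR82 i) i) 33330 3333 = true := by decide +kernel
theorem c_act82_11 : allRange (fun i => Nat.beq (actR82 i) i) 36663 3333 = true := by decide +kernel
theorem c_act82_12 : allRange (fun i => Nat.beq (actR82 i) i) 39996 3333 = true := by decide +kernel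
theorem c_act82_13 : allRange (fun i => Nat.beq (actR82 i) i) 43329 3333 = true := by decide +kernel
theorem c_act82_14 : allRange (fun i => Nat.beq (actR82 i) i) 46662 3333 = true := by decide +kernel
theorem c_act82_15 : allRange (fun i => Nat.beq (actR82 i) i) 49995 3333 = true := by decide +kernel
theorem c_act82_16 : allRange (fun i => Nat.beq (actR82 i) i) 53328 3333 = true := by decide +kernel
theorem c_act82_17 : allRange (fun i => Nat.beq (actR82 i) i) 56661 3333 = true := by decide +kernel
theorem c_act82_18 : allRange (fun i => Nat.beq (actR82 i) i) 59994 3333 = true := by decide +kernel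
theorem c_act82_19 : allRange (fun i => Nat.beq (actR82 i) i) 63327 3333 = true := by decide +kernel
theorem c_act82_20 : allRange (fun i => Nat.beq (actR82 i) i) 66660 165 = true := by decide +kernel
theorem c_act83_0 : allRange (fun i => Nat.beq (actR83 i) i) 0 3333 = true := by decide +kernel
theorem c_act83_1 : allRange (fun i => Nat.beq (actR83 i) i) 3333 3333 = true := by decide +kernel
theorem c_act83_2 : allRange (fun i => Nat.beq (actR83 i) i) 6666 3333 = true := by decide +kernel
theorem c_act83_3 : allRange (fun i => Nat.beq (actR83 i) i) 9999 3333 = true := by decide +kernel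
theorem c_act83_4 : allRange (fun i => Nat.beq (actR83 i) i) 13332 3333 = true := by decide +kernel
theorem c_act83_5 : allRange (fun i => Nat.beq (actR83 i) i) 16665 3333 = true := by decide +kernel
theorem c_act83_6 : allRange (fun i => Nat.beq (actR83 i) i) 19998 3333 = true := by decide +kernel
theorem c_act83_7 : allRange (fun i => Nat.beq (actR83 i) i) 23331 3333 = true := by decide +kernel
theorem c_act83_8 : allRange (fun i => Nat.beq (actR83 i) i) 26664 3333 = true := by decide +kernel
theorem c_act83_9 : allRange (fun i => Nat.beq (actR83 i) i) 29997 3333 = true := by decide +kernel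
theorem c_act83_10 : allRange (fun i => Nat.beq (actR83 i) i) 33330 3333 = true := by decide +kernel
theorem c_act83_11 : allRange (fun i => Nat.beq (actR83 i) i) 36663 3333 = true := by decide +kernel
theorem c_act83_12 : allRange (fun i => Nat.beq (actR83 i) i) 39996 3333 = true := by decide +kernel
theorem c_act83_13 : allRange (fun i => Nat.beq (actR83 i) i) 43329 3333 = true := by decide +kernel
theorem c_act83_14 : allRange (fun i => Nat.beq (actR83 i) i) 46662 3333 = true := by decide +kernel
theorem c_act83_15 : allRange (fun i => Nat.beq (actR83 i) i) 49995 3333 = true := by decide +kernel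
theorem c_act83_16 : allRange (fun i => Nat.beq (actR83 i) i) 53328 3333 = true := by decide +kernel
theorem c_act83_17 : allRange (fun i => Nat.beq (actR83 i) i) 56661 3333 = true := by decide +kernel
theorem c_act83_18 : allRange (fun i => Nat.beq (actR83 i) i) 59994 3333 = true := by decide +kernel
theorem c_act83_19 : allRange (fun i => Nat.beq (actR83 i) i) 63327 3333 = true := by decide +kernel
theorem c_act83_20 : allRange (fun i => Nat.beq (actR83 i) i) 66660 165 = true := by decide +kernel
theorem c_act84_0 : allRange (fun i => Nat.beq (actR84 i) i) 0 3333 = true := by decide +kernel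

end Cfsg.Agent.Lib.Helper4.TCD.SC3McLp3A
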