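import Cfsg.Agent.Lib.Helper4.TCD_SC3McLp3A_Acc

namespace Cfsg.Agent.Lib.Helper4.TCD.SC3McLp3A

open Cfsg.Agent.Lib.Helper4.TC

set_option maxRecDepth 100000
set_option Elab.async false

theorem c_act84_1 : allRange (fun i => Nat.beq (actR84 i) i) 3333 3333 = true := by decide +kernel
theorem c_act84_2 : allRange (fun i => Nat.beq (actR84 i) i) 6666 3333 = true := by decide +kernel
theorem c_act84_3 : allRange (fun i => Nat.beq (actR84 i) i) 9999 3333 = true := by decide +kernel
theorem c_act84_4 : allRange (fun i => Nat.beq (actR84 i) i) 13332 3333 = true := by decide +kernel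
theorem c_act84_5 : allRange (fun i => Nat.beq (actR84 i) i) 16665 3333 = true := by decide +kernel
theorem c_act84_6 : allRange (fun i => Nat.beq (actR84 i) i) 19998 3333 = true := by decide +kernel
theorem c_act84_7 : allRange (fun i => Nat.beq (actR84 i) i) 23331 3333 = true := by decide +kernel
theorem c_act84_8 : allRange (fun i => Nat.beq (actR84 i) i) 26664 3333 = true := by decide +kernel
theorem c_act84_9 : allRange (fun i => Nat.beq (actR84 i) i) 29997 3333 = true := by decide +kernel
theorem c_act84_10 : allRange (fun i => Nat.beq (actR84 i) i) 33330 3333 = true := by decide +kernel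
theorem c_act84_11 : allRange (fun i => Nat.beq (actR84 i) i) 36663 3333 = true := by decide +kernel
theorem c_act84_12 : allRange (fun i => Nat.beq (actR84 i) i) 39996 3333 = true := by decide +kernel
theorem c_act84_13 : allRange (fun i => Nat.beq (actR84 i) i) 43329 3333 = true := by decide +kernel
theorem c_act84_14 : allRange (fun i => Nat.beq (actR84 i) i) 46662 3333 = true := by decide +kernel
theorem c_act84_15 : allRange (fun i => Nat.beq (actR84 i) i) 49995 3333 = true := by decide +kernel
theorem c_act84_16 : allRange (fun i => Nat.beq (actR84 i) i) 53328 3333 = true := by decide +kernel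
theorem c_act84_17 : allRange (fun i => Nat.beq (actR84 i) i) 56661 3333 = true := by decide +kernel
theorem c_act84_18 : allRange (fun i => Nat.beq (actR84 i) i) 59994 3333 = true := by decide +kernel
theorem c_act84_19 : allRange (fun i => Nat.beq (actR84 i) i) 63327 3333 = true := by decide +kernel
theorem c_act84_20 : allRange (fun i => Nat.beq (actR84 i) i) 66660 165 = true := by decide +kernel
theorem c_act85_0 : allRange (fun i => Nat.beq (actR85 i) i) 0 3333 = true := by decide +kernel
theorem c_act85_1 : allRange (fun i => Nat.beq (actR85 i) i) 3333 3333 = true := by decide +kernel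
theorem c_act85_2 : allRange (fun i => Nat.beq (actR85 i) i) 6666 3333 = true := by decide +kernel
theorem c_act85_3 : allRange (fun i => Nat.beq (actR85 i) i) 9999 3333 = true := by decide +kernel
theorem c_act85_4 : allRange (fun i => Nat.beq (actR85 i) i) 13332 3333 = true := by decide +kernel
theorem c_act85_5 : allRange (fun i => Nat.beq (actR85 i) i) 16665 3333 = true := by decide +kernel
theorem c_act85_6 : allRange (fun i => Nat.beq (actR85 i) i) 19998 3333 = true := by decide +kernel
theorem c_act85_7 : allRange (fun i => Nat.beq (actR85 i) i) 23331 3333 = true := by decide +kernel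
theorem c_act85_8 : allRange (fun i => Nat.beq (actR85 i) i) 26664 3333 = true := by decide +kernel
theorem c_act85_9 : allRange (fun i => Nat.beq (actR85 i) i) 29997 3333 = true := by decide +kernel
theorem c_act85_10 : allRange (fun i => Nat.beq (actR85 i) i) 33330 3333 = true := by decide +kernel
theorem c_act85_11 : allRange (fun i => Nat.beq (actR85 i) i) 36663 3333 = true := by decide +kernel
theorem c_act85_12 : allRange (fun i => Nat.beq (actR85 i) i) 39996 3333 = true := by decide +kernel
theorem c_act85_13 : allRange (fun i => Nat.beq (actR85 i) i) 43329 3333 = true := by decide +kernel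
theorem c_act85_14 : allRange (fun i => Nat.beq (actR85 i) i) 46662 3333 = true := by decide +kernel
theorem c_act85_15 : allRange (fun i => Nat.beq (actR85 i) i) 49995 3333 = true := by decide +kernel
theorem c_act85_16 : allRange (fun i => Nat.beq (actR85 i) i) 53328 3333 = true := by decide +kernel
theorem c_act85_17 : allRange (fun i => Nat.beq (actR85 i) i) 56661 3333 = true := by decide +kernel
theorem c_act85_18 : allRange (fun i => Nat.beq (actR85 i) i) 59994 3333 = true := by decide +kernel
theorem c_act85_19 : allRange (fun i => Nat.beq (actR85 i) i) 63327 3333 = true := by decide +kernel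
theorem c_act85_20 : allRange (fun i => Nat.beq (actR85 i) i) 66660 165 = true := by decide +kernel
theorem c_act86_0 : allRange (fun i => Nat.beq (actR86 i) i) 0 3333 = true := by decide +kernel
theorem c_act86_1 : allRange (fun i => Nat.beq (actR86 i) i) 3333 3333 = true := by decide +kernel
theorem c_act86_2 : allRange (fun i => Nat.beq (actR86 i) i) 6666 3333 = true := by decide +kernel
theorem c_act86_3 : allRange (fun i => Nat.beq (actR86 i) i) 9999 3333 = true := by decide +kernel
theorem c_act86_4 : allRange (fun i => Nat.beq (actR86 i) i) 13332 3333 = true := by decide +kernel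
theorem c_act86_5 : allRange (fun i => Nat.beq (actR86 i) i) 16665 3333 = true := by decide +kernel
theorem c_act86_6 : allRange (fun i => Nat.beq (actR86 i) i) 19998 3333 = true := by decide +kernel
theorem c_act86_7 : allRange (fun i => Nat.beq (actR86 i) i) 23331 3333 = true := by decide +kernel
theorem c_act86_8 : allRange (fun i => Nat.beq (actR86 i) i) 26664 3333 = true := by decide +kernel
theorem c_act86_9 : allRange (fun i => Nat.beq (actR86 i) i) 29997 3333 = true := by decide +kernel

end Cfsg.Agent.Lib.Helper4.TCD.SC3McLp3A
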