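import Cfsg.Agent.Lib.Helper4.TCD_SC3McLp3A_Acc

namespace Cfsg.Agent.Lib.Helper4.TCD.SC3McLp3A

open Cfsg.Agent.Lib.Helper4.TC

set_option maxRecDepth 100000
set_option Elab.async false

theorem c_act88_19 : allRange (fun i => Nat.beq (actR88 i) i) 63327 3333 = true := by decide +kernel
theorem c_act88_20 : allRange (fun i => Nat.beq (actR88 i) i) 66660 165 = true := by decide +kernel
theorem c_act89_0 : allRange (fun i => Nat.beq (actR89 i) i) 0 3333 = true := by decide +kernel
theorem c_act89_1 : allRange (fun i => Nat.beq (actR89 i) i) 3333 3333 = true := by decide +kernel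
theorem c_act89_2 : allRange (fun i => Nat.beq (actR89 i) i) 6666 3333 = true := by decide +kernel
theorem c_act89_3 : allRange (fun i => Nat.beq (actR89 i) i) 9999 3333 = true := by decide +kernel
theorem c_act89_4 : allRange (fun i => Nat.beq (actR89 i) i) 13332 3333 = true := by decide +kernel
theorem c_act89_5 : allRange (fun i => Nat.beq (actR89 i) i) 16665 3333 = true := by decide +kernel
theorem c_act89_6 : allRange (fun i => Nat.beq (actR89 i) i) 19998 3333 = true := by decide +kernel
theorem c_act89_7 : allRange (fun i => Nat.beq (actR89 i) i) 23331 3333 = true := by decide +kernel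
theorem c_act89_8 : allRange (fun i => Nat.beq (actR89 i) i) 26664 3333 = true := by decide +kernel
theorem c_act89_9 : allRange (fun i => Nat.beq (actR89 i) i) 29997 3333 = true := by decide +kernel
theorem c_act89_10 : allRange (fun i => Nat.beq (actR89 i) i) 33330 3333 = true := by decide +kernel
theorem c_act89_11 : allRange (fun i => Nat.beq (actR89 i) i) 36663 3333 = true := by decide +kernel
theorem c_act89_12 : allRange (fun i => Nat.beq (actR89 i) i) 39996 3333 = true := by decide +kernel
theorem c_act89_13 : allRange (fun i => Nat.beq (actR89 i) i) 43329 3333 = true := by decide +kernel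
theorem c_act89_14 : allRange (fun i => Nat.beq (actR89 i) i) 46662 3333 = true := by decide +kernel
theorem c_act89_15 : allRange (fun i => Nat.beq (actR89 i) i) 49995 3333 = true := by decide +kernel
theorem c_act89_16 : allRange (fun i => Nat.beq (actR89 i) i) 53328 3333 = true := by decide +kernel
theorem c_act89_17 : allRange (fun i => Nat.beq (actR89 i) i) 56661 3333 = true := by decide +kernel
theorem c_act89_18 : allRange (fun i => Nat.beq (actR89 i) i) 59994 3333 = true := by decide +kernel
theorem c_act89_19 : allRange (fun i => Nat.beq (actR89 i) i) 63327 3333 = true := by decide +kernel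
theorem c_act89_20 : allRange (fun i => Nat.beq (actR89 i) i) 66660 165 = true := by decide +kernel
theorem c_act90_0 : allRange (fun i => Nat.beq (actR90 i) i) 0 3333 = true := by decide +kernel
theorem c_act90_1 : allRange (fun i => Nat.beq (actR90 i) i) 3333 3333 = true := by decide +kernel
theorem c_act90_2 : allRange (fun i => Nat.beq (actR90 i) i) 6666 3333 = true := by decide +kernel
theorem c_act90_3 : allRange (fun i => Nat.beq (actR90 i) i) 9999 3333 = true := by decide +kernel
theorem c_act90_4 : allRange (fun i => Nat.beq (actR90 i) i) 13332 3333 = true := by decide +kernel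
theorem c_act90_5 : allRange (fun i => Nat.beq (actR90 i) i) 16665 3333 = true := by decide +kernel
theorem c_act90_6 : allRange (fun i => Nat.beq (actR90 i) i) 19998 3333 = true := by decide +kernel
theorem c_act90_7 : allRange (fun i => Nat.beq (actR90 i) i) 23331 3333 = true := by decide +kernel
theorem c_act90_8 : allRange (fun i => Nat.beq (actR90 i) i) 26664 3333 = true := by decide +kernel
theorem c_act90_9 : allRange (fun i => Nat.beq (actR90 i) i) 29997 3333 = true := by decide +kernel
theorem c_act90_10 : allRange (fun i => Nat.beq (actR90 i) i) 33330 3333 = true := by decide +kernel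
theorem c_act90_11 : allRange (fun i => Nat.beq (actR90 i) i) 36663 3333 = true := by decide +kernel
theorem c_act90_12 : allRange (fun i => Nat.beq (actR90 i) i) 39996 3333 = true := by decide +kernel
theorem c_act90_13 : allRange (fun i => Nat.beq (actR90 i) i) 43329 3333 = true := by decide +kernel
theorem c_act90_14 : allRange (fun i => Nat.beq (actR90 i) i) 46662 3333 = true := by decide +kernel
theorem c_act90_15 : allRange (fun i => Nat.beq (actR90 i) i) 49995 3333 = true := by decide +kernel
theorem c_act90_16 : allRange (fun i => Nat.beq (actR90 i) i) 53328 3333 = true := by decide +kernel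
theorem c_act90_17 : allRange (fun i => Nat.beq (actR90 i) i) 56661 3333 = true := by decide +kernel
theorem c_act90_18 : allRange (fun i => Nat.beq (actR90 i) i) 59994 3333 = true := by decide +kernel
theorem c_act90_19 : allRange (fun i => Nat.beq (actR90 i) i) 63327 3333 = true := by decide +kernel
theorem c_act90_20 : allRange (fun i => Nat.beq (actR90 i) i) 66660 165 = true := by decide +kernel
theorem c_act91_0 : allRange (fun i => Nat.beq (actR91 i) i) 0 3333 = true := by decide +kernel
theorem c_act91_1 : allRange (fun i => Nat.beq (actR91 i) i) 3333 3333 = true := by decide +kernel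
theorem c_act91_2 : allRange (fun i => Nat.beq (actR91 i) i) 6666 3333 = true := by decide +kernel
theorem c_act91_3 : allRange (fun i => Nat.beq (actR91 i) i) 9999 3333 = true := by decide +kernel
theorem c_act91_4 : allRange (fun i => Nat.beq (actR91 i) i) 13332 3333 = true := by decide +kernel
theorem c_act91_5 : allRange (fun i => Nat.beq (actR91 i) i) 16665 3333 = true := by decide +kernel
theorem c_act91_6 : allRange (fun i => Nat.beq (actR91 i) i) 19998 3333 = true := by decide +kernel
theorem c_act91_7 : allRange (fun i => Nat.beq (actR91 i) i) 23331 3333 = true := by decide +kernel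

end Cfsg.Agent.Lib.Helper4.TCD.SC3McLp3A
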