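import Cfsg.Agent.Lib.Helper4.TCD_SC3McLp3A_Acc

namespace Cfsg.Agent.Lib.Helper4.TCD.SC3McLp3A

open Cfsg.Agent.Lib.Helper4.TC

set_option maxRecDepth 100000
set_option Elab.async false

theorem c_act91_8 : allRange (fun i => Nat.beq (actR91 i) i) 26664 3333 = true := by decide +kernel
theorem c_act91_9 : allRange (fun i => Nat.beq (actR91 i) i) 29997 3333 = true := by decide +kernel
theorem c_act91_10 : allRange (fun i => Nat.beq (actR91 i) i) 33330 3333 = true := by decide +kernel
theorem c_act91_11 : allRange (fun i => Nat.beq (actR91 i) i) 36663 3333 = true := by decide +kernel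
theorem c_act91_12 : allRange (fun i => Nat.beq (actR91 i) i) 39996 3333 = true := by decide +kernel
theorem c_act91_13 : allRange (fun i => Nat.beq (actR91 i) i) 43329 3333 = true := by decide +kernel
theorem c_act91_14 : allRange (fun i => Nat.beq (actR91 i) i) 46662 3333 = true := by decide +kernel
theorem c_act91_15 : allRange (fun i => Nat.beq (actR91 i) i) 49995 3333 = true := by decide +kernel
theorem c_act91_16 : allRange (fun i => Nat.beq (actR91 i) i) 53328 3333 = true := by decide +kernel
theorem c_act91_17 : allRange (fun i => Nat.beq (actR91 i) i) 56661 3333 = true := by decide +kernel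
theorem c_act91_18 : allRange (fun i => Nat.beq (actR91 i) i) 59994 3333 = true := by decide +kernel
theorem c_act91_19 : allRange (fun i => Nat.beq (actR91 i) i) 63327 3333 = true := by decide +kernel
theorem c_act91_20 : allRange (fun i => Nat.beq (actR91 i) i) 66660 165 = true := by decide +kernel
theorem c_act92_0 : allRange (fun i => Nat.beq (actR92 i) i) 0 3333 = true := by decide +kernel
theorem c_act92_1 : allRange (fun i => Nat.beq (actR92 i) i) 3333 3333 = true := by decide +kernel
theorem c_act92_2 : allRange (fun i => Nat.beq (actR92 i) i) 6666 3333 = true := by decide +kernel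
theorem c_act92_3 : allRange (fun i => Nat.beq (actR92 i) i) 9999 3333 = true := by decide +kernel
theorem c_act92_4 : allRange (fun i => Nat.beq (actR92 i) i) 13332 3333 = true := by decide +kernel
theorem c_act92_5 : allRange (fun i => Nat.beq (actR92 i) i) 16665 3333 = true := by decide +kernel
theorem c_act92_6 : allRange (fun i => Nat.beq (actR92 i) i) 19998 3333 = true := by decide +kernel
theorem c_act92_7 : allRange (fun i => Nat.beq (actR92 i) i) 23331 3333 = true := by decide +kernel
theorem c_act92_8 : allRange (fun i => Nat.beq (actR92 i) i) 26664 3333 = true := by decide +kernel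
theorem c_act92_9 : allRange (fun i => Nat.beq (actR92 i) i) 29997 3333 = true := by decide +kernel
theorem c_act92_10 : allRange (fun i => Nat.beq (actR92 i) i) 33330 3333 = true := by decide +kernel
theorem c_act92_11 : allRange (fun i => Nat.beq (actR92 i) i) 36663 3333 = true := by decide +kernel
theorem c_act92_12 : allRange (fun i => Nat.beq (actR92 i) i) 39996 3333 = true := by decide +kernel
theorem c_act92_13 : allRange (fun i => Nat.beq (actR92 i) i) 43329 3333 = true := by decide +kernel
theorem c_act92_14 : allRange (fun i => Nat.beq (actR92 i) i) 46662 3333 = true := by decide +kernel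
theorem c_act92_15 : allRange (fun i => Nat.beq (actR92 i) i) 49995 3333 = true := by decide +kernel
theorem c_act92_16 : allRange (fun i => Nat.beq (actR92 i) i) 53328 3333 = true := by decide +kernel
theorem c_act92_17 : allRange (fun i => Nat.beq (actR92 i) i) 56661 3333 = true := by decide +kernel
theorem c_act92_18 : allRange (fun i => Nat.beq (actR92 i) i) 59994 3333 = true := by decide +kernel
theorem c_act92_19 : allRange (fun i => Nat.beq (actR92 i) i) 63327 3333 = true := by decide +kernel
theorem c_act92_20 : allRange (fun i => Nat.beq (actR92 i) i) 66660 165 = true := by decide +kernel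
theorem c_act93_0 : allRange (fun i => Nat.beq (actR93 i) i) 0 3333 = true := by decide +kernel
theorem c_act93_1 : allRange (fun i => Nat.beq (actR93 i) i) 3333 3333 = true := by decide +kernel
theorem c_act93_2 : allRange (fun i => Nat.beq (actR93 i) i) 6666 3333 = true := by decide +kernel
theorem c_act93_3 : allRange (fun i => Nat.beq (actR93 i) i) 9999 3333 = true := by decide +kernel
theorem c_act93_4 : allRange (fun i => Nat.beq (actR93 i) i) 13332 3333 = true := by decide +kernel
theorem c_act93_5 : allRange (fun i => Nat.beq (actR93 i) i) 16665 3333 = true := by decide +kernel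
theorem c_act93_6 : allRange (fun i => Nat.beq (actR93 i) i) 19998 3333 = true := by decide +kernel
theorem c_act93_7 : allRange (fun i => Nat.beq (actR93 i) i) 23331 3333 = true := by decide +kernel
theorem c_act93_8 : allRange (fun i => Nat.beq (actR93 i) i) 26664 3333 = true := by decide +kernel
theorem c_act93_9 : allRange (fun i => Nat.beq (actR93 i) i) 29997 3333 = true := by decide +kernel
theorem c_act93_10 : allRange (fun i => Nat.beq (actR93 i) i) 33330 3333 = true := by decide +kernel
theorem c_act93_11 : allRange (fun i => Nat.beq (actR93 i) i) 36663 3333 = true := by decide +kernel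
theorem c_act93_12 : allRange (fun i => Nat.beq (actR93 i) i) 39996 3333 = true := by decide +kernel
theorem c_act93_13 : allRange (fun i => Nat.beq (actR93 i) i) 43329 3333 = true := by decide +kernel
theorem c_act93_14 : allRange (fun i => Nat.beq (actR93 i) i) 46662 3333 = true := by decide +kernel
theorem c_act93_15 : allRange (fun i => Nat.beq (actR93 i) i) 49995 3333 = true := by decide +kernel
theorem c_act93_16 : allRange (fun i => Nat.beq (actR93 i) i) 53328 3333 = true := by decide +kernel

end Cfsg.Agent.Lib.Helper4.TCD.SC3McLp3A
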