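import Cfsg.Agent.Lib.Helper4.TCD_SC3McLp3A_Acc

namespace Cfsg.Agent.Lib.Helper4.TCD.SC3McLp3A

open Cfsg.Agent.Lib.Helper4.TC

set_option maxRecDepth 100000
set_option Elab.async false

theorem c_act93_17 : allRange (fun i => Nat.beq (actR93 i) i) 56661 3333 = true := by decide +kernel
theorem c_act93_18 : allRange (fun i => Nat.beq (actR93 i) i) 59994 3333 = true := by decide +kernel
theorem c_act93_19 : allRange (fun i => Nat.beq (actR93 i) i) 63327 3333 = true := by decide +kernel
theorem c_act93_20 : allRange (fun i => Nat.beq (actR93 i) i) 66660 165 = true := by decide +kernel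
theorem c_act94_0 : allRange (fun i => Nat.beq (actR94 i) i) 0 3333 = true := by decide +kernel
theorem c_act94_1 : allRange (fun i => Nat.beq (actR94 i) i) 3333 3333 = true := by decide +kernel
theorem c_act94_2 : allRange (fun i => Nat.beq (actR94 i) i) 6666 3333 = true := by decide +kernel
theorem c_act94_3 : allRange (fun i => Nat.beq (actR94 i) i) 9999 3333 = true := by decide +kernel
theorem c_act94_4 : allRange (fun i => Nat.beq (actR94 i) i) 13332 3333 = true := by decide +kernel
theorem c_act94_5 : allRange (fun i => Nat.beq (actR94 i) i) 16665 3333 = true := by decide +kernel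
theorem c_act94_6 : allRange (fun i => Nat.beq (actR94 i) i) 19998 3333 = true := by decide +kernel
theorem c_act94_7 : allRange (fun i => Nat.beq (actR94 i) i) 23331 3333 = true := by decide +kernel
theorem c_act94_8 : allRange (fun i => Nat.beq (actR94 i) i) 26664 3333 = true := by decide +kernel
theorem c_act94_9 : allRange (fun i => Nat.beq (actR94 i) i) 29997 3333 = true := by decide +kernel
theorem c_act94_10 : allRange (fun i => Nat.beq (actR94 i) i) 33330 3333 = true := by decide +kernel
theorem c_act94_11 : allRange (fun i => Nat.beq (actR94 i) i) 36663 3333 = true := by decide +kernel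
theorem c_act94_12 : allRange (fun i => Nat.beq (actR94 i) i) 39996 3333 = true := by decide +kernel
theorem c_act94_13 : allRange (fun i => Nat.beq (actR94 i) i) 43329 3333 = true := by decide +kernel
theorem c_act94_14 : allRange (fun i => Nat.beq (actR94 i) i) 46662 3333 = true := by decide +kernel
theorem c_act94_15 : allRange (fun i => Nat.beq (actR94 i) i) 49995 3333 = true := by decide +kernel
theorem c_act94_16 : allRange (fun i => Nat.beq (actR94 i) i) 53328 3333 = true := by decide +kernel
theorem c_act94_17 : allRange (fun i => Nat.beq (actR94 i) i) 56661 3333 = true := by decide +kernel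
theorem c_act94_18 : allRange (fun i => Nat.beq (actR94 i) i) 59994 3333 = true := by decide +kernel
theorem c_act94_19 : allRange (fun i => Nat.beq (actR94 i) i) 63327 3333 = true := by decide +kernel
theorem c_act94_20 : allRange (fun i => Nat.beq (actR94 i) i) 66660 165 = true := by decide +kernel
theorem c_act95_0 : allRange (fun i => Nat.beq (actR95 i) i) 0 3157 = true := by decide +kernel
theorem c_act95_1 : allRange (fun i => Nat.beq (actR95 i) i) 3157 3157 = true := by decide +kernel
theorem c_act95_2 : allRange (fun i => Nat.beq (actR95 i) i) 6314 3157 = true := by decide +kernel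
theorem c_act95_3 : allRange (fun i => Nat.beq (actR95 i) i) 9471 3157 = true := by decide +kernel
theorem c_act95_4 : allRange (fun i => Nat.beq (actR95 i) i) 12628 3157 = true := by decide +kernel
theorem c_act95_5 : allRange (fun i => Nat.beq (actR95 i) i) 15785 3157 = true := by decide +kernel
theorem c_act95_6 : allRange (fun i => Nat.beq (actR95 i) i) 18942 3157 = true := by decide +kernel
theorem c_act95_7 : allRange (fun i => Nat.beq (actR95 i) i) 22099 3157 = true := by decide +kernel
theorem c_act95_8 : allRange (fun i => Nat.beq (actR95 i) i) 25256 3157 = true := by decide +kernel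
theorem c_act95_9 : allRange (fun i => Nat.beq (actR95 i) i) 28413 3157 = true := by decide +kernel
theorem c_act95_10 : allRange (fun i => Nat.beq (actR95 i) i) 31570 3157 = true := by decide +kernel
theorem c_act95_11 : allRange (fun i => Nat.beq (actR95 i) i) 34727 3157 = true := by decide +kernel
theorem c_act95_12 : allRange (fun i => Nat.beq (actR95 i) i) 37884 3157 = true := by decide +kernel
theorem c_act95_13 : allRange (fun i => Nat.beq (actR95 i) i) 41041 3157 = true := by decide +kernel
theorem c_act95_14 : allRange (fun i => Nat.beq (actR95 i) i) 44198 3157 = true := by decide +kernel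
theorem c_act95_15 : allRange (fun i => Nat.beq (actR95 i) i) 47355 3157 = true := by decide +kernel
theorem c_act95_16 : allRange (fun i => Nat.beq (actR95 i) i) 50512 3157 = true := by decide +kernel
theorem c_act95_17 : allRange (fun i => Nat.beq (actR95 i) i) 53669 3157 = true := by decide +kernel
theorem c_act95_18 : allRange (fun i => Nat.beq (actR95 i) i) 56826 3157 = true := by decide +kernel
theorem c_act95_19 : allRange (fun i => Nat.beq (actR95 i) i) 59983 3157 = true := by decide +kernel
theorem c_act95_20 : allRange (fun i => Nat.beq (actR95 i) i) 63140 3157 = true := by decide +kernel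
theorem c_act95_21 : allRange (fun i => Nat.beq (actR95 i) i) 66297 528 = true := by decide +kernel
theorem c_act96_0 : allRange (fun i => Nat.beq (actR96 i) i) 0 3157 = true := by decide +kernel
theorem c_act96_1 : allRange (fun i => Nat.beq (actR96 i) i) 3157 3157 = true := by decide +kernel
theorem c_act96_2 : allRange (fun i => Nat.beq (actR96 i) i) 6314 3157 = true := by decide +kernel
theorem c_act96_3 : allRange (fun i => Nat.beq (actR96 i) i) 9471 3157 = true := by decide +kernel
theorem c_act96_4 : allRange (fun i => Nat.beq (actR96 i) i) 12628 3157 = true := by decide +kernel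

end Cfsg.Agent.Lib.Helper4.TCD.SC3McLp3A
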