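import Cfsg.Agent.Lib.Helper4.TCD_SC3McLp3A_Acc

namespace Cfsg.Agent.Lib.Helper4.TCD.SC3McLp3A

open Cfsg.Agent.Lib.Helper4.TC

set_option maxRecDepth 100000
set_option Elab.async false

theorem c_act96_5 : allRange (fun i => Nat.beq (actR96 i) i) 15785 3157 = true := by decide +kernel
theorem c_act96_6 : allRange (fun i => Nat.beq (actR96 i) i) 18942 3157 = true := by decide +kernel
theorem c_act96_7 : allRange (fun i => Nat.beq (actR96 i) i) 22099 3157 = true := by decide +kernel
theorem c_act96_8 : allRange (fun i => Nat.beq (actR96 i) i) 25256 3157 = true := by decide +kernel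
theorem c_act96_9 : allRange (fun i => Nat.beq (actR96 i) i) 28413 3157 = true := by decide +kernel
theorem c_act96_10 : allRange (fun i => Nat.beq (actR96 i) i) 31570 3157 = true := by decide +kernel
theorem c_act96_11 : allRange (fun i => Nat.beq (actR96 i) i) 34727 3157 = true := by decide +kernel
theorem c_act96_12 : allRange (fun i => Nat.beq (actR96 i) i) 37884 3157 = true := by decide +kernel
theorem c_act96_13 : allRange (fun i => Nat.beq (actR96 i) i) 41041 3157 = true := by decide +kernel
theorem c_act96_14 : allRange (fun i => Nat.beq (actR96 i) i) 44198 3157 = true := by decide +kernel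
theorem c_act96_15 : allRange (fun i => Nat.beq (actR96 i) i) 47355 3157 = true := by decide +kernel
theorem c_act96_16 : allRange (fun i => Nat.beq (actR96 i) i) 50512 3157 = true := by decide +kernel
theorem c_act96_17 : allRange (fun i => Nat.beq (actR96 i) i) 53669 3157 = true := by decide +kernel
theorem c_act96_18 : allRange (fun i => Nat.beq (actR96 i) i) 56826 3157 = true := by decide +kernel
theorem c_act96_19 : allRange (fun i => Nat.beq (actR96 i) i) 59983 3157 = true := by decide +kernel
theorem c_act96_20 : allRange (fun i => Nat.beq (actR96 i) i) 63140 3157 = true := by decide +kernel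
theorem c_act96_21 : allRange (fun i => Nat.beq (actR96 i) i) 66297 528 = true := by decide +kernel
theorem c_act97_0 : allRange (fun i => Nat.beq (actR97 i) i) 0 3157 = true := by decide +kernel
theorem c_act97_1 : allRange (fun i => Nat.beq (actR97 i) i) 3157 3157 = true := by decide +kernel
theorem c_act97_2 : allRange (fun i => Nat.beq (actR97 i) i) 6314 3157 = true := by decide +kernel
theorem c_act97_3 : allRange (fun i => Nat.beq (actR97 i) i) 9471 3157 = true := by decide +kernel
theorem c_act97_4 : allRange (fun i => Nat.beq (actR97 i) i) 12628 3157 = true := by decide +kernel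
theorem c_act97_5 : allRange (fun i => Nat.beq (actR97 i) i) 15785 3157 = true := by decide +kernel
theorem c_act97_6 : allRange (fun i => Nat.beq (actR97 i) i) 18942 3157 = true := by decide +kernel
theorem c_act97_7 : allRange (fun i => Nat.beq (actR97 i) i) 22099 3157 = true := by decide +kernel
theorem c_act97_8 : allRange (fun i => Nat.beq (actR97 i) i) 25256 3157 = true := by decide +kernel
theorem c_act97_9 : allRange (fun i => Nat.beq (actR97 i) i) 28413 3157 = true := by decide +kernel
theorem c_act97_10 : allRange (fun i => Nat.beq (actR97 i) i) 31570 3157 = true := by decide +kernel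
theorem c_act97_11 : allRange (fun i => Nat.beq (actR97 i) i) 34727 3157 = true := by decide +kernel
theorem c_act97_12 : allRange (fun i => Nat.beq (actR97 i) i) 37884 3157 = true := by decide +kernel
theorem c_act97_13 : allRange (fun i => Nat.beq (actR97 i) i) 41041 3157 = true := by decide +kernel
theorem c_act97_14 : allRange (fun i => Nat.beq (actR97 i) i) 44198 3157 = true := by decide +kernel
theorem c_act97_15 : allRange (fun i => Nat.beq (actR97 i) i) 47355 3157 = true := by decide +kernel
theorem c_act97_16 : allRange (fun i => Nat.beq (actR97 i) i) 50512 3157 = true := by decide +kernel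
theorem c_act97_17 : allRange (fun i => Nat.beq (actR97 i) i) 53669 3157 = true := by decide +kernel
theorem c_act97_18 : allRange (fun i => Nat.beq (actR97 i) i) 56826 3157 = true := by decide +kernel
theorem c_act97_19 : allRange (fun i => Nat.beq (actR97 i) i) 59983 3157 = true := by decide +kernel
theorem c_act97_20 : allRange (fun i => Nat.beq (actR97 i) i) 63140 3157 = true := by decide +kernel
theorem c_act97_21 : allRange (fun i => Nat.beq (actR97 i) i) 66297 528 = true := by decide +kernel
theorem c_act98_0 : allRange (fun i => Nat.beq (actR98 i) i) 0 3157 = true := by decide +kernel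
theorem c_act98_1 : allRange (fun i => Nat.beq (actR98 i) i) 3157 3157 = true := by decide +kernel
theorem c_act98_2 : allRange (fun i => Nat.beq (actR98 i) i) 6314 3157 = true := by decide +kernel
theorem c_act98_3 : allRange (fun i => Nat.beq (actR98 i) i) 9471 3157 = true := by decide +kernel
theorem c_act98_4 : allRange (fun i => Nat.beq (actR98 i) i) 12628 3157 = true := by decide +kernel
theorem c_act98_5 : allRange (fun i => Nat.beq (actR98 i) i) 15785 3157 = true := by decide +kernel
theorem c_act98_6 : allRange (fun i => Nat.beq (actR98 i) i) 18942 3157 = true := by decide +kernel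
theorem c_act98_7 : allRange (fun i => Nat.beq (actR98 i) i) 22099 3157 = true := by decide +kernel
theorem c_act98_8 : allRange (fun i => Nat.beq (actR98 i) i) 25256 3157 = true := by decide +kernel
theorem c_act98_9 : allRange (fun i => Nat.beq (actR98 i) i) 28413 3157 = true := by decide +kernel
theorem c_act98_10 : allRange (fun i => Nat.beq (actR98 i) i) 31570 3157 = true := by decide +kernel
theorem c_act98_11 : allRange (fun i => Nat.beq (actR98 i) i) 34727 3157 = true := by decide +kernel

end Cfsg.Agent.Lib.Helper4.TCD.SC3McLp3A
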