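import Cfsg.Agent.Lib.Helper4.TCD_SC3McLp3A_Acc

namespace Cfsg.Agent.Lib.Helper4.TCD.SC3McLp3A

open Cfsg.Agent.Lib.Helper4.TC

set_option maxRecDepth 100000
set_option Elab.async false

theorem c_rel_261 : allRange D.relOK 1031845 2912 = true := by decide +kernel
theorem c_rel_262 : allRange D.relOK 1034757 2993 = true := by decide +kernel
theorem c_rel_263 : allRange D.relOK 1037750 3247 = true := by decide +kernel
theorem c_rel_264 : allRange D.relOK 1040997 3553 = true := by decide +kernel
theorem c_rel_265 : allRange D.relOK 1044550 3540 = true := by decide +kernel
theorem c_rel_266 : allRange D.relOK 1048090 3466 = true := by decide +kernel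
theorem c_rel_267 : allRange D.relOK 1051556 2888 = true := by decide +kernel
theorem c_rel_268 : allRange D.relOK 1054444 3078 = true := by decide +kernel
theorem c_rel_269 : allRange D.relOK 1057522 3481 = true := by decide +kernel
theorem c_rel_270 : allRange D.relOK 1061003 3488 = true := by decide +kernel
theorem c_rel_271 : allRange D.relOK 1064491 3519 = true := by decide +kernel
theorem c_rel_272 : allRange D.relOK 1068010 3524 = true := by decide +kernel
theorem c_rel_273 : allRange D.relOK 1071534 3085 = true := by decide +kernel
theorem c_rel_274 : allRange D.relOK 1074619 3324 = true := by decide +kernel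
theorem c_rel_275 : allRange D.relOK 1077943 3511 = true := by decide +kernel
theorem c_rel_276 : allRange D.relOK 1081454 3517 = true := by decide +kernel
theorem c_rel_277 : allRange D.relOK 1084971 3495 = true := by decide +kernel
theorem c_rel_278 : allRange D.relOK 1088466 3497 = true := by decide +kernel
theorem c_rel_279 : allRange D.relOK 1091963 2868 = true := by decide +kernel
theorem c_rel_280 : allRange D.relOK 1094831 3154 = true := by decide +kernel
theorem c_rel_281 : allRange D.relOK 1097985 3490 = true := by decide +kernel
theorem c_rel_282 : allRange D.relOK 1101475 3480 = true := by decide +kernel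
theorem c_rel_283 : allRange D.relOK 1104955 3410 = true := by decide +kernel
theorem c_rel_284 : allRange D.relOK 1108365 3161 = true := by decide +kernel
theorem c_rel_285 : allRange D.relOK 1111526 2677 = true := by decide +kernel
theorem c_rel_286 : allRange D.relOK 1114203 3507 = true := by decide +kernel
theorem c_rel_287 : allRange D.relOK 1117710 3531 = true := by decide +kernel
theorem c_rel_288 : allRange D.relOK 1121241 3475 = true := by decide +kernel
theorem c_rel_289 : allRange D.relOK 1124716 3162 = true := by decide +kernel
theorem c_rel_290 : allRange D.relOK 1127878 2890 = true := by decide +kernel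
theorem c_rel_291 : allRange D.relOK 1130768 3471 = true := by decide +kernel
theorem c_rel_292 : allRange D.relOK 1134239 3507 = true := by decide +kernel
theorem c_rel_293 : allRange D.relOK 1137746 3455 = true := by decide +kernel
theorem c_rel_294 : allRange D.relOK 1141201 3012 = true := by decide +kernel
theorem c_rel_295 : allRange D.relOK 1144213 3130 = true := by decide +kernel
theorem c_rel_296 : allRange D.relOK 1147343 3269 = true := by decide +kernel
theorem c_rel_297 : allRange D.relOK 1150612 3460 = true := by decide +kernel
theorem c_rel_298 : allRange D.relOK 1154072 3479 = true := by decide +kernel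
theorem c_rel_299 : allRange D.relOK 1157551 3024 = true := by decide +kernel
theorem c_rel_300 : allRange D.relOK 1160575 3322 = true := by decide +kernel
theorem c_rel_301 : allRange D.relOK 1163897 3429 = true := by decide +kernel
theorem c_rel_302 : allRange D.relOK 1167326 3437 = true := by decide +kernel
theorem c_rel_303 : allRange D.relOK 1170763 3365 = true := by decide +kernel
theorem c_rel_304 : allRange D.relOK 1174128 3175 = true := by decide +kernel
theorem c_rel_305 : allRange D.relOK 1177303 3457 = true := by decide +kernel
theorem c_rel_306 : allRange D.relOK 1180760 3449 = true := by decide +kernel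
theorem c_rel_307 : allRange D.relOK 1184209 3033 = true := by decide +kernel
theorem c_rel_308 : allRange D.relOK 1187242 3385 = true := by decide +kernel
theorem c_rel_309 : allRange D.relOK 1190627 3449 = true := by decide +kernel
theorem c_rel_310 : allRange D.relOK 1194076 3476 = true := by decide +kernel
theorem c_rel_311 : allRange D.relOK 1197552 3076 = true := by decide +kernel
theorem c_rel_312 : allRange D.relOK 1200628 3251 = true := by decide +kernel
theorem c_rel_313 : allRange D.relOK 1203879 3422 = true := by decide +kernel
theorem c_rel_314 : allRange D.relOK 1207301 3443 = true := by decide +kernel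
theorem c_rel_315 : allRange D.relOK 1210744 3317 = true := by decide +kernel
theorem c_rel_316 : allRange D.relOK 1214061 3221 = true := by decide +kernel
theorem c_rel_317 : allRange D.relOK 1217282 3461 = true := by decide +kernel
theorem c_rel_318 : allRange D.relOK 1220743 3490 = true := by decide +kernel
theorem c_rel_319 : allRange D.relOK 1224233 3391 = true := by decide +kernel
theorem c_rel_320 : allRange D.relOK 1227624 3131 = true := by decide +kernel
theorem c_rel_321 : allRange D.relOK 1230755 3318 = true := by decide +kernel
theorem c_rel_322 : allRange D.relOK 1234073 3420 = true := by decide +kernel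
theorem c_rel_323 : allRange D.relOK 1237493 3216 = true := by decide +kernel
theorem c_rel_324 : allRange D.relOK 1240709 3276 = true := by decide +kernel
theorem c_rel_325 : allRange D.relOK 1243985 3391 = true := by decide +kernel
theorem c_rel_326 : allRange D.relOK 1247376 3398 = true := by decide +kernel
theorem c_rel_327 : allRange D.relOK 1250774 2772 = true := by decide +kernel
theorem c_rel_328 : allRange D.relOK 1253546 2744 = true := by decide +kernel
theorem c_rel_329 : allRange D.relOK 1256290 3079 = true := by decide +kernel
theorem c_rel_330 : allRange D.relOK 1259369 3194 = true := by decide +kernel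
theorem c_rel_331 : allRange D.relOK 1262563 2889 = true := by decide +kernel
theorem c_rel_332 : allRange D.relOK 1265452 3234 = true := by decide +kernel
theorem c_rel_333 : allRange D.relOK 1268686 3394 = true := by decide +kernel
theorem c_rel_334 : allRange D.relOK 1272080 2786 = true := by decide +kernel
theorem c_rel_335 : allRange D.relOK 1274866 2870 = true := by decide +kernel
theorem c_rel_336 : allRange D.relOK 1277736 3013 = true := by decide +kernel
theorem c_rel_337 : allRange D.relOK 1280749 3409 = true := by decide +kernel
theorem c_rel_338 : allRange D.relOK 1284158 3293 = true := by decide +kernel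
theorem c_rel_339 : allRange D.relOK 1287451 2935 = true := by decide +kernel
theorem c_rel_340 : allRange D.relOK 1290386 2618 = true := by decide +kernel
theorem c_rel_341 : allRange D.relOK 1293004 3255 = true := by decide +kernel
theorem c_rel_342 : allRange D.relOK 1296259 3023 = true := by decide +kernel
theorem c_rel_343 : allRange D.relOK 1299282 3143 = true := by decide +kernel
theorem c_rel_344 : allRange D.relOK 1302425 3318 = true := by decide +kernel
theorem c_rel_345 : allRange D.relOK 1305743 2932 = true := by decide +kernel
theorem c_rel_346 : allRange D.relOK 1308675 3158 = true := by decide +kernel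
theorem c_rel_347 : allRange D.relOK 1311833 3337 = true := by decide +kernel
theorem c_rel_348 : allRange D.relOK 1315170 3065 = true := by decide +kernel
theorem c_rel_349 : allRange D.relOK 1318235 3003 = true := by decide +kernel
theorem c_rel_350 : allRange D.relOK 1321238 3307 = true := by decide +kernel
theorem c_rel_351 : allRange D.relOK 1324545 2899 = true := by decide +kernel
theorem c_rel_352 : allRange D.relOK 1327444 2765 = true := by decide +kernel
theorem c_rel_353 : allRange D.relOK 1330209 2569 = true := by decide +kernel
theorem c_rel_354 : allRange D.relOK 1332778 2626 = true := by decide +kernel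
theorem c_rel_355 : allRange D.relOK 1335404 2540 = true := by decide +kernel
theorem c_rel_356 : allRange D.relOK 1337944 2512 = true := by decide +kernel
theorem c_rel_357 : allRange D.relOK 1340456 2481 = true := by decide +kernel
theorem c_rel_358 : allRange D.relOK 1342937 2363 = true := by decide +kernel
theorem c_rel_359 : allRange D.relOK 1345300 2482 = true := by decide +kernel

end Cfsg.Agent.Lib.Helper4.TCD.SC3McLp3A
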