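import Cfsg.Agent.Lib.Helper4.TCD_SC3McLp3A_Acc

namespace Cfsg.Agent.Lib.Helper4.TCD.SC3McLp3A

open Cfsg.Agent.Lib.Helper4.TC

set_option maxRecDepth 100000
set_option Elab.async false

theorem c_act100_19 : allRange (fun i => Nat.beq (actR100 i) i) 59983 3157 = true := by decide +kernel
theorem c_act100_20 : allRange (fun i => Nat.beq (actR100 i) i) 63140 3157 = true := by decide +kernel
theorem c_act100_21 : allRange (fun i => Nat.beq (actR100 i) i) 66297 528 = true := by decide +kernel
theorem c_act101_0 : allRange (fun i => Nat.beq (actR101 i) i) 0 3157 = true := by decide +kernel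
theorem c_act101_1 : allRange (fun i => Nat.beq (actR101 i) i) 3157 3157 = true := by decide +kernel
theorem c_act101_2 : allRange (fun i => Nat.beq (actR101 i) i) 6314 3157 = true := by decide +kernel
theorem c_act101_3 : allRange (fun i => Nat.beq (actR101 i) i) 9471 3157 = true := by decide +kernel
theorem c_act101_4 : allRange (fun i => Nat.beq (actR101 i) i) 12628 3157 = true := by decide +kernel
theorem c_act101_5 : allRange (fun i => Nat.beq (actR101 i) i) 15785 3157 = true := by decide +kernel
theorem c_act101_6 : allRange (fun i => Nat.beq (actR101 i) i) 18942 3157 = true := by decide +kernel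
theorem c_act101_7 : allRange (fun i => Nat.beq (actR101 i) i) 22099 3157 = true := by decide +kernel
theorem c_act101_8 : allRange (fun i => Nat.beq (actR101 i) i) 25256 3157 = true := by decide +kernel
theorem c_act101_9 : allRange (fun i => Nat.beq (actR101 i) i) 28413 3157 = true := by decide +kernel
theorem c_act101_10 : allRange (fun i => Nat.beq (actR101 i) i) 31570 3157 = true := by decide +kernel
theorem c_act101_11 : allRange (fun i => Nat.beq (actR101 i) i) 34727 3157 = true := by decide +kernel
theorem c_act101_12 : allRange (fun i => Nat.beq (actR101 i) i) 37884 3157 = true := by decide +kernel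
theorem c_act101_13 : allRange (fun i => Nat.beq (actR101 i) i) 41041 3157 = true := by decide +kernel
theorem c_act101_14 : allRange (fun i => Nat.beq (actR101 i) i) 44198 3157 = true := by decide +kernel
theorem c_act101_15 : allRange (fun i => Nat.beq (actR101 i) i) 47355 3157 = true := by decide +kernel
theorem c_act101_16 : allRange (fun i => Nat.beq (actR101 i) i) 50512 3157 = true := by decide +kernel
theorem c_act101_17 : allRange (fun i => Nat.beq (actR101 i) i) 53669 3157 = true := by decide +kernel
theorem c_act101_18 : allRange (fun i => Nat.beq (actR101 i) i) 56826 3157 = true := by decide +kernel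
theorem c_act101_19 : allRange (fun i => Nat.beq (actR101 i) i) 59983 3157 = true := by decide +kernel
theorem c_act101_20 : allRange (fun i => Nat.beq (actR101 i) i) 63140 3157 = true := by decide +kernel
theorem c_act101_21 : allRange (fun i => Nat.beq (actR101 i) i) 66297 528 = true := by decide +kernel
theorem c_act102_0 : allRange (fun i => Nat.beq (actR102 i) i) 0 3157 = true := by decide +kernel
theorem c_act102_1 : allRange (fun i => Nat.beq (actR102 i) i) 3157 3157 = true := by decide +kernel
theorem c_act102_2 : allRange (fun i => Nat.beq (actR102 i) i) 6314 3157 = true := by decide +kernel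
theorem c_act102_3 : allRange (fun i => Nat.beq (actR102 i) i) 9471 3157 = true := by decide +kernel
theorem c_act102_4 : allRange (fun i => Nat.beq (actR102 i) i) 12628 3157 = true := by decide +kernel
theorem c_act102_5 : allRange (fun i => Nat.beq (actR102 i) i) 15785 3157 = true := by decide +kernel
theorem c_act102_6 : allRange (fun i => Nat.beq (actR102 i) i) 18942 3157 = true := by decide +kernel
theorem c_act102_7 : allRange (fun i => Nat.beq (actR102 i) i) 22099 3157 = true := by decide +kernel
theorem c_act102_8 : allRange (fun i => Nat.beq (actR102 i) i) 25256 3157 = true := by decide +kernel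
theorem c_act102_9 : allRange (fun i => Nat.beq (actR102 i) i) 28413 3157 = true := by decide +kernel
theorem c_act102_10 : allRange (fun i => Nat.beq (actR102 i) i) 31570 3157 = true := by decide +kernel
theorem c_act102_11 : allRange (fun i => Nat.beq (actR102 i) i) 34727 3157 = true := by decide +kernel
theorem c_act102_12 : allRange (fun i => Nat.beq (actR102 i) i) 37884 3157 = true := by decide +kernel
theorem c_act102_13 : allRange (fun i => Nat.beq (actR102 i) i) 41041 3157 = true := by decide +kernel
theorem c_act102_14 : allRange (fun i => Nat.beq (actR102 i) i) 44198 3157 = true := by decide +kernel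
theorem c_act102_15 : allRange (fun i => Nat.beq (actR102 i) i) 47355 3157 = true := by decide +kernel
theorem c_act102_16 : allRange (fun i => Nat.beq (actR102 i) i) 50512 3157 = true := by decide +kernel
theorem c_act102_17 : allRange (fun i => Nat.beq (actR102 i) i) 53669 3157 = true := by decide +kernel
theorem c_act102_18 : allRange (fun i => Nat.beq (actR102 i) i) 56826 3157 = true := by decide +kernel
theorem c_act102_19 : allRange (fun i => Nat.beq (actR102 i) i) 59983 3157 = true := by decide +kernel
theorem c_act102_20 : allRange (fun i => Nat.beq (actR102 i) i) 63140 3157 = true := by decide +kernel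
theorem c_act102_21 : allRange (fun i => Nat.beq (actR102 i) i) 66297 528 = true := by decide +kernel
theorem c_act103_0 : allRange (fun i => Nat.beq (actR103 i) i) 0 3157 = true := by decide +kernel
theorem c_act103_1 : allRange (fun i => Nat.beq (actR103 i) i) 3157 3157 = true := by decide +kernel
theorem c_act103_2 : allRange (fun i => Nat.beq (actR103 i) i) 6314 3157 = true := by decide +kernel
theorem c_act103_3 : allRange (fun i => Nat.beq (actR103 i) i) 9471 3157 = true := by decide +kernel
theorem c_act103_4 : allRange (fun i => Nat.beq (actR103 i) i) 12628 3157 = true := by decide +kernel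

end Cfsg.Agent.Lib.Helper4.TCD.SC3McLp3A
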