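import Cfsg.Agent.Lib.Helper4.TCD_SC3McLp3A_Acc

namespace Cfsg.Agent.Lib.Helper4.TCD.SC3McLp3A

open Cfsg.Agent.Lib.Helper4.TC

set_option maxRecDepth 100000
set_option Elab.async false

theorem c_act103_5 : allRange (fun i => Nat.beq (actR103 i) i) 15785 3157 = true := by decide +kernel
theorem c_act103_6 : allRange (fun i => Nat.beq (actR103 i) i) 18942 3157 = true := by decide +kernel
theorem c_act103_7 : allRange (fun i => Nat.beq (actR103 i) i) 22099 3157 = true := by decide +kernel
theorem c_act103_8 : allRange (fun i => Nat.beq (actR103 i) i) 25256 3157 = true := by decide +kernel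
theorem c_act103_9 : allRange (fun i => Nat.beq (actR103 i) i) 28413 3157 = true := by decide +kernel
theorem c_act103_10 : allRange (fun i => Nat.beq (actR103 i) i) 31570 3157 = true := by decide +kernel
theorem c_act103_11 : allRange (fun i => Nat.beq (actR103 i) i) 34727 3157 = true := by decide +kernel
theorem c_act103_12 : allRange (fun i => Nat.beq (actR103 i) i) 37884 3157 = true := by decide +kernel
theorem c_act103_13 : allRange (fun i => Nat.beq (actR103 i) i) 41041 3157 = true := by decide +kernel
theorem c_act103_14 : allRange (fun i => Nat.beq (actR103 i) i) 44198 3157 = true := by decide +kernel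
theorem c_act103_15 : allRange (fun i => Nat.beq (actR103 i) i) 47355 3157 = true := by decide +kernel
theorem c_act103_16 : allRange (fun i => Nat.beq (actR103 i) i) 50512 3157 = true := by decide +kernel
theorem c_act103_17 : allRange (fun i => Nat.beq (actR103 i) i) 53669 3157 = true := by decide +kernel
theorem c_act103_18 : allRange (fun i => Nat.beq (actR103 i) i) 56826 3157 = true := by decide +kernel
theorem c_act103_19 : allRange (fun i => Nat.beq (actR103 i) i) 59983 3157 = true := by decide +kernel
theorem c_act103_20 : allRange (fun i => Nat.beq (actR103 i) i) 63140 3157 = true := by decide +kernel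
theorem c_act103_21 : allRange (fun i => Nat.beq (actR103 i) i) 66297 528 = true := by decide +kernel
theorem c_act104_0 : allRange (fun i => Nat.beq (actR104 i) i) 0 3157 = true := by decide +kernel
theorem c_act104_1 : allRange (fun i => Nat.beq (actR104 i) i) 3157 3157 = true := by decide +kernel
theorem c_act104_2 : allRange (fun i => Nat.beq (actR104 i) i) 6314 3157 = true := by decide +kernel
theorem c_act104_3 : allRange (fun i => Nat.beq (actR104 i) i) 9471 3157 = true := by decide +kernel
theorem c_act104_4 : allRange (fun i => Nat.beq (actR104 i) i) 12628 3157 = true := by decide +kernel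
theorem c_act104_5 : allRange (fun i => Nat.beq (actR104 i) i) 15785 3157 = true := by decide +kernel
theorem c_act104_6 : allRange (fun i => Nat.beq (actR104 i) i) 18942 3157 = true := by decide +kernel
theorem c_act104_7 : allRange (fun i => Nat.beq (actR104 i) i) 22099 3157 = true := by decide +kernel
theorem c_act104_8 : allRange (fun i => Nat.beq (actR104 i) i) 25256 3157 = true := by decide +kernel
theorem c_act104_9 : allRange (fun i => Nat.beq (actR104 i) i) 28413 3157 = true := by decide +kernel
theorem c_act104_10 : allRange (fun i => Nat.beq (actR104 i) i) 31570 3157 = true := by decide +kernel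
theorem c_act104_11 : allRange (fun i => Nat.beq (actR104 i) i) 34727 3157 = true := by decide +kernel
theorem c_act104_12 : allRange (fun i => Nat.beq (actR104 i) i) 37884 3157 = true := by decide +kernel
theorem c_act104_13 : allRange (fun i => Nat.beq (actR104 i) i) 41041 3157 = true := by decide +kernel
theorem c_act104_14 : allRange (fun i => Nat.beq (actR104 i) i) 44198 3157 = true := by decide +kernel
theorem c_act104_15 : allRange (fun i => Nat.beq (actR104 i) i) 47355 3157 = true := by decide +kernel
theorem c_act104_16 : allRange (fun i => Nat.beq (actR104 i) i) 50512 3157 = true := by decide +kernel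
theorem c_act104_17 : allRange (fun i => Nat.beq (actR104 i) i) 53669 3157 = true := by decide +kernel
theorem c_act104_18 : allRange (fun i => Nat.beq (actR104 i) i) 56826 3157 = true := by decide +kernel
theorem c_act104_19 : allRange (fun i => Nat.beq (actR104 i) i) 59983 3157 = true := by decide +kernel
theorem c_act104_20 : allRange (fun i => Nat.beq (actR104 i) i) 63140 3157 = true := by decide +kernel
theorem c_act104_21 : allRange (fun i => Nat.beq (actR104 i) i) 66297 528 = true := by decide +kernel
theorem c_act105_0 : allRange (fun i => Nat.beq (actR105 i) i) 0 3157 = true := by decide +kernel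
theorem c_act105_1 : allRange (fun i => Nat.beq (actR105 i) i) 3157 3157 = true := by decide +kernel
theorem c_act105_2 : allRange (fun i => Nat.beq (actR105 i) i) 6314 3157 = true := by decide +kernel
theorem c_act105_3 : allRange (fun i => Nat.beq (actR105 i) i) 9471 3157 = true := by decide +kernel
theorem c_act105_4 : allRange (fun i => Nat.beq (actR105 i) i) 12628 3157 = true := by decide +kernel
theorem c_act105_5 : allRange (fun i => Nat.beq (actR105 i) i) 15785 3157 = true := by decide +kernel
theorem c_act105_6 : allRange (fun i => Nat.beq (actR105 i) i) 18942 3157 = true := by decide +kernel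
theorem c_act105_7 : allRange (fun i => Nat.beq (actR105 i) i) 22099 3157 = true := by decide +kernel
theorem c_act105_8 : allRange (fun i => Nat.beq (actR105 i) i) 25256 3157 = true := by decide +kernel
theorem c_act105_9 : allRange (fun i => Nat.beq (actR105 i) i) 28413 3157 = true := by decide +kernel
theorem c_act105_10 : allRange (fun i => Nat.beq (actR105 i) i) 31570 3157 = true := by decide +kernel
theorem c_act105_11 : allRange (fun i => Nat.beq (actR105 i) i) 34727 3157 = true := by decide +kernel

end Cfsg.Agent.Lib.Helper4.TCD.SC3McLp3A
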