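import Cfsg.Agent.Lib.Helper4.TCD_SC3McLp3A_Acc

namespace Cfsg.Agent.Lib.Helper4.TCD.SC3McLp3A

open Cfsg.Agent.Lib.Helper4.TC

set_option maxRecDepth 100000
set_option Elab.async false

theorem c_act107_19 : allRange (fun i => Nat.beq (actR107 i) i) 59983 3157 = true := by decide +kernel
theorem c_act107_20 : allRange (fun i => Nat.beq (actR107 i) i) 63140 3157 = true := by decide +kernel
theorem c_act107_21 : allRange (fun i => Nat.beq (actR107 i) i) 66297 528 = true := by decide +kernel
theorem c_act108_0 : allRange (fun i => Nat.beq (actR108 i) i) 0 3157 = true := by decide +kernel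
theorem c_act108_1 : allRange (fun i => Nat.beq (actR108 i) i) 3157 3157 = true := by decide +kernel
theorem c_act108_2 : allRange (fun i => Nat.beq (actR108 i) i) 6314 3157 = true := by decide +kernel
theorem c_act108_3 : allRange (fun i => Nat.beq (actR108 i) i) 9471 3157 = true := by decide +kernel
theorem c_act108_4 : allRange (fun i => Nat.beq (actR108 i) i) 12628 3157 = true := by decide +kernel
theorem c_act108_5 : allRange (fun i => Nat.beq (actR108 i) i) 15785 3157 = true := by decide +kernel
theorem c_act108_6 : allRange (fun i => Nat.beq (actR108 i) i) 18942 3157 = true := by decide +kernel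
theorem c_act108_7 : allRange (fun i => Nat.beq (actR108 i) i) 22099 3157 = true := by decide +kernel
theorem c_act108_8 : allRange (fun i => Nat.beq (actR108 i) i) 25256 3157 = true := by decide +kernel
theorem c_act108_9 : allRange (fun i => Nat.beq (actR108 i) i) 28413 3157 = true := by decide +kernel
theorem c_act108_10 : allRange (fun i => Nat.beq (actR108 i) i) 31570 3157 = true := by decide +kernel
theorem c_act108_11 : allRange (fun i => Nat.beq (actR108 i) i) 34727 3157 = true := by decide +kernel
theorem c_act108_12 : allRange (fun i => Nat.beq (actR108 i) i) 37884 3157 = true := by decide +kernel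
theorem c_act108_13 : allRange (fun i => Nat.beq (actR108 i) i) 41041 3157 = true := by decide +kernel
theorem c_act108_14 : allRange (fun i => Nat.beq (actR108 i) i) 44198 3157 = true := by decide +kernel
theorem c_act108_15 : allRange (fun i => Nat.beq (actR108 i) i) 47355 3157 = true := by decide +kernel
theorem c_act108_16 : allRange (fun i => Nat.beq (actR108 i) i) 50512 3157 = true := by decide +kernel
theorem c_act108_17 : allRange (fun i => Nat.beq (actR108 i) i) 53669 3157 = true := by decide +kernel
theorem c_act108_18 : allRange (fun i => Nat.beq (actR108 i) i) 56826 3157 = true := by decide +kernel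
theorem c_act108_19 : allRange (fun i => Nat.beq (actR108 i) i) 59983 3157 = true := by decide +kernel
theorem c_act108_20 : allRange (fun i => Nat.beq (actR108 i) i) 63140 3157 = true := by decide +kernel
theorem c_act108_21 : allRange (fun i => Nat.beq (actR108 i) i) 66297 528 = true := by decide +kernel
theorem c_act109_0 : allRange (fun i => Nat.beq (actR109 i) i) 0 3157 = true := by decide +kernel
theorem c_act109_1 : allRange (fun i => Nat.beq (actR109 i) i) 3157 3157 = true := by decide +kernel
theorem c_act109_2 : allRange (fun i => Nat.beq (actR109 i) i) 6314 3157 = true := by decide +kernel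
theorem c_act109_3 : allRange (fun i => Nat.beq (actR109 i) i) 9471 3157 = true := by decide +kernel
theorem c_act109_4 : allRange (fun i => Nat.beq (actR109 i) i) 12628 3157 = true := by decide +kernel
theorem c_act109_5 : allRange (fun i => Nat.beq (actR109 i) i) 15785 3157 = true := by decide +kernel
theorem c_act109_6 : allRange (fun i => Nat.beq (actR109 i) i) 18942 3157 = true := by decide +kernel
theorem c_act109_7 : allRange (fun i => Nat.beq (actR109 i) i) 22099 3157 = true := by decide +kernel
theorem c_act109_8 : allRange (fun i => Nat.beq (actR109 i) i) 25256 3157 = true := by decide +kernel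
theorem c_act109_9 : allRange (fun i => Nat.beq (actR109 i) i) 28413 3157 = true := by decide +kernel
theorem c_act109_10 : allRange (fun i => Nat.beq (actR109 i) i) 31570 3157 = true := by decide +kernel
theorem c_act109_11 : allRange (fun i => Nat.beq (actR109 i) i) 34727 3157 = true := by decide +kernel
theorem c_act109_12 : allRange (fun i => Nat.beq (actR109 i) i) 37884 3157 = true := by decide +kernel
theorem c_act109_13 : allRange (fun i => Nat.beq (actR109 i) i) 41041 3157 = true := by decide +kernel
theorem c_act109_14 : allRange (fun i => Nat.beq (actR109 i) i) 44198 3157 = true := by decide +kernel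
theorem c_act109_15 : allRange (fun i => Nat.beq (actR109 i) i) 47355 3157 = true := by decide +kernel
theorem c_act109_16 : allRange (fun i => Nat.beq (actR109 i) i) 50512 3157 = true := by decide +kernel
theorem c_act109_17 : allRange (fun i => Nat.beq (actR109 i) i) 53669 3157 = true := by decide +kernel
theorem c_act109_18 : allRange (fun i => Nat.beq (actR109 i) i) 56826 3157 = true := by decide +kernel
theorem c_act109_19 : allRange (fun i => Nat.beq (actR109 i) i) 59983 3157 = true := by decide +kernel
theorem c_act109_20 : allRange (fun i => Nat.beq (actR109 i) i) 63140 3157 = true := by decide +kernel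
theorem c_act109_21 : allRange (fun i => Nat.beq (actR109 i) i) 66297 528 = true := by decide +kernel
theorem c_act110_0 : allRange (fun i => Nat.beq (actR110 i) i) 0 3157 = true := by decide +kernel
theorem c_act110_1 : allRange (fun i => Nat.beq (actR110 i) i) 3157 3157 = true := by decide +kernel
theorem c_act110_2 : allRange (fun i => Nat.beq (actR110 i) i) 6314 3157 = true := by decide +kernel
theorem c_act110_3 : allRange (fun i => Nat.beq (actR110 i) i) 9471 3157 = true := by decide +kernel
theorem c_act110_4 : allRange (fun i => Nat.beq (actR110 i) i) 12628 3157 = true := by decide +kernel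

end Cfsg.Agent.Lib.Helper4.TCD.SC3McLp3A
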