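import Cfsg.Agent.Lib.Helper4.TCD_SC3McLp3A_Acc

namespace Cfsg.Agent.Lib.Helper4.TCD.SC3McLp3A

open Cfsg.Agent.Lib.Helper4.TC

set_option maxRecDepth 100000
set_option Elab.async false

theorem c_rel_360 : allRange D.relOK 1347782 2566 = true := by decide +kernel
theorem c_rel_361 : allRange D.relOK 1350348 2354 = true := by decide +kernel
theorem c_rel_362 : allRange D.relOK 1352702 2356 = true := by decide +kernel
theorem c_rel_363 : allRange D.relOK 1355058 2385 = true := by decide +kernel
theorem c_rel_364 : allRange D.relOK 1357443 2502 = true := by decide +kernel
theorem c_rel_365 : allRange D.relOK 1359945 2344 = true := by decide +kernel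
theorem c_rel_366 : allRange D.relOK 1362289 2485 = true := by decide +kernel
theorem c_rel_367 : allRange D.relOK 1364774 2372 = true := by decide +kernel
theorem c_rel_368 : allRange D.relOK 1367146 2477 = true := by decide +kernel
theorem c_rel_369 : allRange D.relOK 1369623 2364 = true := by decide +kernel
theorem c_rel_370 : allRange D.relOK 1371987 2288 = true := by decide +kernel
theorem c_rel_371 : allRange D.relOK 1374275 2400 = true := by decide +kernel
theorem c_rel_372 : allRange D.relOK 1376675 2350 = true := by decide +kernel
theorem c_rel_373 : allRange D.relOK 1379025 2301 = true := by decide +kernel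
theorem c_rel_374 : allRange D.relOK 1381326 2458 = true := by decide +kernel
theorem c_rel_375 : allRange D.relOK 1383784 2358 = true := by decide +kernel
theorem c_rel_376 : allRange D.relOK 1386142 2292 = true := by decide +kernel
theorem c_rel_377 : allRange D.relOK 1388434 2421 = true := by decide +kernel
theorem c_rel_378 : allRange D.relOK 1390855 2365 = true := by decide +kernel
theorem c_rel_379 : allRange D.relOK 1393220 2391 = true := by decide +kernel
theorem c_rel_380 : allRange D.relOK 1395611 2396 = true := by decide +kernel
theorem c_rel_381 : allRange D.relOK 1398007 2461 = true := by decide +kernel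
theorem c_rel_382 : allRange D.relOK 1400468 2325 = true := by decide +kernel
theorem c_rel_383 : allRange D.relOK 1402793 2410 = true := by decide +kernel
theorem c_rel_384 : allRange D.relOK 1405203 2506 = true := by decide +kernel
theorem c_rel_385 : allRange D.relOK 1407709 2517 = true := by decide +kernel
theorem c_rel_386 : allRange D.relOK 1410226 3326 = true := by decide +kernel
theorem c_rel_387 : allRange D.relOK 1413552 3300 = true := by decide +kernel
theorem c_rel_388 : allRange D.relOK 1416852 3304 = true := by decide +kernel
theorem c_rel_389 : allRange D.relOK 1420156 3250 = true := by decide +kernel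
theorem c_rel_390 : allRange D.relOK 1423406 3258 = true := by decide +kernel
theorem c_rel_391 : allRange D.relOK 1426664 3243 = true := by decide +kernel
theorem c_rel_392 : allRange D.relOK 1429907 3237 = true := by decide +kernel
theorem c_rel_393 : allRange D.relOK 1433144 3224 = true := by decide +kernel
theorem c_rel_394 : allRange D.relOK 1436368 3220 = true := by decide +kernel
theorem c_rel_395 : allRange D.relOK 1439588 3212 = true := by decide +kernel
theorem c_rel_396 : allRange D.relOK 1442800 3212 = true := by decide +kernel
theorem c_rel_397 : allRange D.relOK 1446012 3211 = true := by decide +kernel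
theorem c_rel_398 : allRange D.relOK 1449223 3237 = true := by decide +kernel
theorem c_rel_399 : allRange D.relOK 1452460 3404 = true := by decide +kernel
theorem c_rel_400 : allRange D.relOK 1455864 3145 = true := by decide +kernel
theorem c_rel_401 : allRange D.relOK 1459009 2725 = true := by decide +kernel
theorem c_rel_402 : allRange D.relOK 1461734 2006 = true := by decide +kernel
theorem c_rel_403 : allRange D.relOK 1463740 2004 = true := by decide +kernel
theorem c_rel_404 : allRange D.relOK 1465744 2541 = true := by decide +kernel
theorem c_rel_405 : allRange D.relOK 1468285 2580 = true := by decide +kernel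
theorem c_rel_406 : allRange D.relOK 1470865 2045 = true := by decide +kernel
theorem c_rel_407 : allRange D.relOK 1472910 2151 = true := by decide +kernel
theorem c_rel_408 : allRange D.relOK 1475061 2437 = true := by decide +kernel
theorem c_rel_409 : allRange D.relOK 1477498 1256 = true := by decide +kernel
theorem c_rel_410 : allRange D.relOK 1478754 1506 = true := by decide +kernel
theorem c_rel_411 : allRange D.relOK 1480260 1547 = true := by decide +kernel
theorem c_rel_412 : allRange D.relOK 1481807 2727 = true := by decide +kernel
theorem c_rel_413 : allRange D.relOK 1484534 2077 = true := by decide +kernel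
theorem c_rel_414 : allRange D.relOK 1486611 2505 = true := by decide +kernel
theorem c_rel_415 : allRange D.relOK 1489116 2367 = true := by decide +kernel
theorem c_rel_416 : allRange D.relOK 1491483 2172 = true := by decide +kernel
theorem c_rel_417 : allRange D.relOK 1493655 2563 = true := by decide +kernel
theorem c_rel_418 : allRange D.relOK 1496218 2482 = true := by decide +kernel
theorem c_rel_419 : allRange D.relOK 1498700 2767 = true := by decide +kernel
theorem c_rel_420 : allRange D.relOK 1501467 2413 = true := by decide +kernel
theorem c_rel_421 : allRange D.relOK 1503880 2334 = true := by decide +kernel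
theorem c_rel_422 : allRange D.relOK 1506214 2903 = true := by decide +kernel
theorem c_rel_423 : allRange D.relOK 1509117 2384 = true := by decide +kernel
theorem c_rel_424 : allRange D.relOK 1511501 1696 = true := by decide +kernel
theorem c_rel_425 : allRange D.relOK 1513197 2024 = true := by decide +kernel
theorem c_rel_426 : allRange D.relOK 1515221 2183 = true := by decide +kernel
theorem c_rel_427 : allRange D.relOK 1517404 1997 = true := by decide +kernel
theorem c_rel_428 : allRange D.relOK 1519401 2173 = true := by decide +kernel
theorem c_rel_429 : allRange D.relOK 1521574 2330 = true := by decide +kernel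
theorem c_rel_430 : allRange D.relOK 1523904 1513 = true := by decide +kernel
theorem c_rel_431 : allRange D.relOK 1525417 1741 = true := by decide +kernel
theorem c_rel_432 : allRange D.relOK 1527158 2772 = true := by decide +kernel
theorem c_rel_433 : allRange D.relOK 1529930 2177 = true := by decide +kernel
theorem c_rel_434 : allRange D.relOK 1532107 1381 = true := by decide +kernel
theorem c_rel_435 : allRange D.relOK 1533488 1962 = true := by decide +kernel
theorem c_rel_436 : allRange D.relOK 1535450 2240 = true := by decide +kernel
theorem c_rel_437 : allRange D.relOK 1537690 2865 = true := by decide +kernel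
theorem c_rel_438 : allRange D.relOK 1540555 1989 = true := by decide +kernel
theorem c_rel_439 : allRange D.relOK 1542544 1784 = true := by decide +kernel
theorem c_rel_440 : allRange D.relOK 1544328 2043 = true := by decide +kernel
theorem c_rel_441 : allRange D.relOK 1546371 2907 = true := by decide +kernel
theorem c_rel_442 : allRange D.relOK 1549278 2316 = true := by decide +kernel
theorem c_rel_443 : allRange D.relOK 1551594 3017 = true := by decide +kernel
theorem c_rel_444 : allRange D.relOK 1554611 1951 = true := by decide +kernel
theorem c_rel_445 : allRange D.relOK 1556562 2040 = true := by decide +kernel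
theorem c_rel_446 : allRange D.relOK 1558602 2182 = true := by decide +kernel
theorem c_rel_447 : allRange D.relOK 1560784 2442 = true := by decide +kernel
theorem c_rel_448 : allRange D.relOK 1563226 1442 = true := by decide +kernel
theorem c_rel_449 : allRange D.relOK 1564668 2007 = true := by decide +kernel
theorem c_rel_450 : allRange D.relOK 1566675 2930 = true := by decide +kernel
theorem c_rel_451 : allRange D.relOK 1569605 2224 = true := by decide +kernel
theorem c_rel_452 : allRange D.relOK 1571829 2322 = true := by decide +kernel
theorem c_rel_453 : allRange D.relOK 1574151 1948 = true := by decide +kernel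
theorem c_rel_454 : allRange D.relOK 1576099 2280 = true := by decide +kernel
theorem c_rel_455 : allRange D.relOK 1578379 2503 = true := by decide +kernel
theorem c_rel_456 : allRange D.relOK 1580882 2416 = true := by decide +kernel
theorem c_rel_457 : allRange D.relOK 1583298 1554 = true := by decide +kernel
theorem c_rel_458 : allRange D.relOK 1584852 2407 = true := by decide +kernel

end Cfsg.Agent.Lib.Helper4.TCD.SC3McLp3A
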