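import Cfsg.Agent.Lib.Helper4.TCD_SC3McLp3A_Acc

namespace Cfsg.Agent.Lib.Helper4.TCD.SC3McLp3A

open Cfsg.Agent.Lib.Helper4.TC

set_option maxRecDepth 100000
set_option Elab.async false

theorem c_rel_459 : allRange D.relOK 1587259 1978 = true := by decide +kernel
theorem c_rel_460 : allRange D.relOK 1589237 2023 = true := by decide +kernel
theorem c_rel_461 : allRange D.relOK 1591260 2044 = true := by decide +kernel
theorem c_rel_462 : allRange D.relOK 1593304 1915 = true := by decide +kernel
theorem c_rel_463 : allRange D.relOK 1595219 1982 = true := by decide +kernel
theorem c_rel_464 : allRange D.relOK 1597201 2115 = true := by decide +kernel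
theorem c_rel_465 : allRange D.relOK 1599316 1817 = true := by decide +kernel
theorem c_rel_466 : allRange D.relOK 1601133 1773 = true := by decide +kernel
theorem c_rel_467 : allRange D.relOK 1602906 1381 = true := by decide +kernel
theorem c_rel_468 : allRange D.relOK 1604287 1490 = true := by decide +kernel
theorem c_rel_469 : allRange D.relOK 1605777 1726 = true := by decide +kernel
theorem c_rel_470 : allRange D.relOK 1607503 1533 = true := by decide +kernel
theorem c_rel_471 : allRange D.relOK 1609036 1481 = true := by decide +kernel
theorem c_rel_472 : allRange D.relOK 1610517 1247 = true := by decide +kernel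
theorem c_rel_473 : allRange D.relOK 1611764 1759 = true := by decide +kernel
theorem c_rel_474 : allRange D.relOK 1613523 1616 = true := by decide +kernel
theorem c_rel_475 : allRange D.relOK 1615139 1435 = true := by decide +kernel
theorem c_rel_476 : allRange D.relOK 1616574 1267 = true := by decide +kernel
theorem c_rel_477 : allRange D.relOK 1617841 1369 = true := by decide +kernel
theorem c_rel_478 : allRange D.relOK 1619210 1344 = true := by decide +kernel
theorem c_rel_479 : allRange D.relOK 1620554 1282 = true := by decide +kernel
theorem c_rel_480 : allRange D.relOK 1621836 1277 = true := by decide +kernel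
theorem c_rel_481 : allRange D.relOK 1623113 1144 = true := by decide +kernel
theorem c_rel_482 : allRange D.relOK 1624257 1104 = true := by decide +kernel
theorem c_rel_483 : allRange D.relOK 1625361 1325 = true := by decide +kernel
theorem c_rel_484 : allRange D.relOK 1626686 1269 = true := by decide +kernel
theorem c_rel_485 : allRange D.relOK 1627955 942 = true := by decide +kernel
theorem c_rel_486 : allRange D.relOK 1628897 1297 = true := by decide +kernel
theorem c_rel_487 : allRange D.relOK 1630194 1401 = true := by decide +kernel
theorem c_rel_488 : allRange D.relOK 1631595 1111 = true := by decide +kernel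
theorem c_rel_489 : allRange D.relOK 1632706 1204 = true := by decide +kernel
theorem c_rel_490 : allRange D.relOK 1633910 1167 = true := by decide +kernel
theorem c_rel_491 : allRange D.relOK 1635077 1139 = true := by decide +kernel
theorem c_rel_492 : allRange D.relOK 1636216 1076 = true := by decide +kernel
theorem c_rel_493 : allRange D.relOK 1637292 1261 = true := by decide +kernel
theorem c_rel_494 : allRange D.relOK 1638553 1422 = true := by decide +kernel
theorem c_rel_495 : allRange D.relOK 1639975 1261 = true := by decide +kernel
theorem c_rel_496 : allRange D.relOK 1641236 1381 = true := by decide +kernel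
theorem c_rel_497 : allRange D.relOK 1642617 1023 = true := by decide +kernel
theorem c_rel_498 : allRange D.relOK 1643640 1408 = true := by decide +kernel
theorem c_rel_499 : allRange D.relOK 1645048 1265 = true := by decide +kernel
theorem c_rel_500 : allRange D.relOK 1646313 1210 = true := by decide +kernel
theorem c_rel_501 : allRange D.relOK 1647523 1216 = true := by decide +kernel
theorem c_rel_502 : allRange D.relOK 1648739 1092 = true := by decide +kernel
theorem c_rel_503 : allRange D.relOK 1649831 1183 = true := by decide +kernel
theorem c_rel_504 : allRange D.relOK 1651014 1194 = true := by decide +kernel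
theorem c_rel_505 : allRange D.relOK 1652208 1157 = true := by decide +kernel
theorem c_rel_506 : allRange D.relOK 1653365 1120 = true := by decide +kernel
theorem c_rel_507 : allRange D.relOK 1654485 1068 = true := by decide +kernel
theorem c_rel_508 : allRange D.relOK 1655553 1264 = true := by decide +kernel
theorem c_rel_509 : allRange D.relOK 1656817 1047 = true := by decide +kernel
theorem c_rel_510 : allRange D.relOK 1657864 1155 = true := by decide +kernel
theorem c_rel_511 : allRange D.relOK 1659019 1024 = true := by decide +kernel
theorem c_rel_512 : allRange D.relOK 1660043 1022 = true := by decide +kernel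
theorem c_rel_513 : allRange D.relOK 1661065 993 = true := by decide +kernel
theorem c_rel_514 : allRange D.relOK 1662058 971 = true := by decide +kernel
theorem c_rel_515 : allRange D.relOK 1663029 941 = true := by decide +kernel
theorem c_rel_516 : allRange D.relOK 1663970 928 = true := by decide +kernel
theorem c_rel_517 : allRange D.relOK 1664898 1018 = true := by decide +kernel
theorem c_rel_518 : allRange D.relOK 1665916 982 = true := by decide +kernel
theorem c_rel_519 : allRange D.relOK 1666898 952 = true := by decide +kernel
theorem c_rel_520 : allRange D.relOK 1667850 911 = true := by decide +kernel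
theorem c_rel_521 : allRange D.relOK 1668761 932 = true := by decide +kernel
theorem c_rel_522 : allRange D.relOK 1669693 913 = true := by decide +kernel
theorem c_rel_523 : allRange D.relOK 1670606 914 = true := by decide +kernel
theorem c_rel_524 : allRange D.relOK 1671520 991 = true := by decide +kernel
theorem c_rel_525 : allRange D.relOK 1672511 986 = true := by decide +kernel
theorem c_rel_526 : allRange D.relOK 1673497 942 = true := by decide +kernel
theorem c_rel_527 : allRange D.relOK 1674439 872 = true := by decide +kernel
theorem c_rel_528 : allRange D.relOK 1675311 1022 = true := by decide +kernel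
theorem c_rel_529 : allRange D.relOK 1676333 971 = true := by decide +kernel
theorem c_rel_530 : allRange D.relOK 1677304 950 = true := by decide +kernel
theorem c_rel_531 : allRange D.relOK 1678254 991 = true := by decide +kernel
theorem c_rel_532 : allRange D.relOK 1679245 1090 = true := by decide +kernel
theorem c_rel_533 : allRange D.relOK 1680335 1059 = true := by decide +kernel
theorem c_rel_534 : allRange D.relOK 1681394 1091 = true := by decide +kernel
theorem c_rel_535 : allRange D.relOK 1682485 1052 = true := by decide +kernel
theorem c_rel_536 : allRange D.relOK 1683537 1134 = true := by decide +kernel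
theorem c_rel_537 : allRange D.relOK 1684671 1197 = true := by decide +kernel
theorem c_rel_538 : allRange D.relOK 1685868 1316 = true := by decide +kernel
theorem c_rel_539 : allRange D.relOK 1687184 1368 = true := by decide +kernel
theorem c_rel_540 : allRange D.relOK 1688552 1515 = true := by decide +kernel
theorem c_rel_541 : allRange D.relOK 1690067 1673 = true := by decide +kernel
theorem c_rel_542 : allRange D.relOK 1691740 1613 = true := by decide +kernel
theorem c_rel_543 : allRange D.relOK 1693353 1772 = true := by decide +kernel
theorem c_rel_544 : allRange D.relOK 1695125 1799 = true := by decide +kernel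
theorem c_rel_545 : allRange D.relOK 1696924 1837 = true := by decide +kernel
theorem c_rel_546 : allRange D.relOK 1698761 1889 = true := by decide +kernel
theorem c_rel_547 : allRange D.relOK 1700650 2015 = true := by decide +kernel
theorem c_rel_548 : allRange D.relOK 1702665 2177 = true := by decide +kernel
theorem c_rel_549 : allRange D.relOK 1704842 2312 = true := by decide +kernel
theorem c_rel_550 : allRange D.relOK 1707154 2436 = true := by decide +kernel
theorem c_rel_551 : allRange D.relOK 1709590 2601 = true := by decide +kernel
theorem c_rel_552 : allRange D.relOK 1712191 2625 = true := by decide +kernel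
theorem c_rel_553 : allRange D.relOK 1714816 2720 = true := by decide +kernel
theorem c_rel_554 : allRange D.relOK 1717536 2642 = true := by decide +kernel
theorem c_rel_555 : allRange D.relOK 1720178 2482 = true := by decide +kernel
theorem c_rel_556 : allRange D.relOK 1722660 2748 = true := by decide +kernel
theorem c_rel_557 : allRange D.relOK 1725408 2577 = true := by decide +kernel

end Cfsg.Agent.Lib.Helper4.TCD.SC3McLp3A
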