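import Cfsg.Agent.Lib.Helper4.TCD_SC3McLp3A_Acc

namespace Cfsg.Agent.Lib.Helper4.TCD.SC3McLp3A

open Cfsg.Agent.Lib.Helper4.TC

set_option maxRecDepth 100000
set_option Elab.async false

theorem c_rel_558 : allRange D.relOK 1727985 2421 = true := by decide +kernel
theorem c_rel_559 : allRange D.relOK 1730406 2501 = true := by decide +kernel
theorem c_rel_560 : allRange D.relOK 1732907 2555 = true := by decide +kernel
theorem c_rel_561 : allRange D.relOK 1735462 2427 = true := by decide +kernel
theorem c_rel_562 : allRange D.relOK 1737889 2087 = true := by decide +kernel
theorem c_rel_563 : allRange D.relOK 1739976 1639 = true := by decide +kernel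
theorem c_rel_564 : allRange D.relOK 1741615 1567 = true := by decide +kernel
theorem c_rel_565 : allRange D.relOK 1743182 1595 = true := by decide +kernel
theorem c_rel_566 : allRange D.relOK 1744777 1583 = true := by decide +kernel
theorem c_rel_567 : allRange D.relOK 1746360 1542 = true := by decide +kernel
theorem c_rel_568 : allRange D.relOK 1747902 1591 = true := by decide +kernel
theorem c_rel_569 : allRange D.relOK 1749493 1582 = true := by decide +kernel
theorem c_rel_570 : allRange D.relOK 1751075 1597 = true := by decide +kernel
theorem c_rel_571 : allRange D.relOK 1752672 1556 = true := by decide +kernel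
theorem c_rel_572 : allRange D.relOK 1754228 1568 = true := by decide +kernel
theorem c_rel_573 : allRange D.relOK 1755796 1621 = true := by decide +kernel
theorem c_rel_574 : allRange D.relOK 1757417 1560 = true := by decide +kernel
theorem c_rel_575 : allRange D.relOK 1758977 1541 = true := by decide +kernel
theorem c_rel_576 : allRange D.relOK 1760518 1554 = true := by decide +kernel
theorem c_rel_577 : allRange D.relOK 1762072 1624 = true := by decide +kernel
theorem c_rel_578 : allRange D.relOK 1763696 1668 = true := by decide +kernel
theorem c_rel_579 : allRange D.relOK 1765364 1569 = true := by decide +kernel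
theorem c_rel_580 : allRange D.relOK 1766933 1547 = true := by decide +kernel
theorem c_rel_581 : allRange D.relOK 1768480 1553 = true := by decide +kernel
theorem c_rel_582 : allRange D.relOK 1770033 1516 = true := by decide +kernel
theorem c_rel_583 : allRange D.relOK 1771549 1571 = true := by decide +kernel
theorem c_rel_584 : allRange D.relOK 1773120 1511 = true := by decide +kernel
theorem c_rel_585 : allRange D.relOK 1774631 1512 = true := by decide +kernel
theorem c_rel_586 : allRange D.relOK 1776143 1506 = true := by decide +kernel
theorem c_rel_587 : allRange D.relOK 1777649 1543 = true := by decide +kernel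
theorem c_rel_588 : allRange D.relOK 1779192 1529 = true := by decide +kernel
theorem c_rel_589 : allRange D.relOK 1780721 1533 = true := by decide +kernel
theorem c_rel_590 : allRange D.relOK 1782254 1573 = true := by decide +kernel
theorem c_rel_591 : allRange D.relOK 1783827 1511 = true := by decide +kernel
theorem c_rel_592 : allRange D.relOK 1785338 1459 = true := by decide +kernel
theorem c_rel_593 : allRange D.relOK 1786797 1434 = true := by decide +kernel
theorem c_rel_594 : allRange D.relOK 1788231 1506 = true := by decide +kernel
theorem c_rel_595 : allRange D.relOK 1789737 1481 = true := by decide +kernel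
theorem c_rel_596 : allRange D.relOK 1791218 1502 = true := by decide +kernel
theorem c_rel_597 : allRange D.relOK 1792720 1510 = true := by decide +kernel
theorem c_rel_598 : allRange D.relOK 1794230 1507 = true := by decide +kernel
theorem c_rel_599 : allRange D.relOK 1795737 1480 = true := by decide +kernel
theorem c_rel_600 : allRange D.relOK 1797217 1498 = true := by decide +kernel
theorem c_rel_601 : allRange D.relOK 1798715 1440 = true := by decide +kernel
theorem c_rel_602 : allRange D.relOK 1800155 1532 = true := by decide +kernel
theorem c_rel_603 : allRange D.relOK 1801687 1459 = true := by decide +kernel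
theorem c_rel_604 : allRange D.relOK 1803146 1469 = true := by decide +kernel
theorem c_rel_605 : allRange D.relOK 1804615 1489 = true := by decide +kernel
theorem c_rel_606 : allRange D.relOK 1806104 1363 = true := by decide +kernel
theorem c_rel_607 : allRange D.relOK 1807467 1445 = true := by decide +kernel
theorem c_rel_608 : allRange D.relOK 1808912 1452 = true := by decide +kernel
theorem c_rel_609 : allRange D.relOK 1810364 1418 = true := by decide +kernel
theorem c_rel_610 : allRange D.relOK 1811782 1432 = true := by decide +kernel
theorem c_rel_611 : allRange D.relOK 1813214 1449 = true := by decide +kernel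
theorem c_rel_612 : allRange D.relOK 1814663 1381 = true := by decide +kernel
theorem c_rel_613 : allRange D.relOK 1816044 1402 = true := by decide +kernel
theorem c_rel_614 : allRange D.relOK 1817446 1451 = true := by decide +kernel
theorem c_rel_615 : allRange D.relOK 1818897 1420 = true := by decide +kernel
theorem c_rel_616 : allRange D.relOK 1820317 1402 = true := by decide +kernel
theorem c_rel_617 : allRange D.relOK 1821719 1395 = true := by decide +kernel
theorem c_rel_618 : allRange D.relOK 1823114 1360 = true := by decide +kernel
theorem c_rel_619 : allRange D.relOK 1824474 1369 = true := by decide +kernel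
theorem c_rel_620 : allRange D.relOK 1825843 1358 = true := by decide +kernel
theorem c_rel_621 : allRange D.relOK 1827201 1817 = true := by decide +kernel
theorem c_rel_622 : allRange D.relOK 1829018 4576 = true := by decide +kernel
theorem c_rel_623 : allRange D.relOK 1833594 4636 = true := by decide +kernel
theorem c_rel_624 : allRange D.relOK 1838230 4601 = true := by decide +kernel
theorem c_rel_625 : allRange D.relOK 1842831 4534 = true := by decide +kernel
theorem c_rel_626 : allRange D.relOK 1847365 4500 = true := by decide +kernel
theorem c_rel_627 : allRange D.relOK 1851865 4613 = true := by decide +kernel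
theorem c_rel_628 : allRange D.relOK 1856478 4555 = true := by decide +kernel
theorem c_rel_629 : allRange D.relOK 1861033 4526 = true := by decide +kernel
theorem c_rel_630 : allRange D.relOK 1865559 4606 = true := by decide +kernel
theorem c_rel_631 : allRange D.relOK 1870165 4537 = true := by decide +kernel
theorem c_rel_632 : allRange D.relOK 1874702 4540 = true := by decide +kernel
theorem c_rel_633 : allRange D.relOK 1879242 4504 = true := by decide +kernel
theorem c_rel_634 : allRange D.relOK 1883746 4571 = true := by decide +kernel
theorem c_rel_635 : allRange D.relOK 1888317 4442 = true := by decide +kernel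
theorem c_rel_636 : allRange D.relOK 1892759 4570 = true := by decide +kernel
theorem c_rel_637 : allRange D.relOK 1897329 4502 = true := by decide +kernel
theorem c_rel_638 : allRange D.relOK 1901831 4481 = true := by decide +kernel
theorem c_rel_639 : allRange D.relOK 1906312 4458 = true := by decide +kernel
theorem c_rel_640 : allRange D.relOK 1910770 4423 = true := by decide +kernel
theorem c_rel_641 : allRange D.relOK 1915193 4431 = true := by decide +kernel
theorem c_rel_642 : allRange D.relOK 1919624 4461 = true := by decide +kernel
theorem c_rel_643 : allRange D.relOK 1924085 4454 = true := by decide +kernel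
theorem c_rel_644 : allRange D.relOK 1928539 4565 = true := by decide +kernel
theorem c_rel_645 : allRange D.relOK 1933104 4526 = true := by decide +kernel
theorem c_rel_646 : allRange D.relOK 1937630 4575 = true := by decide +kernel
theorem c_rel_647 : allRange D.relOK 1942205 4473 = true := by decide +kernel
theorem c_rel_648 : allRange D.relOK 1946678 4516 = true := by decide +kernel
theorem c_rel_649 : allRange D.relOK 1951194 4491 = true := by decide +kernel
theorem c_rel_650 : allRange D.relOK 1955685 4492 = true := by decide +kernel
theorem c_rel_651 : allRange D.relOK 1960177 4482 = true := by decide +kernel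
theorem c_rel_652 : allRange D.relOK 1964659 4416 = true := by decide +kernel
theorem c_rel_653 : allRange D.relOK 1969075 4520 = true := by decide +kernel
theorem c_rel_654 : allRange D.relOK 1973595 4536 = true := by decide +kernel
theorem c_rel_655 : allRange D.relOK 1978131 4522 = true := by decide +kernel
theorem c_rel_656 : allRange D.relOK 1982653 4471 = true := by decide +kernel

end Cfsg.Agent.Lib.Helper4.TCD.SC3McLp3A
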