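import Cfsg.Agent.Lib.Helper4.TCD_SC3McLp3A_Acc

namespace Cfsg.Agent.Lib.Helper4.TCD.SC3McLp3A

open Cfsg.Agent.Lib.Helper4.TC

set_option maxRecDepth 100000
set_option Elab.async false

theorem c_rel_657 : allRange D.relOK 1987124 4492 = true := by decide +kernel
theorem c_rel_658 : allRange D.relOK 1991616 4413 = true := by decide +kernel
theorem c_rel_659 : allRange D.relOK 1996029 4493 = true := by decide +kernel
theorem c_rel_660 : allRange D.relOK 2000522 4469 = true := by decide +kernel
theorem c_rel_661 : allRange D.relOK 2004991 4472 = true := by decide +kernel
theorem c_rel_662 : allRange D.relOK 2009463 4448 = true := by decide +kernel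
theorem c_rel_663 : allRange D.relOK 2013911 4462 = true := by decide +kernel
theorem c_rel_664 : allRange D.relOK 2018373 4506 = true := by decide +kernel
theorem c_rel_665 : allRange D.relOK 2022879 4504 = true := by decide +kernel
theorem c_rel_666 : allRange D.relOK 2027383 4451 = true := by decide +kernel
theorem c_rel_667 : allRange D.relOK 2031834 4448 = true := by decide +kernel
theorem c_rel_668 : allRange D.relOK 2036282 4499 = true := by decide +kernel
theorem c_rel_669 : allRange D.relOK 2040781 4445 = true := by decide +kernel
theorem c_rel_670 : allRange D.relOK 2045226 4475 = true := by decide +kernel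
theorem c_rel_671 : allRange D.relOK 2049701 4376 = true := by decide +kernel
theorem c_rel_672 : allRange D.relOK 2054077 4419 = true := by decide +kernel
theorem c_rel_673 : allRange D.relOK 2058496 4397 = true := by decide +kernel
theorem c_rel_674 : allRange D.relOK 2062893 4461 = true := by decide +kernel
theorem c_rel_675 : allRange D.relOK 2067354 4520 = true := by decide +kernel
theorem c_rel_676 : allRange D.relOK 2071874 4472 = true := by decide +kernel
theorem c_rel_677 : allRange D.relOK 2076346 4431 = true := by decide +kernel
theorem c_rel_678 : allRange D.relOK 2080777 4434 = true := by decide +kernel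
theorem c_rel_679 : allRange D.relOK 2085211 4424 = true := by decide +kernel
theorem c_rel_680 : allRange D.relOK 2089635 4472 = true := by decide +kernel
theorem c_rel_681 : allRange D.relOK 2094107 4472 = true := by decide +kernel
theorem c_rel_682 : allRange D.relOK 2098579 4371 = true := by decide +kernel
theorem c_rel_683 : allRange D.relOK 2102950 4358 = true := by decide +kernel
theorem c_rel_684 : allRange D.relOK 2107308 4376 = true := by decide +kernel
theorem c_rel_685 : allRange D.relOK 2111684 4433 = true := by decide +kernel
theorem c_rel_686 : allRange D.relOK 2116117 4440 = true := by decide +kernel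
theorem c_rel_687 : allRange D.relOK 2120557 4401 = true := by decide +kernel
theorem c_rel_688 : allRange D.relOK 2124958 4440 = true := by decide +kernel
theorem c_rel_689 : allRange D.relOK 2129398 4409 = true := by decide +kernel
theorem c_rel_690 : allRange D.relOK 2133807 4426 = true := by decide +kernel
theorem c_rel_691 : allRange D.relOK 2138233 4396 = true := by decide +kernel
theorem c_rel_692 : allRange D.relOK 2142629 4390 = true := by decide +kernel
theorem c_rel_693 : allRange D.relOK 2147019 4453 = true := by decide +kernel
theorem c_rel_694 : allRange D.relOK 2151472 4449 = true := by decide +kernel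
theorem c_rel_695 : allRange D.relOK 2155921 4465 = true := by decide +kernel
theorem c_rel_696 : allRange D.relOK 2160386 4486 = true := by decide +kernel
theorem c_rel_697 : allRange D.relOK 2164872 4407 = true := by decide +kernel
theorem c_rel_698 : allRange D.relOK 2169279 4410 = true := by decide +kernel
theorem c_rel_699 : allRange D.relOK 2173689 4371 = true := by decide +kernel
theorem c_rel_700 : allRange D.relOK 2178060 4446 = true := by decide +kernel
theorem c_rel_701 : allRange D.relOK 2182506 4433 = true := by decide +kernel
theorem c_rel_702 : allRange D.relOK 2186939 4492 = true := by decide +kernel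
theorem c_rel_703 : allRange D.relOK 2191431 4354 = true := by decide +kernel
theorem c_rel_704 : allRange D.relOK 2195785 4454 = true := by decide +kernel
theorem c_rel_705 : allRange D.relOK 2200239 4435 = true := by decide +kernel
theorem c_rel_706 : allRange D.relOK 2204674 4392 = true := by decide +kernel
theorem c_rel_707 : allRange D.relOK 2209066 4455 = true := by decide +kernel
theorem c_rel_708 : allRange D.relOK 2213521 4390 = true := by decide +kernel
theorem c_rel_709 : allRange D.relOK 2217911 4451 = true := by decide +kernel
theorem c_rel_710 : allRange D.relOK 2222362 4438 = true := by decide +kernel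
theorem c_rel_711 : allRange D.relOK 2226800 4374 = true := by decide +kernel
theorem c_rel_712 : allRange D.relOK 2231174 4405 = true := by decide +kernel
theorem c_rel_713 : allRange D.relOK 2235579 4406 = true := by decide +kernel
theorem c_rel_714 : allRange D.relOK 2239985 4374 = true := by decide +kernel
theorem c_rel_715 : allRange D.relOK 2244359 4346 = true := by decide +kernel
theorem c_rel_716 : allRange D.relOK 2248705 4353 = true := by decide +kernel
theorem c_rel_717 : allRange D.relOK 2253058 4323 = true := by decide +kernel
theorem c_rel_718 : allRange D.relOK 2257381 4358 = true := by decide +kernel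
theorem c_rel_719 : allRange D.relOK 2261739 4401 = true := by decide +kernel
theorem c_rel_720 : allRange D.relOK 2266140 4343 = true := by decide +kernel
theorem c_rel_721 : allRange D.relOK 2270483 4345 = true := by decide +kernel
theorem c_rel_722 : allRange D.relOK 2274828 4378 = true := by decide +kernel
theorem c_rel_723 : allRange D.relOK 2279206 4296 = true := by decide +kernel
theorem c_rel_724 : allRange D.relOK 2283502 1656 = true := by decide +kernel
theorem c_fin_0 : allGrid (T.finOK D) 0 400 30 = true := by decide +kernel
theorem c_fin_1 : allGrid (T.finOK D) 400 400 30 = true := by decide +kernel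
theorem c_fin_2 : allGrid (T.finOK D) 800 400 30 = true := by decide +kernel
theorem c_fin_3 : allGrid (T.finOK D) 1200 400 30 = true := by decide +kernel
theorem c_fin_4 : allGrid (T.finOK D) 1600 400 30 = true := by decide +kernel
theorem c_fin_5 : allGrid (T.finOK D) 2000 400 30 = true := by decide +kernel
theorem c_fin_6 : allGrid (T.finOK D) 2400 400 30 = true := by decide +kernel
theorem c_fin_7 : allGrid (T.finOK D) 2800 400 30 = true := by decide +kernel
theorem c_fin_8 : allGrid (T.finOK D) 3200 400 30 = true := by decide +kernel
theorem c_fin_9 : allGrid (T.finOK D) 3600 400 30 = true := by decide +kernel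
theorem c_fin_10 : allGrid (T.finOK D) 4000 400 30 = true := by decide +kernel
theorem c_fin_11 : allGrid (T.finOK D) 4400 400 30 = true := by decide +kernel
theorem c_fin_12 : allGrid (T.finOK D) 4800 400 30 = true := by decide +kernel
theorem c_fin_13 : allGrid (T.finOK D) 5200 400 30 = true := by decide +kernel
theorem c_fin_14 : allGrid (T.finOK D) 5600 400 30 = true := by decide +kernel
theorem c_fin_15 : allGrid (T.finOK D) 6000 400 30 = true := by decide +kernel

end Cfsg.Agent.Lib.Helper4.TCD.SC3McLp3A
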