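import Cfsg.Agent.Lib.Helper4.TCD_SC3McLp3A_Acc

namespace Cfsg.Agent.Lib.Helper4.TCD.SC3McLp3A

open Cfsg.Agent.Lib.Helper4.TC

set_option maxRecDepth 100000
set_option Elab.async false

theorem c_fin_16 : allGrid (T.finOK D) 6400 400 30 = true := by decide +kernel
theorem c_fin_17 : allGrid (T.finOK D) 6800 400 30 = true := by decide +kernel
theorem c_fin_18 : allGrid (T.finOK D) 7200 400 30 = true := by decide +kernel
theorem c_fin_19 : allGrid (T.finOK D) 7600 400 30 = true := by decide +kernel
theorem c_fin_20 : allGrid (T.finOK D) 8000 400 30 = true := by decide +kernel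
theorem c_fin_21 : allGrid (T.finOK D) 8400 400 30 = true := by decide +kernel
theorem c_fin_22 : allGrid (T.finOK D) 8800 400 30 = true := by decide +kernel
theorem c_fin_23 : allGrid (T.finOK D) 9200 400 30 = true := by decide +kernel
theorem c_fin_24 : allGrid (T.finOK D) 9600 400 30 = true := by decide +kernel
theorem c_fin_25 : allGrid (T.finOK D) 10000 400 30 = true := by decide +kernel
theorem c_fin_26 : allGrid (T.finOK D) 10400 400 30 = true := by decide +kernel
theorem c_fin_27 : allGrid (T.finOK D) 10800 400 30 = true := by decide +kernel
theorem c_fin_28 : allGrid (T.finOK D) 11200 400 30 = true := by decide +kernel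
theorem c_fin_29 : allGrid (T.finOK D) 11600 400 30 = true := by decide +kernel
theorem c_fin_30 : allGrid (T.finOK D) 12000 400 30 = true := by decide +kernel
theorem c_fin_31 : allGrid (T.finOK D) 12400 400 30 = true := by decide +kernel
theorem c_fin_32 : allGrid (T.finOK D) 12800 400 30 = true := by decide +kernel
theorem c_fin_33 : allGrid (T.finOK D) 13200 400 30 = true := by decide +kernel
theorem c_fin_34 : allGrid (T.finOK D) 13600 400 30 = true := by decide +kernel
theorem c_fin_35 : allGrid (T.finOK D) 14000 400 30 = true := by decide +kernel
theorem c_fin_36 : allGrid (T.finOK D) 14400 400 30 = true := by decide +kernel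
theorem c_fin_37 : allGrid (T.finOK D) 14800 400 30 = true := by decide +kernel
theorem c_fin_38 : allGrid (T.finOK D) 15200 400 30 = true := by decide +kernel
theorem c_fin_39 : allGrid (T.finOK D) 15600 400 30 = true := by decide +kernel
theorem c_fin_40 : allGrid (T.finOK D) 16000 400 30 = true := by decide +kernel
theorem c_fin_41 : allGrid (T.finOK D) 16400 400 30 = true := by decide +kernel
theorem c_fin_42 : allGrid (T.finOK D) 16800 400 30 = true := by decide +kernel
theorem c_fin_43 : allGrid (T.finOK D) 17200 400 30 = true := by decide +kernel
theorem c_fin_44 : allGrid (T.finOK D) 17600 400 30 = true := by decide +kernel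
theorem c_fin_45 : allGrid (T.finOK D) 18000 400 30 = true := by decide +kernel
theorem c_fin_46 : allGrid (T.finOK D) 18400 400 30 = true := by decide +kernel
theorem c_fin_47 : allGrid (T.finOK D) 18800 400 30 = true := by decide +kernel
theorem c_fin_48 : allGrid (T.finOK D) 19200 400 30 = true := by decide +kernel
theorem c_fin_49 : allGrid (T.finOK D) 19600 400 30 = true := by decide +kernel
theorem c_fin_50 : allGrid (T.finOK D) 20000 400 30 = true := by decide +kernel
theorem c_fin_51 : allGrid (T.finOK D) 20400 400 30 = true := by decide +kernel
theorem c_fin_52 : allGrid (T.finOK D) 20800 400 30 = true := by decide +kernel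
theorem c_fin_53 : allGrid (T.finOK D) 21200 400 30 = true := by decide +kernel
theorem c_fin_54 : allGrid (T.finOK D) 21600 400 30 = true := by decide +kernel
theorem c_fin_55 : allGrid (T.finOK D) 22000 400 30 = true := by decide +kernel
theorem c_fin_56 : allGrid (T.finOK D) 22400 400 30 = true := by decide +kernel
theorem c_fin_57 : allGrid (T.finOK D) 22800 400 30 = true := by decide +kernel
theorem c_fin_58 : allGrid (T.finOK D) 23200 400 30 = true := by decide +kernel
theorem c_fin_59 : allGrid (T.finOK D) 23600 400 30 = true := by decide +kernel
theorem c_fin_60 : allGrid (T.finOK D) 24000 400 30 = true := by decide +kernel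
theorem c_fin_61 : allGrid (T.finOK D) 24400 400 30 = true := by decide +kernel
theorem c_fin_62 : allGrid (T.finOK D) 24800 400 30 = true := by decide +kernel
theorem c_fin_63 : allGrid (T.finOK D) 25200 400 30 = true := by decide +kernel
theorem c_fin_64 : allGrid (T.finOK D) 25600 400 30 = true := by decide +kernel
theorem c_fin_65 : allGrid (T.finOK D) 26000 400 30 = true := by decide +kernel

end Cfsg.Agent.Lib.Helper4.TCD.SC3McLp3A
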