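import Cfsg.Agent.Lib.Helper4.TCD_SC3McLp3A_Acc

namespace Cfsg.Agent.Lib.Helper4.TCD.SC3McLp3A

open Cfsg.Agent.Lib.Helper4.TC

set_option maxRecDepth 100000
set_option Elab.async false

theorem c_fin_66 : allGrid (T.finOK D) 26400 400 30 = true := by decide +kernel
theorem c_fin_67 : allGrid (T.finOK D) 26800 400 30 = true := by decide +kernel
theorem c_fin_68 : allGrid (T.finOK D) 27200 400 30 = true := by decide +kernel
theorem c_fin_69 : allGrid (T.finOK D) 27600 400 30 = true := by decide +kernel
theorem c_fin_70 : allGrid (T.finOK D) 28000 400 30 = true := by decide +kernel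
theorem c_fin_71 : allGrid (T.finOK D) 28400 400 30 = true := by decide +kernel
theorem c_fin_72 : allGrid (T.finOK D) 28800 400 30 = true := by decide +kernel
theorem c_fin_73 : allGrid (T.finOK D) 29200 400 30 = true := by decide +kernel
theorem c_fin_74 : allGrid (T.finOK D) 29600 400 30 = true := by decide +kernel
theorem c_fin_75 : allGrid (T.finOK D) 30000 400 30 = true := by decide +kernel
theorem c_fin_76 : allGrid (T.finOK D) 30400 400 30 = true := by decide +kernel
theorem c_fin_77 : allGrid (T.finOK D) 30800 400 30 = true := by decide +kernel
theorem c_fin_78 : allGrid (T.finOK D) 31200 400 30 = true := by decide +kernel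
theorem c_fin_79 : allGrid (T.finOK D) 31600 400 30 = true := by decide +kernel
theorem c_fin_80 : allGrid (T.finOK D) 32000 400 30 = true := by decide +kernel
theorem c_fin_81 : allGrid (T.finOK D) 32400 400 30 = true := by decide +kernel
theorem c_fin_82 : allGrid (T.finOK D) 32800 400 30 = true := by decide +kernel
theorem c_fin_83 : allGrid (T.finOK D) 33200 400 30 = true := by decide +kernel
theorem c_fin_84 : allGrid (T.finOK D) 33600 400 30 = true := by decide +kernel
theorem c_fin_85 : allGrid (T.finOK D) 34000 400 30 = true := by decide +kernel
theorem c_fin_86 : allGrid (T.finOK D) 34400 400 30 = true := by decide +kernel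
theorem c_fin_87 : allGrid (T.finOK D) 34800 400 30 = true := by decide +kernel
theorem c_fin_88 : allGrid (T.finOK D) 35200 400 30 = true := by decide +kernel
theorem c_fin_89 : allGrid (T.finOK D) 35600 400 30 = true := by decide +kernel
theorem c_fin_90 : allGrid (T.finOK D) 36000 400 30 = true := by decide +kernel
theorem c_fin_91 : allGrid (T.finOK D) 36400 400 30 = true := by decide +kernel
theorem c_fin_92 : allGrid (T.finOK D) 36800 400 30 = true := by decide +kernel
theorem c_fin_93 : allGrid (T.finOK D) 37200 400 30 = true := by decide +kernel
theorem c_fin_94 : allGrid (T.finOK D) 37600 400 30 = true := by decide +kernel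
theorem c_fin_95 : allGrid (T.finOK D) 38000 400 30 = true := by decide +kernel
theorem c_fin_96 : allGrid (T.finOK D) 38400 400 30 = true := by decide +kernel
theorem c_fin_97 : allGrid (T.finOK D) 38800 400 30 = true := by decide +kernel
theorem c_fin_98 : allGrid (T.finOK D) 39200 400 30 = true := by decide +kernel
theorem c_fin_99 : allGrid (T.finOK D) 39600 400 30 = true := by decide +kernel
theorem c_fin_100 : allGrid (T.finOK D) 40000 400 30 = true := by decide +kernel
theorem c_fin_101 : allGrid (T.finOK D) 40400 400 30 = true := by decide +kernel
theorem c_fin_102 : allGrid (T.finOK D) 40800 400 30 = true := by decide +kernel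
theorem c_fin_103 : allGrid (T.finOK D) 41200 400 30 = true := by decide +kernel
theorem c_fin_104 : allGrid (T.finOK D) 41600 400 30 = true := by decide +kernel
theorem c_fin_105 : allGrid (T.finOK D) 42000 400 30 = true := by decide +kernel
theorem c_fin_106 : allGrid (T.finOK D) 42400 400 30 = true := by decide +kernel
theorem c_fin_107 : allGrid (T.finOK D) 42800 400 30 = true := by decide +kernel
theorem c_fin_108 : allGrid (T.finOK D) 43200 400 30 = true := by decide +kernel
theorem c_fin_109 : allGrid (T.finOK D) 43600 400 30 = true := by decide +kernel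
theorem c_fin_110 : allGrid (T.finOK D) 44000 400 30 = true := by decide +kernel
theorem c_fin_111 : allGrid (T.finOK D) 44400 400 30 = true := by decide +kernel
theorem c_fin_112 : allGrid (T.finOK D) 44800 400 30 = true := by decide +kernel
theorem c_fin_113 : allGrid (T.finOK D) 45200 400 30 = true := by decide +kernel
theorem c_fin_114 : allGrid (T.finOK D) 45600 400 30 = true := by decide +kernel
theorem c_fin_115 : allGrid (T.finOK D) 46000 400 30 = true := by decide +kernel

end Cfsg.Agent.Lib.Helper4.TCD.SC3McLp3A
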