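import Cfsg.Agent.Lib.Helper4.TCD_SC3McLp3A_C0
import Cfsg.Agent.Lib.Helper4.TCD_SC3McLp3A_C1
import Cfsg.Agent.Lib.Helper4.TCD_SC3McLp3A_C2
import Cfsg.Agent.Lib.Helper4.TCD_SC3McLp3A_C3
import Cfsg.Agent.Lib.Helper4.TCD_SC3McLp3A_C4
import Cfsg.Agent.Lib.Helper4.TCD_SC3McLp3A_C5
import Cfsg.Agent.Lib.Helper4.TCD_SC3McLp3A_C6
import Cfsg.Agent.Lib.Helper4.TCD_SC3McLp3A_C7
import Cfsg.Agent.Lib.Helper4.TCD_SC3McLp3A_C8
import Cfsg.Agent.Lib.Helper4.TCD_SC3McLp3A_C9
import Cfsg.Agent.Lib.Helper4.TCD_SC3McLp3A_C10
import Cfsg.Agent.Lib.Helper4.TCD_SC3McLp3A_C11
import Cfsg.Agent.Lib.Helper4.TCD_SC3McLp3A_C12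
import Cfsg.Agent.Lib.Helper4.TCD_SC3McLp3A_C13
import Cfsg.Agent.Lib.Helper4.TCD_SC3McLp3A_C14
import Cfsg.Agent.Lib.Helper4.TCD_SC3McLp3A_C15
import Cfsg.Agent.Lib.Helper4.TCD_SC3McLp3A_C16
import Cfsg.Agent.Lib.Helper4.TCD_SC3McLp3A_C17
import Cfsg.Agent.Lib.Helper4.TCD_SC3McLp3A_C18
import Cfsg.Agent.Lib.Helper4.TCD_SC3McLp3A_C19
import Cfsg.Agent.Lib.Helper4.TCD_SC3McLp3A_C20
import Cfsg.Agent.Lib.Helper4.TCD_SC3McLp3A_C21
import Cfsg.Agent.Lib.Helper4.TCD_SC3McLp3A_C22
import Cfsg.Agent.Lib.Helper4.TCD_SC3McLp3A_C23
import Cfsg.Agent.Lib.Helper4.TCD_SC3McLp3A_C24
import Cfsg.Agent.Lib.Helper4.TCD_SC3McLp3A_C25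
import Cfsg.Agent.Lib.Helper4.TCD_SC3McLp3A_C26
import Cfsg.Agent.Lib.Helper4.TCD_SC3McLp3A_C27
import Cfsg.Agent.Lib.Helper4.TCD_SC3McLp3A_C28
import Cfsg.Agent.Lib.Helper4.TCD_SC3McLp3A_C29
import Cfsg.Agent.Lib.Helper4.TCD_SC3McLp3A_C30
import Cfsg.Agent.Lib.Helper4.TCD_SC3McLp3A_C31
import Cfsg.Agent.Lib.Helper4.TCD_SC3McLp3A_C32
import Cfsg.Agent.Lib.Helper4.TCD_SC3McLp3A_C33
import Cfsg.Agent.Lib.Helper4.TCD_SC3McLp3A_C34
import Cfsg.Agent.Lib.Helper4.TCD_SC3McLp3A_C35

namespace Cfsg.Agent.Lib.Helper4.TCD.SC3McLp3A

open Cfsg.Agent.Lib.Helper4.TC

theorem h_rel_p0 : ∀ t, 191624 ≤ t → t < 324041 → D.relOK t = true :=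
  (range_glue (range_of_allRange c_rel_0) (range_glue (range_of_allRange c_rel_1) (range_glue (range_of_allRange c_rel_2) (range_glue (range_of_allRange c_rel_3) (range_glue (range_of_allRange c_rel_4) (range_glue (range_of_allRange c_rel_5) (range_glue (range_of_allRange c_rel_6) (range_glue (range_of_allRange c_rel_7) (range_glue (range_of_allRange c_rel_8) (range_glue (range_of_allRange c_rel_9) (range_glue (range_of_allRange c_rel_10) (range_glue (range_of_allRange c_rel_11) (range_glue (range_of_allRange c_rel_12) (range_glue (range_of_allRange c_rel_13) (range_glue (range_of_allRange c_rel_14) (range_glue (range_of_allRange c_rel_15) (range_glue (range_of_allRange c_rel_16) (range_glue (range_of_allRange c_rel_17) (range_glue (range_of_allRange c_rel_18) (range_glue (range_of_allRange c_rel_19) (range_glue (range_of_allRange c_rel_20) (range_glue (range_of_allRange c_rel_21) (range_glue (range_of_allRange c_rel_22) (range_glue (range_of_allRange c_rel_23) (range_glue (range_of_allRange c_rel_24) (range_glue (range_of_allRange c_rel_25) (range_glue (range_of_allRange c_rel_26) (range_glue (range_of_allRange c_rel_27) (range_glue (range_of_allRange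 c_rel_28) (range_glue (range_of_allRange c_rel_29) (range_glue (range_of_allRange c_rel_30) (range_glue (range_of_allRange c_rel_31) (range_glue (range_of_allRange c_rel_32) (range_glue (range_of_allRange c_rel_33) (range_glue (range_of_allRange c_rel_34) (range_glue (range_of_allRange c_rel_35) (range_glue (range_of_allRange c_rel_36) (range_glue (range_of_allRange c_rel_37) (range_glue (range_of_allRange c_rel_38) (range_of_allRange c_rel_39))))))))))))))))))))))))))))))))))))))))
theorem h_rel_p1 : ∀ t, 324041 ≤ t → t < 458406 → D.relOK t = true :=
  (range_glue (range_of_allRange c_rel_40) (range_glue (range_of_allRange c_rel_41) (range_glue (range_of_allRange c_rel_42) (range_glue (range_of_allRange c_rel_43) (range_glue (range_of_allRange c_rel_44) (range_glue (range_of_allRange c_rel_45) (range_glue (range_of_allRange c_rel_46) (range_glue (range_of_allRange c_rel_47) (range_glue (range_of_allRange c_rel_48) (range_glue (range_of_allRange c_rel_49) (range_glue (range_of_allRange c_rel_50) (range_glue (range_of_allRange c_rel_51) (range_glue (range_of_allRange c_rel_52) (range_glue (range_of_allRange c_rel_53) (range_glue (range_of_allRange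 c_rel_54) (range_glue (range_of_allRange c_rel_55) (range_glue (range_of_allRange c_rel_56) (range_glue (range_of_allRange c_rel_57) (range_glue (range_of_allRange c_rel_58) (range_glue (range_of_allRange c_rel_59) (range_glue (range_of_allRange c_rel_60) (range_glue (range_of_allRange c_rel_61) (range_glue (range_of_allRange c_rel_62) (range_glue (range_of_allRange c_rel_63) (range_glue (range_of_allRange c_rel_64) (range_glue (range_of_allRange c_rel_65) (range_glue (range_of_allRange c_rel_66) (range_glue (range_of_allRange c_rel_67) (range_glue (range_of_allRange c_rel_68) (range_glue (range_of_allRange c_rel_69) (range_glue (range_of_allRange c_rel_70) (range_glue (range_of_allRange c_rel_71) (range_glue (range_of_allRange c_rel_72) (range_glue (range_of_allRange c_rel_73) (range_glue (range_of_allRange c_rel_74) (range_glue (range_of_allRange c_rel_75) (range_glue (range_of_allRange c_rel_76) (range_glue (range_of_allRange c_rel_77) (range_glue (range_of_allRange c_rel_78) (range_of_allRange c_rel_79))))))))))))))))))))))))))))))))))))))))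
theorem h_rel_p2 : ∀ t, 458406 ≤ t → t < 590148 → D.relOK t = true :=
  (range_glue (range_of_allRange c_rel_80) (range_glue (range_of_allRange c_rel_81) (range_glue (range_of_allRange c_rel_82) (range_glue (range_of_allRange c_rel_83) (range_glue (range_of_allRange c_rel_84) (range_glue (range_of_allRange c_rel_85) (range_glue (range_of_allRange c_rel_86) (range_glue (range_of_allRange c_rel_87) (range_glue (range_of_allRange c_rel_88) (range_glue (range_of_allRange c_rel_89) (range_glue (range_of_allRange c_rel_90) (range_glue (range_of_allRange c_rel_91) (range_glue (range_of_allRange c_rel_92) (range_glue (range_of_allRange c_rel_93) (range_glue (range_of_allRange c_rel_94) (range_glue (range_of_allRange c_rel_95) (range_glue (range_of_allRange c_rel_96) (range_glue (range_of_allRange c_rel_97) (range_glue (range_of_allRange c_rel_98) (range_glue (range_of_allRange c_rel_99) (range_glue (range_of_allRange c_rel_100) (range_glue (range_of_allRange c_rel_101) (range_glue (range_of_allRange c_rel_102) (range_glue (range_of_allRange c_rel_103) (range_glue (range_of_allRange c_rel_104) (range_glue (range_of_allRange c_rel_105) (range_glue (range_of_allRange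 c_rel_106) (range_glue (range_of_allRange c_rel_107) (range_glue (range_of_allRange c_rel_108) (range_glue (range_of_allRange c_rel_109) (range_glue (range_of_allRange c_rel_110) (range_glue (range_of_allRange c_rel_111) (range_glue (range_of_allRange c_rel_112) (range_glue (range_of_allRange c_rel_113) (range_glue (range_of_allRange c_rel_114) (range_glue (range_of_allRange c_rel_115) (range_glue (range_of_allRange c_rel_116) (range_glue (range_of_allRange c_rel_117) (range_glue (range_of_allRange c_rel_118) (range_of_allRange c_rel_119))))))))))))))))))))))))))))))))))))))))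
theorem h_rel_p3 : ∀ t, 590148 ≤ t → t < 716005 → D.relOK t = true :=
  (range_glue (range_of_allRange c_rel_120) (range_glue (range_of_allRange c_rel_121) (range_glue (range_of_allRange c_rel_122) (range_glue (range_of_allRange c_rel_123) (range_glue (range_of_allRange c_rel_124) (range_glue (range_of_allRange c_rel_125) (range_glue (range_of_allRange c_rel_126) (range_glue (range_of_allRange c_rel_127) (range_glue (range_of_allRange c_rel_128) (range_glue (range_of_allRange c_rel_129) (range_glue (range_of_allRange c_rel_130) (range_glue (range_of_allRange c_rel_131) (range_glue (range_of_allRange c_rel_132) (range_glue (range_of_allRange c_rel_133) (range_glue (range_of_allRange c_rel_134) (range_glue (range_of_allRange c_rel_135) (range_glue (range_of_allRange c_rel_136) (range_glue (range_of_allRange c_rel_137) (range_glue (range_of_allRange c_rel_138) (range_glue (range_of_allRange c_rel_139) (range_glue (range_of_allRange c_rel_140) (range_glue (range_of_allRange c_rel_141) (range_glue (range_of_allRange c_rel_142) (range_glue (range_of_allRange c_rel_143) (range_glue (range_of_allRange c_rel_144) (range_glue (range_of_allRange c_rel_145)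 (range_glue (range_of_allRange c_rel_146) (range_glue (range_of_allRange c_rel_147) (range_glue (range_of_allRange c_rel_148) (range_glue (range_of_allRange c_rel_149) (range_glue (range_of_allRange c_rel_150) (range_glue (range_of_allRange c_rel_151) (range_glue (range_of_allRange c_rel_152) (range_glue (range_of_allRange c_rel_153) (range_glue (range_of_allRange c_rel_154) (range_glue (range_of_allRange c_rel_155) (range_glue (range_of_allRange c_rel_156) (range_glue (range_of_allRange c_rel_157) (range_glue (range_of_allRange c_rel_158) (range_of_allRange c_rel_159))))))))))))))))))))))))))))))))))))))))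
theorem h_rel_p4 : ∀ t, 716005 ≤ t → t < 837710 → D.relOK t = true :=
  (range_glue (range_of_allRange c_rel_160) (range_glue (range_of_allRange c_rel_161) (range_glue (range_of_allRange c_rel_162) (range_glue (range_of_allRange c_rel_163) (range_glue (range_of_allRange c_rel_164) (range_glue (range_of_allRange c_rel_165) (range_glue (range_of_allRange c_rel_166) (range_glue (range_of_allRange c_rel_167) (range_glue (range_of_allRange c_rel_168) (range_glue (range_of_allRange c_rel_169) (range_glue (range_of_allRange c_rel_170) (range_glue (range_of_allRange c_rel_171) (range_glue (range_of_allRange c_rel_172) (range_glue (range_of_allRange c_rel_173) (range_glue (range_of_allRange c_rel_174) (range_glue (range_of_allRange c_rel_175) (range_glue (range_of_allRange c_rel_176) (range_glue (range_of_allRange c_rel_177) (range_glue (range_of_allRange c_rel_178) (range_glue (range_of_allRange c_rel_179) (range_glue (range_of_allRange c_rel_180) (range_glue (range_of_allRange c_rel_181) (range_glue (range_of_allRange c_rel_182) (range_glue (range_of_allRange c_rel_183) (range_glue (range_of_allRange c_rel_184) (range_glue (range_of_allRange c_rel_185)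 (range_glue (range_of_allRange c_rel_186) (range_glue (range_of_allRange c_rel_187) (range_glue (range_of_allRange c_rel_188) (range_glue (range_of_allRange c_rel_189) (range_glue (range_of_allRange c_rel_190) (range_glue (range_of_allRange c_rel_191) (range_glue (range_of_allRange c_rel_192) (range_glue (range_of_allRange c_rel_193) (range_glue (range_of_allRange c_rel_194) (range_glue (range_of_allRange c_rel_195) (range_glue (range_of_allRange c_rel_196) (range_glue (range_of_allRange c_rel_197) (range_glue (range_of_allRange c_rel_198) (range_of_allRange c_rel_199))))))))))))))))))))))))))))))))))))))))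
theorem h_rel_p5 : ∀ t, 837710 ≤ t → t < 964424 → D.relOK t = true :=
  (range_glue (range_of_allRange c_rel_200) (range_glue (range_of_allRange c_rel_201) (range_glue (range_of_allRange c_rel_202) (range_glue (range_of_allRange c_rel_203) (range_glue (range_of_allRange c_rel_204) (range_glue (range_of_allRange c_rel_205) (range_glue (range_of_allRange c_rel_206) (range_glue (range_of_allRange c_rel_207) (range_glue (range_of_allRange c_rel_208) (range_glue (range_of_allRange c_rel_209) (range_glue (range_of_allRange c_rel_210) (range_glue (range_of_allRange c_rel_211) (range_glue (range_of_allRange c_rel_212) (range_glue (range_of_allRange c_rel_213) (range_glue (range_of_allRange c_rel_214) (range_glue (range_of_allRange c_rel_215) (range_glue (range_of_allRange c_rel_216) (range_glue (range_of_allRange c_rel_217) (range_glue (range_of_allRange c_rel_218) (range_glue (range_of_allRange c_rel_219) (range_glue (range_of_allRange c_rel_220) (range_glue (range_of_allRange c_rel_221) (range_glue (range_of_allRange c_rel_222) (range_glue (range_of_allRange c_rel_223) (range_glue (range_of_allRange c_rel_224) (range_glue (range_of_allRange c_rel_225)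 (range_glue (range_of_allRange c_rel_226) (range_glue (range_of_allRange c_rel_227) (range_glue (range_of_allRange c_rel_228) (range_glue (range_of_allRange c_rel_229) (range_glue (range_of_allRange c_rel_230) (range_glue (range_of_allRange c_rel_231) (range_glue (range_of_allRange c_rel_232) (range_glue (range_of_allRange c_rel_233) (range_glue (range_of_allRange c_rel_234) (range_glue (range_of_allRange c_rel_235) (range_glue (range_of_allRange c_rel_236) (range_glue (range_of_allRange c_rel_237) (range_glue (range_of_allRange c_rel_238) (range_of_allRange c_rel_239))))))))))))))))))))))))))))))))))))))))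
theorem h_rel_p6 : ∀ t, 964424 ≤ t → t < 1094831 → D.relOK t = true :=
  (range_glue (range_of_allRange c_rel_240) (range_glue (range_of_allRange c_rel_241) (range_glue (range_of_allRange c_rel_242) (range_glue (range_of_allRange c_rel_243) (range_glue (range_of_allRange c_rel_244) (range_glue (range_of_allRange c_rel_245) (range_glue (range_of_allRange c_rel_246) (range_glue (range_of_allRange c_rel_247) (range_glue (range_of_allRange c_rel_248) (range_glue (range_of_allRange c_rel_249) (range_glue (range_of_allRange c_rel_250) (range_glue (range_of_allRange c_rel_251) (range_glue (range_of_allRange c_rel_252) (range_glue (range_of_allRange c_rel_253) (range_glue (range_of_allRange c_rel_254) (range_glue (range_of_allRange c_rel_255) (range_glue (range_of_allRange c_rel_256) (range_glue (range_of_allRange c_rel_257) (range_glue (range_of_allRange c_rel_258) (range_glue (range_of_allRange c_rel_259) (range_glue (range_of_allRange c_rel_260) (range_glue (range_of_allRange c_rel_261) (range_glue (range_of_allRange c_rel_262) (range_glue (range_of_allRange c_rel_263) (range_glue (range_of_allRange c_rel_264) (range_glue (range_of_allRange c_rel_265)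 (range_glue (range_of_allRange c_rel_266) (range_glue (range_of_allRange c_rel_267) (range_glue (range_of_allRange c_rel_268) (range_glue (range_of_allRange c_rel_269) (range_glue (range_of_allRange c_rel_270) (range_glue (range_of_allRange c_rel_271) (range_glue (range_of_allRange c_rel_272) (range_glue (range_of_allRange c_rel_273) (range_glue (range_of_allRange c_rel_274) (range_glue (range_of_allRange c_rel_275) (range_glue (range_of_allRange c_rel_276) (range_glue (range_of_allRange c_rel_277) (range_glue (range_of_allRange c_rel_278) (range_of_allRange c_rel_279))))))))))))))))))))))))))))))))))))))))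
theorem h_rel_p7 : ∀ t, 1094831 ≤ t → t < 1227624 → D.relOK t = true :=
  (range_glue (range_of_allRange c_rel_280) (range_glue (range_of_allRange c_rel_281) (range_glue (range_of_allRange c_rel_282) (range_glue (range_of_allRange c_rel_283) (range_glue (range_of_allRange c_rel_284) (range_glue (range_of_allRange c_rel_285) (range_glue (range_of_allRange c_rel_286) (range_glue (range_of_allRange c_rel_287) (range_glue (range_of_allRange c_rel_288) (range_glue (range_of_allRange c_rel_289) (range_glue (range_of_allRange c_rel_290) (range_glue (range_of_allRange c_rel_291) (range_glue (range_of_allRange c_rel_292) (range_glue (range_of_allRange c_rel_293) (range_glue (range_of_allRange c_rel_294) (range_glue (range_of_allRange c_rel_295) (range_glue (range_of_allRange c_rel_296) (range_glue (range_of_allRange c_rel_297) (range_glue (range_of_allRange c_rel_298) (range_glue (range_of_allRange c_rel_299) (range_glue (range_of_allRange c_rel_300) (range_glue (range_of_allRange c_rel_301) (range_glue (range_of_allRange c_rel_302) (range_glue (range_of_allRange c_rel_303) (range_glue (range_of_allRange c_rel_304) (range_glue (range_of_allRange c_rel_305)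 (range_glue (range_of_allRange c_rel_306) (range_glue (range_of_allRange c_rel_307) (range_glue (range_of_allRange c_rel_308) (range_glue (range_of_allRange c_rel_309) (range_glue (range_of_allRange c_rel_310) (range_glue (range_of_allRange c_rel_311) (range_glue (range_of_allRange c_rel_312) (range_glue (range_of_allRange c_rel_313) (range_glue (range_of_allRange c_rel_314) (range_glue (range_of_allRange c_rel_315) (range_glue (range_of_allRange c_rel_316) (range_glue (range_of_allRange c_rel_317) (range_glue (range_of_allRange c_rel_318) (range_of_allRange c_rel_319))))))))))))))))))))))))))))))))))))))))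
theorem h_rel_p8 : ∀ t, 1227624 ≤ t → t < 1347782 → D.relOK t = true :=
  (range_glue (range_of_allRange c_rel_320) (range_glue (range_of_allRange c_rel_321) (range_glue (range_of_allRange c_rel_322) (range_glue (range_of_allRange c_rel_323) (range_glue (range_of_allRange c_rel_324) (range_glue (range_of_allRange c_rel_325) (range_glue (range_of_allRange c_rel_326) (range_glue (range_of_allRange c_rel_327) (range_glue (range_of_allRange c_rel_328) (range_glue (range_of_allRange c_rel_329) (range_glue (range_of_allRange c_rel_330) (range_glue (range_of_allRange c_rel_331) (range_glue (range_of_allRange c_rel_332) (range_glue (range_of_allRange c_rel_333) (range_glue (range_of_allRange c_rel_334) (range_glue (range_of_allRange c_rel_335) (range_glue (range_of_allRange c_rel_336) (range_glue (range_of_allRange c_rel_337) (range_glue (range_of_allRange c_rel_338) (range_glue (range_of_allRange c_rel_339) (range_glue (range_of_allRange c_rel_340) (range_glue (range_of_allRange c_rel_341) (range_glue (range_of_allRange c_rel_342) (range_glue (range_of_allRange c_rel_343) (range_glue (range_of_allRange c_rel_344) (range_glue (range_of_allRange c_rel_345)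 (range_glue (range_of_allRange c_rel_346) (range_glue (range_of_allRange c_rel_347) (range_glue (range_of_allRange c_rel_348) (range_glue (range_of_allRange c_rel_349) (range_glue (range_of_allRange c_rel_350) (range_glue (range_of_allRange c_rel_351) (range_glue (range_of_allRange c_rel_352) (range_glue (range_of_allRange c_rel_353) (range_glue (range_of_allRange c_rel_354) (range_glue (range_of_allRange c_rel_355) (range_glue (range_of_allRange c_rel_356) (range_glue (range_of_allRange c_rel_357) (range_glue (range_of_allRange c_rel_358) (range_of_allRange c_rel_359))))))))))))))))))))))))))))))))))))))))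
theorem h_rel_p9 : ∀ t, 1347782 ≤ t → t < 1455864 → D.relOK t = true :=
  (range_glue (range_of_allRange c_rel_360) (range_glue (range_of_allRange c_rel_361) (range_glue (range_of_allRange c_rel_362) (range_glue (range_of_allRange c_rel_363) (range_glue (range_of_allRange c_rel_364) (range_glue (range_of_allRange c_rel_365) (range_glue (range_of_allRange c_rel_366) (range_glue (range_of_allRange c_rel_367) (range_glue (range_of_allRange c_rel_368) (range_glue (range_of_allRange c_rel_369) (range_glue (range_of_allRange c_rel_370) (range_glue (range_of_allRange c_rel_371) (range_glue (range_of_allRange c_rel_372) (range_glue (range_of_allRange c_rel_373) (range_glue (range_of_allRange c_rel_374) (range_glue (range_of_allRange c_rel_375) (range_glue (range_of_allRange c_rel_376) (range_glue (range_of_allRange c_rel_377) (range_glue (range_of_allRange c_rel_378) (range_glue (range_of_allRange c_rel_379) (range_glue (range_of_allRange c_rel_380) (range_glue (range_of_allRange c_rel_381) (range_glue (range_of_allRange c_rel_382) (range_glue (range_of_allRange c_rel_383) (range_glue (range_of_allRange c_rel_384) (range_glue (range_of_allRange c_rel_385)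 (range_glue (range_of_allRange c_rel_386) (range_glue (range_of_allRange c_rel_387) (range_glue (range_of_allRange c_rel_388) (range_glue (range_of_allRange c_rel_389) (range_glue (range_of_allRange c_rel_390) (range_glue (range_of_allRange c_rel_391) (range_glue (range_of_allRange c_rel_392) (range_glue (range_of_allRange c_rel_393) (range_glue (range_of_allRange c_rel_394) (range_glue (range_of_allRange c_rel_395) (range_glue (range_of_allRange c_rel_396) (range_glue (range_of_allRange c_rel_397) (range_glue (range_of_allRange c_rel_398) (range_of_allRange c_rel_399))))))))))))))))))))))))))))))))))))))))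
theorem h_rel_p10 : ∀ t, 1455864 ≤ t → t < 1544328 → D.relOK t = true :=
  (range_glue (range_of_allRange c_rel_400) (range_glue (range_of_allRange c_rel_401) (range_glue (range_of_allRange c_rel_402) (range_glue (range_of_allRange c_rel_403) (range_glue (range_of_allRange c_rel_404) (range_glue (range_of_allRange c_rel_405) (range_glue (range_of_allRange c_rel_406) (range_glue (range_of_allRange c_rel_407) (range_glue (range_of_allRange c_rel_408) (range_glue (range_of_allRange c_rel_409) (range_glue (range_of_allRange c_rel_410) (range_glue (range_of_allRange c_rel_411) (range_glue (range_of_allRange c_rel_412) (range_glue (range_of_allRange c_rel_413) (range_glue (range_of_allRange c_rel_414) (range_glue (range_of_allRange c_rel_415) (range_glue (range_of_allRange c_rel_416) (range_glue (range_of_allRange c_rel_417) (range_glue (range_of_allRange c_rel_418) (range_glue (range_of_allRange c_rel_419) (range_glue (range_of_allRange c_rel_420) (range_glue (range_of_allRange c_rel_421) (range_glue (range_of_allRange c_rel_422) (range_glue (range_of_allRange c_rel_423) (range_glue (range_of_allRange c_rel_424) (range_glue (range_of_allRange c_rel_425)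 (range_glue (range_of_allRange c_rel_426) (range_glue (range_of_allRange c_rel_427) (range_glue (range_of_allRange c_rel_428) (range_glue (range_of_allRange c_rel_429) (range_glue (range_of_allRange c_rel_430) (range_glue (range_of_allRange c_rel_431) (range_glue (range_of_allRange c_rel_432) (range_glue (range_of_allRange c_rel_433) (range_glue (range_of_allRange c_rel_434) (range_glue (range_of_allRange c_rel_435) (range_glue (range_of_allRange c_rel_436) (range_glue (range_of_allRange c_rel_437) (range_glue (range_of_allRange c_rel_438) (range_of_allRange c_rel_439))))))))))))))))))))))))))))))))))))))))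
theorem h_rel_p11 : ∀ t, 1544328 ≤ t → t < 1621836 → D.relOK t = true :=
  (range_glue (range_of_allRange c_rel_440) (range_glue (range_of_allRange c_rel_441) (range_glue (range_of_allRange c_rel_442) (range_glue (range_of_allRange c_rel_443) (range_glue (range_of_allRange c_rel_444) (range_glue (range_of_allRange c_rel_445) (range_glue (range_of_allRange c_rel_446) (range_glue (range_of_allRange c_rel_447) (range_glue (range_of_allRange c_rel_448) (range_glue (range_of_allRange c_rel_449) (range_glue (range_of_allRange c_rel_450) (range_glue (range_of_allRange c_rel_451) (range_glue (range_of_allRange c_rel_452) (range_glue (range_of_allRange c_rel_453) (range_glue (range_of_allRange c_rel_454) (range_glue (range_of_allRange c_rel_455) (range_glue (range_of_allRange c_rel_456) (range_glue (range_of_allRange c_rel_457) (range_glue (range_of_allRange c_rel_458) (range_glue (range_of_allRange c_rel_459) (range_glue (range_of_allRange c_rel_460) (range_glue (range_of_allRange c_rel_461) (range_glue (range_of_allRange c_rel_462) (range_glue (range_of_allRange c_rel_463) (range_glue (range_of_allRange c_rel_464) (range_glue (range_of_allRange c_rel_465)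 (range_glue (range_of_allRange c_rel_466) (range_glue (range_of_allRange c_rel_467) (range_glue (range_of_allRange c_rel_468) (range_glue (range_of_allRange c_rel_469) (range_glue (range_of_allRange c_rel_470) (range_glue (range_of_allRange c_rel_471) (range_glue (range_of_allRange c_rel_472) (range_glue (range_of_allRange c_rel_473) (range_glue (range_of_allRange c_rel_474) (range_glue (range_of_allRange c_rel_475) (range_glue (range_of_allRange c_rel_476) (range_glue (range_of_allRange c_rel_477) (range_glue (range_of_allRange c_rel_478) (range_of_allRange c_rel_479))))))))))))))))))))))))))))))))))))))))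
theorem h_rel_p12 : ∀ t, 1621836 ≤ t → t < 1667850 → D.relOK t = true :=
  (range_glue (range_of_allRange c_rel_480) (range_glue (range_of_allRange c_rel_481) (range_glue (range_of_allRange c_rel_482) (range_glue (range_of_allRange c_rel_483) (range_glue (range_of_allRange c_rel_484) (range_glue (range_of_allRange c_rel_485) (range_glue (range_of_allRange c_rel_486) (range_glue (range_of_allRange c_rel_487) (range_glue (range_of_allRange c_rel_488) (range_glue (range_of_allRange c_rel_489) (range_glue (range_of_allRange c_rel_490) (range_glue (range_of_allRange c_rel_491) (range_glue (range_of_allRange c_rel_492) (range_glue (range_of_allRange c_rel_493) (range_glue (range_of_allRange c_rel_494) (range_glue (range_of_allRange c_rel_495) (range_glue (range_of_allRange c_rel_496) (range_glue (range_of_allRange c_rel_497) (range_glue (range_of_allRange c_rel_498) (range_glue (range_of_allRange c_rel_499) (range_glue (range_of_allRange c_rel_500) (range_glue (range_of_allRange c_rel_501) (range_glue (range_of_allRange c_rel_502) (range_glue (range_of_allRange c_rel_503) (range_glue (range_of_allRange c_rel_504) (range_glue (range_of_allRange c_rel_505)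 (range_glue (range_of_allRange c_rel_506) (range_glue (range_of_allRange c_rel_507) (range_glue (range_of_allRange c_rel_508) (range_glue (range_of_allRange c_rel_509) (range_glue (range_of_allRange c_rel_510) (range_glue (range_of_allRange c_rel_511) (range_glue (range_of_allRange c_rel_512) (range_glue (range_of_allRange c_rel_513) (range_glue (range_of_allRange c_rel_514) (range_glue (range_of_allRange c_rel_515) (range_glue (range_of_allRange c_rel_516) (range_glue (range_of_allRange c_rel_517) (range_glue (range_of_allRange c_rel_518) (range_of_allRange c_rel_519))))))))))))))))))))))))))))))))))))))))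
theorem h_rel_p13 : ∀ t, 1667850 ≤ t → t < 1732907 → D.relOK t = true :=
  (range_glue (range_of_allRange c_rel_520) (range_glue (range_of_allRange c_rel_521) (range_glue (range_of_allRange c_rel_522) (range_glue (range_of_allRange c_rel_523) (range_glue (range_of_allRange c_rel_524) (range_glue (range_of_allRange c_rel_525) (range_glue (range_of_allRange c_rel_526) (range_glue (range_of_allRange c_rel_527) (range_glue (range_of_allRange c_rel_528) (range_glue (range_of_allRange c_rel_529) (range_glue (range_of_allRange c_rel_530) (range_glue (range_of_allRange c_rel_531) (range_glue (range_of_allRange c_rel_532) (range_glue (range_of_allRange c_rel_533) (range_glue (range_of_allRange c_rel_534) (range_glue (range_of_allRange c_rel_535) (range_glue (range_of_allRange c_rel_536) (range_glue (range_of_allRange c_rel_537) (range_glue (range_of_allRange c_rel_538) (range_glue (range_of_allRange c_rel_539) (range_glue (range_of_allRange c_rel_540) (range_glue (range_of_allRange c_rel_541) (range_glue (range_of_allRange c_rel_542) (range_glue (range_of_allRange c_rel_543) (range_glue (range_of_allRange c_rel_544) (range_glue (range_of_allRange c_rel_545)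 (range_glue (range_of_allRange c_rel_546) (range_glue (range_of_allRange c_rel_547) (range_glue (range_of_allRange c_rel_548) (range_glue (range_of_allRange c_rel_549) (range_glue (range_of_allRange c_rel_550) (range_glue (range_of_allRange c_rel_551) (range_glue (range_of_allRange c_rel_552) (range_glue (range_of_allRange c_rel_553) (range_glue (range_of_allRange c_rel_554) (range_glue (range_of_allRange c_rel_555) (range_glue (range_of_allRange c_rel_556) (range_glue (range_of_allRange c_rel_557) (range_glue (range_of_allRange c_rel_558) (range_of_allRange c_rel_559))))))))))))))))))))))))))))))))))))))))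
theorem h_rel_p14 : ∀ t, 1732907 ≤ t → t < 1797217 → D.relOK t = true :=
  (range_glue (range_of_allRange c_rel_560) (range_glue (range_of_allRange c_rel_561) (range_glue (range_of_allRange c_rel_562) (range_glue (range_of_allRange c_rel_563) (range_glue (range_of_allRange c_rel_564) (range_glue (range_of_allRange c_rel_565) (range_glue (range_of_allRange c_rel_566) (range_glue (range_of_allRange c_rel_567) (range_glue (range_of_allRange c_rel_568) (range_glue (range_of_allRange c_rel_569) (range_glue (range_of_allRange c_rel_570) (range_glue (range_of_allRange c_rel_571) (range_glue (range_of_allRange c_rel_572) (range_glue (range_of_allRange c_rel_573) (range_glue (range_of_allRange c_rel_574) (range_glue (range_of_allRange c_rel_575) (range_glue (range_of_allRange c_rel_576) (range_glue (range_of_allRange c_rel_577) (range_glue (range_of_allRange c_rel_578) (range_glue (range_of_allRange c_rel_579) (range_glue (range_of_allRange c_rel_580) (range_glue (range_of_allRange c_rel_581) (range_glue (range_of_allRange c_rel_582) (range_glue (range_of_allRange c_rel_583) (range_glue (range_of_allRange c_rel_584) (range_glue (range_of_allRange c_rel_585)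 (range_glue (range_of_allRange c_rel_586) (range_glue (range_of_allRange c_rel_587) (range_glue (range_of_allRange c_rel_588) (range_glue (range_of_allRange c_rel_589) (range_glue (range_of_allRange c_rel_590) (range_glue (range_of_allRange c_rel_591) (range_glue (range_of_allRange c_rel_592) (range_glue (range_of_allRange c_rel_593) (range_glue (range_of_allRange c_rel_594) (range_glue (range_of_allRange c_rel_595) (range_glue (range_of_allRange c_rel_596) (range_glue (range_of_allRange c_rel_597) (range_glue (range_of_allRange c_rel_598) (range_of_allRange c_rel_599))))))))))))))))))))))))))))))))))))))))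
theorem h_rel_p15 : ∀ t, 1797217 ≤ t → t < 1910770 → D.relOK t = true :=
  (range_glue (range_of_allRange c_rel_600) (range_glue (range_of_allRange c_rel_601) (range_glue (range_of_allRange c_rel_602) (range_glue (range_of_allRange c_rel_603) (range_glue (range_of_allRange c_rel_604) (range_glue (range_of_allRange c_rel_605) (range_glue (range_of_allRange c_rel_606) (range_glue (range_of_allRange c_rel_607) (range_glue (range_of_allRange c_rel_608) (range_glue (range_of_allRange c_rel_609) (range_glue (range_of_allRange c_rel_610) (range_glue (range_of_allRange c_rel_611) (range_glue (range_of_allRange c_rel_612) (range_glue (range_of_allRange c_rel_613) (range_glue (range_of_allRange c_rel_614) (range_glue (range_of_allRange c_rel_615) (range_glue (range_of_allRange c_rel_616) (range_glue (range_of_allRange c_rel_617) (range_glue (range_of_allRange c_rel_618) (range_glue (range_of_allRange c_rel_619) (range_glue (range_of_allRange c_rel_620) (range_glue (range_of_allRange c_rel_621) (range_glue (range_of_allRange c_rel_622) (range_glue (range_of_allRange c_rel_623) (range_glue (range_of_allRange c_rel_624) (range_glue (range_of_allRange c_rel_625)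 (range_glue (range_of_allRange c_rel_626) (range_glue (range_of_allRange c_rel_627) (range_glue (range_of_allRange c_rel_628) (range_glue (range_of_allRange c_rel_629) (range_glue (range_of_allRange c_rel_630) (range_glue (range_of_allRange c_rel_631) (range_glue (range_of_allRange c_rel_632) (range_glue (range_of_allRange c_rel_633) (range_glue (range_of_allRange c_rel_634) (range_glue (range_of_allRange c_rel_635) (range_glue (range_of_allRange c_rel_636) (range_glue (range_of_allRange c_rel_637) (range_glue (range_of_allRange c_rel_638) (range_of_allRange c_rel_639))))))))))))))))))))))))))))))))))))))))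
theorem h_rel_p16 : ∀ t, 1910770 ≤ t → t < 2089635 → D.relOK t = true :=
  (range_glue (range_of_allRange c_rel_640) (range_glue (range_of_allRange c_rel_641) (range_glue (range_of_allRange c_rel_642) (range_glue (range_of_allRange c_rel_643) (range_glue (range_of_allRange c_rel_644) (range_glue (range_of_allRange c_rel_645) (range_glue (range_of_allRange c_rel_646) (range_glue (range_of_allRange c_rel_647) (range_glue (range_of_allRange c_rel_648) (range_glue (range_of_allRange c_rel_649) (range_glue (range_of_allRange c_rel_650) (range_glue (range_of_allRange c_rel_651) (range_glue (range_of_allRange c_rel_652) (range_glue (range_of_allRange c_rel_653) (range_glue (range_of_allRange c_rel_654) (range_glue (range_of_allRange c_rel_655) (range_glue (range_of_allRange c_rel_656) (range_glue (range_of_allRange c_rel_657) (range_glue (range_of_allRange c_rel_658) (range_glue (range_of_allRange c_rel_659) (range_glue (range_of_allRange c_rel_660) (range_glue (range_of_allRange c_rel_661) (range_glue (range_of_allRange c_rel_662) (range_glue (range_of_allRange c_rel_663) (range_glue (range_of_allRange c_rel_664) (range_glue (range_of_allRange c_rel_665)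 (range_glue (range_of_allRange c_rel_666) (range_glue (range_of_allRange c_rel_667) (range_glue (range_of_allRange c_rel_668) (range_glue (range_of_allRange c_rel_669) (range_glue (range_of_allRange c_rel_670) (range_glue (range_of_allRange c_rel_671) (range_glue (range_of_allRange c_rel_672) (range_glue (range_of_allRange c_rel_673) (range_glue (range_of_allRange c_rel_674) (range_glue (range_of_allRange c_rel_675) (range_glue (range_of_allRange c_rel_676) (range_glue (range_of_allRange c_rel_677) (range_glue (range_of_allRange c_rel_678) (range_of_allRange c_rel_679))))))))))))))))))))))))))))))))))))))))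
theorem h_rel_p17 : ∀ t, 2089635 ≤ t → t < 2266140 → D.relOK t = true :=
  (range_glue (range_of_allRange c_rel_680) (range_glue (range_of_allRange c_rel_681) (range_glue (range_of_allRange c_rel_682) (range_glue (range_of_allRange c_rel_683) (range_glue (range_of_allRange c_rel_684) (range_glue (range_of_allRange c_rel_685) (range_glue (range_of_allRange c_rel_686) (range_glue (range_of_allRange c_rel_687) (range_glue (range_of_allRange c_rel_688) (range_glue (range_of_allRange c_rel_689) (range_glue (range_of_allRange c_rel_690) (range_glue (range_of_allRange c_rel_691) (range_glue (range_of_allRange c_rel_692) (range_glue (range_of_allRange c_rel_693) (range_glue (range_of_allRange c_rel_694) (range_glue (range_of_allRange c_rel_695) (range_glue (range_of_allRange c_rel_696) (range_glue (range_of_allRange c_rel_697) (range_glue (range_of_allRange c_rel_698) (range_glue (range_of_allRange c_rel_699) (range_glue (range_of_allRange c_rel_700) (range_glue (range_of_allRange c_rel_701) (range_glue (range_of_allRange c_rel_702) (range_glue (range_of_allRange c_rel_703) (range_glue (range_of_allRange c_rel_704) (range_glue (range_of_allRange c_rel_705)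 (range_glue (range_of_allRange c_rel_706) (range_glue (range_of_allRange c_rel_707) (range_glue (range_of_allRange c_rel_708) (range_glue (range_of_allRange c_rel_709) (range_glue (range_of_allRange c_rel_710) (range_glue (range_of_allRange c_rel_711) (range_glue (range_of_allRange c_rel_712) (range_glue (range_of_allRange c_rel_713) (range_glue (range_of_allRange c_rel_714) (range_glue (range_of_allRange c_rel_715) (range_glue (range_of_allRange c_rel_716) (range_glue (range_of_allRange c_rel_717) (range_glue (range_of_allRange c_rel_718) (range_of_allRange c_rel_719))))))))))))))))))))))))))))))))))))))))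
theorem h_rel_p18 : ∀ t, 2266140 ≤ t → t < 2285158 → D.relOK t = true :=
  (range_glue (range_of_allRange c_rel_720) (range_glue (range_of_allRange c_rel_721) (range_glue (range_of_allRange c_rel_722) (range_glue (range_of_allRange c_rel_723) (range_of_allRange c_rel_724)))))
theorem h_rel : ∀ t, 191624 ≤ t → t < 2285158 → D.relOK t = true :=
  (range_glue h_rel_p0 (range_glue h_rel_p1 (range_glue h_rel_p2 (range_glue h_rel_p3 (range_glue h_rel_p4 (range_glue h_rel_p5 (range_glue h_rel_p6 (range_glue h_rel_p7 (range_glue h_rel_p8 (range_glue h_rel_p9 (range_glue h_rel_p10 (range_glue h_rel_p11 (range_glue h_rel_p12 (range_glue h_rel_p13 (range_glue h_rel_p14 (range_glue h_rel_p15 (range_glue h_rel_p16 (range_glue h_rel_p17 h_rel_p18))))))))))))))))))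
theorem h_names : ∀ t, 1 ≤ t → t < 191620 → D.nameOK t = true :=
  (range_glue (range_of_allRange c_names_0) (range_glue (range_of_allRange c_names_1) (range_glue (range_of_allRange c_names_2) (range_of_allRange c_names_3))))
theorem h_cls : ∀ t, 1 ≤ t → t < 191620 → T.clsOK D t = true :=
  (range_glue (range_of_allRange c_cls_0) (range_glue (range_of_allRange c_cls_1) (range_glue (range_of_allRange c_cls_2) (range_glue (range_of_allRange c_cls_3) (range_glue (range_of_allRange c_cls_4) (range_glue (range_of_allRange c_cls_5) (range_glue (range_of_allRange c_cls_6) (range_glue (range_of_allRange c_cls_7) (range_glue (range_of_allRange c_cls_8) (range_glue (range_of_allRange c_cls_9) (range_glue (range_of_allRange c_cls_10) (range_glue (range_of_allRange c_cls_11) (range_of_allRange c_cls_12)))))))))))))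
theorem h_rep : ∀ t, 0 ≤ t → t < 66825 → T.repOK D t = true :=
  (range_glue (range_of_allRange c_rep_0) (range_glue (range_of_allRange c_rep_1) (range_of_allRange c_rep_2)))
theorem h_fin_p0 : ∀ i, 0 ≤ i → i < 16000 → ∀ x, x < 30 → T.finOK D i x = true :=
  (range_glue (range_of_allGrid c_fin_0) (range_glue (range_of_allGrid c_fin_1) (range_glue (range_of_allGrid c_fin_2) (range_glue (range_of_allGrid c_fin_3) (range_glue (range_of_allGrid c_fin_4) (range_glue (range_of_allGrid c_fin_5) (range_glue (range_of_allGrid c_fin_6) (range_glue (range_of_allGrid c_fin_7) (range_glue (range_of_allGrid c_fin_8) (range_glue (range_of_allGrid c_fin_9) (range_glue (range_of_allGrid c_fin_10) (range_glue (range_of_allGrid c_fin_11) (range_glue (range_of_allGrid c_fin_12) (range_glue (range_of_allGrid c_fin_13) (range_glue (range_of_allGrid c_fin_14) (range_glue (range_of_allGrid c_fin_15) (range_glue (range_of_allGrid c_fin_16) (range_glue (range_of_allGrid c_fin_17) (range_glue (range_of_allGrid c_fin_18) (range_glue (range_of_allGrid c_fin_19) (range_glue (range_of_allGrid c_fin_20) (range_glue (range_of_allGrid c_fin_21) (range_glue (range_of_allGrid c_fin_22)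 (range_glue (range_of_allGrid c_fin_23) (range_glue (range_of_allGrid c_fin_24) (range_glue (range_of_allGrid c_fin_25) (range_glue (range_of_allGrid c_fin_26) (range_glue (range_of_allGrid c_fin_27) (range_glue (range_of_allGrid c_fin_28) (range_glue (range_of_allGrid c_fin_29) (range_glue (range_of_allGrid c_fin_30) (range_glue (range_of_allGrid c_fin_31) (range_glue (range_of_allGrid c_fin_32) (range_glue (range_of_allGrid c_fin_33) (range_glue (range_of_allGrid c_fin_34) (range_glue (range_of_allGrid c_fin_35) (range_glue (range_of_allGrid c_fin_36) (range_glue (range_of_allGrid c_fin_37) (range_glue (range_of_allGrid c_fin_38) (range_of_allGrid c_fin_39))))))))))))))))))))))))))))))))))))))))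
theorem h_fin_p1 : ∀ i, 16000 ≤ i → i < 32000 → ∀ x, x < 30 → T.finOK D i x = true :=
  (range_glue (range_of_allGrid c_fin_40) (range_glue (range_of_allGrid c_fin_41) (range_glue (range_of_allGrid c_fin_42) (range_glue (range_of_allGrid c_fin_43) (range_glue (range_of_allGrid c_fin_44) (range_glue (range_of_allGrid c_fin_45) (range_glue (range_of_allGrid c_fin_46) (range_glue (range_of_allGrid c_fin_47) (range_glue (range_of_allGrid c_fin_48) (range_glue (range_of_allGrid c_fin_49) (range_glue (range_of_allGrid c_fin_50) (range_glue (range_of_allGrid c_fin_51) (range_glue (range_of_allGrid c_fin_52) (range_glue (range_of_allGrid c_fin_53) (range_glue (range_of_allGrid c_fin_54) (range_glue (range_of_allGrid c_fin_55) (range_glue (range_of_allGrid c_fin_56) (range_glue (range_of_allGrid c_fin_57) (range_glue (range_of_allGrid c_fin_58) (range_glue (range_of_allGrid c_fin_59) (range_glue (range_of_allGrid c_fin_60) (range_glue (range_of_allGrid c_fin_61) (range_glue (range_of_allGrid c_fin_62) (range_glue (range_of_allGrid c_fin_63) (range_glue (range_of_allGrid c_fin_64) (range_glue (range_of_allGrid c_fin_65) (range_glue (range_of_allGrid c_fin_66)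 (range_glue (range_of_allGrid c_fin_67) (range_glue (range_of_allGrid c_fin_68) (range_glue (range_of_allGrid c_fin_69) (range_glue (range_of_allGrid c_fin_70) (range_glue (range_of_allGrid c_fin_71) (range_glue (range_of_allGrid c_fin_72) (range_glue (range_of_allGrid c_fin_73) (range_glue (range_of_allGrid c_fin_74) (range_glue (range_of_allGrid c_fin_75) (range_glue (range_of_allGrid c_fin_76) (range_glue (range_of_allGrid c_fin_77) (range_glue (range_of_allGrid c_fin_78) (range_of_allGrid c_fin_79))))))))))))))))))))))))))))))))))))))))
theorem h_fin_p2 : ∀ i, 32000 ≤ i → i < 48000 → ∀ x, x < 30 → T.finOK D i x = true :=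
  (range_glue (range_of_allGrid c_fin_80) (range_glue (range_of_allGrid c_fin_81) (range_glue (range_of_allGrid c_fin_82) (range_glue (range_of_allGrid c_fin_83) (range_glue (range_of_allGrid c_fin_84) (range_glue (range_of_allGrid c_fin_85) (range_glue (range_of_allGrid c_fin_86) (range_glue (range_of_allGrid c_fin_87) (range_glue (range_of_allGrid c_fin_88) (range_glue (range_of_allGrid c_fin_89) (range_glue (range_of_allGrid c_fin_90) (range_glue (range_of_allGrid c_fin_91) (range_glue (range_of_allGrid c_fin_92) (range_glue (range_of_allGrid c_fin_93) (range_glue (range_of_allGrid c_fin_94) (range_glue (range_of_allGrid c_fin_95) (range_glue (range_of_allGrid c_fin_96) (range_glue (range_of_allGrid c_fin_97) (range_glue (range_of_allGrid c_fin_98) (range_glue (range_of_allGrid c_fin_99) (range_glue (range_of_allGrid c_fin_100) (range_glue (range_of_allGrid c_fin_101) (range_glue (range_of_allGrid c_fin_102) (range_glue (range_of_allGrid c_fin_103) (range_glue (range_of_allGrid c_fin_104) (range_glue (range_of_allGrid c_fin_105) (range_glue (range_of_allGrid c_fin_106) (range_glue (range_of_allGrid c_fin_107) (range_glue (range_of_allGrid c_fin_108)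 (range_glue (range_of_allGrid c_fin_109) (range_glue (range_of_allGrid c_fin_110) (range_glue (range_of_allGrid c_fin_111) (range_glue (range_of_allGrid c_fin_112) (range_glue (range_of_allGrid c_fin_113) (range_glue (range_of_allGrid c_fin_114) (range_glue (range_of_allGrid c_fin_115) (range_glue (range_of_allGrid c_fin_116) (range_glue (range_of_allGrid c_fin_117) (range_glue (range_of_allGrid c_fin_118) (range_of_allGrid c_fin_119))))))))))))))))))))))))))))))))))))))))
theorem h_fin_p3 : ∀ i, 48000 ≤ i → i < 64000 → ∀ x, x < 30 → T.finOK D i x = true :=
  (range_glue (range_of_allGrid c_fin_120) (range_glue (range_of_allGrid c_fin_121) (range_glue (range_of_allGrid c_fin_122) (range_glue (range_of_allGrid c_fin_123) (range_glue (range_of_allGrid c_fin_124) (range_glue (range_of_allGrid c_fin_125) (range_glue (range_of_allGrid c_fin_126) (range_glue (range_of_allGrid c_fin_127) (range_glue (range_of_allGrid c_fin_128) (range_glue (range_of_allGrid c_fin_129) (range_glue (range_of_allGrid c_fin_130) (range_glue (range_of_allGrid c_fin_131) (range_glue (range_of_allGrid c_fin_132) (range_glue (range_of_allGrid c_fin_133) (range_glue (range_of_allGrid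 c_fin_134) (range_glue (range_of_allGrid c_fin_135) (range_glue (range_of_allGrid c_fin_136) (range_glue (range_of_allGrid c_fin_137) (range_glue (range_of_allGrid c_fin_138) (range_glue (range_of_allGrid c_fin_139) (range_glue (range_of_allGrid c_fin_140) (range_glue (range_of_allGrid c_fin_141) (range_glue (range_of_allGrid c_fin_142) (range_glue (range_of_allGrid c_fin_143) (range_glue (range_of_allGrid c_fin_144) (range_glue (range_of_allGrid c_fin_145) (range_glue (range_of_allGrid c_fin_146) (range_glue (range_of_allGrid c_fin_147) (range_glue (range_of_allGrid c_fin_148) (range_glue (range_of_allGrid c_fin_149) (range_glue (range_of_allGrid c_fin_150) (range_glue (range_of_allGrid c_fin_151) (range_glue (range_of_allGrid c_fin_152) (range_glue (range_of_allGrid c_fin_153) (range_glue (range_of_allGrid c_fin_154) (range_glue (range_of_allGrid c_fin_155) (range_glue (range_of_allGrid c_fin_156) (range_glue (range_of_allGrid c_fin_157) (range_glue (range_of_allGrid c_fin_158) (range_of_allGrid c_fin_159))))))))))))))))))))))))))))))))))))))))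
theorem h_fin_p4 : ∀ i, 64000 ≤ i → i < 66825 → ∀ x, x < 30 → T.finOK D i x = true :=
  (range_glue (range_of_allGrid c_fin_160) (range_glue (range_of_allGrid c_fin_161) (range_glue (range_of_allGrid c_fin_162) (range_glue (range_of_allGrid c_fin_163) (range_glue (range_of_allGrid c_fin_164) (range_glue (range_of_allGrid c_fin_165) (range_glue (range_of_allGrid c_fin_166) (range_of_allGrid c_fin_167))))))))
theorem h_fin : ∀ i, 0 ≤ i → i < 66825 → ∀ x, x < 30 → T.finOK D i x = true :=
  (range_glue h_fin_p0 (range_glue h_fin_p1 (range_glue h_fin_p2 (range_glue h_fin_p3 h_fin_p4))))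
theorem h_perm_p0 : ∀ i, 0 ≤ i → i < 40000 → ∀ x, x < 30 → T.permOK1 D i x = true :=
  (range_glue (range_of_allGrid c_perm_0) (range_glue (range_of_allGrid c_perm_1) (range_glue (range_of_allGrid c_perm_2) (range_glue (range_of_allGrid c_perm_3) (range_glue (range_of_allGrid c_perm_4) (range_glue (range_of_allGrid c_perm_5) (range_glue (range_of_allGrid c_perm_6) (range_glue (range_of_allGrid c_perm_7) (range_glue (range_of_allGrid c_perm_8) (range_glue (range_of_allGrid c_perm_9) (range_glue (range_of_allGrid c_perm_10) (range_glue (range_of_allGrid c_perm_11) (range_glue (range_of_allGrid c_perm_12) (range_glue (range_of_allGrid c_perm_13) (range_glue (range_of_allGrid c_perm_14) (range_glue (range_of_allGrid c_perm_15) (range_glue (range_of_allGrid c_perm_16) (range_glue (range_of_allGrid c_perm_17) (range_glue (range_of_allGrid c_perm_18) (range_glue (range_of_allGrid c_perm_19) (range_glue (range_of_allGrid c_perm_20) (range_glue (range_of_allGrid c_perm_21) (range_glue (range_of_allGrid c_perm_22) (range_glue (range_of_allGrid c_perm_23) (range_glue (range_of_allGrid c_perm_24) (range_glue (range_of_allGrid c_perm_25) (range_glue (range_of_allGrid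 c_perm_26) (range_glue (range_of_allGrid c_perm_27) (range_glue (range_of_allGrid c_perm_28) (range_glue (range_of_allGrid c_perm_29) (range_glue (range_of_allGrid c_perm_30) (range_glue (range_of_allGrid c_perm_31) (range_glue (range_of_allGrid c_perm_32) (range_glue (range_of_allGrid c_perm_33) (range_glue (range_of_allGrid c_perm_34) (range_glue (range_of_allGrid c_perm_35) (range_glue (range_of_allGrid c_perm_36) (range_glue (range_of_allGrid c_perm_37) (range_glue (range_of_allGrid c_perm_38) (range_of_allGrid c_perm_39))))))))))))))))))))))))))))))))))))))))
theorem h_perm_p1 : ∀ i, 40000 ≤ i → i < 66825 → ∀ x, x < 30 → T.permOK1 D i x = true :=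
  (range_glue (range_of_allGrid c_perm_40) (range_glue (range_of_allGrid c_perm_41) (range_glue (range_of_allGrid c_perm_42) (range_glue (range_of_allGrid c_perm_43) (range_glue (range_of_allGrid c_perm_44) (range_glue (range_of_allGrid c_perm_45) (range_glue (range_of_allGrid c_perm_46) (range_glue (range_of_allGrid c_perm_47) (range_glue (range_of_allGrid c_perm_48) (range_glue (range_of_allGrid c_perm_49) (range_glue (range_of_allGrid c_perm_50) (range_glue (range_of_allGrid c_perm_51) (range_glue (range_of_allGrid c_perm_52) (range_glue (range_of_allGrid c_perm_53) (range_glue (range_of_allGrid c_perm_54) (range_glue (range_of_allGrid c_perm_55) (range_glue (range_of_allGrid c_perm_56) (range_glue (range_of_allGrid c_perm_57) (range_glue (range_of_allGrid c_perm_58) (range_glue (range_of_allGrid c_perm_59) (range_glue (range_of_allGrid c_perm_60) (range_glue (range_of_allGrid c_perm_61) (range_glue (range_of_allGrid c_perm_62) (range_glue (range_of_allGrid c_perm_63) (range_glue (range_of_allGrid c_perm_64) (range_glue (range_of_allGrid c_perm_65) (range_of_allGrid c_perm_66)))))))))))))))))))))))))))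
theorem h_perm : ∀ i, 0 ≤ i → i < 66825 → ∀ x, x < 30 → T.permOK1 D i x = true :=
  (range_glue h_perm_p0 h_perm_p1)
theorem h_act0 : ∀ i, 0 ≤ i → i < 66825 → Nat.beq (actR0 i) i = true :=
  (range_glue (range_of_allRange c_act0_0) (range_glue (range_of_allRange c_act0_1) (range_glue (range_of_allRange c_act0_2) (range_glue (range_of_allRange c_act0_3) (range_glue (range_of_allRange c_act0_4) (range_glue (range_of_allRange c_act0_5) (range_glue (range_of_allRange c_act0_6) (range_of_allRange c_act0_7))))))))
theorem h_act1 : ∀ i, 0 ≤ i → i < 66825 → Nat.beq (actR1 i) i = true :=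
  (range_glue (range_of_allRange c_act1_0) (range_glue (range_of_allRange c_act1_1) (range_glue (range_of_allRange c_act1_2) (range_glue (range_of_allRange c_act1_3) (range_glue (range_of_allRange c_act1_4) (range_glue (range_of_allRange c_act1_5) (range_glue (range_of_allRange c_act1_6) (range_of_allRange c_act1_7))))))))
theorem h_act2 : ∀ i, 0 ≤ i → i < 66825 → Nat.beq (actR2 i) i = true :=
  (range_glue (range_of_allRange c_act2_0) (range_glue (range_of_allRange c_act2_1) (range_glue (range_of_allRange c_act2_2) (range_glue (range_of_allRange c_act2_3) (range_glue (range_of_allRange c_act2_4) (range_glue (range_of_allRange c_act2_5) (range_glue (range_of_allRange c_act2_6) (range_glue (range_of_allRange c_act2_7) (range_glue (range_of_allRange c_act2_8) (range_glue (range_of_allRange c_act2_9) (range_glue (range_of_allRange c_act2_10) (range_glue (range_of_allRange c_act2_11) (range_of_allRange c_act2_12)))))))))))))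
theorem h_act3 : ∀ i, 0 ≤ i → i < 66825 → Nat.beq (actR3 i) i = true :=
  (range_glue (range_of_allRange c_act3_0) (range_glue (range_of_allRange c_act3_1) (range_glue (range_of_allRange c_act3_2) (range_of_allRange c_act3_3))))
theorem h_act4 : ∀ i, 0 ≤ i → i < 66825 → Nat.beq (actR4 i) i = true :=
  (range_glue (range_of_allRange c_act4_0) (range_glue (range_of_allRange c_act4_1) (range_glue (range_of_allRange c_act4_2) (range_glue (range_of_allRange c_act4_3) (range_glue (range_of_allRange c_act4_4) (range_glue (range_of_allRange c_act4_5) (range_glue (range_of_allRange c_act4_6) (range_glue (range_of_allRange c_act4_7) (range_glue (range_of_allRange c_act4_8) (range_glue (range_of_allRange c_act4_9) (range_glue (range_of_allRange c_act4_10) (range_glue (range_of_allRange c_act4_11) (range_glue (range_of_allRange c_act4_12) (range_glue (range_of_allRange c_act4_13) (range_glue (range_of_allRange c_act4_14) (range_glue (range_of_allRange c_act4_15) (range_glue (range_of_allRange c_act4_16) (range_glue (range_of_allRange c_act4_17) (range_of_allRange c_act4_18)))))))))))))))))))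
theorem h_act5 : ∀ i, 0 ≤ i → i < 66825 → Nat.beq (actR5 i) i = true :=
  (range_glue (range_of_allRange c_act5_0) (range_glue (range_of_allRange c_act5_1) (range_glue (range_of_allRange c_act5_2) (range_glue (range_of_allRange c_act5_3) (range_of_allRange c_act5_4)))))
theorem h_act6 : ∀ i, 0 ≤ i → i < 66825 → Nat.beq (actR6 i) i = true :=
  (range_glue (range_of_allRange c_act6_0) (range_glue (range_of_allRange c_act6_1) (range_glue (range_of_allRange c_act6_2) (range_glue (range_of_allRange c_act6_3) (range_glue (range_of_allRange c_act6_4) (range_glue (range_of_allRange c_act6_5) (range_glue (range_of_allRange c_act6_6) (range_glue (range_of_allRange c_act6_7) (range_glue (range_of_allRange c_act6_8) (range_glue (range_of_allRange c_act6_9) (range_glue (range_of_allRange c_act6_10) (range_glue (range_of_allRange c_act6_11) (range_glue (range_of_allRange c_act6_12) (range_glue (range_of_allRange c_act6_13) (range_glue (range_of_allRange c_act6_14) (range_glue (range_of_allRange c_act6_15) (range_glue (range_of_allRange c_act6_16) (range_glue (range_of_allRange c_act6_17) (range_of_allRange c_act6_18)))))))))))))))))))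
theorem h_act7 : ∀ i, 0 ≤ i → i < 66825 → Nat.beq (actR7 i) i = true :=
  (range_glue (range_of_allRange c_act7_0) (range_glue (range_of_allRange c_act7_1) (range_glue (range_of_allRange c_act7_2) (range_glue (range_of_allRange c_act7_3) (range_glue (range_of_allRange c_act7_4) (range_glue (range_of_allRange c_act7_5) (range_glue (range_of_allRange c_act7_6) (range_glue (range_of_allRange c_act7_7) (range_glue (range_of_allRange c_act7_8) (range_glue (range_of_allRange c_act7_9) (range_glue (range_of_allRange c_act7_10) (range_glue (range_of_allRange c_act7_11) (range_glue (range_of_allRange c_act7_12) (range_glue (range_of_allRange c_act7_13) (range_glue (range_of_allRange c_act7_14) (range_glue (range_of_allRange c_act7_15) (range_glue (range_of_allRange c_act7_16) (range_glue (range_of_allRange c_act7_17) (range_glue (range_of_allRange c_act7_18) (range_glue (range_of_allRange c_act7_19) (range_of_allRange c_act7_20)))))))))))))))))))))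
theorem h_act8 : ∀ i, 0 ≤ i → i < 66825 → Nat.beq (actR8 i) i = true :=
  (range_glue (range_of_allRange c_act8_0) (range_glue (range_of_allRange c_act8_1) (range_glue (range_of_allRange c_act8_2) (range_glue (range_of_allRange c_act8_3) (range_glue (range_of_allRange c_act8_4) (range_glue (range_of_allRange c_act8_5) (range_glue (range_of_allRange c_act8_6) (range_glue (range_of_allRange c_act8_7) (range_glue (range_of_allRange c_act8_8) (range_glue (range_of_allRange c_act8_9) (range_glue (range_of_allRange c_act8_10) (range_glue (range_of_allRange c_act8_11) (range_glue (range_of_allRange c_act8_12) (range_glue (range_of_allRange c_act8_13) (range_glue (range_of_allRange c_act8_14) (range_glue (range_of_allRange c_act8_15) (range_glue (range_of_allRange c_act8_16) (range_glue (range_of_allRange c_act8_17) (range_glue (range_of_allRange c_act8_18) (range_glue (range_of_allRange c_act8_19) (range_of_allRange c_act8_20)))))))))))))))))))))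
theorem h_act9 : ∀ i, 0 ≤ i → i < 66825 → Nat.beq (actR9 i) i = true :=
  (range_glue (range_of_allRange c_act9_0) (range_glue (range_of_allRange c_act9_1) (range_glue (range_of_allRange c_act9_2) (range_glue (range_of_allRange c_act9_3) (range_glue (range_of_allRange c_act9_4) (range_glue (range_of_allRange c_act9_5) (range_glue (range_of_allRange c_act9_6) (range_glue (range_of_allRange c_act9_7) (range_glue (range_of_allRange c_act9_8) (range_glue (range_of_allRange c_act9_9) (range_glue (range_of_allRange c_act9_10) (range_glue (range_of_allRange c_act9_11) (range_glue (range_of_allRange c_act9_12) (range_glue (range_of_allRange c_act9_13) (range_glue (range_of_allRange c_act9_14) (range_glue (range_of_allRange c_act9_15) (range_glue (range_of_allRange c_act9_16) (range_glue (range_of_allRange c_act9_17) (range_of_allRange c_act9_18)))))))))))))))))))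
theorem h_act10 : ∀ i, 0 ≤ i → i < 66825 → Nat.beq (actR10 i) i = true :=
  (range_glue (range_of_allRange c_act10_0) (range_glue (range_of_allRange c_act10_1) (range_glue (range_of_allRange c_act10_2) (range_glue (range_of_allRange c_act10_3) (range_glue (range_of_allRange c_act10_4) (range_glue (range_of_allRange c_act10_5) (range_glue (range_of_allRange c_act10_6) (range_glue (range_of_allRange c_act10_7) (range_glue (range_of_allRange c_act10_8) (range_glue (range_of_allRange c_act10_9) (range_glue (range_of_allRange c_act10_10) (range_glue (range_of_allRange c_act10_11) (range_glue (range_of_allRange c_act10_12) (range_glue (range_of_allRange c_act10_13) (range_glue (range_of_allRange c_act10_14) (range_glue (range_of_allRange c_act10_15) (range_glue (range_of_allRange c_act10_16) (range_glue (range_of_allRange c_act10_17) (range_glue (range_of_allRange c_act10_18) (range_glue (range_of_allRange c_act10_19) (range_of_allRange c_act10_20)))))))))))))))))))))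
theorem h_act11 : ∀ i, 0 ≤ i → i < 66825 → Nat.beq (actR11 i) i = true :=
  (range_glue (range_of_allRange c_act11_0) (range_glue (range_of_allRange c_act11_1) (range_glue (range_of_allRange c_act11_2) (range_glue (range_of_allRange c_act11_3) (range_of_allRange c_act11_4)))))
theorem h_act12 : ∀ i, 0 ≤ i → i < 66825 → Nat.beq (actR12 i) i = true :=
  (range_glue (range_of_allRange c_act12_0) (range_glue (range_of_allRange c_act12_1) (range_glue (range_of_allRange c_act12_2) (range_glue (range_of_allRange c_act12_3) (range_glue (range_of_allRange c_act12_4) (range_of_allRange c_act12_5))))))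
theorem h_act13 : ∀ i, 0 ≤ i → i < 66825 → Nat.beq (actR13 i) i = true :=
  (range_glue (range_of_allRange c_act13_0) (range_glue (range_of_allRange c_act13_1) (range_glue (range_of_allRange c_act13_2) (range_glue (range_of_allRange c_act13_3) (range_glue (range_of_allRange c_act13_4) (range_of_allRange c_act13_5))))))
theorem h_act14 : ∀ i, 0 ≤ i → i < 66825 → Nat.beq (actR14 i) i = true :=
  (range_glue (range_of_allRange c_act14_0) (range_glue (range_of_allRange c_act14_1) (range_glue (range_of_allRange c_act14_2) (range_glue (range_of_allRange c_act14_3) (range_glue (range_of_allRange c_act14_4) (range_of_allRange c_act14_5))))))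
theorem h_act15 : ∀ i, 0 ≤ i → i < 66825 → Nat.beq (actR15 i) i = true :=
  (range_glue (range_of_allRange c_act15_0) (range_glue (range_of_allRange c_act15_1) (range_glue (range_of_allRange c_act15_2) (range_of_allRange c_act15_3))))
theorem h_act16 : ∀ i, 0 ≤ i → i < 66825 → Nat.beq (actR16 i) i = true :=
  (range_glue (range_of_allRange c_act16_0) (range_glue (range_of_allRange c_act16_1) (range_glue (range_of_allRange c_act16_2) (range_of_allRange c_act16_3))))
theorem h_act17 : ∀ i, 0 ≤ i → i < 66825 → Nat.beq (actR17 i) i = true :=
  (range_glue (range_of_allRange c_act17_0) (range_glue (range_of_allRange c_act17_1) (range_glue (range_of_allRange c_act17_2) (range_of_allRange c_act17_3))))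
theorem h_act18 : ∀ i, 0 ≤ i → i < 66825 → Nat.beq (actR18 i) i = true :=
  (range_glue (range_of_allRange c_act18_0) (range_glue (range_of_allRange c_act18_1) (range_glue (range_of_allRange c_act18_2) (range_of_allRange c_act18_3))))
theorem h_act19 : ∀ i, 0 ≤ i → i < 66825 → Nat.beq (actR19 i) i = true :=
  (range_glue (range_of_allRange c_act19_0) (range_glue (range_of_allRange c_act19_1) (range_glue (range_of_allRange c_act19_2) (range_of_allRange c_act19_3))))
theorem h_act20 : ∀ i, 0 ≤ i → i < 66825 → Nat.beq (actR20 i) i = true :=
  (range_glue (range_of_allRange c_act20_0) (range_glue (range_of_allRange c_act20_1) (range_glue (range_of_allRange c_act20_2) (range_of_allRange c_act20_3))))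
theorem h_act21 : ∀ i, 0 ≤ i → i < 66825 → Nat.beq (actR21 i) i = true :=
  (range_glue (range_of_allRange c_act21_0) (range_glue (range_of_allRange c_act21_1) (range_glue (range_of_allRange c_act21_2) (range_of_allRange c_act21_3))))
theorem h_act22 : ∀ i, 0 ≤ i → i < 66825 → Nat.beq (actR22 i) i = true :=
  (range_glue (range_of_allRange c_act22_0) (range_glue (range_of_allRange c_act22_1) (range_glue (range_of_allRange c_act22_2) (range_of_allRange c_act22_3))))
theorem h_act23 : ∀ i, 0 ≤ i → i < 66825 → Nat.beq (actR23 i) i = true :=
  (range_glue (range_of_allRange c_act23_0) (range_glue (range_of_allRange c_act23_1) (range_glue (range_of_allRange c_act23_2) (range_of_allRange c_act23_3))))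
theorem h_act24 : ∀ i, 0 ≤ i → i < 66825 → Nat.beq (actR24 i) i = true :=
  (range_glue (range_of_allRange c_act24_0) (range_glue (range_of_allRange c_act24_1) (range_glue (range_of_allRange c_act24_2) (range_of_allRange c_act24_3))))
theorem h_act25 : ∀ i, 0 ≤ i → i < 66825 → Nat.beq (actR25 i) i = true :=
  (range_glue (range_of_allRange c_act25_0) (range_glue (range_of_allRange c_act25_1) (range_glue (range_of_allRange c_act25_2) (range_glue (range_of_allRange c_act25_3) (range_of_allRange c_act25_4)))))
theorem h_act26 : ∀ i, 0 ≤ i → i < 66825 → Nat.beq (actR26 i) i = true :=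
  (range_glue (range_of_allRange c_act26_0) (range_glue (range_of_allRange c_act26_1) (range_glue (range_of_allRange c_act26_2) (range_glue (range_of_allRange c_act26_3) (range_of_allRange c_act26_4)))))
theorem h_act27 : ∀ i, 0 ≤ i → i < 66825 → Nat.beq (actR27 i) i = true :=
  (range_glue (range_of_allRange c_act27_0) (range_glue (range_of_allRange c_act27_1) (range_glue (range_of_allRange c_act27_2) (range_glue (range_of_allRange c_act27_3) (range_of_allRange c_act27_4)))))
theorem h_act28 : ∀ i, 0 ≤ i → i < 66825 → Nat.beq (actR28 i) i = true :=
  (range_glue (range_of_allRange c_act28_0) (range_glue (range_of_allRange c_act28_1) (range_glue (range_of_allRange c_act28_2) (range_glue (range_of_allRange c_act28_3) (range_of_allRange c_act28_4)))))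
theorem h_act29 : ∀ i, 0 ≤ i → i < 66825 → Nat.beq (actR29 i) i = true :=
  (range_glue (range_of_allRange c_act29_0) (range_glue (range_of_allRange c_act29_1) (range_glue (range_of_allRange c_act29_2) (range_glue (range_of_allRange c_act29_3) (range_of_allRange c_act29_4)))))
theorem h_act30 : ∀ i, 0 ≤ i → i < 66825 → Nat.beq (actR30 i) i = true :=
  (range_glue (range_of_allRange c_act30_0) (range_glue (range_of_allRange c_act30_1) (range_glue (range_of_allRange c_act30_2) (range_glue (range_of_allRange c_act30_3) (range_of_allRange c_act30_4)))))
theorem h_act31 : ∀ i, 0 ≤ i → i < 66825 → Nat.beq (actR31 i) i = true :=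
  (range_glue (range_of_allRange c_act31_0) (range_glue (range_of_allRange c_act31_1) (range_glue (range_of_allRange c_act31_2) (range_glue (range_of_allRange c_act31_3) (range_of_allRange c_act31_4)))))
theorem h_act32 : ∀ i, 0 ≤ i → i < 66825 → Nat.beq (actR32 i) i = true :=
  (range_glue (range_of_allRange c_act32_0) (range_glue (range_of_allRange c_act32_1) (range_glue (range_of_allRange c_act32_2) (range_glue (range_of_allRange c_act32_3) (range_of_allRange c_act32_4)))))
theorem h_act33 : ∀ i, 0 ≤ i → i < 66825 → Nat.beq (actR33 i) i = true :=
  (range_glue (range_of_allRange c_act33_0) (range_glue (range_of_allRange c_act33_1) (range_glue (range_of_allRange c_act33_2) (range_glue (range_of_allRange c_act33_3) (range_of_allRange c_act33_4)))))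
theorem h_act34 : ∀ i, 0 ≤ i → i < 66825 → Nat.beq (actR34 i) i = true :=
  (range_glue (range_of_allRange c_act34_0) (range_glue (range_of_allRange c_act34_1) (range_glue (range_of_allRange c_act34_2) (range_glue (range_of_allRange c_act34_3) (range_of_allRange c_act34_4)))))
theorem h_act35 : ∀ i, 0 ≤ i → i < 66825 → Nat.beq (actR35 i) i = true :=
  (range_glue (range_of_allRange c_act35_0) (range_glue (range_of_allRange c_act35_1) (range_glue (range_of_allRange c_act35_2) (range_glue (range_of_allRange c_act35_3) (range_of_allRange c_act35_4)))))
theorem h_act36 : ∀ i, 0 ≤ i → i < 66825 → Nat.beq (actR36 i) i = true :=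
  (range_glue (range_of_allRange c_act36_0) (range_glue (range_of_allRange c_act36_1) (range_glue (range_of_allRange c_act36_2) (range_glue (range_of_allRange c_act36_3) (range_of_allRange c_act36_4)))))
theorem h_act37 : ∀ i, 0 ≤ i → i < 66825 → Nat.beq (actR37 i) i = true :=
  (range_glue (range_of_allRange c_act37_0) (range_glue (range_of_allRange c_act37_1) (range_glue (range_of_allRange c_act37_2) (range_glue (range_of_allRange c_act37_3) (range_of_allRange c_act37_4)))))
theorem h_act38 : ∀ i, 0 ≤ i → i < 66825 → Nat.beq (actR38 i) i = true :=
  (range_glue (range_of_allRange c_act38_0) (range_glue (range_of_allRange c_act38_1) (range_glue (range_of_allRange c_act38_2) (range_glue (range_of_allRange c_act38_3) (range_of_allRange c_act38_4)))))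
theorem h_act39 : ∀ i, 0 ≤ i → i < 66825 → Nat.beq (actR39 i) i = true :=
  (range_glue (range_of_allRange c_act39_0) (range_glue (range_of_allRange c_act39_1) (range_glue (range_of_allRange c_act39_2) (range_glue (range_of_allRange c_act39_3) (range_of_allRange c_act39_4)))))
theorem h_act40 : ∀ i, 0 ≤ i → i < 66825 → Nat.beq (actR40 i) i = true :=
  (range_glue (range_of_allRange c_act40_0) (range_glue (range_of_allRange c_act40_1) (range_glue (range_of_allRange c_act40_2) (range_glue (range_of_allRange c_act40_3) (range_of_allRange c_act40_4)))))
theorem h_act41 : ∀ i, 0 ≤ i → i < 66825 → Nat.beq (actR41 i) i = true :=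
  (range_glue (range_of_allRange c_act41_0) (range_glue (range_of_allRange c_act41_1) (range_glue (range_of_allRange c_act41_2) (range_glue (range_of_allRange c_act41_3) (range_of_allRange c_act41_4)))))
theorem h_act42 : ∀ i, 0 ≤ i → i < 66825 → Nat.beq (actR42 i) i = true :=
  (range_glue (range_of_allRange c_act42_0) (range_glue (range_of_allRange c_act42_1) (range_glue (range_of_allRange c_act42_2) (range_glue (range_of_allRange c_act42_3) (range_of_allRange c_act42_4)))))
theorem h_act43 : ∀ i, 0 ≤ i → i < 66825 → Nat.beq (actR43 i) i = true :=
  (range_glue (range_of_allRange c_act43_0) (range_glue (range_of_allRange c_act43_1) (range_glue (range_of_allRange c_act43_2) (range_glue (range_of_allRange c_act43_3) (range_of_allRange c_act43_4)))))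
theorem h_act44 : ∀ i, 0 ≤ i → i < 66825 → Nat.beq (actR44 i) i = true :=
  (range_glue (range_of_allRange c_act44_0) (range_glue (range_of_allRange c_act44_1) (range_glue (range_of_allRange c_act44_2) (range_glue (range_of_allRange c_act44_3) (range_of_allRange c_act44_4)))))
theorem h_act45 : ∀ i, 0 ≤ i → i < 66825 → Nat.beq (actR45 i) i = true :=
  (range_glue (range_of_allRange c_act45_0) (range_glue (range_of_allRange c_act45_1) (range_glue (range_of_allRange c_act45_2) (range_glue (range_of_allRange c_act45_3) (range_of_allRange c_act45_4)))))
theorem h_act46 : ∀ i, 0 ≤ i → i < 66825 → Nat.beq (actR46 i) i = true :=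
  (range_glue (range_of_allRange c_act46_0) (range_glue (range_of_allRange c_act46_1) (range_glue (range_of_allRange c_act46_2) (range_glue (range_of_allRange c_act46_3) (range_of_allRange c_act46_4)))))
theorem h_act47 : ∀ i, 0 ≤ i → i < 66825 → Nat.beq (actR47 i) i = true :=
  (range_glue (range_of_allRange c_act47_0) (range_glue (range_of_allRange c_act47_1) (range_glue (range_of_allRange c_act47_2) (range_glue (range_of_allRange c_act47_3) (range_of_allRange c_act47_4)))))
theorem h_act48 : ∀ i, 0 ≤ i → i < 66825 → Nat.beq (actR48 i) i = true :=
  (range_glue (range_of_allRange c_act48_0) (range_glue (range_of_allRange c_act48_1) (range_glue (range_of_allRange c_act48_2) (range_glue (range_of_allRange c_act48_3) (range_of_allRange c_act48_4)))))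
theorem h_act49 : ∀ i, 0 ≤ i → i < 66825 → Nat.beq (actR49 i) i = true :=
  (range_glue (range_of_allRange c_act49_0) (range_glue (range_of_allRange c_act49_1) (range_glue (range_of_allRange c_act49_2) (range_glue (range_of_allRange c_act49_3) (range_of_allRange c_act49_4)))))
theorem h_act50 : ∀ i, 0 ≤ i → i < 66825 → Nat.beq (actR50 i) i = true :=
  (range_glue (range_of_allRange c_act50_0) (range_glue (range_of_allRange c_act50_1) (range_glue (range_of_allRange c_act50_2) (range_glue (range_of_allRange c_act50_3) (range_of_allRange c_act50_4)))))
theorem h_act51 : ∀ i, 0 ≤ i → i < 66825 → Nat.beq (actR51 i) i = true :=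
  (range_glue (range_of_allRange c_act51_0) (range_glue (range_of_allRange c_act51_1) (range_glue (range_of_allRange c_act51_2) (range_glue (range_of_allRange c_act51_3) (range_of_allRange c_act51_4)))))
theorem h_act52 : ∀ i, 0 ≤ i → i < 66825 → Nat.beq (actR52 i) i = true :=
  (range_glue (range_of_allRange c_act52_0) (range_glue (range_of_allRange c_act52_1) (range_glue (range_of_allRange c_act52_2) (range_glue (range_of_allRange c_act52_3) (range_of_allRange c_act52_4)))))
theorem h_act53 : ∀ i, 0 ≤ i → i < 66825 → Nat.beq (actR53 i) i = true :=
  (range_glue (range_of_allRange c_act53_0) (range_glue (range_of_allRange c_act53_1) (range_glue (range_of_allRange c_act53_2) (range_glue (range_of_allRange c_act53_3) (range_of_allRange c_act53_4)))))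
theorem h_act54 : ∀ i, 0 ≤ i → i < 66825 → Nat.beq (actR54 i) i = true :=
  (range_glue (range_of_allRange c_act54_0) (range_glue (range_of_allRange c_act54_1) (range_glue (range_of_allRange c_act54_2) (range_glue (range_of_allRange c_act54_3) (range_of_allRange c_act54_4)))))
theorem h_act55 : ∀ i, 0 ≤ i → i < 66825 → Nat.beq (actR55 i) i = true :=
  (range_glue (range_of_allRange c_act55_0) (range_glue (range_of_allRange c_act55_1) (range_glue (range_of_allRange c_act55_2) (range_glue (range_of_allRange c_act55_3) (range_of_allRange c_act55_4)))))
theorem h_act56 : ∀ i, 0 ≤ i → i < 66825 → Nat.beq (actR56 i) i = true :=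
  (range_glue (range_of_allRange c_act56_0) (range_glue (range_of_allRange c_act56_1) (range_glue (range_of_allRange c_act56_2) (range_glue (range_of_allRange c_act56_3) (range_of_allRange c_act56_4)))))
theorem h_act57 : ∀ i, 0 ≤ i → i < 66825 → Nat.beq (actR57 i) i = true :=
  (range_glue (range_of_allRange c_act57_0) (range_glue (range_of_allRange c_act57_1) (range_glue (range_of_allRange c_act57_2) (range_glue (range_of_allRange c_act57_3) (range_of_allRange c_act57_4)))))
theorem h_act58 : ∀ i, 0 ≤ i → i < 66825 → Nat.beq (actR58 i) i = true :=
  (range_glue (range_of_allRange c_act58_0) (range_glue (range_of_allRange c_act58_1) (range_glue (range_of_allRange c_act58_2) (range_glue (range_of_allRange c_act58_3) (range_of_allRange c_act58_4)))))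
theorem h_act59 : ∀ i, 0 ≤ i → i < 66825 → Nat.beq (actR59 i) i = true :=
  (range_glue (range_of_allRange c_act59_0) (range_glue (range_of_allRange c_act59_1) (range_glue (range_of_allRange c_act59_2) (range_glue (range_of_allRange c_act59_3) (range_of_allRange c_act59_4)))))
theorem h_act60 : ∀ i, 0 ≤ i → i < 66825 → Nat.beq (actR60 i) i = true :=
  (range_glue (range_of_allRange c_act60_0) (range_glue (range_of_allRange c_act60_1) (range_glue (range_of_allRange c_act60_2) (range_glue (range_of_allRange c_act60_3) (range_of_allRange c_act60_4)))))
theorem h_act61 : ∀ i, 0 ≤ i → i < 66825 → Nat.beq (actR61 i) i = true :=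
  (range_glue (range_of_allRange c_act61_0) (range_glue (range_of_allRange c_act61_1) (range_glue (range_of_allRange c_act61_2) (range_glue (range_of_allRange c_act61_3) (range_of_allRange c_act61_4)))))
theorem h_act62 : ∀ i, 0 ≤ i → i < 66825 → Nat.beq (actR62 i) i = true :=
  (range_glue (range_of_allRange c_act62_0) (range_glue (range_of_allRange c_act62_1) (range_glue (range_of_allRange c_act62_2) (range_glue (range_of_allRange c_act62_3) (range_of_allRange c_act62_4)))))
theorem h_act63 : ∀ i, 0 ≤ i → i < 66825 → Nat.beq (actR63 i) i = true :=
  (range_glue (range_of_allRange c_act63_0) (range_glue (range_of_allRange c_act63_1) (range_glue (range_of_allRange c_act63_2) (range_glue (range_of_allRange c_act63_3) (range_of_allRange c_act63_4)))))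
theorem h_act64 : ∀ i, 0 ≤ i → i < 66825 → Nat.beq (actR64 i) i = true :=
  (range_glue (range_of_allRange c_act64_0) (range_glue (range_of_allRange c_act64_1) (range_glue (range_of_allRange c_act64_2) (range_glue (range_of_allRange c_act64_3) (range_of_allRange c_act64_4)))))
theorem h_act65 : ∀ i, 0 ≤ i → i < 66825 → Nat.beq (actR65 i) i = true :=
  (range_glue (range_of_allRange c_act65_0) (range_glue (range_of_allRange c_act65_1) (range_glue (range_of_allRange c_act65_2) (range_glue (range_of_allRange c_act65_3) (range_of_allRange c_act65_4)))))
theorem h_act66 : ∀ i, 0 ≤ i → i < 66825 → Nat.beq (actR66 i) i = true :=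
  (range_glue (range_of_allRange c_act66_0) (range_glue (range_of_allRange c_act66_1) (range_glue (range_of_allRange c_act66_2) (range_glue (range_of_allRange c_act66_3) (range_of_allRange c_act66_4)))))
theorem h_act67 : ∀ i, 0 ≤ i → i < 66825 → Nat.beq (actR67 i) i = true :=
  (range_glue (range_of_allRange c_act67_0) (range_glue (range_of_allRange c_act67_1) (range_glue (range_of_allRange c_act67_2) (range_glue (range_of_allRange c_act67_3) (range_of_allRange c_act67_4)))))
theorem h_act68 : ∀ i, 0 ≤ i → i < 66825 → Nat.beq (actR68 i) i = true :=
  (range_glue (range_of_allRange c_act68_0) (range_glue (range_of_allRange c_act68_1) (range_glue (range_of_allRange c_act68_2) (range_glue (range_of_allRange c_act68_3) (range_of_allRange c_act68_4)))))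
theorem h_act69 : ∀ i, 0 ≤ i → i < 66825 → Nat.beq (actR69 i) i = true :=
  (range_glue (range_of_allRange c_act69_0) (range_glue (range_of_allRange c_act69_1) (range_glue (range_of_allRange c_act69_2) (range_glue (range_of_allRange c_act69_3) (range_of_allRange c_act69_4)))))
theorem h_act70 : ∀ i, 0 ≤ i → i < 66825 → Nat.beq (actR70 i) i = true :=
  (range_glue (range_of_allRange c_act70_0) (range_glue (range_of_allRange c_act70_1) (range_glue (range_of_allRange c_act70_2) (range_glue (range_of_allRange c_act70_3) (range_of_allRange c_act70_4)))))
theorem h_act71 : ∀ i, 0 ≤ i → i < 66825 → Nat.beq (actR71 i) i = true :=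
  (range_glue (range_of_allRange c_act71_0) (range_glue (range_of_allRange c_act71_1) (range_glue (range_of_allRange c_act71_2) (range_glue (range_of_allRange c_act71_3) (range_of_allRange c_act71_4)))))
theorem h_act72 : ∀ i, 0 ≤ i → i < 66825 → Nat.beq (actR72 i) i = true :=
  (range_glue (range_of_allRange c_act72_0) (range_glue (range_of_allRange c_act72_1) (range_glue (range_of_allRange c_act72_2) (range_glue (range_of_allRange c_act72_3) (range_of_allRange c_act72_4)))))
theorem h_act73 : ∀ i, 0 ≤ i → i < 66825 → Nat.beq (actR73 i) i = true :=
  (range_glue (range_of_allRange c_act73_0) (range_glue (range_of_allRange c_act73_1) (range_glue (range_of_allRange c_act73_2) (range_glue (range_of_allRange c_act73_3) (range_of_allRange c_act73_4)))))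
theorem h_act74 : ∀ i, 0 ≤ i → i < 66825 → Nat.beq (actR74 i) i = true :=
  (range_glue (range_of_allRange c_act74_0) (range_glue (range_of_allRange c_act74_1) (range_glue (range_of_allRange c_act74_2) (range_glue (range_of_allRange c_act74_3) (range_of_allRange c_act74_4)))))
theorem h_act75 : ∀ i, 0 ≤ i → i < 66825 → Nat.beq (actR75 i) i = true :=
  (range_glue (range_of_allRange c_act75_0) (range_glue (range_of_allRange c_act75_1) (range_glue (range_of_allRange c_act75_2) (range_glue (range_of_allRange c_act75_3) (range_glue (range_of_allRange c_act75_4) (range_glue (range_of_allRange c_act75_5) (range_glue (range_of_allRange c_act75_6) (range_of_allRange c_act75_7))))))))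
theorem h_act76 : ∀ i, 0 ≤ i → i < 66825 → Nat.beq (actR76 i) i = true :=
  (range_glue (range_of_allRange c_act76_0) (range_glue (range_of_allRange c_act76_1) (range_glue (range_of_allRange c_act76_2) (range_glue (range_of_allRange c_act76_3) (range_glue (range_of_allRange c_act76_4) (range_glue (range_of_allRange c_act76_5) (range_glue (range_of_allRange c_act76_6) (range_of_allRange c_act76_7))))))))
theorem h_act77 : ∀ i, 0 ≤ i → i < 66825 → Nat.beq (actR77 i) i = true :=
  (range_glue (range_of_allRange c_act77_0) (range_glue (range_of_allRange c_act77_1) (range_glue (range_of_allRange c_act77_2) (range_glue (range_of_allRange c_act77_3) (range_glue (range_of_allRange c_act77_4) (range_glue (range_of_allRange c_act77_5) (range_glue (range_of_allRange c_act77_6) (range_glue (range_of_allRange c_act77_7) (range_glue (range_of_allRange c_act77_8) (range_glue (range_of_allRange c_act77_9) (range_glue (range_of_allRange c_act77_10) (range_glue (range_of_allRange c_act77_11) (range_glue (range_of_allRange c_act77_12) (range_of_allRange c_act77_13))))))))))))))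
theorem h_act78 : ∀ i, 0 ≤ i → i < 66825 → Nat.beq (actR78 i) i = true :=
  (range_glue (range_of_allRange c_act78_0) (range_glue (range_of_allRange c_act78_1) (range_glue (range_of_allRange c_act78_2) (range_glue (range_of_allRange c_act78_3) (range_glue (range_of_allRange c_act78_4) (range_glue (range_of_allRange c_act78_5) (range_glue (range_of_allRange c_act78_6) (range_glue (range_of_allRange c_act78_7) (range_glue (range_of_allRange c_act78_8) (range_glue (range_of_allRange c_act78_9) (range_glue (range_of_allRange c_act78_10) (range_glue (range_of_allRange c_act78_11) (range_glue (range_of_allRange c_act78_12) (range_of_allRange c_act78_13))))))))))))))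
theorem h_act79 : ∀ i, 0 ≤ i → i < 66825 → Nat.beq (actR79 i) i = true :=
  (range_glue (range_of_allRange c_act79_0) (range_glue (range_of_allRange c_act79_1) (range_glue (range_of_allRange c_act79_2) (range_glue (range_of_allRange c_act79_3) (range_glue (range_of_allRange c_act79_4) (range_glue (range_of_allRange c_act79_5) (range_glue (range_of_allRange c_act79_6) (range_glue (range_of_allRange c_act79_7) (range_glue (range_of_allRange c_act79_8) (range_glue (range_of_allRange c_act79_9) (range_glue (range_of_allRange c_act79_10) (range_glue (range_of_allRange c_act79_11) (range_glue (range_of_allRange c_act79_12) (range_glue (range_of_allRange c_act79_13) (range_glue (range_of_allRange c_act79_14) (range_glue (range_of_allRange c_act79_15) (range_glue (range_of_allRange c_act79_16) (range_glue (range_of_allRange c_act79_17) (range_glue (range_of_allRange c_act79_18) (range_glue (range_of_allRange c_act79_19) (range_of_allRange c_act79_20)))))))))))))))))))))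
theorem h_act80 : ∀ i, 0 ≤ i → i < 66825 → Nat.beq (actR80 i) i = true :=
  (range_glue (range_of_allRange c_act80_0) (range_glue (range_of_allRange c_act80_1) (range_glue (range_of_allRange c_act80_2) (range_glue (range_of_allRange c_act80_3) (range_glue (range_of_allRange c_act80_4) (range_glue (range_of_allRange c_act80_5) (range_glue (range_of_allRange c_act80_6) (range_glue (range_of_allRange c_act80_7) (range_glue (range_of_allRange c_act80_8) (range_glue (range_of_allRange c_act80_9) (range_glue (range_of_allRange c_act80_10) (range_glue (range_of_allRange c_act80_11) (range_glue (range_of_allRange c_act80_12) (range_glue (range_of_allRange c_act80_13) (range_glue (range_of_allRange c_act80_14) (range_glue (range_of_allRange c_act80_15) (range_glue (range_of_allRange c_act80_16) (range_glue (range_of_allRange c_act80_17) (range_glue (range_of_allRange c_act80_18) (range_glue (range_of_allRange c_act80_19) (range_of_allRange c_act80_20)))))))))))))))))))))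
theorem h_act81 : ∀ i, 0 ≤ i → i < 66825 → Nat.beq (actR81 i) i = true :=
  (range_glue (range_of_allRange c_act81_0) (range_glue (range_of_allRange c_act81_1) (range_glue (range_of_allRange c_act81_2) (range_glue (range_of_allRange c_act81_3) (range_glue (range_of_allRange c_act81_4) (range_glue (range_of_allRange c_act81_5) (range_glue (range_of_allRange c_act81_6) (range_glue (range_of_allRange c_act81_7) (range_glue (range_of_allRange c_act81_8) (range_glue (range_of_allRange c_act81_9) (range_glue (range_of_allRange c_act81_10) (range_glue (range_of_allRange c_act81_11) (range_glue (range_of_allRange c_act81_12) (range_glue (range_of_allRange c_act81_13) (range_glue (range_of_allRange c_act81_14) (range_glue (range_of_allRange c_act81_15) (range_glue (range_of_allRange c_act81_16) (range_glue (range_of_allRange c_act81_17) (range_glue (range_of_allRange c_act81_18) (range_glue (range_of_allRange c_act81_19) (range_of_allRange c_act81_20)))))))))))))))))))))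
theorem h_act82 : ∀ i, 0 ≤ i → i < 66825 → Nat.beq (actR82 i) i = true :=
  (range_glue (range_of_allRange c_act82_0) (range_glue (range_of_allRange c_act82_1) (range_glue (range_of_allRange c_act82_2) (range_glue (range_of_allRange c_act82_3) (range_glue (range_of_allRange c_act82_4) (range_glue (range_of_allRange c_act82_5) (range_glue (range_of_allRange c_act82_6) (range_glue (range_of_allRange c_act82_7) (range_glue (range_of_allRange c_act82_8) (range_glue (range_of_allRange c_act82_9) (range_glue (range_of_allRange c_act82_10) (range_glue (range_of_allRange c_act82_11) (range_glue (range_of_allRange c_act82_12) (range_glue (range_of_allRange c_act82_13) (range_glue (range_of_allRange c_act82_14) (range_glue (range_of_allRange c_act82_15) (range_glue (range_of_allRange c_act82_16) (range_glue (range_of_allRange c_act82_17) (range_glue (range_of_allRange c_act82_18) (range_glue (range_of_allRange c_act82_19) (range_of_allRange c_act82_20)))))))))))))))))))))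
theorem h_act83 : ∀ i, 0 ≤ i → i < 66825 → Nat.beq (actR83 i) i = true :=
  (range_glue (range_of_allRange c_act83_0) (range_glue (range_of_allRange c_act83_1) (range_glue (range_of_allRange c_act83_2) (range_glue (range_of_allRange c_act83_3) (range_glue (range_of_allRange c_act83_4) (range_glue (range_of_allRange c_act83_5) (range_glue (range_of_allRange c_act83_6) (range_glue (range_of_allRange c_act83_7) (range_glue (range_of_allRange c_act83_8) (range_glue (range_of_allRange c_act83_9) (range_glue (range_of_allRange c_act83_10) (range_glue (range_of_allRange c_act83_11) (range_glue (range_of_allRange c_act83_12) (range_glue (range_of_allRange c_act83_13) (range_glue (range_of_allRange c_act83_14) (range_glue (range_of_allRange c_act83_15) (range_glue (range_of_allRange c_act83_16) (range_glue (range_of_allRange c_act83_17) (range_glue (range_of_allRange c_act83_18) (range_glue (range_of_allRange c_act83_19) (range_of_allRange c_act83_20)))))))))))))))))))))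
theorem h_act84 : ∀ i, 0 ≤ i → i < 66825 → Nat.beq (actR84 i) i = true :=
  (range_glue (range_of_allRange c_act84_0) (range_glue (range_of_allRange c_act84_1) (range_glue (range_of_allRange c_act84_2) (range_glue (range_of_allRange c_act84_3) (range_glue (range_of_allRange c_act84_4) (range_glue (range_of_allRange c_act84_5) (range_glue (range_of_allRange c_act84_6) (range_glue (range_of_allRange c_act84_7) (range_glue (range_of_allRange c_act84_8) (range_glue (range_of_allRange c_act84_9) (range_glue (range_of_allRange c_act84_10) (range_glue (range_of_allRange c_act84_11) (range_glue (range_of_allRange c_act84_12) (range_glue (range_of_allRange c_act84_13) (range_glue (range_of_allRange c_act84_14) (range_glue (range_of_allRange c_act84_15) (range_glue (range_of_allRange c_act84_16) (range_glue (range_of_allRange c_act84_17) (range_glue (range_of_allRange c_act84_18) (range_glue (range_of_allRange c_act84_19) (range_of_allRange c_act84_20)))))))))))))))))))))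
theorem h_act85 : ∀ i, 0 ≤ i → i < 66825 → Nat.beq (actR85 i) i = true :=
  (range_glue (range_of_allRange c_act85_0) (range_glue (range_of_allRange c_act85_1) (range_glue (range_of_allRange c_act85_2) (range_glue (range_of_allRange c_act85_3) (range_glue (range_of_allRange c_act85_4) (range_glue (range_of_allRange c_act85_5) (range_glue (range_of_allRange c_act85_6) (range_glue (range_of_allRange c_act85_7) (range_glue (range_of_allRange c_act85_8) (range_glue (range_of_allRange c_act85_9) (range_glue (range_of_allRange c_act85_10) (range_glue (range_of_allRange c_act85_11) (range_glue (range_of_allRange c_act85_12) (range_glue (range_of_allRange c_act85_13) (range_glue (range_of_allRange c_act85_14) (range_glue (range_of_allRange c_act85_15) (range_glue (range_of_allRange c_act85_16) (range_glue (range_of_allRange c_act85_17) (range_glue (range_of_allRange c_act85_18) (range_glue (range_of_allRange c_act85_19) (range_of_allRange c_act85_20)))))))))))))))))))))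
theorem h_act86 : ∀ i, 0 ≤ i → i < 66825 → Nat.beq (actR86 i) i = true :=
  (range_glue (range_of_allRange c_act86_0) (range_glue (range_of_allRange c_act86_1) (range_glue (range_of_allRange c_act86_2) (range_glue (range_of_allRange c_act86_3) (range_glue (range_of_allRange c_act86_4) (range_glue (range_of_allRange c_act86_5) (range_glue (range_of_allRange c_act86_6) (range_glue (range_of_allRange c_act86_7) (range_glue (range_of_allRange c_act86_8) (range_glue (range_of_allRange c_act86_9) (range_glue (range_of_allRange c_act86_10) (range_glue (range_of_allRange c_act86_11) (range_glue (range_of_allRange c_act86_12) (range_glue (range_of_allRange c_act86_13) (range_glue (range_of_allRange c_act86_14) (range_glue (range_of_allRange c_act86_15) (range_glue (range_of_allRange c_act86_16) (range_glue (range_of_allRange c_act86_17) (range_glue (range_of_allRange c_act86_18) (range_glue (range_of_allRange c_act86_19) (range_of_allRange c_act86_20)))))))))))))))))))))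
theorem h_act87 : ∀ i, 0 ≤ i → i < 66825 → Nat.beq (actR87 i) i = true :=
  (range_glue (range_of_allRange c_act87_0) (range_glue (range_of_allRange c_act87_1) (range_glue (range_of_allRange c_act87_2) (range_glue (range_of_allRange c_act87_3) (range_glue (range_of_allRange c_act87_4) (range_glue (range_of_allRange c_act87_5) (range_glue (range_of_allRange c_act87_6) (range_glue (range_of_allRange c_act87_7) (range_glue (range_of_allRange c_act87_8) (range_glue (range_of_allRange c_act87_9) (range_glue (range_of_allRange c_act87_10) (range_glue (range_of_allRange c_act87_11) (range_glue (range_of_allRange c_act87_12) (range_glue (range_of_allRange c_act87_13) (range_glue (range_of_allRange c_act87_14) (range_glue (range_of_allRange c_act87_15) (range_glue (range_of_allRange c_act87_16) (range_glue (range_of_allRange c_act87_17) (range_glue (range_of_allRange c_act87_18) (range_glue (range_of_allRange c_act87_19) (range_of_allRange c_act87_20)))))))))))))))))))))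
theorem h_act88 : ∀ i, 0 ≤ i → i < 66825 → Nat.beq (actR88 i) i = true :=
  (range_glue (range_of_allRange c_act88_0) (range_glue (range_of_allRange c_act88_1) (range_glue (range_of_allRange c_act88_2) (range_glue (range_of_allRange c_act88_3) (range_glue (range_of_allRange c_act88_4) (range_glue (range_of_allRange c_act88_5) (range_glue (range_of_allRange c_act88_6) (range_glue (range_of_allRange c_act88_7) (range_glue (range_of_allRange c_act88_8) (range_glue (range_of_allRange c_act88_9) (range_glue (range_of_allRange c_act88_10) (range_glue (range_of_allRange c_act88_11) (range_glue (range_of_allRange c_act88_12) (range_glue (range_of_allRange c_act88_13) (range_glue (range_of_allRange c_act88_14) (range_glue (range_of_allRange c_act88_15) (range_glue (range_of_allRange c_act88_16) (range_glue (range_of_allRange c_act88_17) (range_glue (range_of_allRange c_act88_18) (range_glue (range_of_allRange c_act88_19) (range_of_allRange c_act88_20)))))))))))))))))))))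
theorem h_act89 : ∀ i, 0 ≤ i → i < 66825 → Nat.beq (actR89 i) i = true :=
  (range_glue (range_of_allRange c_act89_0) (range_glue (range_of_allRange c_act89_1) (range_glue (range_of_allRange c_act89_2) (range_glue (range_of_allRange c_act89_3) (range_glue (range_of_allRange c_act89_4) (range_glue (range_of_allRange c_act89_5) (range_glue (range_of_allRange c_act89_6) (range_glue (range_of_allRange c_act89_7) (range_glue (range_of_allRange c_act89_8) (range_glue (range_of_allRange c_act89_9) (range_glue (range_of_allRange c_act89_10) (range_glue (range_of_allRange c_act89_11) (range_glue (range_of_allRange c_act89_12) (range_glue (range_of_allRange c_act89_13) (range_glue (range_of_allRange c_act89_14) (range_glue (range_of_allRange c_act89_15) (range_glue (range_of_allRange c_act89_16) (range_glue (range_of_allRange c_act89_17) (range_glue (range_of_allRange c_act89_18) (range_glue (range_of_allRange c_act89_19) (range_of_allRange c_act89_20)))))))))))))))))))))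
theorem h_act90 : ∀ i, 0 ≤ i → i < 66825 → Nat.beq (actR90 i) i = true :=
  (range_glue (range_of_allRange c_act90_0) (range_glue (range_of_allRange c_act90_1) (range_glue (range_of_allRange c_act90_2) (range_glue (range_of_allRange c_act90_3) (range_glue (range_of_allRange c_act90_4) (range_glue (range_of_allRange c_act90_5) (range_glue (range_of_allRange c_act90_6) (range_glue (range_of_allRange c_act90_7) (range_glue (range_of_allRange c_act90_8) (range_glue (range_of_allRange c_act90_9) (range_glue (range_of_allRange c_act90_10) (range_glue (range_of_allRange c_act90_11) (range_glue (range_of_allRange c_act90_12) (range_glue (range_of_allRange c_act90_13) (range_glue (range_of_allRange c_act90_14) (range_glue (range_of_allRange c_act90_15) (range_glue (range_of_allRange c_act90_16) (range_glue (range_of_allRange c_act90_17) (range_glue (range_of_allRange c_act90_18) (range_glue (range_of_allRange c_act90_19) (range_of_allRange c_act90_20)))))))))))))))))))))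
theorem h_act91 : ∀ i, 0 ≤ i → i < 66825 → Nat.beq (actR91 i) i = true :=
  (range_glue (range_of_allRange c_act91_0) (range_glue (range_of_allRange c_act91_1) (range_glue (range_of_allRange c_act91_2) (range_glue (range_of_allRange c_act91_3) (range_glue (range_of_allRange c_act91_4) (range_glue (range_of_allRange c_act91_5) (range_glue (range_of_allRange c_act91_6) (range_glue (range_of_allRange c_act91_7) (range_glue (range_of_allRange c_act91_8) (range_glue (range_of_allRange c_act91_9) (range_glue (range_of_allRange c_act91_10) (range_glue (range_of_allRange c_act91_11) (range_glue (range_of_allRange c_act91_12) (range_glue (range_of_allRange c_act91_13) (range_glue (range_of_allRange c_act91_14) (range_glue (range_of_allRange c_act91_15) (range_glue (range_of_allRange c_act91_16) (range_glue (range_of_allRange c_act91_17) (range_glue (range_of_allRange c_act91_18) (range_glue (range_of_allRange c_act91_19) (range_of_allRange c_act91_20)))))))))))))))))))))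
theorem h_act92 : ∀ i, 0 ≤ i → i < 66825 → Nat.beq (actR92 i) i = true :=
  (range_glue (range_of_allRange c_act92_0) (range_glue (range_of_allRange c_act92_1) (range_glue (range_of_allRange c_act92_2) (range_glue (range_of_allRange c_act92_3) (range_glue (range_of_allRange c_act92_4) (range_glue (range_of_allRange c_act92_5) (range_glue (range_of_allRange c_act92_6) (range_glue (range_of_allRange c_act92_7) (range_glue (range_of_allRange c_act92_8) (range_glue (range_of_allRange c_act92_9) (range_glue (range_of_allRange c_act92_10) (range_glue (range_of_allRange c_act92_11) (range_glue (range_of_allRange c_act92_12) (range_glue (range_of_allRange c_act92_13) (range_glue (range_of_allRange c_act92_14) (range_glue (range_of_allRange c_act92_15) (range_glue (range_of_allRange c_act92_16) (range_glue (range_of_allRange c_act92_17) (range_glue (range_of_allRange c_act92_18) (range_glue (range_of_allRange c_act92_19) (range_of_allRange c_act92_20)))))))))))))))))))))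
theorem h_act93 : ∀ i, 0 ≤ i → i < 66825 → Nat.beq (actR93 i) i = true :=
  (range_glue (range_of_allRange c_act93_0) (range_glue (range_of_allRange c_act93_1) (range_glue (range_of_allRange c_act93_2) (range_glue (range_of_allRange c_act93_3) (range_glue (range_of_allRange c_act93_4) (range_glue (range_of_allRange c_act93_5) (range_glue (range_of_allRange c_act93_6) (range_glue (range_of_allRange c_act93_7) (range_glue (range_of_allRange c_act93_8) (range_glue (range_of_allRange c_act93_9) (range_glue (range_of_allRange c_act93_10) (range_glue (range_of_allRange c_act93_11) (range_glue (range_of_allRange c_act93_12) (range_glue (range_of_allRange c_act93_13) (range_glue (range_of_allRange c_act93_14) (range_glue (range_of_allRange c_act93_15) (range_glue (range_of_allRange c_act93_16) (range_glue (range_of_allRange c_act93_17) (range_glue (range_of_allRange c_act93_18) (range_glue (range_of_allRange c_act93_19) (range_of_allRange c_act93_20)))))))))))))))))))))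
theorem h_act94 : ∀ i, 0 ≤ i → i < 66825 → Nat.beq (actR94 i) i = true :=
  (range_glue (range_of_allRange c_act94_0) (range_glue (range_of_allRange c_act94_1) (range_glue (range_of_allRange c_act94_2) (range_glue (range_of_allRange c_act94_3) (range_glue (range_of_allRange c_act94_4) (range_glue (range_of_allRange c_act94_5) (range_glue (range_of_allRange c_act94_6) (range_glue (range_of_allRange c_act94_7) (range_glue (range_of_allRange c_act94_8) (range_glue (range_of_allRange c_act94_9) (range_glue (range_of_allRange c_act94_10) (range_glue (range_of_allRange c_act94_11) (range_glue (range_of_allRange c_act94_12) (range_glue (range_of_allRange c_act94_13) (range_glue (range_of_allRange c_act94_14) (range_glue (range_of_allRange c_act94_15) (range_glue (range_of_allRange c_act94_16) (range_glue (range_of_allRange c_act94_17) (range_glue (range_of_allRange c_act94_18) (range_glue (range_of_allRange c_act94_19) (range_of_allRange c_act94_20)))))))))))))))))))))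
theorem h_act95 : ∀ i, 0 ≤ i → i < 66825 → Nat.beq (actR95 i) i = true :=
  (range_glue (range_of_allRange c_act95_0) (range_glue (range_of_allRange c_act95_1) (range_glue (range_of_allRange c_act95_2) (range_glue (range_of_allRange c_act95_3) (range_glue (range_of_allRange c_act95_4) (range_glue (range_of_allRange c_act95_5) (range_glue (range_of_allRange c_act95_6) (range_glue (range_of_allRange c_act95_7) (range_glue (range_of_allRange c_act95_8) (range_glue (range_of_allRange c_act95_9) (range_glue (range_of_allRange c_act95_10) (range_glue (range_of_allRange c_act95_11) (range_glue (range_of_allRange c_act95_12) (range_glue (range_of_allRange c_act95_13) (range_glue (range_of_allRange c_act95_14) (range_glue (range_of_allRange c_act95_15) (range_glue (range_of_allRange c_act95_16) (range_glue (range_of_allRange c_act95_17) (range_glue (range_of_allRange c_act95_18) (range_glue (range_of_allRange c_act95_19) (range_glue (range_of_allRange c_act95_20) (range_of_allRange c_act95_21))))))))))))))))))))))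
theorem h_act96 : ∀ i, 0 ≤ i → i < 66825 → Nat.beq (actR96 i) i = true :=
  (range_glue (range_of_allRange c_act96_0) (range_glue (range_of_allRange c_act96_1) (range_glue (range_of_allRange c_act96_2) (range_glue (range_of_allRange c_act96_3) (range_glue (range_of_allRange c_act96_4) (range_glue (range_of_allRange c_act96_5) (range_glue (range_of_allRange c_act96_6) (range_glue (range_of_allRange c_act96_7) (range_glue (range_of_allRange c_act96_8) (range_glue (range_of_allRange c_act96_9) (range_glue (range_of_allRange c_act96_10) (range_glue (range_of_allRange c_act96_11) (range_glue (range_of_allRange c_act96_12) (range_glue (range_of_allRange c_act96_13) (range_glue (range_of_allRange c_act96_14) (range_glue (range_of_allRange c_act96_15) (range_glue (range_of_allRange c_act96_16) (range_glue (range_of_allRange c_act96_17) (range_glue (range_of_allRange c_act96_18) (range_glue (range_of_allRange c_act96_19) (range_glue (range_of_allRange c_act96_20) (range_of_allRange c_act96_21))))))))))))))))))))))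
theorem h_act97 : ∀ i, 0 ≤ i → i < 66825 → Nat.beq (actR97 i) i = true :=
  (range_glue (range_of_allRange c_act97_0) (range_glue (range_of_allRange c_act97_1) (range_glue (range_of_allRange c_act97_2) (range_glue (range_of_allRange c_act97_3) (range_glue (range_of_allRange c_act97_4) (range_glue (range_of_allRange c_act97_5) (range_glue (range_of_allRange c_act97_6) (range_glue (range_of_allRange c_act97_7) (range_glue (range_of_allRange c_act97_8) (range_glue (range_of_allRange c_act97_9) (range_glue (range_of_allRange c_act97_10) (range_glue (range_of_allRange c_act97_11) (range_glue (range_of_allRange c_act97_12) (range_glue (range_of_allRange c_act97_13) (range_glue (range_of_allRange c_act97_14) (range_glue (range_of_allRange c_act97_15) (range_glue (range_of_allRange c_act97_16) (range_glue (range_of_allRange c_act97_17) (range_glue (range_of_allRange c_act97_18) (range_glue (range_of_allRange c_act97_19) (range_glue (range_of_allRange c_act97_20) (range_of_allRange c_act97_21))))))))))))))))))))))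
theorem h_act98 : ∀ i, 0 ≤ i → i < 66825 → Nat.beq (actR98 i) i = true :=
  (range_glue (range_of_allRange c_act98_0) (range_glue (range_of_allRange c_act98_1) (range_glue (range_of_allRange c_act98_2) (range_glue (range_of_allRange c_act98_3) (range_glue (range_of_allRange c_act98_4) (range_glue (range_of_allRange c_act98_5) (range_glue (range_of_allRange c_act98_6) (range_glue (range_of_allRange c_act98_7) (range_glue (range_of_allRange c_act98_8) (range_glue (range_of_allRange c_act98_9) (range_glue (range_of_allRange c_act98_10) (range_glue (range_of_allRange c_act98_11) (range_glue (range_of_allRange c_act98_12) (range_glue (range_of_allRange c_act98_13) (range_glue (range_of_allRange c_act98_14) (range_glue (range_of_allRange c_act98_15) (range_glue (range_of_allRange c_act98_16) (range_glue (range_of_allRange c_act98_17) (range_glue (range_of_allRange c_act98_18) (range_glue (range_of_allRange c_act98_19) (range_glue (range_of_allRange c_act98_20) (range_of_allRange c_act98_21))))))))))))))))))))))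
theorem h_act99 : ∀ i, 0 ≤ i → i < 66825 → Nat.beq (actR99 i) i = true :=
  (range_glue (range_of_allRange c_act99_0) (range_glue (range_of_allRange c_act99_1) (range_glue (range_of_allRange c_act99_2) (range_glue (range_of_allRange c_act99_3) (range_glue (range_of_allRange c_act99_4) (range_glue (range_of_allRange c_act99_5) (range_glue (range_of_allRange c_act99_6) (range_glue (range_of_allRange c_act99_7) (range_glue (range_of_allRange c_act99_8) (range_glue (range_of_allRange c_act99_9) (range_glue (range_of_allRange c_act99_10) (range_glue (range_of_allRange c_act99_11) (range_glue (range_of_allRange c_act99_12) (range_glue (range_of_allRange c_act99_13) (range_glue (range_of_allRange c_act99_14) (range_glue (range_of_allRange c_act99_15) (range_glue (range_of_allRange c_act99_16) (range_glue (range_of_allRange c_act99_17) (range_glue (range_of_allRange c_act99_18) (range_glue (range_of_allRange c_act99_19) (range_glue (range_of_allRange c_act99_20) (range_of_allRange c_act99_21))))))))))))))))))))))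
theorem h_act100 : ∀ i, 0 ≤ i → i < 66825 → Nat.beq (actR100 i) i = true :=
  (range_glue (range_of_allRange c_act100_0) (range_glue (range_of_allRange c_act100_1) (range_glue (range_of_allRange c_act100_2) (range_glue (range_of_allRange c_act100_3) (range_glue (range_of_allRange c_act100_4) (range_glue (range_of_allRange c_act100_5) (range_glue (range_of_allRange c_act100_6) (range_glue (range_of_allRange c_act100_7) (range_glue (range_of_allRange c_act100_8) (range_glue (range_of_allRange c_act100_9) (range_glue (range_of_allRange c_act100_10) (range_glue (range_of_allRange c_act100_11) (range_glue (range_of_allRange c_act100_12) (range_glue (range_of_allRange c_act100_13) (range_glue (range_of_allRange c_act100_14) (range_glue (range_of_allRange c_act100_15) (range_glue (range_of_allRange c_act100_16) (range_glue (range_of_allRange c_act100_17) (range_glue (range_of_allRange c_act100_18) (range_glue (range_of_allRange c_act100_19) (range_glue (range_of_allRange c_act100_20) (range_of_allRange c_act100_21))))))))))))))))))))))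
theorem h_act101 : ∀ i, 0 ≤ i → i < 66825 → Nat.beq (actR101 i) i = true :=
  (range_glue (range_of_allRange c_act101_0) (range_glue (range_of_allRange c_act101_1) (range_glue (range_of_allRange c_act101_2) (range_glue (range_of_allRange c_act101_3) (range_glue (range_of_allRange c_act101_4) (range_glue (range_of_allRange c_act101_5) (range_glue (range_of_allRange c_act101_6) (range_glue (range_of_allRange c_act101_7) (range_glue (range_of_allRange c_act101_8) (range_glue (range_of_allRange c_act101_9) (range_glue (range_of_allRange c_act101_10) (range_glue (range_of_allRange c_act101_11) (range_glue (range_of_allRange c_act101_12) (range_glue (range_of_allRange c_act101_13) (range_glue (range_of_allRange c_act101_14) (range_glue (range_of_allRange c_act101_15) (range_glue (range_of_allRange c_act101_16) (range_glue (range_of_allRange c_act101_17) (range_glue (range_of_allRange c_act101_18) (range_glue (range_of_allRange c_act101_19) (range_glue (range_of_allRange c_act101_20) (range_of_allRange c_act101_21))))))))))))))))))))))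
theorem h_act102 : ∀ i, 0 ≤ i → i < 66825 → Nat.beq (actR102 i) i = true :=
  (range_glue (range_of_allRange c_act102_0) (range_glue (range_of_allRange c_act102_1) (range_glue (range_of_allRange c_act102_2) (range_glue (range_of_allRange c_act102_3) (range_glue (range_of_allRange c_act102_4) (range_glue (range_of_allRange c_act102_5) (range_glue (range_of_allRange c_act102_6) (range_glue (range_of_allRange c_act102_7) (range_glue (range_of_allRange c_act102_8) (range_glue (range_of_allRange c_act102_9) (range_glue (range_of_allRange c_act102_10) (range_glue (range_of_allRange c_act102_11) (range_glue (range_of_allRange c_act102_12) (range_glue (range_of_allRange c_act102_13) (range_glue (range_of_allRange c_act102_14) (range_glue (range_of_allRange c_act102_15) (range_glue (range_of_allRange c_act102_16) (range_glue (range_of_allRange c_act102_17) (range_glue (range_of_allRange c_act102_18) (range_glue (range_of_allRange c_act102_19) (range_glue (range_of_allRange c_act102_20) (range_of_allRange c_act102_21))))))))))))))))))))))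
theorem h_act103 : ∀ i, 0 ≤ i → i < 66825 → Nat.beq (actR103 i) i = true :=
  (range_glue (range_of_allRange c_act103_0) (range_glue (range_of_allRange c_act103_1) (range_glue (range_of_allRange c_act103_2) (range_glue (range_of_allRange c_act103_3) (range_glue (range_of_allRange c_act103_4) (range_glue (range_of_allRange c_act103_5) (range_glue (range_of_allRange c_act103_6) (range_glue (range_of_allRange c_act103_7) (range_glue (range_of_allRange c_act103_8) (range_glue (range_of_allRange c_act103_9) (range_glue (range_of_allRange c_act103_10) (range_glue (range_of_allRange c_act103_11) (range_glue (range_of_allRange c_act103_12) (range_glue (range_of_allRange c_act103_13) (range_glue (range_of_allRange c_act103_14) (range_glue (range_of_allRange c_act103_15) (range_glue (range_of_allRange c_act103_16) (range_glue (range_of_allRange c_act103_17) (range_glue (range_of_allRange c_act103_18) (range_glue (range_of_allRange c_act103_19) (range_glue (range_of_allRange c_act103_20) (range_of_allRange c_act103_21))))))))))))))))))))))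
theorem h_act104 : ∀ i, 0 ≤ i → i < 66825 → Nat.beq (actR104 i) i = true :=
  (range_glue (range_of_allRange c_act104_0) (range_glue (range_of_allRange c_act104_1) (range_glue (range_of_allRange c_act104_2) (range_glue (range_of_allRange c_act104_3) (range_glue (range_of_allRange c_act104_4) (range_glue (range_of_allRange c_act104_5) (range_glue (range_of_allRange c_act104_6) (range_glue (range_of_allRange c_act104_7) (range_glue (range_of_allRange c_act104_8) (range_glue (range_of_allRange c_act104_9) (range_glue (range_of_allRange c_act104_10) (range_glue (range_of_allRange c_act104_11) (range_glue (range_of_allRange c_act104_12) (range_glue (range_of_allRange c_act104_13) (range_glue (range_of_allRange c_act104_14) (range_glue (range_of_allRange c_act104_15) (range_glue (range_of_allRange c_act104_16) (range_glue (range_of_allRange c_act104_17) (range_glue (range_of_allRange c_act104_18) (range_glue (range_of_allRange c_act104_19) (range_glue (range_of_allRange c_act104_20) (range_of_allRange c_act104_21))))))))))))))))))))))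
theorem h_act105 : ∀ i, 0 ≤ i → i < 66825 → Nat.beq (actR105 i) i = true :=
  (range_glue (range_of_allRange c_act105_0) (range_glue (range_of_allRange c_act105_1) (range_glue (range_of_allRange c_act105_2) (range_glue (range_of_allRange c_act105_3) (range_glue (range_of_allRange c_act105_4) (range_glue (range_of_allRange c_act105_5) (range_glue (range_of_allRange c_act105_6) (range_glue (range_of_allRange c_act105_7) (range_glue (range_of_allRange c_act105_8) (range_glue (range_of_allRange c_act105_9) (range_glue (range_of_allRange c_act105_10) (range_glue (range_of_allRange c_act105_11) (range_glue (range_of_allRange c_act105_12) (range_glue (range_of_allRange c_act105_13) (range_glue (range_of_allRange c_act105_14) (range_glue (range_of_allRange c_act105_15) (range_glue (range_of_allRange c_act105_16) (range_glue (range_of_allRange c_act105_17) (range_glue (range_of_allRange c_act105_18) (range_glue (range_of_allRange c_act105_19) (range_glue (range_of_allRange c_act105_20) (range_of_allRange c_act105_21))))))))))))))))))))))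
theorem h_act106 : ∀ i, 0 ≤ i → i < 66825 → Nat.beq (actR106 i) i = true :=
  (range_glue (range_of_allRange c_act106_0) (range_glue (range_of_allRange c_act106_1) (range_glue (range_of_allRange c_act106_2) (range_glue (range_of_allRange c_act106_3) (range_glue (range_of_allRange c_act106_4) (range_glue (range_of_allRange c_act106_5) (range_glue (range_of_allRange c_act106_6) (range_glue (range_of_allRange c_act106_7) (range_glue (range_of_allRange c_act106_8) (range_glue (range_of_allRange c_act106_9) (range_glue (range_of_allRange c_act106_10) (range_glue (range_of_allRange c_act106_11) (range_glue (range_of_allRange c_act106_12) (range_glue (range_of_allRange c_act106_13) (range_glue (range_of_allRange c_act106_14) (range_glue (range_of_allRange c_act106_15) (range_glue (range_of_allRange c_act106_16) (range_glue (range_of_allRange c_act106_17) (range_glue (range_of_allRange c_act106_18) (range_glue (range_of_allRange c_act106_19) (range_glue (range_of_allRange c_act106_20) (range_of_allRange c_act106_21))))))))))))))))))))))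
theorem h_act107 : ∀ i, 0 ≤ i → i < 66825 → Nat.beq (actR107 i) i = true :=
  (range_glue (range_of_allRange c_act107_0) (range_glue (range_of_allRange c_act107_1) (range_glue (range_of_allRange c_act107_2) (range_glue (range_of_allRange c_act107_3) (range_glue (range_of_allRange c_act107_4) (range_glue (range_of_allRange c_act107_5) (range_glue (range_of_allRange c_act107_6) (range_glue (range_of_allRange c_act107_7) (range_glue (range_of_allRange c_act107_8) (range_glue (range_of_allRange c_act107_9) (range_glue (range_of_allRange c_act107_10) (range_glue (range_of_allRange c_act107_11) (range_glue (range_of_allRange c_act107_12) (range_glue (range_of_allRange c_act107_13) (range_glue (range_of_allRange c_act107_14) (range_glue (range_of_allRange c_act107_15) (range_glue (range_of_allRange c_act107_16) (range_glue (range_of_allRange c_act107_17) (range_glue (range_of_allRange c_act107_18) (range_glue (range_of_allRange c_act107_19) (range_glue (range_of_allRange c_act107_20) (range_of_allRange c_act107_21))))))))))))))))))))))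
theorem h_act108 : ∀ i, 0 ≤ i → i < 66825 → Nat.beq (actR108 i) i = true :=
  (range_glue (range_of_allRange c_act108_0) (range_glue (range_of_allRange c_act108_1) (range_glue (range_of_allRange c_act108_2) (range_glue (range_of_allRange c_act108_3) (range_glue (range_of_allRange c_act108_4) (range_glue (range_of_allRange c_act108_5) (range_glue (range_of_allRange c_act108_6) (range_glue (range_of_allRange c_act108_7) (range_glue (range_of_allRange c_act108_8) (range_glue (range_of_allRange c_act108_9) (range_glue (range_of_allRange c_act108_10) (range_glue (range_of_allRange c_act108_11) (range_glue (range_of_allRange c_act108_12) (range_glue (range_of_allRange c_act108_13) (range_glue (range_of_allRange c_act108_14) (range_glue (range_of_allRange c_act108_15) (range_glue (range_of_allRange c_act108_16) (range_glue (range_of_allRange c_act108_17) (range_glue (range_of_allRange c_act108_18) (range_glue (range_of_allRange c_act108_19) (range_glue (range_of_allRange c_act108_20) (range_of_allRange c_act108_21))))))))))))))))))))))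
theorem h_act109 : ∀ i, 0 ≤ i → i < 66825 → Nat.beq (actR109 i) i = true :=
  (range_glue (range_of_allRange c_act109_0) (range_glue (range_of_allRange c_act109_1) (range_glue (range_of_allRange c_act109_2) (range_glue (range_of_allRange c_act109_3) (range_glue (range_of_allRange c_act109_4) (range_glue (range_of_allRange c_act109_5) (range_glue (range_of_allRange c_act109_6) (range_glue (range_of_allRange c_act109_7) (range_glue (range_of_allRange c_act109_8) (range_glue (range_of_allRange c_act109_9) (range_glue (range_of_allRange c_act109_10) (range_glue (range_of_allRange c_act109_11) (range_glue (range_of_allRange c_act109_12) (range_glue (range_of_allRange c_act109_13) (range_glue (range_of_allRange c_act109_14) (range_glue (range_of_allRange c_act109_15) (range_glue (range_of_allRange c_act109_16) (range_glue (range_of_allRange c_act109_17) (range_glue (range_of_allRange c_act109_18) (range_glue (range_of_allRange c_act109_19) (range_glue (range_of_allRange c_act109_20) (range_of_allRange c_act109_21))))))))))))))))))))))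
theorem h_act110 : ∀ i, 0 ≤ i → i < 66825 → Nat.beq (actR110 i) i = true :=
  (range_glue (range_of_allRange c_act110_0) (range_glue (range_of_allRange c_act110_1) (range_glue (range_of_allRange c_act110_2) (range_glue (range_of_allRange c_act110_3) (range_glue (range_of_allRange c_act110_4) (range_glue (range_of_allRange c_act110_5) (range_glue (range_of_allRange c_act110_6) (range_glue (range_of_allRange c_act110_7) (range_glue (range_of_allRange c_act110_8) (range_glue (range_of_allRange c_act110_9) (range_glue (range_of_allRange c_act110_10) (range_glue (range_of_allRange c_act110_11) (range_glue (range_of_allRange c_act110_12) (range_glue (range_of_allRange c_act110_13) (range_glue (range_of_allRange c_act110_14) (range_glue (range_of_allRange c_act110_15) (range_glue (range_of_allRange c_act110_16) (range_glue (range_of_allRange c_act110_17) (range_glue (range_of_allRange c_act110_18) (range_glue (range_of_allRange c_act110_19) (range_glue (range_of_allRange c_act110_20) (range_of_allRange c_act110_21))))))))))))))))))))))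

theorem checked : T.Checked D where
  hz := c_zero
  hn := fun d h0 hd => h_names d h0 hd
  hb := fun j hj => allBelow_eq_true.1 c_base j hj
  hr := fun t h1 h2 => h_rel t h1 h2
  hfin := fun i x hi hx => h_fin i (Nat.zero_le _) hi x hx
  hperm := fun i x hi hx => h_perm i (Nat.zero_le _) hi x hx
  hlet := fun x hx => allBelow_eq_true.1 c_let x hx
  hcls := fun d h0 hd => h_cls d h0 hd
  hrep := fun i hi => h_rep i (Nat.zero_le _) hi
  hcls0 := c_cls0
  hname0 := c_name0
  hN := by decide
  hM := by decide

theorem h_act : ∀ L ∈ PSC3McLp3.P.real, ∀ i, i < T.N → Tab.relActOK T D L i = true := by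
  rw [c_real]
  intro L hL
  simp only [realLit, List.mem_cons, List.not_mem_nil, or_false] at hL
  rcases hL with rfl | rfl | rfl | rfl | rfl | rfl | rfl | rfl | rfl | rfl | rfl | rfl | rfl | rfl | rfl | rfl | rfl | rfl | rfl | rfl | rfl | rfl | rfl | rfl | rfl | rfl | rfl | rfl | rfl | rfl | rfl | rfl | rfl | rfl | rfl | rfl | rfl | rfl | rfl | rfl | rfl | rfl | rfl | rfl | rfl | rfl | rfl | rfl | rfl | rfl | rfl | rfl | rfl | rfl | rfl | rfl | rfl | rfl | rfl | rfl | rfl | rfl | rfl | rfl | rfl | rfl | rfl | rfl | rfl | rfl | rfl | rfl | rfl | rfl | rfl | rfl | rfl | rfl | rfl | rfl | rfl | rfl | rfl | rfl | rfl | rfl | rfl | rfl | rfl | rfl | rfl | rfl | rfl | rfl | rfl | rfl | rfl | rfl | rfl | rfl | rfl | rfl | rfl | rfl | rfl | rfl | rfl | rfl | rfl | rfl | rfl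
  · intro i hi
    rw [Tab.relActOK, ← actR0_eq]
    exact h_act0 i (Nat.zero_le _) hi
  · intro i hi
    rw [Tab.relActOK, ← actR1_eq]
    exact h_act1 i (Nat.zero_le _) hi
  · intro i hi
    rw [Tab.relActOK, ← actR2_eq]
    exact h_act2 i (Nat.zero_le _) hi
  · intro i hi
    rw [Tab.relActOK, ← actR3_eq]
    exact h_act3 i (Nat.zero_le _) hi
  · intro i hi
    rw [Tab.relActOK, ← actR4_eq]
    exact h_act4 i (Nat.zero_le _) hi
  · intro i hi
    rw [Tab.relActOK, ← actR5_eq]
    exact h_act5 i (Nat.zero_le _) hi
  · intro i hi
    rw [Tab.relActOK, ← actR6_eq]
    exact h_act6 i (Nat.zero_le _) hi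
  · intro i hi
    rw [Tab.relActOK, ← actR7_eq]
    exact h_act7 i (Nat.zero_le _) hi
  · intro i hi
    rw [Tab.relActOK, ← actR8_eq]
    exact h_act8 i (Nat.zero_le _) hi
  · intro i hi
    rw [Tab.relActOK, ← actR9_eq]
    exact h_act9 i (Nat.zero_le _) hi
  · intro i hi
    rw [Tab.relActOK, ← actR10_eq]
    exact h_act10 i (Nat.zero_le _) hi
  · intro i hi
    rw [Tab.relActOK, ← actR11_eq]
    exact h_act11 i (Nat.zero_le _) hi
  · intro i hi
    rw [Tab.relActOK, ← actR12_eq]
    exact h_act12 i (Nat.zero_le _) hi
  · intro i hi
    rw [Tab.relActOK, ← actR13_eq]
    exact h_act13 i (Nat.zero_le _) hi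
  · intro i hi
    rw [Tab.relActOK, ← actR14_eq]
    exact h_act14 i (Nat.zero_le _) hi
  · intro i hi
    rw [Tab.relActOK, ← actR15_eq]
    exact h_act15 i (Nat.zero_le _) hi
  · intro i hi
    rw [Tab.relActOK, ← actR16_eq]
    exact h_act16 i (Nat.zero_le _) hi
  · intro i hi
    rw [Tab.relActOK, ← actR17_eq]
    exact h_act17 i (Nat.zero_le _) hi
  · intro i hi
    rw [Tab.relActOK, ← actR18_eq]
    exact h_act18 i (Nat.zero_le _) hi
  · intro i hi
    rw [Tab.relActOK, ← actR19_eq]
    exact h_act19 i (Nat.zero_le _) hi
  · intro i hi
    rw [Tab.relActOK, ← actR20_eq]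
    exact h_act20 i (Nat.zero_le _) hi
  · intro i hi
    rw [Tab.relActOK, ← actR21_eq]
    exact h_act21 i (Nat.zero_le _) hi
  · intro i hi
    rw [Tab.relActOK, ← actR22_eq]
    exact h_act22 i (Nat.zero_le _) hi
  · intro i hi
    rw [Tab.relActOK, ← actR23_eq]
    exact h_act23 i (Nat.zero_le _) hi
  · intro i hi
    rw [Tab.relActOK, ← actR24_eq]
    exact h_act24 i (Nat.zero_le _) hi
  · intro i hi
    rw [Tab.relActOK, ← actR25_eq]
    exact h_act25 i (Nat.zero_le _) hi
  · intro i hi
    rw [Tab.relActOK, ← actR26_eq]
    exact h_act26 i (Nat.zero_le _) hi
  · intro i hi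
    rw [Tab.relActOK, ← actR27_eq]
    exact h_act27 i (Nat.zero_le _) hi
  · intro i hi
    rw [Tab.relActOK, ← actR28_eq]
    exact h_act28 i (Nat.zero_le _) hi
  · intro i hi
    rw [Tab.relActOK, ← actR29_eq]
    exact h_act29 i (Nat.zero_le _) hi
  · intro i hi
    rw [Tab.relActOK, ← actR30_eq]
    exact h_act30 i (Nat.zero_le _) hi
  · intro i hi
    rw [Tab.relActOK, ← actR31_eq]
    exact h_act31 i (Nat.zero_le _) hi
  · intro i hi
    rw [Tab.relActOK, ← actR32_eq]
    exact h_act32 i (Nat.zero_le _) hi
  · intro i hi
    rw [Tab.relActOK, ← actR33_eq]
    exact h_act33 i (Nat.zero_le _) hi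
  · intro i hi
    rw [Tab.relActOK, ← actR34_eq]
    exact h_act34 i (Nat.zero_le _) hi
  · intro i hi
    rw [Tab.relActOK, ← actR35_eq]
    exact h_act35 i (Nat.zero_le _) hi
  · intro i hi
    rw [Tab.relActOK, ← actR36_eq]
    exact h_act36 i (Nat.zero_le _) hi
  · intro i hi
    rw [Tab.relActOK, ← actR37_eq]
    exact h_act37 i (Nat.zero_le _) hi
  · intro i hi
    rw [Tab.relActOK, ← actR38_eq]
    exact h_act38 i (Nat.zero_le _) hi
  · intro i hi
    rw [Tab.relActOK, ← actR39_eq]
    exact h_act39 i (Nat.zero_le _) hi
  · intro i hi
    rw [Tab.relActOK, ← actR40_eq]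
    exact h_act40 i (Nat.zero_le _) hi
  · intro i hi
    rw [Tab.relActOK, ← actR41_eq]
    exact h_act41 i (Nat.zero_le _) hi
  · intro i hi
    rw [Tab.relActOK, ← actR42_eq]
    exact h_act42 i (Nat.zero_le _) hi
  · intro i hi
    rw [Tab.relActOK, ← actR43_eq]
    exact h_act43 i (Nat.zero_le _) hi
  · intro i hi
    rw [Tab.relActOK, ← actR44_eq]
    exact h_act44 i (Nat.zero_le _) hi
  · intro i hi
    rw [Tab.relActOK, ← actR45_eq]
    exact h_act45 i (Nat.zero_le _) hi
  · intro i hi
    rw [Tab.relActOK, ← actR46_eq]
    exact h_act46 i (Nat.zero_le _) hi
  · intro i hi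
    rw [Tab.relActOK, ← actR47_eq]
    exact h_act47 i (Nat.zero_le _) hi
  · intro i hi
    rw [Tab.relActOK, ← actR48_eq]
    exact h_act48 i (Nat.zero_le _) hi
  · intro i hi
    rw [Tab.relActOK, ← actR49_eq]
    exact h_act49 i (Nat.zero_le _) hi
  · intro i hi
    rw [Tab.relActOK, ← actR50_eq]
    exact h_act50 i (Nat.zero_le _) hi
  · intro i hi
    rw [Tab.relActOK, ← actR51_eq]
    exact h_act51 i (Nat.zero_le _) hi
  · intro i hi
    rw [Tab.relActOK, ← actR52_eq]
    exact h_act52 i (Nat.zero_le _) hi
  · intro i hi
    rw [Tab.relActOK, ← actR53_eq]
    exact h_act53 i (Nat.zero_le _) hi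
  · intro i hi
    rw [Tab.relActOK, ← actR54_eq]
    exact h_act54 i (Nat.zero_le _) hi
  · intro i hi
    rw [Tab.relActOK, ← actR55_eq]
    exact h_act55 i (Nat.zero_le _) hi
  · intro i hi
    rw [Tab.relActOK, ← actR56_eq]
    exact h_act56 i (Nat.zero_le _) hi
  · intro i hi
    rw [Tab.relActOK, ← actR57_eq]
    exact h_act57 i (Nat.zero_le _) hi
  · intro i hi
    rw [Tab.relActOK, ← actR58_eq]
    exact h_act58 i (Nat.zero_le _) hi
  · intro i hi
    rw [Tab.relActOK, ← actR59_eq]
    exact h_act59 i (Nat.zero_le _) hi
  · intro i hi
    rw [Tab.relActOK, ← actR60_eq]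
    exact h_act60 i (Nat.zero_le _) hi
  · intro i hi
    rw [Tab.relActOK, ← actR61_eq]
    exact h_act61 i (Nat.zero_le _) hi
  · intro i hi
    rw [Tab.relActOK, ← actR62_eq]
    exact h_act62 i (Nat.zero_le _) hi
  · intro i hi
    rw [Tab.relActOK, ← actR63_eq]
    exact h_act63 i (Nat.zero_le _) hi
  · intro i hi
    rw [Tab.relActOK, ← actR64_eq]
    exact h_act64 i (Nat.zero_le _) hi
  · intro i hi
    rw [Tab.relActOK, ← actR65_eq]
    exact h_act65 i (Nat.zero_le _) hi
  · intro i hi
    rw [Tab.relActOK, ← actR66_eq]
    exact h_act66 i (Nat.zero_le _) hi
  · intro i hi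
    rw [Tab.relActOK, ← actR67_eq]
    exact h_act67 i (Nat.zero_le _) hi
  · intro i hi
    rw [Tab.relActOK, ← actR68_eq]
    exact h_act68 i (Nat.zero_le _) hi
  · intro i hi
    rw [Tab.relActOK, ← actR69_eq]
    exact h_act69 i (Nat.zero_le _) hi
  · intro i hi
    rw [Tab.relActOK, ← actR70_eq]
    exact h_act70 i (Nat.zero_le _) hi
  · intro i hi
    rw [Tab.relActOK, ← actR71_eq]
    exact h_act71 i (Nat.zero_le _) hi
  · intro i hi
    rw [Tab.relActOK, ← actR72_eq]
    exact h_act72 i (Nat.zero_le _) hi
  · intro i hi
    rw [Tab.relActOK, ← actR73_eq]
    exact h_act73 i (Nat.zero_le _) hi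
  · intro i hi
    rw [Tab.relActOK, ← actR74_eq]
    exact h_act74 i (Nat.zero_le _) hi
  · intro i hi
    rw [Tab.relActOK, ← actR75_eq]
    exact h_act75 i (Nat.zero_le _) hi
  · intro i hi
    rw [Tab.relActOK, ← actR76_eq]
    exact h_act76 i (Nat.zero_le _) hi
  · intro i hi
    rw [Tab.relActOK, ← actR77_eq]
    exact h_act77 i (Nat.zero_le _) hi
  · intro i hi
    rw [Tab.relActOK, ← actR78_eq]
    exact h_act78 i (Nat.zero_le _) hi
  · intro i hi
    rw [Tab.relActOK, ← actR79_eq]
    exact h_act79 i (Nat.zero_le _) hi
  · intro i hi
    rw [Tab.relActOK, ← actR80_eq]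
    exact h_act80 i (Nat.zero_le _) hi
  · intro i hi
    rw [Tab.relActOK, ← actR81_eq]
    exact h_act81 i (Nat.zero_le _) hi
  · intro i hi
    rw [Tab.relActOK, ← actR82_eq]
    exact h_act82 i (Nat.zero_le _) hi
  · intro i hi
    rw [Tab.relActOK, ← actR83_eq]
    exact h_act83 i (Nat.zero_le _) hi
  · intro i hi
    rw [Tab.relActOK, ← actR84_eq]
    exact h_act84 i (Nat.zero_le _) hi
  · intro i hi
    rw [Tab.relActOK, ← actR85_eq]
    exact h_act85 i (Nat.zero_le _) hi
  · intro i hi
    rw [Tab.relActOK, ← actR86_eq]
    exact h_act86 i (Nat.zero_le _) hi
  · intro i hi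
    rw [Tab.relActOK, ← actR87_eq]
    exact h_act87 i (Nat.zero_le _) hi
  · intro i hi
    rw [Tab.relActOK, ← actR88_eq]
    exact h_act88 i (Nat.zero_le _) hi
  · intro i hi
    rw [Tab.relActOK, ← actR89_eq]
    exact h_act89 i (Nat.zero_le _) hi
  · intro i hi
    rw [Tab.relActOK, ← actR90_eq]
    exact h_act90 i (Nat.zero_le _) hi
  · intro i hi
    rw [Tab.relActOK, ← actR91_eq]
    exact h_act91 i (Nat.zero_le _) hi
  · intro i hi
    rw [Tab.relActOK, ← actR92_eq]
    exact h_act92 i (Nat.zero_le _) hi
  · intro i hi
    rw [Tab.relActOK, ← actR93_eq]
    exact h_act93 i (Nat.zero_le _) hi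
  · intro i hi
    rw [Tab.relActOK, ← actR94_eq]
    exact h_act94 i (Nat.zero_le _) hi
  · intro i hi
    rw [Tab.relActOK, ← actR95_eq]
    exact h_act95 i (Nat.zero_le _) hi
  · intro i hi
    rw [Tab.relActOK, ← actR96_eq]
    exact h_act96 i (Nat.zero_le _) hi
  · intro i hi
    rw [Tab.relActOK, ← actR97_eq]
    exact h_act97 i (Nat.zero_le _) hi
  · intro i hi
    rw [Tab.relActOK, ← actR98_eq]
    exact h_act98 i (Nat.zero_le _) hi
  · intro i hi
    rw [Tab.relActOK, ← actR99_eq]
    exact h_act99 i (Nat.zero_le _) hi
  · intro i hi
    rw [Tab.relActOK, ← actR100_eq]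
    exact h_act100 i (Nat.zero_le _) hi
  · intro i hi
    rw [Tab.relActOK, ← actR101_eq]
    exact h_act101 i (Nat.zero_le _) hi
  · intro i hi
    rw [Tab.relActOK, ← actR102_eq]
    exact h_act102 i (Nat.zero_le _) hi
  · intro i hi
    rw [Tab.relActOK, ← actR103_eq]
    exact h_act103 i (Nat.zero_le _) hi
  · intro i hi
    rw [Tab.relActOK, ← actR104_eq]
    exact h_act104 i (Nat.zero_le _) hi
  · intro i hi
    rw [Tab.relActOK, ← actR105_eq]
    exact h_act105 i (Nat.zero_le _) hi
  · intro i hi
    rw [Tab.relActOK, ← actR106_eq]
    exact h_act106 i (Nat.zero_le _) hi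
  · intro i hi
    rw [Tab.relActOK, ← actR107_eq]
    exact h_act107 i (Nat.zero_le _) hi
  · intro i hi
    rw [Tab.relActOK, ← actR108_eq]
    exact h_act108 i (Nat.zero_le _) hi
  · intro i hi
    rw [Tab.relActOK, ← actR109_eq]
    exact h_act109 i (Nat.zero_le _) hi
  · intro i hi
    rw [Tab.relActOK, ← actR110_eq]
    exact h_act110 i (Nat.zero_le _) hi

theorem inst : Inst PSC3McLp3.P T D subs where
  hP := PSC3McLp3.valid
  hk := rfl
  hinv := rfl
  hsubs := by
    intro u hu x hx
    have h1 := List.all_eq_true.1 c_subs u hu
    exact ble_succ (List.all_eq_true.1 h1 x hx)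
  htab := c_tab
  hC := checked
  hact := h_act
  hsubfix := fun u hu => beq_eq (List.all_eq_true.1 c_subfix u hu)

theorem index_eq : (Inst.subG PSC3McLp3.P subs).index = 66825 := inst.index_eq


end Cfsg.Agent.Lib.Helper4.TCD.SC3McLp3A
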