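import Cfsg.Agent.Lib.Helper4.TCD_C3McLR_Acc
import Cfsg.Agent.Lib.Helper4.TC13

namespace Cfsg.Agent.Lib.Helper4.TCD.SC3McLp3W

open Cfsg.Agent.Lib.Helper4.TC Cfsg.Agent.Lib.Helper4.TCD.C3McLR

set_option maxRecDepth 100000
set_option Elab.async false

def chk2 : List Nat := [4, 3, 4, 3, 4, 3, 4, 3, 4, 3, 4, 3, 4, 3, 4, 3, 4, 3, 4, 3, 4, 3]
noncomputable def act2 (i : Nat) : Nat := col5 (col2 (col5 (col2 (col5 (col2 (col5 (col2 (col5 (col2 (col5 (col2 (col5 (col2 (col5 (col2 (col5 (col2 (col5 (col2 (col5 (col2 (i))))))))))))))))))))))
theorem act2_eq (i : Nat) : act2 i = Tab.act T D chk2 i := rfl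
theorem c2_0 : allRange (fun i => Nat.beq (act2 i) i) 0 2500 = true := by decide +kernel
theorem c2_1 : allRange (fun i => Nat.beq (act2 i) i) 2500 2500 = true := by decide +kernel
theorem c2_2 : allRange (fun i => Nat.beq (act2 i) i) 5000 2500 = true := by decide +kernel
theorem c2_3 : allRange (fun i => Nat.beq (act2 i) i) 7500 2500 = true := by decide +kernel
theorem c2_4 : allRange (fun i => Nat.beq (act2 i) i) 10000 2500 = true := by decide +kernel
theorem c2_5 : allRange (fun i => Nat.beq (act2 i) i) 12500 2500 = true := by decide +kernel
theorem c2_6 : allRange (fun i => Nat.beq (act2 i) i) 15000 2500 = true := by decide +kernel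
theorem c2_7 : allRange (fun i => Nat.beq (act2 i) i) 17500 2500 = true := by decide +kernel
theorem c2_8 : allRange (fun i => Nat.beq (act2 i) i) 20000 2500 = true := by decide +kernel
theorem c2_9 : allRange (fun i => Nat.beq (act2 i) i) 22500 2500 = true := by decide +kernel
theorem c2_10 : allRange (fun i => Nat.beq (act2 i) i) 25000 2500 = true := by decide +kernel
theorem c2_11 : allRange (fun i => Nat.beq (act2 i) i) 27500 2500 = true := by decide +kernel
theorem c2_12 : allRange (fun i => Nat.beq (act2 i) i) 30000 2500 = true := by decide +kernel
theorem c2_13 : allRange (fun i => Nat.beq (act2 i) i) 32500 2500 = true := by decide +kernel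
theorem c2_14 : allRange (fun i => Nat.beq (act2 i) i) 35000 2500 = true := by decide +kernel
theorem c2_15 : allRange (fun i => Nat.beq (act2 i) i) 37500 2500 = true := by decide +kernel
theorem c2_16 : allRange (fun i => Nat.beq (act2 i) i) 40000 2500 = true := by decide +kernel
theorem c2_17 : allRange (fun i => Nat.beq (act2 i) i) 42500 2500 = true := by decide +kernel
theorem c2_18 : allRange (fun i => Nat.beq (act2 i) i) 45000 2500 = true := by decide +kernel
theorem c2_19 : allRange (fun i => Nat.beq (act2 i) i) 47500 2500 = true := by decide +kernel
theorem c2_20 : allRange (fun i => Nat.beq (act2 i) i) 50000 2500 = true := by decide +kernel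
theorem c2_21 : allRange (fun i => Nat.beq (act2 i) i) 52500 2500 = true := by decide +kernel
theorem c2_22 : allRange (fun i => Nat.beq (act2 i) i) 55000 2500 = true := by decide +kernel
theorem c2_23 : allRange (fun i => Nat.beq (act2 i) i) 57500 2500 = true := by decide +kernel
theorem c2_24 : allRange (fun i => Nat.beq (act2 i) i) 60000 2500 = true := by decide +kernel
theorem c2_25 : allRange (fun i => Nat.beq (act2 i) i) 62500 2500 = true := by decide +kernel
theorem c2_26 : allRange (fun i => Nat.beq (act2 i) i) 65000 1825 = true := by decide +kernel
theorem h2 : ∀ i, i < T.N → Tab.relActOK T D chk2 i = true := by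
  intro i hi
  rw [Tab.relActOK, ← act2_eq]
  exact (range_glue (range_of_allRange c2_0) (range_glue (range_of_allRange c2_1) (range_glue (range_of_allRange c2_2) (range_glue (range_of_allRange c2_3) (range_glue (range_of_allRange c2_4) (range_glue (range_of_allRange c2_5) (range_glue (range_of_allRange c2_6) (range_glue (range_of_allRange c2_7) (range_glue (range_of_allRange c2_8) (range_glue (range_of_allRange c2_9) (range_glue (range_of_allRange c2_10) (range_glue (range_of_allRange c2_11) (range_glue (range_of_allRange c2_12) (range_glue (range_of_allRange c2_13) (range_glue (range_of_allRange c2_14) (range_glue (range_of_allRange c2_15) (range_glue (range_of_allRange c2_16) (range_glue (range_of_allRange c2_17) (range_glue (range_of_allRange c2_18) (range_glue (range_of_allRange c2_19) (range_glue (range_of_allRange c2_20) (range_glue (range_of_allRange c2_21) (range_glue (range_of_allRange c2_22) (range_glue (range_of_allRange c2_23) (range_glue (range_of_allRange c2_24) (range_glue (range_of_allRange c2_25) (range_of_allRange c2_26))))))))))))))))))))))))))) i (Nat.zero_le _) hi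

def chk8 : List Nat := [0, 0, 2, 0, 3, 5, 0, 2, 0, 0, 4, 1, 4, 0, 0, 3, 3]
noncomputable def act8 (i : Nat) : Nat := col1 (col1 (col3 (col1 (col2 (col4 (col1 (col3 (col1 (col1 (col5 (col0 (col5 (col1 (col1 (col2 (col2 (i)))))))))))))))))
theorem act8_eq (i : Nat) : act8 i = Tab.act T D chk8 i := rfl
theorem c8_0 : allRange (fun i => Nat.beq (act8 i) i) 0 3157 = true := by decide +kernel
theorem c8_1 : allRange (fun i => Nat.beq (act8 i) i) 3157 3157 = true := by decide +kernel
theorem c8_2 : allRange (fun i => Nat.beq (act8 i) i) 6314 3157 = true := by decide +kernel
theorem c8_3 : allRange (fun i => Nat.beq (act8 i) i) 9471 3157 = true := by decide +kernel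
theorem c8_4 : allRange (fun i => Nat.beq (act8 i) i) 12628 3157 = true := by decide +kernel
theorem c8_5 : allRange (fun i => Nat.beq (act8 i) i) 15785 3157 = true := by decide +kernel
theorem c8_6 : allRange (fun i => Nat.beq (act8 i) i) 18942 3157 = true := by decide +kernel
theorem c8_7 : allRange (fun i => Nat.beq (act8 i) i) 22099 3157 = true := by decide +kernel
theorem c8_8 : allRange (fun i => Nat.beq (act8 i) i) 25256 3157 = true := by decide +kernel
theorem c8_9 : allRange (fun i => Nat.beq (act8 i) i) 28413 3157 = true := by decide +kernel
theorem c8_10 : allRange (fun i => Nat.beq (act8 i) i) 31570 3157 = true := by decide +kernel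
theorem c8_11 : allRange (fun i => Nat.beq (act8 i) i) 34727 3157 = true := by decide +kernel
theorem c8_12 : allRange (fun i => Nat.beq (act8 i) i) 37884 3157 = true := by decide +kernel
theorem c8_13 : allRange (fun i => Nat.beq (act8 i) i) 41041 3157 = true := by decide +kernel
theorem c8_14 : allRange (fun i => Nat.beq (act8 i) i) 44198 3157 = true := by decide +kernel
theorem c8_15 : allRange (fun i => Nat.beq (act8 i) i) 47355 3157 = true := by decide +kernel
theorem c8_16 : allRange (fun i => Nat.beq (act8 i) i) 50512 3157 = true := by decide +kernel
theorem c8_17 : allRange (fun i => Nat.beq (act8 i) i) 53669 3157 = true := by decide +kernel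
theorem c8_18 : allRange (fun i => Nat.beq (act8 i) i) 56826 3157 = true := by decide +kernel
theorem c8_19 : allRange (fun i => Nat.beq (act8 i) i) 59983 3157 = true := by decide +kernel
theorem c8_20 : allRange (fun i => Nat.beq (act8 i) i) 63140 3157 = true := by decide +kernel
theorem c8_21 : allRange (fun i => Nat.beq (act8 i) i) 66297 528 = true := by decide +kernel
theorem h8 : ∀ i, i < T.N → Tab.relActOK T D chk8 i = true := by
  intro i hi
  rw [Tab.relActOK, ← act8_eq]
  exact (range_glue (range_of_allRange c8_0) (range_glue (range_of_allRange c8_1) (range_glue (range_of_allRange c8_2) (range_glue (range_of_allRange c8_3) (range_glue (range_of_allRange c8_4) (range_glue (range_of_allRange c8_5) (range_glue (range_of_allRange c8_6) (range_glue (range_of_allRange c8_7) (range_glue (range_of_allRange c8_8) (range_glue (range_of_allRange c8_9) (range_glue (range_of_allRange c8_10) (range_glue (range_of_allRange c8_11) (range_glue (range_of_allRange c8_12) (range_glue (range_of_allRange c8_13) (range_glue (range_of_allRange c8_14) (range_glue (range_of_allRange c8_15) (range_glue (range_of_allRange c8_16) (range_glue (range_of_allRange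 c8_17) (range_glue (range_of_allRange c8_18) (range_glue (range_of_allRange c8_19) (range_glue (range_of_allRange c8_20) (range_of_allRange c8_21)))))))))))))))))))))) i (Nat.zero_le _) hi

def chk11 : List Nat := [6, 6, 6]
noncomputable def act11 (i : Nat) : Nat := col7 (col7 (col7 (i)))
theorem act11_eq (i : Nat) : act11 i = Tab.act T D chk11 i := rfl
theorem c11_0 : allRange (fun i => Nat.beq (act11 i) i) 0 12000 = true := by decide +kernel
theorem c11_1 : allRange (fun i => Nat.beq (act11 i) i) 12000 12000 = true := by decide +kernel
theorem c11_2 : allRange (fun i => Nat.beq (act11 i) i) 24000 12000 = true := by decide +kernel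
theorem c11_3 : allRange (fun i => Nat.beq (act11 i) i) 36000 12000 = true := by decide +kernel
theorem c11_4 : allRange (fun i => Nat.beq (act11 i) i) 48000 12000 = true := by decide +kernel
theorem c11_5 : allRange (fun i => Nat.beq (act11 i) i) 60000 6825 = true := by decide +kernel
theorem h11 : ∀ i, i < T.N → Tab.relActOK T D chk11 i = true := by
  intro i hi
  rw [Tab.relActOK, ← act11_eq]
  exact (range_glue (range_of_allRange c11_0) (range_glue (range_of_allRange c11_1) (range_glue (range_of_allRange c11_2) (range_glue (range_of_allRange c11_3) (range_glue (range_of_allRange c11_4) (range_of_allRange c11_5)))))) i (Nat.zero_le _) hi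

def chk16 : List Nat := [2, 2, 2, 2, 2, 2, 2]
noncomputable def act16 (i : Nat) : Nat := col3 (col3 (col3 (col3 (col3 (col3 (col3 (i)))))))
theorem act16_eq (i : Nat) : act16 i = Tab.act T D chk16 i := rfl
theorem c16_0 : allRange (fun i => Nat.beq (act16 i) i) 0 6666 = true := by decide +kernel
theorem c16_1 : allRange (fun i => Nat.beq (act16 i) i) 6666 6666 = true := by decide +kernel
theorem c16_2 : allRange (fun i => Nat.beq (act16 i) i) 13332 6666 = true := by decide +kernel
theorem c16_3 : allRange (fun i => Nat.beq (act16 i) i) 19998 6666 = true := by decide +kernel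
theorem c16_4 : allRange (fun i => Nat.beq (act16 i) i) 26664 6666 = true := by decide +kernel
theorem c16_5 : allRange (fun i => Nat.beq (act16 i) i) 33330 6666 = true := by decide +kernel
theorem c16_6 : allRange (fun i => Nat.beq (act16 i) i) 39996 6666 = true := by decide +kernel
theorem c16_7 : allRange (fun i => Nat.beq (act16 i) i) 46662 6666 = true := by decide +kernel
theorem c16_8 : allRange (fun i => Nat.beq (act16 i) i) 53328 6666 = true := by decide +kernel
theorem c16_9 : allRange (fun i => Nat.beq (act16 i) i) 59994 6666 = true := by decide +kernel
theorem c16_10 : allRange (fun i => Nat.beq (act16 i) i) 66660 165 = true := by decide +kernel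
theorem h16 : ∀ i, i < T.N → Tab.relActOK T D chk16 i = true := by
  intro i hi
  rw [Tab.relActOK, ← act16_eq]
  exact (range_glue (range_of_allRange c16_0) (range_glue (range_of_allRange c16_1) (range_glue (range_of_allRange c16_2) (range_glue (range_of_allRange c16_3) (range_glue (range_of_allRange c16_4) (range_glue (range_of_allRange c16_5) (range_glue (range_of_allRange c16_6) (range_glue (range_of_allRange c16_7) (range_glue (range_of_allRange c16_8) (range_glue (range_of_allRange c16_9) (range_of_allRange c16_10))))))))))) i (Nat.zero_le _) hi

def chk20 : List Nat := [1, 3, 1, 1, 2, 0, 3, 1, 3, 1, 1, 2, 0, 3, 1, 3, 1, 1, 2, 0, 3, 1, 3, 1, 1, 2, 0, 3]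
noncomputable def act20 (i : Nat) : Nat := col0 (col2 (col0 (col0 (col3 (col1 (col2 (col0 (col2 (col0 (col0 (col3 (col1 (col2 (col0 (col2 (col0 (col0 (col3 (col1 (col2 (col0 (col2 (col0 (col0 (col3 (col1 (col2 (i))))))))))))))))))))))))))))
theorem act20_eq (i : Nat) : act20 i = Tab.act T D chk20 i := rfl
theorem c20_0 : allRange (fun i => Nat.beq (act20 i) i) 0 2000 = true := by decide +kernel
theorem c20_1 : allRange (fun i => Nat.beq (act20 i) i) 2000 2000 = true := by decide +kernel
theorem c20_2 : allRange (fun i => Nat.beq (act20 i) i) 4000 2000 = true := by decide +kernel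
theorem c20_3 : allRange (fun i => Nat.beq (act20 i) i) 6000 2000 = true := by decide +kernel
theorem c20_4 : allRange (fun i => Nat.beq (act20 i) i) 8000 2000 = true := by decide +kernel
theorem c20_5 : allRange (fun i => Nat.beq (act20 i) i) 10000 2000 = true := by decide +kernel
theorem c20_6 : allRange (fun i => Nat.beq (act20 i) i) 12000 2000 = true := by decide +kernel
theorem c20_7 : allRange (fun i => Nat.beq (act20 i) i) 14000 2000 = true := by decide +kernel
theorem c20_8 : allRange (fun i => Nat.beq (act20 i) i) 16000 2000 = true := by decide +kernel
theorem c20_9 : allRange (fun i => Nat.beq (act20 i) i) 18000 2000 = true := by decide +kernel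
theorem c20_10 : allRange (fun i => Nat.beq (act20 i) i) 20000 2000 = true := by decide +kernel
theorem c20_11 : allRange (fun i => Nat.beq (act20 i) i) 22000 2000 = true := by decide +kernel
theorem c20_12 : allRange (fun i => Nat.beq (act20 i) i) 24000 2000 = true := by decide +kernel
theorem c20_13 : allRange (fun i => Nat.beq (act20 i) i) 26000 2000 = true := by decide +kernel
theorem c20_14 : allRange (fun i => Nat.beq (act20 i) i) 28000 2000 = true := by decide +kernel
theorem c20_15 : allRange (fun i => Nat.beq (act20 i) i) 30000 2000 = true := by decide +kernel
theorem c20_16 : allRange (fun i => Nat.beq (act20 i) i) 32000 2000 = true := by decide +kernel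
theorem c20_17 : allRange (fun i => Nat.beq (act20 i) i) 34000 2000 = true := by decide +kernel
theorem c20_18 : allRange (fun i => Nat.beq (act20 i) i) 36000 2000 = true := by decide +kernel
theorem c20_19 : allRange (fun i => Nat.beq (act20 i) i) 38000 2000 = true := by decide +kernel
theorem c20_20 : allRange (fun i => Nat.beq (act20 i) i) 40000 2000 = true := by decide +kernel
theorem c20_21 : allRange (fun i => Nat.beq (act20 i) i) 42000 2000 = true := by decide +kernel
theorem c20_22 : allRange (fun i => Nat.beq (act20 i) i) 44000 2000 = true := by decide +kernel
theorem c20_23 : allRange (fun i => Nat.beq (act20 i) i) 46000 2000 = true := by decide +kernel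
theorem c20_24 : allRange (fun i => Nat.beq (act20 i) i) 48000 2000 = true := by decide +kernel
theorem c20_25 : allRange (fun i => Nat.beq (act20 i) i) 50000 2000 = true := by decide +kernel
theorem c20_26 : allRange (fun i => Nat.beq (act20 i) i) 52000 2000 = true := by decide +kernel
theorem c20_27 : allRange (fun i => Nat.beq (act20 i) i) 54000 2000 = true := by decide +kernel
theorem c20_28 : allRange (fun i => Nat.beq (act20 i) i) 56000 2000 = true := by decide +kernel
theorem c20_29 : allRange (fun i => Nat.beq (act20 i) i) 58000 2000 = true := by decide +kernel
theorem c20_30 : allRange (fun i => Nat.beq (act20 i) i) 60000 2000 = true := by decide +kernel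
theorem c20_31 : allRange (fun i => Nat.beq (act20 i) i) 62000 2000 = true := by decide +kernel
theorem c20_32 : allRange (fun i => Nat.beq (act20 i) i) 64000 2000 = true := by decide +kernel
theorem c20_33 : allRange (fun i => Nat.beq (act20 i) i) 66000 825 = true := by decide +kernel
theorem h20 : ∀ i, i < T.N → Tab.relActOK T D chk20 i = true := by
  intro i hi
  rw [Tab.relActOK, ← act20_eq]
  exact (range_glue (range_of_allRange c20_0) (range_glue (range_of_allRange c20_1) (range_glue (range_of_allRange c20_2) (range_glue (range_of_allRange c20_3) (range_glue (range_of_allRange c20_4) (range_glue (range_of_allRange c20_5) (range_glue (range_of_allRange c20_6) (range_glue (range_of_allRange c20_7) (range_glue (range_of_allRange c20_8) (range_glue (range_of_allRange c20_9) (range_glue (range_of_allRange c20_10) (range_glue (range_of_allRange c20_11) (range_glue (range_of_allRange c20_12) (range_glue (range_of_allRange c20_13) (range_glue (range_of_allRange c20_14) (range_glue (range_of_allRange c20_15) (range_glue (range_of_allRange c20_16) (range_glue (range_of_allRange c20_17) (range_glue (range_of_allRange c20_18) (range_glue (range_of_allRange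 c20_19) (range_glue (range_of_allRange c20_20) (range_glue (range_of_allRange c20_21) (range_glue (range_of_allRange c20_22) (range_glue (range_of_allRange c20_23) (range_glue (range_of_allRange c20_24) (range_glue (range_of_allRange c20_25) (range_glue (range_of_allRange c20_26) (range_glue (range_of_allRange c20_27) (range_glue (range_of_allRange c20_28) (range_glue (range_of_allRange c20_29) (range_glue (range_of_allRange c20_30) (range_glue (range_of_allRange c20_31) (range_glue (range_of_allRange c20_32) (range_of_allRange c20_33)))))))))))))))))))))))))))))))))) i (Nat.zero_le _) hi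

def chk23 : List Nat := [2, 1, 3, 0, 0, 2, 0, 2, 1, 3, 0, 0, 2, 0, 2, 1, 3, 0, 0, 2, 0, 2, 1, 3, 0, 0, 2, 0]
noncomputable def act23 (i : Nat) : Nat := col3 (col0 (col2 (col1 (col1 (col3 (col1 (col3 (col0 (col2 (col1 (col1 (col3 (col1 (col3 (col0 (col2 (col1 (col1 (col3 (col1 (col3 (col0 (col2 (col1 (col1 (col3 (col1 (i))))))))))))))))))))))))))))
theorem act23_eq (i : Nat) : act23 i = Tab.act T D chk23 i := rfl
theorem c23_0 : allRange (fun i => Nat.beq (act23 i) i) 0 2000 = true := by decide +kernel
theorem c23_1 : allRange (fun i => Nat.beq (act23 i) i) 2000 2000 = true := by decide +kernel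
theorem c23_2 : allRange (fun i => Nat.beq (act23 i) i) 4000 2000 = true := by decide +kernel
theorem c23_3 : allRange (fun i => Nat.beq (act23 i) i) 6000 2000 = true := by decide +kernel
theorem c23_4 : allRange (fun i => Nat.beq (act23 i) i) 8000 2000 = true := by decide +kernel
theorem c23_5 : allRange (fun i => Nat.beq (act23 i) i) 10000 2000 = true := by decide +kernel
theorem c23_6 : allRange (fun i => Nat.beq (act23 i) i) 12000 2000 = true := by decide +kernel
theorem c23_7 : allRange (fun i => Nat.beq (act23 i) i) 14000 2000 = true := by decide +kernel
theorem c23_8 : allRange (fun i => Nat.beq (act23 i) i) 16000 2000 = true := by decide +kernel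
theorem c23_9 : allRange (fun i => Nat.beq (act23 i) i) 18000 2000 = true := by decide +kernel
theorem c23_10 : allRange (fun i => Nat.beq (act23 i) i) 20000 2000 = true := by decide +kernel
theorem c23_11 : allRange (fun i => Nat.beq (act23 i) i) 22000 2000 = true := by decide +kernel
theorem c23_12 : allRange (fun i => Nat.beq (act23 i) i) 24000 2000 = true := by decide +kernel
theorem c23_13 : allRange (fun i => Nat.beq (act23 i) i) 26000 2000 = true := by decide +kernel
theorem c23_14 : allRange (fun i => Nat.beq (act23 i) i) 28000 2000 = true := by decide +kernel
theorem c23_15 : allRange (fun i => Nat.beq (act23 i) i) 30000 2000 = true := by decide +kernel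
theorem c23_16 : allRange (fun i => Nat.beq (act23 i) i) 32000 2000 = true := by decide +kernel
theorem c23_17 : allRange (fun i => Nat.beq (act23 i) i) 34000 2000 = true := by decide +kernel
theorem c23_18 : allRange (fun i => Nat.beq (act23 i) i) 36000 2000 = true := by decide +kernel
theorem c23_19 : allRange (fun i => Nat.beq (act23 i) i) 38000 2000 = true := by decide +kernel
theorem c23_20 : allRange (fun i => Nat.beq (act23 i) i) 40000 2000 = true := by decide +kernel
theorem c23_21 : allRange (fun i => Nat.beq (act23 i) i) 42000 2000 = true := by decide +kernel
theorem c23_22 : allRange (fun i => Nat.beq (act23 i) i) 44000 2000 = true := by decide +kernel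
theorem c23_23 : allRange (fun i => Nat.beq (act23 i) i) 46000 2000 = true := by decide +kernel
theorem c23_24 : allRange (fun i => Nat.beq (act23 i) i) 48000 2000 = true := by decide +kernel
theorem c23_25 : allRange (fun i => Nat.beq (act23 i) i) 50000 2000 = true := by decide +kernel
theorem c23_26 : allRange (fun i => Nat.beq (act23 i) i) 52000 2000 = true := by decide +kernel
theorem c23_27 : allRange (fun i => Nat.beq (act23 i) i) 54000 2000 = true := by decide +kernel
theorem c23_28 : allRange (fun i => Nat.beq (act23 i) i) 56000 2000 = true := by decide +kernel
theorem c23_29 : allRange (fun i => Nat.beq (act23 i) i) 58000 2000 = true := by decide +kernel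
theorem c23_30 : allRange (fun i => Nat.beq (act23 i) i) 60000 2000 = true := by decide +kernel
theorem c23_31 : allRange (fun i => Nat.beq (act23 i) i) 62000 2000 = true := by decide +kernel
theorem c23_32 : allRange (fun i => Nat.beq (act23 i) i) 64000 2000 = true := by decide +kernel
theorem c23_33 : allRange (fun i => Nat.beq (act23 i) i) 66000 825 = true := by decide +kernel
theorem h23 : ∀ i, i < T.N → Tab.relActOK T D chk23 i = true := by
  intro i hi
  rw [Tab.relActOK, ← act23_eq]
  exact (range_glue (range_of_allRange c23_0) (range_glue (range_of_allRange c23_1) (range_glue (range_of_allRange c23_2) (range_glue (range_of_allRange c23_3) (range_glue (range_of_allRange c23_4) (range_glue (range_of_allRange c23_5) (range_glue (range_of_allRange c23_6) (range_glue (range_of_allRange c23_7) (range_glue (range_of_allRange c23_8) (range_glue (range_of_allRange c23_9) (range_glue (range_of_allRange c23_10) (range_glue (range_of_allRange c23_11) (range_glue (range_of_allRange c23_12) (range_glue (range_of_allRange c23_13) (range_glue (range_of_allRange c23_14) (range_glue (range_of_allRange c23_15) (range_glue (range_of_allRange c23_16) (range_glue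 (range_of_allRange c23_17) (range_glue (range_of_allRange c23_18) (range_glue (range_of_allRange c23_19) (range_glue (range_of_allRange c23_20) (range_glue (range_of_allRange c23_21) (range_glue (range_of_allRange c23_22) (range_glue (range_of_allRange c23_23) (range_glue (range_of_allRange c23_24) (range_glue (range_of_allRange c23_25) (range_glue (range_of_allRange c23_26) (range_glue (range_of_allRange c23_27) (range_glue (range_of_allRange c23_28) (range_glue (range_of_allRange c23_29) (range_glue (range_of_allRange c23_30) (range_glue (range_of_allRange c23_31) (range_glue (range_of_allRange c23_32) (range_of_allRange c23_33)))))))))))))))))))))))))))))))))) i (Nat.zero_le _) hi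

def chk36 : List Nat := [1, 2, 1, 3, 3, 0, 2, 1, 3, 0, 1, 2, 1, 3, 3, 0, 2, 1, 3, 0, 1, 2, 1, 3, 3, 0, 2, 1, 3, 0, 1, 2, 1, 3, 3, 0, 2, 1, 3, 0]
noncomputable def act36 (i : Nat) : Nat := col0 (col3 (col0 (col2 (col2 (col1 (col3 (col0 (col2 (col1 (col0 (col3 (col0 (col2 (col2 (col1 (col3 (col0 (col2 (col1 (col0 (col3 (col0 (col2 (col2 (col1 (col3 (col0 (col2 (col1 (col0 (col3 (col0 (col2 (col2 (col1 (col3 (col0 (col2 (col1 (i))))))))))))))))))))))))))))))))))))))))
theorem act36_eq (i : Nat) : act36 i = Tab.act T D chk36 i := rfl
theorem c36_0 : allRange (fun i => Nat.beq (act36 i) i) 0 1428 = true := by decide +kernel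
theorem c36_1 : allRange (fun i => Nat.beq (act36 i) i) 1428 1428 = true := by decide +kernel
theorem c36_2 : allRange (fun i => Nat.beq (act36 i) i) 2856 1428 = true := by decide +kernel
theorem c36_3 : allRange (fun i => Nat.beq (act36 i) i) 4284 1428 = true := by decide +kernel
theorem c36_4 : allRange (fun i => Nat.beq (act36 i) i) 5712 1428 = true := by decide +kernel
theorem c36_5 : allRange (fun i => Nat.beq (act36 i) i) 7140 1428 = true := by decide +kernel
theorem c36_6 : allRange (fun i => Nat.beq (act36 i) i) 8568 1428 = true := by decide +kernel
theorem c36_7 : allRange (fun i => Nat.beq (act36 i) i) 9996 1428 = true := by decide +kernel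
theorem c36_8 : allRange (fun i => Nat.beq (act36 i) i) 11424 1428 = true := by decide +kernel
theorem c36_9 : allRange (fun i => Nat.beq (act36 i) i) 12852 1428 = true := by decide +kernel
theorem c36_10 : allRange (fun i => Nat.beq (act36 i) i) 14280 1428 = true := by decide +kernel
theorem c36_11 : allRange (fun i => Nat.beq (act36 i) i) 15708 1428 = true := by decide +kernel
theorem c36_12 : allRange (fun i => Nat.beq (act36 i) i) 17136 1428 = true := by decide +kernel
theorem c36_13 : allRange (fun i => Nat.beq (act36 i) i) 18564 1428 = true := by decide +kernel
theorem c36_14 : allRange (fun i => Nat.beq (act36 i) i) 19992 1428 = true := by decide +kernel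
theorem c36_15 : allRange (fun i => Nat.beq (act36 i) i) 21420 1428 = true := by decide +kernel
theorem c36_16 : allRange (fun i => Nat.beq (act36 i) i) 22848 1428 = true := by decide +kernel
theorem c36_17 : allRange (fun i => Nat.beq (act36 i) i) 24276 1428 = true := by decide +kernel
theorem c36_18 : allRange (fun i => Nat.beq (act36 i) i) 25704 1428 = true := by decide +kernel
theorem c36_19 : allRange (fun i => Nat.beq (act36 i) i) 27132 1428 = true := by decide +kernel
theorem c36_20 : allRange (fun i => Nat.beq (act36 i) i) 28560 1428 = true := by decide +kernel
theorem c36_21 : allRange (fun i => Nat.beq (act36 i) i) 29988 1428 = true := by decide +kernel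
theorem c36_22 : allRange (fun i => Nat.beq (act36 i) i) 31416 1428 = true := by decide +kernel
theorem c36_23 : allRange (fun i => Nat.beq (act36 i) i) 32844 1428 = true := by decide +kernel
theorem c36_24 : allRange (fun i => Nat.beq (act36 i) i) 34272 1428 = true := by decide +kernel
theorem c36_25 : allRange (fun i => Nat.beq (act36 i) i) 35700 1428 = true := by decide +kernel
theorem c36_26 : allRange (fun i => Nat.beq (act36 i) i) 37128 1428 = true := by decide +kernel
theorem c36_27 : allRange (fun i => Nat.beq (act36 i) i) 38556 1428 = true := by decide +kernel
theorem c36_28 : allRange (fun i => Nat.beq (act36 i) i) 39984 1428 = true := by decide +kernel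
theorem c36_29 : allRange (fun i => Nat.beq (act36 i) i) 41412 1428 = true := by decide +kernel
theorem c36_30 : allRange (fun i => Nat.beq (act36 i) i) 42840 1428 = true := by decide +kernel
theorem c36_31 : allRange (fun i => Nat.beq (act36 i) i) 44268 1428 = true := by decide +kernel
theorem c36_32 : allRange (fun i => Nat.beq (act36 i) i) 45696 1428 = true := by decide +kernel
theorem c36_33 : allRange (fun i => Nat.beq (act36 i) i) 47124 1428 = true := by decide +kernel
theorem c36_34 : allRange (fun i => Nat.beq (act36 i) i) 48552 1428 = true := by decide +kernel
theorem c36_35 : allRange (fun i => Nat.beq (act36 i) i) 49980 1428 = true := by decide +kernel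
theorem c36_36 : allRange (fun i => Nat.beq (act36 i) i) 51408 1428 = true := by decide +kernel
theorem c36_37 : allRange (fun i => Nat.beq (act36 i) i) 52836 1428 = true := by decide +kernel
theorem c36_38 : allRange (fun i => Nat.beq (act36 i) i) 54264 1428 = true := by decide +kernel
theorem c36_39 : allRange (fun i => Nat.beq (act36 i) i) 55692 1428 = true := by decide +kernel
theorem c36_40 : allRange (fun i => Nat.beq (act36 i) i) 57120 1428 = true := by decide +kernel
theorem c36_41 : allRange (fun i => Nat.beq (act36 i) i) 58548 1428 = true := by decide +kernel
theorem c36_42 : allRange (fun i => Nat.beq (act36 i) i) 59976 1428 = true := by decide +kernel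
theorem c36_43 : allRange (fun i => Nat.beq (act36 i) i) 61404 1428 = true := by decide +kernel
theorem c36_44 : allRange (fun i => Nat.beq (act36 i) i) 62832 1428 = true := by decide +kernel
theorem c36_45 : allRange (fun i => Nat.beq (act36 i) i) 64260 1428 = true := by decide +kernel
theorem c36_46 : allRange (fun i => Nat.beq (act36 i) i) 65688 1137 = true := by decide +kernel
theorem h36 : ∀ i, i < T.N → Tab.relActOK T D chk36 i = true := by
  intro i hi
  rw [Tab.relActOK, ← act36_eq]
  exact (range_glue (range_of_allRange c36_0) (range_glue (range_of_allRange c36_1) (range_glue (range_of_allRange c36_2) (range_glue (range_of_allRange c36_3) (range_glue (range_of_allRange c36_4) (range_glue (range_of_allRange c36_5) (range_glue (range_of_allRange c36_6) (range_glue (range_of_allRange c36_7) (range_glue (range_of_allRange c36_8) (range_glue (range_of_allRange c36_9) (range_glue (range_of_allRange c36_10) (range_glue (range_of_allRange c36_11) (range_glue (range_of_allRange c36_12) (range_glue (range_of_allRange c36_13) (range_glue (range_of_allRange c36_14) (range_glue (range_of_allRange c36_15) (range_glue (range_of_allRange c36_16) (range_glue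 (range_of_allRange c36_17) (range_glue (range_of_allRange c36_18) (range_glue (range_of_allRange c36_19) (range_glue (range_of_allRange c36_20) (range_glue (range_of_allRange c36_21) (range_glue (range_of_allRange c36_22) (range_glue (range_of_allRange c36_23) (range_glue (range_of_allRange c36_24) (range_glue (range_of_allRange c36_25) (range_glue (range_of_allRange c36_26) (range_glue (range_of_allRange c36_27) (range_glue (range_of_allRange c36_28) (range_glue (range_of_allRange c36_29) (range_glue (range_of_allRange c36_30) (range_glue (range_of_allRange c36_31) (range_glue (range_of_allRange c36_32) (range_glue (range_of_allRange c36_33) (range_glue (range_of_allRange c36_34) (range_glue (range_of_allRange c36_35) (range_glue (range_of_allRange c36_36) (range_glue (range_of_allRange c36_37) (range_glue (range_of_allRange c36_38) (range_glue (range_of_allRange c36_39) (range_glue (range_of_allRange c36_40) (range_glue (range_of_allRange c36_41) (range_glue (range_of_allRange c36_42) (range_glue (range_of_allRange c36_43) (range_glue (range_of_allRange c36_44) (range_glue (range_of_allRange c36_45) (range_of_allRange c36_46)))))))))))))))))))))))))))))))))))))))))))))))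 i (Nat.zero_le _) hi

def chk43 : List Nat := [5, 0, 0, 2, 2, 1, 2, 0, 2, 0, 4, 1, 3, 1, 1, 2, 0, 3]
noncomputable def act43 (i : Nat) : Nat := col4 (col1 (col1 (col3 (col3 (col0 (col3 (col1 (col3 (col1 (col5 (col0 (col2 (col0 (col0 (col3 (col1 (col2 (i))))))))))))))))))
theorem act43_eq (i : Nat) : act43 i = Tab.act T D chk43 i := rfl
theorem c43_0 : allRange (fun i => Nat.beq (act43 i) i) 0 3000 = true := by decide +kernel
theorem c43_1 : allRange (fun i => Nat.beq (act43 i) i) 3000 3000 = true := by decide +kernel
theorem c43_2 : allRange (fun i => Nat.beq (act43 i) i) 6000 3000 = true := by decide +kernel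
theorem c43_3 : allRange (fun i => Nat.beq (act43 i) i) 9000 3000 = true := by decide +kernel
theorem c43_4 : allRange (fun i => Nat.beq (act43 i) i) 12000 3000 = true := by decide +kernel
theorem c43_5 : allRange (fun i => Nat.beq (act43 i) i) 15000 3000 = true := by decide +kernel
theorem c43_6 : allRange (fun i => Nat.beq (act43 i) i) 18000 3000 = true := by decide +kernel
theorem c43_7 : allRange (fun i => Nat.beq (act43 i) i) 21000 3000 = true := by decide +kernel
theorem c43_8 : allRange (fun i => Nat.beq (act43 i) i) 24000 3000 = true := by decide +kernel
theorem c43_9 : allRange (fun i => Nat.beq (act43 i) i) 27000 3000 = true := by decide +kernel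
theorem c43_10 : allRange (fun i => Nat.beq (act43 i) i) 30000 3000 = true := by decide +kernel
theorem c43_11 : allRange (fun i => Nat.beq (act43 i) i) 33000 3000 = true := by decide +kernel
theorem c43_12 : allRange (fun i => Nat.beq (act43 i) i) 36000 3000 = true := by decide +kernel
theorem c43_13 : allRange (fun i => Nat.beq (act43 i) i) 39000 3000 = true := by decide +kernel
theorem c43_14 : allRange (fun i => Nat.beq (act43 i) i) 42000 3000 = true := by decide +kernel
theorem c43_15 : allRange (fun i => Nat.beq (act43 i) i) 45000 3000 = true := by decide +kernel
theorem c43_16 : allRange (fun i => Nat.beq (act43 i) i) 48000 3000 = true := by decide +kernel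
theorem c43_17 : allRange (fun i => Nat.beq (act43 i) i) 51000 3000 = true := by decide +kernel
theorem c43_18 : allRange (fun i => Nat.beq (act43 i) i) 54000 3000 = true := by decide +kernel
theorem c43_19 : allRange (fun i => Nat.beq (act43 i) i) 57000 3000 = true := by decide +kernel
theorem c43_20 : allRange (fun i => Nat.beq (act43 i) i) 60000 3000 = true := by decide +kernel
theorem c43_21 : allRange (fun i => Nat.beq (act43 i) i) 63000 3000 = true := by decide +kernel
theorem c43_22 : allRange (fun i => Nat.beq (act43 i) i) 66000 825 = true := by decide +kernel
theorem h43 : ∀ i, i < T.N → Tab.relActOK T D chk43 i = true := by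
  intro i hi
  rw [Tab.relActOK, ← act43_eq]
  exact (range_glue (range_of_allRange c43_0) (range_glue (range_of_allRange c43_1) (range_glue (range_of_allRange c43_2) (range_glue (range_of_allRange c43_3) (range_glue (range_of_allRange c43_4) (range_glue (range_of_allRange c43_5) (range_glue (range_of_allRange c43_6) (range_glue (range_of_allRange c43_7) (range_glue (range_of_allRange c43_8) (range_glue (range_of_allRange c43_9) (range_glue (range_of_allRange c43_10) (range_glue (range_of_allRange c43_11) (range_glue (range_of_allRange c43_12) (range_glue (range_of_allRange c43_13) (range_glue (range_of_allRange c43_14) (range_glue (range_of_allRange c43_15) (range_glue (range_of_allRange c43_16) (range_glue (range_of_allRange c43_17) (range_glue (range_of_allRange c43_18) (range_glue (range_of_allRange c43_19) (range_glue (range_of_allRange c43_20) (range_glue (range_of_allRange c43_21) (range_of_allRange c43_22))))))))))))))))))))))) i (Nat.zero_le _) hi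

def chk56 : List Nat := [0, 3, 1, 2, 2, 0, 0, 3, 1, 2, 2, 0, 0, 3, 1, 2, 2, 0, 0, 3, 1, 2, 2, 0]
noncomputable def act56 (i : Nat) : Nat := col1 (col2 (col0 (col3 (col3 (col1 (col1 (col2 (col0 (col3 (col3 (col1 (col1 (col2 (col0 (col3 (col3 (col1 (col1 (col2 (col0 (col3 (col3 (col1 (i))))))))))))))))))))))))
theorem act56_eq (i : Nat) : act56 i = Tab.act T D chk56 i := rfl
theorem c56_0 : allRange (fun i => Nat.beq (act56 i) i) 0 2307 = true := by decide +kernel
theorem c56_1 : allRange (fun i => Nat.beq (act56 i) i) 2307 2307 = true := by decide +kernel
theorem c56_2 : allRange (fun i => Nat.beq (act56 i) i) 4614 2307 = true := by decide +kernel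
theorem c56_3 : allRange (fun i => Nat.beq (act56 i) i) 6921 2307 = true := by decide +kernel
theorem c56_4 : allRange (fun i => Nat.beq (act56 i) i) 9228 2307 = true := by decide +kernel
theorem c56_5 : allRange (fun i => Nat.beq (act56 i) i) 11535 2307 = true := by decide +kernel
theorem c56_6 : allRange (fun i => Nat.beq (act56 i) i) 13842 2307 = true := by decide +kernel
theorem c56_7 : allRange (fun i => Nat.beq (act56 i) i) 16149 2307 = true := by decide +kernel
theorem c56_8 : allRange (fun i => Nat.beq (act56 i) i) 18456 2307 = true := by decide +kernel
theorem c56_9 : allRange (fun i => Nat.beq (act56 i) i) 20763 2307 = true := by decide +kernel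
theorem c56_10 : allRange (fun i => Nat.beq (act56 i) i) 23070 2307 = true := by decide +kernel
theorem c56_11 : allRange (fun i => Nat.beq (act56 i) i) 25377 2307 = true := by decide +kernel
theorem c56_12 : allRange (fun i => Nat.beq (act56 i) i) 27684 2307 = true := by decide +kernel
theorem c56_13 : allRange (fun i => Nat.beq (act56 i) i) 29991 2307 = true := by decide +kernel
theorem c56_14 : allRange (fun i => Nat.beq (act56 i) i) 32298 2307 = true := by decide +kernel
theorem c56_15 : allRange (fun i => Nat.beq (act56 i) i) 34605 2307 = true := by decide +kernel
theorem c56_16 : allRange (fun i => Nat.beq (act56 i) i) 36912 2307 = true := by decide +kernel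
theorem c56_17 : allRange (fun i => Nat.beq (act56 i) i) 39219 2307 = true := by decide +kernel
theorem c56_18 : allRange (fun i => Nat.beq (act56 i) i) 41526 2307 = true := by decide +kernel
theorem c56_19 : allRange (fun i => Nat.beq (act56 i) i) 43833 2307 = true := by decide +kernel
theorem c56_20 : allRange (fun i => Nat.beq (act56 i) i) 46140 2307 = true := by decide +kernel
theorem c56_21 : allRange (fun i => Nat.beq (act56 i) i) 48447 2307 = true := by decide +kernel
theorem c56_22 : allRange (fun i => Nat.beq (act56 i) i) 50754 2307 = true := by decide +kernel
theorem c56_23 : allRange (fun i => Nat.beq (act56 i) i) 53061 2307 = true := by decide +kernel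
theorem c56_24 : allRange (fun i => Nat.beq (act56 i) i) 55368 2307 = true := by decide +kernel
theorem c56_25 : allRange (fun i => Nat.beq (act56 i) i) 57675 2307 = true := by decide +kernel
theorem c56_26 : allRange (fun i => Nat.beq (act56 i) i) 59982 2307 = true := by decide +kernel
theorem c56_27 : allRange (fun i => Nat.beq (act56 i) i) 62289 2307 = true := by decide +kernel
theorem c56_28 : allRange (fun i => Nat.beq (act56 i) i) 64596 2229 = true := by decide +kernel
theorem h56 : ∀ i, i < T.N → Tab.relActOK T D chk56 i = true := by
  intro i hi
  rw [Tab.relActOK, ← act56_eq]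
  exact (range_glue (range_of_allRange c56_0) (range_glue (range_of_allRange c56_1) (range_glue (range_of_allRange c56_2) (range_glue (range_of_allRange c56_3) (range_glue (range_of_allRange c56_4) (range_glue (range_of_allRange c56_5) (range_glue (range_of_allRange c56_6) (range_glue (range_of_allRange c56_7) (range_glue (range_of_allRange c56_8) (range_glue (range_of_allRange c56_9) (range_glue (range_of_allRange c56_10) (range_glue (range_of_allRange c56_11) (range_glue (range_of_allRange c56_12) (range_glue (range_of_allRange c56_13) (range_glue (range_of_allRange c56_14) (range_glue (range_of_allRange c56_15) (range_glue (range_of_allRange c56_16) (range_glue (range_of_allRange c56_17) (range_glue (range_of_allRange c56_18) (range_glue (range_of_allRange c56_19) (range_glue (range_of_allRange c56_20) (range_glue (range_of_allRange c56_21) (range_glue (range_of_allRange c56_22) (range_glue (range_of_allRange c56_23) (range_glue (range_of_allRange c56_24) (range_glue (range_of_allRange c56_25) (range_glue (range_of_allRange c56_26) (range_glue (range_of_allRange c56_27) (range_of_allRange c56_28))))))))))))))))))))))))))))) i (Nat.zero_le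 _) hi

def chk80 : List Nat := [2, 1, 3, 3, 0, 3, 1, 1, 2, 1, 3, 3, 0, 3, 1, 1, 2, 1, 3, 3, 0, 3, 1, 1, 2, 1, 3, 3, 0, 3, 1, 1]
noncomputable def act80 (i : Nat) : Nat := col3 (col0 (col2 (col2 (col1 (col2 (col0 (col0 (col3 (col0 (col2 (col2 (col1 (col2 (col0 (col0 (col3 (col0 (col2 (col2 (col1 (col2 (col0 (col0 (col3 (col0 (col2 (col2 (col1 (col2 (col0 (col0 (i))))))))))))))))))))))))))))))))
theorem act80_eq (i : Nat) : act80 i = Tab.act T D chk80 i := rfl
theorem c80_0 : allRange (fun i => Nat.beq (act80 i) i) 0 1764 = true := by decide +kernel
theorem c80_1 : allRange (fun i => Nat.beq (act80 i) i) 1764 1764 = true := by decide +kernel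
theorem c80_2 : allRange (fun i => Nat.beq (act80 i) i) 3528 1764 = true := by decide +kernel
theorem c80_3 : allRange (fun i => Nat.beq (act80 i) i) 5292 1764 = true := by decide +kernel
theorem c80_4 : allRange (fun i => Nat.beq (act80 i) i) 7056 1764 = true := by decide +kernel
theorem c80_5 : allRange (fun i => Nat.beq (act80 i) i) 8820 1764 = true := by decide +kernel
theorem c80_6 : allRange (fun i => Nat.beq (act80 i) i) 10584 1764 = true := by decide +kernel
theorem c80_7 : allRange (fun i => Nat.beq (act80 i) i) 12348 1764 = true := by decide +kernel
theorem c80_8 : allRange (fun i => Nat.beq (act80 i) i) 14112 1764 = true := by decide +kernel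
theorem c80_9 : allRange (fun i => Nat.beq (act80 i) i) 15876 1764 = true := by decide +kernel
theorem c80_10 : allRange (fun i => Nat.beq (act80 i) i) 17640 1764 = true := by decide +kernel
theorem c80_11 : allRange (fun i => Nat.beq (act80 i) i) 19404 1764 = true := by decide +kernel
theorem c80_12 : allRange (fun i => Nat.beq (act80 i) i) 21168 1764 = true := by decide +kernel
theorem c80_13 : allRange (fun i => Nat.beq (act80 i) i) 22932 1764 = true := by decide +kernel
theorem c80_14 : allRange (fun i => Nat.beq (act80 i) i) 24696 1764 = true := by decide +kernel
theorem c80_15 : allRange (fun i => Nat.beq (act80 i) i) 26460 1764 = true := by decide +kernel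
theorem c80_16 : allRange (fun i => Nat.beq (act80 i) i) 28224 1764 = true := by decide +kernel
theorem c80_17 : allRange (fun i => Nat.beq (act80 i) i) 29988 1764 = true := by decide +kernel
theorem c80_18 : allRange (fun i => Nat.beq (act80 i) i) 31752 1764 = true := by decide +kernel
theorem c80_19 : allRange (fun i => Nat.beq (act80 i) i) 33516 1764 = true := by decide +kernel
theorem c80_20 : allRange (fun i => Nat.beq (act80 i) i) 35280 1764 = true := by decide +kernel
theorem c80_21 : allRange (fun i => Nat.beq (act80 i) i) 37044 1764 = true := by decide +kernel
theorem c80_22 : allRange (fun i => Nat.beq (act80 i) i) 38808 1764 = true := by decide +kernel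
theorem c80_23 : allRange (fun i => Nat.beq (act80 i) i) 40572 1764 = true := by decide +kernel
theorem c80_24 : allRange (fun i => Nat.beq (act80 i) i) 42336 1764 = true := by decide +kernel
theorem c80_25 : allRange (fun i => Nat.beq (act80 i) i) 44100 1764 = true := by decide +kernel
theorem c80_26 : allRange (fun i => Nat.beq (act80 i) i) 45864 1764 = true := by decide +kernel
theorem c80_27 : allRange (fun i => Nat.beq (act80 i) i) 47628 1764 = true := by decide +kernel
theorem c80_28 : allRange (fun i => Nat.beq (act80 i) i) 49392 1764 = true := by decide +kernel
theorem c80_29 : allRange (fun i => Nat.beq (act80 i) i) 51156 1764 = true := by decide +kernel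
theorem c80_30 : allRange (fun i => Nat.beq (act80 i) i) 52920 1764 = true := by decide +kernel
theorem c80_31 : allRange (fun i => Nat.beq (act80 i) i) 54684 1764 = true := by decide +kernel
theorem c80_32 : allRange (fun i => Nat.beq (act80 i) i) 56448 1764 = true := by decide +kernel
theorem c80_33 : allRange (fun i => Nat.beq (act80 i) i) 58212 1764 = true := by decide +kernel
theorem c80_34 : allRange (fun i => Nat.beq (act80 i) i) 59976 1764 = true := by decide +kernel
theorem c80_35 : allRange (fun i => Nat.beq (act80 i) i) 61740 1764 = true := by decide +kernel
theorem c80_36 : allRange (fun i => Nat.beq (act80 i) i) 63504 1764 = true := by decide +kernel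
theorem c80_37 : allRange (fun i => Nat.beq (act80 i) i) 65268 1557 = true := by decide +kernel
theorem h80 : ∀ i, i < T.N → Tab.relActOK T D chk80 i = true := by
  intro i hi
  rw [Tab.relActOK, ← act80_eq]
  exact (range_glue (range_of_allRange c80_0) (range_glue (range_of_allRange c80_1) (range_glue (range_of_allRange c80_2) (range_glue (range_of_allRange c80_3) (range_glue (range_of_allRange c80_4) (range_glue (range_of_allRange c80_5) (range_glue (range_of_allRange c80_6) (range_glue (range_of_allRange c80_7) (range_glue (range_of_allRange c80_8) (range_glue (range_of_allRange c80_9) (range_glue (range_of_allRange c80_10) (range_glue (range_of_allRange c80_11) (range_glue (range_of_allRange c80_12) (range_glue (range_of_allRange c80_13) (range_glue (range_of_allRange c80_14) (range_glue (range_of_allRange c80_15) (range_glue (range_of_allRange c80_16) (range_glue (range_of_allRange c80_17) (range_glue (range_of_allRange c80_18) (range_glue (range_of_allRange c80_19) (range_glue (range_of_allRange c80_20) (range_glue (range_of_allRange c80_21) (range_glue (range_of_allRange c80_22) (range_glue (range_of_allRange c80_23) (range_glue (range_of_allRange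 c80_24) (range_glue (range_of_allRange c80_25) (range_glue (range_of_allRange c80_26) (range_glue (range_of_allRange c80_27) (range_glue (range_of_allRange c80_28) (range_glue (range_of_allRange c80_29) (range_glue (range_of_allRange c80_30) (range_glue (range_of_allRange c80_31) (range_glue (range_of_allRange c80_32) (range_glue (range_of_allRange c80_33) (range_glue (range_of_allRange c80_34) (range_glue (range_of_allRange c80_35) (range_glue (range_of_allRange c80_36) (range_of_allRange c80_37)))))))))))))))))))))))))))))))))))))) i (Nat.zero_le _) hi

def chk109 : List Nat := [5, 0, 3, 3, 0, 3, 0, 3, 1, 4, 2, 0, 0, 0, 3, 0, 2, 0, 0]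
noncomputable def act109 (i : Nat) : Nat := col4 (col1 (col2 (col2 (col1 (col2 (col1 (col2 (col0 (col5 (col3 (col1 (col1 (col1 (col2 (col1 (col3 (col1 (col1 (i)))))))))))))))))))
theorem act109_eq (i : Nat) : act109 i = Tab.act T D chk109 i := rfl
theorem c109_0 : allRange (fun i => Nat.beq (act109 i) i) 0 2857 = true := by decide +kernel
theorem c109_1 : allRange (fun i => Nat.beq (act109 i) i) 2857 2857 = true := by decide +kernel
theorem c109_2 : allRange (fun i => Nat.beq (act109 i) i) 5714 2857 = true := by decide +kernel
theorem c109_3 : allRange (fun i => Nat.beq (act109 i) i) 8571 2857 = true := by decide +kernel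
theorem c109_4 : allRange (fun i => Nat.beq (act109 i) i) 11428 2857 = true := by decide +kernel
theorem c109_5 : allRange (fun i => Nat.beq (act109 i) i) 14285 2857 = true := by decide +kernel
theorem c109_6 : allRange (fun i => Nat.beq (act109 i) i) 17142 2857 = true := by decide +kernel
theorem c109_7 : allRange (fun i => Nat.beq (act109 i) i) 19999 2857 = true := by decide +kernel
theorem c109_8 : allRange (fun i => Nat.beq (act109 i) i) 22856 2857 = true := by decide +kernel
theorem c109_9 : allRange (fun i => Nat.beq (act109 i) i) 25713 2857 = true := by decide +kernel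
theorem c109_10 : allRange (fun i => Nat.beq (act109 i) i) 28570 2857 = true := by decide +kernel
theorem c109_11 : allRange (fun i => Nat.beq (act109 i) i) 31427 2857 = true := by decide +kernel
theorem c109_12 : allRange (fun i => Nat.beq (act109 i) i) 34284 2857 = true := by decide +kernel
theorem c109_13 : allRange (fun i => Nat.beq (act109 i) i) 37141 2857 = true := by decide +kernel
theorem c109_14 : allRange (fun i => Nat.beq (act109 i) i) 39998 2857 = true := by decide +kernel
theorem c109_15 : allRange (fun i => Nat.beq (act109 i) i) 42855 2857 = true := by decide +kernel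
theorem c109_16 : allRange (fun i => Nat.beq (act109 i) i) 45712 2857 = true := by decide +kernel
theorem c109_17 : allRange (fun i => Nat.beq (act109 i) i) 48569 2857 = true := by decide +kernel
theorem c109_18 : allRange (fun i => Nat.beq (act109 i) i) 51426 2857 = true := by decide +kernel
theorem c109_19 : allRange (fun i => Nat.beq (act109 i) i) 54283 2857 = true := by decide +kernel
theorem c109_20 : allRange (fun i => Nat.beq (act109 i) i) 57140 2857 = true := by decide +kernel
theorem c109_21 : allRange (fun i => Nat.beq (act109 i) i) 59997 2857 = true := by decide +kernel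
theorem c109_22 : allRange (fun i => Nat.beq (act109 i) i) 62854 2857 = true := by decide +kernel
theorem c109_23 : allRange (fun i => Nat.beq (act109 i) i) 65711 1114 = true := by decide +kernel
theorem h109 : ∀ i, i < T.N → Tab.relActOK T D chk109 i = true := by
  intro i hi
  rw [Tab.relActOK, ← act109_eq]
  exact (range_glue (range_of_allRange c109_0) (range_glue (range_of_allRange c109_1) (range_glue (range_of_allRange c109_2) (range_glue (range_of_allRange c109_3) (range_glue (range_of_allRange c109_4) (range_glue (range_of_allRange c109_5) (range_glue (range_of_allRange c109_6) (range_glue (range_of_allRange c109_7) (range_glue (range_of_allRange c109_8) (range_glue (range_of_allRange c109_9) (range_glue (range_of_allRange c109_10) (range_glue (range_of_allRange c109_11) (range_glue (range_of_allRange c109_12) (range_glue (range_of_allRange c109_13) (range_glue (range_of_allRange c109_14) (range_glue (range_of_allRange c109_15) (range_glue (range_of_allRange c109_16) (range_glue (range_of_allRange c109_17) (range_glue (range_of_allRange c109_18) (range_glue (range_of_allRange c109_19) (range_glue (range_of_allRange c109_20) (range_glue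 (range_of_allRange c109_21) (range_glue (range_of_allRange c109_22) (range_of_allRange c109_23)))))))))))))))))))))))) i (Nat.zero_le _) hi

def chk111 : List Nat := [1, 1, 3, 1, 2, 1, 1, 1, 3, 1, 1, 3, 1, 2, 1, 1, 1, 3, 1, 1, 3, 1, 2, 1, 1, 1, 3, 1, 1, 3, 1, 2, 1, 1, 1, 3]
noncomputable def act111 (i : Nat) : Nat := col0 (col0 (col2 (col0 (col3 (col0 (col0 (col0 (col2 (col0 (col0 (col2 (col0 (col3 (col0 (col0 (col0 (col2 (col0 (col0 (col2 (col0 (col3 (col0 (col0 (col0 (col2 (col0 (col0 (col2 (col0 (col3 (col0 (col0 (col0 (col2 (i))))))))))))))))))))))))))))))))))))
theorem act111_eq (i : Nat) : act111 i = Tab.act T D chk111 i := rfl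
theorem c111_0 : allRange (fun i => Nat.beq (act111 i) i) 0 1578 = true := by decide +kernel
theorem c111_1 : allRange (fun i => Nat.beq (act111 i) i) 1578 1578 = true := by decide +kernel
theorem c111_2 : allRange (fun i => Nat.beq (act111 i) i) 3156 1578 = true := by decide +kernel
theorem c111_3 : allRange (fun i => Nat.beq (act111 i) i) 4734 1578 = true := by decide +kernel
theorem c111_4 : allRange (fun i => Nat.beq (act111 i) i) 6312 1578 = true := by decide +kernel
theorem c111_5 : allRange (fun i => Nat.beq (act111 i) i) 7890 1578 = true := by decide +kernel
theorem c111_6 : allRange (fun i => Nat.beq (act111 i) i) 9468 1578 = true := by decide +kernel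
theorem c111_7 : allRange (fun i => Nat.beq (act111 i) i) 11046 1578 = true := by decide +kernel
theorem c111_8 : allRange (fun i => Nat.beq (act111 i) i) 12624 1578 = true := by decide +kernel
theorem c111_9 : allRange (fun i => Nat.beq (act111 i) i) 14202 1578 = true := by decide +kernel
theorem c111_10 : allRange (fun i => Nat.beq (act111 i) i) 15780 1578 = true := by decide +kernel
theorem c111_11 : allRange (fun i => Nat.beq (act111 i) i) 17358 1578 = true := by decide +kernel
theorem c111_12 : allRange (fun i => Nat.beq (act111 i) i) 18936 1578 = true := by decide +kernel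
theorem c111_13 : allRange (fun i => Nat.beq (act111 i) i) 20514 1578 = true := by decide +kernel
theorem c111_14 : allRange (fun i => Nat.beq (act111 i) i) 22092 1578 = true := by decide +kernel
theorem c111_15 : allRange (fun i => Nat.beq (act111 i) i) 23670 1578 = true := by decide +kernel
theorem c111_16 : allRange (fun i => Nat.beq (act111 i) i) 25248 1578 = true := by decide +kernel
theorem c111_17 : allRange (fun i => Nat.beq (act111 i) i) 26826 1578 = true := by decide +kernel
theorem c111_18 : allRange (fun i => Nat.beq (act111 i) i) 28404 1578 = true := by decide +kernel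
theorem c111_19 : allRange (fun i => Nat.beq (act111 i) i) 29982 1578 = true := by decide +kernel
theorem c111_20 : allRange (fun i => Nat.beq (act111 i) i) 31560 1578 = true := by decide +kernel
theorem c111_21 : allRange (fun i => Nat.beq (act111 i) i) 33138 1578 = true := by decide +kernel
theorem c111_22 : allRange (fun i => Nat.beq (act111 i) i) 34716 1578 = true := by decide +kernel
theorem c111_23 : allRange (fun i => Nat.beq (act111 i) i) 36294 1578 = true := by decide +kernel
theorem c111_24 : allRange (fun i => Nat.beq (act111 i) i) 37872 1578 = true := by decide +kernel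
theorem c111_25 : allRange (fun i => Nat.beq (act111 i) i) 39450 1578 = true := by decide +kernel
theorem c111_26 : allRange (fun i => Nat.beq (act111 i) i) 41028 1578 = true := by decide +kernel
theorem c111_27 : allRange (fun i => Nat.beq (act111 i) i) 42606 1578 = true := by decide +kernel
theorem c111_28 : allRange (fun i => Nat.beq (act111 i) i) 44184 1578 = true := by decide +kernel
theorem c111_29 : allRange (fun i => Nat.beq (act111 i) i) 45762 1578 = true := by decide +kernel
theorem c111_30 : allRange (fun i => Nat.beq (act111 i) i) 47340 1578 = true := by decide +kernel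
theorem c111_31 : allRange (fun i => Nat.beq (act111 i) i) 48918 1578 = true := by decide +kernel
theorem c111_32 : allRange (fun i => Nat.beq (act111 i) i) 50496 1578 = true := by decide +kernel
theorem c111_33 : allRange (fun i => Nat.beq (act111 i) i) 52074 1578 = true := by decide +kernel
theorem c111_34 : allRange (fun i => Nat.beq (act111 i) i) 53652 1578 = true := by decide +kernel
theorem c111_35 : allRange (fun i => Nat.beq (act111 i) i) 55230 1578 = true := by decide +kernel
theorem c111_36 : allRange (fun i => Nat.beq (act111 i) i) 56808 1578 = true := by decide +kernel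
theorem c111_37 : allRange (fun i => Nat.beq (act111 i) i) 58386 1578 = true := by decide +kernel
theorem c111_38 : allRange (fun i => Nat.beq (act111 i) i) 59964 1578 = true := by decide +kernel
theorem c111_39 : allRange (fun i => Nat.beq (act111 i) i) 61542 1578 = true := by decide +kernel
theorem c111_40 : allRange (fun i => Nat.beq (act111 i) i) 63120 1578 = true := by decide +kernel
theorem c111_41 : allRange (fun i => Nat.beq (act111 i) i) 64698 1578 = true := by decide +kernel
theorem c111_42 : allRange (fun i => Nat.beq (act111 i) i) 66276 549 = true := by decide +kernel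
theorem h111 : ∀ i, i < T.N → Tab.relActOK T D chk111 i = true := by
  intro i hi
  rw [Tab.relActOK, ← act111_eq]
  exact (range_glue (range_of_allRange c111_0) (range_glue (range_of_allRange c111_1) (range_glue (range_of_allRange c111_2) (range_glue (range_of_allRange c111_3) (range_glue (range_of_allRange c111_4) (range_glue (range_of_allRange c111_5) (range_glue (range_of_allRange c111_6) (range_glue (range_of_allRange c111_7) (range_glue (range_of_allRange c111_8) (range_glue (range_of_allRange c111_9) (range_glue (range_of_allRange c111_10) (range_glue (range_of_allRange c111_11) (range_glue (range_of_allRange c111_12) (range_glue (range_of_allRange c111_13) (range_glue (range_of_allRange c111_14) (range_glue (range_of_allRange c111_15) (range_glue (range_of_allRange c111_16) (range_glue (range_of_allRange c111_17) (range_glue (range_of_allRange c111_18) (range_glue (range_of_allRange c111_19) (range_glue (range_of_allRange c111_20) (range_glue (range_of_allRange c111_21) (range_glue (range_of_allRange c111_22) (range_glue (range_of_allRange c111_23) (range_glue (range_of_allRange c111_24) (range_glue (range_of_allRange c111_25) (range_glue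 (range_of_allRange c111_26) (range_glue (range_of_allRange c111_27) (range_glue (range_of_allRange c111_28) (range_glue (range_of_allRange c111_29) (range_glue (range_of_allRange c111_30) (range_glue (range_of_allRange c111_31) (range_glue (range_of_allRange c111_32) (range_glue (range_of_allRange c111_33) (range_glue (range_of_allRange c111_34) (range_glue (range_of_allRange c111_35) (range_glue (range_of_allRange c111_36) (range_glue (range_of_allRange c111_37) (range_glue (range_of_allRange c111_38) (range_glue (range_of_allRange c111_39) (range_glue (range_of_allRange c111_40) (range_glue (range_of_allRange c111_41) (range_of_allRange c111_42))))))))))))))))))))))))))))))))))))))))))) i (Nat.zero_le _) hi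

end Cfsg.Agent.Lib.Helper4.TCD.SC3McLp3W
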