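import Cfsg.Agent.Lib.Helper4.TCD_C3McLR_Acc
import Cfsg.Agent.Lib.Helper4.TC13

namespace Cfsg.Agent.Lib.Helper4.TCD.SC3McLp3W

open Cfsg.Agent.Lib.Helper4.TC Cfsg.Agent.Lib.Helper4.TCD.C3McLR

set_option maxRecDepth 100000
set_option Elab.async false

def chk4 : List Nat := [0, 0, 0, 3, 4, 1, 1, 3, 0, 3, 0, 5, 3, 3, 0, 2, 7]
noncomputable def act4 (i : Nat) : Nat := col1 (col1 (col1 (col2 (col5 (col0 (col0 (col2 (col1 (col2 (col1 (col4 (col2 (col2 (col1 (col3 (col6 (i)))))))))))))))))
theorem act4_eq (i : Nat) : act4 i = Tab.act T D chk4 i := rfl
theorem c4_0 : allRange (fun i => Nat.beq (act4 i) i) 0 3157 = true := by decide +kernel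
theorem c4_1 : allRange (fun i => Nat.beq (act4 i) i) 3157 3157 = true := by decide +kernel
theorem c4_2 : allRange (fun i => Nat.beq (act4 i) i) 6314 3157 = true := by decide +kernel
theorem c4_3 : allRange (fun i => Nat.beq (act4 i) i) 9471 3157 = true := by decide +kernel
theorem c4_4 : allRange (fun i => Nat.beq (act4 i) i) 12628 3157 = true := by decide +kernel
theorem c4_5 : allRange (fun i => Nat.beq (act4 i) i) 15785 3157 = true := by decide +kernel
theorem c4_6 : allRange (fun i => Nat.beq (act4 i) i) 18942 3157 = true := by decide +kernel
theorem c4_7 : allRange (fun i => Nat.beq (act4 i) i) 22099 3157 = true := by decide +kernel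
theorem c4_8 : allRange (fun i => Nat.beq (act4 i) i) 25256 3157 = true := by decide +kernel
theorem c4_9 : allRange (fun i => Nat.beq (act4 i) i) 28413 3157 = true := by decide +kernel
theorem c4_10 : allRange (fun i => Nat.beq (act4 i) i) 31570 3157 = true := by decide +kernel
theorem c4_11 : allRange (fun i => Nat.beq (act4 i) i) 34727 3157 = true := by decide +kernel
theorem c4_12 : allRange (fun i => Nat.beq (act4 i) i) 37884 3157 = true := by decide +kernel
theorem c4_13 : allRange (fun i => Nat.beq (act4 i) i) 41041 3157 = true := by decide +kernel
theorem c4_14 : allRange (fun i => Nat.beq (act4 i) i) 44198 3157 = true := by decide +kernel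
theorem c4_15 : allRange (fun i => Nat.beq (act4 i) i) 47355 3157 = true := by decide +kernel
theorem c4_16 : allRange (fun i => Nat.beq (act4 i) i) 50512 3157 = true := by decide +kernel
theorem c4_17 : allRange (fun i => Nat.beq (act4 i) i) 53669 3157 = true := by decide +kernel
theorem c4_18 : allRange (fun i => Nat.beq (act4 i) i) 56826 3157 = true := by decide +kernel
theorem c4_19 : allRange (fun i => Nat.beq (act4 i) i) 59983 3157 = true := by decide +kernel
theorem c4_20 : allRange (fun i => Nat.beq (act4 i) i) 63140 3157 = true := by decide +kernel
theorem c4_21 : allRange (fun i => Nat.beq (act4 i) i) 66297 528 = true := by decide +kernel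
theorem h4 : ∀ i, i < T.N → Tab.relActOK T D chk4 i = true := by
  intro i hi
  rw [Tab.relActOK, ← act4_eq]
  exact (range_glue (range_of_allRange c4_0) (range_glue (range_of_allRange c4_1) (range_glue (range_of_allRange c4_2) (range_glue (range_of_allRange c4_3) (range_glue (range_of_allRange c4_4) (range_glue (range_of_allRange c4_5) (range_glue (range_of_allRange c4_6) (range_glue (range_of_allRange c4_7) (range_glue (range_of_allRange c4_8) (range_glue (range_of_allRange c4_9) (range_glue (range_of_allRange c4_10) (range_glue (range_of_allRange c4_11) (range_glue (range_of_allRange c4_12) (range_glue (range_of_allRange c4_13) (range_glue (range_of_allRange c4_14) (range_glue (range_of_allRange c4_15) (range_glue (range_of_allRange c4_16) (range_glue (range_of_allRange c4_17) (range_glue (range_of_allRange c4_18) (range_glue (range_of_allRange c4_19) (range_glue (range_of_allRange c4_20) (range_of_allRange c4_21)))))))))))))))))))))) i (Nat.zero_le _) hi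

def chk6 : List Nat := [0, 0, 3, 0, 2, 2, 5, 0, 2, 1, 3, 1, 5, 2, 0, 3]
noncomputable def act6 (i : Nat) : Nat := col1 (col1 (col2 (col1 (col3 (col3 (col4 (col1 (col3 (col0 (col2 (col0 (col4 (col3 (col1 (col2 (i))))))))))))))))
theorem act6_eq (i : Nat) : act6 i = Tab.act T D chk6 i := rfl
theorem c6_0 : allRange (fun i => Nat.beq (act6 i) i) 0 3333 = true := by decide +kernel
theorem c6_1 : allRange (fun i => Nat.beq (act6 i) i) 3333 3333 = true := by decide +kernel
theorem c6_2 : allRange (fun i => Nat.beq (act6 i) i) 6666 3333 = true := by decide +kernel
theorem c6_3 : allRange (fun i => Nat.beq (act6 i) i) 9999 3333 = true := by decide +kernel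
theorem c6_4 : allRange (fun i => Nat.beq (act6 i) i) 13332 3333 = true := by decide +kernel
theorem c6_5 : allRange (fun i => Nat.beq (act6 i) i) 16665 3333 = true := by decide +kernel
theorem c6_6 : allRange (fun i => Nat.beq (act6 i) i) 19998 3333 = true := by decide +kernel
theorem c6_7 : allRange (fun i => Nat.beq (act6 i) i) 23331 3333 = true := by decide +kernel
theorem c6_8 : allRange (fun i => Nat.beq (act6 i) i) 26664 3333 = true := by decide +kernel
theorem c6_9 : allRange (fun i => Nat.beq (act6 i) i) 29997 3333 = true := by decide +kernel
theorem c6_10 : allRange (fun i => Nat.beq (act6 i) i) 33330 3333 = true := by decide +kernel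
theorem c6_11 : allRange (fun i => Nat.beq (act6 i) i) 36663 3333 = true := by decide +kernel
theorem c6_12 : allRange (fun i => Nat.beq (act6 i) i) 39996 3333 = true := by decide +kernel
theorem c6_13 : allRange (fun i => Nat.beq (act6 i) i) 43329 3333 = true := by decide +kernel
theorem c6_14 : allRange (fun i => Nat.beq (act6 i) i) 46662 3333 = true := by decide +kernel
theorem c6_15 : allRange (fun i => Nat.beq (act6 i) i) 49995 3333 = true := by decide +kernel
theorem c6_16 : allRange (fun i => Nat.beq (act6 i) i) 53328 3333 = true := by decide +kernel
theorem c6_17 : allRange (fun i => Nat.beq (act6 i) i) 56661 3333 = true := by decide +kernel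
theorem c6_18 : allRange (fun i => Nat.beq (act6 i) i) 59994 3333 = true := by decide +kernel
theorem c6_19 : allRange (fun i => Nat.beq (act6 i) i) 63327 3333 = true := by decide +kernel
theorem c6_20 : allRange (fun i => Nat.beq (act6 i) i) 66660 165 = true := by decide +kernel
theorem h6 : ∀ i, i < T.N → Tab.relActOK T D chk6 i = true := by
  intro i hi
  rw [Tab.relActOK, ← act6_eq]
  exact (range_glue (range_of_allRange c6_0) (range_glue (range_of_allRange c6_1) (range_glue (range_of_allRange c6_2) (range_glue (range_of_allRange c6_3) (range_glue (range_of_allRange c6_4) (range_glue (range_of_allRange c6_5) (range_glue (range_of_allRange c6_6) (range_glue (range_of_allRange c6_7) (range_glue (range_of_allRange c6_8) (range_glue (range_of_allRange c6_9) (range_glue (range_of_allRange c6_10) (range_glue (range_of_allRange c6_11) (range_glue (range_of_allRange c6_12) (range_glue (range_of_allRange c6_13) (range_glue (range_of_allRange c6_14) (range_glue (range_of_allRange c6_15) (range_glue (range_of_allRange c6_16) (range_glue (range_of_allRange c6_17) (range_glue (range_of_allRange c6_18) (range_glue (range_of_allRange c6_19) (range_of_allRange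 c6_20))))))))))))))))))))) i (Nat.zero_le _) hi

def chk26 : List Nat := [0, 2, 0, 2, 1, 1, 3, 3, 0, 2, 0, 2, 1, 1, 3, 3, 0, 2, 0, 2, 1, 1, 3, 3, 0, 2, 0, 2, 1, 1, 3, 3]
noncomputable def act26 (i : Nat) : Nat := col1 (col3 (col1 (col3 (col0 (col0 (col2 (col2 (col1 (col3 (col1 (col3 (col0 (col0 (col2 (col2 (col1 (col3 (col1 (col3 (col0 (col0 (col2 (col2 (col1 (col3 (col1 (col3 (col0 (col0 (col2 (col2 (i))))))))))))))))))))))))))))))))
theorem act26_eq (i : Nat) : act26 i = Tab.act T D chk26 i := rfl
theorem c26_0 : allRange (fun i => Nat.beq (act26 i) i) 0 1764 = true := by decide +kernel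
theorem c26_1 : allRange (fun i => Nat.beq (act26 i) i) 1764 1764 = true := by decide +kernel
theorem c26_2 : allRange (fun i => Nat.beq (act26 i) i) 3528 1764 = true := by decide +kernel
theorem c26_3 : allRange (fun i => Nat.beq (act26 i) i) 5292 1764 = true := by decide +kernel
theorem c26_4 : allRange (fun i => Nat.beq (act26 i) i) 7056 1764 = true := by decide +kernel
theorem c26_5 : allRange (fun i => Nat.beq (act26 i) i) 8820 1764 = true := by decide +kernel
theorem c26_6 : allRange (fun i => Nat.beq (act26 i) i) 10584 1764 = true := by decide +kernel
theorem c26_7 : allRange (fun i => Nat.beq (act26 i) i) 12348 1764 = true := by decide +kernel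
theorem c26_8 : allRange (fun i => Nat.beq (act26 i) i) 14112 1764 = true := by decide +kernel
theorem c26_9 : allRange (fun i => Nat.beq (act26 i) i) 15876 1764 = true := by decide +kernel
theorem c26_10 : allRange (fun i => Nat.beq (act26 i) i) 17640 1764 = true := by decide +kernel
theorem c26_11 : allRange (fun i => Nat.beq (act26 i) i) 19404 1764 = true := by decide +kernel
theorem c26_12 : allRange (fun i => Nat.beq (act26 i) i) 21168 1764 = true := by decide +kernel
theorem c26_13 : allRange (fun i => Nat.beq (act26 i) i) 22932 1764 = true := by decide +kernel
theorem c26_14 : allRange (fun i => Nat.beq (act26 i) i) 24696 1764 = true := by decide +kernel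
theorem c26_15 : allRange (fun i => Nat.beq (act26 i) i) 26460 1764 = true := by decide +kernel
theorem c26_16 : allRange (fun i => Nat.beq (act26 i) i) 28224 1764 = true := by decide +kernel
theorem c26_17 : allRange (fun i => Nat.beq (act26 i) i) 29988 1764 = true := by decide +kernel
theorem c26_18 : allRange (fun i => Nat.beq (act26 i) i) 31752 1764 = true := by decide +kernel
theorem c26_19 : allRange (fun i => Nat.beq (act26 i) i) 33516 1764 = true := by decide +kernel
theorem c26_20 : allRange (fun i => Nat.beq (act26 i) i) 35280 1764 = true := by decide +kernel
theorem c26_21 : allRange (fun i => Nat.beq (act26 i) i) 37044 1764 = true := by decide +kernel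
theorem c26_22 : allRange (fun i => Nat.beq (act26 i) i) 38808 1764 = true := by decide +kernel
theorem c26_23 : allRange (fun i => Nat.beq (act26 i) i) 40572 1764 = true := by decide +kernel
theorem c26_24 : allRange (fun i => Nat.beq (act26 i) i) 42336 1764 = true := by decide +kernel
theorem c26_25 : allRange (fun i => Nat.beq (act26 i) i) 44100 1764 = true := by decide +kernel
theorem c26_26 : allRange (fun i => Nat.beq (act26 i) i) 45864 1764 = true := by decide +kernel
theorem c26_27 : allRange (fun i => Nat.beq (act26 i) i) 47628 1764 = true := by decide +kernel
theorem c26_28 : allRange (fun i => Nat.beq (act26 i) i) 49392 1764 = true := by decide +kernel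
theorem c26_29 : allRange (fun i => Nat.beq (act26 i) i) 51156 1764 = true := by decide +kernel
theorem c26_30 : allRange (fun i => Nat.beq (act26 i) i) 52920 1764 = true := by decide +kernel
theorem c26_31 : allRange (fun i => Nat.beq (act26 i) i) 54684 1764 = true := by decide +kernel
theorem c26_32 : allRange (fun i => Nat.beq (act26 i) i) 56448 1764 = true := by decide +kernel
theorem c26_33 : allRange (fun i => Nat.beq (act26 i) i) 58212 1764 = true := by decide +kernel
theorem c26_34 : allRange (fun i => Nat.beq (act26 i) i) 59976 1764 = true := by decide +kernel
theorem c26_35 : allRange (fun i => Nat.beq (act26 i) i) 61740 1764 = true := by decide +kernel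
theorem c26_36 : allRange (fun i => Nat.beq (act26 i) i) 63504 1764 = true := by decide +kernel
theorem c26_37 : allRange (fun i => Nat.beq (act26 i) i) 65268 1557 = true := by decide +kernel
theorem h26 : ∀ i, i < T.N → Tab.relActOK T D chk26 i = true := by
  intro i hi
  rw [Tab.relActOK, ← act26_eq]
  exact (range_glue (range_of_allRange c26_0) (range_glue (range_of_allRange c26_1) (range_glue (range_of_allRange c26_2) (range_glue (range_of_allRange c26_3) (range_glue (range_of_allRange c26_4) (range_glue (range_of_allRange c26_5) (range_glue (range_of_allRange c26_6) (range_glue (range_of_allRange c26_7) (range_glue (range_of_allRange c26_8) (range_glue (range_of_allRange c26_9) (range_glue (range_of_allRange c26_10) (range_glue (range_of_allRange c26_11) (range_glue (range_of_allRange c26_12) (range_glue (range_of_allRange c26_13) (range_glue (range_of_allRange c26_14) (range_glue (range_of_allRange c26_15) (range_glue (range_of_allRange c26_16) (range_glue (range_of_allRange c26_17) (range_glue (range_of_allRange c26_18) (range_glue (range_of_allRange c26_19) (range_glue (range_of_allRange c26_20) (range_glue (range_of_allRange c26_21)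 (range_glue (range_of_allRange c26_22) (range_glue (range_of_allRange c26_23) (range_glue (range_of_allRange c26_24) (range_glue (range_of_allRange c26_25) (range_glue (range_of_allRange c26_26) (range_glue (range_of_allRange c26_27) (range_glue (range_of_allRange c26_28) (range_glue (range_of_allRange c26_29) (range_glue (range_of_allRange c26_30) (range_glue (range_of_allRange c26_31) (range_glue (range_of_allRange c26_32) (range_glue (range_of_allRange c26_33) (range_glue (range_of_allRange c26_34) (range_glue (range_of_allRange c26_35) (range_glue (range_of_allRange c26_36) (range_of_allRange c26_37)))))))))))))))))))))))))))))))))))))) i (Nat.zero_le _) hi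

def chk29 : List Nat := [2, 2, 0, 0, 3, 1, 3, 1, 2, 2, 0, 0, 3, 1, 3, 1, 2, 2, 0, 0, 3, 1, 3, 1, 2, 2, 0, 0, 3, 1, 3, 1]
noncomputable def act29 (i : Nat) : Nat := col3 (col3 (col1 (col1 (col2 (col0 (col2 (col0 (col3 (col3 (col1 (col1 (col2 (col0 (col2 (col0 (col3 (col3 (col1 (col1 (col2 (col0 (col2 (col0 (col3 (col3 (col1 (col1 (col2 (col0 (col2 (col0 (i))))))))))))))))))))))))))))))))
theorem act29_eq (i : Nat) : act29 i = Tab.act T D chk29 i := rfl
theorem c29_0 : allRange (fun i => Nat.beq (act29 i) i) 0 1764 = true := by decide +kernel
theorem c29_1 : allRange (fun i => Nat.beq (act29 i) i) 1764 1764 = true := by decide +kernel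
theorem c29_2 : allRange (fun i => Nat.beq (act29 i) i) 3528 1764 = true := by decide +kernel
theorem c29_3 : allRange (fun i => Nat.beq (act29 i) i) 5292 1764 = true := by decide +kernel
theorem c29_4 : allRange (fun i => Nat.beq (act29 i) i) 7056 1764 = true := by decide +kernel
theorem c29_5 : allRange (fun i => Nat.beq (act29 i) i) 8820 1764 = true := by decide +kernel
theorem c29_6 : allRange (fun i => Nat.beq (act29 i) i) 10584 1764 = true := by decide +kernel
theorem c29_7 : allRange (fun i => Nat.beq (act29 i) i) 12348 1764 = true := by decide +kernel
theorem c29_8 : allRange (fun i => Nat.beq (act29 i) i) 14112 1764 = true := by decide +kernel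
theorem c29_9 : allRange (fun i => Nat.beq (act29 i) i) 15876 1764 = true := by decide +kernel
theorem c29_10 : allRange (fun i => Nat.beq (act29 i) i) 17640 1764 = true := by decide +kernel
theorem c29_11 : allRange (fun i => Nat.beq (act29 i) i) 19404 1764 = true := by decide +kernel
theorem c29_12 : allRange (fun i => Nat.beq (act29 i) i) 21168 1764 = true := by decide +kernel
theorem c29_13 : allRange (fun i => Nat.beq (act29 i) i) 22932 1764 = true := by decide +kernel
theorem c29_14 : allRange (fun i => Nat.beq (act29 i) i) 24696 1764 = true := by decide +kernel
theorem c29_15 : allRange (fun i => Nat.beq (act29 i) i) 26460 1764 = true := by decide +kernel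
theorem c29_16 : allRange (fun i => Nat.beq (act29 i) i) 28224 1764 = true := by decide +kernel
theorem c29_17 : allRange (fun i => Nat.beq (act29 i) i) 29988 1764 = true := by decide +kernel
theorem c29_18 : allRange (fun i => Nat.beq (act29 i) i) 31752 1764 = true := by decide +kernel
theorem c29_19 : allRange (fun i => Nat.beq (act29 i) i) 33516 1764 = true := by decide +kernel
theorem c29_20 : allRange (fun i => Nat.beq (act29 i) i) 35280 1764 = true := by decide +kernel
theorem c29_21 : allRange (fun i => Nat.beq (act29 i) i) 37044 1764 = true := by decide +kernel
theorem c29_22 : allRange (fun i => Nat.beq (act29 i) i) 38808 1764 = true := by decide +kernel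
theorem c29_23 : allRange (fun i => Nat.beq (act29 i) i) 40572 1764 = true := by decide +kernel
theorem c29_24 : allRange (fun i => Nat.beq (act29 i) i) 42336 1764 = true := by decide +kernel
theorem c29_25 : allRange (fun i => Nat.beq (act29 i) i) 44100 1764 = true := by decide +kernel
theorem c29_26 : allRange (fun i => Nat.beq (act29 i) i) 45864 1764 = true := by decide +kernel
theorem c29_27 : allRange (fun i => Nat.beq (act29 i) i) 47628 1764 = true := by decide +kernel
theorem c29_28 : allRange (fun i => Nat.beq (act29 i) i) 49392 1764 = true := by decide +kernel
theorem c29_29 : allRange (fun i => Nat.beq (act29 i) i) 51156 1764 = true := by decide +kernel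
theorem c29_30 : allRange (fun i => Nat.beq (act29 i) i) 52920 1764 = true := by decide +kernel
theorem c29_31 : allRange (fun i => Nat.beq (act29 i) i) 54684 1764 = true := by decide +kernel
theorem c29_32 : allRange (fun i => Nat.beq (act29 i) i) 56448 1764 = true := by decide +kernel
theorem c29_33 : allRange (fun i => Nat.beq (act29 i) i) 58212 1764 = true := by decide +kernel
theorem c29_34 : allRange (fun i => Nat.beq (act29 i) i) 59976 1764 = true := by decide +kernel
theorem c29_35 : allRange (fun i => Nat.beq (act29 i) i) 61740 1764 = true := by decide +kernel
theorem c29_36 : allRange (fun i => Nat.beq (act29 i) i) 63504 1764 = true := by decide +kernel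
theorem c29_37 : allRange (fun i => Nat.beq (act29 i) i) 65268 1557 = true := by decide +kernel
theorem h29 : ∀ i, i < T.N → Tab.relActOK T D chk29 i = true := by
  intro i hi
  rw [Tab.relActOK, ← act29_eq]
  exact (range_glue (range_of_allRange c29_0) (range_glue (range_of_allRange c29_1) (range_glue (range_of_allRange c29_2) (range_glue (range_of_allRange c29_3) (range_glue (range_of_allRange c29_4) (range_glue (range_of_allRange c29_5) (range_glue (range_of_allRange c29_6) (range_glue (range_of_allRange c29_7) (range_glue (range_of_allRange c29_8) (range_glue (range_of_allRange c29_9) (range_glue (range_of_allRange c29_10) (range_glue (range_of_allRange c29_11) (range_glue (range_of_allRange c29_12) (range_glue (range_of_allRange c29_13) (range_glue (range_of_allRange c29_14) (range_glue (range_of_allRange c29_15) (range_glue (range_of_allRange c29_16) (range_glue (range_of_allRange c29_17) (range_glue (range_of_allRange c29_18) (range_glue (range_of_allRange c29_19) (range_glue (range_of_allRange c29_20) (range_glue (range_of_allRange c29_21) (range_glue (range_of_allRange c29_22) (range_glue (range_of_allRange c29_23) (range_glue (range_of_allRange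 c29_24) (range_glue (range_of_allRange c29_25) (range_glue (range_of_allRange c29_26) (range_glue (range_of_allRange c29_27) (range_glue (range_of_allRange c29_28) (range_glue (range_of_allRange c29_29) (range_glue (range_of_allRange c29_30) (range_glue (range_of_allRange c29_31) (range_glue (range_of_allRange c29_32) (range_glue (range_of_allRange c29_33) (range_glue (range_of_allRange c29_34) (range_glue (range_of_allRange c29_35) (range_glue (range_of_allRange c29_36) (range_of_allRange c29_37)))))))))))))))))))))))))))))))))))))) i (Nat.zero_le _) hi

def chk37 : List Nat := [5, 0, 0, 3, 0, 0, 0, 2, 0, 4, 2, 2, 0, 0, 3, 1, 3, 1]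
noncomputable def act37 (i : Nat) : Nat := col4 (col1 (col1 (col2 (col1 (col1 (col1 (col3 (col1 (col5 (col3 (col3 (col1 (col1 (col2 (col0 (col2 (col0 (i))))))))))))))))))
theorem act37_eq (i : Nat) : act37 i = Tab.act T D chk37 i := rfl
theorem c37_0 : allRange (fun i => Nat.beq (act37 i) i) 0 3000 = true := by decide +kernel
theorem c37_1 : allRange (fun i => Nat.beq (act37 i) i) 3000 3000 = true := by decide +kernel
theorem c37_2 : allRange (fun i => Nat.beq (act37 i) i) 6000 3000 = true := by decide +kernel
theorem c37_3 : allRange (fun i => Nat.beq (act37 i) i) 9000 3000 = true := by decide +kernel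
theorem c37_4 : allRange (fun i => Nat.beq (act37 i) i) 12000 3000 = true := by decide +kernel
theorem c37_5 : allRange (fun i => Nat.beq (act37 i) i) 15000 3000 = true := by decide +kernel
theorem c37_6 : allRange (fun i => Nat.beq (act37 i) i) 18000 3000 = true := by decide +kernel
theorem c37_7 : allRange (fun i => Nat.beq (act37 i) i) 21000 3000 = true := by decide +kernel
theorem c37_8 : allRange (fun i => Nat.beq (act37 i) i) 24000 3000 = true := by decide +kernel
theorem c37_9 : allRange (fun i => Nat.beq (act37 i) i) 27000 3000 = true := by decide +kernel
theorem c37_10 : allRange (fun i => Nat.beq (act37 i) i) 30000 3000 = true := by decide +kernel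
theorem c37_11 : allRange (fun i => Nat.beq (act37 i) i) 33000 3000 = true := by decide +kernel
theorem c37_12 : allRange (fun i => Nat.beq (act37 i) i) 36000 3000 = true := by decide +kernel
theorem c37_13 : allRange (fun i => Nat.beq (act37 i) i) 39000 3000 = true := by decide +kernel
theorem c37_14 : allRange (fun i => Nat.beq (act37 i) i) 42000 3000 = true := by decide +kernel
theorem c37_15 : allRange (fun i => Nat.beq (act37 i) i) 45000 3000 = true := by decide +kernel
theorem c37_16 : allRange (fun i => Nat.beq (act37 i) i) 48000 3000 = true := by decide +kernel
theorem c37_17 : allRange (fun i => Nat.beq (act37 i) i) 51000 3000 = true := by decide +kernel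
theorem c37_18 : allRange (fun i => Nat.beq (act37 i) i) 54000 3000 = true := by decide +kernel
theorem c37_19 : allRange (fun i => Nat.beq (act37 i) i) 57000 3000 = true := by decide +kernel
theorem c37_20 : allRange (fun i => Nat.beq (act37 i) i) 60000 3000 = true := by decide +kernel
theorem c37_21 : allRange (fun i => Nat.beq (act37 i) i) 63000 3000 = true := by decide +kernel
theorem c37_22 : allRange (fun i => Nat.beq (act37 i) i) 66000 825 = true := by decide +kernel
theorem h37 : ∀ i, i < T.N → Tab.relActOK T D chk37 i = true := by
  intro i hi
  rw [Tab.relActOK, ← act37_eq]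
  exact (range_glue (range_of_allRange c37_0) (range_glue (range_of_allRange c37_1) (range_glue (range_of_allRange c37_2) (range_glue (range_of_allRange c37_3) (range_glue (range_of_allRange c37_4) (range_glue (range_of_allRange c37_5) (range_glue (range_of_allRange c37_6) (range_glue (range_of_allRange c37_7) (range_glue (range_of_allRange c37_8) (range_glue (range_of_allRange c37_9) (range_glue (range_of_allRange c37_10) (range_glue (range_of_allRange c37_11) (range_glue (range_of_allRange c37_12) (range_glue (range_of_allRange c37_13) (range_glue (range_of_allRange c37_14) (range_glue (range_of_allRange c37_15) (range_glue (range_of_allRange c37_16) (range_glue (range_of_allRange c37_17) (range_glue (range_of_allRange c37_18) (range_glue (range_of_allRange c37_19) (range_glue (range_of_allRange c37_20) (range_glue (range_of_allRange c37_21) (range_of_allRange c37_22))))))))))))))))))))))) i (Nat.zero_le _) hi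

def chk45 : List Nat := [2, 1, 3, 0, 0, 2, 0, 2, 1, 3, 0, 0, 2, 0, 2, 1, 3, 0, 0, 2, 0, 2, 1, 3, 0, 0, 2, 0]
noncomputable def act45 (i : Nat) : Nat := col3 (col0 (col2 (col1 (col1 (col3 (col1 (col3 (col0 (col2 (col1 (col1 (col3 (col1 (col3 (col0 (col2 (col1 (col1 (col3 (col1 (col3 (col0 (col2 (col1 (col1 (col3 (col1 (i))))))))))))))))))))))))))))
theorem act45_eq (i : Nat) : act45 i = Tab.act T D chk45 i := rfl
theorem c45_0 : allRange (fun i => Nat.beq (act45 i) i) 0 2000 = true := by decide +kernel
theorem c45_1 : allRange (fun i => Nat.beq (act45 i) i) 2000 2000 = true := by decide +kernel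
theorem c45_2 : allRange (fun i => Nat.beq (act45 i) i) 4000 2000 = true := by decide +kernel
theorem c45_3 : allRange (fun i => Nat.beq (act45 i) i) 6000 2000 = true := by decide +kernel
theorem c45_4 : allRange (fun i => Nat.beq (act45 i) i) 8000 2000 = true := by decide +kernel
theorem c45_5 : allRange (fun i => Nat.beq (act45 i) i) 10000 2000 = true := by decide +kernel
theorem c45_6 : allRange (fun i => Nat.beq (act45 i) i) 12000 2000 = true := by decide +kernel
theorem c45_7 : allRange (fun i => Nat.beq (act45 i) i) 14000 2000 = true := by decide +kernel
theorem c45_8 : allRange (fun i => Nat.beq (act45 i) i) 16000 2000 = true := by decide +kernel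
theorem c45_9 : allRange (fun i => Nat.beq (act45 i) i) 18000 2000 = true := by decide +kernel
theorem c45_10 : allRange (fun i => Nat.beq (act45 i) i) 20000 2000 = true := by decide +kernel
theorem c45_11 : allRange (fun i => Nat.beq (act45 i) i) 22000 2000 = true := by decide +kernel
theorem c45_12 : allRange (fun i => Nat.beq (act45 i) i) 24000 2000 = true := by decide +kernel
theorem c45_13 : allRange (fun i => Nat.beq (act45 i) i) 26000 2000 = true := by decide +kernel
theorem c45_14 : allRange (fun i => Nat.beq (act45 i) i) 28000 2000 = true := by decide +kernel
theorem c45_15 : allRange (fun i => Nat.beq (act45 i) i) 30000 2000 = true := by decide +kernel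
theorem c45_16 : allRange (fun i => Nat.beq (act45 i) i) 32000 2000 = true := by decide +kernel
theorem c45_17 : allRange (fun i => Nat.beq (act45 i) i) 34000 2000 = true := by decide +kernel
theorem c45_18 : allRange (fun i => Nat.beq (act45 i) i) 36000 2000 = true := by decide +kernel
theorem c45_19 : allRange (fun i => Nat.beq (act45 i) i) 38000 2000 = true := by decide +kernel
theorem c45_20 : allRange (fun i => Nat.beq (act45 i) i) 40000 2000 = true := by decide +kernel
theorem c45_21 : allRange (fun i => Nat.beq (act45 i) i) 42000 2000 = true := by decide +kernel
theorem c45_22 : allRange (fun i => Nat.beq (act45 i) i) 44000 2000 = true := by decide +kernel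
theorem c45_23 : allRange (fun i => Nat.beq (act45 i) i) 46000 2000 = true := by decide +kernel
theorem c45_24 : allRange (fun i => Nat.beq (act45 i) i) 48000 2000 = true := by decide +kernel
theorem c45_25 : allRange (fun i => Nat.beq (act45 i) i) 50000 2000 = true := by decide +kernel
theorem c45_26 : allRange (fun i => Nat.beq (act45 i) i) 52000 2000 = true := by decide +kernel
theorem c45_27 : allRange (fun i => Nat.beq (act45 i) i) 54000 2000 = true := by decide +kernel
theorem c45_28 : allRange (fun i => Nat.beq (act45 i) i) 56000 2000 = true := by decide +kernel
theorem c45_29 : allRange (fun i => Nat.beq (act45 i) i) 58000 2000 = true := by decide +kernel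
theorem c45_30 : allRange (fun i => Nat.beq (act45 i) i) 60000 2000 = true := by decide +kernel
theorem c45_31 : allRange (fun i => Nat.beq (act45 i) i) 62000 2000 = true := by decide +kernel
theorem c45_32 : allRange (fun i => Nat.beq (act45 i) i) 64000 2000 = true := by decide +kernel
theorem c45_33 : allRange (fun i => Nat.beq (act45 i) i) 66000 825 = true := by decide +kernel
theorem h45 : ∀ i, i < T.N → Tab.relActOK T D chk45 i = true := by
  intro i hi
  rw [Tab.relActOK, ← act45_eq]
  exact (range_glue (range_of_allRange c45_0) (range_glue (range_of_allRange c45_1) (range_glue (range_of_allRange c45_2) (range_glue (range_of_allRange c45_3) (range_glue (range_of_allRange c45_4) (range_glue (range_of_allRange c45_5) (range_glue (range_of_allRange c45_6) (range_glue (range_of_allRange c45_7) (range_glue (range_of_allRange c45_8) (range_glue (range_of_allRange c45_9) (range_glue (range_of_allRange c45_10) (range_glue (range_of_allRange c45_11) (range_glue (range_of_allRange c45_12) (range_glue (range_of_allRange c45_13) (range_glue (range_of_allRange c45_14) (range_glue (range_of_allRange c45_15) (range_glue (range_of_allRange c45_16)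 (range_glue (range_of_allRange c45_17) (range_glue (range_of_allRange c45_18) (range_glue (range_of_allRange c45_19) (range_glue (range_of_allRange c45_20) (range_glue (range_of_allRange c45_21) (range_glue (range_of_allRange c45_22) (range_glue (range_of_allRange c45_23) (range_glue (range_of_allRange c45_24) (range_glue (range_of_allRange c45_25) (range_glue (range_of_allRange c45_26) (range_glue (range_of_allRange c45_27) (range_glue (range_of_allRange c45_28) (range_glue (range_of_allRange c45_29) (range_glue (range_of_allRange c45_30) (range_glue (range_of_allRange c45_31) (range_glue (range_of_allRange c45_32) (range_of_allRange c45_33)))))))))))))))))))))))))))))))))) i (Nat.zero_le _) hi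

def chk57 : List Nat := [0, 0, 2, 1, 3, 3, 0, 0, 2, 1, 3, 3, 0, 0, 2, 1, 3, 3, 0, 0, 2, 1, 3, 3]
noncomputable def act57 (i : Nat) : Nat := col1 (col1 (col3 (col0 (col2 (col2 (col1 (col1 (col3 (col0 (col2 (col2 (col1 (col1 (col3 (col0 (col2 (col2 (col1 (col1 (col3 (col0 (col2 (col2 (i))))))))))))))))))))))))
theorem act57_eq (i : Nat) : act57 i = Tab.act T D chk57 i := rfl
theorem c57_0 : allRange (fun i => Nat.beq (act57 i) i) 0 2307 = true := by decide +kernel
theorem c57_1 : allRange (fun i => Nat.beq (act57 i) i) 2307 2307 = true := by decide +kernel
theorem c57_2 : allRange (fun i => Nat.beq (act57 i) i) 4614 2307 = true := by decide +kernel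
theorem c57_3 : allRange (fun i => Nat.beq (act57 i) i) 6921 2307 = true := by decide +kernel
theorem c57_4 : allRange (fun i => Nat.beq (act57 i) i) 9228 2307 = true := by decide +kernel
theorem c57_5 : allRange (fun i => Nat.beq (act57 i) i) 11535 2307 = true := by decide +kernel
theorem c57_6 : allRange (fun i => Nat.beq (act57 i) i) 13842 2307 = true := by decide +kernel
theorem c57_7 : allRange (fun i => Nat.beq (act57 i) i) 16149 2307 = true := by decide +kernel
theorem c57_8 : allRange (fun i => Nat.beq (act57 i) i) 18456 2307 = true := by decide +kernel
theorem c57_9 : allRange (fun i => Nat.beq (act57 i) i) 20763 2307 = true := by decide +kernel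
theorem c57_10 : allRange (fun i => Nat.beq (act57 i) i) 23070 2307 = true := by decide +kernel
theorem c57_11 : allRange (fun i => Nat.beq (act57 i) i) 25377 2307 = true := by decide +kernel
theorem c57_12 : allRange (fun i => Nat.beq (act57 i) i) 27684 2307 = true := by decide +kernel
theorem c57_13 : allRange (fun i => Nat.beq (act57 i) i) 29991 2307 = true := by decide +kernel
theorem c57_14 : allRange (fun i => Nat.beq (act57 i) i) 32298 2307 = true := by decide +kernel
theorem c57_15 : allRange (fun i => Nat.beq (act57 i) i) 34605 2307 = true := by decide +kernel
theorem c57_16 : allRange (fun i => Nat.beq (act57 i) i) 36912 2307 = true := by decide +kernel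
theorem c57_17 : allRange (fun i => Nat.beq (act57 i) i) 39219 2307 = true := by decide +kernel
theorem c57_18 : allRange (fun i => Nat.beq (act57 i) i) 41526 2307 = true := by decide +kernel
theorem c57_19 : allRange (fun i => Nat.beq (act57 i) i) 43833 2307 = true := by decide +kernel
theorem c57_20 : allRange (fun i => Nat.beq (act57 i) i) 46140 2307 = true := by decide +kernel
theorem c57_21 : allRange (fun i => Nat.beq (act57 i) i) 48447 2307 = true := by decide +kernel
theorem c57_22 : allRange (fun i => Nat.beq (act57 i) i) 50754 2307 = true := by decide +kernel
theorem c57_23 : allRange (fun i => Nat.beq (act57 i) i) 53061 2307 = true := by decide +kernel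
theorem c57_24 : allRange (fun i => Nat.beq (act57 i) i) 55368 2307 = true := by decide +kernel
theorem c57_25 : allRange (fun i => Nat.beq (act57 i) i) 57675 2307 = true := by decide +kernel
theorem c57_26 : allRange (fun i => Nat.beq (act57 i) i) 59982 2307 = true := by decide +kernel
theorem c57_27 : allRange (fun i => Nat.beq (act57 i) i) 62289 2307 = true := by decide +kernel
theorem c57_28 : allRange (fun i => Nat.beq (act57 i) i) 64596 2229 = true := by decide +kernel
theorem h57 : ∀ i, i < T.N → Tab.relActOK T D chk57 i = true := by
  intro i hi
  rw [Tab.relActOK, ← act57_eq]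
  exact (range_glue (range_of_allRange c57_0) (range_glue (range_of_allRange c57_1) (range_glue (range_of_allRange c57_2) (range_glue (range_of_allRange c57_3) (range_glue (range_of_allRange c57_4) (range_glue (range_of_allRange c57_5) (range_glue (range_of_allRange c57_6) (range_glue (range_of_allRange c57_7) (range_glue (range_of_allRange c57_8) (range_glue (range_of_allRange c57_9) (range_glue (range_of_allRange c57_10) (range_glue (range_of_allRange c57_11) (range_glue (range_of_allRange c57_12) (range_glue (range_of_allRange c57_13) (range_glue (range_of_allRange c57_14) (range_glue (range_of_allRange c57_15) (range_glue (range_of_allRange c57_16) (range_glue (range_of_allRange c57_17) (range_glue (range_of_allRange c57_18) (range_glue (range_of_allRange c57_19) (range_glue (range_of_allRange c57_20) (range_glue (range_of_allRange c57_21) (range_glue (range_of_allRange c57_22) (range_glue (range_of_allRange c57_23) (range_glue (range_of_allRange c57_24) (range_glue (range_of_allRange c57_25) (range_glue (range_of_allRange c57_26) (range_glue (range_of_allRange c57_27) (range_of_allRange c57_28))))))))))))))))))))))))))))) i (Nat.zero_le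 _) hi

def chk69 : List Nat := [1, 1, 2, 0, 3, 3, 0, 0, 3, 3, 1, 1, 2, 0, 3, 3, 0, 0, 3, 3]
noncomputable def act69 (i : Nat) : Nat := col0 (col0 (col3 (col1 (col2 (col2 (col1 (col1 (col2 (col2 (col0 (col0 (col3 (col1 (col2 (col2 (col1 (col1 (col2 (col2 (i))))))))))))))))))))
theorem act69_eq (i : Nat) : act69 i = Tab.act T D chk69 i := rfl
theorem c69_0 : allRange (fun i => Nat.beq (act69 i) i) 0 2727 = true := by decide +kernel
theorem c69_1 : allRange (fun i => Nat.beq (act69 i) i) 2727 2727 = true := by decide +kernel
theorem c69_2 : allRange (fun i => Nat.beq (act69 i) i) 5454 2727 = true := by decide +kernel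
theorem c69_3 : allRange (fun i => Nat.beq (act69 i) i) 8181 2727 = true := by decide +kernel
theorem c69_4 : allRange (fun i => Nat.beq (act69 i) i) 10908 2727 = true := by decide +kernel
theorem c69_5 : allRange (fun i => Nat.beq (act69 i) i) 13635 2727 = true := by decide +kernel
theorem c69_6 : allRange (fun i => Nat.beq (act69 i) i) 16362 2727 = true := by decide +kernel
theorem c69_7 : allRange (fun i => Nat.beq (act69 i) i) 19089 2727 = true := by decide +kernel
theorem c69_8 : allRange (fun i => Nat.beq (act69 i) i) 21816 2727 = true := by decide +kernel
theorem c69_9 : allRange (fun i => Nat.beq (act69 i) i) 24543 2727 = true := by decide +kernel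
theorem c69_10 : allRange (fun i => Nat.beq (act69 i) i) 27270 2727 = true := by decide +kernel
theorem c69_11 : allRange (fun i => Nat.beq (act69 i) i) 29997 2727 = true := by decide +kernel
theorem c69_12 : allRange (fun i => Nat.beq (act69 i) i) 32724 2727 = true := by decide +kernel
theorem c69_13 : allRange (fun i => Nat.beq (act69 i) i) 35451 2727 = true := by decide +kernel
theorem c69_14 : allRange (fun i => Nat.beq (act69 i) i) 38178 2727 = true := by decide +kernel
theorem c69_15 : allRange (fun i => Nat.beq (act69 i) i) 40905 2727 = true := by decide +kernel
theorem c69_16 : allRange (fun i => Nat.beq (act69 i) i) 43632 2727 = true := by decide +kernel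
theorem c69_17 : allRange (fun i => Nat.beq (act69 i) i) 46359 2727 = true := by decide +kernel
theorem c69_18 : allRange (fun i => Nat.beq (act69 i) i) 49086 2727 = true := by decide +kernel
theorem c69_19 : allRange (fun i => Nat.beq (act69 i) i) 51813 2727 = true := by decide +kernel
theorem c69_20 : allRange (fun i => Nat.beq (act69 i) i) 54540 2727 = true := by decide +kernel
theorem c69_21 : allRange (fun i => Nat.beq (act69 i) i) 57267 2727 = true := by decide +kernel
theorem c69_22 : allRange (fun i => Nat.beq (act69 i) i) 59994 2727 = true := by decide +kernel
theorem c69_23 : allRange (fun i => Nat.beq (act69 i) i) 62721 2727 = true := by decide +kernel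
theorem c69_24 : allRange (fun i => Nat.beq (act69 i) i) 65448 1377 = true := by decide +kernel
theorem h69 : ∀ i, i < T.N → Tab.relActOK T D chk69 i = true := by
  intro i hi
  rw [Tab.relActOK, ← act69_eq]
  exact (range_glue (range_of_allRange c69_0) (range_glue (range_of_allRange c69_1) (range_glue (range_of_allRange c69_2) (range_glue (range_of_allRange c69_3) (range_glue (range_of_allRange c69_4) (range_glue (range_of_allRange c69_5) (range_glue (range_of_allRange c69_6) (range_glue (range_of_allRange c69_7) (range_glue (range_of_allRange c69_8) (range_glue (range_of_allRange c69_9) (range_glue (range_of_allRange c69_10) (range_glue (range_of_allRange c69_11) (range_glue (range_of_allRange c69_12) (range_glue (range_of_allRange c69_13) (range_glue (range_of_allRange c69_14) (range_glue (range_of_allRange c69_15) (range_glue (range_of_allRange c69_16) (range_glue (range_of_allRange c69_17) (range_glue (range_of_allRange c69_18) (range_glue (range_of_allRange c69_19) (range_glue (range_of_allRange c69_20) (range_glue (range_of_allRange c69_21) (range_glue (range_of_allRange c69_22) (range_glue (range_of_allRange c69_23) (range_of_allRange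 c69_24))))))))))))))))))))))))) i (Nat.zero_le _) hi

def chk72 : List Nat := [2, 0, 2, 0, 3, 0, 3, 0, 2, 0, 2, 0, 2, 0, 3, 0, 3, 0, 2, 0, 2, 0, 2, 0, 3, 0, 3, 0, 2, 0, 2, 0, 2, 0, 3, 0, 3, 0, 2, 0]
noncomputable def act72 (i : Nat) : Nat := col3 (col1 (col3 (col1 (col2 (col1 (col2 (col1 (col3 (col1 (col3 (col1 (col3 (col1 (col2 (col1 (col2 (col1 (col3 (col1 (col3 (col1 (col3 (col1 (col2 (col1 (col2 (col1 (col3 (col1 (col3 (col1 (col3 (col1 (col2 (col1 (col2 (col1 (col3 (col1 (i))))))))))))))))))))))))))))))))))))))))
theorem act72_eq (i : Nat) : act72 i = Tab.act T D chk72 i := rfl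
theorem c72_0 : allRange (fun i => Nat.beq (act72 i) i) 0 1428 = true := by decide +kernel
theorem c72_1 : allRange (fun i => Nat.beq (act72 i) i) 1428 1428 = true := by decide +kernel
theorem c72_2 : allRange (fun i => Nat.beq (act72 i) i) 2856 1428 = true := by decide +kernel
theorem c72_3 : allRange (fun i => Nat.beq (act72 i) i) 4284 1428 = true := by decide +kernel
theorem c72_4 : allRange (fun i => Nat.beq (act72 i) i) 5712 1428 = true := by decide +kernel
theorem c72_5 : allRange (fun i => Nat.beq (act72 i) i) 7140 1428 = true := by decide +kernel
theorem c72_6 : allRange (fun i => Nat.beq (act72 i) i) 8568 1428 = true := by decide +kernel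
theorem c72_7 : allRange (fun i => Nat.beq (act72 i) i) 9996 1428 = true := by decide +kernel
theorem c72_8 : allRange (fun i => Nat.beq (act72 i) i) 11424 1428 = true := by decide +kernel
theorem c72_9 : allRange (fun i => Nat.beq (act72 i) i) 12852 1428 = true := by decide +kernel
theorem c72_10 : allRange (fun i => Nat.beq (act72 i) i) 14280 1428 = true := by decide +kernel
theorem c72_11 : allRange (fun i => Nat.beq (act72 i) i) 15708 1428 = true := by decide +kernel
theorem c72_12 : allRange (fun i => Nat.beq (act72 i) i) 17136 1428 = true := by decide +kernel
theorem c72_13 : allRange (fun i => Nat.beq (act72 i) i) 18564 1428 = true := by decide +kernel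
theorem c72_14 : allRange (fun i => Nat.beq (act72 i) i) 19992 1428 = true := by decide +kernel
theorem c72_15 : allRange (fun i => Nat.beq (act72 i) i) 21420 1428 = true := by decide +kernel
theorem c72_16 : allRange (fun i => Nat.beq (act72 i) i) 22848 1428 = true := by decide +kernel
theorem c72_17 : allRange (fun i => Nat.beq (act72 i) i) 24276 1428 = true := by decide +kernel
theorem c72_18 : allRange (fun i => Nat.beq (act72 i) i) 25704 1428 = true := by decide +kernel
theorem c72_19 : allRange (fun i => Nat.beq (act72 i) i) 27132 1428 = true := by decide +kernel
theorem c72_20 : allRange (fun i => Nat.beq (act72 i) i) 28560 1428 = true := by decide +kernel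
theorem c72_21 : allRange (fun i => Nat.beq (act72 i) i) 29988 1428 = true := by decide +kernel
theorem c72_22 : allRange (fun i => Nat.beq (act72 i) i) 31416 1428 = true := by decide +kernel
theorem c72_23 : allRange (fun i => Nat.beq (act72 i) i) 32844 1428 = true := by decide +kernel
theorem c72_24 : allRange (fun i => Nat.beq (act72 i) i) 34272 1428 = true := by decide +kernel
theorem c72_25 : allRange (fun i => Nat.beq (act72 i) i) 35700 1428 = true := by decide +kernel
theorem c72_26 : allRange (fun i => Nat.beq (act72 i) i) 37128 1428 = true := by decide +kernel
theorem c72_27 : allRange (fun i => Nat.beq (act72 i) i) 38556 1428 = true := by decide +kernel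
theorem c72_28 : allRange (fun i => Nat.beq (act72 i) i) 39984 1428 = true := by decide +kernel
theorem c72_29 : allRange (fun i => Nat.beq (act72 i) i) 41412 1428 = true := by decide +kernel
theorem c72_30 : allRange (fun i => Nat.beq (act72 i) i) 42840 1428 = true := by decide +kernel
theorem c72_31 : allRange (fun i => Nat.beq (act72 i) i) 44268 1428 = true := by decide +kernel
theorem c72_32 : allRange (fun i => Nat.beq (act72 i) i) 45696 1428 = true := by decide +kernel
theorem c72_33 : allRange (fun i => Nat.beq (act72 i) i) 47124 1428 = true := by decide +kernel
theorem c72_34 : allRange (fun i => Nat.beq (act72 i) i) 48552 1428 = true := by decide +kernel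
theorem c72_35 : allRange (fun i => Nat.beq (act72 i) i) 49980 1428 = true := by decide +kernel
theorem c72_36 : allRange (fun i => Nat.beq (act72 i) i) 51408 1428 = true := by decide +kernel
theorem c72_37 : allRange (fun i => Nat.beq (act72 i) i) 52836 1428 = true := by decide +kernel
theorem c72_38 : allRange (fun i => Nat.beq (act72 i) i) 54264 1428 = true := by decide +kernel
theorem c72_39 : allRange (fun i => Nat.beq (act72 i) i) 55692 1428 = true := by decide +kernel
theorem c72_40 : allRange (fun i => Nat.beq (act72 i) i) 57120 1428 = true := by decide +kernel
theorem c72_41 : allRange (fun i => Nat.beq (act72 i) i) 58548 1428 = true := by decide +kernel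
theorem c72_42 : allRange (fun i => Nat.beq (act72 i) i) 59976 1428 = true := by decide +kernel
theorem c72_43 : allRange (fun i => Nat.beq (act72 i) i) 61404 1428 = true := by decide +kernel
theorem c72_44 : allRange (fun i => Nat.beq (act72 i) i) 62832 1428 = true := by decide +kernel
theorem c72_45 : allRange (fun i => Nat.beq (act72 i) i) 64260 1428 = true := by decide +kernel
theorem c72_46 : allRange (fun i => Nat.beq (act72 i) i) 65688 1137 = true := by decide +kernel
theorem h72 : ∀ i, i < T.N → Tab.relActOK T D chk72 i = true := by
  intro i hi
  rw [Tab.relActOK, ← act72_eq]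
  exact (range_glue (range_of_allRange c72_0) (range_glue (range_of_allRange c72_1) (range_glue (range_of_allRange c72_2) (range_glue (range_of_allRange c72_3) (range_glue (range_of_allRange c72_4) (range_glue (range_of_allRange c72_5) (range_glue (range_of_allRange c72_6) (range_glue (range_of_allRange c72_7) (range_glue (range_of_allRange c72_8) (range_glue (range_of_allRange c72_9) (range_glue (range_of_allRange c72_10) (range_glue (range_of_allRange c72_11) (range_glue (range_of_allRange c72_12) (range_glue (range_of_allRange c72_13) (range_glue (range_of_allRange c72_14) (range_glue (range_of_allRange c72_15) (range_glue (range_of_allRange c72_16) (range_glue (range_of_allRange c72_17) (range_glue (range_of_allRange c72_18) (range_glue (range_of_allRange c72_19) (range_glue (range_of_allRange c72_20) (range_glue (range_of_allRange c72_21) (range_glue (range_of_allRange c72_22) (range_glue (range_of_allRange c72_23) (range_glue (range_of_allRange c72_24) (range_glue (range_of_allRange c72_25) (range_glue (range_of_allRange c72_26) (range_glue (range_of_allRange c72_27) (range_glue (range_of_allRange c72_28) (range_glue (range_of_allRange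 c72_29) (range_glue (range_of_allRange c72_30) (range_glue (range_of_allRange c72_31) (range_glue (range_of_allRange c72_32) (range_glue (range_of_allRange c72_33) (range_glue (range_of_allRange c72_34) (range_glue (range_of_allRange c72_35) (range_glue (range_of_allRange c72_36) (range_glue (range_of_allRange c72_37) (range_glue (range_of_allRange c72_38) (range_glue (range_of_allRange c72_39) (range_glue (range_of_allRange c72_40) (range_glue (range_of_allRange c72_41) (range_glue (range_of_allRange c72_42) (range_glue (range_of_allRange c72_43) (range_glue (range_of_allRange c72_44) (range_glue (range_of_allRange c72_45) (range_of_allRange c72_46))))))))))))))))))))))))))))))))))))))))))))))) i (Nat.zero_le _) hi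

def chk84 : List Nat := [0, 3, 3, 0, 3, 0, 3, 1, 0, 3, 3, 0, 3, 0, 3, 1, 0, 3, 3, 0, 3, 0, 3, 1, 0, 3, 3, 0, 3, 0, 3, 1]
noncomputable def act84 (i : Nat) : Nat := col1 (col2 (col2 (col1 (col2 (col1 (col2 (col0 (col1 (col2 (col2 (col1 (col2 (col1 (col2 (col0 (col1 (col2 (col2 (col1 (col2 (col1 (col2 (col0 (col1 (col2 (col2 (col1 (col2 (col1 (col2 (col0 (i))))))))))))))))))))))))))))))))
theorem act84_eq (i : Nat) : act84 i = Tab.act T D chk84 i := rfl
theorem c84_0 : allRange (fun i => Nat.beq (act84 i) i) 0 1764 = true := by decide +kernel
theorem c84_1 : allRange (fun i => Nat.beq (act84 i) i) 1764 1764 = true := by decide +kernel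
theorem c84_2 : allRange (fun i => Nat.beq (act84 i) i) 3528 1764 = true := by decide +kernel
theorem c84_3 : allRange (fun i => Nat.beq (act84 i) i) 5292 1764 = true := by decide +kernel
theorem c84_4 : allRange (fun i => Nat.beq (act84 i) i) 7056 1764 = true := by decide +kernel
theorem c84_5 : allRange (fun i => Nat.beq (act84 i) i) 8820 1764 = true := by decide +kernel
theorem c84_6 : allRange (fun i => Nat.beq (act84 i) i) 10584 1764 = true := by decide +kernel
theorem c84_7 : allRange (fun i => Nat.beq (act84 i) i) 12348 1764 = true := by decide +kernel
theorem c84_8 : allRange (fun i => Nat.beq (act84 i) i) 14112 1764 = true := by decide +kernel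
theorem c84_9 : allRange (fun i => Nat.beq (act84 i) i) 15876 1764 = true := by decide +kernel
theorem c84_10 : allRange (fun i => Nat.beq (act84 i) i) 17640 1764 = true := by decide +kernel
theorem c84_11 : allRange (fun i => Nat.beq (act84 i) i) 19404 1764 = true := by decide +kernel
theorem c84_12 : allRange (fun i => Nat.beq (act84 i) i) 21168 1764 = true := by decide +kernel
theorem c84_13 : allRange (fun i => Nat.beq (act84 i) i) 22932 1764 = true := by decide +kernel
theorem c84_14 : allRange (fun i => Nat.beq (act84 i) i) 24696 1764 = true := by decide +kernel
theorem c84_15 : allRange (fun i => Nat.beq (act84 i) i) 26460 1764 = true := by decide +kernel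
theorem c84_16 : allRange (fun i => Nat.beq (act84 i) i) 28224 1764 = true := by decide +kernel
theorem c84_17 : allRange (fun i => Nat.beq (act84 i) i) 29988 1764 = true := by decide +kernel
theorem c84_18 : allRange (fun i => Nat.beq (act84 i) i) 31752 1764 = true := by decide +kernel
theorem c84_19 : allRange (fun i => Nat.beq (act84 i) i) 33516 1764 = true := by decide +kernel
theorem c84_20 : allRange (fun i => Nat.beq (act84 i) i) 35280 1764 = true := by decide +kernel
theorem c84_21 : allRange (fun i => Nat.beq (act84 i) i) 37044 1764 = true := by decide +kernel
theorem c84_22 : allRange (fun i => Nat.beq (act84 i) i) 38808 1764 = true := by decide +kernel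
theorem c84_23 : allRange (fun i => Nat.beq (act84 i) i) 40572 1764 = true := by decide +kernel
theorem c84_24 : allRange (fun i => Nat.beq (act84 i) i) 42336 1764 = true := by decide +kernel
theorem c84_25 : allRange (fun i => Nat.beq (act84 i) i) 44100 1764 = true := by decide +kernel
theorem c84_26 : allRange (fun i => Nat.beq (act84 i) i) 45864 1764 = true := by decide +kernel
theorem c84_27 : allRange (fun i => Nat.beq (act84 i) i) 47628 1764 = true := by decide +kernel
theorem c84_28 : allRange (fun i => Nat.beq (act84 i) i) 49392 1764 = true := by decide +kernel
theorem c84_29 : allRange (fun i => Nat.beq (act84 i) i) 51156 1764 = true := by decide +kernel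
theorem c84_30 : allRange (fun i => Nat.beq (act84 i) i) 52920 1764 = true := by decide +kernel
theorem c84_31 : allRange (fun i => Nat.beq (act84 i) i) 54684 1764 = true := by decide +kernel
theorem c84_32 : allRange (fun i => Nat.beq (act84 i) i) 56448 1764 = true := by decide +kernel
theorem c84_33 : allRange (fun i => Nat.beq (act84 i) i) 58212 1764 = true := by decide +kernel
theorem c84_34 : allRange (fun i => Nat.beq (act84 i) i) 59976 1764 = true := by decide +kernel
theorem c84_35 : allRange (fun i => Nat.beq (act84 i) i) 61740 1764 = true := by decide +kernel
theorem c84_36 : allRange (fun i => Nat.beq (act84 i) i) 63504 1764 = true := by decide +kernel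
theorem c84_37 : allRange (fun i => Nat.beq (act84 i) i) 65268 1557 = true := by decide +kernel
theorem h84 : ∀ i, i < T.N → Tab.relActOK T D chk84 i = true := by
  intro i hi
  rw [Tab.relActOK, ← act84_eq]
  exact (range_glue (range_of_allRange c84_0) (range_glue (range_of_allRange c84_1) (range_glue (range_of_allRange c84_2) (range_glue (range_of_allRange c84_3) (range_glue (range_of_allRange c84_4) (range_glue (range_of_allRange c84_5) (range_glue (range_of_allRange c84_6) (range_glue (range_of_allRange c84_7) (range_glue (range_of_allRange c84_8) (range_glue (range_of_allRange c84_9) (range_glue (range_of_allRange c84_10) (range_glue (range_of_allRange c84_11) (range_glue (range_of_allRange c84_12) (range_glue (range_of_allRange c84_13) (range_glue (range_of_allRange c84_14) (range_glue (range_of_allRange c84_15) (range_glue (range_of_allRange c84_16) (range_glue (range_of_allRange c84_17) (range_glue (range_of_allRange c84_18) (range_glue (range_of_allRange c84_19) (range_glue (range_of_allRange c84_20) (range_glue (range_of_allRange c84_21) (range_glue (range_of_allRange c84_22) (range_glue (range_of_allRange c84_23) (range_glue (range_of_allRange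 c84_24) (range_glue (range_of_allRange c84_25) (range_glue (range_of_allRange c84_26) (range_glue (range_of_allRange c84_27) (range_glue (range_of_allRange c84_28) (range_glue (range_of_allRange c84_29) (range_glue (range_of_allRange c84_30) (range_glue (range_of_allRange c84_31) (range_glue (range_of_allRange c84_32) (range_glue (range_of_allRange c84_33) (range_glue (range_of_allRange c84_34) (range_glue (range_of_allRange c84_35) (range_glue (range_of_allRange c84_36) (range_of_allRange c84_37)))))))))))))))))))))))))))))))))))))) i (Nat.zero_le _) hi

def chk103 : List Nat := [4, 3, 3, 1, 1, 2, 1, 3, 1, 2, 5, 0, 0, 3, 0, 0, 0, 2, 0]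
noncomputable def act103 (i : Nat) : Nat := col5 (col2 (col2 (col0 (col0 (col3 (col0 (col2 (col0 (col3 (col4 (col1 (col1 (col2 (col1 (col1 (col1 (col3 (col1 (i)))))))))))))))))))
theorem act103_eq (i : Nat) : act103 i = Tab.act T D chk103 i := rfl
theorem c103_0 : allRange (fun i => Nat.beq (act103 i) i) 0 2857 = true := by decide +kernel
theorem c103_1 : allRange (fun i => Nat.beq (act103 i) i) 2857 2857 = true := by decide +kernel
theorem c103_2 : allRange (fun i => Nat.beq (act103 i) i) 5714 2857 = true := by decide +kernel
theorem c103_3 : allRange (fun i => Nat.beq (act103 i) i) 8571 2857 = true := by decide +kernel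
theorem c103_4 : allRange (fun i => Nat.beq (act103 i) i) 11428 2857 = true := by decide +kernel
theorem c103_5 : allRange (fun i => Nat.beq (act103 i) i) 14285 2857 = true := by decide +kernel
theorem c103_6 : allRange (fun i => Nat.beq (act103 i) i) 17142 2857 = true := by decide +kernel
theorem c103_7 : allRange (fun i => Nat.beq (act103 i) i) 19999 2857 = true := by decide +kernel
theorem c103_8 : allRange (fun i => Nat.beq (act103 i) i) 22856 2857 = true := by decide +kernel
theorem c103_9 : allRange (fun i => Nat.beq (act103 i) i) 25713 2857 = true := by decide +kernel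
theorem c103_10 : allRange (fun i => Nat.beq (act103 i) i) 28570 2857 = true := by decide +kernel
theorem c103_11 : allRange (fun i => Nat.beq (act103 i) i) 31427 2857 = true := by decide +kernel
theorem c103_12 : allRange (fun i => Nat.beq (act103 i) i) 34284 2857 = true := by decide +kernel
theorem c103_13 : allRange (fun i => Nat.beq (act103 i) i) 37141 2857 = true := by decide +kernel
theorem c103_14 : allRange (fun i => Nat.beq (act103 i) i) 39998 2857 = true := by decide +kernel
theorem c103_15 : allRange (fun i => Nat.beq (act103 i) i) 42855 2857 = true := by decide +kernel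
theorem c103_16 : allRange (fun i => Nat.beq (act103 i) i) 45712 2857 = true := by decide +kernel
theorem c103_17 : allRange (fun i => Nat.beq (act103 i) i) 48569 2857 = true := by decide +kernel
theorem c103_18 : allRange (fun i => Nat.beq (act103 i) i) 51426 2857 = true := by decide +kernel
theorem c103_19 : allRange (fun i => Nat.beq (act103 i) i) 54283 2857 = true := by decide +kernel
theorem c103_20 : allRange (fun i => Nat.beq (act103 i) i) 57140 2857 = true := by decide +kernel
theorem c103_21 : allRange (fun i => Nat.beq (act103 i) i) 59997 2857 = true := by decide +kernel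
theorem c103_22 : allRange (fun i => Nat.beq (act103 i) i) 62854 2857 = true := by decide +kernel
theorem c103_23 : allRange (fun i => Nat.beq (act103 i) i) 65711 1114 = true := by decide +kernel
theorem h103 : ∀ i, i < T.N → Tab.relActOK T D chk103 i = true := by
  intro i hi
  rw [Tab.relActOK, ← act103_eq]
  exact (range_glue (range_of_allRange c103_0) (range_glue (range_of_allRange c103_1) (range_glue (range_of_allRange c103_2) (range_glue (range_of_allRange c103_3) (range_glue (range_of_allRange c103_4) (range_glue (range_of_allRange c103_5) (range_glue (range_of_allRange c103_6) (range_glue (range_of_allRange c103_7) (range_glue (range_of_allRange c103_8) (range_glue (range_of_allRange c103_9) (range_glue (range_of_allRange c103_10) (range_glue (range_of_allRange c103_11) (range_glue (range_of_allRange c103_12) (range_glue (range_of_allRange c103_13) (range_glue (range_of_allRange c103_14) (range_glue (range_of_allRange c103_15) (range_glue (range_of_allRange c103_16) (range_glue (range_of_allRange c103_17) (range_glue (range_of_allRange c103_18) (range_glue (range_of_allRange c103_19) (range_glue (range_of_allRange c103_20) (range_glue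 (range_of_allRange c103_21) (range_glue (range_of_allRange c103_22) (range_of_allRange c103_23)))))))))))))))))))))))) i (Nat.zero_le _) hi

end Cfsg.Agent.Lib.Helper4.TCD.SC3McLp3W
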