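import Cfsg.Agent.Lib.Helper4.TCD_C3McLR_Acc
import Cfsg.Agent.Lib.Helper4.TC13

namespace Cfsg.Agent.Lib.Helper4.TCD.SC3McLp3W

open Cfsg.Agent.Lib.Helper4.TC Cfsg.Agent.Lib.Helper4.TCD.C3McLR

set_option maxRecDepth 100000
set_option Elab.async false

def chk9 : List Nat := [0, 0, 4, 1, 2, 5, 3, 1, 4, 0, 5, 1, 3, 3, 0, 3]
noncomputable def act9 (i : Nat) : Nat := col1 (col1 (col5 (col0 (col3 (col4 (col2 (col0 (col5 (col1 (col4 (col0 (col2 (col2 (col1 (col2 (i))))))))))))))))
theorem act9_eq (i : Nat) : act9 i = Tab.act T D chk9 i := rfl
theorem c9_0 : allRange (fun i => Nat.beq (act9 i) i) 0 3333 = true := by decide +kernel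
theorem c9_1 : allRange (fun i => Nat.beq (act9 i) i) 3333 3333 = true := by decide +kernel
theorem c9_2 : allRange (fun i => Nat.beq (act9 i) i) 6666 3333 = true := by decide +kernel
theorem c9_3 : allRange (fun i => Nat.beq (act9 i) i) 9999 3333 = true := by decide +kernel
theorem c9_4 : allRange (fun i => Nat.beq (act9 i) i) 13332 3333 = true := by decide +kernel
theorem c9_5 : allRange (fun i => Nat.beq (act9 i) i) 16665 3333 = true := by decide +kernel
theorem c9_6 : allRange (fun i => Nat.beq (act9 i) i) 19998 3333 = true := by decide +kernel
theorem c9_7 : allRange (fun i => Nat.beq (act9 i) i) 23331 3333 = true := by decide +kernel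
theorem c9_8 : allRange (fun i => Nat.beq (act9 i) i) 26664 3333 = true := by decide +kernel
theorem c9_9 : allRange (fun i => Nat.beq (act9 i) i) 29997 3333 = true := by decide +kernel
theorem c9_10 : allRange (fun i => Nat.beq (act9 i) i) 33330 3333 = true := by decide +kernel
theorem c9_11 : allRange (fun i => Nat.beq (act9 i) i) 36663 3333 = true := by decide +kernel
theorem c9_12 : allRange (fun i => Nat.beq (act9 i) i) 39996 3333 = true := by decide +kernel
theorem c9_13 : allRange (fun i => Nat.beq (act9 i) i) 43329 3333 = true := by decide +kernel
theorem c9_14 : allRange (fun i => Nat.beq (act9 i) i) 46662 3333 = true := by decide +kernel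
theorem c9_15 : allRange (fun i => Nat.beq (act9 i) i) 49995 3333 = true := by decide +kernel
theorem c9_16 : allRange (fun i => Nat.beq (act9 i) i) 53328 3333 = true := by decide +kernel
theorem c9_17 : allRange (fun i => Nat.beq (act9 i) i) 56661 3333 = true := by decide +kernel
theorem c9_18 : allRange (fun i => Nat.beq (act9 i) i) 59994 3333 = true := by decide +kernel
theorem c9_19 : allRange (fun i => Nat.beq (act9 i) i) 63327 3333 = true := by decide +kernel
theorem c9_20 : allRange (fun i => Nat.beq (act9 i) i) 66660 165 = true := by decide +kernel
theorem h9 : ∀ i, i < T.N → Tab.relActOK T D chk9 i = true := by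
  intro i hi
  rw [Tab.relActOK, ← act9_eq]
  exact (range_glue (range_of_allRange c9_0) (range_glue (range_of_allRange c9_1) (range_glue (range_of_allRange c9_2) (range_glue (range_of_allRange c9_3) (range_glue (range_of_allRange c9_4) (range_glue (range_of_allRange c9_5) (range_glue (range_of_allRange c9_6) (range_glue (range_of_allRange c9_7) (range_glue (range_of_allRange c9_8) (range_glue (range_of_allRange c9_9) (range_glue (range_of_allRange c9_10) (range_glue (range_of_allRange c9_11) (range_glue (range_of_allRange c9_12) (range_glue (range_of_allRange c9_13) (range_glue (range_of_allRange c9_14) (range_glue (range_of_allRange c9_15) (range_glue (range_of_allRange c9_16) (range_glue (range_of_allRange c9_17) (range_glue (range_of_allRange c9_18) (range_glue (range_of_allRange c9_19) (range_of_allRange c9_20))))))))))))))))))))) i (Nat.zero_le _) hi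

def chk19 : List Nat := [4, 1, 3, 1, 1, 2, 0, 3, 5, 0, 3, 0, 2, 0, 0, 2, 0, 0]
noncomputable def act19 (i : Nat) : Nat := col5 (col0 (col2 (col0 (col0 (col3 (col1 (col2 (col4 (col1 (col2 (col1 (col3 (col1 (col1 (col3 (col1 (col1 (i))))))))))))))))))
theorem act19_eq (i : Nat) : act19 i = Tab.act T D chk19 i := rfl
theorem c19_0 : allRange (fun i => Nat.beq (act19 i) i) 0 3000 = true := by decide +kernel
theorem c19_1 : allRange (fun i => Nat.beq (act19 i) i) 3000 3000 = true := by decide +kernel
theorem c19_2 : allRange (fun i => Nat.beq (act19 i) i) 6000 3000 = true := by decide +kernel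
theorem c19_3 : allRange (fun i => Nat.beq (act19 i) i) 9000 3000 = true := by decide +kernel
theorem c19_4 : allRange (fun i => Nat.beq (act19 i) i) 12000 3000 = true := by decide +kernel
theorem c19_5 : allRange (fun i => Nat.beq (act19 i) i) 15000 3000 = true := by decide +kernel
theorem c19_6 : allRange (fun i => Nat.beq (act19 i) i) 18000 3000 = true := by decide +kernel
theorem c19_7 : allRange (fun i => Nat.beq (act19 i) i) 21000 3000 = true := by decide +kernel
theorem c19_8 : allRange (fun i => Nat.beq (act19 i) i) 24000 3000 = true := by decide +kernel
theorem c19_9 : allRange (fun i => Nat.beq (act19 i) i) 27000 3000 = true := by decide +kernel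
theorem c19_10 : allRange (fun i => Nat.beq (act19 i) i) 30000 3000 = true := by decide +kernel
theorem c19_11 : allRange (fun i => Nat.beq (act19 i) i) 33000 3000 = true := by decide +kernel
theorem c19_12 : allRange (fun i => Nat.beq (act19 i) i) 36000 3000 = true := by decide +kernel
theorem c19_13 : allRange (fun i => Nat.beq (act19 i) i) 39000 3000 = true := by decide +kernel
theorem c19_14 : allRange (fun i => Nat.beq (act19 i) i) 42000 3000 = true := by decide +kernel
theorem c19_15 : allRange (fun i => Nat.beq (act19 i) i) 45000 3000 = true := by decide +kernel
theorem c19_16 : allRange (fun i => Nat.beq (act19 i) i) 48000 3000 = true := by decide +kernel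
theorem c19_17 : allRange (fun i => Nat.beq (act19 i) i) 51000 3000 = true := by decide +kernel
theorem c19_18 : allRange (fun i => Nat.beq (act19 i) i) 54000 3000 = true := by decide +kernel
theorem c19_19 : allRange (fun i => Nat.beq (act19 i) i) 57000 3000 = true := by decide +kernel
theorem c19_20 : allRange (fun i => Nat.beq (act19 i) i) 60000 3000 = true := by decide +kernel
theorem c19_21 : allRange (fun i => Nat.beq (act19 i) i) 63000 3000 = true := by decide +kernel
theorem c19_22 : allRange (fun i => Nat.beq (act19 i) i) 66000 825 = true := by decide +kernel
theorem h19 : ∀ i, i < T.N → Tab.relActOK T D chk19 i = true := by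
  intro i hi
  rw [Tab.relActOK, ← act19_eq]
  exact (range_glue (range_of_allRange c19_0) (range_glue (range_of_allRange c19_1) (range_glue (range_of_allRange c19_2) (range_glue (range_of_allRange c19_3) (range_glue (range_of_allRange c19_4) (range_glue (range_of_allRange c19_5) (range_glue (range_of_allRange c19_6) (range_glue (range_of_allRange c19_7) (range_glue (range_of_allRange c19_8) (range_glue (range_of_allRange c19_9) (range_glue (range_of_allRange c19_10) (range_glue (range_of_allRange c19_11) (range_glue (range_of_allRange c19_12) (range_glue (range_of_allRange c19_13) (range_glue (range_of_allRange c19_14) (range_glue (range_of_allRange c19_15) (range_glue (range_of_allRange c19_16) (range_glue (range_of_allRange c19_17) (range_glue (range_of_allRange c19_18) (range_glue (range_of_allRange c19_19) (range_glue (range_of_allRange c19_20) (range_glue (range_of_allRange c19_21) (range_of_allRange c19_22))))))))))))))))))))))) i (Nat.zero_le _) hi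

def chk27 : List Nat := [0, 0, 3, 0, 0, 0, 2, 0, 0, 0, 3, 0, 0, 0, 2, 0, 0, 0, 3, 0, 0, 0, 2, 0, 0, 0, 3, 0, 0, 0, 2, 0]
noncomputable def act27 (i : Nat) : Nat := col1 (col1 (col2 (col1 (col1 (col1 (col3 (col1 (col1 (col1 (col2 (col1 (col1 (col1 (col3 (col1 (col1 (col1 (col2 (col1 (col1 (col1 (col3 (col1 (col1 (col1 (col2 (col1 (col1 (col1 (col3 (col1 (i))))))))))))))))))))))))))))))))
theorem act27_eq (i : Nat) : act27 i = Tab.act T D chk27 i := rfl
theorem c27_0 : allRange (fun i => Nat.beq (act27 i) i) 0 1764 = true := by decide +kernel
theorem c27_1 : allRange (fun i => Nat.beq (act27 i) i) 1764 1764 = true := by decide +kernel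
theorem c27_2 : allRange (fun i => Nat.beq (act27 i) i) 3528 1764 = true := by decide +kernel
theorem c27_3 : allRange (fun i => Nat.beq (act27 i) i) 5292 1764 = true := by decide +kernel
theorem c27_4 : allRange (fun i => Nat.beq (act27 i) i) 7056 1764 = true := by decide +kernel
theorem c27_5 : allRange (fun i => Nat.beq (act27 i) i) 8820 1764 = true := by decide +kernel
theorem c27_6 : allRange (fun i => Nat.beq (act27 i) i) 10584 1764 = true := by decide +kernel
theorem c27_7 : allRange (fun i => Nat.beq (act27 i) i) 12348 1764 = true := by decide +kernel
theorem c27_8 : allRange (fun i => Nat.beq (act27 i) i) 14112 1764 = true := by decide +kernel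
theorem c27_9 : allRange (fun i => Nat.beq (act27 i) i) 15876 1764 = true := by decide +kernel
theorem c27_10 : allRange (fun i => Nat.beq (act27 i) i) 17640 1764 = true := by decide +kernel
theorem c27_11 : allRange (fun i => Nat.beq (act27 i) i) 19404 1764 = true := by decide +kernel
theorem c27_12 : allRange (fun i => Nat.beq (act27 i) i) 21168 1764 = true := by decide +kernel
theorem c27_13 : allRange (fun i => Nat.beq (act27 i) i) 22932 1764 = true := by decide +kernel
theorem c27_14 : allRange (fun i => Nat.beq (act27 i) i) 24696 1764 = true := by decide +kernel
theorem c27_15 : allRange (fun i => Nat.beq (act27 i) i) 26460 1764 = true := by decide +kernel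
theorem c27_16 : allRange (fun i => Nat.beq (act27 i) i) 28224 1764 = true := by decide +kernel
theorem c27_17 : allRange (fun i => Nat.beq (act27 i) i) 29988 1764 = true := by decide +kernel
theorem c27_18 : allRange (fun i => Nat.beq (act27 i) i) 31752 1764 = true := by decide +kernel
theorem c27_19 : allRange (fun i => Nat.beq (act27 i) i) 33516 1764 = true := by decide +kernel
theorem c27_20 : allRange (fun i => Nat.beq (act27 i) i) 35280 1764 = true := by decide +kernel
theorem c27_21 : allRange (fun i => Nat.beq (act27 i) i) 37044 1764 = true := by decide +kernel
theorem c27_22 : allRange (fun i => Nat.beq (act27 i) i) 38808 1764 = true := by decide +kernel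
theorem c27_23 : allRange (fun i => Nat.beq (act27 i) i) 40572 1764 = true := by decide +kernel
theorem c27_24 : allRange (fun i => Nat.beq (act27 i) i) 42336 1764 = true := by decide +kernel
theorem c27_25 : allRange (fun i => Nat.beq (act27 i) i) 44100 1764 = true := by decide +kernel
theorem c27_26 : allRange (fun i => Nat.beq (act27 i) i) 45864 1764 = true := by decide +kernel
theorem c27_27 : allRange (fun i => Nat.beq (act27 i) i) 47628 1764 = true := by decide +kernel
theorem c27_28 : allRange (fun i => Nat.beq (act27 i) i) 49392 1764 = true := by decide +kernel
theorem c27_29 : allRange (fun i => Nat.beq (act27 i) i) 51156 1764 = true := by decide +kernel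
theorem c27_30 : allRange (fun i => Nat.beq (act27 i) i) 52920 1764 = true := by decide +kernel
theorem c27_31 : allRange (fun i => Nat.beq (act27 i) i) 54684 1764 = true := by decide +kernel
theorem c27_32 : allRange (fun i => Nat.beq (act27 i) i) 56448 1764 = true := by decide +kernel
theorem c27_33 : allRange (fun i => Nat.beq (act27 i) i) 58212 1764 = true := by decide +kernel
theorem c27_34 : allRange (fun i => Nat.beq (act27 i) i) 59976 1764 = true := by decide +kernel
theorem c27_35 : allRange (fun i => Nat.beq (act27 i) i) 61740 1764 = true := by decide +kernel
theorem c27_36 : allRange (fun i => Nat.beq (act27 i) i) 63504 1764 = true := by decide +kernel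
theorem c27_37 : allRange (fun i => Nat.beq (act27 i) i) 65268 1557 = true := by decide +kernel
theorem h27 : ∀ i, i < T.N → Tab.relActOK T D chk27 i = true := by
  intro i hi
  rw [Tab.relActOK, ← act27_eq]
  exact (range_glue (range_of_allRange c27_0) (range_glue (range_of_allRange c27_1) (range_glue (range_of_allRange c27_2) (range_glue (range_of_allRange c27_3) (range_glue (range_of_allRange c27_4) (range_glue (range_of_allRange c27_5) (range_glue (range_of_allRange c27_6) (range_glue (range_of_allRange c27_7) (range_glue (range_of_allRange c27_8) (range_glue (range_of_allRange c27_9) (range_glue (range_of_allRange c27_10) (range_glue (range_of_allRange c27_11) (range_glue (range_of_allRange c27_12) (range_glue (range_of_allRange c27_13) (range_glue (range_of_allRange c27_14) (range_glue (range_of_allRange c27_15) (range_glue (range_of_allRange c27_16) (range_glue (range_of_allRange c27_17) (range_glue (range_of_allRange c27_18) (range_glue (range_of_allRange c27_19) (range_glue (range_of_allRange c27_20) (range_glue (range_of_allRange c27_21) (range_glue (range_of_allRange c27_22) (range_glue (range_of_allRange c27_23) (range_glue (range_of_allRange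 c27_24) (range_glue (range_of_allRange c27_25) (range_glue (range_of_allRange c27_26) (range_glue (range_of_allRange c27_27) (range_glue (range_of_allRange c27_28) (range_glue (range_of_allRange c27_29) (range_glue (range_of_allRange c27_30) (range_glue (range_of_allRange c27_31) (range_glue (range_of_allRange c27_32) (range_glue (range_of_allRange c27_33) (range_glue (range_of_allRange c27_34) (range_glue (range_of_allRange c27_35) (range_glue (range_of_allRange c27_36) (range_of_allRange c27_37)))))))))))))))))))))))))))))))))))))) i (Nat.zero_le _) hi

def chk30 : List Nat := [1, 3, 1, 1, 1, 2, 1, 1, 1, 3, 1, 1, 1, 2, 1, 1, 1, 3, 1, 1, 1, 2, 1, 1, 1, 3, 1, 1, 1, 2, 1, 1]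
noncomputable def act30 (i : Nat) : Nat := col0 (col2 (col0 (col0 (col0 (col3 (col0 (col0 (col0 (col2 (col0 (col0 (col0 (col3 (col0 (col0 (col0 (col2 (col0 (col0 (col0 (col3 (col0 (col0 (col0 (col2 (col0 (col0 (col0 (col3 (col0 (col0 (i))))))))))))))))))))))))))))))))
theorem act30_eq (i : Nat) : act30 i = Tab.act T D chk30 i := rfl
theorem c30_0 : allRange (fun i => Nat.beq (act30 i) i) 0 1764 = true := by decide +kernel
theorem c30_1 : allRange (fun i => Nat.beq (act30 i) i) 1764 1764 = true := by decide +kernel
theorem c30_2 : allRange (fun i => Nat.beq (act30 i) i) 3528 1764 = true := by decide +kernel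
theorem c30_3 : allRange (fun i => Nat.beq (act30 i) i) 5292 1764 = true := by decide +kernel
theorem c30_4 : allRange (fun i => Nat.beq (act30 i) i) 7056 1764 = true := by decide +kernel
theorem c30_5 : allRange (fun i => Nat.beq (act30 i) i) 8820 1764 = true := by decide +kernel
theorem c30_6 : allRange (fun i => Nat.beq (act30 i) i) 10584 1764 = true := by decide +kernel
theorem c30_7 : allRange (fun i => Nat.beq (act30 i) i) 12348 1764 = true := by decide +kernel
theorem c30_8 : allRange (fun i => Nat.beq (act30 i) i) 14112 1764 = true := by decide +kernel
theorem c30_9 : allRange (fun i => Nat.beq (act30 i) i) 15876 1764 = true := by decide +kernel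
theorem c30_10 : allRange (fun i => Nat.beq (act30 i) i) 17640 1764 = true := by decide +kernel
theorem c30_11 : allRange (fun i => Nat.beq (act30 i) i) 19404 1764 = true := by decide +kernel
theorem c30_12 : allRange (fun i => Nat.beq (act30 i) i) 21168 1764 = true := by decide +kernel
theorem c30_13 : allRange (fun i => Nat.beq (act30 i) i) 22932 1764 = true := by decide +kernel
theorem c30_14 : allRange (fun i => Nat.beq (act30 i) i) 24696 1764 = true := by decide +kernel
theorem c30_15 : allRange (fun i => Nat.beq (act30 i) i) 26460 1764 = true := by decide +kernel
theorem c30_16 : allRange (fun i => Nat.beq (act30 i) i) 28224 1764 = true := by decide +kernel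
theorem c30_17 : allRange (fun i => Nat.beq (act30 i) i) 29988 1764 = true := by decide +kernel
theorem c30_18 : allRange (fun i => Nat.beq (act30 i) i) 31752 1764 = true := by decide +kernel
theorem c30_19 : allRange (fun i => Nat.beq (act30 i) i) 33516 1764 = true := by decide +kernel
theorem c30_20 : allRange (fun i => Nat.beq (act30 i) i) 35280 1764 = true := by decide +kernel
theorem c30_21 : allRange (fun i => Nat.beq (act30 i) i) 37044 1764 = true := by decide +kernel
theorem c30_22 : allRange (fun i => Nat.beq (act30 i) i) 38808 1764 = true := by decide +kernel
theorem c30_23 : allRange (fun i => Nat.beq (act30 i) i) 40572 1764 = true := by decide +kernel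
theorem c30_24 : allRange (fun i => Nat.beq (act30 i) i) 42336 1764 = true := by decide +kernel
theorem c30_25 : allRange (fun i => Nat.beq (act30 i) i) 44100 1764 = true := by decide +kernel
theorem c30_26 : allRange (fun i => Nat.beq (act30 i) i) 45864 1764 = true := by decide +kernel
theorem c30_27 : allRange (fun i => Nat.beq (act30 i) i) 47628 1764 = true := by decide +kernel
theorem c30_28 : allRange (fun i => Nat.beq (act30 i) i) 49392 1764 = true := by decide +kernel
theorem c30_29 : allRange (fun i => Nat.beq (act30 i) i) 51156 1764 = true := by decide +kernel
theorem c30_30 : allRange (fun i => Nat.beq (act30 i) i) 52920 1764 = true := by decide +kernel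
theorem c30_31 : allRange (fun i => Nat.beq (act30 i) i) 54684 1764 = true := by decide +kernel
theorem c30_32 : allRange (fun i => Nat.beq (act30 i) i) 56448 1764 = true := by decide +kernel
theorem c30_33 : allRange (fun i => Nat.beq (act30 i) i) 58212 1764 = true := by decide +kernel
theorem c30_34 : allRange (fun i => Nat.beq (act30 i) i) 59976 1764 = true := by decide +kernel
theorem c30_35 : allRange (fun i => Nat.beq (act30 i) i) 61740 1764 = true := by decide +kernel
theorem c30_36 : allRange (fun i => Nat.beq (act30 i) i) 63504 1764 = true := by decide +kernel
theorem c30_37 : allRange (fun i => Nat.beq (act30 i) i) 65268 1557 = true := by decide +kernel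
theorem h30 : ∀ i, i < T.N → Tab.relActOK T D chk30 i = true := by
  intro i hi
  rw [Tab.relActOK, ← act30_eq]
  exact (range_glue (range_of_allRange c30_0) (range_glue (range_of_allRange c30_1) (range_glue (range_of_allRange c30_2) (range_glue (range_of_allRange c30_3) (range_glue (range_of_allRange c30_4) (range_glue (range_of_allRange c30_5) (range_glue (range_of_allRange c30_6) (range_glue (range_of_allRange c30_7) (range_glue (range_of_allRange c30_8) (range_glue (range_of_allRange c30_9) (range_glue (range_of_allRange c30_10) (range_glue (range_of_allRange c30_11) (range_glue (range_of_allRange c30_12) (range_glue (range_of_allRange c30_13) (range_glue (range_of_allRange c30_14) (range_glue (range_of_allRange c30_15) (range_glue (range_of_allRange c30_16) (range_glue (range_of_allRange c30_17) (range_glue (range_of_allRange c30_18) (range_glue (range_of_allRange c30_19) (range_glue (range_of_allRange c30_20) (range_glue (range_of_allRange c30_21) (range_glue (range_of_allRange c30_22) (range_glue (range_of_allRange c30_23) (range_glue (range_of_allRange c30_24) (range_glue (range_of_allRange c30_25) (range_glue (range_of_allRange c30_26)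 (range_glue (range_of_allRange c30_27) (range_glue (range_of_allRange c30_28) (range_glue (range_of_allRange c30_29) (range_glue (range_of_allRange c30_30) (range_glue (range_of_allRange c30_31) (range_glue (range_of_allRange c30_32) (range_glue (range_of_allRange c30_33) (range_glue (range_of_allRange c30_34) (range_glue (range_of_allRange c30_35) (range_glue (range_of_allRange c30_36) (range_of_allRange c30_37)))))))))))))))))))))))))))))))))))))) i (Nat.zero_le _) hi

def chk48 : List Nat := [1, 3, 1, 1, 2, 0, 3, 1, 3, 1, 1, 2, 0, 3, 1, 3, 1, 1, 2, 0, 3, 1, 3, 1, 1, 2, 0, 3]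
noncomputable def act48 (i : Nat) : Nat := col0 (col2 (col0 (col0 (col3 (col1 (col2 (col0 (col2 (col0 (col0 (col3 (col1 (col2 (col0 (col2 (col0 (col0 (col3 (col1 (col2 (col0 (col2 (col0 (col0 (col3 (col1 (col2 (i))))))))))))))))))))))))))))
theorem act48_eq (i : Nat) : act48 i = Tab.act T D chk48 i := rfl
theorem c48_0 : allRange (fun i => Nat.beq (act48 i) i) 0 2000 = true := by decide +kernel
theorem c48_1 : allRange (fun i => Nat.beq (act48 i) i) 2000 2000 = true := by decide +kernel
theorem c48_2 : allRange (fun i => Nat.beq (act48 i) i) 4000 2000 = true := by decide +kernel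
theorem c48_3 : allRange (fun i => Nat.beq (act48 i) i) 6000 2000 = true := by decide +kernel
theorem c48_4 : allRange (fun i => Nat.beq (act48 i) i) 8000 2000 = true := by decide +kernel
theorem c48_5 : allRange (fun i => Nat.beq (act48 i) i) 10000 2000 = true := by decide +kernel
theorem c48_6 : allRange (fun i => Nat.beq (act48 i) i) 12000 2000 = true := by decide +kernel
theorem c48_7 : allRange (fun i => Nat.beq (act48 i) i) 14000 2000 = true := by decide +kernel
theorem c48_8 : allRange (fun i => Nat.beq (act48 i) i) 16000 2000 = true := by decide +kernel
theorem c48_9 : allRange (fun i => Nat.beq (act48 i) i) 18000 2000 = true := by decide +kernel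
theorem c48_10 : allRange (fun i => Nat.beq (act48 i) i) 20000 2000 = true := by decide +kernel
theorem c48_11 : allRange (fun i => Nat.beq (act48 i) i) 22000 2000 = true := by decide +kernel
theorem c48_12 : allRange (fun i => Nat.beq (act48 i) i) 24000 2000 = true := by decide +kernel
theorem c48_13 : allRange (fun i => Nat.beq (act48 i) i) 26000 2000 = true := by decide +kernel
theorem c48_14 : allRange (fun i => Nat.beq (act48 i) i) 28000 2000 = true := by decide +kernel
theorem c48_15 : allRange (fun i => Nat.beq (act48 i) i) 30000 2000 = true := by decide +kernel
theorem c48_16 : allRange (fun i => Nat.beq (act48 i) i) 32000 2000 = true := by decide +kernel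
theorem c48_17 : allRange (fun i => Nat.beq (act48 i) i) 34000 2000 = true := by decide +kernel
theorem c48_18 : allRange (fun i => Nat.beq (act48 i) i) 36000 2000 = true := by decide +kernel
theorem c48_19 : allRange (fun i => Nat.beq (act48 i) i) 38000 2000 = true := by decide +kernel
theorem c48_20 : allRange (fun i => Nat.beq (act48 i) i) 40000 2000 = true := by decide +kernel
theorem c48_21 : allRange (fun i => Nat.beq (act48 i) i) 42000 2000 = true := by decide +kernel
theorem c48_22 : allRange (fun i => Nat.beq (act48 i) i) 44000 2000 = true := by decide +kernel
theorem c48_23 : allRange (fun i => Nat.beq (act48 i) i) 46000 2000 = true := by decide +kernel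
theorem c48_24 : allRange (fun i => Nat.beq (act48 i) i) 48000 2000 = true := by decide +kernel
theorem c48_25 : allRange (fun i => Nat.beq (act48 i) i) 50000 2000 = true := by decide +kernel
theorem c48_26 : allRange (fun i => Nat.beq (act48 i) i) 52000 2000 = true := by decide +kernel
theorem c48_27 : allRange (fun i => Nat.beq (act48 i) i) 54000 2000 = true := by decide +kernel
theorem c48_28 : allRange (fun i => Nat.beq (act48 i) i) 56000 2000 = true := by decide +kernel
theorem c48_29 : allRange (fun i => Nat.beq (act48 i) i) 58000 2000 = true := by decide +kernel
theorem c48_30 : allRange (fun i => Nat.beq (act48 i) i) 60000 2000 = true := by decide +kernel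
theorem c48_31 : allRange (fun i => Nat.beq (act48 i) i) 62000 2000 = true := by decide +kernel
theorem c48_32 : allRange (fun i => Nat.beq (act48 i) i) 64000 2000 = true := by decide +kernel
theorem c48_33 : allRange (fun i => Nat.beq (act48 i) i) 66000 825 = true := by decide +kernel
theorem h48 : ∀ i, i < T.N → Tab.relActOK T D chk48 i = true := by
  intro i hi
  rw [Tab.relActOK, ← act48_eq]
  exact (range_glue (range_of_allRange c48_0) (range_glue (range_of_allRange c48_1) (range_glue (range_of_allRange c48_2) (range_glue (range_of_allRange c48_3) (range_glue (range_of_allRange c48_4) (range_glue (range_of_allRange c48_5) (range_glue (range_of_allRange c48_6) (range_glue (range_of_allRange c48_7) (range_glue (range_of_allRange c48_8) (range_glue (range_of_allRange c48_9) (range_glue (range_of_allRange c48_10) (range_glue (range_of_allRange c48_11) (range_glue (range_of_allRange c48_12) (range_glue (range_of_allRange c48_13) (range_glue (range_of_allRange c48_14) (range_glue (range_of_allRange c48_15) (range_glue (range_of_allRange c48_16) (range_glue (range_of_allRange c48_17) (range_glue (range_of_allRange c48_18) (range_glue (range_of_allRange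 c48_19) (range_glue (range_of_allRange c48_20) (range_glue (range_of_allRange c48_21) (range_glue (range_of_allRange c48_22) (range_glue (range_of_allRange c48_23) (range_glue (range_of_allRange c48_24) (range_glue (range_of_allRange c48_25) (range_glue (range_of_allRange c48_26) (range_glue (range_of_allRange c48_27) (range_glue (range_of_allRange c48_28) (range_glue (range_of_allRange c48_29) (range_glue (range_of_allRange c48_30) (range_glue (range_of_allRange c48_31) (range_glue (range_of_allRange c48_32) (range_of_allRange c48_33)))))))))))))))))))))))))))))))))) i (Nat.zero_le _) hi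

def chk49 : List Nat := [4, 1, 2, 0, 3, 1, 2, 2, 0, 3, 0, 5, 2, 2, 0, 3, 1, 1]
noncomputable def act49 (i : Nat) : Nat := col5 (col0 (col3 (col1 (col2 (col0 (col3 (col3 (col1 (col2 (col1 (col4 (col3 (col3 (col1 (col2 (col0 (col0 (i))))))))))))))))))
theorem act49_eq (i : Nat) : act49 i = Tab.act T D chk49 i := rfl
theorem c49_0 : allRange (fun i => Nat.beq (act49 i) i) 0 3000 = true := by decide +kernel
theorem c49_1 : allRange (fun i => Nat.beq (act49 i) i) 3000 3000 = true := by decide +kernel
theorem c49_2 : allRange (fun i => Nat.beq (act49 i) i) 6000 3000 = true := by decide +kernel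
theorem c49_3 : allRange (fun i => Nat.beq (act49 i) i) 9000 3000 = true := by decide +kernel
theorem c49_4 : allRange (fun i => Nat.beq (act49 i) i) 12000 3000 = true := by decide +kernel
theorem c49_5 : allRange (fun i => Nat.beq (act49 i) i) 15000 3000 = true := by decide +kernel
theorem c49_6 : allRange (fun i => Nat.beq (act49 i) i) 18000 3000 = true := by decide +kernel
theorem c49_7 : allRange (fun i => Nat.beq (act49 i) i) 21000 3000 = true := by decide +kernel
theorem c49_8 : allRange (fun i => Nat.beq (act49 i) i) 24000 3000 = true := by decide +kernel
theorem c49_9 : allRange (fun i => Nat.beq (act49 i) i) 27000 3000 = true := by decide +kernel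
theorem c49_10 : allRange (fun i => Nat.beq (act49 i) i) 30000 3000 = true := by decide +kernel
theorem c49_11 : allRange (fun i => Nat.beq (act49 i) i) 33000 3000 = true := by decide +kernel
theorem c49_12 : allRange (fun i => Nat.beq (act49 i) i) 36000 3000 = true := by decide +kernel
theorem c49_13 : allRange (fun i => Nat.beq (act49 i) i) 39000 3000 = true := by decide +kernel
theorem c49_14 : allRange (fun i => Nat.beq (act49 i) i) 42000 3000 = true := by decide +kernel
theorem c49_15 : allRange (fun i => Nat.beq (act49 i) i) 45000 3000 = true := by decide +kernel
theorem c49_16 : allRange (fun i => Nat.beq (act49 i) i) 48000 3000 = true := by decide +kernel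
theorem c49_17 : allRange (fun i => Nat.beq (act49 i) i) 51000 3000 = true := by decide +kernel
theorem c49_18 : allRange (fun i => Nat.beq (act49 i) i) 54000 3000 = true := by decide +kernel
theorem c49_19 : allRange (fun i => Nat.beq (act49 i) i) 57000 3000 = true := by decide +kernel
theorem c49_20 : allRange (fun i => Nat.beq (act49 i) i) 60000 3000 = true := by decide +kernel
theorem c49_21 : allRange (fun i => Nat.beq (act49 i) i) 63000 3000 = true := by decide +kernel
theorem c49_22 : allRange (fun i => Nat.beq (act49 i) i) 66000 825 = true := by decide +kernel
theorem h49 : ∀ i, i < T.N → Tab.relActOK T D chk49 i = true := by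
  intro i hi
  rw [Tab.relActOK, ← act49_eq]
  exact (range_glue (range_of_allRange c49_0) (range_glue (range_of_allRange c49_1) (range_glue (range_of_allRange c49_2) (range_glue (range_of_allRange c49_3) (range_glue (range_of_allRange c49_4) (range_glue (range_of_allRange c49_5) (range_glue (range_of_allRange c49_6) (range_glue (range_of_allRange c49_7) (range_glue (range_of_allRange c49_8) (range_glue (range_of_allRange c49_9) (range_glue (range_of_allRange c49_10) (range_glue (range_of_allRange c49_11) (range_glue (range_of_allRange c49_12) (range_glue (range_of_allRange c49_13) (range_glue (range_of_allRange c49_14) (range_glue (range_of_allRange c49_15) (range_glue (range_of_allRange c49_16) (range_glue (range_of_allRange c49_17) (range_glue (range_of_allRange c49_18) (range_glue (range_of_allRange c49_19) (range_glue (range_of_allRange c49_20) (range_glue (range_of_allRange c49_21) (range_of_allRange c49_22))))))))))))))))))))))) i (Nat.zero_le _) hi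

def chk59 : List Nat := [1, 3, 3, 0, 2, 1, 1, 3, 3, 0, 2, 1, 1, 3, 3, 0, 2, 1, 1, 3, 3, 0, 2, 1]
noncomputable def act59 (i : Nat) : Nat := col0 (col2 (col2 (col1 (col3 (col0 (col0 (col2 (col2 (col1 (col3 (col0 (col0 (col2 (col2 (col1 (col3 (col0 (col0 (col2 (col2 (col1 (col3 (col0 (i))))))))))))))))))))))))
theorem act59_eq (i : Nat) : act59 i = Tab.act T D chk59 i := rfl
theorem c59_0 : allRange (fun i => Nat.beq (act59 i) i) 0 2307 = true := by decide +kernel
theorem c59_1 : allRange (fun i => Nat.beq (act59 i) i) 2307 2307 = true := by decide +kernel
theorem c59_2 : allRange (fun i => Nat.beq (act59 i) i) 4614 2307 = true := by decide +kernel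
theorem c59_3 : allRange (fun i => Nat.beq (act59 i) i) 6921 2307 = true := by decide +kernel
theorem c59_4 : allRange (fun i => Nat.beq (act59 i) i) 9228 2307 = true := by decide +kernel
theorem c59_5 : allRange (fun i => Nat.beq (act59 i) i) 11535 2307 = true := by decide +kernel
theorem c59_6 : allRange (fun i => Nat.beq (act59 i) i) 13842 2307 = true := by decide +kernel
theorem c59_7 : allRange (fun i => Nat.beq (act59 i) i) 16149 2307 = true := by decide +kernel
theorem c59_8 : allRange (fun i => Nat.beq (act59 i) i) 18456 2307 = true := by decide +kernel
theorem c59_9 : allRange (fun i => Nat.beq (act59 i) i) 20763 2307 = true := by decide +kernel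
theorem c59_10 : allRange (fun i => Nat.beq (act59 i) i) 23070 2307 = true := by decide +kernel
theorem c59_11 : allRange (fun i => Nat.beq (act59 i) i) 25377 2307 = true := by decide +kernel
theorem c59_12 : allRange (fun i => Nat.beq (act59 i) i) 27684 2307 = true := by decide +kernel
theorem c59_13 : allRange (fun i => Nat.beq (act59 i) i) 29991 2307 = true := by decide +kernel
theorem c59_14 : allRange (fun i => Nat.beq (act59 i) i) 32298 2307 = true := by decide +kernel
theorem c59_15 : allRange (fun i => Nat.beq (act59 i) i) 34605 2307 = true := by decide +kernel
theorem c59_16 : allRange (fun i => Nat.beq (act59 i) i) 36912 2307 = true := by decide +kernel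
theorem c59_17 : allRange (fun i => Nat.beq (act59 i) i) 39219 2307 = true := by decide +kernel
theorem c59_18 : allRange (fun i => Nat.beq (act59 i) i) 41526 2307 = true := by decide +kernel
theorem c59_19 : allRange (fun i => Nat.beq (act59 i) i) 43833 2307 = true := by decide +kernel
theorem c59_20 : allRange (fun i => Nat.beq (act59 i) i) 46140 2307 = true := by decide +kernel
theorem c59_21 : allRange (fun i => Nat.beq (act59 i) i) 48447 2307 = true := by decide +kernel
theorem c59_22 : allRange (fun i => Nat.beq (act59 i) i) 50754 2307 = true := by decide +kernel
theorem c59_23 : allRange (fun i => Nat.beq (act59 i) i) 53061 2307 = true := by decide +kernel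
theorem c59_24 : allRange (fun i => Nat.beq (act59 i) i) 55368 2307 = true := by decide +kernel
theorem c59_25 : allRange (fun i => Nat.beq (act59 i) i) 57675 2307 = true := by decide +kernel
theorem c59_26 : allRange (fun i => Nat.beq (act59 i) i) 59982 2307 = true := by decide +kernel
theorem c59_27 : allRange (fun i => Nat.beq (act59 i) i) 62289 2307 = true := by decide +kernel
theorem c59_28 : allRange (fun i => Nat.beq (act59 i) i) 64596 2229 = true := by decide +kernel
theorem h59 : ∀ i, i < T.N → Tab.relActOK T D chk59 i = true := by
  intro i hi
  rw [Tab.relActOK, ← act59_eq]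
  exact (range_glue (range_of_allRange c59_0) (range_glue (range_of_allRange c59_1) (range_glue (range_of_allRange c59_2) (range_glue (range_of_allRange c59_3) (range_glue (range_of_allRange c59_4) (range_glue (range_of_allRange c59_5) (range_glue (range_of_allRange c59_6) (range_glue (range_of_allRange c59_7) (range_glue (range_of_allRange c59_8) (range_glue (range_of_allRange c59_9) (range_glue (range_of_allRange c59_10) (range_glue (range_of_allRange c59_11) (range_glue (range_of_allRange c59_12) (range_glue (range_of_allRange c59_13) (range_glue (range_of_allRange c59_14) (range_glue (range_of_allRange c59_15) (range_glue (range_of_allRange c59_16) (range_glue (range_of_allRange c59_17) (range_glue (range_of_allRange c59_18) (range_glue (range_of_allRange c59_19) (range_glue (range_of_allRange c59_20) (range_glue (range_of_allRange c59_21) (range_glue (range_of_allRange c59_22) (range_glue (range_of_allRange c59_23) (range_glue (range_of_allRange c59_24) (range_glue (range_of_allRange c59_25) (range_glue (range_of_allRange c59_26) (range_glue (range_of_allRange c59_27) (range_of_allRange c59_28))))))))))))))))))))))))))))) i (Nat.zero_le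 _) hi

def chk67 : List Nat := [4, 1, 2, 0, 2, 2, 1, 3, 5, 2, 2, 1, 1, 2, 2, 1, 3, 0, 0]
noncomputable def act67 (i : Nat) : Nat := col5 (col0 (col3 (col1 (col3 (col3 (col0 (col2 (col4 (col3 (col3 (col0 (col0 (col3 (col3 (col0 (col2 (col1 (col1 (i)))))))))))))))))))
theorem act67_eq (i : Nat) : act67 i = Tab.act T D chk67 i := rfl
theorem c67_0 : allRange (fun i => Nat.beq (act67 i) i) 0 2857 = true := by decide +kernel
theorem c67_1 : allRange (fun i => Nat.beq (act67 i) i) 2857 2857 = true := by decide +kernel
theorem c67_2 : allRange (fun i => Nat.beq (act67 i) i) 5714 2857 = true := by decide +kernel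
theorem c67_3 : allRange (fun i => Nat.beq (act67 i) i) 8571 2857 = true := by decide +kernel
theorem c67_4 : allRange (fun i => Nat.beq (act67 i) i) 11428 2857 = true := by decide +kernel
theorem c67_5 : allRange (fun i => Nat.beq (act67 i) i) 14285 2857 = true := by decide +kernel
theorem c67_6 : allRange (fun i => Nat.beq (act67 i) i) 17142 2857 = true := by decide +kernel
theorem c67_7 : allRange (fun i => Nat.beq (act67 i) i) 19999 2857 = true := by decide +kernel
theorem c67_8 : allRange (fun i => Nat.beq (act67 i) i) 22856 2857 = true := by decide +kernel
theorem c67_9 : allRange (fun i => Nat.beq (act67 i) i) 25713 2857 = true := by decide +kernel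
theorem c67_10 : allRange (fun i => Nat.beq (act67 i) i) 28570 2857 = true := by decide +kernel
theorem c67_11 : allRange (fun i => Nat.beq (act67 i) i) 31427 2857 = true := by decide +kernel
theorem c67_12 : allRange (fun i => Nat.beq (act67 i) i) 34284 2857 = true := by decide +kernel
theorem c67_13 : allRange (fun i => Nat.beq (act67 i) i) 37141 2857 = true := by decide +kernel
theorem c67_14 : allRange (fun i => Nat.beq (act67 i) i) 39998 2857 = true := by decide +kernel
theorem c67_15 : allRange (fun i => Nat.beq (act67 i) i) 42855 2857 = true := by decide +kernel
theorem c67_16 : allRange (fun i => Nat.beq (act67 i) i) 45712 2857 = true := by decide +kernel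
theorem c67_17 : allRange (fun i => Nat.beq (act67 i) i) 48569 2857 = true := by decide +kernel
theorem c67_18 : allRange (fun i => Nat.beq (act67 i) i) 51426 2857 = true := by decide +kernel
theorem c67_19 : allRange (fun i => Nat.beq (act67 i) i) 54283 2857 = true := by decide +kernel
theorem c67_20 : allRange (fun i => Nat.beq (act67 i) i) 57140 2857 = true := by decide +kernel
theorem c67_21 : allRange (fun i => Nat.beq (act67 i) i) 59997 2857 = true := by decide +kernel
theorem c67_22 : allRange (fun i => Nat.beq (act67 i) i) 62854 2857 = true := by decide +kernel
theorem c67_23 : allRange (fun i => Nat.beq (act67 i) i) 65711 1114 = true := by decide +kernel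
theorem h67 : ∀ i, i < T.N → Tab.relActOK T D chk67 i = true := by
  intro i hi
  rw [Tab.relActOK, ← act67_eq]
  exact (range_glue (range_of_allRange c67_0) (range_glue (range_of_allRange c67_1) (range_glue (range_of_allRange c67_2) (range_glue (range_of_allRange c67_3) (range_glue (range_of_allRange c67_4) (range_glue (range_of_allRange c67_5) (range_glue (range_of_allRange c67_6) (range_glue (range_of_allRange c67_7) (range_glue (range_of_allRange c67_8) (range_glue (range_of_allRange c67_9) (range_glue (range_of_allRange c67_10) (range_glue (range_of_allRange c67_11) (range_glue (range_of_allRange c67_12) (range_glue (range_of_allRange c67_13) (range_glue (range_of_allRange c67_14) (range_glue (range_of_allRange c67_15) (range_glue (range_of_allRange c67_16) (range_glue (range_of_allRange c67_17) (range_glue (range_of_allRange c67_18) (range_glue (range_of_allRange c67_19) (range_glue (range_of_allRange c67_20) (range_glue (range_of_allRange c67_21) (range_glue (range_of_allRange c67_22) (range_of_allRange c67_23)))))))))))))))))))))))) i (Nat.zero_le _) hi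

def chk75 : List Nat := [1, 3, 1, 2, 1, 2, 1, 3, 1, 3, 1, 3, 1, 2, 1, 2, 1, 3, 1, 3, 1, 3, 1, 2, 1, 2, 1, 3, 1, 3, 1, 3, 1, 2, 1, 2, 1, 3, 1, 3]
noncomputable def act75 (i : Nat) : Nat := col0 (col2 (col0 (col3 (col0 (col3 (col0 (col2 (col0 (col2 (col0 (col2 (col0 (col3 (col0 (col3 (col0 (col2 (col0 (col2 (col0 (col2 (col0 (col3 (col0 (col3 (col0 (col2 (col0 (col2 (col0 (col2 (col0 (col3 (col0 (col3 (col0 (col2 (col0 (col2 (i))))))))))))))))))))))))))))))))))))))))
theorem act75_eq (i : Nat) : act75 i = Tab.act T D chk75 i := rfl
theorem c75_0 : allRange (fun i => Nat.beq (act75 i) i) 0 1428 = true := by decide +kernel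
theorem c75_1 : allRange (fun i => Nat.beq (act75 i) i) 1428 1428 = true := by decide +kernel
theorem c75_2 : allRange (fun i => Nat.beq (act75 i) i) 2856 1428 = true := by decide +kernel
theorem c75_3 : allRange (fun i => Nat.beq (act75 i) i) 4284 1428 = true := by decide +kernel
theorem c75_4 : allRange (fun i => Nat.beq (act75 i) i) 5712 1428 = true := by decide +kernel
theorem c75_5 : allRange (fun i => Nat.beq (act75 i) i) 7140 1428 = true := by decide +kernel
theorem c75_6 : allRange (fun i => Nat.beq (act75 i) i) 8568 1428 = true := by decide +kernel
theorem c75_7 : allRange (fun i => Nat.beq (act75 i) i) 9996 1428 = true := by decide +kernel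
theorem c75_8 : allRange (fun i => Nat.beq (act75 i) i) 11424 1428 = true := by decide +kernel
theorem c75_9 : allRange (fun i => Nat.beq (act75 i) i) 12852 1428 = true := by decide +kernel
theorem c75_10 : allRange (fun i => Nat.beq (act75 i) i) 14280 1428 = true := by decide +kernel
theorem c75_11 : allRange (fun i => Nat.beq (act75 i) i) 15708 1428 = true := by decide +kernel
theorem c75_12 : allRange (fun i => Nat.beq (act75 i) i) 17136 1428 = true := by decide +kernel
theorem c75_13 : allRange (fun i => Nat.beq (act75 i) i) 18564 1428 = true := by decide +kernel
theorem c75_14 : allRange (fun i => Nat.beq (act75 i) i) 19992 1428 = true := by decide +kernel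
theorem c75_15 : allRange (fun i => Nat.beq (act75 i) i) 21420 1428 = true := by decide +kernel
theorem c75_16 : allRange (fun i => Nat.beq (act75 i) i) 22848 1428 = true := by decide +kernel
theorem c75_17 : allRange (fun i => Nat.beq (act75 i) i) 24276 1428 = true := by decide +kernel
theorem c75_18 : allRange (fun i => Nat.beq (act75 i) i) 25704 1428 = true := by decide +kernel
theorem c75_19 : allRange (fun i => Nat.beq (act75 i) i) 27132 1428 = true := by decide +kernel
theorem c75_20 : allRange (fun i => Nat.beq (act75 i) i) 28560 1428 = true := by decide +kernel
theorem c75_21 : allRange (fun i => Nat.beq (act75 i) i) 29988 1428 = true := by decide +kernel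
theorem c75_22 : allRange (fun i => Nat.beq (act75 i) i) 31416 1428 = true := by decide +kernel
theorem c75_23 : allRange (fun i => Nat.beq (act75 i) i) 32844 1428 = true := by decide +kernel
theorem c75_24 : allRange (fun i => Nat.beq (act75 i) i) 34272 1428 = true := by decide +kernel
theorem c75_25 : allRange (fun i => Nat.beq (act75 i) i) 35700 1428 = true := by decide +kernel
theorem c75_26 : allRange (fun i => Nat.beq (act75 i) i) 37128 1428 = true := by decide +kernel
theorem c75_27 : allRange (fun i => Nat.beq (act75 i) i) 38556 1428 = true := by decide +kernel
theorem c75_28 : allRange (fun i => Nat.beq (act75 i) i) 39984 1428 = true := by decide +kernel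
theorem c75_29 : allRange (fun i => Nat.beq (act75 i) i) 41412 1428 = true := by decide +kernel
theorem c75_30 : allRange (fun i => Nat.beq (act75 i) i) 42840 1428 = true := by decide +kernel
theorem c75_31 : allRange (fun i => Nat.beq (act75 i) i) 44268 1428 = true := by decide +kernel
theorem c75_32 : allRange (fun i => Nat.beq (act75 i) i) 45696 1428 = true := by decide +kernel
theorem c75_33 : allRange (fun i => Nat.beq (act75 i) i) 47124 1428 = true := by decide +kernel
theorem c75_34 : allRange (fun i => Nat.beq (act75 i) i) 48552 1428 = true := by decide +kernel
theorem c75_35 : allRange (fun i => Nat.beq (act75 i) i) 49980 1428 = true := by decide +kernel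
theorem c75_36 : allRange (fun i => Nat.beq (act75 i) i) 51408 1428 = true := by decide +kernel
theorem c75_37 : allRange (fun i => Nat.beq (act75 i) i) 52836 1428 = true := by decide +kernel
theorem c75_38 : allRange (fun i => Nat.beq (act75 i) i) 54264 1428 = true := by decide +kernel
theorem c75_39 : allRange (fun i => Nat.beq (act75 i) i) 55692 1428 = true := by decide +kernel
theorem c75_40 : allRange (fun i => Nat.beq (act75 i) i) 57120 1428 = true := by decide +kernel
theorem c75_41 : allRange (fun i => Nat.beq (act75 i) i) 58548 1428 = true := by decide +kernel
theorem c75_42 : allRange (fun i => Nat.beq (act75 i) i) 59976 1428 = true := by decide +kernel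
theorem c75_43 : allRange (fun i => Nat.beq (act75 i) i) 61404 1428 = true := by decide +kernel
theorem c75_44 : allRange (fun i => Nat.beq (act75 i) i) 62832 1428 = true := by decide +kernel
theorem c75_45 : allRange (fun i => Nat.beq (act75 i) i) 64260 1428 = true := by decide +kernel
theorem c75_46 : allRange (fun i => Nat.beq (act75 i) i) 65688 1137 = true := by decide +kernel
theorem h75 : ∀ i, i < T.N → Tab.relActOK T D chk75 i = true := by
  intro i hi
  rw [Tab.relActOK, ← act75_eq]
  exact (range_glue (range_of_allRange c75_0) (range_glue (range_of_allRange c75_1) (range_glue (range_of_allRange c75_2) (range_glue (range_of_allRange c75_3) (range_glue (range_of_allRange c75_4) (range_glue (range_of_allRange c75_5) (range_glue (range_of_allRange c75_6) (range_glue (range_of_allRange c75_7) (range_glue (range_of_allRange c75_8) (range_glue (range_of_allRange c75_9) (range_glue (range_of_allRange c75_10) (range_glue (range_of_allRange c75_11) (range_glue (range_of_allRange c75_12) (range_glue (range_of_allRange c75_13) (range_glue (range_of_allRange c75_14) (range_glue (range_of_allRange c75_15) (range_glue (range_of_allRange c75_16)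 (range_glue (range_of_allRange c75_17) (range_glue (range_of_allRange c75_18) (range_glue (range_of_allRange c75_19) (range_glue (range_of_allRange c75_20) (range_glue (range_of_allRange c75_21) (range_glue (range_of_allRange c75_22) (range_glue (range_of_allRange c75_23) (range_glue (range_of_allRange c75_24) (range_glue (range_of_allRange c75_25) (range_glue (range_of_allRange c75_26) (range_glue (range_of_allRange c75_27) (range_glue (range_of_allRange c75_28) (range_glue (range_of_allRange c75_29) (range_glue (range_of_allRange c75_30) (range_glue (range_of_allRange c75_31) (range_glue (range_of_allRange c75_32) (range_glue (range_of_allRange c75_33) (range_glue (range_of_allRange c75_34) (range_glue (range_of_allRange c75_35) (range_glue (range_of_allRange c75_36) (range_glue (range_of_allRange c75_37) (range_glue (range_of_allRange c75_38) (range_glue (range_of_allRange c75_39) (range_glue (range_of_allRange c75_40) (range_glue (range_of_allRange c75_41) (range_glue (range_of_allRange c75_42) (range_glue (range_of_allRange c75_43) (range_glue (range_of_allRange c75_44) (range_glue (range_of_allRange c75_45) (range_of_allRange c75_46)))))))))))))))))))))))))))))))))))))))))))))))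 i (Nat.zero_le _) hi

def chk85 : List Nat := [4, 2, 0, 0, 0, 3, 0, 2, 0, 0, 5, 0, 3, 3, 0, 3, 0, 3, 1]
noncomputable def act85 (i : Nat) : Nat := col5 (col3 (col1 (col1 (col1 (col2 (col1 (col3 (col1 (col1 (col4 (col1 (col2 (col2 (col1 (col2 (col1 (col2 (col0 (i)))))))))))))))))))
theorem act85_eq (i : Nat) : act85 i = Tab.act T D chk85 i := rfl
theorem c85_0 : allRange (fun i => Nat.beq (act85 i) i) 0 2857 = true := by decide +kernel
theorem c85_1 : allRange (fun i => Nat.beq (act85 i) i) 2857 2857 = true := by decide +kernel
theorem c85_2 : allRange (fun i => Nat.beq (act85 i) i) 5714 2857 = true := by decide +kernel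
theorem c85_3 : allRange (fun i => Nat.beq (act85 i) i) 8571 2857 = true := by decide +kernel
theorem c85_4 : allRange (fun i => Nat.beq (act85 i) i) 11428 2857 = true := by decide +kernel
theorem c85_5 : allRange (fun i => Nat.beq (act85 i) i) 14285 2857 = true := by decide +kernel
theorem c85_6 : allRange (fun i => Nat.beq (act85 i) i) 17142 2857 = true := by decide +kernel
theorem c85_7 : allRange (fun i => Nat.beq (act85 i) i) 19999 2857 = true := by decide +kernel
theorem c85_8 : allRange (fun i => Nat.beq (act85 i) i) 22856 2857 = true := by decide +kernel
theorem c85_9 : allRange (fun i => Nat.beq (act85 i) i) 25713 2857 = true := by decide +kernel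
theorem c85_10 : allRange (fun i => Nat.beq (act85 i) i) 28570 2857 = true := by decide +kernel
theorem c85_11 : allRange (fun i => Nat.beq (act85 i) i) 31427 2857 = true := by decide +kernel
theorem c85_12 : allRange (fun i => Nat.beq (act85 i) i) 34284 2857 = true := by decide +kernel
theorem c85_13 : allRange (fun i => Nat.beq (act85 i) i) 37141 2857 = true := by decide +kernel
theorem c85_14 : allRange (fun i => Nat.beq (act85 i) i) 39998 2857 = true := by decide +kernel
theorem c85_15 : allRange (fun i => Nat.beq (act85 i) i) 42855 2857 = true := by decide +kernel
theorem c85_16 : allRange (fun i => Nat.beq (act85 i) i) 45712 2857 = true := by decide +kernel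
theorem c85_17 : allRange (fun i => Nat.beq (act85 i) i) 48569 2857 = true := by decide +kernel
theorem c85_18 : allRange (fun i => Nat.beq (act85 i) i) 51426 2857 = true := by decide +kernel
theorem c85_19 : allRange (fun i => Nat.beq (act85 i) i) 54283 2857 = true := by decide +kernel
theorem c85_20 : allRange (fun i => Nat.beq (act85 i) i) 57140 2857 = true := by decide +kernel
theorem c85_21 : allRange (fun i => Nat.beq (act85 i) i) 59997 2857 = true := by decide +kernel
theorem c85_22 : allRange (fun i => Nat.beq (act85 i) i) 62854 2857 = true := by decide +kernel
theorem c85_23 : allRange (fun i => Nat.beq (act85 i) i) 65711 1114 = true := by decide +kernel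
theorem h85 : ∀ i, i < T.N → Tab.relActOK T D chk85 i = true := by
  intro i hi
  rw [Tab.relActOK, ← act85_eq]
  exact (range_glue (range_of_allRange c85_0) (range_glue (range_of_allRange c85_1) (range_glue (range_of_allRange c85_2) (range_glue (range_of_allRange c85_3) (range_glue (range_of_allRange c85_4) (range_glue (range_of_allRange c85_5) (range_glue (range_of_allRange c85_6) (range_glue (range_of_allRange c85_7) (range_glue (range_of_allRange c85_8) (range_glue (range_of_allRange c85_9) (range_glue (range_of_allRange c85_10) (range_glue (range_of_allRange c85_11) (range_glue (range_of_allRange c85_12) (range_glue (range_of_allRange c85_13) (range_glue (range_of_allRange c85_14) (range_glue (range_of_allRange c85_15) (range_glue (range_of_allRange c85_16) (range_glue (range_of_allRange c85_17) (range_glue (range_of_allRange c85_18) (range_glue (range_of_allRange c85_19) (range_glue (range_of_allRange c85_20) (range_glue (range_of_allRange c85_21) (range_glue (range_of_allRange c85_22) (range_of_allRange c85_23)))))))))))))))))))))))) i (Nat.zero_le _) hi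

def chk87 : List Nat := [0, 2, 1, 2, 1, 2, 2, 1, 0, 2, 1, 2, 1, 2, 2, 1, 0, 2, 1, 2, 1, 2, 2, 1, 0, 2, 1, 2, 1, 2, 2, 1]
noncomputable def act87 (i : Nat) : Nat := col1 (col3 (col0 (col3 (col0 (col3 (col3 (col0 (col1 (col3 (col0 (col3 (col0 (col3 (col3 (col0 (col1 (col3 (col0 (col3 (col0 (col3 (col3 (col0 (col1 (col3 (col0 (col3 (col0 (col3 (col3 (col0 (i))))))))))))))))))))))))))))))))
theorem act87_eq (i : Nat) : act87 i = Tab.act T D chk87 i := rfl
theorem c87_0 : allRange (fun i => Nat.beq (act87 i) i) 0 1764 = true := by decide +kernel
theorem c87_1 : allRange (fun i => Nat.beq (act87 i) i) 1764 1764 = true := by decide +kernel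
theorem c87_2 : allRange (fun i => Nat.beq (act87 i) i) 3528 1764 = true := by decide +kernel
theorem c87_3 : allRange (fun i => Nat.beq (act87 i) i) 5292 1764 = true := by decide +kernel
theorem c87_4 : allRange (fun i => Nat.beq (act87 i) i) 7056 1764 = true := by decide +kernel
theorem c87_5 : allRange (fun i => Nat.beq (act87 i) i) 8820 1764 = true := by decide +kernel
theorem c87_6 : allRange (fun i => Nat.beq (act87 i) i) 10584 1764 = true := by decide +kernel
theorem c87_7 : allRange (fun i => Nat.beq (act87 i) i) 12348 1764 = true := by decide +kernel
theorem c87_8 : allRange (fun i => Nat.beq (act87 i) i) 14112 1764 = true := by decide +kernel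
theorem c87_9 : allRange (fun i => Nat.beq (act87 i) i) 15876 1764 = true := by decide +kernel
theorem c87_10 : allRange (fun i => Nat.beq (act87 i) i) 17640 1764 = true := by decide +kernel
theorem c87_11 : allRange (fun i => Nat.beq (act87 i) i) 19404 1764 = true := by decide +kernel
theorem c87_12 : allRange (fun i => Nat.beq (act87 i) i) 21168 1764 = true := by decide +kernel
theorem c87_13 : allRange (fun i => Nat.beq (act87 i) i) 22932 1764 = true := by decide +kernel
theorem c87_14 : allRange (fun i => Nat.beq (act87 i) i) 24696 1764 = true := by decide +kernel
theorem c87_15 : allRange (fun i => Nat.beq (act87 i) i) 26460 1764 = true := by decide +kernel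
theorem c87_16 : allRange (fun i => Nat.beq (act87 i) i) 28224 1764 = true := by decide +kernel
theorem c87_17 : allRange (fun i => Nat.beq (act87 i) i) 29988 1764 = true := by decide +kernel
theorem c87_18 : allRange (fun i => Nat.beq (act87 i) i) 31752 1764 = true := by decide +kernel
theorem c87_19 : allRange (fun i => Nat.beq (act87 i) i) 33516 1764 = true := by decide +kernel
theorem c87_20 : allRange (fun i => Nat.beq (act87 i) i) 35280 1764 = true := by decide +kernel
theorem c87_21 : allRange (fun i => Nat.beq (act87 i) i) 37044 1764 = true := by decide +kernel
theorem c87_22 : allRange (fun i => Nat.beq (act87 i) i) 38808 1764 = true := by decide +kernel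
theorem c87_23 : allRange (fun i => Nat.beq (act87 i) i) 40572 1764 = true := by decide +kernel
theorem c87_24 : allRange (fun i => Nat.beq (act87 i) i) 42336 1764 = true := by decide +kernel
theorem c87_25 : allRange (fun i => Nat.beq (act87 i) i) 44100 1764 = true := by decide +kernel
theorem c87_26 : allRange (fun i => Nat.beq (act87 i) i) 45864 1764 = true := by decide +kernel
theorem c87_27 : allRange (fun i => Nat.beq (act87 i) i) 47628 1764 = true := by decide +kernel
theorem c87_28 : allRange (fun i => Nat.beq (act87 i) i) 49392 1764 = true := by decide +kernel
theorem c87_29 : allRange (fun i => Nat.beq (act87 i) i) 51156 1764 = true := by decide +kernel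
theorem c87_30 : allRange (fun i => Nat.beq (act87 i) i) 52920 1764 = true := by decide +kernel
theorem c87_31 : allRange (fun i => Nat.beq (act87 i) i) 54684 1764 = true := by decide +kernel
theorem c87_32 : allRange (fun i => Nat.beq (act87 i) i) 56448 1764 = true := by decide +kernel
theorem c87_33 : allRange (fun i => Nat.beq (act87 i) i) 58212 1764 = true := by decide +kernel
theorem c87_34 : allRange (fun i => Nat.beq (act87 i) i) 59976 1764 = true := by decide +kernel
theorem c87_35 : allRange (fun i => Nat.beq (act87 i) i) 61740 1764 = true := by decide +kernel
theorem c87_36 : allRange (fun i => Nat.beq (act87 i) i) 63504 1764 = true := by decide +kernel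
theorem c87_37 : allRange (fun i => Nat.beq (act87 i) i) 65268 1557 = true := by decide +kernel
theorem h87 : ∀ i, i < T.N → Tab.relActOK T D chk87 i = true := by
  intro i hi
  rw [Tab.relActOK, ← act87_eq]
  exact (range_glue (range_of_allRange c87_0) (range_glue (range_of_allRange c87_1) (range_glue (range_of_allRange c87_2) (range_glue (range_of_allRange c87_3) (range_glue (range_of_allRange c87_4) (range_glue (range_of_allRange c87_5) (range_glue (range_of_allRange c87_6) (range_glue (range_of_allRange c87_7) (range_glue (range_of_allRange c87_8) (range_glue (range_of_allRange c87_9) (range_glue (range_of_allRange c87_10) (range_glue (range_of_allRange c87_11) (range_glue (range_of_allRange c87_12) (range_glue (range_of_allRange c87_13) (range_glue (range_of_allRange c87_14) (range_glue (range_of_allRange c87_15) (range_glue (range_of_allRange c87_16) (range_glue (range_of_allRange c87_17) (range_glue (range_of_allRange c87_18) (range_glue (range_of_allRange c87_19) (range_glue (range_of_allRange c87_20) (range_glue (range_of_allRange c87_21) (range_glue (range_of_allRange c87_22) (range_glue (range_of_allRange c87_23) (range_glue (range_of_allRange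 c87_24) (range_glue (range_of_allRange c87_25) (range_glue (range_of_allRange c87_26) (range_glue (range_of_allRange c87_27) (range_glue (range_of_allRange c87_28) (range_glue (range_of_allRange c87_29) (range_glue (range_of_allRange c87_30) (range_glue (range_of_allRange c87_31) (range_glue (range_of_allRange c87_32) (range_glue (range_of_allRange c87_33) (range_glue (range_of_allRange c87_34) (range_glue (range_of_allRange c87_35) (range_glue (range_of_allRange c87_36) (range_of_allRange c87_37)))))))))))))))))))))))))))))))))))))) i (Nat.zero_le _) hi

end Cfsg.Agent.Lib.Helper4.TCD.SC3McLp3W
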