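import Cfsg.Agent.Lib.Helper4.TCD_C3McLR_Acc
import Cfsg.Agent.Lib.Helper4.TC13

namespace Cfsg.Agent.Lib.Helper4.TCD.SC3McLp3W

open Cfsg.Agent.Lib.Helper4.TC Cfsg.Agent.Lib.Helper4.TCD.C3McLR

set_option maxRecDepth 100000
set_option Elab.async false

def chk21 : List Nat := [1, 1, 3, 1, 1, 3, 1, 2, 1, 1, 1, 3, 1, 1, 3, 1, 2, 1, 1, 1, 3, 1, 1, 3, 1, 2, 1, 1, 1, 3, 1, 1, 3, 1, 2, 1]
noncomputable def act21 (i : Nat) : Nat := col0 (col0 (col2 (col0 (col0 (col2 (col0 (col3 (col0 (col0 (col0 (col2 (col0 (col0 (col2 (col0 (col3 (col0 (col0 (col0 (col2 (col0 (col0 (col2 (col0 (col3 (col0 (col0 (col0 (col2 (col0 (col0 (col2 (col0 (col3 (col0 (i))))))))))))))))))))))))))))))))))))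
theorem act21_eq (i : Nat) : act21 i = Tab.act T D chk21 i := rfl
theorem c21_0 : allRange (fun i => Nat.beq (act21 i) i) 0 1578 = true := by decide +kernel
theorem c21_1 : allRange (fun i => Nat.beq (act21 i) i) 1578 1578 = true := by decide +kernel
theorem c21_2 : allRange (fun i => Nat.beq (act21 i) i) 3156 1578 = true := by decide +kernel
theorem c21_3 : allRange (fun i => Nat.beq (act21 i) i) 4734 1578 = true := by decide +kernel
theorem c21_4 : allRange (fun i => Nat.beq (act21 i) i) 6312 1578 = true := by decide +kernel
theorem c21_5 : allRange (fun i => Nat.beq (act21 i) i) 7890 1578 = true := by decide +kernel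
theorem c21_6 : allRange (fun i => Nat.beq (act21 i) i) 9468 1578 = true := by decide +kernel
theorem c21_7 : allRange (fun i => Nat.beq (act21 i) i) 11046 1578 = true := by decide +kernel
theorem c21_8 : allRange (fun i => Nat.beq (act21 i) i) 12624 1578 = true := by decide +kernel
theorem c21_9 : allRange (fun i => Nat.beq (act21 i) i) 14202 1578 = true := by decide +kernel
theorem c21_10 : allRange (fun i => Nat.beq (act21 i) i) 15780 1578 = true := by decide +kernel
theorem c21_11 : allRange (fun i => Nat.beq (act21 i) i) 17358 1578 = true := by decide +kernel
theorem c21_12 : allRange (fun i => Nat.beq (act21 i) i) 18936 1578 = true := by decide +kernel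
theorem c21_13 : allRange (fun i => Nat.beq (act21 i) i) 20514 1578 = true := by decide +kernel
theorem c21_14 : allRange (fun i => Nat.beq (act21 i) i) 22092 1578 = true := by decide +kernel
theorem c21_15 : allRange (fun i => Nat.beq (act21 i) i) 23670 1578 = true := by decide +kernel
theorem c21_16 : allRange (fun i => Nat.beq (act21 i) i) 25248 1578 = true := by decide +kernel
theorem c21_17 : allRange (fun i => Nat.beq (act21 i) i) 26826 1578 = true := by decide +kernel
theorem c21_18 : allRange (fun i => Nat.beq (act21 i) i) 28404 1578 = true := by decide +kernel
theorem c21_19 : allRange (fun i => Nat.beq (act21 i) i) 29982 1578 = true := by decide +kernel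
theorem c21_20 : allRange (fun i => Nat.beq (act21 i) i) 31560 1578 = true := by decide +kernel
theorem c21_21 : allRange (fun i => Nat.beq (act21 i) i) 33138 1578 = true := by decide +kernel
theorem c21_22 : allRange (fun i => Nat.beq (act21 i) i) 34716 1578 = true := by decide +kernel
theorem c21_23 : allRange (fun i => Nat.beq (act21 i) i) 36294 1578 = true := by decide +kernel
theorem c21_24 : allRange (fun i => Nat.beq (act21 i) i) 37872 1578 = true := by decide +kernel
theorem c21_25 : allRange (fun i => Nat.beq (act21 i) i) 39450 1578 = true := by decide +kernel
theorem c21_26 : allRange (fun i => Nat.beq (act21 i) i) 41028 1578 = true := by decide +kernel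
theorem c21_27 : allRange (fun i => Nat.beq (act21 i) i) 42606 1578 = true := by decide +kernel
theorem c21_28 : allRange (fun i => Nat.beq (act21 i) i) 44184 1578 = true := by decide +kernel
theorem c21_29 : allRange (fun i => Nat.beq (act21 i) i) 45762 1578 = true := by decide +kernel
theorem c21_30 : allRange (fun i => Nat.beq (act21 i) i) 47340 1578 = true := by decide +kernel
theorem c21_31 : allRange (fun i => Nat.beq (act21 i) i) 48918 1578 = true := by decide +kernel
theorem c21_32 : allRange (fun i => Nat.beq (act21 i) i) 50496 1578 = true := by decide +kernel
theorem c21_33 : allRange (fun i => Nat.beq (act21 i) i) 52074 1578 = true := by decide +kernel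
theorem c21_34 : allRange (fun i => Nat.beq (act21 i) i) 53652 1578 = true := by decide +kernel
theorem c21_35 : allRange (fun i => Nat.beq (act21 i) i) 55230 1578 = true := by decide +kernel
theorem c21_36 : allRange (fun i => Nat.beq (act21 i) i) 56808 1578 = true := by decide +kernel
theorem c21_37 : allRange (fun i => Nat.beq (act21 i) i) 58386 1578 = true := by decide +kernel
theorem c21_38 : allRange (fun i => Nat.beq (act21 i) i) 59964 1578 = true := by decide +kernel
theorem c21_39 : allRange (fun i => Nat.beq (act21 i) i) 61542 1578 = true := by decide +kernel
theorem c21_40 : allRange (fun i => Nat.beq (act21 i) i) 63120 1578 = true := by decide +kernel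
theorem c21_41 : allRange (fun i => Nat.beq (act21 i) i) 64698 1578 = true := by decide +kernel
theorem c21_42 : allRange (fun i => Nat.beq (act21 i) i) 66276 549 = true := by decide +kernel
theorem h21 : ∀ i, i < T.N → Tab.relActOK T D chk21 i = true := by
  intro i hi
  rw [Tab.relActOK, ← act21_eq]
  exact (range_glue (range_of_allRange c21_0) (range_glue (range_of_allRange c21_1) (range_glue (range_of_allRange c21_2) (range_glue (range_of_allRange c21_3) (range_glue (range_of_allRange c21_4) (range_glue (range_of_allRange c21_5) (range_glue (range_of_allRange c21_6) (range_glue (range_of_allRange c21_7) (range_glue (range_of_allRange c21_8) (range_glue (range_of_allRange c21_9) (range_glue (range_of_allRange c21_10) (range_glue (range_of_allRange c21_11) (range_glue (range_of_allRange c21_12) (range_glue (range_of_allRange c21_13) (range_glue (range_of_allRange c21_14) (range_glue (range_of_allRange c21_15) (range_glue (range_of_allRange c21_16) (range_glue (range_of_allRange c21_17) (range_glue (range_of_allRange c21_18) (range_glue (range_of_allRange c21_19) (range_glue (range_of_allRange c21_20) (range_glue (range_of_allRange c21_21)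 (range_glue (range_of_allRange c21_22) (range_glue (range_of_allRange c21_23) (range_glue (range_of_allRange c21_24) (range_glue (range_of_allRange c21_25) (range_glue (range_of_allRange c21_26) (range_glue (range_of_allRange c21_27) (range_glue (range_of_allRange c21_28) (range_glue (range_of_allRange c21_29) (range_glue (range_of_allRange c21_30) (range_glue (range_of_allRange c21_31) (range_glue (range_of_allRange c21_32) (range_glue (range_of_allRange c21_33) (range_glue (range_of_allRange c21_34) (range_glue (range_of_allRange c21_35) (range_glue (range_of_allRange c21_36) (range_glue (range_of_allRange c21_37) (range_glue (range_of_allRange c21_38) (range_glue (range_of_allRange c21_39) (range_glue (range_of_allRange c21_40) (range_glue (range_of_allRange c21_41) (range_of_allRange c21_42))))))))))))))))))))))))))))))))))))))))))) i (Nat.zero_le _) hi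

def chk22 : List Nat := [4, 2, 1, 3, 0, 0, 2, 0, 5, 1, 3, 1, 3, 0, 3, 3, 1, 1]
noncomputable def act22 (i : Nat) : Nat := col5 (col3 (col0 (col2 (col1 (col1 (col3 (col1 (col4 (col0 (col2 (col0 (col2 (col1 (col2 (col2 (col0 (col0 (i))))))))))))))))))
theorem act22_eq (i : Nat) : act22 i = Tab.act T D chk22 i := rfl
theorem c22_0 : allRange (fun i => Nat.beq (act22 i) i) 0 3000 = true := by decide +kernel
theorem c22_1 : allRange (fun i => Nat.beq (act22 i) i) 3000 3000 = true := by decide +kernel
theorem c22_2 : allRange (fun i => Nat.beq (act22 i) i) 6000 3000 = true := by decide +kernel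
theorem c22_3 : allRange (fun i => Nat.beq (act22 i) i) 9000 3000 = true := by decide +kernel
theorem c22_4 : allRange (fun i => Nat.beq (act22 i) i) 12000 3000 = true := by decide +kernel
theorem c22_5 : allRange (fun i => Nat.beq (act22 i) i) 15000 3000 = true := by decide +kernel
theorem c22_6 : allRange (fun i => Nat.beq (act22 i) i) 18000 3000 = true := by decide +kernel
theorem c22_7 : allRange (fun i => Nat.beq (act22 i) i) 21000 3000 = true := by decide +kernel
theorem c22_8 : allRange (fun i => Nat.beq (act22 i) i) 24000 3000 = true := by decide +kernel
theorem c22_9 : allRange (fun i => Nat.beq (act22 i) i) 27000 3000 = true := by decide +kernel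
theorem c22_10 : allRange (fun i => Nat.beq (act22 i) i) 30000 3000 = true := by decide +kernel
theorem c22_11 : allRange (fun i => Nat.beq (act22 i) i) 33000 3000 = true := by decide +kernel
theorem c22_12 : allRange (fun i => Nat.beq (act22 i) i) 36000 3000 = true := by decide +kernel
theorem c22_13 : allRange (fun i => Nat.beq (act22 i) i) 39000 3000 = true := by decide +kernel
theorem c22_14 : allRange (fun i => Nat.beq (act22 i) i) 42000 3000 = true := by decide +kernel
theorem c22_15 : allRange (fun i => Nat.beq (act22 i) i) 45000 3000 = true := by decide +kernel
theorem c22_16 : allRange (fun i => Nat.beq (act22 i) i) 48000 3000 = true := by decide +kernel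
theorem c22_17 : allRange (fun i => Nat.beq (act22 i) i) 51000 3000 = true := by decide +kernel
theorem c22_18 : allRange (fun i => Nat.beq (act22 i) i) 54000 3000 = true := by decide +kernel
theorem c22_19 : allRange (fun i => Nat.beq (act22 i) i) 57000 3000 = true := by decide +kernel
theorem c22_20 : allRange (fun i => Nat.beq (act22 i) i) 60000 3000 = true := by decide +kernel
theorem c22_21 : allRange (fun i => Nat.beq (act22 i) i) 63000 3000 = true := by decide +kernel
theorem c22_22 : allRange (fun i => Nat.beq (act22 i) i) 66000 825 = true := by decide +kernel
theorem h22 : ∀ i, i < T.N → Tab.relActOK T D chk22 i = true := by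
  intro i hi
  rw [Tab.relActOK, ← act22_eq]
  exact (range_glue (range_of_allRange c22_0) (range_glue (range_of_allRange c22_1) (range_glue (range_of_allRange c22_2) (range_glue (range_of_allRange c22_3) (range_glue (range_of_allRange c22_4) (range_glue (range_of_allRange c22_5) (range_glue (range_of_allRange c22_6) (range_glue (range_of_allRange c22_7) (range_glue (range_of_allRange c22_8) (range_glue (range_of_allRange c22_9) (range_glue (range_of_allRange c22_10) (range_glue (range_of_allRange c22_11) (range_glue (range_of_allRange c22_12) (range_glue (range_of_allRange c22_13) (range_glue (range_of_allRange c22_14) (range_glue (range_of_allRange c22_15) (range_glue (range_of_allRange c22_16) (range_glue (range_of_allRange c22_17) (range_glue (range_of_allRange c22_18) (range_glue (range_of_allRange c22_19) (range_glue (range_of_allRange c22_20) (range_glue (range_of_allRange c22_21) (range_of_allRange c22_22))))))))))))))))))))))) i (Nat.zero_le _) hi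

def chk38 : List Nat := [0, 0, 3, 0, 0, 0, 2, 0, 0, 0, 3, 0, 0, 0, 2, 0, 0, 0, 3, 0, 0, 0, 2, 0, 0, 0, 3, 0, 0, 0, 2, 0]
noncomputable def act38 (i : Nat) : Nat := col1 (col1 (col2 (col1 (col1 (col1 (col3 (col1 (col1 (col1 (col2 (col1 (col1 (col1 (col3 (col1 (col1 (col1 (col2 (col1 (col1 (col1 (col3 (col1 (col1 (col1 (col2 (col1 (col1 (col1 (col3 (col1 (i))))))))))))))))))))))))))))))))
theorem act38_eq (i : Nat) : act38 i = Tab.act T D chk38 i := rfl
theorem c38_0 : allRange (fun i => Nat.beq (act38 i) i) 0 1764 = true := by decide +kernel
theorem c38_1 : allRange (fun i => Nat.beq (act38 i) i) 1764 1764 = true := by decide +kernel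
theorem c38_2 : allRange (fun i => Nat.beq (act38 i) i) 3528 1764 = true := by decide +kernel
theorem c38_3 : allRange (fun i => Nat.beq (act38 i) i) 5292 1764 = true := by decide +kernel
theorem c38_4 : allRange (fun i => Nat.beq (act38 i) i) 7056 1764 = true := by decide +kernel
theorem c38_5 : allRange (fun i => Nat.beq (act38 i) i) 8820 1764 = true := by decide +kernel
theorem c38_6 : allRange (fun i => Nat.beq (act38 i) i) 10584 1764 = true := by decide +kernel
theorem c38_7 : allRange (fun i => Nat.beq (act38 i) i) 12348 1764 = true := by decide +kernel
theorem c38_8 : allRange (fun i => Nat.beq (act38 i) i) 14112 1764 = true := by decide +kernel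
theorem c38_9 : allRange (fun i => Nat.beq (act38 i) i) 15876 1764 = true := by decide +kernel
theorem c38_10 : allRange (fun i => Nat.beq (act38 i) i) 17640 1764 = true := by decide +kernel
theorem c38_11 : allRange (fun i => Nat.beq (act38 i) i) 19404 1764 = true := by decide +kernel
theorem c38_12 : allRange (fun i => Nat.beq (act38 i) i) 21168 1764 = true := by decide +kernel
theorem c38_13 : allRange (fun i => Nat.beq (act38 i) i) 22932 1764 = true := by decide +kernel
theorem c38_14 : allRange (fun i => Nat.beq (act38 i) i) 24696 1764 = true := by decide +kernel
theorem c38_15 : allRange (fun i => Nat.beq (act38 i) i) 26460 1764 = true := by decide +kernel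
theorem c38_16 : allRange (fun i => Nat.beq (act38 i) i) 28224 1764 = true := by decide +kernel
theorem c38_17 : allRange (fun i => Nat.beq (act38 i) i) 29988 1764 = true := by decide +kernel
theorem c38_18 : allRange (fun i => Nat.beq (act38 i) i) 31752 1764 = true := by decide +kernel
theorem c38_19 : allRange (fun i => Nat.beq (act38 i) i) 33516 1764 = true := by decide +kernel
theorem c38_20 : allRange (fun i => Nat.beq (act38 i) i) 35280 1764 = true := by decide +kernel
theorem c38_21 : allRange (fun i => Nat.beq (act38 i) i) 37044 1764 = true := by decide +kernel
theorem c38_22 : allRange (fun i => Nat.beq (act38 i) i) 38808 1764 = true := by decide +kernel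
theorem c38_23 : allRange (fun i => Nat.beq (act38 i) i) 40572 1764 = true := by decide +kernel
theorem c38_24 : allRange (fun i => Nat.beq (act38 i) i) 42336 1764 = true := by decide +kernel
theorem c38_25 : allRange (fun i => Nat.beq (act38 i) i) 44100 1764 = true := by decide +kernel
theorem c38_26 : allRange (fun i => Nat.beq (act38 i) i) 45864 1764 = true := by decide +kernel
theorem c38_27 : allRange (fun i => Nat.beq (act38 i) i) 47628 1764 = true := by decide +kernel
theorem c38_28 : allRange (fun i => Nat.beq (act38 i) i) 49392 1764 = true := by decide +kernel
theorem c38_29 : allRange (fun i => Nat.beq (act38 i) i) 51156 1764 = true := by decide +kernel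
theorem c38_30 : allRange (fun i => Nat.beq (act38 i) i) 52920 1764 = true := by decide +kernel
theorem c38_31 : allRange (fun i => Nat.beq (act38 i) i) 54684 1764 = true := by decide +kernel
theorem c38_32 : allRange (fun i => Nat.beq (act38 i) i) 56448 1764 = true := by decide +kernel
theorem c38_33 : allRange (fun i => Nat.beq (act38 i) i) 58212 1764 = true := by decide +kernel
theorem c38_34 : allRange (fun i => Nat.beq (act38 i) i) 59976 1764 = true := by decide +kernel
theorem c38_35 : allRange (fun i => Nat.beq (act38 i) i) 61740 1764 = true := by decide +kernel
theorem c38_36 : allRange (fun i => Nat.beq (act38 i) i) 63504 1764 = true := by decide +kernel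
theorem c38_37 : allRange (fun i => Nat.beq (act38 i) i) 65268 1557 = true := by decide +kernel
theorem h38 : ∀ i, i < T.N → Tab.relActOK T D chk38 i = true := by
  intro i hi
  rw [Tab.relActOK, ← act38_eq]
  exact (range_glue (range_of_allRange c38_0) (range_glue (range_of_allRange c38_1) (range_glue (range_of_allRange c38_2) (range_glue (range_of_allRange c38_3) (range_glue (range_of_allRange c38_4) (range_glue (range_of_allRange c38_5) (range_glue (range_of_allRange c38_6) (range_glue (range_of_allRange c38_7) (range_glue (range_of_allRange c38_8) (range_glue (range_of_allRange c38_9) (range_glue (range_of_allRange c38_10) (range_glue (range_of_allRange c38_11) (range_glue (range_of_allRange c38_12) (range_glue (range_of_allRange c38_13) (range_glue (range_of_allRange c38_14) (range_glue (range_of_allRange c38_15) (range_glue (range_of_allRange c38_16) (range_glue (range_of_allRange c38_17) (range_glue (range_of_allRange c38_18) (range_glue (range_of_allRange c38_19) (range_glue (range_of_allRange c38_20) (range_glue (range_of_allRange c38_21) (range_glue (range_of_allRange c38_22) (range_glue (range_of_allRange c38_23) (range_glue (range_of_allRange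 c38_24) (range_glue (range_of_allRange c38_25) (range_glue (range_of_allRange c38_26) (range_glue (range_of_allRange c38_27) (range_glue (range_of_allRange c38_28) (range_glue (range_of_allRange c38_29) (range_glue (range_of_allRange c38_30) (range_glue (range_of_allRange c38_31) (range_glue (range_of_allRange c38_32) (range_glue (range_of_allRange c38_33) (range_glue (range_of_allRange c38_34) (range_glue (range_of_allRange c38_35) (range_glue (range_of_allRange c38_36) (range_of_allRange c38_37)))))))))))))))))))))))))))))))))))))) i (Nat.zero_le _) hi

def chk52 : List Nat := [4, 1, 2, 1, 3, 3, 0, 2, 1, 3, 0, 5, 0, 0, 2, 1, 3, 3]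
noncomputable def act52 (i : Nat) : Nat := col5 (col0 (col3 (col0 (col2 (col2 (col1 (col3 (col0 (col2 (col1 (col4 (col1 (col1 (col3 (col0 (col2 (col2 (i))))))))))))))))))
theorem act52_eq (i : Nat) : act52 i = Tab.act T D chk52 i := rfl
theorem c52_0 : allRange (fun i => Nat.beq (act52 i) i) 0 3000 = true := by decide +kernel
theorem c52_1 : allRange (fun i => Nat.beq (act52 i) i) 3000 3000 = true := by decide +kernel
theorem c52_2 : allRange (fun i => Nat.beq (act52 i) i) 6000 3000 = true := by decide +kernel
theorem c52_3 : allRange (fun i => Nat.beq (act52 i) i) 9000 3000 = true := by decide +kernel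
theorem c52_4 : allRange (fun i => Nat.beq (act52 i) i) 12000 3000 = true := by decide +kernel
theorem c52_5 : allRange (fun i => Nat.beq (act52 i) i) 15000 3000 = true := by decide +kernel
theorem c52_6 : allRange (fun i => Nat.beq (act52 i) i) 18000 3000 = true := by decide +kernel
theorem c52_7 : allRange (fun i => Nat.beq (act52 i) i) 21000 3000 = true := by decide +kernel
theorem c52_8 : allRange (fun i => Nat.beq (act52 i) i) 24000 3000 = true := by decide +kernel
theorem c52_9 : allRange (fun i => Nat.beq (act52 i) i) 27000 3000 = true := by decide +kernel
theorem c52_10 : allRange (fun i => Nat.beq (act52 i) i) 30000 3000 = true := by decide +kernel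
theorem c52_11 : allRange (fun i => Nat.beq (act52 i) i) 33000 3000 = true := by decide +kernel
theorem c52_12 : allRange (fun i => Nat.beq (act52 i) i) 36000 3000 = true := by decide +kernel
theorem c52_13 : allRange (fun i => Nat.beq (act52 i) i) 39000 3000 = true := by decide +kernel
theorem c52_14 : allRange (fun i => Nat.beq (act52 i) i) 42000 3000 = true := by decide +kernel
theorem c52_15 : allRange (fun i => Nat.beq (act52 i) i) 45000 3000 = true := by decide +kernel
theorem c52_16 : allRange (fun i => Nat.beq (act52 i) i) 48000 3000 = true := by decide +kernel
theorem c52_17 : allRange (fun i => Nat.beq (act52 i) i) 51000 3000 = true := by decide +kernel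
theorem c52_18 : allRange (fun i => Nat.beq (act52 i) i) 54000 3000 = true := by decide +kernel
theorem c52_19 : allRange (fun i => Nat.beq (act52 i) i) 57000 3000 = true := by decide +kernel
theorem c52_20 : allRange (fun i => Nat.beq (act52 i) i) 60000 3000 = true := by decide +kernel
theorem c52_21 : allRange (fun i => Nat.beq (act52 i) i) 63000 3000 = true := by decide +kernel
theorem c52_22 : allRange (fun i => Nat.beq (act52 i) i) 66000 825 = true := by decide +kernel
theorem h52 : ∀ i, i < T.N → Tab.relActOK T D chk52 i = true := by
  intro i hi
  rw [Tab.relActOK, ← act52_eq]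
  exact (range_glue (range_of_allRange c52_0) (range_glue (range_of_allRange c52_1) (range_glue (range_of_allRange c52_2) (range_glue (range_of_allRange c52_3) (range_glue (range_of_allRange c52_4) (range_glue (range_of_allRange c52_5) (range_glue (range_of_allRange c52_6) (range_glue (range_of_allRange c52_7) (range_glue (range_of_allRange c52_8) (range_glue (range_of_allRange c52_9) (range_glue (range_of_allRange c52_10) (range_glue (range_of_allRange c52_11) (range_glue (range_of_allRange c52_12) (range_glue (range_of_allRange c52_13) (range_glue (range_of_allRange c52_14) (range_glue (range_of_allRange c52_15) (range_glue (range_of_allRange c52_16) (range_glue (range_of_allRange c52_17) (range_glue (range_of_allRange c52_18) (range_glue (range_of_allRange c52_19) (range_glue (range_of_allRange c52_20) (range_glue (range_of_allRange c52_21) (range_of_allRange c52_22))))))))))))))))))))))) i (Nat.zero_le _) hi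

def chk60 : List Nat := [2, 2, 0, 3, 1, 1, 2, 2, 0, 3, 1, 1, 2, 2, 0, 3, 1, 1, 2, 2, 0, 3, 1, 1]
noncomputable def act60 (i : Nat) : Nat := col3 (col3 (col1 (col2 (col0 (col0 (col3 (col3 (col1 (col2 (col0 (col0 (col3 (col3 (col1 (col2 (col0 (col0 (col3 (col3 (col1 (col2 (col0 (col0 (i))))))))))))))))))))))))
theorem act60_eq (i : Nat) : act60 i = Tab.act T D chk60 i := rfl
theorem c60_0 : allRange (fun i => Nat.beq (act60 i) i) 0 2307 = true := by decide +kernel
theorem c60_1 : allRange (fun i => Nat.beq (act60 i) i) 2307 2307 = true := by decide +kernel
theorem c60_2 : allRange (fun i => Nat.beq (act60 i) i) 4614 2307 = true := by decide +kernel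
theorem c60_3 : allRange (fun i => Nat.beq (act60 i) i) 6921 2307 = true := by decide +kernel
theorem c60_4 : allRange (fun i => Nat.beq (act60 i) i) 9228 2307 = true := by decide +kernel
theorem c60_5 : allRange (fun i => Nat.beq (act60 i) i) 11535 2307 = true := by decide +kernel
theorem c60_6 : allRange (fun i => Nat.beq (act60 i) i) 13842 2307 = true := by decide +kernel
theorem c60_7 : allRange (fun i => Nat.beq (act60 i) i) 16149 2307 = true := by decide +kernel
theorem c60_8 : allRange (fun i => Nat.beq (act60 i) i) 18456 2307 = true := by decide +kernel
theorem c60_9 : allRange (fun i => Nat.beq (act60 i) i) 20763 2307 = true := by decide +kernel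
theorem c60_10 : allRange (fun i => Nat.beq (act60 i) i) 23070 2307 = true := by decide +kernel
theorem c60_11 : allRange (fun i => Nat.beq (act60 i) i) 25377 2307 = true := by decide +kernel
theorem c60_12 : allRange (fun i => Nat.beq (act60 i) i) 27684 2307 = true := by decide +kernel
theorem c60_13 : allRange (fun i => Nat.beq (act60 i) i) 29991 2307 = true := by decide +kernel
theorem c60_14 : allRange (fun i => Nat.beq (act60 i) i) 32298 2307 = true := by decide +kernel
theorem c60_15 : allRange (fun i => Nat.beq (act60 i) i) 34605 2307 = true := by decide +kernel
theorem c60_16 : allRange (fun i => Nat.beq (act60 i) i) 36912 2307 = true := by decide +kernel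
theorem c60_17 : allRange (fun i => Nat.beq (act60 i) i) 39219 2307 = true := by decide +kernel
theorem c60_18 : allRange (fun i => Nat.beq (act60 i) i) 41526 2307 = true := by decide +kernel
theorem c60_19 : allRange (fun i => Nat.beq (act60 i) i) 43833 2307 = true := by decide +kernel
theorem c60_20 : allRange (fun i => Nat.beq (act60 i) i) 46140 2307 = true := by decide +kernel
theorem c60_21 : allRange (fun i => Nat.beq (act60 i) i) 48447 2307 = true := by decide +kernel
theorem c60_22 : allRange (fun i => Nat.beq (act60 i) i) 50754 2307 = true := by decide +kernel
theorem c60_23 : allRange (fun i => Nat.beq (act60 i) i) 53061 2307 = true := by decide +kernel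
theorem c60_24 : allRange (fun i => Nat.beq (act60 i) i) 55368 2307 = true := by decide +kernel
theorem c60_25 : allRange (fun i => Nat.beq (act60 i) i) 57675 2307 = true := by decide +kernel
theorem c60_26 : allRange (fun i => Nat.beq (act60 i) i) 59982 2307 = true := by decide +kernel
theorem c60_27 : allRange (fun i => Nat.beq (act60 i) i) 62289 2307 = true := by decide +kernel
theorem c60_28 : allRange (fun i => Nat.beq (act60 i) i) 64596 2229 = true := by decide +kernel
theorem h60 : ∀ i, i < T.N → Tab.relActOK T D chk60 i = true := by
  intro i hi
  rw [Tab.relActOK, ← act60_eq]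
  exact (range_glue (range_of_allRange c60_0) (range_glue (range_of_allRange c60_1) (range_glue (range_of_allRange c60_2) (range_glue (range_of_allRange c60_3) (range_glue (range_of_allRange c60_4) (range_glue (range_of_allRange c60_5) (range_glue (range_of_allRange c60_6) (range_glue (range_of_allRange c60_7) (range_glue (range_of_allRange c60_8) (range_glue (range_of_allRange c60_9) (range_glue (range_of_allRange c60_10) (range_glue (range_of_allRange c60_11) (range_glue (range_of_allRange c60_12) (range_glue (range_of_allRange c60_13) (range_glue (range_of_allRange c60_14) (range_glue (range_of_allRange c60_15) (range_glue (range_of_allRange c60_16) (range_glue (range_of_allRange c60_17) (range_glue (range_of_allRange c60_18) (range_glue (range_of_allRange c60_19) (range_glue (range_of_allRange c60_20) (range_glue (range_of_allRange c60_21) (range_glue (range_of_allRange c60_22) (range_glue (range_of_allRange c60_23) (range_glue (range_of_allRange c60_24) (range_glue (range_of_allRange c60_25) (range_glue (range_of_allRange c60_26) (range_glue (range_of_allRange c60_27) (range_of_allRange c60_28))))))))))))))))))))))))))))) i (Nat.zero_le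 _) hi

def chk68 : List Nat := [1, 2, 0, 2, 2, 1, 3, 1, 2, 0, 2, 2, 1, 3]
noncomputable def act68 (i : Nat) : Nat := col0 (col3 (col1 (col3 (col3 (col0 (col2 (col0 (col3 (col1 (col3 (col3 (col0 (col2 (i))))))))))))))
theorem act68_eq (i : Nat) : act68 i = Tab.act T D chk68 i := rfl
theorem c68_0 : allRange (fun i => Nat.beq (act68 i) i) 0 3750 = true := by decide +kernel
theorem c68_1 : allRange (fun i => Nat.beq (act68 i) i) 3750 3750 = true := by decide +kernel
theorem c68_2 : allRange (fun i => Nat.beq (act68 i) i) 7500 3750 = true := by decide +kernel
theorem c68_3 : allRange (fun i => Nat.beq (act68 i) i) 11250 3750 = true := by decide +kernel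
theorem c68_4 : allRange (fun i => Nat.beq (act68 i) i) 15000 3750 = true := by decide +kernel
theorem c68_5 : allRange (fun i => Nat.beq (act68 i) i) 18750 3750 = true := by decide +kernel
theorem c68_6 : allRange (fun i => Nat.beq (act68 i) i) 22500 3750 = true := by decide +kernel
theorem c68_7 : allRange (fun i => Nat.beq (act68 i) i) 26250 3750 = true := by decide +kernel
theorem c68_8 : allRange (fun i => Nat.beq (act68 i) i) 30000 3750 = true := by decide +kernel
theorem c68_9 : allRange (fun i => Nat.beq (act68 i) i) 33750 3750 = true := by decide +kernel
theorem c68_10 : allRange (fun i => Nat.beq (act68 i) i) 37500 3750 = true := by decide +kernel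
theorem c68_11 : allRange (fun i => Nat.beq (act68 i) i) 41250 3750 = true := by decide +kernel
theorem c68_12 : allRange (fun i => Nat.beq (act68 i) i) 45000 3750 = true := by decide +kernel
theorem c68_13 : allRange (fun i => Nat.beq (act68 i) i) 48750 3750 = true := by decide +kernel
theorem c68_14 : allRange (fun i => Nat.beq (act68 i) i) 52500 3750 = true := by decide +kernel
theorem c68_15 : allRange (fun i => Nat.beq (act68 i) i) 56250 3750 = true := by decide +kernel
theorem c68_16 : allRange (fun i => Nat.beq (act68 i) i) 60000 3750 = true := by decide +kernel
theorem c68_17 : allRange (fun i => Nat.beq (act68 i) i) 63750 3075 = true := by decide +kernel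
theorem h68 : ∀ i, i < T.N → Tab.relActOK T D chk68 i = true := by
  intro i hi
  rw [Tab.relActOK, ← act68_eq]
  exact (range_glue (range_of_allRange c68_0) (range_glue (range_of_allRange c68_1) (range_glue (range_of_allRange c68_2) (range_glue (range_of_allRange c68_3) (range_glue (range_of_allRange c68_4) (range_glue (range_of_allRange c68_5) (range_glue (range_of_allRange c68_6) (range_glue (range_of_allRange c68_7) (range_glue (range_of_allRange c68_8) (range_glue (range_of_allRange c68_9) (range_glue (range_of_allRange c68_10) (range_glue (range_of_allRange c68_11) (range_glue (range_of_allRange c68_12) (range_glue (range_of_allRange c68_13) (range_glue (range_of_allRange c68_14) (range_glue (range_of_allRange c68_15) (range_glue (range_of_allRange c68_16) (range_of_allRange c68_17)))))))))))))))))) i (Nat.zero_le _) hi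

def chk70 : List Nat := [4, 1, 3, 1, 3, 1, 1, 2, 5, 1, 3, 1, 2, 1, 2, 1, 3, 1, 3]
noncomputable def act70 (i : Nat) : Nat := col5 (col0 (col2 (col0 (col2 (col0 (col0 (col3 (col4 (col0 (col2 (col0 (col3 (col0 (col3 (col0 (col2 (col0 (col2 (i)))))))))))))))))))
theorem act70_eq (i : Nat) : act70 i = Tab.act T D chk70 i := rfl
theorem c70_0 : allRange (fun i => Nat.beq (act70 i) i) 0 2857 = true := by decide +kernel
theorem c70_1 : allRange (fun i => Nat.beq (act70 i) i) 2857 2857 = true := by decide +kernel
theorem c70_2 : allRange (fun i => Nat.beq (act70 i) i) 5714 2857 = true := by decide +kernel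
theorem c70_3 : allRange (fun i => Nat.beq (act70 i) i) 8571 2857 = true := by decide +kernel
theorem c70_4 : allRange (fun i => Nat.beq (act70 i) i) 11428 2857 = true := by decide +kernel
theorem c70_5 : allRange (fun i => Nat.beq (act70 i) i) 14285 2857 = true := by decide +kernel
theorem c70_6 : allRange (fun i => Nat.beq (act70 i) i) 17142 2857 = true := by decide +kernel
theorem c70_7 : allRange (fun i => Nat.beq (act70 i) i) 19999 2857 = true := by decide +kernel
theorem c70_8 : allRange (fun i => Nat.beq (act70 i) i) 22856 2857 = true := by decide +kernel
theorem c70_9 : allRange (fun i => Nat.beq (act70 i) i) 25713 2857 = true := by decide +kernel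
theorem c70_10 : allRange (fun i => Nat.beq (act70 i) i) 28570 2857 = true := by decide +kernel
theorem c70_11 : allRange (fun i => Nat.beq (act70 i) i) 31427 2857 = true := by decide +kernel
theorem c70_12 : allRange (fun i => Nat.beq (act70 i) i) 34284 2857 = true := by decide +kernel
theorem c70_13 : allRange (fun i => Nat.beq (act70 i) i) 37141 2857 = true := by decide +kernel
theorem c70_14 : allRange (fun i => Nat.beq (act70 i) i) 39998 2857 = true := by decide +kernel
theorem c70_15 : allRange (fun i => Nat.beq (act70 i) i) 42855 2857 = true := by decide +kernel
theorem c70_16 : allRange (fun i => Nat.beq (act70 i) i) 45712 2857 = true := by decide +kernel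
theorem c70_17 : allRange (fun i => Nat.beq (act70 i) i) 48569 2857 = true := by decide +kernel
theorem c70_18 : allRange (fun i => Nat.beq (act70 i) i) 51426 2857 = true := by decide +kernel
theorem c70_19 : allRange (fun i => Nat.beq (act70 i) i) 54283 2857 = true := by decide +kernel
theorem c70_20 : allRange (fun i => Nat.beq (act70 i) i) 57140 2857 = true := by decide +kernel
theorem c70_21 : allRange (fun i => Nat.beq (act70 i) i) 59997 2857 = true := by decide +kernel
theorem c70_22 : allRange (fun i => Nat.beq (act70 i) i) 62854 2857 = true := by decide +kernel
theorem c70_23 : allRange (fun i => Nat.beq (act70 i) i) 65711 1114 = true := by decide +kernel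
theorem h70 : ∀ i, i < T.N → Tab.relActOK T D chk70 i = true := by
  intro i hi
  rw [Tab.relActOK, ← act70_eq]
  exact (range_glue (range_of_allRange c70_0) (range_glue (range_of_allRange c70_1) (range_glue (range_of_allRange c70_2) (range_glue (range_of_allRange c70_3) (range_glue (range_of_allRange c70_4) (range_glue (range_of_allRange c70_5) (range_glue (range_of_allRange c70_6) (range_glue (range_of_allRange c70_7) (range_glue (range_of_allRange c70_8) (range_glue (range_of_allRange c70_9) (range_glue (range_of_allRange c70_10) (range_glue (range_of_allRange c70_11) (range_glue (range_of_allRange c70_12) (range_glue (range_of_allRange c70_13) (range_glue (range_of_allRange c70_14) (range_glue (range_of_allRange c70_15) (range_glue (range_of_allRange c70_16) (range_glue (range_of_allRange c70_17) (range_glue (range_of_allRange c70_18) (range_glue (range_of_allRange c70_19) (range_glue (range_of_allRange c70_20) (range_glue (range_of_allRange c70_21) (range_glue (range_of_allRange c70_22) (range_of_allRange c70_23)))))))))))))))))))))))) i (Nat.zero_le _) hi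

def chk71 : List Nat := [1, 3, 1, 3, 1, 1, 2, 1, 3, 1, 3, 1, 1, 2, 1, 3, 1, 3, 1, 1, 2, 1, 3, 1, 3, 1, 1, 2]
noncomputable def act71 (i : Nat) : Nat := col0 (col2 (col0 (col2 (col0 (col0 (col3 (col0 (col2 (col0 (col2 (col0 (col0 (col3 (col0 (col2 (col0 (col2 (col0 (col0 (col3 (col0 (col2 (col0 (col2 (col0 (col0 (col3 (i))))))))))))))))))))))))))))
theorem act71_eq (i : Nat) : act71 i = Tab.act T D chk71 i := rfl
theorem c71_0 : allRange (fun i => Nat.beq (act71 i) i) 0 2000 = true := by decide +kernel
theorem c71_1 : allRange (fun i => Nat.beq (act71 i) i) 2000 2000 = true := by decide +kernel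
theorem c71_2 : allRange (fun i => Nat.beq (act71 i) i) 4000 2000 = true := by decide +kernel
theorem c71_3 : allRange (fun i => Nat.beq (act71 i) i) 6000 2000 = true := by decide +kernel
theorem c71_4 : allRange (fun i => Nat.beq (act71 i) i) 8000 2000 = true := by decide +kernel
theorem c71_5 : allRange (fun i => Nat.beq (act71 i) i) 10000 2000 = true := by decide +kernel
theorem c71_6 : allRange (fun i => Nat.beq (act71 i) i) 12000 2000 = true := by decide +kernel
theorem c71_7 : allRange (fun i => Nat.beq (act71 i) i) 14000 2000 = true := by decide +kernel
theorem c71_8 : allRange (fun i => Nat.beq (act71 i) i) 16000 2000 = true := by decide +kernel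
theorem c71_9 : allRange (fun i => Nat.beq (act71 i) i) 18000 2000 = true := by decide +kernel
theorem c71_10 : allRange (fun i => Nat.beq (act71 i) i) 20000 2000 = true := by decide +kernel
theorem c71_11 : allRange (fun i => Nat.beq (act71 i) i) 22000 2000 = true := by decide +kernel
theorem c71_12 : allRange (fun i => Nat.beq (act71 i) i) 24000 2000 = true := by decide +kernel
theorem c71_13 : allRange (fun i => Nat.beq (act71 i) i) 26000 2000 = true := by decide +kernel
theorem c71_14 : allRange (fun i => Nat.beq (act71 i) i) 28000 2000 = true := by decide +kernel
theorem c71_15 : allRange (fun i => Nat.beq (act71 i) i) 30000 2000 = true := by decide +kernel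
theorem c71_16 : allRange (fun i => Nat.beq (act71 i) i) 32000 2000 = true := by decide +kernel
theorem c71_17 : allRange (fun i => Nat.beq (act71 i) i) 34000 2000 = true := by decide +kernel
theorem c71_18 : allRange (fun i => Nat.beq (act71 i) i) 36000 2000 = true := by decide +kernel
theorem c71_19 : allRange (fun i => Nat.beq (act71 i) i) 38000 2000 = true := by decide +kernel
theorem c71_20 : allRange (fun i => Nat.beq (act71 i) i) 40000 2000 = true := by decide +kernel
theorem c71_21 : allRange (fun i => Nat.beq (act71 i) i) 42000 2000 = true := by decide +kernel
theorem c71_22 : allRange (fun i => Nat.beq (act71 i) i) 44000 2000 = true := by decide +kernel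
theorem c71_23 : allRange (fun i => Nat.beq (act71 i) i) 46000 2000 = true := by decide +kernel
theorem c71_24 : allRange (fun i => Nat.beq (act71 i) i) 48000 2000 = true := by decide +kernel
theorem c71_25 : allRange (fun i => Nat.beq (act71 i) i) 50000 2000 = true := by decide +kernel
theorem c71_26 : allRange (fun i => Nat.beq (act71 i) i) 52000 2000 = true := by decide +kernel
theorem c71_27 : allRange (fun i => Nat.beq (act71 i) i) 54000 2000 = true := by decide +kernel
theorem c71_28 : allRange (fun i => Nat.beq (act71 i) i) 56000 2000 = true := by decide +kernel
theorem c71_29 : allRange (fun i => Nat.beq (act71 i) i) 58000 2000 = true := by decide +kernel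
theorem c71_30 : allRange (fun i => Nat.beq (act71 i) i) 60000 2000 = true := by decide +kernel
theorem c71_31 : allRange (fun i => Nat.beq (act71 i) i) 62000 2000 = true := by decide +kernel
theorem c71_32 : allRange (fun i => Nat.beq (act71 i) i) 64000 2000 = true := by decide +kernel
theorem c71_33 : allRange (fun i => Nat.beq (act71 i) i) 66000 825 = true := by decide +kernel
theorem h71 : ∀ i, i < T.N → Tab.relActOK T D chk71 i = true := by
  intro i hi
  rw [Tab.relActOK, ← act71_eq]
  exact (range_glue (range_of_allRange c71_0) (range_glue (range_of_allRange c71_1) (range_glue (range_of_allRange c71_2) (range_glue (range_of_allRange c71_3) (range_glue (range_of_allRange c71_4) (range_glue (range_of_allRange c71_5) (range_glue (range_of_allRange c71_6) (range_glue (range_of_allRange c71_7) (range_glue (range_of_allRange c71_8) (range_glue (range_of_allRange c71_9) (range_glue (range_of_allRange c71_10) (range_glue (range_of_allRange c71_11) (range_glue (range_of_allRange c71_12) (range_glue (range_of_allRange c71_13) (range_glue (range_of_allRange c71_14) (range_glue (range_of_allRange c71_15) (range_glue (range_of_allRange c71_16) (range_glue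 (range_of_allRange c71_17) (range_glue (range_of_allRange c71_18) (range_glue (range_of_allRange c71_19) (range_glue (range_of_allRange c71_20) (range_glue (range_of_allRange c71_21) (range_glue (range_of_allRange c71_22) (range_glue (range_of_allRange c71_23) (range_glue (range_of_allRange c71_24) (range_glue (range_of_allRange c71_25) (range_glue (range_of_allRange c71_26) (range_glue (range_of_allRange c71_27) (range_glue (range_of_allRange c71_28) (range_glue (range_of_allRange c71_29) (range_glue (range_of_allRange c71_30) (range_glue (range_of_allRange c71_31) (range_glue (range_of_allRange c71_32) (range_of_allRange c71_33)))))))))))))))))))))))))))))))))) i (Nat.zero_le _) hi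

def chk83 : List Nat := [1, 1, 3, 1, 2, 1, 1, 1, 3, 1, 1, 3, 1, 2, 1, 1, 1, 3, 1, 1, 3, 1, 2, 1, 1, 1, 3, 1, 1, 3, 1, 2, 1, 1, 1, 3]
noncomputable def act83 (i : Nat) : Nat := col0 (col0 (col2 (col0 (col3 (col0 (col0 (col0 (col2 (col0 (col0 (col2 (col0 (col3 (col0 (col0 (col0 (col2 (col0 (col0 (col2 (col0 (col3 (col0 (col0 (col0 (col2 (col0 (col0 (col2 (col0 (col3 (col0 (col0 (col0 (col2 (i))))))))))))))))))))))))))))))))))))
theorem act83_eq (i : Nat) : act83 i = Tab.act T D chk83 i := rfl
theorem c83_0 : allRange (fun i => Nat.beq (act83 i) i) 0 1578 = true := by decide +kernel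
theorem c83_1 : allRange (fun i => Nat.beq (act83 i) i) 1578 1578 = true := by decide +kernel
theorem c83_2 : allRange (fun i => Nat.beq (act83 i) i) 3156 1578 = true := by decide +kernel
theorem c83_3 : allRange (fun i => Nat.beq (act83 i) i) 4734 1578 = true := by decide +kernel
theorem c83_4 : allRange (fun i => Nat.beq (act83 i) i) 6312 1578 = true := by decide +kernel
theorem c83_5 : allRange (fun i => Nat.beq (act83 i) i) 7890 1578 = true := by decide +kernel
theorem c83_6 : allRange (fun i => Nat.beq (act83 i) i) 9468 1578 = true := by decide +kernel
theorem c83_7 : allRange (fun i => Nat.beq (act83 i) i) 11046 1578 = true := by decide +kernel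
theorem c83_8 : allRange (fun i => Nat.beq (act83 i) i) 12624 1578 = true := by decide +kernel
theorem c83_9 : allRange (fun i => Nat.beq (act83 i) i) 14202 1578 = true := by decide +kernel
theorem c83_10 : allRange (fun i => Nat.beq (act83 i) i) 15780 1578 = true := by decide +kernel
theorem c83_11 : allRange (fun i => Nat.beq (act83 i) i) 17358 1578 = true := by decide +kernel
theorem c83_12 : allRange (fun i => Nat.beq (act83 i) i) 18936 1578 = true := by decide +kernel
theorem c83_13 : allRange (fun i => Nat.beq (act83 i) i) 20514 1578 = true := by decide +kernel
theorem c83_14 : allRange (fun i => Nat.beq (act83 i) i) 22092 1578 = true := by decide +kernel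
theorem c83_15 : allRange (fun i => Nat.beq (act83 i) i) 23670 1578 = true := by decide +kernel
theorem c83_16 : allRange (fun i => Nat.beq (act83 i) i) 25248 1578 = true := by decide +kernel
theorem c83_17 : allRange (fun i => Nat.beq (act83 i) i) 26826 1578 = true := by decide +kernel
theorem c83_18 : allRange (fun i => Nat.beq (act83 i) i) 28404 1578 = true := by decide +kernel
theorem c83_19 : allRange (fun i => Nat.beq (act83 i) i) 29982 1578 = true := by decide +kernel
theorem c83_20 : allRange (fun i => Nat.beq (act83 i) i) 31560 1578 = true := by decide +kernel
theorem c83_21 : allRange (fun i => Nat.beq (act83 i) i) 33138 1578 = true := by decide +kernel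
theorem c83_22 : allRange (fun i => Nat.beq (act83 i) i) 34716 1578 = true := by decide +kernel
theorem c83_23 : allRange (fun i => Nat.beq (act83 i) i) 36294 1578 = true := by decide +kernel
theorem c83_24 : allRange (fun i => Nat.beq (act83 i) i) 37872 1578 = true := by decide +kernel
theorem c83_25 : allRange (fun i => Nat.beq (act83 i) i) 39450 1578 = true := by decide +kernel
theorem c83_26 : allRange (fun i => Nat.beq (act83 i) i) 41028 1578 = true := by decide +kernel
theorem c83_27 : allRange (fun i => Nat.beq (act83 i) i) 42606 1578 = true := by decide +kernel
theorem c83_28 : allRange (fun i => Nat.beq (act83 i) i) 44184 1578 = true := by decide +kernel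
theorem c83_29 : allRange (fun i => Nat.beq (act83 i) i) 45762 1578 = true := by decide +kernel
theorem c83_30 : allRange (fun i => Nat.beq (act83 i) i) 47340 1578 = true := by decide +kernel
theorem c83_31 : allRange (fun i => Nat.beq (act83 i) i) 48918 1578 = true := by decide +kernel
theorem c83_32 : allRange (fun i => Nat.beq (act83 i) i) 50496 1578 = true := by decide +kernel
theorem c83_33 : allRange (fun i => Nat.beq (act83 i) i) 52074 1578 = true := by decide +kernel
theorem c83_34 : allRange (fun i => Nat.beq (act83 i) i) 53652 1578 = true := by decide +kernel
theorem c83_35 : allRange (fun i => Nat.beq (act83 i) i) 55230 1578 = true := by decide +kernel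
theorem c83_36 : allRange (fun i => Nat.beq (act83 i) i) 56808 1578 = true := by decide +kernel
theorem c83_37 : allRange (fun i => Nat.beq (act83 i) i) 58386 1578 = true := by decide +kernel
theorem c83_38 : allRange (fun i => Nat.beq (act83 i) i) 59964 1578 = true := by decide +kernel
theorem c83_39 : allRange (fun i => Nat.beq (act83 i) i) 61542 1578 = true := by decide +kernel
theorem c83_40 : allRange (fun i => Nat.beq (act83 i) i) 63120 1578 = true := by decide +kernel
theorem c83_41 : allRange (fun i => Nat.beq (act83 i) i) 64698 1578 = true := by decide +kernel
theorem c83_42 : allRange (fun i => Nat.beq (act83 i) i) 66276 549 = true := by decide +kernel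
theorem h83 : ∀ i, i < T.N → Tab.relActOK T D chk83 i = true := by
  intro i hi
  rw [Tab.relActOK, ← act83_eq]
  exact (range_glue (range_of_allRange c83_0) (range_glue (range_of_allRange c83_1) (range_glue (range_of_allRange c83_2) (range_glue (range_of_allRange c83_3) (range_glue (range_of_allRange c83_4) (range_glue (range_of_allRange c83_5) (range_glue (range_of_allRange c83_6) (range_glue (range_of_allRange c83_7) (range_glue (range_of_allRange c83_8) (range_glue (range_of_allRange c83_9) (range_glue (range_of_allRange c83_10) (range_glue (range_of_allRange c83_11) (range_glue (range_of_allRange c83_12) (range_glue (range_of_allRange c83_13) (range_glue (range_of_allRange c83_14) (range_glue (range_of_allRange c83_15) (range_glue (range_of_allRange c83_16) (range_glue (range_of_allRange c83_17) (range_glue (range_of_allRange c83_18) (range_glue (range_of_allRange c83_19) (range_glue (range_of_allRange c83_20) (range_glue (range_of_allRange c83_21) (range_glue (range_of_allRange c83_22) (range_glue (range_of_allRange c83_23) (range_glue (range_of_allRange c83_24) (range_glue (range_of_allRange c83_25) (range_glue (range_of_allRange c83_26)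 (range_glue (range_of_allRange c83_27) (range_glue (range_of_allRange c83_28) (range_glue (range_of_allRange c83_29) (range_glue (range_of_allRange c83_30) (range_glue (range_of_allRange c83_31) (range_glue (range_of_allRange c83_32) (range_glue (range_of_allRange c83_33) (range_glue (range_of_allRange c83_34) (range_glue (range_of_allRange c83_35) (range_glue (range_of_allRange c83_36) (range_glue (range_of_allRange c83_37) (range_glue (range_of_allRange c83_38) (range_glue (range_of_allRange c83_39) (range_glue (range_of_allRange c83_40) (range_glue (range_of_allRange c83_41) (range_of_allRange c83_42))))))))))))))))))))))))))))))))))))))))))) i (Nat.zero_le _) hi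

def chk88 : List Nat := [5, 0, 2, 1, 2, 1, 2, 2, 1, 4, 1, 1, 3, 1, 2, 1, 1, 1, 3]
noncomputable def act88 (i : Nat) : Nat := col4 (col1 (col3 (col0 (col3 (col0 (col3 (col3 (col0 (col5 (col0 (col0 (col2 (col0 (col3 (col0 (col0 (col0 (col2 (i)))))))))))))))))))
theorem act88_eq (i : Nat) : act88 i = Tab.act T D chk88 i := rfl
theorem c88_0 : allRange (fun i => Nat.beq (act88 i) i) 0 2857 = true := by decide +kernel
theorem c88_1 : allRange (fun i => Nat.beq (act88 i) i) 2857 2857 = true := by decide +kernel
theorem c88_2 : allRange (fun i => Nat.beq (act88 i) i) 5714 2857 = true := by decide +kernel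
theorem c88_3 : allRange (fun i => Nat.beq (act88 i) i) 8571 2857 = true := by decide +kernel
theorem c88_4 : allRange (fun i => Nat.beq (act88 i) i) 11428 2857 = true := by decide +kernel
theorem c88_5 : allRange (fun i => Nat.beq (act88 i) i) 14285 2857 = true := by decide +kernel
theorem c88_6 : allRange (fun i => Nat.beq (act88 i) i) 17142 2857 = true := by decide +kernel
theorem c88_7 : allRange (fun i => Nat.beq (act88 i) i) 19999 2857 = true := by decide +kernel
theorem c88_8 : allRange (fun i => Nat.beq (act88 i) i) 22856 2857 = true := by decide +kernel
theorem c88_9 : allRange (fun i => Nat.beq (act88 i) i) 25713 2857 = true := by decide +kernel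
theorem c88_10 : allRange (fun i => Nat.beq (act88 i) i) 28570 2857 = true := by decide +kernel
theorem c88_11 : allRange (fun i => Nat.beq (act88 i) i) 31427 2857 = true := by decide +kernel
theorem c88_12 : allRange (fun i => Nat.beq (act88 i) i) 34284 2857 = true := by decide +kernel
theorem c88_13 : allRange (fun i => Nat.beq (act88 i) i) 37141 2857 = true := by decide +kernel
theorem c88_14 : allRange (fun i => Nat.beq (act88 i) i) 39998 2857 = true := by decide +kernel
theorem c88_15 : allRange (fun i => Nat.beq (act88 i) i) 42855 2857 = true := by decide +kernel
theorem c88_16 : allRange (fun i => Nat.beq (act88 i) i) 45712 2857 = true := by decide +kernel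
theorem c88_17 : allRange (fun i => Nat.beq (act88 i) i) 48569 2857 = true := by decide +kernel
theorem c88_18 : allRange (fun i => Nat.beq (act88 i) i) 51426 2857 = true := by decide +kernel
theorem c88_19 : allRange (fun i => Nat.beq (act88 i) i) 54283 2857 = true := by decide +kernel
theorem c88_20 : allRange (fun i => Nat.beq (act88 i) i) 57140 2857 = true := by decide +kernel
theorem c88_21 : allRange (fun i => Nat.beq (act88 i) i) 59997 2857 = true := by decide +kernel
theorem c88_22 : allRange (fun i => Nat.beq (act88 i) i) 62854 2857 = true := by decide +kernel
theorem c88_23 : allRange (fun i => Nat.beq (act88 i) i) 65711 1114 = true := by decide +kernel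
theorem h88 : ∀ i, i < T.N → Tab.relActOK T D chk88 i = true := by
  intro i hi
  rw [Tab.relActOK, ← act88_eq]
  exact (range_glue (range_of_allRange c88_0) (range_glue (range_of_allRange c88_1) (range_glue (range_of_allRange c88_2) (range_glue (range_of_allRange c88_3) (range_glue (range_of_allRange c88_4) (range_glue (range_of_allRange c88_5) (range_glue (range_of_allRange c88_6) (range_glue (range_of_allRange c88_7) (range_glue (range_of_allRange c88_8) (range_glue (range_of_allRange c88_9) (range_glue (range_of_allRange c88_10) (range_glue (range_of_allRange c88_11) (range_glue (range_of_allRange c88_12) (range_glue (range_of_allRange c88_13) (range_glue (range_of_allRange c88_14) (range_glue (range_of_allRange c88_15) (range_glue (range_of_allRange c88_16) (range_glue (range_of_allRange c88_17) (range_glue (range_of_allRange c88_18) (range_glue (range_of_allRange c88_19) (range_glue (range_of_allRange c88_20) (range_glue (range_of_allRange c88_21) (range_glue (range_of_allRange c88_22) (range_of_allRange c88_23)))))))))))))))))))))))) i (Nat.zero_le _) hi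

def chk89 : List Nat := [0, 2, 1, 2, 1, 2, 2, 1, 0, 2, 1, 2, 1, 2, 2, 1, 0, 2, 1, 2, 1, 2, 2, 1, 0, 2, 1, 2, 1, 2, 2, 1]
noncomputable def act89 (i : Nat) : Nat := col1 (col3 (col0 (col3 (col0 (col3 (col3 (col0 (col1 (col3 (col0 (col3 (col0 (col3 (col3 (col0 (col1 (col3 (col0 (col3 (col0 (col3 (col3 (col0 (col1 (col3 (col0 (col3 (col0 (col3 (col3 (col0 (i))))))))))))))))))))))))))))))))
theorem act89_eq (i : Nat) : act89 i = Tab.act T D chk89 i := rfl
theorem c89_0 : allRange (fun i => Nat.beq (act89 i) i) 0 1764 = true := by decide +kernel
theorem c89_1 : allRange (fun i => Nat.beq (act89 i) i) 1764 1764 = true := by decide +kernel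
theorem c89_2 : allRange (fun i => Nat.beq (act89 i) i) 3528 1764 = true := by decide +kernel
theorem c89_3 : allRange (fun i => Nat.beq (act89 i) i) 5292 1764 = true := by decide +kernel
theorem c89_4 : allRange (fun i => Nat.beq (act89 i) i) 7056 1764 = true := by decide +kernel
theorem c89_5 : allRange (fun i => Nat.beq (act89 i) i) 8820 1764 = true := by decide +kernel
theorem c89_6 : allRange (fun i => Nat.beq (act89 i) i) 10584 1764 = true := by decide +kernel
theorem c89_7 : allRange (fun i => Nat.beq (act89 i) i) 12348 1764 = true := by decide +kernel
theorem c89_8 : allRange (fun i => Nat.beq (act89 i) i) 14112 1764 = true := by decide +kernel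
theorem c89_9 : allRange (fun i => Nat.beq (act89 i) i) 15876 1764 = true := by decide +kernel
theorem c89_10 : allRange (fun i => Nat.beq (act89 i) i) 17640 1764 = true := by decide +kernel
theorem c89_11 : allRange (fun i => Nat.beq (act89 i) i) 19404 1764 = true := by decide +kernel
theorem c89_12 : allRange (fun i => Nat.beq (act89 i) i) 21168 1764 = true := by decide +kernel
theorem c89_13 : allRange (fun i => Nat.beq (act89 i) i) 22932 1764 = true := by decide +kernel
theorem c89_14 : allRange (fun i => Nat.beq (act89 i) i) 24696 1764 = true := by decide +kernel
theorem c89_15 : allRange (fun i => Nat.beq (act89 i) i) 26460 1764 = true := by decide +kernel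
theorem c89_16 : allRange (fun i => Nat.beq (act89 i) i) 28224 1764 = true := by decide +kernel
theorem c89_17 : allRange (fun i => Nat.beq (act89 i) i) 29988 1764 = true := by decide +kernel
theorem c89_18 : allRange (fun i => Nat.beq (act89 i) i) 31752 1764 = true := by decide +kernel
theorem c89_19 : allRange (fun i => Nat.beq (act89 i) i) 33516 1764 = true := by decide +kernel
theorem c89_20 : allRange (fun i => Nat.beq (act89 i) i) 35280 1764 = true := by decide +kernel
theorem c89_21 : allRange (fun i => Nat.beq (act89 i) i) 37044 1764 = true := by decide +kernel
theorem c89_22 : allRange (fun i => Nat.beq (act89 i) i) 38808 1764 = true := by decide +kernel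
theorem c89_23 : allRange (fun i => Nat.beq (act89 i) i) 40572 1764 = true := by decide +kernel
theorem c89_24 : allRange (fun i => Nat.beq (act89 i) i) 42336 1764 = true := by decide +kernel
theorem c89_25 : allRange (fun i => Nat.beq (act89 i) i) 44100 1764 = true := by decide +kernel
theorem c89_26 : allRange (fun i => Nat.beq (act89 i) i) 45864 1764 = true := by decide +kernel
theorem c89_27 : allRange (fun i => Nat.beq (act89 i) i) 47628 1764 = true := by decide +kernel
theorem c89_28 : allRange (fun i => Nat.beq (act89 i) i) 49392 1764 = true := by decide +kernel
theorem c89_29 : allRange (fun i => Nat.beq (act89 i) i) 51156 1764 = true := by decide +kernel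
theorem c89_30 : allRange (fun i => Nat.beq (act89 i) i) 52920 1764 = true := by decide +kernel
theorem c89_31 : allRange (fun i => Nat.beq (act89 i) i) 54684 1764 = true := by decide +kernel
theorem c89_32 : allRange (fun i => Nat.beq (act89 i) i) 56448 1764 = true := by decide +kernel
theorem c89_33 : allRange (fun i => Nat.beq (act89 i) i) 58212 1764 = true := by decide +kernel
theorem c89_34 : allRange (fun i => Nat.beq (act89 i) i) 59976 1764 = true := by decide +kernel
theorem c89_35 : allRange (fun i => Nat.beq (act89 i) i) 61740 1764 = true := by decide +kernel
theorem c89_36 : allRange (fun i => Nat.beq (act89 i) i) 63504 1764 = true := by decide +kernel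
theorem c89_37 : allRange (fun i => Nat.beq (act89 i) i) 65268 1557 = true := by decide +kernel
theorem h89 : ∀ i, i < T.N → Tab.relActOK T D chk89 i = true := by
  intro i hi
  rw [Tab.relActOK, ← act89_eq]
  exact (range_glue (range_of_allRange c89_0) (range_glue (range_of_allRange c89_1) (range_glue (range_of_allRange c89_2) (range_glue (range_of_allRange c89_3) (range_glue (range_of_allRange c89_4) (range_glue (range_of_allRange c89_5) (range_glue (range_of_allRange c89_6) (range_glue (range_of_allRange c89_7) (range_glue (range_of_allRange c89_8) (range_glue (range_of_allRange c89_9) (range_glue (range_of_allRange c89_10) (range_glue (range_of_allRange c89_11) (range_glue (range_of_allRange c89_12) (range_glue (range_of_allRange c89_13) (range_glue (range_of_allRange c89_14) (range_glue (range_of_allRange c89_15) (range_glue (range_of_allRange c89_16) (range_glue (range_of_allRange c89_17) (range_glue (range_of_allRange c89_18) (range_glue (range_of_allRange c89_19) (range_glue (range_of_allRange c89_20) (range_glue (range_of_allRange c89_21) (range_glue (range_of_allRange c89_22) (range_glue (range_of_allRange c89_23) (range_glue (range_of_allRange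 c89_24) (range_glue (range_of_allRange c89_25) (range_glue (range_of_allRange c89_26) (range_glue (range_of_allRange c89_27) (range_glue (range_of_allRange c89_28) (range_glue (range_of_allRange c89_29) (range_glue (range_of_allRange c89_30) (range_glue (range_of_allRange c89_31) (range_glue (range_of_allRange c89_32) (range_glue (range_of_allRange c89_33) (range_glue (range_of_allRange c89_34) (range_glue (range_of_allRange c89_35) (range_glue (range_of_allRange c89_36) (range_of_allRange c89_37)))))))))))))))))))))))))))))))))))))) i (Nat.zero_le _) hi

end Cfsg.Agent.Lib.Helper4.TCD.SC3McLp3W
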