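import Cfsg.Agent.Lib.Helper4.TCD_C3McLR_Acc
import Cfsg.Agent.Lib.Helper4.TC13

namespace Cfsg.Agent.Lib.Helper4.TCD.SC3McLp3W

open Cfsg.Agent.Lib.Helper4.TC Cfsg.Agent.Lib.Helper4.TCD.C3McLR

set_option maxRecDepth 100000
set_option Elab.async false

def chk17 : List Nat := [0, 0, 2, 0, 2, 2, 2, 1, 2, 2, 1, 2]
noncomputable def act17 (i : Nat) : Nat := col1 (col1 (col3 (col1 (col3 (col3 (col3 (col0 (col3 (col3 (col0 (col3 (i))))))))))))
theorem act17_eq (i : Nat) : act17 i = Tab.act T D chk17 i := rfl
theorem c17_0 : allRange (fun i => Nat.beq (act17 i) i) 0 4285 = true := by decide +kernel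
theorem c17_1 : allRange (fun i => Nat.beq (act17 i) i) 4285 4285 = true := by decide +kernel
theorem c17_2 : allRange (fun i => Nat.beq (act17 i) i) 8570 4285 = true := by decide +kernel
theorem c17_3 : allRange (fun i => Nat.beq (act17 i) i) 12855 4285 = true := by decide +kernel
theorem c17_4 : allRange (fun i => Nat.beq (act17 i) i) 17140 4285 = true := by decide +kernel
theorem c17_5 : allRange (fun i => Nat.beq (act17 i) i) 21425 4285 = true := by decide +kernel
theorem c17_6 : allRange (fun i => Nat.beq (act17 i) i) 25710 4285 = true := by decide +kernel
theorem c17_7 : allRange (fun i => Nat.beq (act17 i) i) 29995 4285 = true := by decide +kernel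
theorem c17_8 : allRange (fun i => Nat.beq (act17 i) i) 34280 4285 = true := by decide +kernel
theorem c17_9 : allRange (fun i => Nat.beq (act17 i) i) 38565 4285 = true := by decide +kernel
theorem c17_10 : allRange (fun i => Nat.beq (act17 i) i) 42850 4285 = true := by decide +kernel
theorem c17_11 : allRange (fun i => Nat.beq (act17 i) i) 47135 4285 = true := by decide +kernel
theorem c17_12 : allRange (fun i => Nat.beq (act17 i) i) 51420 4285 = true := by decide +kernel
theorem c17_13 : allRange (fun i => Nat.beq (act17 i) i) 55705 4285 = true := by decide +kernel
theorem c17_14 : allRange (fun i => Nat.beq (act17 i) i) 59990 4285 = true := by decide +kernel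
theorem c17_15 : allRange (fun i => Nat.beq (act17 i) i) 64275 2550 = true := by decide +kernel
theorem h17 : ∀ i, i < T.N → Tab.relActOK T D chk17 i = true := by
  intro i hi
  rw [Tab.relActOK, ← act17_eq]
  exact (range_glue (range_of_allRange c17_0) (range_glue (range_of_allRange c17_1) (range_glue (range_of_allRange c17_2) (range_glue (range_of_allRange c17_3) (range_glue (range_of_allRange c17_4) (range_glue (range_of_allRange c17_5) (range_glue (range_of_allRange c17_6) (range_glue (range_of_allRange c17_7) (range_glue (range_of_allRange c17_8) (range_glue (range_of_allRange c17_9) (range_glue (range_of_allRange c17_10) (range_glue (range_of_allRange c17_11) (range_glue (range_of_allRange c17_12) (range_glue (range_of_allRange c17_13) (range_glue (range_of_allRange c17_14) (range_of_allRange c17_15)))))))))))))))) i (Nat.zero_le _) hi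

def chk24 : List Nat := [0, 0, 2, 2, 1, 2, 0, 2, 0, 0, 0, 2, 2, 1, 2, 0, 2, 0, 0, 0, 2, 2, 1, 2, 0, 2, 0, 0, 0, 2, 2, 1, 2, 0, 2, 0]
noncomputable def act24 (i : Nat) : Nat := col1 (col1 (col3 (col3 (col0 (col3 (col1 (col3 (col1 (col1 (col1 (col3 (col3 (col0 (col3 (col1 (col3 (col1 (col1 (col1 (col3 (col3 (col0 (col3 (col1 (col3 (col1 (col1 (col1 (col3 (col3 (col0 (col3 (col1 (col3 (col1 (i))))))))))))))))))))))))))))))))))))
theorem act24_eq (i : Nat) : act24 i = Tab.act T D chk24 i := rfl
theorem c24_0 : allRange (fun i => Nat.beq (act24 i) i) 0 1578 = true := by decide +kernel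
theorem c24_1 : allRange (fun i => Nat.beq (act24 i) i) 1578 1578 = true := by decide +kernel
theorem c24_2 : allRange (fun i => Nat.beq (act24 i) i) 3156 1578 = true := by decide +kernel
theorem c24_3 : allRange (fun i => Nat.beq (act24 i) i) 4734 1578 = true := by decide +kernel
theorem c24_4 : allRange (fun i => Nat.beq (act24 i) i) 6312 1578 = true := by decide +kernel
theorem c24_5 : allRange (fun i => Nat.beq (act24 i) i) 7890 1578 = true := by decide +kernel
theorem c24_6 : allRange (fun i => Nat.beq (act24 i) i) 9468 1578 = true := by decide +kernel
theorem c24_7 : allRange (fun i => Nat.beq (act24 i) i) 11046 1578 = true := by decide +kernel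
theorem c24_8 : allRange (fun i => Nat.beq (act24 i) i) 12624 1578 = true := by decide +kernel
theorem c24_9 : allRange (fun i => Nat.beq (act24 i) i) 14202 1578 = true := by decide +kernel
theorem c24_10 : allRange (fun i => Nat.beq (act24 i) i) 15780 1578 = true := by decide +kernel
theorem c24_11 : allRange (fun i => Nat.beq (act24 i) i) 17358 1578 = true := by decide +kernel
theorem c24_12 : allRange (fun i => Nat.beq (act24 i) i) 18936 1578 = true := by decide +kernel
theorem c24_13 : allRange (fun i => Nat.beq (act24 i) i) 20514 1578 = true := by decide +kernel
theorem c24_14 : allRange (fun i => Nat.beq (act24 i) i) 22092 1578 = true := by decide +kernel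
theorem c24_15 : allRange (fun i => Nat.beq (act24 i) i) 23670 1578 = true := by decide +kernel
theorem c24_16 : allRange (fun i => Nat.beq (act24 i) i) 25248 1578 = true := by decide +kernel
theorem c24_17 : allRange (fun i => Nat.beq (act24 i) i) 26826 1578 = true := by decide +kernel
theorem c24_18 : allRange (fun i => Nat.beq (act24 i) i) 28404 1578 = true := by decide +kernel
theorem c24_19 : allRange (fun i => Nat.beq (act24 i) i) 29982 1578 = true := by decide +kernel
theorem c24_20 : allRange (fun i => Nat.beq (act24 i) i) 31560 1578 = true := by decide +kernel
theorem c24_21 : allRange (fun i => Nat.beq (act24 i) i) 33138 1578 = true := by decide +kernel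
theorem c24_22 : allRange (fun i => Nat.beq (act24 i) i) 34716 1578 = true := by decide +kernel
theorem c24_23 : allRange (fun i => Nat.beq (act24 i) i) 36294 1578 = true := by decide +kernel
theorem c24_24 : allRange (fun i => Nat.beq (act24 i) i) 37872 1578 = true := by decide +kernel
theorem c24_25 : allRange (fun i => Nat.beq (act24 i) i) 39450 1578 = true := by decide +kernel
theorem c24_26 : allRange (fun i => Nat.beq (act24 i) i) 41028 1578 = true := by decide +kernel
theorem c24_27 : allRange (fun i => Nat.beq (act24 i) i) 42606 1578 = true := by decide +kernel
theorem c24_28 : allRange (fun i => Nat.beq (act24 i) i) 44184 1578 = true := by decide +kernel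
theorem c24_29 : allRange (fun i => Nat.beq (act24 i) i) 45762 1578 = true := by decide +kernel
theorem c24_30 : allRange (fun i => Nat.beq (act24 i) i) 47340 1578 = true := by decide +kernel
theorem c24_31 : allRange (fun i => Nat.beq (act24 i) i) 48918 1578 = true := by decide +kernel
theorem c24_32 : allRange (fun i => Nat.beq (act24 i) i) 50496 1578 = true := by decide +kernel
theorem c24_33 : allRange (fun i => Nat.beq (act24 i) i) 52074 1578 = true := by decide +kernel
theorem c24_34 : allRange (fun i => Nat.beq (act24 i) i) 53652 1578 = true := by decide +kernel
theorem c24_35 : allRange (fun i => Nat.beq (act24 i) i) 55230 1578 = true := by decide +kernel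
theorem c24_36 : allRange (fun i => Nat.beq (act24 i) i) 56808 1578 = true := by decide +kernel
theorem c24_37 : allRange (fun i => Nat.beq (act24 i) i) 58386 1578 = true := by decide +kernel
theorem c24_38 : allRange (fun i => Nat.beq (act24 i) i) 59964 1578 = true := by decide +kernel
theorem c24_39 : allRange (fun i => Nat.beq (act24 i) i) 61542 1578 = true := by decide +kernel
theorem c24_40 : allRange (fun i => Nat.beq (act24 i) i) 63120 1578 = true := by decide +kernel
theorem c24_41 : allRange (fun i => Nat.beq (act24 i) i) 64698 1578 = true := by decide +kernel
theorem c24_42 : allRange (fun i => Nat.beq (act24 i) i) 66276 549 = true := by decide +kernel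
theorem h24 : ∀ i, i < T.N → Tab.relActOK T D chk24 i = true := by
  intro i hi
  rw [Tab.relActOK, ← act24_eq]
  exact (range_glue (range_of_allRange c24_0) (range_glue (range_of_allRange c24_1) (range_glue (range_of_allRange c24_2) (range_glue (range_of_allRange c24_3) (range_glue (range_of_allRange c24_4) (range_glue (range_of_allRange c24_5) (range_glue (range_of_allRange c24_6) (range_glue (range_of_allRange c24_7) (range_glue (range_of_allRange c24_8) (range_glue (range_of_allRange c24_9) (range_glue (range_of_allRange c24_10) (range_glue (range_of_allRange c24_11) (range_glue (range_of_allRange c24_12) (range_glue (range_of_allRange c24_13) (range_glue (range_of_allRange c24_14) (range_glue (range_of_allRange c24_15) (range_glue (range_of_allRange c24_16) (range_glue (range_of_allRange c24_17) (range_glue (range_of_allRange c24_18) (range_glue (range_of_allRange c24_19) (range_glue (range_of_allRange c24_20) (range_glue (range_of_allRange c24_21) (range_glue (range_of_allRange c24_22) (range_glue (range_of_allRange c24_23) (range_glue (range_of_allRange c24_24) (range_glue (range_of_allRange c24_25) (range_glue (range_of_allRange c24_26)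 (range_glue (range_of_allRange c24_27) (range_glue (range_of_allRange c24_28) (range_glue (range_of_allRange c24_29) (range_glue (range_of_allRange c24_30) (range_glue (range_of_allRange c24_31) (range_glue (range_of_allRange c24_32) (range_glue (range_of_allRange c24_33) (range_glue (range_of_allRange c24_34) (range_glue (range_of_allRange c24_35) (range_glue (range_of_allRange c24_36) (range_glue (range_of_allRange c24_37) (range_glue (range_of_allRange c24_38) (range_glue (range_of_allRange c24_39) (range_glue (range_of_allRange c24_40) (range_glue (range_of_allRange c24_41) (range_of_allRange c24_42))))))))))))))))))))))))))))))))))))))))))) i (Nat.zero_le _) hi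

def chk25 : List Nat := [4, 0, 2, 0, 2, 1, 1, 3, 3, 5, 1, 3, 1, 1, 1, 2, 1, 1]
noncomputable def act25 (i : Nat) : Nat := col5 (col1 (col3 (col1 (col3 (col0 (col0 (col2 (col2 (col4 (col0 (col2 (col0 (col0 (col0 (col3 (col0 (col0 (i))))))))))))))))))
theorem act25_eq (i : Nat) : act25 i = Tab.act T D chk25 i := rfl
theorem c25_0 : allRange (fun i => Nat.beq (act25 i) i) 0 3000 = true := by decide +kernel
theorem c25_1 : allRange (fun i => Nat.beq (act25 i) i) 3000 3000 = true := by decide +kernel
theorem c25_2 : allRange (fun i => Nat.beq (act25 i) i) 6000 3000 = true := by decide +kernel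
theorem c25_3 : allRange (fun i => Nat.beq (act25 i) i) 9000 3000 = true := by decide +kernel
theorem c25_4 : allRange (fun i => Nat.beq (act25 i) i) 12000 3000 = true := by decide +kernel
theorem c25_5 : allRange (fun i => Nat.beq (act25 i) i) 15000 3000 = true := by decide +kernel
theorem c25_6 : allRange (fun i => Nat.beq (act25 i) i) 18000 3000 = true := by decide +kernel
theorem c25_7 : allRange (fun i => Nat.beq (act25 i) i) 21000 3000 = true := by decide +kernel
theorem c25_8 : allRange (fun i => Nat.beq (act25 i) i) 24000 3000 = true := by decide +kernel
theorem c25_9 : allRange (fun i => Nat.beq (act25 i) i) 27000 3000 = true := by decide +kernel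
theorem c25_10 : allRange (fun i => Nat.beq (act25 i) i) 30000 3000 = true := by decide +kernel
theorem c25_11 : allRange (fun i => Nat.beq (act25 i) i) 33000 3000 = true := by decide +kernel
theorem c25_12 : allRange (fun i => Nat.beq (act25 i) i) 36000 3000 = true := by decide +kernel
theorem c25_13 : allRange (fun i => Nat.beq (act25 i) i) 39000 3000 = true := by decide +kernel
theorem c25_14 : allRange (fun i => Nat.beq (act25 i) i) 42000 3000 = true := by decide +kernel
theorem c25_15 : allRange (fun i => Nat.beq (act25 i) i) 45000 3000 = true := by decide +kernel
theorem c25_16 : allRange (fun i => Nat.beq (act25 i) i) 48000 3000 = true := by decide +kernel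
theorem c25_17 : allRange (fun i => Nat.beq (act25 i) i) 51000 3000 = true := by decide +kernel
theorem c25_18 : allRange (fun i => Nat.beq (act25 i) i) 54000 3000 = true := by decide +kernel
theorem c25_19 : allRange (fun i => Nat.beq (act25 i) i) 57000 3000 = true := by decide +kernel
theorem c25_20 : allRange (fun i => Nat.beq (act25 i) i) 60000 3000 = true := by decide +kernel
theorem c25_21 : allRange (fun i => Nat.beq (act25 i) i) 63000 3000 = true := by decide +kernel
theorem c25_22 : allRange (fun i => Nat.beq (act25 i) i) 66000 825 = true := by decide +kernel
theorem h25 : ∀ i, i < T.N → Tab.relActOK T D chk25 i = true := by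
  intro i hi
  rw [Tab.relActOK, ← act25_eq]
  exact (range_glue (range_of_allRange c25_0) (range_glue (range_of_allRange c25_1) (range_glue (range_of_allRange c25_2) (range_glue (range_of_allRange c25_3) (range_glue (range_of_allRange c25_4) (range_glue (range_of_allRange c25_5) (range_glue (range_of_allRange c25_6) (range_glue (range_of_allRange c25_7) (range_glue (range_of_allRange c25_8) (range_glue (range_of_allRange c25_9) (range_glue (range_of_allRange c25_10) (range_glue (range_of_allRange c25_11) (range_glue (range_of_allRange c25_12) (range_glue (range_of_allRange c25_13) (range_glue (range_of_allRange c25_14) (range_glue (range_of_allRange c25_15) (range_glue (range_of_allRange c25_16) (range_glue (range_of_allRange c25_17) (range_glue (range_of_allRange c25_18) (range_glue (range_of_allRange c25_19) (range_glue (range_of_allRange c25_20) (range_glue (range_of_allRange c25_21) (range_of_allRange c25_22))))))))))))))))))))))) i (Nat.zero_le _) hi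

def chk39 : List Nat := [0, 2, 0, 2, 1, 1, 3, 3, 0, 2, 0, 2, 1, 1, 3, 3, 0, 2, 0, 2, 1, 1, 3, 3, 0, 2, 0, 2, 1, 1, 3, 3]
noncomputable def act39 (i : Nat) : Nat := col1 (col3 (col1 (col3 (col0 (col0 (col2 (col2 (col1 (col3 (col1 (col3 (col0 (col0 (col2 (col2 (col1 (col3 (col1 (col3 (col0 (col0 (col2 (col2 (col1 (col3 (col1 (col3 (col0 (col0 (col2 (col2 (i))))))))))))))))))))))))))))))))
theorem act39_eq (i : Nat) : act39 i = Tab.act T D chk39 i := rfl
theorem c39_0 : allRange (fun i => Nat.beq (act39 i) i) 0 1764 = true := by decide +kernel
theorem c39_1 : allRange (fun i => Nat.beq (act39 i) i) 1764 1764 = true := by decide +kernel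
theorem c39_2 : allRange (fun i => Nat.beq (act39 i) i) 3528 1764 = true := by decide +kernel
theorem c39_3 : allRange (fun i => Nat.beq (act39 i) i) 5292 1764 = true := by decide +kernel
theorem c39_4 : allRange (fun i => Nat.beq (act39 i) i) 7056 1764 = true := by decide +kernel
theorem c39_5 : allRange (fun i => Nat.beq (act39 i) i) 8820 1764 = true := by decide +kernel
theorem c39_6 : allRange (fun i => Nat.beq (act39 i) i) 10584 1764 = true := by decide +kernel
theorem c39_7 : allRange (fun i => Nat.beq (act39 i) i) 12348 1764 = true := by decide +kernel
theorem c39_8 : allRange (fun i => Nat.beq (act39 i) i) 14112 1764 = true := by decide +kernel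
theorem c39_9 : allRange (fun i => Nat.beq (act39 i) i) 15876 1764 = true := by decide +kernel
theorem c39_10 : allRange (fun i => Nat.beq (act39 i) i) 17640 1764 = true := by decide +kernel
theorem c39_11 : allRange (fun i => Nat.beq (act39 i) i) 19404 1764 = true := by decide +kernel
theorem c39_12 : allRange (fun i => Nat.beq (act39 i) i) 21168 1764 = true := by decide +kernel
theorem c39_13 : allRange (fun i => Nat.beq (act39 i) i) 22932 1764 = true := by decide +kernel
theorem c39_14 : allRange (fun i => Nat.beq (act39 i) i) 24696 1764 = true := by decide +kernel
theorem c39_15 : allRange (fun i => Nat.beq (act39 i) i) 26460 1764 = true := by decide +kernel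
theorem c39_16 : allRange (fun i => Nat.beq (act39 i) i) 28224 1764 = true := by decide +kernel
theorem c39_17 : allRange (fun i => Nat.beq (act39 i) i) 29988 1764 = true := by decide +kernel
theorem c39_18 : allRange (fun i => Nat.beq (act39 i) i) 31752 1764 = true := by decide +kernel
theorem c39_19 : allRange (fun i => Nat.beq (act39 i) i) 33516 1764 = true := by decide +kernel
theorem c39_20 : allRange (fun i => Nat.beq (act39 i) i) 35280 1764 = true := by decide +kernel
theorem c39_21 : allRange (fun i => Nat.beq (act39 i) i) 37044 1764 = true := by decide +kernel
theorem c39_22 : allRange (fun i => Nat.beq (act39 i) i) 38808 1764 = true := by decide +kernel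
theorem c39_23 : allRange (fun i => Nat.beq (act39 i) i) 40572 1764 = true := by decide +kernel
theorem c39_24 : allRange (fun i => Nat.beq (act39 i) i) 42336 1764 = true := by decide +kernel
theorem c39_25 : allRange (fun i => Nat.beq (act39 i) i) 44100 1764 = true := by decide +kernel
theorem c39_26 : allRange (fun i => Nat.beq (act39 i) i) 45864 1764 = true := by decide +kernel
theorem c39_27 : allRange (fun i => Nat.beq (act39 i) i) 47628 1764 = true := by decide +kernel
theorem c39_28 : allRange (fun i => Nat.beq (act39 i) i) 49392 1764 = true := by decide +kernel
theorem c39_29 : allRange (fun i => Nat.beq (act39 i) i) 51156 1764 = true := by decide +kernel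
theorem c39_30 : allRange (fun i => Nat.beq (act39 i) i) 52920 1764 = true := by decide +kernel
theorem c39_31 : allRange (fun i => Nat.beq (act39 i) i) 54684 1764 = true := by decide +kernel
theorem c39_32 : allRange (fun i => Nat.beq (act39 i) i) 56448 1764 = true := by decide +kernel
theorem c39_33 : allRange (fun i => Nat.beq (act39 i) i) 58212 1764 = true := by decide +kernel
theorem c39_34 : allRange (fun i => Nat.beq (act39 i) i) 59976 1764 = true := by decide +kernel
theorem c39_35 : allRange (fun i => Nat.beq (act39 i) i) 61740 1764 = true := by decide +kernel
theorem c39_36 : allRange (fun i => Nat.beq (act39 i) i) 63504 1764 = true := by decide +kernel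
theorem c39_37 : allRange (fun i => Nat.beq (act39 i) i) 65268 1557 = true := by decide +kernel
theorem h39 : ∀ i, i < T.N → Tab.relActOK T D chk39 i = true := by
  intro i hi
  rw [Tab.relActOK, ← act39_eq]
  exact (range_glue (range_of_allRange c39_0) (range_glue (range_of_allRange c39_1) (range_glue (range_of_allRange c39_2) (range_glue (range_of_allRange c39_3) (range_glue (range_of_allRange c39_4) (range_glue (range_of_allRange c39_5) (range_glue (range_of_allRange c39_6) (range_glue (range_of_allRange c39_7) (range_glue (range_of_allRange c39_8) (range_glue (range_of_allRange c39_9) (range_glue (range_of_allRange c39_10) (range_glue (range_of_allRange c39_11) (range_glue (range_of_allRange c39_12) (range_glue (range_of_allRange c39_13) (range_glue (range_of_allRange c39_14) (range_glue (range_of_allRange c39_15) (range_glue (range_of_allRange c39_16) (range_glue (range_of_allRange c39_17) (range_glue (range_of_allRange c39_18) (range_glue (range_of_allRange c39_19) (range_glue (range_of_allRange c39_20) (range_glue (range_of_allRange c39_21) (range_glue (range_of_allRange c39_22) (range_glue (range_of_allRange c39_23) (range_glue (range_of_allRange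 c39_24) (range_glue (range_of_allRange c39_25) (range_glue (range_of_allRange c39_26) (range_glue (range_of_allRange c39_27) (range_glue (range_of_allRange c39_28) (range_glue (range_of_allRange c39_29) (range_glue (range_of_allRange c39_30) (range_glue (range_of_allRange c39_31) (range_glue (range_of_allRange c39_32) (range_glue (range_of_allRange c39_33) (range_glue (range_of_allRange c39_34) (range_glue (range_of_allRange c39_35) (range_glue (range_of_allRange c39_36) (range_of_allRange c39_37)))))))))))))))))))))))))))))))))))))) i (Nat.zero_le _) hi

def chk55 : List Nat := [4, 1, 2, 0, 3, 1, 2, 2, 0, 3, 0, 5, 2, 2, 0, 3, 1, 1]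
noncomputable def act55 (i : Nat) : Nat := col5 (col0 (col3 (col1 (col2 (col0 (col3 (col3 (col1 (col2 (col1 (col4 (col3 (col3 (col1 (col2 (col0 (col0 (i))))))))))))))))))
theorem act55_eq (i : Nat) : act55 i = Tab.act T D chk55 i := rfl
theorem c55_0 : allRange (fun i => Nat.beq (act55 i) i) 0 3000 = true := by decide +kernel
theorem c55_1 : allRange (fun i => Nat.beq (act55 i) i) 3000 3000 = true := by decide +kernel
theorem c55_2 : allRange (fun i => Nat.beq (act55 i) i) 6000 3000 = true := by decide +kernel
theorem c55_3 : allRange (fun i => Nat.beq (act55 i) i) 9000 3000 = true := by decide +kernel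
theorem c55_4 : allRange (fun i => Nat.beq (act55 i) i) 12000 3000 = true := by decide +kernel
theorem c55_5 : allRange (fun i => Nat.beq (act55 i) i) 15000 3000 = true := by decide +kernel
theorem c55_6 : allRange (fun i => Nat.beq (act55 i) i) 18000 3000 = true := by decide +kernel
theorem c55_7 : allRange (fun i => Nat.beq (act55 i) i) 21000 3000 = true := by decide +kernel
theorem c55_8 : allRange (fun i => Nat.beq (act55 i) i) 24000 3000 = true := by decide +kernel
theorem c55_9 : allRange (fun i => Nat.beq (act55 i) i) 27000 3000 = true := by decide +kernel
theorem c55_10 : allRange (fun i => Nat.beq (act55 i) i) 30000 3000 = true := by decide +kernel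
theorem c55_11 : allRange (fun i => Nat.beq (act55 i) i) 33000 3000 = true := by decide +kernel
theorem c55_12 : allRange (fun i => Nat.beq (act55 i) i) 36000 3000 = true := by decide +kernel
theorem c55_13 : allRange (fun i => Nat.beq (act55 i) i) 39000 3000 = true := by decide +kernel
theorem c55_14 : allRange (fun i => Nat.beq (act55 i) i) 42000 3000 = true := by decide +kernel
theorem c55_15 : allRange (fun i => Nat.beq (act55 i) i) 45000 3000 = true := by decide +kernel
theorem c55_16 : allRange (fun i => Nat.beq (act55 i) i) 48000 3000 = true := by decide +kernel
theorem c55_17 : allRange (fun i => Nat.beq (act55 i) i) 51000 3000 = true := by decide +kernel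
theorem c55_18 : allRange (fun i => Nat.beq (act55 i) i) 54000 3000 = true := by decide +kernel
theorem c55_19 : allRange (fun i => Nat.beq (act55 i) i) 57000 3000 = true := by decide +kernel
theorem c55_20 : allRange (fun i => Nat.beq (act55 i) i) 60000 3000 = true := by decide +kernel
theorem c55_21 : allRange (fun i => Nat.beq (act55 i) i) 63000 3000 = true := by decide +kernel
theorem c55_22 : allRange (fun i => Nat.beq (act55 i) i) 66000 825 = true := by decide +kernel
theorem h55 : ∀ i, i < T.N → Tab.relActOK T D chk55 i = true := by
  intro i hi
  rw [Tab.relActOK, ← act55_eq]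
  exact (range_glue (range_of_allRange c55_0) (range_glue (range_of_allRange c55_1) (range_glue (range_of_allRange c55_2) (range_glue (range_of_allRange c55_3) (range_glue (range_of_allRange c55_4) (range_glue (range_of_allRange c55_5) (range_glue (range_of_allRange c55_6) (range_glue (range_of_allRange c55_7) (range_glue (range_of_allRange c55_8) (range_glue (range_of_allRange c55_9) (range_glue (range_of_allRange c55_10) (range_glue (range_of_allRange c55_11) (range_glue (range_of_allRange c55_12) (range_glue (range_of_allRange c55_13) (range_glue (range_of_allRange c55_14) (range_glue (range_of_allRange c55_15) (range_glue (range_of_allRange c55_16) (range_glue (range_of_allRange c55_17) (range_glue (range_of_allRange c55_18) (range_glue (range_of_allRange c55_19) (range_glue (range_of_allRange c55_20) (range_glue (range_of_allRange c55_21) (range_of_allRange c55_22))))))))))))))))))))))) i (Nat.zero_le _) hi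

def chk62 : List Nat := [1, 3, 3, 0, 0, 2, 1, 3, 3, 0, 0, 2, 1, 3, 3, 0, 0, 2, 1, 3, 3, 0, 0, 2]
noncomputable def act62 (i : Nat) : Nat := col0 (col2 (col2 (col1 (col1 (col3 (col0 (col2 (col2 (col1 (col1 (col3 (col0 (col2 (col2 (col1 (col1 (col3 (col0 (col2 (col2 (col1 (col1 (col3 (i))))))))))))))))))))))))
theorem act62_eq (i : Nat) : act62 i = Tab.act T D chk62 i := rfl
theorem c62_0 : allRange (fun i => Nat.beq (act62 i) i) 0 2307 = true := by decide +kernel
theorem c62_1 : allRange (fun i => Nat.beq (act62 i) i) 2307 2307 = true := by decide +kernel
theorem c62_2 : allRange (fun i => Nat.beq (act62 i) i) 4614 2307 = true := by decide +kernel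
theorem c62_3 : allRange (fun i => Nat.beq (act62 i) i) 6921 2307 = true := by decide +kernel
theorem c62_4 : allRange (fun i => Nat.beq (act62 i) i) 9228 2307 = true := by decide +kernel
theorem c62_5 : allRange (fun i => Nat.beq (act62 i) i) 11535 2307 = true := by decide +kernel
theorem c62_6 : allRange (fun i => Nat.beq (act62 i) i) 13842 2307 = true := by decide +kernel
theorem c62_7 : allRange (fun i => Nat.beq (act62 i) i) 16149 2307 = true := by decide +kernel
theorem c62_8 : allRange (fun i => Nat.beq (act62 i) i) 18456 2307 = true := by decide +kernel
theorem c62_9 : allRange (fun i => Nat.beq (act62 i) i) 20763 2307 = true := by decide +kernel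
theorem c62_10 : allRange (fun i => Nat.beq (act62 i) i) 23070 2307 = true := by decide +kernel
theorem c62_11 : allRange (fun i => Nat.beq (act62 i) i) 25377 2307 = true := by decide +kernel
theorem c62_12 : allRange (fun i => Nat.beq (act62 i) i) 27684 2307 = true := by decide +kernel
theorem c62_13 : allRange (fun i => Nat.beq (act62 i) i) 29991 2307 = true := by decide +kernel
theorem c62_14 : allRange (fun i => Nat.beq (act62 i) i) 32298 2307 = true := by decide +kernel
theorem c62_15 : allRange (fun i => Nat.beq (act62 i) i) 34605 2307 = true := by decide +kernel
theorem c62_16 : allRange (fun i => Nat.beq (act62 i) i) 36912 2307 = true := by decide +kernel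
theorem c62_17 : allRange (fun i => Nat.beq (act62 i) i) 39219 2307 = true := by decide +kernel
theorem c62_18 : allRange (fun i => Nat.beq (act62 i) i) 41526 2307 = true := by decide +kernel
theorem c62_19 : allRange (fun i => Nat.beq (act62 i) i) 43833 2307 = true := by decide +kernel
theorem c62_20 : allRange (fun i => Nat.beq (act62 i) i) 46140 2307 = true := by decide +kernel
theorem c62_21 : allRange (fun i => Nat.beq (act62 i) i) 48447 2307 = true := by decide +kernel
theorem c62_22 : allRange (fun i => Nat.beq (act62 i) i) 50754 2307 = true := by decide +kernel
theorem c62_23 : allRange (fun i => Nat.beq (act62 i) i) 53061 2307 = true := by decide +kernel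
theorem c62_24 : allRange (fun i => Nat.beq (act62 i) i) 55368 2307 = true := by decide +kernel
theorem c62_25 : allRange (fun i => Nat.beq (act62 i) i) 57675 2307 = true := by decide +kernel
theorem c62_26 : allRange (fun i => Nat.beq (act62 i) i) 59982 2307 = true := by decide +kernel
theorem c62_27 : allRange (fun i => Nat.beq (act62 i) i) 62289 2307 = true := by decide +kernel
theorem c62_28 : allRange (fun i => Nat.beq (act62 i) i) 64596 2229 = true := by decide +kernel
theorem h62 : ∀ i, i < T.N → Tab.relActOK T D chk62 i = true := by
  intro i hi
  rw [Tab.relActOK, ← act62_eq]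
  exact (range_glue (range_of_allRange c62_0) (range_glue (range_of_allRange c62_1) (range_glue (range_of_allRange c62_2) (range_glue (range_of_allRange c62_3) (range_glue (range_of_allRange c62_4) (range_glue (range_of_allRange c62_5) (range_glue (range_of_allRange c62_6) (range_glue (range_of_allRange c62_7) (range_glue (range_of_allRange c62_8) (range_glue (range_of_allRange c62_9) (range_glue (range_of_allRange c62_10) (range_glue (range_of_allRange c62_11) (range_glue (range_of_allRange c62_12) (range_glue (range_of_allRange c62_13) (range_glue (range_of_allRange c62_14) (range_glue (range_of_allRange c62_15) (range_glue (range_of_allRange c62_16) (range_glue (range_of_allRange c62_17) (range_glue (range_of_allRange c62_18) (range_glue (range_of_allRange c62_19) (range_glue (range_of_allRange c62_20) (range_glue (range_of_allRange c62_21) (range_glue (range_of_allRange c62_22) (range_glue (range_of_allRange c62_23) (range_glue (range_of_allRange c62_24) (range_glue (range_of_allRange c62_25) (range_glue (range_of_allRange c62_26) (range_glue (range_of_allRange c62_27) (range_of_allRange c62_28))))))))))))))))))))))))))))) i (Nat.zero_le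 _) hi

def chk73 : List Nat := [4, 3, 0, 0, 2, 0, 2, 0, 5, 2, 0, 2, 0, 3, 0, 3, 0, 2, 0]
noncomputable def act73 (i : Nat) : Nat := col5 (col2 (col1 (col1 (col3 (col1 (col3 (col1 (col4 (col3 (col1 (col3 (col1 (col2 (col1 (col2 (col1 (col3 (col1 (i)))))))))))))))))))
theorem act73_eq (i : Nat) : act73 i = Tab.act T D chk73 i := rfl
theorem c73_0 : allRange (fun i => Nat.beq (act73 i) i) 0 2857 = true := by decide +kernel
theorem c73_1 : allRange (fun i => Nat.beq (act73 i) i) 2857 2857 = true := by decide +kernel
theorem c73_2 : allRange (fun i => Nat.beq (act73 i) i) 5714 2857 = true := by decide +kernel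
theorem c73_3 : allRange (fun i => Nat.beq (act73 i) i) 8571 2857 = true := by decide +kernel
theorem c73_4 : allRange (fun i => Nat.beq (act73 i) i) 11428 2857 = true := by decide +kernel
theorem c73_5 : allRange (fun i => Nat.beq (act73 i) i) 14285 2857 = true := by decide +kernel
theorem c73_6 : allRange (fun i => Nat.beq (act73 i) i) 17142 2857 = true := by decide +kernel
theorem c73_7 : allRange (fun i => Nat.beq (act73 i) i) 19999 2857 = true := by decide +kernel
theorem c73_8 : allRange (fun i => Nat.beq (act73 i) i) 22856 2857 = true := by decide +kernel
theorem c73_9 : allRange (fun i => Nat.beq (act73 i) i) 25713 2857 = true := by decide +kernel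
theorem c73_10 : allRange (fun i => Nat.beq (act73 i) i) 28570 2857 = true := by decide +kernel
theorem c73_11 : allRange (fun i => Nat.beq (act73 i) i) 31427 2857 = true := by decide +kernel
theorem c73_12 : allRange (fun i => Nat.beq (act73 i) i) 34284 2857 = true := by decide +kernel
theorem c73_13 : allRange (fun i => Nat.beq (act73 i) i) 37141 2857 = true := by decide +kernel
theorem c73_14 : allRange (fun i => Nat.beq (act73 i) i) 39998 2857 = true := by decide +kernel
theorem c73_15 : allRange (fun i => Nat.beq (act73 i) i) 42855 2857 = true := by decide +kernel
theorem c73_16 : allRange (fun i => Nat.beq (act73 i) i) 45712 2857 = true := by decide +kernel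
theorem c73_17 : allRange (fun i => Nat.beq (act73 i) i) 48569 2857 = true := by decide +kernel
theorem c73_18 : allRange (fun i => Nat.beq (act73 i) i) 51426 2857 = true := by decide +kernel
theorem c73_19 : allRange (fun i => Nat.beq (act73 i) i) 54283 2857 = true := by decide +kernel
theorem c73_20 : allRange (fun i => Nat.beq (act73 i) i) 57140 2857 = true := by decide +kernel
theorem c73_21 : allRange (fun i => Nat.beq (act73 i) i) 59997 2857 = true := by decide +kernel
theorem c73_22 : allRange (fun i => Nat.beq (act73 i) i) 62854 2857 = true := by decide +kernel
theorem c73_23 : allRange (fun i => Nat.beq (act73 i) i) 65711 1114 = true := by decide +kernel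
theorem h73 : ∀ i, i < T.N → Tab.relActOK T D chk73 i = true := by
  intro i hi
  rw [Tab.relActOK, ← act73_eq]
  exact (range_glue (range_of_allRange c73_0) (range_glue (range_of_allRange c73_1) (range_glue (range_of_allRange c73_2) (range_glue (range_of_allRange c73_3) (range_glue (range_of_allRange c73_4) (range_glue (range_of_allRange c73_5) (range_glue (range_of_allRange c73_6) (range_glue (range_of_allRange c73_7) (range_glue (range_of_allRange c73_8) (range_glue (range_of_allRange c73_9) (range_glue (range_of_allRange c73_10) (range_glue (range_of_allRange c73_11) (range_glue (range_of_allRange c73_12) (range_glue (range_of_allRange c73_13) (range_glue (range_of_allRange c73_14) (range_glue (range_of_allRange c73_15) (range_glue (range_of_allRange c73_16) (range_glue (range_of_allRange c73_17) (range_glue (range_of_allRange c73_18) (range_glue (range_of_allRange c73_19) (range_glue (range_of_allRange c73_20) (range_glue (range_of_allRange c73_21) (range_glue (range_of_allRange c73_22) (range_of_allRange c73_23)))))))))))))))))))))))) i (Nat.zero_le _) hi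

def chk74 : List Nat := [3, 0, 0, 2, 0, 2, 0, 3, 0, 0, 2, 0, 2, 0, 3, 0, 0, 2, 0, 2, 0, 3, 0, 0, 2, 0, 2, 0]
noncomputable def act74 (i : Nat) : Nat := col2 (col1 (col1 (col3 (col1 (col3 (col1 (col2 (col1 (col1 (col3 (col1 (col3 (col1 (col2 (col1 (col1 (col3 (col1 (col3 (col1 (col2 (col1 (col1 (col3 (col1 (col3 (col1 (i))))))))))))))))))))))))))))
theorem act74_eq (i : Nat) : act74 i = Tab.act T D chk74 i := rfl
theorem c74_0 : allRange (fun i => Nat.beq (act74 i) i) 0 2000 = true := by decide +kernel
theorem c74_1 : allRange (fun i => Nat.beq (act74 i) i) 2000 2000 = true := by decide +kernel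
theorem c74_2 : allRange (fun i => Nat.beq (act74 i) i) 4000 2000 = true := by decide +kernel
theorem c74_3 : allRange (fun i => Nat.beq (act74 i) i) 6000 2000 = true := by decide +kernel
theorem c74_4 : allRange (fun i => Nat.beq (act74 i) i) 8000 2000 = true := by decide +kernel
theorem c74_5 : allRange (fun i => Nat.beq (act74 i) i) 10000 2000 = true := by decide +kernel
theorem c74_6 : allRange (fun i => Nat.beq (act74 i) i) 12000 2000 = true := by decide +kernel
theorem c74_7 : allRange (fun i => Nat.beq (act74 i) i) 14000 2000 = true := by decide +kernel
theorem c74_8 : allRange (fun i => Nat.beq (act74 i) i) 16000 2000 = true := by decide +kernel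
theorem c74_9 : allRange (fun i => Nat.beq (act74 i) i) 18000 2000 = true := by decide +kernel
theorem c74_10 : allRange (fun i => Nat.beq (act74 i) i) 20000 2000 = true := by decide +kernel
theorem c74_11 : allRange (fun i => Nat.beq (act74 i) i) 22000 2000 = true := by decide +kernel
theorem c74_12 : allRange (fun i => Nat.beq (act74 i) i) 24000 2000 = true := by decide +kernel
theorem c74_13 : allRange (fun i => Nat.beq (act74 i) i) 26000 2000 = true := by decide +kernel
theorem c74_14 : allRange (fun i => Nat.beq (act74 i) i) 28000 2000 = true := by decide +kernel
theorem c74_15 : allRange (fun i => Nat.beq (act74 i) i) 30000 2000 = true := by decide +kernel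
theorem c74_16 : allRange (fun i => Nat.beq (act74 i) i) 32000 2000 = true := by decide +kernel
theorem c74_17 : allRange (fun i => Nat.beq (act74 i) i) 34000 2000 = true := by decide +kernel
theorem c74_18 : allRange (fun i => Nat.beq (act74 i) i) 36000 2000 = true := by decide +kernel
theorem c74_19 : allRange (fun i => Nat.beq (act74 i) i) 38000 2000 = true := by decide +kernel
theorem c74_20 : allRange (fun i => Nat.beq (act74 i) i) 40000 2000 = true := by decide +kernel
theorem c74_21 : allRange (fun i => Nat.beq (act74 i) i) 42000 2000 = true := by decide +kernel
theorem c74_22 : allRange (fun i => Nat.beq (act74 i) i) 44000 2000 = true := by decide +kernel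
theorem c74_23 : allRange (fun i => Nat.beq (act74 i) i) 46000 2000 = true := by decide +kernel
theorem c74_24 : allRange (fun i => Nat.beq (act74 i) i) 48000 2000 = true := by decide +kernel
theorem c74_25 : allRange (fun i => Nat.beq (act74 i) i) 50000 2000 = true := by decide +kernel
theorem c74_26 : allRange (fun i => Nat.beq (act74 i) i) 52000 2000 = true := by decide +kernel
theorem c74_27 : allRange (fun i => Nat.beq (act74 i) i) 54000 2000 = true := by decide +kernel
theorem c74_28 : allRange (fun i => Nat.beq (act74 i) i) 56000 2000 = true := by decide +kernel
theorem c74_29 : allRange (fun i => Nat.beq (act74 i) i) 58000 2000 = true := by decide +kernel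
theorem c74_30 : allRange (fun i => Nat.beq (act74 i) i) 60000 2000 = true := by decide +kernel
theorem c74_31 : allRange (fun i => Nat.beq (act74 i) i) 62000 2000 = true := by decide +kernel
theorem c74_32 : allRange (fun i => Nat.beq (act74 i) i) 64000 2000 = true := by decide +kernel
theorem c74_33 : allRange (fun i => Nat.beq (act74 i) i) 66000 825 = true := by decide +kernel
theorem h74 : ∀ i, i < T.N → Tab.relActOK T D chk74 i = true := by
  intro i hi
  rw [Tab.relActOK, ← act74_eq]
  exact (range_glue (range_of_allRange c74_0) (range_glue (range_of_allRange c74_1) (range_glue (range_of_allRange c74_2) (range_glue (range_of_allRange c74_3) (range_glue (range_of_allRange c74_4) (range_glue (range_of_allRange c74_5) (range_glue (range_of_allRange c74_6) (range_glue (range_of_allRange c74_7) (range_glue (range_of_allRange c74_8) (range_glue (range_of_allRange c74_9) (range_glue (range_of_allRange c74_10) (range_glue (range_of_allRange c74_11) (range_glue (range_of_allRange c74_12) (range_glue (range_of_allRange c74_13) (range_glue (range_of_allRange c74_14) (range_glue (range_of_allRange c74_15) (range_glue (range_of_allRange c74_16) (range_glue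 (range_of_allRange c74_17) (range_glue (range_of_allRange c74_18) (range_glue (range_of_allRange c74_19) (range_glue (range_of_allRange c74_20) (range_glue (range_of_allRange c74_21) (range_glue (range_of_allRange c74_22) (range_glue (range_of_allRange c74_23) (range_glue (range_of_allRange c74_24) (range_glue (range_of_allRange c74_25) (range_glue (range_of_allRange c74_26) (range_glue (range_of_allRange c74_27) (range_glue (range_of_allRange c74_28) (range_glue (range_of_allRange c74_29) (range_glue (range_of_allRange c74_30) (range_glue (range_of_allRange c74_31) (range_glue (range_of_allRange c74_32) (range_of_allRange c74_33)))))))))))))))))))))))))))))))))) i (Nat.zero_le _) hi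

def chk86 : List Nat := [2, 0, 0, 0, 3, 0, 2, 0, 0, 2, 0, 0, 0, 3, 0, 2, 0, 0, 2, 0, 0, 0, 3, 0, 2, 0, 0, 2, 0, 0, 0, 3, 0, 2, 0, 0]
noncomputable def act86 (i : Nat) : Nat := col3 (col1 (col1 (col1 (col2 (col1 (col3 (col1 (col1 (col3 (col1 (col1 (col1 (col2 (col1 (col3 (col1 (col1 (col3 (col1 (col1 (col1 (col2 (col1 (col3 (col1 (col1 (col3 (col1 (col1 (col1 (col2 (col1 (col3 (col1 (col1 (i))))))))))))))))))))))))))))))))))))
theorem act86_eq (i : Nat) : act86 i = Tab.act T D chk86 i := rfl
theorem c86_0 : allRange (fun i => Nat.beq (act86 i) i) 0 1578 = true := by decide +kernel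
theorem c86_1 : allRange (fun i => Nat.beq (act86 i) i) 1578 1578 = true := by decide +kernel
theorem c86_2 : allRange (fun i => Nat.beq (act86 i) i) 3156 1578 = true := by decide +kernel
theorem c86_3 : allRange (fun i => Nat.beq (act86 i) i) 4734 1578 = true := by decide +kernel
theorem c86_4 : allRange (fun i => Nat.beq (act86 i) i) 6312 1578 = true := by decide +kernel
theorem c86_5 : allRange (fun i => Nat.beq (act86 i) i) 7890 1578 = true := by decide +kernel
theorem c86_6 : allRange (fun i => Nat.beq (act86 i) i) 9468 1578 = true := by decide +kernel
theorem c86_7 : allRange (fun i => Nat.beq (act86 i) i) 11046 1578 = true := by decide +kernel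
theorem c86_8 : allRange (fun i => Nat.beq (act86 i) i) 12624 1578 = true := by decide +kernel
theorem c86_9 : allRange (fun i => Nat.beq (act86 i) i) 14202 1578 = true := by decide +kernel
theorem c86_10 : allRange (fun i => Nat.beq (act86 i) i) 15780 1578 = true := by decide +kernel
theorem c86_11 : allRange (fun i => Nat.beq (act86 i) i) 17358 1578 = true := by decide +kernel
theorem c86_12 : allRange (fun i => Nat.beq (act86 i) i) 18936 1578 = true := by decide +kernel
theorem c86_13 : allRange (fun i => Nat.beq (act86 i) i) 20514 1578 = true := by decide +kernel
theorem c86_14 : allRange (fun i => Nat.beq (act86 i) i) 22092 1578 = true := by decide +kernel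
theorem c86_15 : allRange (fun i => Nat.beq (act86 i) i) 23670 1578 = true := by decide +kernel
theorem c86_16 : allRange (fun i => Nat.beq (act86 i) i) 25248 1578 = true := by decide +kernel
theorem c86_17 : allRange (fun i => Nat.beq (act86 i) i) 26826 1578 = true := by decide +kernel
theorem c86_18 : allRange (fun i => Nat.beq (act86 i) i) 28404 1578 = true := by decide +kernel
theorem c86_19 : allRange (fun i => Nat.beq (act86 i) i) 29982 1578 = true := by decide +kernel
theorem c86_20 : allRange (fun i => Nat.beq (act86 i) i) 31560 1578 = true := by decide +kernel
theorem c86_21 : allRange (fun i => Nat.beq (act86 i) i) 33138 1578 = true := by decide +kernel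
theorem c86_22 : allRange (fun i => Nat.beq (act86 i) i) 34716 1578 = true := by decide +kernel
theorem c86_23 : allRange (fun i => Nat.beq (act86 i) i) 36294 1578 = true := by decide +kernel
theorem c86_24 : allRange (fun i => Nat.beq (act86 i) i) 37872 1578 = true := by decide +kernel
theorem c86_25 : allRange (fun i => Nat.beq (act86 i) i) 39450 1578 = true := by decide +kernel
theorem c86_26 : allRange (fun i => Nat.beq (act86 i) i) 41028 1578 = true := by decide +kernel
theorem c86_27 : allRange (fun i => Nat.beq (act86 i) i) 42606 1578 = true := by decide +kernel
theorem c86_28 : allRange (fun i => Nat.beq (act86 i) i) 44184 1578 = true := by decide +kernel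
theorem c86_29 : allRange (fun i => Nat.beq (act86 i) i) 45762 1578 = true := by decide +kernel
theorem c86_30 : allRange (fun i => Nat.beq (act86 i) i) 47340 1578 = true := by decide +kernel
theorem c86_31 : allRange (fun i => Nat.beq (act86 i) i) 48918 1578 = true := by decide +kernel
theorem c86_32 : allRange (fun i => Nat.beq (act86 i) i) 50496 1578 = true := by decide +kernel
theorem c86_33 : allRange (fun i => Nat.beq (act86 i) i) 52074 1578 = true := by decide +kernel
theorem c86_34 : allRange (fun i => Nat.beq (act86 i) i) 53652 1578 = true := by decide +kernel
theorem c86_35 : allRange (fun i => Nat.beq (act86 i) i) 55230 1578 = true := by decide +kernel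
theorem c86_36 : allRange (fun i => Nat.beq (act86 i) i) 56808 1578 = true := by decide +kernel
theorem c86_37 : allRange (fun i => Nat.beq (act86 i) i) 58386 1578 = true := by decide +kernel
theorem c86_38 : allRange (fun i => Nat.beq (act86 i) i) 59964 1578 = true := by decide +kernel
theorem c86_39 : allRange (fun i => Nat.beq (act86 i) i) 61542 1578 = true := by decide +kernel
theorem c86_40 : allRange (fun i => Nat.beq (act86 i) i) 63120 1578 = true := by decide +kernel
theorem c86_41 : allRange (fun i => Nat.beq (act86 i) i) 64698 1578 = true := by decide +kernel
theorem c86_42 : allRange (fun i => Nat.beq (act86 i) i) 66276 549 = true := by decide +kernel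
theorem h86 : ∀ i, i < T.N → Tab.relActOK T D chk86 i = true := by
  intro i hi
  rw [Tab.relActOK, ← act86_eq]
  exact (range_glue (range_of_allRange c86_0) (range_glue (range_of_allRange c86_1) (range_glue (range_of_allRange c86_2) (range_glue (range_of_allRange c86_3) (range_glue (range_of_allRange c86_4) (range_glue (range_of_allRange c86_5) (range_glue (range_of_allRange c86_6) (range_glue (range_of_allRange c86_7) (range_glue (range_of_allRange c86_8) (range_glue (range_of_allRange c86_9) (range_glue (range_of_allRange c86_10) (range_glue (range_of_allRange c86_11) (range_glue (range_of_allRange c86_12) (range_glue (range_of_allRange c86_13) (range_glue (range_of_allRange c86_14) (range_glue (range_of_allRange c86_15) (range_glue (range_of_allRange c86_16) (range_glue (range_of_allRange c86_17) (range_glue (range_of_allRange c86_18) (range_glue (range_of_allRange c86_19) (range_glue (range_of_allRange c86_20) (range_glue (range_of_allRange c86_21) (range_glue (range_of_allRange c86_22) (range_glue (range_of_allRange c86_23) (range_glue (range_of_allRange c86_24) (range_glue (range_of_allRange c86_25) (range_glue (range_of_allRange c86_26)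 (range_glue (range_of_allRange c86_27) (range_glue (range_of_allRange c86_28) (range_glue (range_of_allRange c86_29) (range_glue (range_of_allRange c86_30) (range_glue (range_of_allRange c86_31) (range_glue (range_of_allRange c86_32) (range_glue (range_of_allRange c86_33) (range_glue (range_of_allRange c86_34) (range_glue (range_of_allRange c86_35) (range_glue (range_of_allRange c86_36) (range_glue (range_of_allRange c86_37) (range_glue (range_of_allRange c86_38) (range_glue (range_of_allRange c86_39) (range_glue (range_of_allRange c86_40) (range_glue (range_of_allRange c86_41) (range_of_allRange c86_42))))))))))))))))))))))))))))))))))))))))))) i (Nat.zero_le _) hi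

def chk91 : List Nat := [5, 0, 3, 3, 0, 3, 0, 3, 1, 4, 2, 0, 0, 0, 3, 0, 2, 0, 0]
noncomputable def act91 (i : Nat) : Nat := col4 (col1 (col2 (col2 (col1 (col2 (col1 (col2 (col0 (col5 (col3 (col1 (col1 (col1 (col2 (col1 (col3 (col1 (col1 (i)))))))))))))))))))
theorem act91_eq (i : Nat) : act91 i = Tab.act T D chk91 i := rfl
theorem c91_0 : allRange (fun i => Nat.beq (act91 i) i) 0 2857 = true := by decide +kernel
theorem c91_1 : allRange (fun i => Nat.beq (act91 i) i) 2857 2857 = true := by decide +kernel
theorem c91_2 : allRange (fun i => Nat.beq (act91 i) i) 5714 2857 = true := by decide +kernel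
theorem c91_3 : allRange (fun i => Nat.beq (act91 i) i) 8571 2857 = true := by decide +kernel
theorem c91_4 : allRange (fun i => Nat.beq (act91 i) i) 11428 2857 = true := by decide +kernel
theorem c91_5 : allRange (fun i => Nat.beq (act91 i) i) 14285 2857 = true := by decide +kernel
theorem c91_6 : allRange (fun i => Nat.beq (act91 i) i) 17142 2857 = true := by decide +kernel
theorem c91_7 : allRange (fun i => Nat.beq (act91 i) i) 19999 2857 = true := by decide +kernel
theorem c91_8 : allRange (fun i => Nat.beq (act91 i) i) 22856 2857 = true := by decide +kernel
theorem c91_9 : allRange (fun i => Nat.beq (act91 i) i) 25713 2857 = true := by decide +kernel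
theorem c91_10 : allRange (fun i => Nat.beq (act91 i) i) 28570 2857 = true := by decide +kernel
theorem c91_11 : allRange (fun i => Nat.beq (act91 i) i) 31427 2857 = true := by decide +kernel
theorem c91_12 : allRange (fun i => Nat.beq (act91 i) i) 34284 2857 = true := by decide +kernel
theorem c91_13 : allRange (fun i => Nat.beq (act91 i) i) 37141 2857 = true := by decide +kernel
theorem c91_14 : allRange (fun i => Nat.beq (act91 i) i) 39998 2857 = true := by decide +kernel
theorem c91_15 : allRange (fun i => Nat.beq (act91 i) i) 42855 2857 = true := by decide +kernel
theorem c91_16 : allRange (fun i => Nat.beq (act91 i) i) 45712 2857 = true := by decide +kernel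
theorem c91_17 : allRange (fun i => Nat.beq (act91 i) i) 48569 2857 = true := by decide +kernel
theorem c91_18 : allRange (fun i => Nat.beq (act91 i) i) 51426 2857 = true := by decide +kernel
theorem c91_19 : allRange (fun i => Nat.beq (act91 i) i) 54283 2857 = true := by decide +kernel
theorem c91_20 : allRange (fun i => Nat.beq (act91 i) i) 57140 2857 = true := by decide +kernel
theorem c91_21 : allRange (fun i => Nat.beq (act91 i) i) 59997 2857 = true := by decide +kernel
theorem c91_22 : allRange (fun i => Nat.beq (act91 i) i) 62854 2857 = true := by decide +kernel
theorem c91_23 : allRange (fun i => Nat.beq (act91 i) i) 65711 1114 = true := by decide +kernel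
theorem h91 : ∀ i, i < T.N → Tab.relActOK T D chk91 i = true := by
  intro i hi
  rw [Tab.relActOK, ← act91_eq]
  exact (range_glue (range_of_allRange c91_0) (range_glue (range_of_allRange c91_1) (range_glue (range_of_allRange c91_2) (range_glue (range_of_allRange c91_3) (range_glue (range_of_allRange c91_4) (range_glue (range_of_allRange c91_5) (range_glue (range_of_allRange c91_6) (range_glue (range_of_allRange c91_7) (range_glue (range_of_allRange c91_8) (range_glue (range_of_allRange c91_9) (range_glue (range_of_allRange c91_10) (range_glue (range_of_allRange c91_11) (range_glue (range_of_allRange c91_12) (range_glue (range_of_allRange c91_13) (range_glue (range_of_allRange c91_14) (range_glue (range_of_allRange c91_15) (range_glue (range_of_allRange c91_16) (range_glue (range_of_allRange c91_17) (range_glue (range_of_allRange c91_18) (range_glue (range_of_allRange c91_19) (range_glue (range_of_allRange c91_20) (range_glue (range_of_allRange c91_21) (range_glue (range_of_allRange c91_22) (range_of_allRange c91_23)))))))))))))))))))))))) i (Nat.zero_le _) hi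

def chk92 : List Nat := [0, 3, 3, 0, 3, 0, 3, 1, 0, 3, 3, 0, 3, 0, 3, 1, 0, 3, 3, 0, 3, 0, 3, 1, 0, 3, 3, 0, 3, 0, 3, 1]
noncomputable def act92 (i : Nat) : Nat := col1 (col2 (col2 (col1 (col2 (col1 (col2 (col0 (col1 (col2 (col2 (col1 (col2 (col1 (col2 (col0 (col1 (col2 (col2 (col1 (col2 (col1 (col2 (col0 (col1 (col2 (col2 (col1 (col2 (col1 (col2 (col0 (i))))))))))))))))))))))))))))))))
theorem act92_eq (i : Nat) : act92 i = Tab.act T D chk92 i := rfl
theorem c92_0 : allRange (fun i => Nat.beq (act92 i) i) 0 1764 = true := by decide +kernel
theorem c92_1 : allRange (fun i => Nat.beq (act92 i) i) 1764 1764 = true := by decide +kernel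
theorem c92_2 : allRange (fun i => Nat.beq (act92 i) i) 3528 1764 = true := by decide +kernel
theorem c92_3 : allRange (fun i => Nat.beq (act92 i) i) 5292 1764 = true := by decide +kernel
theorem c92_4 : allRange (fun i => Nat.beq (act92 i) i) 7056 1764 = true := by decide +kernel
theorem c92_5 : allRange (fun i => Nat.beq (act92 i) i) 8820 1764 = true := by decide +kernel
theorem c92_6 : allRange (fun i => Nat.beq (act92 i) i) 10584 1764 = true := by decide +kernel
theorem c92_7 : allRange (fun i => Nat.beq (act92 i) i) 12348 1764 = true := by decide +kernel
theorem c92_8 : allRange (fun i => Nat.beq (act92 i) i) 14112 1764 = true := by decide +kernel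
theorem c92_9 : allRange (fun i => Nat.beq (act92 i) i) 15876 1764 = true := by decide +kernel
theorem c92_10 : allRange (fun i => Nat.beq (act92 i) i) 17640 1764 = true := by decide +kernel
theorem c92_11 : allRange (fun i => Nat.beq (act92 i) i) 19404 1764 = true := by decide +kernel
theorem c92_12 : allRange (fun i => Nat.beq (act92 i) i) 21168 1764 = true := by decide +kernel
theorem c92_13 : allRange (fun i => Nat.beq (act92 i) i) 22932 1764 = true := by decide +kernel
theorem c92_14 : allRange (fun i => Nat.beq (act92 i) i) 24696 1764 = true := by decide +kernel
theorem c92_15 : allRange (fun i => Nat.beq (act92 i) i) 26460 1764 = true := by decide +kernel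
theorem c92_16 : allRange (fun i => Nat.beq (act92 i) i) 28224 1764 = true := by decide +kernel
theorem c92_17 : allRange (fun i => Nat.beq (act92 i) i) 29988 1764 = true := by decide +kernel
theorem c92_18 : allRange (fun i => Nat.beq (act92 i) i) 31752 1764 = true := by decide +kernel
theorem c92_19 : allRange (fun i => Nat.beq (act92 i) i) 33516 1764 = true := by decide +kernel
theorem c92_20 : allRange (fun i => Nat.beq (act92 i) i) 35280 1764 = true := by decide +kernel
theorem c92_21 : allRange (fun i => Nat.beq (act92 i) i) 37044 1764 = true := by decide +kernel
theorem c92_22 : allRange (fun i => Nat.beq (act92 i) i) 38808 1764 = true := by decide +kernel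
theorem c92_23 : allRange (fun i => Nat.beq (act92 i) i) 40572 1764 = true := by decide +kernel
theorem c92_24 : allRange (fun i => Nat.beq (act92 i) i) 42336 1764 = true := by decide +kernel
theorem c92_25 : allRange (fun i => Nat.beq (act92 i) i) 44100 1764 = true := by decide +kernel
theorem c92_26 : allRange (fun i => Nat.beq (act92 i) i) 45864 1764 = true := by decide +kernel
theorem c92_27 : allRange (fun i => Nat.beq (act92 i) i) 47628 1764 = true := by decide +kernel
theorem c92_28 : allRange (fun i => Nat.beq (act92 i) i) 49392 1764 = true := by decide +kernel
theorem c92_29 : allRange (fun i => Nat.beq (act92 i) i) 51156 1764 = true := by decide +kernel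
theorem c92_30 : allRange (fun i => Nat.beq (act92 i) i) 52920 1764 = true := by decide +kernel
theorem c92_31 : allRange (fun i => Nat.beq (act92 i) i) 54684 1764 = true := by decide +kernel
theorem c92_32 : allRange (fun i => Nat.beq (act92 i) i) 56448 1764 = true := by decide +kernel
theorem c92_33 : allRange (fun i => Nat.beq (act92 i) i) 58212 1764 = true := by decide +kernel
theorem c92_34 : allRange (fun i => Nat.beq (act92 i) i) 59976 1764 = true := by decide +kernel
theorem c92_35 : allRange (fun i => Nat.beq (act92 i) i) 61740 1764 = true := by decide +kernel
theorem c92_36 : allRange (fun i => Nat.beq (act92 i) i) 63504 1764 = true := by decide +kernel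
theorem c92_37 : allRange (fun i => Nat.beq (act92 i) i) 65268 1557 = true := by decide +kernel
theorem h92 : ∀ i, i < T.N → Tab.relActOK T D chk92 i = true := by
  intro i hi
  rw [Tab.relActOK, ← act92_eq]
  exact (range_glue (range_of_allRange c92_0) (range_glue (range_of_allRange c92_1) (range_glue (range_of_allRange c92_2) (range_glue (range_of_allRange c92_3) (range_glue (range_of_allRange c92_4) (range_glue (range_of_allRange c92_5) (range_glue (range_of_allRange c92_6) (range_glue (range_of_allRange c92_7) (range_glue (range_of_allRange c92_8) (range_glue (range_of_allRange c92_9) (range_glue (range_of_allRange c92_10) (range_glue (range_of_allRange c92_11) (range_glue (range_of_allRange c92_12) (range_glue (range_of_allRange c92_13) (range_glue (range_of_allRange c92_14) (range_glue (range_of_allRange c92_15) (range_glue (range_of_allRange c92_16) (range_glue (range_of_allRange c92_17) (range_glue (range_of_allRange c92_18) (range_glue (range_of_allRange c92_19) (range_glue (range_of_allRange c92_20) (range_glue (range_of_allRange c92_21) (range_glue (range_of_allRange c92_22) (range_glue (range_of_allRange c92_23) (range_glue (range_of_allRange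 c92_24) (range_glue (range_of_allRange c92_25) (range_glue (range_of_allRange c92_26) (range_glue (range_of_allRange c92_27) (range_glue (range_of_allRange c92_28) (range_glue (range_of_allRange c92_29) (range_glue (range_of_allRange c92_30) (range_glue (range_of_allRange c92_31) (range_glue (range_of_allRange c92_32) (range_glue (range_of_allRange c92_33) (range_glue (range_of_allRange c92_34) (range_glue (range_of_allRange c92_35) (range_glue (range_of_allRange c92_36) (range_of_allRange c92_37)))))))))))))))))))))))))))))))))))))) i (Nat.zero_le _) hi

end Cfsg.Agent.Lib.Helper4.TCD.SC3McLp3W
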