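import Cfsg.Agent.Lib.Helper4.TCD_C3McLR_Acc
import Cfsg.Agent.Lib.Helper4.TC13

namespace Cfsg.Agent.Lib.Helper4.TCD.SC3McLp3W

open Cfsg.Agent.Lib.Helper4.TC Cfsg.Agent.Lib.Helper4.TCD.C3McLR

set_option maxRecDepth 100000
set_option Elab.async false

def chk18 : List Nat := [0, 2, 0, 3, 1, 3, 3, 1, 2, 0, 2, 2]
noncomputable def act18 (i : Nat) : Nat := col1 (col3 (col1 (col2 (col0 (col2 (col2 (col0 (col3 (col1 (col3 (col3 (i))))))))))))
theorem act18_eq (i : Nat) : act18 i = Tab.act T D chk18 i := rfl
theorem c18_0 : allRange (fun i => Nat.beq (act18 i) i) 0 4285 = true := by decide +kernel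
theorem c18_1 : allRange (fun i => Nat.beq (act18 i) i) 4285 4285 = true := by decide +kernel
theorem c18_2 : allRange (fun i => Nat.beq (act18 i) i) 8570 4285 = true := by decide +kernel
theorem c18_3 : allRange (fun i => Nat.beq (act18 i) i) 12855 4285 = true := by decide +kernel
theorem c18_4 : allRange (fun i => Nat.beq (act18 i) i) 17140 4285 = true := by decide +kernel
theorem c18_5 : allRange (fun i => Nat.beq (act18 i) i) 21425 4285 = true := by decide +kernel
theorem c18_6 : allRange (fun i => Nat.beq (act18 i) i) 25710 4285 = true := by decide +kernel
theorem c18_7 : allRange (fun i => Nat.beq (act18 i) i) 29995 4285 = true := by decide +kernel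
theorem c18_8 : allRange (fun i => Nat.beq (act18 i) i) 34280 4285 = true := by decide +kernel
theorem c18_9 : allRange (fun i => Nat.beq (act18 i) i) 38565 4285 = true := by decide +kernel
theorem c18_10 : allRange (fun i => Nat.beq (act18 i) i) 42850 4285 = true := by decide +kernel
theorem c18_11 : allRange (fun i => Nat.beq (act18 i) i) 47135 4285 = true := by decide +kernel
theorem c18_12 : allRange (fun i => Nat.beq (act18 i) i) 51420 4285 = true := by decide +kernel
theorem c18_13 : allRange (fun i => Nat.beq (act18 i) i) 55705 4285 = true := by decide +kernel
theorem c18_14 : allRange (fun i => Nat.beq (act18 i) i) 59990 4285 = true := by decide +kernel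
theorem c18_15 : allRange (fun i => Nat.beq (act18 i) i) 64275 2550 = true := by decide +kernel
theorem h18 : ∀ i, i < T.N → Tab.relActOK T D chk18 i = true := by
  intro i hi
  rw [Tab.relActOK, ← act18_eq]
  exact (range_glue (range_of_allRange c18_0) (range_glue (range_of_allRange c18_1) (range_glue (range_of_allRange c18_2) (range_glue (range_of_allRange c18_3) (range_glue (range_of_allRange c18_4) (range_glue (range_of_allRange c18_5) (range_glue (range_of_allRange c18_6) (range_glue (range_of_allRange c18_7) (range_glue (range_of_allRange c18_8) (range_glue (range_of_allRange c18_9) (range_glue (range_of_allRange c18_10) (range_glue (range_of_allRange c18_11) (range_glue (range_of_allRange c18_12) (range_glue (range_of_allRange c18_13) (range_glue (range_of_allRange c18_14) (range_of_allRange c18_15)))))))))))))))) i (Nat.zero_le _) hi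

def chk28 : List Nat := [4, 2, 2, 0, 0, 3, 1, 3, 1, 5, 0, 0, 3, 0, 0, 0, 2, 0]
noncomputable def act28 (i : Nat) : Nat := col5 (col3 (col3 (col1 (col1 (col2 (col0 (col2 (col0 (col4 (col1 (col1 (col2 (col1 (col1 (col1 (col3 (col1 (i))))))))))))))))))
theorem act28_eq (i : Nat) : act28 i = Tab.act T D chk28 i := rfl
theorem c28_0 : allRange (fun i => Nat.beq (act28 i) i) 0 3000 = true := by decide +kernel
theorem c28_1 : allRange (fun i => Nat.beq (act28 i) i) 3000 3000 = true := by decide +kernel
theorem c28_2 : allRange (fun i => Nat.beq (act28 i) i) 6000 3000 = true := by decide +kernel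
theorem c28_3 : allRange (fun i => Nat.beq (act28 i) i) 9000 3000 = true := by decide +kernel
theorem c28_4 : allRange (fun i => Nat.beq (act28 i) i) 12000 3000 = true := by decide +kernel
theorem c28_5 : allRange (fun i => Nat.beq (act28 i) i) 15000 3000 = true := by decide +kernel
theorem c28_6 : allRange (fun i => Nat.beq (act28 i) i) 18000 3000 = true := by decide +kernel
theorem c28_7 : allRange (fun i => Nat.beq (act28 i) i) 21000 3000 = true := by decide +kernel
theorem c28_8 : allRange (fun i => Nat.beq (act28 i) i) 24000 3000 = true := by decide +kernel
theorem c28_9 : allRange (fun i => Nat.beq (act28 i) i) 27000 3000 = true := by decide +kernel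
theorem c28_10 : allRange (fun i => Nat.beq (act28 i) i) 30000 3000 = true := by decide +kernel
theorem c28_11 : allRange (fun i => Nat.beq (act28 i) i) 33000 3000 = true := by decide +kernel
theorem c28_12 : allRange (fun i => Nat.beq (act28 i) i) 36000 3000 = true := by decide +kernel
theorem c28_13 : allRange (fun i => Nat.beq (act28 i) i) 39000 3000 = true := by decide +kernel
theorem c28_14 : allRange (fun i => Nat.beq (act28 i) i) 42000 3000 = true := by decide +kernel
theorem c28_15 : allRange (fun i => Nat.beq (act28 i) i) 45000 3000 = true := by decide +kernel
theorem c28_16 : allRange (fun i => Nat.beq (act28 i) i) 48000 3000 = true := by decide +kernel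
theorem c28_17 : allRange (fun i => Nat.beq (act28 i) i) 51000 3000 = true := by decide +kernel
theorem c28_18 : allRange (fun i => Nat.beq (act28 i) i) 54000 3000 = true := by decide +kernel
theorem c28_19 : allRange (fun i => Nat.beq (act28 i) i) 57000 3000 = true := by decide +kernel
theorem c28_20 : allRange (fun i => Nat.beq (act28 i) i) 60000 3000 = true := by decide +kernel
theorem c28_21 : allRange (fun i => Nat.beq (act28 i) i) 63000 3000 = true := by decide +kernel
theorem c28_22 : allRange (fun i => Nat.beq (act28 i) i) 66000 825 = true := by decide +kernel
theorem h28 : ∀ i, i < T.N → Tab.relActOK T D chk28 i = true := by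
  intro i hi
  rw [Tab.relActOK, ← act28_eq]
  exact (range_glue (range_of_allRange c28_0) (range_glue (range_of_allRange c28_1) (range_glue (range_of_allRange c28_2) (range_glue (range_of_allRange c28_3) (range_glue (range_of_allRange c28_4) (range_glue (range_of_allRange c28_5) (range_glue (range_of_allRange c28_6) (range_glue (range_of_allRange c28_7) (range_glue (range_of_allRange c28_8) (range_glue (range_of_allRange c28_9) (range_glue (range_of_allRange c28_10) (range_glue (range_of_allRange c28_11) (range_glue (range_of_allRange c28_12) (range_glue (range_of_allRange c28_13) (range_glue (range_of_allRange c28_14) (range_glue (range_of_allRange c28_15) (range_glue (range_of_allRange c28_16) (range_glue (range_of_allRange c28_17) (range_glue (range_of_allRange c28_18) (range_glue (range_of_allRange c28_19) (range_glue (range_of_allRange c28_20) (range_glue (range_of_allRange c28_21) (range_of_allRange c28_22))))))))))))))))))))))) i (Nat.zero_le _) hi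

def chk41 : List Nat := [1, 3, 1, 1, 1, 2, 1, 1, 1, 3, 1, 1, 1, 2, 1, 1, 1, 3, 1, 1, 1, 2, 1, 1, 1, 3, 1, 1, 1, 2, 1, 1]
noncomputable def act41 (i : Nat) : Nat := col0 (col2 (col0 (col0 (col0 (col3 (col0 (col0 (col0 (col2 (col0 (col0 (col0 (col3 (col0 (col0 (col0 (col2 (col0 (col0 (col0 (col3 (col0 (col0 (col0 (col2 (col0 (col0 (col0 (col3 (col0 (col0 (i))))))))))))))))))))))))))))))))
theorem act41_eq (i : Nat) : act41 i = Tab.act T D chk41 i := rfl
theorem c41_0 : allRange (fun i => Nat.beq (act41 i) i) 0 1764 = true := by decide +kernel
theorem c41_1 : allRange (fun i => Nat.beq (act41 i) i) 1764 1764 = true := by decide +kernel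
theorem c41_2 : allRange (fun i => Nat.beq (act41 i) i) 3528 1764 = true := by decide +kernel
theorem c41_3 : allRange (fun i => Nat.beq (act41 i) i) 5292 1764 = true := by decide +kernel
theorem c41_4 : allRange (fun i => Nat.beq (act41 i) i) 7056 1764 = true := by decide +kernel
theorem c41_5 : allRange (fun i => Nat.beq (act41 i) i) 8820 1764 = true := by decide +kernel
theorem c41_6 : allRange (fun i => Nat.beq (act41 i) i) 10584 1764 = true := by decide +kernel
theorem c41_7 : allRange (fun i => Nat.beq (act41 i) i) 12348 1764 = true := by decide +kernel
theorem c41_8 : allRange (fun i => Nat.beq (act41 i) i) 14112 1764 = true := by decide +kernel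
theorem c41_9 : allRange (fun i => Nat.beq (act41 i) i) 15876 1764 = true := by decide +kernel
theorem c41_10 : allRange (fun i => Nat.beq (act41 i) i) 17640 1764 = true := by decide +kernel
theorem c41_11 : allRange (fun i => Nat.beq (act41 i) i) 19404 1764 = true := by decide +kernel
theorem c41_12 : allRange (fun i => Nat.beq (act41 i) i) 21168 1764 = true := by decide +kernel
theorem c41_13 : allRange (fun i => Nat.beq (act41 i) i) 22932 1764 = true := by decide +kernel
theorem c41_14 : allRange (fun i => Nat.beq (act41 i) i) 24696 1764 = true := by decide +kernel
theorem c41_15 : allRange (fun i => Nat.beq (act41 i) i) 26460 1764 = true := by decide +kernel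
theorem c41_16 : allRange (fun i => Nat.beq (act41 i) i) 28224 1764 = true := by decide +kernel
theorem c41_17 : allRange (fun i => Nat.beq (act41 i) i) 29988 1764 = true := by decide +kernel
theorem c41_18 : allRange (fun i => Nat.beq (act41 i) i) 31752 1764 = true := by decide +kernel
theorem c41_19 : allRange (fun i => Nat.beq (act41 i) i) 33516 1764 = true := by decide +kernel
theorem c41_20 : allRange (fun i => Nat.beq (act41 i) i) 35280 1764 = true := by decide +kernel
theorem c41_21 : allRange (fun i => Nat.beq (act41 i) i) 37044 1764 = true := by decide +kernel
theorem c41_22 : allRange (fun i => Nat.beq (act41 i) i) 38808 1764 = true := by decide +kernel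
theorem c41_23 : allRange (fun i => Nat.beq (act41 i) i) 40572 1764 = true := by decide +kernel
theorem c41_24 : allRange (fun i => Nat.beq (act41 i) i) 42336 1764 = true := by decide +kernel
theorem c41_25 : allRange (fun i => Nat.beq (act41 i) i) 44100 1764 = true := by decide +kernel
theorem c41_26 : allRange (fun i => Nat.beq (act41 i) i) 45864 1764 = true := by decide +kernel
theorem c41_27 : allRange (fun i => Nat.beq (act41 i) i) 47628 1764 = true := by decide +kernel
theorem c41_28 : allRange (fun i => Nat.beq (act41 i) i) 49392 1764 = true := by decide +kernel
theorem c41_29 : allRange (fun i => Nat.beq (act41 i) i) 51156 1764 = true := by decide +kernel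
theorem c41_30 : allRange (fun i => Nat.beq (act41 i) i) 52920 1764 = true := by decide +kernel
theorem c41_31 : allRange (fun i => Nat.beq (act41 i) i) 54684 1764 = true := by decide +kernel
theorem c41_32 : allRange (fun i => Nat.beq (act41 i) i) 56448 1764 = true := by decide +kernel
theorem c41_33 : allRange (fun i => Nat.beq (act41 i) i) 58212 1764 = true := by decide +kernel
theorem c41_34 : allRange (fun i => Nat.beq (act41 i) i) 59976 1764 = true := by decide +kernel
theorem c41_35 : allRange (fun i => Nat.beq (act41 i) i) 61740 1764 = true := by decide +kernel
theorem c41_36 : allRange (fun i => Nat.beq (act41 i) i) 63504 1764 = true := by decide +kernel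
theorem c41_37 : allRange (fun i => Nat.beq (act41 i) i) 65268 1557 = true := by decide +kernel
theorem h41 : ∀ i, i < T.N → Tab.relActOK T D chk41 i = true := by
  intro i hi
  rw [Tab.relActOK, ← act41_eq]
  exact (range_glue (range_of_allRange c41_0) (range_glue (range_of_allRange c41_1) (range_glue (range_of_allRange c41_2) (range_glue (range_of_allRange c41_3) (range_glue (range_of_allRange c41_4) (range_glue (range_of_allRange c41_5) (range_glue (range_of_allRange c41_6) (range_glue (range_of_allRange c41_7) (range_glue (range_of_allRange c41_8) (range_glue (range_of_allRange c41_9) (range_glue (range_of_allRange c41_10) (range_glue (range_of_allRange c41_11) (range_glue (range_of_allRange c41_12) (range_glue (range_of_allRange c41_13) (range_glue (range_of_allRange c41_14) (range_glue (range_of_allRange c41_15) (range_glue (range_of_allRange c41_16) (range_glue (range_of_allRange c41_17) (range_glue (range_of_allRange c41_18) (range_glue (range_of_allRange c41_19) (range_glue (range_of_allRange c41_20) (range_glue (range_of_allRange c41_21) (range_glue (range_of_allRange c41_22) (range_glue (range_of_allRange c41_23) (range_glue (range_of_allRange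 c41_24) (range_glue (range_of_allRange c41_25) (range_glue (range_of_allRange c41_26) (range_glue (range_of_allRange c41_27) (range_glue (range_of_allRange c41_28) (range_glue (range_of_allRange c41_29) (range_glue (range_of_allRange c41_30) (range_glue (range_of_allRange c41_31) (range_glue (range_of_allRange c41_32) (range_glue (range_of_allRange c41_33) (range_glue (range_of_allRange c41_34) (range_glue (range_of_allRange c41_35) (range_glue (range_of_allRange c41_36) (range_of_allRange c41_37)))))))))))))))))))))))))))))))))))))) i (Nat.zero_le _) hi

def chk44 : List Nat := [0, 0, 2, 2, 1, 2, 0, 2, 0, 0, 0, 2, 2, 1, 2, 0, 2, 0, 0, 0, 2, 2, 1, 2, 0, 2, 0, 0, 0, 2, 2, 1, 2, 0, 2, 0]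
noncomputable def act44 (i : Nat) : Nat := col1 (col1 (col3 (col3 (col0 (col3 (col1 (col3 (col1 (col1 (col1 (col3 (col3 (col0 (col3 (col1 (col3 (col1 (col1 (col1 (col3 (col3 (col0 (col3 (col1 (col3 (col1 (col1 (col1 (col3 (col3 (col0 (col3 (col1 (col3 (col1 (i))))))))))))))))))))))))))))))))))))
theorem act44_eq (i : Nat) : act44 i = Tab.act T D chk44 i := rfl
theorem c44_0 : allRange (fun i => Nat.beq (act44 i) i) 0 1578 = true := by decide +kernel
theorem c44_1 : allRange (fun i => Nat.beq (act44 i) i) 1578 1578 = true := by decide +kernel
theorem c44_2 : allRange (fun i => Nat.beq (act44 i) i) 3156 1578 = true := by decide +kernel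
theorem c44_3 : allRange (fun i => Nat.beq (act44 i) i) 4734 1578 = true := by decide +kernel
theorem c44_4 : allRange (fun i => Nat.beq (act44 i) i) 6312 1578 = true := by decide +kernel
theorem c44_5 : allRange (fun i => Nat.beq (act44 i) i) 7890 1578 = true := by decide +kernel
theorem c44_6 : allRange (fun i => Nat.beq (act44 i) i) 9468 1578 = true := by decide +kernel
theorem c44_7 : allRange (fun i => Nat.beq (act44 i) i) 11046 1578 = true := by decide +kernel
theorem c44_8 : allRange (fun i => Nat.beq (act44 i) i) 12624 1578 = true := by decide +kernel
theorem c44_9 : allRange (fun i => Nat.beq (act44 i) i) 14202 1578 = true := by decide +kernel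
theorem c44_10 : allRange (fun i => Nat.beq (act44 i) i) 15780 1578 = true := by decide +kernel
theorem c44_11 : allRange (fun i => Nat.beq (act44 i) i) 17358 1578 = true := by decide +kernel
theorem c44_12 : allRange (fun i => Nat.beq (act44 i) i) 18936 1578 = true := by decide +kernel
theorem c44_13 : allRange (fun i => Nat.beq (act44 i) i) 20514 1578 = true := by decide +kernel
theorem c44_14 : allRange (fun i => Nat.beq (act44 i) i) 22092 1578 = true := by decide +kernel
theorem c44_15 : allRange (fun i => Nat.beq (act44 i) i) 23670 1578 = true := by decide +kernel
theorem c44_16 : allRange (fun i => Nat.beq (act44 i) i) 25248 1578 = true := by decide +kernel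
theorem c44_17 : allRange (fun i => Nat.beq (act44 i) i) 26826 1578 = true := by decide +kernel
theorem c44_18 : allRange (fun i => Nat.beq (act44 i) i) 28404 1578 = true := by decide +kernel
theorem c44_19 : allRange (fun i => Nat.beq (act44 i) i) 29982 1578 = true := by decide +kernel
theorem c44_20 : allRange (fun i => Nat.beq (act44 i) i) 31560 1578 = true := by decide +kernel
theorem c44_21 : allRange (fun i => Nat.beq (act44 i) i) 33138 1578 = true := by decide +kernel
theorem c44_22 : allRange (fun i => Nat.beq (act44 i) i) 34716 1578 = true := by decide +kernel
theorem c44_23 : allRange (fun i => Nat.beq (act44 i) i) 36294 1578 = true := by decide +kernel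
theorem c44_24 : allRange (fun i => Nat.beq (act44 i) i) 37872 1578 = true := by decide +kernel
theorem c44_25 : allRange (fun i => Nat.beq (act44 i) i) 39450 1578 = true := by decide +kernel
theorem c44_26 : allRange (fun i => Nat.beq (act44 i) i) 41028 1578 = true := by decide +kernel
theorem c44_27 : allRange (fun i => Nat.beq (act44 i) i) 42606 1578 = true := by decide +kernel
theorem c44_28 : allRange (fun i => Nat.beq (act44 i) i) 44184 1578 = true := by decide +kernel
theorem c44_29 : allRange (fun i => Nat.beq (act44 i) i) 45762 1578 = true := by decide +kernel
theorem c44_30 : allRange (fun i => Nat.beq (act44 i) i) 47340 1578 = true := by decide +kernel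
theorem c44_31 : allRange (fun i => Nat.beq (act44 i) i) 48918 1578 = true := by decide +kernel
theorem c44_32 : allRange (fun i => Nat.beq (act44 i) i) 50496 1578 = true := by decide +kernel
theorem c44_33 : allRange (fun i => Nat.beq (act44 i) i) 52074 1578 = true := by decide +kernel
theorem c44_34 : allRange (fun i => Nat.beq (act44 i) i) 53652 1578 = true := by decide +kernel
theorem c44_35 : allRange (fun i => Nat.beq (act44 i) i) 55230 1578 = true := by decide +kernel
theorem c44_36 : allRange (fun i => Nat.beq (act44 i) i) 56808 1578 = true := by decide +kernel
theorem c44_37 : allRange (fun i => Nat.beq (act44 i) i) 58386 1578 = true := by decide +kernel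
theorem c44_38 : allRange (fun i => Nat.beq (act44 i) i) 59964 1578 = true := by decide +kernel
theorem c44_39 : allRange (fun i => Nat.beq (act44 i) i) 61542 1578 = true := by decide +kernel
theorem c44_40 : allRange (fun i => Nat.beq (act44 i) i) 63120 1578 = true := by decide +kernel
theorem c44_41 : allRange (fun i => Nat.beq (act44 i) i) 64698 1578 = true := by decide +kernel
theorem c44_42 : allRange (fun i => Nat.beq (act44 i) i) 66276 549 = true := by decide +kernel
theorem h44 : ∀ i, i < T.N → Tab.relActOK T D chk44 i = true := by
  intro i hi
  rw [Tab.relActOK, ← act44_eq]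
  exact (range_glue (range_of_allRange c44_0) (range_glue (range_of_allRange c44_1) (range_glue (range_of_allRange c44_2) (range_glue (range_of_allRange c44_3) (range_glue (range_of_allRange c44_4) (range_glue (range_of_allRange c44_5) (range_glue (range_of_allRange c44_6) (range_glue (range_of_allRange c44_7) (range_glue (range_of_allRange c44_8) (range_glue (range_of_allRange c44_9) (range_glue (range_of_allRange c44_10) (range_glue (range_of_allRange c44_11) (range_glue (range_of_allRange c44_12) (range_glue (range_of_allRange c44_13) (range_glue (range_of_allRange c44_14) (range_glue (range_of_allRange c44_15) (range_glue (range_of_allRange c44_16) (range_glue (range_of_allRange c44_17) (range_glue (range_of_allRange c44_18) (range_glue (range_of_allRange c44_19) (range_glue (range_of_allRange c44_20) (range_glue (range_of_allRange c44_21) (range_glue (range_of_allRange c44_22) (range_glue (range_of_allRange c44_23) (range_glue (range_of_allRange c44_24) (range_glue (range_of_allRange c44_25) (range_glue (range_of_allRange c44_26) (range_glue (range_of_allRange c44_27) (range_glue (range_of_allRange c44_28) (range_glue (range_of_allRange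 c44_29) (range_glue (range_of_allRange c44_30) (range_glue (range_of_allRange c44_31) (range_glue (range_of_allRange c44_32) (range_glue (range_of_allRange c44_33) (range_glue (range_of_allRange c44_34) (range_glue (range_of_allRange c44_35) (range_glue (range_of_allRange c44_36) (range_glue (range_of_allRange c44_37) (range_glue (range_of_allRange c44_38) (range_glue (range_of_allRange c44_39) (range_glue (range_of_allRange c44_40) (range_glue (range_of_allRange c44_41) (range_of_allRange c44_42))))))))))))))))))))))))))))))))))))))))))) i (Nat.zero_le _) hi

def chk58 : List Nat := [4, 1, 2, 1, 3, 3, 0, 2, 1, 3, 0, 5, 0, 0, 2, 1, 3, 3]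
noncomputable def act58 (i : Nat) : Nat := col5 (col0 (col3 (col0 (col2 (col2 (col1 (col3 (col0 (col2 (col1 (col4 (col1 (col1 (col3 (col0 (col2 (col2 (i))))))))))))))))))
theorem act58_eq (i : Nat) : act58 i = Tab.act T D chk58 i := rfl
theorem c58_0 : allRange (fun i => Nat.beq (act58 i) i) 0 3000 = true := by decide +kernel
theorem c58_1 : allRange (fun i => Nat.beq (act58 i) i) 3000 3000 = true := by decide +kernel
theorem c58_2 : allRange (fun i => Nat.beq (act58 i) i) 6000 3000 = true := by decide +kernel
theorem c58_3 : allRange (fun i => Nat.beq (act58 i) i) 9000 3000 = true := by decide +kernel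
theorem c58_4 : allRange (fun i => Nat.beq (act58 i) i) 12000 3000 = true := by decide +kernel
theorem c58_5 : allRange (fun i => Nat.beq (act58 i) i) 15000 3000 = true := by decide +kernel
theorem c58_6 : allRange (fun i => Nat.beq (act58 i) i) 18000 3000 = true := by decide +kernel
theorem c58_7 : allRange (fun i => Nat.beq (act58 i) i) 21000 3000 = true := by decide +kernel
theorem c58_8 : allRange (fun i => Nat.beq (act58 i) i) 24000 3000 = true := by decide +kernel
theorem c58_9 : allRange (fun i => Nat.beq (act58 i) i) 27000 3000 = true := by decide +kernel
theorem c58_10 : allRange (fun i => Nat.beq (act58 i) i) 30000 3000 = true := by decide +kernel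
theorem c58_11 : allRange (fun i => Nat.beq (act58 i) i) 33000 3000 = true := by decide +kernel
theorem c58_12 : allRange (fun i => Nat.beq (act58 i) i) 36000 3000 = true := by decide +kernel
theorem c58_13 : allRange (fun i => Nat.beq (act58 i) i) 39000 3000 = true := by decide +kernel
theorem c58_14 : allRange (fun i => Nat.beq (act58 i) i) 42000 3000 = true := by decide +kernel
theorem c58_15 : allRange (fun i => Nat.beq (act58 i) i) 45000 3000 = true := by decide +kernel
theorem c58_16 : allRange (fun i => Nat.beq (act58 i) i) 48000 3000 = true := by decide +kernel
theorem c58_17 : allRange (fun i => Nat.beq (act58 i) i) 51000 3000 = true := by decide +kernel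
theorem c58_18 : allRange (fun i => Nat.beq (act58 i) i) 54000 3000 = true := by decide +kernel
theorem c58_19 : allRange (fun i => Nat.beq (act58 i) i) 57000 3000 = true := by decide +kernel
theorem c58_20 : allRange (fun i => Nat.beq (act58 i) i) 60000 3000 = true := by decide +kernel
theorem c58_21 : allRange (fun i => Nat.beq (act58 i) i) 63000 3000 = true := by decide +kernel
theorem c58_22 : allRange (fun i => Nat.beq (act58 i) i) 66000 825 = true := by decide +kernel
theorem h58 : ∀ i, i < T.N → Tab.relActOK T D chk58 i = true := by
  intro i hi
  rw [Tab.relActOK, ← act58_eq]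
  exact (range_glue (range_of_allRange c58_0) (range_glue (range_of_allRange c58_1) (range_glue (range_of_allRange c58_2) (range_glue (range_of_allRange c58_3) (range_glue (range_of_allRange c58_4) (range_glue (range_of_allRange c58_5) (range_glue (range_of_allRange c58_6) (range_glue (range_of_allRange c58_7) (range_glue (range_of_allRange c58_8) (range_glue (range_of_allRange c58_9) (range_glue (range_of_allRange c58_10) (range_glue (range_of_allRange c58_11) (range_glue (range_of_allRange c58_12) (range_glue (range_of_allRange c58_13) (range_glue (range_of_allRange c58_14) (range_glue (range_of_allRange c58_15) (range_glue (range_of_allRange c58_16) (range_glue (range_of_allRange c58_17) (range_glue (range_of_allRange c58_18) (range_glue (range_of_allRange c58_19) (range_glue (range_of_allRange c58_20) (range_glue (range_of_allRange c58_21) (range_of_allRange c58_22))))))))))))))))))))))) i (Nat.zero_le _) hi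

def chk63 : List Nat := [2, 2, 0, 3, 1, 1, 2, 2, 0, 3, 1, 1, 2, 2, 0, 3, 1, 1, 2, 2, 0, 3, 1, 1]
noncomputable def act63 (i : Nat) : Nat := col3 (col3 (col1 (col2 (col0 (col0 (col3 (col3 (col1 (col2 (col0 (col0 (col3 (col3 (col1 (col2 (col0 (col0 (col3 (col3 (col1 (col2 (col0 (col0 (i))))))))))))))))))))))))
theorem act63_eq (i : Nat) : act63 i = Tab.act T D chk63 i := rfl
theorem c63_0 : allRange (fun i => Nat.beq (act63 i) i) 0 2307 = true := by decide +kernel
theorem c63_1 : allRange (fun i => Nat.beq (act63 i) i) 2307 2307 = true := by decide +kernel
theorem c63_2 : allRange (fun i => Nat.beq (act63 i) i) 4614 2307 = true := by decide +kernel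
theorem c63_3 : allRange (fun i => Nat.beq (act63 i) i) 6921 2307 = true := by decide +kernel
theorem c63_4 : allRange (fun i => Nat.beq (act63 i) i) 9228 2307 = true := by decide +kernel
theorem c63_5 : allRange (fun i => Nat.beq (act63 i) i) 11535 2307 = true := by decide +kernel
theorem c63_6 : allRange (fun i => Nat.beq (act63 i) i) 13842 2307 = true := by decide +kernel
theorem c63_7 : allRange (fun i => Nat.beq (act63 i) i) 16149 2307 = true := by decide +kernel
theorem c63_8 : allRange (fun i => Nat.beq (act63 i) i) 18456 2307 = true := by decide +kernel
theorem c63_9 : allRange (fun i => Nat.beq (act63 i) i) 20763 2307 = true := by decide +kernel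
theorem c63_10 : allRange (fun i => Nat.beq (act63 i) i) 23070 2307 = true := by decide +kernel
theorem c63_11 : allRange (fun i => Nat.beq (act63 i) i) 25377 2307 = true := by decide +kernel
theorem c63_12 : allRange (fun i => Nat.beq (act63 i) i) 27684 2307 = true := by decide +kernel
theorem c63_13 : allRange (fun i => Nat.beq (act63 i) i) 29991 2307 = true := by decide +kernel
theorem c63_14 : allRange (fun i => Nat.beq (act63 i) i) 32298 2307 = true := by decide +kernel
theorem c63_15 : allRange (fun i => Nat.beq (act63 i) i) 34605 2307 = true := by decide +kernel
theorem c63_16 : allRange (fun i => Nat.beq (act63 i) i) 36912 2307 = true := by decide +kernel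
theorem c63_17 : allRange (fun i => Nat.beq (act63 i) i) 39219 2307 = true := by decide +kernel
theorem c63_18 : allRange (fun i => Nat.beq (act63 i) i) 41526 2307 = true := by decide +kernel
theorem c63_19 : allRange (fun i => Nat.beq (act63 i) i) 43833 2307 = true := by decide +kernel
theorem c63_20 : allRange (fun i => Nat.beq (act63 i) i) 46140 2307 = true := by decide +kernel
theorem c63_21 : allRange (fun i => Nat.beq (act63 i) i) 48447 2307 = true := by decide +kernel
theorem c63_22 : allRange (fun i => Nat.beq (act63 i) i) 50754 2307 = true := by decide +kernel
theorem c63_23 : allRange (fun i => Nat.beq (act63 i) i) 53061 2307 = true := by decide +kernel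
theorem c63_24 : allRange (fun i => Nat.beq (act63 i) i) 55368 2307 = true := by decide +kernel
theorem c63_25 : allRange (fun i => Nat.beq (act63 i) i) 57675 2307 = true := by decide +kernel
theorem c63_26 : allRange (fun i => Nat.beq (act63 i) i) 59982 2307 = true := by decide +kernel
theorem c63_27 : allRange (fun i => Nat.beq (act63 i) i) 62289 2307 = true := by decide +kernel
theorem c63_28 : allRange (fun i => Nat.beq (act63 i) i) 64596 2229 = true := by decide +kernel
theorem h63 : ∀ i, i < T.N → Tab.relActOK T D chk63 i = true := by
  intro i hi
  rw [Tab.relActOK, ← act63_eq]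
  exact (range_glue (range_of_allRange c63_0) (range_glue (range_of_allRange c63_1) (range_glue (range_of_allRange c63_2) (range_glue (range_of_allRange c63_3) (range_glue (range_of_allRange c63_4) (range_glue (range_of_allRange c63_5) (range_glue (range_of_allRange c63_6) (range_glue (range_of_allRange c63_7) (range_glue (range_of_allRange c63_8) (range_glue (range_of_allRange c63_9) (range_glue (range_of_allRange c63_10) (range_glue (range_of_allRange c63_11) (range_glue (range_of_allRange c63_12) (range_glue (range_of_allRange c63_13) (range_glue (range_of_allRange c63_14) (range_glue (range_of_allRange c63_15) (range_glue (range_of_allRange c63_16) (range_glue (range_of_allRange c63_17) (range_glue (range_of_allRange c63_18) (range_glue (range_of_allRange c63_19) (range_glue (range_of_allRange c63_20) (range_glue (range_of_allRange c63_21) (range_glue (range_of_allRange c63_22) (range_glue (range_of_allRange c63_23) (range_glue (range_of_allRange c63_24) (range_glue (range_of_allRange c63_25) (range_glue (range_of_allRange c63_26) (range_glue (range_of_allRange c63_27) (range_of_allRange c63_28))))))))))))))))))))))))))))) i (Nat.zero_le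 _) hi

def chk76 : List Nat := [4, 0, 0, 2, 1, 2, 2, 0, 3, 5, 2, 1, 3, 1, 3, 1, 2, 2, 1]
noncomputable def act76 (i : Nat) : Nat := col5 (col1 (col1 (col3 (col0 (col3 (col3 (col1 (col2 (col4 (col3 (col0 (col2 (col0 (col2 (col0 (col3 (col3 (col0 (i)))))))))))))))))))
theorem act76_eq (i : Nat) : act76 i = Tab.act T D chk76 i := rfl
theorem c76_0 : allRange (fun i => Nat.beq (act76 i) i) 0 2857 = true := by decide +kernel
theorem c76_1 : allRange (fun i => Nat.beq (act76 i) i) 2857 2857 = true := by decide +kernel
theorem c76_2 : allRange (fun i => Nat.beq (act76 i) i) 5714 2857 = true := by decide +kernel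
theorem c76_3 : allRange (fun i => Nat.beq (act76 i) i) 8571 2857 = true := by decide +kernel
theorem c76_4 : allRange (fun i => Nat.beq (act76 i) i) 11428 2857 = true := by decide +kernel
theorem c76_5 : allRange (fun i => Nat.beq (act76 i) i) 14285 2857 = true := by decide +kernel
theorem c76_6 : allRange (fun i => Nat.beq (act76 i) i) 17142 2857 = true := by decide +kernel
theorem c76_7 : allRange (fun i => Nat.beq (act76 i) i) 19999 2857 = true := by decide +kernel
theorem c76_8 : allRange (fun i => Nat.beq (act76 i) i) 22856 2857 = true := by decide +kernel
theorem c76_9 : allRange (fun i => Nat.beq (act76 i) i) 25713 2857 = true := by decide +kernel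
theorem c76_10 : allRange (fun i => Nat.beq (act76 i) i) 28570 2857 = true := by decide +kernel
theorem c76_11 : allRange (fun i => Nat.beq (act76 i) i) 31427 2857 = true := by decide +kernel
theorem c76_12 : allRange (fun i => Nat.beq (act76 i) i) 34284 2857 = true := by decide +kernel
theorem c76_13 : allRange (fun i => Nat.beq (act76 i) i) 37141 2857 = true := by decide +kernel
theorem c76_14 : allRange (fun i => Nat.beq (act76 i) i) 39998 2857 = true := by decide +kernel
theorem c76_15 : allRange (fun i => Nat.beq (act76 i) i) 42855 2857 = true := by decide +kernel
theorem c76_16 : allRange (fun i => Nat.beq (act76 i) i) 45712 2857 = true := by decide +kernel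
theorem c76_17 : allRange (fun i => Nat.beq (act76 i) i) 48569 2857 = true := by decide +kernel
theorem c76_18 : allRange (fun i => Nat.beq (act76 i) i) 51426 2857 = true := by decide +kernel
theorem c76_19 : allRange (fun i => Nat.beq (act76 i) i) 54283 2857 = true := by decide +kernel
theorem c76_20 : allRange (fun i => Nat.beq (act76 i) i) 57140 2857 = true := by decide +kernel
theorem c76_21 : allRange (fun i => Nat.beq (act76 i) i) 59997 2857 = true := by decide +kernel
theorem c76_22 : allRange (fun i => Nat.beq (act76 i) i) 62854 2857 = true := by decide +kernel
theorem c76_23 : allRange (fun i => Nat.beq (act76 i) i) 65711 1114 = true := by decide +kernel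
theorem h76 : ∀ i, i < T.N → Tab.relActOK T D chk76 i = true := by
  intro i hi
  rw [Tab.relActOK, ← act76_eq]
  exact (range_glue (range_of_allRange c76_0) (range_glue (range_of_allRange c76_1) (range_glue (range_of_allRange c76_2) (range_glue (range_of_allRange c76_3) (range_glue (range_of_allRange c76_4) (range_glue (range_of_allRange c76_5) (range_glue (range_of_allRange c76_6) (range_glue (range_of_allRange c76_7) (range_glue (range_of_allRange c76_8) (range_glue (range_of_allRange c76_9) (range_glue (range_of_allRange c76_10) (range_glue (range_of_allRange c76_11) (range_glue (range_of_allRange c76_12) (range_glue (range_of_allRange c76_13) (range_glue (range_of_allRange c76_14) (range_glue (range_of_allRange c76_15) (range_glue (range_of_allRange c76_16) (range_glue (range_of_allRange c76_17) (range_glue (range_of_allRange c76_18) (range_glue (range_of_allRange c76_19) (range_glue (range_of_allRange c76_20) (range_glue (range_of_allRange c76_21) (range_glue (range_of_allRange c76_22) (range_of_allRange c76_23)))))))))))))))))))))))) i (Nat.zero_le _) hi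

def chk90 : List Nat := [2, 0, 0, 0, 3, 0, 2, 0, 0, 2, 0, 0, 0, 3, 0, 2, 0, 0, 2, 0, 0, 0, 3, 0, 2, 0, 0, 2, 0, 0, 0, 3, 0, 2, 0, 0]
noncomputable def act90 (i : Nat) : Nat := col3 (col1 (col1 (col1 (col2 (col1 (col3 (col1 (col1 (col3 (col1 (col1 (col1 (col2 (col1 (col3 (col1 (col1 (col3 (col1 (col1 (col1 (col2 (col1 (col3 (col1 (col1 (col3 (col1 (col1 (col1 (col2 (col1 (col3 (col1 (col1 (i))))))))))))))))))))))))))))))))))))
theorem act90_eq (i : Nat) : act90 i = Tab.act T D chk90 i := rfl
theorem c90_0 : allRange (fun i => Nat.beq (act90 i) i) 0 1578 = true := by decide +kernel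
theorem c90_1 : allRange (fun i => Nat.beq (act90 i) i) 1578 1578 = true := by decide +kernel
theorem c90_2 : allRange (fun i => Nat.beq (act90 i) i) 3156 1578 = true := by decide +kernel
theorem c90_3 : allRange (fun i => Nat.beq (act90 i) i) 4734 1578 = true := by decide +kernel
theorem c90_4 : allRange (fun i => Nat.beq (act90 i) i) 6312 1578 = true := by decide +kernel
theorem c90_5 : allRange (fun i => Nat.beq (act90 i) i) 7890 1578 = true := by decide +kernel
theorem c90_6 : allRange (fun i => Nat.beq (act90 i) i) 9468 1578 = true := by decide +kernel
theorem c90_7 : allRange (fun i => Nat.beq (act90 i) i) 11046 1578 = true := by decide +kernel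
theorem c90_8 : allRange (fun i => Nat.beq (act90 i) i) 12624 1578 = true := by decide +kernel
theorem c90_9 : allRange (fun i => Nat.beq (act90 i) i) 14202 1578 = true := by decide +kernel
theorem c90_10 : allRange (fun i => Nat.beq (act90 i) i) 15780 1578 = true := by decide +kernel
theorem c90_11 : allRange (fun i => Nat.beq (act90 i) i) 17358 1578 = true := by decide +kernel
theorem c90_12 : allRange (fun i => Nat.beq (act90 i) i) 18936 1578 = true := by decide +kernel
theorem c90_13 : allRange (fun i => Nat.beq (act90 i) i) 20514 1578 = true := by decide +kernel
theorem c90_14 : allRange (fun i => Nat.beq (act90 i) i) 22092 1578 = true := by decide +kernel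
theorem c90_15 : allRange (fun i => Nat.beq (act90 i) i) 23670 1578 = true := by decide +kernel
theorem c90_16 : allRange (fun i => Nat.beq (act90 i) i) 25248 1578 = true := by decide +kernel
theorem c90_17 : allRange (fun i => Nat.beq (act90 i) i) 26826 1578 = true := by decide +kernel
theorem c90_18 : allRange (fun i => Nat.beq (act90 i) i) 28404 1578 = true := by decide +kernel
theorem c90_19 : allRange (fun i => Nat.beq (act90 i) i) 29982 1578 = true := by decide +kernel
theorem c90_20 : allRange (fun i => Nat.beq (act90 i) i) 31560 1578 = true := by decide +kernel
theorem c90_21 : allRange (fun i => Nat.beq (act90 i) i) 33138 1578 = true := by decide +kernel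
theorem c90_22 : allRange (fun i => Nat.beq (act90 i) i) 34716 1578 = true := by decide +kernel
theorem c90_23 : allRange (fun i => Nat.beq (act90 i) i) 36294 1578 = true := by decide +kernel
theorem c90_24 : allRange (fun i => Nat.beq (act90 i) i) 37872 1578 = true := by decide +kernel
theorem c90_25 : allRange (fun i => Nat.beq (act90 i) i) 39450 1578 = true := by decide +kernel
theorem c90_26 : allRange (fun i => Nat.beq (act90 i) i) 41028 1578 = true := by decide +kernel
theorem c90_27 : allRange (fun i => Nat.beq (act90 i) i) 42606 1578 = true := by decide +kernel
theorem c90_28 : allRange (fun i => Nat.beq (act90 i) i) 44184 1578 = true := by decide +kernel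
theorem c90_29 : allRange (fun i => Nat.beq (act90 i) i) 45762 1578 = true := by decide +kernel
theorem c90_30 : allRange (fun i => Nat.beq (act90 i) i) 47340 1578 = true := by decide +kernel
theorem c90_31 : allRange (fun i => Nat.beq (act90 i) i) 48918 1578 = true := by decide +kernel
theorem c90_32 : allRange (fun i => Nat.beq (act90 i) i) 50496 1578 = true := by decide +kernel
theorem c90_33 : allRange (fun i => Nat.beq (act90 i) i) 52074 1578 = true := by decide +kernel
theorem c90_34 : allRange (fun i => Nat.beq (act90 i) i) 53652 1578 = true := by decide +kernel
theorem c90_35 : allRange (fun i => Nat.beq (act90 i) i) 55230 1578 = true := by decide +kernel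
theorem c90_36 : allRange (fun i => Nat.beq (act90 i) i) 56808 1578 = true := by decide +kernel
theorem c90_37 : allRange (fun i => Nat.beq (act90 i) i) 58386 1578 = true := by decide +kernel
theorem c90_38 : allRange (fun i => Nat.beq (act90 i) i) 59964 1578 = true := by decide +kernel
theorem c90_39 : allRange (fun i => Nat.beq (act90 i) i) 61542 1578 = true := by decide +kernel
theorem c90_40 : allRange (fun i => Nat.beq (act90 i) i) 63120 1578 = true := by decide +kernel
theorem c90_41 : allRange (fun i => Nat.beq (act90 i) i) 64698 1578 = true := by decide +kernel
theorem c90_42 : allRange (fun i => Nat.beq (act90 i) i) 66276 549 = true := by decide +kernel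
theorem h90 : ∀ i, i < T.N → Tab.relActOK T D chk90 i = true := by
  intro i hi
  rw [Tab.relActOK, ← act90_eq]
  exact (range_glue (range_of_allRange c90_0) (range_glue (range_of_allRange c90_1) (range_glue (range_of_allRange c90_2) (range_glue (range_of_allRange c90_3) (range_glue (range_of_allRange c90_4) (range_glue (range_of_allRange c90_5) (range_glue (range_of_allRange c90_6) (range_glue (range_of_allRange c90_7) (range_glue (range_of_allRange c90_8) (range_glue (range_of_allRange c90_9) (range_glue (range_of_allRange c90_10) (range_glue (range_of_allRange c90_11) (range_glue (range_of_allRange c90_12) (range_glue (range_of_allRange c90_13) (range_glue (range_of_allRange c90_14) (range_glue (range_of_allRange c90_15) (range_glue (range_of_allRange c90_16) (range_glue (range_of_allRange c90_17) (range_glue (range_of_allRange c90_18) (range_glue (range_of_allRange c90_19) (range_glue (range_of_allRange c90_20) (range_glue (range_of_allRange c90_21) (range_glue (range_of_allRange c90_22) (range_glue (range_of_allRange c90_23) (range_glue (range_of_allRange c90_24) (range_glue (range_of_allRange c90_25) (range_glue (range_of_allRange c90_26)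 (range_glue (range_of_allRange c90_27) (range_glue (range_of_allRange c90_28) (range_glue (range_of_allRange c90_29) (range_glue (range_of_allRange c90_30) (range_glue (range_of_allRange c90_31) (range_glue (range_of_allRange c90_32) (range_glue (range_of_allRange c90_33) (range_glue (range_of_allRange c90_34) (range_glue (range_of_allRange c90_35) (range_glue (range_of_allRange c90_36) (range_glue (range_of_allRange c90_37) (range_glue (range_of_allRange c90_38) (range_glue (range_of_allRange c90_39) (range_glue (range_of_allRange c90_40) (range_glue (range_of_allRange c90_41) (range_of_allRange c90_42))))))))))))))))))))))))))))))))))))))))))) i (Nat.zero_le _) hi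

def chk94 : List Nat := [5, 0, 3, 3, 0, 2, 0, 2, 0, 3, 4, 2, 1, 3, 3, 0, 3, 1, 1]
noncomputable def act94 (i : Nat) : Nat := col4 (col1 (col2 (col2 (col1 (col3 (col1 (col3 (col1 (col2 (col5 (col3 (col0 (col2 (col2 (col1 (col2 (col0 (col0 (i)))))))))))))))))))
theorem act94_eq (i : Nat) : act94 i = Tab.act T D chk94 i := rfl
theorem c94_0 : allRange (fun i => Nat.beq (act94 i) i) 0 2857 = true := by decide +kernel
theorem c94_1 : allRange (fun i => Nat.beq (act94 i) i) 2857 2857 = true := by decide +kernel
theorem c94_2 : allRange (fun i => Nat.beq (act94 i) i) 5714 2857 = true := by decide +kernel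
theorem c94_3 : allRange (fun i => Nat.beq (act94 i) i) 8571 2857 = true := by decide +kernel
theorem c94_4 : allRange (fun i => Nat.beq (act94 i) i) 11428 2857 = true := by decide +kernel
theorem c94_5 : allRange (fun i => Nat.beq (act94 i) i) 14285 2857 = true := by decide +kernel
theorem c94_6 : allRange (fun i => Nat.beq (act94 i) i) 17142 2857 = true := by decide +kernel
theorem c94_7 : allRange (fun i => Nat.beq (act94 i) i) 19999 2857 = true := by decide +kernel
theorem c94_8 : allRange (fun i => Nat.beq (act94 i) i) 22856 2857 = true := by decide +kernel
theorem c94_9 : allRange (fun i => Nat.beq (act94 i) i) 25713 2857 = true := by decide +kernel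
theorem c94_10 : allRange (fun i => Nat.beq (act94 i) i) 28570 2857 = true := by decide +kernel
theorem c94_11 : allRange (fun i => Nat.beq (act94 i) i) 31427 2857 = true := by decide +kernel
theorem c94_12 : allRange (fun i => Nat.beq (act94 i) i) 34284 2857 = true := by decide +kernel
theorem c94_13 : allRange (fun i => Nat.beq (act94 i) i) 37141 2857 = true := by decide +kernel
theorem c94_14 : allRange (fun i => Nat.beq (act94 i) i) 39998 2857 = true := by decide +kernel
theorem c94_15 : allRange (fun i => Nat.beq (act94 i) i) 42855 2857 = true := by decide +kernel
theorem c94_16 : allRange (fun i => Nat.beq (act94 i) i) 45712 2857 = true := by decide +kernel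
theorem c94_17 : allRange (fun i => Nat.beq (act94 i) i) 48569 2857 = true := by decide +kernel
theorem c94_18 : allRange (fun i => Nat.beq (act94 i) i) 51426 2857 = true := by decide +kernel
theorem c94_19 : allRange (fun i => Nat.beq (act94 i) i) 54283 2857 = true := by decide +kernel
theorem c94_20 : allRange (fun i => Nat.beq (act94 i) i) 57140 2857 = true := by decide +kernel
theorem c94_21 : allRange (fun i => Nat.beq (act94 i) i) 59997 2857 = true := by decide +kernel
theorem c94_22 : allRange (fun i => Nat.beq (act94 i) i) 62854 2857 = true := by decide +kernel
theorem c94_23 : allRange (fun i => Nat.beq (act94 i) i) 65711 1114 = true := by decide +kernel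
theorem h94 : ∀ i, i < T.N → Tab.relActOK T D chk94 i = true := by
  intro i hi
  rw [Tab.relActOK, ← act94_eq]
  exact (range_glue (range_of_allRange c94_0) (range_glue (range_of_allRange c94_1) (range_glue (range_of_allRange c94_2) (range_glue (range_of_allRange c94_3) (range_glue (range_of_allRange c94_4) (range_glue (range_of_allRange c94_5) (range_glue (range_of_allRange c94_6) (range_glue (range_of_allRange c94_7) (range_glue (range_of_allRange c94_8) (range_glue (range_of_allRange c94_9) (range_glue (range_of_allRange c94_10) (range_glue (range_of_allRange c94_11) (range_glue (range_of_allRange c94_12) (range_glue (range_of_allRange c94_13) (range_glue (range_of_allRange c94_14) (range_glue (range_of_allRange c94_15) (range_glue (range_of_allRange c94_16) (range_glue (range_of_allRange c94_17) (range_glue (range_of_allRange c94_18) (range_glue (range_of_allRange c94_19) (range_glue (range_of_allRange c94_20) (range_glue (range_of_allRange c94_21) (range_glue (range_of_allRange c94_22) (range_of_allRange c94_23)))))))))))))))))))))))) i (Nat.zero_le _) hi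

def chk96 : List Nat := [0, 0, 2, 1, 2, 2, 0, 3, 0, 0, 2, 1, 2, 2, 0, 3, 0, 0, 2, 1, 2, 2, 0, 3, 0, 0, 2, 1, 2, 2, 0, 3]
noncomputable def act96 (i : Nat) : Nat := col1 (col1 (col3 (col0 (col3 (col3 (col1 (col2 (col1 (col1 (col3 (col0 (col3 (col3 (col1 (col2 (col1 (col1 (col3 (col0 (col3 (col3 (col1 (col2 (col1 (col1 (col3 (col0 (col3 (col3 (col1 (col2 (i))))))))))))))))))))))))))))))))
theorem act96_eq (i : Nat) : act96 i = Tab.act T D chk96 i := rfl
theorem c96_0 : allRange (fun i => Nat.beq (act96 i) i) 0 1764 = true := by decide +kernel
theorem c96_1 : allRange (fun i => Nat.beq (act96 i) i) 1764 1764 = true := by decide +kernel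
theorem c96_2 : allRange (fun i => Nat.beq (act96 i) i) 3528 1764 = true := by decide +kernel
theorem c96_3 : allRange (fun i => Nat.beq (act96 i) i) 5292 1764 = true := by decide +kernel
theorem c96_4 : allRange (fun i => Nat.beq (act96 i) i) 7056 1764 = true := by decide +kernel
theorem c96_5 : allRange (fun i => Nat.beq (act96 i) i) 8820 1764 = true := by decide +kernel
theorem c96_6 : allRange (fun i => Nat.beq (act96 i) i) 10584 1764 = true := by decide +kernel
theorem c96_7 : allRange (fun i => Nat.beq (act96 i) i) 12348 1764 = true := by decide +kernel
theorem c96_8 : allRange (fun i => Nat.beq (act96 i) i) 14112 1764 = true := by decide +kernel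
theorem c96_9 : allRange (fun i => Nat.beq (act96 i) i) 15876 1764 = true := by decide +kernel
theorem c96_10 : allRange (fun i => Nat.beq (act96 i) i) 17640 1764 = true := by decide +kernel
theorem c96_11 : allRange (fun i => Nat.beq (act96 i) i) 19404 1764 = true := by decide +kernel
theorem c96_12 : allRange (fun i => Nat.beq (act96 i) i) 21168 1764 = true := by decide +kernel
theorem c96_13 : allRange (fun i => Nat.beq (act96 i) i) 22932 1764 = true := by decide +kernel
theorem c96_14 : allRange (fun i => Nat.beq (act96 i) i) 24696 1764 = true := by decide +kernel
theorem c96_15 : allRange (fun i => Nat.beq (act96 i) i) 26460 1764 = true := by decide +kernel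
theorem c96_16 : allRange (fun i => Nat.beq (act96 i) i) 28224 1764 = true := by decide +kernel
theorem c96_17 : allRange (fun i => Nat.beq (act96 i) i) 29988 1764 = true := by decide +kernel
theorem c96_18 : allRange (fun i => Nat.beq (act96 i) i) 31752 1764 = true := by decide +kernel
theorem c96_19 : allRange (fun i => Nat.beq (act96 i) i) 33516 1764 = true := by decide +kernel
theorem c96_20 : allRange (fun i => Nat.beq (act96 i) i) 35280 1764 = true := by decide +kernel
theorem c96_21 : allRange (fun i => Nat.beq (act96 i) i) 37044 1764 = true := by decide +kernel
theorem c96_22 : allRange (fun i => Nat.beq (act96 i) i) 38808 1764 = true := by decide +kernel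
theorem c96_23 : allRange (fun i => Nat.beq (act96 i) i) 40572 1764 = true := by decide +kernel
theorem c96_24 : allRange (fun i => Nat.beq (act96 i) i) 42336 1764 = true := by decide +kernel
theorem c96_25 : allRange (fun i => Nat.beq (act96 i) i) 44100 1764 = true := by decide +kernel
theorem c96_26 : allRange (fun i => Nat.beq (act96 i) i) 45864 1764 = true := by decide +kernel
theorem c96_27 : allRange (fun i => Nat.beq (act96 i) i) 47628 1764 = true := by decide +kernel
theorem c96_28 : allRange (fun i => Nat.beq (act96 i) i) 49392 1764 = true := by decide +kernel
theorem c96_29 : allRange (fun i => Nat.beq (act96 i) i) 51156 1764 = true := by decide +kernel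
theorem c96_30 : allRange (fun i => Nat.beq (act96 i) i) 52920 1764 = true := by decide +kernel
theorem c96_31 : allRange (fun i => Nat.beq (act96 i) i) 54684 1764 = true := by decide +kernel
theorem c96_32 : allRange (fun i => Nat.beq (act96 i) i) 56448 1764 = true := by decide +kernel
theorem c96_33 : allRange (fun i => Nat.beq (act96 i) i) 58212 1764 = true := by decide +kernel
theorem c96_34 : allRange (fun i => Nat.beq (act96 i) i) 59976 1764 = true := by decide +kernel
theorem c96_35 : allRange (fun i => Nat.beq (act96 i) i) 61740 1764 = true := by decide +kernel
theorem c96_36 : allRange (fun i => Nat.beq (act96 i) i) 63504 1764 = true := by decide +kernel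
theorem c96_37 : allRange (fun i => Nat.beq (act96 i) i) 65268 1557 = true := by decide +kernel
theorem h96 : ∀ i, i < T.N → Tab.relActOK T D chk96 i = true := by
  intro i hi
  rw [Tab.relActOK, ← act96_eq]
  exact (range_glue (range_of_allRange c96_0) (range_glue (range_of_allRange c96_1) (range_glue (range_of_allRange c96_2) (range_glue (range_of_allRange c96_3) (range_glue (range_of_allRange c96_4) (range_glue (range_of_allRange c96_5) (range_glue (range_of_allRange c96_6) (range_glue (range_of_allRange c96_7) (range_glue (range_of_allRange c96_8) (range_glue (range_of_allRange c96_9) (range_glue (range_of_allRange c96_10) (range_glue (range_of_allRange c96_11) (range_glue (range_of_allRange c96_12) (range_glue (range_of_allRange c96_13) (range_glue (range_of_allRange c96_14) (range_glue (range_of_allRange c96_15) (range_glue (range_of_allRange c96_16) (range_glue (range_of_allRange c96_17) (range_glue (range_of_allRange c96_18) (range_glue (range_of_allRange c96_19) (range_glue (range_of_allRange c96_20) (range_glue (range_of_allRange c96_21) (range_glue (range_of_allRange c96_22) (range_glue (range_of_allRange c96_23) (range_glue (range_of_allRange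 c96_24) (range_glue (range_of_allRange c96_25) (range_glue (range_of_allRange c96_26) (range_glue (range_of_allRange c96_27) (range_glue (range_of_allRange c96_28) (range_glue (range_of_allRange c96_29) (range_glue (range_of_allRange c96_30) (range_glue (range_of_allRange c96_31) (range_glue (range_of_allRange c96_32) (range_glue (range_of_allRange c96_33) (range_glue (range_of_allRange c96_34) (range_glue (range_of_allRange c96_35) (range_glue (range_of_allRange c96_36) (range_of_allRange c96_37)))))))))))))))))))))))))))))))))))))) i (Nat.zero_le _) hi

def chk101 : List Nat := [0, 2, 0, 3, 0, 0, 2, 0, 2, 0, 3, 0, 0, 2, 0, 2, 0, 3, 0, 0, 2, 0, 2, 0, 3, 0, 0, 2]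
noncomputable def act101 (i : Nat) : Nat := col1 (col3 (col1 (col2 (col1 (col1 (col3 (col1 (col3 (col1 (col2 (col1 (col1 (col3 (col1 (col3 (col1 (col2 (col1 (col1 (col3 (col1 (col3 (col1 (col2 (col1 (col1 (col3 (i))))))))))))))))))))))))))))
theorem act101_eq (i : Nat) : act101 i = Tab.act T D chk101 i := rfl
theorem c101_0 : allRange (fun i => Nat.beq (act101 i) i) 0 2000 = true := by decide +kernel
theorem c101_1 : allRange (fun i => Nat.beq (act101 i) i) 2000 2000 = true := by decide +kernel
theorem c101_2 : allRange (fun i => Nat.beq (act101 i) i) 4000 2000 = true := by decide +kernel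
theorem c101_3 : allRange (fun i => Nat.beq (act101 i) i) 6000 2000 = true := by decide +kernel
theorem c101_4 : allRange (fun i => Nat.beq (act101 i) i) 8000 2000 = true := by decide +kernel
theorem c101_5 : allRange (fun i => Nat.beq (act101 i) i) 10000 2000 = true := by decide +kernel
theorem c101_6 : allRange (fun i => Nat.beq (act101 i) i) 12000 2000 = true := by decide +kernel
theorem c101_7 : allRange (fun i => Nat.beq (act101 i) i) 14000 2000 = true := by decide +kernel
theorem c101_8 : allRange (fun i => Nat.beq (act101 i) i) 16000 2000 = true := by decide +kernel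
theorem c101_9 : allRange (fun i => Nat.beq (act101 i) i) 18000 2000 = true := by decide +kernel
theorem c101_10 : allRange (fun i => Nat.beq (act101 i) i) 20000 2000 = true := by decide +kernel
theorem c101_11 : allRange (fun i => Nat.beq (act101 i) i) 22000 2000 = true := by decide +kernel
theorem c101_12 : allRange (fun i => Nat.beq (act101 i) i) 24000 2000 = true := by decide +kernel
theorem c101_13 : allRange (fun i => Nat.beq (act101 i) i) 26000 2000 = true := by decide +kernel
theorem c101_14 : allRange (fun i => Nat.beq (act101 i) i) 28000 2000 = true := by decide +kernel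
theorem c101_15 : allRange (fun i => Nat.beq (act101 i) i) 30000 2000 = true := by decide +kernel
theorem c101_16 : allRange (fun i => Nat.beq (act101 i) i) 32000 2000 = true := by decide +kernel
theorem c101_17 : allRange (fun i => Nat.beq (act101 i) i) 34000 2000 = true := by decide +kernel
theorem c101_18 : allRange (fun i => Nat.beq (act101 i) i) 36000 2000 = true := by decide +kernel
theorem c101_19 : allRange (fun i => Nat.beq (act101 i) i) 38000 2000 = true := by decide +kernel
theorem c101_20 : allRange (fun i => Nat.beq (act101 i) i) 40000 2000 = true := by decide +kernel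
theorem c101_21 : allRange (fun i => Nat.beq (act101 i) i) 42000 2000 = true := by decide +kernel
theorem c101_22 : allRange (fun i => Nat.beq (act101 i) i) 44000 2000 = true := by decide +kernel
theorem c101_23 : allRange (fun i => Nat.beq (act101 i) i) 46000 2000 = true := by decide +kernel
theorem c101_24 : allRange (fun i => Nat.beq (act101 i) i) 48000 2000 = true := by decide +kernel
theorem c101_25 : allRange (fun i => Nat.beq (act101 i) i) 50000 2000 = true := by decide +kernel
theorem c101_26 : allRange (fun i => Nat.beq (act101 i) i) 52000 2000 = true := by decide +kernel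
theorem c101_27 : allRange (fun i => Nat.beq (act101 i) i) 54000 2000 = true := by decide +kernel
theorem c101_28 : allRange (fun i => Nat.beq (act101 i) i) 56000 2000 = true := by decide +kernel
theorem c101_29 : allRange (fun i => Nat.beq (act101 i) i) 58000 2000 = true := by decide +kernel
theorem c101_30 : allRange (fun i => Nat.beq (act101 i) i) 60000 2000 = true := by decide +kernel
theorem c101_31 : allRange (fun i => Nat.beq (act101 i) i) 62000 2000 = true := by decide +kernel
theorem c101_32 : allRange (fun i => Nat.beq (act101 i) i) 64000 2000 = true := by decide +kernel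
theorem c101_33 : allRange (fun i => Nat.beq (act101 i) i) 66000 825 = true := by decide +kernel
theorem h101 : ∀ i, i < T.N → Tab.relActOK T D chk101 i = true := by
  intro i hi
  rw [Tab.relActOK, ← act101_eq]
  exact (range_glue (range_of_allRange c101_0) (range_glue (range_of_allRange c101_1) (range_glue (range_of_allRange c101_2) (range_glue (range_of_allRange c101_3) (range_glue (range_of_allRange c101_4) (range_glue (range_of_allRange c101_5) (range_glue (range_of_allRange c101_6) (range_glue (range_of_allRange c101_7) (range_glue (range_of_allRange c101_8) (range_glue (range_of_allRange c101_9) (range_glue (range_of_allRange c101_10) (range_glue (range_of_allRange c101_11) (range_glue (range_of_allRange c101_12) (range_glue (range_of_allRange c101_13) (range_glue (range_of_allRange c101_14) (range_glue (range_of_allRange c101_15) (range_glue (range_of_allRange c101_16) (range_glue (range_of_allRange c101_17) (range_glue (range_of_allRange c101_18) (range_glue (range_of_allRange c101_19) (range_glue (range_of_allRange c101_20) (range_glue (range_of_allRange c101_21) (range_glue (range_of_allRange c101_22) (range_glue (range_of_allRange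 c101_23) (range_glue (range_of_allRange c101_24) (range_glue (range_of_allRange c101_25) (range_glue (range_of_allRange c101_26) (range_glue (range_of_allRange c101_27) (range_glue (range_of_allRange c101_28) (range_glue (range_of_allRange c101_29) (range_glue (range_of_allRange c101_30) (range_glue (range_of_allRange c101_31) (range_glue (range_of_allRange c101_32) (range_of_allRange c101_33)))))))))))))))))))))))))))))))))) i (Nat.zero_le _) hi

end Cfsg.Agent.Lib.Helper4.TCD.SC3McLp3W
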