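import Cfsg.Agent.Lib.Helper4.TCD_C3McLR_Acc
import Cfsg.Agent.Lib.Helper4.TC13

namespace Cfsg.Agent.Lib.Helper4.TCD.SC3McLp3W

open Cfsg.Agent.Lib.Helper4.TC Cfsg.Agent.Lib.Helper4.TCD.C3McLR

set_option maxRecDepth 100000
set_option Elab.async false

def chk0 : List Nat := [0, 0, 0, 0, 0, 0, 0]
noncomputable def act0 (i : Nat) : Nat := col1 (col1 (col1 (col1 (col1 (col1 (col1 (i)))))))
theorem act0_eq (i : Nat) : act0 i = Tab.act T D chk0 i := rfl
theorem c0_0 : allRange (fun i => Nat.beq (act0 i) i) 0 6666 = true := by decide +kernel
theorem c0_1 : allRange (fun i => Nat.beq (act0 i) i) 6666 6666 = true := by decide +kernel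
theorem c0_2 : allRange (fun i => Nat.beq (act0 i) i) 13332 6666 = true := by decide +kernel
theorem c0_3 : allRange (fun i => Nat.beq (act0 i) i) 19998 6666 = true := by decide +kernel
theorem c0_4 : allRange (fun i => Nat.beq (act0 i) i) 26664 6666 = true := by decide +kernel
theorem c0_5 : allRange (fun i => Nat.beq (act0 i) i) 33330 6666 = true := by decide +kernel
theorem c0_6 : allRange (fun i => Nat.beq (act0 i) i) 39996 6666 = true := by decide +kernel
theorem c0_7 : allRange (fun i => Nat.beq (act0 i) i) 46662 6666 = true := by decide +kernel
theorem c0_8 : allRange (fun i => Nat.beq (act0 i) i) 53328 6666 = true := by decide +kernel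
theorem c0_9 : allRange (fun i => Nat.beq (act0 i) i) 59994 6666 = true := by decide +kernel
theorem c0_10 : allRange (fun i => Nat.beq (act0 i) i) 66660 165 = true := by decide +kernel
theorem h0 : ∀ i, i < T.N → Tab.relActOK T D chk0 i = true := by
  intro i hi
  rw [Tab.relActOK, ← act0_eq]
  exact (range_glue (range_of_allRange c0_0) (range_glue (range_of_allRange c0_1) (range_glue (range_of_allRange c0_2) (range_glue (range_of_allRange c0_3) (range_glue (range_of_allRange c0_4) (range_glue (range_of_allRange c0_5) (range_glue (range_of_allRange c0_6) (range_glue (range_of_allRange c0_7) (range_glue (range_of_allRange c0_8) (range_glue (range_of_allRange c0_9) (range_of_allRange c0_10))))))))))) i (Nat.zero_le _) hi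

def chk12 : List Nat := [7, 1, 6, 0]
noncomputable def act12 (i : Nat) : Nat := col6 (col0 (col7 (col1 (i))))
theorem act12_eq (i : Nat) : act12 i = Tab.act T D chk12 i := rfl
theorem c12_0 : allRange (fun i => Nat.beq (act12 i) i) 0 10000 = true := by decide +kernel
theorem c12_1 : allRange (fun i => Nat.beq (act12 i) i) 10000 10000 = true := by decide +kernel
theorem c12_2 : allRange (fun i => Nat.beq (act12 i) i) 20000 10000 = true := by decide +kernel
theorem c12_3 : allRange (fun i => Nat.beq (act12 i) i) 30000 10000 = true := by decide +kernel
theorem c12_4 : allRange (fun i => Nat.beq (act12 i) i) 40000 10000 = true := by decide +kernel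
theorem c12_5 : allRange (fun i => Nat.beq (act12 i) i) 50000 10000 = true := by decide +kernel
theorem c12_6 : allRange (fun i => Nat.beq (act12 i) i) 60000 6825 = true := by decide +kernel
theorem h12 : ∀ i, i < T.N → Tab.relActOK T D chk12 i = true := by
  intro i hi
  rw [Tab.relActOK, ← act12_eq]
  exact (range_glue (range_of_allRange c12_0) (range_glue (range_of_allRange c12_1) (range_glue (range_of_allRange c12_2) (range_glue (range_of_allRange c12_3) (range_glue (range_of_allRange c12_4) (range_glue (range_of_allRange c12_5) (range_of_allRange c12_6))))))) i (Nat.zero_le _) hi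

def chk31 : List Nat := [5, 0, 0, 2, 1, 3, 3, 4, 3, 1, 3, 1, 1, 1, 2, 2, 1, 1]
noncomputable def act31 (i : Nat) : Nat := col4 (col1 (col1 (col3 (col0 (col2 (col2 (col5 (col2 (col0 (col2 (col0 (col0 (col0 (col3 (col3 (col0 (col0 (i))))))))))))))))))
theorem act31_eq (i : Nat) : act31 i = Tab.act T D chk31 i := rfl
theorem c31_0 : allRange (fun i => Nat.beq (act31 i) i) 0 3000 = true := by decide +kernel
theorem c31_1 : allRange (fun i => Nat.beq (act31 i) i) 3000 3000 = true := by decide +kernel
theorem c31_2 : allRange (fun i => Nat.beq (act31 i) i) 6000 3000 = true := by decide +kernel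
theorem c31_3 : allRange (fun i => Nat.beq (act31 i) i) 9000 3000 = true := by decide +kernel
theorem c31_4 : allRange (fun i => Nat.beq (act31 i) i) 12000 3000 = true := by decide +kernel
theorem c31_5 : allRange (fun i => Nat.beq (act31 i) i) 15000 3000 = true := by decide +kernel
theorem c31_6 : allRange (fun i => Nat.beq (act31 i) i) 18000 3000 = true := by decide +kernel
theorem c31_7 : allRange (fun i => Nat.beq (act31 i) i) 21000 3000 = true := by decide +kernel
theorem c31_8 : allRange (fun i => Nat.beq (act31 i) i) 24000 3000 = true := by decide +kernel
theorem c31_9 : allRange (fun i => Nat.beq (act31 i) i) 27000 3000 = true := by decide +kernel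
theorem c31_10 : allRange (fun i => Nat.beq (act31 i) i) 30000 3000 = true := by decide +kernel
theorem c31_11 : allRange (fun i => Nat.beq (act31 i) i) 33000 3000 = true := by decide +kernel
theorem c31_12 : allRange (fun i => Nat.beq (act31 i) i) 36000 3000 = true := by decide +kernel
theorem c31_13 : allRange (fun i => Nat.beq (act31 i) i) 39000 3000 = true := by decide +kernel
theorem c31_14 : allRange (fun i => Nat.beq (act31 i) i) 42000 3000 = true := by decide +kernel
theorem c31_15 : allRange (fun i => Nat.beq (act31 i) i) 45000 3000 = true := by decide +kernel
theorem c31_16 : allRange (fun i => Nat.beq (act31 i) i) 48000 3000 = true := by decide +kernel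
theorem c31_17 : allRange (fun i => Nat.beq (act31 i) i) 51000 3000 = true := by decide +kernel
theorem c31_18 : allRange (fun i => Nat.beq (act31 i) i) 54000 3000 = true := by decide +kernel
theorem c31_19 : allRange (fun i => Nat.beq (act31 i) i) 57000 3000 = true := by decide +kernel
theorem c31_20 : allRange (fun i => Nat.beq (act31 i) i) 60000 3000 = true := by decide +kernel
theorem c31_21 : allRange (fun i => Nat.beq (act31 i) i) 63000 3000 = true := by decide +kernel
theorem c31_22 : allRange (fun i => Nat.beq (act31 i) i) 66000 825 = true := by decide +kernel
theorem h31 : ∀ i, i < T.N → Tab.relActOK T D chk31 i = true := by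
  intro i hi
  rw [Tab.relActOK, ← act31_eq]
  exact (range_glue (range_of_allRange c31_0) (range_glue (range_of_allRange c31_1) (range_glue (range_of_allRange c31_2) (range_glue (range_of_allRange c31_3) (range_glue (range_of_allRange c31_4) (range_glue (range_of_allRange c31_5) (range_glue (range_of_allRange c31_6) (range_glue (range_of_allRange c31_7) (range_glue (range_of_allRange c31_8) (range_glue (range_of_allRange c31_9) (range_glue (range_of_allRange c31_10) (range_glue (range_of_allRange c31_11) (range_glue (range_of_allRange c31_12) (range_glue (range_of_allRange c31_13) (range_glue (range_of_allRange c31_14) (range_glue (range_of_allRange c31_15) (range_glue (range_of_allRange c31_16) (range_glue (range_of_allRange c31_17) (range_glue (range_of_allRange c31_18) (range_glue (range_of_allRange c31_19) (range_glue (range_of_allRange c31_20) (range_glue (range_of_allRange c31_21) (range_of_allRange c31_22))))))))))))))))))))))) i (Nat.zero_le _) hi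

def chk42 : List Nat := [2, 2, 0, 0, 3, 1, 3, 1, 2, 2, 0, 0, 3, 1, 3, 1, 2, 2, 0, 0, 3, 1, 3, 1, 2, 2, 0, 0, 3, 1, 3, 1]
noncomputable def act42 (i : Nat) : Nat := col3 (col3 (col1 (col1 (col2 (col0 (col2 (col0 (col3 (col3 (col1 (col1 (col2 (col0 (col2 (col0 (col3 (col3 (col1 (col1 (col2 (col0 (col2 (col0 (col3 (col3 (col1 (col1 (col2 (col0 (col2 (col0 (i))))))))))))))))))))))))))))))))
theorem act42_eq (i : Nat) : act42 i = Tab.act T D chk42 i := rfl
theorem c42_0 : allRange (fun i => Nat.beq (act42 i) i) 0 1764 = true := by decide +kernel
theorem c42_1 : allRange (fun i => Nat.beq (act42 i) i) 1764 1764 = true := by decide +kernel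
theorem c42_2 : allRange (fun i => Nat.beq (act42 i) i) 3528 1764 = true := by decide +kernel
theorem c42_3 : allRange (fun i => Nat.beq (act42 i) i) 5292 1764 = true := by decide +kernel
theorem c42_4 : allRange (fun i => Nat.beq (act42 i) i) 7056 1764 = true := by decide +kernel
theorem c42_5 : allRange (fun i => Nat.beq (act42 i) i) 8820 1764 = true := by decide +kernel
theorem c42_6 : allRange (fun i => Nat.beq (act42 i) i) 10584 1764 = true := by decide +kernel
theorem c42_7 : allRange (fun i => Nat.beq (act42 i) i) 12348 1764 = true := by decide +kernel
theorem c42_8 : allRange (fun i => Nat.beq (act42 i) i) 14112 1764 = true := by decide +kernel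
theorem c42_9 : allRange (fun i => Nat.beq (act42 i) i) 15876 1764 = true := by decide +kernel
theorem c42_10 : allRange (fun i => Nat.beq (act42 i) i) 17640 1764 = true := by decide +kernel
theorem c42_11 : allRange (fun i => Nat.beq (act42 i) i) 19404 1764 = true := by decide +kernel
theorem c42_12 : allRange (fun i => Nat.beq (act42 i) i) 21168 1764 = true := by decide +kernel
theorem c42_13 : allRange (fun i => Nat.beq (act42 i) i) 22932 1764 = true := by decide +kernel
theorem c42_14 : allRange (fun i => Nat.beq (act42 i) i) 24696 1764 = true := by decide +kernel
theorem c42_15 : allRange (fun i => Nat.beq (act42 i) i) 26460 1764 = true := by decide +kernel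
theorem c42_16 : allRange (fun i => Nat.beq (act42 i) i) 28224 1764 = true := by decide +kernel
theorem c42_17 : allRange (fun i => Nat.beq (act42 i) i) 29988 1764 = true := by decide +kernel
theorem c42_18 : allRange (fun i => Nat.beq (act42 i) i) 31752 1764 = true := by decide +kernel
theorem c42_19 : allRange (fun i => Nat.beq (act42 i) i) 33516 1764 = true := by decide +kernel
theorem c42_20 : allRange (fun i => Nat.beq (act42 i) i) 35280 1764 = true := by decide +kernel
theorem c42_21 : allRange (fun i => Nat.beq (act42 i) i) 37044 1764 = true := by decide +kernel
theorem c42_22 : allRange (fun i => Nat.beq (act42 i) i) 38808 1764 = true := by decide +kernel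
theorem c42_23 : allRange (fun i => Nat.beq (act42 i) i) 40572 1764 = true := by decide +kernel
theorem c42_24 : allRange (fun i => Nat.beq (act42 i) i) 42336 1764 = true := by decide +kernel
theorem c42_25 : allRange (fun i => Nat.beq (act42 i) i) 44100 1764 = true := by decide +kernel
theorem c42_26 : allRange (fun i => Nat.beq (act42 i) i) 45864 1764 = true := by decide +kernel
theorem c42_27 : allRange (fun i => Nat.beq (act42 i) i) 47628 1764 = true := by decide +kernel
theorem c42_28 : allRange (fun i => Nat.beq (act42 i) i) 49392 1764 = true := by decide +kernel
theorem c42_29 : allRange (fun i => Nat.beq (act42 i) i) 51156 1764 = true := by decide +kernel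
theorem c42_30 : allRange (fun i => Nat.beq (act42 i) i) 52920 1764 = true := by decide +kernel
theorem c42_31 : allRange (fun i => Nat.beq (act42 i) i) 54684 1764 = true := by decide +kernel
theorem c42_32 : allRange (fun i => Nat.beq (act42 i) i) 56448 1764 = true := by decide +kernel
theorem c42_33 : allRange (fun i => Nat.beq (act42 i) i) 58212 1764 = true := by decide +kernel
theorem c42_34 : allRange (fun i => Nat.beq (act42 i) i) 59976 1764 = true := by decide +kernel
theorem c42_35 : allRange (fun i => Nat.beq (act42 i) i) 61740 1764 = true := by decide +kernel
theorem c42_36 : allRange (fun i => Nat.beq (act42 i) i) 63504 1764 = true := by decide +kernel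
theorem c42_37 : allRange (fun i => Nat.beq (act42 i) i) 65268 1557 = true := by decide +kernel
theorem h42 : ∀ i, i < T.N → Tab.relActOK T D chk42 i = true := by
  intro i hi
  rw [Tab.relActOK, ← act42_eq]
  exact (range_glue (range_of_allRange c42_0) (range_glue (range_of_allRange c42_1) (range_glue (range_of_allRange c42_2) (range_glue (range_of_allRange c42_3) (range_glue (range_of_allRange c42_4) (range_glue (range_of_allRange c42_5) (range_glue (range_of_allRange c42_6) (range_glue (range_of_allRange c42_7) (range_glue (range_of_allRange c42_8) (range_glue (range_of_allRange c42_9) (range_glue (range_of_allRange c42_10) (range_glue (range_of_allRange c42_11) (range_glue (range_of_allRange c42_12) (range_glue (range_of_allRange c42_13) (range_glue (range_of_allRange c42_14) (range_glue (range_of_allRange c42_15) (range_glue (range_of_allRange c42_16) (range_glue (range_of_allRange c42_17) (range_glue (range_of_allRange c42_18) (range_glue (range_of_allRange c42_19) (range_glue (range_of_allRange c42_20) (range_glue (range_of_allRange c42_21) (range_glue (range_of_allRange c42_22) (range_glue (range_of_allRange c42_23) (range_glue (range_of_allRange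 c42_24) (range_glue (range_of_allRange c42_25) (range_glue (range_of_allRange c42_26) (range_glue (range_of_allRange c42_27) (range_glue (range_of_allRange c42_28) (range_glue (range_of_allRange c42_29) (range_glue (range_of_allRange c42_30) (range_glue (range_of_allRange c42_31) (range_glue (range_of_allRange c42_32) (range_glue (range_of_allRange c42_33) (range_glue (range_of_allRange c42_34) (range_glue (range_of_allRange c42_35) (range_glue (range_of_allRange c42_36) (range_of_allRange c42_37)))))))))))))))))))))))))))))))))))))) i (Nat.zero_le _) hi

def chk47 : List Nat := [1, 1, 3, 1, 1, 3, 1, 2, 1, 1, 1, 3, 1, 1, 3, 1, 2, 1, 1, 1, 3, 1, 1, 3, 1, 2, 1, 1, 1, 3, 1, 1, 3, 1, 2, 1]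
noncomputable def act47 (i : Nat) : Nat := col0 (col0 (col2 (col0 (col0 (col2 (col0 (col3 (col0 (col0 (col0 (col2 (col0 (col0 (col2 (col0 (col3 (col0 (col0 (col0 (col2 (col0 (col0 (col2 (col0 (col3 (col0 (col0 (col0 (col2 (col0 (col0 (col2 (col0 (col3 (col0 (i))))))))))))))))))))))))))))))))))))
theorem act47_eq (i : Nat) : act47 i = Tab.act T D chk47 i := rfl
theorem c47_0 : allRange (fun i => Nat.beq (act47 i) i) 0 1578 = true := by decide +kernel
theorem c47_1 : allRange (fun i => Nat.beq (act47 i) i) 1578 1578 = true := by decide +kernel
theorem c47_2 : allRange (fun i => Nat.beq (act47 i) i) 3156 1578 = true := by decide +kernel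
theorem c47_3 : allRange (fun i => Nat.beq (act47 i) i) 4734 1578 = true := by decide +kernel
theorem c47_4 : allRange (fun i => Nat.beq (act47 i) i) 6312 1578 = true := by decide +kernel
theorem c47_5 : allRange (fun i => Nat.beq (act47 i) i) 7890 1578 = true := by decide +kernel
theorem c47_6 : allRange (fun i => Nat.beq (act47 i) i) 9468 1578 = true := by decide +kernel
theorem c47_7 : allRange (fun i => Nat.beq (act47 i) i) 11046 1578 = true := by decide +kernel
theorem c47_8 : allRange (fun i => Nat.beq (act47 i) i) 12624 1578 = true := by decide +kernel
theorem c47_9 : allRange (fun i => Nat.beq (act47 i) i) 14202 1578 = true := by decide +kernel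
theorem c47_10 : allRange (fun i => Nat.beq (act47 i) i) 15780 1578 = true := by decide +kernel
theorem c47_11 : allRange (fun i => Nat.beq (act47 i) i) 17358 1578 = true := by decide +kernel
theorem c47_12 : allRange (fun i => Nat.beq (act47 i) i) 18936 1578 = true := by decide +kernel
theorem c47_13 : allRange (fun i => Nat.beq (act47 i) i) 20514 1578 = true := by decide +kernel
theorem c47_14 : allRange (fun i => Nat.beq (act47 i) i) 22092 1578 = true := by decide +kernel
theorem c47_15 : allRange (fun i => Nat.beq (act47 i) i) 23670 1578 = true := by decide +kernel
theorem c47_16 : allRange (fun i => Nat.beq (act47 i) i) 25248 1578 = true := by decide +kernel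
theorem c47_17 : allRange (fun i => Nat.beq (act47 i) i) 26826 1578 = true := by decide +kernel
theorem c47_18 : allRange (fun i => Nat.beq (act47 i) i) 28404 1578 = true := by decide +kernel
theorem c47_19 : allRange (fun i => Nat.beq (act47 i) i) 29982 1578 = true := by decide +kernel
theorem c47_20 : allRange (fun i => Nat.beq (act47 i) i) 31560 1578 = true := by decide +kernel
theorem c47_21 : allRange (fun i => Nat.beq (act47 i) i) 33138 1578 = true := by decide +kernel
theorem c47_22 : allRange (fun i => Nat.beq (act47 i) i) 34716 1578 = true := by decide +kernel
theorem c47_23 : allRange (fun i => Nat.beq (act47 i) i) 36294 1578 = true := by decide +kernel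
theorem c47_24 : allRange (fun i => Nat.beq (act47 i) i) 37872 1578 = true := by decide +kernel
theorem c47_25 : allRange (fun i => Nat.beq (act47 i) i) 39450 1578 = true := by decide +kernel
theorem c47_26 : allRange (fun i => Nat.beq (act47 i) i) 41028 1578 = true := by decide +kernel
theorem c47_27 : allRange (fun i => Nat.beq (act47 i) i) 42606 1578 = true := by decide +kernel
theorem c47_28 : allRange (fun i => Nat.beq (act47 i) i) 44184 1578 = true := by decide +kernel
theorem c47_29 : allRange (fun i => Nat.beq (act47 i) i) 45762 1578 = true := by decide +kernel
theorem c47_30 : allRange (fun i => Nat.beq (act47 i) i) 47340 1578 = true := by decide +kernel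
theorem c47_31 : allRange (fun i => Nat.beq (act47 i) i) 48918 1578 = true := by decide +kernel
theorem c47_32 : allRange (fun i => Nat.beq (act47 i) i) 50496 1578 = true := by decide +kernel
theorem c47_33 : allRange (fun i => Nat.beq (act47 i) i) 52074 1578 = true := by decide +kernel
theorem c47_34 : allRange (fun i => Nat.beq (act47 i) i) 53652 1578 = true := by decide +kernel
theorem c47_35 : allRange (fun i => Nat.beq (act47 i) i) 55230 1578 = true := by decide +kernel
theorem c47_36 : allRange (fun i => Nat.beq (act47 i) i) 56808 1578 = true := by decide +kernel
theorem c47_37 : allRange (fun i => Nat.beq (act47 i) i) 58386 1578 = true := by decide +kernel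
theorem c47_38 : allRange (fun i => Nat.beq (act47 i) i) 59964 1578 = true := by decide +kernel
theorem c47_39 : allRange (fun i => Nat.beq (act47 i) i) 61542 1578 = true := by decide +kernel
theorem c47_40 : allRange (fun i => Nat.beq (act47 i) i) 63120 1578 = true := by decide +kernel
theorem c47_41 : allRange (fun i => Nat.beq (act47 i) i) 64698 1578 = true := by decide +kernel
theorem c47_42 : allRange (fun i => Nat.beq (act47 i) i) 66276 549 = true := by decide +kernel
theorem h47 : ∀ i, i < T.N → Tab.relActOK T D chk47 i = true := by
  intro i hi
  rw [Tab.relActOK, ← act47_eq]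
  exact (range_glue (range_of_allRange c47_0) (range_glue (range_of_allRange c47_1) (range_glue (range_of_allRange c47_2) (range_glue (range_of_allRange c47_3) (range_glue (range_of_allRange c47_4) (range_glue (range_of_allRange c47_5) (range_glue (range_of_allRange c47_6) (range_glue (range_of_allRange c47_7) (range_glue (range_of_allRange c47_8) (range_glue (range_of_allRange c47_9) (range_glue (range_of_allRange c47_10) (range_glue (range_of_allRange c47_11) (range_glue (range_of_allRange c47_12) (range_glue (range_of_allRange c47_13) (range_glue (range_of_allRange c47_14) (range_glue (range_of_allRange c47_15) (range_glue (range_of_allRange c47_16) (range_glue (range_of_allRange c47_17) (range_glue (range_of_allRange c47_18) (range_glue (range_of_allRange c47_19) (range_glue (range_of_allRange c47_20) (range_glue (range_of_allRange c47_21) (range_glue (range_of_allRange c47_22) (range_glue (range_of_allRange c47_23) (range_glue (range_of_allRange c47_24) (range_glue (range_of_allRange c47_25) (range_glue (range_of_allRange c47_26) (range_glue (range_of_allRange c47_27) (range_glue (range_of_allRange c47_28) (range_glue (range_of_allRange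 c47_29) (range_glue (range_of_allRange c47_30) (range_glue (range_of_allRange c47_31) (range_glue (range_of_allRange c47_32) (range_glue (range_of_allRange c47_33) (range_glue (range_of_allRange c47_34) (range_glue (range_of_allRange c47_35) (range_glue (range_of_allRange c47_36) (range_glue (range_of_allRange c47_37) (range_glue (range_of_allRange c47_38) (range_glue (range_of_allRange c47_39) (range_glue (range_of_allRange c47_40) (range_glue (range_of_allRange c47_41) (range_of_allRange c47_42))))))))))))))))))))))))))))))))))))))))))) i (Nat.zero_le _) hi

def chk61 : List Nat := [4, 1, 3, 1, 3, 3, 0, 0, 2, 2, 0, 5, 0, 0, 2, 1, 3, 3]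
noncomputable def act61 (i : Nat) : Nat := col5 (col0 (col2 (col0 (col2 (col2 (col1 (col1 (col3 (col3 (col1 (col4 (col1 (col1 (col3 (col0 (col2 (col2 (i))))))))))))))))))
theorem act61_eq (i : Nat) : act61 i = Tab.act T D chk61 i := rfl
theorem c61_0 : allRange (fun i => Nat.beq (act61 i) i) 0 3000 = true := by decide +kernel
theorem c61_1 : allRange (fun i => Nat.beq (act61 i) i) 3000 3000 = true := by decide +kernel
theorem c61_2 : allRange (fun i => Nat.beq (act61 i) i) 6000 3000 = true := by decide +kernel
theorem c61_3 : allRange (fun i => Nat.beq (act61 i) i) 9000 3000 = true := by decide +kernel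
theorem c61_4 : allRange (fun i => Nat.beq (act61 i) i) 12000 3000 = true := by decide +kernel
theorem c61_5 : allRange (fun i => Nat.beq (act61 i) i) 15000 3000 = true := by decide +kernel
theorem c61_6 : allRange (fun i => Nat.beq (act61 i) i) 18000 3000 = true := by decide +kernel
theorem c61_7 : allRange (fun i => Nat.beq (act61 i) i) 21000 3000 = true := by decide +kernel
theorem c61_8 : allRange (fun i => Nat.beq (act61 i) i) 24000 3000 = true := by decide +kernel
theorem c61_9 : allRange (fun i => Nat.beq (act61 i) i) 27000 3000 = true := by decide +kernel
theorem c61_10 : allRange (fun i => Nat.beq (act61 i) i) 30000 3000 = true := by decide +kernel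
theorem c61_11 : allRange (fun i => Nat.beq (act61 i) i) 33000 3000 = true := by decide +kernel
theorem c61_12 : allRange (fun i => Nat.beq (act61 i) i) 36000 3000 = true := by decide +kernel
theorem c61_13 : allRange (fun i => Nat.beq (act61 i) i) 39000 3000 = true := by decide +kernel
theorem c61_14 : allRange (fun i => Nat.beq (act61 i) i) 42000 3000 = true := by decide +kernel
theorem c61_15 : allRange (fun i => Nat.beq (act61 i) i) 45000 3000 = true := by decide +kernel
theorem c61_16 : allRange (fun i => Nat.beq (act61 i) i) 48000 3000 = true := by decide +kernel
theorem c61_17 : allRange (fun i => Nat.beq (act61 i) i) 51000 3000 = true := by decide +kernel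
theorem c61_18 : allRange (fun i => Nat.beq (act61 i) i) 54000 3000 = true := by decide +kernel
theorem c61_19 : allRange (fun i => Nat.beq (act61 i) i) 57000 3000 = true := by decide +kernel
theorem c61_20 : allRange (fun i => Nat.beq (act61 i) i) 60000 3000 = true := by decide +kernel
theorem c61_21 : allRange (fun i => Nat.beq (act61 i) i) 63000 3000 = true := by decide +kernel
theorem c61_22 : allRange (fun i => Nat.beq (act61 i) i) 66000 825 = true := by decide +kernel
theorem h61 : ∀ i, i < T.N → Tab.relActOK T D chk61 i = true := by
  intro i hi
  rw [Tab.relActOK, ← act61_eq]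
  exact (range_glue (range_of_allRange c61_0) (range_glue (range_of_allRange c61_1) (range_glue (range_of_allRange c61_2) (range_glue (range_of_allRange c61_3) (range_glue (range_of_allRange c61_4) (range_glue (range_of_allRange c61_5) (range_glue (range_of_allRange c61_6) (range_glue (range_of_allRange c61_7) (range_glue (range_of_allRange c61_8) (range_glue (range_of_allRange c61_9) (range_glue (range_of_allRange c61_10) (range_glue (range_of_allRange c61_11) (range_glue (range_of_allRange c61_12) (range_glue (range_of_allRange c61_13) (range_glue (range_of_allRange c61_14) (range_glue (range_of_allRange c61_15) (range_glue (range_of_allRange c61_16) (range_glue (range_of_allRange c61_17) (range_glue (range_of_allRange c61_18) (range_glue (range_of_allRange c61_19) (range_glue (range_of_allRange c61_20) (range_glue (range_of_allRange c61_21) (range_of_allRange c61_22))))))))))))))))))))))) i (Nat.zero_le _) hi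

def chk65 : List Nat := [3, 1, 1, 2, 2, 0, 3, 1, 1, 2, 2, 0, 3, 1, 1, 2, 2, 0, 3, 1, 1, 2, 2, 0]
noncomputable def act65 (i : Nat) : Nat := col2 (col0 (col0 (col3 (col3 (col1 (col2 (col0 (col0 (col3 (col3 (col1 (col2 (col0 (col0 (col3 (col3 (col1 (col2 (col0 (col0 (col3 (col3 (col1 (i))))))))))))))))))))))))
theorem act65_eq (i : Nat) : act65 i = Tab.act T D chk65 i := rfl
theorem c65_0 : allRange (fun i => Nat.beq (act65 i) i) 0 2307 = true := by decide +kernel
theorem c65_1 : allRange (fun i => Nat.beq (act65 i) i) 2307 2307 = true := by decide +kernel
theorem c65_2 : allRange (fun i => Nat.beq (act65 i) i) 4614 2307 = true := by decide +kernel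
theorem c65_3 : allRange (fun i => Nat.beq (act65 i) i) 6921 2307 = true := by decide +kernel
theorem c65_4 : allRange (fun i => Nat.beq (act65 i) i) 9228 2307 = true := by decide +kernel
theorem c65_5 : allRange (fun i => Nat.beq (act65 i) i) 11535 2307 = true := by decide +kernel
theorem c65_6 : allRange (fun i => Nat.beq (act65 i) i) 13842 2307 = true := by decide +kernel
theorem c65_7 : allRange (fun i => Nat.beq (act65 i) i) 16149 2307 = true := by decide +kernel
theorem c65_8 : allRange (fun i => Nat.beq (act65 i) i) 18456 2307 = true := by decide +kernel
theorem c65_9 : allRange (fun i => Nat.beq (act65 i) i) 20763 2307 = true := by decide +kernel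
theorem c65_10 : allRange (fun i => Nat.beq (act65 i) i) 23070 2307 = true := by decide +kernel
theorem c65_11 : allRange (fun i => Nat.beq (act65 i) i) 25377 2307 = true := by decide +kernel
theorem c65_12 : allRange (fun i => Nat.beq (act65 i) i) 27684 2307 = true := by decide +kernel
theorem c65_13 : allRange (fun i => Nat.beq (act65 i) i) 29991 2307 = true := by decide +kernel
theorem c65_14 : allRange (fun i => Nat.beq (act65 i) i) 32298 2307 = true := by decide +kernel
theorem c65_15 : allRange (fun i => Nat.beq (act65 i) i) 34605 2307 = true := by decide +kernel
theorem c65_16 : allRange (fun i => Nat.beq (act65 i) i) 36912 2307 = true := by decide +kernel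
theorem c65_17 : allRange (fun i => Nat.beq (act65 i) i) 39219 2307 = true := by decide +kernel
theorem c65_18 : allRange (fun i => Nat.beq (act65 i) i) 41526 2307 = true := by decide +kernel
theorem c65_19 : allRange (fun i => Nat.beq (act65 i) i) 43833 2307 = true := by decide +kernel
theorem c65_20 : allRange (fun i => Nat.beq (act65 i) i) 46140 2307 = true := by decide +kernel
theorem c65_21 : allRange (fun i => Nat.beq (act65 i) i) 48447 2307 = true := by decide +kernel
theorem c65_22 : allRange (fun i => Nat.beq (act65 i) i) 50754 2307 = true := by decide +kernel
theorem c65_23 : allRange (fun i => Nat.beq (act65 i) i) 53061 2307 = true := by decide +kernel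
theorem c65_24 : allRange (fun i => Nat.beq (act65 i) i) 55368 2307 = true := by decide +kernel
theorem c65_25 : allRange (fun i => Nat.beq (act65 i) i) 57675 2307 = true := by decide +kernel
theorem c65_26 : allRange (fun i => Nat.beq (act65 i) i) 59982 2307 = true := by decide +kernel
theorem c65_27 : allRange (fun i => Nat.beq (act65 i) i) 62289 2307 = true := by decide +kernel
theorem c65_28 : allRange (fun i => Nat.beq (act65 i) i) 64596 2229 = true := by decide +kernel
theorem h65 : ∀ i, i < T.N → Tab.relActOK T D chk65 i = true := by
  intro i hi
  rw [Tab.relActOK, ← act65_eq]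
  exact (range_glue (range_of_allRange c65_0) (range_glue (range_of_allRange c65_1) (range_glue (range_of_allRange c65_2) (range_glue (range_of_allRange c65_3) (range_glue (range_of_allRange c65_4) (range_glue (range_of_allRange c65_5) (range_glue (range_of_allRange c65_6) (range_glue (range_of_allRange c65_7) (range_glue (range_of_allRange c65_8) (range_glue (range_of_allRange c65_9) (range_glue (range_of_allRange c65_10) (range_glue (range_of_allRange c65_11) (range_glue (range_of_allRange c65_12) (range_glue (range_of_allRange c65_13) (range_glue (range_of_allRange c65_14) (range_glue (range_of_allRange c65_15) (range_glue (range_of_allRange c65_16) (range_glue (range_of_allRange c65_17) (range_glue (range_of_allRange c65_18) (range_glue (range_of_allRange c65_19) (range_glue (range_of_allRange c65_20) (range_glue (range_of_allRange c65_21) (range_glue (range_of_allRange c65_22) (range_glue (range_of_allRange c65_23) (range_glue (range_of_allRange c65_24) (range_glue (range_of_allRange c65_25) (range_glue (range_of_allRange c65_26) (range_glue (range_of_allRange c65_27) (range_of_allRange c65_28))))))))))))))))))))))))))))) i (Nat.zero_le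 _) hi

def chk79 : List Nat := [4, 2, 1, 3, 3, 0, 3, 1, 1, 5, 0, 3, 3, 0, 2, 0, 2, 0, 3]
noncomputable def act79 (i : Nat) : Nat := col5 (col3 (col0 (col2 (col2 (col1 (col2 (col0 (col0 (col4 (col1 (col2 (col2 (col1 (col3 (col1 (col3 (col1 (col2 (i)))))))))))))))))))
theorem act79_eq (i : Nat) : act79 i = Tab.act T D chk79 i := rfl
theorem c79_0 : allRange (fun i => Nat.beq (act79 i) i) 0 2857 = true := by decide +kernel
theorem c79_1 : allRange (fun i => Nat.beq (act79 i) i) 2857 2857 = true := by decide +kernel
theorem c79_2 : allRange (fun i => Nat.beq (act79 i) i) 5714 2857 = true := by decide +kernel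
theorem c79_3 : allRange (fun i => Nat.beq (act79 i) i) 8571 2857 = true := by decide +kernel
theorem c79_4 : allRange (fun i => Nat.beq (act79 i) i) 11428 2857 = true := by decide +kernel
theorem c79_5 : allRange (fun i => Nat.beq (act79 i) i) 14285 2857 = true := by decide +kernel
theorem c79_6 : allRange (fun i => Nat.beq (act79 i) i) 17142 2857 = true := by decide +kernel
theorem c79_7 : allRange (fun i => Nat.beq (act79 i) i) 19999 2857 = true := by decide +kernel
theorem c79_8 : allRange (fun i => Nat.beq (act79 i) i) 22856 2857 = true := by decide +kernel
theorem c79_9 : allRange (fun i => Nat.beq (act79 i) i) 25713 2857 = true := by decide +kernel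
theorem c79_10 : allRange (fun i => Nat.beq (act79 i) i) 28570 2857 = true := by decide +kernel
theorem c79_11 : allRange (fun i => Nat.beq (act79 i) i) 31427 2857 = true := by decide +kernel
theorem c79_12 : allRange (fun i => Nat.beq (act79 i) i) 34284 2857 = true := by decide +kernel
theorem c79_13 : allRange (fun i => Nat.beq (act79 i) i) 37141 2857 = true := by decide +kernel
theorem c79_14 : allRange (fun i => Nat.beq (act79 i) i) 39998 2857 = true := by decide +kernel
theorem c79_15 : allRange (fun i => Nat.beq (act79 i) i) 42855 2857 = true := by decide +kernel
theorem c79_16 : allRange (fun i => Nat.beq (act79 i) i) 45712 2857 = true := by decide +kernel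
theorem c79_17 : allRange (fun i => Nat.beq (act79 i) i) 48569 2857 = true := by decide +kernel
theorem c79_18 : allRange (fun i => Nat.beq (act79 i) i) 51426 2857 = true := by decide +kernel
theorem c79_19 : allRange (fun i => Nat.beq (act79 i) i) 54283 2857 = true := by decide +kernel
theorem c79_20 : allRange (fun i => Nat.beq (act79 i) i) 57140 2857 = true := by decide +kernel
theorem c79_21 : allRange (fun i => Nat.beq (act79 i) i) 59997 2857 = true := by decide +kernel
theorem c79_22 : allRange (fun i => Nat.beq (act79 i) i) 62854 2857 = true := by decide +kernel
theorem c79_23 : allRange (fun i => Nat.beq (act79 i) i) 65711 1114 = true := by decide +kernel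
theorem h79 : ∀ i, i < T.N → Tab.relActOK T D chk79 i = true := by
  intro i hi
  rw [Tab.relActOK, ← act79_eq]
  exact (range_glue (range_of_allRange c79_0) (range_glue (range_of_allRange c79_1) (range_glue (range_of_allRange c79_2) (range_glue (range_of_allRange c79_3) (range_glue (range_of_allRange c79_4) (range_glue (range_of_allRange c79_5) (range_glue (range_of_allRange c79_6) (range_glue (range_of_allRange c79_7) (range_glue (range_of_allRange c79_8) (range_glue (range_of_allRange c79_9) (range_glue (range_of_allRange c79_10) (range_glue (range_of_allRange c79_11) (range_glue (range_of_allRange c79_12) (range_glue (range_of_allRange c79_13) (range_glue (range_of_allRange c79_14) (range_glue (range_of_allRange c79_15) (range_glue (range_of_allRange c79_16) (range_glue (range_of_allRange c79_17) (range_glue (range_of_allRange c79_18) (range_glue (range_of_allRange c79_19) (range_glue (range_of_allRange c79_20) (range_glue (range_of_allRange c79_21) (range_glue (range_of_allRange c79_22) (range_of_allRange c79_23)))))))))))))))))))))))) i (Nat.zero_le _) hi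

def chk93 : List Nat := [1, 1, 3, 1, 2, 1, 1, 1, 3, 1, 1, 3, 1, 2, 1, 1, 1, 3, 1, 1, 3, 1, 2, 1, 1, 1, 3, 1, 1, 3, 1, 2, 1, 1, 1, 3]
noncomputable def act93 (i : Nat) : Nat := col0 (col0 (col2 (col0 (col3 (col0 (col0 (col0 (col2 (col0 (col0 (col2 (col0 (col3 (col0 (col0 (col0 (col2 (col0 (col0 (col2 (col0 (col3 (col0 (col0 (col0 (col2 (col0 (col0 (col2 (col0 (col3 (col0 (col0 (col0 (col2 (i))))))))))))))))))))))))))))))))))))
theorem act93_eq (i : Nat) : act93 i = Tab.act T D chk93 i := rfl
theorem c93_0 : allRange (fun i => Nat.beq (act93 i) i) 0 1578 = true := by decide +kernel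
theorem c93_1 : allRange (fun i => Nat.beq (act93 i) i) 1578 1578 = true := by decide +kernel
theorem c93_2 : allRange (fun i => Nat.beq (act93 i) i) 3156 1578 = true := by decide +kernel
theorem c93_3 : allRange (fun i => Nat.beq (act93 i) i) 4734 1578 = true := by decide +kernel
theorem c93_4 : allRange (fun i => Nat.beq (act93 i) i) 6312 1578 = true := by decide +kernel
theorem c93_5 : allRange (fun i => Nat.beq (act93 i) i) 7890 1578 = true := by decide +kernel
theorem c93_6 : allRange (fun i => Nat.beq (act93 i) i) 9468 1578 = true := by decide +kernel
theorem c93_7 : allRange (fun i => Nat.beq (act93 i) i) 11046 1578 = true := by decide +kernel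
theorem c93_8 : allRange (fun i => Nat.beq (act93 i) i) 12624 1578 = true := by decide +kernel
theorem c93_9 : allRange (fun i => Nat.beq (act93 i) i) 14202 1578 = true := by decide +kernel
theorem c93_10 : allRange (fun i => Nat.beq (act93 i) i) 15780 1578 = true := by decide +kernel
theorem c93_11 : allRange (fun i => Nat.beq (act93 i) i) 17358 1578 = true := by decide +kernel
theorem c93_12 : allRange (fun i => Nat.beq (act93 i) i) 18936 1578 = true := by decide +kernel
theorem c93_13 : allRange (fun i => Nat.beq (act93 i) i) 20514 1578 = true := by decide +kernel
theorem c93_14 : allRange (fun i => Nat.beq (act93 i) i) 22092 1578 = true := by decide +kernel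
theorem c93_15 : allRange (fun i => Nat.beq (act93 i) i) 23670 1578 = true := by decide +kernel
theorem c93_16 : allRange (fun i => Nat.beq (act93 i) i) 25248 1578 = true := by decide +kernel
theorem c93_17 : allRange (fun i => Nat.beq (act93 i) i) 26826 1578 = true := by decide +kernel
theorem c93_18 : allRange (fun i => Nat.beq (act93 i) i) 28404 1578 = true := by decide +kernel
theorem c93_19 : allRange (fun i => Nat.beq (act93 i) i) 29982 1578 = true := by decide +kernel
theorem c93_20 : allRange (fun i => Nat.beq (act93 i) i) 31560 1578 = true := by decide +kernel
theorem c93_21 : allRange (fun i => Nat.beq (act93 i) i) 33138 1578 = true := by decide +kernel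
theorem c93_22 : allRange (fun i => Nat.beq (act93 i) i) 34716 1578 = true := by decide +kernel
theorem c93_23 : allRange (fun i => Nat.beq (act93 i) i) 36294 1578 = true := by decide +kernel
theorem c93_24 : allRange (fun i => Nat.beq (act93 i) i) 37872 1578 = true := by decide +kernel
theorem c93_25 : allRange (fun i => Nat.beq (act93 i) i) 39450 1578 = true := by decide +kernel
theorem c93_26 : allRange (fun i => Nat.beq (act93 i) i) 41028 1578 = true := by decide +kernel
theorem c93_27 : allRange (fun i => Nat.beq (act93 i) i) 42606 1578 = true := by decide +kernel
theorem c93_28 : allRange (fun i => Nat.beq (act93 i) i) 44184 1578 = true := by decide +kernel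
theorem c93_29 : allRange (fun i => Nat.beq (act93 i) i) 45762 1578 = true := by decide +kernel
theorem c93_30 : allRange (fun i => Nat.beq (act93 i) i) 47340 1578 = true := by decide +kernel
theorem c93_31 : allRange (fun i => Nat.beq (act93 i) i) 48918 1578 = true := by decide +kernel
theorem c93_32 : allRange (fun i => Nat.beq (act93 i) i) 50496 1578 = true := by decide +kernel
theorem c93_33 : allRange (fun i => Nat.beq (act93 i) i) 52074 1578 = true := by decide +kernel
theorem c93_34 : allRange (fun i => Nat.beq (act93 i) i) 53652 1578 = true := by decide +kernel
theorem c93_35 : allRange (fun i => Nat.beq (act93 i) i) 55230 1578 = true := by decide +kernel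
theorem c93_36 : allRange (fun i => Nat.beq (act93 i) i) 56808 1578 = true := by decide +kernel
theorem c93_37 : allRange (fun i => Nat.beq (act93 i) i) 58386 1578 = true := by decide +kernel
theorem c93_38 : allRange (fun i => Nat.beq (act93 i) i) 59964 1578 = true := by decide +kernel
theorem c93_39 : allRange (fun i => Nat.beq (act93 i) i) 61542 1578 = true := by decide +kernel
theorem c93_40 : allRange (fun i => Nat.beq (act93 i) i) 63120 1578 = true := by decide +kernel
theorem c93_41 : allRange (fun i => Nat.beq (act93 i) i) 64698 1578 = true := by decide +kernel
theorem c93_42 : allRange (fun i => Nat.beq (act93 i) i) 66276 549 = true := by decide +kernel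
theorem h93 : ∀ i, i < T.N → Tab.relActOK T D chk93 i = true := by
  intro i hi
  rw [Tab.relActOK, ← act93_eq]
  exact (range_glue (range_of_allRange c93_0) (range_glue (range_of_allRange c93_1) (range_glue (range_of_allRange c93_2) (range_glue (range_of_allRange c93_3) (range_glue (range_of_allRange c93_4) (range_glue (range_of_allRange c93_5) (range_glue (range_of_allRange c93_6) (range_glue (range_of_allRange c93_7) (range_glue (range_of_allRange c93_8) (range_glue (range_of_allRange c93_9) (range_glue (range_of_allRange c93_10) (range_glue (range_of_allRange c93_11) (range_glue (range_of_allRange c93_12) (range_glue (range_of_allRange c93_13) (range_glue (range_of_allRange c93_14) (range_glue (range_of_allRange c93_15) (range_glue (range_of_allRange c93_16) (range_glue (range_of_allRange c93_17) (range_glue (range_of_allRange c93_18) (range_glue (range_of_allRange c93_19) (range_glue (range_of_allRange c93_20) (range_glue (range_of_allRange c93_21) (range_glue (range_of_allRange c93_22) (range_glue (range_of_allRange c93_23) (range_glue (range_of_allRange c93_24) (range_glue (range_of_allRange c93_25) (range_glue (range_of_allRange c93_26)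 (range_glue (range_of_allRange c93_27) (range_glue (range_of_allRange c93_28) (range_glue (range_of_allRange c93_29) (range_glue (range_of_allRange c93_30) (range_glue (range_of_allRange c93_31) (range_glue (range_of_allRange c93_32) (range_glue (range_of_allRange c93_33) (range_glue (range_of_allRange c93_34) (range_glue (range_of_allRange c93_35) (range_glue (range_of_allRange c93_36) (range_glue (range_of_allRange c93_37) (range_glue (range_of_allRange c93_38) (range_glue (range_of_allRange c93_39) (range_glue (range_of_allRange c93_40) (range_glue (range_of_allRange c93_41) (range_of_allRange c93_42))))))))))))))))))))))))))))))))))))))))))) i (Nat.zero_le _) hi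

def chk97 : List Nat := [5, 2, 1, 3, 1, 3, 1, 2, 2, 1, 4, 0, 0, 2, 1, 2, 2, 0, 3]
noncomputable def act97 (i : Nat) : Nat := col4 (col3 (col0 (col2 (col0 (col2 (col0 (col3 (col3 (col0 (col5 (col1 (col1 (col3 (col0 (col3 (col3 (col1 (col2 (i)))))))))))))))))))
theorem act97_eq (i : Nat) : act97 i = Tab.act T D chk97 i := rfl
theorem c97_0 : allRange (fun i => Nat.beq (act97 i) i) 0 2857 = true := by decide +kernel
theorem c97_1 : allRange (fun i => Nat.beq (act97 i) i) 2857 2857 = true := by decide +kernel
theorem c97_2 : allRange (fun i => Nat.beq (act97 i) i) 5714 2857 = true := by decide +kernel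
theorem c97_3 : allRange (fun i => Nat.beq (act97 i) i) 8571 2857 = true := by decide +kernel
theorem c97_4 : allRange (fun i => Nat.beq (act97 i) i) 11428 2857 = true := by decide +kernel
theorem c97_5 : allRange (fun i => Nat.beq (act97 i) i) 14285 2857 = true := by decide +kernel
theorem c97_6 : allRange (fun i => Nat.beq (act97 i) i) 17142 2857 = true := by decide +kernel
theorem c97_7 : allRange (fun i => Nat.beq (act97 i) i) 19999 2857 = true := by decide +kernel
theorem c97_8 : allRange (fun i => Nat.beq (act97 i) i) 22856 2857 = true := by decide +kernel
theorem c97_9 : allRange (fun i => Nat.beq (act97 i) i) 25713 2857 = true := by decide +kernel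
theorem c97_10 : allRange (fun i => Nat.beq (act97 i) i) 28570 2857 = true := by decide +kernel
theorem c97_11 : allRange (fun i => Nat.beq (act97 i) i) 31427 2857 = true := by decide +kernel
theorem c97_12 : allRange (fun i => Nat.beq (act97 i) i) 34284 2857 = true := by decide +kernel
theorem c97_13 : allRange (fun i => Nat.beq (act97 i) i) 37141 2857 = true := by decide +kernel
theorem c97_14 : allRange (fun i => Nat.beq (act97 i) i) 39998 2857 = true := by decide +kernel
theorem c97_15 : allRange (fun i => Nat.beq (act97 i) i) 42855 2857 = true := by decide +kernel
theorem c97_16 : allRange (fun i => Nat.beq (act97 i) i) 45712 2857 = true := by decide +kernel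
theorem c97_17 : allRange (fun i => Nat.beq (act97 i) i) 48569 2857 = true := by decide +kernel
theorem c97_18 : allRange (fun i => Nat.beq (act97 i) i) 51426 2857 = true := by decide +kernel
theorem c97_19 : allRange (fun i => Nat.beq (act97 i) i) 54283 2857 = true := by decide +kernel
theorem c97_20 : allRange (fun i => Nat.beq (act97 i) i) 57140 2857 = true := by decide +kernel
theorem c97_21 : allRange (fun i => Nat.beq (act97 i) i) 59997 2857 = true := by decide +kernel
theorem c97_22 : allRange (fun i => Nat.beq (act97 i) i) 62854 2857 = true := by decide +kernel
theorem c97_23 : allRange (fun i => Nat.beq (act97 i) i) 65711 1114 = true := by decide +kernel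
theorem h97 : ∀ i, i < T.N → Tab.relActOK T D chk97 i = true := by
  intro i hi
  rw [Tab.relActOK, ← act97_eq]
  exact (range_glue (range_of_allRange c97_0) (range_glue (range_of_allRange c97_1) (range_glue (range_of_allRange c97_2) (range_glue (range_of_allRange c97_3) (range_glue (range_of_allRange c97_4) (range_glue (range_of_allRange c97_5) (range_glue (range_of_allRange c97_6) (range_glue (range_of_allRange c97_7) (range_glue (range_of_allRange c97_8) (range_glue (range_of_allRange c97_9) (range_glue (range_of_allRange c97_10) (range_glue (range_of_allRange c97_11) (range_glue (range_of_allRange c97_12) (range_glue (range_of_allRange c97_13) (range_glue (range_of_allRange c97_14) (range_glue (range_of_allRange c97_15) (range_glue (range_of_allRange c97_16) (range_glue (range_of_allRange c97_17) (range_glue (range_of_allRange c97_18) (range_glue (range_of_allRange c97_19) (range_glue (range_of_allRange c97_20) (range_glue (range_of_allRange c97_21) (range_glue (range_of_allRange c97_22) (range_of_allRange c97_23)))))))))))))))))))))))) i (Nat.zero_le _) hi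

def chk99 : List Nat := [2, 1, 3, 3, 0, 3, 1, 1, 2, 1, 3, 3, 0, 3, 1, 1, 2, 1, 3, 3, 0, 3, 1, 1, 2, 1, 3, 3, 0, 3, 1, 1]
noncomputable def act99 (i : Nat) : Nat := col3 (col0 (col2 (col2 (col1 (col2 (col0 (col0 (col3 (col0 (col2 (col2 (col1 (col2 (col0 (col0 (col3 (col0 (col2 (col2 (col1 (col2 (col0 (col0 (col3 (col0 (col2 (col2 (col1 (col2 (col0 (col0 (i))))))))))))))))))))))))))))))))
theorem act99_eq (i : Nat) : act99 i = Tab.act T D chk99 i := rfl
theorem c99_0 : allRange (fun i => Nat.beq (act99 i) i) 0 1764 = true := by decide +kernel
theorem c99_1 : allRange (fun i => Nat.beq (act99 i) i) 1764 1764 = true := by decide +kernel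
theorem c99_2 : allRange (fun i => Nat.beq (act99 i) i) 3528 1764 = true := by decide +kernel
theorem c99_3 : allRange (fun i => Nat.beq (act99 i) i) 5292 1764 = true := by decide +kernel
theorem c99_4 : allRange (fun i => Nat.beq (act99 i) i) 7056 1764 = true := by decide +kernel
theorem c99_5 : allRange (fun i => Nat.beq (act99 i) i) 8820 1764 = true := by decide +kernel
theorem c99_6 : allRange (fun i => Nat.beq (act99 i) i) 10584 1764 = true := by decide +kernel
theorem c99_7 : allRange (fun i => Nat.beq (act99 i) i) 12348 1764 = true := by decide +kernel
theorem c99_8 : allRange (fun i => Nat.beq (act99 i) i) 14112 1764 = true := by decide +kernel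
theorem c99_9 : allRange (fun i => Nat.beq (act99 i) i) 15876 1764 = true := by decide +kernel
theorem c99_10 : allRange (fun i => Nat.beq (act99 i) i) 17640 1764 = true := by decide +kernel
theorem c99_11 : allRange (fun i => Nat.beq (act99 i) i) 19404 1764 = true := by decide +kernel
theorem c99_12 : allRange (fun i => Nat.beq (act99 i) i) 21168 1764 = true := by decide +kernel
theorem c99_13 : allRange (fun i => Nat.beq (act99 i) i) 22932 1764 = true := by decide +kernel
theorem c99_14 : allRange (fun i => Nat.beq (act99 i) i) 24696 1764 = true := by decide +kernel
theorem c99_15 : allRange (fun i => Nat.beq (act99 i) i) 26460 1764 = true := by decide +kernel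
theorem c99_16 : allRange (fun i => Nat.beq (act99 i) i) 28224 1764 = true := by decide +kernel
theorem c99_17 : allRange (fun i => Nat.beq (act99 i) i) 29988 1764 = true := by decide +kernel
theorem c99_18 : allRange (fun i => Nat.beq (act99 i) i) 31752 1764 = true := by decide +kernel
theorem c99_19 : allRange (fun i => Nat.beq (act99 i) i) 33516 1764 = true := by decide +kernel
theorem c99_20 : allRange (fun i => Nat.beq (act99 i) i) 35280 1764 = true := by decide +kernel
theorem c99_21 : allRange (fun i => Nat.beq (act99 i) i) 37044 1764 = true := by decide +kernel
theorem c99_22 : allRange (fun i => Nat.beq (act99 i) i) 38808 1764 = true := by decide +kernel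
theorem c99_23 : allRange (fun i => Nat.beq (act99 i) i) 40572 1764 = true := by decide +kernel
theorem c99_24 : allRange (fun i => Nat.beq (act99 i) i) 42336 1764 = true := by decide +kernel
theorem c99_25 : allRange (fun i => Nat.beq (act99 i) i) 44100 1764 = true := by decide +kernel
theorem c99_26 : allRange (fun i => Nat.beq (act99 i) i) 45864 1764 = true := by decide +kernel
theorem c99_27 : allRange (fun i => Nat.beq (act99 i) i) 47628 1764 = true := by decide +kernel
theorem c99_28 : allRange (fun i => Nat.beq (act99 i) i) 49392 1764 = true := by decide +kernel
theorem c99_29 : allRange (fun i => Nat.beq (act99 i) i) 51156 1764 = true := by decide +kernel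
theorem c99_30 : allRange (fun i => Nat.beq (act99 i) i) 52920 1764 = true := by decide +kernel
theorem c99_31 : allRange (fun i => Nat.beq (act99 i) i) 54684 1764 = true := by decide +kernel
theorem c99_32 : allRange (fun i => Nat.beq (act99 i) i) 56448 1764 = true := by decide +kernel
theorem c99_33 : allRange (fun i => Nat.beq (act99 i) i) 58212 1764 = true := by decide +kernel
theorem c99_34 : allRange (fun i => Nat.beq (act99 i) i) 59976 1764 = true := by decide +kernel
theorem c99_35 : allRange (fun i => Nat.beq (act99 i) i) 61740 1764 = true := by decide +kernel
theorem c99_36 : allRange (fun i => Nat.beq (act99 i) i) 63504 1764 = true := by decide +kernel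
theorem c99_37 : allRange (fun i => Nat.beq (act99 i) i) 65268 1557 = true := by decide +kernel
theorem h99 : ∀ i, i < T.N → Tab.relActOK T D chk99 i = true := by
  intro i hi
  rw [Tab.relActOK, ← act99_eq]
  exact (range_glue (range_of_allRange c99_0) (range_glue (range_of_allRange c99_1) (range_glue (range_of_allRange c99_2) (range_glue (range_of_allRange c99_3) (range_glue (range_of_allRange c99_4) (range_glue (range_of_allRange c99_5) (range_glue (range_of_allRange c99_6) (range_glue (range_of_allRange c99_7) (range_glue (range_of_allRange c99_8) (range_glue (range_of_allRange c99_9) (range_glue (range_of_allRange c99_10) (range_glue (range_of_allRange c99_11) (range_glue (range_of_allRange c99_12) (range_glue (range_of_allRange c99_13) (range_glue (range_of_allRange c99_14) (range_glue (range_of_allRange c99_15) (range_glue (range_of_allRange c99_16) (range_glue (range_of_allRange c99_17) (range_glue (range_of_allRange c99_18) (range_glue (range_of_allRange c99_19) (range_glue (range_of_allRange c99_20) (range_glue (range_of_allRange c99_21) (range_glue (range_of_allRange c99_22) (range_glue (range_of_allRange c99_23) (range_glue (range_of_allRange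 c99_24) (range_glue (range_of_allRange c99_25) (range_glue (range_of_allRange c99_26) (range_glue (range_of_allRange c99_27) (range_glue (range_of_allRange c99_28) (range_glue (range_of_allRange c99_29) (range_glue (range_of_allRange c99_30) (range_glue (range_of_allRange c99_31) (range_glue (range_of_allRange c99_32) (range_glue (range_of_allRange c99_33) (range_glue (range_of_allRange c99_34) (range_glue (range_of_allRange c99_35) (range_glue (range_of_allRange c99_36) (range_of_allRange c99_37)))))))))))))))))))))))))))))))))))))) i (Nat.zero_le _) hi

def chk104 : List Nat := [3, 1, 1, 2, 1, 3, 1, 3, 1, 1, 2, 1, 3, 1, 3, 1, 1, 2, 1, 3, 1, 3, 1, 1, 2, 1, 3, 1]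
noncomputable def act104 (i : Nat) : Nat := col2 (col0 (col0 (col3 (col0 (col2 (col0 (col2 (col0 (col0 (col3 (col0 (col2 (col0 (col2 (col0 (col0 (col3 (col0 (col2 (col0 (col2 (col0 (col0 (col3 (col0 (col2 (col0 (i))))))))))))))))))))))))))))
theorem act104_eq (i : Nat) : act104 i = Tab.act T D chk104 i := rfl
theorem c104_0 : allRange (fun i => Nat.beq (act104 i) i) 0 2000 = true := by decide +kernel
theorem c104_1 : allRange (fun i => Nat.beq (act104 i) i) 2000 2000 = true := by decide +kernel
theorem c104_2 : allRange (fun i => Nat.beq (act104 i) i) 4000 2000 = true := by decide +kernel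
theorem c104_3 : allRange (fun i => Nat.beq (act104 i) i) 6000 2000 = true := by decide +kernel
theorem c104_4 : allRange (fun i => Nat.beq (act104 i) i) 8000 2000 = true := by decide +kernel
theorem c104_5 : allRange (fun i => Nat.beq (act104 i) i) 10000 2000 = true := by decide +kernel
theorem c104_6 : allRange (fun i => Nat.beq (act104 i) i) 12000 2000 = true := by decide +kernel
theorem c104_7 : allRange (fun i => Nat.beq (act104 i) i) 14000 2000 = true := by decide +kernel
theorem c104_8 : allRange (fun i => Nat.beq (act104 i) i) 16000 2000 = true := by decide +kernel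
theorem c104_9 : allRange (fun i => Nat.beq (act104 i) i) 18000 2000 = true := by decide +kernel
theorem c104_10 : allRange (fun i => Nat.beq (act104 i) i) 20000 2000 = true := by decide +kernel
theorem c104_11 : allRange (fun i => Nat.beq (act104 i) i) 22000 2000 = true := by decide +kernel
theorem c104_12 : allRange (fun i => Nat.beq (act104 i) i) 24000 2000 = true := by decide +kernel
theorem c104_13 : allRange (fun i => Nat.beq (act104 i) i) 26000 2000 = true := by decide +kernel
theorem c104_14 : allRange (fun i => Nat.beq (act104 i) i) 28000 2000 = true := by decide +kernel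
theorem c104_15 : allRange (fun i => Nat.beq (act104 i) i) 30000 2000 = true := by decide +kernel
theorem c104_16 : allRange (fun i => Nat.beq (act104 i) i) 32000 2000 = true := by decide +kernel
theorem c104_17 : allRange (fun i => Nat.beq (act104 i) i) 34000 2000 = true := by decide +kernel
theorem c104_18 : allRange (fun i => Nat.beq (act104 i) i) 36000 2000 = true := by decide +kernel
theorem c104_19 : allRange (fun i => Nat.beq (act104 i) i) 38000 2000 = true := by decide +kernel
theorem c104_20 : allRange (fun i => Nat.beq (act104 i) i) 40000 2000 = true := by decide +kernel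
theorem c104_21 : allRange (fun i => Nat.beq (act104 i) i) 42000 2000 = true := by decide +kernel
theorem c104_22 : allRange (fun i => Nat.beq (act104 i) i) 44000 2000 = true := by decide +kernel
theorem c104_23 : allRange (fun i => Nat.beq (act104 i) i) 46000 2000 = true := by decide +kernel
theorem c104_24 : allRange (fun i => Nat.beq (act104 i) i) 48000 2000 = true := by decide +kernel
theorem c104_25 : allRange (fun i => Nat.beq (act104 i) i) 50000 2000 = true := by decide +kernel
theorem c104_26 : allRange (fun i => Nat.beq (act104 i) i) 52000 2000 = true := by decide +kernel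
theorem c104_27 : allRange (fun i => Nat.beq (act104 i) i) 54000 2000 = true := by decide +kernel
theorem c104_28 : allRange (fun i => Nat.beq (act104 i) i) 56000 2000 = true := by decide +kernel
theorem c104_29 : allRange (fun i => Nat.beq (act104 i) i) 58000 2000 = true := by decide +kernel
theorem c104_30 : allRange (fun i => Nat.beq (act104 i) i) 60000 2000 = true := by decide +kernel
theorem c104_31 : allRange (fun i => Nat.beq (act104 i) i) 62000 2000 = true := by decide +kernel
theorem c104_32 : allRange (fun i => Nat.beq (act104 i) i) 64000 2000 = true := by decide +kernel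
theorem c104_33 : allRange (fun i => Nat.beq (act104 i) i) 66000 825 = true := by decide +kernel
theorem h104 : ∀ i, i < T.N → Tab.relActOK T D chk104 i = true := by
  intro i hi
  rw [Tab.relActOK, ← act104_eq]
  exact (range_glue (range_of_allRange c104_0) (range_glue (range_of_allRange c104_1) (range_glue (range_of_allRange c104_2) (range_glue (range_of_allRange c104_3) (range_glue (range_of_allRange c104_4) (range_glue (range_of_allRange c104_5) (range_glue (range_of_allRange c104_6) (range_glue (range_of_allRange c104_7) (range_glue (range_of_allRange c104_8) (range_glue (range_of_allRange c104_9) (range_glue (range_of_allRange c104_10) (range_glue (range_of_allRange c104_11) (range_glue (range_of_allRange c104_12) (range_glue (range_of_allRange c104_13) (range_glue (range_of_allRange c104_14) (range_glue (range_of_allRange c104_15) (range_glue (range_of_allRange c104_16) (range_glue (range_of_allRange c104_17) (range_glue (range_of_allRange c104_18) (range_glue (range_of_allRange c104_19) (range_glue (range_of_allRange c104_20) (range_glue (range_of_allRange c104_21) (range_glue (range_of_allRange c104_22) (range_glue (range_of_allRange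 c104_23) (range_glue (range_of_allRange c104_24) (range_glue (range_of_allRange c104_25) (range_glue (range_of_allRange c104_26) (range_glue (range_of_allRange c104_27) (range_glue (range_of_allRange c104_28) (range_glue (range_of_allRange c104_29) (range_glue (range_of_allRange c104_30) (range_glue (range_of_allRange c104_31) (range_glue (range_of_allRange c104_32) (range_of_allRange c104_33)))))))))))))))))))))))))))))))))) i (Nat.zero_le _) hi

end Cfsg.Agent.Lib.Helper4.TCD.SC3McLp3W
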