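import Cfsg.Agent.Lib.Helper4.TCD_C3McLR_Acc
import Cfsg.Agent.Lib.Helper4.TC13

namespace Cfsg.Agent.Lib.Helper4.TCD.SC3McLp3W

open Cfsg.Agent.Lib.Helper4.TC Cfsg.Agent.Lib.Helper4.TCD.C3McLR

set_option maxRecDepth 100000
set_option Elab.async false

def chk1 : List Nat := [2, 2, 2, 2, 2, 2, 2]
noncomputable def act1 (i : Nat) : Nat := col3 (col3 (col3 (col3 (col3 (col3 (col3 (i)))))))
theorem act1_eq (i : Nat) : act1 i = Tab.act T D chk1 i := rfl
theorem c1_0 : allRange (fun i => Nat.beq (act1 i) i) 0 6666 = true := by decide +kernel
theorem c1_1 : allRange (fun i => Nat.beq (act1 i) i) 6666 6666 = true := by decide +kernel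
theorem c1_2 : allRange (fun i => Nat.beq (act1 i) i) 13332 6666 = true := by decide +kernel
theorem c1_3 : allRange (fun i => Nat.beq (act1 i) i) 19998 6666 = true := by decide +kernel
theorem c1_4 : allRange (fun i => Nat.beq (act1 i) i) 26664 6666 = true := by decide +kernel
theorem c1_5 : allRange (fun i => Nat.beq (act1 i) i) 33330 6666 = true := by decide +kernel
theorem c1_6 : allRange (fun i => Nat.beq (act1 i) i) 39996 6666 = true := by decide +kernel
theorem c1_7 : allRange (fun i => Nat.beq (act1 i) i) 46662 6666 = true := by decide +kernel
theorem c1_8 : allRange (fun i => Nat.beq (act1 i) i) 53328 6666 = true := by decide +kernel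
theorem c1_9 : allRange (fun i => Nat.beq (act1 i) i) 59994 6666 = true := by decide +kernel
theorem c1_10 : allRange (fun i => Nat.beq (act1 i) i) 66660 165 = true := by decide +kernel
theorem h1 : ∀ i, i < T.N → Tab.relActOK T D chk1 i = true := by
  intro i hi
  rw [Tab.relActOK, ← act1_eq]
  exact (range_glue (range_of_allRange c1_0) (range_glue (range_of_allRange c1_1) (range_glue (range_of_allRange c1_2) (range_glue (range_of_allRange c1_3) (range_glue (range_of_allRange c1_4) (range_glue (range_of_allRange c1_5) (range_glue (range_of_allRange c1_6) (range_glue (range_of_allRange c1_7) (range_glue (range_of_allRange c1_8) (range_glue (range_of_allRange c1_9) (range_of_allRange c1_10))))))))))) i (Nat.zero_le _) hi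

def chk13 : List Nat := [7, 3, 6, 2]
noncomputable def act13 (i : Nat) : Nat := col6 (col2 (col7 (col3 (i))))
theorem act13_eq (i : Nat) : act13 i = Tab.act T D chk13 i := rfl
theorem c13_0 : allRange (fun i => Nat.beq (act13 i) i) 0 10000 = true := by decide +kernel
theorem c13_1 : allRange (fun i => Nat.beq (act13 i) i) 10000 10000 = true := by decide +kernel
theorem c13_2 : allRange (fun i => Nat.beq (act13 i) i) 20000 10000 = true := by decide +kernel
theorem c13_3 : allRange (fun i => Nat.beq (act13 i) i) 30000 10000 = true := by decide +kernel
theorem c13_4 : allRange (fun i => Nat.beq (act13 i) i) 40000 10000 = true := by decide +kernel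
theorem c13_5 : allRange (fun i => Nat.beq (act13 i) i) 50000 10000 = true := by decide +kernel
theorem c13_6 : allRange (fun i => Nat.beq (act13 i) i) 60000 6825 = true := by decide +kernel
theorem h13 : ∀ i, i < T.N → Tab.relActOK T D chk13 i = true := by
  intro i hi
  rw [Tab.relActOK, ← act13_eq]
  exact (range_glue (range_of_allRange c13_0) (range_glue (range_of_allRange c13_1) (range_glue (range_of_allRange c13_2) (range_glue (range_of_allRange c13_3) (range_glue (range_of_allRange c13_4) (range_glue (range_of_allRange c13_5) (range_of_allRange c13_6))))))) i (Nat.zero_le _) hi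

def chk34 : List Nat := [5, 2, 2, 0, 3, 1, 1, 4, 1, 2, 0, 3, 1, 2, 2, 0, 3, 0]
noncomputable def act34 (i : Nat) : Nat := col4 (col3 (col3 (col1 (col2 (col0 (col0 (col5 (col0 (col3 (col1 (col2 (col0 (col3 (col3 (col1 (col2 (col1 (i))))))))))))))))))
theorem act34_eq (i : Nat) : act34 i = Tab.act T D chk34 i := rfl
theorem c34_0 : allRange (fun i => Nat.beq (act34 i) i) 0 3000 = true := by decide +kernel
theorem c34_1 : allRange (fun i => Nat.beq (act34 i) i) 3000 3000 = true := by decide +kernel
theorem c34_2 : allRange (fun i => Nat.beq (act34 i) i) 6000 3000 = true := by decide +kernel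
theorem c34_3 : allRange (fun i => Nat.beq (act34 i) i) 9000 3000 = true := by decide +kernel
theorem c34_4 : allRange (fun i => Nat.beq (act34 i) i) 12000 3000 = true := by decide +kernel
theorem c34_5 : allRange (fun i => Nat.beq (act34 i) i) 15000 3000 = true := by decide +kernel
theorem c34_6 : allRange (fun i => Nat.beq (act34 i) i) 18000 3000 = true := by decide +kernel
theorem c34_7 : allRange (fun i => Nat.beq (act34 i) i) 21000 3000 = true := by decide +kernel
theorem c34_8 : allRange (fun i => Nat.beq (act34 i) i) 24000 3000 = true := by decide +kernel
theorem c34_9 : allRange (fun i => Nat.beq (act34 i) i) 27000 3000 = true := by decide +kernel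
theorem c34_10 : allRange (fun i => Nat.beq (act34 i) i) 30000 3000 = true := by decide +kernel
theorem c34_11 : allRange (fun i => Nat.beq (act34 i) i) 33000 3000 = true := by decide +kernel
theorem c34_12 : allRange (fun i => Nat.beq (act34 i) i) 36000 3000 = true := by decide +kernel
theorem c34_13 : allRange (fun i => Nat.beq (act34 i) i) 39000 3000 = true := by decide +kernel
theorem c34_14 : allRange (fun i => Nat.beq (act34 i) i) 42000 3000 = true := by decide +kernel
theorem c34_15 : allRange (fun i => Nat.beq (act34 i) i) 45000 3000 = true := by decide +kernel
theorem c34_16 : allRange (fun i => Nat.beq (act34 i) i) 48000 3000 = true := by decide +kernel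
theorem c34_17 : allRange (fun i => Nat.beq (act34 i) i) 51000 3000 = true := by decide +kernel
theorem c34_18 : allRange (fun i => Nat.beq (act34 i) i) 54000 3000 = true := by decide +kernel
theorem c34_19 : allRange (fun i => Nat.beq (act34 i) i) 57000 3000 = true := by decide +kernel
theorem c34_20 : allRange (fun i => Nat.beq (act34 i) i) 60000 3000 = true := by decide +kernel
theorem c34_21 : allRange (fun i => Nat.beq (act34 i) i) 63000 3000 = true := by decide +kernel
theorem c34_22 : allRange (fun i => Nat.beq (act34 i) i) 66000 825 = true := by decide +kernel
theorem h34 : ∀ i, i < T.N → Tab.relActOK T D chk34 i = true := by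
  intro i hi
  rw [Tab.relActOK, ← act34_eq]
  exact (range_glue (range_of_allRange c34_0) (range_glue (range_of_allRange c34_1) (range_glue (range_of_allRange c34_2) (range_glue (range_of_allRange c34_3) (range_glue (range_of_allRange c34_4) (range_glue (range_of_allRange c34_5) (range_glue (range_of_allRange c34_6) (range_glue (range_of_allRange c34_7) (range_glue (range_of_allRange c34_8) (range_glue (range_of_allRange c34_9) (range_glue (range_of_allRange c34_10) (range_glue (range_of_allRange c34_11) (range_glue (range_of_allRange c34_12) (range_glue (range_of_allRange c34_13) (range_glue (range_of_allRange c34_14) (range_glue (range_of_allRange c34_15) (range_glue (range_of_allRange c34_16) (range_glue (range_of_allRange c34_17) (range_glue (range_of_allRange c34_18) (range_glue (range_of_allRange c34_19) (range_glue (range_of_allRange c34_20) (range_glue (range_of_allRange c34_21) (range_of_allRange c34_22))))))))))))))))))))))) i (Nat.zero_le _) hi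

def chk50 : List Nat := [2, 0, 3, 1, 2, 2, 0, 3, 2, 0, 3, 1, 2, 2, 0, 3, 2, 0, 3, 1, 2, 2, 0, 3, 2, 0, 3, 1, 2, 2, 0, 3]
noncomputable def act50 (i : Nat) : Nat := col3 (col1 (col2 (col0 (col3 (col3 (col1 (col2 (col3 (col1 (col2 (col0 (col3 (col3 (col1 (col2 (col3 (col1 (col2 (col0 (col3 (col3 (col1 (col2 (col3 (col1 (col2 (col0 (col3 (col3 (col1 (col2 (i))))))))))))))))))))))))))))))))
theorem act50_eq (i : Nat) : act50 i = Tab.act T D chk50 i := rfl
theorem c50_0 : allRange (fun i => Nat.beq (act50 i) i) 0 1764 = true := by decide +kernel
theorem c50_1 : allRange (fun i => Nat.beq (act50 i) i) 1764 1764 = true := by decide +kernel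
theorem c50_2 : allRange (fun i => Nat.beq (act50 i) i) 3528 1764 = true := by decide +kernel
theorem c50_3 : allRange (fun i => Nat.beq (act50 i) i) 5292 1764 = true := by decide +kernel
theorem c50_4 : allRange (fun i => Nat.beq (act50 i) i) 7056 1764 = true := by decide +kernel
theorem c50_5 : allRange (fun i => Nat.beq (act50 i) i) 8820 1764 = true := by decide +kernel
theorem c50_6 : allRange (fun i => Nat.beq (act50 i) i) 10584 1764 = true := by decide +kernel
theorem c50_7 : allRange (fun i => Nat.beq (act50 i) i) 12348 1764 = true := by decide +kernel
theorem c50_8 : allRange (fun i => Nat.beq (act50 i) i) 14112 1764 = true := by decide +kernel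
theorem c50_9 : allRange (fun i => Nat.beq (act50 i) i) 15876 1764 = true := by decide +kernel
theorem c50_10 : allRange (fun i => Nat.beq (act50 i) i) 17640 1764 = true := by decide +kernel
theorem c50_11 : allRange (fun i => Nat.beq (act50 i) i) 19404 1764 = true := by decide +kernel
theorem c50_12 : allRange (fun i => Nat.beq (act50 i) i) 21168 1764 = true := by decide +kernel
theorem c50_13 : allRange (fun i => Nat.beq (act50 i) i) 22932 1764 = true := by decide +kernel
theorem c50_14 : allRange (fun i => Nat.beq (act50 i) i) 24696 1764 = true := by decide +kernel
theorem c50_15 : allRange (fun i => Nat.beq (act50 i) i) 26460 1764 = true := by decide +kernel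
theorem c50_16 : allRange (fun i => Nat.beq (act50 i) i) 28224 1764 = true := by decide +kernel
theorem c50_17 : allRange (fun i => Nat.beq (act50 i) i) 29988 1764 = true := by decide +kernel
theorem c50_18 : allRange (fun i => Nat.beq (act50 i) i) 31752 1764 = true := by decide +kernel
theorem c50_19 : allRange (fun i => Nat.beq (act50 i) i) 33516 1764 = true := by decide +kernel
theorem c50_20 : allRange (fun i => Nat.beq (act50 i) i) 35280 1764 = true := by decide +kernel
theorem c50_21 : allRange (fun i => Nat.beq (act50 i) i) 37044 1764 = true := by decide +kernel
theorem c50_22 : allRange (fun i => Nat.beq (act50 i) i) 38808 1764 = true := by decide +kernel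
theorem c50_23 : allRange (fun i => Nat.beq (act50 i) i) 40572 1764 = true := by decide +kernel
theorem c50_24 : allRange (fun i => Nat.beq (act50 i) i) 42336 1764 = true := by decide +kernel
theorem c50_25 : allRange (fun i => Nat.beq (act50 i) i) 44100 1764 = true := by decide +kernel
theorem c50_26 : allRange (fun i => Nat.beq (act50 i) i) 45864 1764 = true := by decide +kernel
theorem c50_27 : allRange (fun i => Nat.beq (act50 i) i) 47628 1764 = true := by decide +kernel
theorem c50_28 : allRange (fun i => Nat.beq (act50 i) i) 49392 1764 = true := by decide +kernel
theorem c50_29 : allRange (fun i => Nat.beq (act50 i) i) 51156 1764 = true := by decide +kernel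
theorem c50_30 : allRange (fun i => Nat.beq (act50 i) i) 52920 1764 = true := by decide +kernel
theorem c50_31 : allRange (fun i => Nat.beq (act50 i) i) 54684 1764 = true := by decide +kernel
theorem c50_32 : allRange (fun i => Nat.beq (act50 i) i) 56448 1764 = true := by decide +kernel
theorem c50_33 : allRange (fun i => Nat.beq (act50 i) i) 58212 1764 = true := by decide +kernel
theorem c50_34 : allRange (fun i => Nat.beq (act50 i) i) 59976 1764 = true := by decide +kernel
theorem c50_35 : allRange (fun i => Nat.beq (act50 i) i) 61740 1764 = true := by decide +kernel
theorem c50_36 : allRange (fun i => Nat.beq (act50 i) i) 63504 1764 = true := by decide +kernel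
theorem c50_37 : allRange (fun i => Nat.beq (act50 i) i) 65268 1557 = true := by decide +kernel
theorem h50 : ∀ i, i < T.N → Tab.relActOK T D chk50 i = true := by
  intro i hi
  rw [Tab.relActOK, ← act50_eq]
  exact (range_glue (range_of_allRange c50_0) (range_glue (range_of_allRange c50_1) (range_glue (range_of_allRange c50_2) (range_glue (range_of_allRange c50_3) (range_glue (range_of_allRange c50_4) (range_glue (range_of_allRange c50_5) (range_glue (range_of_allRange c50_6) (range_glue (range_of_allRange c50_7) (range_glue (range_of_allRange c50_8) (range_glue (range_of_allRange c50_9) (range_glue (range_of_allRange c50_10) (range_glue (range_of_allRange c50_11) (range_glue (range_of_allRange c50_12) (range_glue (range_of_allRange c50_13) (range_glue (range_of_allRange c50_14) (range_glue (range_of_allRange c50_15) (range_glue (range_of_allRange c50_16) (range_glue (range_of_allRange c50_17) (range_glue (range_of_allRange c50_18) (range_glue (range_of_allRange c50_19) (range_glue (range_of_allRange c50_20) (range_glue (range_of_allRange c50_21) (range_glue (range_of_allRange c50_22) (range_glue (range_of_allRange c50_23) (range_glue (range_of_allRange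 c50_24) (range_glue (range_of_allRange c50_25) (range_glue (range_of_allRange c50_26) (range_glue (range_of_allRange c50_27) (range_glue (range_of_allRange c50_28) (range_glue (range_of_allRange c50_29) (range_glue (range_of_allRange c50_30) (range_glue (range_of_allRange c50_31) (range_glue (range_of_allRange c50_32) (range_glue (range_of_allRange c50_33) (range_glue (range_of_allRange c50_34) (range_glue (range_of_allRange c50_35) (range_glue (range_of_allRange c50_36) (range_of_allRange c50_37)))))))))))))))))))))))))))))))))))))) i (Nat.zero_le _) hi

def chk64 : List Nat := [4, 1, 3, 3, 1, 1, 2, 2, 0, 2, 0, 5, 2, 2, 0, 3, 1, 1]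
noncomputable def act64 (i : Nat) : Nat := col5 (col0 (col2 (col2 (col0 (col0 (col3 (col3 (col1 (col3 (col1 (col4 (col3 (col3 (col1 (col2 (col0 (col0 (i))))))))))))))))))
theorem act64_eq (i : Nat) : act64 i = Tab.act T D chk64 i := rfl
theorem c64_0 : allRange (fun i => Nat.beq (act64 i) i) 0 3000 = true := by decide +kernel
theorem c64_1 : allRange (fun i => Nat.beq (act64 i) i) 3000 3000 = true := by decide +kernel
theorem c64_2 : allRange (fun i => Nat.beq (act64 i) i) 6000 3000 = true := by decide +kernel
theorem c64_3 : allRange (fun i => Nat.beq (act64 i) i) 9000 3000 = true := by decide +kernel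
theorem c64_4 : allRange (fun i => Nat.beq (act64 i) i) 12000 3000 = true := by decide +kernel
theorem c64_5 : allRange (fun i => Nat.beq (act64 i) i) 15000 3000 = true := by decide +kernel
theorem c64_6 : allRange (fun i => Nat.beq (act64 i) i) 18000 3000 = true := by decide +kernel
theorem c64_7 : allRange (fun i => Nat.beq (act64 i) i) 21000 3000 = true := by decide +kernel
theorem c64_8 : allRange (fun i => Nat.beq (act64 i) i) 24000 3000 = true := by decide +kernel
theorem c64_9 : allRange (fun i => Nat.beq (act64 i) i) 27000 3000 = true := by decide +kernel
theorem c64_10 : allRange (fun i => Nat.beq (act64 i) i) 30000 3000 = true := by decide +kernel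
theorem c64_11 : allRange (fun i => Nat.beq (act64 i) i) 33000 3000 = true := by decide +kernel
theorem c64_12 : allRange (fun i => Nat.beq (act64 i) i) 36000 3000 = true := by decide +kernel
theorem c64_13 : allRange (fun i => Nat.beq (act64 i) i) 39000 3000 = true := by decide +kernel
theorem c64_14 : allRange (fun i => Nat.beq (act64 i) i) 42000 3000 = true := by decide +kernel
theorem c64_15 : allRange (fun i => Nat.beq (act64 i) i) 45000 3000 = true := by decide +kernel
theorem c64_16 : allRange (fun i => Nat.beq (act64 i) i) 48000 3000 = true := by decide +kernel
theorem c64_17 : allRange (fun i => Nat.beq (act64 i) i) 51000 3000 = true := by decide +kernel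
theorem c64_18 : allRange (fun i => Nat.beq (act64 i) i) 54000 3000 = true := by decide +kernel
theorem c64_19 : allRange (fun i => Nat.beq (act64 i) i) 57000 3000 = true := by decide +kernel
theorem c64_20 : allRange (fun i => Nat.beq (act64 i) i) 60000 3000 = true := by decide +kernel
theorem c64_21 : allRange (fun i => Nat.beq (act64 i) i) 63000 3000 = true := by decide +kernel
theorem c64_22 : allRange (fun i => Nat.beq (act64 i) i) 66000 825 = true := by decide +kernel
theorem h64 : ∀ i, i < T.N → Tab.relActOK T D chk64 i = true := by
  intro i hi
  rw [Tab.relActOK, ← act64_eq]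
  exact (range_glue (range_of_allRange c64_0) (range_glue (range_of_allRange c64_1) (range_glue (range_of_allRange c64_2) (range_glue (range_of_allRange c64_3) (range_glue (range_of_allRange c64_4) (range_glue (range_of_allRange c64_5) (range_glue (range_of_allRange c64_6) (range_glue (range_of_allRange c64_7) (range_glue (range_of_allRange c64_8) (range_glue (range_of_allRange c64_9) (range_glue (range_of_allRange c64_10) (range_glue (range_of_allRange c64_11) (range_glue (range_of_allRange c64_12) (range_glue (range_of_allRange c64_13) (range_glue (range_of_allRange c64_14) (range_glue (range_of_allRange c64_15) (range_glue (range_of_allRange c64_16) (range_glue (range_of_allRange c64_17) (range_glue (range_of_allRange c64_18) (range_glue (range_of_allRange c64_19) (range_glue (range_of_allRange c64_20) (range_glue (range_of_allRange c64_21) (range_of_allRange c64_22))))))))))))))))))))))) i (Nat.zero_le _) hi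

def chk66 : List Nat := [0, 0, 2, 1, 3, 3, 0, 0, 2, 1, 3, 3, 0, 0, 2, 1, 3, 3, 0, 0, 2, 1, 3, 3]
noncomputable def act66 (i : Nat) : Nat := col1 (col1 (col3 (col0 (col2 (col2 (col1 (col1 (col3 (col0 (col2 (col2 (col1 (col1 (col3 (col0 (col2 (col2 (col1 (col1 (col3 (col0 (col2 (col2 (i))))))))))))))))))))))))
theorem act66_eq (i : Nat) : act66 i = Tab.act T D chk66 i := rfl
theorem c66_0 : allRange (fun i => Nat.beq (act66 i) i) 0 2307 = true := by decide +kernel
theorem c66_1 : allRange (fun i => Nat.beq (act66 i) i) 2307 2307 = true := by decide +kernel
theorem c66_2 : allRange (fun i => Nat.beq (act66 i) i) 4614 2307 = true := by decide +kernel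
theorem c66_3 : allRange (fun i => Nat.beq (act66 i) i) 6921 2307 = true := by decide +kernel
theorem c66_4 : allRange (fun i => Nat.beq (act66 i) i) 9228 2307 = true := by decide +kernel
theorem c66_5 : allRange (fun i => Nat.beq (act66 i) i) 11535 2307 = true := by decide +kernel
theorem c66_6 : allRange (fun i => Nat.beq (act66 i) i) 13842 2307 = true := by decide +kernel
theorem c66_7 : allRange (fun i => Nat.beq (act66 i) i) 16149 2307 = true := by decide +kernel
theorem c66_8 : allRange (fun i => Nat.beq (act66 i) i) 18456 2307 = true := by decide +kernel
theorem c66_9 : allRange (fun i => Nat.beq (act66 i) i) 20763 2307 = true := by decide +kernel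
theorem c66_10 : allRange (fun i => Nat.beq (act66 i) i) 23070 2307 = true := by decide +kernel
theorem c66_11 : allRange (fun i => Nat.beq (act66 i) i) 25377 2307 = true := by decide +kernel
theorem c66_12 : allRange (fun i => Nat.beq (act66 i) i) 27684 2307 = true := by decide +kernel
theorem c66_13 : allRange (fun i => Nat.beq (act66 i) i) 29991 2307 = true := by decide +kernel
theorem c66_14 : allRange (fun i => Nat.beq (act66 i) i) 32298 2307 = true := by decide +kernel
theorem c66_15 : allRange (fun i => Nat.beq (act66 i) i) 34605 2307 = true := by decide +kernel
theorem c66_16 : allRange (fun i => Nat.beq (act66 i) i) 36912 2307 = true := by decide +kernel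
theorem c66_17 : allRange (fun i => Nat.beq (act66 i) i) 39219 2307 = true := by decide +kernel
theorem c66_18 : allRange (fun i => Nat.beq (act66 i) i) 41526 2307 = true := by decide +kernel
theorem c66_19 : allRange (fun i => Nat.beq (act66 i) i) 43833 2307 = true := by decide +kernel
theorem c66_20 : allRange (fun i => Nat.beq (act66 i) i) 46140 2307 = true := by decide +kernel
theorem c66_21 : allRange (fun i => Nat.beq (act66 i) i) 48447 2307 = true := by decide +kernel
theorem c66_22 : allRange (fun i => Nat.beq (act66 i) i) 50754 2307 = true := by decide +kernel
theorem c66_23 : allRange (fun i => Nat.beq (act66 i) i) 53061 2307 = true := by decide +kernel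
theorem c66_24 : allRange (fun i => Nat.beq (act66 i) i) 55368 2307 = true := by decide +kernel
theorem c66_25 : allRange (fun i => Nat.beq (act66 i) i) 57675 2307 = true := by decide +kernel
theorem c66_26 : allRange (fun i => Nat.beq (act66 i) i) 59982 2307 = true := by decide +kernel
theorem c66_27 : allRange (fun i => Nat.beq (act66 i) i) 62289 2307 = true := by decide +kernel
theorem c66_28 : allRange (fun i => Nat.beq (act66 i) i) 64596 2229 = true := by decide +kernel
theorem h66 : ∀ i, i < T.N → Tab.relActOK T D chk66 i = true := by
  intro i hi
  rw [Tab.relActOK, ← act66_eq]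
  exact (range_glue (range_of_allRange c66_0) (range_glue (range_of_allRange c66_1) (range_glue (range_of_allRange c66_2) (range_glue (range_of_allRange c66_3) (range_glue (range_of_allRange c66_4) (range_glue (range_of_allRange c66_5) (range_glue (range_of_allRange c66_6) (range_glue (range_of_allRange c66_7) (range_glue (range_of_allRange c66_8) (range_glue (range_of_allRange c66_9) (range_glue (range_of_allRange c66_10) (range_glue (range_of_allRange c66_11) (range_glue (range_of_allRange c66_12) (range_glue (range_of_allRange c66_13) (range_glue (range_of_allRange c66_14) (range_glue (range_of_allRange c66_15) (range_glue (range_of_allRange c66_16) (range_glue (range_of_allRange c66_17) (range_glue (range_of_allRange c66_18) (range_glue (range_of_allRange c66_19) (range_glue (range_of_allRange c66_20) (range_glue (range_of_allRange c66_21) (range_glue (range_of_allRange c66_22) (range_glue (range_of_allRange c66_23) (range_glue (range_of_allRange c66_24) (range_glue (range_of_allRange c66_25) (range_glue (range_of_allRange c66_26) (range_glue (range_of_allRange c66_27) (range_of_allRange c66_28))))))))))))))))))))))))))))) i (Nat.zero_le _)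 hi

def chk78 : List Nat := [0, 3, 3, 0, 2, 0, 2, 0, 3, 0, 3, 3, 0, 2, 0, 2, 0, 3, 0, 3, 3, 0, 2, 0, 2, 0, 3, 0, 3, 3, 0, 2, 0, 2, 0, 3]
noncomputable def act78 (i : Nat) : Nat := col1 (col2 (col2 (col1 (col3 (col1 (col3 (col1 (col2 (col1 (col2 (col2 (col1 (col3 (col1 (col3 (col1 (col2 (col1 (col2 (col2 (col1 (col3 (col1 (col3 (col1 (col2 (col1 (col2 (col2 (col1 (col3 (col1 (col3 (col1 (col2 (i))))))))))))))))))))))))))))))))))))
theorem act78_eq (i : Nat) : act78 i = Tab.act T D chk78 i := rfl
theorem c78_0 : allRange (fun i => Nat.beq (act78 i) i) 0 1578 = true := by decide +kernel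
theorem c78_1 : allRange (fun i => Nat.beq (act78 i) i) 1578 1578 = true := by decide +kernel
theorem c78_2 : allRange (fun i => Nat.beq (act78 i) i) 3156 1578 = true := by decide +kernel
theorem c78_3 : allRange (fun i => Nat.beq (act78 i) i) 4734 1578 = true := by decide +kernel
theorem c78_4 : allRange (fun i => Nat.beq (act78 i) i) 6312 1578 = true := by decide +kernel
theorem c78_5 : allRange (fun i => Nat.beq (act78 i) i) 7890 1578 = true := by decide +kernel
theorem c78_6 : allRange (fun i => Nat.beq (act78 i) i) 9468 1578 = true := by decide +kernel
theorem c78_7 : allRange (fun i => Nat.beq (act78 i) i) 11046 1578 = true := by decide +kernel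
theorem c78_8 : allRange (fun i => Nat.beq (act78 i) i) 12624 1578 = true := by decide +kernel
theorem c78_9 : allRange (fun i => Nat.beq (act78 i) i) 14202 1578 = true := by decide +kernel
theorem c78_10 : allRange (fun i => Nat.beq (act78 i) i) 15780 1578 = true := by decide +kernel
theorem c78_11 : allRange (fun i => Nat.beq (act78 i) i) 17358 1578 = true := by decide +kernel
theorem c78_12 : allRange (fun i => Nat.beq (act78 i) i) 18936 1578 = true := by decide +kernel
theorem c78_13 : allRange (fun i => Nat.beq (act78 i) i) 20514 1578 = true := by decide +kernel
theorem c78_14 : allRange (fun i => Nat.beq (act78 i) i) 22092 1578 = true := by decide +kernel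
theorem c78_15 : allRange (fun i => Nat.beq (act78 i) i) 23670 1578 = true := by decide +kernel
theorem c78_16 : allRange (fun i => Nat.beq (act78 i) i) 25248 1578 = true := by decide +kernel
theorem c78_17 : allRange (fun i => Nat.beq (act78 i) i) 26826 1578 = true := by decide +kernel
theorem c78_18 : allRange (fun i => Nat.beq (act78 i) i) 28404 1578 = true := by decide +kernel
theorem c78_19 : allRange (fun i => Nat.beq (act78 i) i) 29982 1578 = true := by decide +kernel
theorem c78_20 : allRange (fun i => Nat.beq (act78 i) i) 31560 1578 = true := by decide +kernel
theorem c78_21 : allRange (fun i => Nat.beq (act78 i) i) 33138 1578 = true := by decide +kernel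
theorem c78_22 : allRange (fun i => Nat.beq (act78 i) i) 34716 1578 = true := by decide +kernel
theorem c78_23 : allRange (fun i => Nat.beq (act78 i) i) 36294 1578 = true := by decide +kernel
theorem c78_24 : allRange (fun i => Nat.beq (act78 i) i) 37872 1578 = true := by decide +kernel
theorem c78_25 : allRange (fun i => Nat.beq (act78 i) i) 39450 1578 = true := by decide +kernel
theorem c78_26 : allRange (fun i => Nat.beq (act78 i) i) 41028 1578 = true := by decide +kernel
theorem c78_27 : allRange (fun i => Nat.beq (act78 i) i) 42606 1578 = true := by decide +kernel
theorem c78_28 : allRange (fun i => Nat.beq (act78 i) i) 44184 1578 = true := by decide +kernel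
theorem c78_29 : allRange (fun i => Nat.beq (act78 i) i) 45762 1578 = true := by decide +kernel
theorem c78_30 : allRange (fun i => Nat.beq (act78 i) i) 47340 1578 = true := by decide +kernel
theorem c78_31 : allRange (fun i => Nat.beq (act78 i) i) 48918 1578 = true := by decide +kernel
theorem c78_32 : allRange (fun i => Nat.beq (act78 i) i) 50496 1578 = true := by decide +kernel
theorem c78_33 : allRange (fun i => Nat.beq (act78 i) i) 52074 1578 = true := by decide +kernel
theorem c78_34 : allRange (fun i => Nat.beq (act78 i) i) 53652 1578 = true := by decide +kernel
theorem c78_35 : allRange (fun i => Nat.beq (act78 i) i) 55230 1578 = true := by decide +kernel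
theorem c78_36 : allRange (fun i => Nat.beq (act78 i) i) 56808 1578 = true := by decide +kernel
theorem c78_37 : allRange (fun i => Nat.beq (act78 i) i) 58386 1578 = true := by decide +kernel
theorem c78_38 : allRange (fun i => Nat.beq (act78 i) i) 59964 1578 = true := by decide +kernel
theorem c78_39 : allRange (fun i => Nat.beq (act78 i) i) 61542 1578 = true := by decide +kernel
theorem c78_40 : allRange (fun i => Nat.beq (act78 i) i) 63120 1578 = true := by decide +kernel
theorem c78_41 : allRange (fun i => Nat.beq (act78 i) i) 64698 1578 = true := by decide +kernel
theorem c78_42 : allRange (fun i => Nat.beq (act78 i) i) 66276 549 = true := by decide +kernel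
theorem h78 : ∀ i, i < T.N → Tab.relActOK T D chk78 i = true := by
  intro i hi
  rw [Tab.relActOK, ← act78_eq]
  exact (range_glue (range_of_allRange c78_0) (range_glue (range_of_allRange c78_1) (range_glue (range_of_allRange c78_2) (range_glue (range_of_allRange c78_3) (range_glue (range_of_allRange c78_4) (range_glue (range_of_allRange c78_5) (range_glue (range_of_allRange c78_6) (range_glue (range_of_allRange c78_7) (range_glue (range_of_allRange c78_8) (range_glue (range_of_allRange c78_9) (range_glue (range_of_allRange c78_10) (range_glue (range_of_allRange c78_11) (range_glue (range_of_allRange c78_12) (range_glue (range_of_allRange c78_13) (range_glue (range_of_allRange c78_14) (range_glue (range_of_allRange c78_15) (range_glue (range_of_allRange c78_16) (range_glue (range_of_allRange c78_17) (range_glue (range_of_allRange c78_18) (range_glue (range_of_allRange c78_19) (range_glue (range_of_allRange c78_20) (range_glue (range_of_allRange c78_21) (range_glue (range_of_allRange c78_22) (range_glue (range_of_allRange c78_23) (range_glue (range_of_allRange c78_24) (range_glue (range_of_allRange c78_25) (range_glue (range_of_allRange c78_26)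 (range_glue (range_of_allRange c78_27) (range_glue (range_of_allRange c78_28) (range_glue (range_of_allRange c78_29) (range_glue (range_of_allRange c78_30) (range_glue (range_of_allRange c78_31) (range_glue (range_of_allRange c78_32) (range_glue (range_of_allRange c78_33) (range_glue (range_of_allRange c78_34) (range_glue (range_of_allRange c78_35) (range_glue (range_of_allRange c78_36) (range_glue (range_of_allRange c78_37) (range_glue (range_of_allRange c78_38) (range_glue (range_of_allRange c78_39) (range_glue (range_of_allRange c78_40) (range_glue (range_of_allRange c78_41) (range_of_allRange c78_42))))))))))))))))))))))))))))))))))))))))))) i (Nat.zero_le _) hi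

def chk82 : List Nat := [4, 1, 1, 3, 1, 2, 1, 1, 1, 3, 5, 0, 2, 1, 2, 1, 2, 2, 1]
noncomputable def act82 (i : Nat) : Nat := col5 (col0 (col0 (col2 (col0 (col3 (col0 (col0 (col0 (col2 (col4 (col1 (col3 (col0 (col3 (col0 (col3 (col3 (col0 (i)))))))))))))))))))
theorem act82_eq (i : Nat) : act82 i = Tab.act T D chk82 i := rfl
theorem c82_0 : allRange (fun i => Nat.beq (act82 i) i) 0 2857 = true := by decide +kernel
theorem c82_1 : allRange (fun i => Nat.beq (act82 i) i) 2857 2857 = true := by decide +kernel
theorem c82_2 : allRange (fun i => Nat.beq (act82 i) i) 5714 2857 = true := by decide +kernel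
theorem c82_3 : allRange (fun i => Nat.beq (act82 i) i) 8571 2857 = true := by decide +kernel
theorem c82_4 : allRange (fun i => Nat.beq (act82 i) i) 11428 2857 = true := by decide +kernel
theorem c82_5 : allRange (fun i => Nat.beq (act82 i) i) 14285 2857 = true := by decide +kernel
theorem c82_6 : allRange (fun i => Nat.beq (act82 i) i) 17142 2857 = true := by decide +kernel
theorem c82_7 : allRange (fun i => Nat.beq (act82 i) i) 19999 2857 = true := by decide +kernel
theorem c82_8 : allRange (fun i => Nat.beq (act82 i) i) 22856 2857 = true := by decide +kernel
theorem c82_9 : allRange (fun i => Nat.beq (act82 i) i) 25713 2857 = true := by decide +kernel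
theorem c82_10 : allRange (fun i => Nat.beq (act82 i) i) 28570 2857 = true := by decide +kernel
theorem c82_11 : allRange (fun i => Nat.beq (act82 i) i) 31427 2857 = true := by decide +kernel
theorem c82_12 : allRange (fun i => Nat.beq (act82 i) i) 34284 2857 = true := by decide +kernel
theorem c82_13 : allRange (fun i => Nat.beq (act82 i) i) 37141 2857 = true := by decide +kernel
theorem c82_14 : allRange (fun i => Nat.beq (act82 i) i) 39998 2857 = true := by decide +kernel
theorem c82_15 : allRange (fun i => Nat.beq (act82 i) i) 42855 2857 = true := by decide +kernel
theorem c82_16 : allRange (fun i => Nat.beq (act82 i) i) 45712 2857 = true := by decide +kernel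
theorem c82_17 : allRange (fun i => Nat.beq (act82 i) i) 48569 2857 = true := by decide +kernel
theorem c82_18 : allRange (fun i => Nat.beq (act82 i) i) 51426 2857 = true := by decide +kernel
theorem c82_19 : allRange (fun i => Nat.beq (act82 i) i) 54283 2857 = true := by decide +kernel
theorem c82_20 : allRange (fun i => Nat.beq (act82 i) i) 57140 2857 = true := by decide +kernel
theorem c82_21 : allRange (fun i => Nat.beq (act82 i) i) 59997 2857 = true := by decide +kernel
theorem c82_22 : allRange (fun i => Nat.beq (act82 i) i) 62854 2857 = true := by decide +kernel
theorem c82_23 : allRange (fun i => Nat.beq (act82 i) i) 65711 1114 = true := by decide +kernel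
theorem h82 : ∀ i, i < T.N → Tab.relActOK T D chk82 i = true := by
  intro i hi
  rw [Tab.relActOK, ← act82_eq]
  exact (range_glue (range_of_allRange c82_0) (range_glue (range_of_allRange c82_1) (range_glue (range_of_allRange c82_2) (range_glue (range_of_allRange c82_3) (range_glue (range_of_allRange c82_4) (range_glue (range_of_allRange c82_5) (range_glue (range_of_allRange c82_6) (range_glue (range_of_allRange c82_7) (range_glue (range_of_allRange c82_8) (range_glue (range_of_allRange c82_9) (range_glue (range_of_allRange c82_10) (range_glue (range_of_allRange c82_11) (range_glue (range_of_allRange c82_12) (range_glue (range_of_allRange c82_13) (range_glue (range_of_allRange c82_14) (range_glue (range_of_allRange c82_15) (range_glue (range_of_allRange c82_16) (range_glue (range_of_allRange c82_17) (range_glue (range_of_allRange c82_18) (range_glue (range_of_allRange c82_19) (range_glue (range_of_allRange c82_20) (range_glue (range_of_allRange c82_21) (range_glue (range_of_allRange c82_22) (range_of_allRange c82_23)))))))))))))))))))))))) i (Nat.zero_le _) hi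

def chk95 : List Nat := [0, 3, 3, 0, 2, 0, 2, 0, 3, 0, 3, 3, 0, 2, 0, 2, 0, 3, 0, 3, 3, 0, 2, 0, 2, 0, 3, 0, 3, 3, 0, 2, 0, 2, 0, 3]
noncomputable def act95 (i : Nat) : Nat := col1 (col2 (col2 (col1 (col3 (col1 (col3 (col1 (col2 (col1 (col2 (col2 (col1 (col3 (col1 (col3 (col1 (col2 (col1 (col2 (col2 (col1 (col3 (col1 (col3 (col1 (col2 (col1 (col2 (col2 (col1 (col3 (col1 (col3 (col1 (col2 (i))))))))))))))))))))))))))))))))))))
theorem act95_eq (i : Nat) : act95 i = Tab.act T D chk95 i := rfl
theorem c95_0 : allRange (fun i => Nat.beq (act95 i) i) 0 1578 = true := by decide +kernel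
theorem c95_1 : allRange (fun i => Nat.beq (act95 i) i) 1578 1578 = true := by decide +kernel
theorem c95_2 : allRange (fun i => Nat.beq (act95 i) i) 3156 1578 = true := by decide +kernel
theorem c95_3 : allRange (fun i => Nat.beq (act95 i) i) 4734 1578 = true := by decide +kernel
theorem c95_4 : allRange (fun i => Nat.beq (act95 i) i) 6312 1578 = true := by decide +kernel
theorem c95_5 : allRange (fun i => Nat.beq (act95 i) i) 7890 1578 = true := by decide +kernel
theorem c95_6 : allRange (fun i => Nat.beq (act95 i) i) 9468 1578 = true := by decide +kernel
theorem c95_7 : allRange (fun i => Nat.beq (act95 i) i) 11046 1578 = true := by decide +kernel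
theorem c95_8 : allRange (fun i => Nat.beq (act95 i) i) 12624 1578 = true := by decide +kernel
theorem c95_9 : allRange (fun i => Nat.beq (act95 i) i) 14202 1578 = true := by decide +kernel
theorem c95_10 : allRange (fun i => Nat.beq (act95 i) i) 15780 1578 = true := by decide +kernel
theorem c95_11 : allRange (fun i => Nat.beq (act95 i) i) 17358 1578 = true := by decide +kernel
theorem c95_12 : allRange (fun i => Nat.beq (act95 i) i) 18936 1578 = true := by decide +kernel
theorem c95_13 : allRange (fun i => Nat.beq (act95 i) i) 20514 1578 = true := by decide +kernel
theorem c95_14 : allRange (fun i => Nat.beq (act95 i) i) 22092 1578 = true := by decide +kernel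
theorem c95_15 : allRange (fun i => Nat.beq (act95 i) i) 23670 1578 = true := by decide +kernel
theorem c95_16 : allRange (fun i => Nat.beq (act95 i) i) 25248 1578 = true := by decide +kernel
theorem c95_17 : allRange (fun i => Nat.beq (act95 i) i) 26826 1578 = true := by decide +kernel
theorem c95_18 : allRange (fun i => Nat.beq (act95 i) i) 28404 1578 = true := by decide +kernel
theorem c95_19 : allRange (fun i => Nat.beq (act95 i) i) 29982 1578 = true := by decide +kernel
theorem c95_20 : allRange (fun i => Nat.beq (act95 i) i) 31560 1578 = true := by decide +kernel
theorem c95_21 : allRange (fun i => Nat.beq (act95 i) i) 33138 1578 = true := by decide +kernel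
theorem c95_22 : allRange (fun i => Nat.beq (act95 i) i) 34716 1578 = true := by decide +kernel
theorem c95_23 : allRange (fun i => Nat.beq (act95 i) i) 36294 1578 = true := by decide +kernel
theorem c95_24 : allRange (fun i => Nat.beq (act95 i) i) 37872 1578 = true := by decide +kernel
theorem c95_25 : allRange (fun i => Nat.beq (act95 i) i) 39450 1578 = true := by decide +kernel
theorem c95_26 : allRange (fun i => Nat.beq (act95 i) i) 41028 1578 = true := by decide +kernel
theorem c95_27 : allRange (fun i => Nat.beq (act95 i) i) 42606 1578 = true := by decide +kernel
theorem c95_28 : allRange (fun i => Nat.beq (act95 i) i) 44184 1578 = true := by decide +kernel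
theorem c95_29 : allRange (fun i => Nat.beq (act95 i) i) 45762 1578 = true := by decide +kernel
theorem c95_30 : allRange (fun i => Nat.beq (act95 i) i) 47340 1578 = true := by decide +kernel
theorem c95_31 : allRange (fun i => Nat.beq (act95 i) i) 48918 1578 = true := by decide +kernel
theorem c95_32 : allRange (fun i => Nat.beq (act95 i) i) 50496 1578 = true := by decide +kernel
theorem c95_33 : allRange (fun i => Nat.beq (act95 i) i) 52074 1578 = true := by decide +kernel
theorem c95_34 : allRange (fun i => Nat.beq (act95 i) i) 53652 1578 = true := by decide +kernel
theorem c95_35 : allRange (fun i => Nat.beq (act95 i) i) 55230 1578 = true := by decide +kernel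
theorem c95_36 : allRange (fun i => Nat.beq (act95 i) i) 56808 1578 = true := by decide +kernel
theorem c95_37 : allRange (fun i => Nat.beq (act95 i) i) 58386 1578 = true := by decide +kernel
theorem c95_38 : allRange (fun i => Nat.beq (act95 i) i) 59964 1578 = true := by decide +kernel
theorem c95_39 : allRange (fun i => Nat.beq (act95 i) i) 61542 1578 = true := by decide +kernel
theorem c95_40 : allRange (fun i => Nat.beq (act95 i) i) 63120 1578 = true := by decide +kernel
theorem c95_41 : allRange (fun i => Nat.beq (act95 i) i) 64698 1578 = true := by decide +kernel
theorem c95_42 : allRange (fun i => Nat.beq (act95 i) i) 66276 549 = true := by decide +kernel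
theorem h95 : ∀ i, i < T.N → Tab.relActOK T D chk95 i = true := by
  intro i hi
  rw [Tab.relActOK, ← act95_eq]
  exact (range_glue (range_of_allRange c95_0) (range_glue (range_of_allRange c95_1) (range_glue (range_of_allRange c95_2) (range_glue (range_of_allRange c95_3) (range_glue (range_of_allRange c95_4) (range_glue (range_of_allRange c95_5) (range_glue (range_of_allRange c95_6) (range_glue (range_of_allRange c95_7) (range_glue (range_of_allRange c95_8) (range_glue (range_of_allRange c95_9) (range_glue (range_of_allRange c95_10) (range_glue (range_of_allRange c95_11) (range_glue (range_of_allRange c95_12) (range_glue (range_of_allRange c95_13) (range_glue (range_of_allRange c95_14) (range_glue (range_of_allRange c95_15) (range_glue (range_of_allRange c95_16) (range_glue (range_of_allRange c95_17) (range_glue (range_of_allRange c95_18) (range_glue (range_of_allRange c95_19) (range_glue (range_of_allRange c95_20) (range_glue (range_of_allRange c95_21) (range_glue (range_of_allRange c95_22) (range_glue (range_of_allRange c95_23) (range_glue (range_of_allRange c95_24) (range_glue (range_of_allRange c95_25) (range_glue (range_of_allRange c95_26)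 (range_glue (range_of_allRange c95_27) (range_glue (range_of_allRange c95_28) (range_glue (range_of_allRange c95_29) (range_glue (range_of_allRange c95_30) (range_glue (range_of_allRange c95_31) (range_glue (range_of_allRange c95_32) (range_glue (range_of_allRange c95_33) (range_glue (range_of_allRange c95_34) (range_glue (range_of_allRange c95_35) (range_glue (range_of_allRange c95_36) (range_glue (range_of_allRange c95_37) (range_glue (range_of_allRange c95_38) (range_glue (range_of_allRange c95_39) (range_glue (range_of_allRange c95_40) (range_glue (range_of_allRange c95_41) (range_of_allRange c95_42))))))))))))))))))))))))))))))))))))))))))) i (Nat.zero_le _) hi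

def chk100 : List Nat := [4, 3, 0, 2, 0, 3, 0, 0, 2, 2, 5, 1, 3, 1, 1, 1, 2, 1, 1]
noncomputable def act100 (i : Nat) : Nat := col5 (col2 (col1 (col3 (col1 (col2 (col1 (col1 (col3 (col3 (col4 (col0 (col2 (col0 (col0 (col0 (col3 (col0 (col0 (i)))))))))))))))))))
theorem act100_eq (i : Nat) : act100 i = Tab.act T D chk100 i := rfl
theorem c100_0 : allRange (fun i => Nat.beq (act100 i) i) 0 2857 = true := by decide +kernel
theorem c100_1 : allRange (fun i => Nat.beq (act100 i) i) 2857 2857 = true := by decide +kernel
theorem c100_2 : allRange (fun i => Nat.beq (act100 i) i) 5714 2857 = true := by decide +kernel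
theorem c100_3 : allRange (fun i => Nat.beq (act100 i) i) 8571 2857 = true := by decide +kernel
theorem c100_4 : allRange (fun i => Nat.beq (act100 i) i) 11428 2857 = true := by decide +kernel
theorem c100_5 : allRange (fun i => Nat.beq (act100 i) i) 14285 2857 = true := by decide +kernel
theorem c100_6 : allRange (fun i => Nat.beq (act100 i) i) 17142 2857 = true := by decide +kernel
theorem c100_7 : allRange (fun i => Nat.beq (act100 i) i) 19999 2857 = true := by decide +kernel
theorem c100_8 : allRange (fun i => Nat.beq (act100 i) i) 22856 2857 = true := by decide +kernel
theorem c100_9 : allRange (fun i => Nat.beq (act100 i) i) 25713 2857 = true := by decide +kernel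
theorem c100_10 : allRange (fun i => Nat.beq (act100 i) i) 28570 2857 = true := by decide +kernel
theorem c100_11 : allRange (fun i => Nat.beq (act100 i) i) 31427 2857 = true := by decide +kernel
theorem c100_12 : allRange (fun i => Nat.beq (act100 i) i) 34284 2857 = true := by decide +kernel
theorem c100_13 : allRange (fun i => Nat.beq (act100 i) i) 37141 2857 = true := by decide +kernel
theorem c100_14 : allRange (fun i => Nat.beq (act100 i) i) 39998 2857 = true := by decide +kernel
theorem c100_15 : allRange (fun i => Nat.beq (act100 i) i) 42855 2857 = true := by decide +kernel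
theorem c100_16 : allRange (fun i => Nat.beq (act100 i) i) 45712 2857 = true := by decide +kernel
theorem c100_17 : allRange (fun i => Nat.beq (act100 i) i) 48569 2857 = true := by decide +kernel
theorem c100_18 : allRange (fun i => Nat.beq (act100 i) i) 51426 2857 = true := by decide +kernel
theorem c100_19 : allRange (fun i => Nat.beq (act100 i) i) 54283 2857 = true := by decide +kernel
theorem c100_20 : allRange (fun i => Nat.beq (act100 i) i) 57140 2857 = true := by decide +kernel
theorem c100_21 : allRange (fun i => Nat.beq (act100 i) i) 59997 2857 = true := by decide +kernel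
theorem c100_22 : allRange (fun i => Nat.beq (act100 i) i) 62854 2857 = true := by decide +kernel
theorem c100_23 : allRange (fun i => Nat.beq (act100 i) i) 65711 1114 = true := by decide +kernel
theorem h100 : ∀ i, i < T.N → Tab.relActOK T D chk100 i = true := by
  intro i hi
  rw [Tab.relActOK, ← act100_eq]
  exact (range_glue (range_of_allRange c100_0) (range_glue (range_of_allRange c100_1) (range_glue (range_of_allRange c100_2) (range_glue (range_of_allRange c100_3) (range_glue (range_of_allRange c100_4) (range_glue (range_of_allRange c100_5) (range_glue (range_of_allRange c100_6) (range_glue (range_of_allRange c100_7) (range_glue (range_of_allRange c100_8) (range_glue (range_of_allRange c100_9) (range_glue (range_of_allRange c100_10) (range_glue (range_of_allRange c100_11) (range_glue (range_of_allRange c100_12) (range_glue (range_of_allRange c100_13) (range_glue (range_of_allRange c100_14) (range_glue (range_of_allRange c100_15) (range_glue (range_of_allRange c100_16) (range_glue (range_of_allRange c100_17) (range_glue (range_of_allRange c100_18) (range_glue (range_of_allRange c100_19) (range_glue (range_of_allRange c100_20) (range_glue (range_of_allRange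 c100_21) (range_glue (range_of_allRange c100_22) (range_of_allRange c100_23)))))))))))))))))))))))) i (Nat.zero_le _) hi

def chk102 : List Nat := [0, 0, 3, 0, 0, 0, 2, 0, 0, 0, 3, 0, 0, 0, 2, 0, 0, 0, 3, 0, 0, 0, 2, 0, 0, 0, 3, 0, 0, 0, 2, 0]
noncomputable def act102 (i : Nat) : Nat := col1 (col1 (col2 (col1 (col1 (col1 (col3 (col1 (col1 (col1 (col2 (col1 (col1 (col1 (col3 (col1 (col1 (col1 (col2 (col1 (col1 (col1 (col3 (col1 (col1 (col1 (col2 (col1 (col1 (col1 (col3 (col1 (i))))))))))))))))))))))))))))))))
theorem act102_eq (i : Nat) : act102 i = Tab.act T D chk102 i := rfl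
theorem c102_0 : allRange (fun i => Nat.beq (act102 i) i) 0 1764 = true := by decide +kernel
theorem c102_1 : allRange (fun i => Nat.beq (act102 i) i) 1764 1764 = true := by decide +kernel
theorem c102_2 : allRange (fun i => Nat.beq (act102 i) i) 3528 1764 = true := by decide +kernel
theorem c102_3 : allRange (fun i => Nat.beq (act102 i) i) 5292 1764 = true := by decide +kernel
theorem c102_4 : allRange (fun i => Nat.beq (act102 i) i) 7056 1764 = true := by decide +kernel
theorem c102_5 : allRange (fun i => Nat.beq (act102 i) i) 8820 1764 = true := by decide +kernel
theorem c102_6 : allRange (fun i => Nat.beq (act102 i) i) 10584 1764 = true := by decide +kernel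
theorem c102_7 : allRange (fun i => Nat.beq (act102 i) i) 12348 1764 = true := by decide +kernel
theorem c102_8 : allRange (fun i => Nat.beq (act102 i) i) 14112 1764 = true := by decide +kernel
theorem c102_9 : allRange (fun i => Nat.beq (act102 i) i) 15876 1764 = true := by decide +kernel
theorem c102_10 : allRange (fun i => Nat.beq (act102 i) i) 17640 1764 = true := by decide +kernel
theorem c102_11 : allRange (fun i => Nat.beq (act102 i) i) 19404 1764 = true := by decide +kernel
theorem c102_12 : allRange (fun i => Nat.beq (act102 i) i) 21168 1764 = true := by decide +kernel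
theorem c102_13 : allRange (fun i => Nat.beq (act102 i) i) 22932 1764 = true := by decide +kernel
theorem c102_14 : allRange (fun i => Nat.beq (act102 i) i) 24696 1764 = true := by decide +kernel
theorem c102_15 : allRange (fun i => Nat.beq (act102 i) i) 26460 1764 = true := by decide +kernel
theorem c102_16 : allRange (fun i => Nat.beq (act102 i) i) 28224 1764 = true := by decide +kernel
theorem c102_17 : allRange (fun i => Nat.beq (act102 i) i) 29988 1764 = true := by decide +kernel
theorem c102_18 : allRange (fun i => Nat.beq (act102 i) i) 31752 1764 = true := by decide +kernel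
theorem c102_19 : allRange (fun i => Nat.beq (act102 i) i) 33516 1764 = true := by decide +kernel
theorem c102_20 : allRange (fun i => Nat.beq (act102 i) i) 35280 1764 = true := by decide +kernel
theorem c102_21 : allRange (fun i => Nat.beq (act102 i) i) 37044 1764 = true := by decide +kernel
theorem c102_22 : allRange (fun i => Nat.beq (act102 i) i) 38808 1764 = true := by decide +kernel
theorem c102_23 : allRange (fun i => Nat.beq (act102 i) i) 40572 1764 = true := by decide +kernel
theorem c102_24 : allRange (fun i => Nat.beq (act102 i) i) 42336 1764 = true := by decide +kernel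
theorem c102_25 : allRange (fun i => Nat.beq (act102 i) i) 44100 1764 = true := by decide +kernel
theorem c102_26 : allRange (fun i => Nat.beq (act102 i) i) 45864 1764 = true := by decide +kernel
theorem c102_27 : allRange (fun i => Nat.beq (act102 i) i) 47628 1764 = true := by decide +kernel
theorem c102_28 : allRange (fun i => Nat.beq (act102 i) i) 49392 1764 = true := by decide +kernel
theorem c102_29 : allRange (fun i => Nat.beq (act102 i) i) 51156 1764 = true := by decide +kernel
theorem c102_30 : allRange (fun i => Nat.beq (act102 i) i) 52920 1764 = true := by decide +kernel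
theorem c102_31 : allRange (fun i => Nat.beq (act102 i) i) 54684 1764 = true := by decide +kernel
theorem c102_32 : allRange (fun i => Nat.beq (act102 i) i) 56448 1764 = true := by decide +kernel
theorem c102_33 : allRange (fun i => Nat.beq (act102 i) i) 58212 1764 = true := by decide +kernel
theorem c102_34 : allRange (fun i => Nat.beq (act102 i) i) 59976 1764 = true := by decide +kernel
theorem c102_35 : allRange (fun i => Nat.beq (act102 i) i) 61740 1764 = true := by decide +kernel
theorem c102_36 : allRange (fun i => Nat.beq (act102 i) i) 63504 1764 = true := by decide +kernel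
theorem c102_37 : allRange (fun i => Nat.beq (act102 i) i) 65268 1557 = true := by decide +kernel
theorem h102 : ∀ i, i < T.N → Tab.relActOK T D chk102 i = true := by
  intro i hi
  rw [Tab.relActOK, ← act102_eq]
  exact (range_glue (range_of_allRange c102_0) (range_glue (range_of_allRange c102_1) (range_glue (range_of_allRange c102_2) (range_glue (range_of_allRange c102_3) (range_glue (range_of_allRange c102_4) (range_glue (range_of_allRange c102_5) (range_glue (range_of_allRange c102_6) (range_glue (range_of_allRange c102_7) (range_glue (range_of_allRange c102_8) (range_glue (range_of_allRange c102_9) (range_glue (range_of_allRange c102_10) (range_glue (range_of_allRange c102_11) (range_glue (range_of_allRange c102_12) (range_glue (range_of_allRange c102_13) (range_glue (range_of_allRange c102_14) (range_glue (range_of_allRange c102_15) (range_glue (range_of_allRange c102_16) (range_glue (range_of_allRange c102_17) (range_glue (range_of_allRange c102_18) (range_glue (range_of_allRange c102_19) (range_glue (range_of_allRange c102_20) (range_glue (range_of_allRange c102_21) (range_glue (range_of_allRange c102_22) (range_glue (range_of_allRange c102_23)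 (range_glue (range_of_allRange c102_24) (range_glue (range_of_allRange c102_25) (range_glue (range_of_allRange c102_26) (range_glue (range_of_allRange c102_27) (range_glue (range_of_allRange c102_28) (range_glue (range_of_allRange c102_29) (range_glue (range_of_allRange c102_30) (range_glue (range_of_allRange c102_31) (range_glue (range_of_allRange c102_32) (range_glue (range_of_allRange c102_33) (range_glue (range_of_allRange c102_34) (range_glue (range_of_allRange c102_35) (range_glue (range_of_allRange c102_36) (range_of_allRange c102_37)))))))))))))))))))))))))))))))))))))) i (Nat.zero_le _) hi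

def chk114 : List Nat := [2, 1, 3, 0, 0, 2, 0, 2, 1, 3, 0, 0, 2, 0, 2, 1, 3, 0, 0, 2, 0, 2, 1, 3, 0, 0, 2, 0]
noncomputable def act114 (i : Nat) : Nat := col3 (col0 (col2 (col1 (col1 (col3 (col1 (col3 (col0 (col2 (col1 (col1 (col3 (col1 (col3 (col0 (col2 (col1 (col1 (col3 (col1 (col3 (col0 (col2 (col1 (col1 (col3 (col1 (i))))))))))))))))))))))))))))
theorem act114_eq (i : Nat) : act114 i = Tab.act T D chk114 i := rfl
theorem c114_0 : allRange (fun i => Nat.beq (act114 i) i) 0 2000 = true := by decide +kernel
theorem c114_1 : allRange (fun i => Nat.beq (act114 i) i) 2000 2000 = true := by decide +kernel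
theorem c114_2 : allRange (fun i => Nat.beq (act114 i) i) 4000 2000 = true := by decide +kernel
theorem c114_3 : allRange (fun i => Nat.beq (act114 i) i) 6000 2000 = true := by decide +kernel
theorem c114_4 : allRange (fun i => Nat.beq (act114 i) i) 8000 2000 = true := by decide +kernel
theorem c114_5 : allRange (fun i => Nat.beq (act114 i) i) 10000 2000 = true := by decide +kernel
theorem c114_6 : allRange (fun i => Nat.beq (act114 i) i) 12000 2000 = true := by decide +kernel
theorem c114_7 : allRange (fun i => Nat.beq (act114 i) i) 14000 2000 = true := by decide +kernel
theorem c114_8 : allRange (fun i => Nat.beq (act114 i) i) 16000 2000 = true := by decide +kernel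
theorem c114_9 : allRange (fun i => Nat.beq (act114 i) i) 18000 2000 = true := by decide +kernel
theorem c114_10 : allRange (fun i => Nat.beq (act114 i) i) 20000 2000 = true := by decide +kernel
theorem c114_11 : allRange (fun i => Nat.beq (act114 i) i) 22000 2000 = true := by decide +kernel
theorem c114_12 : allRange (fun i => Nat.beq (act114 i) i) 24000 2000 = true := by decide +kernel
theorem c114_13 : allRange (fun i => Nat.beq (act114 i) i) 26000 2000 = true := by decide +kernel
theorem c114_14 : allRange (fun i => Nat.beq (act114 i) i) 28000 2000 = true := by decide +kernel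
theorem c114_15 : allRange (fun i => Nat.beq (act114 i) i) 30000 2000 = true := by decide +kernel
theorem c114_16 : allRange (fun i => Nat.beq (act114 i) i) 32000 2000 = true := by decide +kernel
theorem c114_17 : allRange (fun i => Nat.beq (act114 i) i) 34000 2000 = true := by decide +kernel
theorem c114_18 : allRange (fun i => Nat.beq (act114 i) i) 36000 2000 = true := by decide +kernel
theorem c114_19 : allRange (fun i => Nat.beq (act114 i) i) 38000 2000 = true := by decide +kernel
theorem c114_20 : allRange (fun i => Nat.beq (act114 i) i) 40000 2000 = true := by decide +kernel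
theorem c114_21 : allRange (fun i => Nat.beq (act114 i) i) 42000 2000 = true := by decide +kernel
theorem c114_22 : allRange (fun i => Nat.beq (act114 i) i) 44000 2000 = true := by decide +kernel
theorem c114_23 : allRange (fun i => Nat.beq (act114 i) i) 46000 2000 = true := by decide +kernel
theorem c114_24 : allRange (fun i => Nat.beq (act114 i) i) 48000 2000 = true := by decide +kernel
theorem c114_25 : allRange (fun i => Nat.beq (act114 i) i) 50000 2000 = true := by decide +kernel
theorem c114_26 : allRange (fun i => Nat.beq (act114 i) i) 52000 2000 = true := by decide +kernel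
theorem c114_27 : allRange (fun i => Nat.beq (act114 i) i) 54000 2000 = true := by decide +kernel
theorem c114_28 : allRange (fun i => Nat.beq (act114 i) i) 56000 2000 = true := by decide +kernel
theorem c114_29 : allRange (fun i => Nat.beq (act114 i) i) 58000 2000 = true := by decide +kernel
theorem c114_30 : allRange (fun i => Nat.beq (act114 i) i) 60000 2000 = true := by decide +kernel
theorem c114_31 : allRange (fun i => Nat.beq (act114 i) i) 62000 2000 = true := by decide +kernel
theorem c114_32 : allRange (fun i => Nat.beq (act114 i) i) 64000 2000 = true := by decide +kernel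
theorem c114_33 : allRange (fun i => Nat.beq (act114 i) i) 66000 825 = true := by decide +kernel
theorem h114 : ∀ i, i < T.N → Tab.relActOK T D chk114 i = true := by
  intro i hi
  rw [Tab.relActOK, ← act114_eq]
  exact (range_glue (range_of_allRange c114_0) (range_glue (range_of_allRange c114_1) (range_glue (range_of_allRange c114_2) (range_glue (range_of_allRange c114_3) (range_glue (range_of_allRange c114_4) (range_glue (range_of_allRange c114_5) (range_glue (range_of_allRange c114_6) (range_glue (range_of_allRange c114_7) (range_glue (range_of_allRange c114_8) (range_glue (range_of_allRange c114_9) (range_glue (range_of_allRange c114_10) (range_glue (range_of_allRange c114_11) (range_glue (range_of_allRange c114_12) (range_glue (range_of_allRange c114_13) (range_glue (range_of_allRange c114_14) (range_glue (range_of_allRange c114_15) (range_glue (range_of_allRange c114_16) (range_glue (range_of_allRange c114_17) (range_glue (range_of_allRange c114_18) (range_glue (range_of_allRange c114_19) (range_glue (range_of_allRange c114_20) (range_glue (range_of_allRange c114_21) (range_glue (range_of_allRange c114_22) (range_glue (range_of_allRange c114_23)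 (range_glue (range_of_allRange c114_24) (range_glue (range_of_allRange c114_25) (range_glue (range_of_allRange c114_26) (range_glue (range_of_allRange c114_27) (range_glue (range_of_allRange c114_28) (range_glue (range_of_allRange c114_29) (range_glue (range_of_allRange c114_30) (range_glue (range_of_allRange c114_31) (range_glue (range_of_allRange c114_32) (range_of_allRange c114_33)))))))))))))))))))))))))))))))))) i (Nat.zero_le _) hi

end Cfsg.Agent.Lib.Helper4.TCD.SC3McLp3W
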