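import Cfsg.Agent.Lib.Helper4.TCD_C3McLR_Acc
import Cfsg.Agent.Lib.Helper4.TC13

namespace Cfsg.Agent.Lib.Helper4.TCD.SC3McLp3W

open Cfsg.Agent.Lib.Helper4.TC Cfsg.Agent.Lib.Helper4.TCD.C3McLR

set_option maxRecDepth 100000
set_option Elab.async false

def chk7 : List Nat := [0, 0, 2, 1, 3, 0, 2, 0, 5, 2, 2, 0, 2, 0, 5, 3, 6]
noncomputable def act7 (i : Nat) : Nat := col1 (col1 (col3 (col0 (col2 (col1 (col3 (col1 (col4 (col3 (col3 (col1 (col3 (col1 (col4 (col2 (col7 (i)))))))))))))))))
theorem act7_eq (i : Nat) : act7 i = Tab.act T D chk7 i := rfl
theorem c7_0 : allRange (fun i => Nat.beq (act7 i) i) 0 3157 = true := by decide +kernel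
theorem c7_1 : allRange (fun i => Nat.beq (act7 i) i) 3157 3157 = true := by decide +kernel
theorem c7_2 : allRange (fun i => Nat.beq (act7 i) i) 6314 3157 = true := by decide +kernel
theorem c7_3 : allRange (fun i => Nat.beq (act7 i) i) 9471 3157 = true := by decide +kernel
theorem c7_4 : allRange (fun i => Nat.beq (act7 i) i) 12628 3157 = true := by decide +kernel
theorem c7_5 : allRange (fun i => Nat.beq (act7 i) i) 15785 3157 = true := by decide +kernel
theorem c7_6 : allRange (fun i => Nat.beq (act7 i) i) 18942 3157 = true := by decide +kernel
theorem c7_7 : allRange (fun i => Nat.beq (act7 i) i) 22099 3157 = true := by decide +kernel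
theorem c7_8 : allRange (fun i => Nat.beq (act7 i) i) 25256 3157 = true := by decide +kernel
theorem c7_9 : allRange (fun i => Nat.beq (act7 i) i) 28413 3157 = true := by decide +kernel
theorem c7_10 : allRange (fun i => Nat.beq (act7 i) i) 31570 3157 = true := by decide +kernel
theorem c7_11 : allRange (fun i => Nat.beq (act7 i) i) 34727 3157 = true := by decide +kernel
theorem c7_12 : allRange (fun i => Nat.beq (act7 i) i) 37884 3157 = true := by decide +kernel
theorem c7_13 : allRange (fun i => Nat.beq (act7 i) i) 41041 3157 = true := by decide +kernel
theorem c7_14 : allRange (fun i => Nat.beq (act7 i) i) 44198 3157 = true := by decide +kernel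
theorem c7_15 : allRange (fun i => Nat.beq (act7 i) i) 47355 3157 = true := by decide +kernel
theorem c7_16 : allRange (fun i => Nat.beq (act7 i) i) 50512 3157 = true := by decide +kernel
theorem c7_17 : allRange (fun i => Nat.beq (act7 i) i) 53669 3157 = true := by decide +kernel
theorem c7_18 : allRange (fun i => Nat.beq (act7 i) i) 56826 3157 = true := by decide +kernel
theorem c7_19 : allRange (fun i => Nat.beq (act7 i) i) 59983 3157 = true := by decide +kernel
theorem c7_20 : allRange (fun i => Nat.beq (act7 i) i) 63140 3157 = true := by decide +kernel
theorem c7_21 : allRange (fun i => Nat.beq (act7 i) i) 66297 528 = true := by decide +kernel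
theorem h7 : ∀ i, i < T.N → Tab.relActOK T D chk7 i = true := by
  intro i hi
  rw [Tab.relActOK, ← act7_eq]
  exact (range_glue (range_of_allRange c7_0) (range_glue (range_of_allRange c7_1) (range_glue (range_of_allRange c7_2) (range_glue (range_of_allRange c7_3) (range_glue (range_of_allRange c7_4) (range_glue (range_of_allRange c7_5) (range_glue (range_of_allRange c7_6) (range_glue (range_of_allRange c7_7) (range_glue (range_of_allRange c7_8) (range_glue (range_of_allRange c7_9) (range_glue (range_of_allRange c7_10) (range_glue (range_of_allRange c7_11) (range_glue (range_of_allRange c7_12) (range_glue (range_of_allRange c7_13) (range_glue (range_of_allRange c7_14) (range_glue (range_of_allRange c7_15) (range_glue (range_of_allRange c7_16) (range_glue (range_of_allRange c7_17) (range_glue (range_of_allRange c7_18) (range_glue (range_of_allRange c7_19) (range_glue (range_of_allRange c7_20) (range_of_allRange c7_21)))))))))))))))))))))) i (Nat.zero_le _) hi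

def chk14 : List Nat := [7, 5, 6, 4]
noncomputable def act14 (i : Nat) : Nat := col6 (col4 (col7 (col5 (i))))
theorem act14_eq (i : Nat) : act14 i = Tab.act T D chk14 i := rfl
theorem c14_0 : allRange (fun i => Nat.beq (act14 i) i) 0 10000 = true := by decide +kernel
theorem c14_1 : allRange (fun i => Nat.beq (act14 i) i) 10000 10000 = true := by decide +kernel
theorem c14_2 : allRange (fun i => Nat.beq (act14 i) i) 20000 10000 = true := by decide +kernel
theorem c14_3 : allRange (fun i => Nat.beq (act14 i) i) 30000 10000 = true := by decide +kernel
theorem c14_4 : allRange (fun i => Nat.beq (act14 i) i) 40000 10000 = true := by decide +kernel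
theorem c14_5 : allRange (fun i => Nat.beq (act14 i) i) 50000 10000 = true := by decide +kernel
theorem c14_6 : allRange (fun i => Nat.beq (act14 i) i) 60000 6825 = true := by decide +kernel
theorem h14 : ∀ i, i < T.N → Tab.relActOK T D chk14 i = true := by
  intro i hi
  rw [Tab.relActOK, ← act14_eq]
  exact (range_glue (range_of_allRange c14_0) (range_glue (range_of_allRange c14_1) (range_glue (range_of_allRange c14_2) (range_glue (range_of_allRange c14_3) (range_glue (range_of_allRange c14_4) (range_glue (range_of_allRange c14_5) (range_of_allRange c14_6))))))) i (Nat.zero_le _) hi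

def chk15 : List Nat := [0, 0, 0, 0, 0, 0, 0]
noncomputable def act15 (i : Nat) : Nat := col1 (col1 (col1 (col1 (col1 (col1 (col1 (i)))))))
theorem act15_eq (i : Nat) : act15 i = Tab.act T D chk15 i := rfl
theorem c15_0 : allRange (fun i => Nat.beq (act15 i) i) 0 6666 = true := by decide +kernel
theorem c15_1 : allRange (fun i => Nat.beq (act15 i) i) 6666 6666 = true := by decide +kernel
theorem c15_2 : allRange (fun i => Nat.beq (act15 i) i) 13332 6666 = true := by decide +kernel
theorem c15_3 : allRange (fun i => Nat.beq (act15 i) i) 19998 6666 = true := by decide +kernel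
theorem c15_4 : allRange (fun i => Nat.beq (act15 i) i) 26664 6666 = true := by decide +kernel
theorem c15_5 : allRange (fun i => Nat.beq (act15 i) i) 33330 6666 = true := by decide +kernel
theorem c15_6 : allRange (fun i => Nat.beq (act15 i) i) 39996 6666 = true := by decide +kernel
theorem c15_7 : allRange (fun i => Nat.beq (act15 i) i) 46662 6666 = true := by decide +kernel
theorem c15_8 : allRange (fun i => Nat.beq (act15 i) i) 53328 6666 = true := by decide +kernel
theorem c15_9 : allRange (fun i => Nat.beq (act15 i) i) 59994 6666 = true := by decide +kernel
theorem c15_10 : allRange (fun i => Nat.beq (act15 i) i) 66660 165 = true := by decide +kernel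
theorem h15 : ∀ i, i < T.N → Tab.relActOK T D chk15 i = true := by
  intro i hi
  rw [Tab.relActOK, ← act15_eq]
  exact (range_glue (range_of_allRange c15_0) (range_glue (range_of_allRange c15_1) (range_glue (range_of_allRange c15_2) (range_glue (range_of_allRange c15_3) (range_glue (range_of_allRange c15_4) (range_glue (range_of_allRange c15_5) (range_glue (range_of_allRange c15_6) (range_glue (range_of_allRange c15_7) (range_glue (range_of_allRange c15_8) (range_glue (range_of_allRange c15_9) (range_of_allRange c15_10))))))))))) i (Nat.zero_le _) hi

def chk32 : List Nat := [0, 0, 2, 1, 3, 3, 0, 0, 2, 1, 3, 3, 0, 0, 2, 1, 3, 3, 0, 0, 2, 1, 3, 3]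
noncomputable def act32 (i : Nat) : Nat := col1 (col1 (col3 (col0 (col2 (col2 (col1 (col1 (col3 (col0 (col2 (col2 (col1 (col1 (col3 (col0 (col2 (col2 (col1 (col1 (col3 (col0 (col2 (col2 (i))))))))))))))))))))))))
theorem act32_eq (i : Nat) : act32 i = Tab.act T D chk32 i := rfl
theorem c32_0 : allRange (fun i => Nat.beq (act32 i) i) 0 2307 = true := by decide +kernel
theorem c32_1 : allRange (fun i => Nat.beq (act32 i) i) 2307 2307 = true := by decide +kernel
theorem c32_2 : allRange (fun i => Nat.beq (act32 i) i) 4614 2307 = true := by decide +kernel
theorem c32_3 : allRange (fun i => Nat.beq (act32 i) i) 6921 2307 = true := by decide +kernel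
theorem c32_4 : allRange (fun i => Nat.beq (act32 i) i) 9228 2307 = true := by decide +kernel
theorem c32_5 : allRange (fun i => Nat.beq (act32 i) i) 11535 2307 = true := by decide +kernel
theorem c32_6 : allRange (fun i => Nat.beq (act32 i) i) 13842 2307 = true := by decide +kernel
theorem c32_7 : allRange (fun i => Nat.beq (act32 i) i) 16149 2307 = true := by decide +kernel
theorem c32_8 : allRange (fun i => Nat.beq (act32 i) i) 18456 2307 = true := by decide +kernel
theorem c32_9 : allRange (fun i => Nat.beq (act32 i) i) 20763 2307 = true := by decide +kernel
theorem c32_10 : allRange (fun i => Nat.beq (act32 i) i) 23070 2307 = true := by decide +kernel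
theorem c32_11 : allRange (fun i => Nat.beq (act32 i) i) 25377 2307 = true := by decide +kernel
theorem c32_12 : allRange (fun i => Nat.beq (act32 i) i) 27684 2307 = true := by decide +kernel
theorem c32_13 : allRange (fun i => Nat.beq (act32 i) i) 29991 2307 = true := by decide +kernel
theorem c32_14 : allRange (fun i => Nat.beq (act32 i) i) 32298 2307 = true := by decide +kernel
theorem c32_15 : allRange (fun i => Nat.beq (act32 i) i) 34605 2307 = true := by decide +kernel
theorem c32_16 : allRange (fun i => Nat.beq (act32 i) i) 36912 2307 = true := by decide +kernel
theorem c32_17 : allRange (fun i => Nat.beq (act32 i) i) 39219 2307 = true := by decide +kernel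
theorem c32_18 : allRange (fun i => Nat.beq (act32 i) i) 41526 2307 = true := by decide +kernel
theorem c32_19 : allRange (fun i => Nat.beq (act32 i) i) 43833 2307 = true := by decide +kernel
theorem c32_20 : allRange (fun i => Nat.beq (act32 i) i) 46140 2307 = true := by decide +kernel
theorem c32_21 : allRange (fun i => Nat.beq (act32 i) i) 48447 2307 = true := by decide +kernel
theorem c32_22 : allRange (fun i => Nat.beq (act32 i) i) 50754 2307 = true := by decide +kernel
theorem c32_23 : allRange (fun i => Nat.beq (act32 i) i) 53061 2307 = true := by decide +kernel
theorem c32_24 : allRange (fun i => Nat.beq (act32 i) i) 55368 2307 = true := by decide +kernel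
theorem c32_25 : allRange (fun i => Nat.beq (act32 i) i) 57675 2307 = true := by decide +kernel
theorem c32_26 : allRange (fun i => Nat.beq (act32 i) i) 59982 2307 = true := by decide +kernel
theorem c32_27 : allRange (fun i => Nat.beq (act32 i) i) 62289 2307 = true := by decide +kernel
theorem c32_28 : allRange (fun i => Nat.beq (act32 i) i) 64596 2229 = true := by decide +kernel
theorem h32 : ∀ i, i < T.N → Tab.relActOK T D chk32 i = true := by
  intro i hi
  rw [Tab.relActOK, ← act32_eq]
  exact (range_glue (range_of_allRange c32_0) (range_glue (range_of_allRange c32_1) (range_glue (range_of_allRange c32_2) (range_glue (range_of_allRange c32_3) (range_glue (range_of_allRange c32_4) (range_glue (range_of_allRange c32_5) (range_glue (range_of_allRange c32_6) (range_glue (range_of_allRange c32_7) (range_glue (range_of_allRange c32_8) (range_glue (range_of_allRange c32_9) (range_glue (range_of_allRange c32_10) (range_glue (range_of_allRange c32_11) (range_glue (range_of_allRange c32_12) (range_glue (range_of_allRange c32_13) (range_glue (range_of_allRange c32_14) (range_glue (range_of_allRange c32_15) (range_glue (range_of_allRange c32_16) (range_glue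 (range_of_allRange c32_17) (range_glue (range_of_allRange c32_18) (range_glue (range_of_allRange c32_19) (range_glue (range_of_allRange c32_20) (range_glue (range_of_allRange c32_21) (range_glue (range_of_allRange c32_22) (range_glue (range_of_allRange c32_23) (range_glue (range_of_allRange c32_24) (range_glue (range_of_allRange c32_25) (range_glue (range_of_allRange c32_26) (range_glue (range_of_allRange c32_27) (range_of_allRange c32_28))))))))))))))))))))))))))))) i (Nat.zero_le _) hi

def chk40 : List Nat := [5, 1, 3, 1, 1, 1, 2, 1, 1, 4, 0, 2, 0, 2, 1, 1, 3, 3]
noncomputable def act40 (i : Nat) : Nat := col4 (col0 (col2 (col0 (col0 (col0 (col3 (col0 (col0 (col5 (col1 (col3 (col1 (col3 (col0 (col0 (col2 (col2 (i))))))))))))))))))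
theorem act40_eq (i : Nat) : act40 i = Tab.act T D chk40 i := rfl
theorem c40_0 : allRange (fun i => Nat.beq (act40 i) i) 0 3000 = true := by decide +kernel
theorem c40_1 : allRange (fun i => Nat.beq (act40 i) i) 3000 3000 = true := by decide +kernel
theorem c40_2 : allRange (fun i => Nat.beq (act40 i) i) 6000 3000 = true := by decide +kernel
theorem c40_3 : allRange (fun i => Nat.beq (act40 i) i) 9000 3000 = true := by decide +kernel
theorem c40_4 : allRange (fun i => Nat.beq (act40 i) i) 12000 3000 = true := by decide +kernel
theorem c40_5 : allRange (fun i => Nat.beq (act40 i) i) 15000 3000 = true := by decide +kernel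
theorem c40_6 : allRange (fun i => Nat.beq (act40 i) i) 18000 3000 = true := by decide +kernel
theorem c40_7 : allRange (fun i => Nat.beq (act40 i) i) 21000 3000 = true := by decide +kernel
theorem c40_8 : allRange (fun i => Nat.beq (act40 i) i) 24000 3000 = true := by decide +kernel
theorem c40_9 : allRange (fun i => Nat.beq (act40 i) i) 27000 3000 = true := by decide +kernel
theorem c40_10 : allRange (fun i => Nat.beq (act40 i) i) 30000 3000 = true := by decide +kernel
theorem c40_11 : allRange (fun i => Nat.beq (act40 i) i) 33000 3000 = true := by decide +kernel
theorem c40_12 : allRange (fun i => Nat.beq (act40 i) i) 36000 3000 = true := by decide +kernel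
theorem c40_13 : allRange (fun i => Nat.beq (act40 i) i) 39000 3000 = true := by decide +kernel
theorem c40_14 : allRange (fun i => Nat.beq (act40 i) i) 42000 3000 = true := by decide +kernel
theorem c40_15 : allRange (fun i => Nat.beq (act40 i) i) 45000 3000 = true := by decide +kernel
theorem c40_16 : allRange (fun i => Nat.beq (act40 i) i) 48000 3000 = true := by decide +kernel
theorem c40_17 : allRange (fun i => Nat.beq (act40 i) i) 51000 3000 = true := by decide +kernel
theorem c40_18 : allRange (fun i => Nat.beq (act40 i) i) 54000 3000 = true := by decide +kernel
theorem c40_19 : allRange (fun i => Nat.beq (act40 i) i) 57000 3000 = true := by decide +kernel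
theorem c40_20 : allRange (fun i => Nat.beq (act40 i) i) 60000 3000 = true := by decide +kernel
theorem c40_21 : allRange (fun i => Nat.beq (act40 i) i) 63000 3000 = true := by decide +kernel
theorem c40_22 : allRange (fun i => Nat.beq (act40 i) i) 66000 825 = true := by decide +kernel
theorem h40 : ∀ i, i < T.N → Tab.relActOK T D chk40 i = true := by
  intro i hi
  rw [Tab.relActOK, ← act40_eq]
  exact (range_glue (range_of_allRange c40_0) (range_glue (range_of_allRange c40_1) (range_glue (range_of_allRange c40_2) (range_glue (range_of_allRange c40_3) (range_glue (range_of_allRange c40_4) (range_glue (range_of_allRange c40_5) (range_glue (range_of_allRange c40_6) (range_glue (range_of_allRange c40_7) (range_glue (range_of_allRange c40_8) (range_glue (range_of_allRange c40_9) (range_glue (range_of_allRange c40_10) (range_glue (range_of_allRange c40_11) (range_glue (range_of_allRange c40_12) (range_glue (range_of_allRange c40_13) (range_glue (range_of_allRange c40_14) (range_glue (range_of_allRange c40_15) (range_glue (range_of_allRange c40_16) (range_glue (range_of_allRange c40_17) (range_glue (range_of_allRange c40_18) (range_glue (range_of_allRange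 c40_19) (range_glue (range_of_allRange c40_20) (range_glue (range_of_allRange c40_21) (range_of_allRange c40_22))))))))))))))))))))))) i (Nat.zero_le _) hi

def chk51 : List Nat := [0, 0, 2, 1, 3, 3, 0, 0, 2, 1, 3, 3, 0, 0, 2, 1, 3, 3, 0, 0, 2, 1, 3, 3]
noncomputable def act51 (i : Nat) : Nat := col1 (col1 (col3 (col0 (col2 (col2 (col1 (col1 (col3 (col0 (col2 (col2 (col1 (col1 (col3 (col0 (col2 (col2 (col1 (col1 (col3 (col0 (col2 (col2 (i))))))))))))))))))))))))
theorem act51_eq (i : Nat) : act51 i = Tab.act T D chk51 i := rfl
theorem c51_0 : allRange (fun i => Nat.beq (act51 i) i) 0 2307 = true := by decide +kernel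
theorem c51_1 : allRange (fun i => Nat.beq (act51 i) i) 2307 2307 = true := by decide +kernel
theorem c51_2 : allRange (fun i => Nat.beq (act51 i) i) 4614 2307 = true := by decide +kernel
theorem c51_3 : allRange (fun i => Nat.beq (act51 i) i) 6921 2307 = true := by decide +kernel
theorem c51_4 : allRange (fun i => Nat.beq (act51 i) i) 9228 2307 = true := by decide +kernel
theorem c51_5 : allRange (fun i => Nat.beq (act51 i) i) 11535 2307 = true := by decide +kernel
theorem c51_6 : allRange (fun i => Nat.beq (act51 i) i) 13842 2307 = true := by decide +kernel
theorem c51_7 : allRange (fun i => Nat.beq (act51 i) i) 16149 2307 = true := by decide +kernel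
theorem c51_8 : allRange (fun i => Nat.beq (act51 i) i) 18456 2307 = true := by decide +kernel
theorem c51_9 : allRange (fun i => Nat.beq (act51 i) i) 20763 2307 = true := by decide +kernel
theorem c51_10 : allRange (fun i => Nat.beq (act51 i) i) 23070 2307 = true := by decide +kernel
theorem c51_11 : allRange (fun i => Nat.beq (act51 i) i) 25377 2307 = true := by decide +kernel
theorem c51_12 : allRange (fun i => Nat.beq (act51 i) i) 27684 2307 = true := by decide +kernel
theorem c51_13 : allRange (fun i => Nat.beq (act51 i) i) 29991 2307 = true := by decide +kernel
theorem c51_14 : allRange (fun i => Nat.beq (act51 i) i) 32298 2307 = true := by decide +kernel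
theorem c51_15 : allRange (fun i => Nat.beq (act51 i) i) 34605 2307 = true := by decide +kernel
theorem c51_16 : allRange (fun i => Nat.beq (act51 i) i) 36912 2307 = true := by decide +kernel
theorem c51_17 : allRange (fun i => Nat.beq (act51 i) i) 39219 2307 = true := by decide +kernel
theorem c51_18 : allRange (fun i => Nat.beq (act51 i) i) 41526 2307 = true := by decide +kernel
theorem c51_19 : allRange (fun i => Nat.beq (act51 i) i) 43833 2307 = true := by decide +kernel
theorem c51_20 : allRange (fun i => Nat.beq (act51 i) i) 46140 2307 = true := by decide +kernel
theorem c51_21 : allRange (fun i => Nat.beq (act51 i) i) 48447 2307 = true := by decide +kernel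
theorem c51_22 : allRange (fun i => Nat.beq (act51 i) i) 50754 2307 = true := by decide +kernel
theorem c51_23 : allRange (fun i => Nat.beq (act51 i) i) 53061 2307 = true := by decide +kernel
theorem c51_24 : allRange (fun i => Nat.beq (act51 i) i) 55368 2307 = true := by decide +kernel
theorem c51_25 : allRange (fun i => Nat.beq (act51 i) i) 57675 2307 = true := by decide +kernel
theorem c51_26 : allRange (fun i => Nat.beq (act51 i) i) 59982 2307 = true := by decide +kernel
theorem c51_27 : allRange (fun i => Nat.beq (act51 i) i) 62289 2307 = true := by decide +kernel
theorem c51_28 : allRange (fun i => Nat.beq (act51 i) i) 64596 2229 = true := by decide +kernel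
theorem h51 : ∀ i, i < T.N → Tab.relActOK T D chk51 i = true := by
  intro i hi
  rw [Tab.relActOK, ← act51_eq]
  exact (range_glue (range_of_allRange c51_0) (range_glue (range_of_allRange c51_1) (range_glue (range_of_allRange c51_2) (range_glue (range_of_allRange c51_3) (range_glue (range_of_allRange c51_4) (range_glue (range_of_allRange c51_5) (range_glue (range_of_allRange c51_6) (range_glue (range_of_allRange c51_7) (range_glue (range_of_allRange c51_8) (range_glue (range_of_allRange c51_9) (range_glue (range_of_allRange c51_10) (range_glue (range_of_allRange c51_11) (range_glue (range_of_allRange c51_12) (range_glue (range_of_allRange c51_13) (range_glue (range_of_allRange c51_14) (range_glue (range_of_allRange c51_15) (range_glue (range_of_allRange c51_16) (range_glue (range_of_allRange c51_17) (range_glue (range_of_allRange c51_18) (range_glue (range_of_allRange c51_19) (range_glue (range_of_allRange c51_20) (range_glue (range_of_allRange c51_21) (range_glue (range_of_allRange c51_22) (range_glue (range_of_allRange c51_23) (range_glue (range_of_allRange c51_24) (range_glue (range_of_allRange c51_25) (range_glue (range_of_allRange c51_26)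 (range_glue (range_of_allRange c51_27) (range_of_allRange c51_28))))))))))))))))))))))))))))) i (Nat.zero_le _) hi

def chk53 : List Nat := [2, 1, 3, 3, 0, 2, 1, 3, 2, 1, 3, 3, 0, 2, 1, 3, 2, 1, 3, 3, 0, 2, 1, 3, 2, 1, 3, 3, 0, 2, 1, 3]
noncomputable def act53 (i : Nat) : Nat := col3 (col0 (col2 (col2 (col1 (col3 (col0 (col2 (col3 (col0 (col2 (col2 (col1 (col3 (col0 (col2 (col3 (col0 (col2 (col2 (col1 (col3 (col0 (col2 (col3 (col0 (col2 (col2 (col1 (col3 (col0 (col2 (i))))))))))))))))))))))))))))))))
theorem act53_eq (i : Nat) : act53 i = Tab.act T D chk53 i := rfl
theorem c53_0 : allRange (fun i => Nat.beq (act53 i) i) 0 1764 = true := by decide +kernel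
theorem c53_1 : allRange (fun i => Nat.beq (act53 i) i) 1764 1764 = true := by decide +kernel
theorem c53_2 : allRange (fun i => Nat.beq (act53 i) i) 3528 1764 = true := by decide +kernel
theorem c53_3 : allRange (fun i => Nat.beq (act53 i) i) 5292 1764 = true := by decide +kernel
theorem c53_4 : allRange (fun i => Nat.beq (act53 i) i) 7056 1764 = true := by decide +kernel
theorem c53_5 : allRange (fun i => Nat.beq (act53 i) i) 8820 1764 = true := by decide +kernel
theorem c53_6 : allRange (fun i => Nat.beq (act53 i) i) 10584 1764 = true := by decide +kernel
theorem c53_7 : allRange (fun i => Nat.beq (act53 i) i) 12348 1764 = true := by decide +kernel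
theorem c53_8 : allRange (fun i => Nat.beq (act53 i) i) 14112 1764 = true := by decide +kernel
theorem c53_9 : allRange (fun i => Nat.beq (act53 i) i) 15876 1764 = true := by decide +kernel
theorem c53_10 : allRange (fun i => Nat.beq (act53 i) i) 17640 1764 = true := by decide +kernel
theorem c53_11 : allRange (fun i => Nat.beq (act53 i) i) 19404 1764 = true := by decide +kernel
theorem c53_12 : allRange (fun i => Nat.beq (act53 i) i) 21168 1764 = true := by decide +kernel
theorem c53_13 : allRange (fun i => Nat.beq (act53 i) i) 22932 1764 = true := by decide +kernel
theorem c53_14 : allRange (fun i => Nat.beq (act53 i) i) 24696 1764 = true := by decide +kernel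
theorem c53_15 : allRange (fun i => Nat.beq (act53 i) i) 26460 1764 = true := by decide +kernel
theorem c53_16 : allRange (fun i => Nat.beq (act53 i) i) 28224 1764 = true := by decide +kernel
theorem c53_17 : allRange (fun i => Nat.beq (act53 i) i) 29988 1764 = true := by decide +kernel
theorem c53_18 : allRange (fun i => Nat.beq (act53 i) i) 31752 1764 = true := by decide +kernel
theorem c53_19 : allRange (fun i => Nat.beq (act53 i) i) 33516 1764 = true := by decide +kernel
theorem c53_20 : allRange (fun i => Nat.beq (act53 i) i) 35280 1764 = true := by decide +kernel
theorem c53_21 : allRange (fun i => Nat.beq (act53 i) i) 37044 1764 = true := by decide +kernel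
theorem c53_22 : allRange (fun i => Nat.beq (act53 i) i) 38808 1764 = true := by decide +kernel
theorem c53_23 : allRange (fun i => Nat.beq (act53 i) i) 40572 1764 = true := by decide +kernel
theorem c53_24 : allRange (fun i => Nat.beq (act53 i) i) 42336 1764 = true := by decide +kernel
theorem c53_25 : allRange (fun i => Nat.beq (act53 i) i) 44100 1764 = true := by decide +kernel
theorem c53_26 : allRange (fun i => Nat.beq (act53 i) i) 45864 1764 = true := by decide +kernel
theorem c53_27 : allRange (fun i => Nat.beq (act53 i) i) 47628 1764 = true := by decide +kernel
theorem c53_28 : allRange (fun i => Nat.beq (act53 i) i) 49392 1764 = true := by decide +kernel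
theorem c53_29 : allRange (fun i => Nat.beq (act53 i) i) 51156 1764 = true := by decide +kernel
theorem c53_30 : allRange (fun i => Nat.beq (act53 i) i) 52920 1764 = true := by decide +kernel
theorem c53_31 : allRange (fun i => Nat.beq (act53 i) i) 54684 1764 = true := by decide +kernel
theorem c53_32 : allRange (fun i => Nat.beq (act53 i) i) 56448 1764 = true := by decide +kernel
theorem c53_33 : allRange (fun i => Nat.beq (act53 i) i) 58212 1764 = true := by decide +kernel
theorem c53_34 : allRange (fun i => Nat.beq (act53 i) i) 59976 1764 = true := by decide +kernel
theorem c53_35 : allRange (fun i => Nat.beq (act53 i) i) 61740 1764 = true := by decide +kernel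
theorem c53_36 : allRange (fun i => Nat.beq (act53 i) i) 63504 1764 = true := by decide +kernel
theorem c53_37 : allRange (fun i => Nat.beq (act53 i) i) 65268 1557 = true := by decide +kernel
theorem h53 : ∀ i, i < T.N → Tab.relActOK T D chk53 i = true := by
  intro i hi
  rw [Tab.relActOK, ← act53_eq]
  exact (range_glue (range_of_allRange c53_0) (range_glue (range_of_allRange c53_1) (range_glue (range_of_allRange c53_2) (range_glue (range_of_allRange c53_3) (range_glue (range_of_allRange c53_4) (range_glue (range_of_allRange c53_5) (range_glue (range_of_allRange c53_6) (range_glue (range_of_allRange c53_7) (range_glue (range_of_allRange c53_8) (range_glue (range_of_allRange c53_9) (range_glue (range_of_allRange c53_10) (range_glue (range_of_allRange c53_11) (range_glue (range_of_allRange c53_12) (range_glue (range_of_allRange c53_13) (range_glue (range_of_allRange c53_14) (range_glue (range_of_allRange c53_15) (range_glue (range_of_allRange c53_16) (range_glue (range_of_allRange c53_17) (range_glue (range_of_allRange c53_18) (range_glue (range_of_allRange c53_19) (range_glue (range_of_allRange c53_20) (range_glue (range_of_allRange c53_21) (range_glue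 (range_of_allRange c53_22) (range_glue (range_of_allRange c53_23) (range_glue (range_of_allRange c53_24) (range_glue (range_of_allRange c53_25) (range_glue (range_of_allRange c53_26) (range_glue (range_of_allRange c53_27) (range_glue (range_of_allRange c53_28) (range_glue (range_of_allRange c53_29) (range_glue (range_of_allRange c53_30) (range_glue (range_of_allRange c53_31) (range_glue (range_of_allRange c53_32) (range_glue (range_of_allRange c53_33) (range_glue (range_of_allRange c53_34) (range_glue (range_of_allRange c53_35) (range_glue (range_of_allRange c53_36) (range_of_allRange c53_37)))))))))))))))))))))))))))))))))))))) i (Nat.zero_le _) hi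

def chk81 : List Nat := [2, 1, 3, 1, 3, 1, 2, 2, 1, 2, 1, 3, 1, 3, 1, 2, 2, 1, 2, 1, 3, 1, 3, 1, 2, 2, 1, 2, 1, 3, 1, 3, 1, 2, 2, 1]
noncomputable def act81 (i : Nat) : Nat := col3 (col0 (col2 (col0 (col2 (col0 (col3 (col3 (col0 (col3 (col0 (col2 (col0 (col2 (col0 (col3 (col3 (col0 (col3 (col0 (col2 (col0 (col2 (col0 (col3 (col3 (col0 (col3 (col0 (col2 (col0 (col2 (col0 (col3 (col3 (col0 (i))))))))))))))))))))))))))))))))))))
theorem act81_eq (i : Nat) : act81 i = Tab.act T D chk81 i := rfl
theorem c81_0 : allRange (fun i => Nat.beq (act81 i) i) 0 1578 = true := by decide +kernel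
theorem c81_1 : allRange (fun i => Nat.beq (act81 i) i) 1578 1578 = true := by decide +kernel
theorem c81_2 : allRange (fun i => Nat.beq (act81 i) i) 3156 1578 = true := by decide +kernel
theorem c81_3 : allRange (fun i => Nat.beq (act81 i) i) 4734 1578 = true := by decide +kernel
theorem c81_4 : allRange (fun i => Nat.beq (act81 i) i) 6312 1578 = true := by decide +kernel
theorem c81_5 : allRange (fun i => Nat.beq (act81 i) i) 7890 1578 = true := by decide +kernel
theorem c81_6 : allRange (fun i => Nat.beq (act81 i) i) 9468 1578 = true := by decide +kernel
theorem c81_7 : allRange (fun i => Nat.beq (act81 i) i) 11046 1578 = true := by decide +kernel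
theorem c81_8 : allRange (fun i => Nat.beq (act81 i) i) 12624 1578 = true := by decide +kernel
theorem c81_9 : allRange (fun i => Nat.beq (act81 i) i) 14202 1578 = true := by decide +kernel
theorem c81_10 : allRange (fun i => Nat.beq (act81 i) i) 15780 1578 = true := by decide +kernel
theorem c81_11 : allRange (fun i => Nat.beq (act81 i) i) 17358 1578 = true := by decide +kernel
theorem c81_12 : allRange (fun i => Nat.beq (act81 i) i) 18936 1578 = true := by decide +kernel
theorem c81_13 : allRange (fun i => Nat.beq (act81 i) i) 20514 1578 = true := by decide +kernel
theorem c81_14 : allRange (fun i => Nat.beq (act81 i) i) 22092 1578 = true := by decide +kernel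
theorem c81_15 : allRange (fun i => Nat.beq (act81 i) i) 23670 1578 = true := by decide +kernel
theorem c81_16 : allRange (fun i => Nat.beq (act81 i) i) 25248 1578 = true := by decide +kernel
theorem c81_17 : allRange (fun i => Nat.beq (act81 i) i) 26826 1578 = true := by decide +kernel
theorem c81_18 : allRange (fun i => Nat.beq (act81 i) i) 28404 1578 = true := by decide +kernel
theorem c81_19 : allRange (fun i => Nat.beq (act81 i) i) 29982 1578 = true := by decide +kernel
theorem c81_20 : allRange (fun i => Nat.beq (act81 i) i) 31560 1578 = true := by decide +kernel
theorem c81_21 : allRange (fun i => Nat.beq (act81 i) i) 33138 1578 = true := by decide +kernel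
theorem c81_22 : allRange (fun i => Nat.beq (act81 i) i) 34716 1578 = true := by decide +kernel
theorem c81_23 : allRange (fun i => Nat.beq (act81 i) i) 36294 1578 = true := by decide +kernel
theorem c81_24 : allRange (fun i => Nat.beq (act81 i) i) 37872 1578 = true := by decide +kernel
theorem c81_25 : allRange (fun i => Nat.beq (act81 i) i) 39450 1578 = true := by decide +kernel
theorem c81_26 : allRange (fun i => Nat.beq (act81 i) i) 41028 1578 = true := by decide +kernel
theorem c81_27 : allRange (fun i => Nat.beq (act81 i) i) 42606 1578 = true := by decide +kernel
theorem c81_28 : allRange (fun i => Nat.beq (act81 i) i) 44184 1578 = true := by decide +kernel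
theorem c81_29 : allRange (fun i => Nat.beq (act81 i) i) 45762 1578 = true := by decide +kernel
theorem c81_30 : allRange (fun i => Nat.beq (act81 i) i) 47340 1578 = true := by decide +kernel
theorem c81_31 : allRange (fun i => Nat.beq (act81 i) i) 48918 1578 = true := by decide +kernel
theorem c81_32 : allRange (fun i => Nat.beq (act81 i) i) 50496 1578 = true := by decide +kernel
theorem c81_33 : allRange (fun i => Nat.beq (act81 i) i) 52074 1578 = true := by decide +kernel
theorem c81_34 : allRange (fun i => Nat.beq (act81 i) i) 53652 1578 = true := by decide +kernel
theorem c81_35 : allRange (fun i => Nat.beq (act81 i) i) 55230 1578 = true := by decide +kernel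
theorem c81_36 : allRange (fun i => Nat.beq (act81 i) i) 56808 1578 = true := by decide +kernel
theorem c81_37 : allRange (fun i => Nat.beq (act81 i) i) 58386 1578 = true := by decide +kernel
theorem c81_38 : allRange (fun i => Nat.beq (act81 i) i) 59964 1578 = true := by decide +kernel
theorem c81_39 : allRange (fun i => Nat.beq (act81 i) i) 61542 1578 = true := by decide +kernel
theorem c81_40 : allRange (fun i => Nat.beq (act81 i) i) 63120 1578 = true := by decide +kernel
theorem c81_41 : allRange (fun i => Nat.beq (act81 i) i) 64698 1578 = true := by decide +kernel
theorem c81_42 : allRange (fun i => Nat.beq (act81 i) i) 66276 549 = true := by decide +kernel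
theorem h81 : ∀ i, i < T.N → Tab.relActOK T D chk81 i = true := by
  intro i hi
  rw [Tab.relActOK, ← act81_eq]
  exact (range_glue (range_of_allRange c81_0) (range_glue (range_of_allRange c81_1) (range_glue (range_of_allRange c81_2) (range_glue (range_of_allRange c81_3) (range_glue (range_of_allRange c81_4) (range_glue (range_of_allRange c81_5) (range_glue (range_of_allRange c81_6) (range_glue (range_of_allRange c81_7) (range_glue (range_of_allRange c81_8) (range_glue (range_of_allRange c81_9) (range_glue (range_of_allRange c81_10) (range_glue (range_of_allRange c81_11) (range_glue (range_of_allRange c81_12) (range_glue (range_of_allRange c81_13) (range_glue (range_of_allRange c81_14) (range_glue (range_of_allRange c81_15) (range_glue (range_of_allRange c81_16) (range_glue (range_of_allRange c81_17) (range_glue (range_of_allRange c81_18) (range_glue (range_of_allRange c81_19) (range_glue (range_of_allRange c81_20) (range_glue (range_of_allRange c81_21) (range_glue (range_of_allRange c81_22) (range_glue (range_of_allRange c81_23) (range_glue (range_of_allRange c81_24) (range_glue (range_of_allRange c81_25) (range_glue (range_of_allRange c81_26)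 (range_glue (range_of_allRange c81_27) (range_glue (range_of_allRange c81_28) (range_glue (range_of_allRange c81_29) (range_glue (range_of_allRange c81_30) (range_glue (range_of_allRange c81_31) (range_glue (range_of_allRange c81_32) (range_glue (range_of_allRange c81_33) (range_glue (range_of_allRange c81_34) (range_glue (range_of_allRange c81_35) (range_glue (range_of_allRange c81_36) (range_glue (range_of_allRange c81_37) (range_glue (range_of_allRange c81_38) (range_glue (range_of_allRange c81_39) (range_glue (range_of_allRange c81_40) (range_glue (range_of_allRange c81_41) (range_of_allRange c81_42))))))))))))))))))))))))))))))))))))))))))) i (Nat.zero_le _) hi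

def chk98 : List Nat := [2, 1, 3, 1, 3, 1, 2, 2, 1, 2, 1, 3, 1, 3, 1, 2, 2, 1, 2, 1, 3, 1, 3, 1, 2, 2, 1, 2, 1, 3, 1, 3, 1, 2, 2, 1]
noncomputable def act98 (i : Nat) : Nat := col3 (col0 (col2 (col0 (col2 (col0 (col3 (col3 (col0 (col3 (col0 (col2 (col0 (col2 (col0 (col3 (col3 (col0 (col3 (col0 (col2 (col0 (col2 (col0 (col3 (col3 (col0 (col3 (col0 (col2 (col0 (col2 (col0 (col3 (col3 (col0 (i))))))))))))))))))))))))))))))))))))
theorem act98_eq (i : Nat) : act98 i = Tab.act T D chk98 i := rfl
theorem c98_0 : allRange (fun i => Nat.beq (act98 i) i) 0 1578 = true := by decide +kernel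
theorem c98_1 : allRange (fun i => Nat.beq (act98 i) i) 1578 1578 = true := by decide +kernel
theorem c98_2 : allRange (fun i => Nat.beq (act98 i) i) 3156 1578 = true := by decide +kernel
theorem c98_3 : allRange (fun i => Nat.beq (act98 i) i) 4734 1578 = true := by decide +kernel
theorem c98_4 : allRange (fun i => Nat.beq (act98 i) i) 6312 1578 = true := by decide +kernel
theorem c98_5 : allRange (fun i => Nat.beq (act98 i) i) 7890 1578 = true := by decide +kernel
theorem c98_6 : allRange (fun i => Nat.beq (act98 i) i) 9468 1578 = true := by decide +kernel
theorem c98_7 : allRange (fun i => Nat.beq (act98 i) i) 11046 1578 = true := by decide +kernel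
theorem c98_8 : allRange (fun i => Nat.beq (act98 i) i) 12624 1578 = true := by decide +kernel
theorem c98_9 : allRange (fun i => Nat.beq (act98 i) i) 14202 1578 = true := by decide +kernel
theorem c98_10 : allRange (fun i => Nat.beq (act98 i) i) 15780 1578 = true := by decide +kernel
theorem c98_11 : allRange (fun i => Nat.beq (act98 i) i) 17358 1578 = true := by decide +kernel
theorem c98_12 : allRange (fun i => Nat.beq (act98 i) i) 18936 1578 = true := by decide +kernel
theorem c98_13 : allRange (fun i => Nat.beq (act98 i) i) 20514 1578 = true := by decide +kernel
theorem c98_14 : allRange (fun i => Nat.beq (act98 i) i) 22092 1578 = true := by decide +kernel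
theorem c98_15 : allRange (fun i => Nat.beq (act98 i) i) 23670 1578 = true := by decide +kernel
theorem c98_16 : allRange (fun i => Nat.beq (act98 i) i) 25248 1578 = true := by decide +kernel
theorem c98_17 : allRange (fun i => Nat.beq (act98 i) i) 26826 1578 = true := by decide +kernel
theorem c98_18 : allRange (fun i => Nat.beq (act98 i) i) 28404 1578 = true := by decide +kernel
theorem c98_19 : allRange (fun i => Nat.beq (act98 i) i) 29982 1578 = true := by decide +kernel
theorem c98_20 : allRange (fun i => Nat.beq (act98 i) i) 31560 1578 = true := by decide +kernel
theorem c98_21 : allRange (fun i => Nat.beq (act98 i) i) 33138 1578 = true := by decide +kernel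
theorem c98_22 : allRange (fun i => Nat.beq (act98 i) i) 34716 1578 = true := by decide +kernel
theorem c98_23 : allRange (fun i => Nat.beq (act98 i) i) 36294 1578 = true := by decide +kernel
theorem c98_24 : allRange (fun i => Nat.beq (act98 i) i) 37872 1578 = true := by decide +kernel
theorem c98_25 : allRange (fun i => Nat.beq (act98 i) i) 39450 1578 = true := by decide +kernel
theorem c98_26 : allRange (fun i => Nat.beq (act98 i) i) 41028 1578 = true := by decide +kernel
theorem c98_27 : allRange (fun i => Nat.beq (act98 i) i) 42606 1578 = true := by decide +kernel
theorem c98_28 : allRange (fun i => Nat.beq (act98 i) i) 44184 1578 = true := by decide +kernel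
theorem c98_29 : allRange (fun i => Nat.beq (act98 i) i) 45762 1578 = true := by decide +kernel
theorem c98_30 : allRange (fun i => Nat.beq (act98 i) i) 47340 1578 = true := by decide +kernel
theorem c98_31 : allRange (fun i => Nat.beq (act98 i) i) 48918 1578 = true := by decide +kernel
theorem c98_32 : allRange (fun i => Nat.beq (act98 i) i) 50496 1578 = true := by decide +kernel
theorem c98_33 : allRange (fun i => Nat.beq (act98 i) i) 52074 1578 = true := by decide +kernel
theorem c98_34 : allRange (fun i => Nat.beq (act98 i) i) 53652 1578 = true := by decide +kernel
theorem c98_35 : allRange (fun i => Nat.beq (act98 i) i) 55230 1578 = true := by decide +kernel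
theorem c98_36 : allRange (fun i => Nat.beq (act98 i) i) 56808 1578 = true := by decide +kernel
theorem c98_37 : allRange (fun i => Nat.beq (act98 i) i) 58386 1578 = true := by decide +kernel
theorem c98_38 : allRange (fun i => Nat.beq (act98 i) i) 59964 1578 = true := by decide +kernel
theorem c98_39 : allRange (fun i => Nat.beq (act98 i) i) 61542 1578 = true := by decide +kernel
theorem c98_40 : allRange (fun i => Nat.beq (act98 i) i) 63120 1578 = true := by decide +kernel
theorem c98_41 : allRange (fun i => Nat.beq (act98 i) i) 64698 1578 = true := by decide +kernel
theorem c98_42 : allRange (fun i => Nat.beq (act98 i) i) 66276 549 = true := by decide +kernel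
theorem h98 : ∀ i, i < T.N → Tab.relActOK T D chk98 i = true := by
  intro i hi
  rw [Tab.relActOK, ← act98_eq]
  exact (range_glue (range_of_allRange c98_0) (range_glue (range_of_allRange c98_1) (range_glue (range_of_allRange c98_2) (range_glue (range_of_allRange c98_3) (range_glue (range_of_allRange c98_4) (range_glue (range_of_allRange c98_5) (range_glue (range_of_allRange c98_6) (range_glue (range_of_allRange c98_7) (range_glue (range_of_allRange c98_8) (range_glue (range_of_allRange c98_9) (range_glue (range_of_allRange c98_10) (range_glue (range_of_allRange c98_11) (range_glue (range_of_allRange c98_12) (range_glue (range_of_allRange c98_13) (range_glue (range_of_allRange c98_14) (range_glue (range_of_allRange c98_15) (range_glue (range_of_allRange c98_16) (range_glue (range_of_allRange c98_17) (range_glue (range_of_allRange c98_18) (range_glue (range_of_allRange c98_19) (range_glue (range_of_allRange c98_20) (range_glue (range_of_allRange c98_21) (range_glue (range_of_allRange c98_22) (range_glue (range_of_allRange c98_23) (range_glue (range_of_allRange c98_24) (range_glue (range_of_allRange c98_25) (range_glue (range_of_allRange c98_26)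 (range_glue (range_of_allRange c98_27) (range_glue (range_of_allRange c98_28) (range_glue (range_of_allRange c98_29) (range_glue (range_of_allRange c98_30) (range_glue (range_of_allRange c98_31) (range_glue (range_of_allRange c98_32) (range_glue (range_of_allRange c98_33) (range_glue (range_of_allRange c98_34) (range_glue (range_of_allRange c98_35) (range_glue (range_of_allRange c98_36) (range_glue (range_of_allRange c98_37) (range_glue (range_of_allRange c98_38) (range_glue (range_of_allRange c98_39) (range_glue (range_of_allRange c98_40) (range_glue (range_of_allRange c98_41) (range_of_allRange c98_42))))))))))))))))))))))))))))))))))))))))))) i (Nat.zero_le _) hi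

def chk105 : List Nat := [1, 3, 1, 1, 1, 2, 1, 1, 1, 3, 1, 1, 1, 2, 1, 1, 1, 3, 1, 1, 1, 2, 1, 1, 1, 3, 1, 1, 1, 2, 1, 1]
noncomputable def act105 (i : Nat) : Nat := col0 (col2 (col0 (col0 (col0 (col3 (col0 (col0 (col0 (col2 (col0 (col0 (col0 (col3 (col0 (col0 (col0 (col2 (col0 (col0 (col0 (col3 (col0 (col0 (col0 (col2 (col0 (col0 (col0 (col3 (col0 (col0 (i))))))))))))))))))))))))))))))))
theorem act105_eq (i : Nat) : act105 i = Tab.act T D chk105 i := rfl
theorem c105_0 : allRange (fun i => Nat.beq (act105 i) i) 0 1764 = true := by decide +kernel
theorem c105_1 : allRange (fun i => Nat.beq (act105 i) i) 1764 1764 = true := by decide +kernel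
theorem c105_2 : allRange (fun i => Nat.beq (act105 i) i) 3528 1764 = true := by decide +kernel
theorem c105_3 : allRange (fun i => Nat.beq (act105 i) i) 5292 1764 = true := by decide +kernel
theorem c105_4 : allRange (fun i => Nat.beq (act105 i) i) 7056 1764 = true := by decide +kernel
theorem c105_5 : allRange (fun i => Nat.beq (act105 i) i) 8820 1764 = true := by decide +kernel
theorem c105_6 : allRange (fun i => Nat.beq (act105 i) i) 10584 1764 = true := by decide +kernel
theorem c105_7 : allRange (fun i => Nat.beq (act105 i) i) 12348 1764 = true := by decide +kernel
theorem c105_8 : allRange (fun i => Nat.beq (act105 i) i) 14112 1764 = true := by decide +kernel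
theorem c105_9 : allRange (fun i => Nat.beq (act105 i) i) 15876 1764 = true := by decide +kernel
theorem c105_10 : allRange (fun i => Nat.beq (act105 i) i) 17640 1764 = true := by decide +kernel
theorem c105_11 : allRange (fun i => Nat.beq (act105 i) i) 19404 1764 = true := by decide +kernel
theorem c105_12 : allRange (fun i => Nat.beq (act105 i) i) 21168 1764 = true := by decide +kernel
theorem c105_13 : allRange (fun i => Nat.beq (act105 i) i) 22932 1764 = true := by decide +kernel
theorem c105_14 : allRange (fun i => Nat.beq (act105 i) i) 24696 1764 = true := by decide +kernel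
theorem c105_15 : allRange (fun i => Nat.beq (act105 i) i) 26460 1764 = true := by decide +kernel
theorem c105_16 : allRange (fun i => Nat.beq (act105 i) i) 28224 1764 = true := by decide +kernel
theorem c105_17 : allRange (fun i => Nat.beq (act105 i) i) 29988 1764 = true := by decide +kernel
theorem c105_18 : allRange (fun i => Nat.beq (act105 i) i) 31752 1764 = true := by decide +kernel
theorem c105_19 : allRange (fun i => Nat.beq (act105 i) i) 33516 1764 = true := by decide +kernel
theorem c105_20 : allRange (fun i => Nat.beq (act105 i) i) 35280 1764 = true := by decide +kernel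
theorem c105_21 : allRange (fun i => Nat.beq (act105 i) i) 37044 1764 = true := by decide +kernel
theorem c105_22 : allRange (fun i => Nat.beq (act105 i) i) 38808 1764 = true := by decide +kernel
theorem c105_23 : allRange (fun i => Nat.beq (act105 i) i) 40572 1764 = true := by decide +kernel
theorem c105_24 : allRange (fun i => Nat.beq (act105 i) i) 42336 1764 = true := by decide +kernel
theorem c105_25 : allRange (fun i => Nat.beq (act105 i) i) 44100 1764 = true := by decide +kernel
theorem c105_26 : allRange (fun i => Nat.beq (act105 i) i) 45864 1764 = true := by decide +kernel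
theorem c105_27 : allRange (fun i => Nat.beq (act105 i) i) 47628 1764 = true := by decide +kernel
theorem c105_28 : allRange (fun i => Nat.beq (act105 i) i) 49392 1764 = true := by decide +kernel
theorem c105_29 : allRange (fun i => Nat.beq (act105 i) i) 51156 1764 = true := by decide +kernel
theorem c105_30 : allRange (fun i => Nat.beq (act105 i) i) 52920 1764 = true := by decide +kernel
theorem c105_31 : allRange (fun i => Nat.beq (act105 i) i) 54684 1764 = true := by decide +kernel
theorem c105_32 : allRange (fun i => Nat.beq (act105 i) i) 56448 1764 = true := by decide +kernel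
theorem c105_33 : allRange (fun i => Nat.beq (act105 i) i) 58212 1764 = true := by decide +kernel
theorem c105_34 : allRange (fun i => Nat.beq (act105 i) i) 59976 1764 = true := by decide +kernel
theorem c105_35 : allRange (fun i => Nat.beq (act105 i) i) 61740 1764 = true := by decide +kernel
theorem c105_36 : allRange (fun i => Nat.beq (act105 i) i) 63504 1764 = true := by decide +kernel
theorem c105_37 : allRange (fun i => Nat.beq (act105 i) i) 65268 1557 = true := by decide +kernel
theorem h105 : ∀ i, i < T.N → Tab.relActOK T D chk105 i = true := by
  intro i hi
  rw [Tab.relActOK, ← act105_eq]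
  exact (range_glue (range_of_allRange c105_0) (range_glue (range_of_allRange c105_1) (range_glue (range_of_allRange c105_2) (range_glue (range_of_allRange c105_3) (range_glue (range_of_allRange c105_4) (range_glue (range_of_allRange c105_5) (range_glue (range_of_allRange c105_6) (range_glue (range_of_allRange c105_7) (range_glue (range_of_allRange c105_8) (range_glue (range_of_allRange c105_9) (range_glue (range_of_allRange c105_10) (range_glue (range_of_allRange c105_11) (range_glue (range_of_allRange c105_12) (range_glue (range_of_allRange c105_13) (range_glue (range_of_allRange c105_14) (range_glue (range_of_allRange c105_15) (range_glue (range_of_allRange c105_16) (range_glue (range_of_allRange c105_17) (range_glue (range_of_allRange c105_18) (range_glue (range_of_allRange c105_19) (range_glue (range_of_allRange c105_20) (range_glue (range_of_allRange c105_21) (range_glue (range_of_allRange c105_22) (range_glue (range_of_allRange c105_23) (range_glue (range_of_allRange c105_24) (range_glue (range_of_allRange c105_25) (range_glue (range_of_allRange c105_26) (range_glue (range_of_allRange c105_27) (range_glue (range_of_allRange c105_28) (range_glue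 (range_of_allRange c105_29) (range_glue (range_of_allRange c105_30) (range_glue (range_of_allRange c105_31) (range_glue (range_of_allRange c105_32) (range_glue (range_of_allRange c105_33) (range_glue (range_of_allRange c105_34) (range_glue (range_of_allRange c105_35) (range_glue (range_of_allRange c105_36) (range_of_allRange c105_37)))))))))))))))))))))))))))))))))))))) i (Nat.zero_le _) hi

def chk106 : List Nat := [5, 0, 2, 1, 2, 1, 2, 2, 1, 4, 1, 1, 3, 1, 2, 1, 1, 1, 3]
noncomputable def act106 (i : Nat) : Nat := col4 (col1 (col3 (col0 (col3 (col0 (col3 (col3 (col0 (col5 (col0 (col0 (col2 (col0 (col3 (col0 (col0 (col0 (col2 (i)))))))))))))))))))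
theorem act106_eq (i : Nat) : act106 i = Tab.act T D chk106 i := rfl
theorem c106_0 : allRange (fun i => Nat.beq (act106 i) i) 0 2857 = true := by decide +kernel
theorem c106_1 : allRange (fun i => Nat.beq (act106 i) i) 2857 2857 = true := by decide +kernel
theorem c106_2 : allRange (fun i => Nat.beq (act106 i) i) 5714 2857 = true := by decide +kernel
theorem c106_3 : allRange (fun i => Nat.beq (act106 i) i) 8571 2857 = true := by decide +kernel
theorem c106_4 : allRange (fun i => Nat.beq (act106 i) i) 11428 2857 = true := by decide +kernel
theorem c106_5 : allRange (fun i => Nat.beq (act106 i) i) 14285 2857 = true := by decide +kernel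
theorem c106_6 : allRange (fun i => Nat.beq (act106 i) i) 17142 2857 = true := by decide +kernel
theorem c106_7 : allRange (fun i => Nat.beq (act106 i) i) 19999 2857 = true := by decide +kernel
theorem c106_8 : allRange (fun i => Nat.beq (act106 i) i) 22856 2857 = true := by decide +kernel
theorem c106_9 : allRange (fun i => Nat.beq (act106 i) i) 25713 2857 = true := by decide +kernel
theorem c106_10 : allRange (fun i => Nat.beq (act106 i) i) 28570 2857 = true := by decide +kernel
theorem c106_11 : allRange (fun i => Nat.beq (act106 i) i) 31427 2857 = true := by decide +kernel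
theorem c106_12 : allRange (fun i => Nat.beq (act106 i) i) 34284 2857 = true := by decide +kernel
theorem c106_13 : allRange (fun i => Nat.beq (act106 i) i) 37141 2857 = true := by decide +kernel
theorem c106_14 : allRange (fun i => Nat.beq (act106 i) i) 39998 2857 = true := by decide +kernel
theorem c106_15 : allRange (fun i => Nat.beq (act106 i) i) 42855 2857 = true := by decide +kernel
theorem c106_16 : allRange (fun i => Nat.beq (act106 i) i) 45712 2857 = true := by decide +kernel
theorem c106_17 : allRange (fun i => Nat.beq (act106 i) i) 48569 2857 = true := by decide +kernel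
theorem c106_18 : allRange (fun i => Nat.beq (act106 i) i) 51426 2857 = true := by decide +kernel
theorem c106_19 : allRange (fun i => Nat.beq (act106 i) i) 54283 2857 = true := by decide +kernel
theorem c106_20 : allRange (fun i => Nat.beq (act106 i) i) 57140 2857 = true := by decide +kernel
theorem c106_21 : allRange (fun i => Nat.beq (act106 i) i) 59997 2857 = true := by decide +kernel
theorem c106_22 : allRange (fun i => Nat.beq (act106 i) i) 62854 2857 = true := by decide +kernel
theorem c106_23 : allRange (fun i => Nat.beq (act106 i) i) 65711 1114 = true := by decide +kernel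
theorem h106 : ∀ i, i < T.N → Tab.relActOK T D chk106 i = true := by
  intro i hi
  rw [Tab.relActOK, ← act106_eq]
  exact (range_glue (range_of_allRange c106_0) (range_glue (range_of_allRange c106_1) (range_glue (range_of_allRange c106_2) (range_glue (range_of_allRange c106_3) (range_glue (range_of_allRange c106_4) (range_glue (range_of_allRange c106_5) (range_glue (range_of_allRange c106_6) (range_glue (range_of_allRange c106_7) (range_glue (range_of_allRange c106_8) (range_glue (range_of_allRange c106_9) (range_glue (range_of_allRange c106_10) (range_glue (range_of_allRange c106_11) (range_glue (range_of_allRange c106_12) (range_glue (range_of_allRange c106_13) (range_glue (range_of_allRange c106_14) (range_glue (range_of_allRange c106_15) (range_glue (range_of_allRange c106_16) (range_glue (range_of_allRange c106_17) (range_glue (range_of_allRange c106_18) (range_glue (range_of_allRange c106_19) (range_glue (range_of_allRange c106_20) (range_glue (range_of_allRange c106_21) (range_glue (range_of_allRange c106_22) (range_of_allRange c106_23)))))))))))))))))))))))) i (Nat.zero_le _) hi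

def chk107 : List Nat := [2, 1, 2, 1, 2, 2, 2, 1, 2, 1, 2, 2, 2, 1, 2, 1, 2, 2, 2, 1, 2, 1, 2, 2]
noncomputable def act107 (i : Nat) : Nat := col3 (col0 (col3 (col0 (col3 (col3 (col3 (col0 (col3 (col0 (col3 (col3 (col3 (col0 (col3 (col0 (col3 (col3 (col3 (col0 (col3 (col0 (col3 (col3 (i))))))))))))))))))))))))
theorem act107_eq (i : Nat) : act107 i = Tab.act T D chk107 i := rfl
theorem c107_0 : allRange (fun i => Nat.beq (act107 i) i) 0 2307 = true := by decide +kernel
theorem c107_1 : allRange (fun i => Nat.beq (act107 i) i) 2307 2307 = true := by decide +kernel
theorem c107_2 : allRange (fun i => Nat.beq (act107 i) i) 4614 2307 = true := by decide +kernel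
theorem c107_3 : allRange (fun i => Nat.beq (act107 i) i) 6921 2307 = true := by decide +kernel
theorem c107_4 : allRange (fun i => Nat.beq (act107 i) i) 9228 2307 = true := by decide +kernel
theorem c107_5 : allRange (fun i => Nat.beq (act107 i) i) 11535 2307 = true := by decide +kernel
theorem c107_6 : allRange (fun i => Nat.beq (act107 i) i) 13842 2307 = true := by decide +kernel
theorem c107_7 : allRange (fun i => Nat.beq (act107 i) i) 16149 2307 = true := by decide +kernel
theorem c107_8 : allRange (fun i => Nat.beq (act107 i) i) 18456 2307 = true := by decide +kernel
theorem c107_9 : allRange (fun i => Nat.beq (act107 i) i) 20763 2307 = true := by decide +kernel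
theorem c107_10 : allRange (fun i => Nat.beq (act107 i) i) 23070 2307 = true := by decide +kernel
theorem c107_11 : allRange (fun i => Nat.beq (act107 i) i) 25377 2307 = true := by decide +kernel
theorem c107_12 : allRange (fun i => Nat.beq (act107 i) i) 27684 2307 = true := by decide +kernel
theorem c107_13 : allRange (fun i => Nat.beq (act107 i) i) 29991 2307 = true := by decide +kernel
theorem c107_14 : allRange (fun i => Nat.beq (act107 i) i) 32298 2307 = true := by decide +kernel
theorem c107_15 : allRange (fun i => Nat.beq (act107 i) i) 34605 2307 = true := by decide +kernel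
theorem c107_16 : allRange (fun i => Nat.beq (act107 i) i) 36912 2307 = true := by decide +kernel
theorem c107_17 : allRange (fun i => Nat.beq (act107 i) i) 39219 2307 = true := by decide +kernel
theorem c107_18 : allRange (fun i => Nat.beq (act107 i) i) 41526 2307 = true := by decide +kernel
theorem c107_19 : allRange (fun i => Nat.beq (act107 i) i) 43833 2307 = true := by decide +kernel
theorem c107_20 : allRange (fun i => Nat.beq (act107 i) i) 46140 2307 = true := by decide +kernel
theorem c107_21 : allRange (fun i => Nat.beq (act107 i) i) 48447 2307 = true := by decide +kernel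
theorem c107_22 : allRange (fun i => Nat.beq (act107 i) i) 50754 2307 = true := by decide +kernel
theorem c107_23 : allRange (fun i => Nat.beq (act107 i) i) 53061 2307 = true := by decide +kernel
theorem c107_24 : allRange (fun i => Nat.beq (act107 i) i) 55368 2307 = true := by decide +kernel
theorem c107_25 : allRange (fun i => Nat.beq (act107 i) i) 57675 2307 = true := by decide +kernel
theorem c107_26 : allRange (fun i => Nat.beq (act107 i) i) 59982 2307 = true := by decide +kernel
theorem c107_27 : allRange (fun i => Nat.beq (act107 i) i) 62289 2307 = true := by decide +kernel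
theorem c107_28 : allRange (fun i => Nat.beq (act107 i) i) 64596 2229 = true := by decide +kernel
theorem h107 : ∀ i, i < T.N → Tab.relActOK T D chk107 i = true := by
  intro i hi
  rw [Tab.relActOK, ← act107_eq]
  exact (range_glue (range_of_allRange c107_0) (range_glue (range_of_allRange c107_1) (range_glue (range_of_allRange c107_2) (range_glue (range_of_allRange c107_3) (range_glue (range_of_allRange c107_4) (range_glue (range_of_allRange c107_5) (range_glue (range_of_allRange c107_6) (range_glue (range_of_allRange c107_7) (range_glue (range_of_allRange c107_8) (range_glue (range_of_allRange c107_9) (range_glue (range_of_allRange c107_10) (range_glue (range_of_allRange c107_11) (range_glue (range_of_allRange c107_12) (range_glue (range_of_allRange c107_13) (range_glue (range_of_allRange c107_14) (range_glue (range_of_allRange c107_15) (range_glue (range_of_allRange c107_16) (range_glue (range_of_allRange c107_17) (range_glue (range_of_allRange c107_18) (range_glue (range_of_allRange c107_19) (range_glue (range_of_allRange c107_20) (range_glue (range_of_allRange c107_21) (range_glue (range_of_allRange c107_22) (range_glue (range_of_allRange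 c107_23) (range_glue (range_of_allRange c107_24) (range_glue (range_of_allRange c107_25) (range_glue (range_of_allRange c107_26) (range_glue (range_of_allRange c107_27) (range_of_allRange c107_28))))))))))))))))))))))))))))) i (Nat.zero_le _) hi

end Cfsg.Agent.Lib.Helper4.TCD.SC3McLp3W
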