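import Cfsg.Agent.Lib.Helper4.TCD_SC3McLp5A_Acc

namespace Cfsg.Agent.Lib.Helper4.TCD.SC3McLp5A

open Cfsg.Agent.Lib.Helper4.TC

set_option maxRecDepth 100000
set_option Elab.async false

theorem c_rel_80 : allRange D.relOK 343845 3489 = true := by decide +kernel
theorem c_rel_81 : allRange D.relOK 347334 3583 = true := by decide +kernel
theorem c_rel_82 : allRange D.relOK 350917 3560 = true := by decide +kernel
theorem c_rel_83 : allRange D.relOK 354477 3570 = true := by decide +kernel
theorem c_rel_84 : allRange D.relOK 358047 3298 = true := by decide +kernel
theorem c_rel_85 : allRange D.relOK 361345 3120 = true := by decide +kernel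
theorem c_rel_86 : allRange D.relOK 364465 3052 = true := by decide +kernel
theorem c_rel_87 : allRange D.relOK 367517 3166 = true := by decide +kernel
theorem c_rel_88 : allRange D.relOK 370683 2774 = true := by decide +kernel
theorem c_rel_89 : allRange D.relOK 373457 2939 = true := by decide +kernel
theorem c_rel_90 : allRange D.relOK 376396 2957 = true := by decide +kernel
theorem c_rel_91 : allRange D.relOK 379353 2750 = true := by decide +kernel
theorem c_rel_92 : allRange D.relOK 382103 3348 = true := by decide +kernel
theorem c_rel_93 : allRange D.relOK 385451 3051 = true := by decide +kernel
theorem c_rel_94 : allRange D.relOK 388502 3229 = true := by decide +kernel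
theorem c_rel_95 : allRange D.relOK 391731 2824 = true := by decide +kernel
theorem c_rel_96 : allRange D.relOK 394555 2779 = true := by decide +kernel
theorem c_rel_97 : allRange D.relOK 397334 2780 = true := by decide +kernel
theorem c_rel_98 : allRange D.relOK 400114 3064 = true := by decide +kernel
theorem c_rel_99 : allRange D.relOK 403178 2958 = true := by decide +kernel
theorem c_rel_100 : allRange D.relOK 406136 3259 = true := by decide +kernel
theorem c_rel_101 : allRange D.relOK 409395 2995 = true := by decide +kernel
theorem c_rel_102 : allRange D.relOK 412390 2884 = true := by decide +kernel
theorem c_rel_103 : allRange D.relOK 415274 2680 = true := by decide +kernel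
theorem c_rel_104 : allRange D.relOK 417954 2586 = true := by decide +kernel
theorem c_rel_105 : allRange D.relOK 420540 2678 = true := by decide +kernel
theorem c_rel_106 : allRange D.relOK 423218 2469 = true := by decide +kernel
theorem c_rel_107 : allRange D.relOK 425687 2663 = true := by decide +kernel
theorem c_rel_108 : allRange D.relOK 428350 2392 = true := by decide +kernel
theorem c_rel_109 : allRange D.relOK 430742 2886 = true := by decide +kernel
theorem c_rel_110 : allRange D.relOK 433628 3549 = true := by decide +kernel
theorem c_rel_111 : allRange D.relOK 437177 3098 = true := by decide +kernel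
theorem c_rel_112 : allRange D.relOK 440275 3529 = true := by decide +kernel
theorem c_rel_113 : allRange D.relOK 443804 3064 = true := by decide +kernel
theorem c_rel_114 : allRange D.relOK 446868 2583 = true := by decide +kernel
theorem c_rel_115 : allRange D.relOK 449451 2404 = true := by decide +kernel
theorem c_rel_116 : allRange D.relOK 451855 2437 = true := by decide +kernel
theorem c_rel_117 : allRange D.relOK 454292 2418 = true := by decide +kernel
theorem c_rel_118 : allRange D.relOK 456710 2536 = true := by decide +kernel
theorem c_rel_119 : allRange D.relOK 459246 3237 = true := by decide +kernel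
theorem c_rel_120 : allRange D.relOK 462483 2432 = true := by decide +kernel
theorem c_rel_121 : allRange D.relOK 464915 3020 = true := by decide +kernel
theorem c_rel_122 : allRange D.relOK 467935 1515 = true := by decide +kernel
theorem c_rel_123 : allRange D.relOK 469450 1707 = true := by decide +kernel
theorem c_rel_124 : allRange D.relOK 471157 1445 = true := by decide +kernel
theorem c_rel_125 : allRange D.relOK 472602 1288 = true := by decide +kernel
theorem c_rel_126 : allRange D.relOK 473890 1227 = true := by decide +kernel
theorem c_rel_127 : allRange D.relOK 475117 1605 = true := by decide +kernel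
theorem c_rel_128 : allRange D.relOK 476722 2496 = true := by decide +kernel
theorem c_rel_129 : allRange D.relOK 479218 2416 = true := by decide +kernel
theorem c_rel_130 : allRange D.relOK 481634 2449 = true := by decide +kernel
theorem c_rel_131 : allRange D.relOK 484083 2211 = true := by decide +kernel
theorem c_rel_132 : allRange D.relOK 486294 2224 = true := by decide +kernel
theorem c_rel_133 : allRange D.relOK 488518 2146 = true := by decide +kernel
theorem c_rel_134 : allRange D.relOK 490664 3392 = true := by decide +kernel
theorem c_rel_135 : allRange D.relOK 494056 2679 = true := by decide +kernel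
theorem c_rel_136 : allRange D.relOK 496735 2453 = true := by decide +kernel
theorem c_rel_137 : allRange D.relOK 499188 2738 = true := by decide +kernel
theorem c_rel_138 : allRange D.relOK 501926 2527 = true := by decide +kernel
theorem c_rel_139 : allRange D.relOK 504453 2643 = true := by decide +kernel
theorem c_rel_140 : allRange D.relOK 507096 2285 = true := by decide +kernel
theorem c_rel_141 : allRange D.relOK 509381 2746 = true := by decide +kernel
theorem c_rel_142 : allRange D.relOK 512127 1970 = true := by decide +kernel
theorem c_rel_143 : allRange D.relOK 514097 2770 = true := by decide +kernel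
theorem c_rel_144 : allRange D.relOK 516867 2496 = true := by decide +kernel
theorem c_rel_145 : allRange D.relOK 519363 2240 = true := by decide +kernel
theorem c_rel_146 : allRange D.relOK 521603 2618 = true := by decide +kernel
theorem c_rel_147 : allRange D.relOK 524221 2355 = true := by decide +kernel
theorem c_rel_148 : allRange D.relOK 526576 2819 = true := by decide +kernel
theorem c_rel_149 : allRange D.relOK 529395 2629 = true := by decide +kernel
theorem c_rel_150 : allRange D.relOK 532024 2001 = true := by decide +kernel
theorem c_rel_151 : allRange D.relOK 534025 2046 = true := by decide +kernel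
theorem c_rel_152 : allRange D.relOK 536071 2488 = true := by decide +kernel
theorem c_rel_153 : allRange D.relOK 538559 2354 = true := by decide +kernel
theorem c_rel_154 : allRange D.relOK 540913 2222 = true := by decide +kernel
theorem c_rel_155 : allRange D.relOK 543135 2147 = true := by decide +kernel
theorem c_rel_156 : allRange D.relOK 545282 2342 = true := by decide +kernel
theorem c_rel_157 : allRange D.relOK 547624 2743 = true := by decide +kernel
theorem c_rel_158 : allRange D.relOK 550367 2252 = true := by decide +kernel
theorem c_rel_159 : allRange D.relOK 552619 2560 = true := by decide +kernel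
theorem c_rel_160 : allRange D.relOK 555179 2486 = true := by decide +kernel
theorem c_rel_161 : allRange D.relOK 557665 2628 = true := by decide +kernel
theorem c_rel_162 : allRange D.relOK 560293 2374 = true := by decide +kernel
theorem c_rel_163 : allRange D.relOK 562667 2383 = true := by decide +kernel
theorem c_rel_164 : allRange D.relOK 565050 2685 = true := by decide +kernel
theorem c_rel_165 : allRange D.relOK 567735 2529 = true := by decide +kernel
theorem c_rel_166 : allRange D.relOK 570264 2342 = true := by decide +kernel
theorem c_rel_167 : allRange D.relOK 572606 2432 = true := by decide +kernel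
theorem c_rel_168 : allRange D.relOK 575038 2349 = true := by decide +kernel
theorem c_rel_169 : allRange D.relOK 577387 2692 = true := by decide +kernel
theorem c_rel_170 : allRange D.relOK 580079 2206 = true := by decide +kernel
theorem c_rel_171 : allRange D.relOK 582285 2353 = true := by decide +kernel
theorem c_rel_172 : allRange D.relOK 584638 2386 = true := by decide +kernel
theorem c_rel_173 : allRange D.relOK 587024 2533 = true := by decide +kernel
theorem c_rel_174 : allRange D.relOK 589557 2229 = true := by decide +kernel
theorem c_rel_175 : allRange D.relOK 591786 2208 = true := by decide +kernel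
theorem c_rel_176 : allRange D.relOK 593994 2242 = true := by decide +kernel
theorem c_rel_177 : allRange D.relOK 596236 2416 = true := by decide +kernel
theorem c_rel_178 : allRange D.relOK 598652 2228 = true := by decide +kernel

end Cfsg.Agent.Lib.Helper4.TCD.SC3McLp5A
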