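import Cfsg.Agent.Lib.Helper4.TCD_SC3McLp5A_Acc

namespace Cfsg.Agent.Lib.Helper4.TCD.SC3McLp5A

open Cfsg.Agent.Lib.Helper4.TC

set_option maxRecDepth 100000
set_option Elab.async false

theorem c_act17_4 : allRange (fun i => Nat.beq (actR17 i) i) 48000 12000 = true := by decide +kernel
theorem c_act17_5 : allRange (fun i => Nat.beq (actR17 i) i) 60000 6825 = true := by decide +kernel
theorem c_act18_0 : allRange (fun i => Nat.beq (actR18 i) i) 0 15000 = true := by decide +kernel
theorem c_act18_1 : allRange (fun i => Nat.beq (actR18 i) i) 15000 15000 = true := by decide +kernel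
theorem c_act18_2 : allRange (fun i => Nat.beq (actR18 i) i) 30000 15000 = true := by decide +kernel
theorem c_act18_3 : allRange (fun i => Nat.beq (actR18 i) i) 45000 15000 = true := by decide +kernel
theorem c_act18_4 : allRange (fun i => Nat.beq (actR18 i) i) 60000 6825 = true := by decide +kernel
theorem c_act19_0 : allRange (fun i => Nat.beq (actR19 i) i) 0 15000 = true := by decide +kernel
theorem c_act19_1 : allRange (fun i => Nat.beq (actR19 i) i) 15000 15000 = true := by decide +kernel
theorem c_act19_2 : allRange (fun i => Nat.beq (actR19 i) i) 30000 15000 = true := by decide +kernel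
theorem c_act19_3 : allRange (fun i => Nat.beq (actR19 i) i) 45000 15000 = true := by decide +kernel
theorem c_act19_4 : allRange (fun i => Nat.beq (actR19 i) i) 60000 6825 = true := by decide +kernel
theorem c_act20_0 : allRange (fun i => Nat.beq (actR20 i) i) 0 15000 = true := by decide +kernel
theorem c_act20_1 : allRange (fun i => Nat.beq (actR20 i) i) 15000 15000 = true := by decide +kernel
theorem c_act20_2 : allRange (fun i => Nat.beq (actR20 i) i) 30000 15000 = true := by decide +kernel
theorem c_act20_3 : allRange (fun i => Nat.beq (actR20 i) i) 45000 15000 = true := by decide +kernel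
theorem c_act20_4 : allRange (fun i => Nat.beq (actR20 i) i) 60000 6825 = true := by decide +kernel
theorem c_act21_0 : allRange (fun i => Nat.beq (actR21 i) i) 0 15000 = true := by decide +kernel
theorem c_act21_1 : allRange (fun i => Nat.beq (actR21 i) i) 15000 15000 = true := by decide +kernel
theorem c_act21_2 : allRange (fun i => Nat.beq (actR21 i) i) 30000 15000 = true := by decide +kernel
theorem c_act21_3 : allRange (fun i => Nat.beq (actR21 i) i) 45000 15000 = true := by decide +kernel
theorem c_act21_4 : allRange (fun i => Nat.beq (actR21 i) i) 60000 6825 = true := by decide +kernel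
theorem c_act22_0 : allRange (fun i => Nat.beq (actR22 i) i) 0 15000 = true := by decide +kernel
theorem c_act22_1 : allRange (fun i => Nat.beq (actR22 i) i) 15000 15000 = true := by decide +kernel
theorem c_act22_2 : allRange (fun i => Nat.beq (actR22 i) i) 30000 15000 = true := by decide +kernel
theorem c_act22_3 : allRange (fun i => Nat.beq (actR22 i) i) 45000 15000 = true := by decide +kernel
theorem c_act22_4 : allRange (fun i => Nat.beq (actR22 i) i) 60000 6825 = true := by decide +kernel
theorem c_act23_0 : allRange (fun i => Nat.beq (actR23 i) i) 0 15000 = true := by decide +kernel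
theorem c_act23_1 : allRange (fun i => Nat.beq (actR23 i) i) 15000 15000 = true := by decide +kernel
theorem c_act23_2 : allRange (fun i => Nat.beq (actR23 i) i) 30000 15000 = true := by decide +kernel
theorem c_act23_3 : allRange (fun i => Nat.beq (actR23 i) i) 45000 15000 = true := by decide +kernel
theorem c_act23_4 : allRange (fun i => Nat.beq (actR23 i) i) 60000 6825 = true := by decide +kernel
theorem c_act24_0 : allRange (fun i => Nat.beq (actR24 i) i) 0 15000 = true := by decide +kernel
theorem c_act24_1 : allRange (fun i => Nat.beq (actR24 i) i) 15000 15000 = true := by decide +kernel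
theorem c_act24_2 : allRange (fun i => Nat.beq (actR24 i) i) 30000 15000 = true := by decide +kernel
theorem c_act24_3 : allRange (fun i => Nat.beq (actR24 i) i) 45000 15000 = true := by decide +kernel
theorem c_act24_4 : allRange (fun i => Nat.beq (actR24 i) i) 60000 6825 = true := by decide +kernel
theorem c_act25_0 : allRange (fun i => Nat.beq (actR25 i) i) 0 15000 = true := by decide +kernel
theorem c_act25_1 : allRange (fun i => Nat.beq (actR25 i) i) 15000 15000 = true := by decide +kernel
theorem c_act25_2 : allRange (fun i => Nat.beq (actR25 i) i) 30000 15000 = true := by decide +kernel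
theorem c_act25_3 : allRange (fun i => Nat.beq (actR25 i) i) 45000 15000 = true := by decide +kernel
theorem c_act25_4 : allRange (fun i => Nat.beq (actR25 i) i) 60000 6825 = true := by decide +kernel
theorem c_act26_0 : allRange (fun i => Nat.beq (actR26 i) i) 0 15000 = true := by decide +kernel
theorem c_act26_1 : allRange (fun i => Nat.beq (actR26 i) i) 15000 15000 = true := by decide +kernel
theorem c_act26_2 : allRange (fun i => Nat.beq (actR26 i) i) 30000 15000 = true := by decide +kernel
theorem c_act26_3 : allRange (fun i => Nat.beq (actR26 i) i) 45000 15000 = true := by decide +kernel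
theorem c_act26_4 : allRange (fun i => Nat.beq (actR26 i) i) 60000 6825 = true := by decide +kernel
theorem c_act27_0 : allRange (fun i => Nat.beq (actR27 i) i) 0 15000 = true := by decide +kernel
theorem c_act27_1 : allRange (fun i => Nat.beq (actR27 i) i) 15000 15000 = true := by decide +kernel
theorem c_act27_2 : allRange (fun i => Nat.beq (actR27 i) i) 30000 15000 = true := by decide +kernel
theorem c_act27_3 : allRange (fun i => Nat.beq (actR27 i) i) 45000 15000 = true := by decide +kernel
theorem c_act27_4 : allRange (fun i => Nat.beq (actR27 i) i) 60000 6825 = true := by decide +kernel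
theorem c_act28_0 : allRange (fun i => Nat.beq (actR28 i) i) 0 15000 = true := by decide +kernel
theorem c_act28_1 : allRange (fun i => Nat.beq (actR28 i) i) 15000 15000 = true := by decide +kernel
theorem c_act28_2 : allRange (fun i => Nat.beq (actR28 i) i) 30000 15000 = true := by decide +kernel

end Cfsg.Agent.Lib.Helper4.TCD.SC3McLp5A
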