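import Cfsg.Agent.Lib.Helper4.TCD_SC3McLp5A_Acc

namespace Cfsg.Agent.Lib.Helper4.TCD.SC3McLp5A

open Cfsg.Agent.Lib.Helper4.TC

set_option maxRecDepth 100000
set_option Elab.async false

theorem c_act48_6 : allRange (fun i => Nat.beq (actR48 i) i) 30000 5000 = true := by decide +kernel
theorem c_act48_7 : allRange (fun i => Nat.beq (actR48 i) i) 35000 5000 = true := by decide +kernel
theorem c_act48_8 : allRange (fun i => Nat.beq (actR48 i) i) 40000 5000 = true := by decide +kernel
theorem c_act48_9 : allRange (fun i => Nat.beq (actR48 i) i) 45000 5000 = true := by decide +kernel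
theorem c_act48_10 : allRange (fun i => Nat.beq (actR48 i) i) 50000 5000 = true := by decide +kernel
theorem c_act48_11 : allRange (fun i => Nat.beq (actR48 i) i) 55000 5000 = true := by decide +kernel
theorem c_act48_12 : allRange (fun i => Nat.beq (actR48 i) i) 60000 5000 = true := by decide +kernel
theorem c_act48_13 : allRange (fun i => Nat.beq (actR48 i) i) 65000 1825 = true := by decide +kernel
theorem c_act49_0 : allRange (fun i => Nat.beq (actR49 i) i) 0 5000 = true := by decide +kernel
theorem c_act49_1 : allRange (fun i => Nat.beq (actR49 i) i) 5000 5000 = true := by decide +kernel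
theorem c_act49_2 : allRange (fun i => Nat.beq (actR49 i) i) 10000 5000 = true := by decide +kernel
theorem c_act49_3 : allRange (fun i => Nat.beq (actR49 i) i) 15000 5000 = true := by decide +kernel
theorem c_act49_4 : allRange (fun i => Nat.beq (actR49 i) i) 20000 5000 = true := by decide +kernel
theorem c_act49_5 : allRange (fun i => Nat.beq (actR49 i) i) 25000 5000 = true := by decide +kernel
theorem c_act49_6 : allRange (fun i => Nat.beq (actR49 i) i) 30000 5000 = true := by decide +kernel
theorem c_act49_7 : allRange (fun i => Nat.beq (actR49 i) i) 35000 5000 = true := by decide +kernel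
theorem c_act49_8 : allRange (fun i => Nat.beq (actR49 i) i) 40000 5000 = true := by decide +kernel
theorem c_act49_9 : allRange (fun i => Nat.beq (actR49 i) i) 45000 5000 = true := by decide +kernel
theorem c_act49_10 : allRange (fun i => Nat.beq (actR49 i) i) 50000 5000 = true := by decide +kernel
theorem c_act49_11 : allRange (fun i => Nat.beq (actR49 i) i) 55000 5000 = true := by decide +kernel
theorem c_act49_12 : allRange (fun i => Nat.beq (actR49 i) i) 60000 5000 = true := by decide +kernel
theorem c_act49_13 : allRange (fun i => Nat.beq (actR49 i) i) 65000 1825 = true := by decide +kernel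
theorem c_act50_0 : allRange (fun i => Nat.beq (actR50 i) i) 0 3333 = true := by decide +kernel
theorem c_act50_1 : allRange (fun i => Nat.beq (actR50 i) i) 3333 3333 = true := by decide +kernel
theorem c_act50_2 : allRange (fun i => Nat.beq (actR50 i) i) 6666 3333 = true := by decide +kernel
theorem c_act50_3 : allRange (fun i => Nat.beq (actR50 i) i) 9999 3333 = true := by decide +kernel
theorem c_act50_4 : allRange (fun i => Nat.beq (actR50 i) i) 13332 3333 = true := by decide +kernel
theorem c_act50_5 : allRange (fun i => Nat.beq (actR50 i) i) 16665 3333 = true := by decide +kernel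
theorem c_act50_6 : allRange (fun i => Nat.beq (actR50 i) i) 19998 3333 = true := by decide +kernel
theorem c_act50_7 : allRange (fun i => Nat.beq (actR50 i) i) 23331 3333 = true := by decide +kernel
theorem c_act50_8 : allRange (fun i => Nat.beq (actR50 i) i) 26664 3333 = true := by decide +kernel
theorem c_act50_9 : allRange (fun i => Nat.beq (actR50 i) i) 29997 3333 = true := by decide +kernel
theorem c_act50_10 : allRange (fun i => Nat.beq (actR50 i) i) 33330 3333 = true := by decide +kernel
theorem c_act50_11 : allRange (fun i => Nat.beq (actR50 i) i) 36663 3333 = true := by decide +kernel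
theorem c_act50_12 : allRange (fun i => Nat.beq (actR50 i) i) 39996 3333 = true := by decide +kernel
theorem c_act50_13 : allRange (fun i => Nat.beq (actR50 i) i) 43329 3333 = true := by decide +kernel
theorem c_act50_14 : allRange (fun i => Nat.beq (actR50 i) i) 46662 3333 = true := by decide +kernel
theorem c_act50_15 : allRange (fun i => Nat.beq (actR50 i) i) 49995 3333 = true := by decide +kernel
theorem c_act50_16 : allRange (fun i => Nat.beq (actR50 i) i) 53328 3333 = true := by decide +kernel
theorem c_act50_17 : allRange (fun i => Nat.beq (actR50 i) i) 56661 3333 = true := by decide +kernel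
theorem c_act50_18 : allRange (fun i => Nat.beq (actR50 i) i) 59994 3333 = true := by decide +kernel
theorem c_act50_19 : allRange (fun i => Nat.beq (actR50 i) i) 63327 3333 = true := by decide +kernel
theorem c_act50_20 : allRange (fun i => Nat.beq (actR50 i) i) 66660 165 = true := by decide +kernel
theorem c_act51_0 : allRange (fun i => Nat.beq (actR51 i) i) 0 3333 = true := by decide +kernel
theorem c_act51_1 : allRange (fun i => Nat.beq (actR51 i) i) 3333 3333 = true := by decide +kernel
theorem c_act51_2 : allRange (fun i => Nat.beq (actR51 i) i) 6666 3333 = true := by decide +kernel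
theorem c_act51_3 : allRange (fun i => Nat.beq (actR51 i) i) 9999 3333 = true := by decide +kernel
theorem c_act51_4 : allRange (fun i => Nat.beq (actR51 i) i) 13332 3333 = true := by decide +kernel
theorem c_act51_5 : allRange (fun i => Nat.beq (actR51 i) i) 16665 3333 = true := by decide +kernel
theorem c_act51_6 : allRange (fun i => Nat.beq (actR51 i) i) 19998 3333 = true := by decide +kernel
theorem c_act51_7 : allRange (fun i => Nat.beq (actR51 i) i) 23331 3333 = true := by decide +kernel
theorem c_act51_8 : allRange (fun i => Nat.beq (actR51 i) i) 26664 3333 = true := by decide +kernel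

end Cfsg.Agent.Lib.Helper4.TCD.SC3McLp5A
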