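import Cfsg.Agent.Lib.Helper4.TCD_SC3McLp5A_Acc

namespace Cfsg.Agent.Lib.Helper4.TCD.SC3McLp5A

open Cfsg.Agent.Lib.Helper4.TC

set_option maxRecDepth 100000
set_option Elab.async false

theorem c_act51_9 : allRange (fun i => Nat.beq (actR51 i) i) 29997 3333 = true := by decide +kernel
theorem c_act51_10 : allRange (fun i => Nat.beq (actR51 i) i) 33330 3333 = true := by decide +kernel
theorem c_act51_11 : allRange (fun i => Nat.beq (actR51 i) i) 36663 3333 = true := by decide +kernel
theorem c_act51_12 : allRange (fun i => Nat.beq (actR51 i) i) 39996 3333 = true := by decide +kernel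
theorem c_act51_13 : allRange (fun i => Nat.beq (actR51 i) i) 43329 3333 = true := by decide +kernel
theorem c_act51_14 : allRange (fun i => Nat.beq (actR51 i) i) 46662 3333 = true := by decide +kernel
theorem c_act51_15 : allRange (fun i => Nat.beq (actR51 i) i) 49995 3333 = true := by decide +kernel
theorem c_act51_16 : allRange (fun i => Nat.beq (actR51 i) i) 53328 3333 = true := by decide +kernel
theorem c_act51_17 : allRange (fun i => Nat.beq (actR51 i) i) 56661 3333 = true := by decide +kernel
theorem c_act51_18 : allRange (fun i => Nat.beq (actR51 i) i) 59994 3333 = true := by decide +kernel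
theorem c_act51_19 : allRange (fun i => Nat.beq (actR51 i) i) 63327 3333 = true := by decide +kernel
theorem c_act51_20 : allRange (fun i => Nat.beq (actR51 i) i) 66660 165 = true := by decide +kernel
theorem c_act52_0 : allRange (fun i => Nat.beq (actR52 i) i) 0 3333 = true := by decide +kernel
theorem c_act52_1 : allRange (fun i => Nat.beq (actR52 i) i) 3333 3333 = true := by decide +kernel
theorem c_act52_2 : allRange (fun i => Nat.beq (actR52 i) i) 6666 3333 = true := by decide +kernel
theorem c_act52_3 : allRange (fun i => Nat.beq (actR52 i) i) 9999 3333 = true := by decide +kernel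
theorem c_act52_4 : allRange (fun i => Nat.beq (actR52 i) i) 13332 3333 = true := by decide +kernel
theorem c_act52_5 : allRange (fun i => Nat.beq (actR52 i) i) 16665 3333 = true := by decide +kernel
theorem c_act52_6 : allRange (fun i => Nat.beq (actR52 i) i) 19998 3333 = true := by decide +kernel
theorem c_act52_7 : allRange (fun i => Nat.beq (actR52 i) i) 23331 3333 = true := by decide +kernel
theorem c_act52_8 : allRange (fun i => Nat.beq (actR52 i) i) 26664 3333 = true := by decide +kernel
theorem c_act52_9 : allRange (fun i => Nat.beq (actR52 i) i) 29997 3333 = true := by decide +kernel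
theorem c_act52_10 : allRange (fun i => Nat.beq (actR52 i) i) 33330 3333 = true := by decide +kernel
theorem c_act52_11 : allRange (fun i => Nat.beq (actR52 i) i) 36663 3333 = true := by decide +kernel
theorem c_act52_12 : allRange (fun i => Nat.beq (actR52 i) i) 39996 3333 = true := by decide +kernel
theorem c_act52_13 : allRange (fun i => Nat.beq (actR52 i) i) 43329 3333 = true := by decide +kernel
theorem c_act52_14 : allRange (fun i => Nat.beq (actR52 i) i) 46662 3333 = true := by decide +kernel
theorem c_act52_15 : allRange (fun i => Nat.beq (actR52 i) i) 49995 3333 = true := by decide +kernel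
theorem c_act52_16 : allRange (fun i => Nat.beq (actR52 i) i) 53328 3333 = true := by decide +kernel
theorem c_act52_17 : allRange (fun i => Nat.beq (actR52 i) i) 56661 3333 = true := by decide +kernel
theorem c_act52_18 : allRange (fun i => Nat.beq (actR52 i) i) 59994 3333 = true := by decide +kernel
theorem c_act52_19 : allRange (fun i => Nat.beq (actR52 i) i) 63327 3333 = true := by decide +kernel
theorem c_act52_20 : allRange (fun i => Nat.beq (actR52 i) i) 66660 165 = true := by decide +kernel
theorem c_act53_0 : allRange (fun i => Nat.beq (actR53 i) i) 0 3333 = true := by decide +kernel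
theorem c_act53_1 : allRange (fun i => Nat.beq (actR53 i) i) 3333 3333 = true := by decide +kernel
theorem c_act53_2 : allRange (fun i => Nat.beq (actR53 i) i) 6666 3333 = true := by decide +kernel
theorem c_act53_3 : allRange (fun i => Nat.beq (actR53 i) i) 9999 3333 = true := by decide +kernel
theorem c_act53_4 : allRange (fun i => Nat.beq (actR53 i) i) 13332 3333 = true := by decide +kernel
theorem c_act53_5 : allRange (fun i => Nat.beq (actR53 i) i) 16665 3333 = true := by decide +kernel
theorem c_act53_6 : allRange (fun i => Nat.beq (actR53 i) i) 19998 3333 = true := by decide +kernel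
theorem c_act53_7 : allRange (fun i => Nat.beq (actR53 i) i) 23331 3333 = true := by decide +kernel
theorem c_act53_8 : allRange (fun i => Nat.beq (actR53 i) i) 26664 3333 = true := by decide +kernel
theorem c_act53_9 : allRange (fun i => Nat.beq (actR53 i) i) 29997 3333 = true := by decide +kernel
theorem c_act53_10 : allRange (fun i => Nat.beq (actR53 i) i) 33330 3333 = true := by decide +kernel
theorem c_act53_11 : allRange (fun i => Nat.beq (actR53 i) i) 36663 3333 = true := by decide +kernel
theorem c_act53_12 : allRange (fun i => Nat.beq (actR53 i) i) 39996 3333 = true := by decide +kernel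
theorem c_act53_13 : allRange (fun i => Nat.beq (actR53 i) i) 43329 3333 = true := by decide +kernel
theorem c_act53_14 : allRange (fun i => Nat.beq (actR53 i) i) 46662 3333 = true := by decide +kernel
theorem c_act53_15 : allRange (fun i => Nat.beq (actR53 i) i) 49995 3333 = true := by decide +kernel
theorem c_act53_16 : allRange (fun i => Nat.beq (actR53 i) i) 53328 3333 = true := by decide +kernel
theorem c_act53_17 : allRange (fun i => Nat.beq (actR53 i) i) 56661 3333 = true := by decide +kernel

end Cfsg.Agent.Lib.Helper4.TCD.SC3McLp5A
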