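import Cfsg.Agent.Lib.Helper4.TCD_SC3McLp5A_Acc

namespace Cfsg.Agent.Lib.Helper4.TCD.SC3McLp5A

open Cfsg.Agent.Lib.Helper4.TC

set_option maxRecDepth 100000
set_option Elab.async false

theorem c_act53_18 : allRange (fun i => Nat.beq (actR53 i) i) 59994 3333 = true := by decide +kernel
theorem c_act53_19 : allRange (fun i => Nat.beq (actR53 i) i) 63327 3333 = true := by decide +kernel
theorem c_act53_20 : allRange (fun i => Nat.beq (actR53 i) i) 66660 165 = true := by decide +kernel
theorem c_act54_0 : allRange (fun i => Nat.beq (actR54 i) i) 0 3333 = true := by decide +kernel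
theorem c_act54_1 : allRange (fun i => Nat.beq (actR54 i) i) 3333 3333 = true := by decide +kernel
theorem c_act54_2 : allRange (fun i => Nat.beq (actR54 i) i) 6666 3333 = true := by decide +kernel
theorem c_act54_3 : allRange (fun i => Nat.beq (actR54 i) i) 9999 3333 = true := by decide +kernel
theorem c_act54_4 : allRange (fun i => Nat.beq (actR54 i) i) 13332 3333 = true := by decide +kernel
theorem c_act54_5 : allRange (fun i => Nat.beq (actR54 i) i) 16665 3333 = true := by decide +kernel
theorem c_act54_6 : allRange (fun i => Nat.beq (actR54 i) i) 19998 3333 = true := by decide +kernel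
theorem c_act54_7 : allRange (fun i => Nat.beq (actR54 i) i) 23331 3333 = true := by decide +kernel
theorem c_act54_8 : allRange (fun i => Nat.beq (actR54 i) i) 26664 3333 = true := by decide +kernel
theorem c_act54_9 : allRange (fun i => Nat.beq (actR54 i) i) 29997 3333 = true := by decide +kernel
theorem c_act54_10 : allRange (fun i => Nat.beq (actR54 i) i) 33330 3333 = true := by decide +kernel
theorem c_act54_11 : allRange (fun i => Nat.beq (actR54 i) i) 36663 3333 = true := by decide +kernel
theorem c_act54_12 : allRange (fun i => Nat.beq (actR54 i) i) 39996 3333 = true := by decide +kernel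
theorem c_act54_13 : allRange (fun i => Nat.beq (actR54 i) i) 43329 3333 = true := by decide +kernel
theorem c_act54_14 : allRange (fun i => Nat.beq (actR54 i) i) 46662 3333 = true := by decide +kernel
theorem c_act54_15 : allRange (fun i => Nat.beq (actR54 i) i) 49995 3333 = true := by decide +kernel
theorem c_act54_16 : allRange (fun i => Nat.beq (actR54 i) i) 53328 3333 = true := by decide +kernel
theorem c_act54_17 : allRange (fun i => Nat.beq (actR54 i) i) 56661 3333 = true := by decide +kernel
theorem c_act54_18 : allRange (fun i => Nat.beq (actR54 i) i) 59994 3333 = true := by decide +kernel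
theorem c_act54_19 : allRange (fun i => Nat.beq (actR54 i) i) 63327 3333 = true := by decide +kernel
theorem c_act54_20 : allRange (fun i => Nat.beq (actR54 i) i) 66660 165 = true := by decide +kernel
theorem c_act55_0 : allRange (fun i => Nat.beq (actR55 i) i) 0 3333 = true := by decide +kernel
theorem c_act55_1 : allRange (fun i => Nat.beq (actR55 i) i) 3333 3333 = true := by decide +kernel
theorem c_act55_2 : allRange (fun i => Nat.beq (actR55 i) i) 6666 3333 = true := by decide +kernel
theorem c_act55_3 : allRange (fun i => Nat.beq (actR55 i) i) 9999 3333 = true := by decide +kernel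
theorem c_act55_4 : allRange (fun i => Nat.beq (actR55 i) i) 13332 3333 = true := by decide +kernel
theorem c_act55_5 : allRange (fun i => Nat.beq (actR55 i) i) 16665 3333 = true := by decide +kernel
theorem c_act55_6 : allRange (fun i => Nat.beq (actR55 i) i) 19998 3333 = true := by decide +kernel
theorem c_act55_7 : allRange (fun i => Nat.beq (actR55 i) i) 23331 3333 = true := by decide +kernel
theorem c_act55_8 : allRange (fun i => Nat.beq (actR55 i) i) 26664 3333 = true := by decide +kernel
theorem c_act55_9 : allRange (fun i => Nat.beq (actR55 i) i) 29997 3333 = true := by decide +kernel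
theorem c_act55_10 : allRange (fun i => Nat.beq (actR55 i) i) 33330 3333 = true := by decide +kernel
theorem c_act55_11 : allRange (fun i => Nat.beq (actR55 i) i) 36663 3333 = true := by decide +kernel
theorem c_act55_12 : allRange (fun i => Nat.beq (actR55 i) i) 39996 3333 = true := by decide +kernel
theorem c_act55_13 : allRange (fun i => Nat.beq (actR55 i) i) 43329 3333 = true := by decide +kernel
theorem c_act55_14 : allRange (fun i => Nat.beq (actR55 i) i) 46662 3333 = true := by decide +kernel
theorem c_act55_15 : allRange (fun i => Nat.beq (actR55 i) i) 49995 3333 = true := by decide +kernel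
theorem c_act55_16 : allRange (fun i => Nat.beq (actR55 i) i) 53328 3333 = true := by decide +kernel
theorem c_act55_17 : allRange (fun i => Nat.beq (actR55 i) i) 56661 3333 = true := by decide +kernel
theorem c_act55_18 : allRange (fun i => Nat.beq (actR55 i) i) 59994 3333 = true := by decide +kernel
theorem c_act55_19 : allRange (fun i => Nat.beq (actR55 i) i) 63327 3333 = true := by decide +kernel
theorem c_act55_20 : allRange (fun i => Nat.beq (actR55 i) i) 66660 165 = true := by decide +kernel
theorem c_act56_0 : allRange (fun i => Nat.beq (actR56 i) i) 0 3333 = true := by decide +kernel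
theorem c_act56_1 : allRange (fun i => Nat.beq (actR56 i) i) 3333 3333 = true := by decide +kernel
theorem c_act56_2 : allRange (fun i => Nat.beq (actR56 i) i) 6666 3333 = true := by decide +kernel
theorem c_act56_3 : allRange (fun i => Nat.beq (actR56 i) i) 9999 3333 = true := by decide +kernel
theorem c_act56_4 : allRange (fun i => Nat.beq (actR56 i) i) 13332 3333 = true := by decide +kernel
theorem c_act56_5 : allRange (fun i => Nat.beq (actR56 i) i) 16665 3333 = true := by decide +kernel
theorem c_act56_6 : allRange (fun i => Nat.beq (actR56 i) i) 19998 3333 = true := by decide +kernel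

end Cfsg.Agent.Lib.Helper4.TCD.SC3McLp5A
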