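import Cfsg.Agent.Lib.Helper4.TCD_SC3McLp5A_Acc

namespace Cfsg.Agent.Lib.Helper4.TCD.SC3McLp5A

open Cfsg.Agent.Lib.Helper4.TC

set_option maxRecDepth 100000
set_option Elab.async false

theorem c_act56_7 : allRange (fun i => Nat.beq (actR56 i) i) 23331 3333 = true := by decide +kernel
theorem c_act56_8 : allRange (fun i => Nat.beq (actR56 i) i) 26664 3333 = true := by decide +kernel
theorem c_act56_9 : allRange (fun i => Nat.beq (actR56 i) i) 29997 3333 = true := by decide +kernel
theorem c_act56_10 : allRange (fun i => Nat.beq (actR56 i) i) 33330 3333 = true := by decide +kernel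
theorem c_act56_11 : allRange (fun i => Nat.beq (actR56 i) i) 36663 3333 = true := by decide +kernel
theorem c_act56_12 : allRange (fun i => Nat.beq (actR56 i) i) 39996 3333 = true := by decide +kernel
theorem c_act56_13 : allRange (fun i => Nat.beq (actR56 i) i) 43329 3333 = true := by decide +kernel
theorem c_act56_14 : allRange (fun i => Nat.beq (actR56 i) i) 46662 3333 = true := by decide +kernel
theorem c_act56_15 : allRange (fun i => Nat.beq (actR56 i) i) 49995 3333 = true := by decide +kernel
theorem c_act56_16 : allRange (fun i => Nat.beq (actR56 i) i) 53328 3333 = true := by decide +kernel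
theorem c_act56_17 : allRange (fun i => Nat.beq (actR56 i) i) 56661 3333 = true := by decide +kernel
theorem c_act56_18 : allRange (fun i => Nat.beq (actR56 i) i) 59994 3333 = true := by decide +kernel
theorem c_act56_19 : allRange (fun i => Nat.beq (actR56 i) i) 63327 3333 = true := by decide +kernel
theorem c_act56_20 : allRange (fun i => Nat.beq (actR56 i) i) 66660 165 = true := by decide +kernel
theorem c_act57_0 : allRange (fun i => Nat.beq (actR57 i) i) 0 3333 = true := by decide +kernel
theorem c_act57_1 : allRange (fun i => Nat.beq (actR57 i) i) 3333 3333 = true := by decide +kernel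
theorem c_act57_2 : allRange (fun i => Nat.beq (actR57 i) i) 6666 3333 = true := by decide +kernel
theorem c_act57_3 : allRange (fun i => Nat.beq (actR57 i) i) 9999 3333 = true := by decide +kernel
theorem c_act57_4 : allRange (fun i => Nat.beq (actR57 i) i) 13332 3333 = true := by decide +kernel
theorem c_act57_5 : allRange (fun i => Nat.beq (actR57 i) i) 16665 3333 = true := by decide +kernel
theorem c_act57_6 : allRange (fun i => Nat.beq (actR57 i) i) 19998 3333 = true := by decide +kernel
theorem c_act57_7 : allRange (fun i => Nat.beq (actR57 i) i) 23331 3333 = true := by decide +kernel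
theorem c_act57_8 : allRange (fun i => Nat.beq (actR57 i) i) 26664 3333 = true := by decide +kernel
theorem c_act57_9 : allRange (fun i => Nat.beq (actR57 i) i) 29997 3333 = true := by decide +kernel
theorem c_act57_10 : allRange (fun i => Nat.beq (actR57 i) i) 33330 3333 = true := by decide +kernel
theorem c_act57_11 : allRange (fun i => Nat.beq (actR57 i) i) 36663 3333 = true := by decide +kernel
theorem c_act57_12 : allRange (fun i => Nat.beq (actR57 i) i) 39996 3333 = true := by decide +kernel
theorem c_act57_13 : allRange (fun i => Nat.beq (actR57 i) i) 43329 3333 = true := by decide +kernel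
theorem c_act57_14 : allRange (fun i => Nat.beq (actR57 i) i) 46662 3333 = true := by decide +kernel
theorem c_act57_15 : allRange (fun i => Nat.beq (actR57 i) i) 49995 3333 = true := by decide +kernel
theorem c_act57_16 : allRange (fun i => Nat.beq (actR57 i) i) 53328 3333 = true := by decide +kernel
theorem c_act57_17 : allRange (fun i => Nat.beq (actR57 i) i) 56661 3333 = true := by decide +kernel
theorem c_act57_18 : allRange (fun i => Nat.beq (actR57 i) i) 59994 3333 = true := by decide +kernel
theorem c_act57_19 : allRange (fun i => Nat.beq (actR57 i) i) 63327 3333 = true := by decide +kernel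
theorem c_act57_20 : allRange (fun i => Nat.beq (actR57 i) i) 66660 165 = true := by decide +kernel

end Cfsg.Agent.Lib.Helper4.TCD.SC3McLp5A
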