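import Cfsg.Agent.Lib.Helper4.TCD_SC3McLp5A_Acc

namespace Cfsg.Agent.Lib.Helper4.TCD.SC3McLp5A

open Cfsg.Agent.Lib.Helper4.TC

set_option maxRecDepth 100000
set_option Elab.async false

theorem c_rel_179 : allRange D.relOK 600880 2167 = true := by decide +kernel
theorem c_rel_180 : allRange D.relOK 603047 2387 = true := by decide +kernel
theorem c_rel_181 : allRange D.relOK 605434 2828 = true := by decide +kernel
theorem c_rel_182 : allRange D.relOK 608262 2418 = true := by decide +kernel
theorem c_rel_183 : allRange D.relOK 610680 2436 = true := by decide +kernel
theorem c_rel_184 : allRange D.relOK 613116 2276 = true := by decide +kernel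
theorem c_rel_185 : allRange D.relOK 615392 2255 = true := by decide +kernel
theorem c_rel_186 : allRange D.relOK 617647 2292 = true := by decide +kernel
theorem c_rel_187 : allRange D.relOK 619939 2202 = true := by decide +kernel
theorem c_rel_188 : allRange D.relOK 622141 2145 = true := by decide +kernel
theorem c_rel_189 : allRange D.relOK 624286 2104 = true := by decide +kernel
theorem c_rel_190 : allRange D.relOK 626390 2391 = true := by decide +kernel
theorem c_rel_191 : allRange D.relOK 628781 2065 = true := by decide +kernel
theorem c_rel_192 : allRange D.relOK 630846 2224 = true := by decide +kernel
theorem c_rel_193 : allRange D.relOK 633070 2338 = true := by decide +kernel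
theorem c_rel_194 : allRange D.relOK 635408 2058 = true := by decide +kernel
theorem c_rel_195 : allRange D.relOK 637466 2145 = true := by decide +kernel
theorem c_rel_196 : allRange D.relOK 639611 2214 = true := by decide +kernel
theorem c_rel_197 : allRange D.relOK 641825 2235 = true := by decide +kernel
theorem c_rel_198 : allRange D.relOK 644060 2054 = true := by decide +kernel
theorem c_rel_199 : allRange D.relOK 646114 2128 = true := by decide +kernel
theorem c_rel_200 : allRange D.relOK 648242 2093 = true := by decide +kernel
theorem c_rel_201 : allRange D.relOK 650335 1994 = true := by decide +kernel
theorem c_rel_202 : allRange D.relOK 652329 1917 = true := by decide +kernel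
theorem c_rel_203 : allRange D.relOK 654246 1954 = true := by decide +kernel
theorem c_rel_204 : allRange D.relOK 656200 1955 = true := by decide +kernel
theorem c_rel_205 : allRange D.relOK 658155 1856 = true := by decide +kernel
theorem c_rel_206 : allRange D.relOK 660011 1862 = true := by decide +kernel
theorem c_rel_207 : allRange D.relOK 661873 1934 = true := by decide +kernel
theorem c_rel_208 : allRange D.relOK 663807 2095 = true := by decide +kernel
theorem c_rel_209 : allRange D.relOK 665902 2084 = true := by decide +kernel
theorem c_rel_210 : allRange D.relOK 667986 2144 = true := by decide +kernel
theorem c_rel_211 : allRange D.relOK 670130 1852 = true := by decide +kernel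
theorem c_rel_212 : allRange D.relOK 671982 2072 = true := by decide +kernel
theorem c_rel_213 : allRange D.relOK 674054 1788 = true := by decide +kernel
theorem c_rel_214 : allRange D.relOK 675842 2271 = true := by decide +kernel
theorem c_rel_215 : allRange D.relOK 678113 2215 = true := by decide +kernel
theorem c_rel_216 : allRange D.relOK 680328 2274 = true := by decide +kernel
theorem c_rel_217 : allRange D.relOK 682602 1973 = true := by decide +kernel
theorem c_rel_218 : allRange D.relOK 684575 2266 = true := by decide +kernel
theorem c_rel_219 : allRange D.relOK 686841 2641 = true := by decide +kernel
theorem c_rel_220 : allRange D.relOK 689482 2213 = true := by decide +kernel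
theorem c_rel_221 : allRange D.relOK 691695 2159 = true := by decide +kernel
theorem c_rel_222 : allRange D.relOK 693854 2270 = true := by decide +kernel
theorem c_rel_223 : allRange D.relOK 696124 2089 = true := by decide +kernel
theorem c_rel_224 : allRange D.relOK 698213 2123 = true := by decide +kernel
theorem c_rel_225 : allRange D.relOK 700336 2044 = true := by decide +kernel
theorem c_rel_226 : allRange D.relOK 702380 2403 = true := by decide +kernel
theorem c_rel_227 : allRange D.relOK 704783 2316 = true := by decide +kernel
theorem c_rel_228 : allRange D.relOK 707099 2358 = true := by decide +kernel
theorem c_rel_229 : allRange D.relOK 709457 2342 = true := by decide +kernel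
theorem c_rel_230 : allRange D.relOK 711799 2390 = true := by decide +kernel
theorem c_rel_231 : allRange D.relOK 714189 2315 = true := by decide +kernel
theorem c_rel_232 : allRange D.relOK 716504 2335 = true := by decide +kernel
theorem c_rel_233 : allRange D.relOK 718839 2359 = true := by decide +kernel
theorem c_rel_234 : allRange D.relOK 721198 2299 = true := by decide +kernel
theorem c_rel_235 : allRange D.relOK 723497 2423 = true := by decide +kernel
theorem c_rel_236 : allRange D.relOK 725920 2286 = true := by decide +kernel
theorem c_rel_237 : allRange D.relOK 728206 2254 = true := by decide +kernel
theorem c_rel_238 : allRange D.relOK 730460 2292 = true := by decide +kernel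
theorem c_rel_239 : allRange D.relOK 732752 2251 = true := by decide +kernel
theorem c_rel_240 : allRange D.relOK 735003 2367 = true := by decide +kernel
theorem c_rel_241 : allRange D.relOK 737370 2225 = true := by decide +kernel
theorem c_rel_242 : allRange D.relOK 739595 2266 = true := by decide +kernel
theorem c_rel_243 : allRange D.relOK 741861 2269 = true := by decide +kernel
theorem c_rel_244 : allRange D.relOK 744130 2252 = true := by decide +kernel
theorem c_rel_245 : allRange D.relOK 746382 2224 = true := by decide +kernel
theorem c_rel_246 : allRange D.relOK 748606 2184 = true := by decide +kernel
theorem c_rel_247 : allRange D.relOK 750790 2274 = true := by decide +kernel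
theorem c_rel_248 : allRange D.relOK 753064 2200 = true := by decide +kernel
theorem c_rel_249 : allRange D.relOK 755264 2146 = true := by decide +kernel
theorem c_rel_250 : allRange D.relOK 757410 2170 = true := by decide +kernel
theorem c_rel_251 : allRange D.relOK 759580 2189 = true := by decide +kernel
theorem c_rel_252 : allRange D.relOK 761769 2167 = true := by decide +kernel
theorem c_rel_253 : allRange D.relOK 763936 2105 = true := by decide +kernel
theorem c_rel_254 : allRange D.relOK 766041 2152 = true := by decide +kernel
theorem c_rel_255 : allRange D.relOK 768193 2158 = true := by decide +kernel
theorem c_rel_256 : allRange D.relOK 770351 2060 = true := by decide +kernel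
theorem c_rel_257 : allRange D.relOK 772411 2081 = true := by decide +kernel
theorem c_rel_258 : allRange D.relOK 774492 2102 = true := by decide +kernel
theorem c_rel_259 : allRange D.relOK 776594 2062 = true := by decide +kernel
theorem c_rel_260 : allRange D.relOK 778656 2027 = true := by decide +kernel
theorem c_rel_261 : allRange D.relOK 780683 2024 = true := by decide +kernel
theorem c_rel_262 : allRange D.relOK 782707 2026 = true := by decide +kernel
theorem c_rel_263 : allRange D.relOK 784733 1997 = true := by decide +kernel
theorem c_rel_264 : allRange D.relOK 786730 2044 = true := by decide +kernel
theorem c_rel_265 : allRange D.relOK 788774 1961 = true := by decide +kernel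
theorem c_rel_266 : allRange D.relOK 790735 2043 = true := by decide +kernel
theorem c_rel_267 : allRange D.relOK 792778 1979 = true := by decide +kernel
theorem c_rel_268 : allRange D.relOK 794757 1928 = true := by decide +kernel
theorem c_rel_269 : allRange D.relOK 796685 1991 = true := by decide +kernel
theorem c_rel_270 : allRange D.relOK 798676 1956 = true := by decide +kernel
theorem c_rel_271 : allRange D.relOK 800632 1945 = true := by decide +kernel
theorem c_rel_272 : allRange D.relOK 802577 1959 = true := by decide +kernel
theorem c_rel_273 : allRange D.relOK 804536 1917 = true := by decide +kernel
theorem c_rel_274 : allRange D.relOK 806453 1872 = true := by decide +kernel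
theorem c_rel_275 : allRange D.relOK 808325 1895 = true := by decide +kernel
theorem c_rel_276 : allRange D.relOK 810220 1875 = true := by decide +kernel
theorem c_rel_277 : allRange D.relOK 812095 1900 = true := by decide +kernel

end Cfsg.Agent.Lib.Helper4.TCD.SC3McLp5A
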