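import Cfsg.Agent.Lib.Helper4.TCD_SC3McLp5A_Acc

namespace Cfsg.Agent.Lib.Helper4.TCD.SC3McLp5A

open Cfsg.Agent.Lib.Helper4.TC

set_option maxRecDepth 100000
set_option Elab.async false

theorem c_rel_278 : allRange D.relOK 813995 1898 = true := by decide +kernel
theorem c_rel_279 : allRange D.relOK 815893 1866 = true := by decide +kernel
theorem c_rel_280 : allRange D.relOK 817759 1885 = true := by decide +kernel
theorem c_rel_281 : allRange D.relOK 819644 1822 = true := by decide +kernel
theorem c_rel_282 : allRange D.relOK 821466 1804 = true := by decide +kernel
theorem c_rel_283 : allRange D.relOK 823270 1801 = true := by decide +kernel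
theorem c_rel_284 : allRange D.relOK 825071 1773 = true := by decide +kernel
theorem c_rel_285 : allRange D.relOK 826844 1778 = true := by decide +kernel
theorem c_rel_286 : allRange D.relOK 828622 1837 = true := by decide +kernel
theorem c_rel_287 : allRange D.relOK 830459 1766 = true := by decide +kernel
theorem c_rel_288 : allRange D.relOK 832225 1753 = true := by decide +kernel
theorem c_rel_289 : allRange D.relOK 833978 1790 = true := by decide +kernel
theorem c_rel_290 : allRange D.relOK 835768 1758 = true := by decide +kernel
theorem c_rel_291 : allRange D.relOK 837526 1739 = true := by decide +kernel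
theorem c_rel_292 : allRange D.relOK 839265 1758 = true := by decide +kernel
theorem c_rel_293 : allRange D.relOK 841023 1730 = true := by decide +kernel
theorem c_rel_294 : allRange D.relOK 842753 1701 = true := by decide +kernel
theorem c_rel_295 : allRange D.relOK 844454 1688 = true := by decide +kernel
theorem c_rel_296 : allRange D.relOK 846142 1650 = true := by decide +kernel
theorem c_rel_297 : allRange D.relOK 847792 1679 = true := by decide +kernel
theorem c_rel_298 : allRange D.relOK 849471 1688 = true := by decide +kernel
theorem c_rel_299 : allRange D.relOK 851159 1695 = true := by decide +kernel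
theorem c_rel_300 : allRange D.relOK 852854 1632 = true := by decide +kernel
theorem c_rel_301 : allRange D.relOK 854486 1627 = true := by decide +kernel
theorem c_rel_302 : allRange D.relOK 856113 1622 = true := by decide +kernel
theorem c_rel_303 : allRange D.relOK 857735 2169 = true := by decide +kernel
theorem c_rel_304 : allRange D.relOK 859904 4225 = true := by decide +kernel
theorem c_rel_305 : allRange D.relOK 864129 4399 = true := by decide +kernel
theorem c_rel_306 : allRange D.relOK 868528 4632 = true := by decide +kernel
theorem c_rel_307 : allRange D.relOK 873160 4792 = true := by decide +kernel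
theorem c_rel_308 : allRange D.relOK 877952 4776 = true := by decide +kernel
theorem c_rel_309 : allRange D.relOK 882728 4820 = true := by decide +kernel
theorem c_rel_310 : allRange D.relOK 887548 4797 = true := by decide +kernel
theorem c_rel_311 : allRange D.relOK 892345 4821 = true := by decide +kernel
theorem c_rel_312 : allRange D.relOK 897166 4817 = true := by decide +kernel
theorem c_rel_313 : allRange D.relOK 901983 4823 = true := by decide +kernel
theorem c_rel_314 : allRange D.relOK 906806 4849 = true := by decide +kernel
theorem c_rel_315 : allRange D.relOK 911655 4847 = true := by decide +kernel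
theorem c_rel_316 : allRange D.relOK 916502 2890 = true := by decide +kernel
theorem c_fin_0 : allGrid (T.finOK D) 0 545 22 = true := by decide +kernel
theorem c_fin_1 : allGrid (T.finOK D) 545 545 22 = true := by decide +kernel
theorem c_fin_2 : allGrid (T.finOK D) 1090 545 22 = true := by decide +kernel
theorem c_fin_3 : allGrid (T.finOK D) 1635 545 22 = true := by decide +kernel
theorem c_fin_4 : allGrid (T.finOK D) 2180 545 22 = true := by decide +kernel
theorem c_fin_5 : allGrid (T.finOK D) 2725 545 22 = true := by decide +kernel
theorem c_fin_6 : allGrid (T.finOK D) 3270 545 22 = true := by decide +kernel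
theorem c_fin_7 : allGrid (T.finOK D) 3815 545 22 = true := by decide +kernel
theorem c_fin_8 : allGrid (T.finOK D) 4360 545 22 = true := by decide +kernel
theorem c_fin_9 : allGrid (T.finOK D) 4905 545 22 = true := by decide +kernel
theorem c_fin_10 : allGrid (T.finOK D) 5450 545 22 = true := by decide +kernel
theorem c_fin_11 : allGrid (T.finOK D) 5995 545 22 = true := by decide +kernel
theorem c_fin_12 : allGrid (T.finOK D) 6540 545 22 = true := by decide +kernel
theorem c_fin_13 : allGrid (T.finOK D) 7085 545 22 = true := by decide +kernel
theorem c_fin_14 : allGrid (T.finOK D) 7630 545 22 = true := by decide +kernel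
theorem c_fin_15 : allGrid (T.finOK D) 8175 545 22 = true := by decide +kernel
theorem c_fin_16 : allGrid (T.finOK D) 8720 545 22 = true := by decide +kernel
theorem c_fin_17 : allGrid (T.finOK D) 9265 545 22 = true := by decide +kernel
theorem c_fin_18 : allGrid (T.finOK D) 9810 545 22 = true := by decide +kernel
theorem c_fin_19 : allGrid (T.finOK D) 10355 545 22 = true := by decide +kernel
theorem c_fin_20 : allGrid (T.finOK D) 10900 545 22 = true := by decide +kernel
theorem c_fin_21 : allGrid (T.finOK D) 11445 545 22 = true := by decide +kernel
theorem c_fin_22 : allGrid (T.finOK D) 11990 545 22 = true := by decide +kernel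
theorem c_fin_23 : allGrid (T.finOK D) 12535 545 22 = true := by decide +kernel
theorem c_fin_24 : allGrid (T.finOK D) 13080 545 22 = true := by decide +kernel
theorem c_fin_25 : allGrid (T.finOK D) 13625 545 22 = true := by decide +kernel
theorem c_fin_26 : allGrid (T.finOK D) 14170 545 22 = true := by decide +kernel
theorem c_fin_27 : allGrid (T.finOK D) 14715 545 22 = true := by decide +kernel
theorem c_fin_28 : allGrid (T.finOK D) 15260 545 22 = true := by decide +kernel
theorem c_fin_29 : allGrid (T.finOK D) 15805 545 22 = true := by decide +kernel

end Cfsg.Agent.Lib.Helper4.TCD.SC3McLp5A
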