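import Cfsg.Agent.Lib.Helper4.TCD_SC3McLp5A_Acc

namespace Cfsg.Agent.Lib.Helper4.TCD.SC3McLp5A

open Cfsg.Agent.Lib.Helper4.TC

set_option maxRecDepth 100000
set_option Elab.async false

theorem c_fin_30 : allGrid (T.finOK D) 16350 545 22 = true := by decide +kernel
theorem c_fin_31 : allGrid (T.finOK D) 16895 545 22 = true := by decide +kernel
theorem c_fin_32 : allGrid (T.finOK D) 17440 545 22 = true := by decide +kernel
theorem c_fin_33 : allGrid (T.finOK D) 17985 545 22 = true := by decide +kernel
theorem c_fin_34 : allGrid (T.finOK D) 18530 545 22 = true := by decide +kernel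
theorem c_fin_35 : allGrid (T.finOK D) 19075 545 22 = true := by decide +kernel
theorem c_fin_36 : allGrid (T.finOK D) 19620 545 22 = true := by decide +kernel
theorem c_fin_37 : allGrid (T.finOK D) 20165 545 22 = true := by decide +kernel
theorem c_fin_38 : allGrid (T.finOK D) 20710 545 22 = true := by decide +kernel
theorem c_fin_39 : allGrid (T.finOK D) 21255 545 22 = true := by decide +kernel
theorem c_fin_40 : allGrid (T.finOK D) 21800 545 22 = true := by decide +kernel
theorem c_fin_41 : allGrid (T.finOK D) 22345 545 22 = true := by decide +kernel
theorem c_fin_42 : allGrid (T.finOK D) 22890 545 22 = true := by decide +kernel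
theorem c_fin_43 : allGrid (T.finOK D) 23435 545 22 = true := by decide +kernel
theorem c_fin_44 : allGrid (T.finOK D) 23980 545 22 = true := by decide +kernel
theorem c_fin_45 : allGrid (T.finOK D) 24525 545 22 = true := by decide +kernel
theorem c_fin_46 : allGrid (T.finOK D) 25070 545 22 = true := by decide +kernel
theorem c_fin_47 : allGrid (T.finOK D) 25615 545 22 = true := by decide +kernel
theorem c_fin_48 : allGrid (T.finOK D) 26160 545 22 = true := by decide +kernel
theorem c_fin_49 : allGrid (T.finOK D) 26705 545 22 = true := by decide +kernel
theorem c_fin_50 : allGrid (T.finOK D) 27250 545 22 = true := by decide +kernel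
theorem c_fin_51 : allGrid (T.finOK D) 27795 545 22 = true := by decide +kernel
theorem c_fin_52 : allGrid (T.finOK D) 28340 545 22 = true := by decide +kernel
theorem c_fin_53 : allGrid (T.finOK D) 28885 545 22 = true := by decide +kernel
theorem c_fin_54 : allGrid (T.finOK D) 29430 545 22 = true := by decide +kernel
theorem c_fin_55 : allGrid (T.finOK D) 29975 545 22 = true := by decide +kernel
theorem c_fin_56 : allGrid (T.finOK D) 30520 545 22 = true := by decide +kernel
theorem c_fin_57 : allGrid (T.finOK D) 31065 545 22 = true := by decide +kernel
theorem c_fin_58 : allGrid (T.finOK D) 31610 545 22 = true := by decide +kernel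
theorem c_fin_59 : allGrid (T.finOK D) 32155 545 22 = true := by decide +kernel
theorem c_fin_60 : allGrid (T.finOK D) 32700 545 22 = true := by decide +kernel
theorem c_fin_61 : allGrid (T.finOK D) 33245 545 22 = true := by decide +kernel
theorem c_fin_62 : allGrid (T.finOK D) 33790 545 22 = true := by decide +kernel
theorem c_fin_63 : allGrid (T.finOK D) 34335 545 22 = true := by decide +kernel
theorem c_fin_64 : allGrid (T.finOK D) 34880 545 22 = true := by decide +kernel
theorem c_fin_65 : allGrid (T.finOK D) 35425 545 22 = true := by decide +kernel
theorem c_fin_66 : allGrid (T.finOK D) 35970 545 22 = true := by decide +kernel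
theorem c_fin_67 : allGrid (T.finOK D) 36515 545 22 = true := by decide +kernel
theorem c_fin_68 : allGrid (T.finOK D) 37060 545 22 = true := by decide +kernel
theorem c_fin_69 : allGrid (T.finOK D) 37605 545 22 = true := by decide +kernel
theorem c_fin_70 : allGrid (T.finOK D) 38150 545 22 = true := by decide +kernel
theorem c_fin_71 : allGrid (T.finOK D) 38695 545 22 = true := by decide +kernel
theorem c_fin_72 : allGrid (T.finOK D) 39240 545 22 = true := by decide +kernel
theorem c_fin_73 : allGrid (T.finOK D) 39785 545 22 = true := by decide +kernel
theorem c_fin_74 : allGrid (T.finOK D) 40330 545 22 = true := by decide +kernel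
theorem c_fin_75 : allGrid (T.finOK D) 40875 545 22 = true := by decide +kernel
theorem c_fin_76 : allGrid (T.finOK D) 41420 545 22 = true := by decide +kernel
theorem c_fin_77 : allGrid (T.finOK D) 41965 545 22 = true := by decide +kernel
theorem c_fin_78 : allGrid (T.finOK D) 42510 545 22 = true := by decide +kernel
theorem c_fin_79 : allGrid (T.finOK D) 43055 545 22 = true := by decide +kernel

end Cfsg.Agent.Lib.Helper4.TCD.SC3McLp5A
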