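import Cfsg.Agent.Lib.Helper4.TCD_SC3McLp5A_Acc

namespace Cfsg.Agent.Lib.Helper4.TCD.SC3McLp5A

open Cfsg.Agent.Lib.Helper4.TC

set_option maxRecDepth 100000
set_option Elab.async false

theorem c_fin_80 : allGrid (T.finOK D) 43600 545 22 = true := by decide +kernel
theorem c_fin_81 : allGrid (T.finOK D) 44145 545 22 = true := by decide +kernel
theorem c_fin_82 : allGrid (T.finOK D) 44690 545 22 = true := by decide +kernel
theorem c_fin_83 : allGrid (T.finOK D) 45235 545 22 = true := by decide +kernel
theorem c_fin_84 : allGrid (T.finOK D) 45780 545 22 = true := by decide +kernel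
theorem c_fin_85 : allGrid (T.finOK D) 46325 545 22 = true := by decide +kernel
theorem c_fin_86 : allGrid (T.finOK D) 46870 545 22 = true := by decide +kernel
theorem c_fin_87 : allGrid (T.finOK D) 47415 545 22 = true := by decide +kernel
theorem c_fin_88 : allGrid (T.finOK D) 47960 545 22 = true := by decide +kernel
theorem c_fin_89 : allGrid (T.finOK D) 48505 545 22 = true := by decide +kernel
theorem c_fin_90 : allGrid (T.finOK D) 49050 545 22 = true := by decide +kernel
theorem c_fin_91 : allGrid (T.finOK D) 49595 545 22 = true := by decide +kernel
theorem c_fin_92 : allGrid (T.finOK D) 50140 545 22 = true := by decide +kernel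
theorem c_fin_93 : allGrid (T.finOK D) 50685 545 22 = true := by decide +kernel
theorem c_fin_94 : allGrid (T.finOK D) 51230 545 22 = true := by decide +kernel
theorem c_fin_95 : allGrid (T.finOK D) 51775 545 22 = true := by decide +kernel
theorem c_fin_96 : allGrid (T.finOK D) 52320 545 22 = true := by decide +kernel
theorem c_fin_97 : allGrid (T.finOK D) 52865 545 22 = true := by decide +kernel
theorem c_fin_98 : allGrid (T.finOK D) 53410 545 22 = true := by decide +kernel
theorem c_fin_99 : allGrid (T.finOK D) 53955 545 22 = true := by decide +kernel
theorem c_fin_100 : allGrid (T.finOK D) 54500 545 22 = true := by decide +kernel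
theorem c_fin_101 : allGrid (T.finOK D) 55045 545 22 = true := by decide +kernel
theorem c_fin_102 : allGrid (T.finOK D) 55590 545 22 = true := by decide +kernel
theorem c_fin_103 : allGrid (T.finOK D) 56135 545 22 = true := by decide +kernel
theorem c_fin_104 : allGrid (T.finOK D) 56680 545 22 = true := by decide +kernel
theorem c_fin_105 : allGrid (T.finOK D) 57225 545 22 = true := by decide +kernel
theorem c_fin_106 : allGrid (T.finOK D) 57770 545 22 = true := by decide +kernel
theorem c_fin_107 : allGrid (T.finOK D) 58315 545 22 = true := by decide +kernel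
theorem c_fin_108 : allGrid (T.finOK D) 58860 545 22 = true := by decide +kernel
theorem c_fin_109 : allGrid (T.finOK D) 59405 545 22 = true := by decide +kernel
theorem c_fin_110 : allGrid (T.finOK D) 59950 545 22 = true := by decide +kernel
theorem c_fin_111 : allGrid (T.finOK D) 60495 545 22 = true := by decide +kernel
theorem c_fin_112 : allGrid (T.finOK D) 61040 545 22 = true := by decide +kernel
theorem c_fin_113 : allGrid (T.finOK D) 61585 545 22 = true := by decide +kernel
theorem c_fin_114 : allGrid (T.finOK D) 62130 545 22 = true := by decide +kernel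
theorem c_fin_115 : allGrid (T.finOK D) 62675 545 22 = true := by decide +kernel
theorem c_fin_116 : allGrid (T.finOK D) 63220 545 22 = true := by decide +kernel
theorem c_fin_117 : allGrid (T.finOK D) 63765 545 22 = true := by decide +kernel
theorem c_fin_118 : allGrid (T.finOK D) 64310 545 22 = true := by decide +kernel
theorem c_fin_119 : allGrid (T.finOK D) 64855 545 22 = true := by decide +kernel
theorem c_fin_120 : allGrid (T.finOK D) 65400 545 22 = true := by decide +kernel
theorem c_fin_121 : allGrid (T.finOK D) 65945 545 22 = true := by decide +kernel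
theorem c_fin_122 : allGrid (T.finOK D) 66490 335 22 = true := by decide +kernel
theorem c_perm_0 : allGrid (T.permOK1 D) 0 1363 22 = true := by decide +kernel
theorem c_perm_1 : allGrid (T.permOK1 D) 1363 1363 22 = true := by decide +kernel
theorem c_perm_2 : allGrid (T.permOK1 D) 2726 1363 22 = true := by decide +kernel
theorem c_perm_3 : allGrid (T.permOK1 D) 4089 1363 22 = true := by decide +kernel
theorem c_perm_4 : allGrid (T.permOK1 D) 5452 1363 22 = true := by decide +kernel
theorem c_perm_5 : allGrid (T.permOK1 D) 6815 1363 22 = true := by decide +kernel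
theorem c_perm_6 : allGrid (T.permOK1 D) 8178 1363 22 = true := by decide +kernel

end Cfsg.Agent.Lib.Helper4.TCD.SC3McLp5A
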