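import Cfsg.Agent.Lib.Helper4.TCD_SC3McLp5A_Acc

namespace Cfsg.Agent.Lib.Helper4.TCD.SC3McLp5A

open Cfsg.Agent.Lib.Helper4.TC

set_option maxRecDepth 100000
set_option Elab.async false

theorem c_perm_7 : allGrid (T.permOK1 D) 9541 1363 22 = true := by decide +kernel
theorem c_perm_8 : allGrid (T.permOK1 D) 10904 1363 22 = true := by decide +kernel
theorem c_perm_9 : allGrid (T.permOK1 D) 12267 1363 22 = true := by decide +kernel
theorem c_perm_10 : allGrid (T.permOK1 D) 13630 1363 22 = true := by decide +kernel
theorem c_perm_11 : allGrid (T.permOK1 D) 14993 1363 22 = true := by decide +kernel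
theorem c_perm_12 : allGrid (T.permOK1 D) 16356 1363 22 = true := by decide +kernel
theorem c_perm_13 : allGrid (T.permOK1 D) 17719 1363 22 = true := by decide +kernel
theorem c_perm_14 : allGrid (T.permOK1 D) 19082 1363 22 = true := by decide +kernel
theorem c_perm_15 : allGrid (T.permOK1 D) 20445 1363 22 = true := by decide +kernel
theorem c_perm_16 : allGrid (T.permOK1 D) 21808 1363 22 = true := by decide +kernel
theorem c_perm_17 : allGrid (T.permOK1 D) 23171 1363 22 = true := by decide +kernel
theorem c_perm_18 : allGrid (T.permOK1 D) 24534 1363 22 = true := by decide +kernel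
theorem c_perm_19 : allGrid (T.permOK1 D) 25897 1363 22 = true := by decide +kernel
theorem c_perm_20 : allGrid (T.permOK1 D) 27260 1363 22 = true := by decide +kernel
theorem c_perm_21 : allGrid (T.permOK1 D) 28623 1363 22 = true := by decide +kernel
theorem c_perm_22 : allGrid (T.permOK1 D) 29986 1363 22 = true := by decide +kernel
theorem c_perm_23 : allGrid (T.permOK1 D) 31349 1363 22 = true := by decide +kernel
theorem c_perm_24 : allGrid (T.permOK1 D) 32712 1363 22 = true := by decide +kernel
theorem c_perm_25 : allGrid (T.permOK1 D) 34075 1363 22 = true := by decide +kernel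
theorem c_perm_26 : allGrid (T.permOK1 D) 35438 1363 22 = true := by decide +kernel
theorem c_perm_27 : allGrid (T.permOK1 D) 36801 1363 22 = true := by decide +kernel
theorem c_perm_28 : allGrid (T.permOK1 D) 38164 1363 22 = true := by decide +kernel
theorem c_perm_29 : allGrid (T.permOK1 D) 39527 1363 22 = true := by decide +kernel
theorem c_perm_30 : allGrid (T.permOK1 D) 40890 1363 22 = true := by decide +kernel
theorem c_perm_31 : allGrid (T.permOK1 D) 42253 1363 22 = true := by decide +kernel
theorem c_perm_32 : allGrid (T.permOK1 D) 43616 1363 22 = true := by decide +kernel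
theorem c_perm_33 : allGrid (T.permOK1 D) 44979 1363 22 = true := by decide +kernel
theorem c_perm_34 : allGrid (T.permOK1 D) 46342 1363 22 = true := by decide +kernel
theorem c_perm_35 : allGrid (T.permOK1 D) 47705 1363 22 = true := by decide +kernel
theorem c_perm_36 : allGrid (T.permOK1 D) 49068 1363 22 = true := by decide +kernel
theorem c_perm_37 : allGrid (T.permOK1 D) 50431 1363 22 = true := by decide +kernel
theorem c_perm_38 : allGrid (T.permOK1 D) 51794 1363 22 = true := by decide +kernel
theorem c_perm_39 : allGrid (T.permOK1 D) 53157 1363 22 = true := by decide +kernel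
theorem c_perm_40 : allGrid (T.permOK1 D) 54520 1363 22 = true := by decide +kernel
theorem c_perm_41 : allGrid (T.permOK1 D) 55883 1363 22 = true := by decide +kernel
theorem c_perm_42 : allGrid (T.permOK1 D) 57246 1363 22 = true := by decide +kernel
theorem c_perm_43 : allGrid (T.permOK1 D) 58609 1363 22 = true := by decide +kernel
theorem c_perm_44 : allGrid (T.permOK1 D) 59972 1363 22 = true := by decide +kernel
theorem c_perm_45 : allGrid (T.permOK1 D) 61335 1363 22 = true := by decide +kernel
theorem c_perm_46 : allGrid (T.permOK1 D) 62698 1363 22 = true := by decide +kernel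
theorem c_perm_47 : allGrid (T.permOK1 D) 64061 1363 22 = true := by decide +kernel
theorem c_perm_48 : allGrid (T.permOK1 D) 65424 1363 22 = true := by decide +kernel
theorem c_perm_49 : allGrid (T.permOK1 D) 66787 38 22 = true := by decide +kernel
theorem c_act0_0 : allRange (fun i => Nat.beq (actR0 i) i) 0 8571 = true := by decide +kernel
theorem c_act0_1 : allRange (fun i => Nat.beq (actR0 i) i) 8571 8571 = true := by decide +kernel
theorem c_act0_2 : allRange (fun i => Nat.beq (actR0 i) i) 17142 8571 = true := by decide +kernel
theorem c_act0_3 : allRange (fun i => Nat.beq (actR0 i) i) 25713 8571 = true := by decide +kernel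
theorem c_act0_4 : allRange (fun i => Nat.beq (actR0 i) i) 34284 8571 = true := by decide +kernel
theorem c_act0_5 : allRange (fun i => Nat.beq (actR0 i) i) 42855 8571 = true := by decide +kernel
theorem c_act0_6 : allRange (fun i => Nat.beq (actR0 i) i) 51426 8571 = true := by decide +kernel
theorem c_act0_7 : allRange (fun i => Nat.beq (actR0 i) i) 59997 6828 = true := by decide +kernel

end Cfsg.Agent.Lib.Helper4.TCD.SC3McLp5A
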