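import Cfsg.Agent.Lib.Helper4.TCD_C3McLR_Acc
import Cfsg.Agent.Lib.Helper4.TC13

namespace Cfsg.Agent.Lib.Helper4.TCD.SC3McLp5W

open Cfsg.Agent.Lib.Helper4.TC Cfsg.Agent.Lib.Helper4.TCD.C3McLR

set_option maxRecDepth 100000
set_option Elab.async false

def chk0 : List Nat := [0, 0, 0, 0, 0, 0, 0]
noncomputable def act0 (i : Nat) : Nat := col1 (col1 (col1 (col1 (col1 (col1 (col1 (i)))))))
theorem act0_eq (i : Nat) : act0 i = Tab.act T D chk0 i := rfl
theorem c0_0 : allRange (fun i => Nat.beq (act0 i) i) 0 6666 = true := by decide +kernel
theorem c0_1 : allRange (fun i => Nat.beq (act0 i) i) 6666 6666 = true := by decide +kernel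
theorem c0_2 : allRange (fun i => Nat.beq (act0 i) i) 13332 6666 = true := by decide +kernel
theorem c0_3 : allRange (fun i => Nat.beq (act0 i) i) 19998 6666 = true := by decide +kernel
theorem c0_4 : allRange (fun i => Nat.beq (act0 i) i) 26664 6666 = true := by decide +kernel
theorem c0_5 : allRange (fun i => Nat.beq (act0 i) i) 33330 6666 = true := by decide +kernel
theorem c0_6 : allRange (fun i => Nat.beq (act0 i) i) 39996 6666 = true := by decide +kernel
theorem c0_7 : allRange (fun i => Nat.beq (act0 i) i) 46662 6666 = true := by decide +kernel
theorem c0_8 : allRange (fun i => Nat.beq (act0 i) i) 53328 6666 = true := by decide +kernel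
theorem c0_9 : allRange (fun i => Nat.beq (act0 i) i) 59994 6666 = true := by decide +kernel
theorem c0_10 : allRange (fun i => Nat.beq (act0 i) i) 66660 165 = true := by decide +kernel
theorem h0 : ∀ i, i < T.N → Tab.relActOK T D chk0 i = true := by
  intro i hi
  rw [Tab.relActOK, ← act0_eq]
  exact (range_glue (range_of_allRange c0_0) (range_glue (range_of_allRange c0_1) (range_glue (range_of_allRange c0_2) (range_glue (range_of_allRange c0_3) (range_glue (range_of_allRange c0_4) (range_glue (range_of_allRange c0_5) (range_glue (range_of_allRange c0_6) (range_glue (range_of_allRange c0_7) (range_glue (range_of_allRange c0_8) (range_glue (range_of_allRange c0_9) (range_of_allRange c0_10))))))))))) i (Nat.zero_le _) hi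

def chk1 : List Nat := [2, 2, 2, 2, 2, 2, 2]
noncomputable def act1 (i : Nat) : Nat := col3 (col3 (col3 (col3 (col3 (col3 (col3 (i)))))))
theorem act1_eq (i : Nat) : act1 i = Tab.act T D chk1 i := rfl
theorem c1_0 : allRange (fun i => Nat.beq (act1 i) i) 0 6666 = true := by decide +kernel
theorem c1_1 : allRange (fun i => Nat.beq (act1 i) i) 6666 6666 = true := by decide +kernel
theorem c1_2 : allRange (fun i => Nat.beq (act1 i) i) 13332 6666 = true := by decide +kernel
theorem c1_3 : allRange (fun i => Nat.beq (act1 i) i) 19998 6666 = true := by decide +kernel
theorem c1_4 : allRange (fun i => Nat.beq (act1 i) i) 26664 6666 = true := by decide +kernel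
theorem c1_5 : allRange (fun i => Nat.beq (act1 i) i) 33330 6666 = true := by decide +kernel
theorem c1_6 : allRange (fun i => Nat.beq (act1 i) i) 39996 6666 = true := by decide +kernel
theorem c1_7 : allRange (fun i => Nat.beq (act1 i) i) 46662 6666 = true := by decide +kernel
theorem c1_8 : allRange (fun i => Nat.beq (act1 i) i) 53328 6666 = true := by decide +kernel
theorem c1_9 : allRange (fun i => Nat.beq (act1 i) i) 59994 6666 = true := by decide +kernel
theorem c1_10 : allRange (fun i => Nat.beq (act1 i) i) 66660 165 = true := by decide +kernel
theorem h1 : ∀ i, i < T.N → Tab.relActOK T D chk1 i = true := by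
  intro i hi
  rw [Tab.relActOK, ← act1_eq]
  exact (range_glue (range_of_allRange c1_0) (range_glue (range_of_allRange c1_1) (range_glue (range_of_allRange c1_2) (range_glue (range_of_allRange c1_3) (range_glue (range_of_allRange c1_4) (range_glue (range_of_allRange c1_5) (range_glue (range_of_allRange c1_6) (range_glue (range_of_allRange c1_7) (range_glue (range_of_allRange c1_8) (range_glue (range_of_allRange c1_9) (range_of_allRange c1_10))))))))))) i (Nat.zero_le _) hi

def chk2 : List Nat := [4, 4, 4]
noncomputable def act2 (i : Nat) : Nat := col5 (col5 (col5 (i)))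
theorem act2_eq (i : Nat) : act2 i = Tab.act T D chk2 i := rfl
theorem c2_0 : allRange (fun i => Nat.beq (act2 i) i) 0 12000 = true := by decide +kernel
theorem c2_1 : allRange (fun i => Nat.beq (act2 i) i) 12000 12000 = true := by decide +kernel
theorem c2_2 : allRange (fun i => Nat.beq (act2 i) i) 24000 12000 = true := by decide +kernel
theorem c2_3 : allRange (fun i => Nat.beq (act2 i) i) 36000 12000 = true := by decide +kernel
theorem c2_4 : allRange (fun i => Nat.beq (act2 i) i) 48000 12000 = true := by decide +kernel
theorem c2_5 : allRange (fun i => Nat.beq (act2 i) i) 60000 6825 = true := by decide +kernel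
theorem h2 : ∀ i, i < T.N → Tab.relActOK T D chk2 i = true := by
  intro i hi
  rw [Tab.relActOK, ← act2_eq]
  exact (range_glue (range_of_allRange c2_0) (range_glue (range_of_allRange c2_1) (range_glue (range_of_allRange c2_2) (range_glue (range_of_allRange c2_3) (range_glue (range_of_allRange c2_4) (range_of_allRange c2_5)))))) i (Nat.zero_le _) hi

def chk3 : List Nat := [0, 0, 0, 3, 4, 1, 1, 3, 0, 3, 0, 5, 3, 3, 0, 2, 7]
noncomputable def act3 (i : Nat) : Nat := col1 (col1 (col1 (col2 (col5 (col0 (col0 (col2 (col1 (col2 (col1 (col4 (col2 (col2 (col1 (col3 (col6 (i)))))))))))))))))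
theorem act3_eq (i : Nat) : act3 i = Tab.act T D chk3 i := rfl
theorem c3_0 : allRange (fun i => Nat.beq (act3 i) i) 0 3157 = true := by decide +kernel
theorem c3_1 : allRange (fun i => Nat.beq (act3 i) i) 3157 3157 = true := by decide +kernel
theorem c3_2 : allRange (fun i => Nat.beq (act3 i) i) 6314 3157 = true := by decide +kernel
theorem c3_3 : allRange (fun i => Nat.beq (act3 i) i) 9471 3157 = true := by decide +kernel
theorem c3_4 : allRange (fun i => Nat.beq (act3 i) i) 12628 3157 = true := by decide +kernel
theorem c3_5 : allRange (fun i => Nat.beq (act3 i) i) 15785 3157 = true := by decide +kernel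
theorem c3_6 : allRange (fun i => Nat.beq (act3 i) i) 18942 3157 = true := by decide +kernel
theorem c3_7 : allRange (fun i => Nat.beq (act3 i) i) 22099 3157 = true := by decide +kernel
theorem c3_8 : allRange (fun i => Nat.beq (act3 i) i) 25256 3157 = true := by decide +kernel
theorem c3_9 : allRange (fun i => Nat.beq (act3 i) i) 28413 3157 = true := by decide +kernel
theorem c3_10 : allRange (fun i => Nat.beq (act3 i) i) 31570 3157 = true := by decide +kernel
theorem c3_11 : allRange (fun i => Nat.beq (act3 i) i) 34727 3157 = true := by decide +kernel
theorem c3_12 : allRange (fun i => Nat.beq (act3 i) i) 37884 3157 = true := by decide +kernel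
theorem c3_13 : allRange (fun i => Nat.beq (act3 i) i) 41041 3157 = true := by decide +kernel
theorem c3_14 : allRange (fun i => Nat.beq (act3 i) i) 44198 3157 = true := by decide +kernel
theorem c3_15 : allRange (fun i => Nat.beq (act3 i) i) 47355 3157 = true := by decide +kernel
theorem c3_16 : allRange (fun i => Nat.beq (act3 i) i) 50512 3157 = true := by decide +kernel
theorem c3_17 : allRange (fun i => Nat.beq (act3 i) i) 53669 3157 = true := by decide +kernel
theorem c3_18 : allRange (fun i => Nat.beq (act3 i) i) 56826 3157 = true := by decide +kernel
theorem c3_19 : allRange (fun i => Nat.beq (act3 i) i) 59983 3157 = true := by decide +kernel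
theorem c3_20 : allRange (fun i => Nat.beq (act3 i) i) 63140 3157 = true := by decide +kernel
theorem c3_21 : allRange (fun i => Nat.beq (act3 i) i) 66297 528 = true := by decide +kernel
theorem h3 : ∀ i, i < T.N → Tab.relActOK T D chk3 i = true := by
  intro i hi
  rw [Tab.relActOK, ← act3_eq]
  exact (range_glue (range_of_allRange c3_0) (range_glue (range_of_allRange c3_1) (range_glue (range_of_allRange c3_2) (range_glue (range_of_allRange c3_3) (range_glue (range_of_allRange c3_4) (range_glue (range_of_allRange c3_5) (range_glue (range_of_allRange c3_6) (range_glue (range_of_allRange c3_7) (range_glue (range_of_allRange c3_8) (range_glue (range_of_allRange c3_9) (range_glue (range_of_allRange c3_10) (range_glue (range_of_allRange c3_11) (range_glue (range_of_allRange c3_12) (range_glue (range_of_allRange c3_13) (range_glue (range_of_allRange c3_14) (range_glue (range_of_allRange c3_15) (range_glue (range_of_allRange c3_16) (range_glue (range_of_allRange c3_17) (range_glue (range_of_allRange c3_18) (range_glue (range_of_allRange c3_19) (range_glue (range_of_allRange c3_20) (range_of_allRange c3_21)))))))))))))))))))))) i (Nat.zero_le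 _) hi

def chk4 : List Nat := [0, 0, 3, 0, 2, 2, 5, 0, 2, 1, 3, 1, 5, 2, 0, 3]
noncomputable def act4 (i : Nat) : Nat := col1 (col1 (col2 (col1 (col3 (col3 (col4 (col1 (col3 (col0 (col2 (col0 (col4 (col3 (col1 (col2 (i))))))))))))))))
theorem act4_eq (i : Nat) : act4 i = Tab.act T D chk4 i := rfl
theorem c4_0 : allRange (fun i => Nat.beq (act4 i) i) 0 3333 = true := by decide +kernel
theorem c4_1 : allRange (fun i => Nat.beq (act4 i) i) 3333 3333 = true := by decide +kernel
theorem c4_2 : allRange (fun i => Nat.beq (act4 i) i) 6666 3333 = true := by decide +kernel
theorem c4_3 : allRange (fun i => Nat.beq (act4 i) i) 9999 3333 = true := by decide +kernel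
theorem c4_4 : allRange (fun i => Nat.beq (act4 i) i) 13332 3333 = true := by decide +kernel
theorem c4_5 : allRange (fun i => Nat.beq (act4 i) i) 16665 3333 = true := by decide +kernel
theorem c4_6 : allRange (fun i => Nat.beq (act4 i) i) 19998 3333 = true := by decide +kernel
theorem c4_7 : allRange (fun i => Nat.beq (act4 i) i) 23331 3333 = true := by decide +kernel
theorem c4_8 : allRange (fun i => Nat.beq (act4 i) i) 26664 3333 = true := by decide +kernel
theorem c4_9 : allRange (fun i => Nat.beq (act4 i) i) 29997 3333 = true := by decide +kernel
theorem c4_10 : allRange (fun i => Nat.beq (act4 i) i) 33330 3333 = true := by decide +kernel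
theorem c4_11 : allRange (fun i => Nat.beq (act4 i) i) 36663 3333 = true := by decide +kernel
theorem c4_12 : allRange (fun i => Nat.beq (act4 i) i) 39996 3333 = true := by decide +kernel
theorem c4_13 : allRange (fun i => Nat.beq (act4 i) i) 43329 3333 = true := by decide +kernel
theorem c4_14 : allRange (fun i => Nat.beq (act4 i) i) 46662 3333 = true := by decide +kernel
theorem c4_15 : allRange (fun i => Nat.beq (act4 i) i) 49995 3333 = true := by decide +kernel
theorem c4_16 : allRange (fun i => Nat.beq (act4 i) i) 53328 3333 = true := by decide +kernel
theorem c4_17 : allRange (fun i => Nat.beq (act4 i) i) 56661 3333 = true := by decide +kernel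
theorem c4_18 : allRange (fun i => Nat.beq (act4 i) i) 59994 3333 = true := by decide +kernel
theorem c4_19 : allRange (fun i => Nat.beq (act4 i) i) 63327 3333 = true := by decide +kernel
theorem c4_20 : allRange (fun i => Nat.beq (act4 i) i) 66660 165 = true := by decide +kernel
theorem h4 : ∀ i, i < T.N → Tab.relActOK T D chk4 i = true := by
  intro i hi
  rw [Tab.relActOK, ← act4_eq]
  exact (range_glue (range_of_allRange c4_0) (range_glue (range_of_allRange c4_1) (range_glue (range_of_allRange c4_2) (range_glue (range_of_allRange c4_3) (range_glue (range_of_allRange c4_4) (range_glue (range_of_allRange c4_5) (range_glue (range_of_allRange c4_6) (range_glue (range_of_allRange c4_7) (range_glue (range_of_allRange c4_8) (range_glue (range_of_allRange c4_9) (range_glue (range_of_allRange c4_10) (range_glue (range_of_allRange c4_11) (range_glue (range_of_allRange c4_12) (range_glue (range_of_allRange c4_13) (range_glue (range_of_allRange c4_14) (range_glue (range_of_allRange c4_15) (range_glue (range_of_allRange c4_16) (range_glue (range_of_allRange c4_17) (range_glue (range_of_allRange c4_18) (range_glue (range_of_allRange c4_19) (range_of_allRange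 c4_20))))))))))))))))))))) i (Nat.zero_le _) hi

def chk5 : List Nat := [0, 0, 2, 1, 3, 0, 2, 0, 5, 2, 2, 0, 2, 0, 5, 3, 6]
noncomputable def act5 (i : Nat) : Nat := col1 (col1 (col3 (col0 (col2 (col1 (col3 (col1 (col4 (col3 (col3 (col1 (col3 (col1 (col4 (col2 (col7 (i)))))))))))))))))
theorem act5_eq (i : Nat) : act5 i = Tab.act T D chk5 i := rfl
theorem c5_0 : allRange (fun i => Nat.beq (act5 i) i) 0 3157 = true := by decide +kernel
theorem c5_1 : allRange (fun i => Nat.beq (act5 i) i) 3157 3157 = true := by decide +kernel
theorem c5_2 : allRange (fun i => Nat.beq (act5 i) i) 6314 3157 = true := by decide +kernel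
theorem c5_3 : allRange (fun i => Nat.beq (act5 i) i) 9471 3157 = true := by decide +kernel
theorem c5_4 : allRange (fun i => Nat.beq (act5 i) i) 12628 3157 = true := by decide +kernel
theorem c5_5 : allRange (fun i => Nat.beq (act5 i) i) 15785 3157 = true := by decide +kernel
theorem c5_6 : allRange (fun i => Nat.beq (act5 i) i) 18942 3157 = true := by decide +kernel
theorem c5_7 : allRange (fun i => Nat.beq (act5 i) i) 22099 3157 = true := by decide +kernel
theorem c5_8 : allRange (fun i => Nat.beq (act5 i) i) 25256 3157 = true := by decide +kernel
theorem c5_9 : allRange (fun i => Nat.beq (act5 i) i) 28413 3157 = true := by decide +kernel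
theorem c5_10 : allRange (fun i => Nat.beq (act5 i) i) 31570 3157 = true := by decide +kernel
theorem c5_11 : allRange (fun i => Nat.beq (act5 i) i) 34727 3157 = true := by decide +kernel
theorem c5_12 : allRange (fun i => Nat.beq (act5 i) i) 37884 3157 = true := by decide +kernel
theorem c5_13 : allRange (fun i => Nat.beq (act5 i) i) 41041 3157 = true := by decide +kernel
theorem c5_14 : allRange (fun i => Nat.beq (act5 i) i) 44198 3157 = true := by decide +kernel
theorem c5_15 : allRange (fun i => Nat.beq (act5 i) i) 47355 3157 = true := by decide +kernel
theorem c5_16 : allRange (fun i => Nat.beq (act5 i) i) 50512 3157 = true := by decide +kernel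
theorem c5_17 : allRange (fun i => Nat.beq (act5 i) i) 53669 3157 = true := by decide +kernel
theorem c5_18 : allRange (fun i => Nat.beq (act5 i) i) 56826 3157 = true := by decide +kernel
theorem c5_19 : allRange (fun i => Nat.beq (act5 i) i) 59983 3157 = true := by decide +kernel
theorem c5_20 : allRange (fun i => Nat.beq (act5 i) i) 63140 3157 = true := by decide +kernel
theorem c5_21 : allRange (fun i => Nat.beq (act5 i) i) 66297 528 = true := by decide +kernel
theorem h5 : ∀ i, i < T.N → Tab.relActOK T D chk5 i = true := by
  intro i hi
  rw [Tab.relActOK, ← act5_eq]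
  exact (range_glue (range_of_allRange c5_0) (range_glue (range_of_allRange c5_1) (range_glue (range_of_allRange c5_2) (range_glue (range_of_allRange c5_3) (range_glue (range_of_allRange c5_4) (range_glue (range_of_allRange c5_5) (range_glue (range_of_allRange c5_6) (range_glue (range_of_allRange c5_7) (range_glue (range_of_allRange c5_8) (range_glue (range_of_allRange c5_9) (range_glue (range_of_allRange c5_10) (range_glue (range_of_allRange c5_11) (range_glue (range_of_allRange c5_12) (range_glue (range_of_allRange c5_13) (range_glue (range_of_allRange c5_14) (range_glue (range_of_allRange c5_15) (range_glue (range_of_allRange c5_16) (range_glue (range_of_allRange c5_17) (range_glue (range_of_allRange c5_18) (range_glue (range_of_allRange c5_19) (range_glue (range_of_allRange c5_20) (range_of_allRange c5_21)))))))))))))))))))))) i (Nat.zero_le _) hi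

def chk6 : List Nat := [0, 0, 2, 0, 3, 5, 0, 2, 0, 0, 4, 1, 4, 0, 0, 3, 3]
noncomputable def act6 (i : Nat) : Nat := col1 (col1 (col3 (col1 (col2 (col4 (col1 (col3 (col1 (col1 (col5 (col0 (col5 (col1 (col1 (col2 (col2 (i)))))))))))))))))
theorem act6_eq (i : Nat) : act6 i = Tab.act T D chk6 i := rfl
theorem c6_0 : allRange (fun i => Nat.beq (act6 i) i) 0 3157 = true := by decide +kernel
theorem c6_1 : allRange (fun i => Nat.beq (act6 i) i) 3157 3157 = true := by decide +kernel
theorem c6_2 : allRange (fun i => Nat.beq (act6 i) i) 6314 3157 = true := by decide +kernel
theorem c6_3 : allRange (fun i => Nat.beq (act6 i) i) 9471 3157 = true := by decide +kernel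
theorem c6_4 : allRange (fun i => Nat.beq (act6 i) i) 12628 3157 = true := by decide +kernel
theorem c6_5 : allRange (fun i => Nat.beq (act6 i) i) 15785 3157 = true := by decide +kernel
theorem c6_6 : allRange (fun i => Nat.beq (act6 i) i) 18942 3157 = true := by decide +kernel
theorem c6_7 : allRange (fun i => Nat.beq (act6 i) i) 22099 3157 = true := by decide +kernel
theorem c6_8 : allRange (fun i => Nat.beq (act6 i) i) 25256 3157 = true := by decide +kernel
theorem c6_9 : allRange (fun i => Nat.beq (act6 i) i) 28413 3157 = true := by decide +kernel
theorem c6_10 : allRange (fun i => Nat.beq (act6 i) i) 31570 3157 = true := by decide +kernel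
theorem c6_11 : allRange (fun i => Nat.beq (act6 i) i) 34727 3157 = true := by decide +kernel
theorem c6_12 : allRange (fun i => Nat.beq (act6 i) i) 37884 3157 = true := by decide +kernel
theorem c6_13 : allRange (fun i => Nat.beq (act6 i) i) 41041 3157 = true := by decide +kernel
theorem c6_14 : allRange (fun i => Nat.beq (act6 i) i) 44198 3157 = true := by decide +kernel
theorem c6_15 : allRange (fun i => Nat.beq (act6 i) i) 47355 3157 = true := by decide +kernel
theorem c6_16 : allRange (fun i => Nat.beq (act6 i) i) 50512 3157 = true := by decide +kernel
theorem c6_17 : allRange (fun i => Nat.beq (act6 i) i) 53669 3157 = true := by decide +kernel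
theorem c6_18 : allRange (fun i => Nat.beq (act6 i) i) 56826 3157 = true := by decide +kernel
theorem c6_19 : allRange (fun i => Nat.beq (act6 i) i) 59983 3157 = true := by decide +kernel
theorem c6_20 : allRange (fun i => Nat.beq (act6 i) i) 63140 3157 = true := by decide +kernel
theorem c6_21 : allRange (fun i => Nat.beq (act6 i) i) 66297 528 = true := by decide +kernel
theorem h6 : ∀ i, i < T.N → Tab.relActOK T D chk6 i = true := by
  intro i hi
  rw [Tab.relActOK, ← act6_eq]
  exact (range_glue (range_of_allRange c6_0) (range_glue (range_of_allRange c6_1) (range_glue (range_of_allRange c6_2) (range_glue (range_of_allRange c6_3) (range_glue (range_of_allRange c6_4) (range_glue (range_of_allRange c6_5) (range_glue (range_of_allRange c6_6) (range_glue (range_of_allRange c6_7) (range_glue (range_of_allRange c6_8) (range_glue (range_of_allRange c6_9) (range_glue (range_of_allRange c6_10) (range_glue (range_of_allRange c6_11) (range_glue (range_of_allRange c6_12) (range_glue (range_of_allRange c6_13) (range_glue (range_of_allRange c6_14) (range_glue (range_of_allRange c6_15) (range_glue (range_of_allRange c6_16) (range_glue (range_of_allRange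 c6_17) (range_glue (range_of_allRange c6_18) (range_glue (range_of_allRange c6_19) (range_glue (range_of_allRange c6_20) (range_of_allRange c6_21)))))))))))))))))))))) i (Nat.zero_le _) hi

def chk7 : List Nat := [6, 6, 6]
noncomputable def act7 (i : Nat) : Nat := col7 (col7 (col7 (i)))
theorem act7_eq (i : Nat) : act7 i = Tab.act T D chk7 i := rfl
theorem c7_0 : allRange (fun i => Nat.beq (act7 i) i) 0 12000 = true := by decide +kernel
theorem c7_1 : allRange (fun i => Nat.beq (act7 i) i) 12000 12000 = true := by decide +kernel
theorem c7_2 : allRange (fun i => Nat.beq (act7 i) i) 24000 12000 = true := by decide +kernel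
theorem c7_3 : allRange (fun i => Nat.beq (act7 i) i) 36000 12000 = true := by decide +kernel
theorem c7_4 : allRange (fun i => Nat.beq (act7 i) i) 48000 12000 = true := by decide +kernel
theorem c7_5 : allRange (fun i => Nat.beq (act7 i) i) 60000 6825 = true := by decide +kernel
theorem h7 : ∀ i, i < T.N → Tab.relActOK T D chk7 i = true := by
  intro i hi
  rw [Tab.relActOK, ← act7_eq]
  exact (range_glue (range_of_allRange c7_0) (range_glue (range_of_allRange c7_1) (range_glue (range_of_allRange c7_2) (range_glue (range_of_allRange c7_3) (range_glue (range_of_allRange c7_4) (range_of_allRange c7_5)))))) i (Nat.zero_le _) hi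

def chk8 : List Nat := [7, 1, 6, 0]
noncomputable def act8 (i : Nat) : Nat := col6 (col0 (col7 (col1 (i))))
theorem act8_eq (i : Nat) : act8 i = Tab.act T D chk8 i := rfl
theorem c8_0 : allRange (fun i => Nat.beq (act8 i) i) 0 10000 = true := by decide +kernel
theorem c8_1 : allRange (fun i => Nat.beq (act8 i) i) 10000 10000 = true := by decide +kernel
theorem c8_2 : allRange (fun i => Nat.beq (act8 i) i) 20000 10000 = true := by decide +kernel
theorem c8_3 : allRange (fun i => Nat.beq (act8 i) i) 30000 10000 = true := by decide +kernel
theorem c8_4 : allRange (fun i => Nat.beq (act8 i) i) 40000 10000 = true := by decide +kernel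
theorem c8_5 : allRange (fun i => Nat.beq (act8 i) i) 50000 10000 = true := by decide +kernel
theorem c8_6 : allRange (fun i => Nat.beq (act8 i) i) 60000 6825 = true := by decide +kernel
theorem h8 : ∀ i, i < T.N → Tab.relActOK T D chk8 i = true := by
  intro i hi
  rw [Tab.relActOK, ← act8_eq]
  exact (range_glue (range_of_allRange c8_0) (range_glue (range_of_allRange c8_1) (range_glue (range_of_allRange c8_2) (range_glue (range_of_allRange c8_3) (range_glue (range_of_allRange c8_4) (range_glue (range_of_allRange c8_5) (range_of_allRange c8_6))))))) i (Nat.zero_le _) hi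

def chk9 : List Nat := [7, 3, 6, 2]
noncomputable def act9 (i : Nat) : Nat := col6 (col2 (col7 (col3 (i))))
theorem act9_eq (i : Nat) : act9 i = Tab.act T D chk9 i := rfl
theorem c9_0 : allRange (fun i => Nat.beq (act9 i) i) 0 10000 = true := by decide +kernel
theorem c9_1 : allRange (fun i => Nat.beq (act9 i) i) 10000 10000 = true := by decide +kernel
theorem c9_2 : allRange (fun i => Nat.beq (act9 i) i) 20000 10000 = true := by decide +kernel
theorem c9_3 : allRange (fun i => Nat.beq (act9 i) i) 30000 10000 = true := by decide +kernel
theorem c9_4 : allRange (fun i => Nat.beq (act9 i) i) 40000 10000 = true := by decide +kernel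
theorem c9_5 : allRange (fun i => Nat.beq (act9 i) i) 50000 10000 = true := by decide +kernel
theorem c9_6 : allRange (fun i => Nat.beq (act9 i) i) 60000 6825 = true := by decide +kernel
theorem h9 : ∀ i, i < T.N → Tab.relActOK T D chk9 i = true := by
  intro i hi
  rw [Tab.relActOK, ← act9_eq]
  exact (range_glue (range_of_allRange c9_0) (range_glue (range_of_allRange c9_1) (range_glue (range_of_allRange c9_2) (range_glue (range_of_allRange c9_3) (range_glue (range_of_allRange c9_4) (range_glue (range_of_allRange c9_5) (range_of_allRange c9_6))))))) i (Nat.zero_le _) hi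

def chk10 : List Nat := [7, 5, 6, 4]
noncomputable def act10 (i : Nat) : Nat := col6 (col4 (col7 (col5 (i))))
theorem act10_eq (i : Nat) : act10 i = Tab.act T D chk10 i := rfl
theorem c10_0 : allRange (fun i => Nat.beq (act10 i) i) 0 10000 = true := by decide +kernel
theorem c10_1 : allRange (fun i => Nat.beq (act10 i) i) 10000 10000 = true := by decide +kernel
theorem c10_2 : allRange (fun i => Nat.beq (act10 i) i) 20000 10000 = true := by decide +kernel
theorem c10_3 : allRange (fun i => Nat.beq (act10 i) i) 30000 10000 = true := by decide +kernel
theorem c10_4 : allRange (fun i => Nat.beq (act10 i) i) 40000 10000 = true := by decide +kernel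
theorem c10_5 : allRange (fun i => Nat.beq (act10 i) i) 50000 10000 = true := by decide +kernel
theorem c10_6 : allRange (fun i => Nat.beq (act10 i) i) 60000 6825 = true := by decide +kernel
theorem h10 : ∀ i, i < T.N → Tab.relActOK T D chk10 i = true := by
  intro i hi
  rw [Tab.relActOK, ← act10_eq]
  exact (range_glue (range_of_allRange c10_0) (range_glue (range_of_allRange c10_1) (range_glue (range_of_allRange c10_2) (range_glue (range_of_allRange c10_3) (range_glue (range_of_allRange c10_4) (range_glue (range_of_allRange c10_5) (range_of_allRange c10_6))))))) i (Nat.zero_le _) hi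

def chk11 : List Nat := [0, 0, 0, 0, 0, 0, 0]
noncomputable def act11 (i : Nat) : Nat := col1 (col1 (col1 (col1 (col1 (col1 (col1 (i)))))))
theorem act11_eq (i : Nat) : act11 i = Tab.act T D chk11 i := rfl
theorem c11_0 : allRange (fun i => Nat.beq (act11 i) i) 0 6666 = true := by decide +kernel
theorem c11_1 : allRange (fun i => Nat.beq (act11 i) i) 6666 6666 = true := by decide +kernel
theorem c11_2 : allRange (fun i => Nat.beq (act11 i) i) 13332 6666 = true := by decide +kernel
theorem c11_3 : allRange (fun i => Nat.beq (act11 i) i) 19998 6666 = true := by decide +kernel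
theorem c11_4 : allRange (fun i => Nat.beq (act11 i) i) 26664 6666 = true := by decide +kernel
theorem c11_5 : allRange (fun i => Nat.beq (act11 i) i) 33330 6666 = true := by decide +kernel
theorem c11_6 : allRange (fun i => Nat.beq (act11 i) i) 39996 6666 = true := by decide +kernel
theorem c11_7 : allRange (fun i => Nat.beq (act11 i) i) 46662 6666 = true := by decide +kernel
theorem c11_8 : allRange (fun i => Nat.beq (act11 i) i) 53328 6666 = true := by decide +kernel
theorem c11_9 : allRange (fun i => Nat.beq (act11 i) i) 59994 6666 = true := by decide +kernel
theorem c11_10 : allRange (fun i => Nat.beq (act11 i) i) 66660 165 = true := by decide +kernel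
theorem h11 : ∀ i, i < T.N → Tab.relActOK T D chk11 i = true := by
  intro i hi
  rw [Tab.relActOK, ← act11_eq]
  exact (range_glue (range_of_allRange c11_0) (range_glue (range_of_allRange c11_1) (range_glue (range_of_allRange c11_2) (range_glue (range_of_allRange c11_3) (range_glue (range_of_allRange c11_4) (range_glue (range_of_allRange c11_5) (range_glue (range_of_allRange c11_6) (range_glue (range_of_allRange c11_7) (range_glue (range_of_allRange c11_8) (range_glue (range_of_allRange c11_9) (range_of_allRange c11_10))))))))))) i (Nat.zero_le _) hi

def chk12 : List Nat := [2, 2, 2, 2, 2, 2, 2]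
noncomputable def act12 (i : Nat) : Nat := col3 (col3 (col3 (col3 (col3 (col3 (col3 (i)))))))
theorem act12_eq (i : Nat) : act12 i = Tab.act T D chk12 i := rfl
theorem c12_0 : allRange (fun i => Nat.beq (act12 i) i) 0 6666 = true := by decide +kernel
theorem c12_1 : allRange (fun i => Nat.beq (act12 i) i) 6666 6666 = true := by decide +kernel
theorem c12_2 : allRange (fun i => Nat.beq (act12 i) i) 13332 6666 = true := by decide +kernel
theorem c12_3 : allRange (fun i => Nat.beq (act12 i) i) 19998 6666 = true := by decide +kernel
theorem c12_4 : allRange (fun i => Nat.beq (act12 i) i) 26664 6666 = true := by decide +kernel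
theorem c12_5 : allRange (fun i => Nat.beq (act12 i) i) 33330 6666 = true := by decide +kernel
theorem c12_6 : allRange (fun i => Nat.beq (act12 i) i) 39996 6666 = true := by decide +kernel
theorem c12_7 : allRange (fun i => Nat.beq (act12 i) i) 46662 6666 = true := by decide +kernel
theorem c12_8 : allRange (fun i => Nat.beq (act12 i) i) 53328 6666 = true := by decide +kernel
theorem c12_9 : allRange (fun i => Nat.beq (act12 i) i) 59994 6666 = true := by decide +kernel
theorem c12_10 : allRange (fun i => Nat.beq (act12 i) i) 66660 165 = true := by decide +kernel
theorem h12 : ∀ i, i < T.N → Tab.relActOK T D chk12 i = true := by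
  intro i hi
  rw [Tab.relActOK, ← act12_eq]
  exact (range_glue (range_of_allRange c12_0) (range_glue (range_of_allRange c12_1) (range_glue (range_of_allRange c12_2) (range_glue (range_of_allRange c12_3) (range_glue (range_of_allRange c12_4) (range_glue (range_of_allRange c12_5) (range_glue (range_of_allRange c12_6) (range_glue (range_of_allRange c12_7) (range_glue (range_of_allRange c12_8) (range_glue (range_of_allRange c12_9) (range_of_allRange c12_10))))))))))) i (Nat.zero_le _) hi

def chk13 : List Nat := [0, 0, 2, 0, 2, 2, 2, 1, 2, 2, 1, 2]
noncomputable def act13 (i : Nat) : Nat := col1 (col1 (col3 (col1 (col3 (col3 (col3 (col0 (col3 (col3 (col0 (col3 (i))))))))))))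
theorem act13_eq (i : Nat) : act13 i = Tab.act T D chk13 i := rfl
theorem c13_0 : allRange (fun i => Nat.beq (act13 i) i) 0 4285 = true := by decide +kernel
theorem c13_1 : allRange (fun i => Nat.beq (act13 i) i) 4285 4285 = true := by decide +kernel
theorem c13_2 : allRange (fun i => Nat.beq (act13 i) i) 8570 4285 = true := by decide +kernel
theorem c13_3 : allRange (fun i => Nat.beq (act13 i) i) 12855 4285 = true := by decide +kernel
theorem c13_4 : allRange (fun i => Nat.beq (act13 i) i) 17140 4285 = true := by decide +kernel
theorem c13_5 : allRange (fun i => Nat.beq (act13 i) i) 21425 4285 = true := by decide +kernel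
theorem c13_6 : allRange (fun i => Nat.beq (act13 i) i) 25710 4285 = true := by decide +kernel
theorem c13_7 : allRange (fun i => Nat.beq (act13 i) i) 29995 4285 = true := by decide +kernel
theorem c13_8 : allRange (fun i => Nat.beq (act13 i) i) 34280 4285 = true := by decide +kernel
theorem c13_9 : allRange (fun i => Nat.beq (act13 i) i) 38565 4285 = true := by decide +kernel
theorem c13_10 : allRange (fun i => Nat.beq (act13 i) i) 42850 4285 = true := by decide +kernel
theorem c13_11 : allRange (fun i => Nat.beq (act13 i) i) 47135 4285 = true := by decide +kernel
theorem c13_12 : allRange (fun i => Nat.beq (act13 i) i) 51420 4285 = true := by decide +kernel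
theorem c13_13 : allRange (fun i => Nat.beq (act13 i) i) 55705 4285 = true := by decide +kernel
theorem c13_14 : allRange (fun i => Nat.beq (act13 i) i) 59990 4285 = true := by decide +kernel
theorem c13_15 : allRange (fun i => Nat.beq (act13 i) i) 64275 2550 = true := by decide +kernel
theorem h13 : ∀ i, i < T.N → Tab.relActOK T D chk13 i = true := by
  intro i hi
  rw [Tab.relActOK, ← act13_eq]
  exact (range_glue (range_of_allRange c13_0) (range_glue (range_of_allRange c13_1) (range_glue (range_of_allRange c13_2) (range_glue (range_of_allRange c13_3) (range_glue (range_of_allRange c13_4) (range_glue (range_of_allRange c13_5) (range_glue (range_of_allRange c13_6) (range_glue (range_of_allRange c13_7) (range_glue (range_of_allRange c13_8) (range_glue (range_of_allRange c13_9) (range_glue (range_of_allRange c13_10) (range_glue (range_of_allRange c13_11) (range_glue (range_of_allRange c13_12) (range_glue (range_of_allRange c13_13) (range_glue (range_of_allRange c13_14) (range_of_allRange c13_15)))))))))))))))) i (Nat.zero_le _) hi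

def chk14 : List Nat := [0, 2, 0, 3, 1, 3, 3, 1, 2, 0, 2, 2]
noncomputable def act14 (i : Nat) : Nat := col1 (col3 (col1 (col2 (col0 (col2 (col2 (col0 (col3 (col1 (col3 (col3 (i))))))))))))
theorem act14_eq (i : Nat) : act14 i = Tab.act T D chk14 i := rfl
theorem c14_0 : allRange (fun i => Nat.beq (act14 i) i) 0 4285 = true := by decide +kernel
theorem c14_1 : allRange (fun i => Nat.beq (act14 i) i) 4285 4285 = true := by decide +kernel
theorem c14_2 : allRange (fun i => Nat.beq (act14 i) i) 8570 4285 = true := by decide +kernel
theorem c14_3 : allRange (fun i => Nat.beq (act14 i) i) 12855 4285 = true := by decide +kernel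
theorem c14_4 : allRange (fun i => Nat.beq (act14 i) i) 17140 4285 = true := by decide +kernel
theorem c14_5 : allRange (fun i => Nat.beq (act14 i) i) 21425 4285 = true := by decide +kernel
theorem c14_6 : allRange (fun i => Nat.beq (act14 i) i) 25710 4285 = true := by decide +kernel
theorem c14_7 : allRange (fun i => Nat.beq (act14 i) i) 29995 4285 = true := by decide +kernel
theorem c14_8 : allRange (fun i => Nat.beq (act14 i) i) 34280 4285 = true := by decide +kernel
theorem c14_9 : allRange (fun i => Nat.beq (act14 i) i) 38565 4285 = true := by decide +kernel
theorem c14_10 : allRange (fun i => Nat.beq (act14 i) i) 42850 4285 = true := by decide +kernel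
theorem c14_11 : allRange (fun i => Nat.beq (act14 i) i) 47135 4285 = true := by decide +kernel
theorem c14_12 : allRange (fun i => Nat.beq (act14 i) i) 51420 4285 = true := by decide +kernel
theorem c14_13 : allRange (fun i => Nat.beq (act14 i) i) 55705 4285 = true := by decide +kernel
theorem c14_14 : allRange (fun i => Nat.beq (act14 i) i) 59990 4285 = true := by decide +kernel
theorem c14_15 : allRange (fun i => Nat.beq (act14 i) i) 64275 2550 = true := by decide +kernel
theorem h14 : ∀ i, i < T.N → Tab.relActOK T D chk14 i = true := by
  intro i hi
  rw [Tab.relActOK, ← act14_eq]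
  exact (range_glue (range_of_allRange c14_0) (range_glue (range_of_allRange c14_1) (range_glue (range_of_allRange c14_2) (range_glue (range_of_allRange c14_3) (range_glue (range_of_allRange c14_4) (range_glue (range_of_allRange c14_5) (range_glue (range_of_allRange c14_6) (range_glue (range_of_allRange c14_7) (range_glue (range_of_allRange c14_8) (range_glue (range_of_allRange c14_9) (range_glue (range_of_allRange c14_10) (range_glue (range_of_allRange c14_11) (range_glue (range_of_allRange c14_12) (range_glue (range_of_allRange c14_13) (range_glue (range_of_allRange c14_14) (range_of_allRange c14_15)))))))))))))))) i (Nat.zero_le _) hi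

def chk15 : List Nat := [4, 1, 3, 1, 1, 2, 0, 3, 5, 0, 3, 0, 2, 0, 0, 2, 0, 0]
noncomputable def act15 (i : Nat) : Nat := col5 (col0 (col2 (col0 (col0 (col3 (col1 (col2 (col4 (col1 (col2 (col1 (col3 (col1 (col1 (col3 (col1 (col1 (i))))))))))))))))))
theorem act15_eq (i : Nat) : act15 i = Tab.act T D chk15 i := rfl
theorem c15_0 : allRange (fun i => Nat.beq (act15 i) i) 0 3000 = true := by decide +kernel
theorem c15_1 : allRange (fun i => Nat.beq (act15 i) i) 3000 3000 = true := by decide +kernel
theorem c15_2 : allRange (fun i => Nat.beq (act15 i) i) 6000 3000 = true := by decide +kernel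
theorem c15_3 : allRange (fun i => Nat.beq (act15 i) i) 9000 3000 = true := by decide +kernel
theorem c15_4 : allRange (fun i => Nat.beq (act15 i) i) 12000 3000 = true := by decide +kernel
theorem c15_5 : allRange (fun i => Nat.beq (act15 i) i) 15000 3000 = true := by decide +kernel
theorem c15_6 : allRange (fun i => Nat.beq (act15 i) i) 18000 3000 = true := by decide +kernel
theorem c15_7 : allRange (fun i => Nat.beq (act15 i) i) 21000 3000 = true := by decide +kernel
theorem c15_8 : allRange (fun i => Nat.beq (act15 i) i) 24000 3000 = true := by decide +kernel
theorem c15_9 : allRange (fun i => Nat.beq (act15 i) i) 27000 3000 = true := by decide +kernel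
theorem c15_10 : allRange (fun i => Nat.beq (act15 i) i) 30000 3000 = true := by decide +kernel
theorem c15_11 : allRange (fun i => Nat.beq (act15 i) i) 33000 3000 = true := by decide +kernel
theorem c15_12 : allRange (fun i => Nat.beq (act15 i) i) 36000 3000 = true := by decide +kernel
theorem c15_13 : allRange (fun i => Nat.beq (act15 i) i) 39000 3000 = true := by decide +kernel
theorem c15_14 : allRange (fun i => Nat.beq (act15 i) i) 42000 3000 = true := by decide +kernel
theorem c15_15 : allRange (fun i => Nat.beq (act15 i) i) 45000 3000 = true := by decide +kernel
theorem c15_16 : allRange (fun i => Nat.beq (act15 i) i) 48000 3000 = true := by decide +kernel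
theorem c15_17 : allRange (fun i => Nat.beq (act15 i) i) 51000 3000 = true := by decide +kernel
theorem c15_18 : allRange (fun i => Nat.beq (act15 i) i) 54000 3000 = true := by decide +kernel
theorem c15_19 : allRange (fun i => Nat.beq (act15 i) i) 57000 3000 = true := by decide +kernel
theorem c15_20 : allRange (fun i => Nat.beq (act15 i) i) 60000 3000 = true := by decide +kernel
theorem c15_21 : allRange (fun i => Nat.beq (act15 i) i) 63000 3000 = true := by decide +kernel
theorem c15_22 : allRange (fun i => Nat.beq (act15 i) i) 66000 825 = true := by decide +kernel
theorem h15 : ∀ i, i < T.N → Tab.relActOK T D chk15 i = true := by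
  intro i hi
  rw [Tab.relActOK, ← act15_eq]
  exact (range_glue (range_of_allRange c15_0) (range_glue (range_of_allRange c15_1) (range_glue (range_of_allRange c15_2) (range_glue (range_of_allRange c15_3) (range_glue (range_of_allRange c15_4) (range_glue (range_of_allRange c15_5) (range_glue (range_of_allRange c15_6) (range_glue (range_of_allRange c15_7) (range_glue (range_of_allRange c15_8) (range_glue (range_of_allRange c15_9) (range_glue (range_of_allRange c15_10) (range_glue (range_of_allRange c15_11) (range_glue (range_of_allRange c15_12) (range_glue (range_of_allRange c15_13) (range_glue (range_of_allRange c15_14) (range_glue (range_of_allRange c15_15) (range_glue (range_of_allRange c15_16) (range_glue (range_of_allRange c15_17) (range_glue (range_of_allRange c15_18) (range_glue (range_of_allRange c15_19) (range_glue (range_of_allRange c15_20) (range_glue (range_of_allRange c15_21) (range_of_allRange c15_22))))))))))))))))))))))) i (Nat.zero_le _) hi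

def chk16 : List Nat := [1, 3, 1, 1, 2, 0, 3, 1, 3, 1, 1, 2, 0, 3, 1, 3, 1, 1, 2, 0, 3, 1, 3, 1, 1, 2, 0, 3]
noncomputable def act16 (i : Nat) : Nat := col0 (col2 (col0 (col0 (col3 (col1 (col2 (col0 (col2 (col0 (col0 (col3 (col1 (col2 (col0 (col2 (col0 (col0 (col3 (col1 (col2 (col0 (col2 (col0 (col0 (col3 (col1 (col2 (i))))))))))))))))))))))))))))
theorem act16_eq (i : Nat) : act16 i = Tab.act T D chk16 i := rfl
theorem c16_0 : allRange (fun i => Nat.beq (act16 i) i) 0 2000 = true := by decide +kernel
theorem c16_1 : allRange (fun i => Nat.beq (act16 i) i) 2000 2000 = true := by decide +kernel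
theorem c16_2 : allRange (fun i => Nat.beq (act16 i) i) 4000 2000 = true := by decide +kernel
theorem c16_3 : allRange (fun i => Nat.beq (act16 i) i) 6000 2000 = true := by decide +kernel
theorem c16_4 : allRange (fun i => Nat.beq (act16 i) i) 8000 2000 = true := by decide +kernel
theorem c16_5 : allRange (fun i => Nat.beq (act16 i) i) 10000 2000 = true := by decide +kernel
theorem c16_6 : allRange (fun i => Nat.beq (act16 i) i) 12000 2000 = true := by decide +kernel
theorem c16_7 : allRange (fun i => Nat.beq (act16 i) i) 14000 2000 = true := by decide +kernel
theorem c16_8 : allRange (fun i => Nat.beq (act16 i) i) 16000 2000 = true := by decide +kernel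
theorem c16_9 : allRange (fun i => Nat.beq (act16 i) i) 18000 2000 = true := by decide +kernel
theorem c16_10 : allRange (fun i => Nat.beq (act16 i) i) 20000 2000 = true := by decide +kernel
theorem c16_11 : allRange (fun i => Nat.beq (act16 i) i) 22000 2000 = true := by decide +kernel
theorem c16_12 : allRange (fun i => Nat.beq (act16 i) i) 24000 2000 = true := by decide +kernel
theorem c16_13 : allRange (fun i => Nat.beq (act16 i) i) 26000 2000 = true := by decide +kernel
theorem c16_14 : allRange (fun i => Nat.beq (act16 i) i) 28000 2000 = true := by decide +kernel
theorem c16_15 : allRange (fun i => Nat.beq (act16 i) i) 30000 2000 = true := by decide +kernel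
theorem c16_16 : allRange (fun i => Nat.beq (act16 i) i) 32000 2000 = true := by decide +kernel
theorem c16_17 : allRange (fun i => Nat.beq (act16 i) i) 34000 2000 = true := by decide +kernel
theorem c16_18 : allRange (fun i => Nat.beq (act16 i) i) 36000 2000 = true := by decide +kernel
theorem c16_19 : allRange (fun i => Nat.beq (act16 i) i) 38000 2000 = true := by decide +kernel
theorem c16_20 : allRange (fun i => Nat.beq (act16 i) i) 40000 2000 = true := by decide +kernel
theorem c16_21 : allRange (fun i => Nat.beq (act16 i) i) 42000 2000 = true := by decide +kernel
theorem c16_22 : allRange (fun i => Nat.beq (act16 i) i) 44000 2000 = true := by decide +kernel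
theorem c16_23 : allRange (fun i => Nat.beq (act16 i) i) 46000 2000 = true := by decide +kernel
theorem c16_24 : allRange (fun i => Nat.beq (act16 i) i) 48000 2000 = true := by decide +kernel
theorem c16_25 : allRange (fun i => Nat.beq (act16 i) i) 50000 2000 = true := by decide +kernel
theorem c16_26 : allRange (fun i => Nat.beq (act16 i) i) 52000 2000 = true := by decide +kernel
theorem c16_27 : allRange (fun i => Nat.beq (act16 i) i) 54000 2000 = true := by decide +kernel
theorem c16_28 : allRange (fun i => Nat.beq (act16 i) i) 56000 2000 = true := by decide +kernel
theorem c16_29 : allRange (fun i => Nat.beq (act16 i) i) 58000 2000 = true := by decide +kernel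
theorem c16_30 : allRange (fun i => Nat.beq (act16 i) i) 60000 2000 = true := by decide +kernel
theorem c16_31 : allRange (fun i => Nat.beq (act16 i) i) 62000 2000 = true := by decide +kernel
theorem c16_32 : allRange (fun i => Nat.beq (act16 i) i) 64000 2000 = true := by decide +kernel
theorem c16_33 : allRange (fun i => Nat.beq (act16 i) i) 66000 825 = true := by decide +kernel
theorem h16 : ∀ i, i < T.N → Tab.relActOK T D chk16 i = true := by
  intro i hi
  rw [Tab.relActOK, ← act16_eq]
  exact (range_glue (range_of_allRange c16_0) (range_glue (range_of_allRange c16_1) (range_glue (range_of_allRange c16_2) (range_glue (range_of_allRange c16_3) (range_glue (range_of_allRange c16_4) (range_glue (range_of_allRange c16_5) (range_glue (range_of_allRange c16_6) (range_glue (range_of_allRange c16_7) (range_glue (range_of_allRange c16_8) (range_glue (range_of_allRange c16_9) (range_glue (range_of_allRange c16_10) (range_glue (range_of_allRange c16_11) (range_glue (range_of_allRange c16_12) (range_glue (range_of_allRange c16_13) (range_glue (range_of_allRange c16_14) (range_glue (range_of_allRange c16_15) (range_glue (range_of_allRange c16_16)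 (range_glue (range_of_allRange c16_17) (range_glue (range_of_allRange c16_18) (range_glue (range_of_allRange c16_19) (range_glue (range_of_allRange c16_20) (range_glue (range_of_allRange c16_21) (range_glue (range_of_allRange c16_22) (range_glue (range_of_allRange c16_23) (range_glue (range_of_allRange c16_24) (range_glue (range_of_allRange c16_25) (range_glue (range_of_allRange c16_26) (range_glue (range_of_allRange c16_27) (range_glue (range_of_allRange c16_28) (range_glue (range_of_allRange c16_29) (range_glue (range_of_allRange c16_30) (range_glue (range_of_allRange c16_31) (range_glue (range_of_allRange c16_32) (range_of_allRange c16_33)))))))))))))))))))))))))))))))))) i (Nat.zero_le _) hi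

def chk17 : List Nat := [1, 1, 3, 1, 1, 3, 1, 2, 1, 1, 1, 3, 1, 1, 3, 1, 2, 1, 1, 1, 3, 1, 1, 3, 1, 2, 1, 1, 1, 3, 1, 1, 3, 1, 2, 1]
noncomputable def act17 (i : Nat) : Nat := col0 (col0 (col2 (col0 (col0 (col2 (col0 (col3 (col0 (col0 (col0 (col2 (col0 (col0 (col2 (col0 (col3 (col0 (col0 (col0 (col2 (col0 (col0 (col2 (col0 (col3 (col0 (col0 (col0 (col2 (col0 (col0 (col2 (col0 (col3 (col0 (i))))))))))))))))))))))))))))))))))))
theorem act17_eq (i : Nat) : act17 i = Tab.act T D chk17 i := rfl
theorem c17_0 : allRange (fun i => Nat.beq (act17 i) i) 0 1578 = true := by decide +kernel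
theorem c17_1 : allRange (fun i => Nat.beq (act17 i) i) 1578 1578 = true := by decide +kernel
theorem c17_2 : allRange (fun i => Nat.beq (act17 i) i) 3156 1578 = true := by decide +kernel
theorem c17_3 : allRange (fun i => Nat.beq (act17 i) i) 4734 1578 = true := by decide +kernel
theorem c17_4 : allRange (fun i => Nat.beq (act17 i) i) 6312 1578 = true := by decide +kernel
theorem c17_5 : allRange (fun i => Nat.beq (act17 i) i) 7890 1578 = true := by decide +kernel
theorem c17_6 : allRange (fun i => Nat.beq (act17 i) i) 9468 1578 = true := by decide +kernel
theorem c17_7 : allRange (fun i => Nat.beq (act17 i) i) 11046 1578 = true := by decide +kernel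
theorem c17_8 : allRange (fun i => Nat.beq (act17 i) i) 12624 1578 = true := by decide +kernel
theorem c17_9 : allRange (fun i => Nat.beq (act17 i) i) 14202 1578 = true := by decide +kernel
theorem c17_10 : allRange (fun i => Nat.beq (act17 i) i) 15780 1578 = true := by decide +kernel
theorem c17_11 : allRange (fun i => Nat.beq (act17 i) i) 17358 1578 = true := by decide +kernel
theorem c17_12 : allRange (fun i => Nat.beq (act17 i) i) 18936 1578 = true := by decide +kernel
theorem c17_13 : allRange (fun i => Nat.beq (act17 i) i) 20514 1578 = true := by decide +kernel
theorem c17_14 : allRange (fun i => Nat.beq (act17 i) i) 22092 1578 = true := by decide +kernel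
theorem c17_15 : allRange (fun i => Nat.beq (act17 i) i) 23670 1578 = true := by decide +kernel
theorem c17_16 : allRange (fun i => Nat.beq (act17 i) i) 25248 1578 = true := by decide +kernel
theorem c17_17 : allRange (fun i => Nat.beq (act17 i) i) 26826 1578 = true := by decide +kernel
theorem c17_18 : allRange (fun i => Nat.beq (act17 i) i) 28404 1578 = true := by decide +kernel
theorem c17_19 : allRange (fun i => Nat.beq (act17 i) i) 29982 1578 = true := by decide +kernel
theorem c17_20 : allRange (fun i => Nat.beq (act17 i) i) 31560 1578 = true := by decide +kernel
theorem c17_21 : allRange (fun i => Nat.beq (act17 i) i) 33138 1578 = true := by decide +kernel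
theorem c17_22 : allRange (fun i => Nat.beq (act17 i) i) 34716 1578 = true := by decide +kernel
theorem c17_23 : allRange (fun i => Nat.beq (act17 i) i) 36294 1578 = true := by decide +kernel
theorem c17_24 : allRange (fun i => Nat.beq (act17 i) i) 37872 1578 = true := by decide +kernel
theorem c17_25 : allRange (fun i => Nat.beq (act17 i) i) 39450 1578 = true := by decide +kernel
theorem c17_26 : allRange (fun i => Nat.beq (act17 i) i) 41028 1578 = true := by decide +kernel
theorem c17_27 : allRange (fun i => Nat.beq (act17 i) i) 42606 1578 = true := by decide +kernel
theorem c17_28 : allRange (fun i => Nat.beq (act17 i) i) 44184 1578 = true := by decide +kernel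
theorem c17_29 : allRange (fun i => Nat.beq (act17 i) i) 45762 1578 = true := by decide +kernel
theorem c17_30 : allRange (fun i => Nat.beq (act17 i) i) 47340 1578 = true := by decide +kernel
theorem c17_31 : allRange (fun i => Nat.beq (act17 i) i) 48918 1578 = true := by decide +kernel
theorem c17_32 : allRange (fun i => Nat.beq (act17 i) i) 50496 1578 = true := by decide +kernel
theorem c17_33 : allRange (fun i => Nat.beq (act17 i) i) 52074 1578 = true := by decide +kernel
theorem c17_34 : allRange (fun i => Nat.beq (act17 i) i) 53652 1578 = true := by decide +kernel
theorem c17_35 : allRange (fun i => Nat.beq (act17 i) i) 55230 1578 = true := by decide +kernel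
theorem c17_36 : allRange (fun i => Nat.beq (act17 i) i) 56808 1578 = true := by decide +kernel
theorem c17_37 : allRange (fun i => Nat.beq (act17 i) i) 58386 1578 = true := by decide +kernel
theorem c17_38 : allRange (fun i => Nat.beq (act17 i) i) 59964 1578 = true := by decide +kernel
theorem c17_39 : allRange (fun i => Nat.beq (act17 i) i) 61542 1578 = true := by decide +kernel
theorem c17_40 : allRange (fun i => Nat.beq (act17 i) i) 63120 1578 = true := by decide +kernel
theorem c17_41 : allRange (fun i => Nat.beq (act17 i) i) 64698 1578 = true := by decide +kernel
theorem c17_42 : allRange (fun i => Nat.beq (act17 i) i) 66276 549 = true := by decide +kernel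
theorem h17 : ∀ i, i < T.N → Tab.relActOK T D chk17 i = true := by
  intro i hi
  rw [Tab.relActOK, ← act17_eq]
  exact (range_glue (range_of_allRange c17_0) (range_glue (range_of_allRange c17_1) (range_glue (range_of_allRange c17_2) (range_glue (range_of_allRange c17_3) (range_glue (range_of_allRange c17_4) (range_glue (range_of_allRange c17_5) (range_glue (range_of_allRange c17_6) (range_glue (range_of_allRange c17_7) (range_glue (range_of_allRange c17_8) (range_glue (range_of_allRange c17_9) (range_glue (range_of_allRange c17_10) (range_glue (range_of_allRange c17_11) (range_glue (range_of_allRange c17_12) (range_glue (range_of_allRange c17_13) (range_glue (range_of_allRange c17_14) (range_glue (range_of_allRange c17_15) (range_glue (range_of_allRange c17_16) (range_glue (range_of_allRange c17_17) (range_glue (range_of_allRange c17_18) (range_glue (range_of_allRange c17_19) (range_glue (range_of_allRange c17_20) (range_glue (range_of_allRange c17_21) (range_glue (range_of_allRange c17_22) (range_glue (range_of_allRange c17_23) (range_glue (range_of_allRange c17_24) (range_glue (range_of_allRange c17_25) (range_glue (range_of_allRange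 c17_26) (range_glue (range_of_allRange c17_27) (range_glue (range_of_allRange c17_28) (range_glue (range_of_allRange c17_29) (range_glue (range_of_allRange c17_30) (range_glue (range_of_allRange c17_31) (range_glue (range_of_allRange c17_32) (range_glue (range_of_allRange c17_33) (range_glue (range_of_allRange c17_34) (range_glue (range_of_allRange c17_35) (range_glue (range_of_allRange c17_36) (range_glue (range_of_allRange c17_37) (range_glue (range_of_allRange c17_38) (range_glue (range_of_allRange c17_39) (range_glue (range_of_allRange c17_40) (range_glue (range_of_allRange c17_41) (range_of_allRange c17_42))))))))))))))))))))))))))))))))))))))))))) i (Nat.zero_le _) hi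

def chk18 : List Nat := [4, 2, 1, 3, 0, 0, 2, 0, 5, 1, 3, 1, 3, 0, 3, 3, 1, 1]
noncomputable def act18 (i : Nat) : Nat := col5 (col3 (col0 (col2 (col1 (col1 (col3 (col1 (col4 (col0 (col2 (col0 (col2 (col1 (col2 (col2 (col0 (col0 (i))))))))))))))))))
theorem act18_eq (i : Nat) : act18 i = Tab.act T D chk18 i := rfl
theorem c18_0 : allRange (fun i => Nat.beq (act18 i) i) 0 3000 = true := by decide +kernel
theorem c18_1 : allRange (fun i => Nat.beq (act18 i) i) 3000 3000 = true := by decide +kernel
theorem c18_2 : allRange (fun i => Nat.beq (act18 i) i) 6000 3000 = true := by decide +kernel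
theorem c18_3 : allRange (fun i => Nat.beq (act18 i) i) 9000 3000 = true := by decide +kernel
theorem c18_4 : allRange (fun i => Nat.beq (act18 i) i) 12000 3000 = true := by decide +kernel
theorem c18_5 : allRange (fun i => Nat.beq (act18 i) i) 15000 3000 = true := by decide +kernel
theorem c18_6 : allRange (fun i => Nat.beq (act18 i) i) 18000 3000 = true := by decide +kernel
theorem c18_7 : allRange (fun i => Nat.beq (act18 i) i) 21000 3000 = true := by decide +kernel
theorem c18_8 : allRange (fun i => Nat.beq (act18 i) i) 24000 3000 = true := by decide +kernel
theorem c18_9 : allRange (fun i => Nat.beq (act18 i) i) 27000 3000 = true := by decide +kernel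
theorem c18_10 : allRange (fun i => Nat.beq (act18 i) i) 30000 3000 = true := by decide +kernel
theorem c18_11 : allRange (fun i => Nat.beq (act18 i) i) 33000 3000 = true := by decide +kernel
theorem c18_12 : allRange (fun i => Nat.beq (act18 i) i) 36000 3000 = true := by decide +kernel
theorem c18_13 : allRange (fun i => Nat.beq (act18 i) i) 39000 3000 = true := by decide +kernel
theorem c18_14 : allRange (fun i => Nat.beq (act18 i) i) 42000 3000 = true := by decide +kernel
theorem c18_15 : allRange (fun i => Nat.beq (act18 i) i) 45000 3000 = true := by decide +kernel
theorem c18_16 : allRange (fun i => Nat.beq (act18 i) i) 48000 3000 = true := by decide +kernel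
theorem c18_17 : allRange (fun i => Nat.beq (act18 i) i) 51000 3000 = true := by decide +kernel
theorem c18_18 : allRange (fun i => Nat.beq (act18 i) i) 54000 3000 = true := by decide +kernel
theorem c18_19 : allRange (fun i => Nat.beq (act18 i) i) 57000 3000 = true := by decide +kernel
theorem c18_20 : allRange (fun i => Nat.beq (act18 i) i) 60000 3000 = true := by decide +kernel
theorem c18_21 : allRange (fun i => Nat.beq (act18 i) i) 63000 3000 = true := by decide +kernel
theorem c18_22 : allRange (fun i => Nat.beq (act18 i) i) 66000 825 = true := by decide +kernel
theorem h18 : ∀ i, i < T.N → Tab.relActOK T D chk18 i = true := by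
  intro i hi
  rw [Tab.relActOK, ← act18_eq]
  exact (range_glue (range_of_allRange c18_0) (range_glue (range_of_allRange c18_1) (range_glue (range_of_allRange c18_2) (range_glue (range_of_allRange c18_3) (range_glue (range_of_allRange c18_4) (range_glue (range_of_allRange c18_5) (range_glue (range_of_allRange c18_6) (range_glue (range_of_allRange c18_7) (range_glue (range_of_allRange c18_8) (range_glue (range_of_allRange c18_9) (range_glue (range_of_allRange c18_10) (range_glue (range_of_allRange c18_11) (range_glue (range_of_allRange c18_12) (range_glue (range_of_allRange c18_13) (range_glue (range_of_allRange c18_14) (range_glue (range_of_allRange c18_15) (range_glue (range_of_allRange c18_16) (range_glue (range_of_allRange c18_17) (range_glue (range_of_allRange c18_18) (range_glue (range_of_allRange c18_19) (range_glue (range_of_allRange c18_20) (range_glue (range_of_allRange c18_21) (range_of_allRange c18_22))))))))))))))))))))))) i (Nat.zero_le _) hi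

def chk19 : List Nat := [2, 1, 3, 0, 0, 2, 0, 2, 1, 3, 0, 0, 2, 0, 2, 1, 3, 0, 0, 2, 0, 2, 1, 3, 0, 0, 2, 0]
noncomputable def act19 (i : Nat) : Nat := col3 (col0 (col2 (col1 (col1 (col3 (col1 (col3 (col0 (col2 (col1 (col1 (col3 (col1 (col3 (col0 (col2 (col1 (col1 (col3 (col1 (col3 (col0 (col2 (col1 (col1 (col3 (col1 (i))))))))))))))))))))))))))))
theorem act19_eq (i : Nat) : act19 i = Tab.act T D chk19 i := rfl
theorem c19_0 : allRange (fun i => Nat.beq (act19 i) i) 0 2000 = true := by decide +kernel
theorem c19_1 : allRange (fun i => Nat.beq (act19 i) i) 2000 2000 = true := by decide +kernel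
theorem c19_2 : allRange (fun i => Nat.beq (act19 i) i) 4000 2000 = true := by decide +kernel
theorem c19_3 : allRange (fun i => Nat.beq (act19 i) i) 6000 2000 = true := by decide +kernel
theorem c19_4 : allRange (fun i => Nat.beq (act19 i) i) 8000 2000 = true := by decide +kernel
theorem c19_5 : allRange (fun i => Nat.beq (act19 i) i) 10000 2000 = true := by decide +kernel
theorem c19_6 : allRange (fun i => Nat.beq (act19 i) i) 12000 2000 = true := by decide +kernel
theorem c19_7 : allRange (fun i => Nat.beq (act19 i) i) 14000 2000 = true := by decide +kernel
theorem c19_8 : allRange (fun i => Nat.beq (act19 i) i) 16000 2000 = true := by decide +kernel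
theorem c19_9 : allRange (fun i => Nat.beq (act19 i) i) 18000 2000 = true := by decide +kernel
theorem c19_10 : allRange (fun i => Nat.beq (act19 i) i) 20000 2000 = true := by decide +kernel
theorem c19_11 : allRange (fun i => Nat.beq (act19 i) i) 22000 2000 = true := by decide +kernel
theorem c19_12 : allRange (fun i => Nat.beq (act19 i) i) 24000 2000 = true := by decide +kernel
theorem c19_13 : allRange (fun i => Nat.beq (act19 i) i) 26000 2000 = true := by decide +kernel
theorem c19_14 : allRange (fun i => Nat.beq (act19 i) i) 28000 2000 = true := by decide +kernel
theorem c19_15 : allRange (fun i => Nat.beq (act19 i) i) 30000 2000 = true := by decide +kernel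
theorem c19_16 : allRange (fun i => Nat.beq (act19 i) i) 32000 2000 = true := by decide +kernel
theorem c19_17 : allRange (fun i => Nat.beq (act19 i) i) 34000 2000 = true := by decide +kernel
theorem c19_18 : allRange (fun i => Nat.beq (act19 i) i) 36000 2000 = true := by decide +kernel
theorem c19_19 : allRange (fun i => Nat.beq (act19 i) i) 38000 2000 = true := by decide +kernel
theorem c19_20 : allRange (fun i => Nat.beq (act19 i) i) 40000 2000 = true := by decide +kernel
theorem c19_21 : allRange (fun i => Nat.beq (act19 i) i) 42000 2000 = true := by decide +kernel
theorem c19_22 : allRange (fun i => Nat.beq (act19 i) i) 44000 2000 = true := by decide +kernel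
theorem c19_23 : allRange (fun i => Nat.beq (act19 i) i) 46000 2000 = true := by decide +kernel
theorem c19_24 : allRange (fun i => Nat.beq (act19 i) i) 48000 2000 = true := by decide +kernel
theorem c19_25 : allRange (fun i => Nat.beq (act19 i) i) 50000 2000 = true := by decide +kernel
theorem c19_26 : allRange (fun i => Nat.beq (act19 i) i) 52000 2000 = true := by decide +kernel
theorem c19_27 : allRange (fun i => Nat.beq (act19 i) i) 54000 2000 = true := by decide +kernel
theorem c19_28 : allRange (fun i => Nat.beq (act19 i) i) 56000 2000 = true := by decide +kernel
theorem c19_29 : allRange (fun i => Nat.beq (act19 i) i) 58000 2000 = true := by decide +kernel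
theorem c19_30 : allRange (fun i => Nat.beq (act19 i) i) 60000 2000 = true := by decide +kernel
theorem c19_31 : allRange (fun i => Nat.beq (act19 i) i) 62000 2000 = true := by decide +kernel
theorem c19_32 : allRange (fun i => Nat.beq (act19 i) i) 64000 2000 = true := by decide +kernel
theorem c19_33 : allRange (fun i => Nat.beq (act19 i) i) 66000 825 = true := by decide +kernel
theorem h19 : ∀ i, i < T.N → Tab.relActOK T D chk19 i = true := by
  intro i hi
  rw [Tab.relActOK, ← act19_eq]
  exact (range_glue (range_of_allRange c19_0) (range_glue (range_of_allRange c19_1) (range_glue (range_of_allRange c19_2) (range_glue (range_of_allRange c19_3) (range_glue (range_of_allRange c19_4) (range_glue (range_of_allRange c19_5) (range_glue (range_of_allRange c19_6) (range_glue (range_of_allRange c19_7) (range_glue (range_of_allRange c19_8) (range_glue (range_of_allRange c19_9) (range_glue (range_of_allRange c19_10) (range_glue (range_of_allRange c19_11) (range_glue (range_of_allRange c19_12) (range_glue (range_of_allRange c19_13) (range_glue (range_of_allRange c19_14) (range_glue (range_of_allRange c19_15) (range_glue (range_of_allRange c19_16)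 (range_glue (range_of_allRange c19_17) (range_glue (range_of_allRange c19_18) (range_glue (range_of_allRange c19_19) (range_glue (range_of_allRange c19_20) (range_glue (range_of_allRange c19_21) (range_glue (range_of_allRange c19_22) (range_glue (range_of_allRange c19_23) (range_glue (range_of_allRange c19_24) (range_glue (range_of_allRange c19_25) (range_glue (range_of_allRange c19_26) (range_glue (range_of_allRange c19_27) (range_glue (range_of_allRange c19_28) (range_glue (range_of_allRange c19_29) (range_glue (range_of_allRange c19_30) (range_glue (range_of_allRange c19_31) (range_glue (range_of_allRange c19_32) (range_of_allRange c19_33)))))))))))))))))))))))))))))))))) i (Nat.zero_le _) hi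

def chk20 : List Nat := [0, 0, 2, 2, 1, 2, 0, 2, 0, 0, 0, 2, 2, 1, 2, 0, 2, 0, 0, 0, 2, 2, 1, 2, 0, 2, 0, 0, 0, 2, 2, 1, 2, 0, 2, 0]
noncomputable def act20 (i : Nat) : Nat := col1 (col1 (col3 (col3 (col0 (col3 (col1 (col3 (col1 (col1 (col1 (col3 (col3 (col0 (col3 (col1 (col3 (col1 (col1 (col1 (col3 (col3 (col0 (col3 (col1 (col3 (col1 (col1 (col1 (col3 (col3 (col0 (col3 (col1 (col3 (col1 (i))))))))))))))))))))))))))))))))))))
theorem act20_eq (i : Nat) : act20 i = Tab.act T D chk20 i := rfl
theorem c20_0 : allRange (fun i => Nat.beq (act20 i) i) 0 1578 = true := by decide +kernel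
theorem c20_1 : allRange (fun i => Nat.beq (act20 i) i) 1578 1578 = true := by decide +kernel
theorem c20_2 : allRange (fun i => Nat.beq (act20 i) i) 3156 1578 = true := by decide +kernel
theorem c20_3 : allRange (fun i => Nat.beq (act20 i) i) 4734 1578 = true := by decide +kernel
theorem c20_4 : allRange (fun i => Nat.beq (act20 i) i) 6312 1578 = true := by decide +kernel
theorem c20_5 : allRange (fun i => Nat.beq (act20 i) i) 7890 1578 = true := by decide +kernel
theorem c20_6 : allRange (fun i => Nat.beq (act20 i) i) 9468 1578 = true := by decide +kernel
theorem c20_7 : allRange (fun i => Nat.beq (act20 i) i) 11046 1578 = true := by decide +kernel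
theorem c20_8 : allRange (fun i => Nat.beq (act20 i) i) 12624 1578 = true := by decide +kernel
theorem c20_9 : allRange (fun i => Nat.beq (act20 i) i) 14202 1578 = true := by decide +kernel
theorem c20_10 : allRange (fun i => Nat.beq (act20 i) i) 15780 1578 = true := by decide +kernel
theorem c20_11 : allRange (fun i => Nat.beq (act20 i) i) 17358 1578 = true := by decide +kernel
theorem c20_12 : allRange (fun i => Nat.beq (act20 i) i) 18936 1578 = true := by decide +kernel
theorem c20_13 : allRange (fun i => Nat.beq (act20 i) i) 20514 1578 = true := by decide +kernel
theorem c20_14 : allRange (fun i => Nat.beq (act20 i) i) 22092 1578 = true := by decide +kernel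
theorem c20_15 : allRange (fun i => Nat.beq (act20 i) i) 23670 1578 = true := by decide +kernel
theorem c20_16 : allRange (fun i => Nat.beq (act20 i) i) 25248 1578 = true := by decide +kernel
theorem c20_17 : allRange (fun i => Nat.beq (act20 i) i) 26826 1578 = true := by decide +kernel
theorem c20_18 : allRange (fun i => Nat.beq (act20 i) i) 28404 1578 = true := by decide +kernel
theorem c20_19 : allRange (fun i => Nat.beq (act20 i) i) 29982 1578 = true := by decide +kernel
theorem c20_20 : allRange (fun i => Nat.beq (act20 i) i) 31560 1578 = true := by decide +kernel
theorem c20_21 : allRange (fun i => Nat.beq (act20 i) i) 33138 1578 = true := by decide +kernel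
theorem c20_22 : allRange (fun i => Nat.beq (act20 i) i) 34716 1578 = true := by decide +kernel
theorem c20_23 : allRange (fun i => Nat.beq (act20 i) i) 36294 1578 = true := by decide +kernel
theorem c20_24 : allRange (fun i => Nat.beq (act20 i) i) 37872 1578 = true := by decide +kernel
theorem c20_25 : allRange (fun i => Nat.beq (act20 i) i) 39450 1578 = true := by decide +kernel
theorem c20_26 : allRange (fun i => Nat.beq (act20 i) i) 41028 1578 = true := by decide +kernel
theorem c20_27 : allRange (fun i => Nat.beq (act20 i) i) 42606 1578 = true := by decide +kernel
theorem c20_28 : allRange (fun i => Nat.beq (act20 i) i) 44184 1578 = true := by decide +kernel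
theorem c20_29 : allRange (fun i => Nat.beq (act20 i) i) 45762 1578 = true := by decide +kernel
theorem c20_30 : allRange (fun i => Nat.beq (act20 i) i) 47340 1578 = true := by decide +kernel
theorem c20_31 : allRange (fun i => Nat.beq (act20 i) i) 48918 1578 = true := by decide +kernel
theorem c20_32 : allRange (fun i => Nat.beq (act20 i) i) 50496 1578 = true := by decide +kernel
theorem c20_33 : allRange (fun i => Nat.beq (act20 i) i) 52074 1578 = true := by decide +kernel
theorem c20_34 : allRange (fun i => Nat.beq (act20 i) i) 53652 1578 = true := by decide +kernel
theorem c20_35 : allRange (fun i => Nat.beq (act20 i) i) 55230 1578 = true := by decide +kernel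
theorem c20_36 : allRange (fun i => Nat.beq (act20 i) i) 56808 1578 = true := by decide +kernel
theorem c20_37 : allRange (fun i => Nat.beq (act20 i) i) 58386 1578 = true := by decide +kernel
theorem c20_38 : allRange (fun i => Nat.beq (act20 i) i) 59964 1578 = true := by decide +kernel
theorem c20_39 : allRange (fun i => Nat.beq (act20 i) i) 61542 1578 = true := by decide +kernel
theorem c20_40 : allRange (fun i => Nat.beq (act20 i) i) 63120 1578 = true := by decide +kernel
theorem c20_41 : allRange (fun i => Nat.beq (act20 i) i) 64698 1578 = true := by decide +kernel
theorem c20_42 : allRange (fun i => Nat.beq (act20 i) i) 66276 549 = true := by decide +kernel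
theorem h20 : ∀ i, i < T.N → Tab.relActOK T D chk20 i = true := by
  intro i hi
  rw [Tab.relActOK, ← act20_eq]
  exact (range_glue (range_of_allRange c20_0) (range_glue (range_of_allRange c20_1) (range_glue (range_of_allRange c20_2) (range_glue (range_of_allRange c20_3) (range_glue (range_of_allRange c20_4) (range_glue (range_of_allRange c20_5) (range_glue (range_of_allRange c20_6) (range_glue (range_of_allRange c20_7) (range_glue (range_of_allRange c20_8) (range_glue (range_of_allRange c20_9) (range_glue (range_of_allRange c20_10) (range_glue (range_of_allRange c20_11) (range_glue (range_of_allRange c20_12) (range_glue (range_of_allRange c20_13) (range_glue (range_of_allRange c20_14) (range_glue (range_of_allRange c20_15) (range_glue (range_of_allRange c20_16) (range_glue (range_of_allRange c20_17) (range_glue (range_of_allRange c20_18) (range_glue (range_of_allRange c20_19) (range_glue (range_of_allRange c20_20) (range_glue (range_of_allRange c20_21) (range_glue (range_of_allRange c20_22) (range_glue (range_of_allRange c20_23) (range_glue (range_of_allRange c20_24) (range_glue (range_of_allRange c20_25) (range_glue (range_of_allRange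 c20_26) (range_glue (range_of_allRange c20_27) (range_glue (range_of_allRange c20_28) (range_glue (range_of_allRange c20_29) (range_glue (range_of_allRange c20_30) (range_glue (range_of_allRange c20_31) (range_glue (range_of_allRange c20_32) (range_glue (range_of_allRange c20_33) (range_glue (range_of_allRange c20_34) (range_glue (range_of_allRange c20_35) (range_glue (range_of_allRange c20_36) (range_glue (range_of_allRange c20_37) (range_glue (range_of_allRange c20_38) (range_glue (range_of_allRange c20_39) (range_glue (range_of_allRange c20_40) (range_glue (range_of_allRange c20_41) (range_of_allRange c20_42))))))))))))))))))))))))))))))))))))))))))) i (Nat.zero_le _) hi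

def chk21 : List Nat := [4, 0, 2, 0, 2, 1, 1, 3, 3, 5, 1, 3, 1, 1, 1, 2, 1, 1]
noncomputable def act21 (i : Nat) : Nat := col5 (col1 (col3 (col1 (col3 (col0 (col0 (col2 (col2 (col4 (col0 (col2 (col0 (col0 (col0 (col3 (col0 (col0 (i))))))))))))))))))
theorem act21_eq (i : Nat) : act21 i = Tab.act T D chk21 i := rfl
theorem c21_0 : allRange (fun i => Nat.beq (act21 i) i) 0 3000 = true := by decide +kernel
theorem c21_1 : allRange (fun i => Nat.beq (act21 i) i) 3000 3000 = true := by decide +kernel
theorem c21_2 : allRange (fun i => Nat.beq (act21 i) i) 6000 3000 = true := by decide +kernel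
theorem c21_3 : allRange (fun i => Nat.beq (act21 i) i) 9000 3000 = true := by decide +kernel
theorem c21_4 : allRange (fun i => Nat.beq (act21 i) i) 12000 3000 = true := by decide +kernel
theorem c21_5 : allRange (fun i => Nat.beq (act21 i) i) 15000 3000 = true := by decide +kernel
theorem c21_6 : allRange (fun i => Nat.beq (act21 i) i) 18000 3000 = true := by decide +kernel
theorem c21_7 : allRange (fun i => Nat.beq (act21 i) i) 21000 3000 = true := by decide +kernel
theorem c21_8 : allRange (fun i => Nat.beq (act21 i) i) 24000 3000 = true := by decide +kernel
theorem c21_9 : allRange (fun i => Nat.beq (act21 i) i) 27000 3000 = true := by decide +kernel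
theorem c21_10 : allRange (fun i => Nat.beq (act21 i) i) 30000 3000 = true := by decide +kernel
theorem c21_11 : allRange (fun i => Nat.beq (act21 i) i) 33000 3000 = true := by decide +kernel
theorem c21_12 : allRange (fun i => Nat.beq (act21 i) i) 36000 3000 = true := by decide +kernel
theorem c21_13 : allRange (fun i => Nat.beq (act21 i) i) 39000 3000 = true := by decide +kernel
theorem c21_14 : allRange (fun i => Nat.beq (act21 i) i) 42000 3000 = true := by decide +kernel
theorem c21_15 : allRange (fun i => Nat.beq (act21 i) i) 45000 3000 = true := by decide +kernel
theorem c21_16 : allRange (fun i => Nat.beq (act21 i) i) 48000 3000 = true := by decide +kernel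
theorem c21_17 : allRange (fun i => Nat.beq (act21 i) i) 51000 3000 = true := by decide +kernel
theorem c21_18 : allRange (fun i => Nat.beq (act21 i) i) 54000 3000 = true := by decide +kernel
theorem c21_19 : allRange (fun i => Nat.beq (act21 i) i) 57000 3000 = true := by decide +kernel
theorem c21_20 : allRange (fun i => Nat.beq (act21 i) i) 60000 3000 = true := by decide +kernel
theorem c21_21 : allRange (fun i => Nat.beq (act21 i) i) 63000 3000 = true := by decide +kernel
theorem c21_22 : allRange (fun i => Nat.beq (act21 i) i) 66000 825 = true := by decide +kernel
theorem h21 : ∀ i, i < T.N → Tab.relActOK T D chk21 i = true := by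
  intro i hi
  rw [Tab.relActOK, ← act21_eq]
  exact (range_glue (range_of_allRange c21_0) (range_glue (range_of_allRange c21_1) (range_glue (range_of_allRange c21_2) (range_glue (range_of_allRange c21_3) (range_glue (range_of_allRange c21_4) (range_glue (range_of_allRange c21_5) (range_glue (range_of_allRange c21_6) (range_glue (range_of_allRange c21_7) (range_glue (range_of_allRange c21_8) (range_glue (range_of_allRange c21_9) (range_glue (range_of_allRange c21_10) (range_glue (range_of_allRange c21_11) (range_glue (range_of_allRange c21_12) (range_glue (range_of_allRange c21_13) (range_glue (range_of_allRange c21_14) (range_glue (range_of_allRange c21_15) (range_glue (range_of_allRange c21_16) (range_glue (range_of_allRange c21_17) (range_glue (range_of_allRange c21_18) (range_glue (range_of_allRange c21_19) (range_glue (range_of_allRange c21_20) (range_glue (range_of_allRange c21_21) (range_of_allRange c21_22))))))))))))))))))))))) i (Nat.zero_le _) hi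

def chk22 : List Nat := [0, 2, 0, 2, 1, 1, 3, 3, 0, 2, 0, 2, 1, 1, 3, 3, 0, 2, 0, 2, 1, 1, 3, 3, 0, 2, 0, 2, 1, 1, 3, 3]
noncomputable def act22 (i : Nat) : Nat := col1 (col3 (col1 (col3 (col0 (col0 (col2 (col2 (col1 (col3 (col1 (col3 (col0 (col0 (col2 (col2 (col1 (col3 (col1 (col3 (col0 (col0 (col2 (col2 (col1 (col3 (col1 (col3 (col0 (col0 (col2 (col2 (i))))))))))))))))))))))))))))))))
theorem act22_eq (i : Nat) : act22 i = Tab.act T D chk22 i := rfl
theorem c22_0 : allRange (fun i => Nat.beq (act22 i) i) 0 1764 = true := by decide +kernel
theorem c22_1 : allRange (fun i => Nat.beq (act22 i) i) 1764 1764 = true := by decide +kernel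
theorem c22_2 : allRange (fun i => Nat.beq (act22 i) i) 3528 1764 = true := by decide +kernel
theorem c22_3 : allRange (fun i => Nat.beq (act22 i) i) 5292 1764 = true := by decide +kernel
theorem c22_4 : allRange (fun i => Nat.beq (act22 i) i) 7056 1764 = true := by decide +kernel
theorem c22_5 : allRange (fun i => Nat.beq (act22 i) i) 8820 1764 = true := by decide +kernel
theorem c22_6 : allRange (fun i => Nat.beq (act22 i) i) 10584 1764 = true := by decide +kernel
theorem c22_7 : allRange (fun i => Nat.beq (act22 i) i) 12348 1764 = true := by decide +kernel
theorem c22_8 : allRange (fun i => Nat.beq (act22 i) i) 14112 1764 = true := by decide +kernel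
theorem c22_9 : allRange (fun i => Nat.beq (act22 i) i) 15876 1764 = true := by decide +kernel
theorem c22_10 : allRange (fun i => Nat.beq (act22 i) i) 17640 1764 = true := by decide +kernel
theorem c22_11 : allRange (fun i => Nat.beq (act22 i) i) 19404 1764 = true := by decide +kernel
theorem c22_12 : allRange (fun i => Nat.beq (act22 i) i) 21168 1764 = true := by decide +kernel
theorem c22_13 : allRange (fun i => Nat.beq (act22 i) i) 22932 1764 = true := by decide +kernel
theorem c22_14 : allRange (fun i => Nat.beq (act22 i) i) 24696 1764 = true := by decide +kernel
theorem c22_15 : allRange (fun i => Nat.beq (act22 i) i) 26460 1764 = true := by decide +kernel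
theorem c22_16 : allRange (fun i => Nat.beq (act22 i) i) 28224 1764 = true := by decide +kernel
theorem c22_17 : allRange (fun i => Nat.beq (act22 i) i) 29988 1764 = true := by decide +kernel
theorem c22_18 : allRange (fun i => Nat.beq (act22 i) i) 31752 1764 = true := by decide +kernel
theorem c22_19 : allRange (fun i => Nat.beq (act22 i) i) 33516 1764 = true := by decide +kernel
theorem c22_20 : allRange (fun i => Nat.beq (act22 i) i) 35280 1764 = true := by decide +kernel
theorem c22_21 : allRange (fun i => Nat.beq (act22 i) i) 37044 1764 = true := by decide +kernel
theorem c22_22 : allRange (fun i => Nat.beq (act22 i) i) 38808 1764 = true := by decide +kernel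
theorem c22_23 : allRange (fun i => Nat.beq (act22 i) i) 40572 1764 = true := by decide +kernel
theorem c22_24 : allRange (fun i => Nat.beq (act22 i) i) 42336 1764 = true := by decide +kernel
theorem c22_25 : allRange (fun i => Nat.beq (act22 i) i) 44100 1764 = true := by decide +kernel
theorem c22_26 : allRange (fun i => Nat.beq (act22 i) i) 45864 1764 = true := by decide +kernel
theorem c22_27 : allRange (fun i => Nat.beq (act22 i) i) 47628 1764 = true := by decide +kernel
theorem c22_28 : allRange (fun i => Nat.beq (act22 i) i) 49392 1764 = true := by decide +kernel
theorem c22_29 : allRange (fun i => Nat.beq (act22 i) i) 51156 1764 = true := by decide +kernel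
theorem c22_30 : allRange (fun i => Nat.beq (act22 i) i) 52920 1764 = true := by decide +kernel
theorem c22_31 : allRange (fun i => Nat.beq (act22 i) i) 54684 1764 = true := by decide +kernel
theorem c22_32 : allRange (fun i => Nat.beq (act22 i) i) 56448 1764 = true := by decide +kernel
theorem c22_33 : allRange (fun i => Nat.beq (act22 i) i) 58212 1764 = true := by decide +kernel
theorem c22_34 : allRange (fun i => Nat.beq (act22 i) i) 59976 1764 = true := by decide +kernel
theorem c22_35 : allRange (fun i => Nat.beq (act22 i) i) 61740 1764 = true := by decide +kernel
theorem c22_36 : allRange (fun i => Nat.beq (act22 i) i) 63504 1764 = true := by decide +kernel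
theorem c22_37 : allRange (fun i => Nat.beq (act22 i) i) 65268 1557 = true := by decide +kernel
theorem h22 : ∀ i, i < T.N → Tab.relActOK T D chk22 i = true := by
  intro i hi
  rw [Tab.relActOK, ← act22_eq]
  exact (range_glue (range_of_allRange c22_0) (range_glue (range_of_allRange c22_1) (range_glue (range_of_allRange c22_2) (range_glue (range_of_allRange c22_3) (range_glue (range_of_allRange c22_4) (range_glue (range_of_allRange c22_5) (range_glue (range_of_allRange c22_6) (range_glue (range_of_allRange c22_7) (range_glue (range_of_allRange c22_8) (range_glue (range_of_allRange c22_9) (range_glue (range_of_allRange c22_10) (range_glue (range_of_allRange c22_11) (range_glue (range_of_allRange c22_12) (range_glue (range_of_allRange c22_13) (range_glue (range_of_allRange c22_14) (range_glue (range_of_allRange c22_15) (range_glue (range_of_allRange c22_16) (range_glue (range_of_allRange c22_17) (range_glue (range_of_allRange c22_18) (range_glue (range_of_allRange c22_19) (range_glue (range_of_allRange c22_20) (range_glue (range_of_allRange c22_21) (range_glue (range_of_allRange c22_22) (range_glue (range_of_allRange c22_23) (range_glue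 (range_of_allRange c22_24) (range_glue (range_of_allRange c22_25) (range_glue (range_of_allRange c22_26) (range_glue (range_of_allRange c22_27) (range_glue (range_of_allRange c22_28) (range_glue (range_of_allRange c22_29) (range_glue (range_of_allRange c22_30) (range_glue (range_of_allRange c22_31) (range_glue (range_of_allRange c22_32) (range_glue (range_of_allRange c22_33) (range_glue (range_of_allRange c22_34) (range_glue (range_of_allRange c22_35) (range_glue (range_of_allRange c22_36) (range_of_allRange c22_37)))))))))))))))))))))))))))))))))))))) i (Nat.zero_le _) hi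

def chk23 : List Nat := [0, 0, 3, 0, 0, 0, 2, 0, 0, 0, 3, 0, 0, 0, 2, 0, 0, 0, 3, 0, 0, 0, 2, 0, 0, 0, 3, 0, 0, 0, 2, 0]
noncomputable def act23 (i : Nat) : Nat := col1 (col1 (col2 (col1 (col1 (col1 (col3 (col1 (col1 (col1 (col2 (col1 (col1 (col1 (col3 (col1 (col1 (col1 (col2 (col1 (col1 (col1 (col3 (col1 (col1 (col1 (col2 (col1 (col1 (col1 (col3 (col1 (i))))))))))))))))))))))))))))))))
theorem act23_eq (i : Nat) : act23 i = Tab.act T D chk23 i := rfl
theorem c23_0 : allRange (fun i => Nat.beq (act23 i) i) 0 1764 = true := by decide +kernel
theorem c23_1 : allRange (fun i => Nat.beq (act23 i) i) 1764 1764 = true := by decide +kernel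
theorem c23_2 : allRange (fun i => Nat.beq (act23 i) i) 3528 1764 = true := by decide +kernel
theorem c23_3 : allRange (fun i => Nat.beq (act23 i) i) 5292 1764 = true := by decide +kernel
theorem c23_4 : allRange (fun i => Nat.beq (act23 i) i) 7056 1764 = true := by decide +kernel
theorem c23_5 : allRange (fun i => Nat.beq (act23 i) i) 8820 1764 = true := by decide +kernel
theorem c23_6 : allRange (fun i => Nat.beq (act23 i) i) 10584 1764 = true := by decide +kernel
theorem c23_7 : allRange (fun i => Nat.beq (act23 i) i) 12348 1764 = true := by decide +kernel
theorem c23_8 : allRange (fun i => Nat.beq (act23 i) i) 14112 1764 = true := by decide +kernel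
theorem c23_9 : allRange (fun i => Nat.beq (act23 i) i) 15876 1764 = true := by decide +kernel
theorem c23_10 : allRange (fun i => Nat.beq (act23 i) i) 17640 1764 = true := by decide +kernel
theorem c23_11 : allRange (fun i => Nat.beq (act23 i) i) 19404 1764 = true := by decide +kernel
theorem c23_12 : allRange (fun i => Nat.beq (act23 i) i) 21168 1764 = true := by decide +kernel
theorem c23_13 : allRange (fun i => Nat.beq (act23 i) i) 22932 1764 = true := by decide +kernel
theorem c23_14 : allRange (fun i => Nat.beq (act23 i) i) 24696 1764 = true := by decide +kernel
theorem c23_15 : allRange (fun i => Nat.beq (act23 i) i) 26460 1764 = true := by decide +kernel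
theorem c23_16 : allRange (fun i => Nat.beq (act23 i) i) 28224 1764 = true := by decide +kernel
theorem c23_17 : allRange (fun i => Nat.beq (act23 i) i) 29988 1764 = true := by decide +kernel
theorem c23_18 : allRange (fun i => Nat.beq (act23 i) i) 31752 1764 = true := by decide +kernel
theorem c23_19 : allRange (fun i => Nat.beq (act23 i) i) 33516 1764 = true := by decide +kernel
theorem c23_20 : allRange (fun i => Nat.beq (act23 i) i) 35280 1764 = true := by decide +kernel
theorem c23_21 : allRange (fun i => Nat.beq (act23 i) i) 37044 1764 = true := by decide +kernel
theorem c23_22 : allRange (fun i => Nat.beq (act23 i) i) 38808 1764 = true := by decide +kernel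
theorem c23_23 : allRange (fun i => Nat.beq (act23 i) i) 40572 1764 = true := by decide +kernel
theorem c23_24 : allRange (fun i => Nat.beq (act23 i) i) 42336 1764 = true := by decide +kernel
theorem c23_25 : allRange (fun i => Nat.beq (act23 i) i) 44100 1764 = true := by decide +kernel
theorem c23_26 : allRange (fun i => Nat.beq (act23 i) i) 45864 1764 = true := by decide +kernel
theorem c23_27 : allRange (fun i => Nat.beq (act23 i) i) 47628 1764 = true := by decide +kernel
theorem c23_28 : allRange (fun i => Nat.beq (act23 i) i) 49392 1764 = true := by decide +kernel
theorem c23_29 : allRange (fun i => Nat.beq (act23 i) i) 51156 1764 = true := by decide +kernel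
theorem c23_30 : allRange (fun i => Nat.beq (act23 i) i) 52920 1764 = true := by decide +kernel
theorem c23_31 : allRange (fun i => Nat.beq (act23 i) i) 54684 1764 = true := by decide +kernel
theorem c23_32 : allRange (fun i => Nat.beq (act23 i) i) 56448 1764 = true := by decide +kernel
theorem c23_33 : allRange (fun i => Nat.beq (act23 i) i) 58212 1764 = true := by decide +kernel
theorem c23_34 : allRange (fun i => Nat.beq (act23 i) i) 59976 1764 = true := by decide +kernel
theorem c23_35 : allRange (fun i => Nat.beq (act23 i) i) 61740 1764 = true := by decide +kernel
theorem c23_36 : allRange (fun i => Nat.beq (act23 i) i) 63504 1764 = true := by decide +kernel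
theorem c23_37 : allRange (fun i => Nat.beq (act23 i) i) 65268 1557 = true := by decide +kernel
theorem h23 : ∀ i, i < T.N → Tab.relActOK T D chk23 i = true := by
  intro i hi
  rw [Tab.relActOK, ← act23_eq]
  exact (range_glue (range_of_allRange c23_0) (range_glue (range_of_allRange c23_1) (range_glue (range_of_allRange c23_2) (range_glue (range_of_allRange c23_3) (range_glue (range_of_allRange c23_4) (range_glue (range_of_allRange c23_5) (range_glue (range_of_allRange c23_6) (range_glue (range_of_allRange c23_7) (range_glue (range_of_allRange c23_8) (range_glue (range_of_allRange c23_9) (range_glue (range_of_allRange c23_10) (range_glue (range_of_allRange c23_11) (range_glue (range_of_allRange c23_12) (range_glue (range_of_allRange c23_13) (range_glue (range_of_allRange c23_14) (range_glue (range_of_allRange c23_15) (range_glue (range_of_allRange c23_16) (range_glue (range_of_allRange c23_17) (range_glue (range_of_allRange c23_18) (range_glue (range_of_allRange c23_19) (range_glue (range_of_allRange c23_20) (range_glue (range_of_allRange c23_21) (range_glue (range_of_allRange c23_22) (range_glue (range_of_allRange c23_23) (range_glue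 (range_of_allRange c23_24) (range_glue (range_of_allRange c23_25) (range_glue (range_of_allRange c23_26) (range_glue (range_of_allRange c23_27) (range_glue (range_of_allRange c23_28) (range_glue (range_of_allRange c23_29) (range_glue (range_of_allRange c23_30) (range_glue (range_of_allRange c23_31) (range_glue (range_of_allRange c23_32) (range_glue (range_of_allRange c23_33) (range_glue (range_of_allRange c23_34) (range_glue (range_of_allRange c23_35) (range_glue (range_of_allRange c23_36) (range_of_allRange c23_37)))))))))))))))))))))))))))))))))))))) i (Nat.zero_le _) hi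

def chk24 : List Nat := [4, 2, 2, 0, 0, 3, 1, 3, 1, 5, 0, 0, 3, 0, 0, 0, 2, 0]
noncomputable def act24 (i : Nat) : Nat := col5 (col3 (col3 (col1 (col1 (col2 (col0 (col2 (col0 (col4 (col1 (col1 (col2 (col1 (col1 (col1 (col3 (col1 (i))))))))))))))))))
theorem act24_eq (i : Nat) : act24 i = Tab.act T D chk24 i := rfl
theorem c24_0 : allRange (fun i => Nat.beq (act24 i) i) 0 3000 = true := by decide +kernel
theorem c24_1 : allRange (fun i => Nat.beq (act24 i) i) 3000 3000 = true := by decide +kernel
theorem c24_2 : allRange (fun i => Nat.beq (act24 i) i) 6000 3000 = true := by decide +kernel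
theorem c24_3 : allRange (fun i => Nat.beq (act24 i) i) 9000 3000 = true := by decide +kernel
theorem c24_4 : allRange (fun i => Nat.beq (act24 i) i) 12000 3000 = true := by decide +kernel
theorem c24_5 : allRange (fun i => Nat.beq (act24 i) i) 15000 3000 = true := by decide +kernel
theorem c24_6 : allRange (fun i => Nat.beq (act24 i) i) 18000 3000 = true := by decide +kernel
theorem c24_7 : allRange (fun i => Nat.beq (act24 i) i) 21000 3000 = true := by decide +kernel
theorem c24_8 : allRange (fun i => Nat.beq (act24 i) i) 24000 3000 = true := by decide +kernel
theorem c24_9 : allRange (fun i => Nat.beq (act24 i) i) 27000 3000 = true := by decide +kernel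
theorem c24_10 : allRange (fun i => Nat.beq (act24 i) i) 30000 3000 = true := by decide +kernel
theorem c24_11 : allRange (fun i => Nat.beq (act24 i) i) 33000 3000 = true := by decide +kernel
theorem c24_12 : allRange (fun i => Nat.beq (act24 i) i) 36000 3000 = true := by decide +kernel
theorem c24_13 : allRange (fun i => Nat.beq (act24 i) i) 39000 3000 = true := by decide +kernel
theorem c24_14 : allRange (fun i => Nat.beq (act24 i) i) 42000 3000 = true := by decide +kernel
theorem c24_15 : allRange (fun i => Nat.beq (act24 i) i) 45000 3000 = true := by decide +kernel
theorem c24_16 : allRange (fun i => Nat.beq (act24 i) i) 48000 3000 = true := by decide +kernel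
theorem c24_17 : allRange (fun i => Nat.beq (act24 i) i) 51000 3000 = true := by decide +kernel
theorem c24_18 : allRange (fun i => Nat.beq (act24 i) i) 54000 3000 = true := by decide +kernel
theorem c24_19 : allRange (fun i => Nat.beq (act24 i) i) 57000 3000 = true := by decide +kernel
theorem c24_20 : allRange (fun i => Nat.beq (act24 i) i) 60000 3000 = true := by decide +kernel
theorem c24_21 : allRange (fun i => Nat.beq (act24 i) i) 63000 3000 = true := by decide +kernel
theorem c24_22 : allRange (fun i => Nat.beq (act24 i) i) 66000 825 = true := by decide +kernel
theorem h24 : ∀ i, i < T.N → Tab.relActOK T D chk24 i = true := by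
  intro i hi
  rw [Tab.relActOK, ← act24_eq]
  exact (range_glue (range_of_allRange c24_0) (range_glue (range_of_allRange c24_1) (range_glue (range_of_allRange c24_2) (range_glue (range_of_allRange c24_3) (range_glue (range_of_allRange c24_4) (range_glue (range_of_allRange c24_5) (range_glue (range_of_allRange c24_6) (range_glue (range_of_allRange c24_7) (range_glue (range_of_allRange c24_8) (range_glue (range_of_allRange c24_9) (range_glue (range_of_allRange c24_10) (range_glue (range_of_allRange c24_11) (range_glue (range_of_allRange c24_12) (range_glue (range_of_allRange c24_13) (range_glue (range_of_allRange c24_14) (range_glue (range_of_allRange c24_15) (range_glue (range_of_allRange c24_16) (range_glue (range_of_allRange c24_17) (range_glue (range_of_allRange c24_18) (range_glue (range_of_allRange c24_19) (range_glue (range_of_allRange c24_20) (range_glue (range_of_allRange c24_21) (range_of_allRange c24_22))))))))))))))))))))))) i (Nat.zero_le _) hi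

def chk25 : List Nat := [2, 2, 0, 0, 3, 1, 3, 1, 2, 2, 0, 0, 3, 1, 3, 1, 2, 2, 0, 0, 3, 1, 3, 1, 2, 2, 0, 0, 3, 1, 3, 1]
noncomputable def act25 (i : Nat) : Nat := col3 (col3 (col1 (col1 (col2 (col0 (col2 (col0 (col3 (col3 (col1 (col1 (col2 (col0 (col2 (col0 (col3 (col3 (col1 (col1 (col2 (col0 (col2 (col0 (col3 (col3 (col1 (col1 (col2 (col0 (col2 (col0 (i))))))))))))))))))))))))))))))))
theorem act25_eq (i : Nat) : act25 i = Tab.act T D chk25 i := rfl
theorem c25_0 : allRange (fun i => Nat.beq (act25 i) i) 0 1764 = true := by decide +kernel
theorem c25_1 : allRange (fun i => Nat.beq (act25 i) i) 1764 1764 = true := by decide +kernel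
theorem c25_2 : allRange (fun i => Nat.beq (act25 i) i) 3528 1764 = true := by decide +kernel
theorem c25_3 : allRange (fun i => Nat.beq (act25 i) i) 5292 1764 = true := by decide +kernel
theorem c25_4 : allRange (fun i => Nat.beq (act25 i) i) 7056 1764 = true := by decide +kernel
theorem c25_5 : allRange (fun i => Nat.beq (act25 i) i) 8820 1764 = true := by decide +kernel
theorem c25_6 : allRange (fun i => Nat.beq (act25 i) i) 10584 1764 = true := by decide +kernel
theorem c25_7 : allRange (fun i => Nat.beq (act25 i) i) 12348 1764 = true := by decide +kernel
theorem c25_8 : allRange (fun i => Nat.beq (act25 i) i) 14112 1764 = true := by decide +kernel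
theorem c25_9 : allRange (fun i => Nat.beq (act25 i) i) 15876 1764 = true := by decide +kernel
theorem c25_10 : allRange (fun i => Nat.beq (act25 i) i) 17640 1764 = true := by decide +kernel
theorem c25_11 : allRange (fun i => Nat.beq (act25 i) i) 19404 1764 = true := by decide +kernel
theorem c25_12 : allRange (fun i => Nat.beq (act25 i) i) 21168 1764 = true := by decide +kernel
theorem c25_13 : allRange (fun i => Nat.beq (act25 i) i) 22932 1764 = true := by decide +kernel
theorem c25_14 : allRange (fun i => Nat.beq (act25 i) i) 24696 1764 = true := by decide +kernel
theorem c25_15 : allRange (fun i => Nat.beq (act25 i) i) 26460 1764 = true := by decide +kernel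
theorem c25_16 : allRange (fun i => Nat.beq (act25 i) i) 28224 1764 = true := by decide +kernel
theorem c25_17 : allRange (fun i => Nat.beq (act25 i) i) 29988 1764 = true := by decide +kernel
theorem c25_18 : allRange (fun i => Nat.beq (act25 i) i) 31752 1764 = true := by decide +kernel
theorem c25_19 : allRange (fun i => Nat.beq (act25 i) i) 33516 1764 = true := by decide +kernel
theorem c25_20 : allRange (fun i => Nat.beq (act25 i) i) 35280 1764 = true := by decide +kernel
theorem c25_21 : allRange (fun i => Nat.beq (act25 i) i) 37044 1764 = true := by decide +kernel
theorem c25_22 : allRange (fun i => Nat.beq (act25 i) i) 38808 1764 = true := by decide +kernel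
theorem c25_23 : allRange (fun i => Nat.beq (act25 i) i) 40572 1764 = true := by decide +kernel
theorem c25_24 : allRange (fun i => Nat.beq (act25 i) i) 42336 1764 = true := by decide +kernel
theorem c25_25 : allRange (fun i => Nat.beq (act25 i) i) 44100 1764 = true := by decide +kernel
theorem c25_26 : allRange (fun i => Nat.beq (act25 i) i) 45864 1764 = true := by decide +kernel
theorem c25_27 : allRange (fun i => Nat.beq (act25 i) i) 47628 1764 = true := by decide +kernel
theorem c25_28 : allRange (fun i => Nat.beq (act25 i) i) 49392 1764 = true := by decide +kernel
theorem c25_29 : allRange (fun i => Nat.beq (act25 i) i) 51156 1764 = true := by decide +kernel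
theorem c25_30 : allRange (fun i => Nat.beq (act25 i) i) 52920 1764 = true := by decide +kernel
theorem c25_31 : allRange (fun i => Nat.beq (act25 i) i) 54684 1764 = true := by decide +kernel
theorem c25_32 : allRange (fun i => Nat.beq (act25 i) i) 56448 1764 = true := by decide +kernel
theorem c25_33 : allRange (fun i => Nat.beq (act25 i) i) 58212 1764 = true := by decide +kernel
theorem c25_34 : allRange (fun i => Nat.beq (act25 i) i) 59976 1764 = true := by decide +kernel
theorem c25_35 : allRange (fun i => Nat.beq (act25 i) i) 61740 1764 = true := by decide +kernel
theorem c25_36 : allRange (fun i => Nat.beq (act25 i) i) 63504 1764 = true := by decide +kernel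
theorem c25_37 : allRange (fun i => Nat.beq (act25 i) i) 65268 1557 = true := by decide +kernel
theorem h25 : ∀ i, i < T.N → Tab.relActOK T D chk25 i = true := by
  intro i hi
  rw [Tab.relActOK, ← act25_eq]
  exact (range_glue (range_of_allRange c25_0) (range_glue (range_of_allRange c25_1) (range_glue (range_of_allRange c25_2) (range_glue (range_of_allRange c25_3) (range_glue (range_of_allRange c25_4) (range_glue (range_of_allRange c25_5) (range_glue (range_of_allRange c25_6) (range_glue (range_of_allRange c25_7) (range_glue (range_of_allRange c25_8) (range_glue (range_of_allRange c25_9) (range_glue (range_of_allRange c25_10) (range_glue (range_of_allRange c25_11) (range_glue (range_of_allRange c25_12) (range_glue (range_of_allRange c25_13) (range_glue (range_of_allRange c25_14) (range_glue (range_of_allRange c25_15) (range_glue (range_of_allRange c25_16) (range_glue (range_of_allRange c25_17) (range_glue (range_of_allRange c25_18) (range_glue (range_of_allRange c25_19) (range_glue (range_of_allRange c25_20) (range_glue (range_of_allRange c25_21) (range_glue (range_of_allRange c25_22) (range_glue (range_of_allRange c25_23) (range_glue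 (range_of_allRange c25_24) (range_glue (range_of_allRange c25_25) (range_glue (range_of_allRange c25_26) (range_glue (range_of_allRange c25_27) (range_glue (range_of_allRange c25_28) (range_glue (range_of_allRange c25_29) (range_glue (range_of_allRange c25_30) (range_glue (range_of_allRange c25_31) (range_glue (range_of_allRange c25_32) (range_glue (range_of_allRange c25_33) (range_glue (range_of_allRange c25_34) (range_glue (range_of_allRange c25_35) (range_glue (range_of_allRange c25_36) (range_of_allRange c25_37)))))))))))))))))))))))))))))))))))))) i (Nat.zero_le _) hi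

def chk26 : List Nat := [1, 3, 1, 1, 1, 2, 1, 1, 1, 3, 1, 1, 1, 2, 1, 1, 1, 3, 1, 1, 1, 2, 1, 1, 1, 3, 1, 1, 1, 2, 1, 1]
noncomputable def act26 (i : Nat) : Nat := col0 (col2 (col0 (col0 (col0 (col3 (col0 (col0 (col0 (col2 (col0 (col0 (col0 (col3 (col0 (col0 (col0 (col2 (col0 (col0 (col0 (col3 (col0 (col0 (col0 (col2 (col0 (col0 (col0 (col3 (col0 (col0 (i))))))))))))))))))))))))))))))))
theorem act26_eq (i : Nat) : act26 i = Tab.act T D chk26 i := rfl
theorem c26_0 : allRange (fun i => Nat.beq (act26 i) i) 0 1764 = true := by decide +kernel
theorem c26_1 : allRange (fun i => Nat.beq (act26 i) i) 1764 1764 = true := by decide +kernel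
theorem c26_2 : allRange (fun i => Nat.beq (act26 i) i) 3528 1764 = true := by decide +kernel
theorem c26_3 : allRange (fun i => Nat.beq (act26 i) i) 5292 1764 = true := by decide +kernel
theorem c26_4 : allRange (fun i => Nat.beq (act26 i) i) 7056 1764 = true := by decide +kernel
theorem c26_5 : allRange (fun i => Nat.beq (act26 i) i) 8820 1764 = true := by decide +kernel
theorem c26_6 : allRange (fun i => Nat.beq (act26 i) i) 10584 1764 = true := by decide +kernel
theorem c26_7 : allRange (fun i => Nat.beq (act26 i) i) 12348 1764 = true := by decide +kernel
theorem c26_8 : allRange (fun i => Nat.beq (act26 i) i) 14112 1764 = true := by decide +kernel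
theorem c26_9 : allRange (fun i => Nat.beq (act26 i) i) 15876 1764 = true := by decide +kernel
theorem c26_10 : allRange (fun i => Nat.beq (act26 i) i) 17640 1764 = true := by decide +kernel
theorem c26_11 : allRange (fun i => Nat.beq (act26 i) i) 19404 1764 = true := by decide +kernel
theorem c26_12 : allRange (fun i => Nat.beq (act26 i) i) 21168 1764 = true := by decide +kernel
theorem c26_13 : allRange (fun i => Nat.beq (act26 i) i) 22932 1764 = true := by decide +kernel
theorem c26_14 : allRange (fun i => Nat.beq (act26 i) i) 24696 1764 = true := by decide +kernel
theorem c26_15 : allRange (fun i => Nat.beq (act26 i) i) 26460 1764 = true := by decide +kernel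
theorem c26_16 : allRange (fun i => Nat.beq (act26 i) i) 28224 1764 = true := by decide +kernel
theorem c26_17 : allRange (fun i => Nat.beq (act26 i) i) 29988 1764 = true := by decide +kernel
theorem c26_18 : allRange (fun i => Nat.beq (act26 i) i) 31752 1764 = true := by decide +kernel
theorem c26_19 : allRange (fun i => Nat.beq (act26 i) i) 33516 1764 = true := by decide +kernel
theorem c26_20 : allRange (fun i => Nat.beq (act26 i) i) 35280 1764 = true := by decide +kernel
theorem c26_21 : allRange (fun i => Nat.beq (act26 i) i) 37044 1764 = true := by decide +kernel
theorem c26_22 : allRange (fun i => Nat.beq (act26 i) i) 38808 1764 = true := by decide +kernel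
theorem c26_23 : allRange (fun i => Nat.beq (act26 i) i) 40572 1764 = true := by decide +kernel
theorem c26_24 : allRange (fun i => Nat.beq (act26 i) i) 42336 1764 = true := by decide +kernel
theorem c26_25 : allRange (fun i => Nat.beq (act26 i) i) 44100 1764 = true := by decide +kernel
theorem c26_26 : allRange (fun i => Nat.beq (act26 i) i) 45864 1764 = true := by decide +kernel
theorem c26_27 : allRange (fun i => Nat.beq (act26 i) i) 47628 1764 = true := by decide +kernel
theorem c26_28 : allRange (fun i => Nat.beq (act26 i) i) 49392 1764 = true := by decide +kernel
theorem c26_29 : allRange (fun i => Nat.beq (act26 i) i) 51156 1764 = true := by decide +kernel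
theorem c26_30 : allRange (fun i => Nat.beq (act26 i) i) 52920 1764 = true := by decide +kernel
theorem c26_31 : allRange (fun i => Nat.beq (act26 i) i) 54684 1764 = true := by decide +kernel
theorem c26_32 : allRange (fun i => Nat.beq (act26 i) i) 56448 1764 = true := by decide +kernel
theorem c26_33 : allRange (fun i => Nat.beq (act26 i) i) 58212 1764 = true := by decide +kernel
theorem c26_34 : allRange (fun i => Nat.beq (act26 i) i) 59976 1764 = true := by decide +kernel
theorem c26_35 : allRange (fun i => Nat.beq (act26 i) i) 61740 1764 = true := by decide +kernel
theorem c26_36 : allRange (fun i => Nat.beq (act26 i) i) 63504 1764 = true := by decide +kernel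
theorem c26_37 : allRange (fun i => Nat.beq (act26 i) i) 65268 1557 = true := by decide +kernel
theorem h26 : ∀ i, i < T.N → Tab.relActOK T D chk26 i = true := by
  intro i hi
  rw [Tab.relActOK, ← act26_eq]
  exact (range_glue (range_of_allRange c26_0) (range_glue (range_of_allRange c26_1) (range_glue (range_of_allRange c26_2) (range_glue (range_of_allRange c26_3) (range_glue (range_of_allRange c26_4) (range_glue (range_of_allRange c26_5) (range_glue (range_of_allRange c26_6) (range_glue (range_of_allRange c26_7) (range_glue (range_of_allRange c26_8) (range_glue (range_of_allRange c26_9) (range_glue (range_of_allRange c26_10) (range_glue (range_of_allRange c26_11) (range_glue (range_of_allRange c26_12) (range_glue (range_of_allRange c26_13) (range_glue (range_of_allRange c26_14) (range_glue (range_of_allRange c26_15) (range_glue (range_of_allRange c26_16) (range_glue (range_of_allRange c26_17) (range_glue (range_of_allRange c26_18) (range_glue (range_of_allRange c26_19) (range_glue (range_of_allRange c26_20) (range_glue (range_of_allRange c26_21) (range_glue (range_of_allRange c26_22) (range_glue (range_of_allRange c26_23) (range_glue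 (range_of_allRange c26_24) (range_glue (range_of_allRange c26_25) (range_glue (range_of_allRange c26_26) (range_glue (range_of_allRange c26_27) (range_glue (range_of_allRange c26_28) (range_glue (range_of_allRange c26_29) (range_glue (range_of_allRange c26_30) (range_glue (range_of_allRange c26_31) (range_glue (range_of_allRange c26_32) (range_glue (range_of_allRange c26_33) (range_glue (range_of_allRange c26_34) (range_glue (range_of_allRange c26_35) (range_glue (range_of_allRange c26_36) (range_of_allRange c26_37)))))))))))))))))))))))))))))))))))))) i (Nat.zero_le _) hi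

def chk27 : List Nat := [5, 0, 0, 2, 1, 3, 3, 4, 3, 1, 3, 1, 1, 1, 2, 2, 1, 1]
noncomputable def act27 (i : Nat) : Nat := col4 (col1 (col1 (col3 (col0 (col2 (col2 (col5 (col2 (col0 (col2 (col0 (col0 (col0 (col3 (col3 (col0 (col0 (i))))))))))))))))))
theorem act27_eq (i : Nat) : act27 i = Tab.act T D chk27 i := rfl
theorem c27_0 : allRange (fun i => Nat.beq (act27 i) i) 0 3000 = true := by decide +kernel
theorem c27_1 : allRange (fun i => Nat.beq (act27 i) i) 3000 3000 = true := by decide +kernel
theorem c27_2 : allRange (fun i => Nat.beq (act27 i) i) 6000 3000 = true := by decide +kernel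
theorem c27_3 : allRange (fun i => Nat.beq (act27 i) i) 9000 3000 = true := by decide +kernel
theorem c27_4 : allRange (fun i => Nat.beq (act27 i) i) 12000 3000 = true := by decide +kernel
theorem c27_5 : allRange (fun i => Nat.beq (act27 i) i) 15000 3000 = true := by decide +kernel
theorem c27_6 : allRange (fun i => Nat.beq (act27 i) i) 18000 3000 = true := by decide +kernel
theorem c27_7 : allRange (fun i => Nat.beq (act27 i) i) 21000 3000 = true := by decide +kernel
theorem c27_8 : allRange (fun i => Nat.beq (act27 i) i) 24000 3000 = true := by decide +kernel
theorem c27_9 : allRange (fun i => Nat.beq (act27 i) i) 27000 3000 = true := by decide +kernel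
theorem c27_10 : allRange (fun i => Nat.beq (act27 i) i) 30000 3000 = true := by decide +kernel
theorem c27_11 : allRange (fun i => Nat.beq (act27 i) i) 33000 3000 = true := by decide +kernel
theorem c27_12 : allRange (fun i => Nat.beq (act27 i) i) 36000 3000 = true := by decide +kernel
theorem c27_13 : allRange (fun i => Nat.beq (act27 i) i) 39000 3000 = true := by decide +kernel
theorem c27_14 : allRange (fun i => Nat.beq (act27 i) i) 42000 3000 = true := by decide +kernel
theorem c27_15 : allRange (fun i => Nat.beq (act27 i) i) 45000 3000 = true := by decide +kernel
theorem c27_16 : allRange (fun i => Nat.beq (act27 i) i) 48000 3000 = true := by decide +kernel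
theorem c27_17 : allRange (fun i => Nat.beq (act27 i) i) 51000 3000 = true := by decide +kernel
theorem c27_18 : allRange (fun i => Nat.beq (act27 i) i) 54000 3000 = true := by decide +kernel
theorem c27_19 : allRange (fun i => Nat.beq (act27 i) i) 57000 3000 = true := by decide +kernel
theorem c27_20 : allRange (fun i => Nat.beq (act27 i) i) 60000 3000 = true := by decide +kernel
theorem c27_21 : allRange (fun i => Nat.beq (act27 i) i) 63000 3000 = true := by decide +kernel
theorem c27_22 : allRange (fun i => Nat.beq (act27 i) i) 66000 825 = true := by decide +kernel
theorem h27 : ∀ i, i < T.N → Tab.relActOK T D chk27 i = true := by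
  intro i hi
  rw [Tab.relActOK, ← act27_eq]
  exact (range_glue (range_of_allRange c27_0) (range_glue (range_of_allRange c27_1) (range_glue (range_of_allRange c27_2) (range_glue (range_of_allRange c27_3) (range_glue (range_of_allRange c27_4) (range_glue (range_of_allRange c27_5) (range_glue (range_of_allRange c27_6) (range_glue (range_of_allRange c27_7) (range_glue (range_of_allRange c27_8) (range_glue (range_of_allRange c27_9) (range_glue (range_of_allRange c27_10) (range_glue (range_of_allRange c27_11) (range_glue (range_of_allRange c27_12) (range_glue (range_of_allRange c27_13) (range_glue (range_of_allRange c27_14) (range_glue (range_of_allRange c27_15) (range_glue (range_of_allRange c27_16) (range_glue (range_of_allRange c27_17) (range_glue (range_of_allRange c27_18) (range_glue (range_of_allRange c27_19) (range_glue (range_of_allRange c27_20) (range_glue (range_of_allRange c27_21) (range_of_allRange c27_22))))))))))))))))))))))) i (Nat.zero_le _) hi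

def chk28 : List Nat := [0, 0, 2, 1, 3, 3, 0, 0, 2, 1, 3, 3, 0, 0, 2, 1, 3, 3, 0, 0, 2, 1, 3, 3]
noncomputable def act28 (i : Nat) : Nat := col1 (col1 (col3 (col0 (col2 (col2 (col1 (col1 (col3 (col0 (col2 (col2 (col1 (col1 (col3 (col0 (col2 (col2 (col1 (col1 (col3 (col0 (col2 (col2 (i))))))))))))))))))))))))
theorem act28_eq (i : Nat) : act28 i = Tab.act T D chk28 i := rfl
theorem c28_0 : allRange (fun i => Nat.beq (act28 i) i) 0 2307 = true := by decide +kernel
theorem c28_1 : allRange (fun i => Nat.beq (act28 i) i) 2307 2307 = true := by decide +kernel
theorem c28_2 : allRange (fun i => Nat.beq (act28 i) i) 4614 2307 = true := by decide +kernel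
theorem c28_3 : allRange (fun i => Nat.beq (act28 i) i) 6921 2307 = true := by decide +kernel
theorem c28_4 : allRange (fun i => Nat.beq (act28 i) i) 9228 2307 = true := by decide +kernel
theorem c28_5 : allRange (fun i => Nat.beq (act28 i) i) 11535 2307 = true := by decide +kernel
theorem c28_6 : allRange (fun i => Nat.beq (act28 i) i) 13842 2307 = true := by decide +kernel
theorem c28_7 : allRange (fun i => Nat.beq (act28 i) i) 16149 2307 = true := by decide +kernel
theorem c28_8 : allRange (fun i => Nat.beq (act28 i) i) 18456 2307 = true := by decide +kernel
theorem c28_9 : allRange (fun i => Nat.beq (act28 i) i) 20763 2307 = true := by decide +kernel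
theorem c28_10 : allRange (fun i => Nat.beq (act28 i) i) 23070 2307 = true := by decide +kernel
theorem c28_11 : allRange (fun i => Nat.beq (act28 i) i) 25377 2307 = true := by decide +kernel
theorem c28_12 : allRange (fun i => Nat.beq (act28 i) i) 27684 2307 = true := by decide +kernel
theorem c28_13 : allRange (fun i => Nat.beq (act28 i) i) 29991 2307 = true := by decide +kernel
theorem c28_14 : allRange (fun i => Nat.beq (act28 i) i) 32298 2307 = true := by decide +kernel
theorem c28_15 : allRange (fun i => Nat.beq (act28 i) i) 34605 2307 = true := by decide +kernel
theorem c28_16 : allRange (fun i => Nat.beq (act28 i) i) 36912 2307 = true := by decide +kernel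
theorem c28_17 : allRange (fun i => Nat.beq (act28 i) i) 39219 2307 = true := by decide +kernel
theorem c28_18 : allRange (fun i => Nat.beq (act28 i) i) 41526 2307 = true := by decide +kernel
theorem c28_19 : allRange (fun i => Nat.beq (act28 i) i) 43833 2307 = true := by decide +kernel
theorem c28_20 : allRange (fun i => Nat.beq (act28 i) i) 46140 2307 = true := by decide +kernel
theorem c28_21 : allRange (fun i => Nat.beq (act28 i) i) 48447 2307 = true := by decide +kernel
theorem c28_22 : allRange (fun i => Nat.beq (act28 i) i) 50754 2307 = true := by decide +kernel
theorem c28_23 : allRange (fun i => Nat.beq (act28 i) i) 53061 2307 = true := by decide +kernel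
theorem c28_24 : allRange (fun i => Nat.beq (act28 i) i) 55368 2307 = true := by decide +kernel
theorem c28_25 : allRange (fun i => Nat.beq (act28 i) i) 57675 2307 = true := by decide +kernel
theorem c28_26 : allRange (fun i => Nat.beq (act28 i) i) 59982 2307 = true := by decide +kernel
theorem c28_27 : allRange (fun i => Nat.beq (act28 i) i) 62289 2307 = true := by decide +kernel
theorem c28_28 : allRange (fun i => Nat.beq (act28 i) i) 64596 2229 = true := by decide +kernel
theorem h28 : ∀ i, i < T.N → Tab.relActOK T D chk28 i = true := by
  intro i hi
  rw [Tab.relActOK, ← act28_eq]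
  exact (range_glue (range_of_allRange c28_0) (range_glue (range_of_allRange c28_1) (range_glue (range_of_allRange c28_2) (range_glue (range_of_allRange c28_3) (range_glue (range_of_allRange c28_4) (range_glue (range_of_allRange c28_5) (range_glue (range_of_allRange c28_6) (range_glue (range_of_allRange c28_7) (range_glue (range_of_allRange c28_8) (range_glue (range_of_allRange c28_9) (range_glue (range_of_allRange c28_10) (range_glue (range_of_allRange c28_11) (range_glue (range_of_allRange c28_12) (range_glue (range_of_allRange c28_13) (range_glue (range_of_allRange c28_14) (range_glue (range_of_allRange c28_15) (range_glue (range_of_allRange c28_16) (range_glue (range_of_allRange c28_17) (range_glue (range_of_allRange c28_18) (range_glue (range_of_allRange c28_19) (range_glue (range_of_allRange c28_20) (range_glue (range_of_allRange c28_21) (range_glue (range_of_allRange c28_22) (range_glue (range_of_allRange c28_23) (range_glue (range_of_allRange c28_24) (range_glue (range_of_allRange c28_25) (range_glue (range_of_allRange c28_26) (range_glue (range_of_allRange c28_27) (range_of_allRange c28_28))))))))))))))))))))))))))))) i (Nat.zero_le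 _) hi

def chk29 : List Nat := [0, 0, 3, 3, 0, 0, 0, 2, 0, 2, 0, 0, 3, 3, 0, 0, 0, 2, 0, 2, 0, 0, 3, 3, 0, 0, 0, 2, 0, 2, 0, 0, 3, 3, 0, 0, 0, 2, 0, 2]
noncomputable def act29 (i : Nat) : Nat := col1 (col1 (col2 (col2 (col1 (col1 (col1 (col3 (col1 (col3 (col1 (col1 (col2 (col2 (col1 (col1 (col1 (col3 (col1 (col3 (col1 (col1 (col2 (col2 (col1 (col1 (col1 (col3 (col1 (col3 (col1 (col1 (col2 (col2 (col1 (col1 (col1 (col3 (col1 (col3 (i))))))))))))))))))))))))))))))))))))))))
theorem act29_eq (i : Nat) : act29 i = Tab.act T D chk29 i := rfl
theorem c29_0 : allRange (fun i => Nat.beq (act29 i) i) 0 1428 = true := by decide +kernel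
theorem c29_1 : allRange (fun i => Nat.beq (act29 i) i) 1428 1428 = true := by decide +kernel
theorem c29_2 : allRange (fun i => Nat.beq (act29 i) i) 2856 1428 = true := by decide +kernel
theorem c29_3 : allRange (fun i => Nat.beq (act29 i) i) 4284 1428 = true := by decide +kernel
theorem c29_4 : allRange (fun i => Nat.beq (act29 i) i) 5712 1428 = true := by decide +kernel
theorem c29_5 : allRange (fun i => Nat.beq (act29 i) i) 7140 1428 = true := by decide +kernel
theorem c29_6 : allRange (fun i => Nat.beq (act29 i) i) 8568 1428 = true := by decide +kernel
theorem c29_7 : allRange (fun i => Nat.beq (act29 i) i) 9996 1428 = true := by decide +kernel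
theorem c29_8 : allRange (fun i => Nat.beq (act29 i) i) 11424 1428 = true := by decide +kernel
theorem c29_9 : allRange (fun i => Nat.beq (act29 i) i) 12852 1428 = true := by decide +kernel
theorem c29_10 : allRange (fun i => Nat.beq (act29 i) i) 14280 1428 = true := by decide +kernel
theorem c29_11 : allRange (fun i => Nat.beq (act29 i) i) 15708 1428 = true := by decide +kernel
theorem c29_12 : allRange (fun i => Nat.beq (act29 i) i) 17136 1428 = true := by decide +kernel
theorem c29_13 : allRange (fun i => Nat.beq (act29 i) i) 18564 1428 = true := by decide +kernel
theorem c29_14 : allRange (fun i => Nat.beq (act29 i) i) 19992 1428 = true := by decide +kernel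
theorem c29_15 : allRange (fun i => Nat.beq (act29 i) i) 21420 1428 = true := by decide +kernel
theorem c29_16 : allRange (fun i => Nat.beq (act29 i) i) 22848 1428 = true := by decide +kernel
theorem c29_17 : allRange (fun i => Nat.beq (act29 i) i) 24276 1428 = true := by decide +kernel
theorem c29_18 : allRange (fun i => Nat.beq (act29 i) i) 25704 1428 = true := by decide +kernel
theorem c29_19 : allRange (fun i => Nat.beq (act29 i) i) 27132 1428 = true := by decide +kernel
theorem c29_20 : allRange (fun i => Nat.beq (act29 i) i) 28560 1428 = true := by decide +kernel
theorem c29_21 : allRange (fun i => Nat.beq (act29 i) i) 29988 1428 = true := by decide +kernel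
theorem c29_22 : allRange (fun i => Nat.beq (act29 i) i) 31416 1428 = true := by decide +kernel
theorem c29_23 : allRange (fun i => Nat.beq (act29 i) i) 32844 1428 = true := by decide +kernel
theorem c29_24 : allRange (fun i => Nat.beq (act29 i) i) 34272 1428 = true := by decide +kernel
theorem c29_25 : allRange (fun i => Nat.beq (act29 i) i) 35700 1428 = true := by decide +kernel
theorem c29_26 : allRange (fun i => Nat.beq (act29 i) i) 37128 1428 = true := by decide +kernel
theorem c29_27 : allRange (fun i => Nat.beq (act29 i) i) 38556 1428 = true := by decide +kernel
theorem c29_28 : allRange (fun i => Nat.beq (act29 i) i) 39984 1428 = true := by decide +kernel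
theorem c29_29 : allRange (fun i => Nat.beq (act29 i) i) 41412 1428 = true := by decide +kernel
theorem c29_30 : allRange (fun i => Nat.beq (act29 i) i) 42840 1428 = true := by decide +kernel
theorem c29_31 : allRange (fun i => Nat.beq (act29 i) i) 44268 1428 = true := by decide +kernel
theorem c29_32 : allRange (fun i => Nat.beq (act29 i) i) 45696 1428 = true := by decide +kernel
theorem c29_33 : allRange (fun i => Nat.beq (act29 i) i) 47124 1428 = true := by decide +kernel
theorem c29_34 : allRange (fun i => Nat.beq (act29 i) i) 48552 1428 = true := by decide +kernel
theorem c29_35 : allRange (fun i => Nat.beq (act29 i) i) 49980 1428 = true := by decide +kernel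
theorem c29_36 : allRange (fun i => Nat.beq (act29 i) i) 51408 1428 = true := by decide +kernel
theorem c29_37 : allRange (fun i => Nat.beq (act29 i) i) 52836 1428 = true := by decide +kernel
theorem c29_38 : allRange (fun i => Nat.beq (act29 i) i) 54264 1428 = true := by decide +kernel
theorem c29_39 : allRange (fun i => Nat.beq (act29 i) i) 55692 1428 = true := by decide +kernel
theorem c29_40 : allRange (fun i => Nat.beq (act29 i) i) 57120 1428 = true := by decide +kernel
theorem c29_41 : allRange (fun i => Nat.beq (act29 i) i) 58548 1428 = true := by decide +kernel
theorem c29_42 : allRange (fun i => Nat.beq (act29 i) i) 59976 1428 = true := by decide +kernel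
theorem c29_43 : allRange (fun i => Nat.beq (act29 i) i) 61404 1428 = true := by decide +kernel
theorem c29_44 : allRange (fun i => Nat.beq (act29 i) i) 62832 1428 = true := by decide +kernel
theorem c29_45 : allRange (fun i => Nat.beq (act29 i) i) 64260 1428 = true := by decide +kernel
theorem c29_46 : allRange (fun i => Nat.beq (act29 i) i) 65688 1137 = true := by decide +kernel
theorem h29 : ∀ i, i < T.N → Tab.relActOK T D chk29 i = true := by
  intro i hi
  rw [Tab.relActOK, ← act29_eq]
  exact (range_glue (range_of_allRange c29_0) (range_glue (range_of_allRange c29_1) (range_glue (range_of_allRange c29_2) (range_glue (range_of_allRange c29_3) (range_glue (range_of_allRange c29_4) (range_glue (range_of_allRange c29_5) (range_glue (range_of_allRange c29_6) (range_glue (range_of_allRange c29_7) (range_glue (range_of_allRange c29_8) (range_glue (range_of_allRange c29_9) (range_glue (range_of_allRange c29_10) (range_glue (range_of_allRange c29_11) (range_glue (range_of_allRange c29_12) (range_glue (range_of_allRange c29_13) (range_glue (range_of_allRange c29_14) (range_glue (range_of_allRange c29_15) (range_glue (range_of_allRange c29_16)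 (range_glue (range_of_allRange c29_17) (range_glue (range_of_allRange c29_18) (range_glue (range_of_allRange c29_19) (range_glue (range_of_allRange c29_20) (range_glue (range_of_allRange c29_21) (range_glue (range_of_allRange c29_22) (range_glue (range_of_allRange c29_23) (range_glue (range_of_allRange c29_24) (range_glue (range_of_allRange c29_25) (range_glue (range_of_allRange c29_26) (range_glue (range_of_allRange c29_27) (range_glue (range_of_allRange c29_28) (range_glue (range_of_allRange c29_29) (range_glue (range_of_allRange c29_30) (range_glue (range_of_allRange c29_31) (range_glue (range_of_allRange c29_32) (range_glue (range_of_allRange c29_33) (range_glue (range_of_allRange c29_34) (range_glue (range_of_allRange c29_35) (range_glue (range_of_allRange c29_36) (range_glue (range_of_allRange c29_37) (range_glue (range_of_allRange c29_38) (range_glue (range_of_allRange c29_39) (range_glue (range_of_allRange c29_40) (range_glue (range_of_allRange c29_41) (range_glue (range_of_allRange c29_42) (range_glue (range_of_allRange c29_43) (range_glue (range_of_allRange c29_44) (range_glue (range_of_allRange c29_45) (range_of_allRange c29_46)))))))))))))))))))))))))))))))))))))))))))))))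 i (Nat.zero_le _) hi

def chk30 : List Nat := [5, 2, 2, 0, 3, 1, 1, 4, 1, 2, 0, 3, 1, 2, 2, 0, 3, 0]
noncomputable def act30 (i : Nat) : Nat := col4 (col3 (col3 (col1 (col2 (col0 (col0 (col5 (col0 (col3 (col1 (col2 (col0 (col3 (col3 (col1 (col2 (col1 (i))))))))))))))))))
theorem act30_eq (i : Nat) : act30 i = Tab.act T D chk30 i := rfl
theorem c30_0 : allRange (fun i => Nat.beq (act30 i) i) 0 3000 = true := by decide +kernel
theorem c30_1 : allRange (fun i => Nat.beq (act30 i) i) 3000 3000 = true := by decide +kernel
theorem c30_2 : allRange (fun i => Nat.beq (act30 i) i) 6000 3000 = true := by decide +kernel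
theorem c30_3 : allRange (fun i => Nat.beq (act30 i) i) 9000 3000 = true := by decide +kernel
theorem c30_4 : allRange (fun i => Nat.beq (act30 i) i) 12000 3000 = true := by decide +kernel
theorem c30_5 : allRange (fun i => Nat.beq (act30 i) i) 15000 3000 = true := by decide +kernel
theorem c30_6 : allRange (fun i => Nat.beq (act30 i) i) 18000 3000 = true := by decide +kernel
theorem c30_7 : allRange (fun i => Nat.beq (act30 i) i) 21000 3000 = true := by decide +kernel
theorem c30_8 : allRange (fun i => Nat.beq (act30 i) i) 24000 3000 = true := by decide +kernel
theorem c30_9 : allRange (fun i => Nat.beq (act30 i) i) 27000 3000 = true := by decide +kernel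
theorem c30_10 : allRange (fun i => Nat.beq (act30 i) i) 30000 3000 = true := by decide +kernel
theorem c30_11 : allRange (fun i => Nat.beq (act30 i) i) 33000 3000 = true := by decide +kernel
theorem c30_12 : allRange (fun i => Nat.beq (act30 i) i) 36000 3000 = true := by decide +kernel
theorem c30_13 : allRange (fun i => Nat.beq (act30 i) i) 39000 3000 = true := by decide +kernel
theorem c30_14 : allRange (fun i => Nat.beq (act30 i) i) 42000 3000 = true := by decide +kernel
theorem c30_15 : allRange (fun i => Nat.beq (act30 i) i) 45000 3000 = true := by decide +kernel
theorem c30_16 : allRange (fun i => Nat.beq (act30 i) i) 48000 3000 = true := by decide +kernel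
theorem c30_17 : allRange (fun i => Nat.beq (act30 i) i) 51000 3000 = true := by decide +kernel
theorem c30_18 : allRange (fun i => Nat.beq (act30 i) i) 54000 3000 = true := by decide +kernel
theorem c30_19 : allRange (fun i => Nat.beq (act30 i) i) 57000 3000 = true := by decide +kernel
theorem c30_20 : allRange (fun i => Nat.beq (act30 i) i) 60000 3000 = true := by decide +kernel
theorem c30_21 : allRange (fun i => Nat.beq (act30 i) i) 63000 3000 = true := by decide +kernel
theorem c30_22 : allRange (fun i => Nat.beq (act30 i) i) 66000 825 = true := by decide +kernel
theorem h30 : ∀ i, i < T.N → Tab.relActOK T D chk30 i = true := by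
  intro i hi
  rw [Tab.relActOK, ← act30_eq]
  exact (range_glue (range_of_allRange c30_0) (range_glue (range_of_allRange c30_1) (range_glue (range_of_allRange c30_2) (range_glue (range_of_allRange c30_3) (range_glue (range_of_allRange c30_4) (range_glue (range_of_allRange c30_5) (range_glue (range_of_allRange c30_6) (range_glue (range_of_allRange c30_7) (range_glue (range_of_allRange c30_8) (range_glue (range_of_allRange c30_9) (range_glue (range_of_allRange c30_10) (range_glue (range_of_allRange c30_11) (range_glue (range_of_allRange c30_12) (range_glue (range_of_allRange c30_13) (range_glue (range_of_allRange c30_14) (range_glue (range_of_allRange c30_15) (range_glue (range_of_allRange c30_16) (range_glue (range_of_allRange c30_17) (range_glue (range_of_allRange c30_18) (range_glue (range_of_allRange c30_19) (range_glue (range_of_allRange c30_20) (range_glue (range_of_allRange c30_21) (range_of_allRange c30_22))))))))))))))))))))))) i (Nat.zero_le _) hi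

def chk31 : List Nat := [2, 2, 0, 3, 1, 1, 2, 2, 0, 3, 1, 1, 2, 2, 0, 3, 1, 1, 2, 2, 0, 3, 1, 1]
noncomputable def act31 (i : Nat) : Nat := col3 (col3 (col1 (col2 (col0 (col0 (col3 (col3 (col1 (col2 (col0 (col0 (col3 (col3 (col1 (col2 (col0 (col0 (col3 (col3 (col1 (col2 (col0 (col0 (i))))))))))))))))))))))))
theorem act31_eq (i : Nat) : act31 i = Tab.act T D chk31 i := rfl
theorem c31_0 : allRange (fun i => Nat.beq (act31 i) i) 0 2307 = true := by decide +kernel
theorem c31_1 : allRange (fun i => Nat.beq (act31 i) i) 2307 2307 = true := by decide +kernel
theorem c31_2 : allRange (fun i => Nat.beq (act31 i) i) 4614 2307 = true := by decide +kernel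
theorem c31_3 : allRange (fun i => Nat.beq (act31 i) i) 6921 2307 = true := by decide +kernel
theorem c31_4 : allRange (fun i => Nat.beq (act31 i) i) 9228 2307 = true := by decide +kernel
theorem c31_5 : allRange (fun i => Nat.beq (act31 i) i) 11535 2307 = true := by decide +kernel
theorem c31_6 : allRange (fun i => Nat.beq (act31 i) i) 13842 2307 = true := by decide +kernel
theorem c31_7 : allRange (fun i => Nat.beq (act31 i) i) 16149 2307 = true := by decide +kernel
theorem c31_8 : allRange (fun i => Nat.beq (act31 i) i) 18456 2307 = true := by decide +kernel
theorem c31_9 : allRange (fun i => Nat.beq (act31 i) i) 20763 2307 = true := by decide +kernel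
theorem c31_10 : allRange (fun i => Nat.beq (act31 i) i) 23070 2307 = true := by decide +kernel
theorem c31_11 : allRange (fun i => Nat.beq (act31 i) i) 25377 2307 = true := by decide +kernel
theorem c31_12 : allRange (fun i => Nat.beq (act31 i) i) 27684 2307 = true := by decide +kernel
theorem c31_13 : allRange (fun i => Nat.beq (act31 i) i) 29991 2307 = true := by decide +kernel
theorem c31_14 : allRange (fun i => Nat.beq (act31 i) i) 32298 2307 = true := by decide +kernel
theorem c31_15 : allRange (fun i => Nat.beq (act31 i) i) 34605 2307 = true := by decide +kernel
theorem c31_16 : allRange (fun i => Nat.beq (act31 i) i) 36912 2307 = true := by decide +kernel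
theorem c31_17 : allRange (fun i => Nat.beq (act31 i) i) 39219 2307 = true := by decide +kernel
theorem c31_18 : allRange (fun i => Nat.beq (act31 i) i) 41526 2307 = true := by decide +kernel
theorem c31_19 : allRange (fun i => Nat.beq (act31 i) i) 43833 2307 = true := by decide +kernel
theorem c31_20 : allRange (fun i => Nat.beq (act31 i) i) 46140 2307 = true := by decide +kernel
theorem c31_21 : allRange (fun i => Nat.beq (act31 i) i) 48447 2307 = true := by decide +kernel
theorem c31_22 : allRange (fun i => Nat.beq (act31 i) i) 50754 2307 = true := by decide +kernel
theorem c31_23 : allRange (fun i => Nat.beq (act31 i) i) 53061 2307 = true := by decide +kernel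
theorem c31_24 : allRange (fun i => Nat.beq (act31 i) i) 55368 2307 = true := by decide +kernel
theorem c31_25 : allRange (fun i => Nat.beq (act31 i) i) 57675 2307 = true := by decide +kernel
theorem c31_26 : allRange (fun i => Nat.beq (act31 i) i) 59982 2307 = true := by decide +kernel
theorem c31_27 : allRange (fun i => Nat.beq (act31 i) i) 62289 2307 = true := by decide +kernel
theorem c31_28 : allRange (fun i => Nat.beq (act31 i) i) 64596 2229 = true := by decide +kernel
theorem h31 : ∀ i, i < T.N → Tab.relActOK T D chk31 i = true := by
  intro i hi
  rw [Tab.relActOK, ← act31_eq]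
  exact (range_glue (range_of_allRange c31_0) (range_glue (range_of_allRange c31_1) (range_glue (range_of_allRange c31_2) (range_glue (range_of_allRange c31_3) (range_glue (range_of_allRange c31_4) (range_glue (range_of_allRange c31_5) (range_glue (range_of_allRange c31_6) (range_glue (range_of_allRange c31_7) (range_glue (range_of_allRange c31_8) (range_glue (range_of_allRange c31_9) (range_glue (range_of_allRange c31_10) (range_glue (range_of_allRange c31_11) (range_glue (range_of_allRange c31_12) (range_glue (range_of_allRange c31_13) (range_glue (range_of_allRange c31_14) (range_glue (range_of_allRange c31_15) (range_glue (range_of_allRange c31_16) (range_glue (range_of_allRange c31_17) (range_glue (range_of_allRange c31_18) (range_glue (range_of_allRange c31_19) (range_glue (range_of_allRange c31_20) (range_glue (range_of_allRange c31_21) (range_glue (range_of_allRange c31_22) (range_glue (range_of_allRange c31_23) (range_glue (range_of_allRange c31_24) (range_glue (range_of_allRange c31_25) (range_glue (range_of_allRange c31_26) (range_glue (range_of_allRange c31_27) (range_of_allRange c31_28))))))))))))))))))))))))))))) i (Nat.zero_le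 _) hi

def chk32 : List Nat := [1, 2, 1, 3, 3, 0, 2, 1, 3, 0, 1, 2, 1, 3, 3, 0, 2, 1, 3, 0, 1, 2, 1, 3, 3, 0, 2, 1, 3, 0, 1, 2, 1, 3, 3, 0, 2, 1, 3, 0]
noncomputable def act32 (i : Nat) : Nat := col0 (col3 (col0 (col2 (col2 (col1 (col3 (col0 (col2 (col1 (col0 (col3 (col0 (col2 (col2 (col1 (col3 (col0 (col2 (col1 (col0 (col3 (col0 (col2 (col2 (col1 (col3 (col0 (col2 (col1 (col0 (col3 (col0 (col2 (col2 (col1 (col3 (col0 (col2 (col1 (i))))))))))))))))))))))))))))))))))))))))
theorem act32_eq (i : Nat) : act32 i = Tab.act T D chk32 i := rfl
theorem c32_0 : allRange (fun i => Nat.beq (act32 i) i) 0 1428 = true := by decide +kernel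
theorem c32_1 : allRange (fun i => Nat.beq (act32 i) i) 1428 1428 = true := by decide +kernel
theorem c32_2 : allRange (fun i => Nat.beq (act32 i) i) 2856 1428 = true := by decide +kernel
theorem c32_3 : allRange (fun i => Nat.beq (act32 i) i) 4284 1428 = true := by decide +kernel
theorem c32_4 : allRange (fun i => Nat.beq (act32 i) i) 5712 1428 = true := by decide +kernel
theorem c32_5 : allRange (fun i => Nat.beq (act32 i) i) 7140 1428 = true := by decide +kernel
theorem c32_6 : allRange (fun i => Nat.beq (act32 i) i) 8568 1428 = true := by decide +kernel
theorem c32_7 : allRange (fun i => Nat.beq (act32 i) i) 9996 1428 = true := by decide +kernel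
theorem c32_8 : allRange (fun i => Nat.beq (act32 i) i) 11424 1428 = true := by decide +kernel
theorem c32_9 : allRange (fun i => Nat.beq (act32 i) i) 12852 1428 = true := by decide +kernel
theorem c32_10 : allRange (fun i => Nat.beq (act32 i) i) 14280 1428 = true := by decide +kernel
theorem c32_11 : allRange (fun i => Nat.beq (act32 i) i) 15708 1428 = true := by decide +kernel
theorem c32_12 : allRange (fun i => Nat.beq (act32 i) i) 17136 1428 = true := by decide +kernel
theorem c32_13 : allRange (fun i => Nat.beq (act32 i) i) 18564 1428 = true := by decide +kernel
theorem c32_14 : allRange (fun i => Nat.beq (act32 i) i) 19992 1428 = true := by decide +kernel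
theorem c32_15 : allRange (fun i => Nat.beq (act32 i) i) 21420 1428 = true := by decide +kernel
theorem c32_16 : allRange (fun i => Nat.beq (act32 i) i) 22848 1428 = true := by decide +kernel
theorem c32_17 : allRange (fun i => Nat.beq (act32 i) i) 24276 1428 = true := by decide +kernel
theorem c32_18 : allRange (fun i => Nat.beq (act32 i) i) 25704 1428 = true := by decide +kernel
theorem c32_19 : allRange (fun i => Nat.beq (act32 i) i) 27132 1428 = true := by decide +kernel
theorem c32_20 : allRange (fun i => Nat.beq (act32 i) i) 28560 1428 = true := by decide +kernel
theorem c32_21 : allRange (fun i => Nat.beq (act32 i) i) 29988 1428 = true := by decide +kernel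
theorem c32_22 : allRange (fun i => Nat.beq (act32 i) i) 31416 1428 = true := by decide +kernel
theorem c32_23 : allRange (fun i => Nat.beq (act32 i) i) 32844 1428 = true := by decide +kernel
theorem c32_24 : allRange (fun i => Nat.beq (act32 i) i) 34272 1428 = true := by decide +kernel
theorem c32_25 : allRange (fun i => Nat.beq (act32 i) i) 35700 1428 = true := by decide +kernel
theorem c32_26 : allRange (fun i => Nat.beq (act32 i) i) 37128 1428 = true := by decide +kernel
theorem c32_27 : allRange (fun i => Nat.beq (act32 i) i) 38556 1428 = true := by decide +kernel
theorem c32_28 : allRange (fun i => Nat.beq (act32 i) i) 39984 1428 = true := by decide +kernel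
theorem c32_29 : allRange (fun i => Nat.beq (act32 i) i) 41412 1428 = true := by decide +kernel
theorem c32_30 : allRange (fun i => Nat.beq (act32 i) i) 42840 1428 = true := by decide +kernel
theorem c32_31 : allRange (fun i => Nat.beq (act32 i) i) 44268 1428 = true := by decide +kernel
theorem c32_32 : allRange (fun i => Nat.beq (act32 i) i) 45696 1428 = true := by decide +kernel
theorem c32_33 : allRange (fun i => Nat.beq (act32 i) i) 47124 1428 = true := by decide +kernel
theorem c32_34 : allRange (fun i => Nat.beq (act32 i) i) 48552 1428 = true := by decide +kernel
theorem c32_35 : allRange (fun i => Nat.beq (act32 i) i) 49980 1428 = true := by decide +kernel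
theorem c32_36 : allRange (fun i => Nat.beq (act32 i) i) 51408 1428 = true := by decide +kernel
theorem c32_37 : allRange (fun i => Nat.beq (act32 i) i) 52836 1428 = true := by decide +kernel
theorem c32_38 : allRange (fun i => Nat.beq (act32 i) i) 54264 1428 = true := by decide +kernel
theorem c32_39 : allRange (fun i => Nat.beq (act32 i) i) 55692 1428 = true := by decide +kernel
theorem c32_40 : allRange (fun i => Nat.beq (act32 i) i) 57120 1428 = true := by decide +kernel
theorem c32_41 : allRange (fun i => Nat.beq (act32 i) i) 58548 1428 = true := by decide +kernel
theorem c32_42 : allRange (fun i => Nat.beq (act32 i) i) 59976 1428 = true := by decide +kernel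
theorem c32_43 : allRange (fun i => Nat.beq (act32 i) i) 61404 1428 = true := by decide +kernel
theorem c32_44 : allRange (fun i => Nat.beq (act32 i) i) 62832 1428 = true := by decide +kernel
theorem c32_45 : allRange (fun i => Nat.beq (act32 i) i) 64260 1428 = true := by decide +kernel
theorem c32_46 : allRange (fun i => Nat.beq (act32 i) i) 65688 1137 = true := by decide +kernel
theorem h32 : ∀ i, i < T.N → Tab.relActOK T D chk32 i = true := by
  intro i hi
  rw [Tab.relActOK, ← act32_eq]
  exact (range_glue (range_of_allRange c32_0) (range_glue (range_of_allRange c32_1) (range_glue (range_of_allRange c32_2) (range_glue (range_of_allRange c32_3) (range_glue (range_of_allRange c32_4) (range_glue (range_of_allRange c32_5) (range_glue (range_of_allRange c32_6) (range_glue (range_of_allRange c32_7) (range_glue (range_of_allRange c32_8) (range_glue (range_of_allRange c32_9) (range_glue (range_of_allRange c32_10) (range_glue (range_of_allRange c32_11) (range_glue (range_of_allRange c32_12) (range_glue (range_of_allRange c32_13) (range_glue (range_of_allRange c32_14) (range_glue (range_of_allRange c32_15) (range_glue (range_of_allRange c32_16)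 (range_glue (range_of_allRange c32_17) (range_glue (range_of_allRange c32_18) (range_glue (range_of_allRange c32_19) (range_glue (range_of_allRange c32_20) (range_glue (range_of_allRange c32_21) (range_glue (range_of_allRange c32_22) (range_glue (range_of_allRange c32_23) (range_glue (range_of_allRange c32_24) (range_glue (range_of_allRange c32_25) (range_glue (range_of_allRange c32_26) (range_glue (range_of_allRange c32_27) (range_glue (range_of_allRange c32_28) (range_glue (range_of_allRange c32_29) (range_glue (range_of_allRange c32_30) (range_glue (range_of_allRange c32_31) (range_glue (range_of_allRange c32_32) (range_glue (range_of_allRange c32_33) (range_glue (range_of_allRange c32_34) (range_glue (range_of_allRange c32_35) (range_glue (range_of_allRange c32_36) (range_glue (range_of_allRange c32_37) (range_glue (range_of_allRange c32_38) (range_glue (range_of_allRange c32_39) (range_glue (range_of_allRange c32_40) (range_glue (range_of_allRange c32_41) (range_glue (range_of_allRange c32_42) (range_glue (range_of_allRange c32_43) (range_glue (range_of_allRange c32_44) (range_glue (range_of_allRange c32_45) (range_of_allRange c32_46)))))))))))))))))))))))))))))))))))))))))))))))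 i (Nat.zero_le _) hi

def chk33 : List Nat := [5, 0, 0, 3, 0, 0, 0, 2, 0, 4, 2, 2, 0, 0, 3, 1, 3, 1]
noncomputable def act33 (i : Nat) : Nat := col4 (col1 (col1 (col2 (col1 (col1 (col1 (col3 (col1 (col5 (col3 (col3 (col1 (col1 (col2 (col0 (col2 (col0 (i))))))))))))))))))
theorem act33_eq (i : Nat) : act33 i = Tab.act T D chk33 i := rfl
theorem c33_0 : allRange (fun i => Nat.beq (act33 i) i) 0 3000 = true := by decide +kernel
theorem c33_1 : allRange (fun i => Nat.beq (act33 i) i) 3000 3000 = true := by decide +kernel
theorem c33_2 : allRange (fun i => Nat.beq (act33 i) i) 6000 3000 = true := by decide +kernel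
theorem c33_3 : allRange (fun i => Nat.beq (act33 i) i) 9000 3000 = true := by decide +kernel
theorem c33_4 : allRange (fun i => Nat.beq (act33 i) i) 12000 3000 = true := by decide +kernel
theorem c33_5 : allRange (fun i => Nat.beq (act33 i) i) 15000 3000 = true := by decide +kernel
theorem c33_6 : allRange (fun i => Nat.beq (act33 i) i) 18000 3000 = true := by decide +kernel
theorem c33_7 : allRange (fun i => Nat.beq (act33 i) i) 21000 3000 = true := by decide +kernel
theorem c33_8 : allRange (fun i => Nat.beq (act33 i) i) 24000 3000 = true := by decide +kernel
theorem c33_9 : allRange (fun i => Nat.beq (act33 i) i) 27000 3000 = true := by decide +kernel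
theorem c33_10 : allRange (fun i => Nat.beq (act33 i) i) 30000 3000 = true := by decide +kernel
theorem c33_11 : allRange (fun i => Nat.beq (act33 i) i) 33000 3000 = true := by decide +kernel
theorem c33_12 : allRange (fun i => Nat.beq (act33 i) i) 36000 3000 = true := by decide +kernel
theorem c33_13 : allRange (fun i => Nat.beq (act33 i) i) 39000 3000 = true := by decide +kernel
theorem c33_14 : allRange (fun i => Nat.beq (act33 i) i) 42000 3000 = true := by decide +kernel
theorem c33_15 : allRange (fun i => Nat.beq (act33 i) i) 45000 3000 = true := by decide +kernel
theorem c33_16 : allRange (fun i => Nat.beq (act33 i) i) 48000 3000 = true := by decide +kernel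
theorem c33_17 : allRange (fun i => Nat.beq (act33 i) i) 51000 3000 = true := by decide +kernel
theorem c33_18 : allRange (fun i => Nat.beq (act33 i) i) 54000 3000 = true := by decide +kernel
theorem c33_19 : allRange (fun i => Nat.beq (act33 i) i) 57000 3000 = true := by decide +kernel
theorem c33_20 : allRange (fun i => Nat.beq (act33 i) i) 60000 3000 = true := by decide +kernel
theorem c33_21 : allRange (fun i => Nat.beq (act33 i) i) 63000 3000 = true := by decide +kernel
theorem c33_22 : allRange (fun i => Nat.beq (act33 i) i) 66000 825 = true := by decide +kernel
theorem h33 : ∀ i, i < T.N → Tab.relActOK T D chk33 i = true := by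
  intro i hi
  rw [Tab.relActOK, ← act33_eq]
  exact (range_glue (range_of_allRange c33_0) (range_glue (range_of_allRange c33_1) (range_glue (range_of_allRange c33_2) (range_glue (range_of_allRange c33_3) (range_glue (range_of_allRange c33_4) (range_glue (range_of_allRange c33_5) (range_glue (range_of_allRange c33_6) (range_glue (range_of_allRange c33_7) (range_glue (range_of_allRange c33_8) (range_glue (range_of_allRange c33_9) (range_glue (range_of_allRange c33_10) (range_glue (range_of_allRange c33_11) (range_glue (range_of_allRange c33_12) (range_glue (range_of_allRange c33_13) (range_glue (range_of_allRange c33_14) (range_glue (range_of_allRange c33_15) (range_glue (range_of_allRange c33_16) (range_glue (range_of_allRange c33_17) (range_glue (range_of_allRange c33_18) (range_glue (range_of_allRange c33_19) (range_glue (range_of_allRange c33_20) (range_glue (range_of_allRange c33_21) (range_of_allRange c33_22))))))))))))))))))))))) i (Nat.zero_le _) hi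

def chk34 : List Nat := [0, 0, 3, 0, 0, 0, 2, 0, 0, 0, 3, 0, 0, 0, 2, 0, 0, 0, 3, 0, 0, 0, 2, 0, 0, 0, 3, 0, 0, 0, 2, 0]
noncomputable def act34 (i : Nat) : Nat := col1 (col1 (col2 (col1 (col1 (col1 (col3 (col1 (col1 (col1 (col2 (col1 (col1 (col1 (col3 (col1 (col1 (col1 (col2 (col1 (col1 (col1 (col3 (col1 (col1 (col1 (col2 (col1 (col1 (col1 (col3 (col1 (i))))))))))))))))))))))))))))))))
theorem act34_eq (i : Nat) : act34 i = Tab.act T D chk34 i := rfl
theorem c34_0 : allRange (fun i => Nat.beq (act34 i) i) 0 1764 = true := by decide +kernel
theorem c34_1 : allRange (fun i => Nat.beq (act34 i) i) 1764 1764 = true := by decide +kernel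
theorem c34_2 : allRange (fun i => Nat.beq (act34 i) i) 3528 1764 = true := by decide +kernel
theorem c34_3 : allRange (fun i => Nat.beq (act34 i) i) 5292 1764 = true := by decide +kernel
theorem c34_4 : allRange (fun i => Nat.beq (act34 i) i) 7056 1764 = true := by decide +kernel
theorem c34_5 : allRange (fun i => Nat.beq (act34 i) i) 8820 1764 = true := by decide +kernel
theorem c34_6 : allRange (fun i => Nat.beq (act34 i) i) 10584 1764 = true := by decide +kernel
theorem c34_7 : allRange (fun i => Nat.beq (act34 i) i) 12348 1764 = true := by decide +kernel
theorem c34_8 : allRange (fun i => Nat.beq (act34 i) i) 14112 1764 = true := by decide +kernel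
theorem c34_9 : allRange (fun i => Nat.beq (act34 i) i) 15876 1764 = true := by decide +kernel
theorem c34_10 : allRange (fun i => Nat.beq (act34 i) i) 17640 1764 = true := by decide +kernel
theorem c34_11 : allRange (fun i => Nat.beq (act34 i) i) 19404 1764 = true := by decide +kernel
theorem c34_12 : allRange (fun i => Nat.beq (act34 i) i) 21168 1764 = true := by decide +kernel
theorem c34_13 : allRange (fun i => Nat.beq (act34 i) i) 22932 1764 = true := by decide +kernel
theorem c34_14 : allRange (fun i => Nat.beq (act34 i) i) 24696 1764 = true := by decide +kernel
theorem c34_15 : allRange (fun i => Nat.beq (act34 i) i) 26460 1764 = true := by decide +kernel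
theorem c34_16 : allRange (fun i => Nat.beq (act34 i) i) 28224 1764 = true := by decide +kernel
theorem c34_17 : allRange (fun i => Nat.beq (act34 i) i) 29988 1764 = true := by decide +kernel
theorem c34_18 : allRange (fun i => Nat.beq (act34 i) i) 31752 1764 = true := by decide +kernel
theorem c34_19 : allRange (fun i => Nat.beq (act34 i) i) 33516 1764 = true := by decide +kernel
theorem c34_20 : allRange (fun i => Nat.beq (act34 i) i) 35280 1764 = true := by decide +kernel
theorem c34_21 : allRange (fun i => Nat.beq (act34 i) i) 37044 1764 = true := by decide +kernel
theorem c34_22 : allRange (fun i => Nat.beq (act34 i) i) 38808 1764 = true := by decide +kernel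
theorem c34_23 : allRange (fun i => Nat.beq (act34 i) i) 40572 1764 = true := by decide +kernel
theorem c34_24 : allRange (fun i => Nat.beq (act34 i) i) 42336 1764 = true := by decide +kernel
theorem c34_25 : allRange (fun i => Nat.beq (act34 i) i) 44100 1764 = true := by decide +kernel
theorem c34_26 : allRange (fun i => Nat.beq (act34 i) i) 45864 1764 = true := by decide +kernel
theorem c34_27 : allRange (fun i => Nat.beq (act34 i) i) 47628 1764 = true := by decide +kernel
theorem c34_28 : allRange (fun i => Nat.beq (act34 i) i) 49392 1764 = true := by decide +kernel
theorem c34_29 : allRange (fun i => Nat.beq (act34 i) i) 51156 1764 = true := by decide +kernel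
theorem c34_30 : allRange (fun i => Nat.beq (act34 i) i) 52920 1764 = true := by decide +kernel
theorem c34_31 : allRange (fun i => Nat.beq (act34 i) i) 54684 1764 = true := by decide +kernel
theorem c34_32 : allRange (fun i => Nat.beq (act34 i) i) 56448 1764 = true := by decide +kernel
theorem c34_33 : allRange (fun i => Nat.beq (act34 i) i) 58212 1764 = true := by decide +kernel
theorem c34_34 : allRange (fun i => Nat.beq (act34 i) i) 59976 1764 = true := by decide +kernel
theorem c34_35 : allRange (fun i => Nat.beq (act34 i) i) 61740 1764 = true := by decide +kernel
theorem c34_36 : allRange (fun i => Nat.beq (act34 i) i) 63504 1764 = true := by decide +kernel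
theorem c34_37 : allRange (fun i => Nat.beq (act34 i) i) 65268 1557 = true := by decide +kernel
theorem h34 : ∀ i, i < T.N → Tab.relActOK T D chk34 i = true := by
  intro i hi
  rw [Tab.relActOK, ← act34_eq]
  exact (range_glue (range_of_allRange c34_0) (range_glue (range_of_allRange c34_1) (range_glue (range_of_allRange c34_2) (range_glue (range_of_allRange c34_3) (range_glue (range_of_allRange c34_4) (range_glue (range_of_allRange c34_5) (range_glue (range_of_allRange c34_6) (range_glue (range_of_allRange c34_7) (range_glue (range_of_allRange c34_8) (range_glue (range_of_allRange c34_9) (range_glue (range_of_allRange c34_10) (range_glue (range_of_allRange c34_11) (range_glue (range_of_allRange c34_12) (range_glue (range_of_allRange c34_13) (range_glue (range_of_allRange c34_14) (range_glue (range_of_allRange c34_15) (range_glue (range_of_allRange c34_16) (range_glue (range_of_allRange c34_17) (range_glue (range_of_allRange c34_18) (range_glue (range_of_allRange c34_19) (range_glue (range_of_allRange c34_20) (range_glue (range_of_allRange c34_21) (range_glue (range_of_allRange c34_22) (range_glue (range_of_allRange c34_23) (range_glue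 (range_of_allRange c34_24) (range_glue (range_of_allRange c34_25) (range_glue (range_of_allRange c34_26) (range_glue (range_of_allRange c34_27) (range_glue (range_of_allRange c34_28) (range_glue (range_of_allRange c34_29) (range_glue (range_of_allRange c34_30) (range_glue (range_of_allRange c34_31) (range_glue (range_of_allRange c34_32) (range_glue (range_of_allRange c34_33) (range_glue (range_of_allRange c34_34) (range_glue (range_of_allRange c34_35) (range_glue (range_of_allRange c34_36) (range_of_allRange c34_37)))))))))))))))))))))))))))))))))))))) i (Nat.zero_le _) hi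

def chk35 : List Nat := [0, 2, 0, 2, 1, 1, 3, 3, 0, 2, 0, 2, 1, 1, 3, 3, 0, 2, 0, 2, 1, 1, 3, 3, 0, 2, 0, 2, 1, 1, 3, 3]
noncomputable def act35 (i : Nat) : Nat := col1 (col3 (col1 (col3 (col0 (col0 (col2 (col2 (col1 (col3 (col1 (col3 (col0 (col0 (col2 (col2 (col1 (col3 (col1 (col3 (col0 (col0 (col2 (col2 (col1 (col3 (col1 (col3 (col0 (col0 (col2 (col2 (i))))))))))))))))))))))))))))))))
theorem act35_eq (i : Nat) : act35 i = Tab.act T D chk35 i := rfl
theorem c35_0 : allRange (fun i => Nat.beq (act35 i) i) 0 1764 = true := by decide +kernel
theorem c35_1 : allRange (fun i => Nat.beq (act35 i) i) 1764 1764 = true := by decide +kernel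
theorem c35_2 : allRange (fun i => Nat.beq (act35 i) i) 3528 1764 = true := by decide +kernel
theorem c35_3 : allRange (fun i => Nat.beq (act35 i) i) 5292 1764 = true := by decide +kernel
theorem c35_4 : allRange (fun i => Nat.beq (act35 i) i) 7056 1764 = true := by decide +kernel
theorem c35_5 : allRange (fun i => Nat.beq (act35 i) i) 8820 1764 = true := by decide +kernel
theorem c35_6 : allRange (fun i => Nat.beq (act35 i) i) 10584 1764 = true := by decide +kernel
theorem c35_7 : allRange (fun i => Nat.beq (act35 i) i) 12348 1764 = true := by decide +kernel
theorem c35_8 : allRange (fun i => Nat.beq (act35 i) i) 14112 1764 = true := by decide +kernel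
theorem c35_9 : allRange (fun i => Nat.beq (act35 i) i) 15876 1764 = true := by decide +kernel
theorem c35_10 : allRange (fun i => Nat.beq (act35 i) i) 17640 1764 = true := by decide +kernel
theorem c35_11 : allRange (fun i => Nat.beq (act35 i) i) 19404 1764 = true := by decide +kernel
theorem c35_12 : allRange (fun i => Nat.beq (act35 i) i) 21168 1764 = true := by decide +kernel
theorem c35_13 : allRange (fun i => Nat.beq (act35 i) i) 22932 1764 = true := by decide +kernel
theorem c35_14 : allRange (fun i => Nat.beq (act35 i) i) 24696 1764 = true := by decide +kernel
theorem c35_15 : allRange (fun i => Nat.beq (act35 i) i) 26460 1764 = true := by decide +kernel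
theorem c35_16 : allRange (fun i => Nat.beq (act35 i) i) 28224 1764 = true := by decide +kernel
theorem c35_17 : allRange (fun i => Nat.beq (act35 i) i) 29988 1764 = true := by decide +kernel
theorem c35_18 : allRange (fun i => Nat.beq (act35 i) i) 31752 1764 = true := by decide +kernel
theorem c35_19 : allRange (fun i => Nat.beq (act35 i) i) 33516 1764 = true := by decide +kernel
theorem c35_20 : allRange (fun i => Nat.beq (act35 i) i) 35280 1764 = true := by decide +kernel
theorem c35_21 : allRange (fun i => Nat.beq (act35 i) i) 37044 1764 = true := by decide +kernel
theorem c35_22 : allRange (fun i => Nat.beq (act35 i) i) 38808 1764 = true := by decide +kernel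
theorem c35_23 : allRange (fun i => Nat.beq (act35 i) i) 40572 1764 = true := by decide +kernel
theorem c35_24 : allRange (fun i => Nat.beq (act35 i) i) 42336 1764 = true := by decide +kernel
theorem c35_25 : allRange (fun i => Nat.beq (act35 i) i) 44100 1764 = true := by decide +kernel
theorem c35_26 : allRange (fun i => Nat.beq (act35 i) i) 45864 1764 = true := by decide +kernel
theorem c35_27 : allRange (fun i => Nat.beq (act35 i) i) 47628 1764 = true := by decide +kernel
theorem c35_28 : allRange (fun i => Nat.beq (act35 i) i) 49392 1764 = true := by decide +kernel
theorem c35_29 : allRange (fun i => Nat.beq (act35 i) i) 51156 1764 = true := by decide +kernel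
theorem c35_30 : allRange (fun i => Nat.beq (act35 i) i) 52920 1764 = true := by decide +kernel
theorem c35_31 : allRange (fun i => Nat.beq (act35 i) i) 54684 1764 = true := by decide +kernel
theorem c35_32 : allRange (fun i => Nat.beq (act35 i) i) 56448 1764 = true := by decide +kernel
theorem c35_33 : allRange (fun i => Nat.beq (act35 i) i) 58212 1764 = true := by decide +kernel
theorem c35_34 : allRange (fun i => Nat.beq (act35 i) i) 59976 1764 = true := by decide +kernel
theorem c35_35 : allRange (fun i => Nat.beq (act35 i) i) 61740 1764 = true := by decide +kernel
theorem c35_36 : allRange (fun i => Nat.beq (act35 i) i) 63504 1764 = true := by decide +kernel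
theorem c35_37 : allRange (fun i => Nat.beq (act35 i) i) 65268 1557 = true := by decide +kernel
theorem h35 : ∀ i, i < T.N → Tab.relActOK T D chk35 i = true := by
  intro i hi
  rw [Tab.relActOK, ← act35_eq]
  exact (range_glue (range_of_allRange c35_0) (range_glue (range_of_allRange c35_1) (range_glue (range_of_allRange c35_2) (range_glue (range_of_allRange c35_3) (range_glue (range_of_allRange c35_4) (range_glue (range_of_allRange c35_5) (range_glue (range_of_allRange c35_6) (range_glue (range_of_allRange c35_7) (range_glue (range_of_allRange c35_8) (range_glue (range_of_allRange c35_9) (range_glue (range_of_allRange c35_10) (range_glue (range_of_allRange c35_11) (range_glue (range_of_allRange c35_12) (range_glue (range_of_allRange c35_13) (range_glue (range_of_allRange c35_14) (range_glue (range_of_allRange c35_15) (range_glue (range_of_allRange c35_16) (range_glue (range_of_allRange c35_17) (range_glue (range_of_allRange c35_18) (range_glue (range_of_allRange c35_19) (range_glue (range_of_allRange c35_20) (range_glue (range_of_allRange c35_21) (range_glue (range_of_allRange c35_22) (range_glue (range_of_allRange c35_23) (range_glue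 (range_of_allRange c35_24) (range_glue (range_of_allRange c35_25) (range_glue (range_of_allRange c35_26) (range_glue (range_of_allRange c35_27) (range_glue (range_of_allRange c35_28) (range_glue (range_of_allRange c35_29) (range_glue (range_of_allRange c35_30) (range_glue (range_of_allRange c35_31) (range_glue (range_of_allRange c35_32) (range_glue (range_of_allRange c35_33) (range_glue (range_of_allRange c35_34) (range_glue (range_of_allRange c35_35) (range_glue (range_of_allRange c35_36) (range_of_allRange c35_37)))))))))))))))))))))))))))))))))))))) i (Nat.zero_le _) hi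

def chk36 : List Nat := [5, 1, 3, 1, 1, 1, 2, 1, 1, 4, 0, 2, 0, 2, 1, 1, 3, 3]
noncomputable def act36 (i : Nat) : Nat := col4 (col0 (col2 (col0 (col0 (col0 (col3 (col0 (col0 (col5 (col1 (col3 (col1 (col3 (col0 (col0 (col2 (col2 (i))))))))))))))))))
theorem act36_eq (i : Nat) : act36 i = Tab.act T D chk36 i := rfl
theorem c36_0 : allRange (fun i => Nat.beq (act36 i) i) 0 3000 = true := by decide +kernel
theorem c36_1 : allRange (fun i => Nat.beq (act36 i) i) 3000 3000 = true := by decide +kernel
theorem c36_2 : allRange (fun i => Nat.beq (act36 i) i) 6000 3000 = true := by decide +kernel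
theorem c36_3 : allRange (fun i => Nat.beq (act36 i) i) 9000 3000 = true := by decide +kernel
theorem c36_4 : allRange (fun i => Nat.beq (act36 i) i) 12000 3000 = true := by decide +kernel
theorem c36_5 : allRange (fun i => Nat.beq (act36 i) i) 15000 3000 = true := by decide +kernel
theorem c36_6 : allRange (fun i => Nat.beq (act36 i) i) 18000 3000 = true := by decide +kernel
theorem c36_7 : allRange (fun i => Nat.beq (act36 i) i) 21000 3000 = true := by decide +kernel
theorem c36_8 : allRange (fun i => Nat.beq (act36 i) i) 24000 3000 = true := by decide +kernel
theorem c36_9 : allRange (fun i => Nat.beq (act36 i) i) 27000 3000 = true := by decide +kernel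
theorem c36_10 : allRange (fun i => Nat.beq (act36 i) i) 30000 3000 = true := by decide +kernel
theorem c36_11 : allRange (fun i => Nat.beq (act36 i) i) 33000 3000 = true := by decide +kernel
theorem c36_12 : allRange (fun i => Nat.beq (act36 i) i) 36000 3000 = true := by decide +kernel
theorem c36_13 : allRange (fun i => Nat.beq (act36 i) i) 39000 3000 = true := by decide +kernel
theorem c36_14 : allRange (fun i => Nat.beq (act36 i) i) 42000 3000 = true := by decide +kernel
theorem c36_15 : allRange (fun i => Nat.beq (act36 i) i) 45000 3000 = true := by decide +kernel
theorem c36_16 : allRange (fun i => Nat.beq (act36 i) i) 48000 3000 = true := by decide +kernel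
theorem c36_17 : allRange (fun i => Nat.beq (act36 i) i) 51000 3000 = true := by decide +kernel
theorem c36_18 : allRange (fun i => Nat.beq (act36 i) i) 54000 3000 = true := by decide +kernel
theorem c36_19 : allRange (fun i => Nat.beq (act36 i) i) 57000 3000 = true := by decide +kernel
theorem c36_20 : allRange (fun i => Nat.beq (act36 i) i) 60000 3000 = true := by decide +kernel
theorem c36_21 : allRange (fun i => Nat.beq (act36 i) i) 63000 3000 = true := by decide +kernel
theorem c36_22 : allRange (fun i => Nat.beq (act36 i) i) 66000 825 = true := by decide +kernel
theorem h36 : ∀ i, i < T.N → Tab.relActOK T D chk36 i = true := by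
  intro i hi
  rw [Tab.relActOK, ← act36_eq]
  exact (range_glue (range_of_allRange c36_0) (range_glue (range_of_allRange c36_1) (range_glue (range_of_allRange c36_2) (range_glue (range_of_allRange c36_3) (range_glue (range_of_allRange c36_4) (range_glue (range_of_allRange c36_5) (range_glue (range_of_allRange c36_6) (range_glue (range_of_allRange c36_7) (range_glue (range_of_allRange c36_8) (range_glue (range_of_allRange c36_9) (range_glue (range_of_allRange c36_10) (range_glue (range_of_allRange c36_11) (range_glue (range_of_allRange c36_12) (range_glue (range_of_allRange c36_13) (range_glue (range_of_allRange c36_14) (range_glue (range_of_allRange c36_15) (range_glue (range_of_allRange c36_16) (range_glue (range_of_allRange c36_17) (range_glue (range_of_allRange c36_18) (range_glue (range_of_allRange c36_19) (range_glue (range_of_allRange c36_20) (range_glue (range_of_allRange c36_21) (range_of_allRange c36_22))))))))))))))))))))))) i (Nat.zero_le _) hi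

def chk37 : List Nat := [1, 3, 1, 1, 1, 2, 1, 1, 1, 3, 1, 1, 1, 2, 1, 1, 1, 3, 1, 1, 1, 2, 1, 1, 1, 3, 1, 1, 1, 2, 1, 1]
noncomputable def act37 (i : Nat) : Nat := col0 (col2 (col0 (col0 (col0 (col3 (col0 (col0 (col0 (col2 (col0 (col0 (col0 (col3 (col0 (col0 (col0 (col2 (col0 (col0 (col0 (col3 (col0 (col0 (col0 (col2 (col0 (col0 (col0 (col3 (col0 (col0 (i))))))))))))))))))))))))))))))))
theorem act37_eq (i : Nat) : act37 i = Tab.act T D chk37 i := rfl
theorem c37_0 : allRange (fun i => Nat.beq (act37 i) i) 0 1764 = true := by decide +kernel
theorem c37_1 : allRange (fun i => Nat.beq (act37 i) i) 1764 1764 = true := by decide +kernel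
theorem c37_2 : allRange (fun i => Nat.beq (act37 i) i) 3528 1764 = true := by decide +kernel
theorem c37_3 : allRange (fun i => Nat.beq (act37 i) i) 5292 1764 = true := by decide +kernel
theorem c37_4 : allRange (fun i => Nat.beq (act37 i) i) 7056 1764 = true := by decide +kernel
theorem c37_5 : allRange (fun i => Nat.beq (act37 i) i) 8820 1764 = true := by decide +kernel
theorem c37_6 : allRange (fun i => Nat.beq (act37 i) i) 10584 1764 = true := by decide +kernel
theorem c37_7 : allRange (fun i => Nat.beq (act37 i) i) 12348 1764 = true := by decide +kernel
theorem c37_8 : allRange (fun i => Nat.beq (act37 i) i) 14112 1764 = true := by decide +kernel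
theorem c37_9 : allRange (fun i => Nat.beq (act37 i) i) 15876 1764 = true := by decide +kernel
theorem c37_10 : allRange (fun i => Nat.beq (act37 i) i) 17640 1764 = true := by decide +kernel
theorem c37_11 : allRange (fun i => Nat.beq (act37 i) i) 19404 1764 = true := by decide +kernel
theorem c37_12 : allRange (fun i => Nat.beq (act37 i) i) 21168 1764 = true := by decide +kernel
theorem c37_13 : allRange (fun i => Nat.beq (act37 i) i) 22932 1764 = true := by decide +kernel
theorem c37_14 : allRange (fun i => Nat.beq (act37 i) i) 24696 1764 = true := by decide +kernel
theorem c37_15 : allRange (fun i => Nat.beq (act37 i) i) 26460 1764 = true := by decide +kernel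
theorem c37_16 : allRange (fun i => Nat.beq (act37 i) i) 28224 1764 = true := by decide +kernel
theorem c37_17 : allRange (fun i => Nat.beq (act37 i) i) 29988 1764 = true := by decide +kernel
theorem c37_18 : allRange (fun i => Nat.beq (act37 i) i) 31752 1764 = true := by decide +kernel
theorem c37_19 : allRange (fun i => Nat.beq (act37 i) i) 33516 1764 = true := by decide +kernel
theorem c37_20 : allRange (fun i => Nat.beq (act37 i) i) 35280 1764 = true := by decide +kernel
theorem c37_21 : allRange (fun i => Nat.beq (act37 i) i) 37044 1764 = true := by decide +kernel
theorem c37_22 : allRange (fun i => Nat.beq (act37 i) i) 38808 1764 = true := by decide +kernel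
theorem c37_23 : allRange (fun i => Nat.beq (act37 i) i) 40572 1764 = true := by decide +kernel
theorem c37_24 : allRange (fun i => Nat.beq (act37 i) i) 42336 1764 = true := by decide +kernel
theorem c37_25 : allRange (fun i => Nat.beq (act37 i) i) 44100 1764 = true := by decide +kernel
theorem c37_26 : allRange (fun i => Nat.beq (act37 i) i) 45864 1764 = true := by decide +kernel
theorem c37_27 : allRange (fun i => Nat.beq (act37 i) i) 47628 1764 = true := by decide +kernel
theorem c37_28 : allRange (fun i => Nat.beq (act37 i) i) 49392 1764 = true := by decide +kernel
theorem c37_29 : allRange (fun i => Nat.beq (act37 i) i) 51156 1764 = true := by decide +kernel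
theorem c37_30 : allRange (fun i => Nat.beq (act37 i) i) 52920 1764 = true := by decide +kernel
theorem c37_31 : allRange (fun i => Nat.beq (act37 i) i) 54684 1764 = true := by decide +kernel
theorem c37_32 : allRange (fun i => Nat.beq (act37 i) i) 56448 1764 = true := by decide +kernel
theorem c37_33 : allRange (fun i => Nat.beq (act37 i) i) 58212 1764 = true := by decide +kernel
theorem c37_34 : allRange (fun i => Nat.beq (act37 i) i) 59976 1764 = true := by decide +kernel
theorem c37_35 : allRange (fun i => Nat.beq (act37 i) i) 61740 1764 = true := by decide +kernel
theorem c37_36 : allRange (fun i => Nat.beq (act37 i) i) 63504 1764 = true := by decide +kernel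
theorem c37_37 : allRange (fun i => Nat.beq (act37 i) i) 65268 1557 = true := by decide +kernel
theorem h37 : ∀ i, i < T.N → Tab.relActOK T D chk37 i = true := by
  intro i hi
  rw [Tab.relActOK, ← act37_eq]
  exact (range_glue (range_of_allRange c37_0) (range_glue (range_of_allRange c37_1) (range_glue (range_of_allRange c37_2) (range_glue (range_of_allRange c37_3) (range_glue (range_of_allRange c37_4) (range_glue (range_of_allRange c37_5) (range_glue (range_of_allRange c37_6) (range_glue (range_of_allRange c37_7) (range_glue (range_of_allRange c37_8) (range_glue (range_of_allRange c37_9) (range_glue (range_of_allRange c37_10) (range_glue (range_of_allRange c37_11) (range_glue (range_of_allRange c37_12) (range_glue (range_of_allRange c37_13) (range_glue (range_of_allRange c37_14) (range_glue (range_of_allRange c37_15) (range_glue (range_of_allRange c37_16) (range_glue (range_of_allRange c37_17) (range_glue (range_of_allRange c37_18) (range_glue (range_of_allRange c37_19) (range_glue (range_of_allRange c37_20) (range_glue (range_of_allRange c37_21) (range_glue (range_of_allRange c37_22) (range_glue (range_of_allRange c37_23) (range_glue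 (range_of_allRange c37_24) (range_glue (range_of_allRange c37_25) (range_glue (range_of_allRange c37_26) (range_glue (range_of_allRange c37_27) (range_glue (range_of_allRange c37_28) (range_glue (range_of_allRange c37_29) (range_glue (range_of_allRange c37_30) (range_glue (range_of_allRange c37_31) (range_glue (range_of_allRange c37_32) (range_glue (range_of_allRange c37_33) (range_glue (range_of_allRange c37_34) (range_glue (range_of_allRange c37_35) (range_glue (range_of_allRange c37_36) (range_of_allRange c37_37)))))))))))))))))))))))))))))))))))))) i (Nat.zero_le _) hi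

def chk38 : List Nat := [2, 2, 0, 0, 3, 1, 3, 1, 2, 2, 0, 0, 3, 1, 3, 1, 2, 2, 0, 0, 3, 1, 3, 1, 2, 2, 0, 0, 3, 1, 3, 1]
noncomputable def act38 (i : Nat) : Nat := col3 (col3 (col1 (col1 (col2 (col0 (col2 (col0 (col3 (col3 (col1 (col1 (col2 (col0 (col2 (col0 (col3 (col3 (col1 (col1 (col2 (col0 (col2 (col0 (col3 (col3 (col1 (col1 (col2 (col0 (col2 (col0 (i))))))))))))))))))))))))))))))))
theorem act38_eq (i : Nat) : act38 i = Tab.act T D chk38 i := rfl
theorem c38_0 : allRange (fun i => Nat.beq (act38 i) i) 0 1764 = true := by decide +kernel
theorem c38_1 : allRange (fun i => Nat.beq (act38 i) i) 1764 1764 = true := by decide +kernel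
theorem c38_2 : allRange (fun i => Nat.beq (act38 i) i) 3528 1764 = true := by decide +kernel
theorem c38_3 : allRange (fun i => Nat.beq (act38 i) i) 5292 1764 = true := by decide +kernel
theorem c38_4 : allRange (fun i => Nat.beq (act38 i) i) 7056 1764 = true := by decide +kernel
theorem c38_5 : allRange (fun i => Nat.beq (act38 i) i) 8820 1764 = true := by decide +kernel
theorem c38_6 : allRange (fun i => Nat.beq (act38 i) i) 10584 1764 = true := by decide +kernel
theorem c38_7 : allRange (fun i => Nat.beq (act38 i) i) 12348 1764 = true := by decide +kernel
theorem c38_8 : allRange (fun i => Nat.beq (act38 i) i) 14112 1764 = true := by decide +kernel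
theorem c38_9 : allRange (fun i => Nat.beq (act38 i) i) 15876 1764 = true := by decide +kernel
theorem c38_10 : allRange (fun i => Nat.beq (act38 i) i) 17640 1764 = true := by decide +kernel
theorem c38_11 : allRange (fun i => Nat.beq (act38 i) i) 19404 1764 = true := by decide +kernel
theorem c38_12 : allRange (fun i => Nat.beq (act38 i) i) 21168 1764 = true := by decide +kernel
theorem c38_13 : allRange (fun i => Nat.beq (act38 i) i) 22932 1764 = true := by decide +kernel
theorem c38_14 : allRange (fun i => Nat.beq (act38 i) i) 24696 1764 = true := by decide +kernel
theorem c38_15 : allRange (fun i => Nat.beq (act38 i) i) 26460 1764 = true := by decide +kernel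
theorem c38_16 : allRange (fun i => Nat.beq (act38 i) i) 28224 1764 = true := by decide +kernel
theorem c38_17 : allRange (fun i => Nat.beq (act38 i) i) 29988 1764 = true := by decide +kernel
theorem c38_18 : allRange (fun i => Nat.beq (act38 i) i) 31752 1764 = true := by decide +kernel
theorem c38_19 : allRange (fun i => Nat.beq (act38 i) i) 33516 1764 = true := by decide +kernel
theorem c38_20 : allRange (fun i => Nat.beq (act38 i) i) 35280 1764 = true := by decide +kernel
theorem c38_21 : allRange (fun i => Nat.beq (act38 i) i) 37044 1764 = true := by decide +kernel
theorem c38_22 : allRange (fun i => Nat.beq (act38 i) i) 38808 1764 = true := by decide +kernel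
theorem c38_23 : allRange (fun i => Nat.beq (act38 i) i) 40572 1764 = true := by decide +kernel
theorem c38_24 : allRange (fun i => Nat.beq (act38 i) i) 42336 1764 = true := by decide +kernel
theorem c38_25 : allRange (fun i => Nat.beq (act38 i) i) 44100 1764 = true := by decide +kernel
theorem c38_26 : allRange (fun i => Nat.beq (act38 i) i) 45864 1764 = true := by decide +kernel
theorem c38_27 : allRange (fun i => Nat.beq (act38 i) i) 47628 1764 = true := by decide +kernel
theorem c38_28 : allRange (fun i => Nat.beq (act38 i) i) 49392 1764 = true := by decide +kernel
theorem c38_29 : allRange (fun i => Nat.beq (act38 i) i) 51156 1764 = true := by decide +kernel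
theorem c38_30 : allRange (fun i => Nat.beq (act38 i) i) 52920 1764 = true := by decide +kernel
theorem c38_31 : allRange (fun i => Nat.beq (act38 i) i) 54684 1764 = true := by decide +kernel
theorem c38_32 : allRange (fun i => Nat.beq (act38 i) i) 56448 1764 = true := by decide +kernel
theorem c38_33 : allRange (fun i => Nat.beq (act38 i) i) 58212 1764 = true := by decide +kernel
theorem c38_34 : allRange (fun i => Nat.beq (act38 i) i) 59976 1764 = true := by decide +kernel
theorem c38_35 : allRange (fun i => Nat.beq (act38 i) i) 61740 1764 = true := by decide +kernel
theorem c38_36 : allRange (fun i => Nat.beq (act38 i) i) 63504 1764 = true := by decide +kernel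
theorem c38_37 : allRange (fun i => Nat.beq (act38 i) i) 65268 1557 = true := by decide +kernel
theorem h38 : ∀ i, i < T.N → Tab.relActOK T D chk38 i = true := by
  intro i hi
  rw [Tab.relActOK, ← act38_eq]
  exact (range_glue (range_of_allRange c38_0) (range_glue (range_of_allRange c38_1) (range_glue (range_of_allRange c38_2) (range_glue (range_of_allRange c38_3) (range_glue (range_of_allRange c38_4) (range_glue (range_of_allRange c38_5) (range_glue (range_of_allRange c38_6) (range_glue (range_of_allRange c38_7) (range_glue (range_of_allRange c38_8) (range_glue (range_of_allRange c38_9) (range_glue (range_of_allRange c38_10) (range_glue (range_of_allRange c38_11) (range_glue (range_of_allRange c38_12) (range_glue (range_of_allRange c38_13) (range_glue (range_of_allRange c38_14) (range_glue (range_of_allRange c38_15) (range_glue (range_of_allRange c38_16) (range_glue (range_of_allRange c38_17) (range_glue (range_of_allRange c38_18) (range_glue (range_of_allRange c38_19) (range_glue (range_of_allRange c38_20) (range_glue (range_of_allRange c38_21) (range_glue (range_of_allRange c38_22) (range_glue (range_of_allRange c38_23) (range_glue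 (range_of_allRange c38_24) (range_glue (range_of_allRange c38_25) (range_glue (range_of_allRange c38_26) (range_glue (range_of_allRange c38_27) (range_glue (range_of_allRange c38_28) (range_glue (range_of_allRange c38_29) (range_glue (range_of_allRange c38_30) (range_glue (range_of_allRange c38_31) (range_glue (range_of_allRange c38_32) (range_glue (range_of_allRange c38_33) (range_glue (range_of_allRange c38_34) (range_glue (range_of_allRange c38_35) (range_glue (range_of_allRange c38_36) (range_of_allRange c38_37)))))))))))))))))))))))))))))))))))))) i (Nat.zero_le _) hi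

def chkAll : List (List Nat) := [chk0, chk1, chk2, chk3, chk4, chk5, chk6, chk7, chk8, chk9, chk10, chk11, chk12, chk13, chk14, chk15, chk16, chk17, chk18, chk19, chk20, chk21, chk22, chk23, chk24, chk25, chk26, chk27, chk28, chk29, chk30, chk31, chk32, chk33, chk34, chk35, chk36, chk37, chk38]
theorem hAll : ∀ w ∈ chkAll, ∀ i, i < T.N → Tab.relActOK T D w i = true := by
  intro w hw
  simp only [chkAll, List.mem_cons, List.not_mem_nil, or_false] at hw
  rcases hw with rfl | rfl | rfl | rfl | rfl | rfl | rfl | rfl | rfl | rfl | rfl | rfl | rfl | rfl | rfl | rfl | rfl | rfl | rfl | rfl | rfl | rfl | rfl | rfl | rfl | rfl | rfl | rfl | rfl | rfl | rfl | rfl | rfl | rfl | rfl | rfl | rfl | rfl | rfl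
  · exact h0
  · exact h1
  · exact h2
  · exact h3
  · exact h4
  · exact h5
  · exact h6
  · exact h7
  · exact h8
  · exact h9
  · exact h10
  · exact h11
  · exact h12
  · exact h13
  · exact h14
  · exact h15
  · exact h16
  · exact h17
  · exact h18
  · exact h19
  · exact h20
  · exact h21
  · exact h22
  · exact h23
  · exact h24
  · exact h25
  · exact h26
  · exact h27
  · exact h28
  · exact h29
  · exact h30
  · exact h31
  · exact h32
  · exact h33
  · exact h34
  · exact h35
  · exact h36
  · exact h37
  · exact h38
theorem hAll_lt : ∀ w ∈ chkAll, ∀ x ∈ w, x < 8 := by decide +kernel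

end Cfsg.Agent.Lib.Helper4.TCD.SC3McLp5W
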