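import Mathlib
import Cfsg.Prelude.Def_SporCoxeter

/-! The triple cover of the sporadic Suzuki group, of order 3·448345497600, presented on lifts `c`, `d`, `t`, `s`, `u` of the generators of `Suzp` and the central element `z` of order 3 (generated). -/

namespace Cfsg.Agent.Lib.Helper4

namespace C3Suz

/-- the generators -/
inductive Gen
  | c
  | d
  | t
  | s
  | u
  | z
  deriving DecidableEq

abbrev c : FreeGroup Gen := FreeGroup.of Gen.c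
abbrev d : FreeGroup Gen := FreeGroup.of Gen.d
abbrev t : FreeGroup Gen := FreeGroup.of Gen.t
abbrev s : FreeGroup Gen := FreeGroup.of Gen.s
abbrev u : FreeGroup Gen := FreeGroup.of Gen.u
abbrev z : FreeGroup Gen := FreeGroup.of Gen.z

/-- no Coxeter graph -/
def edges : List (Gen × ℕ × Gen) := []

/-- the relators -/
def extra : List (FreeGroup Gen) := [
  c ^ 7,
  c * c * d * c⁻¹ * d * c * d⁻¹ * c * d * c⁻¹ * d,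
  (c * c * c * d) ^ 3,
  c * c * d * d * c * c * d⁻¹ * d⁻¹ * c * c * d⁻¹ * d⁻¹,
  t ^ 2,
  c * t * d⁻¹ * t * d * c⁻¹ * d * c⁻¹ * c⁻¹ * t * d,
  c * t * c⁻¹ * d⁻¹ * c⁻¹ * d⁻¹ * c * t * c⁻¹ * d⁻¹ * c⁻¹ * d⁻¹,
  s * s,
  c * d * c⁻¹ * t * s * d * s⁻¹ * t,
  c * d * c⁻¹ * s⁻¹ * t * c⁻¹ * d * c * t * s,
  c * c * t * d⁻¹ * c⁻¹ * d⁻¹ * c⁻¹ * t * d * t * d⁻¹ * c * s * c * s * t * s⁻¹,
  u * u,
  c * u * c⁻¹ * d⁻¹ * t * d⁻¹ * u * d * t * d,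
  c * d⁻¹ * u * d * c⁻¹ * d⁻¹ * c * t * u * t * c⁻¹ * d,
  c * u * c⁻¹ * d * u * d⁻¹ * c * u * c⁻¹ * d * u * d⁻¹,
  c * c * t * d⁻¹ * d⁻¹ * c⁻¹ * u * c * d * d * t * c⁻¹ * c⁻¹ * u,
  c * c * t * d * d * c⁻¹ * u * c * d * d * t * c⁻¹ * c⁻¹ * u,
  c * c * d⁻¹ * u * c⁻¹ * t * u * t * c * u * c⁻¹ * d⁻¹ * c⁻¹ * d⁻¹,
  c * d * c⁻¹ * t * c * u * c⁻¹ * s * d * s * c * u * c⁻¹ * t,
  c * d⁻¹ * c * d⁻¹ * u * d * c⁻¹ * d * c⁻¹ * d * c * u * c⁻¹ * d⁻¹,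
  c * c * d * c * c * d * u * d⁻¹ * c⁻¹ * c⁻¹ * d⁻¹ * c⁻¹ * c⁻¹ * u,
  c * t * d * u * d⁻¹ * t * c⁻¹ * d * t * c * u * c⁻¹ * t * d⁻¹,
  c * c * c * d⁻¹ * t * u * t * d * c⁻¹ * c⁻¹ * c⁻¹ * t * u * t,
  c * t * u * t * u * d * d * u * t * u * t * c⁻¹ * d * d,
  c * d * u * s * u * t * u * s * u * c * t * c⁻¹ * t * d,
  ((d * u * t * s) ^ 8) * z⁻¹,
  z ^ 3,
  z⁻¹ * c⁻¹ * z * c,
  z⁻¹ * d⁻¹ * z * d,
  z⁻¹ * t⁻¹ * z * t,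
  z⁻¹ * s⁻¹ * z * s,
  z⁻¹ * u⁻¹ * z * u ]

end C3Suz

end Cfsg.Agent.Lib.Helper4
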