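import Cfsg.Agent.Lib.Helper4.TCD_C3SuzB_Acc

namespace Cfsg.Agent.Lib.Helper4.TCD.C3SuzB

open Cfsg.Agent.Lib.Helper4.TC

set_option maxRecDepth 100000
set_option Elab.async false

theorem c_act19_0 : allRange (fun i => Nat.beq (actR19 i) i) 0 4285 = true := by decide +kernel
theorem c_act19_1 : allRange (fun i => Nat.beq (actR19 i) i) 4285 1061 = true := by decide +kernel
theorem c_act20_0 : allRange (fun i => Nat.beq (actR20 i) i) 0 4285 = true := by decide +kernel
theorem c_act20_1 : allRange (fun i => Nat.beq (actR20 i) i) 4285 1061 = true := by decide +kernel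
theorem c_act21_0 : allRange (fun i => Nat.beq (actR21 i) i) 0 4285 = true := by decide +kernel
theorem c_act21_1 : allRange (fun i => Nat.beq (actR21 i) i) 4285 1061 = true := by decide +kernel
theorem c_act22_0 : allRange (fun i => Nat.beq (actR22 i) i) 0 4285 = true := by decide +kernel
theorem c_act22_1 : allRange (fun i => Nat.beq (actR22 i) i) 4285 1061 = true := by decide +kernel
theorem c_act23_0 : allRange (fun i => Nat.beq (actR23 i) i) 0 4285 = true := by decide +kernel
theorem c_act23_1 : allRange (fun i => Nat.beq (actR23 i) i) 4285 1061 = true := by decide +kernel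
theorem c_act24_0 : allRange (fun i => Nat.beq (actR24 i) i) 0 4285 = true := by decide +kernel
theorem c_act24_1 : allRange (fun i => Nat.beq (actR24 i) i) 4285 1061 = true := by decide +kernel
theorem c_act25_0 : allRange (fun i => Nat.beq (actR25 i) i) 0 1818 = true := by decide +kernel
theorem c_act25_1 : allRange (fun i => Nat.beq (actR25 i) i) 1818 1818 = true := by decide +kernel
theorem c_act25_2 : allRange (fun i => Nat.beq (actR25 i) i) 3636 1710 = true := by decide +kernel
theorem c_act26_0 : allRange (fun i => Nat.beq (actR26 i) i) 0 5346 = true := by decide +kernel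
theorem c_act27_0 : allRange (fun i => Nat.beq (actR27 i) i) 0 5346 = true := by decide +kernel
theorem c_act28_0 : allRange (fun i => Nat.beq (actR28 i) i) 0 5346 = true := by decide +kernel
theorem c_act29_0 : allRange (fun i => Nat.beq (actR29 i) i) 0 5346 = true := by decide +kernel
theorem c_act30_0 : allRange (fun i => Nat.beq (actR30 i) i) 0 5346 = true := by decide +kernel
theorem c_act31_0 : allRange (fun i => Nat.beq (actR31 i) i) 0 5346 = true := by decide +kernel

end Cfsg.Agent.Lib.Helper4.TCD.C3SuzB
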