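import Cfsg.Agent.Lib.Helper4.TCD_L34pU1_Acc

namespace Cfsg.Agent.Lib.Helper4.TCD.L34pU1

open Cfsg.Agent.Lib.Helper4.TC

set_option maxRecDepth 100000
set_option Elab.async false

theorem c_rel_54 : allRange D.relOK 417640 3092 = true := by decide +kernel
theorem c_rel_55 : allRange D.relOK 420732 3722 = true := by decide +kernel
theorem c_rel_56 : allRange D.relOK 424454 3702 = true := by decide +kernel
theorem c_rel_57 : allRange D.relOK 428156 3707 = true := by decide +kernel
theorem c_rel_58 : allRange D.relOK 431863 3700 = true := by decide +kernel
theorem c_rel_59 : allRange D.relOK 435563 3685 = true := by decide +kernel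
theorem c_rel_60 : allRange D.relOK 439248 3681 = true := by decide +kernel
theorem c_rel_61 : allRange D.relOK 442929 3685 = true := by decide +kernel
theorem c_rel_62 : allRange D.relOK 446614 3676 = true := by decide +kernel
theorem c_rel_63 : allRange D.relOK 450290 3658 = true := by decide +kernel
theorem c_rel_64 : allRange D.relOK 453948 3645 = true := by decide +kernel
theorem c_rel_65 : allRange D.relOK 457593 3653 = true := by decide +kernel
theorem c_rel_66 : allRange D.relOK 461246 3621 = true := by decide +kernel
theorem c_rel_67 : allRange D.relOK 464867 3635 = true := by decide +kernel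
theorem c_rel_68 : allRange D.relOK 468502 3618 = true := by decide +kernel
theorem c_rel_69 : allRange D.relOK 472120 3607 = true := by decide +kernel
theorem c_rel_70 : allRange D.relOK 475727 3605 = true := by decide +kernel
theorem c_rel_71 : allRange D.relOK 479332 3588 = true := by decide +kernel
theorem c_rel_72 : allRange D.relOK 482920 3589 = true := by decide +kernel
theorem c_rel_73 : allRange D.relOK 486509 3586 = true := by decide +kernel
theorem c_rel_74 : allRange D.relOK 490095 3566 = true := by decide +kernel
theorem c_rel_75 : allRange D.relOK 493661 3550 = true := by decide +kernel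
theorem c_rel_76 : allRange D.relOK 497211 3544 = true := by decide +kernel
theorem c_rel_77 : allRange D.relOK 500755 3528 = true := by decide +kernel
theorem c_rel_78 : allRange D.relOK 504283 3527 = true := by decide +kernel
theorem c_rel_79 : allRange D.relOK 507810 3532 = true := by decide +kernel
theorem c_rel_80 : allRange D.relOK 511342 3507 = true := by decide +kernel
theorem c_rel_81 : allRange D.relOK 514849 3490 = true := by decide +kernel
theorem c_rel_82 : allRange D.relOK 518339 3480 = true := by decide +kernel
theorem c_rel_83 : allRange D.relOK 521819 3473 = true := by decide +kernel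
theorem c_rel_84 : allRange D.relOK 525292 3454 = true := by decide +kernel
theorem c_rel_85 : allRange D.relOK 528746 3446 = true := by decide +kernel
theorem c_rel_86 : allRange D.relOK 532192 3426 = true := by decide +kernel
theorem c_rel_87 : allRange D.relOK 535618 3400 = true := by decide +kernel
theorem c_rel_88 : allRange D.relOK 539018 3396 = true := by decide +kernel
theorem c_rel_89 : allRange D.relOK 542414 3366 = true := by decide +kernel
theorem c_rel_90 : allRange D.relOK 545780 3352 = true := by decide +kernel
theorem c_rel_91 : allRange D.relOK 549132 3339 = true := by decide +kernel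
theorem c_rel_92 : allRange D.relOK 552471 3308 = true := by decide +kernel
theorem c_rel_93 : allRange D.relOK 555779 3303 = true := by decide +kernel
theorem c_rel_94 : allRange D.relOK 559082 3300 = true := by decide +kernel
theorem c_rel_95 : allRange D.relOK 562382 3258 = true := by decide +kernel
theorem c_rel_96 : allRange D.relOK 565640 3239 = true := by decide +kernel
theorem c_rel_97 : allRange D.relOK 568879 3235 = true := by decide +kernel
theorem c_rel_98 : allRange D.relOK 572114 3184 = true := by decide +kernel
theorem c_rel_99 : allRange D.relOK 575298 3179 = true := by decide +kernel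
theorem c_rel_100 : allRange D.relOK 578477 3146 = true := by decide +kernel
theorem c_rel_101 : allRange D.relOK 581623 3134 = true := by decide +kernel
theorem c_rel_102 : allRange D.relOK 584757 3108 = true := by decide +kernel
theorem c_rel_103 : allRange D.relOK 587865 3101 = true := by decide +kernel
theorem c_rel_104 : allRange D.relOK 590966 3064 = true := by decide +kernel
theorem c_rel_105 : allRange D.relOK 594030 3009 = true := by decide +kernel
theorem c_rel_106 : allRange D.relOK 597039 3430 = true := by decide +kernel
theorem c_rel_107 : allRange D.relOK 600469 3716 = true := by decide +kernel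
theorem c_rel_108 : allRange D.relOK 604185 1490 = true := by decide +kernel
theorem c_fin_0 : allGrid (T.finOK D) 0 3000 4 = true := by decide +kernel
theorem c_fin_1 : allGrid (T.finOK D) 3000 3000 4 = true := by decide +kernel
theorem c_fin_2 : allGrid (T.finOK D) 6000 3000 4 = true := by decide +kernel
theorem c_fin_3 : allGrid (T.finOK D) 9000 1080 4 = true := by decide +kernel
theorem c_perm_0 : allGrid (T.permOK1 D) 0 7500 4 = true := by decide +kernel
theorem c_perm_1 : allGrid (T.permOK1 D) 7500 2580 4 = true := by decide +kernel

end Cfsg.Agent.Lib.Helper4.TCD.L34pU1
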