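import Cfsg.Agent.Lib.Helper4.TCD_C48L34L_C0
import Cfsg.Agent.Lib.Helper4.TCD_C48L34L_C1
import Cfsg.Agent.Lib.Helper4.TC13

namespace Cfsg.Agent.Lib.Helper4.TCD.C48L34L

open Cfsg.Agent.Lib.Helper4.TC Cfsg.Agent.Lib.Helper4.TCD.C48L34R

theorem h_p8 : ∀ p, 0 ≤ p → p < 46080 → chk8 p = true :=
  (range_glue (range_of_allRange c_p8_0) (range_glue (range_of_allRange c_p8_1) (range_glue (range_of_allRange c_p8_2) (range_glue (range_of_allRange c_p8_3) (range_glue (range_of_allRange c_p8_4) (range_glue (range_of_allRange c_p8_5) (range_glue (range_of_allRange c_p8_6) (range_glue (range_of_allRange c_p8_7) (range_glue (range_of_allRange c_p8_8) (range_glue (range_of_allRange c_p8_9) (range_glue (range_of_allRange c_p8_10) (range_glue (range_of_allRange c_p8_11) (range_glue (range_of_allRange c_p8_12) (range_glue (range_of_allRange c_p8_13) (range_glue (range_of_allRange c_p8_14) (range_glue (range_of_allRange c_p8_15) (range_glue (range_of_allRange c_p8_16) (range_glue (range_of_allRange c_p8_17) (range_glue (range_of_allRange c_p8_18) (range_glue (range_of_allRange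 c_p8_19) (range_glue (range_of_allRange c_p8_20) (range_glue (range_of_allRange c_p8_21) (range_glue (range_of_allRange c_p8_22) (range_glue (range_of_allRange c_p8_23) (range_glue (range_of_allRange c_p8_24) (range_glue (range_of_allRange c_p8_25) (range_of_allRange c_p8_26)))))))))))))))))))))))))))
theorem h_p9 : ∀ p, 0 ≤ p → p < 46080 → chk9 p = true :=
  (range_glue (range_of_allRange c_p9_0) (range_glue (range_of_allRange c_p9_1) (range_glue (range_of_allRange c_p9_2) (range_of_allRange c_p9_3))))
theorem h_p10 : ∀ p, 0 ≤ p → p < 46080 → chk10 p = true :=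
  (range_glue (range_of_allRange c_p10_0) (range_glue (range_of_allRange c_p10_1) (range_glue (range_of_allRange c_p10_2) (range_glue (range_of_allRange c_p10_3) (range_glue (range_of_allRange c_p10_4) (range_glue (range_of_allRange c_p10_5) (range_glue (range_of_allRange c_p10_6) (range_glue (range_of_allRange c_p10_7) (range_glue (range_of_allRange c_p10_8) (range_glue (range_of_allRange c_p10_9) (range_glue (range_of_allRange c_p10_10) (range_glue (range_of_allRange c_p10_11) (range_glue (range_of_allRange c_p10_12) (range_of_allRange c_p10_13))))))))))))))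
theorem h_p11 : ∀ p, 0 ≤ p → p < 46080 → chk11 p = true :=
  (range_glue (range_of_allRange c_p11_0) (range_glue (range_of_allRange c_p11_1) (range_glue (range_of_allRange c_p11_2) (range_of_allRange c_p11_3))))
theorem h_nd0 : ∀ idx, 0 ≤ idx → idx < 46080 → S.nodeOK 0 idx = true :=
  (range_glue (range_of_allRange c_nd0_0) (range_glue (range_of_allRange c_nd0_1) (range_glue (range_of_allRange c_nd0_2) (range_glue (range_of_allRange c_nd0_3) (range_glue (range_of_allRange c_nd0_4) (range_glue (range_of_allRange c_nd0_5) (range_glue (range_of_allRange c_nd0_6) (range_glue (range_of_allRange c_nd0_7) (range_glue (range_of_allRange c_nd0_8) (range_of_allRange c_nd0_9))))))))))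
theorem h_nd1 : ∀ idx, 0 ≤ idx → idx < 21 → S.nodeOK 1 idx = true :=
  (range_of_allRange c_nd1_0)

theorem ok : S.OK where
  hkm := by decide
  hperm := by
    intro i p h1 h2 hp
    have h1 : 8 ≤ i := h1
    have h2 : i < 12 := h2
    have hp : p < 46080 := hp
    interval_cases i
    · rw [← chk8_eq]; exact h_p8 p (Nat.zero_le _) hp
    · rw [← chk9_eq]; exact h_p9 p (Nat.zero_le _) hp
    · rw [← chk10_eq]; exact h_p10 p (Nat.zero_le _) hp
    · rw [← chk11_eq]; exact h_p11 p (Nat.zero_le _) hp
  hwords := fun i h1 h2 => range_of_allRange c_words i h1 h2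
  hfix := fun i t hi ht => range_of_allGrid c_fix i (Nat.zero_le _) (by have h : i < 12 := hi; omega) t ht
  hroot := fun j hj => ble_succ (allBelow_eq_true.1 c_root j hj)
  hnode := by
    intro j idx hj hidx
    have hj : j < 2 := hj
    interval_cases j
    · rw [c_n0] at hidx; exact h_nd0 idx (Nat.zero_le _) hidx
    · rw [c_n1] at hidx; exact h_nd1 idx (Nat.zero_le _) hidx

theorem htab0 : ∀ i, i < S.k → ∀ p, p < S.N → S.tab i p = T.tbl p (D.inv i) := by
  intro i hi p _
  have hi : i < 8 := hi
  interval_cases i <;> rfl

theorem prod_eq : S.prodFrom S.r 0 = 967680 := by decide +kernel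

end Cfsg.Agent.Lib.Helper4.TCD.C48L34L
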