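import Cfsg.Agent.Lib.Helper4.TCD_C48L34R_Acc

namespace Cfsg.Agent.Lib.Helper4.TCD.C48L34R

open Cfsg.Agent.Lib.Helper4.TC

set_option maxRecDepth 100000
set_option Elab.async false

theorem c_act2_15 : allRange (fun i => Nat.beq (actR2 i) i) 24990 1666 = true := by decide +kernel
theorem c_act2_16 : allRange (fun i => Nat.beq (actR2 i) i) 26656 1666 = true := by decide +kernel
theorem c_act2_17 : allRange (fun i => Nat.beq (actR2 i) i) 28322 1666 = true := by decide +kernel
theorem c_act2_18 : allRange (fun i => Nat.beq (actR2 i) i) 29988 1666 = true := by decide +kernel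
theorem c_act2_19 : allRange (fun i => Nat.beq (actR2 i) i) 31654 1666 = true := by decide +kernel
theorem c_act2_20 : allRange (fun i => Nat.beq (actR2 i) i) 33320 1666 = true := by decide +kernel
theorem c_act2_21 : allRange (fun i => Nat.beq (actR2 i) i) 34986 1666 = true := by decide +kernel
theorem c_act2_22 : allRange (fun i => Nat.beq (actR2 i) i) 36652 1666 = true := by decide +kernel
theorem c_act2_23 : allRange (fun i => Nat.beq (actR2 i) i) 38318 1666 = true := by decide +kernel
theorem c_act2_24 : allRange (fun i => Nat.beq (actR2 i) i) 39984 1666 = true := by decide +kernel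
theorem c_act2_25 : allRange (fun i => Nat.beq (actR2 i) i) 41650 1666 = true := by decide +kernel
theorem c_act2_26 : allRange (fun i => Nat.beq (actR2 i) i) 43316 1666 = true := by decide +kernel
theorem c_act2_27 : allRange (fun i => Nat.beq (actR2 i) i) 44982 1098 = true := by decide +kernel
theorem c_act3_0 : allRange (fun i => Nat.beq (actR3 i) i) 0 1304 = true := by decide +kernel
theorem c_act3_1 : allRange (fun i => Nat.beq (actR3 i) i) 1304 1304 = true := by decide +kernel
theorem c_act3_2 : allRange (fun i => Nat.beq (actR3 i) i) 2608 1304 = true := by decide +kernel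
theorem c_act3_3 : allRange (fun i => Nat.beq (actR3 i) i) 3912 1304 = true := by decide +kernel
theorem c_act3_4 : allRange (fun i => Nat.beq (actR3 i) i) 5216 1304 = true := by decide +kernel
theorem c_act3_5 : allRange (fun i => Nat.beq (actR3 i) i) 6520 1304 = true := by decide +kernel
theorem c_act3_6 : allRange (fun i => Nat.beq (actR3 i) i) 7824 1304 = true := by decide +kernel
theorem c_act3_7 : allRange (fun i => Nat.beq (actR3 i) i) 9128 1304 = true := by decide +kernel
theorem c_act3_8 : allRange (fun i => Nat.beq (actR3 i) i) 10432 1304 = true := by decide +kernel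
theorem c_act3_9 : allRange (fun i => Nat.beq (actR3 i) i) 11736 1304 = true := by decide +kernel
theorem c_act3_10 : allRange (fun i => Nat.beq (actR3 i) i) 13040 1304 = true := by decide +kernel
theorem c_act3_11 : allRange (fun i => Nat.beq (actR3 i) i) 14344 1304 = true := by decide +kernel
theorem c_act3_12 : allRange (fun i => Nat.beq (actR3 i) i) 15648 1304 = true := by decide +kernel
theorem c_act3_13 : allRange (fun i => Nat.beq (actR3 i) i) 16952 1304 = true := by decide +kernel
theorem c_act3_14 : allRange (fun i => Nat.beq (actR3 i) i) 18256 1304 = true := by decide +kernel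
theorem c_act3_15 : allRange (fun i => Nat.beq (actR3 i) i) 19560 1304 = true := by decide +kernel
theorem c_act3_16 : allRange (fun i => Nat.beq (actR3 i) i) 20864 1304 = true := by decide +kernel
theorem c_act3_17 : allRange (fun i => Nat.beq (actR3 i) i) 22168 1304 = true := by decide +kernel
theorem c_act3_18 : allRange (fun i => Nat.beq (actR3 i) i) 23472 1304 = true := by decide +kernel
theorem c_act3_19 : allRange (fun i => Nat.beq (actR3 i) i) 24776 1304 = true := by decide +kernel
theorem c_act3_20 : allRange (fun i => Nat.beq (actR3 i) i) 26080 1304 = true := by decide +kernel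
theorem c_act3_21 : allRange (fun i => Nat.beq (actR3 i) i) 27384 1304 = true := by decide +kernel
theorem c_act3_22 : allRange (fun i => Nat.beq (actR3 i) i) 28688 1304 = true := by decide +kernel
theorem c_act3_23 : allRange (fun i => Nat.beq (actR3 i) i) 29992 1304 = true := by decide +kernel
theorem c_act3_24 : allRange (fun i => Nat.beq (actR3 i) i) 31296 1304 = true := by decide +kernel
theorem c_act3_25 : allRange (fun i => Nat.beq (actR3 i) i) 32600 1304 = true := by decide +kernel
theorem c_act3_26 : allRange (fun i => Nat.beq (actR3 i) i) 33904 1304 = true := by decide +kernel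
theorem c_act3_27 : allRange (fun i => Nat.beq (actR3 i) i) 35208 1304 = true := by decide +kernel
theorem c_act3_28 : allRange (fun i => Nat.beq (actR3 i) i) 36512 1304 = true := by decide +kernel
theorem c_act3_29 : allRange (fun i => Nat.beq (actR3 i) i) 37816 1304 = true := by decide +kernel
theorem c_act3_30 : allRange (fun i => Nat.beq (actR3 i) i) 39120 1304 = true := by decide +kernel
theorem c_act3_31 : allRange (fun i => Nat.beq (actR3 i) i) 40424 1304 = true := by decide +kernel
theorem c_act3_32 : allRange (fun i => Nat.beq (actR3 i) i) 41728 1304 = true := by decide +kernel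
theorem c_act3_33 : allRange (fun i => Nat.beq (actR3 i) i) 43032 1304 = true := by decide +kernel
theorem c_act3_34 : allRange (fun i => Nat.beq (actR3 i) i) 44336 1304 = true := by decide +kernel
theorem c_act3_35 : allRange (fun i => Nat.beq (actR3 i) i) 45640 440 = true := by decide +kernel
theorem c_act4_0 : allRange (fun i => Nat.beq (actR4 i) i) 0 7500 = true := by decide +kernel
theorem c_act4_1 : allRange (fun i => Nat.beq (actR4 i) i) 7500 7500 = true := by decide +kernel

end Cfsg.Agent.Lib.Helper4.TCD.C48L34R
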