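import Cfsg.Agent.Lib.Helper4.TCD_C48L34R_Acc

namespace Cfsg.Agent.Lib.Helper4.TCD.C48L34R

open Cfsg.Agent.Lib.Helper4.TC

set_option maxRecDepth 100000
set_option Elab.async false

theorem c_act4_2 : allRange (fun i => Nat.beq (actR4 i) i) 15000 7500 = true := by decide +kernel
theorem c_act4_3 : allRange (fun i => Nat.beq (actR4 i) i) 22500 7500 = true := by decide +kernel
theorem c_act4_4 : allRange (fun i => Nat.beq (actR4 i) i) 30000 7500 = true := by decide +kernel
theorem c_act4_5 : allRange (fun i => Nat.beq (actR4 i) i) 37500 7500 = true := by decide +kernel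
theorem c_act4_6 : allRange (fun i => Nat.beq (actR4 i) i) 45000 1080 = true := by decide +kernel
theorem c_act5_0 : allRange (fun i => Nat.beq (actR5 i) i) 0 6000 = true := by decide +kernel
theorem c_act5_1 : allRange (fun i => Nat.beq (actR5 i) i) 6000 6000 = true := by decide +kernel
theorem c_act5_2 : allRange (fun i => Nat.beq (actR5 i) i) 12000 6000 = true := by decide +kernel
theorem c_act5_3 : allRange (fun i => Nat.beq (actR5 i) i) 18000 6000 = true := by decide +kernel
theorem c_act5_4 : allRange (fun i => Nat.beq (actR5 i) i) 24000 6000 = true := by decide +kernel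
theorem c_act5_5 : allRange (fun i => Nat.beq (actR5 i) i) 30000 6000 = true := by decide +kernel
theorem c_act5_6 : allRange (fun i => Nat.beq (actR5 i) i) 36000 6000 = true := by decide +kernel
theorem c_act5_7 : allRange (fun i => Nat.beq (actR5 i) i) 42000 4080 = true := by decide +kernel
theorem c_act6_0 : allRange (fun i => Nat.beq (actR6 i) i) 0 5000 = true := by decide +kernel
theorem c_act6_1 : allRange (fun i => Nat.beq (actR6 i) i) 5000 5000 = true := by decide +kernel
theorem c_act6_2 : allRange (fun i => Nat.beq (actR6 i) i) 10000 5000 = true := by decide +kernel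
theorem c_act6_3 : allRange (fun i => Nat.beq (actR6 i) i) 15000 5000 = true := by decide +kernel
theorem c_act6_4 : allRange (fun i => Nat.beq (actR6 i) i) 20000 5000 = true := by decide +kernel
theorem c_act6_5 : allRange (fun i => Nat.beq (actR6 i) i) 25000 5000 = true := by decide +kernel
theorem c_act6_6 : allRange (fun i => Nat.beq (actR6 i) i) 30000 5000 = true := by decide +kernel
theorem c_act6_7 : allRange (fun i => Nat.beq (actR6 i) i) 35000 5000 = true := by decide +kernel
theorem c_act6_8 : allRange (fun i => Nat.beq (actR6 i) i) 40000 5000 = true := by decide +kernel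
theorem c_act6_9 : allRange (fun i => Nat.beq (actR6 i) i) 45000 1080 = true := by decide +kernel
theorem c_act7_0 : allRange (fun i => Nat.beq (actR7 i) i) 0 15000 = true := by decide +kernel
theorem c_act7_1 : allRange (fun i => Nat.beq (actR7 i) i) 15000 15000 = true := by decide +kernel
theorem c_act7_2 : allRange (fun i => Nat.beq (actR7 i) i) 30000 15000 = true := by decide +kernel
theorem c_act7_3 : allRange (fun i => Nat.beq (actR7 i) i) 45000 1080 = true := by decide +kernel
theorem c_act8_0 : allRange (fun i => Nat.beq (actR8 i) i) 0 15000 = true := by decide +kernel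
theorem c_act8_1 : allRange (fun i => Nat.beq (actR8 i) i) 15000 15000 = true := by decide +kernel
theorem c_act8_2 : allRange (fun i => Nat.beq (actR8 i) i) 30000 15000 = true := by decide +kernel
theorem c_act8_3 : allRange (fun i => Nat.beq (actR8 i) i) 45000 1080 = true := by decide +kernel
theorem c_act9_0 : allRange (fun i => Nat.beq (actR9 i) i) 0 15000 = true := by decide +kernel
theorem c_act9_1 : allRange (fun i => Nat.beq (actR9 i) i) 15000 15000 = true := by decide +kernel
theorem c_act9_2 : allRange (fun i => Nat.beq (actR9 i) i) 30000 15000 = true := by decide +kernel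
theorem c_act9_3 : allRange (fun i => Nat.beq (actR9 i) i) 45000 1080 = true := by decide +kernel
theorem c_act10_0 : allRange (fun i => Nat.beq (actR10 i) i) 0 15000 = true := by decide +kernel
theorem c_act10_1 : allRange (fun i => Nat.beq (actR10 i) i) 15000 15000 = true := by decide +kernel
theorem c_act10_2 : allRange (fun i => Nat.beq (actR10 i) i) 30000 15000 = true := by decide +kernel
theorem c_act10_3 : allRange (fun i => Nat.beq (actR10 i) i) 45000 1080 = true := by decide +kernel
theorem c_act11_0 : allRange (fun i => Nat.beq (actR11 i) i) 0 15000 = true := by decide +kernel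
theorem c_act11_1 : allRange (fun i => Nat.beq (actR11 i) i) 15000 15000 = true := by decide +kernel
theorem c_act11_2 : allRange (fun i => Nat.beq (actR11 i) i) 30000 15000 = true := by decide +kernel
theorem c_act11_3 : allRange (fun i => Nat.beq (actR11 i) i) 45000 1080 = true := by decide +kernel
theorem c_act12_0 : allRange (fun i => Nat.beq (actR12 i) i) 0 15000 = true := by decide +kernel
theorem c_act12_1 : allRange (fun i => Nat.beq (actR12 i) i) 15000 15000 = true := by decide +kernel
theorem c_act12_2 : allRange (fun i => Nat.beq (actR12 i) i) 30000 15000 = true := by decide +kernel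
theorem c_act12_3 : allRange (fun i => Nat.beq (actR12 i) i) 45000 1080 = true := by decide +kernel

end Cfsg.Agent.Lib.Helper4.TCD.C48L34R
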