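import Cfsg.Agent.Lib.Helper4.TCD_C48L34R_C0
import Cfsg.Agent.Lib.Helper4.TCD_C48L34R_C1
import Cfsg.Agent.Lib.Helper4.TCD_C48L34R_C2

namespace Cfsg.Agent.Lib.Helper4.TCD.C48L34R

open Cfsg.Agent.Lib.Helper4.TC

theorem h_perm : ∀ i, 0 ≤ i → i < 46080 → ∀ x, x < 8 → T.permOK1 D i x = true :=
  (range_glue (range_of_allGrid c_perm_0) (range_glue (range_of_allGrid c_perm_1) (range_glue (range_of_allGrid c_perm_2) (range_glue (range_of_allGrid c_perm_3) (range_glue (range_of_allGrid c_perm_4) (range_glue (range_of_allGrid c_perm_5) (range_glue (range_of_allGrid c_perm_6) (range_glue (range_of_allGrid c_perm_7) (range_glue (range_of_allGrid c_perm_8) (range_glue (range_of_allGrid c_perm_9) (range_glue (range_of_allGrid c_perm_10) (range_glue (range_of_allGrid c_perm_11) (range_of_allGrid c_perm_12)))))))))))))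
theorem h_act0 : ∀ i, 0 ≤ i → i < 46080 → Nat.beq (actR0 i) i = true :=
  (range_glue (range_of_allRange c_act0_0) (range_glue (range_of_allRange c_act0_1) (range_glue (range_of_allRange c_act0_2) (range_glue (range_of_allRange c_act0_3) (range_glue (range_of_allRange c_act0_4) (range_glue (range_of_allRange c_act0_5) (range_glue (range_of_allRange c_act0_6) (range_glue (range_of_allRange c_act0_7) (range_glue (range_of_allRange c_act0_8) (range_glue (range_of_allRange c_act0_9) (range_of_allRange c_act0_10)))))))))))
theorem h_act1 : ∀ i, 0 ≤ i → i < 46080 → Nat.beq (actR1 i) i = true :=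
  (range_glue (range_of_allRange c_act1_0) (range_glue (range_of_allRange c_act1_1) (range_glue (range_of_allRange c_act1_2) (range_glue (range_of_allRange c_act1_3) (range_glue (range_of_allRange c_act1_4) (range_glue (range_of_allRange c_act1_5) (range_glue (range_of_allRange c_act1_6) (range_glue (range_of_allRange c_act1_7) (range_glue (range_of_allRange c_act1_8) (range_glue (range_of_allRange c_act1_9) (range_glue (range_of_allRange c_act1_10) (range_of_allRange c_act1_11))))))))))))
theorem h_act2 : ∀ i, 0 ≤ i → i < 46080 → Nat.beq (actR2 i) i = true :=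
  (range_glue (range_of_allRange c_act2_0) (range_glue (range_of_allRange c_act2_1) (range_glue (range_of_allRange c_act2_2) (range_glue (range_of_allRange c_act2_3) (range_glue (range_of_allRange c_act2_4) (range_glue (range_of_allRange c_act2_5) (range_glue (range_of_allRange c_act2_6) (range_glue (range_of_allRange c_act2_7) (range_glue (range_of_allRange c_act2_8) (range_glue (range_of_allRange c_act2_9) (range_glue (range_of_allRange c_act2_10) (range_glue (range_of_allRange c_act2_11) (range_glue (range_of_allRange c_act2_12) (range_glue (range_of_allRange c_act2_13) (range_glue (range_of_allRange c_act2_14) (range_glue (range_of_allRange c_act2_15) (range_glue (range_of_allRange c_act2_16) (range_glue (range_of_allRange c_act2_17) (range_glue (range_of_allRange c_act2_18) (range_glue (range_of_allRange c_act2_19) (range_glue (range_of_allRange c_act2_20) (range_glue (range_of_allRange c_act2_21) (range_glue (range_of_allRange c_act2_22) (range_glue (range_of_allRange c_act2_23) (range_glue (range_of_allRange c_act2_24) (range_glue (range_of_allRange c_act2_25) (range_glue (range_of_allRange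 c_act2_26) (range_of_allRange c_act2_27))))))))))))))))))))))))))))
theorem h_act3 : ∀ i, 0 ≤ i → i < 46080 → Nat.beq (actR3 i) i = true :=
  (range_glue (range_of_allRange c_act3_0) (range_glue (range_of_allRange c_act3_1) (range_glue (range_of_allRange c_act3_2) (range_glue (range_of_allRange c_act3_3) (range_glue (range_of_allRange c_act3_4) (range_glue (range_of_allRange c_act3_5) (range_glue (range_of_allRange c_act3_6) (range_glue (range_of_allRange c_act3_7) (range_glue (range_of_allRange c_act3_8) (range_glue (range_of_allRange c_act3_9) (range_glue (range_of_allRange c_act3_10) (range_glue (range_of_allRange c_act3_11) (range_glue (range_of_allRange c_act3_12) (range_glue (range_of_allRange c_act3_13) (range_glue (range_of_allRange c_act3_14) (range_glue (range_of_allRange c_act3_15) (range_glue (range_of_allRange c_act3_16) (range_glue (range_of_allRange c_act3_17) (range_glue (range_of_allRange c_act3_18) (range_glue (range_of_allRange c_act3_19) (range_glue (range_of_allRange c_act3_20) (range_glue (range_of_allRange c_act3_21) (range_glue (range_of_allRange c_act3_22) (range_glue (range_of_allRange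 c_act3_23) (range_glue (range_of_allRange c_act3_24) (range_glue (range_of_allRange c_act3_25) (range_glue (range_of_allRange c_act3_26) (range_glue (range_of_allRange c_act3_27) (range_glue (range_of_allRange c_act3_28) (range_glue (range_of_allRange c_act3_29) (range_glue (range_of_allRange c_act3_30) (range_glue (range_of_allRange c_act3_31) (range_glue (range_of_allRange c_act3_32) (range_glue (range_of_allRange c_act3_33) (range_glue (range_of_allRange c_act3_34) (range_of_allRange c_act3_35))))))))))))))))))))))))))))))))))))
theorem h_act4 : ∀ i, 0 ≤ i → i < 46080 → Nat.beq (actR4 i) i = true :=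
  (range_glue (range_of_allRange c_act4_0) (range_glue (range_of_allRange c_act4_1) (range_glue (range_of_allRange c_act4_2) (range_glue (range_of_allRange c_act4_3) (range_glue (range_of_allRange c_act4_4) (range_glue (range_of_allRange c_act4_5) (range_of_allRange c_act4_6)))))))
theorem h_act5 : ∀ i, 0 ≤ i → i < 46080 → Nat.beq (actR5 i) i = true :=
  (range_glue (range_of_allRange c_act5_0) (range_glue (range_of_allRange c_act5_1) (range_glue (range_of_allRange c_act5_2) (range_glue (range_of_allRange c_act5_3) (range_glue (range_of_allRange c_act5_4) (range_glue (range_of_allRange c_act5_5) (range_glue (range_of_allRange c_act5_6) (range_of_allRange c_act5_7))))))))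
theorem h_act6 : ∀ i, 0 ≤ i → i < 46080 → Nat.beq (actR6 i) i = true :=
  (range_glue (range_of_allRange c_act6_0) (range_glue (range_of_allRange c_act6_1) (range_glue (range_of_allRange c_act6_2) (range_glue (range_of_allRange c_act6_3) (range_glue (range_of_allRange c_act6_4) (range_glue (range_of_allRange c_act6_5) (range_glue (range_of_allRange c_act6_6) (range_glue (range_of_allRange c_act6_7) (range_glue (range_of_allRange c_act6_8) (range_of_allRange c_act6_9))))))))))
theorem h_act7 : ∀ i, 0 ≤ i → i < 46080 → Nat.beq (actR7 i) i = true :=
  (range_glue (range_of_allRange c_act7_0) (range_glue (range_of_allRange c_act7_1) (range_glue (range_of_allRange c_act7_2) (range_of_allRange c_act7_3))))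
theorem h_act8 : ∀ i, 0 ≤ i → i < 46080 → Nat.beq (actR8 i) i = true :=
  (range_glue (range_of_allRange c_act8_0) (range_glue (range_of_allRange c_act8_1) (range_glue (range_of_allRange c_act8_2) (range_of_allRange c_act8_3))))
theorem h_act9 : ∀ i, 0 ≤ i → i < 46080 → Nat.beq (actR9 i) i = true :=
  (range_glue (range_of_allRange c_act9_0) (range_glue (range_of_allRange c_act9_1) (range_glue (range_of_allRange c_act9_2) (range_of_allRange c_act9_3))))
theorem h_act10 : ∀ i, 0 ≤ i → i < 46080 → Nat.beq (actR10 i) i = true :=
  (range_glue (range_of_allRange c_act10_0) (range_glue (range_of_allRange c_act10_1) (range_glue (range_of_allRange c_act10_2) (range_of_allRange c_act10_3))))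
theorem h_act11 : ∀ i, 0 ≤ i → i < 46080 → Nat.beq (actR11 i) i = true :=
  (range_glue (range_of_allRange c_act11_0) (range_glue (range_of_allRange c_act11_1) (range_glue (range_of_allRange c_act11_2) (range_of_allRange c_act11_3))))
theorem h_act12 : ∀ i, 0 ≤ i → i < 46080 → Nat.beq (actR12 i) i = true :=
  (range_glue (range_of_allRange c_act12_0) (range_glue (range_of_allRange c_act12_1) (range_glue (range_of_allRange c_act12_2) (range_of_allRange c_act12_3))))

theorem h_act : ∀ L ∈ PC48L34.P.real, ∀ i, i < T.N → Tab.relActOK T D L i = true := by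
  rw [c_real]
  intro L hL
  simp only [realLit, List.mem_cons, List.not_mem_nil, or_false] at hL
  rcases hL with rfl | rfl | rfl | rfl | rfl | rfl | rfl | rfl | rfl | rfl | rfl | rfl | rfl
  · intro i hi
    rw [Tab.relActOK, ← actR0_eq]
    exact h_act0 i (Nat.zero_le _) hi
  · intro i hi
    rw [Tab.relActOK, ← actR1_eq]
    exact h_act1 i (Nat.zero_le _) hi
  · intro i hi
    rw [Tab.relActOK, ← actR2_eq]
    exact h_act2 i (Nat.zero_le _) hi
  · intro i hi
    rw [Tab.relActOK, ← actR3_eq]
    exact h_act3 i (Nat.zero_le _) hi
  · intro i hi
    rw [Tab.relActOK, ← actR4_eq]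
    exact h_act4 i (Nat.zero_le _) hi
  · intro i hi
    rw [Tab.relActOK, ← actR5_eq]
    exact h_act5 i (Nat.zero_le _) hi
  · intro i hi
    rw [Tab.relActOK, ← actR6_eq]
    exact h_act6 i (Nat.zero_le _) hi
  · intro i hi
    rw [Tab.relActOK, ← actR7_eq]
    exact h_act7 i (Nat.zero_le _) hi
  · intro i hi
    rw [Tab.relActOK, ← actR8_eq]
    exact h_act8 i (Nat.zero_le _) hi
  · intro i hi
    rw [Tab.relActOK, ← actR9_eq]
    exact h_act9 i (Nat.zero_le _) hi
  · intro i hi
    rw [Tab.relActOK, ← actR10_eq]
    exact h_act10 i (Nat.zero_le _) hi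
  · intro i hi
    rw [Tab.relActOK, ← actR11_eq]
    exact h_act11 i (Nat.zero_le _) hi
  · intro i hi
    rw [Tab.relActOK, ← actR12_eq]
    exact h_act12 i (Nat.zero_le _) hi

theorem prep : PRep PC48L34.P T D where
  hP := PC48L34.valid
  hk := rfl
  hinv := fun _ _ => rfl
  hperm := fun i x hi hx => h_perm i (Nat.zero_le _) hi x hx
  hlet := fun x hx => allBelow_eq_true.1 c_let x hx
  hact := h_act

end Cfsg.Agent.Lib.Helper4.TCD.C48L34R
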