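import Mathlib
import Cfsg.Agent.Lib.Helper4.TCD_C48L34R_Fin
import Cfsg.Agent.Lib.Helper4.TCD_C48L34L_Fin
import Cfsg.Agent.Lib.Helper4.L34pMain
import Cfsg.Agent.Lib.Helper4.TC20
import Cfsg.Agent.Lib.Helper4.StemLib5
import Cfsg.Agent.Lib.Helper4.AbelKer

/-!
The presented group `C48L34` (a covering group of L3(4)) has order 48 · 20160 = 967680 and acts faithfully on
46080 points.  Upper bound: modulo the central subgroup generated by `t` and `v` (of order at most 48) it is an
image of the presented group `L34p`.  Lower bound: a strong generating set in the permutation representation.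
-/

set_option autoImplicit false

namespace Cfsg.Agent.Lib.Helper4.C48L34Main

open Cfsg Cfsg.Agent.Lib.Helper4.TC Cfsg.Agent.Lib.Helper4.TCD Cfsg.Agent.Lib.Helper4.TC.Log
  Cfsg.Agent.Lib.Helper4.Stem Cfsg.Agent.Lib.Helper4.AbelKer

local notation "G" => PC48L34.P.Grp
local notation "gG" => PC48L34.P.gR

theorem hinv (y : ℕ) (hy : y < 8) : gG (PC48L34.P.invR y) = (gG y)⁻¹ :=
  (PC48L34.valid.invR_sound y (by show y ≤ 8; omega)).2

/-- the central element of order 12 -/
noncomputable def t : G := gG 4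
/-- the central element of order 4 -/
noncomputable def v : G := gG 6

theorem comm_rel : ∀ p ∈ [(4, 0), (4, 2), (6, 0), (6, 2), (4, 6)],
    [p.1 + 1, p.2 + 1, p.1, p.2] ∈ PC48L34.P.real := by decide +kernel

theorem comm_of_rel (z x : ℕ) (hz : z < 8) (hx : x < 8) (hzi : PC48L34.P.invR z = z + 1)
    (hxi : PC48L34.P.invR x = x + 1) (h : [z + 1, x + 1, z, x] ∈ PC48L34.P.real) :
    gG z * gG x = gG x * gG z := by
  have h1 := (PC48L34.valid.real_sound _ h).2
  simp only [wordP_cons, wordP_nil, mul_one] at h1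
  rw [← hzi, ← hxi, hinv z hz, hinv x hx] at h1
  calc gG z * gG x = gG x * gG z * ((gG z)⁻¹ * ((gG x)⁻¹ * (gG z * gG x))) := by group
    _ = gG x * gG z := by rw [h1, mul_one]

theorem comm_inv {Γ : Type*} [Group Γ] (a b : Γ) (h : a * b = b * a) : a * b⁻¹ = b⁻¹ * a := by
  calc a * b⁻¹ = b⁻¹ * (b * a) * b⁻¹ := by group
    _ = b⁻¹ * (a * b) * b⁻¹ := by rw [h]
    _ = b⁻¹ * a := by group

theorem c40 : gG 4 * gG 0 = gG 0 * gG 4 := comm_of_rel 4 0 (by decide) (by decide) rfl rfl (comm_rel (4, 0) (by decide))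
theorem c42 : gG 4 * gG 2 = gG 2 * gG 4 := comm_of_rel 4 2 (by decide) (by decide) rfl rfl (comm_rel (4, 2) (by decide))
theorem c60 : gG 6 * gG 0 = gG 0 * gG 6 := comm_of_rel 6 0 (by decide) (by decide) rfl rfl (comm_rel (6, 0) (by decide))
theorem c62 : gG 6 * gG 2 = gG 2 * gG 6 := comm_of_rel 6 2 (by decide) (by decide) rfl rfl (comm_rel (6, 2) (by decide))
theorem c46 : gG 4 * gG 6 = gG 6 * gG 4 := comm_of_rel 4 6 (by decide) (by decide) rfl rfl (comm_rel (4, 6) (by decide))

theorem t_comm (x : ℕ) (hx : x < 8) : t * gG x = gG x * t := by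
  have i1 : gG 1 = (gG 0)⁻¹ := hinv 0 (by decide)
  have i3 : gG 3 = (gG 2)⁻¹ := hinv 2 (by decide)
  have i5 : gG 5 = (gG 4)⁻¹ := hinv 4 (by decide)
  have i7 : gG 7 = (gG 6)⁻¹ := hinv 6 (by decide)
  show gG 4 * gG x = gG x * gG 4
  interval_cases x
  · exact c40
  · rw [i1]; exact comm_inv _ _ c40
  · exact c42
  · rw [i3]; exact comm_inv _ _ c42
  · rfl
  · rw [i5, mul_inv_cancel, inv_mul_cancel]
  · exact c46
  · rw [i7]; exact comm_inv _ _ c46

theorem v_comm (x : ℕ) (hx : x < 8) : v * gG x = gG x * v := by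
  have i1 : gG 1 = (gG 0)⁻¹ := hinv 0 (by decide)
  have i3 : gG 3 = (gG 2)⁻¹ := hinv 2 (by decide)
  have i5 : gG 5 = (gG 4)⁻¹ := hinv 4 (by decide)
  have i7 : gG 7 = (gG 6)⁻¹ := hinv 6 (by decide)
  show gG 6 * gG x = gG x * gG 6
  interval_cases x
  · exact c60
  · rw [i1]; exact comm_inv _ _ c60
  · exact c62
  · rw [i3]; exact comm_inv _ _ c62
  · exact c46.symm
  · rw [i5]; exact comm_inv _ _ c46.symm
  · rfl
  · rw [i7, mul_inv_cancel, inv_mul_cancel]

theorem central_of_comm (z : G) (h : ∀ x, x < 8 → z * gG x = gG x * z) : z ∈ Subgroup.center G := by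
  rw [Subgroup.mem_center_iff]
  intro γ
  have hγ : γ ∈ Subgroup.closure (gG '' Set.Iio PC48L34.P.k) := by
    rw [PC48L34.valid.gen_top]
    trivial
  induction hγ using Subgroup.closure_induction with
  | mem s hs =>
    obtain ⟨x, hx, rfl⟩ := hs
    exact (h x hx).symm
  | one => simp
  | mul a b _ _ iha ihb => rw [mul_assoc, ihb, ← mul_assoc, iha, mul_assoc]
  | inv a _ iha =>
    calc a⁻¹ * z = a⁻¹ * (z * a) * a⁻¹ := by group
      _ = a⁻¹ * (a * z) * a⁻¹ := by rw [iha]
      _ = z * a⁻¹ := by group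

theorem t_central : t ∈ Subgroup.center G := central_of_comm t t_comm
theorem v_central : v ∈ Subgroup.center G := central_of_comm v v_comm

theorem t_pow12 : t ^ 12 = 1 := by
  have h := (PC48L34.valid.real_sound (List.replicate 12 [4]).flatten (by decide +kernel)).2
  rw [wordP_replicate_flatten, wordP_cons, wordP_nil, mul_one] at h
  exact h

theorem v_pow4 : v ^ 4 = 1 := by
  have h := (PC48L34.valid.real_sound (List.replicate 4 [6]).flatten (by decide +kernel)).2
  rw [wordP_replicate_flatten, wordP_cons, wordP_nil, mul_one] at h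
  exact h

/-- the central subgroup generated by `t` and `v` -/
noncomputable def Z : Subgroup G := Subgroup.closure {t, v}

theorem Z_le_center : Z ≤ Subgroup.center G := by
  rw [Z, Subgroup.closure_le]
  rintro x hx
  rcases hx with rfl | rfl
  · exact t_central
  · exact v_central

instance Z_normal : Z.Normal := normal_of_le_center Z Z_le_center

theorem card_Z_le : Finite Z ∧ Nat.card Z ≤ 48 :=
  card_closure_pair_le t v 12 4 (by decide) (by decide) t_pow12 v_pow4 c46

theorem letter_mem_Z (x : ℕ) (h4 : 4 ≤ x) (h8 : x < 8) : gG x ∈ Z := by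
  have mt : gG 4 ∈ Z := Subgroup.subset_closure (by left; rfl)
  have mv : gG 6 ∈ Z := Subgroup.subset_closure (by right; rfl)
  have i5 : gG 5 = (gG 4)⁻¹ := hinv 4 (by decide)
  have i7 : gG 7 = (gG 6)⁻¹ := hinv 6 (by decide)
  interval_cases x
  · exact mt
  · rw [i5]; exact inv_mem mt
  · exact mv
  · rw [i7]; exact inv_mem mv

/-- a relator of `L34p` followed by central letters -/
theorem mem_Z_of_rel (L C : List ℕ) (h : L ++ C ∈ PC48L34.P.real) (hC : ∀ x ∈ C, 4 ≤ x ∧ x < 8) :
    wordP gG L ∈ Z := by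
  have h1 := (PC48L34.valid.real_sound _ h).2
  rw [wordP_append] at h1
  have h2 : wordP gG C ∈ Z := Sgs.wordP_mem_closure gG Z C (fun e he => letter_mem_Z e (hC e he).1 (hC e he).2)
  have h3 : wordP gG L = (wordP gG C)⁻¹ := eq_inv_of_mul_eq_one_left h1
  rw [h3]
  exact inv_mem h2

/-- the central parts of the relators -/
def cens : List (List ℕ) := [[7, 7, 4, 4, 4, 4], [7, 7, 5, 5, 5, 5], [], [7], [5]]

theorem cens_ok : ∀ C ∈ cens, ∀ x ∈ C, 4 ≤ x ∧ x < 8 := by decide

theorem partner : ∀ L ∈ PL34p.P.real, ∃ C ∈ cens, L ++ C ∈ PC48L34.P.real := by decide +kernel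

/-- the images of the letters of `L34p` modulo `Z` -/
noncomputable def gψ (l : ℕ) : G ⧸ Z := QuotientGroup.mk (gG l)

theorem wordP_gψ (L : List ℕ) : wordP gψ L = QuotientGroup.mk (wordP gG L) := by
  induction L with
  | nil => rfl
  | cons x L ih => rw [wordP_cons, wordP_cons, ih]; rfl

theorem exists_ψ : ∃ ψ : PL34p.P.Grp →* G ⧸ Z, ∀ l, l < PL34p.P.k → ψ (PL34p.P.gR l) = gψ l := by
  apply exists_hom_of_letters PL34p.P PL34p.valid gψ
  · intro l hl
    have hl : l < 4 := hl
    have e : PL34p.P.invR l = PC48L34.P.invR l := by interval_cases l <;> rfl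
    show (QuotientGroup.mk (gG l * gG (PL34p.P.invR l)) : G ⧸ Z) = 1
    rw [e, hinv l (by omega), mul_inv_cancel]
    rfl
  · intro L hL
    rw [wordP_gψ, QuotientGroup.eq_one_iff]
    obtain ⟨C, hC, hLC⟩ := partner L hL
    exact mem_Z_of_rel L C hLC (cens_ok C hC)

/-- the homomorphism from `L34p` onto the quotient by `Z` -/
noncomputable def ψ : PL34p.P.Grp →* G ⧸ Z := Classical.choose exists_ψ

theorem ψ_gR (l : ℕ) (hl : l < 4) : ψ (PL34p.P.gR l) = gψ l := Classical.choose_spec exists_ψ l hl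

theorem ψ_surjective : Function.Surjective ψ := by
  rw [← MonoidHom.range_eq_top, eq_top_iff]
  intro q hq
  clear hq
  obtain ⟨g, rfl⟩ := QuotientGroup.mk_surjective q
  have hg : g ∈ Subgroup.closure (gG '' Set.Iio PC48L34.P.k) := by
    rw [PC48L34.valid.gen_top]
    trivial
  induction hg using Subgroup.closure_induction with
  | mem s hs =>
    obtain ⟨x, hx, rfl⟩ := hs
    have hx : x < 8 := hx
    by_cases h4 : x < 4
    · exact ⟨PL34p.P.gR x, ψ_gR x h4⟩
    · have : (QuotientGroup.mk (gG x) : G ⧸ Z) = 1 := by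
        rw [QuotientGroup.eq_one_iff]
        exact letter_mem_Z x (by omega) hx
      rw [this]
      exact one_mem _
  | one => exact one_mem _
  | mul a b _ _ iha ihb => exact mul_mem iha ihb
  | inv a _ iha => exact inv_mem iha

/-- the order and the faithful permutation representation -/
theorem order_aux : Finite G ∧ Function.Injective C48L34R.prep.phi ∧ Nat.card G = 967680 := by
  obtain ⟨fK, _, cK⟩ := L34pMain.order_aux
  obtain ⟨fZ, cZ⟩ := card_Z_le
  have fQ : Finite (G ⧸ Z) := Finite.of_surjective ψ ψ_surjective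
  have cQ : Nat.card (G ⧸ Z) ≤ 20160 := by
    rw [← cK]
    exact Nat.card_le_card_of_surjective ψ ψ_surjective
  have hmul : Nat.card G = Nat.card (G ⧸ Z) * Nat.card Z := Subgroup.card_eq_card_quotient_mul_card_subgroup Z
  have hQpos : 0 < Nat.card (G ⧸ Z) := Nat.card_pos
  have hZpos : 0 < Nat.card Z := Nat.card_pos
  have fG : Finite G := by
    apply Nat.finite_of_card_ne_zero
    rw [hmul]
    exact Nat.mul_ne_zero (by omega) (by omega)
  have hub : Nat.card G ≤ 967680 := by
    rw [hmul]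
    calc Nat.card (G ⧸ Z) * Nat.card Z ≤ 20160 * 48 := Nat.mul_le_mul cQ cZ
      _ = 967680 := by norm_num
  obtain ⟨hinj, hcard⟩ := C48L34R.prep.card_eq C48L34L.S rfl rfl C48L34L.htab0 C48L34L.ok 967680 (by decide)
    C48L34L.prod_eq fG hub
  exact ⟨fG, hinj, hcard⟩

/-- the central subgroup has order 48 -/
theorem card_Z : Nat.card Z = 48 := by
  obtain ⟨fK, _, cK⟩ := L34pMain.order_aux
  obtain ⟨fG, _, hcard⟩ := order_aux
  obtain ⟨fZ, cZ⟩ := card_Z_le
  have cQ : Nat.card (G ⧸ Z) ≤ 20160 := by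
    rw [← cK]
    exact Nat.card_le_card_of_surjective ψ ψ_surjective
  have hmul : Nat.card G = Nat.card (G ⧸ Z) * Nat.card Z := Subgroup.card_eq_card_quotient_mul_card_subgroup Z
  rw [hcard] at hmul
  by_contra hne
  have h47 : Nat.card Z ≤ 47 := by omega
  have : Nat.card (G ⧸ Z) * Nat.card Z ≤ 20160 * 47 := Nat.mul_le_mul cQ h47
  omega

end Cfsg.Agent.Lib.Helper4.C48L34Main
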