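import Mathlib
import Cfsg.Agent.Lib.Helper4.C48L34Main
import Cfsg.Agent.Lib.Helper4.AbelCert
import Cfsg.Agent.Lib.Helper4.StemLib6
import Cfsg.Agent.Lib.Helper4.RelLib

/-!
The presented group `C48L34` is a perfect central extension of the presented group `L34p` whose kernel is the
product of cyclic groups of orders 3, 4 and 4.
-/

set_option autoImplicit false

namespace Cfsg.Agent.Lib.Helper4.C48L34Cover

open Cfsg Cfsg.Agent.Lib.Helper4.TC Cfsg.Agent.Lib.Helper4.TCD Cfsg.Agent.Lib.Helper4.TC.Log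
  Cfsg.Agent.Lib.Helper4.Stem Cfsg.Agent.Lib.Helper4.AbelCert Cfsg.Agent.Lib.Helper4.AbelKer
  Cfsg.Agent.Lib.Helper4.C48L34Main

local notation "G" => PC48L34.P.Grp
local notation "gG" => PC48L34.P.gR

/-- the letters of `C48L34` as words of `L34p`: the central letters are killed -/
def Wl (l : ℕ) : List ℕ := [[0], [1], [2], [3], [], [], [], []].getD l []

theorem rel_act : ∀ L ∈ PC48L34.P.real, ∀ i, i < L34pA.T.N →
    Tab.relActOK L34pA.T L34pA.D (L.flatMap Wl) i = true := by decide +kernel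

theorem rel_lt : ∀ L ∈ PC48L34.P.real, ∀ x ∈ L.flatMap Wl, x < 4 := by decide +kernel

theorem exists_hom : ∃ π : G →* PL34p.P.Grp, ∀ l, l < PC48L34.P.k →
    π (gG l) = xw PL34p.P Wl l := by
  obtain ⟨fG, hinj, hcard⟩ := L34pMain.order_aux
  apply exists_hom_of_letters PC48L34.P PC48L34.valid (xw PL34p.P Wl)
  · intro l hl
    have hl : l < 8 := hl
    have h1 : PL34p.P.gR 1 = (PL34p.P.gR 0)⁻¹ := (PL34p.valid.invR_sound 0 (by decide)).2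
    have h3 : PL34p.P.gR 3 = (PL34p.P.gR 2)⁻¹ := (PL34p.valid.invR_sound 2 (by decide)).2
    interval_cases l
    · show wordP PL34p.P.gR [0] * wordP PL34p.P.gR [1] = 1
      simp only [wordP_cons, wordP_nil, mul_one, h1, mul_inv_cancel]
    · show wordP PL34p.P.gR [1] * wordP PL34p.P.gR [0] = 1
      simp only [wordP_cons, wordP_nil, mul_one, h1, inv_mul_cancel]
    · show wordP PL34p.P.gR [2] * wordP PL34p.P.gR [3] = 1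
      simp only [wordP_cons, wordP_nil, mul_one, h3, mul_inv_cancel]
    · show wordP PL34p.P.gR [3] * wordP PL34p.P.gR [2] = 1
      simp only [wordP_cons, wordP_nil, mul_one, h3, inv_mul_cancel]
    · show wordP PL34p.P.gR [] * wordP PL34p.P.gR [] = 1
      simp only [wordP_nil, mul_one]
    · show wordP PL34p.P.gR [] * wordP PL34p.P.gR [] = 1
      simp only [wordP_nil, mul_one]
    · show wordP PL34p.P.gR [] * wordP PL34p.P.gR [] = 1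
      simp only [wordP_nil, mul_one]
    · show wordP PL34p.P.gR [] * wordP PL34p.P.gR [] = 1
      simp only [wordP_nil, mul_one]
  · intro L hL
    rw [wordP_xw]
    exact L34pA.inst.word_eq_one hinj _ (rel_lt L hL) (rel_act L hL)

/-- the covering homomorphism -/
noncomputable def π : G →* PL34p.P.Grp := Classical.choose exists_hom

theorem π_gR (l : ℕ) (hl : l < 8) : π (gG l) = xw PL34p.P Wl l :=
  Classical.choose_spec exists_hom l hl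

theorem π_surjective : Function.Surjective π := by
  rw [← MonoidHom.range_eq_top, eq_top_iff, ← PL34p.valid.gen_top, Subgroup.closure_le]
  rintro _ ⟨y, hy, rfl⟩
  have hy : y < 4 := hy
  interval_cases y
  · exact ⟨gG 0, by rw [π_gR 0 (by decide)]; simp [xw, Wl, wordP_cons, wordP_nil]⟩
  · exact ⟨gG 1, by rw [π_gR 1 (by decide)]; simp [xw, Wl, wordP_cons, wordP_nil]⟩
  · exact ⟨gG 2, by rw [π_gR 2 (by decide)]; simp [xw, Wl, wordP_cons, wordP_nil]⟩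
  · exact ⟨gG 3, by rw [π_gR 3 (by decide)]; simp [xw, Wl, wordP_cons, wordP_nil]⟩

theorem Z_le_ker : Z ≤ π.ker := by
  rw [Z, Subgroup.closure_le]
  rintro x hx
  rcases hx with rfl | rfl
  · show t ∈ π.ker
    rw [MonoidHom.mem_ker]
    show π (gG 4) = 1
    rw [π_gR 4 (by decide)]
    rfl
  · show v ∈ π.ker
    rw [MonoidHom.mem_ker]
    show π (gG 6) = 1
    rw [π_gR 6 (by decide)]
    rfl

theorem card_ker : Nat.card π.ker = 48 := by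
  obtain ⟨fG, _, hcard⟩ := C48L34Main.order_aux
  obtain ⟨fG', _, hcard'⟩ := L34pMain.order_aux
  have h := card_eq_of_stem π π_surjective
  rw [hcard, hcard'] at h
  omega

/-- the kernel is the central subgroup generated by `t` and `v` -/
theorem ker_eq : π.ker = Z := by
  obtain ⟨fG, _, _⟩ := C48L34Main.order_aux
  have := fG
  symm
  apply Subgroup.eq_of_le_of_card_ge Z_le_ker
  rw [card_ker, card_Z]

theorem cert0 : PC48L34.P.gR 0 ∈ commutator PC48L34.P.Grp := by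
  apply mem_commutator_of_perm PC48L34.P PC48L34.valid 0
    [[0, 2, 0, 2, 0, 2, 0, 2, 0, 2, 0, 2, 0, 2], [0, 2, 0, 2, 0, 2, 0, 2, 0, 2, 0, 2, 0, 2], [0, 2, 0, 2, 0, 2, 0, 2, 0, 2, 0, 2, 0, 2], [0, 2, 0, 2, 0, 2, 0, 2, 0, 2, 0, 2, 0, 2], [0, 2, 2, 0, 2, 2, 0, 2, 2, 0, 2, 2, 0, 2, 2], [6, 3, 3, 1, 3, 1, 3, 3, 1, 3, 1, 3, 3, 1, 3, 1, 3, 3, 1, 3, 1, 3, 3, 1, 3, 1, 3, 3, 1, 3, 1, 3, 3, 1, 3, 1], [6, 3, 3, 1, 3, 1, 3, 3, 1, 3, 1, 3, 3, 1, 3, 1, 3, 3, 1, 3, 1, 3, 3, 1, 3, 1, 3, 3, 1, 3, 1, 3, 3, 1, 3, 1], [5, 5, 5, 5, 6, 6, 1, 1], [5, 5, 5, 5, 6, 6, 1, 1], [2, 2, 2, 2, 7, 7, 5, 5, 5, 5], [4, 4, 4, 4, 4, 4, 4, 4, 4, 4, 4, 4], [7, 7, 7, 7]]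
    (by decide +kernel) (by decide +kernel)
    [0, 0, 0, 0, 0, 0, 0, 0, 0, 0, 0, 0, 0, 0, 0, 0, 0, 0, 0, 0, 0, 0, 0, 0, 0, 0, 0, 0, 0, 0, 0, 0, 2, 2, 2, 2, 2, 2, 2, 2, 2, 2, 2, 2, 2, 2, 2, 2, 2, 2, 2, 2, 2, 2, 2, 2, 2, 2, 2, 2, 2, 2, 2, 2, 2, 2, 2, 2, 2, 2, 2, 2, 2, 2, 4, 4, 4, 4, 4, 4, 4, 4, 4, 4, 4, 4, 6, 6, 6, 6, 6, 6]
    (by decide +kernel) (by decide +kernel)

theorem cert2 : PC48L34.P.gR 2 ∈ commutator PC48L34.P.Grp := by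
  apply mem_commutator_of_perm PC48L34.P PC48L34.valid 2
    [[0, 2, 0, 2, 0, 2, 0, 2, 0, 2, 0, 2, 0, 2], [0, 2, 0, 2, 0, 2, 0, 2, 0, 2, 0, 2, 0, 2], [0, 2, 0, 2, 0, 2, 0, 2, 0, 2, 0, 2, 0, 2], [0, 2, 0, 2, 0, 2, 0, 2, 0, 2, 0, 2, 0, 2], [0, 2, 0, 2, 0, 2, 0, 2, 0, 2, 0, 2, 0, 2], [0, 2, 0, 2, 0, 2, 0, 2, 0, 2, 0, 2, 0, 2], [0, 2, 0, 2, 0, 2, 0, 2, 0, 2, 0, 2, 0, 2], [3, 3, 1, 3, 3, 1, 3, 3, 1, 3, 3, 1, 3, 3, 1], [6, 3, 3, 1, 3, 1, 3, 3, 1, 3, 1, 3, 3, 1, 3, 1, 3, 3, 1, 3, 1, 3, 3, 1, 3, 1, 3, 3, 1, 3, 1, 3, 3, 1, 3, 1], [6, 3, 3, 1, 3, 1, 3, 3, 1, 3, 1, 3, 3, 1, 3, 1, 3, 3, 1, 3, 1, 3, 3, 1, 3, 1, 3, 3, 1, 3, 1, 3, 3, 1, 3, 1], [5, 5, 5, 5, 6, 6, 1, 1], [5, 5, 5, 5, 6, 6, 1, 1], [5, 5, 5, 5, 6, 6, 1, 1], [5, 5, 5, 5, 6, 6, 1, 1], [5, 5, 5, 5, 6, 6, 1, 1], [5, 5, 5, 5, 6, 6, 1, 1], [5, 5, 5, 5, 6, 6, 1, 1], [5, 5, 5, 5, 6, 6, 1, 1], [2,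 2, 2, 2, 7, 7, 5, 5, 5, 5], [4, 4, 4, 4, 4, 4, 4, 4, 4, 4, 4, 4], [4, 4, 4, 4, 4, 4, 4, 4, 4, 4, 4, 4], [4, 4, 4, 4, 4, 4, 4, 4, 4, 4, 4, 4], [7, 7, 7, 7], [7, 7, 7, 7], [7, 7, 7, 7], [7, 7, 7, 7]]
    (by decide +kernel) (by decide +kernel)
    [0, 0, 0, 0, 0, 0, 0, 0, 0, 0, 0, 0, 0, 0, 0, 0, 0, 0, 0, 0, 0, 0, 0, 0, 0, 0, 0, 0, 0, 0, 0, 0, 0, 0, 0, 0, 0, 0, 0, 0, 0, 0, 0, 0, 0, 0, 0, 0, 0, 2, 2, 2, 2, 2, 2, 2, 2, 2, 2, 2, 2, 2, 2, 2, 2, 2, 2, 2, 2, 2, 2, 2, 2, 2, 2, 2, 2, 2, 2, 2, 2, 2, 2, 2, 2, 2, 2, 2, 2, 2, 2, 2, 2, 2, 2, 2, 2, 2, 2, 2, 2, 4, 4, 4, 4, 4, 4, 4, 4, 4, 4, 4, 4, 4, 4, 4, 4, 4, 4, 4, 4, 4, 4, 4, 4, 4, 4, 4, 4, 4, 4, 4, 4, 4, 4, 4, 4, 6, 6, 6, 6, 6, 6, 6, 6, 6, 6, 6, 6, 6, 6, 6, 6, 6, 6]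
    (by decide +kernel) (by decide +kernel)

theorem cert4 : PC48L34.P.gR 4 ∈ commutator PC48L34.P.Grp := by
  apply mem_commutator_of_perm PC48L34.P PC48L34.valid 4
    [[0, 2, 0, 2, 0, 2, 0, 2, 0, 2, 0, 2, 0, 2], [0, 2, 0, 2, 0, 2, 0, 2, 0, 2, 0, 2, 0, 2], [0, 2, 0, 2, 0, 2, 0, 2, 0, 2, 0, 2, 0, 2], [0, 2, 0, 2, 0, 2, 0, 2, 0, 2, 0, 2, 0, 2], [0, 2, 0, 2, 0, 2, 0, 2, 0, 2, 0, 2, 0, 2], [0, 2, 0, 2, 0, 2, 0, 2, 0, 2, 0, 2, 0, 2], [0, 2, 0, 2, 0, 2, 0, 2, 0, 2, 0, 2, 0, 2], [3, 3, 1, 3, 3, 1, 3, 3, 1, 3, 3, 1, 3, 3, 1], [3, 3, 1, 3, 3, 1, 3, 3, 1, 3, 3, 1, 3, 3, 1], [3, 3, 1, 3, 3, 1, 3, 3, 1, 3, 3, 1, 3, 3, 1], [4, 2, 1, 3, 3, 1, 3, 1, 3, 1, 2, 1, 3, 3, 1, 3, 1, 3, 1, 2, 1, 3, 3, 1, 3, 1, 3, 1, 2, 1, 3, 3, 1, 3, 1, 3, 1, 2, 1, 3, 3, 1, 3, 1, 3, 1], [5, 5, 5, 5, 6, 6, 1, 1], [5, 5, 5, 5, 6, 6, 1, 1], [5, 5, 5, 5, 6, 6, 1, 1], [5, 5, 5,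 5, 6, 6, 1, 1], [5, 5, 5, 5, 6, 6, 1, 1], [5, 5, 5, 5, 6, 6, 1, 1], [5, 5, 5, 5, 6, 6, 1, 1], [4, 4, 4, 4, 6, 6, 3, 3, 3, 3], [4, 4, 4, 4, 4, 4, 4, 4, 4, 4, 4, 4], [4, 4, 4, 4, 4, 4, 4, 4, 4, 4, 4, 4], [7, 7, 7, 7], [7, 7, 7, 7], [7, 7, 7, 7], [7, 7, 7, 7]]
    (by decide +kernel) (by decide +kernel)
    [0, 0, 0, 0, 0, 0, 0, 0, 0, 0, 0, 0, 0, 0, 0, 0, 0, 0, 0, 0, 0, 0, 0, 0, 0, 0, 0, 0, 0, 0, 0, 0, 0, 0, 0, 0, 0, 0, 0, 0, 0, 0, 0, 0, 0, 0, 0, 0, 0, 2, 2, 2, 2, 2, 2, 2, 2, 2, 2, 2, 2, 2, 2, 2, 2, 2, 2, 2, 2, 2, 2, 2, 2, 2, 2, 2, 2, 2, 2, 2, 2, 2, 2, 2, 2, 2, 2, 2, 2, 2, 2, 2, 2, 2, 2, 2, 2, 2, 2, 2, 2, 2, 2, 4, 4, 4, 4, 4, 4, 4, 4, 4, 4, 4, 4, 4, 4, 4, 4, 4, 4, 4, 4, 4, 4, 4, 4, 4, 4, 4, 4, 6, 6, 6, 6, 6, 6, 6, 6, 6, 6, 6, 6, 6, 6, 6, 6]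
    (by decide +kernel) (by decide +kernel)

theorem cert6 : PC48L34.P.gR 6 ∈ commutator PC48L34.P.Grp := by
  apply mem_commutator_of_perm PC48L34.P PC48L34.valid 6
    [[0, 2, 0, 2, 0, 2, 0, 2, 0, 2, 0, 2, 0, 2], [0, 2, 2, 0, 2, 2, 0, 2, 2, 0, 2, 2, 0, 2, 2], [6, 3, 3, 1, 3, 1, 3, 3, 1, 3, 1, 3, 3, 1, 3, 1, 3, 3, 1, 3, 1, 3, 3, 1, 3, 1, 3, 3, 1, 3, 1, 3, 3, 1, 3, 1], [0, 0, 7, 7, 4, 4, 4, 4], [2, 2, 2, 2, 7, 7, 5, 5, 5, 5], [6, 6, 6, 6]]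
    (by decide +kernel) (by decide +kernel)
    [0, 0, 0, 0, 0, 0, 0, 0, 0, 0, 0, 0, 0, 0, 2, 2, 2, 2, 2, 2, 2, 2, 2, 2, 2, 2, 2, 2, 2, 2, 2, 2, 2, 2, 2, 4, 4, 4, 4, 6, 6, 6, 6]
    (by decide +kernel) (by decide +kernel)

/-- the generators are products of commutators -/
theorem gR_mem_commutator (l : ℕ) (hl : l < 8) : gG l ∈ commutator G := by
  interval_cases l
  · exact cert0
  · rw [show (1 : ℕ) = PC48L34.P.invR 0 from rfl, hinv 0 (by decide)]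
    exact Subgroup.inv_mem _ cert0
  · exact cert2
  · rw [show (3 : ℕ) = PC48L34.P.invR 2 from rfl, hinv 2 (by decide)]
    exact Subgroup.inv_mem _ cert2
  · exact cert4
  · rw [show (5 : ℕ) = PC48L34.P.invR 4 from rfl, hinv 4 (by decide)]
    exact Subgroup.inv_mem _ cert4
  · exact cert6
  · rw [show (7 : ℕ) = PC48L34.P.invR 6 from rfl, hinv 6 (by decide)]
    exact Subgroup.inv_mem _ cert6

theorem perfect : commutator G = ⊤ :=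
  commutator_eq_top_of_letters PC48L34.P PC48L34.valid gR_mem_commutator

/-- the covering homomorphism is a stem extension -/
theorem isStem : IsStemExtension π := by
  refine ⟨π_surjective, ?_, ?_⟩
  · rw [ker_eq]
    exact Z_le_center
  · rw [perfect]
    exact le_top

theorem word_ne_one (u : List ℕ) (hu : ∀ x ∈ u, x < 8) (i : ℕ) (hi : i < 46080)
    (h : Tab.act C48L34R.T C48L34R.D u i ≠ i) : wordP gG u ≠ 1 := by
  intro h1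
  have h2 := C48L34R.prep.phi_word u hu ⟨i, hi⟩
  rw [h1, map_one] at h2
  exact h h2.symm

/-- the word `t^(4i+3j) v^k` -/
def zw (i j k : ℕ) : List ℕ := List.replicate (4 * i + 3 * j) 4 ++ List.replicate k 6

theorem zw_lt : ∀ i, i < 3 → ∀ j, j < 4 → ∀ k, k < 4 → ∀ x ∈ zw i j k, x < 8 := by decide +kernel

theorem zw_moves : ∀ i, i < 3 → ∀ j, j < 4 → ∀ k, k < 4 → ¬ (i = 0 ∧ j = 0 ∧ k = 0) →
    Tab.act C48L34R.T C48L34R.D (zw i j k) 0 ≠ 0 := by decide +kernel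

theorem wordP_replicate' (n x : ℕ) : wordP gG (List.replicate n x) = gG x ^ n := by
  induction n with
  | zero => simp [wordP_nil]
  | succ n ih => rw [List.replicate_succ, wordP_cons, ih, pow_succ']

theorem wordP_zw (i j k : ℕ) : wordP gG (zw i j k) = (t ^ 4) ^ i * (t ^ 3) ^ j * v ^ k := by
  rw [zw, wordP_append, wordP_replicate', wordP_replicate', pow_add, pow_mul, pow_mul]
  rfl

/-- the kernel is the product of cyclic groups of orders 3, 4 and 4 -/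
theorem ker_equiv : Nonempty (π.ker ≃* Multiplicative (ZMod 3 × ZMod 4 × ZMod 4)) := by
  obtain ⟨fG, _, _⟩ := C48L34Main.order_aux
  have := fG
  let _ : CommGroup (Subgroup.center G) :=
    { (inferInstance : Group (Subgroup.center G)) with
      mul_comm := fun a b => Subtype.ext (Subgroup.mem_center_iff.1 b.2 a.1) }
  let x : Subgroup.center G := ⟨t ^ 4, Subgroup.pow_mem _ t_central 4⟩
  let y : Subgroup.center G := ⟨t ^ 3, Subgroup.pow_mem _ t_central 3⟩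
  let z : Subgroup.center G := ⟨v, v_central⟩
  have hx : x ^ 3 = 1 := by
    apply Subtype.ext
    show (t ^ 4) ^ 3 = 1
    rw [← pow_mul]
    exact t_pow12
  have hy : y ^ 4 = 1 := by
    apply Subtype.ext
    show (t ^ 3) ^ 4 = 1
    rw [← pow_mul]
    exact t_pow12
  have hz : z ^ 4 = 1 := by
    apply Subtype.ext
    exact v_pow4
  let F0 : Multiplicative (ZMod 3 × ZMod 4 × ZMod 4) →* Subgroup.center G := tripleHom x y z 3 4 4 hx hy hz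
  let F : Multiplicative (ZMod 3 × ZMod 4 × ZMod 4) →* G := (Subgroup.center G).subtype.comp F0
  have hF : ∀ p, F p = (t ^ 4) ^ (Multiplicative.toAdd p).1.val * (t ^ 3) ^ (Multiplicative.toAdd p).2.1.val *
      v ^ (Multiplicative.toAdd p).2.2.val := fun p => rfl
  have hFinj : Function.Injective F := by
    rw [injective_iff_map_eq_one]
    intro p hp
    rw [hF, ← wordP_zw] at hp
    have h1 := ZMod.val_lt (Multiplicative.toAdd p).1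
    have h2 := ZMod.val_lt (Multiplicative.toAdd p).2.1
    have h3 := ZMod.val_lt (Multiplicative.toAdd p).2.2
    by_contra hne
    apply word_ne_one _ (zw_lt _ h1 _ h2 _ h3) 0 (by decide) (zw_moves _ h1 _ h2 _ h3 ?_) hp
    rintro ⟨e1, e2, e3⟩
    apply hne
    have e1' : (Multiplicative.toAdd p).1 = 0 := (ZMod.val_eq_zero _).1 e1
    have e2' : (Multiplicative.toAdd p).2.1 = 0 := (ZMod.val_eq_zero _).1 e2
    have e3' : (Multiplicative.toAdd p).2.2 = 0 := (ZMod.val_eq_zero _).1 e3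
    show Multiplicative.toAdd p = 0
    exact Prod.ext e1' (Prod.ext e2' e3')
  have hrange : F.range ≤ π.ker := by
    rintro _ ⟨p, rfl⟩
    rw [ker_eq, hF]
    have mt : t ∈ Z := Subgroup.subset_closure (by left; rfl)
    have mv : v ∈ Z := Subgroup.subset_closure (by right; rfl)
    exact mul_mem (mul_mem (pow_mem (pow_mem mt 4) _) (pow_mem (pow_mem mt 3) _)) (pow_mem mv _)
  have hcardR : Nat.card F.range = 48 := by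
    rw [← Nat.card_congr (MonoidHom.ofInjective hFinj).toEquiv, Nat.card_eq_fintype_card,
      Fintype.card_multiplicative, Fintype.card_prod, Fintype.card_prod, ZMod.card, ZMod.card]
  have heq : F.range = π.ker := by
    apply Subgroup.eq_of_le_of_card_ge hrange
    rw [card_ker, hcardR]
  exact ⟨((MonoidHom.ofInjective hFinj).trans (MulEquiv.subgroupCongr heq)).symm⟩

end Cfsg.Agent.Lib.Helper4.C48L34Cover
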