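import Mathlib
import Cfsg.Prelude.Def_SporCoxeter

/-! The covering group of L3(4) of order 48·20160, presented on lifts `a`, `b` of the generators of `L34p` and central elements `t` of order 12 and `v` of order 4 (generated). -/

namespace Cfsg.Agent.Lib.Helper4

namespace C48L34

/-- the generators -/
inductive Gen
  | a
  | b
  | t
  | v
  deriving DecidableEq

abbrev a : FreeGroup Gen := FreeGroup.of Gen.a
abbrev b : FreeGroup Gen := FreeGroup.of Gen.b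
abbrev t : FreeGroup Gen := FreeGroup.of Gen.t
abbrev v : FreeGroup Gen := FreeGroup.of Gen.v

/-- no Coxeter graph -/
def edges : List (Gen × ℕ × Gen) := []

/-- the relators -/
def extra : List (FreeGroup Gen) := [
  (a * b) ^ 7,
  (a * b * b) ^ 5,
  ((a * b * a * b * b) ^ 7) * v⁻¹,
  ((a * b * a * b * a * b * b * a * b⁻¹) ^ 5) * t⁻¹,
  a * a * v⁻¹ * v⁻¹ * t * t * t * t,
  b * b * b * b * v⁻¹ * v⁻¹ * t⁻¹ * t⁻¹ * t⁻¹ * t⁻¹,
  t ^ 12,
  v ^ 4,
  t⁻¹ * a⁻¹ * t * a,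
  t⁻¹ * b⁻¹ * t * b,
  v⁻¹ * a⁻¹ * v * a,
  v⁻¹ * b⁻¹ * v * b,
  t⁻¹ * v⁻¹ * t * v ]

end C48L34

end Cfsg.Agent.Lib.Helper4
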