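import Mathlib
import Cfsg.Agent.Lib.Helper4.K4Field
import Cfsg.Agent.Lib.Helper4.L34pMain
import Cfsg.Agent.Lib.Helper4.SLCard
import Cfsg.Agent.Lib.Helper4.SLCenter
import Cfsg.Agent.Lib.Helper4.TC20
import Cfsg.Agent.Lib.Helper4.RelLib

/-!
The presented group `L34p` is isomorphic to `PSL₃` over every field with 4 elements.
-/

set_option autoImplicit false

namespace Cfsg.Agent.Lib.Helper4.L34pIso

open Cfsg.Agent.Lib.Helper4.TC Cfsg.Agent.Lib.Helper4.TCD Cfsg.Agent.Lib.Helper4.TC.Log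
  Cfsg.Agent.Lib.Helper4.K4Field Cfsg.Agent.Lib.Helper4.K4Field.K4

/-- the group `SL₃` over the model of the field with 4 elements -/
abbrev SL4 : Type := Matrix.SpecialLinearGroup (Fin 3) K4
/-- the group `PSL₃` over the model of the field with 4 elements -/
abbrev PSL4 : Type := Matrix.ProjectiveSpecialLinearGroup (Fin 3) K4

/-- the matrix of `a` -/
def mA : SL4 := ⟨!![1, w, w; 0, w, 0; 1, w2, 1], by decide +kernel⟩
/-- its inverse -/
def mA' : SL4 := ⟨!![w, w2, w2; 0, w2, 0; w, 1, w], by decide +kernel⟩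
/-- the matrix of `b` -/
def mB : SL4 := ⟨!![w, 0, w; w2, 1, 1; w2, w2, 1], by decide +kernel⟩
/-- its inverse -/
def mB' : SL4 := ⟨!![w, 1, w; 0, w2, w2; 1, 1, w], by decide +kernel⟩
/-- the scalar matrix `ω` -/
def mW : SL4 := ⟨!![w, 0, 0; 0, w, 0; 0, 0, w], by decide +kernel⟩
/-- the scalar matrix `ω²` -/
def mW2 : SL4 := ⟨!![w2, 0, 0; 0, w2, 0; 0, 0, w2], by decide +kernel⟩

/-- the matrices of the letters -/
def mU (l : ℕ) : SL4 := [mA, mA', mB, mB'].getD l 1

/-- the images of the letters -/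
def gU (l : ℕ) : PSL4 := QuotientGroup.mk (mU l)

theorem minv_ok : ∀ l, l < PL34p.P.k → mU l * mU (PL34p.P.invR l) = 1 := by decide +kernel

theorem mrel_ok : ∀ L ∈ PL34p.P.real, wordP mU L ∈ [1, mW, mW2] := by decide +kernel

theorem scalar_mem_center (c : K4) (hc : c ^ 3 = 1) (z : SL4)
    (hz : (z : Matrix (Fin 3) (Fin 3) K4) = Matrix.scalar (Fin 3) c) : z ∈ Subgroup.center SL4 := by
  rw [Matrix.SpecialLinearGroup.mem_center_iff]
  exact ⟨c, by rw [Fintype.card_fin]; exact hc, hz.symm⟩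

theorem mW_center : mW ∈ Subgroup.center SL4 :=
  scalar_mem_center w (by decide +kernel) mW (by decide +kernel)

theorem mW2_center : mW2 ∈ Subgroup.center SL4 :=
  scalar_mem_center w2 (by decide +kernel) mW2 (by decide +kernel)

theorem wordP_gU (L : List ℕ) : wordP gU L = QuotientGroup.mk (wordP mU L) := by
  induction L with
  | nil => rfl
  | cons x L ih => rw [wordP_cons, wordP_cons, ih]; rfl

theorem inv_ok : ∀ l, l < PL34p.P.k → gU l * gU (PL34p.P.invR l) = 1 := by
  intro l hl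
  show (QuotientGroup.mk (mU l * mU (PL34p.P.invR l)) : PSL4) = 1
  rw [minv_ok l hl]
  rfl

theorem rel_ok : ∀ L ∈ PL34p.P.real, wordP gU L = 1 := by
  intro L hL
  rw [wordP_gU, QuotientGroup.eq_one_iff]
  have h := mrel_ok L hL
  simp only [List.mem_cons, List.not_mem_nil, or_false] at h
  rcases h with h | h | h
  · rw [h]; exact Subgroup.one_mem _
  · rw [h]; exact mW_center
  · rw [h]; exact mW2_center

theorem exists_hom : ∃ f : PL34p.P.Grp →* PSL4, ∀ l, l < PL34p.P.k → f (PL34p.P.gR l) = gU l :=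
  exists_hom_of_letters PL34p.P PL34p.valid gU inv_ok rel_ok

/-- the homomorphism to `PSL₃(4)` -/
noncomputable def ι : PL34p.P.Grp →* PSL4 := Classical.choose exists_hom

theorem ι_gR (l : ℕ) (hl : l < 4) : ι (PL34p.P.gR l) = gU l := Classical.choose_spec exists_hom l hl

theorem not_comm : mA * mB ≠ mB * mA := by decide +kernel

theorem ι_ne : ι (PL34p.P.gR 0) ≠ 1 := by
  rw [ι_gR 0 (by decide)]
  show (QuotientGroup.mk mA : PSL4) ≠ 1
  rw [Ne, QuotientGroup.eq_one_iff, Subgroup.mem_center_iff]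
  intro h
  exact not_comm (h mB).symm

theorem ι_injective : Function.Injective ι := injective_of_simple L34pMain.simple_aux ι _ ι_ne

theorem card_PSL4 : Nat.card PSL4 = 20160 := by
  show Nat.card (Matrix.ProjectiveSpecialLinearGroup (Fin 3) K4) = 20160
  have h1 := card_SL_mul (F := K4) 3 (by norm_num)
  have h2 := card_PSL_mul (F := K4) 3 (by norm_num)
  rw [Matrix.card_GL_field, K4.card, Fin.prod_univ_three] at h1
  rw [K4.card] at h2
  have e2 : Nat.gcd 3 (4 - 1) = 3 := by decide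
  rw [e2] at h2
  simp only [Fin.val_zero, Fin.val_one, Fin.val_two] at h1
  have e1 : ((4 : ℕ) ^ 3 - 4 ^ 0) * (4 ^ 3 - 4 ^ 1) * (4 ^ 3 - 4 ^ 2) = 181440 := by norm_num
  rw [e1] at h1
  omega

theorem ι_surjective : Function.Surjective ι := by
  obtain ⟨fG, _, hcard⟩ := L34pMain.order_aux
  have := fG
  rw [← MonoidHom.range_eq_top]
  apply Subgroup.eq_top_of_card_eq
  rw [card_PSL4, ← hcard]
  exact (Nat.card_congr (MonoidHom.ofInjective ι_injective).toEquiv).symm

/-- the isomorphism over the model field -/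
noncomputable def iso4 : PL34p.P.Grp ≃* PSL4 := MulEquiv.ofBijective ι ⟨ι_injective, ι_surjective⟩

/-- the presented group is `PSL₃` over any field with 4 elements -/
theorem iso {F : Type*} [Field F] [Fintype F] (hF : Fintype.card F = 4) :
    Nonempty (PL34p.P.Grp ≃* Matrix.ProjectiveSpecialLinearGroup (Fin 3) F) := by
  have e0 : K4 ≃+* F := FiniteField.ringEquivOfCardEq (K4.card.trans hF.symm)
  exact ⟨iso4.trans (pslEquivN 3 e0)⟩

end Cfsg.Agent.Lib.Helper4.L34pIso
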