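import Mathlib
import Cfsg.Agent.Lib.Helper4.TCD_C6A6A_Fin
import Cfsg.Agent.Lib.Helper4.TCD_C6A6U1_Fin
import Cfsg.Agent.Lib.Helper4.TCD_C6A6U2_Fin
import Cfsg.Agent.Lib.Helper4.TCD_C6A6L_Fin
import Cfsg.Agent.Lib.Helper4.TC16

/-! The presented group `C6A6` has order 2160 (generated). -/

namespace Cfsg.Agent.Lib.Helper4.C6A6Main

open Cfsg.Agent.Lib.Helper4.TC Cfsg.Agent.Lib.Helper4.TCD Cfsg.Agent.Lib.Helper4.TC.Log

theorem letG_01 : letG PC6A6.P [0] = letG PC6A6.P [0, 1] := by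
  apply le_antisymm
  · apply Subgroup.closure_mono
    rintro s ⟨x, hx, rfl⟩
    simp only [List.mem_cons, List.not_mem_nil, or_false] at hx
    exact ⟨x, by rw [hx]; simp, rfl⟩
  · rw [letG, Subgroup.closure_le]
    rintro s ⟨x, hx, rfl⟩
    simp only [List.mem_cons, List.not_mem_nil, or_false] at hx
    rcases hx with rfl | rfl
    · exact Subgroup.subset_closure ⟨0, by simp, rfl⟩
    · have h : PC6A6.P.gR 1 = (PC6A6.P.gR 0)⁻¹ := (PC6A6.valid.invR_sound 0 (by decide)).2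
      rw [h]
      exact inv_mem (Subgroup.subset_closure ⟨0, by simp, rfl⟩)

/-- the order and the faithful permutation representation -/
theorem order_aux : Finite PC6A6.P.Grp ∧ Function.Injective C6A6A.inst.phi ∧ Nat.card PC6A6.P.Grp = 2160 := by
  have e0 : letG PC6A6.P [] = ⊥ := letG_nil _
  have f0 : Finite (letG PC6A6.P []) := by rw [e0]; infer_instance
  have c0 : Nat.card (letG PC6A6.P []) = 1 := by rw [e0]; exact Subgroup.card_bot
  obtain ⟨f2, c2⟩ := C6A6U2.card_le f0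
  rw [← letG_01] at f2 c2
  obtain ⟨f1, c1⟩ := C6A6U1.card_le f2
  have htop : letG PC6A6.P [0, 1, 2, 3, 4, 5] = ⊤ := letG_all PC6A6.P PC6A6.valid
  have fG : Finite PC6A6.P.Grp := by
    have h := f1
    rw [htop] at h
    exact Finite.of_equiv _ (Subgroup.topEquiv (G := PC6A6.P.Grp)).toEquiv
  have cG : Nat.card PC6A6.P.Grp ≤ 540 * (4 * 1) := by
    rw [← Subgroup.card_top (G := PC6A6.P.Grp), ← htop]
    calc Nat.card (letG PC6A6.P [0, 1, 2, 3, 4, 5]) ≤ 540 * Nat.card (letG PC6A6.P [0]) := c1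
      _ ≤ 540 * (4 * Nat.card (letG PC6A6.P [])) := Nat.mul_le_mul_left _ c2
      _ = 540 * (4 * 1) := by rw [c0]
  have hub : Nat.card PC6A6.P.Grp ≤ 2160 := le_trans cG (by decide)
  obtain ⟨hinj, hcard⟩ := C6A6A.inst.card_eq C6A6L.S rfl rfl C6A6L.htab0 C6A6L.ok 2160 (by decide)
    C6A6L.prod_eq fG hub
  exact ⟨fG, hinj, hcard⟩

end Cfsg.Agent.Lib.Helper4.C6A6Main
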