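import Mathlib
import Cfsg.Agent.Lib.Helper4.C6A6Main
import Cfsg.Agent.Lib.Helper4.TCD_SC6A6p3A_Fin
import Cfsg.Agent.Lib.Helper4.TCD_SC6A6p3W
import Cfsg.Agent.Lib.Helper4.StemLib5

/-! `C6A6` has no stem extension with kernel of order 3 (generated). -/

namespace Cfsg.Agent.Lib.Helper4.SC6A6p3Main

open Cfsg.Agent.Lib.Helper4.TC Cfsg.Agent.Lib.Helper4.TCD Cfsg.Agent.Lib.Helper4.TC.Log Cfsg.Agent.Lib.Helper4.Stem

/-- the description of the auxiliary presentation -/
def spec : Spec2 :=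
  { p := 3
    items := [(0, [], 4),
      (2, [], 8),
      (4, [0, 2, 0, 2, 0, 2, 0, 2, 0, 2, 1, 1], 0),
      (6, [4, 4, 4, 4, 4, 4], 0),
      (8, [4, 0, 5, 1], 0),
      (10, [4, 2, 5, 3], 0),
      (12, [0, 0, 5, 5, 5], 0),
      (14, [2, 2, 2, 2, 5, 5, 5], 0),
      (16, [0, 2, 0, 2, 0, 2, 0, 2, 0, 2, 5, 5, 5, 5], 0),
      (18, [0, 2, 2, 0, 2, 2, 0, 2, 2, 0, 2, 2, 0, 2, 2], 0)]
    cen := [6, 8, 10, 12, 14, 16, 18]
    R := []
    sub := [2]
    PR := [] }

/-- the letters of the auxiliary presentation as words of the base group -/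
def Wl (l : ℕ) : List ℕ :=
  [[0], [1], [2], [3], [4], [5], [], [], [], [], [], [], [], [], [], [], [], [], [], []].getD l []

theorem checks_eq : checks spec PC6A6.P.invR Wl = SC6A6p3W.chkAll := by decide +kernel

set_option maxRecDepth 100000 in
theorem noStem : NoStemPrime PC6A6.P.Grp 3 := by
  obtain ⟨fG, hinj, hcard⟩ := C6A6Main.order_aux
  have hchecks : ∀ w ∈ checks spec PC6A6.P.invR Wl, wordP PC6A6.P.gR w = 1 := by
    rw [checks_eq]
    intro w hw
    exact C6A6A.inst.word_eq_one hinj w (SC6A6p3W.hAll_lt w hw) (SC6A6p3W.hAll w hw)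
  exact noStemPrime_pres_cyclic PC6A6.P PC6A6.valid PSC6A6p3.P PSC6A6p3.valid spec (by show Nat.Prime 3; norm_num) Wl
    (by decide +kernel) (by decide +kernel) hchecks (by decide +kernel) 2 8 rfl (by decide +kernel) (by decide)
    270 (by decide) SC6A6p3A.index_eq fG 2160 hcard (by decide)

end Cfsg.Agent.Lib.Helper4.SC6A6p3Main
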