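import Cfsg.Agent.Lib.Helper4.TCD_C48L34R_Acc
import Cfsg.Agent.Lib.Helper4.TC13

namespace Cfsg.Agent.Lib.Helper4.TCD.C48L34S

open Cfsg.Agent.Lib.Helper4.TC Cfsg.Agent.Lib.Helper4.TCD.C48L34R

set_option maxRecDepth 100000
set_option Elab.async false

def chk4 : List Nat := [0, 4, 4, 4, 4, 4, 7, 0, 4, 4, 4, 4, 4, 7, 5, 5, 5, 5, 5, 5]
noncomputable def act4 (i : Nat) : Nat := col1 (col5 (col5 (col5 (col5 (col5 (col6 (col1 (col5 (col5 (col5 (col5 (col5 (col6 (col4 (col4 (col4 (col4 (col4 (col4 (i))))))))))))))))))))
theorem act4_eq (i : Nat) : act4 i = Tab.act T D chk4 i := rfl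
theorem c4_0 : allRange (fun i => Nat.beq (act4 i) i) 0 2727 = true := by decide +kernel
theorem c4_1 : allRange (fun i => Nat.beq (act4 i) i) 2727 2727 = true := by decide +kernel
theorem c4_2 : allRange (fun i => Nat.beq (act4 i) i) 5454 2727 = true := by decide +kernel
theorem c4_3 : allRange (fun i => Nat.beq (act4 i) i) 8181 2727 = true := by decide +kernel
theorem c4_4 : allRange (fun i => Nat.beq (act4 i) i) 10908 2727 = true := by decide +kernel
theorem c4_5 : allRange (fun i => Nat.beq (act4 i) i) 13635 2727 = true := by decide +kernel
theorem c4_6 : allRange (fun i => Nat.beq (act4 i) i) 16362 2727 = true := by decide +kernel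
theorem c4_7 : allRange (fun i => Nat.beq (act4 i) i) 19089 2727 = true := by decide +kernel
theorem c4_8 : allRange (fun i => Nat.beq (act4 i) i) 21816 2727 = true := by decide +kernel
theorem c4_9 : allRange (fun i => Nat.beq (act4 i) i) 24543 2727 = true := by decide +kernel
theorem c4_10 : allRange (fun i => Nat.beq (act4 i) i) 27270 2727 = true := by decide +kernel
theorem c4_11 : allRange (fun i => Nat.beq (act4 i) i) 29997 2727 = true := by decide +kernel
theorem c4_12 : allRange (fun i => Nat.beq (act4 i) i) 32724 2727 = true := by decide +kernel
theorem c4_13 : allRange (fun i => Nat.beq (act4 i) i) 35451 2727 = true := by decide +kernel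
theorem c4_14 : allRange (fun i => Nat.beq (act4 i) i) 38178 2727 = true := by decide +kernel
theorem c4_15 : allRange (fun i => Nat.beq (act4 i) i) 40905 2727 = true := by decide +kernel
theorem c4_16 : allRange (fun i => Nat.beq (act4 i) i) 43632 2448 = true := by decide +kernel
theorem h4 : ∀ i, i < T.N → Tab.relActOK T D chk4 i = true := by
  intro i hi
  rw [Tab.relActOK, ← act4_eq]
  exact (range_glue (range_of_allRange c4_0) (range_glue (range_of_allRange c4_1) (range_glue (range_of_allRange c4_2) (range_glue (range_of_allRange c4_3) (range_glue (range_of_allRange c4_4) (range_glue (range_of_allRange c4_5) (range_glue (range_of_allRange c4_6) (range_glue (range_of_allRange c4_7) (range_glue (range_of_allRange c4_8) (range_glue (range_of_allRange c4_9) (range_glue (range_of_allRange c4_10) (range_glue (range_of_allRange c4_11) (range_glue (range_of_allRange c4_12) (range_glue (range_of_allRange c4_13) (range_glue (range_of_allRange c4_14) (range_glue (range_of_allRange c4_15) (range_of_allRange c4_16))))))))))))))))) i (Nat.zero_le _) hi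

def chk6 : List Nat := [0, 4, 4, 4, 4, 4, 7, 2, 0, 2, 0, 3, 0, 2, 5, 5, 5, 5, 5, 6, 6, 0, 4, 4, 4, 4, 4, 7, 2, 0, 2, 0, 3, 0, 2, 5, 5, 5, 5, 5, 6, 6, 0, 4, 4, 4, 4, 4, 7, 2, 0, 2, 0, 3, 0, 2, 5, 5, 5, 5, 5, 6, 6, 0, 4, 4, 4, 4, 4, 7, 2, 0, 2, 0, 3, 0, 2, 5, 5, 5, 5, 5, 6, 6, 0, 4, 4, 4, 4, 4, 7, 2, 0, 2, 0, 3, 0, 2, 5, 5, 5, 5, 5, 6, 6, 5, 5, 5, 5, 5, 5, 5, 5]
noncomputable def act6 (i : Nat) : Nat := col1 (col5 (col5 (col5 (col5 (col5 (col6 (col3 (col1 (col3 (col1 (col2 (col1 (col3 (col4 (col4 (col4 (col4 (col4 (col7 (col7 (col1 (col5 (col5 (col5 (col5 (col5 (col6 (col3 (col1 (col3 (col1 (col2 (col1 (col3 (col4 (col4 (col4 (col4 (col4 (col7 (col7 (col1 (col5 (col5 (col5 (col5 (col5 (col6 (col3 (col1 (col3 (col1 (col2 (col1 (col3 (col4 (col4 (col4 (col4 (col4 (col7 (col7 (col1 (col5 (col5 (col5 (col5 (col5 (col6 (col3 (col1 (col3 (col1 (col2 (col1 (col3 (col4 (col4 (col4 (col4 (col4 (col7 (col7 (col1 (col5 (col5 (col5 (col5 (col5 (col6 (col3 (col1 (col3 (col1 (col2 (col1 (col3 (col4 (col4 (col4 (col4 (col4 (col7 (col7 (col4 (col4 (col4 (col4 (col4 (col4 (col4 (col4 (i)))))))))))))))))))))))))))))))))))))))))))))))))))))))))))))))))))))))))))))))))))))))))))))))))))))))))))))))))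
theorem act6_eq (i : Nat) : act6 i = Tab.act T D chk6 i := rfl
theorem c6_0 : allRange (fun i => Nat.beq (act6 i) i) 0 521 = true := by decide +kernel
theorem c6_1 : allRange (fun i => Nat.beq (act6 i) i) 521 521 = true := by decide +kernel
theorem c6_2 : allRange (fun i => Nat.beq (act6 i) i) 1042 521 = true := by decide +kernel
theorem c6_3 : allRange (fun i => Nat.beq (act6 i) i) 1563 521 = true := by decide +kernel
theorem c6_4 : allRange (fun i => Nat.beq (act6 i) i) 2084 521 = true := by decide +kernel
theorem c6_5 : allRange (fun i => Nat.beq (act6 i) i) 2605 521 = true := by decide +kernel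
theorem c6_6 : allRange (fun i => Nat.beq (act6 i) i) 3126 521 = true := by decide +kernel
theorem c6_7 : allRange (fun i => Nat.beq (act6 i) i) 3647 521 = true := by decide +kernel
theorem c6_8 : allRange (fun i => Nat.beq (act6 i) i) 4168 521 = true := by decide +kernel
theorem c6_9 : allRange (fun i => Nat.beq (act6 i) i) 4689 521 = true := by decide +kernel
theorem c6_10 : allRange (fun i => Nat.beq (act6 i) i) 5210 521 = true := by decide +kernel
theorem c6_11 : allRange (fun i => Nat.beq (act6 i) i) 5731 521 = true := by decide +kernel
theorem c6_12 : allRange (fun i => Nat.beq (act6 i) i) 6252 521 = true := by decide +kernel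
theorem c6_13 : allRange (fun i => Nat.beq (act6 i) i) 6773 521 = true := by decide +kernel
theorem c6_14 : allRange (fun i => Nat.beq (act6 i) i) 7294 521 = true := by decide +kernel
theorem c6_15 : allRange (fun i => Nat.beq (act6 i) i) 7815 521 = true := by decide +kernel
theorem c6_16 : allRange (fun i => Nat.beq (act6 i) i) 8336 521 = true := by decide +kernel
theorem c6_17 : allRange (fun i => Nat.beq (act6 i) i) 8857 521 = true := by decide +kernel
theorem c6_18 : allRange (fun i => Nat.beq (act6 i) i) 9378 521 = true := by decide +kernel
theorem c6_19 : allRange (fun i => Nat.beq (act6 i) i) 9899 521 = true := by decide +kernel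
theorem c6_20 : allRange (fun i => Nat.beq (act6 i) i) 10420 521 = true := by decide +kernel
theorem c6_21 : allRange (fun i => Nat.beq (act6 i) i) 10941 521 = true := by decide +kernel
theorem c6_22 : allRange (fun i => Nat.beq (act6 i) i) 11462 521 = true := by decide +kernel
theorem c6_23 : allRange (fun i => Nat.beq (act6 i) i) 11983 521 = true := by decide +kernel
theorem c6_24 : allRange (fun i => Nat.beq (act6 i) i) 12504 521 = true := by decide +kernel
theorem c6_25 : allRange (fun i => Nat.beq (act6 i) i) 13025 521 = true := by decide +kernel
theorem c6_26 : allRange (fun i => Nat.beq (act6 i) i) 13546 521 = true := by decide +kernel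
theorem c6_27 : allRange (fun i => Nat.beq (act6 i) i) 14067 521 = true := by decide +kernel
theorem c6_28 : allRange (fun i => Nat.beq (act6 i) i) 14588 521 = true := by decide +kernel
theorem c6_29 : allRange (fun i => Nat.beq (act6 i) i) 15109 521 = true := by decide +kernel
theorem c6_30 : allRange (fun i => Nat.beq (act6 i) i) 15630 521 = true := by decide +kernel
theorem c6_31 : allRange (fun i => Nat.beq (act6 i) i) 16151 521 = true := by decide +kernel
theorem c6_32 : allRange (fun i => Nat.beq (act6 i) i) 16672 521 = true := by decide +kernel
theorem c6_33 : allRange (fun i => Nat.beq (act6 i) i) 17193 521 = true := by decide +kernel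
theorem c6_34 : allRange (fun i => Nat.beq (act6 i) i) 17714 521 = true := by decide +kernel
theorem c6_35 : allRange (fun i => Nat.beq (act6 i) i) 18235 521 = true := by decide +kernel
theorem c6_36 : allRange (fun i => Nat.beq (act6 i) i) 18756 521 = true := by decide +kernel
theorem c6_37 : allRange (fun i => Nat.beq (act6 i) i) 19277 521 = true := by decide +kernel
theorem c6_38 : allRange (fun i => Nat.beq (act6 i) i) 19798 521 = true := by decide +kernel
theorem c6_39 : allRange (fun i => Nat.beq (act6 i) i) 20319 521 = true := by decide +kernel
theorem c6_40 : allRange (fun i => Nat.beq (act6 i) i) 20840 521 = true := by decide +kernel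
theorem c6_41 : allRange (fun i => Nat.beq (act6 i) i) 21361 521 = true := by decide +kernel
theorem c6_42 : allRange (fun i => Nat.beq (act6 i) i) 21882 521 = true := by decide +kernel
theorem c6_43 : allRange (fun i => Nat.beq (act6 i) i) 22403 521 = true := by decide +kernel
theorem c6_44 : allRange (fun i => Nat.beq (act6 i) i) 22924 521 = true := by decide +kernel
theorem c6_45 : allRange (fun i => Nat.beq (act6 i) i) 23445 521 = true := by decide +kernel
theorem c6_46 : allRange (fun i => Nat.beq (act6 i) i) 23966 521 = true := by decide +kernel
theorem c6_47 : allRange (fun i => Nat.beq (act6 i) i) 24487 521 = true := by decide +kernel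
theorem c6_48 : allRange (fun i => Nat.beq (act6 i) i) 25008 521 = true := by decide +kernel
theorem c6_49 : allRange (fun i => Nat.beq (act6 i) i) 25529 521 = true := by decide +kernel
theorem c6_50 : allRange (fun i => Nat.beq (act6 i) i) 26050 521 = true := by decide +kernel
theorem c6_51 : allRange (fun i => Nat.beq (act6 i) i) 26571 521 = true := by decide +kernel
theorem c6_52 : allRange (fun i => Nat.beq (act6 i) i) 27092 521 = true := by decide +kernel
theorem c6_53 : allRange (fun i => Nat.beq (act6 i) i) 27613 521 = true := by decide +kernel
theorem c6_54 : allRange (fun i => Nat.beq (act6 i) i) 28134 521 = true := by decide +kernel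
theorem c6_55 : allRange (fun i => Nat.beq (act6 i) i) 28655 521 = true := by decide +kernel
theorem c6_56 : allRange (fun i => Nat.beq (act6 i) i) 29176 521 = true := by decide +kernel
theorem c6_57 : allRange (fun i => Nat.beq (act6 i) i) 29697 521 = true := by decide +kernel
theorem c6_58 : allRange (fun i => Nat.beq (act6 i) i) 30218 521 = true := by decide +kernel
theorem c6_59 : allRange (fun i => Nat.beq (act6 i) i) 30739 521 = true := by decide +kernel
theorem c6_60 : allRange (fun i => Nat.beq (act6 i) i) 31260 521 = true := by decide +kernel
theorem c6_61 : allRange (fun i => Nat.beq (act6 i) i) 31781 521 = true := by decide +kernel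
theorem c6_62 : allRange (fun i => Nat.beq (act6 i) i) 32302 521 = true := by decide +kernel
theorem c6_63 : allRange (fun i => Nat.beq (act6 i) i) 32823 521 = true := by decide +kernel
theorem c6_64 : allRange (fun i => Nat.beq (act6 i) i) 33344 521 = true := by decide +kernel
theorem c6_65 : allRange (fun i => Nat.beq (act6 i) i) 33865 521 = true := by decide +kernel
theorem c6_66 : allRange (fun i => Nat.beq (act6 i) i) 34386 521 = true := by decide +kernel
theorem c6_67 : allRange (fun i => Nat.beq (act6 i) i) 34907 521 = true := by decide +kernel
theorem c6_68 : allRange (fun i => Nat.beq (act6 i) i) 35428 521 = true := by decide +kernel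
theorem c6_69 : allRange (fun i => Nat.beq (act6 i) i) 35949 521 = true := by decide +kernel
theorem c6_70 : allRange (fun i => Nat.beq (act6 i) i) 36470 521 = true := by decide +kernel
theorem c6_71 : allRange (fun i => Nat.beq (act6 i) i) 36991 521 = true := by decide +kernel
theorem c6_72 : allRange (fun i => Nat.beq (act6 i) i) 37512 521 = true := by decide +kernel
theorem c6_73 : allRange (fun i => Nat.beq (act6 i) i) 38033 521 = true := by decide +kernel
theorem c6_74 : allRange (fun i => Nat.beq (act6 i) i) 38554 521 = true := by decide +kernel
theorem c6_75 : allRange (fun i => Nat.beq (act6 i) i) 39075 521 = true := by decide +kernel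
theorem c6_76 : allRange (fun i => Nat.beq (act6 i) i) 39596 521 = true := by decide +kernel
theorem c6_77 : allRange (fun i => Nat.beq (act6 i) i) 40117 521 = true := by decide +kernel
theorem c6_78 : allRange (fun i => Nat.beq (act6 i) i) 40638 521 = true := by decide +kernel
theorem c6_79 : allRange (fun i => Nat.beq (act6 i) i) 41159 521 = true := by decide +kernel
theorem c6_80 : allRange (fun i => Nat.beq (act6 i) i) 41680 521 = true := by decide +kernel
theorem c6_81 : allRange (fun i => Nat.beq (act6 i) i) 42201 521 = true := by decide +kernel
theorem c6_82 : allRange (fun i => Nat.beq (act6 i) i) 42722 521 = true := by decide +kernel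
theorem c6_83 : allRange (fun i => Nat.beq (act6 i) i) 43243 521 = true := by decide +kernel
theorem c6_84 : allRange (fun i => Nat.beq (act6 i) i) 43764 521 = true := by decide +kernel
theorem c6_85 : allRange (fun i => Nat.beq (act6 i) i) 44285 521 = true := by decide +kernel
theorem c6_86 : allRange (fun i => Nat.beq (act6 i) i) 44806 521 = true := by decide +kernel
theorem c6_87 : allRange (fun i => Nat.beq (act6 i) i) 45327 521 = true := by decide +kernel
theorem c6_88 : allRange (fun i => Nat.beq (act6 i) i) 45848 232 = true := by decide +kernel
theorem h6 : ∀ i, i < T.N → Tab.relActOK T D chk6 i = true := by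
  intro i hi
  rw [Tab.relActOK, ← act6_eq]
  exact (range_glue (range_of_allRange c6_0) (range_glue (range_of_allRange c6_1) (range_glue (range_of_allRange c6_2) (range_glue (range_of_allRange c6_3) (range_glue (range_of_allRange c6_4) (range_glue (range_of_allRange c6_5) (range_glue (range_of_allRange c6_6) (range_glue (range_of_allRange c6_7) (range_glue (range_of_allRange c6_8) (range_glue (range_of_allRange c6_9) (range_glue (range_of_allRange c6_10) (range_glue (range_of_allRange c6_11) (range_glue (range_of_allRange c6_12) (range_glue (range_of_allRange c6_13) (range_glue (range_of_allRange c6_14) (range_glue (range_of_allRange c6_15) (range_glue (range_of_allRange c6_16) (range_glue (range_of_allRange c6_17) (range_glue (range_of_allRange c6_18) (range_glue (range_of_allRange c6_19) (range_glue (range_of_allRange c6_20) (range_glue (range_of_allRange c6_21) (range_glue (range_of_allRange c6_22) (range_glue (range_of_allRange c6_23) (range_glue (range_of_allRange c6_24) (range_glue (range_of_allRange c6_25) (range_glue (range_of_allRange c6_26) (range_glue (range_of_allRange c6_27) (range_glue (range_of_allRange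 c6_28) (range_glue (range_of_allRange c6_29) (range_glue (range_of_allRange c6_30) (range_glue (range_of_allRange c6_31) (range_glue (range_of_allRange c6_32) (range_glue (range_of_allRange c6_33) (range_glue (range_of_allRange c6_34) (range_glue (range_of_allRange c6_35) (range_glue (range_of_allRange c6_36) (range_glue (range_of_allRange c6_37) (range_glue (range_of_allRange c6_38) (range_glue (range_of_allRange c6_39) (range_glue (range_of_allRange c6_40) (range_glue (range_of_allRange c6_41) (range_glue (range_of_allRange c6_42) (range_glue (range_of_allRange c6_43) (range_glue (range_of_allRange c6_44) (range_glue (range_of_allRange c6_45) (range_glue (range_of_allRange c6_46) (range_glue (range_of_allRange c6_47) (range_glue (range_of_allRange c6_48) (range_glue (range_of_allRange c6_49) (range_glue (range_of_allRange c6_50) (range_glue (range_of_allRange c6_51) (range_glue (range_of_allRange c6_52) (range_glue (range_of_allRange c6_53) (range_glue (range_of_allRange c6_54) (range_glue (range_of_allRange c6_55) (range_glue (range_of_allRange c6_56) (range_glue (range_of_allRange c6_57) (range_glue (range_of_allRange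 c6_58) (range_glue (range_of_allRange c6_59) (range_glue (range_of_allRange c6_60) (range_glue (range_of_allRange c6_61) (range_glue (range_of_allRange c6_62) (range_glue (range_of_allRange c6_63) (range_glue (range_of_allRange c6_64) (range_glue (range_of_allRange c6_65) (range_glue (range_of_allRange c6_66) (range_glue (range_of_allRange c6_67) (range_glue (range_of_allRange c6_68) (range_glue (range_of_allRange c6_69) (range_glue (range_of_allRange c6_70) (range_glue (range_of_allRange c6_71) (range_glue (range_of_allRange c6_72) (range_glue (range_of_allRange c6_73) (range_glue (range_of_allRange c6_74) (range_glue (range_of_allRange c6_75) (range_glue (range_of_allRange c6_76) (range_glue (range_of_allRange c6_77) (range_glue (range_of_allRange c6_78) (range_glue (range_of_allRange c6_79) (range_glue (range_of_allRange c6_80) (range_glue (range_of_allRange c6_81) (range_glue (range_of_allRange c6_82) (range_glue (range_of_allRange c6_83) (range_glue (range_of_allRange c6_84) (range_glue (range_of_allRange c6_85) (range_glue (range_of_allRange c6_86) (range_glue (range_of_allRange c6_87) (range_of_allRange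 c6_88))))))))))))))))))))))))))))))))))))))))))))))))))))))))))))))))))))))))))))))))))))))))) i (Nat.zero_le _) hi

def chk8 : List Nat := [0, 4, 4, 4, 4, 4, 7, 6, 5, 5, 5, 5, 5, 1]
noncomputable def act8 (i : Nat) : Nat := col1 (col5 (col5 (col5 (col5 (col5 (col6 (col7 (col4 (col4 (col4 (col4 (col4 (col0 (i))))))))))))))
theorem act8_eq (i : Nat) : act8 i = Tab.act T D chk8 i := rfl
theorem c8_0 : allRange (fun i => Nat.beq (act8 i) i) 0 3750 = true := by decide +kernel
theorem c8_1 : allRange (fun i => Nat.beq (act8 i) i) 3750 3750 = true := by decide +kernel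
theorem c8_2 : allRange (fun i => Nat.beq (act8 i) i) 7500 3750 = true := by decide +kernel
theorem c8_3 : allRange (fun i => Nat.beq (act8 i) i) 11250 3750 = true := by decide +kernel
theorem c8_4 : allRange (fun i => Nat.beq (act8 i) i) 15000 3750 = true := by decide +kernel
theorem c8_5 : allRange (fun i => Nat.beq (act8 i) i) 18750 3750 = true := by decide +kernel
theorem c8_6 : allRange (fun i => Nat.beq (act8 i) i) 22500 3750 = true := by decide +kernel
theorem c8_7 : allRange (fun i => Nat.beq (act8 i) i) 26250 3750 = true := by decide +kernel
theorem c8_8 : allRange (fun i => Nat.beq (act8 i) i) 30000 3750 = true := by decide +kernel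
theorem c8_9 : allRange (fun i => Nat.beq (act8 i) i) 33750 3750 = true := by decide +kernel
theorem c8_10 : allRange (fun i => Nat.beq (act8 i) i) 37500 3750 = true := by decide +kernel
theorem c8_11 : allRange (fun i => Nat.beq (act8 i) i) 41250 3750 = true := by decide +kernel
theorem c8_12 : allRange (fun i => Nat.beq (act8 i) i) 45000 1080 = true := by decide +kernel
theorem h8 : ∀ i, i < T.N → Tab.relActOK T D chk8 i = true := by
  intro i hi
  rw [Tab.relActOK, ← act8_eq]
  exact (range_glue (range_of_allRange c8_0) (range_glue (range_of_allRange c8_1) (range_glue (range_of_allRange c8_2) (range_glue (range_of_allRange c8_3) (range_glue (range_of_allRange c8_4) (range_glue (range_of_allRange c8_5) (range_glue (range_of_allRange c8_6) (range_glue (range_of_allRange c8_7) (range_glue (range_of_allRange c8_8) (range_glue (range_of_allRange c8_9) (range_glue (range_of_allRange c8_10) (range_glue (range_of_allRange c8_11) (range_of_allRange c8_12))))))))))))) i (Nat.zero_le _) hi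

def chk10 : List Nat := [2, 0, 2, 0, 3, 0, 2, 5, 5, 5, 5, 5, 6, 6, 7, 7, 4, 4, 4, 4, 4, 3, 1, 2, 1, 3, 1, 3]
noncomputable def act10 (i : Nat) : Nat := col3 (col1 (col3 (col1 (col2 (col1 (col3 (col4 (col4 (col4 (col4 (col4 (col7 (col7 (col6 (col6 (col5 (col5 (col5 (col5 (col5 (col2 (col0 (col3 (col0 (col2 (col0 (col2 (i))))))))))))))))))))))))))))
theorem act10_eq (i : Nat) : act10 i = Tab.act T D chk10 i := rfl
theorem c10_0 : allRange (fun i => Nat.beq (act10 i) i) 0 2000 = true := by decide +kernel
theorem c10_1 : allRange (fun i => Nat.beq (act10 i) i) 2000 2000 = true := by decide +kernel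
theorem c10_2 : allRange (fun i => Nat.beq (act10 i) i) 4000 2000 = true := by decide +kernel
theorem c10_3 : allRange (fun i => Nat.beq (act10 i) i) 6000 2000 = true := by decide +kernel
theorem c10_4 : allRange (fun i => Nat.beq (act10 i) i) 8000 2000 = true := by decide +kernel
theorem c10_5 : allRange (fun i => Nat.beq (act10 i) i) 10000 2000 = true := by decide +kernel
theorem c10_6 : allRange (fun i => Nat.beq (act10 i) i) 12000 2000 = true := by decide +kernel
theorem c10_7 : allRange (fun i => Nat.beq (act10 i) i) 14000 2000 = true := by decide +kernel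
theorem c10_8 : allRange (fun i => Nat.beq (act10 i) i) 16000 2000 = true := by decide +kernel
theorem c10_9 : allRange (fun i => Nat.beq (act10 i) i) 18000 2000 = true := by decide +kernel
theorem c10_10 : allRange (fun i => Nat.beq (act10 i) i) 20000 2000 = true := by decide +kernel
theorem c10_11 : allRange (fun i => Nat.beq (act10 i) i) 22000 2000 = true := by decide +kernel
theorem c10_12 : allRange (fun i => Nat.beq (act10 i) i) 24000 2000 = true := by decide +kernel
theorem c10_13 : allRange (fun i => Nat.beq (act10 i) i) 26000 2000 = true := by decide +kernel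
theorem c10_14 : allRange (fun i => Nat.beq (act10 i) i) 28000 2000 = true := by decide +kernel
theorem c10_15 : allRange (fun i => Nat.beq (act10 i) i) 30000 2000 = true := by decide +kernel
theorem c10_16 : allRange (fun i => Nat.beq (act10 i) i) 32000 2000 = true := by decide +kernel
theorem c10_17 : allRange (fun i => Nat.beq (act10 i) i) 34000 2000 = true := by decide +kernel
theorem c10_18 : allRange (fun i => Nat.beq (act10 i) i) 36000 2000 = true := by decide +kernel
theorem c10_19 : allRange (fun i => Nat.beq (act10 i) i) 38000 2000 = true := by decide +kernel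
theorem c10_20 : allRange (fun i => Nat.beq (act10 i) i) 40000 2000 = true := by decide +kernel
theorem c10_21 : allRange (fun i => Nat.beq (act10 i) i) 42000 2000 = true := by decide +kernel
theorem c10_22 : allRange (fun i => Nat.beq (act10 i) i) 44000 2000 = true := by decide +kernel
theorem c10_23 : allRange (fun i => Nat.beq (act10 i) i) 46000 80 = true := by decide +kernel
theorem h10 : ∀ i, i < T.N → Tab.relActOK T D chk10 i = true := by
  intro i hi
  rw [Tab.relActOK, ← act10_eq]
  exact (range_glue (range_of_allRange c10_0) (range_glue (range_of_allRange c10_1) (range_glue (range_of_allRange c10_2) (range_glue (range_of_allRange c10_3) (range_glue (range_of_allRange c10_4) (range_glue (range_of_allRange c10_5) (range_glue (range_of_allRange c10_6) (range_glue (range_of_allRange c10_7) (range_glue (range_of_allRange c10_8) (range_glue (range_of_allRange c10_9) (range_glue (range_of_allRange c10_10) (range_glue (range_of_allRange c10_11) (range_glue (range_of_allRange c10_12) (range_glue (range_of_allRange c10_13) (range_glue (range_of_allRange c10_14) (range_glue (range_of_allRange c10_15) (range_glue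 (range_of_allRange c10_16) (range_glue (range_of_allRange c10_17) (range_glue (range_of_allRange c10_18) (range_glue (range_of_allRange c10_19) (range_glue (range_of_allRange c10_20) (range_glue (range_of_allRange c10_21) (range_glue (range_of_allRange c10_22) (range_of_allRange c10_23)))))))))))))))))))))))) i (Nat.zero_le _) hi

def chk12 : List Nat := [4, 4, 5, 5]
noncomputable def act12 (i : Nat) : Nat := col5 (col5 (col4 (col4 (i))))
theorem act12_eq (i : Nat) : act12 i = Tab.act T D chk12 i := rfl
theorem c12_0 : allRange (fun i => Nat.beq (act12 i) i) 0 10000 = true := by decide +kernel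
theorem c12_1 : allRange (fun i => Nat.beq (act12 i) i) 10000 10000 = true := by decide +kernel
theorem c12_2 : allRange (fun i => Nat.beq (act12 i) i) 20000 10000 = true := by decide +kernel
theorem c12_3 : allRange (fun i => Nat.beq (act12 i) i) 30000 10000 = true := by decide +kernel
theorem c12_4 : allRange (fun i => Nat.beq (act12 i) i) 40000 6080 = true := by decide +kernel
theorem h12 : ∀ i, i < T.N → Tab.relActOK T D chk12 i = true := by
  intro i hi
  rw [Tab.relActOK, ← act12_eq]
  exact (range_glue (range_of_allRange c12_0) (range_glue (range_of_allRange c12_1) (range_glue (range_of_allRange c12_2) (range_glue (range_of_allRange c12_3) (range_of_allRange c12_4))))) i (Nat.zero_le _) hi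

def chk13 : List Nat := [5, 5, 4, 4]
noncomputable def act13 (i : Nat) : Nat := col4 (col4 (col5 (col5 (i))))
theorem act13_eq (i : Nat) : act13 i = Tab.act T D chk13 i := rfl
theorem c13_0 : allRange (fun i => Nat.beq (act13 i) i) 0 10000 = true := by decide +kernel
theorem c13_1 : allRange (fun i => Nat.beq (act13 i) i) 10000 10000 = true := by decide +kernel
theorem c13_2 : allRange (fun i => Nat.beq (act13 i) i) 20000 10000 = true := by decide +kernel
theorem c13_3 : allRange (fun i => Nat.beq (act13 i) i) 30000 10000 = true := by decide +kernel
theorem c13_4 : allRange (fun i => Nat.beq (act13 i) i) 40000 6080 = true := by decide +kernel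
theorem h13 : ∀ i, i < T.N → Tab.relActOK T D chk13 i = true := by
  intro i hi
  rw [Tab.relActOK, ← act13_eq]
  exact (range_glue (range_of_allRange c13_0) (range_glue (range_of_allRange c13_1) (range_glue (range_of_allRange c13_2) (range_glue (range_of_allRange c13_3) (range_of_allRange c13_4))))) i (Nat.zero_le _) hi

end Cfsg.Agent.Lib.Helper4.TCD.C48L34S
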