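import Cfsg.Agent.Lib.Helper4.TCD_C48L34R_Acc
import Cfsg.Agent.Lib.Helper4.TC13

namespace Cfsg.Agent.Lib.Helper4.TCD.C48L34S

open Cfsg.Agent.Lib.Helper4.TC Cfsg.Agent.Lib.Helper4.TCD.C48L34R

set_option maxRecDepth 100000
set_option Elab.async false

def chk0 : List Nat := [4, 4, 4, 4, 4, 4, 4, 4, 4, 4, 4, 4]
noncomputable def act0 (i : Nat) : Nat := col5 (col5 (col5 (col5 (col5 (col5 (col5 (col5 (col5 (col5 (col5 (col5 (i))))))))))))
theorem act0_eq (i : Nat) : act0 i = Tab.act T D chk0 i := rfl
theorem c0_0 : allRange (fun i => Nat.beq (act0 i) i) 0 4285 = true := by decide +kernel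
theorem c0_1 : allRange (fun i => Nat.beq (act0 i) i) 4285 4285 = true := by decide +kernel
theorem c0_2 : allRange (fun i => Nat.beq (act0 i) i) 8570 4285 = true := by decide +kernel
theorem c0_3 : allRange (fun i => Nat.beq (act0 i) i) 12855 4285 = true := by decide +kernel
theorem c0_4 : allRange (fun i => Nat.beq (act0 i) i) 17140 4285 = true := by decide +kernel
theorem c0_5 : allRange (fun i => Nat.beq (act0 i) i) 21425 4285 = true := by decide +kernel
theorem c0_6 : allRange (fun i => Nat.beq (act0 i) i) 25710 4285 = true := by decide +kernel
theorem c0_7 : allRange (fun i => Nat.beq (act0 i) i) 29995 4285 = true := by decide +kernel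
theorem c0_8 : allRange (fun i => Nat.beq (act0 i) i) 34280 4285 = true := by decide +kernel
theorem c0_9 : allRange (fun i => Nat.beq (act0 i) i) 38565 4285 = true := by decide +kernel
theorem c0_10 : allRange (fun i => Nat.beq (act0 i) i) 42850 3230 = true := by decide +kernel
theorem h0 : ∀ i, i < T.N → Tab.relActOK T D chk0 i = true := by
  intro i hi
  rw [Tab.relActOK, ← act0_eq]
  exact (range_glue (range_of_allRange c0_0) (range_glue (range_of_allRange c0_1) (range_glue (range_of_allRange c0_2) (range_glue (range_of_allRange c0_3) (range_glue (range_of_allRange c0_4) (range_glue (range_of_allRange c0_5) (range_glue (range_of_allRange c0_6) (range_glue (range_of_allRange c0_7) (range_glue (range_of_allRange c0_8) (range_glue (range_of_allRange c0_9) (range_of_allRange c0_10))))))))))) i (Nat.zero_le _) hi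

def chk1 : List Nat := [4, 4, 0, 4, 4, 4, 4, 4, 7, 5, 5, 6, 5, 5, 5, 5, 5, 1]
noncomputable def act1 (i : Nat) : Nat := col5 (col5 (col1 (col5 (col5 (col5 (col5 (col5 (col6 (col4 (col4 (col7 (col4 (col4 (col4 (col4 (col4 (col0 (i))))))))))))))))))
theorem act1_eq (i : Nat) : act1 i = Tab.act T D chk1 i := rfl
theorem c1_0 : allRange (fun i => Nat.beq (act1 i) i) 0 3000 = true := by decide +kernel
theorem c1_1 : allRange (fun i => Nat.beq (act1 i) i) 3000 3000 = true := by decide +kernel
theorem c1_2 : allRange (fun i => Nat.beq (act1 i) i) 6000 3000 = true := by decide +kernel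
theorem c1_3 : allRange (fun i => Nat.beq (act1 i) i) 9000 3000 = true := by decide +kernel
theorem c1_4 : allRange (fun i => Nat.beq (act1 i) i) 12000 3000 = true := by decide +kernel
theorem c1_5 : allRange (fun i => Nat.beq (act1 i) i) 15000 3000 = true := by decide +kernel
theorem c1_6 : allRange (fun i => Nat.beq (act1 i) i) 18000 3000 = true := by decide +kernel
theorem c1_7 : allRange (fun i => Nat.beq (act1 i) i) 21000 3000 = true := by decide +kernel
theorem c1_8 : allRange (fun i => Nat.beq (act1 i) i) 24000 3000 = true := by decide +kernel
theorem c1_9 : allRange (fun i => Nat.beq (act1 i) i) 27000 3000 = true := by decide +kernel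
theorem c1_10 : allRange (fun i => Nat.beq (act1 i) i) 30000 3000 = true := by decide +kernel
theorem c1_11 : allRange (fun i => Nat.beq (act1 i) i) 33000 3000 = true := by decide +kernel
theorem c1_12 : allRange (fun i => Nat.beq (act1 i) i) 36000 3000 = true := by decide +kernel
theorem c1_13 : allRange (fun i => Nat.beq (act1 i) i) 39000 3000 = true := by decide +kernel
theorem c1_14 : allRange (fun i => Nat.beq (act1 i) i) 42000 3000 = true := by decide +kernel
theorem c1_15 : allRange (fun i => Nat.beq (act1 i) i) 45000 1080 = true := by decide +kernel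
theorem h1 : ∀ i, i < T.N → Tab.relActOK T D chk1 i = true := by
  intro i hi
  rw [Tab.relActOK, ← act1_eq]
  exact (range_glue (range_of_allRange c1_0) (range_glue (range_of_allRange c1_1) (range_glue (range_of_allRange c1_2) (range_glue (range_of_allRange c1_3) (range_glue (range_of_allRange c1_4) (range_glue (range_of_allRange c1_5) (range_glue (range_of_allRange c1_6) (range_glue (range_of_allRange c1_7) (range_glue (range_of_allRange c1_8) (range_glue (range_of_allRange c1_9) (range_glue (range_of_allRange c1_10) (range_glue (range_of_allRange c1_11) (range_glue (range_of_allRange c1_12) (range_glue (range_of_allRange c1_13) (range_glue (range_of_allRange c1_14) (range_of_allRange c1_15)))))))))))))))) i (Nat.zero_le _) hi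

def chk2 : List Nat := [4, 4, 2, 0, 2, 0, 3, 0, 2, 5, 5, 5, 5, 5, 6, 6, 5, 5, 7, 7, 4, 4, 4, 4, 4, 3, 1, 2, 1, 3, 1, 3]
noncomputable def act2 (i : Nat) : Nat := col5 (col5 (col3 (col1 (col3 (col1 (col2 (col1 (col3 (col4 (col4 (col4 (col4 (col4 (col7 (col7 (col4 (col4 (col6 (col6 (col5 (col5 (col5 (col5 (col5 (col2 (col0 (col3 (col0 (col2 (col0 (col2 (i))))))))))))))))))))))))))))))))
theorem act2_eq (i : Nat) : act2 i = Tab.act T D chk2 i := rfl
theorem c2_0 : allRange (fun i => Nat.beq (act2 i) i) 0 1764 = true := by decide +kernel
theorem c2_1 : allRange (fun i => Nat.beq (act2 i) i) 1764 1764 = true := by decide +kernel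
theorem c2_2 : allRange (fun i => Nat.beq (act2 i) i) 3528 1764 = true := by decide +kernel
theorem c2_3 : allRange (fun i => Nat.beq (act2 i) i) 5292 1764 = true := by decide +kernel
theorem c2_4 : allRange (fun i => Nat.beq (act2 i) i) 7056 1764 = true := by decide +kernel
theorem c2_5 : allRange (fun i => Nat.beq (act2 i) i) 8820 1764 = true := by decide +kernel
theorem c2_6 : allRange (fun i => Nat.beq (act2 i) i) 10584 1764 = true := by decide +kernel
theorem c2_7 : allRange (fun i => Nat.beq (act2 i) i) 12348 1764 = true := by decide +kernel
theorem c2_8 : allRange (fun i => Nat.beq (act2 i) i) 14112 1764 = true := by decide +kernel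
theorem c2_9 : allRange (fun i => Nat.beq (act2 i) i) 15876 1764 = true := by decide +kernel
theorem c2_10 : allRange (fun i => Nat.beq (act2 i) i) 17640 1764 = true := by decide +kernel
theorem c2_11 : allRange (fun i => Nat.beq (act2 i) i) 19404 1764 = true := by decide +kernel
theorem c2_12 : allRange (fun i => Nat.beq (act2 i) i) 21168 1764 = true := by decide +kernel
theorem c2_13 : allRange (fun i => Nat.beq (act2 i) i) 22932 1764 = true := by decide +kernel
theorem c2_14 : allRange (fun i => Nat.beq (act2 i) i) 24696 1764 = true := by decide +kernel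
theorem c2_15 : allRange (fun i => Nat.beq (act2 i) i) 26460 1764 = true := by decide +kernel
theorem c2_16 : allRange (fun i => Nat.beq (act2 i) i) 28224 1764 = true := by decide +kernel
theorem c2_17 : allRange (fun i => Nat.beq (act2 i) i) 29988 1764 = true := by decide +kernel
theorem c2_18 : allRange (fun i => Nat.beq (act2 i) i) 31752 1764 = true := by decide +kernel
theorem c2_19 : allRange (fun i => Nat.beq (act2 i) i) 33516 1764 = true := by decide +kernel
theorem c2_20 : allRange (fun i => Nat.beq (act2 i) i) 35280 1764 = true := by decide +kernel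
theorem c2_21 : allRange (fun i => Nat.beq (act2 i) i) 37044 1764 = true := by decide +kernel
theorem c2_22 : allRange (fun i => Nat.beq (act2 i) i) 38808 1764 = true := by decide +kernel
theorem c2_23 : allRange (fun i => Nat.beq (act2 i) i) 40572 1764 = true := by decide +kernel
theorem c2_24 : allRange (fun i => Nat.beq (act2 i) i) 42336 1764 = true := by decide +kernel
theorem c2_25 : allRange (fun i => Nat.beq (act2 i) i) 44100 1764 = true := by decide +kernel
theorem c2_26 : allRange (fun i => Nat.beq (act2 i) i) 45864 216 = true := by decide +kernel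
theorem h2 : ∀ i, i < T.N → Tab.relActOK T D chk2 i = true := by
  intro i hi
  rw [Tab.relActOK, ← act2_eq]
  exact (range_glue (range_of_allRange c2_0) (range_glue (range_of_allRange c2_1) (range_glue (range_of_allRange c2_2) (range_glue (range_of_allRange c2_3) (range_glue (range_of_allRange c2_4) (range_glue (range_of_allRange c2_5) (range_glue (range_of_allRange c2_6) (range_glue (range_of_allRange c2_7) (range_glue (range_of_allRange c2_8) (range_glue (range_of_allRange c2_9) (range_glue (range_of_allRange c2_10) (range_glue (range_of_allRange c2_11) (range_glue (range_of_allRange c2_12) (range_glue (range_of_allRange c2_13) (range_glue (range_of_allRange c2_14) (range_glue (range_of_allRange c2_15) (range_glue (range_of_allRange c2_16) (range_glue (range_of_allRange c2_17) (range_glue (range_of_allRange c2_18) (range_glue (range_of_allRange c2_19) (range_glue (range_of_allRange c2_20) (range_glue (range_of_allRange c2_21) (range_glue (range_of_allRange c2_22) (range_glue (range_of_allRange c2_23) (range_glue (range_of_allRange c2_24) (range_glue (range_of_allRange c2_25) (range_of_allRange c2_26)))))))))))))))))))))))))))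 i (Nat.zero_le _) hi

def chk3 : List Nat := [0, 4, 4, 4, 4, 4, 7, 0, 4, 4, 4, 4, 4, 7, 0, 4, 4, 4, 4, 4, 7, 0, 4, 4, 4, 4, 4, 7]
noncomputable def act3 (i : Nat) : Nat := col1 (col5 (col5 (col5 (col5 (col5 (col6 (col1 (col5 (col5 (col5 (col5 (col5 (col6 (col1 (col5 (col5 (col5 (col5 (col5 (col6 (col1 (col5 (col5 (col5 (col5 (col5 (col6 (i))))))))))))))))))))))))))))
theorem act3_eq (i : Nat) : act3 i = Tab.act T D chk3 i := rfl
theorem c3_0 : allRange (fun i => Nat.beq (act3 i) i) 0 2000 = true := by decide +kernel
theorem c3_1 : allRange (fun i => Nat.beq (act3 i) i) 2000 2000 = true := by decide +kernel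
theorem c3_2 : allRange (fun i => Nat.beq (act3 i) i) 4000 2000 = true := by decide +kernel
theorem c3_3 : allRange (fun i => Nat.beq (act3 i) i) 6000 2000 = true := by decide +kernel
theorem c3_4 : allRange (fun i => Nat.beq (act3 i) i) 8000 2000 = true := by decide +kernel
theorem c3_5 : allRange (fun i => Nat.beq (act3 i) i) 10000 2000 = true := by decide +kernel
theorem c3_6 : allRange (fun i => Nat.beq (act3 i) i) 12000 2000 = true := by decide +kernel
theorem c3_7 : allRange (fun i => Nat.beq (act3 i) i) 14000 2000 = true := by decide +kernel
theorem c3_8 : allRange (fun i => Nat.beq (act3 i) i) 16000 2000 = true := by decide +kernel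
theorem c3_9 : allRange (fun i => Nat.beq (act3 i) i) 18000 2000 = true := by decide +kernel
theorem c3_10 : allRange (fun i => Nat.beq (act3 i) i) 20000 2000 = true := by decide +kernel
theorem c3_11 : allRange (fun i => Nat.beq (act3 i) i) 22000 2000 = true := by decide +kernel
theorem c3_12 : allRange (fun i => Nat.beq (act3 i) i) 24000 2000 = true := by decide +kernel
theorem c3_13 : allRange (fun i => Nat.beq (act3 i) i) 26000 2000 = true := by decide +kernel
theorem c3_14 : allRange (fun i => Nat.beq (act3 i) i) 28000 2000 = true := by decide +kernel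
theorem c3_15 : allRange (fun i => Nat.beq (act3 i) i) 30000 2000 = true := by decide +kernel
theorem c3_16 : allRange (fun i => Nat.beq (act3 i) i) 32000 2000 = true := by decide +kernel
theorem c3_17 : allRange (fun i => Nat.beq (act3 i) i) 34000 2000 = true := by decide +kernel
theorem c3_18 : allRange (fun i => Nat.beq (act3 i) i) 36000 2000 = true := by decide +kernel
theorem c3_19 : allRange (fun i => Nat.beq (act3 i) i) 38000 2000 = true := by decide +kernel
theorem c3_20 : allRange (fun i => Nat.beq (act3 i) i) 40000 2000 = true := by decide +kernel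
theorem c3_21 : allRange (fun i => Nat.beq (act3 i) i) 42000 2000 = true := by decide +kernel
theorem c3_22 : allRange (fun i => Nat.beq (act3 i) i) 44000 2000 = true := by decide +kernel
theorem c3_23 : allRange (fun i => Nat.beq (act3 i) i) 46000 80 = true := by decide +kernel
theorem h3 : ∀ i, i < T.N → Tab.relActOK T D chk3 i = true := by
  intro i hi
  rw [Tab.relActOK, ← act3_eq]
  exact (range_glue (range_of_allRange c3_0) (range_glue (range_of_allRange c3_1) (range_glue (range_of_allRange c3_2) (range_glue (range_of_allRange c3_3) (range_glue (range_of_allRange c3_4) (range_glue (range_of_allRange c3_5) (range_glue (range_of_allRange c3_6) (range_glue (range_of_allRange c3_7) (range_glue (range_of_allRange c3_8) (range_glue (range_of_allRange c3_9) (range_glue (range_of_allRange c3_10) (range_glue (range_of_allRange c3_11) (range_glue (range_of_allRange c3_12) (range_glue (range_of_allRange c3_13) (range_glue (range_of_allRange c3_14) (range_glue (range_of_allRange c3_15) (range_glue (range_of_allRange c3_16) (range_glue (range_of_allRange c3_17) (range_glue (range_of_allRange c3_18) (range_glue (range_of_allRange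 c3_19) (range_glue (range_of_allRange c3_20) (range_glue (range_of_allRange c3_21) (range_glue (range_of_allRange c3_22) (range_of_allRange c3_23)))))))))))))))))))))))) i (Nat.zero_le _) hi

def chk5 : List Nat := [2, 0, 2, 0, 3, 0, 2, 5, 5, 5, 5, 5, 6, 6, 2, 0, 2, 0, 3, 0, 2, 5, 5, 5, 5, 5, 6, 6, 2, 0, 2, 0, 3, 0, 2, 5, 5, 5, 5, 5, 6, 6, 2, 0, 2, 0, 3, 0, 2, 5, 5, 5, 5, 5, 6, 6, 5, 5, 5, 5, 5, 5]
noncomputable def act5 (i : Nat) : Nat := col3 (col1 (col3 (col1 (col2 (col1 (col3 (col4 (col4 (col4 (col4 (col4 (col7 (col7 (col3 (col1 (col3 (col1 (col2 (col1 (col3 (col4 (col4 (col4 (col4 (col4 (col7 (col7 (col3 (col1 (col3 (col1 (col2 (col1 (col3 (col4 (col4 (col4 (col4 (col4 (col7 (col7 (col3 (col1 (col3 (col1 (col2 (col1 (col3 (col4 (col4 (col4 (col4 (col4 (col7 (col7 (col4 (col4 (col4 (col4 (col4 (col4 (i))))))))))))))))))))))))))))))))))))))))))))))))))))))))))))))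
theorem act5_eq (i : Nat) : act5 i = Tab.act T D chk5 i := rfl
theorem c5_0 : allRange (fun i => Nat.beq (act5 i) i) 0 937 = true := by decide +kernel
theorem c5_1 : allRange (fun i => Nat.beq (act5 i) i) 937 937 = true := by decide +kernel
theorem c5_2 : allRange (fun i => Nat.beq (act5 i) i) 1874 937 = true := by decide +kernel
theorem c5_3 : allRange (fun i => Nat.beq (act5 i) i) 2811 937 = true := by decide +kernel
theorem c5_4 : allRange (fun i => Nat.beq (act5 i) i) 3748 937 = true := by decide +kernel
theorem c5_5 : allRange (fun i => Nat.beq (act5 i) i) 4685 937 = true := by decide +kernel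
theorem c5_6 : allRange (fun i => Nat.beq (act5 i) i) 5622 937 = true := by decide +kernel
theorem c5_7 : allRange (fun i => Nat.beq (act5 i) i) 6559 937 = true := by decide +kernel
theorem c5_8 : allRange (fun i => Nat.beq (act5 i) i) 7496 937 = true := by decide +kernel
theorem c5_9 : allRange (fun i => Nat.beq (act5 i) i) 8433 937 = true := by decide +kernel
theorem c5_10 : allRange (fun i => Nat.beq (act5 i) i) 9370 937 = true := by decide +kernel
theorem c5_11 : allRange (fun i => Nat.beq (act5 i) i) 10307 937 = true := by decide +kernel
theorem c5_12 : allRange (fun i => Nat.beq (act5 i) i) 11244 937 = true := by decide +kernel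
theorem c5_13 : allRange (fun i => Nat.beq (act5 i) i) 12181 937 = true := by decide +kernel
theorem c5_14 : allRange (fun i => Nat.beq (act5 i) i) 13118 937 = true := by decide +kernel
theorem c5_15 : allRange (fun i => Nat.beq (act5 i) i) 14055 937 = true := by decide +kernel
theorem c5_16 : allRange (fun i => Nat.beq (act5 i) i) 14992 937 = true := by decide +kernel
theorem c5_17 : allRange (fun i => Nat.beq (act5 i) i) 15929 937 = true := by decide +kernel
theorem c5_18 : allRange (fun i => Nat.beq (act5 i) i) 16866 937 = true := by decide +kernel
theorem c5_19 : allRange (fun i => Nat.beq (act5 i) i) 17803 937 = true := by decide +kernel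
theorem c5_20 : allRange (fun i => Nat.beq (act5 i) i) 18740 937 = true := by decide +kernel
theorem c5_21 : allRange (fun i => Nat.beq (act5 i) i) 19677 937 = true := by decide +kernel
theorem c5_22 : allRange (fun i => Nat.beq (act5 i) i) 20614 937 = true := by decide +kernel
theorem c5_23 : allRange (fun i => Nat.beq (act5 i) i) 21551 937 = true := by decide +kernel
theorem c5_24 : allRange (fun i => Nat.beq (act5 i) i) 22488 937 = true := by decide +kernel
theorem c5_25 : allRange (fun i => Nat.beq (act5 i) i) 23425 937 = true := by decide +kernel
theorem c5_26 : allRange (fun i => Nat.beq (act5 i) i) 24362 937 = true := by decide +kernel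
theorem c5_27 : allRange (fun i => Nat.beq (act5 i) i) 25299 937 = true := by decide +kernel
theorem c5_28 : allRange (fun i => Nat.beq (act5 i) i) 26236 937 = true := by decide +kernel
theorem c5_29 : allRange (fun i => Nat.beq (act5 i) i) 27173 937 = true := by decide +kernel
theorem c5_30 : allRange (fun i => Nat.beq (act5 i) i) 28110 937 = true := by decide +kernel
theorem c5_31 : allRange (fun i => Nat.beq (act5 i) i) 29047 937 = true := by decide +kernel
theorem c5_32 : allRange (fun i => Nat.beq (act5 i) i) 29984 937 = true := by decide +kernel
theorem c5_33 : allRange (fun i => Nat.beq (act5 i) i) 30921 937 = true := by decide +kernel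
theorem c5_34 : allRange (fun i => Nat.beq (act5 i) i) 31858 937 = true := by decide +kernel
theorem c5_35 : allRange (fun i => Nat.beq (act5 i) i) 32795 937 = true := by decide +kernel
theorem c5_36 : allRange (fun i => Nat.beq (act5 i) i) 33732 937 = true := by decide +kernel
theorem c5_37 : allRange (fun i => Nat.beq (act5 i) i) 34669 937 = true := by decide +kernel
theorem c5_38 : allRange (fun i => Nat.beq (act5 i) i) 35606 937 = true := by decide +kernel
theorem c5_39 : allRange (fun i => Nat.beq (act5 i) i) 36543 937 = true := by decide +kernel
theorem c5_40 : allRange (fun i => Nat.beq (act5 i) i) 37480 937 = true := by decide +kernel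
theorem c5_41 : allRange (fun i => Nat.beq (act5 i) i) 38417 937 = true := by decide +kernel
theorem c5_42 : allRange (fun i => Nat.beq (act5 i) i) 39354 937 = true := by decide +kernel
theorem c5_43 : allRange (fun i => Nat.beq (act5 i) i) 40291 937 = true := by decide +kernel
theorem c5_44 : allRange (fun i => Nat.beq (act5 i) i) 41228 937 = true := by decide +kernel
theorem c5_45 : allRange (fun i => Nat.beq (act5 i) i) 42165 937 = true := by decide +kernel
theorem c5_46 : allRange (fun i => Nat.beq (act5 i) i) 43102 937 = true := by decide +kernel
theorem c5_47 : allRange (fun i => Nat.beq (act5 i) i) 44039 937 = true := by decide +kernel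
theorem c5_48 : allRange (fun i => Nat.beq (act5 i) i) 44976 937 = true := by decide +kernel
theorem c5_49 : allRange (fun i => Nat.beq (act5 i) i) 45913 167 = true := by decide +kernel
theorem h5 : ∀ i, i < T.N → Tab.relActOK T D chk5 i = true := by
  intro i hi
  rw [Tab.relActOK, ← act5_eq]
  exact (range_glue (range_of_allRange c5_0) (range_glue (range_of_allRange c5_1) (range_glue (range_of_allRange c5_2) (range_glue (range_of_allRange c5_3) (range_glue (range_of_allRange c5_4) (range_glue (range_of_allRange c5_5) (range_glue (range_of_allRange c5_6) (range_glue (range_of_allRange c5_7) (range_glue (range_of_allRange c5_8) (range_glue (range_of_allRange c5_9) (range_glue (range_of_allRange c5_10) (range_glue (range_of_allRange c5_11) (range_glue (range_of_allRange c5_12) (range_glue (range_of_allRange c5_13) (range_glue (range_of_allRange c5_14) (range_glue (range_of_allRange c5_15) (range_glue (range_of_allRange c5_16) (range_glue (range_of_allRange c5_17) (range_glue (range_of_allRange c5_18) (range_glue (range_of_allRange c5_19) (range_glue (range_of_allRange c5_20) (range_glue (range_of_allRange c5_21)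 (range_glue (range_of_allRange c5_22) (range_glue (range_of_allRange c5_23) (range_glue (range_of_allRange c5_24) (range_glue (range_of_allRange c5_25) (range_glue (range_of_allRange c5_26) (range_glue (range_of_allRange c5_27) (range_glue (range_of_allRange c5_28) (range_glue (range_of_allRange c5_29) (range_glue (range_of_allRange c5_30) (range_glue (range_of_allRange c5_31) (range_glue (range_of_allRange c5_32) (range_glue (range_of_allRange c5_33) (range_glue (range_of_allRange c5_34) (range_glue (range_of_allRange c5_35) (range_glue (range_of_allRange c5_36) (range_glue (range_of_allRange c5_37) (range_glue (range_of_allRange c5_38) (range_glue (range_of_allRange c5_39) (range_glue (range_of_allRange c5_40) (range_glue (range_of_allRange c5_41) (range_glue (range_of_allRange c5_42) (range_glue (range_of_allRange c5_43) (range_glue (range_of_allRange c5_44) (range_glue (range_of_allRange c5_45) (range_glue (range_of_allRange c5_46) (range_glue (range_of_allRange c5_47) (range_glue (range_of_allRange c5_48) (range_of_allRange c5_49)))))))))))))))))))))))))))))))))))))))))))))))))) i (Nat.zero_le _) hi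

def chk11 : List Nat := [7, 7, 4, 4, 4, 4, 4, 3, 1, 2, 1, 3, 1, 3, 2, 0, 2, 0, 3, 0, 2, 5, 5, 5, 5, 5, 6, 6]
noncomputable def act11 (i : Nat) : Nat := col6 (col6 (col5 (col5 (col5 (col5 (col5 (col2 (col0 (col3 (col0 (col2 (col0 (col2 (col3 (col1 (col3 (col1 (col2 (col1 (col3 (col4 (col4 (col4 (col4 (col4 (col7 (col7 (i))))))))))))))))))))))))))))
theorem act11_eq (i : Nat) : act11 i = Tab.act T D chk11 i := rfl
theorem c11_0 : allRange (fun i => Nat.beq (act11 i) i) 0 2000 = true := by decide +kernel
theorem c11_1 : allRange (fun i => Nat.beq (act11 i) i) 2000 2000 = true := by decide +kernel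
theorem c11_2 : allRange (fun i => Nat.beq (act11 i) i) 4000 2000 = true := by decide +kernel
theorem c11_3 : allRange (fun i => Nat.beq (act11 i) i) 6000 2000 = true := by decide +kernel
theorem c11_4 : allRange (fun i => Nat.beq (act11 i) i) 8000 2000 = true := by decide +kernel
theorem c11_5 : allRange (fun i => Nat.beq (act11 i) i) 10000 2000 = true := by decide +kernel
theorem c11_6 : allRange (fun i => Nat.beq (act11 i) i) 12000 2000 = true := by decide +kernel
theorem c11_7 : allRange (fun i => Nat.beq (act11 i) i) 14000 2000 = true := by decide +kernel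
theorem c11_8 : allRange (fun i => Nat.beq (act11 i) i) 16000 2000 = true := by decide +kernel
theorem c11_9 : allRange (fun i => Nat.beq (act11 i) i) 18000 2000 = true := by decide +kernel
theorem c11_10 : allRange (fun i => Nat.beq (act11 i) i) 20000 2000 = true := by decide +kernel
theorem c11_11 : allRange (fun i => Nat.beq (act11 i) i) 22000 2000 = true := by decide +kernel
theorem c11_12 : allRange (fun i => Nat.beq (act11 i) i) 24000 2000 = true := by decide +kernel
theorem c11_13 : allRange (fun i => Nat.beq (act11 i) i) 26000 2000 = true := by decide +kernel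
theorem c11_14 : allRange (fun i => Nat.beq (act11 i) i) 28000 2000 = true := by decide +kernel
theorem c11_15 : allRange (fun i => Nat.beq (act11 i) i) 30000 2000 = true := by decide +kernel
theorem c11_16 : allRange (fun i => Nat.beq (act11 i) i) 32000 2000 = true := by decide +kernel
theorem c11_17 : allRange (fun i => Nat.beq (act11 i) i) 34000 2000 = true := by decide +kernel
theorem c11_18 : allRange (fun i => Nat.beq (act11 i) i) 36000 2000 = true := by decide +kernel
theorem c11_19 : allRange (fun i => Nat.beq (act11 i) i) 38000 2000 = true := by decide +kernel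
theorem c11_20 : allRange (fun i => Nat.beq (act11 i) i) 40000 2000 = true := by decide +kernel
theorem c11_21 : allRange (fun i => Nat.beq (act11 i) i) 42000 2000 = true := by decide +kernel
theorem c11_22 : allRange (fun i => Nat.beq (act11 i) i) 44000 2000 = true := by decide +kernel
theorem c11_23 : allRange (fun i => Nat.beq (act11 i) i) 46000 80 = true := by decide +kernel
theorem h11 : ∀ i, i < T.N → Tab.relActOK T D chk11 i = true := by
  intro i hi
  rw [Tab.relActOK, ← act11_eq]
  exact (range_glue (range_of_allRange c11_0) (range_glue (range_of_allRange c11_1) (range_glue (range_of_allRange c11_2) (range_glue (range_of_allRange c11_3) (range_glue (range_of_allRange c11_4) (range_glue (range_of_allRange c11_5) (range_glue (range_of_allRange c11_6) (range_glue (range_of_allRange c11_7) (range_glue (range_of_allRange c11_8) (range_glue (range_of_allRange c11_9) (range_glue (range_of_allRange c11_10) (range_glue (range_of_allRange c11_11) (range_glue (range_of_allRange c11_12) (range_glue (range_of_allRange c11_13) (range_glue (range_of_allRange c11_14) (range_glue (range_of_allRange c11_15) (range_glue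 (range_of_allRange c11_16) (range_glue (range_of_allRange c11_17) (range_glue (range_of_allRange c11_18) (range_glue (range_of_allRange c11_19) (range_glue (range_of_allRange c11_20) (range_glue (range_of_allRange c11_21) (range_glue (range_of_allRange c11_22) (range_of_allRange c11_23)))))))))))))))))))))))) i (Nat.zero_le _) hi

end Cfsg.Agent.Lib.Helper4.TCD.C48L34S
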