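import Cfsg.Agent.Lib.Helper4.TCD_C48L34S_P0
import Cfsg.Agent.Lib.Helper4.TCD_C48L34S_P1
import Cfsg.Agent.Lib.Helper4.TCD_C48L34S_P2

namespace Cfsg.Agent.Lib.Helper4.TCD.C48L34S

open Cfsg.Agent.Lib.Helper4.TC Cfsg.Agent.Lib.Helper4.TCD.C48L34R

set_option maxRecDepth 100000
set_option Elab.async false

def chkAll : List (List Nat) := [chk0, chk1, chk2, chk3, chk4, chk5, chk6, chk7, chk8, chk9, chk10, chk11, chk12, chk13]
theorem hAll : ∀ w ∈ chkAll, ∀ i, i < T.N → Tab.relActOK T D w i = true := by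
  intro w hw
  simp only [chkAll, List.mem_cons, List.not_mem_nil, or_false] at hw
  rcases hw with rfl | rfl | rfl | rfl | rfl | rfl | rfl | rfl | rfl | rfl | rfl | rfl | rfl | rfl
  · exact h0
  · exact h1
  · exact h2
  · exact h3
  · exact h4
  · exact h5
  · exact h6
  · exact h7
  · exact h8
  · exact h9
  · exact h10
  · exact h11
  · exact h12
  · exact h13
theorem hAll_lt : ∀ w ∈ chkAll, ∀ x ∈ w, x < 8 := by decide +kernel

end Cfsg.Agent.Lib.Helper4.TCD.C48L34S
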