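import Mathlib
import Cfsg.Agent.Lib.Helper4.C48L34Main
import Cfsg.Agent.Lib.Helper4.TCD_C48L34B_Fin
import Cfsg.Agent.Lib.Helper4.TCD_C48L34S
import Cfsg.Agent.Lib.Helper4.C6A6Stem
import Cfsg.Agent.Lib.Helper4.TC19
import Cfsg.Agent.Lib.Helper4.StemLib6

/-! The presented group `C48L34` contains the presented six-fold cover `C6A6` of the alternating group of degree 6
as a subgroup of index 448, and stem extensions with kernel of prime order split over it. -/

set_option autoImplicit false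

namespace Cfsg.Agent.Lib.Helper4.C48L34Sub

open Cfsg.Agent.Lib.Helper4.TC Cfsg.Agent.Lib.Helper4.TCD Cfsg.Agent.Lib.Helper4.TC.Log Cfsg.Agent.Lib.Helper4.Stem

/-- the letters of `C6A6` as words of `C48L34` -/
def Wf (l : ℕ) : List ℕ := [[0, 4, 4, 4, 4, 4, 7], [6, 5, 5, 5, 5, 5, 1], [2, 0, 2, 0, 3, 0, 2, 5, 5, 5, 5, 5, 6, 6], [7, 7, 4, 4, 4, 4, 4, 3, 1, 2, 1, 3, 1, 3], [4, 4], [5, 5]].getD l []

theorem checks_eq : PC6A6.P.real.map (fun L => L.flatMap Wf) ++
    (List.range 6).map (fun l => Wf l ++ Wf (PC6A6.P.invR l)) = C48L34S.chkAll := by decide +kernel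

theorem word_one (w : List ℕ) (hw : w ∈ C48L34S.chkAll) : wordP PC48L34.P.gR w = 1 := by
  obtain ⟨fG, hinj, hcard⟩ := C48L34Main.order_aux
  exact C48L34R.prep.word_eq_one hinj w (C48L34S.hAll_lt w hw) (C48L34S.hAll w hw)

theorem emb : WordEmb PC6A6.P PC48L34.P.gR Wf where
  hP := PC6A6.valid
  hinv := by
    intro l hl
    have hl : l < 6 := hl
    apply word_one
    rw [← checks_eq]
    apply List.mem_append_right
    exact List.mem_map.2 ⟨l, List.mem_range.2 hl, rfl⟩
  hrel := by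
    intro L hL
    apply word_one
    rw [← checks_eq]
    apply List.mem_append_left
    exact List.mem_map.2 ⟨L, hL, rfl⟩

/-- the homomorphism from `C6A6` -/
noncomputable def f : PC6A6.P.Grp →* PC48L34.P.Grp := emb.hom

theorem f_gR (l : ℕ) (hl : l < 6) : f (PC6A6.P.gR l) = wordP PC48L34.P.gR (Wf l) := emb.hom_gR l hl

theorem range_eq : f.range = Inst.subG PC48L34.P C48L34B.subs := by
  have i1 : PC6A6.P.gR 1 = (PC6A6.P.gR 0)⁻¹ := (PC6A6.valid.invR_sound 0 (by decide)).2
  have i3 : PC6A6.P.gR 3 = (PC6A6.P.gR 2)⁻¹ := (PC6A6.valid.invR_sound 2 (by decide)).2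
  have i5 : PC6A6.P.gR 5 = (PC6A6.P.gR 4)⁻¹ := (PC6A6.valid.invR_sound 4 (by decide)).2
  have m0 : f (PC6A6.P.gR 0) ∈ Inst.subG PC48L34.P C48L34B.subs := by
    rw [f_gR 0 (by decide)]
    exact Subgroup.subset_closure ⟨Wf 0, by decide, rfl⟩
  have m2 : f (PC6A6.P.gR 2) ∈ Inst.subG PC48L34.P C48L34B.subs := by
    rw [f_gR 2 (by decide)]
    exact Subgroup.subset_closure ⟨Wf 2, by decide, rfl⟩
  have m4 : f (PC6A6.P.gR 4) ∈ Inst.subG PC48L34.P C48L34B.subs := by
    rw [f_gR 4 (by decide)]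
    exact Subgroup.subset_closure ⟨Wf 4, by decide, rfl⟩
  rw [MonoidHom.range_eq_map, ← PC6A6.valid.gen_top, MonoidHom.map_closure]
  apply le_antisymm
  · rw [Subgroup.closure_le]
    rintro _ ⟨_, ⟨l, hl, rfl⟩, rfl⟩
    have hl : l < 6 := hl
    rw [SetLike.mem_coe]
    interval_cases l
    · exact m0
    · rw [i1, map_inv]; exact inv_mem m0
    · exact m2
    · rw [i3, map_inv]; exact inv_mem m2
    · exact m4
    · rw [i5, map_inv]; exact inv_mem m4
  · unfold Inst.subG
    rw [Subgroup.closure_le]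
    rintro _ ⟨u, hu, rfl⟩
    have hu' : u = Wf 0 ∨ u = Wf 2 ∨ u = Wf 4 := by
      have : C48L34B.subs = [Wf 0, Wf 2, Wf 4] := by decide
      rw [this] at hu
      simpa using hu
    rcases hu' with rfl | rfl | rfl
    · exact Subgroup.subset_closure ⟨PC6A6.P.gR 0, ⟨0, by decide, rfl⟩, f_gR 0 (by decide)⟩
    · exact Subgroup.subset_closure ⟨PC6A6.P.gR 2, ⟨2, by decide, rfl⟩, f_gR 2 (by decide)⟩
    · exact Subgroup.subset_closure ⟨PC6A6.P.gR 4, ⟨4, by decide, rfl⟩, f_gR 4 (by decide)⟩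

/-- the subgroup is an image of `C6A6` -/
theorem sub_card : Finite (Inst.subG PC48L34.P C48L34B.subs) ∧
    Nat.card (Inst.subG PC48L34.P C48L34B.subs) ≤ 2160 := by
  obtain ⟨fK, _, cK⟩ := C6A6Main.order_aux
  rw [← range_eq]
  have := fK
  refine ⟨Finite.of_surjective f.rangeRestrict f.rangeRestrict_surjective, ?_⟩
  rw [← cK]
  exact Nat.card_le_card_of_surjective f.rangeRestrict f.rangeRestrict_surjective

/-- the subgroup has order 2160 -/
theorem sub_card_eq : Nat.card (Inst.subG PC48L34.P C48L34B.subs) = 2160 := by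
  obtain ⟨fG, _, hcard⟩ := C48L34Main.order_aux
  have h := Subgroup.card_mul_index (Inst.subG PC48L34.P C48L34B.subs)
  rw [C48L34B.index_eq, hcard] at h
  have e : (967680 : ℕ) = 2160 * 448 := by norm_num
  rw [e] at h
  exact Nat.eq_of_mul_eq_mul_right (by norm_num) h

/-- `C6A6` embeds -/
theorem hom_injective : Function.Injective f := by
  obtain ⟨fK, _, cK⟩ := C6A6Main.order_aux
  have := fK
  have hs : Function.Surjective f.rangeRestrict := f.rangeRestrict_surjective
  have hc : Nat.card PC6A6.P.Grp ≤ Nat.card f.range := by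
    rw [range_eq, sub_card_eq, cK]
  have hb : Function.Bijective f.rangeRestrict := hs.bijective_of_nat_card_le hc
  intro x y hxy
  apply hb.1
  apply Subtype.ext
  exact hxy

/-- stem extensions split over the subgroup -/
theorem liftsP_sub (p : ℕ) (hp : p.Prime) :
    LiftsP PC48L34.P.Grp (Inst.subG PC48L34.P C48L34B.subs) p :=
  liftsP_of_injective f hom_injective _ range_eq p hp C6A6Cover.perfect (C6A6Stem.noStem p hp)

end Cfsg.Agent.Lib.Helper4.C48L34Sub
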