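import Cfsg.Agent.Lib.Helper4.TCD_C48L34R_Acc
import Cfsg.Agent.Lib.Helper4.TC13

namespace Cfsg.Agent.Lib.Helper4.TCD.SC48L34p2W

open Cfsg.Agent.Lib.Helper4.TC Cfsg.Agent.Lib.Helper4.TCD.C48L34R

set_option maxRecDepth 100000
set_option Elab.async false

def chk4 : List Nat := [0, 2, 2, 0, 2, 2, 0, 2, 2, 0, 2, 2, 0, 2, 2]
noncomputable def act4 (i : Nat) : Nat := col1 (col3 (col3 (col1 (col3 (col3 (col1 (col3 (col3 (col1 (col3 (col3 (col1 (col3 (col3 (i)))))))))))))))
theorem act4_eq (i : Nat) : act4 i = Tab.act T D chk4 i := rfl
theorem c4_0 : allRange (fun i => Nat.beq (act4 i) i) 0 3529 = true := by decide +kernel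
theorem c4_1 : allRange (fun i => Nat.beq (act4 i) i) 3529 3529 = true := by decide +kernel
theorem c4_2 : allRange (fun i => Nat.beq (act4 i) i) 7058 3529 = true := by decide +kernel
theorem c4_3 : allRange (fun i => Nat.beq (act4 i) i) 10587 3529 = true := by decide +kernel
theorem c4_4 : allRange (fun i => Nat.beq (act4 i) i) 14116 3529 = true := by decide +kernel
theorem c4_5 : allRange (fun i => Nat.beq (act4 i) i) 17645 3529 = true := by decide +kernel
theorem c4_6 : allRange (fun i => Nat.beq (act4 i) i) 21174 3529 = true := by decide +kernel
theorem c4_7 : allRange (fun i => Nat.beq (act4 i) i) 24703 3529 = true := by decide +kernel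
theorem c4_8 : allRange (fun i => Nat.beq (act4 i) i) 28232 3529 = true := by decide +kernel
theorem c4_9 : allRange (fun i => Nat.beq (act4 i) i) 31761 3529 = true := by decide +kernel
theorem c4_10 : allRange (fun i => Nat.beq (act4 i) i) 35290 3529 = true := by decide +kernel
theorem c4_11 : allRange (fun i => Nat.beq (act4 i) i) 38819 3529 = true := by decide +kernel
theorem c4_12 : allRange (fun i => Nat.beq (act4 i) i) 42348 3529 = true := by decide +kernel
theorem c4_13 : allRange (fun i => Nat.beq (act4 i) i) 45877 203 = true := by decide +kernel
theorem h4 : ∀ i, i < T.N → Tab.relActOK T D chk4 i = true := by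
  intro i hi
  rw [Tab.relActOK, ← act4_eq]
  exact (range_glue (range_of_allRange c4_0) (range_glue (range_of_allRange c4_1) (range_glue (range_of_allRange c4_2) (range_glue (range_of_allRange c4_3) (range_glue (range_of_allRange c4_4) (range_glue (range_of_allRange c4_5) (range_glue (range_of_allRange c4_6) (range_glue (range_of_allRange c4_7) (range_glue (range_of_allRange c4_8) (range_glue (range_of_allRange c4_9) (range_glue (range_of_allRange c4_10) (range_glue (range_of_allRange c4_11) (range_glue (range_of_allRange c4_12) (range_of_allRange c4_13)))))))))))))) i (Nat.zero_le _) hi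

def chk5 : List Nat := [3, 1, 0, 2, 2, 3]
noncomputable def act5 (i : Nat) : Nat := col2 (col0 (col1 (col3 (col3 (col2 (i))))))
theorem act5_eq (i : Nat) : act5 i = Tab.act T D chk5 i := rfl
theorem c5_0 : allRange (fun i => Nat.beq (act5 i) i) 0 7500 = true := by decide +kernel
theorem c5_1 : allRange (fun i => Nat.beq (act5 i) i) 7500 7500 = true := by decide +kernel
theorem c5_2 : allRange (fun i => Nat.beq (act5 i) i) 15000 7500 = true := by decide +kernel
theorem c5_3 : allRange (fun i => Nat.beq (act5 i) i) 22500 7500 = true := by decide +kernel
theorem c5_4 : allRange (fun i => Nat.beq (act5 i) i) 30000 7500 = true := by decide +kernel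
theorem c5_5 : allRange (fun i => Nat.beq (act5 i) i) 37500 7500 = true := by decide +kernel
theorem c5_6 : allRange (fun i => Nat.beq (act5 i) i) 45000 1080 = true := by decide +kernel
theorem h5 : ∀ i, i < T.N → Tab.relActOK T D chk5 i = true := by
  intro i hi
  rw [Tab.relActOK, ← act5_eq]
  exact (range_glue (range_of_allRange c5_0) (range_glue (range_of_allRange c5_1) (range_glue (range_of_allRange c5_2) (range_glue (range_of_allRange c5_3) (range_glue (range_of_allRange c5_4) (range_glue (range_of_allRange c5_5) (range_of_allRange c5_6))))))) i (Nat.zero_le _) hi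

def chk10 : List Nat := [7, 7, 4, 4, 4, 4, 4, 3, 1, 2, 1, 3, 1, 3, 2, 0, 2, 0, 3, 0, 2, 5, 5, 5, 5, 5, 6, 6]
noncomputable def act10 (i : Nat) : Nat := col6 (col6 (col5 (col5 (col5 (col5 (col5 (col2 (col0 (col3 (col0 (col2 (col0 (col2 (col3 (col1 (col3 (col1 (col2 (col1 (col3 (col4 (col4 (col4 (col4 (col4 (col7 (col7 (i))))))))))))))))))))))))))))
theorem act10_eq (i : Nat) : act10 i = Tab.act T D chk10 i := rfl
theorem c10_0 : allRange (fun i => Nat.beq (act10 i) i) 0 2000 = true := by decide +kernel
theorem c10_1 : allRange (fun i => Nat.beq (act10 i) i) 2000 2000 = true := by decide +kernel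
theorem c10_2 : allRange (fun i => Nat.beq (act10 i) i) 4000 2000 = true := by decide +kernel
theorem c10_3 : allRange (fun i => Nat.beq (act10 i) i) 6000 2000 = true := by decide +kernel
theorem c10_4 : allRange (fun i => Nat.beq (act10 i) i) 8000 2000 = true := by decide +kernel
theorem c10_5 : allRange (fun i => Nat.beq (act10 i) i) 10000 2000 = true := by decide +kernel
theorem c10_6 : allRange (fun i => Nat.beq (act10 i) i) 12000 2000 = true := by decide +kernel
theorem c10_7 : allRange (fun i => Nat.beq (act10 i) i) 14000 2000 = true := by decide +kernel
theorem c10_8 : allRange (fun i => Nat.beq (act10 i) i) 16000 2000 = true := by decide +kernel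
theorem c10_9 : allRange (fun i => Nat.beq (act10 i) i) 18000 2000 = true := by decide +kernel
theorem c10_10 : allRange (fun i => Nat.beq (act10 i) i) 20000 2000 = true := by decide +kernel
theorem c10_11 : allRange (fun i => Nat.beq (act10 i) i) 22000 2000 = true := by decide +kernel
theorem c10_12 : allRange (fun i => Nat.beq (act10 i) i) 24000 2000 = true := by decide +kernel
theorem c10_13 : allRange (fun i => Nat.beq (act10 i) i) 26000 2000 = true := by decide +kernel
theorem c10_14 : allRange (fun i => Nat.beq (act10 i) i) 28000 2000 = true := by decide +kernel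
theorem c10_15 : allRange (fun i => Nat.beq (act10 i) i) 30000 2000 = true := by decide +kernel
theorem c10_16 : allRange (fun i => Nat.beq (act10 i) i) 32000 2000 = true := by decide +kernel
theorem c10_17 : allRange (fun i => Nat.beq (act10 i) i) 34000 2000 = true := by decide +kernel
theorem c10_18 : allRange (fun i => Nat.beq (act10 i) i) 36000 2000 = true := by decide +kernel
theorem c10_19 : allRange (fun i => Nat.beq (act10 i) i) 38000 2000 = true := by decide +kernel
theorem c10_20 : allRange (fun i => Nat.beq (act10 i) i) 40000 2000 = true := by decide +kernel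
theorem c10_21 : allRange (fun i => Nat.beq (act10 i) i) 42000 2000 = true := by decide +kernel
theorem c10_22 : allRange (fun i => Nat.beq (act10 i) i) 44000 2000 = true := by decide +kernel
theorem c10_23 : allRange (fun i => Nat.beq (act10 i) i) 46000 80 = true := by decide +kernel
theorem h10 : ∀ i, i < T.N → Tab.relActOK T D chk10 i = true := by
  intro i hi
  rw [Tab.relActOK, ← act10_eq]
  exact (range_glue (range_of_allRange c10_0) (range_glue (range_of_allRange c10_1) (range_glue (range_of_allRange c10_2) (range_glue (range_of_allRange c10_3) (range_glue (range_of_allRange c10_4) (range_glue (range_of_allRange c10_5) (range_glue (range_of_allRange c10_6) (range_glue (range_of_allRange c10_7) (range_glue (range_of_allRange c10_8) (range_glue (range_of_allRange c10_9) (range_glue (range_of_allRange c10_10) (range_glue (range_of_allRange c10_11) (range_glue (range_of_allRange c10_12) (range_glue (range_of_allRange c10_13) (range_glue (range_of_allRange c10_14) (range_glue (range_of_allRange c10_15) (range_glue (range_of_allRange c10_16) (range_glue (range_of_allRange c10_17) (range_glue (range_of_allRange c10_18)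 (range_glue (range_of_allRange c10_19) (range_glue (range_of_allRange c10_20) (range_glue (range_of_allRange c10_21) (range_glue (range_of_allRange c10_22) (range_of_allRange c10_23)))))))))))))))))))))))) i (Nat.zero_le _) hi

def chk14 : List Nat := [4, 4, 4, 4, 4, 4, 4, 4, 4, 4, 4, 4]
noncomputable def act14 (i : Nat) : Nat := col5 (col5 (col5 (col5 (col5 (col5 (col5 (col5 (col5 (col5 (col5 (col5 (i))))))))))))
theorem act14_eq (i : Nat) : act14 i = Tab.act T D chk14 i := rfl
theorem c14_0 : allRange (fun i => Nat.beq (act14 i) i) 0 4285 = true := by decide +kernel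
theorem c14_1 : allRange (fun i => Nat.beq (act14 i) i) 4285 4285 = true := by decide +kernel
theorem c14_2 : allRange (fun i => Nat.beq (act14 i) i) 8570 4285 = true := by decide +kernel
theorem c14_3 : allRange (fun i => Nat.beq (act14 i) i) 12855 4285 = true := by decide +kernel
theorem c14_4 : allRange (fun i => Nat.beq (act14 i) i) 17140 4285 = true := by decide +kernel
theorem c14_5 : allRange (fun i => Nat.beq (act14 i) i) 21425 4285 = true := by decide +kernel
theorem c14_6 : allRange (fun i => Nat.beq (act14 i) i) 25710 4285 = true := by decide +kernel
theorem c14_7 : allRange (fun i => Nat.beq (act14 i) i) 29995 4285 = true := by decide +kernel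
theorem c14_8 : allRange (fun i => Nat.beq (act14 i) i) 34280 4285 = true := by decide +kernel
theorem c14_9 : allRange (fun i => Nat.beq (act14 i) i) 38565 4285 = true := by decide +kernel
theorem c14_10 : allRange (fun i => Nat.beq (act14 i) i) 42850 3230 = true := by decide +kernel
theorem h14 : ∀ i, i < T.N → Tab.relActOK T D chk14 i = true := by
  intro i hi
  rw [Tab.relActOK, ← act14_eq]
  exact (range_glue (range_of_allRange c14_0) (range_glue (range_of_allRange c14_1) (range_glue (range_of_allRange c14_2) (range_glue (range_of_allRange c14_3) (range_glue (range_of_allRange c14_4) (range_glue (range_of_allRange c14_5) (range_glue (range_of_allRange c14_6) (range_glue (range_of_allRange c14_7) (range_glue (range_of_allRange c14_8) (range_glue (range_of_allRange c14_9) (range_of_allRange c14_10))))))))))) i (Nat.zero_le _) hi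

def chk16 : List Nat := [5, 1, 4, 0]
noncomputable def act16 (i : Nat) : Nat := col4 (col0 (col5 (col1 (i))))
theorem act16_eq (i : Nat) : act16 i = Tab.act T D chk16 i := rfl
theorem c16_0 : allRange (fun i => Nat.beq (act16 i) i) 0 10000 = true := by decide +kernel
theorem c16_1 : allRange (fun i => Nat.beq (act16 i) i) 10000 10000 = true := by decide +kernel
theorem c16_2 : allRange (fun i => Nat.beq (act16 i) i) 20000 10000 = true := by decide +kernel
theorem c16_3 : allRange (fun i => Nat.beq (act16 i) i) 30000 10000 = true := by decide +kernel
theorem c16_4 : allRange (fun i => Nat.beq (act16 i) i) 40000 6080 = true := by decide +kernel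
theorem h16 : ∀ i, i < T.N → Tab.relActOK T D chk16 i = true := by
  intro i hi
  rw [Tab.relActOK, ← act16_eq]
  exact (range_glue (range_of_allRange c16_0) (range_glue (range_of_allRange c16_1) (range_glue (range_of_allRange c16_2) (range_glue (range_of_allRange c16_3) (range_of_allRange c16_4))))) i (Nat.zero_le _) hi

def chk23 : List Nat := [4, 4, 2, 0, 2, 0, 3, 0, 2, 5, 5, 5, 5, 5, 6, 6, 5, 5, 7, 7, 4, 4, 4, 4, 4, 3, 1, 2, 1, 3, 1, 3]
noncomputable def act23 (i : Nat) : Nat := col5 (col5 (col3 (col1 (col3 (col1 (col2 (col1 (col3 (col4 (col4 (col4 (col4 (col4 (col7 (col7 (col4 (col4 (col6 (col6 (col5 (col5 (col5 (col5 (col5 (col2 (col0 (col3 (col0 (col2 (col0 (col2 (i))))))))))))))))))))))))))))))))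
theorem act23_eq (i : Nat) : act23 i = Tab.act T D chk23 i := rfl
theorem c23_0 : allRange (fun i => Nat.beq (act23 i) i) 0 1764 = true := by decide +kernel
theorem c23_1 : allRange (fun i => Nat.beq (act23 i) i) 1764 1764 = true := by decide +kernel
theorem c23_2 : allRange (fun i => Nat.beq (act23 i) i) 3528 1764 = true := by decide +kernel
theorem c23_3 : allRange (fun i => Nat.beq (act23 i) i) 5292 1764 = true := by decide +kernel
theorem c23_4 : allRange (fun i => Nat.beq (act23 i) i) 7056 1764 = true := by decide +kernel
theorem c23_5 : allRange (fun i => Nat.beq (act23 i) i) 8820 1764 = true := by decide +kernel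
theorem c23_6 : allRange (fun i => Nat.beq (act23 i) i) 10584 1764 = true := by decide +kernel
theorem c23_7 : allRange (fun i => Nat.beq (act23 i) i) 12348 1764 = true := by decide +kernel
theorem c23_8 : allRange (fun i => Nat.beq (act23 i) i) 14112 1764 = true := by decide +kernel
theorem c23_9 : allRange (fun i => Nat.beq (act23 i) i) 15876 1764 = true := by decide +kernel
theorem c23_10 : allRange (fun i => Nat.beq (act23 i) i) 17640 1764 = true := by decide +kernel
theorem c23_11 : allRange (fun i => Nat.beq (act23 i) i) 19404 1764 = true := by decide +kernel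
theorem c23_12 : allRange (fun i => Nat.beq (act23 i) i) 21168 1764 = true := by decide +kernel
theorem c23_13 : allRange (fun i => Nat.beq (act23 i) i) 22932 1764 = true := by decide +kernel
theorem c23_14 : allRange (fun i => Nat.beq (act23 i) i) 24696 1764 = true := by decide +kernel
theorem c23_15 : allRange (fun i => Nat.beq (act23 i) i) 26460 1764 = true := by decide +kernel
theorem c23_16 : allRange (fun i => Nat.beq (act23 i) i) 28224 1764 = true := by decide +kernel
theorem c23_17 : allRange (fun i => Nat.beq (act23 i) i) 29988 1764 = true := by decide +kernel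
theorem c23_18 : allRange (fun i => Nat.beq (act23 i) i) 31752 1764 = true := by decide +kernel
theorem c23_19 : allRange (fun i => Nat.beq (act23 i) i) 33516 1764 = true := by decide +kernel
theorem c23_20 : allRange (fun i => Nat.beq (act23 i) i) 35280 1764 = true := by decide +kernel
theorem c23_21 : allRange (fun i => Nat.beq (act23 i) i) 37044 1764 = true := by decide +kernel
theorem c23_22 : allRange (fun i => Nat.beq (act23 i) i) 38808 1764 = true := by decide +kernel
theorem c23_23 : allRange (fun i => Nat.beq (act23 i) i) 40572 1764 = true := by decide +kernel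
theorem c23_24 : allRange (fun i => Nat.beq (act23 i) i) 42336 1764 = true := by decide +kernel
theorem c23_25 : allRange (fun i => Nat.beq (act23 i) i) 44100 1764 = true := by decide +kernel
theorem c23_26 : allRange (fun i => Nat.beq (act23 i) i) 45864 216 = true := by decide +kernel
theorem h23 : ∀ i, i < T.N → Tab.relActOK T D chk23 i = true := by
  intro i hi
  rw [Tab.relActOK, ← act23_eq]
  exact (range_glue (range_of_allRange c23_0) (range_glue (range_of_allRange c23_1) (range_glue (range_of_allRange c23_2) (range_glue (range_of_allRange c23_3) (range_glue (range_of_allRange c23_4) (range_glue (range_of_allRange c23_5) (range_glue (range_of_allRange c23_6) (range_glue (range_of_allRange c23_7) (range_glue (range_of_allRange c23_8) (range_glue (range_of_allRange c23_9) (range_glue (range_of_allRange c23_10) (range_glue (range_of_allRange c23_11) (range_glue (range_of_allRange c23_12) (range_glue (range_of_allRange c23_13) (range_glue (range_of_allRange c23_14) (range_glue (range_of_allRange c23_15) (range_glue (range_of_allRange c23_16) (range_glue (range_of_allRange c23_17) (range_glue (range_of_allRange c23_18)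 (range_glue (range_of_allRange c23_19) (range_glue (range_of_allRange c23_20) (range_glue (range_of_allRange c23_21) (range_glue (range_of_allRange c23_22) (range_glue (range_of_allRange c23_23) (range_glue (range_of_allRange c23_24) (range_glue (range_of_allRange c23_25) (range_of_allRange c23_26))))))))))))))))))))))))))) i (Nat.zero_le _) hi

def chk26 : List Nat := [2, 0, 2, 0, 3, 0, 2, 5, 5, 5, 5, 5, 6, 6, 2, 0, 2, 0, 3, 0, 2, 5, 5, 5, 5, 5, 6, 6, 2, 0, 2, 0, 3, 0, 2, 5, 5, 5, 5, 5, 6, 6, 2, 0, 2, 0, 3, 0, 2, 5, 5, 5, 5, 5, 6, 6, 5, 5, 5, 5, 5, 5]
noncomputable def act26 (i : Nat) : Nat := col3 (col1 (col3 (col1 (col2 (col1 (col3 (col4 (col4 (col4 (col4 (col4 (col7 (col7 (col3 (col1 (col3 (col1 (col2 (col1 (col3 (col4 (col4 (col4 (col4 (col4 (col7 (col7 (col3 (col1 (col3 (col1 (col2 (col1 (col3 (col4 (col4 (col4 (col4 (col4 (col7 (col7 (col3 (col1 (col3 (col1 (col2 (col1 (col3 (col4 (col4 (col4 (col4 (col4 (col7 (col7 (col4 (col4 (col4 (col4 (col4 (col4 (i))))))))))))))))))))))))))))))))))))))))))))))))))))))))))))))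
theorem act26_eq (i : Nat) : act26 i = Tab.act T D chk26 i := rfl
theorem c26_0 : allRange (fun i => Nat.beq (act26 i) i) 0 937 = true := by decide +kernel
theorem c26_1 : allRange (fun i => Nat.beq (act26 i) i) 937 937 = true := by decide +kernel
theorem c26_2 : allRange (fun i => Nat.beq (act26 i) i) 1874 937 = true := by decide +kernel
theorem c26_3 : allRange (fun i => Nat.beq (act26 i) i) 2811 937 = true := by decide +kernel
theorem c26_4 : allRange (fun i => Nat.beq (act26 i) i) 3748 937 = true := by decide +kernel
theorem c26_5 : allRange (fun i => Nat.beq (act26 i) i) 4685 937 = true := by decide +kernel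
theorem c26_6 : allRange (fun i => Nat.beq (act26 i) i) 5622 937 = true := by decide +kernel
theorem c26_7 : allRange (fun i => Nat.beq (act26 i) i) 6559 937 = true := by decide +kernel
theorem c26_8 : allRange (fun i => Nat.beq (act26 i) i) 7496 937 = true := by decide +kernel
theorem c26_9 : allRange (fun i => Nat.beq (act26 i) i) 8433 937 = true := by decide +kernel
theorem c26_10 : allRange (fun i => Nat.beq (act26 i) i) 9370 937 = true := by decide +kernel
theorem c26_11 : allRange (fun i => Nat.beq (act26 i) i) 10307 937 = true := by decide +kernel
theorem c26_12 : allRange (fun i => Nat.beq (act26 i) i) 11244 937 = true := by decide +kernel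
theorem c26_13 : allRange (fun i => Nat.beq (act26 i) i) 12181 937 = true := by decide +kernel
theorem c26_14 : allRange (fun i => Nat.beq (act26 i) i) 13118 937 = true := by decide +kernel
theorem c26_15 : allRange (fun i => Nat.beq (act26 i) i) 14055 937 = true := by decide +kernel
theorem c26_16 : allRange (fun i => Nat.beq (act26 i) i) 14992 937 = true := by decide +kernel
theorem c26_17 : allRange (fun i => Nat.beq (act26 i) i) 15929 937 = true := by decide +kernel
theorem c26_18 : allRange (fun i => Nat.beq (act26 i) i) 16866 937 = true := by decide +kernel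
theorem c26_19 : allRange (fun i => Nat.beq (act26 i) i) 17803 937 = true := by decide +kernel
theorem c26_20 : allRange (fun i => Nat.beq (act26 i) i) 18740 937 = true := by decide +kernel
theorem c26_21 : allRange (fun i => Nat.beq (act26 i) i) 19677 937 = true := by decide +kernel
theorem c26_22 : allRange (fun i => Nat.beq (act26 i) i) 20614 937 = true := by decide +kernel
theorem c26_23 : allRange (fun i => Nat.beq (act26 i) i) 21551 937 = true := by decide +kernel
theorem c26_24 : allRange (fun i => Nat.beq (act26 i) i) 22488 937 = true := by decide +kernel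
theorem c26_25 : allRange (fun i => Nat.beq (act26 i) i) 23425 937 = true := by decide +kernel
theorem c26_26 : allRange (fun i => Nat.beq (act26 i) i) 24362 937 = true := by decide +kernel
theorem c26_27 : allRange (fun i => Nat.beq (act26 i) i) 25299 937 = true := by decide +kernel
theorem c26_28 : allRange (fun i => Nat.beq (act26 i) i) 26236 937 = true := by decide +kernel
theorem c26_29 : allRange (fun i => Nat.beq (act26 i) i) 27173 937 = true := by decide +kernel
theorem c26_30 : allRange (fun i => Nat.beq (act26 i) i) 28110 937 = true := by decide +kernel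
theorem c26_31 : allRange (fun i => Nat.beq (act26 i) i) 29047 937 = true := by decide +kernel
theorem c26_32 : allRange (fun i => Nat.beq (act26 i) i) 29984 937 = true := by decide +kernel
theorem c26_33 : allRange (fun i => Nat.beq (act26 i) i) 30921 937 = true := by decide +kernel
theorem c26_34 : allRange (fun i => Nat.beq (act26 i) i) 31858 937 = true := by decide +kernel
theorem c26_35 : allRange (fun i => Nat.beq (act26 i) i) 32795 937 = true := by decide +kernel
theorem c26_36 : allRange (fun i => Nat.beq (act26 i) i) 33732 937 = true := by decide +kernel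
theorem c26_37 : allRange (fun i => Nat.beq (act26 i) i) 34669 937 = true := by decide +kernel
theorem c26_38 : allRange (fun i => Nat.beq (act26 i) i) 35606 937 = true := by decide +kernel
theorem c26_39 : allRange (fun i => Nat.beq (act26 i) i) 36543 937 = true := by decide +kernel
theorem c26_40 : allRange (fun i => Nat.beq (act26 i) i) 37480 937 = true := by decide +kernel
theorem c26_41 : allRange (fun i => Nat.beq (act26 i) i) 38417 937 = true := by decide +kernel
theorem c26_42 : allRange (fun i => Nat.beq (act26 i) i) 39354 937 = true := by decide +kernel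
theorem c26_43 : allRange (fun i => Nat.beq (act26 i) i) 40291 937 = true := by decide +kernel
theorem c26_44 : allRange (fun i => Nat.beq (act26 i) i) 41228 937 = true := by decide +kernel
theorem c26_45 : allRange (fun i => Nat.beq (act26 i) i) 42165 937 = true := by decide +kernel
theorem c26_46 : allRange (fun i => Nat.beq (act26 i) i) 43102 937 = true := by decide +kernel
theorem c26_47 : allRange (fun i => Nat.beq (act26 i) i) 44039 937 = true := by decide +kernel
theorem c26_48 : allRange (fun i => Nat.beq (act26 i) i) 44976 937 = true := by decide +kernel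
theorem c26_49 : allRange (fun i => Nat.beq (act26 i) i) 45913 167 = true := by decide +kernel
theorem h26 : ∀ i, i < T.N → Tab.relActOK T D chk26 i = true := by
  intro i hi
  rw [Tab.relActOK, ← act26_eq]
  exact (range_glue (range_of_allRange c26_0) (range_glue (range_of_allRange c26_1) (range_glue (range_of_allRange c26_2) (range_glue (range_of_allRange c26_3) (range_glue (range_of_allRange c26_4) (range_glue (range_of_allRange c26_5) (range_glue (range_of_allRange c26_6) (range_glue (range_of_allRange c26_7) (range_glue (range_of_allRange c26_8) (range_glue (range_of_allRange c26_9) (range_glue (range_of_allRange c26_10) (range_glue (range_of_allRange c26_11) (range_glue (range_of_allRange c26_12) (range_glue (range_of_allRange c26_13) (range_glue (range_of_allRange c26_14) (range_glue (range_of_allRange c26_15) (range_glue (range_of_allRange c26_16) (range_glue (range_of_allRange c26_17) (range_glue (range_of_allRange c26_18) (range_glue (range_of_allRange c26_19) (range_glue (range_of_allRange c26_20) (range_glue (range_of_allRange c26_21) (range_glue (range_of_allRange c26_22) (range_glue (range_of_allRange c26_23)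 (range_glue (range_of_allRange c26_24) (range_glue (range_of_allRange c26_25) (range_glue (range_of_allRange c26_26) (range_glue (range_of_allRange c26_27) (range_glue (range_of_allRange c26_28) (range_glue (range_of_allRange c26_29) (range_glue (range_of_allRange c26_30) (range_glue (range_of_allRange c26_31) (range_glue (range_of_allRange c26_32) (range_glue (range_of_allRange c26_33) (range_glue (range_of_allRange c26_34) (range_glue (range_of_allRange c26_35) (range_glue (range_of_allRange c26_36) (range_glue (range_of_allRange c26_37) (range_glue (range_of_allRange c26_38) (range_glue (range_of_allRange c26_39) (range_glue (range_of_allRange c26_40) (range_glue (range_of_allRange c26_41) (range_glue (range_of_allRange c26_42) (range_glue (range_of_allRange c26_43) (range_glue (range_of_allRange c26_44) (range_glue (range_of_allRange c26_45) (range_glue (range_of_allRange c26_46) (range_glue (range_of_allRange c26_47) (range_glue (range_of_allRange c26_48) (range_of_allRange c26_49)))))))))))))))))))))))))))))))))))))))))))))))))) i (Nat.zero_le _) hi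

end Cfsg.Agent.Lib.Helper4.TCD.SC48L34p2W
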