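import Cfsg.Agent.Lib.Helper4.TCD_C48L34R_Acc
import Cfsg.Agent.Lib.Helper4.TC13

namespace Cfsg.Agent.Lib.Helper4.TCD.SC48L34p3W

open Cfsg.Agent.Lib.Helper4.TC Cfsg.Agent.Lib.Helper4.TCD.C48L34R

set_option maxRecDepth 100000
set_option Elab.async false

def chk3 : List Nat := [0, 2, 0, 2, 0, 2, 0, 2, 0, 2, 0, 2, 0, 2]
noncomputable def act3 (i : Nat) : Nat := col1 (col3 (col1 (col3 (col1 (col3 (col1 (col3 (col1 (col3 (col1 (col3 (col1 (col3 (i))))))))))))))
theorem act3_eq (i : Nat) : act3 i = Tab.act T D chk3 i := rfl
theorem c3_0 : allRange (fun i => Nat.beq (act3 i) i) 0 3750 = true := by decide +kernel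
theorem c3_1 : allRange (fun i => Nat.beq (act3 i) i) 3750 3750 = true := by decide +kernel
theorem c3_2 : allRange (fun i => Nat.beq (act3 i) i) 7500 3750 = true := by decide +kernel
theorem c3_3 : allRange (fun i => Nat.beq (act3 i) i) 11250 3750 = true := by decide +kernel
theorem c3_4 : allRange (fun i => Nat.beq (act3 i) i) 15000 3750 = true := by decide +kernel
theorem c3_5 : allRange (fun i => Nat.beq (act3 i) i) 18750 3750 = true := by decide +kernel
theorem c3_6 : allRange (fun i => Nat.beq (act3 i) i) 22500 3750 = true := by decide +kernel
theorem c3_7 : allRange (fun i => Nat.beq (act3 i) i) 26250 3750 = true := by decide +kernel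
theorem c3_8 : allRange (fun i => Nat.beq (act3 i) i) 30000 3750 = true := by decide +kernel
theorem c3_9 : allRange (fun i => Nat.beq (act3 i) i) 33750 3750 = true := by decide +kernel
theorem c3_10 : allRange (fun i => Nat.beq (act3 i) i) 37500 3750 = true := by decide +kernel
theorem c3_11 : allRange (fun i => Nat.beq (act3 i) i) 41250 3750 = true := by decide +kernel
theorem c3_12 : allRange (fun i => Nat.beq (act3 i) i) 45000 1080 = true := by decide +kernel
theorem h3 : ∀ i, i < T.N → Tab.relActOK T D chk3 i = true := by
  intro i hi
  rw [Tab.relActOK, ← act3_eq]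
  exact (range_glue (range_of_allRange c3_0) (range_glue (range_of_allRange c3_1) (range_glue (range_of_allRange c3_2) (range_glue (range_of_allRange c3_3) (range_glue (range_of_allRange c3_4) (range_glue (range_of_allRange c3_5) (range_glue (range_of_allRange c3_6) (range_glue (range_of_allRange c3_7) (range_glue (range_of_allRange c3_8) (range_glue (range_of_allRange c3_9) (range_glue (range_of_allRange c3_10) (range_glue (range_of_allRange c3_11) (range_of_allRange c3_12))))))))))))) i (Nat.zero_le _) hi

def chk11 : List Nat := [5, 5, 4, 4]
noncomputable def act11 (i : Nat) : Nat := col4 (col4 (col5 (col5 (i))))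
theorem act11_eq (i : Nat) : act11 i = Tab.act T D chk11 i := rfl
theorem c11_0 : allRange (fun i => Nat.beq (act11 i) i) 0 10000 = true := by decide +kernel
theorem c11_1 : allRange (fun i => Nat.beq (act11 i) i) 10000 10000 = true := by decide +kernel
theorem c11_2 : allRange (fun i => Nat.beq (act11 i) i) 20000 10000 = true := by decide +kernel
theorem c11_3 : allRange (fun i => Nat.beq (act11 i) i) 30000 10000 = true := by decide +kernel
theorem c11_4 : allRange (fun i => Nat.beq (act11 i) i) 40000 6080 = true := by decide +kernel
theorem h11 : ∀ i, i < T.N → Tab.relActOK T D chk11 i = true := by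
  intro i hi
  rw [Tab.relActOK, ← act11_eq]
  exact (range_glue (range_of_allRange c11_0) (range_glue (range_of_allRange c11_1) (range_glue (range_of_allRange c11_2) (range_glue (range_of_allRange c11_3) (range_of_allRange c11_4))))) i (Nat.zero_le _) hi

def chk19 : List Nat := [7, 3, 6, 2]
noncomputable def act19 (i : Nat) : Nat := col6 (col2 (col7 (col3 (i))))
theorem act19_eq (i : Nat) : act19 i = Tab.act T D chk19 i := rfl
theorem c19_0 : allRange (fun i => Nat.beq (act19 i) i) 0 10000 = true := by decide +kernel
theorem c19_1 : allRange (fun i => Nat.beq (act19 i) i) 10000 10000 = true := by decide +kernel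
theorem c19_2 : allRange (fun i => Nat.beq (act19 i) i) 20000 10000 = true := by decide +kernel
theorem c19_3 : allRange (fun i => Nat.beq (act19 i) i) 30000 10000 = true := by decide +kernel
theorem c19_4 : allRange (fun i => Nat.beq (act19 i) i) 40000 6080 = true := by decide +kernel
theorem h19 : ∀ i, i < T.N → Tab.relActOK T D chk19 i = true := by
  intro i hi
  rw [Tab.relActOK, ← act19_eq]
  exact (range_glue (range_of_allRange c19_0) (range_glue (range_of_allRange c19_1) (range_glue (range_of_allRange c19_2) (range_glue (range_of_allRange c19_3) (range_of_allRange c19_4))))) i (Nat.zero_le _) hi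

def chk21 : List Nat := [4, 4, 4, 4, 4, 4, 4, 4, 4, 4, 4, 4]
noncomputable def act21 (i : Nat) : Nat := col5 (col5 (col5 (col5 (col5 (col5 (col5 (col5 (col5 (col5 (col5 (col5 (i))))))))))))
theorem act21_eq (i : Nat) : act21 i = Tab.act T D chk21 i := rfl
theorem c21_0 : allRange (fun i => Nat.beq (act21 i) i) 0 4285 = true := by decide +kernel
theorem c21_1 : allRange (fun i => Nat.beq (act21 i) i) 4285 4285 = true := by decide +kernel
theorem c21_2 : allRange (fun i => Nat.beq (act21 i) i) 8570 4285 = true := by decide +kernel
theorem c21_3 : allRange (fun i => Nat.beq (act21 i) i) 12855 4285 = true := by decide +kernel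
theorem c21_4 : allRange (fun i => Nat.beq (act21 i) i) 17140 4285 = true := by decide +kernel
theorem c21_5 : allRange (fun i => Nat.beq (act21 i) i) 21425 4285 = true := by decide +kernel
theorem c21_6 : allRange (fun i => Nat.beq (act21 i) i) 25710 4285 = true := by decide +kernel
theorem c21_7 : allRange (fun i => Nat.beq (act21 i) i) 29995 4285 = true := by decide +kernel
theorem c21_8 : allRange (fun i => Nat.beq (act21 i) i) 34280 4285 = true := by decide +kernel
theorem c21_9 : allRange (fun i => Nat.beq (act21 i) i) 38565 4285 = true := by decide +kernel
theorem c21_10 : allRange (fun i => Nat.beq (act21 i) i) 42850 3230 = true := by decide +kernel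
theorem h21 : ∀ i, i < T.N → Tab.relActOK T D chk21 i = true := by
  intro i hi
  rw [Tab.relActOK, ← act21_eq]
  exact (range_glue (range_of_allRange c21_0) (range_glue (range_of_allRange c21_1) (range_glue (range_of_allRange c21_2) (range_glue (range_of_allRange c21_3) (range_glue (range_of_allRange c21_4) (range_glue (range_of_allRange c21_5) (range_glue (range_of_allRange c21_6) (range_glue (range_of_allRange c21_7) (range_glue (range_of_allRange c21_8) (range_glue (range_of_allRange c21_9) (range_of_allRange c21_10))))))))))) i (Nat.zero_le _) hi

def chk25 : List Nat := [0, 4, 4, 4, 4, 4, 7, 0, 4, 4, 4, 4, 4, 7, 5, 5, 5, 5, 5, 5]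
noncomputable def act25 (i : Nat) : Nat := col1 (col5 (col5 (col5 (col5 (col5 (col6 (col1 (col5 (col5 (col5 (col5 (col5 (col6 (col4 (col4 (col4 (col4 (col4 (col4 (i))))))))))))))))))))
theorem act25_eq (i : Nat) : act25 i = Tab.act T D chk25 i := rfl
theorem c25_0 : allRange (fun i => Nat.beq (act25 i) i) 0 2727 = true := by decide +kernel
theorem c25_1 : allRange (fun i => Nat.beq (act25 i) i) 2727 2727 = true := by decide +kernel
theorem c25_2 : allRange (fun i => Nat.beq (act25 i) i) 5454 2727 = true := by decide +kernel
theorem c25_3 : allRange (fun i => Nat.beq (act25 i) i) 8181 2727 = true := by decide +kernel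
theorem c25_4 : allRange (fun i => Nat.beq (act25 i) i) 10908 2727 = true := by decide +kernel
theorem c25_5 : allRange (fun i => Nat.beq (act25 i) i) 13635 2727 = true := by decide +kernel
theorem c25_6 : allRange (fun i => Nat.beq (act25 i) i) 16362 2727 = true := by decide +kernel
theorem c25_7 : allRange (fun i => Nat.beq (act25 i) i) 19089 2727 = true := by decide +kernel
theorem c25_8 : allRange (fun i => Nat.beq (act25 i) i) 21816 2727 = true := by decide +kernel
theorem c25_9 : allRange (fun i => Nat.beq (act25 i) i) 24543 2727 = true := by decide +kernel
theorem c25_10 : allRange (fun i => Nat.beq (act25 i) i) 27270 2727 = true := by decide +kernel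
theorem c25_11 : allRange (fun i => Nat.beq (act25 i) i) 29997 2727 = true := by decide +kernel
theorem c25_12 : allRange (fun i => Nat.beq (act25 i) i) 32724 2727 = true := by decide +kernel
theorem c25_13 : allRange (fun i => Nat.beq (act25 i) i) 35451 2727 = true := by decide +kernel
theorem c25_14 : allRange (fun i => Nat.beq (act25 i) i) 38178 2727 = true := by decide +kernel
theorem c25_15 : allRange (fun i => Nat.beq (act25 i) i) 40905 2727 = true := by decide +kernel
theorem c25_16 : allRange (fun i => Nat.beq (act25 i) i) 43632 2448 = true := by decide +kernel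
theorem h25 : ∀ i, i < T.N → Tab.relActOK T D chk25 i = true := by
  intro i hi
  rw [Tab.relActOK, ← act25_eq]
  exact (range_glue (range_of_allRange c25_0) (range_glue (range_of_allRange c25_1) (range_glue (range_of_allRange c25_2) (range_glue (range_of_allRange c25_3) (range_glue (range_of_allRange c25_4) (range_glue (range_of_allRange c25_5) (range_glue (range_of_allRange c25_6) (range_glue (range_of_allRange c25_7) (range_glue (range_of_allRange c25_8) (range_glue (range_of_allRange c25_9) (range_glue (range_of_allRange c25_10) (range_glue (range_of_allRange c25_11) (range_glue (range_of_allRange c25_12) (range_glue (range_of_allRange c25_13) (range_glue (range_of_allRange c25_14) (range_glue (range_of_allRange c25_15) (range_of_allRange c25_16))))))))))))))))) i (Nat.zero_le _) hi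

def chk27 : List Nat := [0, 4, 4, 4, 4, 4, 7, 2, 0, 2, 0, 3, 0, 2, 5, 5, 5, 5, 5, 6, 6, 0, 4, 4, 4, 4, 4, 7, 2, 0, 2, 0, 3, 0, 2, 5, 5, 5, 5, 5, 6, 6, 0, 4, 4, 4, 4, 4, 7, 2, 0, 2, 0, 3, 0, 2, 5, 5, 5, 5, 5, 6, 6, 0, 4, 4, 4, 4, 4, 7, 2, 0, 2, 0, 3, 0, 2, 5, 5, 5, 5, 5, 6, 6, 0, 4, 4, 4, 4, 4, 7, 2, 0, 2, 0, 3, 0, 2, 5, 5, 5, 5, 5, 6, 6, 5, 5, 5, 5, 5, 5, 5, 5]
noncomputable def act27 (i : Nat) : Nat := col1 (col5 (col5 (col5 (col5 (col5 (col6 (col3 (col1 (col3 (col1 (col2 (col1 (col3 (col4 (col4 (col4 (col4 (col4 (col7 (col7 (col1 (col5 (col5 (col5 (col5 (col5 (col6 (col3 (col1 (col3 (col1 (col2 (col1 (col3 (col4 (col4 (col4 (col4 (col4 (col7 (col7 (col1 (col5 (col5 (col5 (col5 (col5 (col6 (col3 (col1 (col3 (col1 (col2 (col1 (col3 (col4 (col4 (col4 (col4 (col4 (col7 (col7 (col1 (col5 (col5 (col5 (col5 (col5 (col6 (col3 (col1 (col3 (col1 (col2 (col1 (col3 (col4 (col4 (col4 (col4 (col4 (col7 (col7 (col1 (col5 (col5 (col5 (col5 (col5 (col6 (col3 (col1 (col3 (col1 (col2 (col1 (col3 (col4 (col4 (col4 (col4 (col4 (col7 (col7 (col4 (col4 (col4 (col4 (col4 (col4 (col4 (col4 (i)))))))))))))))))))))))))))))))))))))))))))))))))))))))))))))))))))))))))))))))))))))))))))))))))))))))))))))))))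
theorem act27_eq (i : Nat) : act27 i = Tab.act T D chk27 i := rfl
theorem c27_0 : allRange (fun i => Nat.beq (act27 i) i) 0 521 = true := by decide +kernel
theorem c27_1 : allRange (fun i => Nat.beq (act27 i) i) 521 521 = true := by decide +kernel
theorem c27_2 : allRange (fun i => Nat.beq (act27 i) i) 1042 521 = true := by decide +kernel
theorem c27_3 : allRange (fun i => Nat.beq (act27 i) i) 1563 521 = true := by decide +kernel
theorem c27_4 : allRange (fun i => Nat.beq (act27 i) i) 2084 521 = true := by decide +kernel
theorem c27_5 : allRange (fun i => Nat.beq (act27 i) i) 2605 521 = true := by decide +kernel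
theorem c27_6 : allRange (fun i => Nat.beq (act27 i) i) 3126 521 = true := by decide +kernel
theorem c27_7 : allRange (fun i => Nat.beq (act27 i) i) 3647 521 = true := by decide +kernel
theorem c27_8 : allRange (fun i => Nat.beq (act27 i) i) 4168 521 = true := by decide +kernel
theorem c27_9 : allRange (fun i => Nat.beq (act27 i) i) 4689 521 = true := by decide +kernel
theorem c27_10 : allRange (fun i => Nat.beq (act27 i) i) 5210 521 = true := by decide +kernel
theorem c27_11 : allRange (fun i => Nat.beq (act27 i) i) 5731 521 = true := by decide +kernel
theorem c27_12 : allRange (fun i => Nat.beq (act27 i) i) 6252 521 = true := by decide +kernel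
theorem c27_13 : allRange (fun i => Nat.beq (act27 i) i) 6773 521 = true := by decide +kernel
theorem c27_14 : allRange (fun i => Nat.beq (act27 i) i) 7294 521 = true := by decide +kernel
theorem c27_15 : allRange (fun i => Nat.beq (act27 i) i) 7815 521 = true := by decide +kernel
theorem c27_16 : allRange (fun i => Nat.beq (act27 i) i) 8336 521 = true := by decide +kernel
theorem c27_17 : allRange (fun i => Nat.beq (act27 i) i) 8857 521 = true := by decide +kernel
theorem c27_18 : allRange (fun i => Nat.beq (act27 i) i) 9378 521 = true := by decide +kernel
theorem c27_19 : allRange (fun i => Nat.beq (act27 i) i) 9899 521 = true := by decide +kernel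
theorem c27_20 : allRange (fun i => Nat.beq (act27 i) i) 10420 521 = true := by decide +kernel
theorem c27_21 : allRange (fun i => Nat.beq (act27 i) i) 10941 521 = true := by decide +kernel
theorem c27_22 : allRange (fun i => Nat.beq (act27 i) i) 11462 521 = true := by decide +kernel
theorem c27_23 : allRange (fun i => Nat.beq (act27 i) i) 11983 521 = true := by decide +kernel
theorem c27_24 : allRange (fun i => Nat.beq (act27 i) i) 12504 521 = true := by decide +kernel
theorem c27_25 : allRange (fun i => Nat.beq (act27 i) i) 13025 521 = true := by decide +kernel
theorem c27_26 : allRange (fun i => Nat.beq (act27 i) i) 13546 521 = true := by decide +kernel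
theorem c27_27 : allRange (fun i => Nat.beq (act27 i) i) 14067 521 = true := by decide +kernel
theorem c27_28 : allRange (fun i => Nat.beq (act27 i) i) 14588 521 = true := by decide +kernel
theorem c27_29 : allRange (fun i => Nat.beq (act27 i) i) 15109 521 = true := by decide +kernel
theorem c27_30 : allRange (fun i => Nat.beq (act27 i) i) 15630 521 = true := by decide +kernel
theorem c27_31 : allRange (fun i => Nat.beq (act27 i) i) 16151 521 = true := by decide +kernel
theorem c27_32 : allRange (fun i => Nat.beq (act27 i) i) 16672 521 = true := by decide +kernel
theorem c27_33 : allRange (fun i => Nat.beq (act27 i) i) 17193 521 = true := by decide +kernel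
theorem c27_34 : allRange (fun i => Nat.beq (act27 i) i) 17714 521 = true := by decide +kernel
theorem c27_35 : allRange (fun i => Nat.beq (act27 i) i) 18235 521 = true := by decide +kernel
theorem c27_36 : allRange (fun i => Nat.beq (act27 i) i) 18756 521 = true := by decide +kernel
theorem c27_37 : allRange (fun i => Nat.beq (act27 i) i) 19277 521 = true := by decide +kernel
theorem c27_38 : allRange (fun i => Nat.beq (act27 i) i) 19798 521 = true := by decide +kernel
theorem c27_39 : allRange (fun i => Nat.beq (act27 i) i) 20319 521 = true := by decide +kernel
theorem c27_40 : allRange (fun i => Nat.beq (act27 i) i) 20840 521 = true := by decide +kernel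
theorem c27_41 : allRange (fun i => Nat.beq (act27 i) i) 21361 521 = true := by decide +kernel
theorem c27_42 : allRange (fun i => Nat.beq (act27 i) i) 21882 521 = true := by decide +kernel
theorem c27_43 : allRange (fun i => Nat.beq (act27 i) i) 22403 521 = true := by decide +kernel
theorem c27_44 : allRange (fun i => Nat.beq (act27 i) i) 22924 521 = true := by decide +kernel
theorem c27_45 : allRange (fun i => Nat.beq (act27 i) i) 23445 521 = true := by decide +kernel
theorem c27_46 : allRange (fun i => Nat.beq (act27 i) i) 23966 521 = true := by decide +kernel
theorem c27_47 : allRange (fun i => Nat.beq (act27 i) i) 24487 521 = true := by decide +kernel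
theorem c27_48 : allRange (fun i => Nat.beq (act27 i) i) 25008 521 = true := by decide +kernel
theorem c27_49 : allRange (fun i => Nat.beq (act27 i) i) 25529 521 = true := by decide +kernel
theorem c27_50 : allRange (fun i => Nat.beq (act27 i) i) 26050 521 = true := by decide +kernel
theorem c27_51 : allRange (fun i => Nat.beq (act27 i) i) 26571 521 = true := by decide +kernel
theorem c27_52 : allRange (fun i => Nat.beq (act27 i) i) 27092 521 = true := by decide +kernel
theorem c27_53 : allRange (fun i => Nat.beq (act27 i) i) 27613 521 = true := by decide +kernel
theorem c27_54 : allRange (fun i => Nat.beq (act27 i) i) 28134 521 = true := by decide +kernel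
theorem c27_55 : allRange (fun i => Nat.beq (act27 i) i) 28655 521 = true := by decide +kernel
theorem c27_56 : allRange (fun i => Nat.beq (act27 i) i) 29176 521 = true := by decide +kernel
theorem c27_57 : allRange (fun i => Nat.beq (act27 i) i) 29697 521 = true := by decide +kernel
theorem c27_58 : allRange (fun i => Nat.beq (act27 i) i) 30218 521 = true := by decide +kernel
theorem c27_59 : allRange (fun i => Nat.beq (act27 i) i) 30739 521 = true := by decide +kernel
theorem c27_60 : allRange (fun i => Nat.beq (act27 i) i) 31260 521 = true := by decide +kernel
theorem c27_61 : allRange (fun i => Nat.beq (act27 i) i) 31781 521 = true := by decide +kernel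
theorem c27_62 : allRange (fun i => Nat.beq (act27 i) i) 32302 521 = true := by decide +kernel
theorem c27_63 : allRange (fun i => Nat.beq (act27 i) i) 32823 521 = true := by decide +kernel
theorem c27_64 : allRange (fun i => Nat.beq (act27 i) i) 33344 521 = true := by decide +kernel
theorem c27_65 : allRange (fun i => Nat.beq (act27 i) i) 33865 521 = true := by decide +kernel
theorem c27_66 : allRange (fun i => Nat.beq (act27 i) i) 34386 521 = true := by decide +kernel
theorem c27_67 : allRange (fun i => Nat.beq (act27 i) i) 34907 521 = true := by decide +kernel
theorem c27_68 : allRange (fun i => Nat.beq (act27 i) i) 35428 521 = true := by decide +kernel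
theorem c27_69 : allRange (fun i => Nat.beq (act27 i) i) 35949 521 = true := by decide +kernel
theorem c27_70 : allRange (fun i => Nat.beq (act27 i) i) 36470 521 = true := by decide +kernel
theorem c27_71 : allRange (fun i => Nat.beq (act27 i) i) 36991 521 = true := by decide +kernel
theorem c27_72 : allRange (fun i => Nat.beq (act27 i) i) 37512 521 = true := by decide +kernel
theorem c27_73 : allRange (fun i => Nat.beq (act27 i) i) 38033 521 = true := by decide +kernel
theorem c27_74 : allRange (fun i => Nat.beq (act27 i) i) 38554 521 = true := by decide +kernel
theorem c27_75 : allRange (fun i => Nat.beq (act27 i) i) 39075 521 = true := by decide +kernel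
theorem c27_76 : allRange (fun i => Nat.beq (act27 i) i) 39596 521 = true := by decide +kernel
theorem c27_77 : allRange (fun i => Nat.beq (act27 i) i) 40117 521 = true := by decide +kernel
theorem c27_78 : allRange (fun i => Nat.beq (act27 i) i) 40638 521 = true := by decide +kernel
theorem c27_79 : allRange (fun i => Nat.beq (act27 i) i) 41159 521 = true := by decide +kernel
theorem c27_80 : allRange (fun i => Nat.beq (act27 i) i) 41680 521 = true := by decide +kernel
theorem c27_81 : allRange (fun i => Nat.beq (act27 i) i) 42201 521 = true := by decide +kernel
theorem c27_82 : allRange (fun i => Nat.beq (act27 i) i) 42722 521 = true := by decide +kernel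
theorem c27_83 : allRange (fun i => Nat.beq (act27 i) i) 43243 521 = true := by decide +kernel
theorem c27_84 : allRange (fun i => Nat.beq (act27 i) i) 43764 521 = true := by decide +kernel
theorem c27_85 : allRange (fun i => Nat.beq (act27 i) i) 44285 521 = true := by decide +kernel
theorem c27_86 : allRange (fun i => Nat.beq (act27 i) i) 44806 521 = true := by decide +kernel
theorem c27_87 : allRange (fun i => Nat.beq (act27 i) i) 45327 521 = true := by decide +kernel
theorem c27_88 : allRange (fun i => Nat.beq (act27 i) i) 45848 232 = true := by decide +kernel
theorem h27 : ∀ i, i < T.N → Tab.relActOK T D chk27 i = true := by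
  intro i hi
  rw [Tab.relActOK, ← act27_eq]
  exact (range_glue (range_of_allRange c27_0) (range_glue (range_of_allRange c27_1) (range_glue (range_of_allRange c27_2) (range_glue (range_of_allRange c27_3) (range_glue (range_of_allRange c27_4) (range_glue (range_of_allRange c27_5) (range_glue (range_of_allRange c27_6) (range_glue (range_of_allRange c27_7) (range_glue (range_of_allRange c27_8) (range_glue (range_of_allRange c27_9) (range_glue (range_of_allRange c27_10) (range_glue (range_of_allRange c27_11) (range_glue (range_of_allRange c27_12) (range_glue (range_of_allRange c27_13) (range_glue (range_of_allRange c27_14) (range_glue (range_of_allRange c27_15) (range_glue (range_of_allRange c27_16) (range_glue (range_of_allRange c27_17) (range_glue (range_of_allRange c27_18) (range_glue (range_of_allRange c27_19) (range_glue (range_of_allRange c27_20) (range_glue (range_of_allRange c27_21) (range_glue (range_of_allRange c27_22) (range_glue (range_of_allRange c27_23) (range_glue (range_of_allRange c27_24) (range_glue (range_of_allRange c27_25) (range_glue (range_of_allRange c27_26) (range_glue (range_of_allRange c27_27) (range_glue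 (range_of_allRange c27_28) (range_glue (range_of_allRange c27_29) (range_glue (range_of_allRange c27_30) (range_glue (range_of_allRange c27_31) (range_glue (range_of_allRange c27_32) (range_glue (range_of_allRange c27_33) (range_glue (range_of_allRange c27_34) (range_glue (range_of_allRange c27_35) (range_glue (range_of_allRange c27_36) (range_glue (range_of_allRange c27_37) (range_glue (range_of_allRange c27_38) (range_glue (range_of_allRange c27_39) (range_glue (range_of_allRange c27_40) (range_glue (range_of_allRange c27_41) (range_glue (range_of_allRange c27_42) (range_glue (range_of_allRange c27_43) (range_glue (range_of_allRange c27_44) (range_glue (range_of_allRange c27_45) (range_glue (range_of_allRange c27_46) (range_glue (range_of_allRange c27_47) (range_glue (range_of_allRange c27_48) (range_glue (range_of_allRange c27_49) (range_glue (range_of_allRange c27_50) (range_glue (range_of_allRange c27_51) (range_glue (range_of_allRange c27_52) (range_glue (range_of_allRange c27_53) (range_glue (range_of_allRange c27_54) (range_glue (range_of_allRange c27_55) (range_glue (range_of_allRange c27_56) (range_glue (range_of_allRange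 c27_57) (range_glue (range_of_allRange c27_58) (range_glue (range_of_allRange c27_59) (range_glue (range_of_allRange c27_60) (range_glue (range_of_allRange c27_61) (range_glue (range_of_allRange c27_62) (range_glue (range_of_allRange c27_63) (range_glue (range_of_allRange c27_64) (range_glue (range_of_allRange c27_65) (range_glue (range_of_allRange c27_66) (range_glue (range_of_allRange c27_67) (range_glue (range_of_allRange c27_68) (range_glue (range_of_allRange c27_69) (range_glue (range_of_allRange c27_70) (range_glue (range_of_allRange c27_71) (range_glue (range_of_allRange c27_72) (range_glue (range_of_allRange c27_73) (range_glue (range_of_allRange c27_74) (range_glue (range_of_allRange c27_75) (range_glue (range_of_allRange c27_76) (range_glue (range_of_allRange c27_77) (range_glue (range_of_allRange c27_78) (range_glue (range_of_allRange c27_79) (range_glue (range_of_allRange c27_80) (range_glue (range_of_allRange c27_81) (range_glue (range_of_allRange c27_82) (range_glue (range_of_allRange c27_83) (range_glue (range_of_allRange c27_84) (range_glue (range_of_allRange c27_85) (range_glue (range_of_allRange c27_86) (range_glue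 (range_of_allRange c27_87) (range_of_allRange c27_88))))))))))))))))))))))))))))))))))))))))))))))))))))))))))))))))))))))))))))))))))))))))) i (Nat.zero_le _) hi

end Cfsg.Agent.Lib.Helper4.TCD.SC48L34p3W
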