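import Cfsg.Agent.Lib.Helper4.TCD_C48L34R_Acc
import Cfsg.Agent.Lib.Helper4.TC13

namespace Cfsg.Agent.Lib.Helper4.TCD.SC48L34p3W

open Cfsg.Agent.Lib.Helper4.TC Cfsg.Agent.Lib.Helper4.TCD.C48L34R

set_option maxRecDepth 100000
set_option Elab.async false

def chk1 : List Nat := [2, 0, 2, 0, 3, 0, 2, 5, 5, 5, 5, 5, 6, 6, 2, 0, 2, 0, 3, 0, 2, 5, 5, 5, 5, 5, 6, 6, 2, 0, 2, 0, 3, 0, 2, 5, 5, 5, 5, 5, 6, 6, 2, 0, 2, 0, 3, 0, 2, 5, 5, 5, 5, 5, 6, 6, 2, 0, 2, 0, 3, 0, 2, 5, 5, 5, 5, 5, 6, 6, 2, 0, 2, 0, 3, 0, 2, 5, 5, 5, 5, 5, 6, 6, 2, 0, 2, 0, 3, 0, 2, 5, 5, 5, 5, 5, 6, 6, 2, 0, 2, 0, 3, 0, 2, 5, 5, 5, 5, 5, 6, 6]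
noncomputable def act1 (i : Nat) : Nat := col3 (col1 (col3 (col1 (col2 (col1 (col3 (col4 (col4 (col4 (col4 (col4 (col7 (col7 (col3 (col1 (col3 (col1 (col2 (col1 (col3 (col4 (col4 (col4 (col4 (col4 (col7 (col7 (col3 (col1 (col3 (col1 (col2 (col1 (col3 (col4 (col4 (col4 (col4 (col4 (col7 (col7 (col3 (col1 (col3 (col1 (col2 (col1 (col3 (col4 (col4 (col4 (col4 (col4 (col7 (col7 (col3 (col1 (col3 (col1 (col2 (col1 (col3 (col4 (col4 (col4 (col4 (col4 (col7 (col7 (col3 (col1 (col3 (col1 (col2 (col1 (col3 (col4 (col4 (col4 (col4 (col4 (col7 (col7 (col3 (col1 (col3 (col1 (col2 (col1 (col3 (col4 (col4 (col4 (col4 (col4 (col7 (col7 (col3 (col1 (col3 (col1 (col2 (col1 (col3 (col4 (col4 (col4 (col4 (col4 (col7 (col7 (i))))))))))))))))))))))))))))))))))))))))))))))))))))))))))))))))))))))))))))))))))))))))))))))))))))))))))))))))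
theorem act1_eq (i : Nat) : act1 i = Tab.act T D chk1 i := rfl
theorem c1_0 : allRange (fun i => Nat.beq (act1 i) i) 0 526 = true := by decide +kernel
theorem c1_1 : allRange (fun i => Nat.beq (act1 i) i) 526 526 = true := by decide +kernel
theorem c1_2 : allRange (fun i => Nat.beq (act1 i) i) 1052 526 = true := by decide +kernel
theorem c1_3 : allRange (fun i => Nat.beq (act1 i) i) 1578 526 = true := by decide +kernel
theorem c1_4 : allRange (fun i => Nat.beq (act1 i) i) 2104 526 = true := by decide +kernel
theorem c1_5 : allRange (fun i => Nat.beq (act1 i) i) 2630 526 = true := by decide +kernel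
theorem c1_6 : allRange (fun i => Nat.beq (act1 i) i) 3156 526 = true := by decide +kernel
theorem c1_7 : allRange (fun i => Nat.beq (act1 i) i) 3682 526 = true := by decide +kernel
theorem c1_8 : allRange (fun i => Nat.beq (act1 i) i) 4208 526 = true := by decide +kernel
theorem c1_9 : allRange (fun i => Nat.beq (act1 i) i) 4734 526 = true := by decide +kernel
theorem c1_10 : allRange (fun i => Nat.beq (act1 i) i) 5260 526 = true := by decide +kernel
theorem c1_11 : allRange (fun i => Nat.beq (act1 i) i) 5786 526 = true := by decide +kernel
theorem c1_12 : allRange (fun i => Nat.beq (act1 i) i) 6312 526 = true := by decide +kernel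
theorem c1_13 : allRange (fun i => Nat.beq (act1 i) i) 6838 526 = true := by decide +kernel
theorem c1_14 : allRange (fun i => Nat.beq (act1 i) i) 7364 526 = true := by decide +kernel
theorem c1_15 : allRange (fun i => Nat.beq (act1 i) i) 7890 526 = true := by decide +kernel
theorem c1_16 : allRange (fun i => Nat.beq (act1 i) i) 8416 526 = true := by decide +kernel
theorem c1_17 : allRange (fun i => Nat.beq (act1 i) i) 8942 526 = true := by decide +kernel
theorem c1_18 : allRange (fun i => Nat.beq (act1 i) i) 9468 526 = true := by decide +kernel
theorem c1_19 : allRange (fun i => Nat.beq (act1 i) i) 9994 526 = true := by decide +kernel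
theorem c1_20 : allRange (fun i => Nat.beq (act1 i) i) 10520 526 = true := by decide +kernel
theorem c1_21 : allRange (fun i => Nat.beq (act1 i) i) 11046 526 = true := by decide +kernel
theorem c1_22 : allRange (fun i => Nat.beq (act1 i) i) 11572 526 = true := by decide +kernel
theorem c1_23 : allRange (fun i => Nat.beq (act1 i) i) 12098 526 = true := by decide +kernel
theorem c1_24 : allRange (fun i => Nat.beq (act1 i) i) 12624 526 = true := by decide +kernel
theorem c1_25 : allRange (fun i => Nat.beq (act1 i) i) 13150 526 = true := by decide +kernel
theorem c1_26 : allRange (fun i => Nat.beq (act1 i) i) 13676 526 = true := by decide +kernel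
theorem c1_27 : allRange (fun i => Nat.beq (act1 i) i) 14202 526 = true := by decide +kernel
theorem c1_28 : allRange (fun i => Nat.beq (act1 i) i) 14728 526 = true := by decide +kernel
theorem c1_29 : allRange (fun i => Nat.beq (act1 i) i) 15254 526 = true := by decide +kernel
theorem c1_30 : allRange (fun i => Nat.beq (act1 i) i) 15780 526 = true := by decide +kernel
theorem c1_31 : allRange (fun i => Nat.beq (act1 i) i) 16306 526 = true := by decide +kernel
theorem c1_32 : allRange (fun i => Nat.beq (act1 i) i) 16832 526 = true := by decide +kernel
theorem c1_33 : allRange (fun i => Nat.beq (act1 i) i) 17358 526 = true := by decide +kernel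
theorem c1_34 : allRange (fun i => Nat.beq (act1 i) i) 17884 526 = true := by decide +kernel
theorem c1_35 : allRange (fun i => Nat.beq (act1 i) i) 18410 526 = true := by decide +kernel
theorem c1_36 : allRange (fun i => Nat.beq (act1 i) i) 18936 526 = true := by decide +kernel
theorem c1_37 : allRange (fun i => Nat.beq (act1 i) i) 19462 526 = true := by decide +kernel
theorem c1_38 : allRange (fun i => Nat.beq (act1 i) i) 19988 526 = true := by decide +kernel
theorem c1_39 : allRange (fun i => Nat.beq (act1 i) i) 20514 526 = true := by decide +kernel
theorem c1_40 : allRange (fun i => Nat.beq (act1 i) i) 21040 526 = true := by decide +kernel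
theorem c1_41 : allRange (fun i => Nat.beq (act1 i) i) 21566 526 = true := by decide +kernel
theorem c1_42 : allRange (fun i => Nat.beq (act1 i) i) 22092 526 = true := by decide +kernel
theorem c1_43 : allRange (fun i => Nat.beq (act1 i) i) 22618 526 = true := by decide +kernel
theorem c1_44 : allRange (fun i => Nat.beq (act1 i) i) 23144 526 = true := by decide +kernel
theorem c1_45 : allRange (fun i => Nat.beq (act1 i) i) 23670 526 = true := by decide +kernel
theorem c1_46 : allRange (fun i => Nat.beq (act1 i) i) 24196 526 = true := by decide +kernel
theorem c1_47 : allRange (fun i => Nat.beq (act1 i) i) 24722 526 = true := by decide +kernel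
theorem c1_48 : allRange (fun i => Nat.beq (act1 i) i) 25248 526 = true := by decide +kernel
theorem c1_49 : allRange (fun i => Nat.beq (act1 i) i) 25774 526 = true := by decide +kernel
theorem c1_50 : allRange (fun i => Nat.beq (act1 i) i) 26300 526 = true := by decide +kernel
theorem c1_51 : allRange (fun i => Nat.beq (act1 i) i) 26826 526 = true := by decide +kernel
theorem c1_52 : allRange (fun i => Nat.beq (act1 i) i) 27352 526 = true := by decide +kernel
theorem c1_53 : allRange (fun i => Nat.beq (act1 i) i) 27878 526 = true := by decide +kernel
theorem c1_54 : allRange (fun i => Nat.beq (act1 i) i) 28404 526 = true := by decide +kernel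
theorem c1_55 : allRange (fun i => Nat.beq (act1 i) i) 28930 526 = true := by decide +kernel
theorem c1_56 : allRange (fun i => Nat.beq (act1 i) i) 29456 526 = true := by decide +kernel
theorem c1_57 : allRange (fun i => Nat.beq (act1 i) i) 29982 526 = true := by decide +kernel
theorem c1_58 : allRange (fun i => Nat.beq (act1 i) i) 30508 526 = true := by decide +kernel
theorem c1_59 : allRange (fun i => Nat.beq (act1 i) i) 31034 526 = true := by decide +kernel
theorem c1_60 : allRange (fun i => Nat.beq (act1 i) i) 31560 526 = true := by decide +kernel
theorem c1_61 : allRange (fun i => Nat.beq (act1 i) i) 32086 526 = true := by decide +kernel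
theorem c1_62 : allRange (fun i => Nat.beq (act1 i) i) 32612 526 = true := by decide +kernel
theorem c1_63 : allRange (fun i => Nat.beq (act1 i) i) 33138 526 = true := by decide +kernel
theorem c1_64 : allRange (fun i => Nat.beq (act1 i) i) 33664 526 = true := by decide +kernel
theorem c1_65 : allRange (fun i => Nat.beq (act1 i) i) 34190 526 = true := by decide +kernel
theorem c1_66 : allRange (fun i => Nat.beq (act1 i) i) 34716 526 = true := by decide +kernel
theorem c1_67 : allRange (fun i => Nat.beq (act1 i) i) 35242 526 = true := by decide +kernel
theorem c1_68 : allRange (fun i => Nat.beq (act1 i) i) 35768 526 = true := by decide +kernel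
theorem c1_69 : allRange (fun i => Nat.beq (act1 i) i) 36294 526 = true := by decide +kernel
theorem c1_70 : allRange (fun i => Nat.beq (act1 i) i) 36820 526 = true := by decide +kernel
theorem c1_71 : allRange (fun i => Nat.beq (act1 i) i) 37346 526 = true := by decide +kernel
theorem c1_72 : allRange (fun i => Nat.beq (act1 i) i) 37872 526 = true := by decide +kernel
theorem c1_73 : allRange (fun i => Nat.beq (act1 i) i) 38398 526 = true := by decide +kernel
theorem c1_74 : allRange (fun i => Nat.beq (act1 i) i) 38924 526 = true := by decide +kernel
theorem c1_75 : allRange (fun i => Nat.beq (act1 i) i) 39450 526 = true := by decide +kernel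
theorem c1_76 : allRange (fun i => Nat.beq (act1 i) i) 39976 526 = true := by decide +kernel
theorem c1_77 : allRange (fun i => Nat.beq (act1 i) i) 40502 526 = true := by decide +kernel
theorem c1_78 : allRange (fun i => Nat.beq (act1 i) i) 41028 526 = true := by decide +kernel
theorem c1_79 : allRange (fun i => Nat.beq (act1 i) i) 41554 526 = true := by decide +kernel
theorem c1_80 : allRange (fun i => Nat.beq (act1 i) i) 42080 526 = true := by decide +kernel
theorem c1_81 : allRange (fun i => Nat.beq (act1 i) i) 42606 526 = true := by decide +kernel
theorem c1_82 : allRange (fun i => Nat.beq (act1 i) i) 43132 526 = true := by decide +kernel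
theorem c1_83 : allRange (fun i => Nat.beq (act1 i) i) 43658 526 = true := by decide +kernel
theorem c1_84 : allRange (fun i => Nat.beq (act1 i) i) 44184 526 = true := by decide +kernel
theorem c1_85 : allRange (fun i => Nat.beq (act1 i) i) 44710 526 = true := by decide +kernel
theorem c1_86 : allRange (fun i => Nat.beq (act1 i) i) 45236 526 = true := by decide +kernel
theorem c1_87 : allRange (fun i => Nat.beq (act1 i) i) 45762 318 = true := by decide +kernel
theorem h1 : ∀ i, i < T.N → Tab.relActOK T D chk1 i = true := by
  intro i hi
  rw [Tab.relActOK, ← act1_eq]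
  exact (range_glue (range_of_allRange c1_0) (range_glue (range_of_allRange c1_1) (range_glue (range_of_allRange c1_2) (range_glue (range_of_allRange c1_3) (range_glue (range_of_allRange c1_4) (range_glue (range_of_allRange c1_5) (range_glue (range_of_allRange c1_6) (range_glue (range_of_allRange c1_7) (range_glue (range_of_allRange c1_8) (range_glue (range_of_allRange c1_9) (range_glue (range_of_allRange c1_10) (range_glue (range_of_allRange c1_11) (range_glue (range_of_allRange c1_12) (range_glue (range_of_allRange c1_13) (range_glue (range_of_allRange c1_14) (range_glue (range_of_allRange c1_15) (range_glue (range_of_allRange c1_16) (range_glue (range_of_allRange c1_17) (range_glue (range_of_allRange c1_18) (range_glue (range_of_allRange c1_19) (range_glue (range_of_allRange c1_20) (range_glue (range_of_allRange c1_21) (range_glue (range_of_allRange c1_22) (range_glue (range_of_allRange c1_23) (range_glue (range_of_allRange c1_24) (range_glue (range_of_allRange c1_25) (range_glue (range_of_allRange c1_26) (range_glue (range_of_allRange c1_27) (range_glue (range_of_allRange c1_28) (range_glue (range_of_allRange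 c1_29) (range_glue (range_of_allRange c1_30) (range_glue (range_of_allRange c1_31) (range_glue (range_of_allRange c1_32) (range_glue (range_of_allRange c1_33) (range_glue (range_of_allRange c1_34) (range_glue (range_of_allRange c1_35) (range_glue (range_of_allRange c1_36) (range_glue (range_of_allRange c1_37) (range_glue (range_of_allRange c1_38) (range_glue (range_of_allRange c1_39) (range_glue (range_of_allRange c1_40) (range_glue (range_of_allRange c1_41) (range_glue (range_of_allRange c1_42) (range_glue (range_of_allRange c1_43) (range_glue (range_of_allRange c1_44) (range_glue (range_of_allRange c1_45) (range_glue (range_of_allRange c1_46) (range_glue (range_of_allRange c1_47) (range_glue (range_of_allRange c1_48) (range_glue (range_of_allRange c1_49) (range_glue (range_of_allRange c1_50) (range_glue (range_of_allRange c1_51) (range_glue (range_of_allRange c1_52) (range_glue (range_of_allRange c1_53) (range_glue (range_of_allRange c1_54) (range_glue (range_of_allRange c1_55) (range_glue (range_of_allRange c1_56) (range_glue (range_of_allRange c1_57) (range_glue (range_of_allRange c1_58) (range_glue (range_of_allRange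 c1_59) (range_glue (range_of_allRange c1_60) (range_glue (range_of_allRange c1_61) (range_glue (range_of_allRange c1_62) (range_glue (range_of_allRange c1_63) (range_glue (range_of_allRange c1_64) (range_glue (range_of_allRange c1_65) (range_glue (range_of_allRange c1_66) (range_glue (range_of_allRange c1_67) (range_glue (range_of_allRange c1_68) (range_glue (range_of_allRange c1_69) (range_glue (range_of_allRange c1_70) (range_glue (range_of_allRange c1_71) (range_glue (range_of_allRange c1_72) (range_glue (range_of_allRange c1_73) (range_glue (range_of_allRange c1_74) (range_glue (range_of_allRange c1_75) (range_glue (range_of_allRange c1_76) (range_glue (range_of_allRange c1_77) (range_glue (range_of_allRange c1_78) (range_glue (range_of_allRange c1_79) (range_glue (range_of_allRange c1_80) (range_glue (range_of_allRange c1_81) (range_glue (range_of_allRange c1_82) (range_glue (range_of_allRange c1_83) (range_glue (range_of_allRange c1_84) (range_glue (range_of_allRange c1_85) (range_glue (range_of_allRange c1_86) (range_of_allRange c1_87))))))))))))))))))))))))))))))))))))))))))))))))))))))))))))))))))))))))))))))))))))))))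 i (Nat.zero_le _) hi

def chk2 : List Nat := [4, 4, 4, 4, 4, 4, 4, 4, 4, 4, 4, 4]
noncomputable def act2 (i : Nat) : Nat := col5 (col5 (col5 (col5 (col5 (col5 (col5 (col5 (col5 (col5 (col5 (col5 (i))))))))))))
theorem act2_eq (i : Nat) : act2 i = Tab.act T D chk2 i := rfl
theorem c2_0 : allRange (fun i => Nat.beq (act2 i) i) 0 4285 = true := by decide +kernel
theorem c2_1 : allRange (fun i => Nat.beq (act2 i) i) 4285 4285 = true := by decide +kernel
theorem c2_2 : allRange (fun i => Nat.beq (act2 i) i) 8570 4285 = true := by decide +kernel
theorem c2_3 : allRange (fun i => Nat.beq (act2 i) i) 12855 4285 = true := by decide +kernel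
theorem c2_4 : allRange (fun i => Nat.beq (act2 i) i) 17140 4285 = true := by decide +kernel
theorem c2_5 : allRange (fun i => Nat.beq (act2 i) i) 21425 4285 = true := by decide +kernel
theorem c2_6 : allRange (fun i => Nat.beq (act2 i) i) 25710 4285 = true := by decide +kernel
theorem c2_7 : allRange (fun i => Nat.beq (act2 i) i) 29995 4285 = true := by decide +kernel
theorem c2_8 : allRange (fun i => Nat.beq (act2 i) i) 34280 4285 = true := by decide +kernel
theorem c2_9 : allRange (fun i => Nat.beq (act2 i) i) 38565 4285 = true := by decide +kernel
theorem c2_10 : allRange (fun i => Nat.beq (act2 i) i) 42850 3230 = true := by decide +kernel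
theorem h2 : ∀ i, i < T.N → Tab.relActOK T D chk2 i = true := by
  intro i hi
  rw [Tab.relActOK, ← act2_eq]
  exact (range_glue (range_of_allRange c2_0) (range_glue (range_of_allRange c2_1) (range_glue (range_of_allRange c2_2) (range_glue (range_of_allRange c2_3) (range_glue (range_of_allRange c2_4) (range_glue (range_of_allRange c2_5) (range_glue (range_of_allRange c2_6) (range_glue (range_of_allRange c2_7) (range_glue (range_of_allRange c2_8) (range_glue (range_of_allRange c2_9) (range_of_allRange c2_10))))))))))) i (Nat.zero_le _) hi

def chk12 : List Nat := [0, 0, 7, 7, 4, 4, 4, 4]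
noncomputable def act12 (i : Nat) : Nat := col1 (col1 (col6 (col6 (col5 (col5 (col5 (col5 (i))))))))
theorem act12_eq (i : Nat) : act12 i = Tab.act T D chk12 i := rfl
theorem c12_0 : allRange (fun i => Nat.beq (act12 i) i) 0 6000 = true := by decide +kernel
theorem c12_1 : allRange (fun i => Nat.beq (act12 i) i) 6000 6000 = true := by decide +kernel
theorem c12_2 : allRange (fun i => Nat.beq (act12 i) i) 12000 6000 = true := by decide +kernel
theorem c12_3 : allRange (fun i => Nat.beq (act12 i) i) 18000 6000 = true := by decide +kernel
theorem c12_4 : allRange (fun i => Nat.beq (act12 i) i) 24000 6000 = true := by decide +kernel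
theorem c12_5 : allRange (fun i => Nat.beq (act12 i) i) 30000 6000 = true := by decide +kernel
theorem c12_6 : allRange (fun i => Nat.beq (act12 i) i) 36000 6000 = true := by decide +kernel
theorem c12_7 : allRange (fun i => Nat.beq (act12 i) i) 42000 4080 = true := by decide +kernel
theorem h12 : ∀ i, i < T.N → Tab.relActOK T D chk12 i = true := by
  intro i hi
  rw [Tab.relActOK, ← act12_eq]
  exact (range_glue (range_of_allRange c12_0) (range_glue (range_of_allRange c12_1) (range_glue (range_of_allRange c12_2) (range_glue (range_of_allRange c12_3) (range_glue (range_of_allRange c12_4) (range_glue (range_of_allRange c12_5) (range_glue (range_of_allRange c12_6) (range_of_allRange c12_7)))))))) i (Nat.zero_le _) hi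

def chk15 : List Nat := [6, 6, 6, 6]
noncomputable def act15 (i : Nat) : Nat := col7 (col7 (col7 (col7 (i))))
theorem act15_eq (i : Nat) : act15 i = Tab.act T D chk15 i := rfl
theorem c15_0 : allRange (fun i => Nat.beq (act15 i) i) 0 10000 = true := by decide +kernel
theorem c15_1 : allRange (fun i => Nat.beq (act15 i) i) 10000 10000 = true := by decide +kernel
theorem c15_2 : allRange (fun i => Nat.beq (act15 i) i) 20000 10000 = true := by decide +kernel
theorem c15_3 : allRange (fun i => Nat.beq (act15 i) i) 30000 10000 = true := by decide +kernel
theorem c15_4 : allRange (fun i => Nat.beq (act15 i) i) 40000 6080 = true := by decide +kernel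
theorem h15 : ∀ i, i < T.N → Tab.relActOK T D chk15 i = true := by
  intro i hi
  rw [Tab.relActOK, ← act15_eq]
  exact (range_glue (range_of_allRange c15_0) (range_glue (range_of_allRange c15_1) (range_glue (range_of_allRange c15_2) (range_glue (range_of_allRange c15_3) (range_of_allRange c15_4))))) i (Nat.zero_le _) hi

def chk20 : List Nat := [5, 7, 4, 6]
noncomputable def act20 (i : Nat) : Nat := col4 (col6 (col5 (col7 (i))))
theorem act20_eq (i : Nat) : act20 i = Tab.act T D chk20 i := rfl
theorem c20_0 : allRange (fun i => Nat.beq (act20 i) i) 0 10000 = true := by decide +kernel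
theorem c20_1 : allRange (fun i => Nat.beq (act20 i) i) 10000 10000 = true := by decide +kernel
theorem c20_2 : allRange (fun i => Nat.beq (act20 i) i) 20000 10000 = true := by decide +kernel
theorem c20_3 : allRange (fun i => Nat.beq (act20 i) i) 30000 10000 = true := by decide +kernel
theorem c20_4 : allRange (fun i => Nat.beq (act20 i) i) 40000 6080 = true := by decide +kernel
theorem h20 : ∀ i, i < T.N → Tab.relActOK T D chk20 i = true := by
  intro i hi
  rw [Tab.relActOK, ← act20_eq]
  exact (range_glue (range_of_allRange c20_0) (range_glue (range_of_allRange c20_1) (range_glue (range_of_allRange c20_2) (range_glue (range_of_allRange c20_3) (range_of_allRange c20_4))))) i (Nat.zero_le _) hi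

def chk24 : List Nat := [0, 4, 4, 4, 4, 4, 7, 0, 4, 4, 4, 4, 4, 7, 0, 4, 4, 4, 4, 4, 7, 0, 4, 4, 4, 4, 4, 7]
noncomputable def act24 (i : Nat) : Nat := col1 (col5 (col5 (col5 (col5 (col5 (col6 (col1 (col5 (col5 (col5 (col5 (col5 (col6 (col1 (col5 (col5 (col5 (col5 (col5 (col6 (col1 (col5 (col5 (col5 (col5 (col5 (col6 (i))))))))))))))))))))))))))))
theorem act24_eq (i : Nat) : act24 i = Tab.act T D chk24 i := rfl
theorem c24_0 : allRange (fun i => Nat.beq (act24 i) i) 0 2000 = true := by decide +kernel
theorem c24_1 : allRange (fun i => Nat.beq (act24 i) i) 2000 2000 = true := by decide +kernel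
theorem c24_2 : allRange (fun i => Nat.beq (act24 i) i) 4000 2000 = true := by decide +kernel
theorem c24_3 : allRange (fun i => Nat.beq (act24 i) i) 6000 2000 = true := by decide +kernel
theorem c24_4 : allRange (fun i => Nat.beq (act24 i) i) 8000 2000 = true := by decide +kernel
theorem c24_5 : allRange (fun i => Nat.beq (act24 i) i) 10000 2000 = true := by decide +kernel
theorem c24_6 : allRange (fun i => Nat.beq (act24 i) i) 12000 2000 = true := by decide +kernel
theorem c24_7 : allRange (fun i => Nat.beq (act24 i) i) 14000 2000 = true := by decide +kernel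
theorem c24_8 : allRange (fun i => Nat.beq (act24 i) i) 16000 2000 = true := by decide +kernel
theorem c24_9 : allRange (fun i => Nat.beq (act24 i) i) 18000 2000 = true := by decide +kernel
theorem c24_10 : allRange (fun i => Nat.beq (act24 i) i) 20000 2000 = true := by decide +kernel
theorem c24_11 : allRange (fun i => Nat.beq (act24 i) i) 22000 2000 = true := by decide +kernel
theorem c24_12 : allRange (fun i => Nat.beq (act24 i) i) 24000 2000 = true := by decide +kernel
theorem c24_13 : allRange (fun i => Nat.beq (act24 i) i) 26000 2000 = true := by decide +kernel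
theorem c24_14 : allRange (fun i => Nat.beq (act24 i) i) 28000 2000 = true := by decide +kernel
theorem c24_15 : allRange (fun i => Nat.beq (act24 i) i) 30000 2000 = true := by decide +kernel
theorem c24_16 : allRange (fun i => Nat.beq (act24 i) i) 32000 2000 = true := by decide +kernel
theorem c24_17 : allRange (fun i => Nat.beq (act24 i) i) 34000 2000 = true := by decide +kernel
theorem c24_18 : allRange (fun i => Nat.beq (act24 i) i) 36000 2000 = true := by decide +kernel
theorem c24_19 : allRange (fun i => Nat.beq (act24 i) i) 38000 2000 = true := by decide +kernel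
theorem c24_20 : allRange (fun i => Nat.beq (act24 i) i) 40000 2000 = true := by decide +kernel
theorem c24_21 : allRange (fun i => Nat.beq (act24 i) i) 42000 2000 = true := by decide +kernel
theorem c24_22 : allRange (fun i => Nat.beq (act24 i) i) 44000 2000 = true := by decide +kernel
theorem c24_23 : allRange (fun i => Nat.beq (act24 i) i) 46000 80 = true := by decide +kernel
theorem h24 : ∀ i, i < T.N → Tab.relActOK T D chk24 i = true := by
  intro i hi
  rw [Tab.relActOK, ← act24_eq]
  exact (range_glue (range_of_allRange c24_0) (range_glue (range_of_allRange c24_1) (range_glue (range_of_allRange c24_2) (range_glue (range_of_allRange c24_3) (range_glue (range_of_allRange c24_4) (range_glue (range_of_allRange c24_5) (range_glue (range_of_allRange c24_6) (range_glue (range_of_allRange c24_7) (range_glue (range_of_allRange c24_8) (range_glue (range_of_allRange c24_9) (range_glue (range_of_allRange c24_10) (range_glue (range_of_allRange c24_11) (range_glue (range_of_allRange c24_12) (range_glue (range_of_allRange c24_13) (range_glue (range_of_allRange c24_14) (range_glue (range_of_allRange c24_15) (range_glue (range_of_allRange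 c24_16) (range_glue (range_of_allRange c24_17) (range_glue (range_of_allRange c24_18) (range_glue (range_of_allRange c24_19) (range_glue (range_of_allRange c24_20) (range_glue (range_of_allRange c24_21) (range_glue (range_of_allRange c24_22) (range_of_allRange c24_23)))))))))))))))))))))))) i (Nat.zero_le _) hi

end Cfsg.Agent.Lib.Helper4.TCD.SC48L34p3W
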