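import Cfsg.Agent.Lib.Helper4.TCD_C48L34R_Acc
import Cfsg.Agent.Lib.Helper4.TC13

namespace Cfsg.Agent.Lib.Helper4.TCD.SC48L34p3W

open Cfsg.Agent.Lib.Helper4.TC Cfsg.Agent.Lib.Helper4.TCD.C48L34R

set_option maxRecDepth 100000
set_option Elab.async false

def chk0 : List Nat := [0, 4, 4, 4, 4, 4, 7, 0, 4, 4, 4, 4, 4, 7, 0, 4, 4, 4, 4, 4, 7, 0, 4, 4, 4, 4, 4, 7]
noncomputable def act0 (i : Nat) : Nat := col1 (col5 (col5 (col5 (col5 (col5 (col6 (col1 (col5 (col5 (col5 (col5 (col5 (col6 (col1 (col5 (col5 (col5 (col5 (col5 (col6 (col1 (col5 (col5 (col5 (col5 (col5 (col6 (i))))))))))))))))))))))))))))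
theorem act0_eq (i : Nat) : act0 i = Tab.act T D chk0 i := rfl
theorem c0_0 : allRange (fun i => Nat.beq (act0 i) i) 0 2000 = true := by decide +kernel
theorem c0_1 : allRange (fun i => Nat.beq (act0 i) i) 2000 2000 = true := by decide +kernel
theorem c0_2 : allRange (fun i => Nat.beq (act0 i) i) 4000 2000 = true := by decide +kernel
theorem c0_3 : allRange (fun i => Nat.beq (act0 i) i) 6000 2000 = true := by decide +kernel
theorem c0_4 : allRange (fun i => Nat.beq (act0 i) i) 8000 2000 = true := by decide +kernel
theorem c0_5 : allRange (fun i => Nat.beq (act0 i) i) 10000 2000 = true := by decide +kernel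
theorem c0_6 : allRange (fun i => Nat.beq (act0 i) i) 12000 2000 = true := by decide +kernel
theorem c0_7 : allRange (fun i => Nat.beq (act0 i) i) 14000 2000 = true := by decide +kernel
theorem c0_8 : allRange (fun i => Nat.beq (act0 i) i) 16000 2000 = true := by decide +kernel
theorem c0_9 : allRange (fun i => Nat.beq (act0 i) i) 18000 2000 = true := by decide +kernel
theorem c0_10 : allRange (fun i => Nat.beq (act0 i) i) 20000 2000 = true := by decide +kernel
theorem c0_11 : allRange (fun i => Nat.beq (act0 i) i) 22000 2000 = true := by decide +kernel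
theorem c0_12 : allRange (fun i => Nat.beq (act0 i) i) 24000 2000 = true := by decide +kernel
theorem c0_13 : allRange (fun i => Nat.beq (act0 i) i) 26000 2000 = true := by decide +kernel
theorem c0_14 : allRange (fun i => Nat.beq (act0 i) i) 28000 2000 = true := by decide +kernel
theorem c0_15 : allRange (fun i => Nat.beq (act0 i) i) 30000 2000 = true := by decide +kernel
theorem c0_16 : allRange (fun i => Nat.beq (act0 i) i) 32000 2000 = true := by decide +kernel
theorem c0_17 : allRange (fun i => Nat.beq (act0 i) i) 34000 2000 = true := by decide +kernel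
theorem c0_18 : allRange (fun i => Nat.beq (act0 i) i) 36000 2000 = true := by decide +kernel
theorem c0_19 : allRange (fun i => Nat.beq (act0 i) i) 38000 2000 = true := by decide +kernel
theorem c0_20 : allRange (fun i => Nat.beq (act0 i) i) 40000 2000 = true := by decide +kernel
theorem c0_21 : allRange (fun i => Nat.beq (act0 i) i) 42000 2000 = true := by decide +kernel
theorem c0_22 : allRange (fun i => Nat.beq (act0 i) i) 44000 2000 = true := by decide +kernel
theorem c0_23 : allRange (fun i => Nat.beq (act0 i) i) 46000 80 = true := by decide +kernel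
theorem h0 : ∀ i, i < T.N → Tab.relActOK T D chk0 i = true := by
  intro i hi
  rw [Tab.relActOK, ← act0_eq]
  exact (range_glue (range_of_allRange c0_0) (range_glue (range_of_allRange c0_1) (range_glue (range_of_allRange c0_2) (range_glue (range_of_allRange c0_3) (range_glue (range_of_allRange c0_4) (range_glue (range_of_allRange c0_5) (range_glue (range_of_allRange c0_6) (range_glue (range_of_allRange c0_7) (range_glue (range_of_allRange c0_8) (range_glue (range_of_allRange c0_9) (range_glue (range_of_allRange c0_10) (range_glue (range_of_allRange c0_11) (range_glue (range_of_allRange c0_12) (range_glue (range_of_allRange c0_13) (range_glue (range_of_allRange c0_14) (range_glue (range_of_allRange c0_15) (range_glue (range_of_allRange c0_16) (range_glue (range_of_allRange c0_17) (range_glue (range_of_allRange c0_18) (range_glue (range_of_allRange c0_19) (range_glue (range_of_allRange c0_20) (range_glue (range_of_allRange c0_21) (range_glue (range_of_allRange c0_22) (range_of_allRange c0_23)))))))))))))))))))))))) i (Nat.zero_le _) hi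

def chk6 : List Nat := [0, 2, 3, 1]
noncomputable def act6 (i : Nat) : Nat := col1 (col3 (col2 (col0 (i))))
theorem act6_eq (i : Nat) : act6 i = Tab.act T D chk6 i := rfl
theorem c6_0 : allRange (fun i => Nat.beq (act6 i) i) 0 10000 = true := by decide +kernel
theorem c6_1 : allRange (fun i => Nat.beq (act6 i) i) 10000 10000 = true := by decide +kernel
theorem c6_2 : allRange (fun i => Nat.beq (act6 i) i) 20000 10000 = true := by decide +kernel
theorem c6_3 : allRange (fun i => Nat.beq (act6 i) i) 30000 10000 = true := by decide +kernel
theorem c6_4 : allRange (fun i => Nat.beq (act6 i) i) 40000 6080 = true := by decide +kernel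
theorem h6 : ∀ i, i < T.N → Tab.relActOK T D chk6 i = true := by
  intro i hi
  rw [Tab.relActOK, ← act6_eq]
  exact (range_glue (range_of_allRange c6_0) (range_glue (range_of_allRange c6_1) (range_glue (range_of_allRange c6_2) (range_glue (range_of_allRange c6_3) (range_of_allRange c6_4))))) i (Nat.zero_le _) hi

def chk7 : List Nat := [0, 2, 0, 2, 0, 2, 2, 0, 3, 0, 2, 0, 2, 0, 2, 2, 0, 3, 0, 2, 0, 2, 0, 2, 2, 0, 3, 0, 2, 0, 2, 0, 2, 2, 0, 3, 0, 2, 0, 2, 0, 2, 2, 0, 3, 5]
noncomputable def act7 (i : Nat) : Nat := col1 (col3 (col1 (col3 (col1 (col3 (col3 (col1 (col2 (col1 (col3 (col1 (col3 (col1 (col3 (col3 (col1 (col2 (col1 (col3 (col1 (col3 (col1 (col3 (col3 (col1 (col2 (col1 (col3 (col1 (col3 (col1 (col3 (col3 (col1 (col2 (col1 (col3 (col1 (col3 (col1 (col3 (col3 (col1 (col2 (col4 (i))))))))))))))))))))))))))))))))))))))))))))))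
theorem act7_eq (i : Nat) : act7 i = Tab.act T D chk7 i := rfl
theorem c7_0 : allRange (fun i => Nat.beq (act7 i) i) 0 1250 = true := by decide +kernel
theorem c7_1 : allRange (fun i => Nat.beq (act7 i) i) 1250 1250 = true := by decide +kernel
theorem c7_2 : allRange (fun i => Nat.beq (act7 i) i) 2500 1250 = true := by decide +kernel
theorem c7_3 : allRange (fun i => Nat.beq (act7 i) i) 3750 1250 = true := by decide +kernel
theorem c7_4 : allRange (fun i => Nat.beq (act7 i) i) 5000 1250 = true := by decide +kernel
theorem c7_5 : allRange (fun i => Nat.beq (act7 i) i) 6250 1250 = true := by decide +kernel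
theorem c7_6 : allRange (fun i => Nat.beq (act7 i) i) 7500 1250 = true := by decide +kernel
theorem c7_7 : allRange (fun i => Nat.beq (act7 i) i) 8750 1250 = true := by decide +kernel
theorem c7_8 : allRange (fun i => Nat.beq (act7 i) i) 10000 1250 = true := by decide +kernel
theorem c7_9 : allRange (fun i => Nat.beq (act7 i) i) 11250 1250 = true := by decide +kernel
theorem c7_10 : allRange (fun i => Nat.beq (act7 i) i) 12500 1250 = true := by decide +kernel
theorem c7_11 : allRange (fun i => Nat.beq (act7 i) i) 13750 1250 = true := by decide +kernel
theorem c7_12 : allRange (fun i => Nat.beq (act7 i) i) 15000 1250 = true := by decide +kernel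
theorem c7_13 : allRange (fun i => Nat.beq (act7 i) i) 16250 1250 = true := by decide +kernel
theorem c7_14 : allRange (fun i => Nat.beq (act7 i) i) 17500 1250 = true := by decide +kernel
theorem c7_15 : allRange (fun i => Nat.beq (act7 i) i) 18750 1250 = true := by decide +kernel
theorem c7_16 : allRange (fun i => Nat.beq (act7 i) i) 20000 1250 = true := by decide +kernel
theorem c7_17 : allRange (fun i => Nat.beq (act7 i) i) 21250 1250 = true := by decide +kernel
theorem c7_18 : allRange (fun i => Nat.beq (act7 i) i) 22500 1250 = true := by decide +kernel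
theorem c7_19 : allRange (fun i => Nat.beq (act7 i) i) 23750 1250 = true := by decide +kernel
theorem c7_20 : allRange (fun i => Nat.beq (act7 i) i) 25000 1250 = true := by decide +kernel
theorem c7_21 : allRange (fun i => Nat.beq (act7 i) i) 26250 1250 = true := by decide +kernel
theorem c7_22 : allRange (fun i => Nat.beq (act7 i) i) 27500 1250 = true := by decide +kernel
theorem c7_23 : allRange (fun i => Nat.beq (act7 i) i) 28750 1250 = true := by decide +kernel
theorem c7_24 : allRange (fun i => Nat.beq (act7 i) i) 30000 1250 = true := by decide +kernel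
theorem c7_25 : allRange (fun i => Nat.beq (act7 i) i) 31250 1250 = true := by decide +kernel
theorem c7_26 : allRange (fun i => Nat.beq (act7 i) i) 32500 1250 = true := by decide +kernel
theorem c7_27 : allRange (fun i => Nat.beq (act7 i) i) 33750 1250 = true := by decide +kernel
theorem c7_28 : allRange (fun i => Nat.beq (act7 i) i) 35000 1250 = true := by decide +kernel
theorem c7_29 : allRange (fun i => Nat.beq (act7 i) i) 36250 1250 = true := by decide +kernel
theorem c7_30 : allRange (fun i => Nat.beq (act7 i) i) 37500 1250 = true := by decide +kernel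
theorem c7_31 : allRange (fun i => Nat.beq (act7 i) i) 38750 1250 = true := by decide +kernel
theorem c7_32 : allRange (fun i => Nat.beq (act7 i) i) 40000 1250 = true := by decide +kernel
theorem c7_33 : allRange (fun i => Nat.beq (act7 i) i) 41250 1250 = true := by decide +kernel
theorem c7_34 : allRange (fun i => Nat.beq (act7 i) i) 42500 1250 = true := by decide +kernel
theorem c7_35 : allRange (fun i => Nat.beq (act7 i) i) 43750 1250 = true := by decide +kernel
theorem c7_36 : allRange (fun i => Nat.beq (act7 i) i) 45000 1080 = true := by decide +kernel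
theorem h7 : ∀ i, i < T.N → Tab.relActOK T D chk7 i = true := by
  intro i hi
  rw [Tab.relActOK, ← act7_eq]
  exact (range_glue (range_of_allRange c7_0) (range_glue (range_of_allRange c7_1) (range_glue (range_of_allRange c7_2) (range_glue (range_of_allRange c7_3) (range_glue (range_of_allRange c7_4) (range_glue (range_of_allRange c7_5) (range_glue (range_of_allRange c7_6) (range_glue (range_of_allRange c7_7) (range_glue (range_of_allRange c7_8) (range_glue (range_of_allRange c7_9) (range_glue (range_of_allRange c7_10) (range_glue (range_of_allRange c7_11) (range_glue (range_of_allRange c7_12) (range_glue (range_of_allRange c7_13) (range_glue (range_of_allRange c7_14) (range_glue (range_of_allRange c7_15) (range_glue (range_of_allRange c7_16) (range_glue (range_of_allRange c7_17) (range_glue (range_of_allRange c7_18) (range_glue (range_of_allRange c7_19) (range_glue (range_of_allRange c7_20) (range_glue (range_of_allRange c7_21) (range_glue (range_of_allRange c7_22) (range_glue (range_of_allRange c7_23) (range_glue (range_of_allRange c7_24) (range_glue (range_of_allRange c7_25) (range_glue (range_of_allRange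 c7_26) (range_glue (range_of_allRange c7_27) (range_glue (range_of_allRange c7_28) (range_glue (range_of_allRange c7_29) (range_glue (range_of_allRange c7_30) (range_glue (range_of_allRange c7_31) (range_glue (range_of_allRange c7_32) (range_glue (range_of_allRange c7_33) (range_glue (range_of_allRange c7_34) (range_glue (range_of_allRange c7_35) (range_of_allRange c7_36))))))))))))))))))))))))))))))))))))) i (Nat.zero_le _) hi

def chk8 : List Nat := [0, 2, 0, 2, 2, 0, 2, 0, 2, 2, 0, 2, 0, 2, 2, 0, 2, 0, 2, 2, 0, 2, 0, 2, 2, 0, 2, 0, 2, 2, 0, 2, 0, 2, 2, 7]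
noncomputable def act8 (i : Nat) : Nat := col1 (col3 (col1 (col3 (col3 (col1 (col3 (col1 (col3 (col3 (col1 (col3 (col1 (col3 (col3 (col1 (col3 (col1 (col3 (col3 (col1 (col3 (col1 (col3 (col3 (col1 (col3 (col1 (col3 (col3 (col1 (col3 (col1 (col3 (col3 (col6 (i))))))))))))))))))))))))))))))))))))
theorem act8_eq (i : Nat) : act8 i = Tab.act T D chk8 i := rfl
theorem c8_0 : allRange (fun i => Nat.beq (act8 i) i) 0 1578 = true := by decide +kernel
theorem c8_1 : allRange (fun i => Nat.beq (act8 i) i) 1578 1578 = true := by decide +kernel
theorem c8_2 : allRange (fun i => Nat.beq (act8 i) i) 3156 1578 = true := by decide +kernel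
theorem c8_3 : allRange (fun i => Nat.beq (act8 i) i) 4734 1578 = true := by decide +kernel
theorem c8_4 : allRange (fun i => Nat.beq (act8 i) i) 6312 1578 = true := by decide +kernel
theorem c8_5 : allRange (fun i => Nat.beq (act8 i) i) 7890 1578 = true := by decide +kernel
theorem c8_6 : allRange (fun i => Nat.beq (act8 i) i) 9468 1578 = true := by decide +kernel
theorem c8_7 : allRange (fun i => Nat.beq (act8 i) i) 11046 1578 = true := by decide +kernel
theorem c8_8 : allRange (fun i => Nat.beq (act8 i) i) 12624 1578 = true := by decide +kernel
theorem c8_9 : allRange (fun i => Nat.beq (act8 i) i) 14202 1578 = true := by decide +kernel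
theorem c8_10 : allRange (fun i => Nat.beq (act8 i) i) 15780 1578 = true := by decide +kernel
theorem c8_11 : allRange (fun i => Nat.beq (act8 i) i) 17358 1578 = true := by decide +kernel
theorem c8_12 : allRange (fun i => Nat.beq (act8 i) i) 18936 1578 = true := by decide +kernel
theorem c8_13 : allRange (fun i => Nat.beq (act8 i) i) 20514 1578 = true := by decide +kernel
theorem c8_14 : allRange (fun i => Nat.beq (act8 i) i) 22092 1578 = true := by decide +kernel
theorem c8_15 : allRange (fun i => Nat.beq (act8 i) i) 23670 1578 = true := by decide +kernel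
theorem c8_16 : allRange (fun i => Nat.beq (act8 i) i) 25248 1578 = true := by decide +kernel
theorem c8_17 : allRange (fun i => Nat.beq (act8 i) i) 26826 1578 = true := by decide +kernel
theorem c8_18 : allRange (fun i => Nat.beq (act8 i) i) 28404 1578 = true := by decide +kernel
theorem c8_19 : allRange (fun i => Nat.beq (act8 i) i) 29982 1578 = true := by decide +kernel
theorem c8_20 : allRange (fun i => Nat.beq (act8 i) i) 31560 1578 = true := by decide +kernel
theorem c8_21 : allRange (fun i => Nat.beq (act8 i) i) 33138 1578 = true := by decide +kernel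
theorem c8_22 : allRange (fun i => Nat.beq (act8 i) i) 34716 1578 = true := by decide +kernel
theorem c8_23 : allRange (fun i => Nat.beq (act8 i) i) 36294 1578 = true := by decide +kernel
theorem c8_24 : allRange (fun i => Nat.beq (act8 i) i) 37872 1578 = true := by decide +kernel
theorem c8_25 : allRange (fun i => Nat.beq (act8 i) i) 39450 1578 = true := by decide +kernel
theorem c8_26 : allRange (fun i => Nat.beq (act8 i) i) 41028 1578 = true := by decide +kernel
theorem c8_27 : allRange (fun i => Nat.beq (act8 i) i) 42606 1578 = true := by decide +kernel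
theorem c8_28 : allRange (fun i => Nat.beq (act8 i) i) 44184 1578 = true := by decide +kernel
theorem c8_29 : allRange (fun i => Nat.beq (act8 i) i) 45762 318 = true := by decide +kernel
theorem h8 : ∀ i, i < T.N → Tab.relActOK T D chk8 i = true := by
  intro i hi
  rw [Tab.relActOK, ← act8_eq]
  exact (range_glue (range_of_allRange c8_0) (range_glue (range_of_allRange c8_1) (range_glue (range_of_allRange c8_2) (range_glue (range_of_allRange c8_3) (range_glue (range_of_allRange c8_4) (range_glue (range_of_allRange c8_5) (range_glue (range_of_allRange c8_6) (range_glue (range_of_allRange c8_7) (range_glue (range_of_allRange c8_8) (range_glue (range_of_allRange c8_9) (range_glue (range_of_allRange c8_10) (range_glue (range_of_allRange c8_11) (range_glue (range_of_allRange c8_12) (range_glue (range_of_allRange c8_13) (range_glue (range_of_allRange c8_14) (range_glue (range_of_allRange c8_15) (range_glue (range_of_allRange c8_16) (range_glue (range_of_allRange c8_17) (range_glue (range_of_allRange c8_18) (range_glue (range_of_allRange c8_19) (range_glue (range_of_allRange c8_20) (range_glue (range_of_allRange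 c8_21) (range_glue (range_of_allRange c8_22) (range_glue (range_of_allRange c8_23) (range_glue (range_of_allRange c8_24) (range_glue (range_of_allRange c8_25) (range_glue (range_of_allRange c8_26) (range_glue (range_of_allRange c8_27) (range_glue (range_of_allRange c8_28) (range_of_allRange c8_29)))))))))))))))))))))))))))))) i (Nat.zero_le _) hi

def chk9 : List Nat := [6, 5, 5, 5, 5, 5, 1, 0, 4, 4, 4, 4, 4, 7]
noncomputable def act9 (i : Nat) : Nat := col7 (col4 (col4 (col4 (col4 (col4 (col0 (col1 (col5 (col5 (col5 (col5 (col5 (col6 (i))))))))))))))
theorem act9_eq (i : Nat) : act9 i = Tab.act T D chk9 i := rfl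
theorem c9_0 : allRange (fun i => Nat.beq (act9 i) i) 0 3750 = true := by decide +kernel
theorem c9_1 : allRange (fun i => Nat.beq (act9 i) i) 3750 3750 = true := by decide +kernel
theorem c9_2 : allRange (fun i => Nat.beq (act9 i) i) 7500 3750 = true := by decide +kernel
theorem c9_3 : allRange (fun i => Nat.beq (act9 i) i) 11250 3750 = true := by decide +kernel
theorem c9_4 : allRange (fun i => Nat.beq (act9 i) i) 15000 3750 = true := by decide +kernel
theorem c9_5 : allRange (fun i => Nat.beq (act9 i) i) 18750 3750 = true := by decide +kernel
theorem c9_6 : allRange (fun i => Nat.beq (act9 i) i) 22500 3750 = true := by decide +kernel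
theorem c9_7 : allRange (fun i => Nat.beq (act9 i) i) 26250 3750 = true := by decide +kernel
theorem c9_8 : allRange (fun i => Nat.beq (act9 i) i) 30000 3750 = true := by decide +kernel
theorem c9_9 : allRange (fun i => Nat.beq (act9 i) i) 33750 3750 = true := by decide +kernel
theorem c9_10 : allRange (fun i => Nat.beq (act9 i) i) 37500 3750 = true := by decide +kernel
theorem c9_11 : allRange (fun i => Nat.beq (act9 i) i) 41250 3750 = true := by decide +kernel
theorem c9_12 : allRange (fun i => Nat.beq (act9 i) i) 45000 1080 = true := by decide +kernel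
theorem h9 : ∀ i, i < T.N → Tab.relActOK T D chk9 i = true := by
  intro i hi
  rw [Tab.relActOK, ← act9_eq]
  exact (range_glue (range_of_allRange c9_0) (range_glue (range_of_allRange c9_1) (range_glue (range_of_allRange c9_2) (range_glue (range_of_allRange c9_3) (range_glue (range_of_allRange c9_4) (range_glue (range_of_allRange c9_5) (range_glue (range_of_allRange c9_6) (range_glue (range_of_allRange c9_7) (range_glue (range_of_allRange c9_8) (range_glue (range_of_allRange c9_9) (range_glue (range_of_allRange c9_10) (range_glue (range_of_allRange c9_11) (range_of_allRange c9_12))))))))))))) i (Nat.zero_le _) hi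

def chk13 : List Nat := [2, 2, 2, 2, 7, 7, 5, 5, 5, 5]
noncomputable def act13 (i : Nat) : Nat := col3 (col3 (col3 (col3 (col6 (col6 (col4 (col4 (col4 (col4 (i))))))))))
theorem act13_eq (i : Nat) : act13 i = Tab.act T D chk13 i := rfl
theorem c13_0 : allRange (fun i => Nat.beq (act13 i) i) 0 5000 = true := by decide +kernel
theorem c13_1 : allRange (fun i => Nat.beq (act13 i) i) 5000 5000 = true := by decide +kernel
theorem c13_2 : allRange (fun i => Nat.beq (act13 i) i) 10000 5000 = true := by decide +kernel
theorem c13_3 : allRange (fun i => Nat.beq (act13 i) i) 15000 5000 = true := by decide +kernel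
theorem c13_4 : allRange (fun i => Nat.beq (act13 i) i) 20000 5000 = true := by decide +kernel
theorem c13_5 : allRange (fun i => Nat.beq (act13 i) i) 25000 5000 = true := by decide +kernel
theorem c13_6 : allRange (fun i => Nat.beq (act13 i) i) 30000 5000 = true := by decide +kernel
theorem c13_7 : allRange (fun i => Nat.beq (act13 i) i) 35000 5000 = true := by decide +kernel
theorem c13_8 : allRange (fun i => Nat.beq (act13 i) i) 40000 5000 = true := by decide +kernel
theorem c13_9 : allRange (fun i => Nat.beq (act13 i) i) 45000 1080 = true := by decide +kernel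
theorem h13 : ∀ i, i < T.N → Tab.relActOK T D chk13 i = true := by
  intro i hi
  rw [Tab.relActOK, ← act13_eq]
  exact (range_glue (range_of_allRange c13_0) (range_glue (range_of_allRange c13_1) (range_glue (range_of_allRange c13_2) (range_glue (range_of_allRange c13_3) (range_glue (range_of_allRange c13_4) (range_glue (range_of_allRange c13_5) (range_glue (range_of_allRange c13_6) (range_glue (range_of_allRange c13_7) (range_glue (range_of_allRange c13_8) (range_of_allRange c13_9)))))))))) i (Nat.zero_le _) hi

def chk17 : List Nat := [5, 3, 4, 2]
noncomputable def act17 (i : Nat) : Nat := col4 (col2 (col5 (col3 (i))))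
theorem act17_eq (i : Nat) : act17 i = Tab.act T D chk17 i := rfl
theorem c17_0 : allRange (fun i => Nat.beq (act17 i) i) 0 10000 = true := by decide +kernel
theorem c17_1 : allRange (fun i => Nat.beq (act17 i) i) 10000 10000 = true := by decide +kernel
theorem c17_2 : allRange (fun i => Nat.beq (act17 i) i) 20000 10000 = true := by decide +kernel
theorem c17_3 : allRange (fun i => Nat.beq (act17 i) i) 30000 10000 = true := by decide +kernel
theorem c17_4 : allRange (fun i => Nat.beq (act17 i) i) 40000 6080 = true := by decide +kernel
theorem h17 : ∀ i, i < T.N → Tab.relActOK T D chk17 i = true := by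
  intro i hi
  rw [Tab.relActOK, ← act17_eq]
  exact (range_glue (range_of_allRange c17_0) (range_glue (range_of_allRange c17_1) (range_glue (range_of_allRange c17_2) (range_glue (range_of_allRange c17_3) (range_of_allRange c17_4))))) i (Nat.zero_le _) hi

def chk22 : List Nat := [4, 4, 0, 4, 4, 4, 4, 4, 7, 5, 5, 6, 5, 5, 5, 5, 5, 1]
noncomputable def act22 (i : Nat) : Nat := col5 (col5 (col1 (col5 (col5 (col5 (col5 (col5 (col6 (col4 (col4 (col7 (col4 (col4 (col4 (col4 (col4 (col0 (i))))))))))))))))))
theorem act22_eq (i : Nat) : act22 i = Tab.act T D chk22 i := rfl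
theorem c22_0 : allRange (fun i => Nat.beq (act22 i) i) 0 3000 = true := by decide +kernel
theorem c22_1 : allRange (fun i => Nat.beq (act22 i) i) 3000 3000 = true := by decide +kernel
theorem c22_2 : allRange (fun i => Nat.beq (act22 i) i) 6000 3000 = true := by decide +kernel
theorem c22_3 : allRange (fun i => Nat.beq (act22 i) i) 9000 3000 = true := by decide +kernel
theorem c22_4 : allRange (fun i => Nat.beq (act22 i) i) 12000 3000 = true := by decide +kernel
theorem c22_5 : allRange (fun i => Nat.beq (act22 i) i) 15000 3000 = true := by decide +kernel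
theorem c22_6 : allRange (fun i => Nat.beq (act22 i) i) 18000 3000 = true := by decide +kernel
theorem c22_7 : allRange (fun i => Nat.beq (act22 i) i) 21000 3000 = true := by decide +kernel
theorem c22_8 : allRange (fun i => Nat.beq (act22 i) i) 24000 3000 = true := by decide +kernel
theorem c22_9 : allRange (fun i => Nat.beq (act22 i) i) 27000 3000 = true := by decide +kernel
theorem c22_10 : allRange (fun i => Nat.beq (act22 i) i) 30000 3000 = true := by decide +kernel
theorem c22_11 : allRange (fun i => Nat.beq (act22 i) i) 33000 3000 = true := by decide +kernel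
theorem c22_12 : allRange (fun i => Nat.beq (act22 i) i) 36000 3000 = true := by decide +kernel
theorem c22_13 : allRange (fun i => Nat.beq (act22 i) i) 39000 3000 = true := by decide +kernel
theorem c22_14 : allRange (fun i => Nat.beq (act22 i) i) 42000 3000 = true := by decide +kernel
theorem c22_15 : allRange (fun i => Nat.beq (act22 i) i) 45000 1080 = true := by decide +kernel
theorem h22 : ∀ i, i < T.N → Tab.relActOK T D chk22 i = true := by
  intro i hi
  rw [Tab.relActOK, ← act22_eq]
  exact (range_glue (range_of_allRange c22_0) (range_glue (range_of_allRange c22_1) (range_glue (range_of_allRange c22_2) (range_glue (range_of_allRange c22_3) (range_glue (range_of_allRange c22_4) (range_glue (range_of_allRange c22_5) (range_glue (range_of_allRange c22_6) (range_glue (range_of_allRange c22_7) (range_glue (range_of_allRange c22_8) (range_glue (range_of_allRange c22_9) (range_glue (range_of_allRange c22_10) (range_glue (range_of_allRange c22_11) (range_glue (range_of_allRange c22_12) (range_glue (range_of_allRange c22_13) (range_glue (range_of_allRange c22_14) (range_of_allRange c22_15))))))))))))))))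 i (Nat.zero_le _) hi

end Cfsg.Agent.Lib.Helper4.TCD.SC48L34p3W
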