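import Mathlib
import Cfsg.Agent.Lib.Helper4.C48L34Main
import Cfsg.Agent.Lib.Helper4.TCD_SC48L34p3A_Fin
import Cfsg.Agent.Lib.Helper4.TCD_SC48L34p3W
import Cfsg.Agent.Lib.Helper4.StemLib8
import Cfsg.Agent.Lib.Helper4.C48L34Sub

/-! `C48L34` has no stem extension with kernel of order 3 (generated). -/

namespace Cfsg.Agent.Lib.Helper4.SC48L34p3Main

open Cfsg.Agent.Lib.Helper4.TC Cfsg.Agent.Lib.Helper4.TCD Cfsg.Agent.Lib.Helper4.TC.Log Cfsg.Agent.Lib.Helper4.Stem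

/-- the description of the auxiliary presentation -/
def spec : Spec4 :=
  { p := 3
    items := [(0, [], 4),
      (2, [], 8),
      (4, [], 6),
      (6, [], 7),
      (8, [], 5),
      (10, [7, 8], 0),
      (12, [6, 11], 0),
      (14, [12, 10, 12, 10, 12, 10, 10, 12, 11, 12, 10, 12, 10, 12, 10, 10, 12, 11, 12, 10, 12, 10, 12, 10, 10, 12, 11, 12, 10, 12, 10, 12, 10, 10, 12, 11, 12, 10, 12, 10, 12, 10, 10, 12, 11], 0),
      (16, [12, 10, 12, 10, 10, 12, 10, 12, 10, 10, 12, 10, 12, 10, 10, 12, 10, 12, 10, 10, 12, 10, 12, 10, 10, 12, 10, 12, 10, 10, 12, 10, 12, 10, 10], 0),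
      (18, [1, 12, 14, 14, 14, 14, 14, 17], 0),
      (20, [3, 10, 12, 10, 12, 11, 12, 10, 15, 15, 15, 15, 15, 16, 16], 0),
      (22, [5, 14, 14], 0),
      (24, [12, 12, 17, 17, 14, 14, 14, 14], 0),
      (26, [10, 10, 10, 10, 17, 17, 15, 15, 15, 15], 0),
      (28, [14, 14, 14, 14, 14, 14, 14, 14, 14, 14, 14, 14], 0),
      (30, [16, 16, 16, 16], 0),
      (32, [15, 13, 14, 12], 0),
      (34, [15, 11, 14, 10], 0),
      (36, [17, 13, 16, 12], 0),
      (38, [17, 11, 16, 10], 0),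
      (40, [15, 17, 14, 16], 0)]
    cen := [18, 20, 22, 24, 26, 28, 30, 32, 34, 36, 38, 40]
    R := []
    sub := [0, 2, 4]
    PR := [[4, 4, 4, 4, 4, 4], [4, 0, 5, 1], [4, 2, 5, 3], [0, 0, 0, 0], [0, 0, 5, 5, 5], [2, 2, 2, 2, 5, 5, 5], [0, 2, 0, 2, 0, 2, 0, 2, 0, 2, 5, 5, 5, 5], [0, 2, 2, 0, 2, 2, 0, 2, 2, 0, 2, 2, 0, 2, 2]]
    XR := [] }

/-- the letters of the auxiliary presentation as words of the base group -/
def Wl (l : ℕ) : List ℕ :=
  [[0, 4, 4, 4, 4, 4, 7], [6, 5, 5, 5, 5, 5, 1], [2, 0, 2, 0, 3, 0, 2, 5, 5, 5, 5, 5, 6, 6], [7, 7, 4, 4, 4, 4, 4, 3, 1, 2, 1, 3, 1, 3], [4, 4], [5, 5], [0, 2], [3, 1], [0, 2, 2], [3, 3, 1], [2], [3], [0], [1], [4], [5], [6], [7], [], [], [], [], [], [], [], [], [], [], [], [], [], [], [], [], [], [], [], [], [], [], [], []].getD l []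

theorem checks_eq : checks spec.toSpec2 PC48L34.P.invR Wl ++ checksX spec PSC48L34p3.P.invR Wl = SC48L34p3W.chkAll := by decide +kernel

theorem sub_eq : Subgroup.closure (xw PC48L34.P Wl '' {l | l ∈ spec.sub}) = Inst.subG PC48L34.P C48L34B.subs := by
  rw [closure_xw_eq]
  rfl

set_option maxRecDepth 100000 in
theorem noStem : NoStemPrime PC48L34.P.Grp 3 := by
  obtain ⟨fG, hinj, hcard⟩ := C48L34Main.order_aux
  have hall : ∀ w ∈ checks spec.toSpec2 PC48L34.P.invR Wl ++ checksX spec PSC48L34p3.P.invR Wl, wordP PC48L34.P.gR w = 1 := by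
    rw [checks_eq]
    intro w hw
    exact C48L34R.prep.word_eq_one hinj w (SC48L34p3W.hAll_lt w hw) (SC48L34p3W.hAll w hw)
  exact noStemPrime_pres4 PC48L34.P PC48L34.valid PSC48L34p3.P PSC48L34p3.valid spec (by show Nat.Prime 3; norm_num) Wl
    (by decide +kernel) (by decide +kernel) (fun w hw => hall w (List.mem_append_left _ hw))
    (fun w hw => hall w (List.mem_append_right _ hw)) (by decide +kernel)
    (by rw [sub_eq]; exact C48L34Sub.liftsP_sub 3 (by norm_num))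
    2160 (by rw [sub_eq]; exact C48L34Sub.sub_card.2)
    448 (by decide) SC48L34p3A.index_eq fG 967680 hcard (by decide)

end Cfsg.Agent.Lib.Helper4.SC48L34p3Main
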