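import Mathlib
import Cfsg.Prelude.Def_KGroupFacts
import Cfsg.Agent.Lib.Helper4.L34pIso
import Cfsg.Agent.Lib.Helper4.C48L34Cover
import Cfsg.Agent.Lib.Helper4.SC48L34p2Main
import Cfsg.Agent.Lib.Helper4.SC48L34p3Main

/-!
The presented group `C48L34` has no stem extension with kernel of prime order, and the Schur multiplier of the
projective special linear group of degree 3 over a field with 4 elements is the product of cyclic groups of
orders 3, 4 and 4.
-/

set_option autoImplicit false

namespace Cfsg.Agent.Lib.Helper4.C48L34Stem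

open Cfsg Cfsg.Agent.Lib.Helper4.TC Cfsg.Agent.Lib.Helper4.TCD Cfsg.Agent.Lib.Helper4.TC.Log
  Cfsg.Agent.Lib.Helper4.Stem

/-- no stem extension with kernel of prime order -/
theorem noStem : ∀ p, p.Prime → NoStemPrime PC48L34.P.Grp p := by
  obtain ⟨fG, _, hcard⟩ := C48L34Main.order_aux
  have := fG
  apply noStemPrime_all PC48L34.P.Grp [2, 3]
  · intro p hp
    simp only [List.mem_cons, List.not_mem_nil, or_false] at hp
    rcases hp with rfl | rfl
    · exact SC48L34p2Main.noStem
    · exact SC48L34p3Main.noStem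
  · rw [hcard]
    exact sq_dvd_mem_of_factors 967680 [2, 2, 2, 2, 2, 2, 2, 2, 2, 2, 3, 3, 3, 5, 7] (by norm_num) (by decide) [2, 3]
      (by decide)

/-- the Schur multiplier of `PSL₃` over a field with 4 elements is the product of cyclic groups of orders 3, 4
and 4 -/
theorem hasMult {F : Type*} [Field F] [Fintype F] (hF : Fintype.card F = 4) :
    Cfsg.HasSchurMultiplier (Matrix.ProjectiveSpecialLinearGroup (Fin 3) F)
      (Multiplicative (ZMod 3 × ZMod 4 × ZMod 4)) := by
  obtain ⟨e⟩ := L34pIso.iso hF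
  obtain ⟨fG, _, _⟩ := C48L34Main.order_aux
  have := fG
  obtain ⟨fL, _⟩ := L34pMain.order_aux
  have := fL
  have : Finite (Matrix.ProjectiveSpecialLinearGroup (Fin 3) F) := Finite.of_equiv _ e.toEquiv
  let τ : PC48L34.P.Grp →* Matrix.ProjectiveSpecialLinearGroup (Fin 3) F :=
    e.toMonoidHom.comp C48L34Cover.π
  have hker : τ.ker = C48L34Cover.π.ker := by
    ext x
    rw [MonoidHom.mem_ker, MonoidHom.mem_ker]
    show e (C48L34Cover.π x) = 1 ↔ _
    exact EmbeddingLike.map_eq_one_iff
  have hτ : IsStemExtension τ := by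
    refine ⟨?_, ?_, ?_⟩
    · exact e.surjective.comp C48L34Cover.isStem.1
    · rw [hker]
      exact C48L34Cover.isStem.2.1
    · rw [hker]
      exact C48L34Cover.isStem.2.2
  obtain ⟨ek⟩ := C48L34Cover.ker_equiv
  have ek' : τ.ker ≃* Multiplicative (ZMod 3 × ZMod 4 × ZMod 4) := (MulEquiv.subgroupCongr hker).trans ek
  exact hasSchurMultiplier_of_cover PC48L34.P.Grp τ hτ ek' noStem

end Cfsg.Agent.Lib.Helper4.C48L34Stem
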