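import Mathlib
import Cfsg.Agent.Lib.Helper4.Sp62pMain
import Cfsg.Agent.Lib.Helper4.TCD_O82pA_Fin
import Cfsg.Agent.Lib.Helper4.TCD_O82pL_Fin
import Cfsg.Agent.Lib.Helper4.TC23
import Cfsg.Agent.Lib.Helper4.TC16
import Cfsg.Agent.Lib.Helper4.RelLib
import Cfsg.Agent.Lib.Helper4.StemLib6

/-! The presented group `O82p` has order 174182400 and contains the presented group `Sp62p` (generated). -/

namespace Cfsg.Agent.Lib.Helper4.O82pMain

open Cfsg.Agent.Lib.Helper4.TC Cfsg.Agent.Lib.Helper4.TCD Cfsg.Agent.Lib.Helper4.TC.Log Cfsg.Agent.Lib.Helper4.Stem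

/-- the letters of `Sp62p` as letters of `O82p` -/
def embK (l : ℕ) : ℕ := [0, 1, 2, 3].getD l 6

theorem real_subK : ∀ L ∈ PSp62p.P.real, L.map embK ∈ PO82p.P.real := by decide +kernel

theorem embK_emb : LetterEmb PSp62p.P PO82p.P embK where
  hP := PSp62p.valid
  hQ := PO82p.valid
  hlt := by
    intro l hl
    have hl : l < 4 := hl
    show embK l < 6
    interval_cases l <;> decide
  hinv := by
    intro l hl
    have hl : l < 4 := hl
    interval_cases l <;> rfl
  hrel := by
    intro L hL
    exact (PO82p.valid.real_sound _ (real_subK L hL)).2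

/-- the words generating `Sp62p` -/
def subsK : List (List ℕ) := [[0], [2]]

theorem subsK_map : subsK.map (List.map embK) = O82pA.subs := by decide

theorem subG_K_top : Inst.subG PSp62p.P subsK = ⊤ := by
  rw [eq_top_iff, ← PSp62p.valid.gen_top, Subgroup.closure_le]
  rintro _ ⟨l, hl, rfl⟩
  have hl : l < 4 := hl
  interval_cases l
  · exact Subgroup.subset_closure ⟨[0], by decide, by rw [wordP_cons, wordP_nil, mul_one]⟩
  · have h : PSp62p.P.gR 1 = (PSp62p.P.gR 0)⁻¹ := (PSp62p.valid.invR_sound 0 (by decide)).2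
    rw [h]
    exact Subgroup.inv_mem _ (Subgroup.subset_closure ⟨[0], by decide, by rw [wordP_cons, wordP_nil, mul_one]⟩)
  · exact Subgroup.subset_closure ⟨[2], by decide, by rw [wordP_cons, wordP_nil, mul_one]⟩
  · have h : PSp62p.P.gR 3 = (PSp62p.P.gR 2)⁻¹ := (PSp62p.valid.invR_sound 2 (by decide)).2
    rw [h]
    exact Subgroup.inv_mem _ (Subgroup.subset_closure ⟨[2], by decide, by rw [wordP_cons, wordP_nil, mul_one]⟩)

theorem range_hom : embK_emb.hom.range = Inst.subG PO82p.P O82pA.subs := by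
  rw [MonoidHom.range_eq_map, ← subG_K_top, embK_emb.map_subG subsK (by decide), subsK_map]

/-- the subgroup is an image of `Sp62p` -/
theorem sub_card : Finite (Inst.subG PO82p.P O82pA.subs) ∧ Nat.card (Inst.subG PO82p.P O82pA.subs) ≤ 1451520 := by
  obtain ⟨fK, _, cK⟩ := Sp62pMain.order_aux
  rw [← range_hom]
  have := fK
  refine ⟨Finite.of_surjective embK_emb.hom.rangeRestrict embK_emb.hom.rangeRestrict_surjective, ?_⟩
  rw [← cK]
  exact Nat.card_le_card_of_surjective embK_emb.hom.rangeRestrict embK_emb.hom.rangeRestrict_surjective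

/-- the order and the faithful permutation representation -/
theorem order_aux : Finite PO82p.P.Grp ∧ Function.Injective O82pA.inst.phi ∧ Nat.card PO82p.P.Grp = 174182400 := by
  obtain ⟨fs, cs⟩ := sub_card
  obtain ⟨fG, cG⟩ := O82pA.inst.card_le _ fs cs
  have hub : Nat.card PO82p.P.Grp ≤ 174182400 := le_trans cG (by decide)
  obtain ⟨hinj, hcard⟩ := O82pA.inst.card_eq O82pL.S rfl rfl O82pL.htab0 O82pL.ok 174182400 (by decide)
    O82pL.prod_eq fG hub
  exact ⟨fG, hinj, hcard⟩


theorem gR_ne_one : PO82p.P.gR 0 ≠ 1 := by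
  intro h
  have h1 := O82pA.inst.hphi 0 (by decide) ⟨1, by decide⟩
  have h2 : Inst.gE PO82p.P O82pA.subs 0 = PO82p.P.gR 0 := extG_le (by decide)
  rw [h2, h, map_one] at h1
  have h3 : O82pA.T.tbl 1 (O82pA.D.inv 0) ≠ 1 := by decide +kernel
  exact h3 h1.symm

/-- `Sp62p` embeds -/
theorem hom_injective : Function.Injective embK_emb.hom := by
  apply injective_of_simple Sp62pMain.simple_aux embK_emb.hom (PSp62p.P.gR 0)
  rw [embK_emb.hom_gR _ (by decide)]
  exact gR_ne_one

/-- stem extensions split over the subgroup when `Sp62p` is perfect and has no stem extension -/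
theorem liftsP_sub (p : ℕ) (hp : p.Prime) (hperf : commutator PSp62p.P.Grp = ⊤) (hns : NoStemPrime PSp62p.P.Grp p) :
    LiftsP PO82p.P.Grp (Inst.subG PO82p.P O82pA.subs) p :=
  liftsP_of_injective embK_emb.hom hom_injective _ range_hom p hp hperf hns

theorem horb : OrbCond (Inst.subG PO82p.P O82pA.subs) O82pA.inst.equiv [1, 56, 63] 0 := by
  refine ⟨?_, ?_, ?_, trivial⟩
  · intro j j' _ h2 _ h4
    have e1 : j = j' := Fin.ext (by omega)
    exact ⟨1, one_mem _, by rw [one_smul, e1]⟩
  · intro j j' h1 h2 h3 h4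
    exact O82pA.inst.trans_of_orbit_eq 1 57 (by decide) (by decide)
      (O82pA.inst.orbit_eq O82pA.oparTab O82pA.olabTab 1 57 (by decide) (by decide) O82pA.orb_inv_0 O82pA.orb_tree_0)
      j j' (by omega) (by omega) (by omega) (by omega)
  · intro j j' h1 h2 h3 h4
    exact O82pA.inst.trans_of_orbit_eq 57 120 (by decide) (by decide)
      (O82pA.inst.orbit_eq O82pA.oparTab O82pA.olabTab 57 120 (by decide) (by decide) O82pA.orb_inv_1 O82pA.orb_tree_1)
      j j' (by omega) (by omega) (by omega) (by omega)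

/-- the subgroup is simple -/
theorem subG_simple : IsSimpleGroup (Inst.subG PO82p.P O82pA.subs) := by
  have e : PSp62p.P.Grp ≃* embK_emb.hom.range := MonoidHom.ofInjective hom_injective
  rw [← range_hom]
  have := Sp62pMain.simple_aux
  exact e.symm.isSimpleGroup

theorem simple_aux : IsSimpleGroup PO82p.P.Grp := by
  obtain ⟨fG, hinj, hcard⟩ := order_aux
  exact O82pA.inst.simple3 hinj fG 56 63 (by decide) horb (by decide) subG_simple (by decide +kernel)
    2 3 5 (by norm_num) (by norm_num) (by norm_num) (by decide) (by decide) (by decide)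
    (by decide) (by decide) (by decide)

end Cfsg.Agent.Lib.Helper4.O82pMain
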