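import Mathlib
import Cfsg.Prelude.Def_SporCoxeter

/-! The fourfold cover of the orthogonal group O8+(2), of order 4·174182400, presented on lifts `b`, `a`, `u` of the generators of `O82p` and central involutions `y` and `z` (generated). -/

namespace Cfsg.Agent.Lib.Helper4

namespace C4O82

/-- the generators -/
inductive Gen
  | b
  | a
  | u
  | y
  | z
  deriving DecidableEq

abbrev b : FreeGroup Gen := FreeGroup.of Gen.b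
abbrev a : FreeGroup Gen := FreeGroup.of Gen.a
abbrev u : FreeGroup Gen := FreeGroup.of Gen.u
abbrev y : FreeGroup Gen := FreeGroup.of Gen.y
abbrev z : FreeGroup Gen := FreeGroup.of Gen.z

/-- no Coxeter graph -/
def edges : List (Gen × ℕ × Gen) := []

/-- the relators -/
def extra : List (FreeGroup Gen) := [
  b ^ 7,
  a * a * z⁻¹,
  (a * b) ^ 9,
  (a * b * b) ^ 12,
  ((a * b * a⁻¹ * b⁻¹) ^ 3) * z⁻¹,
  ((a * b * b * a⁻¹ * b⁻¹ * b⁻¹) ^ 2) * z⁻¹,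
  u * u * z⁻¹,
  a * u * a * u * a * u * y⁻¹,
  b * b * b * a * b⁻¹ * u * a * b * a * b⁻¹ * u * b⁻¹ * b⁻¹ * a,
  b * b * a * b⁻¹ * a * b⁻¹ * u * b * a * b * a * b⁻¹ * b⁻¹ * u * z⁻¹,
  b * b * b * a * b⁻¹ * u * a * b⁻¹ * b⁻¹ * a * b * b * u * b * a * b⁻¹ * a * b⁻¹ * b⁻¹ * a,
  b * b * b * a * b⁻¹ * a * b * b * b * a * b⁻¹ * a * b * a * b * b * a * b * b * a * b * u * b⁻¹ * a * u * a * b * u * b⁻¹ * b⁻¹ * b⁻¹ * a,
  y ^ 2,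
  z ^ 2,
  y⁻¹ * b⁻¹ * y * b,
  y⁻¹ * a⁻¹ * y * a,
  y⁻¹ * u⁻¹ * y * u,
  z⁻¹ * b⁻¹ * z * b,
  z⁻¹ * a⁻¹ * z * a,
  z⁻¹ * u⁻¹ * z * u,
  y⁻¹ * z⁻¹ * y * z ]

end C4O82

end Cfsg.Agent.Lib.Helper4
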