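import Mathlib
import Cfsg.Prelude.Def_Classical
import Cfsg.Agent.Lib.Helper4.LaneMat
import Cfsg.Agent.Lib.Helper4.O82pMain
import Cfsg.Agent.Lib.Helper4.C4O82Cover
import Cfsg.Agent.Lib.Helper4.StemLib11
import Cfsg.Agent.Lib.Helper4.TC20
import Cfsg.Agent.S0293

/-!
The presented group `O82p` is isomorphic to the orthogonal group `PΩ₈⁺(2)` of the quadratic form `Σ xᵢ yᵢ`:
the letters are mapped to explicit isometries, given as packed `8 × 8` matrices over the field with two elements;
the image of the perfect group `O82p` lies in the commutator subgroup of the isometry group, the homomorphism to the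
quotient by the centre is injective since `O82p` is simple, and the orders agree.
-/

set_option autoImplicit false

namespace Cfsg.Agent.Lib.Helper4.O82Iso

open Cfsg Cfsg.Agent.Lib.Helper4.LaneMat Cfsg.Agent.Lib.Helper4.TC Cfsg.Agent.Lib.Helper4.TC.Log
  Cfsg.Agent.Lib.Helper4.Stem Matrix

/-- the coordinates of the quadratic form -/
abbrev I8 : Type := Fin 4 ⊕ Fin 4

/-- the format of the packed matrices: `8 × 8`, lanes of 4 bits, modulo 2 -/
@[reducible] def C8 : Cfg where
  n := 8
  b := 4
  p := 2
  MC := 404399200101416122972727962327899080730729934460329449514903409786895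
  red := redA 8 4 2
  hn := by norm_num
  hb := by norm_num
  hp := by norm_num
  hpb := by norm_num
  hMC := by decide +kernel
  hred := fun Z i k hi hk => ent_redA 8 4 2 Z (by norm_num) (by norm_num) hi hk

/-- the numbering of the coordinates -/
def e8 : I8 ≃ Fin C8.n := (finSumFinEquiv : Fin 4 ⊕ Fin 4 ≃ Fin (4 + 4))

local notation "tm" => C8.toMat e8
local notation "mu" => C8.mul
local notation "i8" => C8.one

/-- packed images of the letters -/
def gT : ℕ → ℕ
  | 0 => 7237012912129773064653535542873072242693425924707503729483433115360523452417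
  | 1 => 7717595340814341178704394122021098600104225266769244114443000827787681464592
  | 2 => 7238779759293281816555930173181574193111875378287851240137376425175840526609
  | 3 => 7238779759293281816555930173181574193111875378287851240137376425175840526609
  | 4 => 7238883310762994880552808500446917643060463978228529402819774445417682440192
  | 5 => 7238883310762994880552808500446917643060463978228529402819774445417682440192
  | _ => i8

/-- packed transposes of the images of the letters -/
def gTt : ℕ → ℕ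
  | 0 => 7719362159128836625454453598350386439375134991320773602803916974665298411537
  | 1 => 7717587980748899540075409464632042191614875393959158877303553040079020691472
  | 2 => 7717588006017241710440572960248300430606759311474731761114818127307638571009
  | 3 => 7717588006017241710440572960248300430606759311474731761114818127307638571009
  | 4 => 7237005577437574505641743774677783960937449628083753793202877591537667080192
  | 5 => 7237005577437574505641743774677783960937449628083753793202877591537667080192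
  | _ => i8

/-- the packed matrix of the quadratic form -/
def Spk : ℕ := 21267647932868138976286761632837730304

/-- the inverse letters -/
def invL : ℕ → ℕ
  | 0 => 1
  | 1 => 0
  | 2 => 3
  | 3 => 2
  | 4 => 5
  | 5 => 4
  | n => n

theorem gT_ge (l : ℕ) (h : ¬ l < 6) : gT l = i8 := by
  match l, h with
  | 0, h => exact absurd (by norm_num) h
  | 1, h => exact absurd (by norm_num) h
  | 2, h => exact absurd (by norm_num) h
  | 3, h => exact absurd (by norm_num) h
  | 4, h => exact absurd (by norm_num) h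
  | 5, h => exact absurd (by norm_num) h
  | (n + 6), _ => rfl

set_option maxRecDepth 100000 in
theorem gT_valid' : ∀ l, l < 6 → C8.Valid (gT l) ∧ C8.Valid (gTt l) := by decide +kernel

set_option maxRecDepth 100000 in
theorem Spk_valid : C8.Valid Spk := by decide +kernel

theorem gT_valid (l : ℕ) : C8.Valid (gT l) := by
  by_cases h : l < 6
  · exact (gT_valid' l h).1
  · rw [gT_ge l h]; exact C8.valid_one

set_option maxRecDepth 100000 in
theorem c_inv : ∀ l, l < 6 → mu (gT l) (gT (invL l)) = i8 ∧ mu (gT (invL l)) (gT l) = i8 := by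
  decide +kernel

set_option maxRecDepth 100000 in
theorem c_rel : ∀ L ∈ PO82p.P.real, C8.evalW gT L = i8 := by decide +kernel

set_option maxRecDepth 100000 in
theorem c_alt : ∀ l, l < 6 →
    (∀ i : I8, tm (mu (mu (gTt l) Spk) (gT l)) i i = tm Spk i i) ∧
    ∀ i j : I8, tm (mu (mu (gTt l) Spk) (gT l)) i j + tm (mu (mu (gTt l) Spk) (gT l)) j i =
      tm Spk i j + tm Spk j i := by decide +kernel

set_option maxRecDepth 100000 in
theorem c_tr : ∀ l, l < 6 → tm (gTt l) = (tm (gT l))ᵀ := by decide +kernel

set_option maxRecDepth 100000 in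
theorem c_ncomm : tm (mu (gT 0) (gT 2)) ≠ tm (mu (gT 2) (gT 0)) := by decide +kernel

abbrev G8 : Type := GL I8 (ZMod 2)

/-- the images of the letters -/
def gU (l : ℕ) : G8 :=
  if h : l < 6 then C8.toGL e8 (gT l) (gT (invL l)) (gT_valid _) (gT_valid _) (c_inv l h).1 (c_inv l h).2 else 1

theorem val_gU (l : ℕ) : ((gU l : G8) : Matrix I8 I8 (ZMod 2)) = tm (gT l) := by
  unfold gU
  split_ifs with h
  · rfl
  · rw [gT_ge l h, C8.toMat_one]; rfl

theorem val_wordP (L : List ℕ) : ((wordP gU L : G8) : Matrix I8 I8 (ZMod 2)) = tm (C8.evalW gT L) := by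
  rw [C8.toMat_evalW e8 gT L fun x _ => gT_valid x]
  induction L with
  | nil => rfl
  | cons x L ih => rw [wordP_cons, Units.val_mul, ih, val_gU, List.map_cons, List.prod_cons]

theorem gU_mul_inv (l : ℕ) (h : l < 6) : gU l * gU (invL l) = 1 := by
  apply Units.ext
  rw [Units.val_mul, val_gU, val_gU, ← C8.toMat_mul e8 (gT_valid _) (gT_valid _), (c_inv l h).1, C8.toMat_one]
  rfl

theorem exists_hom : ∃ φ : PO82p.P.Grp →* G8, ∀ l, l < 6 → φ (PO82p.P.gR l) = gU l := by
  apply exists_hom_of_letters PO82p.P PO82p.valid gU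
  · intro l hl
    have hl : l < 6 := hl
    interval_cases l
    · exact gU_mul_inv 0 (by norm_num)
    · exact gU_mul_inv 1 (by norm_num)
    · exact gU_mul_inv 2 (by norm_num)
    · exact gU_mul_inv 3 (by norm_num)
    · exact gU_mul_inv 4 (by norm_num)
    · exact gU_mul_inv 5 (by norm_num)
  · intro L hL
    apply Units.ext
    rw [val_wordP, c_rel L hL, C8.toMat_one]
    rfl

/-- the homomorphism to the matrices over `ZMod 2` -/
noncomputable def phi : PO82p.P.Grp →* G8 := Classical.choose exists_hom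

theorem phi_gR (l : ℕ) (h : l < 6) : phi (PO82p.P.gR l) = gU l := Classical.choose_spec exists_hom l h

/-- the matrix of the quadratic form `Σ xᵢ yᵢ` -/
def qmat (R : Type*) [CommRing R] : Matrix I8 I8 R := Matrix.of fun a b =>
  match a, b with
  | .inl i, .inr j => if i = j then 1 else 0
  | _, _ => 0

set_option maxRecDepth 100000 in
theorem toMat_Spk : tm Spk = qmat (ZMod 2) := by decide +kernel

theorem qmat_map {R : Type*} [CommRing R] (φ : ZMod 2 →+* R) : (qmat (ZMod 2)).map φ = qmat R := by
  ext a b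
  rcases a with a | a <;> rcases b with b | b <;> simp only [qmat, Matrix.map_apply, Matrix.of_apply]
  all_goals first | exact map_zero φ | (split_ifs <;> simp)

theorem qmat_quad {R : Type*} [Field R] (v : I8 → R) : v ⬝ᵥ (qmat R *ᵥ v) = quadFormPlus 4 R v := by
  simp only [dotProduct, mulVec, qmat, quadFormPlus, Fintype.sum_sum_type, Fin.sum_univ_four, Matrix.of_apply]
  simp

/-- a quadratic form with alternating matrix vanishes -/
theorem quad_eq_zero_of_alt {ι R : Type*} [Fintype ι] [DecidableEq ι] [CommRing R] (D : Matrix ι ι R)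
    (hd : ∀ i, D i i = 0) (hs : ∀ i j, D i j + D j i = 0) (v : ι → R) : v ⬝ᵥ (D *ᵥ v) = 0 := by
  have hT : Dᵀ = -D := by
    ext i j
    rw [Matrix.transpose_apply, Matrix.neg_apply]
    exact eq_neg_of_add_eq_zero_left (hs j i)
  have hsw : ∀ v w : ι → R, w ⬝ᵥ (D *ᵥ v) = -(v ⬝ᵥ (D *ᵥ w)) := by
    intro v w
    rw [dotProduct_mulVec, dotProduct_comm, ← mulVec_transpose, hT, neg_mulVec, dotProduct_neg]
  have hadd : ∀ v w : ι → R, (v + w) ⬝ᵥ (D *ᵥ (v + w)) = v ⬝ᵥ (D *ᵥ v) + w ⬝ᵥ (D *ᵥ w) := by
    intro v w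
    rw [mulVec_add, add_dotProduct, dotProduct_add, dotProduct_add, hsw v w]
    ring
  let q : (ι → R) →+ R := AddMonoidHom.mk' (fun v => v ⬝ᵥ (D *ᵥ v)) hadd
  have hq : q v = 0 := by
    rw [← Finset.univ_sum_single v, map_sum]
    apply Finset.sum_eq_zero
    intro i _
    show Pi.single i (v i) ⬝ᵥ (D *ᵥ Pi.single i (v i)) = 0
    rw [single_dotProduct, mulVec_single]
    simp [hd i]
  exact hq

theorem quad_mulVec {R : Type*} [Field R] (M : Matrix I8 I8 R)
    (hd : ∀ i, (Mᵀ * qmat R * M) i i = qmat R i i)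
    (hs : ∀ i j, (Mᵀ * qmat R * M) i j + (Mᵀ * qmat R * M) j i = qmat R i j + qmat R j i)
    (v : I8 → R) : quadFormPlus 4 R (M *ᵥ v) = quadFormPlus 4 R v := by
  rw [← qmat_quad, ← qmat_quad]
  have h1 : (M *ᵥ v) ⬝ᵥ (qmat R *ᵥ (M *ᵥ v)) = v ⬝ᵥ ((Mᵀ * qmat R * M) *ᵥ v) := by
    rw [← mulVec_mulVec, ← mulVec_mulVec, dotProduct_mulVec v Mᵀ, vecMul_transpose]
  have h2 := quad_eq_zero_of_alt (Mᵀ * qmat R * M - qmat R)
    (fun i => by rw [Matrix.sub_apply, hd i, sub_self])
    (fun i j => by
      rw [Matrix.sub_apply, Matrix.sub_apply]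
      linear_combination hs i j) v
  rw [sub_mulVec, dotProduct_sub, sub_eq_zero] at h2
  rw [h1, h2]

theorem gram_gT (l : ℕ) (hl : l < 6) :
    (tm (gT l))ᵀ * qmat (ZMod 2) * tm (gT l) = tm (mu (mu (gTt l) Spk) (gT l)) := by
  rw [← c_tr l hl, ← toMat_Spk, ← C8.toMat_mul e8 (gT_valid' l hl).2 Spk_valid,
    ← C8.toMat_mul e8 (C8.valid_mul _ _) (gT_valid l)]

section Field

variable {F : Type*} [Field F] (φ : ZMod 2 →+* F)

/-- the homomorphism to the matrices over a field of characteristic 2 -/
noncomputable def phiF : PO82p.P.Grp →* GL I8 F := (Matrix.GeneralLinearGroup.map φ).comp phi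

theorem val_phiF (g : PO82p.P.Grp) : ((phiF φ g : GL I8 F) : Matrix I8 I8 F) = ((phi g : G8) : Matrix I8 I8 (ZMod 2)).map φ :=
  rfl

theorem gR_mem (l : ℕ) (hl : l < 6) : phiF φ (PO82p.P.gR l) ∈ isometryGroup F (quadFormPlus 4 F) := by
  intro u _
  show quadFormPlus 4 F (((phiF φ (PO82p.P.gR l) : GL I8 F) : Matrix I8 I8 F) *ᵥ u) = quadFormPlus 4 F u
  rw [val_phiF, phi_gR l hl, val_gU]
  have hm : ((tm (gT l)).map φ)ᵀ * qmat F * (tm (gT l)).map φ = (tm (mu (mu (gTt l) Spk) (gT l))).map φ := by
    rw [← transpose_map, ← qmat_map φ, ← Matrix.map_mul, ← Matrix.map_mul, gram_gT l hl]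
  apply quad_mulVec
  · intro i
    rw [hm, ← qmat_map φ, Matrix.map_apply, Matrix.map_apply, (c_alt l hl).1 i, toMat_Spk]
  · intro i j
    rw [hm, ← qmat_map φ, Matrix.map_apply, Matrix.map_apply, Matrix.map_apply, Matrix.map_apply, ← map_add, ← map_add,
      (c_alt l hl).2 i j, toMat_Spk]

theorem range_le : (phiF φ).range ≤ isometryGroup F (quadFormPlus 4 F) := by
  rw [MonoidHom.range_eq_map, ← PO82p.valid.gen_top, MonoidHom.map_closure, Subgroup.closure_le]
  rintro _ ⟨_, ⟨l, hl, rfl⟩, rfl⟩
  exact gR_mem φ l hl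

/-- the homomorphism to the isometry group -/
noncomputable def psi0 : PO82p.P.Grp →* isometryGroup F (quadFormPlus 4 F) :=
  (phiF φ).codRestrict _ fun g => range_le φ ⟨g, rfl⟩

/-- `O82p` is perfect -/
theorem perfect : commutator PO82p.P.Grp = ⊤ :=
  perfect_of_surjective C4O82Cover.π C4O82Cover.π_surjective C4O82Cover.perfect

theorem psi0_mem (g : PO82p.P.Grp) : psi0 φ g ∈ Omega F (quadFormPlus 4 F) := by
  have h1 : g ∈ commutator PO82p.P.Grp := by rw [perfect]; trivial
  have h2 : (commutator PO82p.P.Grp).map (psi0 φ) ≤ commutator (isometryGroup F (quadFormPlus 4 F)) := by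
    rw [commutator_def, Subgroup.map_commutator, commutator_def]
    exact Subgroup.commutator_mono le_top le_top
  exact h2 ⟨g, h1, rfl⟩

/-- the homomorphism to the commutator subgroup of the isometry group -/
noncomputable def psi1 : PO82p.P.Grp →* Omega F (quadFormPlus 4 F) :=
  (psi0 φ).codRestrict _ (psi0_mem φ)

/-- the homomorphism to `PΩ₈⁺` -/
noncomputable def psi : PO82p.P.Grp →* POmega F (quadFormPlus 4 F) :=
  (QuotientGroup.mk' (Subgroup.center (Omega F (quadFormPlus 4 F)))).comp (psi1 φ)

theorem val_psi1 (g : PO82p.P.Grp) :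
    (((psi1 φ g : Omega F (quadFormPlus 4 F)) : isometryGroup F (quadFormPlus 4 F)) : GL I8 F) = phiF φ g := rfl

theorem psi_injective : Function.Injective (psi φ) := by
  rw [← MonoidHom.ker_eq_bot_iff]
  rcases O82pMain.simple_aux.eq_bot_or_eq_top_of_normal (psi φ).ker inferInstance with h | h
  · exact h
  · exfalso
    have h0 : PO82p.P.gR 0 ∈ (psi φ).ker := by rw [h]; trivial
    rw [MonoidHom.mem_ker] at h0
    have h1 : psi1 φ (PO82p.P.gR 0) ∈ Subgroup.center (Omega F (quadFormPlus 4 F)) :=
      (QuotientGroup.eq_one_iff _).1 h0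
    have h2 := Subgroup.mem_center_iff.1 h1 (psi1 φ (PO82p.P.gR 2))
    have h3 : phiF φ (PO82p.P.gR 2) * phiF φ (PO82p.P.gR 0) = phiF φ (PO82p.P.gR 0) * phiF φ (PO82p.P.gR 2) := by
      rw [← val_psi1, ← val_psi1]
      exact congrArg (fun x : Omega F (quadFormPlus 4 F) => ((x : isometryGroup F (quadFormPlus 4 F)) : GL I8 F)) h2
    have h4 := congrArg (fun x : GL I8 F => (x : Matrix I8 I8 F)) h3
    simp only [Units.val_mul, val_phiF, phi_gR 0 (by norm_num), phi_gR 2 (by norm_num), val_gU] at h4
    rw [← Matrix.map_mul, ← Matrix.map_mul, ← C8.toMat_mul e8 (gT_valid _) (gT_valid _),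
      ← C8.toMat_mul e8 (gT_valid _) (gT_valid _)] at h4
    exact c_ncomm (Matrix.map_injective φ.injective h4).symm

end Field

/-- the order of `PΩ₈⁺(2)` -/
theorem card_POmega {F : Type*} [Field F] [Fintype F] (hF : Fintype.card F = 2) :
    Nat.card (POmega F (quadFormPlus 4 F)) = 174182400 := by
  have h := Cfsg.Agent.S0293.result (F := F) (q := 2) hF 4 (le_refl 4)
  norm_num [Finset.prod_range_succ] at h
  omega

/-- the presented group `O82p` is the group `PΩ₈⁺(2)` -/
theorem iso {F : Type*} [Field F] [Fintype F] (hF : Fintype.card F = 2) :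
    Nonempty (PO82p.P.Grp ≃* POmega F (quadFormPlus 4 F)) := by
  obtain ⟨fG, _, hc⟩ := O82pMain.order_aux
  have := fG
  have e2 : ZMod 2 ≃+* F := ZMod.ringEquivOfPrime F (by norm_num) hF
  have hinj := psi_injective e2.toRingHom
  have hbij : Function.Bijective (psi e2.toRingHom) := by
    apply hinj.bijective_of_nat_card_le
    rw [hc, card_POmega hF]
  exact ⟨MulEquiv.ofBijective _ hbij⟩

end Cfsg.Agent.Lib.Helper4.O82Iso
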