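import Mathlib
import Cfsg.Agent.Lib.Helper4.C4O82Cover
import Cfsg.Agent.Lib.Helper4.TCD_C4O82B_Fin
import Cfsg.Agent.Lib.Helper4.C2Sp62Stem
import Cfsg.Agent.Lib.Helper4.TC19
import Cfsg.Agent.Lib.Helper4.StemLib6

/-! The presented group `C4O82` contains the presented double cover `C2Sp62` of the group Sp6(2)
as the subgroup of index 240 generated by `b`, `a`, and stem extensions with kernel of prime order split over it. -/

set_option autoImplicit false

namespace Cfsg.Agent.Lib.Helper4.C4O82Sub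

open Cfsg Cfsg.Agent.Lib.Helper4.TC Cfsg.Agent.Lib.Helper4.TCD Cfsg.Agent.Lib.Helper4.TC.Log Cfsg.Agent.Lib.Helper4.Stem

/-- the letters of `C2Sp62` as letters of `C4O82` -/
def embK (l : ℕ) : ℕ := [0, 1, 2, 3, 8, 9].getD l 10

theorem real_subK : ∀ L ∈ PC2Sp62.P.real, L.map embK ∈ PC4O82.P.real := by decide +kernel

theorem embK_emb : LetterEmb PC2Sp62.P PC4O82.P embK where
  hP := PC2Sp62.valid
  hQ := PC4O82.valid
  hlt := by
    intro l hl
    have hl : l < 6 := hl
    show embK l < 10
    interval_cases l <;> decide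
  hinv := by
    intro l hl
    have hl : l < 6 := hl
    interval_cases l <;> rfl
  hrel := by
    intro L hL
    exact (PC4O82.valid.real_sound _ (real_subK L hL)).2

/-- the homomorphism from `C2Sp62` -/
noncomputable def f : PC2Sp62.P.Grp →* PC4O82.P.Grp := embK_emb.hom

/-- the words generating `C2Sp62` -/
def subsK : List (List ℕ) := [[0], [2], [4]]

theorem subG_K_top : Inst.subG PC2Sp62.P subsK = ⊤ := by
  rw [eq_top_iff, ← PC2Sp62.valid.gen_top, Subgroup.closure_le]
  rintro _ ⟨l, hl, rfl⟩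
  have hl : l < 6 := hl
  interval_cases l
  · exact Subgroup.subset_closure ⟨[0], by decide, by rw [wordP_cons, wordP_nil, mul_one]⟩
  · have h : PC2Sp62.P.gR 1 = (PC2Sp62.P.gR 0)⁻¹ := (PC2Sp62.valid.invR_sound 0 (by decide)).2
    rw [h]
    exact Subgroup.inv_mem _ (Subgroup.subset_closure ⟨[0], by decide, by rw [wordP_cons, wordP_nil, mul_one]⟩)
  · exact Subgroup.subset_closure ⟨[2], by decide, by rw [wordP_cons, wordP_nil, mul_one]⟩
  · have h : PC2Sp62.P.gR 3 = (PC2Sp62.P.gR 2)⁻¹ := (PC2Sp62.valid.invR_sound 2 (by decide)).2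
    rw [h]
    exact Subgroup.inv_mem _ (Subgroup.subset_closure ⟨[2], by decide, by rw [wordP_cons, wordP_nil, mul_one]⟩)
  · exact Subgroup.subset_closure ⟨[4], by decide, by rw [wordP_cons, wordP_nil, mul_one]⟩
  · have h : PC2Sp62.P.gR 5 = (PC2Sp62.P.gR 4)⁻¹ := (PC2Sp62.valid.invR_sound 4 (by decide)).2
    rw [h]
    exact Subgroup.inv_mem _ (Subgroup.subset_closure ⟨[4], by decide, by rw [wordP_cons, wordP_nil, mul_one]⟩)

theorem range_hom : f.range = Inst.subG PC4O82.P [[0], [2], [8]] := by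
  rw [f, MonoidHom.range_eq_map, ← subG_K_top, embK_emb.map_subG subsK (by decide)]
  rfl

/-- the central letter `z` as a word in `b`, `a` -/
def zW : List ℕ := [2, 2]

theorem z_eq : PC4O82.P.gR 8 = wordP PC4O82.P.gR zW := by
  have h := (PC4O82.valid.real_sound (zW ++ [9]) (by decide +kernel)).2
  have i9 : PC4O82.P.gR 9 = (PC4O82.P.gR 8)⁻¹ := (PC4O82.valid.invR_sound 8 (by decide)).2
  rw [wordP_append, wordP_cons, wordP_nil, mul_one, i9] at h
  exact (mul_inv_eq_one.1 h).symm

theorem range_eq : f.range = Inst.subG PC4O82.P C4O82B.subs := by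
  rw [range_hom]
  have hs : C4O82B.subs = [[0], [2]] := by decide
  rw [hs]
  unfold Inst.subG
  apply le_antisymm
  · rw [Subgroup.closure_le]
    rintro _ ⟨u, hu, rfl⟩
    simp only [List.mem_cons, List.not_mem_nil, or_false] at hu
    rcases hu with rfl | rfl | rfl
    · exact Subgroup.subset_closure ⟨[0], by decide, rfl⟩
    · exact Subgroup.subset_closure ⟨[2], by decide, rfl⟩
    · rw [SetLike.mem_coe, wordP_cons, wordP_nil, mul_one, z_eq]
      have m0 : PC4O82.P.gR 0 ∈ Subgroup.closure {s | ∃ u ∈ [[0], [2]], s = wordP PC4O82.P.gR u} :=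
        Subgroup.subset_closure ⟨[0], by decide, by rw [wordP_cons, wordP_nil, mul_one]⟩
      have m2 : PC4O82.P.gR 2 ∈ Subgroup.closure {s | ∃ u ∈ [[0], [2]], s = wordP PC4O82.P.gR u} :=
        Subgroup.subset_closure ⟨[2], by decide, by rw [wordP_cons, wordP_nil, mul_one]⟩
      have i1 : PC4O82.P.gR 1 = (PC4O82.P.gR 0)⁻¹ := (PC4O82.valid.invR_sound 0 (by decide)).2
      have i3 : PC4O82.P.gR 3 = (PC4O82.P.gR 2)⁻¹ := (PC4O82.valid.invR_sound 2 (by decide)).2
      apply Sgs.wordP_mem_closure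
      intro e he
      have he4 : e < 4 := by
        revert e
        decide
      interval_cases e
      · exact m0
      · rw [i1]; exact inv_mem m0
      · exact m2
      · rw [i3]; exact inv_mem m2
  · apply Subgroup.closure_mono
    rintro _ ⟨u, hu, rfl⟩
    refine ⟨u, ?_, rfl⟩
    simp only [List.mem_cons, List.not_mem_nil, or_false] at hu ⊢
    rcases hu with rfl | rfl
    · exact Or.inl rfl
    · exact Or.inr (Or.inl rfl)


/-- the subgroup is an image of `C2Sp62` -/
theorem sub_card : Finite (Inst.subG PC4O82.P C4O82B.subs) ∧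
    Nat.card (Inst.subG PC4O82.P C4O82B.subs) ≤ 2903040 := by
  obtain ⟨fK, _, cK⟩ := C2Sp62Main.order_aux
  rw [← range_eq]
  have := fK
  refine ⟨Finite.of_surjective f.rangeRestrict f.rangeRestrict_surjective, ?_⟩
  rw [← cK]
  exact Nat.card_le_card_of_surjective f.rangeRestrict f.rangeRestrict_surjective

/-- the subgroup has order 2903040 -/
theorem sub_card_eq : Nat.card (Inst.subG PC4O82.P C4O82B.subs) = 2903040 := by
  obtain ⟨fG, _, hcard⟩ := C4O82Cover.order_aux
  have h := Subgroup.card_mul_index (Inst.subG PC4O82.P C4O82B.subs)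
  rw [C4O82B.index_eq, hcard] at h
  have e : (696729600 : ℕ) = 2903040 * 240 := by norm_num
  rw [e] at h
  exact Nat.eq_of_mul_eq_mul_right (by norm_num) h

/-- `C2Sp62` embeds -/
theorem hom_injective : Function.Injective f := by
  obtain ⟨fK, _, cK⟩ := C2Sp62Main.order_aux
  have := fK
  have hs : Function.Surjective f.rangeRestrict := f.rangeRestrict_surjective
  have hc : Nat.card PC2Sp62.P.Grp ≤ Nat.card f.range := by
    rw [range_eq, sub_card_eq, cK]
  have hb : Function.Bijective f.rangeRestrict := hs.bijective_of_nat_card_le hc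
  intro x y hxy
  apply hb.1
  apply Subtype.ext
  exact hxy

/-- stem extensions split over the subgroup -/
theorem liftsP_sub (p : ℕ) (hp : p.Prime) :
    LiftsP PC4O82.P.Grp (Inst.subG PC4O82.P C4O82B.subs) p :=
  liftsP_of_injective f hom_injective _ range_eq p hp C2Sp62Cover.perfect (C2Sp62Stem.noStem p hp)

end Cfsg.Agent.Lib.Helper4.C4O82Sub
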