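import Mathlib
import Cfsg.Agent.Lib.Helper4.C4O82Cover
import Cfsg.Agent.Lib.Helper4.TCD_SC4O82p2A_Fin
import Cfsg.Agent.Lib.Helper4.TCD_SC4O82p2W
import Cfsg.Agent.Lib.Helper4.StemLib8
import Cfsg.Agent.Lib.Helper4.C4O82Sub

/-! `C4O82` has no stem extension with kernel of order 2 (generated). -/

namespace Cfsg.Agent.Lib.Helper4.SC4O82p2Main

open Cfsg.Agent.Lib.Helper4.TC Cfsg.Agent.Lib.Helper4.TCD Cfsg.Agent.Lib.Helper4.TC.Log Cfsg.Agent.Lib.Helper4.Stem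

/-- the description of the auxiliary presentation -/
def spec : Spec4 :=
  { p := 2
    items := [(0, [], 7),
      (2, [], 4),
      (4, [], 7),
      (6, [4, 1, 1, 3], 0),
      (8, [2, 2], 0),
      (10, [2, 6, 2, 6, 2, 6], 0),
      (12, [6, 6, 9], 0),
      (14, [0, 0, 0, 2, 1, 6, 2, 0, 2, 1, 6, 1, 1, 2], 0),
      (16, [0, 0, 2, 1, 2, 1, 6, 0, 2, 0, 2, 1, 1, 6, 9], 0),
      (18, [0, 0, 0, 2, 1, 6, 2, 1, 1, 2, 0, 0, 6, 0, 2, 1, 2, 1, 1, 2], 0),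
      (20, [0, 0, 0, 2, 1, 2, 0, 0, 0, 2, 1, 2, 0, 2, 0, 0, 2, 0, 0, 2, 0, 6, 1, 2, 6, 2, 0, 6, 1, 1, 1, 2], 0),
      (22, [10, 10], 0),
      (24, [11, 1, 10, 0], 0),
      (26, [11, 3, 10, 2], 0),
      (28, [11, 7, 10, 6], 0),
      (30, [9, 7, 8, 6], 0)]
    cen := [12, 14, 16, 18, 20, 22, 24, 26, 28, 30]
    R := []
    sub := [0, 2]
    PR := [[0, 0, 0, 0, 0, 0, 0], [2, 0, 2, 0, 2, 0, 2, 0, 2, 0, 2, 0, 2, 0, 2, 0, 2, 0], [2, 0, 0, 2, 0, 0, 2, 0, 0, 2, 0, 0, 2, 0, 0, 2, 0, 0, 2, 0, 0, 2, 0, 0, 2, 0, 0, 2, 0, 0, 2, 0, 0, 2, 0, 0], [2, 0, 3, 1, 2, 0, 3, 1, 2, 0, 3, 1, 3, 3], [2, 0, 0, 3, 1, 1, 2, 0, 0, 3, 1, 1, 3, 3], [2, 2, 2, 2], [3, 3, 1, 2, 2, 0]]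
    XR := [] }

/-- the letters of the auxiliary presentation as words of the base group -/
def Wl (l : ℕ) : List ℕ :=
  [[0], [1], [2], [3], [4, 2, 0, 0], [1, 1, 3, 5], [4], [5], [8], [9], [6], [7], [], [], [], [], [], [], [], [], [], [], [], [], [], [], [], [], [], [], [], []].getD l []

theorem checks_eq : checks spec.toSpec2 PC4O82.P.invR Wl ++ checksX spec PSC4O82p2.P.invR Wl = SC4O82p2W.chkAll := by decide +kernel

theorem sub_eq : Subgroup.closure (xw PC4O82.P Wl '' {l | l ∈ spec.sub}) = Inst.subG PC4O82.P C4O82B.subs := by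
  rw [closure_xw_eq]
  rfl

set_option maxRecDepth 100000 in
theorem noStem : NoStemPrime PC4O82.P.Grp 2 := by
  obtain ⟨fG, hinj, hcard⟩ := C4O82Cover.order_aux
  have hall : ∀ w ∈ checks spec.toSpec2 PC4O82.P.invR Wl ++ checksX spec PSC4O82p2.P.invR Wl, wordP PC4O82.P.gR w = 1 := by
    rw [checks_eq]
    intro w hw
    exact C4O82R.prep.word_eq_one hinj w (SC4O82p2W.hAll_lt w hw) (SC4O82p2W.hAll w hw)
  exact noStemPrime_pres4 PC4O82.P PC4O82.valid PSC4O82p2.P PSC4O82p2.valid spec (by show Nat.Prime 2; norm_num) Wl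
    (by decide +kernel) (by decide +kernel) (fun w hw => hall w (List.mem_append_left _ hw))
    (fun w hw => hall w (List.mem_append_right _ hw)) (by decide +kernel)
    (by rw [sub_eq]; exact C4O82Sub.liftsP_sub 2 (by norm_num))
    2903040 (by rw [sub_eq]; exact C4O82Sub.sub_card.2)
    240 (by decide) SC4O82p2A.index_eq fG 696729600 hcard (by decide)

end Cfsg.Agent.Lib.Helper4.SC4O82p2Main
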