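import Mathlib
import Cfsg.Prelude.Def_KGroupFacts
import Cfsg.Agent.Lib.Helper4.O82Iso
import Cfsg.Agent.Lib.Helper4.C4O82Cover
import Cfsg.Agent.Lib.Helper4.SC4O82p2Main
import Cfsg.Agent.Lib.Helper4.SC4O82p3Main
import Cfsg.Agent.Lib.Helper4.SC4O82p5Main

/-!
The presented group `C4O82` has no stem extension with kernel of prime order, and the Schur multiplier of the
orthogonal group `PΩ₈⁺` over a field with 2 elements is elementary abelian of order 4.
-/

set_option autoImplicit false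

namespace Cfsg.Agent.Lib.Helper4.C4O82Stem

open Cfsg Cfsg.Agent.Lib.Helper4.TC Cfsg.Agent.Lib.Helper4.TCD Cfsg.Agent.Lib.Helper4.TC.Log
  Cfsg.Agent.Lib.Helper4.Stem

/-- no stem extension with kernel of prime order -/
theorem noStem : ∀ p, p.Prime → NoStemPrime PC4O82.P.Grp p := by
  obtain ⟨fG, _, hcard⟩ := C4O82Cover.order_aux
  have := fG
  apply noStemPrime_all PC4O82.P.Grp [2, 3, 5]
  · intro p hp
    simp only [List.mem_cons, List.not_mem_nil, or_false] at hp
    rcases hp with rfl | rfl | rfl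
    · exact SC4O82p2Main.noStem
    · exact SC4O82p3Main.noStem
    · exact SC4O82p5Main.noStem
  · rw [hcard]
    exact sq_dvd_mem_of_factors 696729600 [2, 2, 2, 2, 2, 2, 2, 2, 2, 2, 2, 2, 2, 2, 3, 3, 3, 3, 3, 5, 5, 7] (by norm_num) (by decide)
      [2, 3, 5] (by decide)

/-- the Schur multiplier of `PΩ₈⁺` over a field with 2 elements is elementary abelian of order 4 -/
theorem hasMult {F : Type*} [Field F] [Fintype F] (hF : Fintype.card F = 2) :
    Cfsg.HasSchurMultiplier (Cfsg.POmega F (Cfsg.quadFormPlus 4 F)) (Multiplicative (ZMod 2 × ZMod 2)) := by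
  obtain ⟨e⟩ := O82Iso.iso hF
  obtain ⟨fG, _, _⟩ := C4O82Cover.order_aux
  have := fG
  obtain ⟨fL, _⟩ := O82pMain.order_aux
  have := fL
  have : Finite (Cfsg.POmega F (Cfsg.quadFormPlus 4 F)) := Finite.of_equiv _ e.toEquiv
  let τ : PC4O82.P.Grp →* Cfsg.POmega F (Cfsg.quadFormPlus 4 F) := e.toMonoidHom.comp C4O82Cover.π
  have hker : τ.ker = C4O82Cover.π.ker := by
    ext x
    rw [MonoidHom.mem_ker, MonoidHom.mem_ker]
    show e (C4O82Cover.π x) = 1 ↔ _
    exact EmbeddingLike.map_eq_one_iff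
  have hτ : IsStemExtension τ := by
    refine ⟨?_, ?_, ?_⟩
    · exact e.surjective.comp C4O82Cover.isStem.1
    · rw [hker]
      exact C4O82Cover.isStem.2.1
    · rw [hker]
      exact C4O82Cover.isStem.2.2
  obtain ⟨ek⟩ := C4O82Cover.ker_equiv
  have ek' : τ.ker ≃* Multiplicative (ZMod 2 × ZMod 2) := (MulEquiv.subgroupCongr hker).trans ek
  exact hasSchurMultiplier_of_cover PC4O82.P.Grp τ hτ ek' noStem

end Cfsg.Agent.Lib.Helper4.C4O82Stem
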