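import Mathlib
import Cfsg.Agent.Lib.Helper4.C4Sz8Main
import Cfsg.Agent.Lib.Helper4.AbelCert
import Cfsg.Agent.Lib.Helper4.AbelKer2
import Cfsg.Agent.Lib.Helper4.StemLib6
import Cfsg.Agent.Lib.Helper4.RelLib

/-!
The presented group `C4Sz8` is a perfect central extension of the presented group `Sz8p` whose kernel is the
product of two cyclic groups of order 2.
-/

set_option autoImplicit false

namespace Cfsg.Agent.Lib.Helper4.C4Sz8Cover

open Cfsg Cfsg.Agent.Lib.Helper4.TC Cfsg.Agent.Lib.Helper4.TCD Cfsg.Agent.Lib.Helper4.TC.Log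
  Cfsg.Agent.Lib.Helper4.Stem Cfsg.Agent.Lib.Helper4.AbelCert Cfsg.Agent.Lib.Helper4.AbelKer
  Cfsg.Agent.Lib.Helper4.C4Sz8Main

local notation "G" => PC4Sz8.P.Grp
local notation "gG" => PC4Sz8.P.gR

/-- the letters of `C4Sz8` as words of `Sz8p`: the central letters are killed -/
def Wl (l : ℕ) : List ℕ := [[0], [1], [2], [3], [], [], [], []].getD l []

theorem rel_act : ∀ L ∈ PC4Sz8.P.real, ∀ i, i < Sz8pA.T.N →
    Tab.relActOK Sz8pA.T Sz8pA.D (L.flatMap Wl) i = true := by decide +kernel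

theorem rel_lt : ∀ L ∈ PC4Sz8.P.real, ∀ x ∈ L.flatMap Wl, x < 4 := by decide +kernel

theorem exists_hom : ∃ π : G →* PSz8p.P.Grp, ∀ l, l < PC4Sz8.P.k →
    π (gG l) = xw PSz8p.P Wl l := by
  obtain ⟨fG, hinj, hcard⟩ := Sz8pMain.order_aux
  apply exists_hom_of_letters PC4Sz8.P PC4Sz8.valid (xw PSz8p.P Wl)
  · intro l hl
    have hl : l < 8 := hl
    have h1 : PSz8p.P.gR 1 = (PSz8p.P.gR 0)⁻¹ := (PSz8p.valid.invR_sound 0 (by decide)).2
    have h3 : PSz8p.P.gR 3 = (PSz8p.P.gR 2)⁻¹ := (PSz8p.valid.invR_sound 2 (by decide)).2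
    interval_cases l
    · show wordP PSz8p.P.gR [0] * wordP PSz8p.P.gR [1] = 1
      simp only [wordP_cons, wordP_nil, mul_one, h1, mul_inv_cancel]
    · show wordP PSz8p.P.gR [1] * wordP PSz8p.P.gR [0] = 1
      simp only [wordP_cons, wordP_nil, mul_one, h1, inv_mul_cancel]
    · show wordP PSz8p.P.gR [2] * wordP PSz8p.P.gR [3] = 1
      simp only [wordP_cons, wordP_nil, mul_one, h3, mul_inv_cancel]
    · show wordP PSz8p.P.gR [3] * wordP PSz8p.P.gR [2] = 1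
      simp only [wordP_cons, wordP_nil, mul_one, h3, inv_mul_cancel]
    · show wordP PSz8p.P.gR [] * wordP PSz8p.P.gR [] = 1
      simp only [wordP_nil, mul_one]
    · show wordP PSz8p.P.gR [] * wordP PSz8p.P.gR [] = 1
      simp only [wordP_nil, mul_one]
    · show wordP PSz8p.P.gR [] * wordP PSz8p.P.gR [] = 1
      simp only [wordP_nil, mul_one]
    · show wordP PSz8p.P.gR [] * wordP PSz8p.P.gR [] = 1
      simp only [wordP_nil, mul_one]
  · intro L hL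
    rw [wordP_xw]
    exact Sz8pA.inst.word_eq_one hinj _ (rel_lt L hL) (rel_act L hL)

/-- the covering homomorphism -/
noncomputable def π : G →* PSz8p.P.Grp := Classical.choose exists_hom

theorem π_gR (l : ℕ) (hl : l < 8) : π (gG l) = xw PSz8p.P Wl l :=
  Classical.choose_spec exists_hom l hl

theorem π_surjective : Function.Surjective π := by
  rw [← MonoidHom.range_eq_top, eq_top_iff, ← PSz8p.valid.gen_top, Subgroup.closure_le]
  rintro _ ⟨y, hy, rfl⟩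
  have hy : y < 4 := hy
  interval_cases y
  · exact ⟨gG 0, by rw [π_gR 0 (by decide)]; simp [xw, Wl, wordP_cons, wordP_nil]⟩
  · exact ⟨gG 1, by rw [π_gR 1 (by decide)]; simp [xw, Wl, wordP_cons, wordP_nil]⟩
  · exact ⟨gG 2, by rw [π_gR 2 (by decide)]; simp [xw, Wl, wordP_cons, wordP_nil]⟩
  · exact ⟨gG 3, by rw [π_gR 3 (by decide)]; simp [xw, Wl, wordP_cons, wordP_nil]⟩

theorem Z_le_ker : Z ≤ π.ker := by
  rw [Z, Subgroup.closure_le]
  rintro x hx
  rcases hx with rfl | rfl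
  · show s ∈ π.ker
    rw [MonoidHom.mem_ker]
    show π (gG 4) = 1
    rw [π_gR 4 (by decide)]
    rfl
  · show t ∈ π.ker
    rw [MonoidHom.mem_ker]
    show π (gG 6) = 1
    rw [π_gR 6 (by decide)]
    rfl

theorem card_ker : Nat.card π.ker = 4 := by
  obtain ⟨fG, _, hcard⟩ := C4Sz8Main.order_aux
  obtain ⟨fG', _, hcard'⟩ := Sz8pMain.order_aux
  have h := card_eq_of_stem π π_surjective
  rw [hcard, hcard'] at h
  omega

/-- the kernel is the central subgroup generated by `s` and `t` -/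
theorem ker_eq : π.ker = Z := by
  obtain ⟨fG, _, _⟩ := C4Sz8Main.order_aux
  have := fG
  symm
  apply Subgroup.eq_of_le_of_card_ge Z_le_ker
  rw [card_ker, card_Z]

theorem cert0 : PC4Sz8.P.gR 0 ∈ commutator PC4Sz8.P.Grp := by
  apply mem_commutator_of_perm PC4Sz8.P PC4Sz8.valid 0
    [[1, 1], [2, 2, 2, 2], [0, 2, 0, 2, 0, 2, 0, 2, 0, 2], [0, 2, 0, 2, 0, 2, 0, 2, 0, 2], [3, 3, 1, 3, 3, 1, 3, 3, 1, 3, 3, 1, 3, 3, 1, 3, 3, 1, 3, 3, 1]]
    (by decide +kernel) (by decide +kernel)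
    [0, 0, 0, 0, 0, 0, 0, 0, 0, 2, 2, 2, 2, 2, 2, 2, 2, 2, 2, 2, 2, 2, 2]
    (by decide +kernel) (by decide +kernel)

theorem cert2 : PC4Sz8.P.gR 2 ∈ commutator PC4Sz8.P.Grp := by
  apply mem_commutator_of_perm PC4Sz8.P PC4Sz8.valid 2
    [[1, 1], [3, 3, 3, 3], [3, 3, 3, 3], [3, 1, 3, 1, 3, 1, 3, 1, 3, 1], [0, 2, 2, 0, 2, 2, 0, 2, 2, 0, 2, 2, 0, 2, 2, 0, 2, 2, 0, 2, 2]]
    (by decide +kernel) (by decide +kernel)
    [0, 0, 0, 0, 0, 0, 0, 2, 2, 2, 2, 2, 2, 2, 2, 2, 2, 2, 2, 2]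
    (by decide +kernel) (by decide +kernel)

theorem cert4 : PC4Sz8.P.gR 4 ∈ commutator PC4Sz8.P.Grp := by
  apply mem_commutator_of_perm PC4Sz8.P PC4Sz8.valid 4
    [[0, 0], [0, 0], [0, 0], [0, 0], [0, 0], [0, 0], [0, 0], [0, 0], [0, 0], [0, 0], [0, 0], [0, 0], [0, 0], [4, 2, 1, 3, 1, 2, 1, 3, 1, 2, 1, 3, 1, 2, 1, 3, 1, 2, 1, 3, 1, 2, 1, 3, 1, 2, 1, 3, 1, 2, 1, 3, 1, 2, 1, 3, 1, 2, 1, 3, 1, 2, 1, 3, 1, 2, 1, 3, 1, 2, 1, 3, 1]]
    (by decide +kernel) (by decide +kernel)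
    [0, 0, 0, 0, 0, 0, 0, 0, 0, 0, 0, 0, 0, 0, 0, 0, 0, 0, 0, 0, 0, 0, 0, 0, 0, 0, 2, 2, 2, 2, 2, 2, 2, 2, 2, 2, 2, 2, 2]
    (by decide +kernel) (by decide +kernel)

theorem cert6 : PC4Sz8.P.gR 6 ∈ commutator PC4Sz8.P.Grp := by
  apply mem_commutator_of_perm PC4Sz8.P PC4Sz8.valid 6
    [[0, 0], [0, 0], [0, 0], [0, 0], [0, 0], [0, 0], [0, 0], [2, 2, 2, 2], [2, 2, 2, 2], [2, 2, 2, 2], [2, 2, 2, 2], [2, 2, 2, 2], [2, 2, 2, 2], [2, 2, 2, 2], [0, 2, 2, 0, 2, 2, 0, 2, 2, 0, 2, 2, 0, 2, 2, 0, 2, 2, 0, 2, 2], [6, 3, 3, 3, 1, 3, 3, 1, 3, 1, 3, 3, 3, 1, 3, 3, 1, 3, 1, 3, 3, 3, 1, 3, 3, 1, 3, 1, 3, 3, 3, 1, 3, 3, 1, 3, 1, 3, 3, 3, 1, 3, 3, 1, 3, 1, 3, 3, 3, 1, 3, 3, 1, 3, 1, 3, 3, 3, 1, 3, 3, 1, 3, 1]]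
    (by decide +kernel) (by decide +kernel)
    [0, 0, 0, 0, 0, 0, 0, 0, 0, 0, 0, 0, 0, 0, 0, 0, 0, 0, 0, 0, 0, 2, 2, 2, 2, 2, 2, 2, 2, 2, 2, 2, 2, 2, 2, 2, 2, 2, 2, 2, 2, 2, 2, 2, 2, 2, 2, 2, 2, 2, 2, 2, 2, 2, 2, 2, 2, 2, 2, 2, 2, 2, 2]
    (by decide +kernel) (by decide +kernel)

/-- the generators are products of commutators -/
theorem gR_mem_commutator (l : ℕ) (hl : l < 8) : gG l ∈ commutator G := by
  interval_cases l
  · exact cert0
  · rw [show (1 : ℕ) = PC4Sz8.P.invR 0 from rfl, hinv 0 (by decide)]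
    exact Subgroup.inv_mem _ cert0
  · exact cert2
  · rw [show (3 : ℕ) = PC4Sz8.P.invR 2 from rfl, hinv 2 (by decide)]
    exact Subgroup.inv_mem _ cert2
  · exact cert4
  · rw [show (5 : ℕ) = PC4Sz8.P.invR 4 from rfl, hinv 4 (by decide)]
    exact Subgroup.inv_mem _ cert4
  · exact cert6
  · rw [show (7 : ℕ) = PC4Sz8.P.invR 6 from rfl, hinv 6 (by decide)]
    exact Subgroup.inv_mem _ cert6

theorem perfect : commutator G = ⊤ :=
  commutator_eq_top_of_letters PC4Sz8.P PC4Sz8.valid gR_mem_commutator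

/-- the covering homomorphism is a stem extension -/
theorem isStem : IsStemExtension π := by
  refine ⟨π_surjective, ?_, ?_⟩
  · rw [ker_eq]
    exact Z_le_center
  · rw [perfect]
    exact le_top

theorem word_ne_one (u : List ℕ) (hu : ∀ x ∈ u, x < 8) (i : ℕ) (hi : i < 2080)
    (h : Tab.act C4Sz8R.T C4Sz8R.D u i ≠ i) : wordP gG u ≠ 1 := by
  intro h1
  have h2 := C4Sz8R.prep.phi_word u hu ⟨i, hi⟩
  rw [h1, map_one] at h2
  exact h h2.symm

/-- the word `s^i t^j` -/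
def zw (i j : ℕ) : List ℕ := List.replicate i 4 ++ List.replicate j 6

theorem zw_lt : ∀ i, i < 2 → ∀ j, j < 2 → ∀ x ∈ zw i j, x < 8 := by decide +kernel

theorem zw_moves : ∀ i, i < 2 → ∀ j, j < 2 → ¬ (i = 0 ∧ j = 0) →
    Tab.act C4Sz8R.T C4Sz8R.D (zw i j) 0 ≠ 0 := by decide +kernel

theorem wordP_replicate' (n x : ℕ) : wordP gG (List.replicate n x) = gG x ^ n := by
  induction n with
  | zero => simp [wordP_nil]
  | succ n ih => rw [List.replicate_succ, wordP_cons, ih, pow_succ']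

theorem wordP_zw (i j : ℕ) : wordP gG (zw i j) = s ^ i * t ^ j := by
  rw [zw, wordP_append, wordP_replicate', wordP_replicate']
  rfl

/-- the kernel is the product of two cyclic groups of order 2 -/
theorem ker_equiv : Nonempty (π.ker ≃* Multiplicative (ZMod 2 × ZMod 2)) := by
  obtain ⟨fG, _, _⟩ := C4Sz8Main.order_aux
  have := fG
  let _ : CommGroup (Subgroup.center G) :=
    { (inferInstance : Group (Subgroup.center G)) with
      mul_comm := fun a b => Subtype.ext (Subgroup.mem_center_iff.1 b.2 a.1) }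
  let x : Subgroup.center G := ⟨s, s_central⟩
  let y : Subgroup.center G := ⟨t, t_central⟩
  have hx : x ^ 2 = 1 := by
    apply Subtype.ext
    exact s_sq
  have hy : y ^ 2 = 1 := by
    apply Subtype.ext
    exact t_sq
  let F0 : Multiplicative (ZMod 2 × ZMod 2) →* Subgroup.center G := pairHom x y 2 2 hx hy
  let F : Multiplicative (ZMod 2 × ZMod 2) →* G := (Subgroup.center G).subtype.comp F0
  have hF : ∀ p, F p = s ^ (Multiplicative.toAdd p).1.val * t ^ (Multiplicative.toAdd p).2.val := fun p => rfl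
  have hFinj : Function.Injective F := by
    rw [injective_iff_map_eq_one]
    intro p hp
    rw [hF, ← wordP_zw] at hp
    have h1 := ZMod.val_lt (Multiplicative.toAdd p).1
    have h2 := ZMod.val_lt (Multiplicative.toAdd p).2
    by_contra hne
    apply word_ne_one _ (zw_lt _ h1 _ h2) 0 (by decide) (zw_moves _ h1 _ h2 ?_) hp
    rintro ⟨e1, e2⟩
    apply hne
    have e1' : (Multiplicative.toAdd p).1 = 0 := (ZMod.val_eq_zero _).1 e1
    have e2' : (Multiplicative.toAdd p).2 = 0 := (ZMod.val_eq_zero _).1 e2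
    show Multiplicative.toAdd p = 0
    exact Prod.ext e1' e2'
  have hrange : F.range ≤ π.ker := by
    rintro _ ⟨p, rfl⟩
    rw [ker_eq, hF]
    have ms : s ∈ Z := Subgroup.subset_closure (by left; rfl)
    have mt : t ∈ Z := Subgroup.subset_closure (by right; rfl)
    exact mul_mem (pow_mem ms _) (pow_mem mt _)
  have hcardR : Nat.card F.range = 4 := by
    rw [← Nat.card_congr (MonoidHom.ofInjective hFinj).toEquiv, Nat.card_eq_fintype_card,
      Fintype.card_multiplicative, Fintype.card_prod, ZMod.card]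
  have heq : F.range = π.ker := by
    apply Subgroup.eq_of_le_of_card_ge hrange
    rw [card_ker, hcardR]
  exact ⟨((MonoidHom.ofInjective hFinj).trans (MulEquiv.subgroupCongr heq)).symm⟩

end Cfsg.Agent.Lib.Helper4.C4Sz8Cover
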