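import Mathlib
import Cfsg.Prelude.Def_SporCoxeter

/-! The covering group of Sz(8) of order 4·29120, presented on lifts `a`, `b` of the generators of `Sz8p` and central involutions `s` and `t` (generated). -/

namespace Cfsg.Agent.Lib.Helper4

namespace C4Sz8

/-- the generators -/
inductive Gen
  | a
  | b
  | s
  | t
  deriving DecidableEq

abbrev a : FreeGroup Gen := FreeGroup.of Gen.a
abbrev b : FreeGroup Gen := FreeGroup.of Gen.b
abbrev s : FreeGroup Gen := FreeGroup.of Gen.s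
abbrev t : FreeGroup Gen := FreeGroup.of Gen.t

/-- no Coxeter graph -/
def edges : List (Gen × ℕ × Gen) := []

/-- the relators -/
def extra : List (FreeGroup Gen) := [
  a ^ 2,
  b ^ 4,
  (a * b) ^ 5,
  (a * b * b) ^ 7,
  ((a * b * a * b⁻¹) ^ 13) * s⁻¹,
  ((a * b * a * b * b * a * b * b * b) ^ 7) * t⁻¹,
  s ^ 2,
  t ^ 2,
  s⁻¹ * a⁻¹ * s * a,
  s⁻¹ * b⁻¹ * s * b,
  t⁻¹ * a⁻¹ * t * a,
  t⁻¹ * b⁻¹ * t * b,
  s⁻¹ * t⁻¹ * s * t ]

end C4Sz8

end Cfsg.Agent.Lib.Helper4
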