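import Mathlib
import Cfsg.Agent.Lib.Helper4.C4Sz8Main
import Cfsg.Agent.Lib.Helper4.TCD_C4Sz8B_Fin
import Cfsg.Agent.Lib.Helper4.StemLib6

/-! The presented group `C4Sz8` has a cyclic subgroup of order dividing 13 (of index 8960), and stem extensions with
kernel of order prime to 13 split over it. -/

set_option autoImplicit false

namespace Cfsg.Agent.Lib.Helper4.C4Sz8Sub

open Cfsg.Agent.Lib.Helper4.TC Cfsg.Agent.Lib.Helper4.TCD Cfsg.Agent.Lib.Helper4.TC.Log Cfsg.Agent.Lib.Helper4.Stem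

/-- the generator of the subgroup as a word -/
def cw : List ℕ := (List.replicate 2 [0, 2, 0, 3]).flatten

theorem cw13_act : ∀ i, i < C4Sz8R.T.N →
    Tab.relActOK C4Sz8R.T C4Sz8R.D (List.replicate 13 cw).flatten i = true := by decide +kernel

theorem cw13_lt : ∀ x ∈ (List.replicate 13 cw).flatten, x < 8 := by decide +kernel

theorem c_pow : (wordP PC4Sz8.P.gR cw) ^ 13 = 1 := by
  obtain ⟨fG, hinj, hcard⟩ := C4Sz8Main.order_aux
  rw [← wordP_replicate_flatten]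
  exact C4Sz8R.prep.word_eq_one hinj _ cw13_lt cw13_act

theorem sub_eq : Inst.subG PC4Sz8.P C4Sz8B.subs = Subgroup.zpowers (wordP PC4Sz8.P.gR cw) := by
  rw [Inst.subG, Subgroup.zpowers_eq_closure]
  congr 1
  ext s
  simp [C4Sz8B.subs, cw]

theorem sub_card_dvd : Nat.card (Inst.subG PC4Sz8.P C4Sz8B.subs) ∣ 13 := by
  rw [sub_eq, Nat.card_zpowers]
  exact orderOf_dvd_of_pow_eq_one c_pow

theorem sub_card : Nat.card (Inst.subG PC4Sz8.P C4Sz8B.subs) ≤ 13 :=
  Nat.le_of_dvd (by norm_num) sub_card_dvd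

theorem liftsP_sub (p : ℕ) (hp : Nat.Coprime 13 p) :
    LiftsP PC4Sz8.P.Grp (Inst.subG PC4Sz8.P C4Sz8B.subs) p :=
  liftsP_of_coprime _ p 13 sub_card_dvd hp

end Cfsg.Agent.Lib.Helper4.C4Sz8Sub
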