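import Cfsg.Agent.Lib.Helper4.TCD_SC4Sz8p2A_Acc

namespace Cfsg.Agent.Lib.Helper4.TCD.SC4Sz8p2A

open Cfsg.Agent.Lib.Helper4.TC

set_option maxRecDepth 100000
set_option Elab.async false

theorem c_rel_85 : allRange D.relOK 385888 3306 = true := by decide +kernel
theorem c_rel_86 : allRange D.relOK 389194 3311 = true := by decide +kernel
theorem c_rel_87 : allRange D.relOK 392505 3373 = true := by decide +kernel
theorem c_rel_88 : allRange D.relOK 395878 3264 = true := by decide +kernel
theorem c_rel_89 : allRange D.relOK 399142 3227 = true := by decide +kernel
theorem c_rel_90 : allRange D.relOK 402369 3289 = true := by decide +kernel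
theorem c_rel_91 : allRange D.relOK 405658 3221 = true := by decide +kernel
theorem c_rel_92 : allRange D.relOK 408879 3299 = true := by decide +kernel
theorem c_rel_93 : allRange D.relOK 412178 3215 = true := by decide +kernel
theorem c_rel_94 : allRange D.relOK 415393 3215 = true := by decide +kernel
theorem c_rel_95 : allRange D.relOK 418608 3390 = true := by decide +kernel
theorem c_rel_96 : allRange D.relOK 421998 3444 = true := by decide +kernel
theorem c_rel_97 : allRange D.relOK 425442 3346 = true := by decide +kernel
theorem c_rel_98 : allRange D.relOK 428788 3339 = true := by decide +kernel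
theorem c_rel_99 : allRange D.relOK 432127 3246 = true := by decide +kernel
theorem c_rel_100 : allRange D.relOK 435373 3396 = true := by decide +kernel
theorem c_rel_101 : allRange D.relOK 438769 3344 = true := by decide +kernel
theorem c_rel_102 : allRange D.relOK 442113 3467 = true := by decide +kernel
theorem c_rel_103 : allRange D.relOK 445580 3484 = true := by decide +kernel
theorem c_rel_104 : allRange D.relOK 449064 3573 = true := by decide +kernel
theorem c_rel_105 : allRange D.relOK 452637 3601 = true := by decide +kernel
theorem c_rel_106 : allRange D.relOK 456238 3042 = true := by decide +kernel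
theorem c_rel_107 : allRange D.relOK 459280 2965 = true := by decide +kernel
theorem c_rel_108 : allRange D.relOK 462245 2994 = true := by decide +kernel
theorem c_rel_109 : allRange D.relOK 465239 2949 = true := by decide +kernel
theorem c_rel_110 : allRange D.relOK 468188 2898 = true := by decide +kernel
theorem c_rel_111 : allRange D.relOK 471086 2883 = true := by decide +kernel
theorem c_rel_112 : allRange D.relOK 473969 2862 = true := by decide +kernel
theorem c_rel_113 : allRange D.relOK 476831 2863 = true := by decide +kernel
theorem c_rel_114 : allRange D.relOK 479694 2666 = true := by decide +kernel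
theorem c_rel_115 : allRange D.relOK 482360 682 = true := by decide +kernel
theorem c_rel_116 : allRange D.relOK 483042 568 = true := by decide +kernel
theorem c_rel_117 : allRange D.relOK 483610 650 = true := by decide +kernel
theorem c_rel_118 : allRange D.relOK 484260 772 = true := by decide +kernel
theorem c_rel_119 : allRange D.relOK 485032 921 = true := by decide +kernel
theorem c_rel_120 : allRange D.relOK 485953 1166 = true := by decide +kernel
theorem c_rel_121 : allRange D.relOK 487119 2071 = true := by decide +kernel
theorem c_rel_122 : allRange D.relOK 489190 4570 = true := by decide +kernel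
theorem c_rel_123 : allRange D.relOK 493760 4777 = true := by decide +kernel
theorem c_rel_124 : allRange D.relOK 498537 4820 = true := by decide +kernel
theorem c_rel_125 : allRange D.relOK 503357 4816 = true := by decide +kernel
theorem c_rel_126 : allRange D.relOK 508173 4767 = true := by decide +kernel
theorem c_rel_127 : allRange D.relOK 512940 4771 = true := by decide +kernel
theorem c_rel_128 : allRange D.relOK 517711 4769 = true := by decide +kernel
theorem c_rel_129 : allRange D.relOK 522480 4725 = true := by decide +kernel
theorem c_rel_130 : allRange D.relOK 527205 4731 = true := by decide +kernel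
theorem c_rel_131 : allRange D.relOK 531936 4691 = true := by decide +kernel
theorem c_rel_132 : allRange D.relOK 536627 4680 = true := by decide +kernel
theorem c_rel_133 : allRange D.relOK 541307 4634 = true := by decide +kernel
theorem c_rel_134 : allRange D.relOK 545941 4639 = true := by decide +kernel
theorem c_rel_135 : allRange D.relOK 550580 4667 = true := by decide +kernel
theorem c_rel_136 : allRange D.relOK 555247 4652 = true := by decide +kernel
theorem c_rel_137 : allRange D.relOK 559899 4651 = true := by decide +kernel
theorem c_rel_138 : allRange D.relOK 564550 4665 = true := by decide +kernel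
theorem c_rel_139 : allRange D.relOK 569215 4641 = true := by decide +kernel
theorem c_rel_140 : allRange D.relOK 573856 4614 = true := by decide +kernel
theorem c_rel_141 : allRange D.relOK 578470 4558 = true := by decide +kernel
theorem c_rel_142 : allRange D.relOK 583028 4551 = true := by decide +kernel
theorem c_rel_143 : allRange D.relOK 587579 4571 = true := by decide +kernel
theorem c_rel_144 : allRange D.relOK 592150 4522 = true := by decide +kernel
theorem c_rel_145 : allRange D.relOK 596672 4533 = true := by decide +kernel
theorem c_rel_146 : allRange D.relOK 601205 4477 = true := by decide +kernel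
theorem c_rel_147 : allRange D.relOK 605682 4000 = true := by decide +kernel
theorem c_rel_148 : allRange D.relOK 609682 3930 = true := by decide +kernel
theorem c_rel_149 : allRange D.relOK 613612 4005 = true := by decide +kernel
theorem c_rel_150 : allRange D.relOK 617617 3806 = true := by decide +kernel
theorem c_fin_0 : allGrid (T.finOK D) 0 352 34 = true := by decide +kernel
theorem c_fin_1 : allGrid (T.finOK D) 352 352 34 = true := by decide +kernel
theorem c_fin_2 : allGrid (T.finOK D) 704 352 34 = true := by decide +kernel
theorem c_fin_3 : allGrid (T.finOK D) 1056 352 34 = true := by decide +kernel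
theorem c_fin_4 : allGrid (T.finOK D) 1408 352 34 = true := by decide +kernel
theorem c_fin_5 : allGrid (T.finOK D) 1760 352 34 = true := by decide +kernel
theorem c_fin_6 : allGrid (T.finOK D) 2112 352 34 = true := by decide +kernel
theorem c_fin_7 : allGrid (T.finOK D) 2464 352 34 = true := by decide +kernel
theorem c_fin_8 : allGrid (T.finOK D) 2816 352 34 = true := by decide +kernel
theorem c_fin_9 : allGrid (T.finOK D) 3168 352 34 = true := by decide +kernel
theorem c_fin_10 : allGrid (T.finOK D) 3520 352 34 = true := by decide +kernel
theorem c_fin_11 : allGrid (T.finOK D) 3872 352 34 = true := by decide +kernel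
theorem c_fin_12 : allGrid (T.finOK D) 4224 352 34 = true := by decide +kernel
theorem c_fin_13 : allGrid (T.finOK D) 4576 352 34 = true := by decide +kernel
theorem c_fin_14 : allGrid (T.finOK D) 4928 352 34 = true := by decide +kernel
theorem c_fin_15 : allGrid (T.finOK D) 5280 352 34 = true := by decide +kernel
theorem c_fin_16 : allGrid (T.finOK D) 5632 352 34 = true := by decide +kernel

end Cfsg.Agent.Lib.Helper4.TCD.SC4Sz8p2A
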