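import Cfsg.Agent.Lib.Helper4.TCD_SC4Sz8p2A_Acc

namespace Cfsg.Agent.Lib.Helper4.TCD.SC4Sz8p2A

open Cfsg.Agent.Lib.Helper4.TC

set_option maxRecDepth 100000
set_option Elab.async false

theorem c_fin_17 : allGrid (T.finOK D) 5984 352 34 = true := by decide +kernel
theorem c_fin_18 : allGrid (T.finOK D) 6336 352 34 = true := by decide +kernel
theorem c_fin_19 : allGrid (T.finOK D) 6688 352 34 = true := by decide +kernel
theorem c_fin_20 : allGrid (T.finOK D) 7040 352 34 = true := by decide +kernel
theorem c_fin_21 : allGrid (T.finOK D) 7392 352 34 = true := by decide +kernel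
theorem c_fin_22 : allGrid (T.finOK D) 7744 352 34 = true := by decide +kernel
theorem c_fin_23 : allGrid (T.finOK D) 8096 352 34 = true := by decide +kernel
theorem c_fin_24 : allGrid (T.finOK D) 8448 352 34 = true := by decide +kernel
theorem c_fin_25 : allGrid (T.finOK D) 8800 160 34 = true := by decide +kernel
theorem c_perm_0 : allGrid (T.permOK1 D) 0 882 34 = true := by decide +kernel
theorem c_perm_1 : allGrid (T.permOK1 D) 882 882 34 = true := by decide +kernel
theorem c_perm_2 : allGrid (T.permOK1 D) 1764 882 34 = true := by decide +kernel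
theorem c_perm_3 : allGrid (T.permOK1 D) 2646 882 34 = true := by decide +kernel
theorem c_perm_4 : allGrid (T.permOK1 D) 3528 882 34 = true := by decide +kernel
theorem c_perm_5 : allGrid (T.permOK1 D) 4410 882 34 = true := by decide +kernel
theorem c_perm_6 : allGrid (T.permOK1 D) 5292 882 34 = true := by decide +kernel
theorem c_perm_7 : allGrid (T.permOK1 D) 6174 882 34 = true := by decide +kernel
theorem c_perm_8 : allGrid (T.permOK1 D) 7056 882 34 = true := by decide +kernel
theorem c_perm_9 : allGrid (T.permOK1 D) 7938 882 34 = true := by decide +kernel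
theorem c_perm_10 : allGrid (T.permOK1 D) 8820 140 34 = true := by decide +kernel
theorem c_act0_0 : allRange (fun i => Nat.beq (actR0 i) i) 0 4615 = true := by decide +kernel
theorem c_act0_1 : allRange (fun i => Nat.beq (actR0 i) i) 4615 4345 = true := by decide +kernel
theorem c_act1_0 : allRange (fun i => Nat.beq (actR1 i) i) 0 8960 = true := by decide +kernel
theorem c_act2_0 : allRange (fun i => Nat.beq (actR2 i) i) 0 8571 = true := by decide +kernel
theorem c_act2_1 : allRange (fun i => Nat.beq (actR2 i) i) 8571 389 = true := by decide +kernel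
theorem c_act3_0 : allRange (fun i => Nat.beq (actR3 i) i) 0 8960 = true := by decide +kernel
theorem c_act4_0 : allRange (fun i => Nat.beq (actR4 i) i) 0 8960 = true := by decide +kernel
theorem c_act5_0 : allRange (fun i => Nat.beq (actR5 i) i) 0 1132 = true := by decide +kernel
theorem c_act5_1 : allRange (fun i => Nat.beq (actR5 i) i) 1132 1132 = true := by decide +kernel
theorem c_act5_2 : allRange (fun i => Nat.beq (actR5 i) i) 2264 1132 = true := by decide +kernel
theorem c_act5_3 : allRange (fun i => Nat.beq (actR5 i) i) 3396 1132 = true := by decide +kernel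
theorem c_act5_4 : allRange (fun i => Nat.beq (actR5 i) i) 4528 1132 = true := by decide +kernel
theorem c_act5_5 : allRange (fun i => Nat.beq (actR5 i) i) 5660 1132 = true := by decide +kernel
theorem c_act5_6 : allRange (fun i => Nat.beq (actR5 i) i) 6792 1132 = true := by decide +kernel
theorem c_act5_7 : allRange (fun i => Nat.beq (actR5 i) i) 7924 1036 = true := by decide +kernel
theorem c_act6_0 : allRange (fun i => Nat.beq (actR6 i) i) 0 937 = true := by decide +kernel
theorem c_act6_1 : allRange (fun i => Nat.beq (actR6 i) i) 937 937 = true := by decide +kernel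
theorem c_act6_2 : allRange (fun i => Nat.beq (actR6 i) i) 1874 937 = true := by decide +kernel
theorem c_act6_3 : allRange (fun i => Nat.beq (actR6 i) i) 2811 937 = true := by decide +kernel
theorem c_act6_4 : allRange (fun i => Nat.beq (actR6 i) i) 3748 937 = true := by decide +kernel
theorem c_act6_5 : allRange (fun i => Nat.beq (actR6 i) i) 4685 937 = true := by decide +kernel
theorem c_act6_6 : allRange (fun i => Nat.beq (actR6 i) i) 5622 937 = true := by decide +kernel
theorem c_act6_7 : allRange (fun i => Nat.beq (actR6 i) i) 6559 937 = true := by decide +kernel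
theorem c_act6_8 : allRange (fun i => Nat.beq (actR6 i) i) 7496 937 = true := by decide +kernel
theorem c_act6_9 : allRange (fun i => Nat.beq (actR6 i) i) 8433 527 = true := by decide +kernel
theorem c_act7_0 : allRange (fun i => Nat.beq (actR7 i) i) 0 6000 = true := by decide +kernel
theorem c_act7_1 : allRange (fun i => Nat.beq (actR7 i) i) 6000 2960 = true := by decide +kernel
theorem c_act8_0 : allRange (fun i => Nat.beq (actR8 i) i) 0 8960 = true := by decide +kernel
theorem c_act9_0 : allRange (fun i => Nat.beq (actR9 i) i) 0 8960 = true := by decide +kernel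
theorem c_act10_0 : allRange (fun i => Nat.beq (actR10 i) i) 0 8960 = true := by decide +kernel
theorem c_act11_0 : allRange (fun i => Nat.beq (actR11 i) i) 0 8960 = true := by decide +kernel
theorem c_act12_0 : allRange (fun i => Nat.beq (actR12 i) i) 0 8960 = true := by decide +kernel
theorem c_act13_0 : allRange (fun i => Nat.beq (actR13 i) i) 0 8960 = true := by decide +kernel
theorem c_act14_0 : allRange (fun i => Nat.beq (actR14 i) i) 0 8960 = true := by decide +kernel
theorem c_act15_0 : allRange (fun i => Nat.beq (actR15 i) i) 0 8960 = true := by decide +kernel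
theorem c_act16_0 : allRange (fun i => Nat.beq (actR16 i) i) 0 8960 = true := by decide +kernel
theorem c_act17_0 : allRange (fun i => Nat.beq (actR17 i) i) 0 8960 = true := by decide +kernel
theorem c_act18_0 : allRange (fun i => Nat.beq (actR18 i) i) 0 8960 = true := by decide +kernel
theorem c_act19_0 : allRange (fun i => Nat.beq (actR19 i) i) 0 8960 = true := by decide +kernel
theorem c_act20_0 : allRange (fun i => Nat.beq (actR20 i) i) 0 8960 = true := by decide +kernel
theorem c_act21_0 : allRange (fun i => Nat.beq (actR21 i) i) 0 8960 = true := by decide +kernel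
theorem c_act22_0 : allRange (fun i => Nat.beq (actR22 i) i) 0 8960 = true := by decide +kernel

end Cfsg.Agent.Lib.Helper4.TCD.SC4Sz8p2A
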