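import Mathlib
import Cfsg.Agent.Lib.Helper4.C4Sz8Main
import Cfsg.Agent.Lib.Helper4.TCD_SC4Sz8p2A_Fin
import Cfsg.Agent.Lib.Helper4.TCD_SC4Sz8p2W
import Cfsg.Agent.Lib.Helper4.StemLib8
import Cfsg.Agent.Lib.Helper4.C4Sz8Sub

/-! `C4Sz8` has no stem extension with kernel of order 2 (generated). -/

namespace Cfsg.Agent.Lib.Helper4.SC4Sz8p2Main

open Cfsg.Agent.Lib.Helper4.TC Cfsg.Agent.Lib.Helper4.TCD Cfsg.Agent.Lib.Helper4.TC.Log Cfsg.Agent.Lib.Helper4.Stem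

/-- the description of the auxiliary presentation -/
def spec : Spec4 :=
  { p := 2
    items := [(0, [], 13),
      (2, [], 5),
      (4, [], 7),
      (6, [3, 4], 0),
      (8, [2, 7], 0),
      (10, [8, 6, 8, 7, 8, 6, 8, 7, 8, 6, 8, 7, 8, 6, 8, 7, 8, 6, 8, 7, 8, 6, 8, 7, 8, 6, 8, 7, 8, 6, 8, 7, 8, 6, 8, 7, 8, 6, 8, 7, 8, 6, 8, 7, 8, 6, 8, 7, 8, 6, 8, 7], 0),
      (12, [8, 6, 8, 6, 6, 8, 6, 6, 6, 8, 6, 8, 6, 6, 8, 6, 6, 6, 8, 6, 8, 6, 6, 8, 6, 6, 6, 8, 6, 8, 6, 6, 8, 6, 6, 6, 8, 6, 8, 6, 6, 8, 6, 6, 6, 8, 6, 8, 6, 6, 8, 6, 6, 6, 8, 6, 8, 6, 6, 8, 6, 6, 6], 0),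
      (14, [1, 8, 6, 8, 7, 8, 6, 8, 7], 0),
      (16, [8, 8], 0),
      (18, [6, 6, 6, 6], 0),
      (20, [10, 10], 0),
      (22, [12, 12], 0),
      (24, [11, 9, 10, 8], 0),
      (26, [11, 7, 10, 6], 0),
      (28, [13, 9, 12, 8], 0),
      (30, [13, 7, 12, 6], 0),
      (32, [11, 13, 10, 12], 0)]
    cen := [14, 16, 18, 20, 22, 24, 26, 28, 30, 32]
    R := []
    sub := [0]
    PR := [[0, 0, 0, 0, 0, 0, 0, 0, 0, 0, 0, 0, 0]]
    XR := [] }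

/-- the letters of the auxiliary presentation as words of the base group -/
def Wl (l : ℕ) : List ℕ :=
  [[0, 2, 0, 3, 0, 2, 0, 3], [2, 1, 3, 1, 2, 1, 3, 1], [0, 2], [3, 1], [0, 2, 2], [3, 3, 1], [2], [3], [0], [1], [4], [5], [6], [7], [], [], [], [], [], [], [], [], [], [], [], [], [], [], [], [], [], [], [], []].getD l []

theorem checks_eq : checks spec.toSpec2 PC4Sz8.P.invR Wl ++ checksX spec PSC4Sz8p2.P.invR Wl = SC4Sz8p2W.chkAll := by decide +kernel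

theorem sub_eq : Subgroup.closure (xw PC4Sz8.P Wl '' {l | l ∈ spec.sub}) = Inst.subG PC4Sz8.P C4Sz8B.subs := by
  rw [closure_xw_eq]
  rfl

set_option maxRecDepth 100000 in
theorem noStem : NoStemPrime PC4Sz8.P.Grp 2 := by
  obtain ⟨fG, hinj, hcard⟩ := C4Sz8Main.order_aux
  have hall : ∀ w ∈ checks spec.toSpec2 PC4Sz8.P.invR Wl ++ checksX spec PSC4Sz8p2.P.invR Wl, wordP PC4Sz8.P.gR w = 1 := by
    rw [checks_eq]
    intro w hw
    exact C4Sz8R.prep.word_eq_one hinj w (SC4Sz8p2W.hAll_lt w hw) (SC4Sz8p2W.hAll w hw)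
  exact noStemPrime_pres4 PC4Sz8.P PC4Sz8.valid PSC4Sz8p2.P PSC4Sz8p2.valid spec (by show Nat.Prime 2; norm_num) Wl
    (by decide +kernel) (by decide +kernel) (fun w hw => hall w (List.mem_append_left _ hw))
    (fun w hw => hall w (List.mem_append_right _ hw)) (by decide +kernel)
    (by rw [sub_eq]; exact C4Sz8Sub.liftsP_sub 2 (by norm_num))
    13 (by rw [sub_eq]; exact C4Sz8Sub.sub_card)
    8960 (by decide) SC4Sz8p2A.index_eq fG 116480 hcard (by decide)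

end Cfsg.Agent.Lib.Helper4.SC4Sz8p2Main
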