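import Mathlib

/-!
A computable model of the field with 8 elements: `𝔽₂[ζ]` with `ζ³ = ζ + 1`.
-/

set_option autoImplicit false

namespace Cfsg.Agent.Lib.Helper4.K8Field

/-- the field with 8 elements, as `c0 + c1 ζ + c2 ζ²` over `ZMod 2` -/
structure K8 where
  /-- the constant part -/
  c0 : ZMod 2
  /-- the coefficient of `ζ` -/
  c1 : ZMod 2
  /-- the coefficient of `ζ²` -/
  c2 : ZMod 2
  deriving DecidableEq, Fintype

namespace K8

instance : Zero K8 := ⟨⟨0, 0, 0⟩⟩
instance : One K8 := ⟨⟨1, 0, 0⟩⟩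
instance : Add K8 := ⟨fun a b => ⟨a.c0 + b.c0, a.c1 + b.c1, a.c2 + b.c2⟩⟩
instance : Neg K8 := ⟨fun a => a⟩
instance : Mul K8 := ⟨fun a b =>
  ⟨a.c0 * b.c0 + (a.c1 * b.c2 + a.c2 * b.c1),
   (a.c0 * b.c1 + a.c1 * b.c0) + (a.c1 * b.c2 + a.c2 * b.c1) + a.c2 * b.c2,
   (a.c0 * b.c2 + a.c1 * b.c1 + a.c2 * b.c0) + a.c2 * b.c2⟩⟩
instance : Inv K8 := ⟨fun a => (a * a) * ((a * a) * (a * a))⟩

/-- the element with binary digits `n` (the digit of weight `2^i` is the coefficient of `ζ^i`) -/
def k (n : ℕ) : K8 := ⟨(n : ZMod 2), ((n / 2 : ℕ) : ZMod 2), ((n / 4 : ℕ) : ZMod 2)⟩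

instance : CommRing K8 where
  add_assoc := by decide +kernel
  zero_add := by decide +kernel
  add_zero := by decide +kernel
  add_comm := by decide +kernel
  neg_add_cancel := by decide +kernel
  mul_assoc := by decide +kernel
  one_mul := by decide +kernel
  mul_one := by decide +kernel
  left_distrib := by decide +kernel
  right_distrib := by decide +kernel
  zero_mul := by decide +kernel
  mul_zero := by decide +kernel
  mul_comm := by decide +kernel
  nsmul := nsmulRec
  zsmul := zsmulRec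

instance : Field K8 where
  exists_pair_ne := ⟨0, 1, by decide⟩
  mul_inv_cancel := by decide +kernel
  inv_zero := by decide +kernel
  nnqsmul := _
  nnqsmul_def := fun _ _ => rfl
  qsmul := _
  qsmul_def := fun _ _ => rfl

theorem card : Fintype.card K8 = 8 := by decide +kernel

end K8

end Cfsg.Agent.Lib.Helper4.K8Field
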