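import Mathlib
import Cfsg.Prelude.Def_Sz
import Cfsg.Agent.Lib.Helper4.K8Field
import Cfsg.Agent.Lib.Helper4.Sz8pMain
import Cfsg.Agent.Lib.Helper4.SzB4
import Cfsg.Agent.Lib.Helper4.TC20
import Cfsg.Agent.Lib.Helper4.RelLib

/-!
The presented group `Sz8p` is isomorphic to the Suzuki group over every field with 8 elements.
-/

set_option autoImplicit false

namespace Cfsg.Agent.Lib.Helper4.Sz8pIso

open Cfsg.Agent.Lib.Helper4.TC Cfsg.Agent.Lib.Helper4.TCD Cfsg.Agent.Lib.Helper4.TC.Log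
  Cfsg.Agent.Lib.Helper4.K8Field Cfsg.Agent.Lib.Helper4.K8Field.K8 Cfsg.Agent.Lib.Helper4.Suz

/-- the group `SL₄` over the model of the field with 8 elements -/
abbrev SL8 : Type := Matrix.SpecialLinearGroup (Fin 4) K8

theorem hF8 : Fintype.card K8 = 2 ^ (2 * 1 + 1) := K8.card

/-- the matrix of `a` -/
def mA : SL8 := wS (m := 1) hF8
/-- the matrix of `b` -/
def mB : SL8 := uS 1 (k 3) 0
/-- its inverse -/
def mB' : SL8 := uS 1 (k 3) (k 2)

/-- the matrices of the letters -/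
def mU (l : ℕ) : SL8 := [mA, mA, mB, mB'].getD l 1

theorem minv_ok : ∀ l, l < PSz8p.P.k → mU l * mU (PSz8p.P.invR l) = 1 := by decide +kernel

theorem mrel_ok : ∀ L ∈ PSz8p.P.real, wordP mU L = 1 := by decide +kernel

theorem exists_hom : ∃ f : PSz8p.P.Grp →* SL8, ∀ l, l < PSz8p.P.k → f (PSz8p.P.gR l) = mU l :=
  exists_hom_of_letters PSz8p.P PSz8p.valid mU minv_ok mrel_ok

/-- the homomorphism to `SL₄` over the model field -/
noncomputable def φ : PSz8p.P.Grp →* SL8 := Classical.choose exists_hom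

theorem φ_gR (l : ℕ) (hl : l < 4) : φ (PSz8p.P.gR l) = mU l := Classical.choose_spec exists_hom l hl

section

variable {K F : Type*} [Field K] [Field F]

theorem map_uS (f : K →+* F) (m : ℕ) (a b : K) :
    Matrix.SpecialLinearGroup.map f (uS m a b) = uS m (f a) (f b) := by
  apply Subtype.ext
  ext i j
  show f (uM m a b i j) = uM m (f a) (f b) i j
  fin_cases i <;> fin_cases j <;> simp [uM, th, ff]

theorem map_wS [Fintype K] [Fintype F] {m : ℕ} (f : K →+* F) (hK : Fintype.card K = 2 ^ (2 * m + 1))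
    (hF : Fintype.card F = 2 ^ (2 * m + 1)) :
    Matrix.SpecialLinearGroup.map f (wS hK) = wS hF := by
  apply Subtype.ext
  ext i j
  show f ((wM : Matrix (Fin 4) (Fin 4) K) i j) = (wM : Matrix (Fin 4) (Fin 4) F) i j
  fin_cases i <;> fin_cases j <;> simp [wM]

end

section

variable {F : Type*} [Field F] [Fintype F] (hF : Fintype.card F = 2 ^ (2 * 1 + 1)) (e : K8 ≃+* F)

/-- the homomorphism to `SL₄` over a field with 8 elements -/
noncomputable def ψ₀ : PSz8p.P.Grp →* Matrix.SpecialLinearGroup (Fin 4) F :=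
  (Matrix.SpecialLinearGroup.map e.toRingHom).comp φ

include hF in
theorem ψ₀_gR_mem (l : ℕ) (hl : l < 4) : ψ₀ e (PSz8p.P.gR l) ∈ Cfsg.Sz F 1 := by
  show Matrix.SpecialLinearGroup.map e.toRingHom (φ (PSz8p.P.gR l)) ∈ Cfsg.Sz F 1
  rw [φ_gR l hl]
  have h4 : l = 0 ∨ l = 1 ∨ l = 2 ∨ l = 3 := by omega
  rcases h4 with rfl | rfl | rfl | rfl
  · show Matrix.SpecialLinearGroup.map e.toRingHom (wS (m := 1) hF8) ∈ Cfsg.Sz F 1
    rw [map_wS e.toRingHom hF8 hF]
    exact wS_mem hF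
  · show Matrix.SpecialLinearGroup.map e.toRingHom (wS (m := 1) hF8) ∈ Cfsg.Sz F 1
    rw [map_wS e.toRingHom hF8 hF]
    exact wS_mem hF
  · show Matrix.SpecialLinearGroup.map e.toRingHom (uS 1 (k 3) 0) ∈ Cfsg.Sz F 1
    rw [map_uS]
    exact uS_mem hF _ _
  · show Matrix.SpecialLinearGroup.map e.toRingHom (uS 1 (k 3) (k 2)) ∈ Cfsg.Sz F 1
    rw [map_uS]
    exact uS_mem hF _ _

include hF in
theorem ψ₀_mem (x : PSz8p.P.Grp) : ψ₀ e x ∈ Cfsg.Sz F 1 := by
  have htop : letG PSz8p.P (List.range PSz8p.P.k) = ⊤ := letG_all PSz8p.P PSz8p.valid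
  have hle : letG PSz8p.P (List.range PSz8p.P.k) ≤ (Cfsg.Sz F 1).comap (ψ₀ e) := by
    rw [letG, Subgroup.closure_le]
    rintro _ ⟨l, hl, rfl⟩
    have hl' : l < 4 := by
      have := List.mem_range.1 hl
      exact this
    exact ψ₀_gR_mem hF e l hl'
  have hx : x ∈ letG PSz8p.P (List.range PSz8p.P.k) := by rw [htop]; trivial
  exact hle hx

/-- the homomorphism to the Suzuki group -/
noncomputable def ψ : PSz8p.P.Grp →* Cfsg.Sz F 1 := (ψ₀ e).codRestrict (Cfsg.Sz F 1) (ψ₀_mem hF e)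

theorem ψ_ne : ψ hF e (PSz8p.P.gR 0) ≠ 1 := by
  intro h
  have h1 : ψ₀ e (PSz8p.P.gR 0) = 1 := congrArg Subtype.val h
  have h2 : Matrix.SpecialLinearGroup.map e.toRingHom (φ (PSz8p.P.gR 0)) = 1 := h1
  rw [φ_gR 0 (by decide)] at h2
  have h3 : Matrix.SpecialLinearGroup.map e.toRingHom (wS (m := 1) hF8) = 1 := h2
  rw [map_wS e.toRingHom hF8 hF] at h3
  have h4 := congrArg (fun g : Matrix.SpecialLinearGroup (Fin 4) F => (g : Matrix (Fin 4) (Fin 4) F) 0 0) h3
  simp [wS, wM] at h4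

theorem ψ_injective : Function.Injective (ψ hF e) :=
  injective_of_simple Sz8pMain.simple_aux (ψ hF e) _ (ψ_ne hF e)

theorem ψ_surjective : Function.Surjective (ψ hF e) := by
  obtain ⟨fG, _, hcard⟩ := Sz8pMain.order_aux
  have := fG
  rw [← MonoidHom.range_eq_top]
  apply Subgroup.eq_top_of_card_eq
  rw [card_Sz hF (le_refl 1), ← Nat.card_congr (MonoidHom.ofInjective (ψ_injective hF e)).toEquiv, hcard]
  norm_num

end

/-- the presented group is the Suzuki group over any field with 8 elements -/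
theorem iso {F : Type*} [Field F] [Fintype F] (hF : Fintype.card F = 8) :
    Nonempty (PSz8p.P.Grp ≃* Cfsg.Lie.Sz F 4) := by
  have hF' : Fintype.card F = 2 ^ (2 * 1 + 1) := hF
  have e0 : K8 ≃+* F := FiniteField.ringEquivOfCardEq (K8.card.trans hF.symm)
  have e1 : PSz8p.P.Grp ≃* Cfsg.Sz F 1 :=
    MulEquiv.ofBijective (ψ hF' e0) ⟨ψ_injective hF' e0, ψ_surjective hF' e0⟩
  exact ⟨e1.trans (szEquiv hF' (le_refl 1))⟩

end Cfsg.Agent.Lib.Helper4.Sz8pIso
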