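import Mathlib
import Cfsg.Prelude.Def_KGroupFacts
import Cfsg.Agent.Lib.Helper4.Sz8pIso
import Cfsg.Agent.Lib.Helper4.C4Sz8Cover
import Cfsg.Agent.Lib.Helper4.SC4Sz8p2Main

/-!
The presented group `C4Sz8` has no stem extension with kernel of prime order, and the Schur multiplier of the
Suzuki group over a field with 8 elements is the product of two cyclic groups of order 2.
-/

set_option autoImplicit false

namespace Cfsg.Agent.Lib.Helper4.C4Sz8Stem

open Cfsg Cfsg.Agent.Lib.Helper4.TC Cfsg.Agent.Lib.Helper4.TCD Cfsg.Agent.Lib.Helper4.TC.Log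
  Cfsg.Agent.Lib.Helper4.Stem

/-- no stem extension with kernel of prime order -/
theorem noStem : ∀ p, p.Prime → NoStemPrime PC4Sz8.P.Grp p := by
  obtain ⟨fG, _, hcard⟩ := C4Sz8Main.order_aux
  have := fG
  apply noStemPrime_all PC4Sz8.P.Grp [2]
  · intro p hp
    simp only [List.mem_cons, List.not_mem_nil, or_false] at hp
    rcases hp with rfl
    exact SC4Sz8p2Main.noStem
  · rw [hcard]
    exact sq_dvd_mem_of_factors 116480 [2, 2, 2, 2, 2, 2, 2, 2, 5, 7, 13] (by norm_num) (by decide) [2]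
      (by decide)

/-- the Schur multiplier of the Suzuki group over a field with 8 elements is the product of two cyclic groups of
order 2 -/
theorem hasMult {F : Type*} [Field F] [Fintype F] (hF : Fintype.card F = 8) :
    Cfsg.HasSchurMultiplier ↥(Cfsg.Lie.Sz F 4) (Multiplicative (ZMod 2 × ZMod 2)) := by
  obtain ⟨e⟩ := Sz8pIso.iso hF
  obtain ⟨fG, _, _⟩ := C4Sz8Main.order_aux
  have := fG
  obtain ⟨fL, _⟩ := Sz8pMain.order_aux
  have := fL
  have : Finite ↥(Cfsg.Lie.Sz F 4) := Finite.of_equiv _ e.toEquiv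
  let τ : PC4Sz8.P.Grp →* ↥(Cfsg.Lie.Sz F 4) := e.toMonoidHom.comp C4Sz8Cover.π
  have hker : τ.ker = C4Sz8Cover.π.ker := by
    ext x
    rw [MonoidHom.mem_ker, MonoidHom.mem_ker]
    show e (C4Sz8Cover.π x) = 1 ↔ _
    exact EmbeddingLike.map_eq_one_iff
  have hτ : IsStemExtension τ := by
    refine ⟨?_, ?_, ?_⟩
    · exact e.surjective.comp C4Sz8Cover.isStem.1
    · rw [hker]
      exact C4Sz8Cover.isStem.2.1
    · rw [hker]
      exact C4Sz8Cover.isStem.2.2
  obtain ⟨ek⟩ := C4Sz8Cover.ker_equiv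
  have ek' : τ.ker ≃* Multiplicative (ZMod 2 × ZMod 2) := (MulEquiv.subgroupCongr hker).trans ek
  exact hasSchurMultiplier_of_cover PC4Sz8.P.Grp τ hτ ek' noStem

end Cfsg.Agent.Lib.Helper4.C4Sz8Stem
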