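import Mathlib
import Cfsg.Prelude.Def_SporCoxeter

/-! The fourfold cover of U4(3), of order 4·3265920, presented on lifts `c`, `d`, `t` of the generators of `U43p` and the central element `z` of order 4 (generated). -/

namespace Cfsg.Agent.Lib.Helper4

namespace C4U43

/-- the generators -/
inductive Gen
  | c
  | d
  | t
  | z
  deriving DecidableEq

abbrev c : FreeGroup Gen := FreeGroup.of Gen.c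
abbrev d : FreeGroup Gen := FreeGroup.of Gen.d
abbrev t : FreeGroup Gen := FreeGroup.of Gen.t
abbrev z : FreeGroup Gen := FreeGroup.of Gen.z

/-- no Coxeter graph -/
def edges : List (Gen × ℕ × Gen) := []

/-- the relators -/
def extra : List (FreeGroup Gen) := [
  c ^ 7,
  c * c * d * c⁻¹ * d * c * d⁻¹ * c * d * c⁻¹ * d,
  (c * c * c * d) ^ 3,
  c * c * d * d * c * c * d⁻¹ * d⁻¹ * c * c * d⁻¹ * d⁻¹,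
  t ^ 7,
  ((d * t) ^ 4) * z⁻¹ * z⁻¹,
  c * c * c * d⁻¹ * t * c⁻¹ * d⁻¹ * t * c⁻¹ * d⁻¹ * z⁻¹,
  c * d * c * d * c⁻¹ * t⁻¹ * c⁻¹ * d⁻¹ * c⁻¹ * d⁻¹ * t * z⁻¹ * z⁻¹ * z⁻¹,
  c * c * c * c * t⁻¹ * c⁻¹ * d * c * c * c * d * t⁻¹ * z⁻¹ * z⁻¹ * z⁻¹,
  c * c * c * d * c⁻¹ * d * c⁻¹ * c⁻¹ * c⁻¹ * t⁻¹ * c⁻¹ * d⁻¹ * t⁻¹ * z⁻¹ * z⁻¹,
  c * c * d⁻¹ * c⁻¹ * d⁻¹ * c * c * t * d * c⁻¹ * c⁻¹ * t⁻¹ * d * z⁻¹,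
  c * c * d * c * c * d⁻¹ * c * t⁻¹ * c * t⁻¹ * t⁻¹ * t⁻¹ * c * t⁻¹ * d⁻¹ * z⁻¹ * z⁻¹,
  c * c * d * t * c * t⁻¹ * c⁻¹ * c⁻¹ * t⁻¹ * d⁻¹ * t⁻¹ * d * c * d * d,
  z ^ 4,
  z⁻¹ * c⁻¹ * z * c,
  z⁻¹ * d⁻¹ * z * d,
  z⁻¹ * t⁻¹ * z * t ]

end C4U43

end Cfsg.Agent.Lib.Helper4
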