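import Mathlib
import Cfsg.Prelude.Def_SporCoxeter

/-! The fourfold cover of the unitary group U6(2), of order 4·9196830720, presented on lifts `a`, `b`, `w`, `u`, `v` of the generators of `U62p` and central involutions `y` and `z` (generated). -/

namespace Cfsg.Agent.Lib.Helper4

namespace C4U62

/-- the generators -/
inductive Gen
  | a
  | b
  | w
  | u
  | v
  | y
  | z
  deriving DecidableEq

abbrev a : FreeGroup Gen := FreeGroup.of Gen.a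
abbrev b : FreeGroup Gen := FreeGroup.of Gen.b
abbrev w : FreeGroup Gen := FreeGroup.of Gen.w
abbrev u : FreeGroup Gen := FreeGroup.of Gen.u
abbrev v : FreeGroup Gen := FreeGroup.of Gen.v
abbrev y : FreeGroup Gen := FreeGroup.of Gen.y
abbrev z : FreeGroup Gen := FreeGroup.of Gen.z

/-- no Coxeter graph -/
def edges : List (Gen × ℕ × Gen) := []

/-- the relators -/
def extra : List (FreeGroup Gen) := [
  a ^ 2,
  b ^ 5,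
  (a * b) ^ 9,
  (a⁻¹ * b⁻¹ * a * b) ^ 3,
  (a⁻¹ * b⁻¹ * a⁻¹ * b⁻¹ * a * b * a * b) ^ 2,
  w ^ 3,
  w⁻¹ * a⁻¹ * w * a,
  w⁻¹ * b⁻¹ * w * b,
  u ^ 2,
  (a * u) ^ 3,
  a * b * a * b * w * u * a * b * u,
  v ^ 3,
  a * b * a * b * a * b * w * u * b * a * v * b * a * b⁻¹ * v⁻¹ * a * b⁻¹,
  a * b * a * b * a * b * a * v * w * v * b * a * b⁻¹ * a * b⁻¹ * a * b * b * y⁻¹,
  a * b * a * b * a * b * a * b⁻¹ * b⁻¹ * a * b⁻¹ * w * u * b * b * u * a * b⁻¹ * v * u * v * w⁻¹ * b * u * v⁻¹ * b⁻¹ * b⁻¹ * z⁻¹,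
  y ^ 2,
  z ^ 2,
  y⁻¹ * a⁻¹ * y * a,
  y⁻¹ * b⁻¹ * y * b,
  y⁻¹ * w⁻¹ * y * w,
  y⁻¹ * u⁻¹ * y * u,
  y⁻¹ * v⁻¹ * y * v,
  z⁻¹ * a⁻¹ * z * a,
  z⁻¹ * b⁻¹ * z * b,
  z⁻¹ * w⁻¹ * z * w,
  z⁻¹ * u⁻¹ * z * u,
  z⁻¹ * v⁻¹ * z * v,
  y⁻¹ * z⁻¹ * y * z ]

end C4U62

end Cfsg.Agent.Lib.Helper4
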