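import Mathlib
import Cfsg.Agent.Lib.Helper8.C5Defs
import Cfsg.Agent.Lib.Helper8.C5A5

set_option autoImplicit false
set_option linter.unusedSectionVars false
set_option linter.unusedVariables false
set_option linter.unusedSimpArgs false
set_option linter.style.haveILetI false
set_option maxHeartbeats 1000000

/-! # S3433 piece E: the class equation kills the `PSL₃(4)` configuration -/

open Cfsg.Agent.Lib.Helper8.C5

namespace Cfsg.Agent.Lib.Helper4.C5

universe u
variable {G : Type u} [Group G] [Finite G]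

/-- in a `C5` group `|G| = |S₂| |S₃| |S₅|` -/
theorem card_eq_mul (h5 : C5 G) (S : Sylow 2 G) (P3 : Sylow 3 G) (P5 : Sylow 5 G) :
    Nat.card G = Nat.card ↥(S : Subgroup G) * Nat.card ↥(P3 : Subgroup G) *
      Nat.card ↥(P5 : Subgroup G) := by
  haveI : Fact (Nat.Prime 2) := ⟨Nat.prime_two⟩
  haveI : Fact (Nat.Prime 3) := ⟨Nat.prime_three⟩
  haveI : Fact (Nat.Prime 5) := ⟨Nat.prime_five⟩
  rw [S.card_eq_multiplicity, P3.card_eq_multiplicity, P5.card_eq_multiplicity]
  have hN : Nat.card G ≠ 0 := Nat.card_pos.ne'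
  have hsub : (Nat.card G).primeFactors ⊆ ({2, 3, 5} : Finset ℕ) := by
    intro p hp
    rw [Nat.mem_primeFactors] at hp
    obtain ⟨hpp, hdvd, _⟩ := hp
    haveI : Fact p.Prime := ⟨hpp⟩
    obtain ⟨g, hg⟩ := exists_prime_orderOf_dvd_card' p hdvd
    have h5g := (h5 g).2
    rw [hg] at h5g
    have h2 := hpp.two_le
    interval_cases p
    · simp
    · simp
    · exact absurd hpp (by norm_num)
    · simp
  conv_lhs => rw [← Nat.prod_factorization_pow_eq_self hN]
  rw [Nat.prod_factorization_eq_prod_primeFactors, Finset.prod_subset hsub]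
  · rw [Finset.prod_insert (by decide), Finset.prod_insert (by decide), Finset.prod_singleton]
    ring
  · intro p _ hp
    have : (Nat.card G).factorization p = 0 := by
      rw [← Finsupp.notMem_support_iff, Nat.support_factorization]; exact hp
    rw [this, pow_zero]

/-- the partition of a `C5` group by element orders -/
theorem card_eq_sum_orders (h5 : C5 G) :
    Nat.card G = 1 + Nat.card {g : G // orderOf g = 2} + Nat.card {g : G // orderOf g = 3}
      + Nat.card {g : G // orderOf g = 4} + Nat.card {g : G // orderOf g = 5} := by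
  classical
  letI : Fintype G := Fintype.ofFinite G
  have h1 : Fintype.card G =
      ∑ i ∈ Finset.Icc 1 5, (Finset.univ.filter (fun g : G => orderOf g = i)).card := by
    rw [← Finset.card_univ]
    exact Finset.card_eq_sum_card_fiberwise (fun g _ => Finset.mem_coe.2 (Finset.mem_Icc.2 (h5 g)))
  have hc : ∀ i : ℕ, Nat.card {g : G // orderOf g = i} =
      (Finset.univ.filter (fun g : G => orderOf g = i)).card := by
    intro i
    rw [Nat.card_eq_fintype_card, Fintype.card_subtype]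
  have hone : (Finset.univ.filter (fun g : G => orderOf g = 1)).card = 1 := by
    rw [Finset.card_eq_one]
    refine ⟨1, ?_⟩
    ext g
    simp [orderOf_eq_one_iff]
  rw [Nat.card_eq_fintype_card, h1, hc, hc, hc, hc]
  have hI : Finset.Icc 1 5 = ({1, 2, 3, 4, 5} : Finset ℕ) := by decide
  rw [hI, Finset.sum_insert (by decide), Finset.sum_insert (by decide),
    Finset.sum_insert (by decide), Finset.sum_insert (by decide), Finset.sum_singleton, hone]
  ring

/-- pure arithmetic core -/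
theorem arith_core (A' B' n3 n5 a b : ℕ) (ha : 1 ≤ a) (hb : 1 ≤ b)
    (hA : A' = 2 ∨ 8 ≤ A') (hB : 4 ≤ B')
    (h3 : n3 * a = 32 * ((B' + 1) * A'))
    (h5 : n5 * b = 32 * ((A' + 1) * B'))
    (hsum : 64 * ((A' + 1) * (B' + 1)) =
      1 + (A' + 1) * (B' + 1) + n3 + 12 * ((A' + 1) * (B' + 1)) + n5) : False := by
  have e1 : (A' + 1) * (B' + 1) = A' * B' + A' + B' + 1 := by ring
  have e2 : (B' + 1) * A' = A' * B' + A' := by ring
  have e3 : (A' + 1) * B' = A' * B' + B' := by ring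
  rw [e1] at hsum
  rw [e2] at h3
  rw [e3] at h5
  have hpA : 4 * A' ≤ A' * B' := by nlinarith
  have hpB : (A' = 2 ∧ A' * B' = 2 * B') ∨ (8 ≤ A' ∧ 8 * B' ≤ A' * B') := by
    rcases hA with h | h
    · left; exact ⟨h, by rw [h]⟩
    · right; exact ⟨h, by nlinarith⟩
  generalize A' * B' = p at *
  have hn3 : n3 ≤ 32 * (p + A') := by
    calc n3 = n3 * 1 := (mul_one _).symm
      _ ≤ n3 * a := Nat.mul_le_mul_left _ ha
      _ = 32 * (p + A') := h3
  have hn5 : n5 ≤ 32 * (p + B') := by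
    calc n5 = n5 * 1 := (mul_one _).symm
      _ ≤ n5 * b := Nat.mul_le_mul_left _ hb
      _ = 32 * (p + B') := h5
  rcases Nat.lt_or_ge a 2 with ha2 | ha2
  · rcases Nat.lt_or_ge b 2 with hb2 | hb2
    · have ha1 : a = 1 := by omega
      have hb1 : b = 1 := by omega
      rw [ha1, mul_one] at h3
      rw [hb1, mul_one] at h5
      omega
    · have : n5 * 2 ≤ 32 * (p + B') := by
        calc n5 * 2 ≤ n5 * b := Nat.mul_le_mul_left _ hb2
          _ = 32 * (p + B') := h5
      omega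
  · have : n3 * 2 ≤ 32 * (p + A') := by
      calc n3 * 2 ≤ n3 * a := Nat.mul_le_mul_left _ ha2
        _ = 32 * (p + A') := h3
    omega

/-- a nontrivial Sylow `p`-subgroup has order `p ^ (i+1)` -/
theorem sylow_card_pow {p : ℕ} [Fact p.Prime] (P : Sylow p G) (hP : (P : Subgroup G) ≠ ⊥) :
    ∃ i : ℕ, Nat.card ↥(P : Subgroup G) = p ^ (i + 1) := by
  obtain ⟨i, hi⟩ := IsPGroup.iff_card.1 P.isPGroup'
  rcases i with _ | i
  · exfalso
    apply hP
    rw [pow_zero] at hi
    exact Subgroup.eq_bot_of_card_eq _ hi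
  · exact ⟨i, hi⟩

/-- Piece E with pieces C and D as hypotheses. -/
theorem caseI_arith_of [IsSimpleGroup G] (h5 : C5 G) (hns : ¬ IsSolvable G) (S : Sylow 2 G)
    (hS : Nat.card ↥(S : Subgroup G) = 64) (z : G) (hz : orderOf z = 2)
    (hzS : z ∈ (S : Subgroup G)) (hzc : ∀ s ∈ (S : Subgroup G), s * z = z * s)
    (hν : Nat.card {u : G // u ^ 2 = z} = 12)
    (h3 : ∃ x t : G, orderOf x = 3 ∧ t * x * t⁻¹ = x⁻¹)
    (h5' : ∃ x t : G, orderOf x = 5 ∧ t * x * t⁻¹ = x⁻¹)
    (hC : ∀ (p : ℕ) [Fact p.Prime], (p = 3 ∨ p = 5) → ∀ P : Sylow p G, (P : Subgroup G) ≠ ⊥ →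
      ∃ k : ℕ,
      Nat.card ↥(Subgroup.normalizer ((P : Subgroup G) : Set G)) =
        Nat.card ↥(P : Subgroup G) * k ∧
      Nat.card {g : G // orderOf g = p} * (Nat.card ↥(P : Subgroup G) * k) =
        Nat.card G * (Nat.card ↥(P : Subgroup G) - 1) ∧
      ((∃ x t : G, orderOf x = p ∧ t * x * t⁻¹ = x⁻¹) → Even k))
    (hD : Nat.card {g : G // orderOf g = 2} * Nat.card ↥(S : Subgroup G) = Nat.card G ∧
      Nat.card {g : G // orderOf g = 4} * Nat.card ↥(S : Subgroup G) =
        Nat.card G * Nat.card {u : G // u ^ 2 = z}) : False := by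
  haveI : Fact (Nat.Prime 3) := ⟨Nat.prime_three⟩
  haveI : Fact (Nat.Prime 5) := ⟨Nat.prime_five⟩
  obtain ⟨P3⟩ : Nonempty (Sylow 3 G) := inferInstance
  obtain ⟨P5⟩ : Nonempty (Sylow 5 G) := inferInstance
  have hP3 : (P3 : Subgroup G) ≠ ⊥ := by
    obtain ⟨x, t, hx, _⟩ := h3
    apply Sylow.ne_bot_of_dvd_card
    rw [← hx]; exact orderOf_dvd_natCard x
  have hP5 : (P5 : Subgroup G) ≠ ⊥ := by
    obtain ⟨x, t, hx, _⟩ := h5'
    apply Sylow.ne_bot_of_dvd_card
    rw [← hx]; exact orderOf_dvd_natCard x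
  obtain ⟨i, hi⟩ := sylow_card_pow P3 hP3
  obtain ⟨j, hj⟩ := sylow_card_pow P5 hP5
  obtain ⟨k3, hN3, hc3, he3⟩ := hC 3 (Or.inl rfl) P3 hP3
  obtain ⟨k5, hN5, hc5, he5⟩ := hC 5 (Or.inr rfl) P5 hP5
  obtain ⟨a, ha⟩ := he3 h3
  obtain ⟨b, hb⟩ := he5 h5'
  have hcard := card_eq_mul h5 S P3 P5
  have hsum := card_eq_sum_orders h5
  obtain ⟨hD2, hD4⟩ := hD
  rw [hS] at hD2 hD4 hcard
  rw [hν] at hD4
  -- names
  generalize Nat.card {g : G // orderOf g = 2} = n2 at *
  generalize Nat.card {g : G // orderOf g = 3} = n3 at *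
  generalize Nat.card {g : G // orderOf g = 4} = n4 at *
  generalize Nat.card {g : G // orderOf g = 5} = n5 at *
  have hNpos3 : 0 < Nat.card ↥(Subgroup.normalizer ((P3 : Subgroup G) : Set G)) := Nat.card_pos
  have hNpos5 : 0 < Nat.card ↥(Subgroup.normalizer ((P5 : Subgroup G) : Set G)) := Nat.card_pos
  generalize Nat.card ↥(Subgroup.normalizer ((P3 : Subgroup G) : Set G)) = N3 at *
  generalize Nat.card ↥(Subgroup.normalizer ((P5 : Subgroup G) : Set G)) = N5 at *
  generalize hAdef : Nat.card ↥(P3 : Subgroup G) = A at *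
  generalize hBdef : Nat.card ↥(P5 : Subgroup G) = B at *
  generalize Nat.card G = N at *
  -- A = A' + 1, B = B' + 1
  have hA3 : 3 ≤ A := by
    rw [hi, pow_succ]
    have : 1 ≤ 3 ^ i := Nat.one_le_pow _ _ (by norm_num)
    omega
  have hB5 : 5 ≤ B := by
    rw [hj, pow_succ]
    have : 1 ≤ 5 ^ j := Nat.one_le_pow _ _ (by norm_num)
    omega
  obtain ⟨A', rfl⟩ : ∃ A', A = A' + 1 := ⟨A - 1, by omega⟩
  obtain ⟨B', rfl⟩ : ∃ B', B = B' + 1 := ⟨B - 1, by omega⟩
  have hA : A' = 2 ∨ 8 ≤ A' := by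
    rcases i with _ | i
    · left; simp at hi; omega
    · right
      have : 1 ≤ 3 ^ i := Nat.one_le_pow _ _ (by norm_num)
      rw [pow_succ, pow_succ] at hi
      omega
  have hB : 4 ≤ B' := by omega
  have ha1 : 1 ≤ a := by
    rcases Nat.eq_zero_or_pos a with h0 | h0
    · exfalso; rw [ha, h0] at hN3; simp at hN3; omega
    · exact h0
  have hb1 : 1 ≤ b := by
    rcases Nat.eq_zero_or_pos b with h0 | h0
    · exfalso; rw [hb, h0] at hN5; simp at hN5; omega
    · exact h0
  simp only [Nat.add_sub_cancel] at hc3 hc5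
  have hn2 : n2 = (A' + 1) * (B' + 1) := by
    have : n2 * 64 = ((A' + 1) * (B' + 1)) * 64 := by rw [hD2, hcard]; ring
    exact Nat.eq_of_mul_eq_mul_right (by norm_num) this
  have hn4 : n4 = 12 * ((A' + 1) * (B' + 1)) := by
    have : n4 * 64 = (12 * ((A' + 1) * (B' + 1))) * 64 := by rw [hD4, hcard]; ring
    exact Nat.eq_of_mul_eq_mul_right (by norm_num) this
  have h3e : n3 * a = 32 * ((B' + 1) * A') := by
    have : 2 * (A' + 1) * (n3 * a) = 2 * (A' + 1) * (32 * ((B' + 1) * A')) := by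
      calc 2 * (A' + 1) * (n3 * a) = n3 * ((A' + 1) * (a + a)) := by ring
        _ = N * A' := by rw [← ha]; exact hc3
        _ = 2 * (A' + 1) * (32 * ((B' + 1) * A')) := by rw [hcard]; ring
    exact Nat.eq_of_mul_eq_mul_left (by omega) this
  have h5e : n5 * b = 32 * ((A' + 1) * B') := by
    have : 2 * (B' + 1) * (n5 * b) = 2 * (B' + 1) * (32 * ((A' + 1) * B')) := by
      calc 2 * (B' + 1) * (n5 * b) = n5 * ((B' + 1) * (b + b)) := by ring
        _ = N * B' := by rw [← hb]; exact hc5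
        _ = 2 * (B' + 1) * (32 * ((A' + 1) * B')) := by rw [hcard]; ring
    exact Nat.eq_of_mul_eq_mul_left (by omega) this
  apply arith_core A' B' n3 n5 a b ha1 hb1 hA hB h3e h5e
  rw [hsum, hn2, hn4] at hcard
  rw [← hn2] at hcard ⊢
  omega

end Cfsg.Agent.Lib.Helper4.C5
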