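import Mathlib
import Cfsg.Agent.Lib.Helper8.C5Defs
import Cfsg.Agent.Lib.Helper8.C5A5
import Cfsg.Agent.Lib.Helper6.C5Cw
import Cfsg.Agent.Lib.Helper6.C5D
import Cfsg.Agent.Lib.Helper4.C5E

set_option autoImplicit false
set_option linter.unusedVariables false
set_option linter.unusedSectionVars false
set_option linter.style.longLine false
set_option linter.deprecated false

/-!
# S3433 piece E (verbatim wrapper): the class equation rules out `|S| = 64` with 12 square roots
-/

open Cfsg.Agent.Lib.Helper8.C5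

namespace Cfsg.Agent.Lib.Helper4.C5

universe u
variable {G : Type u} [Group G] [Finite G]

/-- In a simple nonsolvable finite group every normal `2`-subgroup is trivial. -/
theorem normal_two_eq_bot [IsSimpleGroup G] (hns : ¬ IsSolvable G) (N : Subgroup G)
    (hN : N.Normal) (h2 : IsPGroup 2 ↥N) : N = ⊥ := by
  rcases hN.eq_bot_or_eq_top with h | h
  · exact h
  · exfalso
    apply hns
    subst h
    have : Fact (Nat.Prime 2) := ⟨Nat.prime_two⟩
    have h2G : IsPGroup 2 G := h2.of_equiv Subgroup.topEquiv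
    have hnil : Group.IsNilpotent G := h2G.isNilpotent
    exact @IsNilpotent.to_isSolvable G _ hnil

/-- PIECE E (verbatim). -/
theorem caseI_arith [IsSimpleGroup G] (h5 : C5 G) (hns : ¬ IsSolvable G) (S : Sylow 2 G)
    (hS : Nat.card ↥(S : Subgroup G) = 64) (z : G) (hz : orderOf z = 2)
    (hzS : z ∈ (S : Subgroup G)) (hzc : ∀ s ∈ (S : Subgroup G), s * z = z * s)
    (hν : Nat.card {u : G // u ^ 2 = z} = 12)
    (h3 : ∃ x t : G, orderOf x = 3 ∧ t * x * t⁻¹ = x⁻¹)
    (h5' : ∃ x t : G, orderOf x = 5 ∧ t * x * t⁻¹ = x⁻¹) : False :=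
  caseI_arith_of h5 hns S hS z hz hzS hzc hν h3 h5'
    (fun p _ hp P hP => Cfsg.Agent.Lib.Helper6.C5.count_p h5 hns p hp P hP)
    (Cfsg.Agent.Lib.Helper6.C5.count_two h5.cit (normal_two_eq_bot hns) S z hz hzS hzc)

end Cfsg.Agent.Lib.Helper4.C5
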