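import Mathlib
import Cfsg.Agent.Lib.Helper8.C5Defs
import Cfsg.Agent.Lib.Helper8.C5A5

set_option autoImplicit false
set_option linter.unusedVariables false
set_option linter.unusedSectionVars false
set_option linter.style.longLine false
set_option linter.deprecated false

/-!
# S3433 piece Hb2, part a: generic lemmas
-/

open Cfsg.Agent.Lib.Helper8.C5

namespace Cfsg.Agent.Lib.Helper4.C5

universe u
variable {G : Type u} [Group G] [Finite G]

/-- Two elements in the same coset of an abelian subgroup `Q` centralize the same elements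
of `Q`. -/
theorem hb2_fix_congr (Q : Subgroup G) (hQab : ∀ a ∈ Q, ∀ b ∈ Q, a * b = b * a) (a b : G)
    (hab : a⁻¹ * b ∈ Q) (q : G) (hq : q ∈ Q) : a * q = q * a ↔ b * q = q * b := by
  have hb : b = a * (a⁻¹ * b) := by group
  have huq : (a⁻¹ * b) * q = q * (a⁻¹ * b) := hQab _ hab q hq
  rw [hb]
  generalize a⁻¹ * b = u at huq
  constructor
  · intro h
    calc a * u * q = a * (u * q) := by group
      _ = a * (q * u) := by rw [huq]
      _ = (a * q) * u := by group
      _ = (q * a) * u := by rw [h]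
      _ = q * (a * u) := by group
  · intro h
    have h3 : a * q * u = q * a * u := by
      calc a * q * u = a * (q * u) := by group
        _ = a * (u * q) := by rw [huq]
        _ = a * u * q := by group
        _ = q * (a * u) := h
        _ = q * a * u := by group
    exact mul_right_cancel h3

/-- An element `c` normalizing the abelian group `Q` with `c ^ 5 ∈ Q` and no nontrivial fixed
point on `Q` forces `|Q| ≡ 1 mod 5`. -/
theorem hb2_mod5 (Q : Subgroup G) (hQab : ∀ a ∈ Q, ∀ b ∈ Q, a * b = b * a) (c : G)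
    (hcn : ∀ q ∈ Q, c * q * c⁻¹ ∈ Q) (hc5 : c ^ 5 ∈ Q)
    (hfix : ∀ q ∈ Q, c * q = q * c → q = 1) : Nat.card ↥Q ≡ 1 [MOD 5] := by
  classical
  haveI : Fintype ↥Q := Fintype.ofFinite _
  haveI : Fact (Nat.Prime 5) := ⟨Nat.prime_five⟩
  let f : Function.End ↥Q := fun q => ⟨c * q * c⁻¹, hcn q q.2⟩
  have hf : f ^ 5 ^ 1 = 1 := by
    rw [pow_one]
    have h5 : f ^ 5 = f * f * f * f * f := by simp [pow_succ]
    rw [h5]
    funext q
    show f (f (f (f (f q)))) = q
    apply Subtype.ext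
    show c * (c * (c * (c * (c * (q : G) * c⁻¹) * c⁻¹) * c⁻¹) * c⁻¹) * c⁻¹ = q
    have h1 : c * (c * (c * (c * (c * (q : G) * c⁻¹) * c⁻¹) * c⁻¹) * c⁻¹) * c⁻¹
        = c ^ 5 * q * (c ^ 5)⁻¹ := by
      have hc5' : c ^ 5 = c * c * c * c * c := by simp [pow_succ]
      rw [hc5']
      simp only [mul_inv_rev, mul_assoc]
    rw [h1, hQab _ hc5 _ q.2]
    group
  have h := Equiv.Perm.card_fixedPoints_modEq hf
  have hfp : Fintype.card ↥(Function.fixedPoints f) = 1 := by
    rw [Fintype.card_eq_one_iff]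
    refine ⟨⟨1, ?_⟩, ?_⟩
    · show f 1 = 1
      apply Subtype.ext
      show c * ((1 : ↥Q) : G) * c⁻¹ = ((1 : ↥Q) : G)
      simp
    · rintro ⟨q, hq⟩
      apply Subtype.ext
      show q = 1
      have hq' : f q = q := hq
      have h2 : c * (q : G) * c⁻¹ = q := congrArg Subtype.val hq'
      have h3 : c * (q : G) = q * c := by
        calc c * (q : G) = c * q * c⁻¹ * c := by group
          _ = q * c := by rw [h2]
      exact Subtype.ext (hfix q q.2 h3)
  rw [hfp, ← Nat.card_eq_fintype_card] at h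
  exact h

/-- Normalizers grow in `2`-groups. -/
theorem hb2_exists_normalizing (Q K : Subgroup G) (hK : IsPGroup 2 ↥K) (hQK : Q ≤ K)
    (hlt : Nat.card ↥Q < Nat.card ↥K) :
    ∃ x ∈ K, x ∉ Q ∧ (∀ q ∈ Q, x * q * x⁻¹ ∈ Q) ∧ (∀ q ∈ Q, x⁻¹ * q * x ∈ Q) := by
  have : Fact (Nat.Prime 2) := ⟨Nat.prime_two⟩
  have : Group.IsNilpotent ↥K := hK.isNilpotent
  have hlt' : Q.subgroupOf K < ⊤ := by
    rw [lt_top_iff_ne_top, Ne, Subgroup.subgroupOf_eq_top]
    intro h
    have hQK' : Q = K := le_antisymm hQK h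
    rw [hQK'] at hlt
    exact lt_irrefl _ hlt
  have hnc := Group.normalizerCondition_of_isNilpotent (G := ↥K) (Q.subgroupOf K) hlt'
  obtain ⟨x, hxn, hxN⟩ := SetLike.exists_of_lt hnc
  refine ⟨x.1, x.2, ?_, ?_, ?_⟩
  · intro h
    exact hxN (Subgroup.mem_subgroupOf.mpr h)
  · intro q hq
    rw [Subgroup.mem_normalizer_iff] at hxn
    have h1 := (hxn ⟨q, hQK hq⟩).mp (Subgroup.mem_subgroupOf.mpr hq)
    rw [Subgroup.mem_subgroupOf] at h1
    simpa using h1
  · intro q hq
    have hxn' := Subgroup.inv_mem _ hxn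
    rw [Subgroup.mem_normalizer_iff] at hxn'
    have h1 := (hxn' ⟨q, hQK hq⟩).mp (Subgroup.mem_subgroupOf.mpr hq)
    rw [Subgroup.mem_subgroupOf] at h1
    simpa using h1

/-- The arithmetic of Hb2. -/
theorem hb2_arith (n s k : ℕ) (hk : 1 ≤ k) (hn : n = 2 ^ k) (hs : s ^ 2 = n)
    (h5 : n ≡ 1 [MOD 5]) (hle : n - 1 ≤ 15 * (s - 1)) : n = 16 ∧ s = 4 := by
  have hsd : s ∣ 2 ^ k := by
    rw [← hn, ← hs]
    exact dvd_pow_self s two_ne_zero
  obtain ⟨j, hjk, hsj⟩ := (Nat.dvd_prime_pow Nat.prime_two).mp hsd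
  have h2k : 2 ≤ 2 ^ k := by
    calc 2 = 2 ^ 1 := by norm_num
      _ ≤ 2 ^ k := Nat.pow_le_pow_right (by norm_num) hk
  have hj3 : j ≤ 3 := by
    by_contra hcon
    push Not at hcon
    have h16 : 2 ^ 4 ≤ 2 ^ j := Nat.pow_le_pow_right (by norm_num) hcon
    rw [← hsj] at h16
    have h1 : n = s * s := by rw [← hs]; ring
    have h2 : 16 * s ≤ s * s := Nat.mul_le_mul_right _ (by omega)
    generalize s * s = y at h1 h2
    omega
  unfold Nat.ModEq at h5
  interval_cases j
  · simp at hsj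
    subst hsj
    omega
  · norm_num at hsj
    subst hsj
    omega
  · norm_num at hsj
    subst hsj
    omega
  · norm_num at hsj
    subst hsj
    omega

/-- A subgroup of `A5` of exponent `2` has at most `4` elements. -/
theorem hb2_card_le_four (R : Subgroup A5) (hR : ∀ g ∈ R, g ^ 2 = 1) :
    Nat.card ↥R = 1 ∨ Nat.card ↥R = 2 ∨ Nat.card ↥R = 4 := by
  haveI : Fact (Nat.Prime 2) := ⟨Nat.prime_two⟩
  have h2 : IsPGroup 2 ↥R := by
    intro g
    refine ⟨1, ?_⟩
    apply Subtype.ext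
    rw [pow_one]
    exact hR g.1 g.2
  obtain ⟨j, hj⟩ := h2.exists_card_eq
  have hdvd : Nat.card ↥R ∣ 60 := by
    have h60 : Nat.card A5 = 60 := a5_card (MulEquiv.refl A5)
    rw [← h60]
    exact Subgroup.card_subgroup_dvd_card R
  rw [hj] at hdvd ⊢
  have hj2 : j ≤ 2 := by
    by_contra hcon
    push Not at hcon
    have h8 : 2 ^ 3 ∣ 2 ^ j := pow_dvd_pow 2 hcon
    have := h8.trans hdvd
    omega
  interval_cases j <;> simp

/-- For a homomorphism from a finite group, `|H| = |range| * |ker|`. -/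
theorem hb2_card_eq_range_mul_ker {H K : Type*} [Group H] [Group K] [Finite H] (ψ : H →* K) :
    Nat.card H = Nat.card ↥ψ.range * Nat.card ↥ψ.ker := by
  rw [Subgroup.card_eq_card_quotient_mul_card_subgroup ψ.ker,
    Nat.card_congr (QuotientGroup.quotientKerEquivRange ψ).toEquiv]

end Cfsg.Agent.Lib.Helper4.C5
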