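import Mathlib
import Cfsg.Agent.Lib.Helper8.C5Defs
import Cfsg.Agent.Lib.Helper8.C5A5
import Cfsg.Agent.Lib.Helper4.C5Hb2a

set_option autoImplicit false
set_option linter.unusedVariables false
set_option linter.unusedSectionVars false
set_option linter.style.longLine false
set_option linter.deprecated false

/-!
# S3433 piece Hb2, part b: the context `Hb2Ctx` and its first consequences
-/

open Cfsg.Agent.Lib.Helper8.C5

namespace Cfsg.Agent.Lib.Helper4.C5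

universe u
variable {G : Type u} [Group G] [Finite G]

/-- Context for Hb2: `M = N_G(Q)`, `φ : M → A5` surjective with kernel `Q`, `Q` elementary
abelian, plus the two imported facts (Hb1 and B2). -/
structure Hb2Ctx (Q M : Subgroup G) (φ : ↥M →* A5) : Prop where
  QM : Q ≤ M
  NM : ∀ x : G, (∀ q ∈ Q, x * q * x⁻¹ ∈ Q) → (∀ q ∈ Q, x⁻¹ * q * x ∈ Q) → x ∈ M
  surj : Function.Surjective φ
  ker : ∀ m : ↥M, φ m = 1 ↔ (m : G) ∈ Q
  ne : Q ≠ ⊥
  ab : ∀ a ∈ Q, ∀ b ∈ Q, a * b = b * a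
  ex : ∀ a ∈ Q, a ^ 2 = 1
  fix : ∀ a : G, a ∈ M → a ∉ Q → a ^ 2 ∈ Q →
      Nat.card {q : G // q ∈ Q ∧ a * q = q * a} ^ 2 = Nat.card ↥Q
  cen : ∀ (S : Sylow 2 G) (t : G), orderOf t = 2 →
      Nat.card ↥(Subgroup.centralizer ({t} : Set G)) = Nat.card ↥(S : Subgroup G)

namespace Hb2Ctx

variable {Q M : Subgroup G} {φ : ↥M →* A5}

theorem conj_mem (hc : Hb2Ctx Q M φ) (m : G) (hm : m ∈ M) (q : G) (hq : q ∈ Q) :
    m * q * m⁻¹ ∈ Q := by
  have h1 : φ (⟨m, hm⟩ * ⟨q, hc.QM hq⟩ * (⟨m, hm⟩ : ↥M)⁻¹) = 1 := by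
    rw [map_mul, map_mul, map_inv, (hc.ker ⟨q, hc.QM hq⟩).mpr hq]
    group
  have h2 := (hc.ker _).mp h1
  simpa using h2

theorem card_M (hc : Hb2Ctx Q M φ) : Nat.card ↥M = 60 * Nat.card ↥Q := by
  rw [hb2_card_eq_range_mul_ker φ, MonoidHom.range_eq_top.mpr hc.surj, Subgroup.card_top,
    a5_card (MulEquiv.refl A5)]
  congr 1
  apply Nat.card_congr
  refine ⟨fun x => ⟨x.1.1, (hc.ker x.1).mp (MonoidHom.mem_ker.mp x.2)⟩,
    fun q => ⟨⟨q.1, hc.QM q.2⟩, MonoidHom.mem_ker.mpr ((hc.ker _).mpr q.2)⟩, ?_, ?_⟩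
  · intro x
    rfl
  · intro q
    rfl

theorem two_group (hc : Hb2Ctx Q M φ) : IsPGroup 2 ↥Q := by
  intro g
  refine ⟨1, ?_⟩
  apply Subtype.ext
  rw [pow_one]
  exact hc.ex g.1 g.2

theorem card_Q (hc : Hb2Ctx Q M φ) : ∃ k : ℕ, 1 ≤ k ∧ Nat.card ↥Q = 2 ^ k := by
  have : Fact (Nat.Prime 2) := ⟨Nat.prime_two⟩
  obtain ⟨k, hk⟩ := hc.two_group.exists_card_eq
  refine ⟨k, ?_, hk⟩
  rcases Nat.eq_zero_or_pos k with h0 | h0
  · exfalso
    subst h0
    rw [pow_zero] at hk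
    exact hc.ne (Subgroup.eq_bot_of_card_eq Q hk)
  · exact h0

theorem orderOf_two (hc : Hb2Ctx Q M φ) (w : G) (hw : w ∈ Q) (hw1 : w ≠ 1) : orderOf w = 2 :=
  orderOf_eq_prime (hc.ex w hw) hw1

theorem le_centralizer (hc : Hb2Ctx Q M φ) (w : G) (hw : w ∈ Q) :
    Q ≤ Subgroup.centralizer ({w} : Set G) := by
  intro q hq
  rw [Subgroup.mem_centralizer_singleton_iff]
  exact hc.ab q hq w hw

theorem card_lt_centralizer (hc : Hb2Ctx Q M φ) (w : G) (hw : w ∈ Q) (hw1 : w ≠ 1) :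
    Nat.card ↥Q < Nat.card ↥(Subgroup.centralizer ({w} : Set G)) := by
  have : Fact (Nat.Prime 2) := ⟨Nat.prime_two⟩
  obtain ⟨S⟩ : Nonempty (Sylow 2 G) := inferInstance
  rw [hc.cen S w (hc.orderOf_two w hw hw1)]
  obtain ⟨k, hk1, hk⟩ := hc.card_Q
  have hM : Nat.card ↥M ∣ Nat.card G := Subgroup.card_subgroup_dvd_card M
  rw [hc.card_M, hk] at hM
  have h4 : 2 ^ (k + 2) ∣ Nat.card G := by
    refine Dvd.dvd.trans ?_ hM
    refine ⟨15, ?_⟩
    rw [pow_add]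
    ring
  have h5 := S.pow_dvd_card_of_pow_dvd_card h4
  have h6 : 2 ^ (k + 2) ≤ Nat.card ↥(S : Subgroup G) := Nat.le_of_dvd Nat.card_pos h5
  rw [hk]
  have h7 : 2 ^ k < 2 ^ (k + 2) := Nat.pow_lt_pow_right (by norm_num) (by omega)
  omega

/-- Every nonidentity element of `Q` is centralized by a lift of an involution of `A5`. -/
theorem exists_lift (h5 : C5 G) (hc : Hb2Ctx Q M φ) (w : G) (hw : w ∈ Q) (hw1 : w ≠ 1) :
    ∃ m : ↥M, φ m ≠ 1 ∧ (φ m) ^ 2 = 1 ∧ (m : G) * w = w * (m : G) := by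
  have how := hc.orderOf_two w hw hw1
  have hC2 : IsPGroup 2 ↥(Subgroup.centralizer ({w} : Set G)) := h5.cit w how
  obtain ⟨x, hxC, hxQ, hn1, hn2⟩ := hb2_exists_normalizing Q _ hC2 (hc.le_centralizer w hw)
    (hc.card_lt_centralizer w hw hw1)
  have hxM : x ∈ M := hc.NM x hn1 hn2
  refine ⟨⟨x, hxM⟩, ?_, ?_, ?_⟩
  · intro h
    exact hxQ ((hc.ker _).mp h)
  · obtain ⟨j, hj⟩ := hC2 ⟨x, hxC⟩
    have hj' : x ^ 2 ^ j = 1 := by
      have := congrArg Subtype.val hj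
      simpa using this
    have h4 : x ^ 4 = 1 := h5.pow_four_of_two_pow x j hj'
    apply A5raw.no4
    rw [← map_pow]
    have : (⟨x, hxM⟩ : ↥M) ^ 4 = 1 := by
      apply Subtype.ext
      simpa using h4
    rw [this, map_one]
  · rw [Subgroup.mem_centralizer_singleton_iff] at hxC
    exact hxC

/-- Hb1 in terms of lifts. -/
theorem card_fix (hc : Hb2Ctx Q M φ) (m : ↥M) (hm1 : φ m ≠ 1) (hm2 : (φ m) ^ 2 = 1) :
    Nat.card {q : G // q ∈ Q ∧ (m : G) * q = q * (m : G)} ^ 2 = Nat.card ↥Q := by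
  apply hc.fix (m : G) m.2
  · intro h
    exact hm1 ((hc.ker m).mpr h)
  · have h1 : φ (m ^ 2) = 1 := by rw [map_pow, hm2]
    have h2 := (hc.ker _).mp h1
    simpa using h2

theorem exists_five : ∃ g : A5, g ≠ 1 ∧ g ^ 5 = 1 := by decide +kernel

theorem card_mod5 (h5 : C5 G) (hc : Hb2Ctx Q M φ) : Nat.card ↥Q ≡ 1 [MOD 5] := by
  obtain ⟨g, hg1, hg5⟩ := exists_five
  obtain ⟨c, hcg⟩ := hc.surj g
  have hcQ : (c : G) ∉ Q := by
    intro h
    apply hg1
    rw [← hcg]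
    exact (hc.ker c).mpr h
  have hc5 : (c : G) ^ 5 ∈ Q := by
    have h1 : φ (c ^ 5) = 1 := by rw [map_pow, hcg, hg5]
    have h2 := (hc.ker _).mp h1
    simpa using h2
  apply hb2_mod5 Q hc.ab (c : G) (fun q hq => hc.conj_mem c c.2 q hq) hc5
  intro q hq hcq
  by_contra hq1
  have hoq : orderOf q = 2 := hc.orderOf_two q hq hq1
  have h10 : (c : G) ^ 10 = 1 := by
    have := hc.ex _ hc5
    rw [← pow_mul] at this
    exact this
  have hd : orderOf (c : G) ∣ 10 := orderOf_dvd_of_pow_eq_one h10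
  have hle := (h5 (c : G)).2
  have hpos := (h5 (c : G)).1
  have hoc : orderOf (c : G) = 5 := by
    have hcases : orderOf (c : G) = 1 ∨ orderOf (c : G) = 2 ∨ orderOf (c : G) = 5 := by
      generalize orderOf (c : G) = n at hd hle hpos
      interval_cases n <;> simp_all <;> omega
    rcases hcases with h | h | h
    · exfalso
      rw [orderOf_eq_one_iff] at h
      apply hcQ
      rw [h]
      exact Q.one_mem
    · exfalso
      apply hcQ
      have h2 : (c : G) ^ 2 = 1 := by rw [← h]; exact pow_orderOf_eq_one _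
      have h3 : (c : G) ^ 5 = (c : G) := by
        have h4 : (c : G) ^ 5 = ((c : G) ^ 2) ^ 2 * (c : G) := by group
        rw [h4, h2]
        simp
      rw [← h3]
      exact hc5
    · exact h
  refine h5.false_of_commute hcq ?_ (by omega) (by omega)
  rw [hoc, hoq]
  norm_num

end Hb2Ctx

end Cfsg.Agent.Lib.Helper4.C5
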