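import Mathlib
import Cfsg.Agent.Lib.Helper8.C5Defs
import Cfsg.Agent.Lib.Helper8.C5A5
import Cfsg.Agent.Lib.Helper4.C5Hb2a
import Cfsg.Agent.Lib.Helper4.C5Hb2b

set_option autoImplicit false
set_option linter.unusedVariables false
set_option linter.unusedSectionVars false
set_option linter.style.longLine false
set_option linter.deprecated false

/-!
# S3433 piece Hb2, part c: the counting argument
-/

open Cfsg.Agent.Lib.Helper8.C5

namespace Cfsg.Agent.Lib.Helper4.C5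

universe u
variable {G : Type u} [Group G] [Finite G]

/-- The involutions of `A5`. -/
def hb2Inv : Finset A5 := Finset.univ.filter (fun g => g ^ 2 = 1 ∧ g ≠ 1)

theorem card_hb2Inv : hb2Inv.card = 15 := by
  rw [← A5raw.card_invol, Fintype.card_subtype]
  rfl

theorem mem_hb2Inv {g : A5} : g ∈ hb2Inv ↔ g ^ 2 = 1 ∧ g ≠ 1 := by
  simp [hb2Inv]

section Count

open Classical

/-- Elements of the subgroup `Q`, as a finset. -/
noncomputable def hb2Qf {H : Type*} [Group H] [Fintype H] (Q : Subgroup H) : Finset H :=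
  Finset.univ.filter (fun q => q ∈ Q)

theorem mem_hb2Qf {H : Type*} [Group H] [Fintype H] {Q : Subgroup H} {q : H} :
    q ∈ hb2Qf Q ↔ q ∈ Q := by
  simp [hb2Qf]

theorem card_hb2Qf {H : Type*} [Group H] [Fintype H] (Q : Subgroup H) :
    (hb2Qf Q).card = Nat.card ↥Q := by
  rw [Nat.card_eq_fintype_card]
  unfold hb2Qf
  convert (Fintype.card_subtype (fun q : H => q ∈ Q)).symm

variable [Fintype G]

/-- Elements of `Q` centralized by `a`, as a finset. -/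
noncomputable def hb2Ff (Q : Subgroup G) (a : G) : Finset G :=
  Finset.univ.filter (fun q => q ∈ Q ∧ a * q = q * a)

theorem mem_hb2Ff {Q : Subgroup G} {a q : G} : q ∈ hb2Ff Q a ↔ q ∈ Q ∧ a * q = q * a := by
  simp [hb2Ff]

theorem card_hb2Ff (Q : Subgroup G) (a : G) :
    (hb2Ff Q a).card = Nat.card {q : G // q ∈ Q ∧ a * q = q * a} := by
  rw [Nat.card_eq_fintype_card]
  unfold hb2Ff
  convert (Fintype.card_subtype (fun q : G => q ∈ Q ∧ a * q = q * a)).symm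

theorem one_mem_hb2Ff (Q : Subgroup G) (a : G) : (1 : G) ∈ hb2Ff Q a := by
  rw [mem_hb2Ff]
  exact ⟨Q.one_mem, by simp⟩

namespace Hb2Ctx

variable {Q M : Subgroup G} {φ : ↥M →* A5}

/-- A section of `φ`. -/
noncomputable def lift (hc : Hb2Ctx Q M φ) (g : A5) : ↥M := Function.surjInv hc.surj g

theorem lift_spec (hc : Hb2Ctx Q M φ) (g : A5) : φ (hc.lift g) = g :=
  Function.surjInv_eq hc.surj g

theorem hb2Ff_lift_eq (hc : Hb2Ctx Q M φ) (m : ↥M) :
    hb2Ff Q (hc.lift (φ m) : G) = hb2Ff Q (m : G) := by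
  have h1 : φ ((hc.lift (φ m))⁻¹ * m) = 1 := by
    rw [map_mul, map_inv, hc.lift_spec]
    group
  have h2 := (hc.ker _).mp h1
  have h3 : ((hc.lift (φ m) : ↥M) : G)⁻¹ * (m : G) ∈ Q := by simpa using h2
  ext q
  rw [mem_hb2Ff, mem_hb2Ff]
  constructor
  · rintro ⟨hq, h⟩
    exact ⟨hq, (hb2_fix_congr Q hc.ab _ _ h3 q hq).mp h⟩
  · rintro ⟨hq, h⟩
    exact ⟨hq, (hb2_fix_congr Q hc.ab _ _ h3 q hq).mpr h⟩

theorem card_hb2Ff_lift (hc : Hb2Ctx Q M φ) (g : A5) (hg : g ∈ hb2Inv) :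
    (hb2Ff Q (hc.lift g : G)).card ^ 2 = Nat.card ↥Q := by
  rw [mem_hb2Inv] at hg
  rw [card_hb2Ff]
  apply hc.card_fix (hc.lift g)
  · rw [hc.lift_spec]
    exact hg.2
  · rw [hc.lift_spec]
    exact hg.1

theorem cover (h5 : C5 G) (hc : Hb2Ctx Q M φ) (w : G) (hw : w ∈ Q) (hw1 : w ≠ 1) :
    ∃ g ∈ hb2Inv, w ∈ hb2Ff Q (hc.lift g : G) := by
  obtain ⟨m, hm1, hm2, hmw⟩ := hc.exists_lift h5 w hw hw1
  refine ⟨φ m, mem_hb2Inv.mpr ⟨hm2, hm1⟩, ?_⟩
  rw [hc.hb2Ff_lift_eq m, mem_hb2Ff]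
  exact ⟨hw, hmw⟩

theorem card_Q_eq (h5 : C5 G) (hc : Hb2Ctx Q M φ) :
    Nat.card ↥Q = 16 ∧ ∀ g ∈ hb2Inv, (hb2Ff Q (hc.lift g : G)).card = 4 := by
  obtain ⟨k, hk1, hk⟩ := hc.card_Q
  have hne : hb2Inv.Nonempty := by
    rw [← Finset.card_pos, card_hb2Inv]
    norm_num
  obtain ⟨g₀, hg₀⟩ := hne
  set s := (hb2Ff Q (hc.lift g₀ : G)).card with hs
  have hs2 : s ^ 2 = Nat.card ↥Q := hc.card_hb2Ff_lift g₀ hg₀
  have hall : ∀ g ∈ hb2Inv, (hb2Ff Q (hc.lift g : G)).card = s := by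
    intro g hg
    have h1 := hc.card_hb2Ff_lift g hg
    rw [← hs2] at h1
    exact Nat.pow_left_injective (by norm_num : (2 : ℕ) ≠ 0) h1
  have hcov : (hb2Qf Q).erase 1 ⊆
      hb2Inv.biUnion (fun g => (hb2Ff Q (hc.lift g : G)).erase 1) := by
    intro w hw
    rw [Finset.mem_erase, mem_hb2Qf] at hw
    obtain ⟨g, hg, hwg⟩ := hc.cover h5 w hw.2 hw.1
    rw [Finset.mem_biUnion]
    exact ⟨g, hg, Finset.mem_erase.mpr ⟨hw.1, hwg⟩⟩
  have hle : Nat.card ↥Q - 1 ≤ 15 * (s - 1) := by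
    have h1 := Finset.card_le_card hcov
    have h2 := Finset.card_biUnion_le (s := hb2Inv)
      (t := fun g => (hb2Ff Q (hc.lift g : G)).erase 1)
    have h3 : ∑ g ∈ hb2Inv, ((hb2Ff Q (hc.lift g : G)).erase 1).card = 15 * (s - 1) := by
      rw [← card_hb2Inv, ← smul_eq_mul, ← Finset.sum_const]
      apply Finset.sum_congr rfl
      intro g hg
      rw [Finset.card_erase_of_mem (one_mem_hb2Ff Q _), hall g hg]
    rw [Finset.card_erase_of_mem (mem_hb2Qf.mpr Q.one_mem), card_hb2Qf] at h1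
    omega
  obtain ⟨h16, h4⟩ := hb2_arith (Nat.card ↥Q) s k hk1 hk hs2 (hc.card_mod5 h5) hle
  refine ⟨h16, ?_⟩
  intro g hg
  rw [hall g hg, h4]

end Hb2Ctx

end Count

end Cfsg.Agent.Lib.Helper4.C5
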