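import Mathlib
import Cfsg.Agent.Lib.Helper8.C5Defs
import Cfsg.Agent.Lib.Helper8.C5A5
import Cfsg.Agent.Lib.Helper4.C5Hb2a
import Cfsg.Agent.Lib.Helper4.C5Hb2b
import Cfsg.Agent.Lib.Helper4.C5Hb2c

set_option autoImplicit false
set_option linter.unusedVariables false
set_option linter.unusedSectionVars false
set_option linter.style.longLine false
set_option linter.deprecated false

/-!
# S3433 piece Hb2, part d: `|C_M(w)| = 64` by double counting
-/

open Cfsg.Agent.Lib.Helper8.C5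

namespace Cfsg.Agent.Lib.Helper4.C5

universe u
variable {G : Type u} [Group G] [Finite G]

/-- The restriction of `φ` to `C_M(w)`. -/
def hb2Psi {M : Subgroup G} (φ : ↥M →* A5) (w : G) :
    ↥(Subgroup.centralizer ({w} : Set G) ⊓ M) →* A5 :=
  φ.comp (Subgroup.inclusion inf_le_right)

theorem hb2Psi_apply {M : Subgroup G} (φ : ↥M →* A5) (w : G)
    (x : ↥(Subgroup.centralizer ({w} : Set G) ⊓ M)) :
    hb2Psi φ w x = φ ⟨x.1, x.2.2⟩ := rfl

section Count

open Classical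

variable [Fintype G]

namespace Hb2Ctx

variable {Q M : Subgroup G} {φ : ↥M →* A5}

theorem card_ker_psi (hc : Hb2Ctx Q M φ) (w : G) (hw : w ∈ Q) :
    Nat.card ↥(hb2Psi φ w).ker = Nat.card ↥Q := by
  apply Nat.card_congr
  refine ⟨fun x => ⟨x.1.1, ?_⟩, fun q => ⟨⟨q.1, ?_⟩, ?_⟩, ?_, ?_⟩
  · have h1 := MonoidHom.mem_ker.mp x.2
    rw [hb2Psi_apply] at h1
    exact (hc.ker _).mp h1
  · exact ⟨hc.le_centralizer w hw q.2, hc.QM q.2⟩
  · rw [MonoidHom.mem_ker, hb2Psi_apply]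
    exact (hc.ker _).mpr q.2
  · intro x
    rfl
  · intro q
    rfl

theorem range_psi_exp (h5 : C5 G) (hc : Hb2Ctx Q M φ) (w : G) (how : orderOf w = 2) :
    ∀ g ∈ (hb2Psi φ w).range, g ^ 2 = 1 := by
  rintro g ⟨x, rfl⟩
  have hC2 : IsPGroup 2 ↥(Subgroup.centralizer ({w} : Set G)) := h5.cit w how
  obtain ⟨j, hj⟩ := hC2 ⟨x.1, x.2.1⟩
  have hj' : (x : G) ^ 2 ^ j = 1 := by
    have := congrArg Subtype.val hj
    simpa using this
  have h4 : (x : G) ^ 4 = 1 := h5.pow_four_of_two_pow _ j hj'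
  apply A5raw.no4
  rw [← map_pow]
  have : x ^ 4 = 1 := by
    apply Subtype.ext
    simpa using h4
  rw [this, map_one]

theorem card_range_psi (h5 : C5 G) (hc : Hb2Ctx Q M φ) (w : G) (how : orderOf w = 2) :
    Nat.card ↥(hb2Psi φ w).range = 1 ∨ Nat.card ↥(hb2Psi φ w).range = 2 ∨
      Nat.card ↥(hb2Psi φ w).range = 4 :=
  hb2_card_le_four _ (hc.range_psi_exp h5 w how)

/-- The number of involutions of `A5` whose chosen lift centralizes `w`. -/
noncomputable def nu (hc : Hb2Ctx Q M φ) (w : G) : ℕ :=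
  (hb2Inv.filter (fun g => (hc.lift g : G) * w = w * (hc.lift g : G))).card

theorem nu_succ_le (hc : Hb2Ctx Q M φ) (w : G) :
    hc.nu w + 1 ≤ Nat.card ↥(hb2Psi φ w).range := by
  rw [← card_hb2Qf]
  unfold nu
  have h1 : (1 : A5) ∉ hb2Inv.filter (fun g => (hc.lift g : G) * w = w * (hc.lift g : G)) := by
    intro h
    rw [Finset.mem_filter, mem_hb2Inv] at h
    exact h.1.2 rfl
  rw [← Finset.card_insert_of_notMem h1]
  apply Finset.card_le_card
  intro g hg
  rw [mem_hb2Qf]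
  rw [Finset.mem_insert] at hg
  rcases hg with rfl | hg
  · exact Subgroup.one_mem _
  · rw [Finset.mem_filter] at hg
    have hcen : (hc.lift g : G) ∈ Subgroup.centralizer ({w} : Set G) := by
      rw [Subgroup.mem_centralizer_singleton_iff]
      exact hg.2
    refine ⟨⟨(hc.lift g : G), hcen, (hc.lift g).2⟩, ?_⟩
    · rw [hb2Psi_apply]
      exact hc.lift_spec g

theorem sum_nu (h5 : C5 G) (hc : Hb2Ctx Q M φ) :
    ∑ w ∈ (hb2Qf Q).erase 1, hc.nu w = 45 := by
  have h := Finset.sum_card_bipartiteAbove_eq_sum_card_bipartiteBelow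
    (s := (hb2Qf Q).erase 1) (t := hb2Inv)
    (fun (w : G) (g : A5) => (hc.lift g : G) * w = w * (hc.lift g : G))
  have hL : ∑ w ∈ (hb2Qf Q).erase 1, hc.nu w = ∑ w ∈ (hb2Qf Q).erase 1,
      (hb2Inv.bipartiteAbove
        (fun (w : G) (g : A5) => (hc.lift g : G) * w = w * (hc.lift g : G)) w).card := by
    apply Finset.sum_congr rfl
    intro w hw
    rfl
  rw [hL, h]
  have hR : ∀ g ∈ hb2Inv, (((hb2Qf Q).erase 1).bipartiteBelow
      (fun (w : G) (g : A5) => (hc.lift g : G) * w = w * (hc.lift g : G)) g).card = 3 := by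
    intro g hg
    have h1 : ((hb2Qf Q).erase 1).bipartiteBelow
        (fun (w : G) (g : A5) => (hc.lift g : G) * w = w * (hc.lift g : G)) g
        = (hb2Ff Q (hc.lift g : G)).erase 1 := by
      ext w
      rw [Finset.mem_bipartiteBelow, Finset.mem_erase, Finset.mem_erase, mem_hb2Qf, mem_hb2Ff]
      tauto
    rw [h1, Finset.card_erase_of_mem (one_mem_hb2Ff Q _), (hc.card_Q_eq h5).2 g hg]
  rw [Finset.sum_congr rfl hR, Finset.sum_const, card_hb2Inv]
  rfl

theorem card_centralizer_inf (h5 : C5 G) (hc : Hb2Ctx Q M φ) (w : G) (hw : w ∈ Q) (hw1 : w ≠ 1) :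
    Nat.card ↥(Subgroup.centralizer ({w} : Set G) ⊓ M) = 64 := by
  have hQ16 := (hc.card_Q_eq h5).1
  rw [hb2_card_eq_range_mul_ker (hb2Psi φ w), hc.card_ker_psi w hw, hQ16]
  have hcard : ((hb2Qf Q).erase 1).card = 15 := by
    rw [Finset.card_erase_of_mem (mem_hb2Qf.mpr Q.one_mem), card_hb2Qf, hQ16]
  have hbound : ∀ v ∈ (hb2Qf Q).erase 1, hc.nu v ≤ 3 := by
    intro v hv
    rw [Finset.mem_erase, mem_hb2Qf] at hv
    have h1 := hc.nu_succ_le v
    have h2 := hc.card_range_psi h5 v (hc.orderOf_two v hv.2 hv.1)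
    omega
  suffices h4 : Nat.card ↥(hb2Psi φ w).range = 4 by rw [h4]
  by_contra hne
  have h2 := hc.card_range_psi h5 w (hc.orderOf_two w hw hw1)
  have h1 := hc.nu_succ_le w
  have hlt : hc.nu w < 3 := by omega
  have hwmem : w ∈ (hb2Qf Q).erase 1 := Finset.mem_erase.mpr ⟨hw1, mem_hb2Qf.mpr hw⟩
  have hsum := Finset.sum_lt_sum hbound ⟨w, hwmem, hlt⟩
  rw [hc.sum_nu h5, Finset.sum_const, hcard] at hsum
  norm_num at hsum

end Hb2Ctx

end Count

end Cfsg.Agent.Lib.Helper4.C5
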