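import Mathlib
import Cfsg.Agent.Lib.Helper8.C5Defs
import Cfsg.Agent.Lib.Helper8.C5A5
import Cfsg.Agent.Lib.Helper6.C5B
import Cfsg.Agent.Lib.Helper2.C5Hb1
import Cfsg.Agent.Lib.Helper4.C5E2
import Cfsg.Agent.Lib.Helper4.C5Hb2a
import Cfsg.Agent.Lib.Helper4.C5Hb2b
import Cfsg.Agent.Lib.Helper4.C5Hb2c
import Cfsg.Agent.Lib.Helper4.C5Hb2d

set_option autoImplicit false
set_option linter.unusedVariables false
set_option linter.unusedSectionVars false
set_option linter.style.longLine false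
set_option linter.deprecated false

/-!
# S3433 piece Hb2: `|Q| = 16` and `|C_M(w)| = 64` in the `A5`-type `2`-local configuration

`card_of_A5_local_of` takes the conclusion of piece Hb1 (`card_fix_sq`) as a hypothesis.
-/

open Cfsg.Agent.Lib.Helper8.C5

namespace Cfsg.Agent.Lib.Helper4.C5

universe u
variable {G : Type u} [Group G] [Finite G]

/-- PIECE Hb2 with the conclusion of Hb1 as a hypothesis. -/
theorem card_of_A5_local_of [IsSimpleGroup G] (h5 : C5 G) (hns : ¬ IsSolvable G) (Q : Subgroup G)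
    (hQ1 : Q ≠ ⊥)
    (e : ↥(Subgroup.normalizer (Q : Set G)) ⧸ Q.subgroupOf (Subgroup.normalizer (Q : Set G)) ≃* A5)
    (hQab : ∀ a ∈ Q, ∀ b ∈ Q, a * b = b * a) (hQe : ∀ a ∈ Q, a ^ 2 = 1)
    (hHb1 : ∀ a : G, a ∈ Subgroup.normalizer (Q : Set G) → a ∉ Q → a ^ 2 ∈ Q →
      Nat.card {q : G // q ∈ Q ∧ a * q = q * a} ^ 2 = Nat.card ↥Q) :
    Nat.card ↥Q = 16 ∧ ∀ w ∈ Q, w ≠ 1 →
      Nat.card ↥(Subgroup.centralizer ({w} : Set G) ⊓ Subgroup.normalizer (Q : Set G)) = 64 := by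
  classical
  haveI : Fintype G := Fintype.ofFinite G
  let φ : ↥(Subgroup.normalizer (Q : Set G)) →* A5 :=
    e.toMonoidHom.comp (QuotientGroup.mk' (Q.subgroupOf (Subgroup.normalizer (Q : Set G))))
  have hc : Hb2Ctx Q (Subgroup.normalizer (Q : Set G)) φ :=
    { QM := Subgroup.le_normalizer
      NM := by
        intro x h1 h2
        rw [Subgroup.mem_normalizer_iff]
        intro h
        constructor
        · exact h1 h
        · intro hh
          have h3 := h2 _ hh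
          have e3 : x⁻¹ * (x * h * x⁻¹) * x = h := by group
          rwa [e3] at h3
      surj := e.surjective.comp (QuotientGroup.mk'_surjective _)
      ker := by
        intro m
        show e (QuotientGroup.mk' _ m) = 1 ↔ _
        rw [MulEquiv.map_eq_one_iff, QuotientGroup.mk'_apply, QuotientGroup.eq_one_iff,
          Subgroup.mem_subgroupOf]
      ne := hQ1
      ab := hQab
      ex := hQe
      fix := hHb1
      cen := fun S t ht => Cfsg.Agent.Lib.Helper6.C5.card_centralizer_invol h5.cit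
        (normal_two_eq_bot hns) S t ht }
  exact ⟨(hc.card_Q_eq h5).1, fun w hw hw1 => hc.card_centralizer_inf h5 w hw hw1⟩

/-- PIECE Hb2 (verbatim). -/
theorem card_of_A5_local [IsSimpleGroup G] (h5 : C5 G) (hns : ¬ IsSolvable G) (Q : Subgroup G)
    (hQ1 : Q ≠ ⊥)
    (e : ↥(Subgroup.normalizer (Q : Set G)) ⧸ Q.subgroupOf (Subgroup.normalizer (Q : Set G)) ≃* A5)
    (hQab : ∀ a ∈ Q, ∀ b ∈ Q, a * b = b * a) (hQe : ∀ a ∈ Q, a ^ 2 = 1) :
    Nat.card ↥Q = 16 ∧ ∀ w ∈ Q, w ≠ 1 →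
      Nat.card ↥(Subgroup.centralizer ({w} : Set G) ⊓ Subgroup.normalizer (Q : Set G)) = 64 :=
  card_of_A5_local_of h5 hns Q hQ1 e hQab hQe
    (fun a haM haQ ha2 => Cfsg.Agent.Lib.Helper2.C5.card_fix_sq h5 Q e hQab hQe a haM haQ ha2)

end Cfsg.Agent.Lib.Helper4.C5
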