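import Mathlib
import Cfsg.Prelude.Def_SporCoxeter

/-! The six-fold cover of the alternating group A6, presented on lifts `a`, `b` of the generators of `A6p` and the central element `z` of order 6 (generated). -/

namespace Cfsg.Agent.Lib.Helper4

namespace C6A6

/-- the generators -/
inductive Gen
  | a
  | b
  | z
  deriving DecidableEq

abbrev a : FreeGroup Gen := FreeGroup.of Gen.a
abbrev b : FreeGroup Gen := FreeGroup.of Gen.b
abbrev z : FreeGroup Gen := FreeGroup.of Gen.z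

/-- no Coxeter graph -/
def edges : List (Gen × ℕ × Gen) := []

/-- the relators -/
def extra : List (FreeGroup Gen) := [
  z ^ 6,
  z * a * z⁻¹ * a⁻¹,
  z * b * z⁻¹ * b⁻¹,
  a ^ 4,
  a * a * z⁻¹ * z⁻¹ * z⁻¹,
  (b ^ 4) * z⁻¹ * z⁻¹ * z⁻¹,
  ((a * b) ^ 5) * (z⁻¹ ^ 4),
  (a * b * b) ^ 5 ]

end C6A6

end Cfsg.Agent.Lib.Helper4
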