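import Mathlib
import Cfsg.Agent.Lib.Helper4.StemLib8

/-!
Stem extensions, part 9: the criterion of part 8 for a presented base group some of whose letters are not images
of letters of the auxiliary presentation (they are words in the others).
-/

set_option autoImplicit false

namespace Cfsg.Agent.Lib.Helper4.Stem

open Cfsg Cfsg.Agent.Lib.Helper4.TC Cfsg.Agent.Lib.Helper4.TC.Log Cfsg.Spor

/-- the static conditions on the words, without the condition on single letters -/
def WlGood' (pk : ℕ) (pinv : ℕ → ℕ) (qk : ℕ) (qinv : ℕ → ℕ) (cen : List ℕ) (Wl : ℕ → List ℕ) : Prop :=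
  (∀ l ∈ List.range qk, (∀ y ∈ Wl l, y < pk) ∧ Wl (qinv l) = invWord pinv (Wl l)) ∧
  (∀ z ∈ cen, Wl z = [])

instance (pk : ℕ) (pinv : ℕ → ℕ) (qk : ℕ) (qinv : ℕ → ℕ) (cen : List ℕ) (Wl : ℕ → List ℕ) :
    Decidable (WlGood' pk pinv qk qinv cen Wl) := by
  unfold WlGood'
  infer_instance

variable {α : Type} [DecidableEq α]

/-- the criterion for a presented base group, where the images of the letters are only required to generate -/
theorem noStemPrime_pres4' {α : Type} [DecidableEq α] {β : Type} [DecidableEq β] (P : CoxEnc α) (hP : P.Valid)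
    (Q : CoxEnc β) (hQ : Q.Valid) (S : Spec4) (hp : S.p.Prime) (Wl : ℕ → List ℕ)
    (hgood4 : S.Good4 Q.k Q.invR) (hWl : WlGood' P.k P.invR Q.k Q.invR S.cen Wl)
    (hgen : Subgroup.closure (xw P Wl '' Set.Iio Q.k) = ⊤)
    (hchecks : ∀ w ∈ checks S.toSpec2 P.invR Wl, wordP P.gR w = 1)
    (hchecksX : ∀ w ∈ checksX S Q.invR Wl, wordP P.gR w = 1)
    (hreal : ∀ L ∈ Q.real, S.RelOK4 Q.k Q.invR L)
    (hlift : LiftsP P.Grp (Subgroup.closure (xw P Wl '' {l | l ∈ S.sub})) S.p)
    (h : ℕ) (hH : Nat.card (Subgroup.closure (xw P Wl '' {l | l ∈ S.sub})) ≤ h)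
    (N : ℕ) (hN : N ≠ 0) (hidx : (Inst.subG Q (S.sub.map fun l => [l])).index = N)
    (hfin : Finite P.Grp) (n : ℕ) (hn : Nat.card P.Grp = n) (hcard : N * h < S.p * n) :
    NoStemPrime P.Grp S.p := by
  obtain ⟨w1, w2⟩ := hWl
  have hPinv : ∀ y, y < P.k → P.gR (P.invR y) = (P.gR y)⁻¹ := fun y hy =>
    (hP.invR_sound y (le_of_lt hy)).2
  have hxinvW : ∀ l, l < Q.k → wordP P.gR (invWord P.invR (Wl l)) = (wordP P.gR (Wl l))⁻¹ := by
    intro l hl
    apply Chain.wordP_invWord'
    intro y hy
    exact hPinv y ((w1 l (List.mem_range.2 hl)).1 y hy)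
  have hgood := hgood4.1
  have hgood' := hgood
  obtain ⟨-, -, g3, -, -, -, -⟩ := hgood'
  refine noStemPrime_of_spec4 Q hQ S hp (xw P Wl) hgood4 ?_ ?_ ?_ ?_ ?_ ?_ ?_ hreal hlift h hH N hN hidx
    (by rw [hn]; exact hcard)
  · intro l hl
    show wordP P.gR (Wl (Q.invR l)) = (wordP P.gR (Wl l))⁻¹
    rw [(w1 l (List.mem_range.2 hl)).2, hxinvW l hl]
  · intro q hq
    have hmem : (if q.2.2 = 0 then q.2.1.flatMap Wl ++ invWord P.invR (Wl q.1)
        else (List.replicate q.2.2 (Wl q.1)).flatten) ∈ checks S.toSpec2 P.invR Wl := by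
      unfold checks
      apply List.mem_append_left
      apply List.mem_append_left
      exact List.mem_map.2 ⟨q, hq, rfl⟩
    have hc := hchecks _ hmem
    constructor
    · intro hm
      rw [if_pos hm, wordP_append, hxinvW _ (g3 q hq).1] at hc
      rw [wordP_xw]
      exact mul_inv_eq_one.1 hc
    · intro hm
      rw [if_neg hm, wordP_replicate_flatten] at hc
      exact hc
  · intro z hz
    show wordP P.gR (Wl z) = 1
    rw [w2 z hz]
    rfl
  · intro r hr
    rw [wordP_xw]
    apply hchecks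
    unfold checks
    apply List.mem_append_left
    apply List.mem_append_right
    exact List.mem_map.2 ⟨r, hr, rfl⟩
  · intro r hr
    rw [wordP_xw]
    apply hchecks
    unfold checks
    apply List.mem_append_right
    exact List.mem_map.2 ⟨r, hr, rfl⟩
  · intro r hr
    have hm1 : (xword Q.invR r).flatMap Wl ∈ checksX S Q.invR Wl := by
      unfold checksX
      rw [List.mem_flatMap]
      exact ⟨r, hr, by simp⟩
    have hm2 : (List.replicate r.2.2.2 (r.2.1.flatMap Wl)).flatten ∈ checksX S Q.invR Wl := by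
      unfold checksX
      rw [List.mem_flatMap]
      exact ⟨r, hr, by simp⟩
    have hm3 : (List.replicate r.2.2.2 (r.2.2.1.flatMap Wl)).flatten ∈ checksX S Q.invR Wl := by
      unfold checksX
      rw [List.mem_flatMap]
      exact ⟨r, hr, by simp⟩
    refine ⟨?_, ?_, ?_⟩
    · rw [wordP_xw]
      exact hchecksX _ hm1
    · rw [wordP_xw, ← wordP_replicate_flatten]
      exact hchecksX _ hm2
    · rw [wordP_xw, ← wordP_replicate_flatten]
      exact hchecksX _ hm3
  · exact hgen


end Cfsg.Agent.Lib.Helper4.Stem
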