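import Cfsg.Agent.Lib.Helper4.TCD_SC2Fi22xp2A_Acc

namespace Cfsg.Agent.Lib.Helper4.TCD.SC2Fi22xp2A

open Cfsg.Agent.Lib.Helper4.TC

set_option maxRecDepth 100000
set_option Elab.async false

theorem c_act21_1 : allRange (fun i => Nat.beq (actR21 i) i) 923 923 = true := by decide +kernel
theorem c_act21_2 : allRange (fun i => Nat.beq (actR21 i) i) 1846 923 = true := by decide +kernel
theorem c_act21_3 : allRange (fun i => Nat.beq (actR21 i) i) 2769 741 = true := by decide +kernel
theorem c_act22_0 : allRange (fun i => Nat.beq (actR22 i) i) 0 937 = true := by decide +kernel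
theorem c_act22_1 : allRange (fun i => Nat.beq (actR22 i) i) 937 937 = true := by decide +kernel
theorem c_act22_2 : allRange (fun i => Nat.beq (actR22 i) i) 1874 937 = true := by decide +kernel
theorem c_act22_3 : allRange (fun i => Nat.beq (actR22 i) i) 2811 699 = true := by decide +kernel
theorem c_act23_0 : allRange (fun i => Nat.beq (actR23 i) i) 0 1875 = true := by decide +kernel
theorem c_act23_1 : allRange (fun i => Nat.beq (actR23 i) i) 1875 1635 = true := by decide +kernel
theorem c_act24_0 : allRange (fun i => Nat.beq (actR24 i) i) 0 3510 = true := by decide +kernel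
theorem c_act25_0 : allRange (fun i => Nat.beq (actR25 i) i) 0 3510 = true := by decide +kernel
theorem c_act26_0 : allRange (fun i => Nat.beq (actR26 i) i) 0 3510 = true := by decide +kernel
theorem c_act27_0 : allRange (fun i => Nat.beq (actR27 i) i) 0 3510 = true := by decide +kernel
theorem c_act28_0 : allRange (fun i => Nat.beq (actR28 i) i) 0 3510 = true := by decide +kernel
theorem c_act29_0 : allRange (fun i => Nat.beq (actR29 i) i) 0 3510 = true := by decide +kernel
theorem c_act30_0 : allRange (fun i => Nat.beq (actR30 i) i) 0 3510 = true := by decide +kernel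
theorem c_act31_0 : allRange (fun i => Nat.beq (actR31 i) i) 0 3510 = true := by decide +kernel
theorem c_act32_0 : allRange (fun i => Nat.beq (actR32 i) i) 0 3510 = true := by decide +kernel
theorem c_act33_0 : allRange (fun i => Nat.beq (actR33 i) i) 0 3510 = true := by decide +kernel
theorem c_act34_0 : allRange (fun i => Nat.beq (actR34 i) i) 0 3510 = true := by decide +kernel
theorem c_act35_0 : allRange (fun i => Nat.beq (actR35 i) i) 0 3510 = true := by decide +kernel
theorem c_act36_0 : allRange (fun i => Nat.beq (actR36 i) i) 0 3510 = true := by decide +kernel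
theorem c_act37_0 : allRange (fun i => Nat.beq (actR37 i) i) 0 3510 = true := by decide +kernel
theorem c_act38_0 : allRange (fun i => Nat.beq (actR38 i) i) 0 3510 = true := by decide +kernel
theorem c_act39_0 : allRange (fun i => Nat.beq (actR39 i) i) 0 3510 = true := by decide +kernel
theorem c_act40_0 : allRange (fun i => Nat.beq (actR40 i) i) 0 3510 = true := by decide +kernel
theorem c_act41_0 : allRange (fun i => Nat.beq (actR41 i) i) 0 3510 = true := by decide +kernel
theorem c_act42_0 : allRange (fun i => Nat.beq (actR42 i) i) 0 3510 = true := by decide +kernel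
theorem c_act43_0 : allRange (fun i => Nat.beq (actR43 i) i) 0 3510 = true := by decide +kernel
theorem c_act44_0 : allRange (fun i => Nat.beq (actR44 i) i) 0 3510 = true := by decide +kernel
theorem c_act45_0 : allRange (fun i => Nat.beq (actR45 i) i) 0 3510 = true := by decide +kernel
theorem c_act46_0 : allRange (fun i => Nat.beq (actR46 i) i) 0 3510 = true := by decide +kernel
theorem c_act47_0 : allRange (fun i => Nat.beq (actR47 i) i) 0 3510 = true := by decide +kernel
theorem c_act48_0 : allRange (fun i => Nat.beq (actR48 i) i) 0 3510 = true := by decide +kernel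
theorem c_act49_0 : allRange (fun i => Nat.beq (actR49 i) i) 0 3510 = true := by decide +kernel
theorem c_act50_0 : allRange (fun i => Nat.beq (actR50 i) i) 0 3510 = true := by decide +kernel
theorem c_act51_0 : allRange (fun i => Nat.beq (actR51 i) i) 0 3510 = true := by decide +kernel
theorem c_act52_0 : allRange (fun i => Nat.beq (actR52 i) i) 0 3510 = true := by decide +kernel
theorem c_act53_0 : allRange (fun i => Nat.beq (actR53 i) i) 0 3510 = true := by decide +kernel
theorem c_act54_0 : allRange (fun i => Nat.beq (actR54 i) i) 0 3510 = true := by decide +kernel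
theorem c_act55_0 : allRange (fun i => Nat.beq (actR55 i) i) 0 3510 = true := by decide +kernel
theorem c_act56_0 : allRange (fun i => Nat.beq (actR56 i) i) 0 3510 = true := by decide +kernel
theorem c_act57_0 : allRange (fun i => Nat.beq (actR57 i) i) 0 3510 = true := by decide +kernel
theorem c_act58_0 : allRange (fun i => Nat.beq (actR58 i) i) 0 3510 = true := by decide +kernel
theorem c_act59_0 : allRange (fun i => Nat.beq (actR59 i) i) 0 3510 = true := by decide +kernel
theorem c_act60_0 : allRange (fun i => Nat.beq (actR60 i) i) 0 3510 = true := by decide +kernel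
theorem c_act61_0 : allRange (fun i => Nat.beq (actR61 i) i) 0 3510 = true := by decide +kernel
theorem c_act62_0 : allRange (fun i => Nat.beq (actR62 i) i) 0 3510 = true := by decide +kernel
theorem c_act63_0 : allRange (fun i => Nat.beq (actR63 i) i) 0 3510 = true := by decide +kernel
theorem c_act64_0 : allRange (fun i => Nat.beq (actR64 i) i) 0 3510 = true := by decide +kernel
theorem c_act65_0 : allRange (fun i => Nat.beq (actR65 i) i) 0 3510 = true := by decide +kernel
theorem c_act66_0 : allRange (fun i => Nat.beq (actR66 i) i) 0 3510 = true := by decide +kernel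
theorem c_act67_0 : allRange (fun i => Nat.beq (actR67 i) i) 0 3510 = true := by decide +kernel
theorem c_act68_0 : allRange (fun i => Nat.beq (actR68 i) i) 0 3510 = true := by decide +kernel
theorem c_act69_0 : allRange (fun i => Nat.beq (actR69 i) i) 0 3510 = true := by decide +kernel
theorem c_act70_0 : allRange (fun i => Nat.beq (actR70 i) i) 0 3510 = true := by decide +kernel
theorem c_act71_0 : allRange (fun i => Nat.beq (actR71 i) i) 0 3510 = true := by decide +kernel
theorem c_act72_0 : allRange (fun i => Nat.beq (actR72 i) i) 0 3510 = true := by decide +kernel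
theorem c_act73_0 : allRange (fun i => Nat.beq (actR73 i) i) 0 3510 = true := by decide +kernel
theorem c_act74_0 : allRange (fun i => Nat.beq (actR74 i) i) 0 3510 = true := by decide +kernel
theorem c_act75_0 : allRange (fun i => Nat.beq (actR75 i) i) 0 3510 = true := by decide +kernel
theorem c_act76_0 : allRange (fun i => Nat.beq (actR76 i) i) 0 3510 = true := by decide +kernel
theorem c_act77_0 : allRange (fun i => Nat.beq (actR77 i) i) 0 3510 = true := by decide +kernel
theorem c_act78_0 : allRange (fun i => Nat.beq (actR78 i) i) 0 3510 = true := by decide +kernel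
theorem c_act79_0 : allRange (fun i => Nat.beq (actR79 i) i) 0 3510 = true := by decide +kernel
theorem c_act80_0 : allRange (fun i => Nat.beq (actR80 i) i) 0 3510 = true := by decide +kernel
theorem c_act81_0 : allRange (fun i => Nat.beq (actR81 i) i) 0 3510 = true := by decide +kernel
theorem c_act82_0 : allRange (fun i => Nat.beq (actR82 i) i) 0 3510 = true := by decide +kernel
theorem c_act83_0 : allRange (fun i => Nat.beq (actR83 i) i) 0 3510 = true := by decide +kernel
theorem c_act84_0 : allRange (fun i => Nat.beq (actR84 i) i) 0 3510 = true := by decide +kernel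
theorem c_act85_0 : allRange (fun i => Nat.beq (actR85 i) i) 0 3510 = true := by decide +kernel
theorem c_act86_0 : allRange (fun i => Nat.beq (actR86 i) i) 0 3510 = true := by decide +kernel
theorem c_act87_0 : allRange (fun i => Nat.beq (actR87 i) i) 0 3510 = true := by decide +kernel
theorem c_act88_0 : allRange (fun i => Nat.beq (actR88 i) i) 0 3510 = true := by decide +kernel
theorem c_act89_0 : allRange (fun i => Nat.beq (actR89 i) i) 0 3510 = true := by decide +kernel
theorem c_act90_0 : allRange (fun i => Nat.beq (actR90 i) i) 0 3510 = true := by decide +kernel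
theorem c_act91_0 : allRange (fun i => Nat.beq (actR91 i) i) 0 3510 = true := by decide +kernel
theorem c_act92_0 : allRange (fun i => Nat.beq (actR92 i) i) 0 3510 = true := by decide +kernel
theorem c_act93_0 : allRange (fun i => Nat.beq (actR93 i) i) 0 3510 = true := by decide +kernel
theorem c_act94_0 : allRange (fun i => Nat.beq (actR94 i) i) 0 3510 = true := by decide +kernel
theorem c_act95_0 : allRange (fun i => Nat.beq (actR95 i) i) 0 3510 = true := by decide +kernel
theorem c_act96_0 : allRange (fun i => Nat.beq (actR96 i) i) 0 3510 = true := by decide +kernel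
theorem c_act97_0 : allRange (fun i => Nat.beq (actR97 i) i) 0 3510 = true := by decide +kernel
theorem c_act98_0 : allRange (fun i => Nat.beq (actR98 i) i) 0 3510 = true := by decide +kernel
theorem c_act99_0 : allRange (fun i => Nat.beq (actR99 i) i) 0 3510 = true := by decide +kernel
theorem c_act100_0 : allRange (fun i => Nat.beq (actR100 i) i) 0 3510 = true := by decide +kernel
theorem c_act101_0 : allRange (fun i => Nat.beq (actR101 i) i) 0 3510 = true := by decide +kernel
theorem c_act102_0 : allRange (fun i => Nat.beq (actR102 i) i) 0 3510 = true := by decide +kernel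
theorem c_act103_0 : allRange (fun i => Nat.beq (actR103 i) i) 0 3510 = true := by decide +kernel
theorem c_act104_0 : allRange (fun i => Nat.beq (actR104 i) i) 0 3510 = true := by decide +kernel
theorem c_act105_0 : allRange (fun i => Nat.beq (actR105 i) i) 0 3510 = true := by decide +kernel
theorem c_act106_0 : allRange (fun i => Nat.beq (actR106 i) i) 0 3510 = true := by decide +kernel
theorem c_act107_0 : allRange (fun i => Nat.beq (actR107 i) i) 0 3510 = true := by decide +kernel
theorem c_act108_0 : allRange (fun i => Nat.beq (actR108 i) i) 0 3510 = true := by decide +kernel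
theorem c_act109_0 : allRange (fun i => Nat.beq (actR109 i) i) 0 3510 = true := by decide +kernel
theorem c_act110_0 : allRange (fun i => Nat.beq (actR110 i) i) 0 3510 = true := by decide +kernel
theorem c_act111_0 : allRange (fun i => Nat.beq (actR111 i) i) 0 3510 = true := by decide +kernel
theorem c_act112_0 : allRange (fun i => Nat.beq (actR112 i) i) 0 3510 = true := by decide +kernel
theorem c_act113_0 : allRange (fun i => Nat.beq (actR113 i) i) 0 3510 = true := by decide +kernel
theorem c_act114_0 : allRange (fun i => Nat.beq (actR114 i) i) 0 3510 = true := by decide +kernel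
theorem c_act115_0 : allRange (fun i => Nat.beq (actR115 i) i) 0 3510 = true := by decide +kernel
theorem c_act116_0 : allRange (fun i => Nat.beq (actR116 i) i) 0 3510 = true := by decide +kernel
theorem c_act117_0 : allRange (fun i => Nat.beq (actR117 i) i) 0 3510 = true := by decide +kernel
theorem c_act118_0 : allRange (fun i => Nat.beq (actR118 i) i) 0 3510 = true := by decide +kernel
theorem c_act119_0 : allRange (fun i => Nat.beq (actR119 i) i) 0 3510 = true := by decide +kernel
theorem c_act120_0 : allRange (fun i => Nat.beq (actR120 i) i) 0 3510 = true := by decide +kernel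
theorem c_act121_0 : allRange (fun i => Nat.beq (actR121 i) i) 0 3510 = true := by decide +kernel
theorem c_act122_0 : allRange (fun i => Nat.beq (actR122 i) i) 0 3510 = true := by decide +kernel
theorem c_act123_0 : allRange (fun i => Nat.beq (actR123 i) i) 0 3510 = true := by decide +kernel
theorem c_act124_0 : allRange (fun i => Nat.beq (actR124 i) i) 0 3510 = true := by decide +kernel
theorem c_act125_0 : allRange (fun i => Nat.beq (actR125 i) i) 0 3510 = true := by decide +kernel
theorem c_act126_0 : allRange (fun i => Nat.beq (actR126 i) i) 0 3510 = true := by decide +kernel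
theorem c_act127_0 : allRange (fun i => Nat.beq (actR127 i) i) 0 3510 = true := by decide +kernel
theorem c_act128_0 : allRange (fun i => Nat.beq (actR128 i) i) 0 3510 = true := by decide +kernel
theorem c_act129_0 : allRange (fun i => Nat.beq (actR129 i) i) 0 3510 = true := by decide +kernel
theorem c_act130_0 : allRange (fun i => Nat.beq (actR130 i) i) 0 3510 = true := by decide +kernel
theorem c_act131_0 : allRange (fun i => Nat.beq (actR131 i) i) 0 3510 = true := by decide +kernel
theorem c_act132_0 : allRange (fun i => Nat.beq (actR132 i) i) 0 3510 = true := by decide +kernel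
theorem c_act133_0 : allRange (fun i => Nat.beq (actR133 i) i) 0 3510 = true := by decide +kernel
theorem c_act134_0 : allRange (fun i => Nat.beq (actR134 i) i) 0 3510 = true := by decide +kernel
theorem c_act135_0 : allRange (fun i => Nat.beq (actR135 i) i) 0 3510 = true := by decide +kernel
theorem c_act136_0 : allRange (fun i => Nat.beq (actR136 i) i) 0 3510 = true := by decide +kernel
theorem c_act137_0 : allRange (fun i => Nat.beq (actR137 i) i) 0 3510 = true := by decide +kernel
theorem c_act138_0 : allRange (fun i => Nat.beq (actR138 i) i) 0 3510 = true := by decide +kernel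
theorem c_act139_0 : allRange (fun i => Nat.beq (actR139 i) i) 0 3510 = true := by decide +kernel
theorem c_act140_0 : allRange (fun i => Nat.beq (actR140 i) i) 0 3510 = true := by decide +kernel
theorem c_act141_0 : allRange (fun i => Nat.beq (actR141 i) i) 0 3510 = true := by decide +kernel
theorem c_act142_0 : allRange (fun i => Nat.beq (actR142 i) i) 0 3510 = true := by decide +kernel
theorem c_act143_0 : allRange (fun i => Nat.beq (actR143 i) i) 0 3510 = true := by decide +kernel
theorem c_act144_0 : allRange (fun i => Nat.beq (actR144 i) i) 0 3510 = true := by decide +kernel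
theorem c_act145_0 : allRange (fun i => Nat.beq (actR145 i) i) 0 3510 = true := by decide +kernel
theorem c_act146_0 : allRange (fun i => Nat.beq (actR146 i) i) 0 3510 = true := by decide +kernel
theorem c_act147_0 : allRange (fun i => Nat.beq (actR147 i) i) 0 3510 = true := by decide +kernel
theorem c_act148_0 : allRange (fun i => Nat.beq (actR148 i) i) 0 3510 = true := by decide +kernel
theorem c_act149_0 : allRange (fun i => Nat.beq (actR149 i) i) 0 3510 = true := by decide +kernel
theorem c_act150_0 : allRange (fun i => Nat.beq (actR150 i) i) 0 3510 = true := by decide +kernel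
theorem c_act151_0 : allRange (fun i => Nat.beq (actR151 i) i) 0 3510 = true := by decide +kernel
theorem c_act152_0 : allRange (fun i => Nat.beq (actR152 i) i) 0 3510 = true := by decide +kernel
theorem c_act153_0 : allRange (fun i => Nat.beq (actR153 i) i) 0 3510 = true := by decide +kernel
theorem c_act154_0 : allRange (fun i => Nat.beq (actR154 i) i) 0 3510 = true := by decide +kernel
theorem c_act155_0 : allRange (fun i => Nat.beq (actR155 i) i) 0 3510 = true := by decide +kernel
theorem c_act156_0 : allRange (fun i => Nat.beq (actR156 i) i) 0 3510 = true := by decide +kernel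
theorem c_act157_0 : allRange (fun i => Nat.beq (actR157 i) i) 0 3510 = true := by decide +kernel
theorem c_act158_0 : allRange (fun i => Nat.beq (actR158 i) i) 0 3510 = true := by decide +kernel
theorem c_act159_0 : allRange (fun i => Nat.beq (actR159 i) i) 0 3510 = true := by decide +kernel
theorem c_act160_0 : allRange (fun i => Nat.beq (actR160 i) i) 0 3510 = true := by decide +kernel
theorem c_act161_0 : allRange (fun i => Nat.beq (actR161 i) i) 0 3510 = true := by decide +kernel
theorem c_act162_0 : allRange (fun i => Nat.beq (actR162 i) i) 0 3510 = true := by decide +kernel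
theorem c_act163_0 : allRange (fun i => Nat.beq (actR163 i) i) 0 3510 = true := by decide +kernel
theorem c_act164_0 : allRange (fun i => Nat.beq (actR164 i) i) 0 3510 = true := by decide +kernel
theorem c_act165_0 : allRange (fun i => Nat.beq (actR165 i) i) 0 3510 = true := by decide +kernel
theorem c_act166_0 : allRange (fun i => Nat.beq (actR166 i) i) 0 3510 = true := by decide +kernel
theorem c_act167_0 : allRange (fun i => Nat.beq (actR167 i) i) 0 3510 = true := by decide +kernel
theorem c_act168_0 : allRange (fun i => Nat.beq (actR168 i) i) 0 3510 = true := by decide +kernel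
theorem c_act169_0 : allRange (fun i => Nat.beq (actR169 i) i) 0 3510 = true := by decide +kernel
theorem c_act170_0 : allRange (fun i => Nat.beq (actR170 i) i) 0 3510 = true := by decide +kernel
theorem c_act171_0 : allRange (fun i => Nat.beq (actR171 i) i) 0 3510 = true := by decide +kernel
theorem c_act172_0 : allRange (fun i => Nat.beq (actR172 i) i) 0 3510 = true := by decide +kernel
theorem c_act173_0 : allRange (fun i => Nat.beq (actR173 i) i) 0 3510 = true := by decide +kernel
theorem c_act174_0 : allRange (fun i => Nat.beq (actR174 i) i) 0 3510 = true := by decide +kernel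
theorem c_act175_0 : allRange (fun i => Nat.beq (actR175 i) i) 0 3510 = true := by decide +kernel
theorem c_act176_0 : allRange (fun i => Nat.beq (actR176 i) i) 0 3510 = true := by decide +kernel
theorem c_act177_0 : allRange (fun i => Nat.beq (actR177 i) i) 0 3510 = true := by decide +kernel
theorem c_act178_0 : allRange (fun i => Nat.beq (actR178 i) i) 0 3510 = true := by decide +kernel
theorem c_act179_0 : allRange (fun i => Nat.beq (actR179 i) i) 0 3510 = true := by decide +kernel
theorem c_act180_0 : allRange (fun i => Nat.beq (actR180 i) i) 0 3510 = true := by decide +kernel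
theorem c_act181_0 : allRange (fun i => Nat.beq (actR181 i) i) 0 3510 = true := by decide +kernel
theorem c_act182_0 : allRange (fun i => Nat.beq (actR182 i) i) 0 3510 = true := by decide +kernel
theorem c_act183_0 : allRange (fun i => Nat.beq (actR183 i) i) 0 3510 = true := by decide +kernel
theorem c_act184_0 : allRange (fun i => Nat.beq (actR184 i) i) 0 3510 = true := by decide +kernel
theorem c_act185_0 : allRange (fun i => Nat.beq (actR185 i) i) 0 3510 = true := by decide +kernel
theorem c_act186_0 : allRange (fun i => Nat.beq (actR186 i) i) 0 3510 = true := by decide +kernel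
theorem c_act187_0 : allRange (fun i => Nat.beq (actR187 i) i) 0 3510 = true := by decide +kernel
theorem c_act188_0 : allRange (fun i => Nat.beq (actR188 i) i) 0 3510 = true := by decide +kernel
theorem c_act189_0 : allRange (fun i => Nat.beq (actR189 i) i) 0 3510 = true := by decide +kernel
theorem c_act190_0 : allRange (fun i => Nat.beq (actR190 i) i) 0 3510 = true := by decide +kernel
theorem c_act191_0 : allRange (fun i => Nat.beq (actR191 i) i) 0 3510 = true := by decide +kernel
theorem c_act192_0 : allRange (fun i => Nat.beq (actR192 i) i) 0 3510 = true := by decide +kernel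
theorem c_act193_0 : allRange (fun i => Nat.beq (actR193 i) i) 0 3510 = true := by decide +kernel
theorem c_act194_0 : allRange (fun i => Nat.beq (actR194 i) i) 0 3510 = true := by decide +kernel
theorem c_act195_0 : allRange (fun i => Nat.beq (actR195 i) i) 0 3510 = true := by decide +kernel
theorem c_act196_0 : allRange (fun i => Nat.beq (actR196 i) i) 0 3510 = true := by decide +kernel
theorem c_act197_0 : allRange (fun i => Nat.beq (actR197 i) i) 0 3510 = true := by decide +kernel
theorem c_act198_0 : allRange (fun i => Nat.beq (actR198 i) i) 0 3510 = true := by decide +kernel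
theorem c_act199_0 : allRange (fun i => Nat.beq (actR199 i) i) 0 3510 = true := by decide +kernel
theorem c_act200_0 : allRange (fun i => Nat.beq (actR200 i) i) 0 3510 = true := by decide +kernel
theorem c_act201_0 : allRange (fun i => Nat.beq (actR201 i) i) 0 3510 = true := by decide +kernel
theorem c_act202_0 : allRange (fun i => Nat.beq (actR202 i) i) 0 3510 = true := by decide +kernel
theorem c_act203_0 : allRange (fun i => Nat.beq (actR203 i) i) 0 3510 = true := by decide +kernel
theorem c_act204_0 : allRange (fun i => Nat.beq (actR204 i) i) 0 3510 = true := by decide +kernel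
theorem c_act205_0 : allRange (fun i => Nat.beq (actR205 i) i) 0 3510 = true := by decide +kernel
theorem c_act206_0 : allRange (fun i => Nat.beq (actR206 i) i) 0 3510 = true := by decide +kernel
theorem c_act207_0 : allRange (fun i => Nat.beq (actR207 i) i) 0 3510 = true := by decide +kernel

end Cfsg.Agent.Lib.Helper4.TCD.SC2Fi22xp2A
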