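import Cfsg.Agent.Lib.Helper4.TCD_SC2Fi22xp2A_Acc

namespace Cfsg.Agent.Lib.Helper4.TCD.SC2Fi22xp2A

open Cfsg.Agent.Lib.Helper4.TC

set_option maxRecDepth 100000
set_option Elab.async false

theorem c_act208_0 : allRange (fun i => Nat.beq (actR208 i) i) 0 3510 = true := by decide +kernel
theorem c_act209_0 : allRange (fun i => Nat.beq (actR209 i) i) 0 3510 = true := by decide +kernel
theorem c_act210_0 : allRange (fun i => Nat.beq (actR210 i) i) 0 3510 = true := by decide +kernel
theorem c_act211_0 : allRange (fun i => Nat.beq (actR211 i) i) 0 3510 = true := by decide +kernel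
theorem c_act212_0 : allRange (fun i => Nat.beq (actR212 i) i) 0 3510 = true := by decide +kernel
theorem c_act213_0 : allRange (fun i => Nat.beq (actR213 i) i) 0 3510 = true := by decide +kernel
theorem c_act214_0 : allRange (fun i => Nat.beq (actR214 i) i) 0 3510 = true := by decide +kernel
theorem c_act215_0 : allRange (fun i => Nat.beq (actR215 i) i) 0 3510 = true := by decide +kernel
theorem c_act216_0 : allRange (fun i => Nat.beq (actR216 i) i) 0 3510 = true := by decide +kernel
theorem c_act217_0 : allRange (fun i => Nat.beq (actR217 i) i) 0 3510 = true := by decide +kernel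
theorem c_act218_0 : allRange (fun i => Nat.beq (actR218 i) i) 0 3510 = true := by decide +kernel
theorem c_act219_0 : allRange (fun i => Nat.beq (actR219 i) i) 0 3510 = true := by decide +kernel
theorem c_act220_0 : allRange (fun i => Nat.beq (actR220 i) i) 0 3510 = true := by decide +kernel
theorem c_act221_0 : allRange (fun i => Nat.beq (actR221 i) i) 0 3510 = true := by decide +kernel
theorem c_act222_0 : allRange (fun i => Nat.beq (actR222 i) i) 0 3510 = true := by decide +kernel
theorem c_act223_0 : allRange (fun i => Nat.beq (actR223 i) i) 0 3510 = true := by decide +kernel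
theorem c_act224_0 : allRange (fun i => Nat.beq (actR224 i) i) 0 3510 = true := by decide +kernel
theorem c_act225_0 : allRange (fun i => Nat.beq (actR225 i) i) 0 3510 = true := by decide +kernel
theorem c_act226_0 : allRange (fun i => Nat.beq (actR226 i) i) 0 3510 = true := by decide +kernel
theorem c_act227_0 : allRange (fun i => Nat.beq (actR227 i) i) 0 3510 = true := by decide +kernel
theorem c_act228_0 : allRange (fun i => Nat.beq (actR228 i) i) 0 3510 = true := by decide +kernel
theorem c_act229_0 : allRange (fun i => Nat.beq (actR229 i) i) 0 3510 = true := by decide +kernel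
theorem c_act230_0 : allRange (fun i => Nat.beq (actR230 i) i) 0 3510 = true := by decide +kernel
theorem c_act231_0 : allRange (fun i => Nat.beq (actR231 i) i) 0 3510 = true := by decide +kernel
theorem c_act232_0 : allRange (fun i => Nat.beq (actR232 i) i) 0 3510 = true := by decide +kernel

end Cfsg.Agent.Lib.Helper4.TCD.SC2Fi22xp2A
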