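import Cfsg.Agent.Lib.Helper4.TCD_C2Fi22xR_Acc
import Cfsg.Agent.Lib.Helper4.TC13

namespace Cfsg.Agent.Lib.Helper4.TCD.SC2Fi22xp2W

open Cfsg.Agent.Lib.Helper4.TC Cfsg.Agent.Lib.Helper4.TCD.C2Fi22xR

set_option maxRecDepth 100000
set_option Elab.async false

def chk2 : List Nat := [6, 6]
noncomputable def act2 (i : Nat) : Nat := col7 (col7 (i))
theorem act2_eq (i : Nat) : act2 i = Tab.act T D chk2 i := rfl
theorem c2_0 : allRange (fun i => Nat.beq (act2 i) i) 0 15000 = true := by decide +kernel
theorem c2_1 : allRange (fun i => Nat.beq (act2 i) i) 15000 13160 = true := by decide +kernel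
theorem h2 : ∀ i, i < T.N → Tab.relActOK T D chk2 i = true := by
  intro i hi
  rw [Tab.relActOK, ← act2_eq]
  exact (range_glue (range_of_allRange c2_0) (range_of_allRange c2_1)) i (Nat.zero_le _) hi

def chk5 : List Nat := [12, 12]
noncomputable def act5 (i : Nat) : Nat := col13 (col13 (i))
theorem act5_eq (i : Nat) : act5 i = Tab.act T D chk5 i := rfl
theorem c5_0 : allRange (fun i => Nat.beq (act5 i) i) 0 15000 = true := by decide +kernel
theorem c5_1 : allRange (fun i => Nat.beq (act5 i) i) 15000 13160 = true := by decide +kernel
theorem h5 : ∀ i, i < T.N → Tab.relActOK T D chk5 i = true := by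
  intro i hi
  rw [Tab.relActOK, ← act5_eq]
  exact (range_glue (range_of_allRange c5_0) (range_of_allRange c5_1)) i (Nat.zero_le _) hi

def chk9 : List Nat := [30, 30]
noncomputable def act9 (i : Nat) : Nat := col31 (col31 (i))
theorem act9_eq (i : Nat) : act9 i = Tab.act T D chk9 i := rfl
theorem c9_0 : allRange (fun i => Nat.beq (act9 i) i) 0 15000 = true := by decide +kernel
theorem c9_1 : allRange (fun i => Nat.beq (act9 i) i) 15000 13160 = true := by decide +kernel
theorem h9 : ∀ i, i < T.N → Tab.relActOK T D chk9 i = true := by
  intro i hi
  rw [Tab.relActOK, ← act9_eq]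
  exact (range_glue (range_of_allRange c9_0) (range_of_allRange c9_1)) i (Nat.zero_le _) hi

def chk11 : List Nat := [1, 0, 2, 3]
noncomputable def act11 (i : Nat) : Nat := col0 (col1 (col3 (col2 (i))))
theorem act11_eq (i : Nat) : act11 i = Tab.act T D chk11 i := rfl
theorem c11_0 : allRange (fun i => Nat.beq (act11 i) i) 0 10000 = true := by decide +kernel
theorem c11_1 : allRange (fun i => Nat.beq (act11 i) i) 10000 10000 = true := by decide +kernel
theorem c11_2 : allRange (fun i => Nat.beq (act11 i) i) 20000 8160 = true := by decide +kernel
theorem h11 : ∀ i, i < T.N → Tab.relActOK T D chk11 i = true := by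
  intro i hi
  rw [Tab.relActOK, ← act11_eq]
  exact (range_glue (range_of_allRange c11_0) (range_glue (range_of_allRange c11_1) (range_of_allRange c11_2))) i (Nat.zero_le _) hi

def chk15 : List Nat := [2, 8, 2, 8]
noncomputable def act15 (i : Nat) : Nat := col3 (col9 (col3 (col9 (i))))
theorem act15_eq (i : Nat) : act15 i = Tab.act T D chk15 i := rfl
theorem c15_0 : allRange (fun i => Nat.beq (act15 i) i) 0 10000 = true := by decide +kernel
theorem c15_1 : allRange (fun i => Nat.beq (act15 i) i) 10000 10000 = true := by decide +kernel
theorem c15_2 : allRange (fun i => Nat.beq (act15 i) i) 20000 8160 = true := by decide +kernel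
theorem h15 : ∀ i, i < T.N → Tab.relActOK T D chk15 i = true := by
  intro i hi
  rw [Tab.relActOK, ← act15_eq]
  exact (range_glue (range_of_allRange c15_0) (range_glue (range_of_allRange c15_1) (range_of_allRange c15_2))) i (Nat.zero_le _) hi

def chk18 : List Nat := [2, 14, 2, 14]
noncomputable def act18 (i : Nat) : Nat := col3 (col15 (col3 (col15 (i))))
theorem act18_eq (i : Nat) : act18 i = Tab.act T D chk18 i := rfl
theorem c18_0 : allRange (fun i => Nat.beq (act18 i) i) 0 10000 = true := by decide +kernel
theorem c18_1 : allRange (fun i => Nat.beq (act18 i) i) 10000 10000 = true := by decide +kernel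
theorem c18_2 : allRange (fun i => Nat.beq (act18 i) i) 20000 8160 = true := by decide +kernel
theorem h18 : ∀ i, i < T.N → Tab.relActOK T D chk18 i = true := by
  intro i hi
  rw [Tab.relActOK, ← act18_eq]
  exact (range_glue (range_of_allRange c18_0) (range_glue (range_of_allRange c18_1) (range_of_allRange c18_2))) i (Nat.zero_le _) hi

def chk23 : List Nat := [15, 9, 7, 5, 3, 1, 15, 9, 7, 5, 3, 1, 15, 9, 7, 5, 3, 1, 15, 9, 7, 5, 3, 1, 15, 9, 7, 5, 3, 1, 0, 2, 4, 6, 8, 14, 0, 2, 4, 6, 8, 14, 0, 2, 4, 6, 8, 14, 0, 2, 4, 6, 8, 14, 0, 2, 4, 6, 8, 14]
noncomputable def act23 (i : Nat) : Nat := col14 (col8 (col6 (col4 (col2 (col0 (col14 (col8 (col6 (col4 (col2 (col0 (col14 (col8 (col6 (col4 (col2 (col0 (col14 (col8 (col6 (col4 (col2 (col0 (col14 (col8 (col6 (col4 (col2 (col0 (col1 (col3 (col5 (col7 (col9 (col15 (col1 (col3 (col5 (col7 (col9 (col15 (col1 (col3 (col5 (col7 (col9 (col15 (col1 (col3 (col5 (col7 (col9 (col15 (col1 (col3 (col5 (col7 (col9 (col15 (i))))))))))))))))))))))))))))))))))))))))))))))))))))))))))))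
theorem act23_eq (i : Nat) : act23 i = Tab.act T D chk23 i := rfl
theorem c23_0 : allRange (fun i => Nat.beq (act23 i) i) 0 967 = true := by decide +kernel
theorem c23_1 : allRange (fun i => Nat.beq (act23 i) i) 967 967 = true := by decide +kernel
theorem c23_2 : allRange (fun i => Nat.beq (act23 i) i) 1934 967 = true := by decide +kernel
theorem c23_3 : allRange (fun i => Nat.beq (act23 i) i) 2901 967 = true := by decide +kernel
theorem c23_4 : allRange (fun i => Nat.beq (act23 i) i) 3868 967 = true := by decide +kernel
theorem c23_5 : allRange (fun i => Nat.beq (act23 i) i) 4835 967 = true := by decide +kernel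
theorem c23_6 : allRange (fun i => Nat.beq (act23 i) i) 5802 967 = true := by decide +kernel
theorem c23_7 : allRange (fun i => Nat.beq (act23 i) i) 6769 967 = true := by decide +kernel
theorem c23_8 : allRange (fun i => Nat.beq (act23 i) i) 7736 967 = true := by decide +kernel
theorem c23_9 : allRange (fun i => Nat.beq (act23 i) i) 8703 967 = true := by decide +kernel
theorem c23_10 : allRange (fun i => Nat.beq (act23 i) i) 9670 967 = true := by decide +kernel
theorem c23_11 : allRange (fun i => Nat.beq (act23 i) i) 10637 967 = true := by decide +kernel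
theorem c23_12 : allRange (fun i => Nat.beq (act23 i) i) 11604 967 = true := by decide +kernel
theorem c23_13 : allRange (fun i => Nat.beq (act23 i) i) 12571 967 = true := by decide +kernel
theorem c23_14 : allRange (fun i => Nat.beq (act23 i) i) 13538 967 = true := by decide +kernel
theorem c23_15 : allRange (fun i => Nat.beq (act23 i) i) 14505 967 = true := by decide +kernel
theorem c23_16 : allRange (fun i => Nat.beq (act23 i) i) 15472 967 = true := by decide +kernel
theorem c23_17 : allRange (fun i => Nat.beq (act23 i) i) 16439 967 = true := by decide +kernel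
theorem c23_18 : allRange (fun i => Nat.beq (act23 i) i) 17406 967 = true := by decide +kernel
theorem c23_19 : allRange (fun i => Nat.beq (act23 i) i) 18373 967 = true := by decide +kernel
theorem c23_20 : allRange (fun i => Nat.beq (act23 i) i) 19340 967 = true := by decide +kernel
theorem c23_21 : allRange (fun i => Nat.beq (act23 i) i) 20307 967 = true := by decide +kernel
theorem c23_22 : allRange (fun i => Nat.beq (act23 i) i) 21274 967 = true := by decide +kernel
theorem c23_23 : allRange (fun i => Nat.beq (act23 i) i) 22241 967 = true := by decide +kernel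
theorem c23_24 : allRange (fun i => Nat.beq (act23 i) i) 23208 967 = true := by decide +kernel
theorem c23_25 : allRange (fun i => Nat.beq (act23 i) i) 24175 967 = true := by decide +kernel
theorem c23_26 : allRange (fun i => Nat.beq (act23 i) i) 25142 967 = true := by decide +kernel
theorem c23_27 : allRange (fun i => Nat.beq (act23 i) i) 26109 967 = true := by decide +kernel
theorem c23_28 : allRange (fun i => Nat.beq (act23 i) i) 27076 967 = true := by decide +kernel
theorem c23_29 : allRange (fun i => Nat.beq (act23 i) i) 28043 117 = true := by decide +kernel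
theorem h23 : ∀ i, i < T.N → Tab.relActOK T D chk23 i = true := by
  intro i hi
  rw [Tab.relActOK, ← act23_eq]
  exact (range_glue (range_of_allRange c23_0) (range_glue (range_of_allRange c23_1) (range_glue (range_of_allRange c23_2) (range_glue (range_of_allRange c23_3) (range_glue (range_of_allRange c23_4) (range_glue (range_of_allRange c23_5) (range_glue (range_of_allRange c23_6) (range_glue (range_of_allRange c23_7) (range_glue (range_of_allRange c23_8) (range_glue (range_of_allRange c23_9) (range_glue (range_of_allRange c23_10) (range_glue (range_of_allRange c23_11) (range_glue (range_of_allRange c23_12) (range_glue (range_of_allRange c23_13) (range_glue (range_of_allRange c23_14) (range_glue (range_of_allRange c23_15) (range_glue (range_of_allRange c23_16) (range_glue (range_of_allRange c23_17) (range_glue (range_of_allRange c23_18) (range_glue (range_of_allRange c23_19) (range_glue (range_of_allRange c23_20) (range_glue (range_of_allRange c23_21) (range_glue (range_of_allRange c23_22) (range_glue (range_of_allRange c23_23) (range_glue (range_of_allRange c23_24) (range_glue (range_of_allRange c23_25)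 (range_glue (range_of_allRange c23_26) (range_glue (range_of_allRange c23_27) (range_glue (range_of_allRange c23_28) (range_of_allRange c23_29)))))))))))))))))))))))))))))) i (Nat.zero_le _) hi

def chk26 : List Nat := [0, 6, 0, 6]
noncomputable def act26 (i : Nat) : Nat := col1 (col7 (col1 (col7 (i))))
theorem act26_eq (i : Nat) : act26 i = Tab.act T D chk26 i := rfl
theorem c26_0 : allRange (fun i => Nat.beq (act26 i) i) 0 10000 = true := by decide +kernel
theorem c26_1 : allRange (fun i => Nat.beq (act26 i) i) 10000 10000 = true := by decide +kernel
theorem c26_2 : allRange (fun i => Nat.beq (act26 i) i) 20000 8160 = true := by decide +kernel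
theorem h26 : ∀ i, i < T.N → Tab.relActOK T D chk26 i = true := by
  intro i hi
  rw [Tab.relActOK, ← act26_eq]
  exact (range_glue (range_of_allRange c26_0) (range_glue (range_of_allRange c26_1) (range_of_allRange c26_2))) i (Nat.zero_le _) hi

def chk29 : List Nat := [0, 10, 0, 10]
noncomputable def act29 (i : Nat) : Nat := col1 (col11 (col1 (col11 (i))))
theorem act29_eq (i : Nat) : act29 i = Tab.act T D chk29 i := rfl
theorem c29_0 : allRange (fun i => Nat.beq (act29 i) i) 0 10000 = true := by decide +kernel
theorem c29_1 : allRange (fun i => Nat.beq (act29 i) i) 10000 10000 = true := by decide +kernel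
theorem c29_2 : allRange (fun i => Nat.beq (act29 i) i) 20000 8160 = true := by decide +kernel
theorem h29 : ∀ i, i < T.N → Tab.relActOK T D chk29 i = true := by
  intro i hi
  rw [Tab.relActOK, ← act29_eq]
  exact (range_glue (range_of_allRange c29_0) (range_glue (range_of_allRange c29_1) (range_of_allRange c29_2))) i (Nat.zero_le _) hi

def chk32 : List Nat := [4, 4]
noncomputable def act32 (i : Nat) : Nat := col5 (col5 (i))
theorem act32_eq (i : Nat) : act32 i = Tab.act T D chk32 i := rfl
theorem c32_0 : allRange (fun i => Nat.beq (act32 i) i) 0 15000 = true := by decide +kernel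
theorem c32_1 : allRange (fun i => Nat.beq (act32 i) i) 15000 13160 = true := by decide +kernel
theorem h32 : ∀ i, i < T.N → Tab.relActOK T D chk32 i = true := by
  intro i hi
  rw [Tab.relActOK, ← act32_eq]
  exact (range_glue (range_of_allRange c32_0) (range_of_allRange c32_1)) i (Nat.zero_le _) hi

def chk34 : List Nat := [4, 8, 4, 8]
noncomputable def act34 (i : Nat) : Nat := col5 (col9 (col5 (col9 (i))))
theorem act34_eq (i : Nat) : act34 i = Tab.act T D chk34 i := rfl
theorem c34_0 : allRange (fun i => Nat.beq (act34 i) i) 0 10000 = true := by decide +kernel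
theorem c34_1 : allRange (fun i => Nat.beq (act34 i) i) 10000 10000 = true := by decide +kernel
theorem c34_2 : allRange (fun i => Nat.beq (act34 i) i) 20000 8160 = true := by decide +kernel
theorem h34 : ∀ i, i < T.N → Tab.relActOK T D chk34 i = true := by
  intro i hi
  rw [Tab.relActOK, ← act34_eq]
  exact (range_glue (range_of_allRange c34_0) (range_glue (range_of_allRange c34_1) (range_of_allRange c34_2))) i (Nat.zero_le _) hi

def chk37 : List Nat := [4, 12, 4, 12]
noncomputable def act37 (i : Nat) : Nat := col5 (col13 (col5 (col13 (i))))
theorem act37_eq (i : Nat) : act37 i = Tab.act T D chk37 i := rfl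
theorem c37_0 : allRange (fun i => Nat.beq (act37 i) i) 0 10000 = true := by decide +kernel
theorem c37_1 : allRange (fun i => Nat.beq (act37 i) i) 10000 10000 = true := by decide +kernel
theorem c37_2 : allRange (fun i => Nat.beq (act37 i) i) 20000 8160 = true := by decide +kernel
theorem h37 : ∀ i, i < T.N → Tab.relActOK T D chk37 i = true := by
  intro i hi
  rw [Tab.relActOK, ← act37_eq]
  exact (range_glue (range_of_allRange c37_0) (range_glue (range_of_allRange c37_1) (range_of_allRange c37_2))) i (Nat.zero_le _) hi

def chk43 : List Nat := [6, 12, 6, 12]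
noncomputable def act43 (i : Nat) : Nat := col7 (col13 (col7 (col13 (i))))
theorem act43_eq (i : Nat) : act43 i = Tab.act T D chk43 i := rfl
theorem c43_0 : allRange (fun i => Nat.beq (act43 i) i) 0 10000 = true := by decide +kernel
theorem c43_1 : allRange (fun i => Nat.beq (act43 i) i) 10000 10000 = true := by decide +kernel
theorem c43_2 : allRange (fun i => Nat.beq (act43 i) i) 20000 8160 = true := by decide +kernel
theorem h43 : ∀ i, i < T.N → Tab.relActOK T D chk43 i = true := by
  intro i hi
  rw [Tab.relActOK, ← act43_eq]
  exact (range_glue (range_of_allRange c43_0) (range_glue (range_of_allRange c43_1) (range_of_allRange c43_2))) i (Nat.zero_le _) hi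

def chk48 : List Nat := [8, 12, 8, 12]
noncomputable def act48 (i : Nat) : Nat := col9 (col13 (col9 (col13 (i))))
theorem act48_eq (i : Nat) : act48 i = Tab.act T D chk48 i := rfl
theorem c48_0 : allRange (fun i => Nat.beq (act48 i) i) 0 10000 = true := by decide +kernel
theorem c48_1 : allRange (fun i => Nat.beq (act48 i) i) 10000 10000 = true := by decide +kernel
theorem c48_2 : allRange (fun i => Nat.beq (act48 i) i) 20000 8160 = true := by decide +kernel
theorem h48 : ∀ i, i < T.N → Tab.relActOK T D chk48 i = true := by
  intro i hi
  rw [Tab.relActOK, ← act48_eq]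
  exact (range_glue (range_of_allRange c48_0) (range_glue (range_of_allRange c48_1) (range_of_allRange c48_2))) i (Nat.zero_le _) hi

def chk50 : List Nat := [14, 14]
noncomputable def act50 (i : Nat) : Nat := col15 (col15 (i))
theorem act50_eq (i : Nat) : act50 i = Tab.act T D chk50 i := rfl
theorem c50_0 : allRange (fun i => Nat.beq (act50 i) i) 0 15000 = true := by decide +kernel
theorem c50_1 : allRange (fun i => Nat.beq (act50 i) i) 15000 13160 = true := by decide +kernel
theorem h50 : ∀ i, i < T.N → Tab.relActOK T D chk50 i = true := by
  intro i hi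
  rw [Tab.relActOK, ← act50_eq]
  exact (range_glue (range_of_allRange c50_0) (range_of_allRange c50_1)) i (Nat.zero_le _) hi

def chk52 : List Nat := [14, 12, 14, 12]
noncomputable def act52 (i : Nat) : Nat := col15 (col13 (col15 (col13 (i))))
theorem act52_eq (i : Nat) : act52 i = Tab.act T D chk52 i := rfl
theorem c52_0 : allRange (fun i => Nat.beq (act52 i) i) 0 10000 = true := by decide +kernel
theorem c52_1 : allRange (fun i => Nat.beq (act52 i) i) 10000 10000 = true := by decide +kernel
theorem c52_2 : allRange (fun i => Nat.beq (act52 i) i) 20000 8160 = true := by decide +kernel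
theorem h52 : ∀ i, i < T.N → Tab.relActOK T D chk52 i = true := by
  intro i hi
  rw [Tab.relActOK, ← act52_eq]
  exact (range_glue (range_of_allRange c52_0) (range_glue (range_of_allRange c52_1) (range_of_allRange c52_2))) i (Nat.zero_le _) hi

def chk59 : List Nat := [16, 16]
noncomputable def act59 (i : Nat) : Nat := col17 (col17 (i))
theorem act59_eq (i : Nat) : act59 i = Tab.act T D chk59 i := rfl
theorem c59_0 : allRange (fun i => Nat.beq (act59 i) i) 0 15000 = true := by decide +kernel
theorem c59_1 : allRange (fun i => Nat.beq (act59 i) i) 15000 13160 = true := by decide +kernel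
theorem h59 : ∀ i, i < T.N → Tab.relActOK T D chk59 i = true := by
  intro i hi
  rw [Tab.relActOK, ← act59_eq]
  exact (range_glue (range_of_allRange c59_0) (range_of_allRange c59_1)) i (Nat.zero_le _) hi

def chk60 : List Nat := [31, 1, 30, 0]
noncomputable def act60 (i : Nat) : Nat := col30 (col0 (col31 (col1 (i))))
theorem act60_eq (i : Nat) : act60 i = Tab.act T D chk60 i := rfl
theorem c60_0 : allRange (fun i => Nat.beq (act60 i) i) 0 10000 = true := by decide +kernel
theorem c60_1 : allRange (fun i => Nat.beq (act60 i) i) 10000 10000 = true := by decide +kernel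
theorem c60_2 : allRange (fun i => Nat.beq (act60 i) i) 20000 8160 = true := by decide +kernel
theorem h60 : ∀ i, i < T.N → Tab.relActOK T D chk60 i = true := by
  intro i hi
  rw [Tab.relActOK, ← act60_eq]
  exact (range_glue (range_of_allRange c60_0) (range_glue (range_of_allRange c60_1) (range_of_allRange c60_2))) i (Nat.zero_le _) hi

def chk63 : List Nat := [31, 9, 30, 8]
noncomputable def act63 (i : Nat) : Nat := col30 (col8 (col31 (col9 (i))))
theorem act63_eq (i : Nat) : act63 i = Tab.act T D chk63 i := rfl
theorem c63_0 : allRange (fun i => Nat.beq (act63 i) i) 0 10000 = true := by decide +kernel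
theorem c63_1 : allRange (fun i => Nat.beq (act63 i) i) 10000 10000 = true := by decide +kernel
theorem c63_2 : allRange (fun i => Nat.beq (act63 i) i) 20000 8160 = true := by decide +kernel
theorem h63 : ∀ i, i < T.N → Tab.relActOK T D chk63 i = true := by
  intro i hi
  rw [Tab.relActOK, ← act63_eq]
  exact (range_glue (range_of_allRange c63_0) (range_glue (range_of_allRange c63_1) (range_of_allRange c63_2))) i (Nat.zero_le _) hi

def chk66 : List Nat := [31, 15, 30, 14]
noncomputable def act66 (i : Nat) : Nat := col30 (col14 (col31 (col15 (i))))
theorem act66_eq (i : Nat) : act66 i = Tab.act T D chk66 i := rfl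
theorem c66_0 : allRange (fun i => Nat.beq (act66 i) i) 0 10000 = true := by decide +kernel
theorem c66_1 : allRange (fun i => Nat.beq (act66 i) i) 10000 10000 = true := by decide +kernel
theorem c66_2 : allRange (fun i => Nat.beq (act66 i) i) 20000 8160 = true := by decide +kernel
theorem h66 : ∀ i, i < T.N → Tab.relActOK T D chk66 i = true := by
  intro i hi
  rw [Tab.relActOK, ← act66_eq]
  exact (range_glue (range_of_allRange c66_0) (range_glue (range_of_allRange c66_1) (range_of_allRange c66_2))) i (Nat.zero_le _) hi

def chk68 : List Nat := [31, 15, 9, 7, 5, 3, 1, 15, 9, 7, 5, 3, 1, 15, 9, 7, 5, 3, 1, 15, 9, 7, 5, 3, 1, 15, 9, 7, 5, 3, 1, 30, 0, 2, 4, 6, 8, 14, 0, 2, 4, 6, 8, 14, 0, 2, 4, 6, 8, 14, 0, 2, 4, 6, 8, 14, 0, 2, 4, 6, 8, 14]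
noncomputable def act68 (i : Nat) : Nat := col30 (col14 (col8 (col6 (col4 (col2 (col0 (col14 (col8 (col6 (col4 (col2 (col0 (col14 (col8 (col6 (col4 (col2 (col0 (col14 (col8 (col6 (col4 (col2 (col0 (col14 (col8 (col6 (col4 (col2 (col0 (col31 (col1 (col3 (col5 (col7 (col9 (col15 (col1 (col3 (col5 (col7 (col9 (col15 (col1 (col3 (col5 (col7 (col9 (col15 (col1 (col3 (col5 (col7 (col9 (col15 (col1 (col3 (col5 (col7 (col9 (col15 (i))))))))))))))))))))))))))))))))))))))))))))))))))))))))))))))
theorem act68_eq (i : Nat) : act68 i = Tab.act T D chk68 i := rfl
theorem c68_0 : allRange (fun i => Nat.beq (act68 i) i) 0 937 = true := by decide +kernel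
theorem c68_1 : allRange (fun i => Nat.beq (act68 i) i) 937 937 = true := by decide +kernel
theorem c68_2 : allRange (fun i => Nat.beq (act68 i) i) 1874 937 = true := by decide +kernel
theorem c68_3 : allRange (fun i => Nat.beq (act68 i) i) 2811 937 = true := by decide +kernel
theorem c68_4 : allRange (fun i => Nat.beq (act68 i) i) 3748 937 = true := by decide +kernel
theorem c68_5 : allRange (fun i => Nat.beq (act68 i) i) 4685 937 = true := by decide +kernel
theorem c68_6 : allRange (fun i => Nat.beq (act68 i) i) 5622 937 = true := by decide +kernel
theorem c68_7 : allRange (fun i => Nat.beq (act68 i) i) 6559 937 = true := by decide +kernel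
theorem c68_8 : allRange (fun i => Nat.beq (act68 i) i) 7496 937 = true := by decide +kernel
theorem c68_9 : allRange (fun i => Nat.beq (act68 i) i) 8433 937 = true := by decide +kernel
theorem c68_10 : allRange (fun i => Nat.beq (act68 i) i) 9370 937 = true := by decide +kernel
theorem c68_11 : allRange (fun i => Nat.beq (act68 i) i) 10307 937 = true := by decide +kernel
theorem c68_12 : allRange (fun i => Nat.beq (act68 i) i) 11244 937 = true := by decide +kernel
theorem c68_13 : allRange (fun i => Nat.beq (act68 i) i) 12181 937 = true := by decide +kernel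
theorem c68_14 : allRange (fun i => Nat.beq (act68 i) i) 13118 937 = true := by decide +kernel
theorem c68_15 : allRange (fun i => Nat.beq (act68 i) i) 14055 937 = true := by decide +kernel
theorem c68_16 : allRange (fun i => Nat.beq (act68 i) i) 14992 937 = true := by decide +kernel
theorem c68_17 : allRange (fun i => Nat.beq (act68 i) i) 15929 937 = true := by decide +kernel
theorem c68_18 : allRange (fun i => Nat.beq (act68 i) i) 16866 937 = true := by decide +kernel
theorem c68_19 : allRange (fun i => Nat.beq (act68 i) i) 17803 937 = true := by decide +kernel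
theorem c68_20 : allRange (fun i => Nat.beq (act68 i) i) 18740 937 = true := by decide +kernel
theorem c68_21 : allRange (fun i => Nat.beq (act68 i) i) 19677 937 = true := by decide +kernel
theorem c68_22 : allRange (fun i => Nat.beq (act68 i) i) 20614 937 = true := by decide +kernel
theorem c68_23 : allRange (fun i => Nat.beq (act68 i) i) 21551 937 = true := by decide +kernel
theorem c68_24 : allRange (fun i => Nat.beq (act68 i) i) 22488 937 = true := by decide +kernel
theorem c68_25 : allRange (fun i => Nat.beq (act68 i) i) 23425 937 = true := by decide +kernel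
theorem c68_26 : allRange (fun i => Nat.beq (act68 i) i) 24362 937 = true := by decide +kernel
theorem c68_27 : allRange (fun i => Nat.beq (act68 i) i) 25299 937 = true := by decide +kernel
theorem c68_28 : allRange (fun i => Nat.beq (act68 i) i) 26236 937 = true := by decide +kernel
theorem c68_29 : allRange (fun i => Nat.beq (act68 i) i) 27173 937 = true := by decide +kernel
theorem c68_30 : allRange (fun i => Nat.beq (act68 i) i) 28110 50 = true := by decide +kernel
theorem h68 : ∀ i, i < T.N → Tab.relActOK T D chk68 i = true := by
  intro i hi
  rw [Tab.relActOK, ← act68_eq]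
  exact (range_glue (range_of_allRange c68_0) (range_glue (range_of_allRange c68_1) (range_glue (range_of_allRange c68_2) (range_glue (range_of_allRange c68_3) (range_glue (range_of_allRange c68_4) (range_glue (range_of_allRange c68_5) (range_glue (range_of_allRange c68_6) (range_glue (range_of_allRange c68_7) (range_glue (range_of_allRange c68_8) (range_glue (range_of_allRange c68_9) (range_glue (range_of_allRange c68_10) (range_glue (range_of_allRange c68_11) (range_glue (range_of_allRange c68_12) (range_glue (range_of_allRange c68_13) (range_glue (range_of_allRange c68_14) (range_glue (range_of_allRange c68_15) (range_glue (range_of_allRange c68_16) (range_glue (range_of_allRange c68_17) (range_glue (range_of_allRange c68_18) (range_glue (range_of_allRange c68_19) (range_glue (range_of_allRange c68_20) (range_glue (range_of_allRange c68_21) (range_glue (range_of_allRange c68_22) (range_glue (range_of_allRange c68_23) (range_glue (range_of_allRange c68_24) (range_glue (range_of_allRange c68_25) (range_glue (range_of_allRange c68_26) (range_glue (range_of_allRange c68_27) (range_glue (range_of_allRange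 c68_28) (range_glue (range_of_allRange c68_29) (range_of_allRange c68_30))))))))))))))))))))))))))))))) i (Nat.zero_le _) hi

def chk70 : List Nat := [0, 2, 4, 6, 8, 14, 0, 2, 4, 6, 8, 14, 0, 2, 4, 6, 8, 14, 0, 2, 4, 6, 8, 14, 0, 2, 4, 6, 8, 14, 4, 0, 2, 4, 6, 8, 14, 0, 2, 4, 6, 8, 14, 0, 2, 4, 6, 8, 14, 0, 2, 4, 6, 8, 14, 0, 2, 4, 6, 8, 14, 4]
noncomputable def act70 (i : Nat) : Nat := col1 (col3 (col5 (col7 (col9 (col15 (col1 (col3 (col5 (col7 (col9 (col15 (col1 (col3 (col5 (col7 (col9 (col15 (col1 (col3 (col5 (col7 (col9 (col15 (col1 (col3 (col5 (col7 (col9 (col15 (col5 (col1 (col3 (col5 (col7 (col9 (col15 (col1 (col3 (col5 (col7 (col9 (col15 (col1 (col3 (col5 (col7 (col9 (col15 (col1 (col3 (col5 (col7 (col9 (col15 (col1 (col3 (col5 (col7 (col9 (col15 (col5 (i))))))))))))))))))))))))))))))))))))))))))))))))))))))))))))))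
theorem act70_eq (i : Nat) : act70 i = Tab.act T D chk70 i := rfl
theorem c70_0 : allRange (fun i => Nat.beq (act70 i) i) 0 937 = true := by decide +kernel
theorem c70_1 : allRange (fun i => Nat.beq (act70 i) i) 937 937 = true := by decide +kernel
theorem c70_2 : allRange (fun i => Nat.beq (act70 i) i) 1874 937 = true := by decide +kernel
theorem c70_3 : allRange (fun i => Nat.beq (act70 i) i) 2811 937 = true := by decide +kernel
theorem c70_4 : allRange (fun i => Nat.beq (act70 i) i) 3748 937 = true := by decide +kernel
theorem c70_5 : allRange (fun i => Nat.beq (act70 i) i) 4685 937 = true := by decide +kernel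
theorem c70_6 : allRange (fun i => Nat.beq (act70 i) i) 5622 937 = true := by decide +kernel
theorem c70_7 : allRange (fun i => Nat.beq (act70 i) i) 6559 937 = true := by decide +kernel
theorem c70_8 : allRange (fun i => Nat.beq (act70 i) i) 7496 937 = true := by decide +kernel
theorem c70_9 : allRange (fun i => Nat.beq (act70 i) i) 8433 937 = true := by decide +kernel
theorem c70_10 : allRange (fun i => Nat.beq (act70 i) i) 9370 937 = true := by decide +kernel
theorem c70_11 : allRange (fun i => Nat.beq (act70 i) i) 10307 937 = true := by decide +kernel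
theorem c70_12 : allRange (fun i => Nat.beq (act70 i) i) 11244 937 = true := by decide +kernel
theorem c70_13 : allRange (fun i => Nat.beq (act70 i) i) 12181 937 = true := by decide +kernel
theorem c70_14 : allRange (fun i => Nat.beq (act70 i) i) 13118 937 = true := by decide +kernel
theorem c70_15 : allRange (fun i => Nat.beq (act70 i) i) 14055 937 = true := by decide +kernel
theorem c70_16 : allRange (fun i => Nat.beq (act70 i) i) 14992 937 = true := by decide +kernel
theorem c70_17 : allRange (fun i => Nat.beq (act70 i) i) 15929 937 = true := by decide +kernel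
theorem c70_18 : allRange (fun i => Nat.beq (act70 i) i) 16866 937 = true := by decide +kernel
theorem c70_19 : allRange (fun i => Nat.beq (act70 i) i) 17803 937 = true := by decide +kernel
theorem c70_20 : allRange (fun i => Nat.beq (act70 i) i) 18740 937 = true := by decide +kernel
theorem c70_21 : allRange (fun i => Nat.beq (act70 i) i) 19677 937 = true := by decide +kernel
theorem c70_22 : allRange (fun i => Nat.beq (act70 i) i) 20614 937 = true := by decide +kernel
theorem c70_23 : allRange (fun i => Nat.beq (act70 i) i) 21551 937 = true := by decide +kernel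
theorem c70_24 : allRange (fun i => Nat.beq (act70 i) i) 22488 937 = true := by decide +kernel
theorem c70_25 : allRange (fun i => Nat.beq (act70 i) i) 23425 937 = true := by decide +kernel
theorem c70_26 : allRange (fun i => Nat.beq (act70 i) i) 24362 937 = true := by decide +kernel
theorem c70_27 : allRange (fun i => Nat.beq (act70 i) i) 25299 937 = true := by decide +kernel
theorem c70_28 : allRange (fun i => Nat.beq (act70 i) i) 26236 937 = true := by decide +kernel
theorem c70_29 : allRange (fun i => Nat.beq (act70 i) i) 27173 937 = true := by decide +kernel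
theorem c70_30 : allRange (fun i => Nat.beq (act70 i) i) 28110 50 = true := by decide +kernel
theorem h70 : ∀ i, i < T.N → Tab.relActOK T D chk70 i = true := by
  intro i hi
  rw [Tab.relActOK, ← act70_eq]
  exact (range_glue (range_of_allRange c70_0) (range_glue (range_of_allRange c70_1) (range_glue (range_of_allRange c70_2) (range_glue (range_of_allRange c70_3) (range_glue (range_of_allRange c70_4) (range_glue (range_of_allRange c70_5) (range_glue (range_of_allRange c70_6) (range_glue (range_of_allRange c70_7) (range_glue (range_of_allRange c70_8) (range_glue (range_of_allRange c70_9) (range_glue (range_of_allRange c70_10) (range_glue (range_of_allRange c70_11) (range_glue (range_of_allRange c70_12) (range_glue (range_of_allRange c70_13) (range_glue (range_of_allRange c70_14) (range_glue (range_of_allRange c70_15) (range_glue (range_of_allRange c70_16) (range_glue (range_of_allRange c70_17) (range_glue (range_of_allRange c70_18) (range_glue (range_of_allRange c70_19) (range_glue (range_of_allRange c70_20) (range_glue (range_of_allRange c70_21) (range_glue (range_of_allRange c70_22) (range_glue (range_of_allRange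 c70_23) (range_glue (range_of_allRange c70_24) (range_glue (range_of_allRange c70_25) (range_glue (range_of_allRange c70_26) (range_glue (range_of_allRange c70_27) (range_glue (range_of_allRange c70_28) (range_glue (range_of_allRange c70_29) (range_of_allRange c70_30))))))))))))))))))))))))))))))) i (Nat.zero_le _) hi

def chk73 : List Nat := [0, 2, 4, 6, 8, 14, 0, 2, 4, 6, 8, 14, 0, 2, 4, 6, 8, 14, 0, 2, 4, 6, 8, 14, 0, 2, 4, 6, 8, 14, 12, 0, 2, 4, 6, 8, 14, 0, 2, 4, 6, 8, 14, 0, 2, 4, 6, 8, 14, 0, 2, 4, 6, 8, 14, 0, 2, 4, 6, 8, 14, 12]
noncomputable def act73 (i : Nat) : Nat := col1 (col3 (col5 (col7 (col9 (col15 (col1 (col3 (col5 (col7 (col9 (col15 (col1 (col3 (col5 (col7 (col9 (col15 (col1 (col3 (col5 (col7 (col9 (col15 (col1 (col3 (col5 (col7 (col9 (col15 (col13 (col1 (col3 (col5 (col7 (col9 (col15 (col1 (col3 (col5 (col7 (col9 (col15 (col1 (col3 (col5 (col7 (col9 (col15 (col1 (col3 (col5 (col7 (col9 (col15 (col1 (col3 (col5 (col7 (col9 (col15 (col13 (i))))))))))))))))))))))))))))))))))))))))))))))))))))))))))))))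
theorem act73_eq (i : Nat) : act73 i = Tab.act T D chk73 i := rfl
theorem c73_0 : allRange (fun i => Nat.beq (act73 i) i) 0 937 = true := by decide +kernel
theorem c73_1 : allRange (fun i => Nat.beq (act73 i) i) 937 937 = true := by decide +kernel
theorem c73_2 : allRange (fun i => Nat.beq (act73 i) i) 1874 937 = true := by decide +kernel
theorem c73_3 : allRange (fun i => Nat.beq (act73 i) i) 2811 937 = true := by decide +kernel
theorem c73_4 : allRange (fun i => Nat.beq (act73 i) i) 3748 937 = true := by decide +kernel
theorem c73_5 : allRange (fun i => Nat.beq (act73 i) i) 4685 937 = true := by decide +kernel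
theorem c73_6 : allRange (fun i => Nat.beq (act73 i) i) 5622 937 = true := by decide +kernel
theorem c73_7 : allRange (fun i => Nat.beq (act73 i) i) 6559 937 = true := by decide +kernel
theorem c73_8 : allRange (fun i => Nat.beq (act73 i) i) 7496 937 = true := by decide +kernel
theorem c73_9 : allRange (fun i => Nat.beq (act73 i) i) 8433 937 = true := by decide +kernel
theorem c73_10 : allRange (fun i => Nat.beq (act73 i) i) 9370 937 = true := by decide +kernel
theorem c73_11 : allRange (fun i => Nat.beq (act73 i) i) 10307 937 = true := by decide +kernel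
theorem c73_12 : allRange (fun i => Nat.beq (act73 i) i) 11244 937 = true := by decide +kernel
theorem c73_13 : allRange (fun i => Nat.beq (act73 i) i) 12181 937 = true := by decide +kernel
theorem c73_14 : allRange (fun i => Nat.beq (act73 i) i) 13118 937 = true := by decide +kernel
theorem c73_15 : allRange (fun i => Nat.beq (act73 i) i) 14055 937 = true := by decide +kernel
theorem c73_16 : allRange (fun i => Nat.beq (act73 i) i) 14992 937 = true := by decide +kernel
theorem c73_17 : allRange (fun i => Nat.beq (act73 i) i) 15929 937 = true := by decide +kernel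
theorem c73_18 : allRange (fun i => Nat.beq (act73 i) i) 16866 937 = true := by decide +kernel
theorem c73_19 : allRange (fun i => Nat.beq (act73 i) i) 17803 937 = true := by decide +kernel
theorem c73_20 : allRange (fun i => Nat.beq (act73 i) i) 18740 937 = true := by decide +kernel
theorem c73_21 : allRange (fun i => Nat.beq (act73 i) i) 19677 937 = true := by decide +kernel
theorem c73_22 : allRange (fun i => Nat.beq (act73 i) i) 20614 937 = true := by decide +kernel
theorem c73_23 : allRange (fun i => Nat.beq (act73 i) i) 21551 937 = true := by decide +kernel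
theorem c73_24 : allRange (fun i => Nat.beq (act73 i) i) 22488 937 = true := by decide +kernel
theorem c73_25 : allRange (fun i => Nat.beq (act73 i) i) 23425 937 = true := by decide +kernel
theorem c73_26 : allRange (fun i => Nat.beq (act73 i) i) 24362 937 = true := by decide +kernel
theorem c73_27 : allRange (fun i => Nat.beq (act73 i) i) 25299 937 = true := by decide +kernel
theorem c73_28 : allRange (fun i => Nat.beq (act73 i) i) 26236 937 = true := by decide +kernel
theorem c73_29 : allRange (fun i => Nat.beq (act73 i) i) 27173 937 = true := by decide +kernel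
theorem c73_30 : allRange (fun i => Nat.beq (act73 i) i) 28110 50 = true := by decide +kernel
theorem h73 : ∀ i, i < T.N → Tab.relActOK T D chk73 i = true := by
  intro i hi
  rw [Tab.relActOK, ← act73_eq]
  exact (range_glue (range_of_allRange c73_0) (range_glue (range_of_allRange c73_1) (range_glue (range_of_allRange c73_2) (range_glue (range_of_allRange c73_3) (range_glue (range_of_allRange c73_4) (range_glue (range_of_allRange c73_5) (range_glue (range_of_allRange c73_6) (range_glue (range_of_allRange c73_7) (range_glue (range_of_allRange c73_8) (range_glue (range_of_allRange c73_9) (range_glue (range_of_allRange c73_10) (range_glue (range_of_allRange c73_11) (range_glue (range_of_allRange c73_12) (range_glue (range_of_allRange c73_13) (range_glue (range_of_allRange c73_14) (range_glue (range_of_allRange c73_15) (range_glue (range_of_allRange c73_16) (range_glue (range_of_allRange c73_17) (range_glue (range_of_allRange c73_18) (range_glue (range_of_allRange c73_19) (range_glue (range_of_allRange c73_20) (range_glue (range_of_allRange c73_21) (range_glue (range_of_allRange c73_22) (range_glue (range_of_allRange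 c73_23) (range_glue (range_of_allRange c73_24) (range_glue (range_of_allRange c73_25) (range_glue (range_of_allRange c73_26) (range_glue (range_of_allRange c73_27) (range_glue (range_of_allRange c73_28) (range_glue (range_of_allRange c73_29) (range_of_allRange c73_30))))))))))))))))))))))))))))))) i (Nat.zero_le _) hi

def chk76 : List Nat := [0, 2, 4, 6, 8, 14, 0, 2, 4, 6, 8, 14, 0, 2, 4, 6, 8, 14, 0, 2, 4, 6, 8, 14, 0, 2, 4, 6, 8, 14, 16, 0, 2, 4, 6, 8, 14, 0, 2, 4, 6, 8, 14, 0, 2, 4, 6, 8, 14, 0, 2, 4, 6, 8, 14, 0, 2, 4, 6, 8, 14, 16, 0, 2, 4, 6, 8, 14, 0, 2, 4, 6, 8, 14, 0, 2, 4, 6, 8, 14, 0, 2, 4, 6, 8, 14, 0, 2, 4, 6, 8, 14, 16, 31]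
noncomputable def act76 (i : Nat) : Nat := col1 (col3 (col5 (col7 (col9 (col15 (col1 (col3 (col5 (col7 (col9 (col15 (col1 (col3 (col5 (col7 (col9 (col15 (col1 (col3 (col5 (col7 (col9 (col15 (col1 (col3 (col5 (col7 (col9 (col15 (col17 (col1 (col3 (col5 (col7 (col9 (col15 (col1 (col3 (col5 (col7 (col9 (col15 (col1 (col3 (col5 (col7 (col9 (col15 (col1 (col3 (col5 (col7 (col9 (col15 (col1 (col3 (col5 (col7 (col9 (col15 (col17 (col1 (col3 (col5 (col7 (col9 (col15 (col1 (col3 (col5 (col7 (col9 (col15 (col1 (col3 (col5 (col7 (col9 (col15 (col1 (col3 (col5 (col7 (col9 (col15 (col1 (col3 (col5 (col7 (col9 (col15 (col17 (col30 (i))))))))))))))))))))))))))))))))))))))))))))))))))))))))))))))))))))))))))))))))))))))))))))))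
theorem act76_eq (i : Nat) : act76 i = Tab.act T D chk76 i := rfl
theorem c76_0 : allRange (fun i => Nat.beq (act76 i) i) 0 625 = true := by decide +kernel
theorem c76_1 : allRange (fun i => Nat.beq (act76 i) i) 625 625 = true := by decide +kernel
theorem c76_2 : allRange (fun i => Nat.beq (act76 i) i) 1250 625 = true := by decide +kernel
theorem c76_3 : allRange (fun i => Nat.beq (act76 i) i) 1875 625 = true := by decide +kernel
theorem c76_4 : allRange (fun i => Nat.beq (act76 i) i) 2500 625 = true := by decide +kernel
theorem c76_5 : allRange (fun i => Nat.beq (act76 i) i) 3125 625 = true := by decide +kernel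
theorem c76_6 : allRange (fun i => Nat.beq (act76 i) i) 3750 625 = true := by decide +kernel
theorem c76_7 : allRange (fun i => Nat.beq (act76 i) i) 4375 625 = true := by decide +kernel
theorem c76_8 : allRange (fun i => Nat.beq (act76 i) i) 5000 625 = true := by decide +kernel
theorem c76_9 : allRange (fun i => Nat.beq (act76 i) i) 5625 625 = true := by decide +kernel
theorem c76_10 : allRange (fun i => Nat.beq (act76 i) i) 6250 625 = true := by decide +kernel
theorem c76_11 : allRange (fun i => Nat.beq (act76 i) i) 6875 625 = true := by decide +kernel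
theorem c76_12 : allRange (fun i => Nat.beq (act76 i) i) 7500 625 = true := by decide +kernel
theorem c76_13 : allRange (fun i => Nat.beq (act76 i) i) 8125 625 = true := by decide +kernel
theorem c76_14 : allRange (fun i => Nat.beq (act76 i) i) 8750 625 = true := by decide +kernel
theorem c76_15 : allRange (fun i => Nat.beq (act76 i) i) 9375 625 = true := by decide +kernel
theorem c76_16 : allRange (fun i => Nat.beq (act76 i) i) 10000 625 = true := by decide +kernel
theorem c76_17 : allRange (fun i => Nat.beq (act76 i) i) 10625 625 = true := by decide +kernel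
theorem c76_18 : allRange (fun i => Nat.beq (act76 i) i) 11250 625 = true := by decide +kernel
theorem c76_19 : allRange (fun i => Nat.beq (act76 i) i) 11875 625 = true := by decide +kernel
theorem c76_20 : allRange (fun i => Nat.beq (act76 i) i) 12500 625 = true := by decide +kernel
theorem c76_21 : allRange (fun i => Nat.beq (act76 i) i) 13125 625 = true := by decide +kernel
theorem c76_22 : allRange (fun i => Nat.beq (act76 i) i) 13750 625 = true := by decide +kernel
theorem c76_23 : allRange (fun i => Nat.beq (act76 i) i) 14375 625 = true := by decide +kernel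
theorem c76_24 : allRange (fun i => Nat.beq (act76 i) i) 15000 625 = true := by decide +kernel
theorem c76_25 : allRange (fun i => Nat.beq (act76 i) i) 15625 625 = true := by decide +kernel
theorem c76_26 : allRange (fun i => Nat.beq (act76 i) i) 16250 625 = true := by decide +kernel
theorem c76_27 : allRange (fun i => Nat.beq (act76 i) i) 16875 625 = true := by decide +kernel
theorem c76_28 : allRange (fun i => Nat.beq (act76 i) i) 17500 625 = true := by decide +kernel
theorem c76_29 : allRange (fun i => Nat.beq (act76 i) i) 18125 625 = true := by decide +kernel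
theorem c76_30 : allRange (fun i => Nat.beq (act76 i) i) 18750 625 = true := by decide +kernel
theorem c76_31 : allRange (fun i => Nat.beq (act76 i) i) 19375 625 = true := by decide +kernel
theorem c76_32 : allRange (fun i => Nat.beq (act76 i) i) 20000 625 = true := by decide +kernel
theorem c76_33 : allRange (fun i => Nat.beq (act76 i) i) 20625 625 = true := by decide +kernel
theorem c76_34 : allRange (fun i => Nat.beq (act76 i) i) 21250 625 = true := by decide +kernel
theorem c76_35 : allRange (fun i => Nat.beq (act76 i) i) 21875 625 = true := by decide +kernel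
theorem c76_36 : allRange (fun i => Nat.beq (act76 i) i) 22500 625 = true := by decide +kernel
theorem c76_37 : allRange (fun i => Nat.beq (act76 i) i) 23125 625 = true := by decide +kernel
theorem c76_38 : allRange (fun i => Nat.beq (act76 i) i) 23750 625 = true := by decide +kernel
theorem c76_39 : allRange (fun i => Nat.beq (act76 i) i) 24375 625 = true := by decide +kernel
theorem c76_40 : allRange (fun i => Nat.beq (act76 i) i) 25000 625 = true := by decide +kernel
theorem c76_41 : allRange (fun i => Nat.beq (act76 i) i) 25625 625 = true := by decide +kernel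
theorem c76_42 : allRange (fun i => Nat.beq (act76 i) i) 26250 625 = true := by decide +kernel
theorem c76_43 : allRange (fun i => Nat.beq (act76 i) i) 26875 625 = true := by decide +kernel
theorem c76_44 : allRange (fun i => Nat.beq (act76 i) i) 27500 625 = true := by decide +kernel
theorem c76_45 : allRange (fun i => Nat.beq (act76 i) i) 28125 35 = true := by decide +kernel
theorem h76 : ∀ i, i < T.N → Tab.relActOK T D chk76 i = true := by
  intro i hi
  rw [Tab.relActOK, ← act76_eq]
  exact (range_glue (range_of_allRange c76_0) (range_glue (range_of_allRange c76_1) (range_glue (range_of_allRange c76_2) (range_glue (range_of_allRange c76_3) (range_glue (range_of_allRange c76_4) (range_glue (range_of_allRange c76_5) (range_glue (range_of_allRange c76_6) (range_glue (range_of_allRange c76_7) (range_glue (range_of_allRange c76_8) (range_glue (range_of_allRange c76_9) (range_glue (range_of_allRange c76_10) (range_glue (range_of_allRange c76_11) (range_glue (range_of_allRange c76_12) (range_glue (range_of_allRange c76_13) (range_glue (range_of_allRange c76_14) (range_glue (range_of_allRange c76_15) (range_glue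 (range_of_allRange c76_16) (range_glue (range_of_allRange c76_17) (range_glue (range_of_allRange c76_18) (range_glue (range_of_allRange c76_19) (range_glue (range_of_allRange c76_20) (range_glue (range_of_allRange c76_21) (range_glue (range_of_allRange c76_22) (range_glue (range_of_allRange c76_23) (range_glue (range_of_allRange c76_24) (range_glue (range_of_allRange c76_25) (range_glue (range_of_allRange c76_26) (range_glue (range_of_allRange c76_27) (range_glue (range_of_allRange c76_28) (range_glue (range_of_allRange c76_29) (range_glue (range_of_allRange c76_30) (range_glue (range_of_allRange c76_31) (range_glue (range_of_allRange c76_32) (range_glue (range_of_allRange c76_33) (range_glue (range_of_allRange c76_34) (range_glue (range_of_allRange c76_35) (range_glue (range_of_allRange c76_36) (range_glue (range_of_allRange c76_37) (range_glue (range_of_allRange c76_38) (range_glue (range_of_allRange c76_39) (range_glue (range_of_allRange c76_40) (range_glue (range_of_allRange c76_41) (range_glue (range_of_allRange c76_42) (range_glue (range_of_allRange c76_43) (range_glue (range_of_allRange c76_44) (range_of_allRange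 c76_45)))))))))))))))))))))))))))))))))))))))))))))) i (Nat.zero_le _) hi

end Cfsg.Agent.Lib.Helper4.TCD.SC2Fi22xp2W
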