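import Cfsg.Agent.Lib.Helper4.TCD_C2Fi22xR_Acc
import Cfsg.Agent.Lib.Helper4.TC13

namespace Cfsg.Agent.Lib.Helper4.TCD.SC2Fi22xp2W

open Cfsg.Agent.Lib.Helper4.TC Cfsg.Agent.Lib.Helper4.TCD.C2Fi22xR

set_option maxRecDepth 100000
set_option Elab.async false

def chk3 : List Nat := [8, 8]
noncomputable def act3 (i : Nat) : Nat := col9 (col9 (i))
theorem act3_eq (i : Nat) : act3 i = Tab.act T D chk3 i := rfl
theorem c3_0 : allRange (fun i => Nat.beq (act3 i) i) 0 15000 = true := by decide +kernel
theorem c3_1 : allRange (fun i => Nat.beq (act3 i) i) 15000 13160 = true := by decide +kernel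
theorem h3 : ∀ i, i < T.N → Tab.relActOK T D chk3 i = true := by
  intro i hi
  rw [Tab.relActOK, ← act3_eq]
  exact (range_glue (range_of_allRange c3_0) (range_of_allRange c3_1)) i (Nat.zero_le _) hi

def chk6 : List Nat := [14, 14]
noncomputable def act6 (i : Nat) : Nat := col15 (col15 (i))
theorem act6_eq (i : Nat) : act6 i = Tab.act T D chk6 i := rfl
theorem c6_0 : allRange (fun i => Nat.beq (act6 i) i) 0 15000 = true := by decide +kernel
theorem c6_1 : allRange (fun i => Nat.beq (act6 i) i) 15000 13160 = true := by decide +kernel
theorem h6 : ∀ i, i < T.N → Tab.relActOK T D chk6 i = true := by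
  intro i hi
  rw [Tab.relActOK, ← act6_eq]
  exact (range_glue (range_of_allRange c6_0) (range_of_allRange c6_1)) i (Nat.zero_le _) hi

def chk8 : List Nat := [0, 2, 4, 6, 8, 14, 0, 2, 4, 6, 8, 14, 0, 2, 4, 6, 8, 14, 0, 2, 4, 6, 8, 14, 0, 2, 4, 6, 8, 14, 0, 2, 4, 6, 8, 14, 0, 2, 4, 6, 8, 14, 0, 2, 4, 6, 8, 14, 0, 2, 4, 6, 8, 14, 0, 2, 4, 6, 8, 14]
noncomputable def act8 (i : Nat) : Nat := col1 (col3 (col5 (col7 (col9 (col15 (col1 (col3 (col5 (col7 (col9 (col15 (col1 (col3 (col5 (col7 (col9 (col15 (col1 (col3 (col5 (col7 (col9 (col15 (col1 (col3 (col5 (col7 (col9 (col15 (col1 (col3 (col5 (col7 (col9 (col15 (col1 (col3 (col5 (col7 (col9 (col15 (col1 (col3 (col5 (col7 (col9 (col15 (col1 (col3 (col5 (col7 (col9 (col15 (col1 (col3 (col5 (col7 (col9 (col15 (i))))))))))))))))))))))))))))))))))))))))))))))))))))))))))))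
theorem act8_eq (i : Nat) : act8 i = Tab.act T D chk8 i := rfl
theorem c8_0 : allRange (fun i => Nat.beq (act8 i) i) 0 967 = true := by decide +kernel
theorem c8_1 : allRange (fun i => Nat.beq (act8 i) i) 967 967 = true := by decide +kernel
theorem c8_2 : allRange (fun i => Nat.beq (act8 i) i) 1934 967 = true := by decide +kernel
theorem c8_3 : allRange (fun i => Nat.beq (act8 i) i) 2901 967 = true := by decide +kernel
theorem c8_4 : allRange (fun i => Nat.beq (act8 i) i) 3868 967 = true := by decide +kernel
theorem c8_5 : allRange (fun i => Nat.beq (act8 i) i) 4835 967 = true := by decide +kernel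
theorem c8_6 : allRange (fun i => Nat.beq (act8 i) i) 5802 967 = true := by decide +kernel
theorem c8_7 : allRange (fun i => Nat.beq (act8 i) i) 6769 967 = true := by decide +kernel
theorem c8_8 : allRange (fun i => Nat.beq (act8 i) i) 7736 967 = true := by decide +kernel
theorem c8_9 : allRange (fun i => Nat.beq (act8 i) i) 8703 967 = true := by decide +kernel
theorem c8_10 : allRange (fun i => Nat.beq (act8 i) i) 9670 967 = true := by decide +kernel
theorem c8_11 : allRange (fun i => Nat.beq (act8 i) i) 10637 967 = true := by decide +kernel
theorem c8_12 : allRange (fun i => Nat.beq (act8 i) i) 11604 967 = true := by decide +kernel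
theorem c8_13 : allRange (fun i => Nat.beq (act8 i) i) 12571 967 = true := by decide +kernel
theorem c8_14 : allRange (fun i => Nat.beq (act8 i) i) 13538 967 = true := by decide +kernel
theorem c8_15 : allRange (fun i => Nat.beq (act8 i) i) 14505 967 = true := by decide +kernel
theorem c8_16 : allRange (fun i => Nat.beq (act8 i) i) 15472 967 = true := by decide +kernel
theorem c8_17 : allRange (fun i => Nat.beq (act8 i) i) 16439 967 = true := by decide +kernel
theorem c8_18 : allRange (fun i => Nat.beq (act8 i) i) 17406 967 = true := by decide +kernel
theorem c8_19 : allRange (fun i => Nat.beq (act8 i) i) 18373 967 = true := by decide +kernel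
theorem c8_20 : allRange (fun i => Nat.beq (act8 i) i) 19340 967 = true := by decide +kernel
theorem c8_21 : allRange (fun i => Nat.beq (act8 i) i) 20307 967 = true := by decide +kernel
theorem c8_22 : allRange (fun i => Nat.beq (act8 i) i) 21274 967 = true := by decide +kernel
theorem c8_23 : allRange (fun i => Nat.beq (act8 i) i) 22241 967 = true := by decide +kernel
theorem c8_24 : allRange (fun i => Nat.beq (act8 i) i) 23208 967 = true := by decide +kernel
theorem c8_25 : allRange (fun i => Nat.beq (act8 i) i) 24175 967 = true := by decide +kernel
theorem c8_26 : allRange (fun i => Nat.beq (act8 i) i) 25142 967 = true := by decide +kernel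
theorem c8_27 : allRange (fun i => Nat.beq (act8 i) i) 26109 967 = true := by decide +kernel
theorem c8_28 : allRange (fun i => Nat.beq (act8 i) i) 27076 967 = true := by decide +kernel
theorem c8_29 : allRange (fun i => Nat.beq (act8 i) i) 28043 117 = true := by decide +kernel
theorem h8 : ∀ i, i < T.N → Tab.relActOK T D chk8 i = true := by
  intro i hi
  rw [Tab.relActOK, ← act8_eq]
  exact (range_glue (range_of_allRange c8_0) (range_glue (range_of_allRange c8_1) (range_glue (range_of_allRange c8_2) (range_glue (range_of_allRange c8_3) (range_glue (range_of_allRange c8_4) (range_glue (range_of_allRange c8_5) (range_glue (range_of_allRange c8_6) (range_glue (range_of_allRange c8_7) (range_glue (range_of_allRange c8_8) (range_glue (range_of_allRange c8_9) (range_glue (range_of_allRange c8_10) (range_glue (range_of_allRange c8_11) (range_glue (range_of_allRange c8_12) (range_glue (range_of_allRange c8_13) (range_glue (range_of_allRange c8_14) (range_glue (range_of_allRange c8_15) (range_glue (range_of_allRange c8_16) (range_glue (range_of_allRange c8_17) (range_glue (range_of_allRange c8_18) (range_glue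 (range_of_allRange c8_19) (range_glue (range_of_allRange c8_20) (range_glue (range_of_allRange c8_21) (range_glue (range_of_allRange c8_22) (range_glue (range_of_allRange c8_23) (range_glue (range_of_allRange c8_24) (range_glue (range_of_allRange c8_25) (range_glue (range_of_allRange c8_26) (range_glue (range_of_allRange c8_27) (range_glue (range_of_allRange c8_28) (range_of_allRange c8_29)))))))))))))))))))))))))))))) i (Nat.zero_le _) hi

def chk12 : List Nat := [2, 2]
noncomputable def act12 (i : Nat) : Nat := col3 (col3 (i))
theorem act12_eq (i : Nat) : act12 i = Tab.act T D chk12 i := rfl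
theorem c12_0 : allRange (fun i => Nat.beq (act12 i) i) 0 15000 = true := by decide +kernel
theorem c12_1 : allRange (fun i => Nat.beq (act12 i) i) 15000 13160 = true := by decide +kernel
theorem h12 : ∀ i, i < T.N → Tab.relActOK T D chk12 i = true := by
  intro i hi
  rw [Tab.relActOK, ← act12_eq]
  exact (range_glue (range_of_allRange c12_0) (range_of_allRange c12_1)) i (Nat.zero_le _) hi

def chk16 : List Nat := [2, 10, 2, 10]
noncomputable def act16 (i : Nat) : Nat := col3 (col11 (col3 (col11 (i))))
theorem act16_eq (i : Nat) : act16 i = Tab.act T D chk16 i := rfl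
theorem c16_0 : allRange (fun i => Nat.beq (act16 i) i) 0 10000 = true := by decide +kernel
theorem c16_1 : allRange (fun i => Nat.beq (act16 i) i) 10000 10000 = true := by decide +kernel
theorem c16_2 : allRange (fun i => Nat.beq (act16 i) i) 20000 8160 = true := by decide +kernel
theorem h16 : ∀ i, i < T.N → Tab.relActOK T D chk16 i = true := by
  intro i hi
  rw [Tab.relActOK, ← act16_eq]
  exact (range_glue (range_of_allRange c16_0) (range_glue (range_of_allRange c16_1) (range_of_allRange c16_2))) i (Nat.zero_le _) hi

def chk19 : List Nat := [2, 16, 2, 16]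
noncomputable def act19 (i : Nat) : Nat := col3 (col17 (col3 (col17 (i))))
theorem act19_eq (i : Nat) : act19 i = Tab.act T D chk19 i := rfl
theorem c19_0 : allRange (fun i => Nat.beq (act19 i) i) 0 10000 = true := by decide +kernel
theorem c19_1 : allRange (fun i => Nat.beq (act19 i) i) 10000 10000 = true := by decide +kernel
theorem c19_2 : allRange (fun i => Nat.beq (act19 i) i) 20000 8160 = true := by decide +kernel
theorem h19 : ∀ i, i < T.N → Tab.relActOK T D chk19 i = true := by
  intro i hi
  rw [Tab.relActOK, ← act19_eq]
  exact (range_glue (range_of_allRange c19_0) (range_glue (range_of_allRange c19_1) (range_of_allRange c19_2))) i (Nat.zero_le _) hi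

def chk20 : List Nat := [6, 4, 2, 6, 8, 10, 6, 14, 16, 6, 4, 2, 6, 8, 10, 6, 14, 16, 6, 4, 2, 6, 8, 10, 6, 14, 16, 6, 4, 2, 6, 8, 10, 6, 14, 16, 6, 4, 2, 6, 8, 10, 6, 14, 16, 6, 4, 2, 6, 8, 10, 6, 14, 16, 6, 4, 2, 6, 8, 10, 6, 14, 16, 6, 4, 2, 6, 8, 10, 6, 14, 16, 6, 4, 2, 6, 8, 10, 6, 14, 16, 6, 4, 2, 6, 8, 10, 6, 14, 16]
noncomputable def act20 (i : Nat) : Nat := col7 (col5 (col3 (col7 (col9 (col11 (col7 (col15 (col17 (col7 (col5 (col3 (col7 (col9 (col11 (col7 (col15 (col17 (col7 (col5 (col3 (col7 (col9 (col11 (col7 (col15 (col17 (col7 (col5 (col3 (col7 (col9 (col11 (col7 (col15 (col17 (col7 (col5 (col3 (col7 (col9 (col11 (col7 (col15 (col17 (col7 (col5 (col3 (col7 (col9 (col11 (col7 (col15 (col17 (col7 (col5 (col3 (col7 (col9 (col11 (col7 (col15 (col17 (col7 (col5 (col3 (col7 (col9 (col11 (col7 (col15 (col17 (col7 (col5 (col3 (col7 (col9 (col11 (col7 (col15 (col17 (col7 (col5 (col3 (col7 (col9 (col11 (col7 (col15 (col17 (i))))))))))))))))))))))))))))))))))))))))))))))))))))))))))))))))))))))))))))))))))))))))))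
theorem act20_eq (i : Nat) : act20 i = Tab.act T D chk20 i := rfl
theorem c20_0 : allRange (fun i => Nat.beq (act20 i) i) 0 652 = true := by decide +kernel
theorem c20_1 : allRange (fun i => Nat.beq (act20 i) i) 652 652 = true := by decide +kernel
theorem c20_2 : allRange (fun i => Nat.beq (act20 i) i) 1304 652 = true := by decide +kernel
theorem c20_3 : allRange (fun i => Nat.beq (act20 i) i) 1956 652 = true := by decide +kernel
theorem c20_4 : allRange (fun i => Nat.beq (act20 i) i) 2608 652 = true := by decide +kernel
theorem c20_5 : allRange (fun i => Nat.beq (act20 i) i) 3260 652 = true := by decide +kernel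
theorem c20_6 : allRange (fun i => Nat.beq (act20 i) i) 3912 652 = true := by decide +kernel
theorem c20_7 : allRange (fun i => Nat.beq (act20 i) i) 4564 652 = true := by decide +kernel
theorem c20_8 : allRange (fun i => Nat.beq (act20 i) i) 5216 652 = true := by decide +kernel
theorem c20_9 : allRange (fun i => Nat.beq (act20 i) i) 5868 652 = true := by decide +kernel
theorem c20_10 : allRange (fun i => Nat.beq (act20 i) i) 6520 652 = true := by decide +kernel
theorem c20_11 : allRange (fun i => Nat.beq (act20 i) i) 7172 652 = true := by decide +kernel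
theorem c20_12 : allRange (fun i => Nat.beq (act20 i) i) 7824 652 = true := by decide +kernel
theorem c20_13 : allRange (fun i => Nat.beq (act20 i) i) 8476 652 = true := by decide +kernel
theorem c20_14 : allRange (fun i => Nat.beq (act20 i) i) 9128 652 = true := by decide +kernel
theorem c20_15 : allRange (fun i => Nat.beq (act20 i) i) 9780 652 = true := by decide +kernel
theorem c20_16 : allRange (fun i => Nat.beq (act20 i) i) 10432 652 = true := by decide +kernel
theorem c20_17 : allRange (fun i => Nat.beq (act20 i) i) 11084 652 = true := by decide +kernel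
theorem c20_18 : allRange (fun i => Nat.beq (act20 i) i) 11736 652 = true := by decide +kernel
theorem c20_19 : allRange (fun i => Nat.beq (act20 i) i) 12388 652 = true := by decide +kernel
theorem c20_20 : allRange (fun i => Nat.beq (act20 i) i) 13040 652 = true := by decide +kernel
theorem c20_21 : allRange (fun i => Nat.beq (act20 i) i) 13692 652 = true := by decide +kernel
theorem c20_22 : allRange (fun i => Nat.beq (act20 i) i) 14344 652 = true := by decide +kernel
theorem c20_23 : allRange (fun i => Nat.beq (act20 i) i) 14996 652 = true := by decide +kernel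
theorem c20_24 : allRange (fun i => Nat.beq (act20 i) i) 15648 652 = true := by decide +kernel
theorem c20_25 : allRange (fun i => Nat.beq (act20 i) i) 16300 652 = true := by decide +kernel
theorem c20_26 : allRange (fun i => Nat.beq (act20 i) i) 16952 652 = true := by decide +kernel
theorem c20_27 : allRange (fun i => Nat.beq (act20 i) i) 17604 652 = true := by decide +kernel
theorem c20_28 : allRange (fun i => Nat.beq (act20 i) i) 18256 652 = true := by decide +kernel
theorem c20_29 : allRange (fun i => Nat.beq (act20 i) i) 18908 652 = true := by decide +kernel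
theorem c20_30 : allRange (fun i => Nat.beq (act20 i) i) 19560 652 = true := by decide +kernel
theorem c20_31 : allRange (fun i => Nat.beq (act20 i) i) 20212 652 = true := by decide +kernel
theorem c20_32 : allRange (fun i => Nat.beq (act20 i) i) 20864 652 = true := by decide +kernel
theorem c20_33 : allRange (fun i => Nat.beq (act20 i) i) 21516 652 = true := by decide +kernel
theorem c20_34 : allRange (fun i => Nat.beq (act20 i) i) 22168 652 = true := by decide +kernel
theorem c20_35 : allRange (fun i => Nat.beq (act20 i) i) 22820 652 = true := by decide +kernel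
theorem c20_36 : allRange (fun i => Nat.beq (act20 i) i) 23472 652 = true := by decide +kernel
theorem c20_37 : allRange (fun i => Nat.beq (act20 i) i) 24124 652 = true := by decide +kernel
theorem c20_38 : allRange (fun i => Nat.beq (act20 i) i) 24776 652 = true := by decide +kernel
theorem c20_39 : allRange (fun i => Nat.beq (act20 i) i) 25428 652 = true := by decide +kernel
theorem c20_40 : allRange (fun i => Nat.beq (act20 i) i) 26080 652 = true := by decide +kernel
theorem c20_41 : allRange (fun i => Nat.beq (act20 i) i) 26732 652 = true := by decide +kernel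
theorem c20_42 : allRange (fun i => Nat.beq (act20 i) i) 27384 652 = true := by decide +kernel
theorem c20_43 : allRange (fun i => Nat.beq (act20 i) i) 28036 124 = true := by decide +kernel
theorem h20 : ∀ i, i < T.N → Tab.relActOK T D chk20 i = true := by
  intro i hi
  rw [Tab.relActOK, ← act20_eq]
  exact (range_glue (range_of_allRange c20_0) (range_glue (range_of_allRange c20_1) (range_glue (range_of_allRange c20_2) (range_glue (range_of_allRange c20_3) (range_glue (range_of_allRange c20_4) (range_glue (range_of_allRange c20_5) (range_glue (range_of_allRange c20_6) (range_glue (range_of_allRange c20_7) (range_glue (range_of_allRange c20_8) (range_glue (range_of_allRange c20_9) (range_glue (range_of_allRange c20_10) (range_glue (range_of_allRange c20_11) (range_glue (range_of_allRange c20_12) (range_glue (range_of_allRange c20_13) (range_glue (range_of_allRange c20_14) (range_glue (range_of_allRange c20_15) (range_glue (range_of_allRange c20_16) (range_glue (range_of_allRange c20_17) (range_glue (range_of_allRange c20_18) (range_glue (range_of_allRange c20_19) (range_glue (range_of_allRange c20_20)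 (range_glue (range_of_allRange c20_21) (range_glue (range_of_allRange c20_22) (range_glue (range_of_allRange c20_23) (range_glue (range_of_allRange c20_24) (range_glue (range_of_allRange c20_25) (range_glue (range_of_allRange c20_26) (range_glue (range_of_allRange c20_27) (range_glue (range_of_allRange c20_28) (range_glue (range_of_allRange c20_29) (range_glue (range_of_allRange c20_30) (range_glue (range_of_allRange c20_31) (range_glue (range_of_allRange c20_32) (range_glue (range_of_allRange c20_33) (range_glue (range_of_allRange c20_34) (range_glue (range_of_allRange c20_35) (range_glue (range_of_allRange c20_36) (range_glue (range_of_allRange c20_37) (range_glue (range_of_allRange c20_38) (range_glue (range_of_allRange c20_39) (range_glue (range_of_allRange c20_40) (range_glue (range_of_allRange c20_41) (range_glue (range_of_allRange c20_42) (range_of_allRange c20_43)))))))))))))))))))))))))))))))))))))))))))) i (Nat.zero_le _) hi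

def chk21 : List Nat := [31, 0, 2, 4, 6, 8, 10, 14, 0, 2, 4, 6, 8, 10, 14, 0, 2, 4, 6, 8, 10, 14, 0, 2, 4, 6, 8, 10, 14, 0, 2, 4, 6, 8, 10, 14, 0, 2, 4, 6, 8, 10, 14, 0, 2, 4, 6, 8, 10, 14, 0, 2, 4, 6, 8, 10, 14, 0, 2, 4, 6, 8, 10, 14]
noncomputable def act21 (i : Nat) : Nat := col30 (col1 (col3 (col5 (col7 (col9 (col11 (col15 (col1 (col3 (col5 (col7 (col9 (col11 (col15 (col1 (col3 (col5 (col7 (col9 (col11 (col15 (col1 (col3 (col5 (col7 (col9 (col11 (col15 (col1 (col3 (col5 (col7 (col9 (col11 (col15 (col1 (col3 (col5 (col7 (col9 (col11 (col15 (col1 (col3 (col5 (col7 (col9 (col11 (col15 (col1 (col3 (col5 (col7 (col9 (col11 (col15 (col1 (col3 (col5 (col7 (col9 (col11 (col15 (i))))))))))))))))))))))))))))))))))))))))))))))))))))))))))))))))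
theorem act21_eq (i : Nat) : act21 i = Tab.act T D chk21 i := rfl
theorem c21_0 : allRange (fun i => Nat.beq (act21 i) i) 0 909 = true := by decide +kernel
theorem c21_1 : allRange (fun i => Nat.beq (act21 i) i) 909 909 = true := by decide +kernel
theorem c21_2 : allRange (fun i => Nat.beq (act21 i) i) 1818 909 = true := by decide +kernel
theorem c21_3 : allRange (fun i => Nat.beq (act21 i) i) 2727 909 = true := by decide +kernel
theorem c21_4 : allRange (fun i => Nat.beq (act21 i) i) 3636 909 = true := by decide +kernel
theorem c21_5 : allRange (fun i => Nat.beq (act21 i) i) 4545 909 = true := by decide +kernel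
theorem c21_6 : allRange (fun i => Nat.beq (act21 i) i) 5454 909 = true := by decide +kernel
theorem c21_7 : allRange (fun i => Nat.beq (act21 i) i) 6363 909 = true := by decide +kernel
theorem c21_8 : allRange (fun i => Nat.beq (act21 i) i) 7272 909 = true := by decide +kernel
theorem c21_9 : allRange (fun i => Nat.beq (act21 i) i) 8181 909 = true := by decide +kernel
theorem c21_10 : allRange (fun i => Nat.beq (act21 i) i) 9090 909 = true := by decide +kernel
theorem c21_11 : allRange (fun i => Nat.beq (act21 i) i) 9999 909 = true := by decide +kernel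
theorem c21_12 : allRange (fun i => Nat.beq (act21 i) i) 10908 909 = true := by decide +kernel
theorem c21_13 : allRange (fun i => Nat.beq (act21 i) i) 11817 909 = true := by decide +kernel
theorem c21_14 : allRange (fun i => Nat.beq (act21 i) i) 12726 909 = true := by decide +kernel
theorem c21_15 : allRange (fun i => Nat.beq (act21 i) i) 13635 909 = true := by decide +kernel
theorem c21_16 : allRange (fun i => Nat.beq (act21 i) i) 14544 909 = true := by decide +kernel
theorem c21_17 : allRange (fun i => Nat.beq (act21 i) i) 15453 909 = true := by decide +kernel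
theorem c21_18 : allRange (fun i => Nat.beq (act21 i) i) 16362 909 = true := by decide +kernel
theorem c21_19 : allRange (fun i => Nat.beq (act21 i) i) 17271 909 = true := by decide +kernel
theorem c21_20 : allRange (fun i => Nat.beq (act21 i) i) 18180 909 = true := by decide +kernel
theorem c21_21 : allRange (fun i => Nat.beq (act21 i) i) 19089 909 = true := by decide +kernel
theorem c21_22 : allRange (fun i => Nat.beq (act21 i) i) 19998 909 = true := by decide +kernel
theorem c21_23 : allRange (fun i => Nat.beq (act21 i) i) 20907 909 = true := by decide +kernel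
theorem c21_24 : allRange (fun i => Nat.beq (act21 i) i) 21816 909 = true := by decide +kernel
theorem c21_25 : allRange (fun i => Nat.beq (act21 i) i) 22725 909 = true := by decide +kernel
theorem c21_26 : allRange (fun i => Nat.beq (act21 i) i) 23634 909 = true := by decide +kernel
theorem c21_27 : allRange (fun i => Nat.beq (act21 i) i) 24543 909 = true := by decide +kernel
theorem c21_28 : allRange (fun i => Nat.beq (act21 i) i) 25452 909 = true := by decide +kernel
theorem c21_29 : allRange (fun i => Nat.beq (act21 i) i) 26361 909 = true := by decide +kernel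
theorem c21_30 : allRange (fun i => Nat.beq (act21 i) i) 27270 890 = true := by decide +kernel
theorem h21 : ∀ i, i < T.N → Tab.relActOK T D chk21 i = true := by
  intro i hi
  rw [Tab.relActOK, ← act21_eq]
  exact (range_glue (range_of_allRange c21_0) (range_glue (range_of_allRange c21_1) (range_glue (range_of_allRange c21_2) (range_glue (range_of_allRange c21_3) (range_glue (range_of_allRange c21_4) (range_glue (range_of_allRange c21_5) (range_glue (range_of_allRange c21_6) (range_glue (range_of_allRange c21_7) (range_glue (range_of_allRange c21_8) (range_glue (range_of_allRange c21_9) (range_glue (range_of_allRange c21_10) (range_glue (range_of_allRange c21_11) (range_glue (range_of_allRange c21_12) (range_glue (range_of_allRange c21_13) (range_glue (range_of_allRange c21_14) (range_glue (range_of_allRange c21_15) (range_glue (range_of_allRange c21_16) (range_glue (range_of_allRange c21_17) (range_glue (range_of_allRange c21_18) (range_glue (range_of_allRange c21_19) (range_glue (range_of_allRange c21_20) (range_glue (range_of_allRange c21_21) (range_glue (range_of_allRange c21_22) (range_glue (range_of_allRange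 c21_23) (range_glue (range_of_allRange c21_24) (range_glue (range_of_allRange c21_25) (range_glue (range_of_allRange c21_26) (range_glue (range_of_allRange c21_27) (range_glue (range_of_allRange c21_28) (range_glue (range_of_allRange c21_29) (range_of_allRange c21_30))))))))))))))))))))))))))))))) i (Nat.zero_le _) hi

def chk27 : List Nat := [0, 8, 0, 8]
noncomputable def act27 (i : Nat) : Nat := col1 (col9 (col1 (col9 (i))))
theorem act27_eq (i : Nat) : act27 i = Tab.act T D chk27 i := rfl
theorem c27_0 : allRange (fun i => Nat.beq (act27 i) i) 0 10000 = true := by decide +kernel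
theorem c27_1 : allRange (fun i => Nat.beq (act27 i) i) 10000 10000 = true := by decide +kernel
theorem c27_2 : allRange (fun i => Nat.beq (act27 i) i) 20000 8160 = true := by decide +kernel
theorem h27 : ∀ i, i < T.N → Tab.relActOK T D chk27 i = true := by
  intro i hi
  rw [Tab.relActOK, ← act27_eq]
  exact (range_glue (range_of_allRange c27_0) (range_glue (range_of_allRange c27_1) (range_of_allRange c27_2))) i (Nat.zero_le _) hi

def chk30 : List Nat := [0, 12, 0, 12]
noncomputable def act30 (i : Nat) : Nat := col1 (col13 (col1 (col13 (i))))
theorem act30_eq (i : Nat) : act30 i = Tab.act T D chk30 i := rfl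
theorem c30_0 : allRange (fun i => Nat.beq (act30 i) i) 0 10000 = true := by decide +kernel
theorem c30_1 : allRange (fun i => Nat.beq (act30 i) i) 10000 10000 = true := by decide +kernel
theorem c30_2 : allRange (fun i => Nat.beq (act30 i) i) 20000 8160 = true := by decide +kernel
theorem h30 : ∀ i, i < T.N → Tab.relActOK T D chk30 i = true := by
  intro i hi
  rw [Tab.relActOK, ← act30_eq]
  exact (range_glue (range_of_allRange c30_0) (range_glue (range_of_allRange c30_1) (range_of_allRange c30_2))) i (Nat.zero_le _) hi

def chk35 : List Nat := [4, 14, 4, 14]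
noncomputable def act35 (i : Nat) : Nat := col5 (col15 (col5 (col15 (i))))
theorem act35_eq (i : Nat) : act35 i = Tab.act T D chk35 i := rfl
theorem c35_0 : allRange (fun i => Nat.beq (act35 i) i) 0 10000 = true := by decide +kernel
theorem c35_1 : allRange (fun i => Nat.beq (act35 i) i) 10000 10000 = true := by decide +kernel
theorem c35_2 : allRange (fun i => Nat.beq (act35 i) i) 20000 8160 = true := by decide +kernel
theorem h35 : ∀ i, i < T.N → Tab.relActOK T D chk35 i = true := by
  intro i hi
  rw [Tab.relActOK, ← act35_eq]
  exact (range_glue (range_of_allRange c35_0) (range_glue (range_of_allRange c35_1) (range_of_allRange c35_2))) i (Nat.zero_le _) hi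

def chk38 : List Nat := [4, 16, 4, 16]
noncomputable def act38 (i : Nat) : Nat := col5 (col17 (col5 (col17 (i))))
theorem act38_eq (i : Nat) : act38 i = Tab.act T D chk38 i := rfl
theorem c38_0 : allRange (fun i => Nat.beq (act38 i) i) 0 10000 = true := by decide +kernel
theorem c38_1 : allRange (fun i => Nat.beq (act38 i) i) 10000 10000 = true := by decide +kernel
theorem c38_2 : allRange (fun i => Nat.beq (act38 i) i) 20000 8160 = true := by decide +kernel
theorem h38 : ∀ i, i < T.N → Tab.relActOK T D chk38 i = true := by
  intro i hi
  rw [Tab.relActOK, ← act38_eq]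
  exact (range_glue (range_of_allRange c38_0) (range_glue (range_of_allRange c38_1) (range_of_allRange c38_2))) i (Nat.zero_le _) hi

def chk39 : List Nat := [6, 6]
noncomputable def act39 (i : Nat) : Nat := col7 (col7 (i))
theorem act39_eq (i : Nat) : act39 i = Tab.act T D chk39 i := rfl
theorem c39_0 : allRange (fun i => Nat.beq (act39 i) i) 0 15000 = true := by decide +kernel
theorem c39_1 : allRange (fun i => Nat.beq (act39 i) i) 15000 13160 = true := by decide +kernel
theorem h39 : ∀ i, i < T.N → Tab.relActOK T D chk39 i = true := by
  intro i hi
  rw [Tab.relActOK, ← act39_eq]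
  exact (range_glue (range_of_allRange c39_0) (range_of_allRange c39_1)) i (Nat.zero_le _) hi

def chk44 : List Nat := [6, 16, 6, 16]
noncomputable def act44 (i : Nat) : Nat := col7 (col17 (col7 (col17 (i))))
theorem act44_eq (i : Nat) : act44 i = Tab.act T D chk44 i := rfl
theorem c44_0 : allRange (fun i => Nat.beq (act44 i) i) 0 10000 = true := by decide +kernel
theorem c44_1 : allRange (fun i => Nat.beq (act44 i) i) 10000 10000 = true := by decide +kernel
theorem c44_2 : allRange (fun i => Nat.beq (act44 i) i) 20000 8160 = true := by decide +kernel
theorem h44 : ∀ i, i < T.N → Tab.relActOK T D chk44 i = true := by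
  intro i hi
  rw [Tab.relActOK, ← act44_eq]
  exact (range_glue (range_of_allRange c44_0) (range_glue (range_of_allRange c44_1) (range_of_allRange c44_2))) i (Nat.zero_le _) hi

def chk49 : List Nat := [8, 16, 8, 16]
noncomputable def act49 (i : Nat) : Nat := col9 (col17 (col9 (col17 (i))))
theorem act49_eq (i : Nat) : act49 i = Tab.act T D chk49 i := rfl
theorem c49_0 : allRange (fun i => Nat.beq (act49 i) i) 0 10000 = true := by decide +kernel
theorem c49_1 : allRange (fun i => Nat.beq (act49 i) i) 10000 10000 = true := by decide +kernel
theorem c49_2 : allRange (fun i => Nat.beq (act49 i) i) 20000 8160 = true := by decide +kernel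
theorem h49 : ∀ i, i < T.N → Tab.relActOK T D chk49 i = true := by
  intro i hi
  rw [Tab.relActOK, ← act49_eq]
  exact (range_glue (range_of_allRange c49_0) (range_glue (range_of_allRange c49_1) (range_of_allRange c49_2))) i (Nat.zero_le _) hi

def chk54 : List Nat := [10, 10]
noncomputable def act54 (i : Nat) : Nat := col11 (col11 (i))
theorem act54_eq (i : Nat) : act54 i = Tab.act T D chk54 i := rfl
theorem c54_0 : allRange (fun i => Nat.beq (act54 i) i) 0 15000 = true := by decide +kernel
theorem c54_1 : allRange (fun i => Nat.beq (act54 i) i) 15000 13160 = true := by decide +kernel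
theorem h54 : ∀ i, i < T.N → Tab.relActOK T D chk54 i = true := by
  intro i hi
  rw [Tab.relActOK, ← act54_eq]
  exact (range_glue (range_of_allRange c54_0) (range_of_allRange c54_1)) i (Nat.zero_le _) hi

def chk55 : List Nat := [10, 12, 10, 12, 10, 12]
noncomputable def act55 (i : Nat) : Nat := col11 (col13 (col11 (col13 (col11 (col13 (i))))))
theorem act55_eq (i : Nat) : act55 i = Tab.act T D chk55 i := rfl
theorem c55_0 : allRange (fun i => Nat.beq (act55 i) i) 0 7500 = true := by decide +kernel
theorem c55_1 : allRange (fun i => Nat.beq (act55 i) i) 7500 7500 = true := by decide +kernel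
theorem c55_2 : allRange (fun i => Nat.beq (act55 i) i) 15000 7500 = true := by decide +kernel
theorem c55_3 : allRange (fun i => Nat.beq (act55 i) i) 22500 5660 = true := by decide +kernel
theorem h55 : ∀ i, i < T.N → Tab.relActOK T D chk55 i = true := by
  intro i hi
  rw [Tab.relActOK, ← act55_eq]
  exact (range_glue (range_of_allRange c55_0) (range_glue (range_of_allRange c55_1) (range_glue (range_of_allRange c55_2) (range_of_allRange c55_3)))) i (Nat.zero_le _) hi

def chk56 : List Nat := [10, 16, 10, 16]
noncomputable def act56 (i : Nat) : Nat := col11 (col17 (col11 (col17 (i))))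
theorem act56_eq (i : Nat) : act56 i = Tab.act T D chk56 i := rfl
theorem c56_0 : allRange (fun i => Nat.beq (act56 i) i) 0 10000 = true := by decide +kernel
theorem c56_1 : allRange (fun i => Nat.beq (act56 i) i) 10000 10000 = true := by decide +kernel
theorem c56_2 : allRange (fun i => Nat.beq (act56 i) i) 20000 8160 = true := by decide +kernel
theorem h56 : ∀ i, i < T.N → Tab.relActOK T D chk56 i = true := by
  intro i hi
  rw [Tab.relActOK, ← act56_eq]
  exact (range_glue (range_of_allRange c56_0) (range_glue (range_of_allRange c56_1) (range_of_allRange c56_2))) i (Nat.zero_le _) hi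

def chk61 : List Nat := [31, 5, 30, 4]
noncomputable def act61 (i : Nat) : Nat := col30 (col4 (col31 (col5 (i))))
theorem act61_eq (i : Nat) : act61 i = Tab.act T D chk61 i := rfl
theorem c61_0 : allRange (fun i => Nat.beq (act61 i) i) 0 10000 = true := by decide +kernel
theorem c61_1 : allRange (fun i => Nat.beq (act61 i) i) 10000 10000 = true := by decide +kernel
theorem c61_2 : allRange (fun i => Nat.beq (act61 i) i) 20000 8160 = true := by decide +kernel
theorem h61 : ∀ i, i < T.N → Tab.relActOK T D chk61 i = true := by
  intro i hi
  rw [Tab.relActOK, ← act61_eq]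
  exact (range_glue (range_of_allRange c61_0) (range_glue (range_of_allRange c61_1) (range_of_allRange c61_2))) i (Nat.zero_le _) hi

def chk64 : List Nat := [31, 11, 30, 10]
noncomputable def act64 (i : Nat) : Nat := col30 (col10 (col31 (col11 (i))))
theorem act64_eq (i : Nat) : act64 i = Tab.act T D chk64 i := rfl
theorem c64_0 : allRange (fun i => Nat.beq (act64 i) i) 0 10000 = true := by decide +kernel
theorem c64_1 : allRange (fun i => Nat.beq (act64 i) i) 10000 10000 = true := by decide +kernel
theorem c64_2 : allRange (fun i => Nat.beq (act64 i) i) 20000 8160 = true := by decide +kernel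
theorem h64 : ∀ i, i < T.N → Tab.relActOK T D chk64 i = true := by
  intro i hi
  rw [Tab.relActOK, ← act64_eq]
  exact (range_glue (range_of_allRange c64_0) (range_glue (range_of_allRange c64_1) (range_of_allRange c64_2))) i (Nat.zero_le _) hi

def chk67 : List Nat := [31, 17, 30, 16]
noncomputable def act67 (i : Nat) : Nat := col30 (col16 (col31 (col17 (i))))
theorem act67_eq (i : Nat) : act67 i = Tab.act T D chk67 i := rfl
theorem c67_0 : allRange (fun i => Nat.beq (act67 i) i) 0 10000 = true := by decide +kernel
theorem c67_1 : allRange (fun i => Nat.beq (act67 i) i) 10000 10000 = true := by decide +kernel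
theorem c67_2 : allRange (fun i => Nat.beq (act67 i) i) 20000 8160 = true := by decide +kernel
theorem h67 : ∀ i, i < T.N → Tab.relActOK T D chk67 i = true := by
  intro i hi
  rw [Tab.relActOK, ← act67_eq]
  exact (range_glue (range_of_allRange c67_0) (range_glue (range_of_allRange c67_1) (range_of_allRange c67_2))) i (Nat.zero_le _) hi

def chk69 : List Nat := [0, 2, 4, 6, 8, 14, 0, 2, 4, 6, 8, 14, 0, 2, 4, 6, 8, 14, 0, 2, 4, 6, 8, 14, 0, 2, 4, 6, 8, 14, 0, 0, 2, 4, 6, 8, 14, 0, 2, 4, 6, 8, 14, 0, 2, 4, 6, 8, 14, 0, 2, 4, 6, 8, 14, 0, 2, 4, 6, 8, 14, 0]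
noncomputable def act69 (i : Nat) : Nat := col1 (col3 (col5 (col7 (col9 (col15 (col1 (col3 (col5 (col7 (col9 (col15 (col1 (col3 (col5 (col7 (col9 (col15 (col1 (col3 (col5 (col7 (col9 (col15 (col1 (col3 (col5 (col7 (col9 (col15 (col1 (col1 (col3 (col5 (col7 (col9 (col15 (col1 (col3 (col5 (col7 (col9 (col15 (col1 (col3 (col5 (col7 (col9 (col15 (col1 (col3 (col5 (col7 (col9 (col15 (col1 (col3 (col5 (col7 (col9 (col15 (col1 (i))))))))))))))))))))))))))))))))))))))))))))))))))))))))))))))
theorem act69_eq (i : Nat) : act69 i = Tab.act T D chk69 i := rfl
theorem c69_0 : allRange (fun i => Nat.beq (act69 i) i) 0 937 = true := by decide +kernel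
theorem c69_1 : allRange (fun i => Nat.beq (act69 i) i) 937 937 = true := by decide +kernel
theorem c69_2 : allRange (fun i => Nat.beq (act69 i) i) 1874 937 = true := by decide +kernel
theorem c69_3 : allRange (fun i => Nat.beq (act69 i) i) 2811 937 = true := by decide +kernel
theorem c69_4 : allRange (fun i => Nat.beq (act69 i) i) 3748 937 = true := by decide +kernel
theorem c69_5 : allRange (fun i => Nat.beq (act69 i) i) 4685 937 = true := by decide +kernel
theorem c69_6 : allRange (fun i => Nat.beq (act69 i) i) 5622 937 = true := by decide +kernel
theorem c69_7 : allRange (fun i => Nat.beq (act69 i) i) 6559 937 = true := by decide +kernel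
theorem c69_8 : allRange (fun i => Nat.beq (act69 i) i) 7496 937 = true := by decide +kernel
theorem c69_9 : allRange (fun i => Nat.beq (act69 i) i) 8433 937 = true := by decide +kernel
theorem c69_10 : allRange (fun i => Nat.beq (act69 i) i) 9370 937 = true := by decide +kernel
theorem c69_11 : allRange (fun i => Nat.beq (act69 i) i) 10307 937 = true := by decide +kernel
theorem c69_12 : allRange (fun i => Nat.beq (act69 i) i) 11244 937 = true := by decide +kernel
theorem c69_13 : allRange (fun i => Nat.beq (act69 i) i) 12181 937 = true := by decide +kernel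
theorem c69_14 : allRange (fun i => Nat.beq (act69 i) i) 13118 937 = true := by decide +kernel
theorem c69_15 : allRange (fun i => Nat.beq (act69 i) i) 14055 937 = true := by decide +kernel
theorem c69_16 : allRange (fun i => Nat.beq (act69 i) i) 14992 937 = true := by decide +kernel
theorem c69_17 : allRange (fun i => Nat.beq (act69 i) i) 15929 937 = true := by decide +kernel
theorem c69_18 : allRange (fun i => Nat.beq (act69 i) i) 16866 937 = true := by decide +kernel
theorem c69_19 : allRange (fun i => Nat.beq (act69 i) i) 17803 937 = true := by decide +kernel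
theorem c69_20 : allRange (fun i => Nat.beq (act69 i) i) 18740 937 = true := by decide +kernel
theorem c69_21 : allRange (fun i => Nat.beq (act69 i) i) 19677 937 = true := by decide +kernel
theorem c69_22 : allRange (fun i => Nat.beq (act69 i) i) 20614 937 = true := by decide +kernel
theorem c69_23 : allRange (fun i => Nat.beq (act69 i) i) 21551 937 = true := by decide +kernel
theorem c69_24 : allRange (fun i => Nat.beq (act69 i) i) 22488 937 = true := by decide +kernel
theorem c69_25 : allRange (fun i => Nat.beq (act69 i) i) 23425 937 = true := by decide +kernel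
theorem c69_26 : allRange (fun i => Nat.beq (act69 i) i) 24362 937 = true := by decide +kernel
theorem c69_27 : allRange (fun i => Nat.beq (act69 i) i) 25299 937 = true := by decide +kernel
theorem c69_28 : allRange (fun i => Nat.beq (act69 i) i) 26236 937 = true := by decide +kernel
theorem c69_29 : allRange (fun i => Nat.beq (act69 i) i) 27173 937 = true := by decide +kernel
theorem c69_30 : allRange (fun i => Nat.beq (act69 i) i) 28110 50 = true := by decide +kernel
theorem h69 : ∀ i, i < T.N → Tab.relActOK T D chk69 i = true := by
  intro i hi
  rw [Tab.relActOK, ← act69_eq]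
  exact (range_glue (range_of_allRange c69_0) (range_glue (range_of_allRange c69_1) (range_glue (range_of_allRange c69_2) (range_glue (range_of_allRange c69_3) (range_glue (range_of_allRange c69_4) (range_glue (range_of_allRange c69_5) (range_glue (range_of_allRange c69_6) (range_glue (range_of_allRange c69_7) (range_glue (range_of_allRange c69_8) (range_glue (range_of_allRange c69_9) (range_glue (range_of_allRange c69_10) (range_glue (range_of_allRange c69_11) (range_glue (range_of_allRange c69_12) (range_glue (range_of_allRange c69_13) (range_glue (range_of_allRange c69_14) (range_glue (range_of_allRange c69_15) (range_glue (range_of_allRange c69_16) (range_glue (range_of_allRange c69_17) (range_glue (range_of_allRange c69_18) (range_glue (range_of_allRange c69_19) (range_glue (range_of_allRange c69_20) (range_glue (range_of_allRange c69_21) (range_glue (range_of_allRange c69_22) (range_glue (range_of_allRange c69_23) (range_glue (range_of_allRange c69_24) (range_glue (range_of_allRange c69_25) (range_glue (range_of_allRange c69_26) (range_glue (range_of_allRange c69_27) (range_glue (range_of_allRange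 c69_28) (range_glue (range_of_allRange c69_29) (range_of_allRange c69_30))))))))))))))))))))))))))))))) i (Nat.zero_le _) hi

def chk72 : List Nat := [0, 2, 4, 6, 8, 14, 0, 2, 4, 6, 8, 14, 0, 2, 4, 6, 8, 14, 0, 2, 4, 6, 8, 14, 0, 2, 4, 6, 8, 14, 8, 0, 2, 4, 6, 8, 14, 0, 2, 4, 6, 8, 14, 0, 2, 4, 6, 8, 14, 0, 2, 4, 6, 8, 14, 0, 2, 4, 6, 8, 14, 8]
noncomputable def act72 (i : Nat) : Nat := col1 (col3 (col5 (col7 (col9 (col15 (col1 (col3 (col5 (col7 (col9 (col15 (col1 (col3 (col5 (col7 (col9 (col15 (col1 (col3 (col5 (col7 (col9 (col15 (col1 (col3 (col5 (col7 (col9 (col15 (col9 (col1 (col3 (col5 (col7 (col9 (col15 (col1 (col3 (col5 (col7 (col9 (col15 (col1 (col3 (col5 (col7 (col9 (col15 (col1 (col3 (col5 (col7 (col9 (col15 (col1 (col3 (col5 (col7 (col9 (col15 (col9 (i))))))))))))))))))))))))))))))))))))))))))))))))))))))))))))))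
theorem act72_eq (i : Nat) : act72 i = Tab.act T D chk72 i := rfl
theorem c72_0 : allRange (fun i => Nat.beq (act72 i) i) 0 937 = true := by decide +kernel
theorem c72_1 : allRange (fun i => Nat.beq (act72 i) i) 937 937 = true := by decide +kernel
theorem c72_2 : allRange (fun i => Nat.beq (act72 i) i) 1874 937 = true := by decide +kernel
theorem c72_3 : allRange (fun i => Nat.beq (act72 i) i) 2811 937 = true := by decide +kernel
theorem c72_4 : allRange (fun i => Nat.beq (act72 i) i) 3748 937 = true := by decide +kernel
theorem c72_5 : allRange (fun i => Nat.beq (act72 i) i) 4685 937 = true := by decide +kernel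
theorem c72_6 : allRange (fun i => Nat.beq (act72 i) i) 5622 937 = true := by decide +kernel
theorem c72_7 : allRange (fun i => Nat.beq (act72 i) i) 6559 937 = true := by decide +kernel
theorem c72_8 : allRange (fun i => Nat.beq (act72 i) i) 7496 937 = true := by decide +kernel
theorem c72_9 : allRange (fun i => Nat.beq (act72 i) i) 8433 937 = true := by decide +kernel
theorem c72_10 : allRange (fun i => Nat.beq (act72 i) i) 9370 937 = true := by decide +kernel
theorem c72_11 : allRange (fun i => Nat.beq (act72 i) i) 10307 937 = true := by decide +kernel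
theorem c72_12 : allRange (fun i => Nat.beq (act72 i) i) 11244 937 = true := by decide +kernel
theorem c72_13 : allRange (fun i => Nat.beq (act72 i) i) 12181 937 = true := by decide +kernel
theorem c72_14 : allRange (fun i => Nat.beq (act72 i) i) 13118 937 = true := by decide +kernel
theorem c72_15 : allRange (fun i => Nat.beq (act72 i) i) 14055 937 = true := by decide +kernel
theorem c72_16 : allRange (fun i => Nat.beq (act72 i) i) 14992 937 = true := by decide +kernel
theorem c72_17 : allRange (fun i => Nat.beq (act72 i) i) 15929 937 = true := by decide +kernel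
theorem c72_18 : allRange (fun i => Nat.beq (act72 i) i) 16866 937 = true := by decide +kernel
theorem c72_19 : allRange (fun i => Nat.beq (act72 i) i) 17803 937 = true := by decide +kernel
theorem c72_20 : allRange (fun i => Nat.beq (act72 i) i) 18740 937 = true := by decide +kernel
theorem c72_21 : allRange (fun i => Nat.beq (act72 i) i) 19677 937 = true := by decide +kernel
theorem c72_22 : allRange (fun i => Nat.beq (act72 i) i) 20614 937 = true := by decide +kernel
theorem c72_23 : allRange (fun i => Nat.beq (act72 i) i) 21551 937 = true := by decide +kernel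
theorem c72_24 : allRange (fun i => Nat.beq (act72 i) i) 22488 937 = true := by decide +kernel
theorem c72_25 : allRange (fun i => Nat.beq (act72 i) i) 23425 937 = true := by decide +kernel
theorem c72_26 : allRange (fun i => Nat.beq (act72 i) i) 24362 937 = true := by decide +kernel
theorem c72_27 : allRange (fun i => Nat.beq (act72 i) i) 25299 937 = true := by decide +kernel
theorem c72_28 : allRange (fun i => Nat.beq (act72 i) i) 26236 937 = true := by decide +kernel
theorem c72_29 : allRange (fun i => Nat.beq (act72 i) i) 27173 937 = true := by decide +kernel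
theorem c72_30 : allRange (fun i => Nat.beq (act72 i) i) 28110 50 = true := by decide +kernel
theorem h72 : ∀ i, i < T.N → Tab.relActOK T D chk72 i = true := by
  intro i hi
  rw [Tab.relActOK, ← act72_eq]
  exact (range_glue (range_of_allRange c72_0) (range_glue (range_of_allRange c72_1) (range_glue (range_of_allRange c72_2) (range_glue (range_of_allRange c72_3) (range_glue (range_of_allRange c72_4) (range_glue (range_of_allRange c72_5) (range_glue (range_of_allRange c72_6) (range_glue (range_of_allRange c72_7) (range_glue (range_of_allRange c72_8) (range_glue (range_of_allRange c72_9) (range_glue (range_of_allRange c72_10) (range_glue (range_of_allRange c72_11) (range_glue (range_of_allRange c72_12) (range_glue (range_of_allRange c72_13) (range_glue (range_of_allRange c72_14) (range_glue (range_of_allRange c72_15) (range_glue (range_of_allRange c72_16) (range_glue (range_of_allRange c72_17) (range_glue (range_of_allRange c72_18) (range_glue (range_of_allRange c72_19) (range_glue (range_of_allRange c72_20) (range_glue (range_of_allRange c72_21) (range_glue (range_of_allRange c72_22) (range_glue (range_of_allRange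 c72_23) (range_glue (range_of_allRange c72_24) (range_glue (range_of_allRange c72_25) (range_glue (range_of_allRange c72_26) (range_glue (range_of_allRange c72_27) (range_glue (range_of_allRange c72_28) (range_glue (range_of_allRange c72_29) (range_of_allRange c72_30))))))))))))))))))))))))))))))) i (Nat.zero_le _) hi

end Cfsg.Agent.Lib.Helper4.TCD.SC2Fi22xp2W
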