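import Cfsg.Agent.Lib.Helper4.TCD_SC3Fi22yp3A_Acc

namespace Cfsg.Agent.Lib.Helper4.TCD.SC3Fi22yp3A

open Cfsg.Agent.Lib.Helper4.TC

set_option maxRecDepth 100000
set_option Elab.async false

theorem c_rel_95 : allRange D.relOK 354219 4515 = true := by decide +kernel
theorem c_rel_96 : allRange D.relOK 358734 4787 = true := by decide +kernel
theorem c_rel_97 : allRange D.relOK 363521 4879 = true := by decide +kernel
theorem c_rel_98 : allRange D.relOK 368400 4794 = true := by decide +kernel
theorem c_rel_99 : allRange D.relOK 373194 133 = true := by decide +kernel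
theorem c_fin_0 : allGrid (T.finOK D) 0 300 40 = true := by decide +kernel
theorem c_fin_1 : allGrid (T.finOK D) 300 300 40 = true := by decide +kernel
theorem c_fin_2 : allGrid (T.finOK D) 600 300 40 = true := by decide +kernel
theorem c_fin_3 : allGrid (T.finOK D) 900 300 40 = true := by decide +kernel
theorem c_fin_4 : allGrid (T.finOK D) 1200 300 40 = true := by decide +kernel
theorem c_fin_5 : allGrid (T.finOK D) 1500 300 40 = true := by decide +kernel
theorem c_fin_6 : allGrid (T.finOK D) 1800 300 40 = true := by decide +kernel
theorem c_fin_7 : allGrid (T.finOK D) 2100 300 40 = true := by decide +kernel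
theorem c_fin_8 : allGrid (T.finOK D) 2400 300 40 = true := by decide +kernel
theorem c_fin_9 : allGrid (T.finOK D) 2700 300 40 = true := by decide +kernel
theorem c_fin_10 : allGrid (T.finOK D) 3000 300 40 = true := by decide +kernel
theorem c_fin_11 : allGrid (T.finOK D) 3300 300 40 = true := by decide +kernel
theorem c_fin_12 : allGrid (T.finOK D) 3600 300 40 = true := by decide +kernel
theorem c_fin_13 : allGrid (T.finOK D) 3900 300 40 = true := by decide +kernel
theorem c_fin_14 : allGrid (T.finOK D) 4200 300 40 = true := by decide +kernel
theorem c_fin_15 : allGrid (T.finOK D) 4500 300 40 = true := by decide +kernel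
theorem c_fin_16 : allGrid (T.finOK D) 4800 300 40 = true := by decide +kernel
theorem c_fin_17 : allGrid (T.finOK D) 5100 300 40 = true := by decide +kernel
theorem c_fin_18 : allGrid (T.finOK D) 5400 300 40 = true := by decide +kernel
theorem c_fin_19 : allGrid (T.finOK D) 5700 300 40 = true := by decide +kernel
theorem c_fin_20 : allGrid (T.finOK D) 6000 300 40 = true := by decide +kernel
theorem c_fin_21 : allGrid (T.finOK D) 6300 300 40 = true := by decide +kernel
theorem c_fin_22 : allGrid (T.finOK D) 6600 300 40 = true := by decide +kernel
theorem c_fin_23 : allGrid (T.finOK D) 6900 300 40 = true := by decide +kernel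
theorem c_fin_24 : allGrid (T.finOK D) 7200 300 40 = true := by decide +kernel
theorem c_fin_25 : allGrid (T.finOK D) 7500 300 40 = true := by decide +kernel
theorem c_fin_26 : allGrid (T.finOK D) 7800 300 40 = true := by decide +kernel
theorem c_fin_27 : allGrid (T.finOK D) 8100 300 40 = true := by decide +kernel
theorem c_fin_28 : allGrid (T.finOK D) 8400 300 40 = true := by decide +kernel
theorem c_fin_29 : allGrid (T.finOK D) 8700 300 40 = true := by decide +kernel
theorem c_fin_30 : allGrid (T.finOK D) 9000 300 40 = true := by decide +kernel
theorem c_fin_31 : allGrid (T.finOK D) 9300 300 40 = true := by decide +kernel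
theorem c_fin_32 : allGrid (T.finOK D) 9600 300 40 = true := by decide +kernel
theorem c_fin_33 : allGrid (T.finOK D) 9900 300 40 = true := by decide +kernel
theorem c_fin_34 : allGrid (T.finOK D) 10200 300 40 = true := by decide +kernel
theorem c_fin_35 : allGrid (T.finOK D) 10500 300 40 = true := by decide +kernel
theorem c_fin_36 : allGrid (T.finOK D) 10800 300 40 = true := by decide +kernel
theorem c_fin_37 : allGrid (T.finOK D) 11100 300 40 = true := by decide +kernel
theorem c_fin_38 : allGrid (T.finOK D) 11400 300 40 = true := by decide +kernel
theorem c_fin_39 : allGrid (T.finOK D) 11700 300 40 = true := by decide +kernel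
theorem c_fin_40 : allGrid (T.finOK D) 12000 300 40 = true := by decide +kernel
theorem c_fin_41 : allGrid (T.finOK D) 12300 300 40 = true := by decide +kernel
theorem c_fin_42 : allGrid (T.finOK D) 12600 300 40 = true := by decide +kernel
theorem c_fin_43 : allGrid (T.finOK D) 12900 300 40 = true := by decide +kernel
theorem c_fin_44 : allGrid (T.finOK D) 13200 300 40 = true := by decide +kernel
theorem c_fin_45 : allGrid (T.finOK D) 13500 300 40 = true := by decide +kernel
theorem c_fin_46 : allGrid (T.finOK D) 13800 280 40 = true := by decide +kernel
theorem c_perm_0 : allGrid (T.permOK1 D) 0 750 40 = true := by decide +kernel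

end Cfsg.Agent.Lib.Helper4.TCD.SC3Fi22yp3A
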