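import Cfsg.Agent.Lib.Helper4.TCD_SC3Fi22yp3A_Acc

namespace Cfsg.Agent.Lib.Helper4.TCD.SC3Fi22yp3A

open Cfsg.Agent.Lib.Helper4.TC

set_option maxRecDepth 100000
set_option Elab.async false

theorem c_perm_1 : allGrid (T.permOK1 D) 750 750 40 = true := by decide +kernel
theorem c_perm_2 : allGrid (T.permOK1 D) 1500 750 40 = true := by decide +kernel
theorem c_perm_3 : allGrid (T.permOK1 D) 2250 750 40 = true := by decide +kernel
theorem c_perm_4 : allGrid (T.permOK1 D) 3000 750 40 = true := by decide +kernel
theorem c_perm_5 : allGrid (T.permOK1 D) 3750 750 40 = true := by decide +kernel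
theorem c_perm_6 : allGrid (T.permOK1 D) 4500 750 40 = true := by decide +kernel
theorem c_perm_7 : allGrid (T.permOK1 D) 5250 750 40 = true := by decide +kernel
theorem c_perm_8 : allGrid (T.permOK1 D) 6000 750 40 = true := by decide +kernel
theorem c_perm_9 : allGrid (T.permOK1 D) 6750 750 40 = true := by decide +kernel
theorem c_perm_10 : allGrid (T.permOK1 D) 7500 750 40 = true := by decide +kernel
theorem c_perm_11 : allGrid (T.permOK1 D) 8250 750 40 = true := by decide +kernel
theorem c_perm_12 : allGrid (T.permOK1 D) 9000 750 40 = true := by decide +kernel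
theorem c_perm_13 : allGrid (T.permOK1 D) 9750 750 40 = true := by decide +kernel
theorem c_perm_14 : allGrid (T.permOK1 D) 10500 750 40 = true := by decide +kernel
theorem c_perm_15 : allGrid (T.permOK1 D) 11250 750 40 = true := by decide +kernel
theorem c_perm_16 : allGrid (T.permOK1 D) 12000 750 40 = true := by decide +kernel
theorem c_perm_17 : allGrid (T.permOK1 D) 12750 750 40 = true := by decide +kernel
theorem c_perm_18 : allGrid (T.permOK1 D) 13500 580 40 = true := by decide +kernel
theorem c_act0_0 : allRange (fun i => Nat.beq (actR0 i) i) 0 14080 = true := by decide +kernel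
theorem c_act1_0 : allRange (fun i => Nat.beq (actR1 i) i) 0 14080 = true := by decide +kernel
theorem c_act2_0 : allRange (fun i => Nat.beq (actR2 i) i) 0 14080 = true := by decide +kernel
theorem c_act3_0 : allRange (fun i => Nat.beq (actR3 i) i) 0 14080 = true := by decide +kernel
theorem c_act4_0 : allRange (fun i => Nat.beq (actR4 i) i) 0 14080 = true := by decide +kernel
theorem c_act5_0 : allRange (fun i => Nat.beq (actR5 i) i) 0 14080 = true := by decide +kernel
theorem c_act6_0 : allRange (fun i => Nat.beq (actR6 i) i) 0 14080 = true := by decide +kernel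
theorem c_act7_0 : allRange (fun i => Nat.beq (actR7 i) i) 0 14080 = true := by decide +kernel
theorem c_act8_0 : allRange (fun i => Nat.beq (actR8 i) i) 0 14080 = true := by decide +kernel
theorem c_act9_0 : allRange (fun i => Nat.beq (actR9 i) i) 0 14080 = true := by decide +kernel
theorem c_act10_0 : allRange (fun i => Nat.beq (actR10 i) i) 0 8571 = true := by decide +kernel
theorem c_act10_1 : allRange (fun i => Nat.beq (actR10 i) i) 8571 5509 = true := by decide +kernel
theorem c_act11_0 : allRange (fun i => Nat.beq (actR11 i) i) 0 12000 = true := by decide +kernel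
theorem c_act11_1 : allRange (fun i => Nat.beq (actR11 i) i) 12000 2080 = true := by decide +kernel
theorem c_act12_0 : allRange (fun i => Nat.beq (actR12 i) i) 0 12000 = true := by decide +kernel
theorem c_act12_1 : allRange (fun i => Nat.beq (actR12 i) i) 12000 2080 = true := by decide +kernel
theorem c_act13_0 : allRange (fun i => Nat.beq (actR13 i) i) 0 12000 = true := by decide +kernel
theorem c_act13_1 : allRange (fun i => Nat.beq (actR13 i) i) 12000 2080 = true := by decide +kernel
theorem c_act14_0 : allRange (fun i => Nat.beq (actR14 i) i) 0 12000 = true := by decide +kernel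
theorem c_act14_1 : allRange (fun i => Nat.beq (actR14 i) i) 12000 2080 = true := by decide +kernel
theorem c_act15_0 : allRange (fun i => Nat.beq (actR15 i) i) 0 12000 = true := by decide +kernel
theorem c_act15_1 : allRange (fun i => Nat.beq (actR15 i) i) 12000 2080 = true := by decide +kernel
theorem c_act16_0 : allRange (fun i => Nat.beq (actR16 i) i) 0 12000 = true := by decide +kernel
theorem c_act16_1 : allRange (fun i => Nat.beq (actR16 i) i) 12000 2080 = true := by decide +kernel
theorem c_act17_0 : allRange (fun i => Nat.beq (actR17 i) i) 0 12000 = true := by decide +kernel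
theorem c_act17_1 : allRange (fun i => Nat.beq (actR17 i) i) 12000 2080 = true := by decide +kernel
theorem c_act18_0 : allRange (fun i => Nat.beq (actR18 i) i) 0 937 = true := by decide +kernel
theorem c_act18_1 : allRange (fun i => Nat.beq (actR18 i) i) 937 937 = true := by decide +kernel
theorem c_act18_2 : allRange (fun i => Nat.beq (actR18 i) i) 1874 937 = true := by decide +kernel
theorem c_act18_3 : allRange (fun i => Nat.beq (actR18 i) i) 2811 937 = true := by decide +kernel
theorem c_act18_4 : allRange (fun i => Nat.beq (actR18 i) i) 3748 937 = true := by decide +kernel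
theorem c_act18_5 : allRange (fun i => Nat.beq (actR18 i) i) 4685 937 = true := by decide +kernel
theorem c_act18_6 : allRange (fun i => Nat.beq (actR18 i) i) 5622 937 = true := by decide +kernel
theorem c_act18_7 : allRange (fun i => Nat.beq (actR18 i) i) 6559 937 = true := by decide +kernel
theorem c_act18_8 : allRange (fun i => Nat.beq (actR18 i) i) 7496 937 = true := by decide +kernel
theorem c_act18_9 : allRange (fun i => Nat.beq (actR18 i) i) 8433 937 = true := by decide +kernel
theorem c_act18_10 : allRange (fun i => Nat.beq (actR18 i) i) 9370 937 = true := by decide +kernel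
theorem c_act18_11 : allRange (fun i => Nat.beq (actR18 i) i) 10307 937 = true := by decide +kernel
theorem c_act18_12 : allRange (fun i => Nat.beq (actR18 i) i) 11244 937 = true := by decide +kernel
theorem c_act18_13 : allRange (fun i => Nat.beq (actR18 i) i) 12181 937 = true := by decide +kernel
theorem c_act18_14 : allRange (fun i => Nat.beq (actR18 i) i) 13118 937 = true := by decide +kernel
theorem c_act18_15 : allRange (fun i => Nat.beq (actR18 i) i) 14055 25 = true := by decide +kernel
theorem c_act19_0 : allRange (fun i => Nat.beq (actR19 i) i) 0 12000 = true := by decide +kernel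
theorem c_act19_1 : allRange (fun i => Nat.beq (actR19 i) i) 12000 2080 = true := by decide +kernel
theorem c_act20_0 : allRange (fun i => Nat.beq (actR20 i) i) 0 14080 = true := by decide +kernel

end Cfsg.Agent.Lib.Helper4.TCD.SC3Fi22yp3A
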