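import Cfsg.Agent.Lib.Helper4.TCD_SC3Fi22yp3A_Acc

namespace Cfsg.Agent.Lib.Helper4.TCD.SC3Fi22yp3A

open Cfsg.Agent.Lib.Helper4.TC

set_option maxRecDepth 100000
set_option Elab.async false

theorem c_act76_0 : allRange (fun i => Nat.beq (actR76 i) i) 0 14080 = true := by decide +kernel
theorem c_act77_0 : allRange (fun i => Nat.beq (actR77 i) i) 0 14080 = true := by decide +kernel
theorem c_act78_0 : allRange (fun i => Nat.beq (actR78 i) i) 0 14080 = true := by decide +kernel
theorem c_act79_0 : allRange (fun i => Nat.beq (actR79 i) i) 0 14080 = true := by decide +kernel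
theorem c_act80_0 : allRange (fun i => Nat.beq (actR80 i) i) 0 14080 = true := by decide +kernel
theorem c_act81_0 : allRange (fun i => Nat.beq (actR81 i) i) 0 14080 = true := by decide +kernel
theorem c_act82_0 : allRange (fun i => Nat.beq (actR82 i) i) 0 14080 = true := by decide +kernel
theorem c_act83_0 : allRange (fun i => Nat.beq (actR83 i) i) 0 14080 = true := by decide +kernel
theorem c_act84_0 : allRange (fun i => Nat.beq (actR84 i) i) 0 14080 = true := by decide +kernel
theorem c_act85_0 : allRange (fun i => Nat.beq (actR85 i) i) 0 14080 = true := by decide +kernel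
theorem c_act86_0 : allRange (fun i => Nat.beq (actR86 i) i) 0 14080 = true := by decide +kernel
theorem c_act87_0 : allRange (fun i => Nat.beq (actR87 i) i) 0 14080 = true := by decide +kernel
theorem c_act88_0 : allRange (fun i => Nat.beq (actR88 i) i) 0 14080 = true := by decide +kernel
theorem c_act89_0 : allRange (fun i => Nat.beq (actR89 i) i) 0 14080 = true := by decide +kernel
theorem c_act90_0 : allRange (fun i => Nat.beq (actR90 i) i) 0 14080 = true := by decide +kernel
theorem c_act91_0 : allRange (fun i => Nat.beq (actR91 i) i) 0 14080 = true := by decide +kernel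
theorem c_act92_0 : allRange (fun i => Nat.beq (actR92 i) i) 0 14080 = true := by decide +kernel
theorem c_act93_0 : allRange (fun i => Nat.beq (actR93 i) i) 0 14080 = true := by decide +kernel
theorem c_act94_0 : allRange (fun i => Nat.beq (actR94 i) i) 0 14080 = true := by decide +kernel
theorem c_act95_0 : allRange (fun i => Nat.beq (actR95 i) i) 0 14080 = true := by decide +kernel
theorem c_act96_0 : allRange (fun i => Nat.beq (actR96 i) i) 0 14080 = true := by decide +kernel
theorem c_act97_0 : allRange (fun i => Nat.beq (actR97 i) i) 0 14080 = true := by decide +kernel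
theorem c_act98_0 : allRange (fun i => Nat.beq (actR98 i) i) 0 14080 = true := by decide +kernel
theorem c_act99_0 : allRange (fun i => Nat.beq (actR99 i) i) 0 14080 = true := by decide +kernel
theorem c_act100_0 : allRange (fun i => Nat.beq (actR100 i) i) 0 14080 = true := by decide +kernel
theorem c_act101_0 : allRange (fun i => Nat.beq (actR101 i) i) 0 14080 = true := by decide +kernel
theorem c_act102_0 : allRange (fun i => Nat.beq (actR102 i) i) 0 14080 = true := by decide +kernel
theorem c_act103_0 : allRange (fun i => Nat.beq (actR103 i) i) 0 14080 = true := by decide +kernel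
theorem c_act104_0 : allRange (fun i => Nat.beq (actR104 i) i) 0 14080 = true := by decide +kernel
theorem c_act105_0 : allRange (fun i => Nat.beq (actR105 i) i) 0 14080 = true := by decide +kernel
theorem c_act106_0 : allRange (fun i => Nat.beq (actR106 i) i) 0 14080 = true := by decide +kernel
theorem c_act107_0 : allRange (fun i => Nat.beq (actR107 i) i) 0 14080 = true := by decide +kernel
theorem c_act108_0 : allRange (fun i => Nat.beq (actR108 i) i) 0 14080 = true := by decide +kernel
theorem c_act109_0 : allRange (fun i => Nat.beq (actR109 i) i) 0 14080 = true := by decide +kernel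
theorem c_act110_0 : allRange (fun i => Nat.beq (actR110 i) i) 0 14080 = true := by decide +kernel
theorem c_act111_0 : allRange (fun i => Nat.beq (actR111 i) i) 0 14080 = true := by decide +kernel
theorem c_act112_0 : allRange (fun i => Nat.beq (actR112 i) i) 0 14080 = true := by decide +kernel
theorem c_act113_0 : allRange (fun i => Nat.beq (actR113 i) i) 0 14080 = true := by decide +kernel
theorem c_act114_0 : allRange (fun i => Nat.beq (actR114 i) i) 0 14080 = true := by decide +kernel
theorem c_act115_0 : allRange (fun i => Nat.beq (actR115 i) i) 0 14080 = true := by decide +kernel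
theorem c_act116_0 : allRange (fun i => Nat.beq (actR116 i) i) 0 14080 = true := by decide +kernel
theorem c_act117_0 : allRange (fun i => Nat.beq (actR117 i) i) 0 14080 = true := by decide +kernel
theorem c_act118_0 : allRange (fun i => Nat.beq (actR118 i) i) 0 14080 = true := by decide +kernel
theorem c_act119_0 : allRange (fun i => Nat.beq (actR119 i) i) 0 14080 = true := by decide +kernel
theorem c_act120_0 : allRange (fun i => Nat.beq (actR120 i) i) 0 14080 = true := by decide +kernel
theorem c_act121_0 : allRange (fun i => Nat.beq (actR121 i) i) 0 14080 = true := by decide +kernel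
theorem c_act122_0 : allRange (fun i => Nat.beq (actR122 i) i) 0 14080 = true := by decide +kernel
theorem c_act123_0 : allRange (fun i => Nat.beq (actR123 i) i) 0 14080 = true := by decide +kernel
theorem c_act124_0 : allRange (fun i => Nat.beq (actR124 i) i) 0 14080 = true := by decide +kernel
theorem c_act125_0 : allRange (fun i => Nat.beq (actR125 i) i) 0 14080 = true := by decide +kernel
theorem c_act126_0 : allRange (fun i => Nat.beq (actR126 i) i) 0 14080 = true := by decide +kernel
theorem c_act127_0 : allRange (fun i => Nat.beq (actR127 i) i) 0 14080 = true := by decide +kernel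
theorem c_act128_0 : allRange (fun i => Nat.beq (actR128 i) i) 0 14080 = true := by decide +kernel

end Cfsg.Agent.Lib.Helper4.TCD.SC3Fi22yp3A
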