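import Cfsg.Agent.Lib.Helper4.TCD_SC3Fi22yp3A_Acc

namespace Cfsg.Agent.Lib.Helper4.TCD.SC3Fi22yp3A

open Cfsg.Agent.Lib.Helper4.TC

set_option maxRecDepth 100000
set_option Elab.async false

theorem c_act174_8 : allRange (fun i => Nat.beq (actR174 i) i) 5272 659 = true := by decide +kernel
theorem c_act174_9 : allRange (fun i => Nat.beq (actR174 i) i) 5931 659 = true := by decide +kernel
theorem c_act174_10 : allRange (fun i => Nat.beq (actR174 i) i) 6590 659 = true := by decide +kernel
theorem c_act174_11 : allRange (fun i => Nat.beq (actR174 i) i) 7249 659 = true := by decide +kernel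
theorem c_act174_12 : allRange (fun i => Nat.beq (actR174 i) i) 7908 659 = true := by decide +kernel
theorem c_act174_13 : allRange (fun i => Nat.beq (actR174 i) i) 8567 659 = true := by decide +kernel
theorem c_act174_14 : allRange (fun i => Nat.beq (actR174 i) i) 9226 659 = true := by decide +kernel
theorem c_act174_15 : allRange (fun i => Nat.beq (actR174 i) i) 9885 659 = true := by decide +kernel
theorem c_act174_16 : allRange (fun i => Nat.beq (actR174 i) i) 10544 659 = true := by decide +kernel
theorem c_act174_17 : allRange (fun i => Nat.beq (actR174 i) i) 11203 659 = true := by decide +kernel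
theorem c_act174_18 : allRange (fun i => Nat.beq (actR174 i) i) 11862 659 = true := by decide +kernel
theorem c_act174_19 : allRange (fun i => Nat.beq (actR174 i) i) 12521 659 = true := by decide +kernel
theorem c_act174_20 : allRange (fun i => Nat.beq (actR174 i) i) 13180 659 = true := by decide +kernel
theorem c_act174_21 : allRange (fun i => Nat.beq (actR174 i) i) 13839 241 = true := by decide +kernel
theorem c_act175_0 : allRange (fun i => Nat.beq (actR175 i) i) 0 952 = true := by decide +kernel
theorem c_act175_1 : allRange (fun i => Nat.beq (actR175 i) i) 952 952 = true := by decide +kernel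
theorem c_act175_2 : allRange (fun i => Nat.beq (actR175 i) i) 1904 952 = true := by decide +kernel
theorem c_act175_3 : allRange (fun i => Nat.beq (actR175 i) i) 2856 952 = true := by decide +kernel
theorem c_act175_4 : allRange (fun i => Nat.beq (actR175 i) i) 3808 952 = true := by decide +kernel
theorem c_act175_5 : allRange (fun i => Nat.beq (actR175 i) i) 4760 952 = true := by decide +kernel
theorem c_act175_6 : allRange (fun i => Nat.beq (actR175 i) i) 5712 952 = true := by decide +kernel
theorem c_act175_7 : allRange (fun i => Nat.beq (actR175 i) i) 6664 952 = true := by decide +kernel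
theorem c_act175_8 : allRange (fun i => Nat.beq (actR175 i) i) 7616 952 = true := by decide +kernel
theorem c_act175_9 : allRange (fun i => Nat.beq (actR175 i) i) 8568 952 = true := by decide +kernel
theorem c_act175_10 : allRange (fun i => Nat.beq (actR175 i) i) 9520 952 = true := by decide +kernel
theorem c_act175_11 : allRange (fun i => Nat.beq (actR175 i) i) 10472 952 = true := by decide +kernel
theorem c_act175_12 : allRange (fun i => Nat.beq (actR175 i) i) 11424 952 = true := by decide +kernel
theorem c_act175_13 : allRange (fun i => Nat.beq (actR175 i) i) 12376 952 = true := by decide +kernel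
theorem c_act175_14 : allRange (fun i => Nat.beq (actR175 i) i) 13328 752 = true := by decide +kernel

end Cfsg.Agent.Lib.Helper4.TCD.SC3Fi22yp3A
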