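import Cfsg.Agent.Lib.Helper4.TCD_C3Fi22yR_Acc
import Cfsg.Agent.Lib.Helper4.TC13

namespace Cfsg.Agent.Lib.Helper4.TCD.SC3Fi22yp3W

open Cfsg.Agent.Lib.Helper4.TC Cfsg.Agent.Lib.Helper4.TCD.C3Fi22yR

set_option maxRecDepth 100000
set_option Elab.async false

def chk1 : List Nat := [4, 4]
noncomputable def act1 (i : Nat) : Nat := col5 (col5 (i))
theorem act1_eq (i : Nat) : act1 i = Tab.act T D chk1 i := rfl
theorem c1_0 : allRange (fun i => Nat.beq (act1 i) i) 0 15000 = true := by decide +kernel
theorem c1_1 : allRange (fun i => Nat.beq (act1 i) i) 15000 15000 = true := by decide +kernel
theorem c1_2 : allRange (fun i => Nat.beq (act1 i) i) 30000 15000 = true := by decide +kernel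
theorem c1_3 : allRange (fun i => Nat.beq (act1 i) i) 45000 15000 = true := by decide +kernel
theorem c1_4 : allRange (fun i => Nat.beq (act1 i) i) 60000 15000 = true := by decide +kernel
theorem c1_5 : allRange (fun i => Nat.beq (act1 i) i) 75000 15000 = true := by decide +kernel
theorem c1_6 : allRange (fun i => Nat.beq (act1 i) i) 90000 15000 = true := by decide +kernel
theorem c1_7 : allRange (fun i => Nat.beq (act1 i) i) 105000 15000 = true := by decide +kernel
theorem c1_8 : allRange (fun i => Nat.beq (act1 i) i) 120000 15000 = true := by decide +kernel
theorem c1_9 : allRange (fun i => Nat.beq (act1 i) i) 135000 15000 = true := by decide +kernel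
theorem c1_10 : allRange (fun i => Nat.beq (act1 i) i) 150000 15000 = true := by decide +kernel
theorem c1_11 : allRange (fun i => Nat.beq (act1 i) i) 165000 15000 = true := by decide +kernel
theorem c1_12 : allRange (fun i => Nat.beq (act1 i) i) 180000 5328 = true := by decide +kernel
theorem h1 : ∀ i, i < T.N → Tab.relActOK T D chk1 i = true := by
  intro i hi
  rw [Tab.relActOK, ← act1_eq]
  exact (range_glue (range_of_allRange c1_0) (range_glue (range_of_allRange c1_1) (range_glue (range_of_allRange c1_2) (range_glue (range_of_allRange c1_3) (range_glue (range_of_allRange c1_4) (range_glue (range_of_allRange c1_5) (range_glue (range_of_allRange c1_6) (range_glue (range_of_allRange c1_7) (range_glue (range_of_allRange c1_8) (range_glue (range_of_allRange c1_9) (range_glue (range_of_allRange c1_10) (range_glue (range_of_allRange c1_11) (range_of_allRange c1_12))))))))))))) i (Nat.zero_le _) hi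

def chk7 : List Nat := [16, 16]
noncomputable def act7 (i : Nat) : Nat := col17 (col17 (i))
theorem act7_eq (i : Nat) : act7 i = Tab.act T D chk7 i := rfl
theorem c7_0 : allRange (fun i => Nat.beq (act7 i) i) 0 15000 = true := by decide +kernel
theorem c7_1 : allRange (fun i => Nat.beq (act7 i) i) 15000 15000 = true := by decide +kernel
theorem c7_2 : allRange (fun i => Nat.beq (act7 i) i) 30000 15000 = true := by decide +kernel
theorem c7_3 : allRange (fun i => Nat.beq (act7 i) i) 45000 15000 = true := by decide +kernel
theorem c7_4 : allRange (fun i => Nat.beq (act7 i) i) 60000 15000 = true := by decide +kernel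
theorem c7_5 : allRange (fun i => Nat.beq (act7 i) i) 75000 15000 = true := by decide +kernel
theorem c7_6 : allRange (fun i => Nat.beq (act7 i) i) 90000 15000 = true := by decide +kernel
theorem c7_7 : allRange (fun i => Nat.beq (act7 i) i) 105000 15000 = true := by decide +kernel
theorem c7_8 : allRange (fun i => Nat.beq (act7 i) i) 120000 15000 = true := by decide +kernel
theorem c7_9 : allRange (fun i => Nat.beq (act7 i) i) 135000 15000 = true := by decide +kernel
theorem c7_10 : allRange (fun i => Nat.beq (act7 i) i) 150000 15000 = true := by decide +kernel
theorem c7_11 : allRange (fun i => Nat.beq (act7 i) i) 165000 15000 = true := by decide +kernel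
theorem c7_12 : allRange (fun i => Nat.beq (act7 i) i) 180000 5328 = true := by decide +kernel
theorem h7 : ∀ i, i < T.N → Tab.relActOK T D chk7 i = true := by
  intro i hi
  rw [Tab.relActOK, ← act7_eq]
  exact (range_glue (range_of_allRange c7_0) (range_glue (range_of_allRange c7_1) (range_glue (range_of_allRange c7_2) (range_glue (range_of_allRange c7_3) (range_glue (range_of_allRange c7_4) (range_glue (range_of_allRange c7_5) (range_glue (range_of_allRange c7_6) (range_glue (range_of_allRange c7_7) (range_glue (range_of_allRange c7_8) (range_glue (range_of_allRange c7_9) (range_glue (range_of_allRange c7_10) (range_glue (range_of_allRange c7_11) (range_of_allRange c7_12))))))))))))) i (Nat.zero_le _) hi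

def chk18 : List Nat := [0, 2, 4, 6, 8, 10, 14, 0, 2, 4, 6, 8, 10, 14, 0, 2, 4, 6, 8, 10, 14, 0, 2, 4, 6, 8, 10, 14, 0, 2, 4, 6, 8, 10, 14, 0, 2, 4, 6, 8, 10, 14, 0, 2, 4, 6, 8, 10, 14, 0, 2, 4, 6, 8, 10, 14, 0, 2, 4, 6, 8, 10, 14]
noncomputable def act18 (i : Nat) : Nat := col1 (col3 (col5 (col7 (col9 (col11 (col15 (col1 (col3 (col5 (col7 (col9 (col11 (col15 (col1 (col3 (col5 (col7 (col9 (col11 (col15 (col1 (col3 (col5 (col7 (col9 (col11 (col15 (col1 (col3 (col5 (col7 (col9 (col11 (col15 (col1 (col3 (col5 (col7 (col9 (col11 (col15 (col1 (col3 (col5 (col7 (col9 (col11 (col15 (col1 (col3 (col5 (col7 (col9 (col11 (col15 (col1 (col3 (col5 (col7 (col9 (col11 (col15 (i)))))))))))))))))))))))))))))))))))))))))))))))))))))))))))))))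
theorem act18_eq (i : Nat) : act18 i = Tab.act T D chk18 i := rfl
theorem c18_0 : allRange (fun i => Nat.beq (act18 i) i) 0 923 = true := by decide +kernel
theorem c18_1 : allRange (fun i => Nat.beq (act18 i) i) 923 923 = true := by decide +kernel
theorem c18_2 : allRange (fun i => Nat.beq (act18 i) i) 1846 923 = true := by decide +kernel
theorem c18_3 : allRange (fun i => Nat.beq (act18 i) i) 2769 923 = true := by decide +kernel
theorem c18_4 : allRange (fun i => Nat.beq (act18 i) i) 3692 923 = true := by decide +kernel
theorem c18_5 : allRange (fun i => Nat.beq (act18 i) i) 4615 923 = true := by decide +kernel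
theorem c18_6 : allRange (fun i => Nat.beq (act18 i) i) 5538 923 = true := by decide +kernel
theorem c18_7 : allRange (fun i => Nat.beq (act18 i) i) 6461 923 = true := by decide +kernel
theorem c18_8 : allRange (fun i => Nat.beq (act18 i) i) 7384 923 = true := by decide +kernel
theorem c18_9 : allRange (fun i => Nat.beq (act18 i) i) 8307 923 = true := by decide +kernel
theorem c18_10 : allRange (fun i => Nat.beq (act18 i) i) 9230 923 = true := by decide +kernel
theorem c18_11 : allRange (fun i => Nat.beq (act18 i) i) 10153 923 = true := by decide +kernel
theorem c18_12 : allRange (fun i => Nat.beq (act18 i) i) 11076 923 = true := by decide +kernel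
theorem c18_13 : allRange (fun i => Nat.beq (act18 i) i) 11999 923 = true := by decide +kernel
theorem c18_14 : allRange (fun i => Nat.beq (act18 i) i) 12922 923 = true := by decide +kernel
theorem c18_15 : allRange (fun i => Nat.beq (act18 i) i) 13845 923 = true := by decide +kernel
theorem c18_16 : allRange (fun i => Nat.beq (act18 i) i) 14768 923 = true := by decide +kernel
theorem c18_17 : allRange (fun i => Nat.beq (act18 i) i) 15691 923 = true := by decide +kernel
theorem c18_18 : allRange (fun i => Nat.beq (act18 i) i) 16614 923 = true := by decide +kernel
theorem c18_19 : allRange (fun i => Nat.beq (act18 i) i) 17537 923 = true := by decide +kernel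
theorem c18_20 : allRange (fun i => Nat.beq (act18 i) i) 18460 923 = true := by decide +kernel
theorem c18_21 : allRange (fun i => Nat.beq (act18 i) i) 19383 923 = true := by decide +kernel
theorem c18_22 : allRange (fun i => Nat.beq (act18 i) i) 20306 923 = true := by decide +kernel
theorem c18_23 : allRange (fun i => Nat.beq (act18 i) i) 21229 923 = true := by decide +kernel
theorem c18_24 : allRange (fun i => Nat.beq (act18 i) i) 22152 923 = true := by decide +kernel
theorem c18_25 : allRange (fun i => Nat.beq (act18 i) i) 23075 923 = true := by decide +kernel
theorem c18_26 : allRange (fun i => Nat.beq (act18 i) i) 23998 923 = true := by decide +kernel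
theorem c18_27 : allRange (fun i => Nat.beq (act18 i) i) 24921 923 = true := by decide +kernel
theorem c18_28 : allRange (fun i => Nat.beq (act18 i) i) 25844 923 = true := by decide +kernel
theorem c18_29 : allRange (fun i => Nat.beq (act18 i) i) 26767 923 = true := by decide +kernel
theorem c18_30 : allRange (fun i => Nat.beq (act18 i) i) 27690 923 = true := by decide +kernel
theorem c18_31 : allRange (fun i => Nat.beq (act18 i) i) 28613 923 = true := by decide +kernel
theorem c18_32 : allRange (fun i => Nat.beq (act18 i) i) 29536 923 = true := by decide +kernel
theorem c18_33 : allRange (fun i => Nat.beq (act18 i) i) 30459 923 = true := by decide +kernel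
theorem c18_34 : allRange (fun i => Nat.beq (act18 i) i) 31382 923 = true := by decide +kernel
theorem c18_35 : allRange (fun i => Nat.beq (act18 i) i) 32305 923 = true := by decide +kernel
theorem c18_36 : allRange (fun i => Nat.beq (act18 i) i) 33228 923 = true := by decide +kernel
theorem c18_37 : allRange (fun i => Nat.beq (act18 i) i) 34151 923 = true := by decide +kernel
theorem c18_38 : allRange (fun i => Nat.beq (act18 i) i) 35074 923 = true := by decide +kernel
theorem c18_39 : allRange (fun i => Nat.beq (act18 i) i) 35997 923 = true := by decide +kernel
theorem c18_40 : allRange (fun i => Nat.beq (act18 i) i) 36920 923 = true := by decide +kernel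
theorem c18_41 : allRange (fun i => Nat.beq (act18 i) i) 37843 923 = true := by decide +kernel
theorem c18_42 : allRange (fun i => Nat.beq (act18 i) i) 38766 923 = true := by decide +kernel
theorem c18_43 : allRange (fun i => Nat.beq (act18 i) i) 39689 923 = true := by decide +kernel
theorem c18_44 : allRange (fun i => Nat.beq (act18 i) i) 40612 923 = true := by decide +kernel
theorem c18_45 : allRange (fun i => Nat.beq (act18 i) i) 41535 923 = true := by decide +kernel
theorem c18_46 : allRange (fun i => Nat.beq (act18 i) i) 42458 923 = true := by decide +kernel
theorem c18_47 : allRange (fun i => Nat.beq (act18 i) i) 43381 923 = true := by decide +kernel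
theorem c18_48 : allRange (fun i => Nat.beq (act18 i) i) 44304 923 = true := by decide +kernel
theorem c18_49 : allRange (fun i => Nat.beq (act18 i) i) 45227 923 = true := by decide +kernel
theorem c18_50 : allRange (fun i => Nat.beq (act18 i) i) 46150 923 = true := by decide +kernel
theorem c18_51 : allRange (fun i => Nat.beq (act18 i) i) 47073 923 = true := by decide +kernel
theorem c18_52 : allRange (fun i => Nat.beq (act18 i) i) 47996 923 = true := by decide +kernel
theorem c18_53 : allRange (fun i => Nat.beq (act18 i) i) 48919 923 = true := by decide +kernel
theorem c18_54 : allRange (fun i => Nat.beq (act18 i) i) 49842 923 = true := by decide +kernel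
theorem c18_55 : allRange (fun i => Nat.beq (act18 i) i) 50765 923 = true := by decide +kernel
theorem c18_56 : allRange (fun i => Nat.beq (act18 i) i) 51688 923 = true := by decide +kernel
theorem c18_57 : allRange (fun i => Nat.beq (act18 i) i) 52611 923 = true := by decide +kernel
theorem c18_58 : allRange (fun i => Nat.beq (act18 i) i) 53534 923 = true := by decide +kernel
theorem c18_59 : allRange (fun i => Nat.beq (act18 i) i) 54457 923 = true := by decide +kernel
theorem c18_60 : allRange (fun i => Nat.beq (act18 i) i) 55380 923 = true := by decide +kernel
theorem c18_61 : allRange (fun i => Nat.beq (act18 i) i) 56303 923 = true := by decide +kernel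
theorem c18_62 : allRange (fun i => Nat.beq (act18 i) i) 57226 923 = true := by decide +kernel
theorem c18_63 : allRange (fun i => Nat.beq (act18 i) i) 58149 923 = true := by decide +kernel
theorem c18_64 : allRange (fun i => Nat.beq (act18 i) i) 59072 923 = true := by decide +kernel
theorem c18_65 : allRange (fun i => Nat.beq (act18 i) i) 59995 923 = true := by decide +kernel
theorem c18_66 : allRange (fun i => Nat.beq (act18 i) i) 60918 923 = true := by decide +kernel
theorem c18_67 : allRange (fun i => Nat.beq (act18 i) i) 61841 923 = true := by decide +kernel
theorem c18_68 : allRange (fun i => Nat.beq (act18 i) i) 62764 923 = true := by decide +kernel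
theorem c18_69 : allRange (fun i => Nat.beq (act18 i) i) 63687 923 = true := by decide +kernel
theorem c18_70 : allRange (fun i => Nat.beq (act18 i) i) 64610 923 = true := by decide +kernel
theorem c18_71 : allRange (fun i => Nat.beq (act18 i) i) 65533 923 = true := by decide +kernel
theorem c18_72 : allRange (fun i => Nat.beq (act18 i) i) 66456 923 = true := by decide +kernel
theorem c18_73 : allRange (fun i => Nat.beq (act18 i) i) 67379 923 = true := by decide +kernel
theorem c18_74 : allRange (fun i => Nat.beq (act18 i) i) 68302 923 = true := by decide +kernel
theorem c18_75 : allRange (fun i => Nat.beq (act18 i) i) 69225 923 = true := by decide +kernel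
theorem c18_76 : allRange (fun i => Nat.beq (act18 i) i) 70148 923 = true := by decide +kernel
theorem c18_77 : allRange (fun i => Nat.beq (act18 i) i) 71071 923 = true := by decide +kernel
theorem c18_78 : allRange (fun i => Nat.beq (act18 i) i) 71994 923 = true := by decide +kernel
theorem c18_79 : allRange (fun i => Nat.beq (act18 i) i) 72917 923 = true := by decide +kernel
theorem c18_80 : allRange (fun i => Nat.beq (act18 i) i) 73840 923 = true := by decide +kernel
theorem c18_81 : allRange (fun i => Nat.beq (act18 i) i) 74763 923 = true := by decide +kernel
theorem c18_82 : allRange (fun i => Nat.beq (act18 i) i) 75686 923 = true := by decide +kernel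
theorem c18_83 : allRange (fun i => Nat.beq (act18 i) i) 76609 923 = true := by decide +kernel
theorem c18_84 : allRange (fun i => Nat.beq (act18 i) i) 77532 923 = true := by decide +kernel
theorem c18_85 : allRange (fun i => Nat.beq (act18 i) i) 78455 923 = true := by decide +kernel
theorem c18_86 : allRange (fun i => Nat.beq (act18 i) i) 79378 923 = true := by decide +kernel
theorem c18_87 : allRange (fun i => Nat.beq (act18 i) i) 80301 923 = true := by decide +kernel
theorem c18_88 : allRange (fun i => Nat.beq (act18 i) i) 81224 923 = true := by decide +kernel
theorem c18_89 : allRange (fun i => Nat.beq (act18 i) i) 82147 923 = true := by decide +kernel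
theorem c18_90 : allRange (fun i => Nat.beq (act18 i) i) 83070 923 = true := by decide +kernel
theorem c18_91 : allRange (fun i => Nat.beq (act18 i) i) 83993 923 = true := by decide +kernel
theorem c18_92 : allRange (fun i => Nat.beq (act18 i) i) 84916 923 = true := by decide +kernel
theorem c18_93 : allRange (fun i => Nat.beq (act18 i) i) 85839 923 = true := by decide +kernel
theorem c18_94 : allRange (fun i => Nat.beq (act18 i) i) 86762 923 = true := by decide +kernel
theorem c18_95 : allRange (fun i => Nat.beq (act18 i) i) 87685 923 = true := by decide +kernel
theorem c18_96 : allRange (fun i => Nat.beq (act18 i) i) 88608 923 = true := by decide +kernel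
theorem c18_97 : allRange (fun i => Nat.beq (act18 i) i) 89531 923 = true := by decide +kernel
theorem c18_98 : allRange (fun i => Nat.beq (act18 i) i) 90454 923 = true := by decide +kernel
theorem c18_99 : allRange (fun i => Nat.beq (act18 i) i) 91377 923 = true := by decide +kernel
theorem c18_100 : allRange (fun i => Nat.beq (act18 i) i) 92300 923 = true := by decide +kernel
theorem c18_101 : allRange (fun i => Nat.beq (act18 i) i) 93223 923 = true := by decide +kernel
theorem c18_102 : allRange (fun i => Nat.beq (act18 i) i) 94146 923 = true := by decide +kernel
theorem c18_103 : allRange (fun i => Nat.beq (act18 i) i) 95069 923 = true := by decide +kernel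
theorem c18_104 : allRange (fun i => Nat.beq (act18 i) i) 95992 923 = true := by decide +kernel
theorem c18_105 : allRange (fun i => Nat.beq (act18 i) i) 96915 923 = true := by decide +kernel
theorem c18_106 : allRange (fun i => Nat.beq (act18 i) i) 97838 923 = true := by decide +kernel
theorem c18_107 : allRange (fun i => Nat.beq (act18 i) i) 98761 923 = true := by decide +kernel
theorem c18_108 : allRange (fun i => Nat.beq (act18 i) i) 99684 923 = true := by decide +kernel
theorem c18_109 : allRange (fun i => Nat.beq (act18 i) i) 100607 923 = true := by decide +kernel
theorem c18_110 : allRange (fun i => Nat.beq (act18 i) i) 101530 923 = true := by decide +kernel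
theorem c18_111 : allRange (fun i => Nat.beq (act18 i) i) 102453 923 = true := by decide +kernel
theorem c18_112 : allRange (fun i => Nat.beq (act18 i) i) 103376 923 = true := by decide +kernel
theorem c18_113 : allRange (fun i => Nat.beq (act18 i) i) 104299 923 = true := by decide +kernel
theorem c18_114 : allRange (fun i => Nat.beq (act18 i) i) 105222 923 = true := by decide +kernel
theorem c18_115 : allRange (fun i => Nat.beq (act18 i) i) 106145 923 = true := by decide +kernel
theorem c18_116 : allRange (fun i => Nat.beq (act18 i) i) 107068 923 = true := by decide +kernel
theorem c18_117 : allRange (fun i => Nat.beq (act18 i) i) 107991 923 = true := by decide +kernel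
theorem c18_118 : allRange (fun i => Nat.beq (act18 i) i) 108914 923 = true := by decide +kernel
theorem c18_119 : allRange (fun i => Nat.beq (act18 i) i) 109837 923 = true := by decide +kernel
theorem c18_120 : allRange (fun i => Nat.beq (act18 i) i) 110760 923 = true := by decide +kernel
theorem c18_121 : allRange (fun i => Nat.beq (act18 i) i) 111683 923 = true := by decide +kernel
theorem c18_122 : allRange (fun i => Nat.beq (act18 i) i) 112606 923 = true := by decide +kernel
theorem c18_123 : allRange (fun i => Nat.beq (act18 i) i) 113529 923 = true := by decide +kernel
theorem c18_124 : allRange (fun i => Nat.beq (act18 i) i) 114452 923 = true := by decide +kernel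
theorem c18_125 : allRange (fun i => Nat.beq (act18 i) i) 115375 923 = true := by decide +kernel
theorem c18_126 : allRange (fun i => Nat.beq (act18 i) i) 116298 923 = true := by decide +kernel
theorem c18_127 : allRange (fun i => Nat.beq (act18 i) i) 117221 923 = true := by decide +kernel
theorem c18_128 : allRange (fun i => Nat.beq (act18 i) i) 118144 923 = true := by decide +kernel
theorem c18_129 : allRange (fun i => Nat.beq (act18 i) i) 119067 923 = true := by decide +kernel
theorem c18_130 : allRange (fun i => Nat.beq (act18 i) i) 119990 923 = true := by decide +kernel
theorem c18_131 : allRange (fun i => Nat.beq (act18 i) i) 120913 923 = true := by decide +kernel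
theorem c18_132 : allRange (fun i => Nat.beq (act18 i) i) 121836 923 = true := by decide +kernel
theorem c18_133 : allRange (fun i => Nat.beq (act18 i) i) 122759 923 = true := by decide +kernel
theorem c18_134 : allRange (fun i => Nat.beq (act18 i) i) 123682 923 = true := by decide +kernel
theorem c18_135 : allRange (fun i => Nat.beq (act18 i) i) 124605 923 = true := by decide +kernel
theorem c18_136 : allRange (fun i => Nat.beq (act18 i) i) 125528 923 = true := by decide +kernel
theorem c18_137 : allRange (fun i => Nat.beq (act18 i) i) 126451 923 = true := by decide +kernel
theorem c18_138 : allRange (fun i => Nat.beq (act18 i) i) 127374 923 = true := by decide +kernel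
theorem c18_139 : allRange (fun i => Nat.beq (act18 i) i) 128297 923 = true := by decide +kernel
theorem c18_140 : allRange (fun i => Nat.beq (act18 i) i) 129220 923 = true := by decide +kernel
theorem c18_141 : allRange (fun i => Nat.beq (act18 i) i) 130143 923 = true := by decide +kernel
theorem c18_142 : allRange (fun i => Nat.beq (act18 i) i) 131066 923 = true := by decide +kernel
theorem c18_143 : allRange (fun i => Nat.beq (act18 i) i) 131989 923 = true := by decide +kernel
theorem c18_144 : allRange (fun i => Nat.beq (act18 i) i) 132912 923 = true := by decide +kernel
theorem c18_145 : allRange (fun i => Nat.beq (act18 i) i) 133835 923 = true := by decide +kernel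
theorem c18_146 : allRange (fun i => Nat.beq (act18 i) i) 134758 923 = true := by decide +kernel
theorem c18_147 : allRange (fun i => Nat.beq (act18 i) i) 135681 923 = true := by decide +kernel
theorem c18_148 : allRange (fun i => Nat.beq (act18 i) i) 136604 923 = true := by decide +kernel
theorem c18_149 : allRange (fun i => Nat.beq (act18 i) i) 137527 923 = true := by decide +kernel
theorem c18_150 : allRange (fun i => Nat.beq (act18 i) i) 138450 923 = true := by decide +kernel
theorem c18_151 : allRange (fun i => Nat.beq (act18 i) i) 139373 923 = true := by decide +kernel
theorem c18_152 : allRange (fun i => Nat.beq (act18 i) i) 140296 923 = true := by decide +kernel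
theorem c18_153 : allRange (fun i => Nat.beq (act18 i) i) 141219 923 = true := by decide +kernel
theorem c18_154 : allRange (fun i => Nat.beq (act18 i) i) 142142 923 = true := by decide +kernel
theorem c18_155 : allRange (fun i => Nat.beq (act18 i) i) 143065 923 = true := by decide +kernel
theorem c18_156 : allRange (fun i => Nat.beq (act18 i) i) 143988 923 = true := by decide +kernel
theorem c18_157 : allRange (fun i => Nat.beq (act18 i) i) 144911 923 = true := by decide +kernel
theorem c18_158 : allRange (fun i => Nat.beq (act18 i) i) 145834 923 = true := by decide +kernel
theorem c18_159 : allRange (fun i => Nat.beq (act18 i) i) 146757 923 = true := by decide +kernel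
theorem c18_160 : allRange (fun i => Nat.beq (act18 i) i) 147680 923 = true := by decide +kernel
theorem c18_161 : allRange (fun i => Nat.beq (act18 i) i) 148603 923 = true := by decide +kernel
theorem c18_162 : allRange (fun i => Nat.beq (act18 i) i) 149526 923 = true := by decide +kernel
theorem c18_163 : allRange (fun i => Nat.beq (act18 i) i) 150449 923 = true := by decide +kernel
theorem c18_164 : allRange (fun i => Nat.beq (act18 i) i) 151372 923 = true := by decide +kernel
theorem c18_165 : allRange (fun i => Nat.beq (act18 i) i) 152295 923 = true := by decide +kernel
theorem c18_166 : allRange (fun i => Nat.beq (act18 i) i) 153218 923 = true := by decide +kernel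
theorem c18_167 : allRange (fun i => Nat.beq (act18 i) i) 154141 923 = true := by decide +kernel
theorem c18_168 : allRange (fun i => Nat.beq (act18 i) i) 155064 923 = true := by decide +kernel
theorem c18_169 : allRange (fun i => Nat.beq (act18 i) i) 155987 923 = true := by decide +kernel
theorem c18_170 : allRange (fun i => Nat.beq (act18 i) i) 156910 923 = true := by decide +kernel
theorem c18_171 : allRange (fun i => Nat.beq (act18 i) i) 157833 923 = true := by decide +kernel
theorem c18_172 : allRange (fun i => Nat.beq (act18 i) i) 158756 923 = true := by decide +kernel
theorem c18_173 : allRange (fun i => Nat.beq (act18 i) i) 159679 923 = true := by decide +kernel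
theorem c18_174 : allRange (fun i => Nat.beq (act18 i) i) 160602 923 = true := by decide +kernel
theorem c18_175 : allRange (fun i => Nat.beq (act18 i) i) 161525 923 = true := by decide +kernel
theorem c18_176 : allRange (fun i => Nat.beq (act18 i) i) 162448 923 = true := by decide +kernel
theorem c18_177 : allRange (fun i => Nat.beq (act18 i) i) 163371 923 = true := by decide +kernel
theorem c18_178 : allRange (fun i => Nat.beq (act18 i) i) 164294 923 = true := by decide +kernel
theorem c18_179 : allRange (fun i => Nat.beq (act18 i) i) 165217 923 = true := by decide +kernel
theorem c18_180 : allRange (fun i => Nat.beq (act18 i) i) 166140 923 = true := by decide +kernel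
theorem c18_181 : allRange (fun i => Nat.beq (act18 i) i) 167063 923 = true := by decide +kernel
theorem c18_182 : allRange (fun i => Nat.beq (act18 i) i) 167986 923 = true := by decide +kernel
theorem c18_183 : allRange (fun i => Nat.beq (act18 i) i) 168909 923 = true := by decide +kernel
theorem c18_184 : allRange (fun i => Nat.beq (act18 i) i) 169832 923 = true := by decide +kernel
theorem c18_185 : allRange (fun i => Nat.beq (act18 i) i) 170755 923 = true := by decide +kernel
theorem c18_186 : allRange (fun i => Nat.beq (act18 i) i) 171678 923 = true := by decide +kernel
theorem c18_187 : allRange (fun i => Nat.beq (act18 i) i) 172601 923 = true := by decide +kernel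
theorem c18_188 : allRange (fun i => Nat.beq (act18 i) i) 173524 923 = true := by decide +kernel
theorem c18_189 : allRange (fun i => Nat.beq (act18 i) i) 174447 923 = true := by decide +kernel
theorem c18_190 : allRange (fun i => Nat.beq (act18 i) i) 175370 923 = true := by decide +kernel
theorem c18_191 : allRange (fun i => Nat.beq (act18 i) i) 176293 923 = true := by decide +kernel
theorem c18_192 : allRange (fun i => Nat.beq (act18 i) i) 177216 923 = true := by decide +kernel
theorem c18_193 : allRange (fun i => Nat.beq (act18 i) i) 178139 923 = true := by decide +kernel
theorem c18_194 : allRange (fun i => Nat.beq (act18 i) i) 179062 923 = true := by decide +kernel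
theorem c18_195 : allRange (fun i => Nat.beq (act18 i) i) 179985 923 = true := by decide +kernel
theorem c18_196 : allRange (fun i => Nat.beq (act18 i) i) 180908 923 = true := by decide +kernel
theorem c18_197 : allRange (fun i => Nat.beq (act18 i) i) 181831 923 = true := by decide +kernel
theorem c18_198 : allRange (fun i => Nat.beq (act18 i) i) 182754 923 = true := by decide +kernel
theorem c18_199 : allRange (fun i => Nat.beq (act18 i) i) 183677 923 = true := by decide +kernel
theorem c18_200 : allRange (fun i => Nat.beq (act18 i) i) 184600 728 = true := by decide +kernel
theorem h18 : ∀ i, i < T.N → Tab.relActOK T D chk18 i = true := by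
  intro i hi
  rw [Tab.relActOK, ← act18_eq]
  exact (range_glue (range_of_allRange c18_0) (range_glue (range_of_allRange c18_1) (range_glue (range_of_allRange c18_2) (range_glue (range_of_allRange c18_3) (range_glue (range_of_allRange c18_4) (range_glue (range_of_allRange c18_5) (range_glue (range_of_allRange c18_6) (range_glue (range_of_allRange c18_7) (range_glue (range_of_allRange c18_8) (range_glue (range_of_allRange c18_9) (range_glue (range_of_allRange c18_10) (range_glue (range_of_allRange c18_11) (range_glue (range_of_allRange c18_12) (range_glue (range_of_allRange c18_13) (range_glue (range_of_allRange c18_14) (range_glue (range_of_allRange c18_15) (range_glue (range_of_allRange c18_16) (range_glue (range_of_allRange c18_17) (range_glue (range_of_allRange c18_18) (range_glue (range_of_allRange c18_19) (range_glue (range_of_allRange c18_20) (range_glue (range_of_allRange c18_21) (range_glue (range_of_allRange c18_22) (range_glue (range_of_allRange c18_23) (range_glue (range_of_allRange c18_24) (range_glue (range_of_allRange c18_25) (range_glue (range_of_allRange c18_26) (range_glue (range_of_allRange c18_27) (range_glue (range_of_allRange c18_28) (range_glue (range_of_allRange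 c18_29) (range_glue (range_of_allRange c18_30) (range_glue (range_of_allRange c18_31) (range_glue (range_of_allRange c18_32) (range_glue (range_of_allRange c18_33) (range_glue (range_of_allRange c18_34) (range_glue (range_of_allRange c18_35) (range_glue (range_of_allRange c18_36) (range_glue (range_of_allRange c18_37) (range_glue (range_of_allRange c18_38) (range_glue (range_of_allRange c18_39) (range_glue (range_of_allRange c18_40) (range_glue (range_of_allRange c18_41) (range_glue (range_of_allRange c18_42) (range_glue (range_of_allRange c18_43) (range_glue (range_of_allRange c18_44) (range_glue (range_of_allRange c18_45) (range_glue (range_of_allRange c18_46) (range_glue (range_of_allRange c18_47) (range_glue (range_of_allRange c18_48) (range_glue (range_of_allRange c18_49) (range_glue (range_of_allRange c18_50) (range_glue (range_of_allRange c18_51) (range_glue (range_of_allRange c18_52) (range_glue (range_of_allRange c18_53) (range_glue (range_of_allRange c18_54) (range_glue (range_of_allRange c18_55) (range_glue (range_of_allRange c18_56) (range_glue (range_of_allRange c18_57) (range_glue (range_of_allRange c18_58) (range_glue (range_of_allRange c18_59) (range_glue (range_of_allRange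 c18_60) (range_glue (range_of_allRange c18_61) (range_glue (range_of_allRange c18_62) (range_glue (range_of_allRange c18_63) (range_glue (range_of_allRange c18_64) (range_glue (range_of_allRange c18_65) (range_glue (range_of_allRange c18_66) (range_glue (range_of_allRange c18_67) (range_glue (range_of_allRange c18_68) (range_glue (range_of_allRange c18_69) (range_glue (range_of_allRange c18_70) (range_glue (range_of_allRange c18_71) (range_glue (range_of_allRange c18_72) (range_glue (range_of_allRange c18_73) (range_glue (range_of_allRange c18_74) (range_glue (range_of_allRange c18_75) (range_glue (range_of_allRange c18_76) (range_glue (range_of_allRange c18_77) (range_glue (range_of_allRange c18_78) (range_glue (range_of_allRange c18_79) (range_glue (range_of_allRange c18_80) (range_glue (range_of_allRange c18_81) (range_glue (range_of_allRange c18_82) (range_glue (range_of_allRange c18_83) (range_glue (range_of_allRange c18_84) (range_glue (range_of_allRange c18_85) (range_glue (range_of_allRange c18_86) (range_glue (range_of_allRange c18_87) (range_glue (range_of_allRange c18_88) (range_glue (range_of_allRange c18_89) (range_glue (range_of_allRange c18_90) (range_glue (range_of_allRange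 c18_91) (range_glue (range_of_allRange c18_92) (range_glue (range_of_allRange c18_93) (range_glue (range_of_allRange c18_94) (range_glue (range_of_allRange c18_95) (range_glue (range_of_allRange c18_96) (range_glue (range_of_allRange c18_97) (range_glue (range_of_allRange c18_98) (range_glue (range_of_allRange c18_99) (range_glue (range_of_allRange c18_100) (range_glue (range_of_allRange c18_101) (range_glue (range_of_allRange c18_102) (range_glue (range_of_allRange c18_103) (range_glue (range_of_allRange c18_104) (range_glue (range_of_allRange c18_105) (range_glue (range_of_allRange c18_106) (range_glue (range_of_allRange c18_107) (range_glue (range_of_allRange c18_108) (range_glue (range_of_allRange c18_109) (range_glue (range_of_allRange c18_110) (range_glue (range_of_allRange c18_111) (range_glue (range_of_allRange c18_112) (range_glue (range_of_allRange c18_113) (range_glue (range_of_allRange c18_114) (range_glue (range_of_allRange c18_115) (range_glue (range_of_allRange c18_116) (range_glue (range_of_allRange c18_117) (range_glue (range_of_allRange c18_118) (range_glue (range_of_allRange c18_119) (range_glue (range_of_allRange c18_120) (range_glue (range_of_allRange c18_121) (range_glue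 (range_of_allRange c18_122) (range_glue (range_of_allRange c18_123) (range_glue (range_of_allRange c18_124) (range_glue (range_of_allRange c18_125) (range_glue (range_of_allRange c18_126) (range_glue (range_of_allRange c18_127) (range_glue (range_of_allRange c18_128) (range_glue (range_of_allRange c18_129) (range_glue (range_of_allRange c18_130) (range_glue (range_of_allRange c18_131) (range_glue (range_of_allRange c18_132) (range_glue (range_of_allRange c18_133) (range_glue (range_of_allRange c18_134) (range_glue (range_of_allRange c18_135) (range_glue (range_of_allRange c18_136) (range_glue (range_of_allRange c18_137) (range_glue (range_of_allRange c18_138) (range_glue (range_of_allRange c18_139) (range_glue (range_of_allRange c18_140) (range_glue (range_of_allRange c18_141) (range_glue (range_of_allRange c18_142) (range_glue (range_of_allRange c18_143) (range_glue (range_of_allRange c18_144) (range_glue (range_of_allRange c18_145) (range_glue (range_of_allRange c18_146) (range_glue (range_of_allRange c18_147) (range_glue (range_of_allRange c18_148) (range_glue (range_of_allRange c18_149) (range_glue (range_of_allRange c18_150) (range_glue (range_of_allRange c18_151) (range_glue (range_of_allRange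 c18_152) (range_glue (range_of_allRange c18_153) (range_glue (range_of_allRange c18_154) (range_glue (range_of_allRange c18_155) (range_glue (range_of_allRange c18_156) (range_glue (range_of_allRange c18_157) (range_glue (range_of_allRange c18_158) (range_glue (range_of_allRange c18_159) (range_glue (range_of_allRange c18_160) (range_glue (range_of_allRange c18_161) (range_glue (range_of_allRange c18_162) (range_glue (range_of_allRange c18_163) (range_glue (range_of_allRange c18_164) (range_glue (range_of_allRange c18_165) (range_glue (range_of_allRange c18_166) (range_glue (range_of_allRange c18_167) (range_glue (range_of_allRange c18_168) (range_glue (range_of_allRange c18_169) (range_glue (range_of_allRange c18_170) (range_glue (range_of_allRange c18_171) (range_glue (range_of_allRange c18_172) (range_glue (range_of_allRange c18_173) (range_glue (range_of_allRange c18_174) (range_glue (range_of_allRange c18_175) (range_glue (range_of_allRange c18_176) (range_glue (range_of_allRange c18_177) (range_glue (range_of_allRange c18_178) (range_glue (range_of_allRange c18_179) (range_glue (range_of_allRange c18_180) (range_glue (range_of_allRange c18_181) (range_glue (range_of_allRange c18_182)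 (range_glue (range_of_allRange c18_183) (range_glue (range_of_allRange c18_184) (range_glue (range_of_allRange c18_185) (range_glue (range_of_allRange c18_186) (range_glue (range_of_allRange c18_187) (range_glue (range_of_allRange c18_188) (range_glue (range_of_allRange c18_189) (range_glue (range_of_allRange c18_190) (range_glue (range_of_allRange c18_191) (range_glue (range_of_allRange c18_192) (range_glue (range_of_allRange c18_193) (range_glue (range_of_allRange c18_194) (range_glue (range_of_allRange c18_195) (range_glue (range_of_allRange c18_196) (range_glue (range_of_allRange c18_197) (range_glue (range_of_allRange c18_198) (range_glue (range_of_allRange c18_199) (range_of_allRange c18_200))))))))))))))))))))))))))))))))))))))))))))))))))))))))))))))))))))))))))))))))))))))))))))))))))))))))))))))))))))))))))))))))))))))))))))))))))))))))))))))))))))))))))))))))))))))))))))))))))))))))) i (Nat.zero_le _) hi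

def chk50 : List Nat := [10, 10]
noncomputable def act50 (i : Nat) : Nat := col11 (col11 (i))
theorem act50_eq (i : Nat) : act50 i = Tab.act T D chk50 i := rfl
theorem c50_0 : allRange (fun i => Nat.beq (act50 i) i) 0 15000 = true := by decide +kernel
theorem c50_1 : allRange (fun i => Nat.beq (act50 i) i) 15000 15000 = true := by decide +kernel
theorem c50_2 : allRange (fun i => Nat.beq (act50 i) i) 30000 15000 = true := by decide +kernel
theorem c50_3 : allRange (fun i => Nat.beq (act50 i) i) 45000 15000 = true := by decide +kernel
theorem c50_4 : allRange (fun i => Nat.beq (act50 i) i) 60000 15000 = true := by decide +kernel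
theorem c50_5 : allRange (fun i => Nat.beq (act50 i) i) 75000 15000 = true := by decide +kernel
theorem c50_6 : allRange (fun i => Nat.beq (act50 i) i) 90000 15000 = true := by decide +kernel
theorem c50_7 : allRange (fun i => Nat.beq (act50 i) i) 105000 15000 = true := by decide +kernel
theorem c50_8 : allRange (fun i => Nat.beq (act50 i) i) 120000 15000 = true := by decide +kernel
theorem c50_9 : allRange (fun i => Nat.beq (act50 i) i) 135000 15000 = true := by decide +kernel
theorem c50_10 : allRange (fun i => Nat.beq (act50 i) i) 150000 15000 = true := by decide +kernel
theorem c50_11 : allRange (fun i => Nat.beq (act50 i) i) 165000 15000 = true := by decide +kernel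
theorem c50_12 : allRange (fun i => Nat.beq (act50 i) i) 180000 5328 = true := by decide +kernel
theorem h50 : ∀ i, i < T.N → Tab.relActOK T D chk50 i = true := by
  intro i hi
  rw [Tab.relActOK, ← act50_eq]
  exact (range_glue (range_of_allRange c50_0) (range_glue (range_of_allRange c50_1) (range_glue (range_of_allRange c50_2) (range_glue (range_of_allRange c50_3) (range_glue (range_of_allRange c50_4) (range_glue (range_of_allRange c50_5) (range_glue (range_of_allRange c50_6) (range_glue (range_of_allRange c50_7) (range_glue (range_of_allRange c50_8) (range_glue (range_of_allRange c50_9) (range_glue (range_of_allRange c50_10) (range_glue (range_of_allRange c50_11) (range_of_allRange c50_12))))))))))))) i (Nat.zero_le _) hi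

end Cfsg.Agent.Lib.Helper4.TCD.SC3Fi22yp3W
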