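import Cfsg.Agent.Lib.Helper4.TCD_C3Fi22yR_Acc
import Cfsg.Agent.Lib.Helper4.TC13

namespace Cfsg.Agent.Lib.Helper4.TCD.SC3Fi22yp3W

open Cfsg.Agent.Lib.Helper4.TC Cfsg.Agent.Lib.Helper4.TCD.C3Fi22yR

set_option maxRecDepth 100000
set_option Elab.async false

def chk2 : List Nat := [6, 6]
noncomputable def act2 (i : Nat) : Nat := col7 (col7 (i))
theorem act2_eq (i : Nat) : act2 i = Tab.act T D chk2 i := rfl
theorem c2_0 : allRange (fun i => Nat.beq (act2 i) i) 0 15000 = true := by decide +kernel
theorem c2_1 : allRange (fun i => Nat.beq (act2 i) i) 15000 15000 = true := by decide +kernel
theorem c2_2 : allRange (fun i => Nat.beq (act2 i) i) 30000 15000 = true := by decide +kernel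
theorem c2_3 : allRange (fun i => Nat.beq (act2 i) i) 45000 15000 = true := by decide +kernel
theorem c2_4 : allRange (fun i => Nat.beq (act2 i) i) 60000 15000 = true := by decide +kernel
theorem c2_5 : allRange (fun i => Nat.beq (act2 i) i) 75000 15000 = true := by decide +kernel
theorem c2_6 : allRange (fun i => Nat.beq (act2 i) i) 90000 15000 = true := by decide +kernel
theorem c2_7 : allRange (fun i => Nat.beq (act2 i) i) 105000 15000 = true := by decide +kernel
theorem c2_8 : allRange (fun i => Nat.beq (act2 i) i) 120000 15000 = true := by decide +kernel
theorem c2_9 : allRange (fun i => Nat.beq (act2 i) i) 135000 15000 = true := by decide +kernel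
theorem c2_10 : allRange (fun i => Nat.beq (act2 i) i) 150000 15000 = true := by decide +kernel
theorem c2_11 : allRange (fun i => Nat.beq (act2 i) i) 165000 15000 = true := by decide +kernel
theorem c2_12 : allRange (fun i => Nat.beq (act2 i) i) 180000 5328 = true := by decide +kernel
theorem h2 : ∀ i, i < T.N → Tab.relActOK T D chk2 i = true := by
  intro i hi
  rw [Tab.relActOK, ← act2_eq]
  exact (range_glue (range_of_allRange c2_0) (range_glue (range_of_allRange c2_1) (range_glue (range_of_allRange c2_2) (range_glue (range_of_allRange c2_3) (range_glue (range_of_allRange c2_4) (range_glue (range_of_allRange c2_5) (range_glue (range_of_allRange c2_6) (range_glue (range_of_allRange c2_7) (range_glue (range_of_allRange c2_8) (range_glue (range_of_allRange c2_9) (range_glue (range_of_allRange c2_10) (range_glue (range_of_allRange c2_11) (range_of_allRange c2_12))))))))))))) i (Nat.zero_le _) hi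

def chk9 : List Nat := [0, 0]
noncomputable def act9 (i : Nat) : Nat := col1 (col1 (i))
theorem act9_eq (i : Nat) : act9 i = Tab.act T D chk9 i := rfl
theorem c9_0 : allRange (fun i => Nat.beq (act9 i) i) 0 15000 = true := by decide +kernel
theorem c9_1 : allRange (fun i => Nat.beq (act9 i) i) 15000 15000 = true := by decide +kernel
theorem c9_2 : allRange (fun i => Nat.beq (act9 i) i) 30000 15000 = true := by decide +kernel
theorem c9_3 : allRange (fun i => Nat.beq (act9 i) i) 45000 15000 = true := by decide +kernel
theorem c9_4 : allRange (fun i => Nat.beq (act9 i) i) 60000 15000 = true := by decide +kernel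
theorem c9_5 : allRange (fun i => Nat.beq (act9 i) i) 75000 15000 = true := by decide +kernel
theorem c9_6 : allRange (fun i => Nat.beq (act9 i) i) 90000 15000 = true := by decide +kernel
theorem c9_7 : allRange (fun i => Nat.beq (act9 i) i) 105000 15000 = true := by decide +kernel
theorem c9_8 : allRange (fun i => Nat.beq (act9 i) i) 120000 15000 = true := by decide +kernel
theorem c9_9 : allRange (fun i => Nat.beq (act9 i) i) 135000 15000 = true := by decide +kernel
theorem c9_10 : allRange (fun i => Nat.beq (act9 i) i) 150000 15000 = true := by decide +kernel
theorem c9_11 : allRange (fun i => Nat.beq (act9 i) i) 165000 15000 = true := by decide +kernel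
theorem c9_12 : allRange (fun i => Nat.beq (act9 i) i) 180000 5328 = true := by decide +kernel
theorem h9 : ∀ i, i < T.N → Tab.relActOK T D chk9 i = true := by
  intro i hi
  rw [Tab.relActOK, ← act9_eq]
  exact (range_glue (range_of_allRange c9_0) (range_glue (range_of_allRange c9_1) (range_glue (range_of_allRange c9_2) (range_glue (range_of_allRange c9_3) (range_glue (range_of_allRange c9_4) (range_glue (range_of_allRange c9_5) (range_glue (range_of_allRange c9_6) (range_glue (range_of_allRange c9_7) (range_glue (range_of_allRange c9_8) (range_glue (range_of_allRange c9_9) (range_glue (range_of_allRange c9_10) (range_glue (range_of_allRange c9_11) (range_of_allRange c9_12))))))))))))) i (Nat.zero_le _) hi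

def chk53 : List Nat := [12, 12]
noncomputable def act53 (i : Nat) : Nat := col13 (col13 (i))
theorem act53_eq (i : Nat) : act53 i = Tab.act T D chk53 i := rfl
theorem c53_0 : allRange (fun i => Nat.beq (act53 i) i) 0 15000 = true := by decide +kernel
theorem c53_1 : allRange (fun i => Nat.beq (act53 i) i) 15000 15000 = true := by decide +kernel
theorem c53_2 : allRange (fun i => Nat.beq (act53 i) i) 30000 15000 = true := by decide +kernel
theorem c53_3 : allRange (fun i => Nat.beq (act53 i) i) 45000 15000 = true := by decide +kernel
theorem c53_4 : allRange (fun i => Nat.beq (act53 i) i) 60000 15000 = true := by decide +kernel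
theorem c53_5 : allRange (fun i => Nat.beq (act53 i) i) 75000 15000 = true := by decide +kernel
theorem c53_6 : allRange (fun i => Nat.beq (act53 i) i) 90000 15000 = true := by decide +kernel
theorem c53_7 : allRange (fun i => Nat.beq (act53 i) i) 105000 15000 = true := by decide +kernel
theorem c53_8 : allRange (fun i => Nat.beq (act53 i) i) 120000 15000 = true := by decide +kernel
theorem c53_9 : allRange (fun i => Nat.beq (act53 i) i) 135000 15000 = true := by decide +kernel
theorem c53_10 : allRange (fun i => Nat.beq (act53 i) i) 150000 15000 = true := by decide +kernel
theorem c53_11 : allRange (fun i => Nat.beq (act53 i) i) 165000 15000 = true := by decide +kernel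
theorem c53_12 : allRange (fun i => Nat.beq (act53 i) i) 180000 5328 = true := by decide +kernel
theorem h53 : ∀ i, i < T.N → Tab.relActOK T D chk53 i = true := by
  intro i hi
  rw [Tab.relActOK, ← act53_eq]
  exact (range_glue (range_of_allRange c53_0) (range_glue (range_of_allRange c53_1) (range_glue (range_of_allRange c53_2) (range_glue (range_of_allRange c53_3) (range_glue (range_of_allRange c53_4) (range_glue (range_of_allRange c53_5) (range_glue (range_of_allRange c53_6) (range_glue (range_of_allRange c53_7) (range_glue (range_of_allRange c53_8) (range_glue (range_of_allRange c53_9) (range_glue (range_of_allRange c53_10) (range_glue (range_of_allRange c53_11) (range_of_allRange c53_12))))))))))))) i (Nat.zero_le _) hi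

def chk65 : List Nat := [2, 4, 6, 8, 10, 12, 14, 2, 4, 6, 8, 10, 12, 14, 2, 4, 6, 8, 10, 12, 14, 2, 4, 6, 8, 10, 12, 14, 2, 4, 6, 8, 10, 12, 14, 2, 4, 6, 8, 10, 12, 14, 2, 4, 6, 8, 10, 12, 14, 2, 4, 6, 8, 10, 12, 14, 2, 4, 6, 8, 10, 12, 14]
noncomputable def act65 (i : Nat) : Nat := col3 (col5 (col7 (col9 (col11 (col13 (col15 (col3 (col5 (col7 (col9 (col11 (col13 (col15 (col3 (col5 (col7 (col9 (col11 (col13 (col15 (col3 (col5 (col7 (col9 (col11 (col13 (col15 (col3 (col5 (col7 (col9 (col11 (col13 (col15 (col3 (col5 (col7 (col9 (col11 (col13 (col15 (col3 (col5 (col7 (col9 (col11 (col13 (col15 (col3 (col5 (col7 (col9 (col11 (col13 (col15 (col3 (col5 (col7 (col9 (col11 (col13 (col15 (i)))))))))))))))))))))))))))))))))))))))))))))))))))))))))))))))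
theorem act65_eq (i : Nat) : act65 i = Tab.act T D chk65 i := rfl
theorem c65_0 : allRange (fun i => Nat.beq (act65 i) i) 0 923 = true := by decide +kernel
theorem c65_1 : allRange (fun i => Nat.beq (act65 i) i) 923 923 = true := by decide +kernel
theorem c65_2 : allRange (fun i => Nat.beq (act65 i) i) 1846 923 = true := by decide +kernel
theorem c65_3 : allRange (fun i => Nat.beq (act65 i) i) 2769 923 = true := by decide +kernel
theorem c65_4 : allRange (fun i => Nat.beq (act65 i) i) 3692 923 = true := by decide +kernel
theorem c65_5 : allRange (fun i => Nat.beq (act65 i) i) 4615 923 = true := by decide +kernel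
theorem c65_6 : allRange (fun i => Nat.beq (act65 i) i) 5538 923 = true := by decide +kernel
theorem c65_7 : allRange (fun i => Nat.beq (act65 i) i) 6461 923 = true := by decide +kernel
theorem c65_8 : allRange (fun i => Nat.beq (act65 i) i) 7384 923 = true := by decide +kernel
theorem c65_9 : allRange (fun i => Nat.beq (act65 i) i) 8307 923 = true := by decide +kernel
theorem c65_10 : allRange (fun i => Nat.beq (act65 i) i) 9230 923 = true := by decide +kernel
theorem c65_11 : allRange (fun i => Nat.beq (act65 i) i) 10153 923 = true := by decide +kernel
theorem c65_12 : allRange (fun i => Nat.beq (act65 i) i) 11076 923 = true := by decide +kernel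
theorem c65_13 : allRange (fun i => Nat.beq (act65 i) i) 11999 923 = true := by decide +kernel
theorem c65_14 : allRange (fun i => Nat.beq (act65 i) i) 12922 923 = true := by decide +kernel
theorem c65_15 : allRange (fun i => Nat.beq (act65 i) i) 13845 923 = true := by decide +kernel
theorem c65_16 : allRange (fun i => Nat.beq (act65 i) i) 14768 923 = true := by decide +kernel
theorem c65_17 : allRange (fun i => Nat.beq (act65 i) i) 15691 923 = true := by decide +kernel
theorem c65_18 : allRange (fun i => Nat.beq (act65 i) i) 16614 923 = true := by decide +kernel
theorem c65_19 : allRange (fun i => Nat.beq (act65 i) i) 17537 923 = true := by decide +kernel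
theorem c65_20 : allRange (fun i => Nat.beq (act65 i) i) 18460 923 = true := by decide +kernel
theorem c65_21 : allRange (fun i => Nat.beq (act65 i) i) 19383 923 = true := by decide +kernel
theorem c65_22 : allRange (fun i => Nat.beq (act65 i) i) 20306 923 = true := by decide +kernel
theorem c65_23 : allRange (fun i => Nat.beq (act65 i) i) 21229 923 = true := by decide +kernel
theorem c65_24 : allRange (fun i => Nat.beq (act65 i) i) 22152 923 = true := by decide +kernel
theorem c65_25 : allRange (fun i => Nat.beq (act65 i) i) 23075 923 = true := by decide +kernel
theorem c65_26 : allRange (fun i => Nat.beq (act65 i) i) 23998 923 = true := by decide +kernel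
theorem c65_27 : allRange (fun i => Nat.beq (act65 i) i) 24921 923 = true := by decide +kernel
theorem c65_28 : allRange (fun i => Nat.beq (act65 i) i) 25844 923 = true := by decide +kernel
theorem c65_29 : allRange (fun i => Nat.beq (act65 i) i) 26767 923 = true := by decide +kernel
theorem c65_30 : allRange (fun i => Nat.beq (act65 i) i) 27690 923 = true := by decide +kernel
theorem c65_31 : allRange (fun i => Nat.beq (act65 i) i) 28613 923 = true := by decide +kernel
theorem c65_32 : allRange (fun i => Nat.beq (act65 i) i) 29536 923 = true := by decide +kernel
theorem c65_33 : allRange (fun i => Nat.beq (act65 i) i) 30459 923 = true := by decide +kernel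
theorem c65_34 : allRange (fun i => Nat.beq (act65 i) i) 31382 923 = true := by decide +kernel
theorem c65_35 : allRange (fun i => Nat.beq (act65 i) i) 32305 923 = true := by decide +kernel
theorem c65_36 : allRange (fun i => Nat.beq (act65 i) i) 33228 923 = true := by decide +kernel
theorem c65_37 : allRange (fun i => Nat.beq (act65 i) i) 34151 923 = true := by decide +kernel
theorem c65_38 : allRange (fun i => Nat.beq (act65 i) i) 35074 923 = true := by decide +kernel
theorem c65_39 : allRange (fun i => Nat.beq (act65 i) i) 35997 923 = true := by decide +kernel
theorem c65_40 : allRange (fun i => Nat.beq (act65 i) i) 36920 923 = true := by decide +kernel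
theorem c65_41 : allRange (fun i => Nat.beq (act65 i) i) 37843 923 = true := by decide +kernel
theorem c65_42 : allRange (fun i => Nat.beq (act65 i) i) 38766 923 = true := by decide +kernel
theorem c65_43 : allRange (fun i => Nat.beq (act65 i) i) 39689 923 = true := by decide +kernel
theorem c65_44 : allRange (fun i => Nat.beq (act65 i) i) 40612 923 = true := by decide +kernel
theorem c65_45 : allRange (fun i => Nat.beq (act65 i) i) 41535 923 = true := by decide +kernel
theorem c65_46 : allRange (fun i => Nat.beq (act65 i) i) 42458 923 = true := by decide +kernel
theorem c65_47 : allRange (fun i => Nat.beq (act65 i) i) 43381 923 = true := by decide +kernel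
theorem c65_48 : allRange (fun i => Nat.beq (act65 i) i) 44304 923 = true := by decide +kernel
theorem c65_49 : allRange (fun i => Nat.beq (act65 i) i) 45227 923 = true := by decide +kernel
theorem c65_50 : allRange (fun i => Nat.beq (act65 i) i) 46150 923 = true := by decide +kernel
theorem c65_51 : allRange (fun i => Nat.beq (act65 i) i) 47073 923 = true := by decide +kernel
theorem c65_52 : allRange (fun i => Nat.beq (act65 i) i) 47996 923 = true := by decide +kernel
theorem c65_53 : allRange (fun i => Nat.beq (act65 i) i) 48919 923 = true := by decide +kernel
theorem c65_54 : allRange (fun i => Nat.beq (act65 i) i) 49842 923 = true := by decide +kernel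
theorem c65_55 : allRange (fun i => Nat.beq (act65 i) i) 50765 923 = true := by decide +kernel
theorem c65_56 : allRange (fun i => Nat.beq (act65 i) i) 51688 923 = true := by decide +kernel
theorem c65_57 : allRange (fun i => Nat.beq (act65 i) i) 52611 923 = true := by decide +kernel
theorem c65_58 : allRange (fun i => Nat.beq (act65 i) i) 53534 923 = true := by decide +kernel
theorem c65_59 : allRange (fun i => Nat.beq (act65 i) i) 54457 923 = true := by decide +kernel
theorem c65_60 : allRange (fun i => Nat.beq (act65 i) i) 55380 923 = true := by decide +kernel
theorem c65_61 : allRange (fun i => Nat.beq (act65 i) i) 56303 923 = true := by decide +kernel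
theorem c65_62 : allRange (fun i => Nat.beq (act65 i) i) 57226 923 = true := by decide +kernel
theorem c65_63 : allRange (fun i => Nat.beq (act65 i) i) 58149 923 = true := by decide +kernel
theorem c65_64 : allRange (fun i => Nat.beq (act65 i) i) 59072 923 = true := by decide +kernel
theorem c65_65 : allRange (fun i => Nat.beq (act65 i) i) 59995 923 = true := by decide +kernel
theorem c65_66 : allRange (fun i => Nat.beq (act65 i) i) 60918 923 = true := by decide +kernel
theorem c65_67 : allRange (fun i => Nat.beq (act65 i) i) 61841 923 = true := by decide +kernel
theorem c65_68 : allRange (fun i => Nat.beq (act65 i) i) 62764 923 = true := by decide +kernel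
theorem c65_69 : allRange (fun i => Nat.beq (act65 i) i) 63687 923 = true := by decide +kernel
theorem c65_70 : allRange (fun i => Nat.beq (act65 i) i) 64610 923 = true := by decide +kernel
theorem c65_71 : allRange (fun i => Nat.beq (act65 i) i) 65533 923 = true := by decide +kernel
theorem c65_72 : allRange (fun i => Nat.beq (act65 i) i) 66456 923 = true := by decide +kernel
theorem c65_73 : allRange (fun i => Nat.beq (act65 i) i) 67379 923 = true := by decide +kernel
theorem c65_74 : allRange (fun i => Nat.beq (act65 i) i) 68302 923 = true := by decide +kernel
theorem c65_75 : allRange (fun i => Nat.beq (act65 i) i) 69225 923 = true := by decide +kernel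
theorem c65_76 : allRange (fun i => Nat.beq (act65 i) i) 70148 923 = true := by decide +kernel
theorem c65_77 : allRange (fun i => Nat.beq (act65 i) i) 71071 923 = true := by decide +kernel
theorem c65_78 : allRange (fun i => Nat.beq (act65 i) i) 71994 923 = true := by decide +kernel
theorem c65_79 : allRange (fun i => Nat.beq (act65 i) i) 72917 923 = true := by decide +kernel
theorem c65_80 : allRange (fun i => Nat.beq (act65 i) i) 73840 923 = true := by decide +kernel
theorem c65_81 : allRange (fun i => Nat.beq (act65 i) i) 74763 923 = true := by decide +kernel
theorem c65_82 : allRange (fun i => Nat.beq (act65 i) i) 75686 923 = true := by decide +kernel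
theorem c65_83 : allRange (fun i => Nat.beq (act65 i) i) 76609 923 = true := by decide +kernel
theorem c65_84 : allRange (fun i => Nat.beq (act65 i) i) 77532 923 = true := by decide +kernel
theorem c65_85 : allRange (fun i => Nat.beq (act65 i) i) 78455 923 = true := by decide +kernel
theorem c65_86 : allRange (fun i => Nat.beq (act65 i) i) 79378 923 = true := by decide +kernel
theorem c65_87 : allRange (fun i => Nat.beq (act65 i) i) 80301 923 = true := by decide +kernel
theorem c65_88 : allRange (fun i => Nat.beq (act65 i) i) 81224 923 = true := by decide +kernel
theorem c65_89 : allRange (fun i => Nat.beq (act65 i) i) 82147 923 = true := by decide +kernel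
theorem c65_90 : allRange (fun i => Nat.beq (act65 i) i) 83070 923 = true := by decide +kernel
theorem c65_91 : allRange (fun i => Nat.beq (act65 i) i) 83993 923 = true := by decide +kernel
theorem c65_92 : allRange (fun i => Nat.beq (act65 i) i) 84916 923 = true := by decide +kernel
theorem c65_93 : allRange (fun i => Nat.beq (act65 i) i) 85839 923 = true := by decide +kernel
theorem c65_94 : allRange (fun i => Nat.beq (act65 i) i) 86762 923 = true := by decide +kernel
theorem c65_95 : allRange (fun i => Nat.beq (act65 i) i) 87685 923 = true := by decide +kernel
theorem c65_96 : allRange (fun i => Nat.beq (act65 i) i) 88608 923 = true := by decide +kernel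
theorem c65_97 : allRange (fun i => Nat.beq (act65 i) i) 89531 923 = true := by decide +kernel
theorem c65_98 : allRange (fun i => Nat.beq (act65 i) i) 90454 923 = true := by decide +kernel
theorem c65_99 : allRange (fun i => Nat.beq (act65 i) i) 91377 923 = true := by decide +kernel
theorem c65_100 : allRange (fun i => Nat.beq (act65 i) i) 92300 923 = true := by decide +kernel
theorem c65_101 : allRange (fun i => Nat.beq (act65 i) i) 93223 923 = true := by decide +kernel
theorem c65_102 : allRange (fun i => Nat.beq (act65 i) i) 94146 923 = true := by decide +kernel
theorem c65_103 : allRange (fun i => Nat.beq (act65 i) i) 95069 923 = true := by decide +kernel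
theorem c65_104 : allRange (fun i => Nat.beq (act65 i) i) 95992 923 = true := by decide +kernel
theorem c65_105 : allRange (fun i => Nat.beq (act65 i) i) 96915 923 = true := by decide +kernel
theorem c65_106 : allRange (fun i => Nat.beq (act65 i) i) 97838 923 = true := by decide +kernel
theorem c65_107 : allRange (fun i => Nat.beq (act65 i) i) 98761 923 = true := by decide +kernel
theorem c65_108 : allRange (fun i => Nat.beq (act65 i) i) 99684 923 = true := by decide +kernel
theorem c65_109 : allRange (fun i => Nat.beq (act65 i) i) 100607 923 = true := by decide +kernel
theorem c65_110 : allRange (fun i => Nat.beq (act65 i) i) 101530 923 = true := by decide +kernel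
theorem c65_111 : allRange (fun i => Nat.beq (act65 i) i) 102453 923 = true := by decide +kernel
theorem c65_112 : allRange (fun i => Nat.beq (act65 i) i) 103376 923 = true := by decide +kernel
theorem c65_113 : allRange (fun i => Nat.beq (act65 i) i) 104299 923 = true := by decide +kernel
theorem c65_114 : allRange (fun i => Nat.beq (act65 i) i) 105222 923 = true := by decide +kernel
theorem c65_115 : allRange (fun i => Nat.beq (act65 i) i) 106145 923 = true := by decide +kernel
theorem c65_116 : allRange (fun i => Nat.beq (act65 i) i) 107068 923 = true := by decide +kernel
theorem c65_117 : allRange (fun i => Nat.beq (act65 i) i) 107991 923 = true := by decide +kernel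
theorem c65_118 : allRange (fun i => Nat.beq (act65 i) i) 108914 923 = true := by decide +kernel
theorem c65_119 : allRange (fun i => Nat.beq (act65 i) i) 109837 923 = true := by decide +kernel
theorem c65_120 : allRange (fun i => Nat.beq (act65 i) i) 110760 923 = true := by decide +kernel
theorem c65_121 : allRange (fun i => Nat.beq (act65 i) i) 111683 923 = true := by decide +kernel
theorem c65_122 : allRange (fun i => Nat.beq (act65 i) i) 112606 923 = true := by decide +kernel
theorem c65_123 : allRange (fun i => Nat.beq (act65 i) i) 113529 923 = true := by decide +kernel
theorem c65_124 : allRange (fun i => Nat.beq (act65 i) i) 114452 923 = true := by decide +kernel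
theorem c65_125 : allRange (fun i => Nat.beq (act65 i) i) 115375 923 = true := by decide +kernel
theorem c65_126 : allRange (fun i => Nat.beq (act65 i) i) 116298 923 = true := by decide +kernel
theorem c65_127 : allRange (fun i => Nat.beq (act65 i) i) 117221 923 = true := by decide +kernel
theorem c65_128 : allRange (fun i => Nat.beq (act65 i) i) 118144 923 = true := by decide +kernel
theorem c65_129 : allRange (fun i => Nat.beq (act65 i) i) 119067 923 = true := by decide +kernel
theorem c65_130 : allRange (fun i => Nat.beq (act65 i) i) 119990 923 = true := by decide +kernel
theorem c65_131 : allRange (fun i => Nat.beq (act65 i) i) 120913 923 = true := by decide +kernel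
theorem c65_132 : allRange (fun i => Nat.beq (act65 i) i) 121836 923 = true := by decide +kernel
theorem c65_133 : allRange (fun i => Nat.beq (act65 i) i) 122759 923 = true := by decide +kernel
theorem c65_134 : allRange (fun i => Nat.beq (act65 i) i) 123682 923 = true := by decide +kernel
theorem c65_135 : allRange (fun i => Nat.beq (act65 i) i) 124605 923 = true := by decide +kernel
theorem c65_136 : allRange (fun i => Nat.beq (act65 i) i) 125528 923 = true := by decide +kernel
theorem c65_137 : allRange (fun i => Nat.beq (act65 i) i) 126451 923 = true := by decide +kernel
theorem c65_138 : allRange (fun i => Nat.beq (act65 i) i) 127374 923 = true := by decide +kernel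
theorem c65_139 : allRange (fun i => Nat.beq (act65 i) i) 128297 923 = true := by decide +kernel
theorem c65_140 : allRange (fun i => Nat.beq (act65 i) i) 129220 923 = true := by decide +kernel
theorem c65_141 : allRange (fun i => Nat.beq (act65 i) i) 130143 923 = true := by decide +kernel
theorem c65_142 : allRange (fun i => Nat.beq (act65 i) i) 131066 923 = true := by decide +kernel
theorem c65_143 : allRange (fun i => Nat.beq (act65 i) i) 131989 923 = true := by decide +kernel
theorem c65_144 : allRange (fun i => Nat.beq (act65 i) i) 132912 923 = true := by decide +kernel
theorem c65_145 : allRange (fun i => Nat.beq (act65 i) i) 133835 923 = true := by decide +kernel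
theorem c65_146 : allRange (fun i => Nat.beq (act65 i) i) 134758 923 = true := by decide +kernel
theorem c65_147 : allRange (fun i => Nat.beq (act65 i) i) 135681 923 = true := by decide +kernel
theorem c65_148 : allRange (fun i => Nat.beq (act65 i) i) 136604 923 = true := by decide +kernel
theorem c65_149 : allRange (fun i => Nat.beq (act65 i) i) 137527 923 = true := by decide +kernel
theorem c65_150 : allRange (fun i => Nat.beq (act65 i) i) 138450 923 = true := by decide +kernel
theorem c65_151 : allRange (fun i => Nat.beq (act65 i) i) 139373 923 = true := by decide +kernel
theorem c65_152 : allRange (fun i => Nat.beq (act65 i) i) 140296 923 = true := by decide +kernel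
theorem c65_153 : allRange (fun i => Nat.beq (act65 i) i) 141219 923 = true := by decide +kernel
theorem c65_154 : allRange (fun i => Nat.beq (act65 i) i) 142142 923 = true := by decide +kernel
theorem c65_155 : allRange (fun i => Nat.beq (act65 i) i) 143065 923 = true := by decide +kernel
theorem c65_156 : allRange (fun i => Nat.beq (act65 i) i) 143988 923 = true := by decide +kernel
theorem c65_157 : allRange (fun i => Nat.beq (act65 i) i) 144911 923 = true := by decide +kernel
theorem c65_158 : allRange (fun i => Nat.beq (act65 i) i) 145834 923 = true := by decide +kernel
theorem c65_159 : allRange (fun i => Nat.beq (act65 i) i) 146757 923 = true := by decide +kernel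
theorem c65_160 : allRange (fun i => Nat.beq (act65 i) i) 147680 923 = true := by decide +kernel
theorem c65_161 : allRange (fun i => Nat.beq (act65 i) i) 148603 923 = true := by decide +kernel
theorem c65_162 : allRange (fun i => Nat.beq (act65 i) i) 149526 923 = true := by decide +kernel
theorem c65_163 : allRange (fun i => Nat.beq (act65 i) i) 150449 923 = true := by decide +kernel
theorem c65_164 : allRange (fun i => Nat.beq (act65 i) i) 151372 923 = true := by decide +kernel
theorem c65_165 : allRange (fun i => Nat.beq (act65 i) i) 152295 923 = true := by decide +kernel
theorem c65_166 : allRange (fun i => Nat.beq (act65 i) i) 153218 923 = true := by decide +kernel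
theorem c65_167 : allRange (fun i => Nat.beq (act65 i) i) 154141 923 = true := by decide +kernel
theorem c65_168 : allRange (fun i => Nat.beq (act65 i) i) 155064 923 = true := by decide +kernel
theorem c65_169 : allRange (fun i => Nat.beq (act65 i) i) 155987 923 = true := by decide +kernel
theorem c65_170 : allRange (fun i => Nat.beq (act65 i) i) 156910 923 = true := by decide +kernel
theorem c65_171 : allRange (fun i => Nat.beq (act65 i) i) 157833 923 = true := by decide +kernel
theorem c65_172 : allRange (fun i => Nat.beq (act65 i) i) 158756 923 = true := by decide +kernel
theorem c65_173 : allRange (fun i => Nat.beq (act65 i) i) 159679 923 = true := by decide +kernel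
theorem c65_174 : allRange (fun i => Nat.beq (act65 i) i) 160602 923 = true := by decide +kernel
theorem c65_175 : allRange (fun i => Nat.beq (act65 i) i) 161525 923 = true := by decide +kernel
theorem c65_176 : allRange (fun i => Nat.beq (act65 i) i) 162448 923 = true := by decide +kernel
theorem c65_177 : allRange (fun i => Nat.beq (act65 i) i) 163371 923 = true := by decide +kernel
theorem c65_178 : allRange (fun i => Nat.beq (act65 i) i) 164294 923 = true := by decide +kernel
theorem c65_179 : allRange (fun i => Nat.beq (act65 i) i) 165217 923 = true := by decide +kernel
theorem c65_180 : allRange (fun i => Nat.beq (act65 i) i) 166140 923 = true := by decide +kernel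
theorem c65_181 : allRange (fun i => Nat.beq (act65 i) i) 167063 923 = true := by decide +kernel
theorem c65_182 : allRange (fun i => Nat.beq (act65 i) i) 167986 923 = true := by decide +kernel
theorem c65_183 : allRange (fun i => Nat.beq (act65 i) i) 168909 923 = true := by decide +kernel
theorem c65_184 : allRange (fun i => Nat.beq (act65 i) i) 169832 923 = true := by decide +kernel
theorem c65_185 : allRange (fun i => Nat.beq (act65 i) i) 170755 923 = true := by decide +kernel
theorem c65_186 : allRange (fun i => Nat.beq (act65 i) i) 171678 923 = true := by decide +kernel
theorem c65_187 : allRange (fun i => Nat.beq (act65 i) i) 172601 923 = true := by decide +kernel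
theorem c65_188 : allRange (fun i => Nat.beq (act65 i) i) 173524 923 = true := by decide +kernel
theorem c65_189 : allRange (fun i => Nat.beq (act65 i) i) 174447 923 = true := by decide +kernel
theorem c65_190 : allRange (fun i => Nat.beq (act65 i) i) 175370 923 = true := by decide +kernel
theorem c65_191 : allRange (fun i => Nat.beq (act65 i) i) 176293 923 = true := by decide +kernel
theorem c65_192 : allRange (fun i => Nat.beq (act65 i) i) 177216 923 = true := by decide +kernel
theorem c65_193 : allRange (fun i => Nat.beq (act65 i) i) 178139 923 = true := by decide +kernel
theorem c65_194 : allRange (fun i => Nat.beq (act65 i) i) 179062 923 = true := by decide +kernel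
theorem c65_195 : allRange (fun i => Nat.beq (act65 i) i) 179985 923 = true := by decide +kernel
theorem c65_196 : allRange (fun i => Nat.beq (act65 i) i) 180908 923 = true := by decide +kernel
theorem c65_197 : allRange (fun i => Nat.beq (act65 i) i) 181831 923 = true := by decide +kernel
theorem c65_198 : allRange (fun i => Nat.beq (act65 i) i) 182754 923 = true := by decide +kernel
theorem c65_199 : allRange (fun i => Nat.beq (act65 i) i) 183677 923 = true := by decide +kernel
theorem c65_200 : allRange (fun i => Nat.beq (act65 i) i) 184600 728 = true := by decide +kernel
theorem h65 : ∀ i, i < T.N → Tab.relActOK T D chk65 i = true := by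
  intro i hi
  rw [Tab.relActOK, ← act65_eq]
  exact (range_glue (range_of_allRange c65_0) (range_glue (range_of_allRange c65_1) (range_glue (range_of_allRange c65_2) (range_glue (range_of_allRange c65_3) (range_glue (range_of_allRange c65_4) (range_glue (range_of_allRange c65_5) (range_glue (range_of_allRange c65_6) (range_glue (range_of_allRange c65_7) (range_glue (range_of_allRange c65_8) (range_glue (range_of_allRange c65_9) (range_glue (range_of_allRange c65_10) (range_glue (range_of_allRange c65_11) (range_glue (range_of_allRange c65_12) (range_glue (range_of_allRange c65_13) (range_glue (range_of_allRange c65_14) (range_glue (range_of_allRange c65_15) (range_glue (range_of_allRange c65_16) (range_glue (range_of_allRange c65_17) (range_glue (range_of_allRange c65_18) (range_glue (range_of_allRange c65_19) (range_glue (range_of_allRange c65_20) (range_glue (range_of_allRange c65_21) (range_glue (range_of_allRange c65_22) (range_glue (range_of_allRange c65_23) (range_glue (range_of_allRange c65_24) (range_glue (range_of_allRange c65_25) (range_glue (range_of_allRange c65_26) (range_glue (range_of_allRange c65_27) (range_glue (range_of_allRange c65_28) (range_glue (range_of_allRange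 c65_29) (range_glue (range_of_allRange c65_30) (range_glue (range_of_allRange c65_31) (range_glue (range_of_allRange c65_32) (range_glue (range_of_allRange c65_33) (range_glue (range_of_allRange c65_34) (range_glue (range_of_allRange c65_35) (range_glue (range_of_allRange c65_36) (range_glue (range_of_allRange c65_37) (range_glue (range_of_allRange c65_38) (range_glue (range_of_allRange c65_39) (range_glue (range_of_allRange c65_40) (range_glue (range_of_allRange c65_41) (range_glue (range_of_allRange c65_42) (range_glue (range_of_allRange c65_43) (range_glue (range_of_allRange c65_44) (range_glue (range_of_allRange c65_45) (range_glue (range_of_allRange c65_46) (range_glue (range_of_allRange c65_47) (range_glue (range_of_allRange c65_48) (range_glue (range_of_allRange c65_49) (range_glue (range_of_allRange c65_50) (range_glue (range_of_allRange c65_51) (range_glue (range_of_allRange c65_52) (range_glue (range_of_allRange c65_53) (range_glue (range_of_allRange c65_54) (range_glue (range_of_allRange c65_55) (range_glue (range_of_allRange c65_56) (range_glue (range_of_allRange c65_57) (range_glue (range_of_allRange c65_58) (range_glue (range_of_allRange c65_59) (range_glue (range_of_allRange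 c65_60) (range_glue (range_of_allRange c65_61) (range_glue (range_of_allRange c65_62) (range_glue (range_of_allRange c65_63) (range_glue (range_of_allRange c65_64) (range_glue (range_of_allRange c65_65) (range_glue (range_of_allRange c65_66) (range_glue (range_of_allRange c65_67) (range_glue (range_of_allRange c65_68) (range_glue (range_of_allRange c65_69) (range_glue (range_of_allRange c65_70) (range_glue (range_of_allRange c65_71) (range_glue (range_of_allRange c65_72) (range_glue (range_of_allRange c65_73) (range_glue (range_of_allRange c65_74) (range_glue (range_of_allRange c65_75) (range_glue (range_of_allRange c65_76) (range_glue (range_of_allRange c65_77) (range_glue (range_of_allRange c65_78) (range_glue (range_of_allRange c65_79) (range_glue (range_of_allRange c65_80) (range_glue (range_of_allRange c65_81) (range_glue (range_of_allRange c65_82) (range_glue (range_of_allRange c65_83) (range_glue (range_of_allRange c65_84) (range_glue (range_of_allRange c65_85) (range_glue (range_of_allRange c65_86) (range_glue (range_of_allRange c65_87) (range_glue (range_of_allRange c65_88) (range_glue (range_of_allRange c65_89) (range_glue (range_of_allRange c65_90) (range_glue (range_of_allRange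 c65_91) (range_glue (range_of_allRange c65_92) (range_glue (range_of_allRange c65_93) (range_glue (range_of_allRange c65_94) (range_glue (range_of_allRange c65_95) (range_glue (range_of_allRange c65_96) (range_glue (range_of_allRange c65_97) (range_glue (range_of_allRange c65_98) (range_glue (range_of_allRange c65_99) (range_glue (range_of_allRange c65_100) (range_glue (range_of_allRange c65_101) (range_glue (range_of_allRange c65_102) (range_glue (range_of_allRange c65_103) (range_glue (range_of_allRange c65_104) (range_glue (range_of_allRange c65_105) (range_glue (range_of_allRange c65_106) (range_glue (range_of_allRange c65_107) (range_glue (range_of_allRange c65_108) (range_glue (range_of_allRange c65_109) (range_glue (range_of_allRange c65_110) (range_glue (range_of_allRange c65_111) (range_glue (range_of_allRange c65_112) (range_glue (range_of_allRange c65_113) (range_glue (range_of_allRange c65_114) (range_glue (range_of_allRange c65_115) (range_glue (range_of_allRange c65_116) (range_glue (range_of_allRange c65_117) (range_glue (range_of_allRange c65_118) (range_glue (range_of_allRange c65_119) (range_glue (range_of_allRange c65_120) (range_glue (range_of_allRange c65_121) (range_glue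 (range_of_allRange c65_122) (range_glue (range_of_allRange c65_123) (range_glue (range_of_allRange c65_124) (range_glue (range_of_allRange c65_125) (range_glue (range_of_allRange c65_126) (range_glue (range_of_allRange c65_127) (range_glue (range_of_allRange c65_128) (range_glue (range_of_allRange c65_129) (range_glue (range_of_allRange c65_130) (range_glue (range_of_allRange c65_131) (range_glue (range_of_allRange c65_132) (range_glue (range_of_allRange c65_133) (range_glue (range_of_allRange c65_134) (range_glue (range_of_allRange c65_135) (range_glue (range_of_allRange c65_136) (range_glue (range_of_allRange c65_137) (range_glue (range_of_allRange c65_138) (range_glue (range_of_allRange c65_139) (range_glue (range_of_allRange c65_140) (range_glue (range_of_allRange c65_141) (range_glue (range_of_allRange c65_142) (range_glue (range_of_allRange c65_143) (range_glue (range_of_allRange c65_144) (range_glue (range_of_allRange c65_145) (range_glue (range_of_allRange c65_146) (range_glue (range_of_allRange c65_147) (range_glue (range_of_allRange c65_148) (range_glue (range_of_allRange c65_149) (range_glue (range_of_allRange c65_150) (range_glue (range_of_allRange c65_151) (range_glue (range_of_allRange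 c65_152) (range_glue (range_of_allRange c65_153) (range_glue (range_of_allRange c65_154) (range_glue (range_of_allRange c65_155) (range_glue (range_of_allRange c65_156) (range_glue (range_of_allRange c65_157) (range_glue (range_of_allRange c65_158) (range_glue (range_of_allRange c65_159) (range_glue (range_of_allRange c65_160) (range_glue (range_of_allRange c65_161) (range_glue (range_of_allRange c65_162) (range_glue (range_of_allRange c65_163) (range_glue (range_of_allRange c65_164) (range_glue (range_of_allRange c65_165) (range_glue (range_of_allRange c65_166) (range_glue (range_of_allRange c65_167) (range_glue (range_of_allRange c65_168) (range_glue (range_of_allRange c65_169) (range_glue (range_of_allRange c65_170) (range_glue (range_of_allRange c65_171) (range_glue (range_of_allRange c65_172) (range_glue (range_of_allRange c65_173) (range_glue (range_of_allRange c65_174) (range_glue (range_of_allRange c65_175) (range_glue (range_of_allRange c65_176) (range_glue (range_of_allRange c65_177) (range_glue (range_of_allRange c65_178) (range_glue (range_of_allRange c65_179) (range_glue (range_of_allRange c65_180) (range_glue (range_of_allRange c65_181) (range_glue (range_of_allRange c65_182)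 (range_glue (range_of_allRange c65_183) (range_glue (range_of_allRange c65_184) (range_glue (range_of_allRange c65_185) (range_glue (range_of_allRange c65_186) (range_glue (range_of_allRange c65_187) (range_glue (range_of_allRange c65_188) (range_glue (range_of_allRange c65_189) (range_glue (range_of_allRange c65_190) (range_glue (range_of_allRange c65_191) (range_glue (range_of_allRange c65_192) (range_glue (range_of_allRange c65_193) (range_glue (range_of_allRange c65_194) (range_glue (range_of_allRange c65_195) (range_glue (range_of_allRange c65_196) (range_glue (range_of_allRange c65_197) (range_glue (range_of_allRange c65_198) (range_glue (range_of_allRange c65_199) (range_of_allRange c65_200))))))))))))))))))))))))))))))))))))))))))))))))))))))))))))))))))))))))))))))))))))))))))))))))))))))))))))))))))))))))))))))))))))))))))))))))))))))))))))))))))))))))))))))))))))))))))))))))))))))))) i (Nat.zero_le _) hi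

end Cfsg.Agent.Lib.Helper4.TCD.SC3Fi22yp3W
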