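import Cfsg.Agent.Lib.Helper4.TCD_C3Fi22yR_Acc
import Cfsg.Agent.Lib.Helper4.TC13

namespace Cfsg.Agent.Lib.Helper4.TCD.SC3Fi22yp3W

open Cfsg.Agent.Lib.Helper4.TC Cfsg.Agent.Lib.Helper4.TCD.C3Fi22yR

set_option maxRecDepth 100000
set_option Elab.async false

def chk3 : List Nat := [8, 8]
noncomputable def act3 (i : Nat) : Nat := col9 (col9 (i))
theorem act3_eq (i : Nat) : act3 i = Tab.act T D chk3 i := rfl
theorem c3_0 : allRange (fun i => Nat.beq (act3 i) i) 0 15000 = true := by decide +kernel
theorem c3_1 : allRange (fun i => Nat.beq (act3 i) i) 15000 15000 = true := by decide +kernel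
theorem c3_2 : allRange (fun i => Nat.beq (act3 i) i) 30000 15000 = true := by decide +kernel
theorem c3_3 : allRange (fun i => Nat.beq (act3 i) i) 45000 15000 = true := by decide +kernel
theorem c3_4 : allRange (fun i => Nat.beq (act3 i) i) 60000 15000 = true := by decide +kernel
theorem c3_5 : allRange (fun i => Nat.beq (act3 i) i) 75000 15000 = true := by decide +kernel
theorem c3_6 : allRange (fun i => Nat.beq (act3 i) i) 90000 15000 = true := by decide +kernel
theorem c3_7 : allRange (fun i => Nat.beq (act3 i) i) 105000 15000 = true := by decide +kernel
theorem c3_8 : allRange (fun i => Nat.beq (act3 i) i) 120000 15000 = true := by decide +kernel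
theorem c3_9 : allRange (fun i => Nat.beq (act3 i) i) 135000 15000 = true := by decide +kernel
theorem c3_10 : allRange (fun i => Nat.beq (act3 i) i) 150000 15000 = true := by decide +kernel
theorem c3_11 : allRange (fun i => Nat.beq (act3 i) i) 165000 15000 = true := by decide +kernel
theorem c3_12 : allRange (fun i => Nat.beq (act3 i) i) 180000 5328 = true := by decide +kernel
theorem h3 : ∀ i, i < T.N → Tab.relActOK T D chk3 i = true := by
  intro i hi
  rw [Tab.relActOK, ← act3_eq]
  exact (range_glue (range_of_allRange c3_0) (range_glue (range_of_allRange c3_1) (range_glue (range_of_allRange c3_2) (range_glue (range_of_allRange c3_3) (range_glue (range_of_allRange c3_4) (range_glue (range_of_allRange c3_5) (range_glue (range_of_allRange c3_6) (range_glue (range_of_allRange c3_7) (range_glue (range_of_allRange c3_8) (range_glue (range_of_allRange c3_9) (range_glue (range_of_allRange c3_10) (range_glue (range_of_allRange c3_11) (range_of_allRange c3_12))))))))))))) i (Nat.zero_le _) hi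

def chk10 : List Nat := [0, 2, 0, 2, 0, 2]
noncomputable def act10 (i : Nat) : Nat := col1 (col3 (col1 (col3 (col1 (col3 (i))))))
theorem act10_eq (i : Nat) : act10 i = Tab.act T D chk10 i := rfl
theorem c10_0 : allRange (fun i => Nat.beq (act10 i) i) 0 7500 = true := by decide +kernel
theorem c10_1 : allRange (fun i => Nat.beq (act10 i) i) 7500 7500 = true := by decide +kernel
theorem c10_2 : allRange (fun i => Nat.beq (act10 i) i) 15000 7500 = true := by decide +kernel
theorem c10_3 : allRange (fun i => Nat.beq (act10 i) i) 22500 7500 = true := by decide +kernel
theorem c10_4 : allRange (fun i => Nat.beq (act10 i) i) 30000 7500 = true := by decide +kernel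
theorem c10_5 : allRange (fun i => Nat.beq (act10 i) i) 37500 7500 = true := by decide +kernel
theorem c10_6 : allRange (fun i => Nat.beq (act10 i) i) 45000 7500 = true := by decide +kernel
theorem c10_7 : allRange (fun i => Nat.beq (act10 i) i) 52500 7500 = true := by decide +kernel
theorem c10_8 : allRange (fun i => Nat.beq (act10 i) i) 60000 7500 = true := by decide +kernel
theorem c10_9 : allRange (fun i => Nat.beq (act10 i) i) 67500 7500 = true := by decide +kernel
theorem c10_10 : allRange (fun i => Nat.beq (act10 i) i) 75000 7500 = true := by decide +kernel
theorem c10_11 : allRange (fun i => Nat.beq (act10 i) i) 82500 7500 = true := by decide +kernel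
theorem c10_12 : allRange (fun i => Nat.beq (act10 i) i) 90000 7500 = true := by decide +kernel
theorem c10_13 : allRange (fun i => Nat.beq (act10 i) i) 97500 7500 = true := by decide +kernel
theorem c10_14 : allRange (fun i => Nat.beq (act10 i) i) 105000 7500 = true := by decide +kernel
theorem c10_15 : allRange (fun i => Nat.beq (act10 i) i) 112500 7500 = true := by decide +kernel
theorem c10_16 : allRange (fun i => Nat.beq (act10 i) i) 120000 7500 = true := by decide +kernel
theorem c10_17 : allRange (fun i => Nat.beq (act10 i) i) 127500 7500 = true := by decide +kernel
theorem c10_18 : allRange (fun i => Nat.beq (act10 i) i) 135000 7500 = true := by decide +kernel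
theorem c10_19 : allRange (fun i => Nat.beq (act10 i) i) 142500 7500 = true := by decide +kernel
theorem c10_20 : allRange (fun i => Nat.beq (act10 i) i) 150000 7500 = true := by decide +kernel
theorem c10_21 : allRange (fun i => Nat.beq (act10 i) i) 157500 7500 = true := by decide +kernel
theorem c10_22 : allRange (fun i => Nat.beq (act10 i) i) 165000 7500 = true := by decide +kernel
theorem c10_23 : allRange (fun i => Nat.beq (act10 i) i) 172500 7500 = true := by decide +kernel
theorem c10_24 : allRange (fun i => Nat.beq (act10 i) i) 180000 5328 = true := by decide +kernel
theorem h10 : ∀ i, i < T.N → Tab.relActOK T D chk10 i = true := by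
  intro i hi
  rw [Tab.relActOK, ← act10_eq]
  exact (range_glue (range_of_allRange c10_0) (range_glue (range_of_allRange c10_1) (range_glue (range_of_allRange c10_2) (range_glue (range_of_allRange c10_3) (range_glue (range_of_allRange c10_4) (range_glue (range_of_allRange c10_5) (range_glue (range_of_allRange c10_6) (range_glue (range_of_allRange c10_7) (range_glue (range_of_allRange c10_8) (range_glue (range_of_allRange c10_9) (range_glue (range_of_allRange c10_10) (range_glue (range_of_allRange c10_11) (range_glue (range_of_allRange c10_12) (range_glue (range_of_allRange c10_13) (range_glue (range_of_allRange c10_14) (range_glue (range_of_allRange c10_15) (range_glue (range_of_allRange c10_16) (range_glue (range_of_allRange c10_17) (range_glue (range_of_allRange c10_18) (range_glue (range_of_allRange c10_19) (range_glue (range_of_allRange c10_20) (range_glue (range_of_allRange c10_21) (range_glue (range_of_allRange c10_22) (range_glue (range_of_allRange c10_23) (range_of_allRange c10_24))))))))))))))))))))))))) i (Nat.zero_le _) hi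

def chk15 : List Nat := [0, 12, 0, 12]
noncomputable def act15 (i : Nat) : Nat := col1 (col13 (col1 (col13 (i))))
theorem act15_eq (i : Nat) : act15 i = Tab.act T D chk15 i := rfl
theorem c15_0 : allRange (fun i => Nat.beq (act15 i) i) 0 10000 = true := by decide +kernel
theorem c15_1 : allRange (fun i => Nat.beq (act15 i) i) 10000 10000 = true := by decide +kernel
theorem c15_2 : allRange (fun i => Nat.beq (act15 i) i) 20000 10000 = true := by decide +kernel
theorem c15_3 : allRange (fun i => Nat.beq (act15 i) i) 30000 10000 = true := by decide +kernel
theorem c15_4 : allRange (fun i => Nat.beq (act15 i) i) 40000 10000 = true := by decide +kernel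
theorem c15_5 : allRange (fun i => Nat.beq (act15 i) i) 50000 10000 = true := by decide +kernel
theorem c15_6 : allRange (fun i => Nat.beq (act15 i) i) 60000 10000 = true := by decide +kernel
theorem c15_7 : allRange (fun i => Nat.beq (act15 i) i) 70000 10000 = true := by decide +kernel
theorem c15_8 : allRange (fun i => Nat.beq (act15 i) i) 80000 10000 = true := by decide +kernel
theorem c15_9 : allRange (fun i => Nat.beq (act15 i) i) 90000 10000 = true := by decide +kernel
theorem c15_10 : allRange (fun i => Nat.beq (act15 i) i) 100000 10000 = true := by decide +kernel
theorem c15_11 : allRange (fun i => Nat.beq (act15 i) i) 110000 10000 = true := by decide +kernel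
theorem c15_12 : allRange (fun i => Nat.beq (act15 i) i) 120000 10000 = true := by decide +kernel
theorem c15_13 : allRange (fun i => Nat.beq (act15 i) i) 130000 10000 = true := by decide +kernel
theorem c15_14 : allRange (fun i => Nat.beq (act15 i) i) 140000 10000 = true := by decide +kernel
theorem c15_15 : allRange (fun i => Nat.beq (act15 i) i) 150000 10000 = true := by decide +kernel
theorem c15_16 : allRange (fun i => Nat.beq (act15 i) i) 160000 10000 = true := by decide +kernel
theorem c15_17 : allRange (fun i => Nat.beq (act15 i) i) 170000 10000 = true := by decide +kernel
theorem c15_18 : allRange (fun i => Nat.beq (act15 i) i) 180000 5328 = true := by decide +kernel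
theorem h15 : ∀ i, i < T.N → Tab.relActOK T D chk15 i = true := by
  intro i hi
  rw [Tab.relActOK, ← act15_eq]
  exact (range_glue (range_of_allRange c15_0) (range_glue (range_of_allRange c15_1) (range_glue (range_of_allRange c15_2) (range_glue (range_of_allRange c15_3) (range_glue (range_of_allRange c15_4) (range_glue (range_of_allRange c15_5) (range_glue (range_of_allRange c15_6) (range_glue (range_of_allRange c15_7) (range_glue (range_of_allRange c15_8) (range_glue (range_of_allRange c15_9) (range_glue (range_of_allRange c15_10) (range_glue (range_of_allRange c15_11) (range_glue (range_of_allRange c15_12) (range_glue (range_of_allRange c15_13) (range_glue (range_of_allRange c15_14) (range_glue (range_of_allRange c15_15) (range_glue (range_of_allRange c15_16) (range_glue (range_of_allRange c15_17) (range_of_allRange c15_18))))))))))))))))))) i (Nat.zero_le _) hi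

def chk23 : List Nat := [2, 8, 2, 8]
noncomputable def act23 (i : Nat) : Nat := col3 (col9 (col3 (col9 (i))))
theorem act23_eq (i : Nat) : act23 i = Tab.act T D chk23 i := rfl
theorem c23_0 : allRange (fun i => Nat.beq (act23 i) i) 0 10000 = true := by decide +kernel
theorem c23_1 : allRange (fun i => Nat.beq (act23 i) i) 10000 10000 = true := by decide +kernel
theorem c23_2 : allRange (fun i => Nat.beq (act23 i) i) 20000 10000 = true := by decide +kernel
theorem c23_3 : allRange (fun i => Nat.beq (act23 i) i) 30000 10000 = true := by decide +kernel
theorem c23_4 : allRange (fun i => Nat.beq (act23 i) i) 40000 10000 = true := by decide +kernel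
theorem c23_5 : allRange (fun i => Nat.beq (act23 i) i) 50000 10000 = true := by decide +kernel
theorem c23_6 : allRange (fun i => Nat.beq (act23 i) i) 60000 10000 = true := by decide +kernel
theorem c23_7 : allRange (fun i => Nat.beq (act23 i) i) 70000 10000 = true := by decide +kernel
theorem c23_8 : allRange (fun i => Nat.beq (act23 i) i) 80000 10000 = true := by decide +kernel
theorem c23_9 : allRange (fun i => Nat.beq (act23 i) i) 90000 10000 = true := by decide +kernel
theorem c23_10 : allRange (fun i => Nat.beq (act23 i) i) 100000 10000 = true := by decide +kernel
theorem c23_11 : allRange (fun i => Nat.beq (act23 i) i) 110000 10000 = true := by decide +kernel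
theorem c23_12 : allRange (fun i => Nat.beq (act23 i) i) 120000 10000 = true := by decide +kernel
theorem c23_13 : allRange (fun i => Nat.beq (act23 i) i) 130000 10000 = true := by decide +kernel
theorem c23_14 : allRange (fun i => Nat.beq (act23 i) i) 140000 10000 = true := by decide +kernel
theorem c23_15 : allRange (fun i => Nat.beq (act23 i) i) 150000 10000 = true := by decide +kernel
theorem c23_16 : allRange (fun i => Nat.beq (act23 i) i) 160000 10000 = true := by decide +kernel
theorem c23_17 : allRange (fun i => Nat.beq (act23 i) i) 170000 10000 = true := by decide +kernel
theorem c23_18 : allRange (fun i => Nat.beq (act23 i) i) 180000 5328 = true := by decide +kernel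
theorem h23 : ∀ i, i < T.N → Tab.relActOK T D chk23 i = true := by
  intro i hi
  rw [Tab.relActOK, ← act23_eq]
  exact (range_glue (range_of_allRange c23_0) (range_glue (range_of_allRange c23_1) (range_glue (range_of_allRange c23_2) (range_glue (range_of_allRange c23_3) (range_glue (range_of_allRange c23_4) (range_glue (range_of_allRange c23_5) (range_glue (range_of_allRange c23_6) (range_glue (range_of_allRange c23_7) (range_glue (range_of_allRange c23_8) (range_glue (range_of_allRange c23_9) (range_glue (range_of_allRange c23_10) (range_glue (range_of_allRange c23_11) (range_glue (range_of_allRange c23_12) (range_glue (range_of_allRange c23_13) (range_glue (range_of_allRange c23_14) (range_glue (range_of_allRange c23_15) (range_glue (range_of_allRange c23_16) (range_glue (range_of_allRange c23_17) (range_of_allRange c23_18))))))))))))))))))) i (Nat.zero_le _) hi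

def chk28 : List Nat := [4, 4]
noncomputable def act28 (i : Nat) : Nat := col5 (col5 (i))
theorem act28_eq (i : Nat) : act28 i = Tab.act T D chk28 i := rfl
theorem c28_0 : allRange (fun i => Nat.beq (act28 i) i) 0 15000 = true := by decide +kernel
theorem c28_1 : allRange (fun i => Nat.beq (act28 i) i) 15000 15000 = true := by decide +kernel
theorem c28_2 : allRange (fun i => Nat.beq (act28 i) i) 30000 15000 = true := by decide +kernel
theorem c28_3 : allRange (fun i => Nat.beq (act28 i) i) 45000 15000 = true := by decide +kernel
theorem c28_4 : allRange (fun i => Nat.beq (act28 i) i) 60000 15000 = true := by decide +kernel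
theorem c28_5 : allRange (fun i => Nat.beq (act28 i) i) 75000 15000 = true := by decide +kernel
theorem c28_6 : allRange (fun i => Nat.beq (act28 i) i) 90000 15000 = true := by decide +kernel
theorem c28_7 : allRange (fun i => Nat.beq (act28 i) i) 105000 15000 = true := by decide +kernel
theorem c28_8 : allRange (fun i => Nat.beq (act28 i) i) 120000 15000 = true := by decide +kernel
theorem c28_9 : allRange (fun i => Nat.beq (act28 i) i) 135000 15000 = true := by decide +kernel
theorem c28_10 : allRange (fun i => Nat.beq (act28 i) i) 150000 15000 = true := by decide +kernel
theorem c28_11 : allRange (fun i => Nat.beq (act28 i) i) 165000 15000 = true := by decide +kernel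
theorem c28_12 : allRange (fun i => Nat.beq (act28 i) i) 180000 5328 = true := by decide +kernel
theorem h28 : ∀ i, i < T.N → Tab.relActOK T D chk28 i = true := by
  intro i hi
  rw [Tab.relActOK, ← act28_eq]
  exact (range_glue (range_of_allRange c28_0) (range_glue (range_of_allRange c28_1) (range_glue (range_of_allRange c28_2) (range_glue (range_of_allRange c28_3) (range_glue (range_of_allRange c28_4) (range_glue (range_of_allRange c28_5) (range_glue (range_of_allRange c28_6) (range_glue (range_of_allRange c28_7) (range_glue (range_of_allRange c28_8) (range_glue (range_of_allRange c28_9) (range_glue (range_of_allRange c28_10) (range_glue (range_of_allRange c28_11) (range_of_allRange c28_12))))))))))))) i (Nat.zero_le _) hi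

def chk30 : List Nat := [4, 8, 4, 8]
noncomputable def act30 (i : Nat) : Nat := col5 (col9 (col5 (col9 (i))))
theorem act30_eq (i : Nat) : act30 i = Tab.act T D chk30 i := rfl
theorem c30_0 : allRange (fun i => Nat.beq (act30 i) i) 0 10000 = true := by decide +kernel
theorem c30_1 : allRange (fun i => Nat.beq (act30 i) i) 10000 10000 = true := by decide +kernel
theorem c30_2 : allRange (fun i => Nat.beq (act30 i) i) 20000 10000 = true := by decide +kernel
theorem c30_3 : allRange (fun i => Nat.beq (act30 i) i) 30000 10000 = true := by decide +kernel
theorem c30_4 : allRange (fun i => Nat.beq (act30 i) i) 40000 10000 = true := by decide +kernel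
theorem c30_5 : allRange (fun i => Nat.beq (act30 i) i) 50000 10000 = true := by decide +kernel
theorem c30_6 : allRange (fun i => Nat.beq (act30 i) i) 60000 10000 = true := by decide +kernel
theorem c30_7 : allRange (fun i => Nat.beq (act30 i) i) 70000 10000 = true := by decide +kernel
theorem c30_8 : allRange (fun i => Nat.beq (act30 i) i) 80000 10000 = true := by decide +kernel
theorem c30_9 : allRange (fun i => Nat.beq (act30 i) i) 90000 10000 = true := by decide +kernel
theorem c30_10 : allRange (fun i => Nat.beq (act30 i) i) 100000 10000 = true := by decide +kernel
theorem c30_11 : allRange (fun i => Nat.beq (act30 i) i) 110000 10000 = true := by decide +kernel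
theorem c30_12 : allRange (fun i => Nat.beq (act30 i) i) 120000 10000 = true := by decide +kernel
theorem c30_13 : allRange (fun i => Nat.beq (act30 i) i) 130000 10000 = true := by decide +kernel
theorem c30_14 : allRange (fun i => Nat.beq (act30 i) i) 140000 10000 = true := by decide +kernel
theorem c30_15 : allRange (fun i => Nat.beq (act30 i) i) 150000 10000 = true := by decide +kernel
theorem c30_16 : allRange (fun i => Nat.beq (act30 i) i) 160000 10000 = true := by decide +kernel
theorem c30_17 : allRange (fun i => Nat.beq (act30 i) i) 170000 10000 = true := by decide +kernel
theorem c30_18 : allRange (fun i => Nat.beq (act30 i) i) 180000 5328 = true := by decide +kernel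
theorem h30 : ∀ i, i < T.N → Tab.relActOK T D chk30 i = true := by
  intro i hi
  rw [Tab.relActOK, ← act30_eq]
  exact (range_glue (range_of_allRange c30_0) (range_glue (range_of_allRange c30_1) (range_glue (range_of_allRange c30_2) (range_glue (range_of_allRange c30_3) (range_glue (range_of_allRange c30_4) (range_glue (range_of_allRange c30_5) (range_glue (range_of_allRange c30_6) (range_glue (range_of_allRange c30_7) (range_glue (range_of_allRange c30_8) (range_glue (range_of_allRange c30_9) (range_glue (range_of_allRange c30_10) (range_glue (range_of_allRange c30_11) (range_glue (range_of_allRange c30_12) (range_glue (range_of_allRange c30_13) (range_glue (range_of_allRange c30_14) (range_glue (range_of_allRange c30_15) (range_glue (range_of_allRange c30_16) (range_glue (range_of_allRange c30_17) (range_of_allRange c30_18))))))))))))))))))) i (Nat.zero_le _) hi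

def chk38 : List Nat := [6, 10, 6, 10]
noncomputable def act38 (i : Nat) : Nat := col7 (col11 (col7 (col11 (i))))
theorem act38_eq (i : Nat) : act38 i = Tab.act T D chk38 i := rfl
theorem c38_0 : allRange (fun i => Nat.beq (act38 i) i) 0 10000 = true := by decide +kernel
theorem c38_1 : allRange (fun i => Nat.beq (act38 i) i) 10000 10000 = true := by decide +kernel
theorem c38_2 : allRange (fun i => Nat.beq (act38 i) i) 20000 10000 = true := by decide +kernel
theorem c38_3 : allRange (fun i => Nat.beq (act38 i) i) 30000 10000 = true := by decide +kernel
theorem c38_4 : allRange (fun i => Nat.beq (act38 i) i) 40000 10000 = true := by decide +kernel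
theorem c38_5 : allRange (fun i => Nat.beq (act38 i) i) 50000 10000 = true := by decide +kernel
theorem c38_6 : allRange (fun i => Nat.beq (act38 i) i) 60000 10000 = true := by decide +kernel
theorem c38_7 : allRange (fun i => Nat.beq (act38 i) i) 70000 10000 = true := by decide +kernel
theorem c38_8 : allRange (fun i => Nat.beq (act38 i) i) 80000 10000 = true := by decide +kernel
theorem c38_9 : allRange (fun i => Nat.beq (act38 i) i) 90000 10000 = true := by decide +kernel
theorem c38_10 : allRange (fun i => Nat.beq (act38 i) i) 100000 10000 = true := by decide +kernel
theorem c38_11 : allRange (fun i => Nat.beq (act38 i) i) 110000 10000 = true := by decide +kernel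
theorem c38_12 : allRange (fun i => Nat.beq (act38 i) i) 120000 10000 = true := by decide +kernel
theorem c38_13 : allRange (fun i => Nat.beq (act38 i) i) 130000 10000 = true := by decide +kernel
theorem c38_14 : allRange (fun i => Nat.beq (act38 i) i) 140000 10000 = true := by decide +kernel
theorem c38_15 : allRange (fun i => Nat.beq (act38 i) i) 150000 10000 = true := by decide +kernel
theorem c38_16 : allRange (fun i => Nat.beq (act38 i) i) 160000 10000 = true := by decide +kernel
theorem c38_17 : allRange (fun i => Nat.beq (act38 i) i) 170000 10000 = true := by decide +kernel
theorem c38_18 : allRange (fun i => Nat.beq (act38 i) i) 180000 5328 = true := by decide +kernel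
theorem h38 : ∀ i, i < T.N → Tab.relActOK T D chk38 i = true := by
  intro i hi
  rw [Tab.relActOK, ← act38_eq]
  exact (range_glue (range_of_allRange c38_0) (range_glue (range_of_allRange c38_1) (range_glue (range_of_allRange c38_2) (range_glue (range_of_allRange c38_3) (range_glue (range_of_allRange c38_4) (range_glue (range_of_allRange c38_5) (range_glue (range_of_allRange c38_6) (range_glue (range_of_allRange c38_7) (range_glue (range_of_allRange c38_8) (range_glue (range_of_allRange c38_9) (range_glue (range_of_allRange c38_10) (range_glue (range_of_allRange c38_11) (range_glue (range_of_allRange c38_12) (range_glue (range_of_allRange c38_13) (range_glue (range_of_allRange c38_14) (range_glue (range_of_allRange c38_15) (range_glue (range_of_allRange c38_16) (range_glue (range_of_allRange c38_17) (range_of_allRange c38_18))))))))))))))))))) i (Nat.zero_le _) hi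

def chk43 : List Nat := [8, 10, 8, 10, 8, 10]
noncomputable def act43 (i : Nat) : Nat := col9 (col11 (col9 (col11 (col9 (col11 (i))))))
theorem act43_eq (i : Nat) : act43 i = Tab.act T D chk43 i := rfl
theorem c43_0 : allRange (fun i => Nat.beq (act43 i) i) 0 7500 = true := by decide +kernel
theorem c43_1 : allRange (fun i => Nat.beq (act43 i) i) 7500 7500 = true := by decide +kernel
theorem c43_2 : allRange (fun i => Nat.beq (act43 i) i) 15000 7500 = true := by decide +kernel
theorem c43_3 : allRange (fun i => Nat.beq (act43 i) i) 22500 7500 = true := by decide +kernel
theorem c43_4 : allRange (fun i => Nat.beq (act43 i) i) 30000 7500 = true := by decide +kernel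
theorem c43_5 : allRange (fun i => Nat.beq (act43 i) i) 37500 7500 = true := by decide +kernel
theorem c43_6 : allRange (fun i => Nat.beq (act43 i) i) 45000 7500 = true := by decide +kernel
theorem c43_7 : allRange (fun i => Nat.beq (act43 i) i) 52500 7500 = true := by decide +kernel
theorem c43_8 : allRange (fun i => Nat.beq (act43 i) i) 60000 7500 = true := by decide +kernel
theorem c43_9 : allRange (fun i => Nat.beq (act43 i) i) 67500 7500 = true := by decide +kernel
theorem c43_10 : allRange (fun i => Nat.beq (act43 i) i) 75000 7500 = true := by decide +kernel
theorem c43_11 : allRange (fun i => Nat.beq (act43 i) i) 82500 7500 = true := by decide +kernel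
theorem c43_12 : allRange (fun i => Nat.beq (act43 i) i) 90000 7500 = true := by decide +kernel
theorem c43_13 : allRange (fun i => Nat.beq (act43 i) i) 97500 7500 = true := by decide +kernel
theorem c43_14 : allRange (fun i => Nat.beq (act43 i) i) 105000 7500 = true := by decide +kernel
theorem c43_15 : allRange (fun i => Nat.beq (act43 i) i) 112500 7500 = true := by decide +kernel
theorem c43_16 : allRange (fun i => Nat.beq (act43 i) i) 120000 7500 = true := by decide +kernel
theorem c43_17 : allRange (fun i => Nat.beq (act43 i) i) 127500 7500 = true := by decide +kernel
theorem c43_18 : allRange (fun i => Nat.beq (act43 i) i) 135000 7500 = true := by decide +kernel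
theorem c43_19 : allRange (fun i => Nat.beq (act43 i) i) 142500 7500 = true := by decide +kernel
theorem c43_20 : allRange (fun i => Nat.beq (act43 i) i) 150000 7500 = true := by decide +kernel
theorem c43_21 : allRange (fun i => Nat.beq (act43 i) i) 157500 7500 = true := by decide +kernel
theorem c43_22 : allRange (fun i => Nat.beq (act43 i) i) 165000 7500 = true := by decide +kernel
theorem c43_23 : allRange (fun i => Nat.beq (act43 i) i) 172500 7500 = true := by decide +kernel
theorem c43_24 : allRange (fun i => Nat.beq (act43 i) i) 180000 5328 = true := by decide +kernel
theorem h43 : ∀ i, i < T.N → Tab.relActOK T D chk43 i = true := by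
  intro i hi
  rw [Tab.relActOK, ← act43_eq]
  exact (range_glue (range_of_allRange c43_0) (range_glue (range_of_allRange c43_1) (range_glue (range_of_allRange c43_2) (range_glue (range_of_allRange c43_3) (range_glue (range_of_allRange c43_4) (range_glue (range_of_allRange c43_5) (range_glue (range_of_allRange c43_6) (range_glue (range_of_allRange c43_7) (range_glue (range_of_allRange c43_8) (range_glue (range_of_allRange c43_9) (range_glue (range_of_allRange c43_10) (range_glue (range_of_allRange c43_11) (range_glue (range_of_allRange c43_12) (range_glue (range_of_allRange c43_13) (range_glue (range_of_allRange c43_14) (range_glue (range_of_allRange c43_15) (range_glue (range_of_allRange c43_16) (range_glue (range_of_allRange c43_17) (range_glue (range_of_allRange c43_18) (range_glue (range_of_allRange c43_19) (range_glue (range_of_allRange c43_20) (range_glue (range_of_allRange c43_21) (range_glue (range_of_allRange c43_22) (range_glue (range_of_allRange c43_23) (range_of_allRange c43_24))))))))))))))))))))))))) i (Nat.zero_le _) hi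

def chk45 : List Nat := [8, 16, 8, 16]
noncomputable def act45 (i : Nat) : Nat := col9 (col17 (col9 (col17 (i))))
theorem act45_eq (i : Nat) : act45 i = Tab.act T D chk45 i := rfl
theorem c45_0 : allRange (fun i => Nat.beq (act45 i) i) 0 10000 = true := by decide +kernel
theorem c45_1 : allRange (fun i => Nat.beq (act45 i) i) 10000 10000 = true := by decide +kernel
theorem c45_2 : allRange (fun i => Nat.beq (act45 i) i) 20000 10000 = true := by decide +kernel
theorem c45_3 : allRange (fun i => Nat.beq (act45 i) i) 30000 10000 = true := by decide +kernel
theorem c45_4 : allRange (fun i => Nat.beq (act45 i) i) 40000 10000 = true := by decide +kernel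
theorem c45_5 : allRange (fun i => Nat.beq (act45 i) i) 50000 10000 = true := by decide +kernel
theorem c45_6 : allRange (fun i => Nat.beq (act45 i) i) 60000 10000 = true := by decide +kernel
theorem c45_7 : allRange (fun i => Nat.beq (act45 i) i) 70000 10000 = true := by decide +kernel
theorem c45_8 : allRange (fun i => Nat.beq (act45 i) i) 80000 10000 = true := by decide +kernel
theorem c45_9 : allRange (fun i => Nat.beq (act45 i) i) 90000 10000 = true := by decide +kernel
theorem c45_10 : allRange (fun i => Nat.beq (act45 i) i) 100000 10000 = true := by decide +kernel
theorem c45_11 : allRange (fun i => Nat.beq (act45 i) i) 110000 10000 = true := by decide +kernel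
theorem c45_12 : allRange (fun i => Nat.beq (act45 i) i) 120000 10000 = true := by decide +kernel
theorem c45_13 : allRange (fun i => Nat.beq (act45 i) i) 130000 10000 = true := by decide +kernel
theorem c45_14 : allRange (fun i => Nat.beq (act45 i) i) 140000 10000 = true := by decide +kernel
theorem c45_15 : allRange (fun i => Nat.beq (act45 i) i) 150000 10000 = true := by decide +kernel
theorem c45_16 : allRange (fun i => Nat.beq (act45 i) i) 160000 10000 = true := by decide +kernel
theorem c45_17 : allRange (fun i => Nat.beq (act45 i) i) 170000 10000 = true := by decide +kernel
theorem c45_18 : allRange (fun i => Nat.beq (act45 i) i) 180000 5328 = true := by decide +kernel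
theorem h45 : ∀ i, i < T.N → Tab.relActOK T D chk45 i = true := by
  intro i hi
  rw [Tab.relActOK, ← act45_eq]
  exact (range_glue (range_of_allRange c45_0) (range_glue (range_of_allRange c45_1) (range_glue (range_of_allRange c45_2) (range_glue (range_of_allRange c45_3) (range_glue (range_of_allRange c45_4) (range_glue (range_of_allRange c45_5) (range_glue (range_of_allRange c45_6) (range_glue (range_of_allRange c45_7) (range_glue (range_of_allRange c45_8) (range_glue (range_of_allRange c45_9) (range_glue (range_of_allRange c45_10) (range_glue (range_of_allRange c45_11) (range_glue (range_of_allRange c45_12) (range_glue (range_of_allRange c45_13) (range_glue (range_of_allRange c45_14) (range_glue (range_of_allRange c45_15) (range_glue (range_of_allRange c45_16) (range_glue (range_of_allRange c45_17) (range_of_allRange c45_18))))))))))))))))))) i (Nat.zero_le _) hi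

def chk56 : List Nat := [25, 3, 24, 2]
noncomputable def act56 (i : Nat) : Nat := col24 (col2 (col25 (col3 (i))))
theorem act56_eq (i : Nat) : act56 i = Tab.act T D chk56 i := rfl
theorem c56_0 : allRange (fun i => Nat.beq (act56 i) i) 0 10000 = true := by decide +kernel
theorem c56_1 : allRange (fun i => Nat.beq (act56 i) i) 10000 10000 = true := by decide +kernel
theorem c56_2 : allRange (fun i => Nat.beq (act56 i) i) 20000 10000 = true := by decide +kernel
theorem c56_3 : allRange (fun i => Nat.beq (act56 i) i) 30000 10000 = true := by decide +kernel
theorem c56_4 : allRange (fun i => Nat.beq (act56 i) i) 40000 10000 = true := by decide +kernel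
theorem c56_5 : allRange (fun i => Nat.beq (act56 i) i) 50000 10000 = true := by decide +kernel
theorem c56_6 : allRange (fun i => Nat.beq (act56 i) i) 60000 10000 = true := by decide +kernel
theorem c56_7 : allRange (fun i => Nat.beq (act56 i) i) 70000 10000 = true := by decide +kernel
theorem c56_8 : allRange (fun i => Nat.beq (act56 i) i) 80000 10000 = true := by decide +kernel
theorem c56_9 : allRange (fun i => Nat.beq (act56 i) i) 90000 10000 = true := by decide +kernel
theorem c56_10 : allRange (fun i => Nat.beq (act56 i) i) 100000 10000 = true := by decide +kernel
theorem c56_11 : allRange (fun i => Nat.beq (act56 i) i) 110000 10000 = true := by decide +kernel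
theorem c56_12 : allRange (fun i => Nat.beq (act56 i) i) 120000 10000 = true := by decide +kernel
theorem c56_13 : allRange (fun i => Nat.beq (act56 i) i) 130000 10000 = true := by decide +kernel
theorem c56_14 : allRange (fun i => Nat.beq (act56 i) i) 140000 10000 = true := by decide +kernel
theorem c56_15 : allRange (fun i => Nat.beq (act56 i) i) 150000 10000 = true := by decide +kernel
theorem c56_16 : allRange (fun i => Nat.beq (act56 i) i) 160000 10000 = true := by decide +kernel
theorem c56_17 : allRange (fun i => Nat.beq (act56 i) i) 170000 10000 = true := by decide +kernel
theorem c56_18 : allRange (fun i => Nat.beq (act56 i) i) 180000 5328 = true := by decide +kernel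
theorem h56 : ∀ i, i < T.N → Tab.relActOK T D chk56 i = true := by
  intro i hi
  rw [Tab.relActOK, ← act56_eq]
  exact (range_glue (range_of_allRange c56_0) (range_glue (range_of_allRange c56_1) (range_glue (range_of_allRange c56_2) (range_glue (range_of_allRange c56_3) (range_glue (range_of_allRange c56_4) (range_glue (range_of_allRange c56_5) (range_glue (range_of_allRange c56_6) (range_glue (range_of_allRange c56_7) (range_glue (range_of_allRange c56_8) (range_glue (range_of_allRange c56_9) (range_glue (range_of_allRange c56_10) (range_glue (range_of_allRange c56_11) (range_glue (range_of_allRange c56_12) (range_glue (range_of_allRange c56_13) (range_glue (range_of_allRange c56_14) (range_glue (range_of_allRange c56_15) (range_glue (range_of_allRange c56_16) (range_glue (range_of_allRange c56_17) (range_of_allRange c56_18))))))))))))))))))) i (Nat.zero_le _) hi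

def chk61 : List Nat := [25, 13, 24, 12]
noncomputable def act61 (i : Nat) : Nat := col24 (col12 (col25 (col13 (i))))
theorem act61_eq (i : Nat) : act61 i = Tab.act T D chk61 i := rfl
theorem c61_0 : allRange (fun i => Nat.beq (act61 i) i) 0 10000 = true := by decide +kernel
theorem c61_1 : allRange (fun i => Nat.beq (act61 i) i) 10000 10000 = true := by decide +kernel
theorem c61_2 : allRange (fun i => Nat.beq (act61 i) i) 20000 10000 = true := by decide +kernel
theorem c61_3 : allRange (fun i => Nat.beq (act61 i) i) 30000 10000 = true := by decide +kernel
theorem c61_4 : allRange (fun i => Nat.beq (act61 i) i) 40000 10000 = true := by decide +kernel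
theorem c61_5 : allRange (fun i => Nat.beq (act61 i) i) 50000 10000 = true := by decide +kernel
theorem c61_6 : allRange (fun i => Nat.beq (act61 i) i) 60000 10000 = true := by decide +kernel
theorem c61_7 : allRange (fun i => Nat.beq (act61 i) i) 70000 10000 = true := by decide +kernel
theorem c61_8 : allRange (fun i => Nat.beq (act61 i) i) 80000 10000 = true := by decide +kernel
theorem c61_9 : allRange (fun i => Nat.beq (act61 i) i) 90000 10000 = true := by decide +kernel
theorem c61_10 : allRange (fun i => Nat.beq (act61 i) i) 100000 10000 = true := by decide +kernel
theorem c61_11 : allRange (fun i => Nat.beq (act61 i) i) 110000 10000 = true := by decide +kernel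
theorem c61_12 : allRange (fun i => Nat.beq (act61 i) i) 120000 10000 = true := by decide +kernel
theorem c61_13 : allRange (fun i => Nat.beq (act61 i) i) 130000 10000 = true := by decide +kernel
theorem c61_14 : allRange (fun i => Nat.beq (act61 i) i) 140000 10000 = true := by decide +kernel
theorem c61_15 : allRange (fun i => Nat.beq (act61 i) i) 150000 10000 = true := by decide +kernel
theorem c61_16 : allRange (fun i => Nat.beq (act61 i) i) 160000 10000 = true := by decide +kernel
theorem c61_17 : allRange (fun i => Nat.beq (act61 i) i) 170000 10000 = true := by decide +kernel
theorem c61_18 : allRange (fun i => Nat.beq (act61 i) i) 180000 5328 = true := by decide +kernel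
theorem h61 : ∀ i, i < T.N → Tab.relActOK T D chk61 i = true := by
  intro i hi
  rw [Tab.relActOK, ← act61_eq]
  exact (range_glue (range_of_allRange c61_0) (range_glue (range_of_allRange c61_1) (range_glue (range_of_allRange c61_2) (range_glue (range_of_allRange c61_3) (range_glue (range_of_allRange c61_4) (range_glue (range_of_allRange c61_5) (range_glue (range_of_allRange c61_6) (range_glue (range_of_allRange c61_7) (range_glue (range_of_allRange c61_8) (range_glue (range_of_allRange c61_9) (range_glue (range_of_allRange c61_10) (range_glue (range_of_allRange c61_11) (range_glue (range_of_allRange c61_12) (range_glue (range_of_allRange c61_13) (range_glue (range_of_allRange c61_14) (range_glue (range_of_allRange c61_15) (range_glue (range_of_allRange c61_16) (range_glue (range_of_allRange c61_17) (range_of_allRange c61_18))))))))))))))))))) i (Nat.zero_le _) hi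

end Cfsg.Agent.Lib.Helper4.TCD.SC3Fi22yp3W
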