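import Cfsg.Agent.Lib.Helper4.TCD_C3Fi22yR_Acc
import Cfsg.Agent.Lib.Helper4.TC13

namespace Cfsg.Agent.Lib.Helper4.TCD.SC3Fi22yp3W

open Cfsg.Agent.Lib.Helper4.TC Cfsg.Agent.Lib.Helper4.TCD.C3Fi22yR

set_option maxRecDepth 100000
set_option Elab.async false

def chk4 : List Nat := [10, 10]
noncomputable def act4 (i : Nat) : Nat := col11 (col11 (i))
theorem act4_eq (i : Nat) : act4 i = Tab.act T D chk4 i := rfl
theorem c4_0 : allRange (fun i => Nat.beq (act4 i) i) 0 15000 = true := by decide +kernel
theorem c4_1 : allRange (fun i => Nat.beq (act4 i) i) 15000 15000 = true := by decide +kernel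
theorem c4_2 : allRange (fun i => Nat.beq (act4 i) i) 30000 15000 = true := by decide +kernel
theorem c4_3 : allRange (fun i => Nat.beq (act4 i) i) 45000 15000 = true := by decide +kernel
theorem c4_4 : allRange (fun i => Nat.beq (act4 i) i) 60000 15000 = true := by decide +kernel
theorem c4_5 : allRange (fun i => Nat.beq (act4 i) i) 75000 15000 = true := by decide +kernel
theorem c4_6 : allRange (fun i => Nat.beq (act4 i) i) 90000 15000 = true := by decide +kernel
theorem c4_7 : allRange (fun i => Nat.beq (act4 i) i) 105000 15000 = true := by decide +kernel
theorem c4_8 : allRange (fun i => Nat.beq (act4 i) i) 120000 15000 = true := by decide +kernel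
theorem c4_9 : allRange (fun i => Nat.beq (act4 i) i) 135000 15000 = true := by decide +kernel
theorem c4_10 : allRange (fun i => Nat.beq (act4 i) i) 150000 15000 = true := by decide +kernel
theorem c4_11 : allRange (fun i => Nat.beq (act4 i) i) 165000 15000 = true := by decide +kernel
theorem c4_12 : allRange (fun i => Nat.beq (act4 i) i) 180000 5328 = true := by decide +kernel
theorem h4 : ∀ i, i < T.N → Tab.relActOK T D chk4 i = true := by
  intro i hi
  rw [Tab.relActOK, ← act4_eq]
  exact (range_glue (range_of_allRange c4_0) (range_glue (range_of_allRange c4_1) (range_glue (range_of_allRange c4_2) (range_glue (range_of_allRange c4_3) (range_glue (range_of_allRange c4_4) (range_glue (range_of_allRange c4_5) (range_glue (range_of_allRange c4_6) (range_glue (range_of_allRange c4_7) (range_glue (range_of_allRange c4_8) (range_glue (range_of_allRange c4_9) (range_glue (range_of_allRange c4_10) (range_glue (range_of_allRange c4_11) (range_of_allRange c4_12))))))))))))) i (Nat.zero_le _) hi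

def chk16 : List Nat := [0, 14, 0, 14]
noncomputable def act16 (i : Nat) : Nat := col1 (col15 (col1 (col15 (i))))
theorem act16_eq (i : Nat) : act16 i = Tab.act T D chk16 i := rfl
theorem c16_0 : allRange (fun i => Nat.beq (act16 i) i) 0 10000 = true := by decide +kernel
theorem c16_1 : allRange (fun i => Nat.beq (act16 i) i) 10000 10000 = true := by decide +kernel
theorem c16_2 : allRange (fun i => Nat.beq (act16 i) i) 20000 10000 = true := by decide +kernel
theorem c16_3 : allRange (fun i => Nat.beq (act16 i) i) 30000 10000 = true := by decide +kernel
theorem c16_4 : allRange (fun i => Nat.beq (act16 i) i) 40000 10000 = true := by decide +kernel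
theorem c16_5 : allRange (fun i => Nat.beq (act16 i) i) 50000 10000 = true := by decide +kernel
theorem c16_6 : allRange (fun i => Nat.beq (act16 i) i) 60000 10000 = true := by decide +kernel
theorem c16_7 : allRange (fun i => Nat.beq (act16 i) i) 70000 10000 = true := by decide +kernel
theorem c16_8 : allRange (fun i => Nat.beq (act16 i) i) 80000 10000 = true := by decide +kernel
theorem c16_9 : allRange (fun i => Nat.beq (act16 i) i) 90000 10000 = true := by decide +kernel
theorem c16_10 : allRange (fun i => Nat.beq (act16 i) i) 100000 10000 = true := by decide +kernel
theorem c16_11 : allRange (fun i => Nat.beq (act16 i) i) 110000 10000 = true := by decide +kernel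
theorem c16_12 : allRange (fun i => Nat.beq (act16 i) i) 120000 10000 = true := by decide +kernel
theorem c16_13 : allRange (fun i => Nat.beq (act16 i) i) 130000 10000 = true := by decide +kernel
theorem c16_14 : allRange (fun i => Nat.beq (act16 i) i) 140000 10000 = true := by decide +kernel
theorem c16_15 : allRange (fun i => Nat.beq (act16 i) i) 150000 10000 = true := by decide +kernel
theorem c16_16 : allRange (fun i => Nat.beq (act16 i) i) 160000 10000 = true := by decide +kernel
theorem c16_17 : allRange (fun i => Nat.beq (act16 i) i) 170000 10000 = true := by decide +kernel
theorem c16_18 : allRange (fun i => Nat.beq (act16 i) i) 180000 5328 = true := by decide +kernel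
theorem h16 : ∀ i, i < T.N → Tab.relActOK T D chk16 i = true := by
  intro i hi
  rw [Tab.relActOK, ← act16_eq]
  exact (range_glue (range_of_allRange c16_0) (range_glue (range_of_allRange c16_1) (range_glue (range_of_allRange c16_2) (range_glue (range_of_allRange c16_3) (range_glue (range_of_allRange c16_4) (range_glue (range_of_allRange c16_5) (range_glue (range_of_allRange c16_6) (range_glue (range_of_allRange c16_7) (range_glue (range_of_allRange c16_8) (range_glue (range_of_allRange c16_9) (range_glue (range_of_allRange c16_10) (range_glue (range_of_allRange c16_11) (range_glue (range_of_allRange c16_12) (range_glue (range_of_allRange c16_13) (range_glue (range_of_allRange c16_14) (range_glue (range_of_allRange c16_15) (range_glue (range_of_allRange c16_16) (range_glue (range_of_allRange c16_17) (range_of_allRange c16_18))))))))))))))))))) i (Nat.zero_le _) hi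

def chk21 : List Nat := [2, 4, 2, 4, 2, 4]
noncomputable def act21 (i : Nat) : Nat := col3 (col5 (col3 (col5 (col3 (col5 (i))))))
theorem act21_eq (i : Nat) : act21 i = Tab.act T D chk21 i := rfl
theorem c21_0 : allRange (fun i => Nat.beq (act21 i) i) 0 7500 = true := by decide +kernel
theorem c21_1 : allRange (fun i => Nat.beq (act21 i) i) 7500 7500 = true := by decide +kernel
theorem c21_2 : allRange (fun i => Nat.beq (act21 i) i) 15000 7500 = true := by decide +kernel
theorem c21_3 : allRange (fun i => Nat.beq (act21 i) i) 22500 7500 = true := by decide +kernel
theorem c21_4 : allRange (fun i => Nat.beq (act21 i) i) 30000 7500 = true := by decide +kernel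
theorem c21_5 : allRange (fun i => Nat.beq (act21 i) i) 37500 7500 = true := by decide +kernel
theorem c21_6 : allRange (fun i => Nat.beq (act21 i) i) 45000 7500 = true := by decide +kernel
theorem c21_7 : allRange (fun i => Nat.beq (act21 i) i) 52500 7500 = true := by decide +kernel
theorem c21_8 : allRange (fun i => Nat.beq (act21 i) i) 60000 7500 = true := by decide +kernel
theorem c21_9 : allRange (fun i => Nat.beq (act21 i) i) 67500 7500 = true := by decide +kernel
theorem c21_10 : allRange (fun i => Nat.beq (act21 i) i) 75000 7500 = true := by decide +kernel
theorem c21_11 : allRange (fun i => Nat.beq (act21 i) i) 82500 7500 = true := by decide +kernel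
theorem c21_12 : allRange (fun i => Nat.beq (act21 i) i) 90000 7500 = true := by decide +kernel
theorem c21_13 : allRange (fun i => Nat.beq (act21 i) i) 97500 7500 = true := by decide +kernel
theorem c21_14 : allRange (fun i => Nat.beq (act21 i) i) 105000 7500 = true := by decide +kernel
theorem c21_15 : allRange (fun i => Nat.beq (act21 i) i) 112500 7500 = true := by decide +kernel
theorem c21_16 : allRange (fun i => Nat.beq (act21 i) i) 120000 7500 = true := by decide +kernel
theorem c21_17 : allRange (fun i => Nat.beq (act21 i) i) 127500 7500 = true := by decide +kernel
theorem c21_18 : allRange (fun i => Nat.beq (act21 i) i) 135000 7500 = true := by decide +kernel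
theorem c21_19 : allRange (fun i => Nat.beq (act21 i) i) 142500 7500 = true := by decide +kernel
theorem c21_20 : allRange (fun i => Nat.beq (act21 i) i) 150000 7500 = true := by decide +kernel
theorem c21_21 : allRange (fun i => Nat.beq (act21 i) i) 157500 7500 = true := by decide +kernel
theorem c21_22 : allRange (fun i => Nat.beq (act21 i) i) 165000 7500 = true := by decide +kernel
theorem c21_23 : allRange (fun i => Nat.beq (act21 i) i) 172500 7500 = true := by decide +kernel
theorem c21_24 : allRange (fun i => Nat.beq (act21 i) i) 180000 5328 = true := by decide +kernel
theorem h21 : ∀ i, i < T.N → Tab.relActOK T D chk21 i = true := by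
  intro i hi
  rw [Tab.relActOK, ← act21_eq]
  exact (range_glue (range_of_allRange c21_0) (range_glue (range_of_allRange c21_1) (range_glue (range_of_allRange c21_2) (range_glue (range_of_allRange c21_3) (range_glue (range_of_allRange c21_4) (range_glue (range_of_allRange c21_5) (range_glue (range_of_allRange c21_6) (range_glue (range_of_allRange c21_7) (range_glue (range_of_allRange c21_8) (range_glue (range_of_allRange c21_9) (range_glue (range_of_allRange c21_10) (range_glue (range_of_allRange c21_11) (range_glue (range_of_allRange c21_12) (range_glue (range_of_allRange c21_13) (range_glue (range_of_allRange c21_14) (range_glue (range_of_allRange c21_15) (range_glue (range_of_allRange c21_16) (range_glue (range_of_allRange c21_17) (range_glue (range_of_allRange c21_18) (range_glue (range_of_allRange c21_19) (range_glue (range_of_allRange c21_20) (range_glue (range_of_allRange c21_21) (range_glue (range_of_allRange c21_22) (range_glue (range_of_allRange c21_23) (range_of_allRange c21_24))))))))))))))))))))))))) i (Nat.zero_le _) hi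

def chk24 : List Nat := [2, 14, 2, 14]
noncomputable def act24 (i : Nat) : Nat := col3 (col15 (col3 (col15 (i))))
theorem act24_eq (i : Nat) : act24 i = Tab.act T D chk24 i := rfl
theorem c24_0 : allRange (fun i => Nat.beq (act24 i) i) 0 10000 = true := by decide +kernel
theorem c24_1 : allRange (fun i => Nat.beq (act24 i) i) 10000 10000 = true := by decide +kernel
theorem c24_2 : allRange (fun i => Nat.beq (act24 i) i) 20000 10000 = true := by decide +kernel
theorem c24_3 : allRange (fun i => Nat.beq (act24 i) i) 30000 10000 = true := by decide +kernel
theorem c24_4 : allRange (fun i => Nat.beq (act24 i) i) 40000 10000 = true := by decide +kernel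
theorem c24_5 : allRange (fun i => Nat.beq (act24 i) i) 50000 10000 = true := by decide +kernel
theorem c24_6 : allRange (fun i => Nat.beq (act24 i) i) 60000 10000 = true := by decide +kernel
theorem c24_7 : allRange (fun i => Nat.beq (act24 i) i) 70000 10000 = true := by decide +kernel
theorem c24_8 : allRange (fun i => Nat.beq (act24 i) i) 80000 10000 = true := by decide +kernel
theorem c24_9 : allRange (fun i => Nat.beq (act24 i) i) 90000 10000 = true := by decide +kernel
theorem c24_10 : allRange (fun i => Nat.beq (act24 i) i) 100000 10000 = true := by decide +kernel
theorem c24_11 : allRange (fun i => Nat.beq (act24 i) i) 110000 10000 = true := by decide +kernel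
theorem c24_12 : allRange (fun i => Nat.beq (act24 i) i) 120000 10000 = true := by decide +kernel
theorem c24_13 : allRange (fun i => Nat.beq (act24 i) i) 130000 10000 = true := by decide +kernel
theorem c24_14 : allRange (fun i => Nat.beq (act24 i) i) 140000 10000 = true := by decide +kernel
theorem c24_15 : allRange (fun i => Nat.beq (act24 i) i) 150000 10000 = true := by decide +kernel
theorem c24_16 : allRange (fun i => Nat.beq (act24 i) i) 160000 10000 = true := by decide +kernel
theorem c24_17 : allRange (fun i => Nat.beq (act24 i) i) 170000 10000 = true := by decide +kernel
theorem c24_18 : allRange (fun i => Nat.beq (act24 i) i) 180000 5328 = true := by decide +kernel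
theorem h24 : ∀ i, i < T.N → Tab.relActOK T D chk24 i = true := by
  intro i hi
  rw [Tab.relActOK, ← act24_eq]
  exact (range_glue (range_of_allRange c24_0) (range_glue (range_of_allRange c24_1) (range_glue (range_of_allRange c24_2) (range_glue (range_of_allRange c24_3) (range_glue (range_of_allRange c24_4) (range_glue (range_of_allRange c24_5) (range_glue (range_of_allRange c24_6) (range_glue (range_of_allRange c24_7) (range_glue (range_of_allRange c24_8) (range_glue (range_of_allRange c24_9) (range_glue (range_of_allRange c24_10) (range_glue (range_of_allRange c24_11) (range_glue (range_of_allRange c24_12) (range_glue (range_of_allRange c24_13) (range_glue (range_of_allRange c24_14) (range_glue (range_of_allRange c24_15) (range_glue (range_of_allRange c24_16) (range_glue (range_of_allRange c24_17) (range_of_allRange c24_18))))))))))))))))))) i (Nat.zero_le _) hi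

def chk31 : List Nat := [4, 14, 4, 14]
noncomputable def act31 (i : Nat) : Nat := col5 (col15 (col5 (col15 (i))))
theorem act31_eq (i : Nat) : act31 i = Tab.act T D chk31 i := rfl
theorem c31_0 : allRange (fun i => Nat.beq (act31 i) i) 0 10000 = true := by decide +kernel
theorem c31_1 : allRange (fun i => Nat.beq (act31 i) i) 10000 10000 = true := by decide +kernel
theorem c31_2 : allRange (fun i => Nat.beq (act31 i) i) 20000 10000 = true := by decide +kernel
theorem c31_3 : allRange (fun i => Nat.beq (act31 i) i) 30000 10000 = true := by decide +kernel
theorem c31_4 : allRange (fun i => Nat.beq (act31 i) i) 40000 10000 = true := by decide +kernel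
theorem c31_5 : allRange (fun i => Nat.beq (act31 i) i) 50000 10000 = true := by decide +kernel
theorem c31_6 : allRange (fun i => Nat.beq (act31 i) i) 60000 10000 = true := by decide +kernel
theorem c31_7 : allRange (fun i => Nat.beq (act31 i) i) 70000 10000 = true := by decide +kernel
theorem c31_8 : allRange (fun i => Nat.beq (act31 i) i) 80000 10000 = true := by decide +kernel
theorem c31_9 : allRange (fun i => Nat.beq (act31 i) i) 90000 10000 = true := by decide +kernel
theorem c31_10 : allRange (fun i => Nat.beq (act31 i) i) 100000 10000 = true := by decide +kernel
theorem c31_11 : allRange (fun i => Nat.beq (act31 i) i) 110000 10000 = true := by decide +kernel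
theorem c31_12 : allRange (fun i => Nat.beq (act31 i) i) 120000 10000 = true := by decide +kernel
theorem c31_13 : allRange (fun i => Nat.beq (act31 i) i) 130000 10000 = true := by decide +kernel
theorem c31_14 : allRange (fun i => Nat.beq (act31 i) i) 140000 10000 = true := by decide +kernel
theorem c31_15 : allRange (fun i => Nat.beq (act31 i) i) 150000 10000 = true := by decide +kernel
theorem c31_16 : allRange (fun i => Nat.beq (act31 i) i) 160000 10000 = true := by decide +kernel
theorem c31_17 : allRange (fun i => Nat.beq (act31 i) i) 170000 10000 = true := by decide +kernel
theorem c31_18 : allRange (fun i => Nat.beq (act31 i) i) 180000 5328 = true := by decide +kernel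
theorem h31 : ∀ i, i < T.N → Tab.relActOK T D chk31 i = true := by
  intro i hi
  rw [Tab.relActOK, ← act31_eq]
  exact (range_glue (range_of_allRange c31_0) (range_glue (range_of_allRange c31_1) (range_glue (range_of_allRange c31_2) (range_glue (range_of_allRange c31_3) (range_glue (range_of_allRange c31_4) (range_glue (range_of_allRange c31_5) (range_glue (range_of_allRange c31_6) (range_glue (range_of_allRange c31_7) (range_glue (range_of_allRange c31_8) (range_glue (range_of_allRange c31_9) (range_glue (range_of_allRange c31_10) (range_glue (range_of_allRange c31_11) (range_glue (range_of_allRange c31_12) (range_glue (range_of_allRange c31_13) (range_glue (range_of_allRange c31_14) (range_glue (range_of_allRange c31_15) (range_glue (range_of_allRange c31_16) (range_glue (range_of_allRange c31_17) (range_of_allRange c31_18))))))))))))))))))) i (Nat.zero_le _) hi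

def chk35 : List Nat := [6, 6]
noncomputable def act35 (i : Nat) : Nat := col7 (col7 (i))
theorem act35_eq (i : Nat) : act35 i = Tab.act T D chk35 i := rfl
theorem c35_0 : allRange (fun i => Nat.beq (act35 i) i) 0 15000 = true := by decide +kernel
theorem c35_1 : allRange (fun i => Nat.beq (act35 i) i) 15000 15000 = true := by decide +kernel
theorem c35_2 : allRange (fun i => Nat.beq (act35 i) i) 30000 15000 = true := by decide +kernel
theorem c35_3 : allRange (fun i => Nat.beq (act35 i) i) 45000 15000 = true := by decide +kernel
theorem c35_4 : allRange (fun i => Nat.beq (act35 i) i) 60000 15000 = true := by decide +kernel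
theorem c35_5 : allRange (fun i => Nat.beq (act35 i) i) 75000 15000 = true := by decide +kernel
theorem c35_6 : allRange (fun i => Nat.beq (act35 i) i) 90000 15000 = true := by decide +kernel
theorem c35_7 : allRange (fun i => Nat.beq (act35 i) i) 105000 15000 = true := by decide +kernel
theorem c35_8 : allRange (fun i => Nat.beq (act35 i) i) 120000 15000 = true := by decide +kernel
theorem c35_9 : allRange (fun i => Nat.beq (act35 i) i) 135000 15000 = true := by decide +kernel
theorem c35_10 : allRange (fun i => Nat.beq (act35 i) i) 150000 15000 = true := by decide +kernel
theorem c35_11 : allRange (fun i => Nat.beq (act35 i) i) 165000 15000 = true := by decide +kernel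
theorem c35_12 : allRange (fun i => Nat.beq (act35 i) i) 180000 5328 = true := by decide +kernel
theorem h35 : ∀ i, i < T.N → Tab.relActOK T D chk35 i = true := by
  intro i hi
  rw [Tab.relActOK, ← act35_eq]
  exact (range_glue (range_of_allRange c35_0) (range_glue (range_of_allRange c35_1) (range_glue (range_of_allRange c35_2) (range_glue (range_of_allRange c35_3) (range_glue (range_of_allRange c35_4) (range_glue (range_of_allRange c35_5) (range_glue (range_of_allRange c35_6) (range_glue (range_of_allRange c35_7) (range_glue (range_of_allRange c35_8) (range_glue (range_of_allRange c35_9) (range_glue (range_of_allRange c35_10) (range_glue (range_of_allRange c35_11) (range_of_allRange c35_12))))))))))))) i (Nat.zero_le _) hi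

def chk39 : List Nat := [6, 12, 6, 12]
noncomputable def act39 (i : Nat) : Nat := col7 (col13 (col7 (col13 (i))))
theorem act39_eq (i : Nat) : act39 i = Tab.act T D chk39 i := rfl
theorem c39_0 : allRange (fun i => Nat.beq (act39 i) i) 0 10000 = true := by decide +kernel
theorem c39_1 : allRange (fun i => Nat.beq (act39 i) i) 10000 10000 = true := by decide +kernel
theorem c39_2 : allRange (fun i => Nat.beq (act39 i) i) 20000 10000 = true := by decide +kernel
theorem c39_3 : allRange (fun i => Nat.beq (act39 i) i) 30000 10000 = true := by decide +kernel
theorem c39_4 : allRange (fun i => Nat.beq (act39 i) i) 40000 10000 = true := by decide +kernel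
theorem c39_5 : allRange (fun i => Nat.beq (act39 i) i) 50000 10000 = true := by decide +kernel
theorem c39_6 : allRange (fun i => Nat.beq (act39 i) i) 60000 10000 = true := by decide +kernel
theorem c39_7 : allRange (fun i => Nat.beq (act39 i) i) 70000 10000 = true := by decide +kernel
theorem c39_8 : allRange (fun i => Nat.beq (act39 i) i) 80000 10000 = true := by decide +kernel
theorem c39_9 : allRange (fun i => Nat.beq (act39 i) i) 90000 10000 = true := by decide +kernel
theorem c39_10 : allRange (fun i => Nat.beq (act39 i) i) 100000 10000 = true := by decide +kernel
theorem c39_11 : allRange (fun i => Nat.beq (act39 i) i) 110000 10000 = true := by decide +kernel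
theorem c39_12 : allRange (fun i => Nat.beq (act39 i) i) 120000 10000 = true := by decide +kernel
theorem c39_13 : allRange (fun i => Nat.beq (act39 i) i) 130000 10000 = true := by decide +kernel
theorem c39_14 : allRange (fun i => Nat.beq (act39 i) i) 140000 10000 = true := by decide +kernel
theorem c39_15 : allRange (fun i => Nat.beq (act39 i) i) 150000 10000 = true := by decide +kernel
theorem c39_16 : allRange (fun i => Nat.beq (act39 i) i) 160000 10000 = true := by decide +kernel
theorem c39_17 : allRange (fun i => Nat.beq (act39 i) i) 170000 10000 = true := by decide +kernel
theorem c39_18 : allRange (fun i => Nat.beq (act39 i) i) 180000 5328 = true := by decide +kernel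
theorem h39 : ∀ i, i < T.N → Tab.relActOK T D chk39 i = true := by
  intro i hi
  rw [Tab.relActOK, ← act39_eq]
  exact (range_glue (range_of_allRange c39_0) (range_glue (range_of_allRange c39_1) (range_glue (range_of_allRange c39_2) (range_glue (range_of_allRange c39_3) (range_glue (range_of_allRange c39_4) (range_glue (range_of_allRange c39_5) (range_glue (range_of_allRange c39_6) (range_glue (range_of_allRange c39_7) (range_glue (range_of_allRange c39_8) (range_glue (range_of_allRange c39_9) (range_glue (range_of_allRange c39_10) (range_glue (range_of_allRange c39_11) (range_glue (range_of_allRange c39_12) (range_glue (range_of_allRange c39_13) (range_glue (range_of_allRange c39_14) (range_glue (range_of_allRange c39_15) (range_glue (range_of_allRange c39_16) (range_glue (range_of_allRange c39_17) (range_of_allRange c39_18))))))))))))))))))) i (Nat.zero_le _) hi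

def chk47 : List Nat := [14, 10, 14, 10]
noncomputable def act47 (i : Nat) : Nat := col15 (col11 (col15 (col11 (i))))
theorem act47_eq (i : Nat) : act47 i = Tab.act T D chk47 i := rfl
theorem c47_0 : allRange (fun i => Nat.beq (act47 i) i) 0 10000 = true := by decide +kernel
theorem c47_1 : allRange (fun i => Nat.beq (act47 i) i) 10000 10000 = true := by decide +kernel
theorem c47_2 : allRange (fun i => Nat.beq (act47 i) i) 20000 10000 = true := by decide +kernel
theorem c47_3 : allRange (fun i => Nat.beq (act47 i) i) 30000 10000 = true := by decide +kernel
theorem c47_4 : allRange (fun i => Nat.beq (act47 i) i) 40000 10000 = true := by decide +kernel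
theorem c47_5 : allRange (fun i => Nat.beq (act47 i) i) 50000 10000 = true := by decide +kernel
theorem c47_6 : allRange (fun i => Nat.beq (act47 i) i) 60000 10000 = true := by decide +kernel
theorem c47_7 : allRange (fun i => Nat.beq (act47 i) i) 70000 10000 = true := by decide +kernel
theorem c47_8 : allRange (fun i => Nat.beq (act47 i) i) 80000 10000 = true := by decide +kernel
theorem c47_9 : allRange (fun i => Nat.beq (act47 i) i) 90000 10000 = true := by decide +kernel
theorem c47_10 : allRange (fun i => Nat.beq (act47 i) i) 100000 10000 = true := by decide +kernel
theorem c47_11 : allRange (fun i => Nat.beq (act47 i) i) 110000 10000 = true := by decide +kernel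
theorem c47_12 : allRange (fun i => Nat.beq (act47 i) i) 120000 10000 = true := by decide +kernel
theorem c47_13 : allRange (fun i => Nat.beq (act47 i) i) 130000 10000 = true := by decide +kernel
theorem c47_14 : allRange (fun i => Nat.beq (act47 i) i) 140000 10000 = true := by decide +kernel
theorem c47_15 : allRange (fun i => Nat.beq (act47 i) i) 150000 10000 = true := by decide +kernel
theorem c47_16 : allRange (fun i => Nat.beq (act47 i) i) 160000 10000 = true := by decide +kernel
theorem c47_17 : allRange (fun i => Nat.beq (act47 i) i) 170000 10000 = true := by decide +kernel
theorem c47_18 : allRange (fun i => Nat.beq (act47 i) i) 180000 5328 = true := by decide +kernel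
theorem h47 : ∀ i, i < T.N → Tab.relActOK T D chk47 i = true := by
  intro i hi
  rw [Tab.relActOK, ← act47_eq]
  exact (range_glue (range_of_allRange c47_0) (range_glue (range_of_allRange c47_1) (range_glue (range_of_allRange c47_2) (range_glue (range_of_allRange c47_3) (range_glue (range_of_allRange c47_4) (range_glue (range_of_allRange c47_5) (range_glue (range_of_allRange c47_6) (range_glue (range_of_allRange c47_7) (range_glue (range_of_allRange c47_8) (range_glue (range_of_allRange c47_9) (range_glue (range_of_allRange c47_10) (range_glue (range_of_allRange c47_11) (range_glue (range_of_allRange c47_12) (range_glue (range_of_allRange c47_13) (range_glue (range_of_allRange c47_14) (range_glue (range_of_allRange c47_15) (range_glue (range_of_allRange c47_16) (range_glue (range_of_allRange c47_17) (range_of_allRange c47_18))))))))))))))))))) i (Nat.zero_le _) hi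

def chk49 : List Nat := [14, 16, 14, 16, 14, 16]
noncomputable def act49 (i : Nat) : Nat := col15 (col17 (col15 (col17 (col15 (col17 (i))))))
theorem act49_eq (i : Nat) : act49 i = Tab.act T D chk49 i := rfl
theorem c49_0 : allRange (fun i => Nat.beq (act49 i) i) 0 7500 = true := by decide +kernel
theorem c49_1 : allRange (fun i => Nat.beq (act49 i) i) 7500 7500 = true := by decide +kernel
theorem c49_2 : allRange (fun i => Nat.beq (act49 i) i) 15000 7500 = true := by decide +kernel
theorem c49_3 : allRange (fun i => Nat.beq (act49 i) i) 22500 7500 = true := by decide +kernel
theorem c49_4 : allRange (fun i => Nat.beq (act49 i) i) 30000 7500 = true := by decide +kernel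
theorem c49_5 : allRange (fun i => Nat.beq (act49 i) i) 37500 7500 = true := by decide +kernel
theorem c49_6 : allRange (fun i => Nat.beq (act49 i) i) 45000 7500 = true := by decide +kernel
theorem c49_7 : allRange (fun i => Nat.beq (act49 i) i) 52500 7500 = true := by decide +kernel
theorem c49_8 : allRange (fun i => Nat.beq (act49 i) i) 60000 7500 = true := by decide +kernel
theorem c49_9 : allRange (fun i => Nat.beq (act49 i) i) 67500 7500 = true := by decide +kernel
theorem c49_10 : allRange (fun i => Nat.beq (act49 i) i) 75000 7500 = true := by decide +kernel
theorem c49_11 : allRange (fun i => Nat.beq (act49 i) i) 82500 7500 = true := by decide +kernel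
theorem c49_12 : allRange (fun i => Nat.beq (act49 i) i) 90000 7500 = true := by decide +kernel
theorem c49_13 : allRange (fun i => Nat.beq (act49 i) i) 97500 7500 = true := by decide +kernel
theorem c49_14 : allRange (fun i => Nat.beq (act49 i) i) 105000 7500 = true := by decide +kernel
theorem c49_15 : allRange (fun i => Nat.beq (act49 i) i) 112500 7500 = true := by decide +kernel
theorem c49_16 : allRange (fun i => Nat.beq (act49 i) i) 120000 7500 = true := by decide +kernel
theorem c49_17 : allRange (fun i => Nat.beq (act49 i) i) 127500 7500 = true := by decide +kernel
theorem c49_18 : allRange (fun i => Nat.beq (act49 i) i) 135000 7500 = true := by decide +kernel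
theorem c49_19 : allRange (fun i => Nat.beq (act49 i) i) 142500 7500 = true := by decide +kernel
theorem c49_20 : allRange (fun i => Nat.beq (act49 i) i) 150000 7500 = true := by decide +kernel
theorem c49_21 : allRange (fun i => Nat.beq (act49 i) i) 157500 7500 = true := by decide +kernel
theorem c49_22 : allRange (fun i => Nat.beq (act49 i) i) 165000 7500 = true := by decide +kernel
theorem c49_23 : allRange (fun i => Nat.beq (act49 i) i) 172500 7500 = true := by decide +kernel
theorem c49_24 : allRange (fun i => Nat.beq (act49 i) i) 180000 5328 = true := by decide +kernel
theorem h49 : ∀ i, i < T.N → Tab.relActOK T D chk49 i = true := by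
  intro i hi
  rw [Tab.relActOK, ← act49_eq]
  exact (range_glue (range_of_allRange c49_0) (range_glue (range_of_allRange c49_1) (range_glue (range_of_allRange c49_2) (range_glue (range_of_allRange c49_3) (range_glue (range_of_allRange c49_4) (range_glue (range_of_allRange c49_5) (range_glue (range_of_allRange c49_6) (range_glue (range_of_allRange c49_7) (range_glue (range_of_allRange c49_8) (range_glue (range_of_allRange c49_9) (range_glue (range_of_allRange c49_10) (range_glue (range_of_allRange c49_11) (range_glue (range_of_allRange c49_12) (range_glue (range_of_allRange c49_13) (range_glue (range_of_allRange c49_14) (range_glue (range_of_allRange c49_15) (range_glue (range_of_allRange c49_16) (range_glue (range_of_allRange c49_17) (range_glue (range_of_allRange c49_18) (range_glue (range_of_allRange c49_19) (range_glue (range_of_allRange c49_20) (range_glue (range_of_allRange c49_21) (range_glue (range_of_allRange c49_22) (range_glue (range_of_allRange c49_23) (range_of_allRange c49_24))))))))))))))))))))))))) i (Nat.zero_le _) hi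

def chk57 : List Nat := [25, 5, 24, 4]
noncomputable def act57 (i : Nat) : Nat := col24 (col4 (col25 (col5 (i))))
theorem act57_eq (i : Nat) : act57 i = Tab.act T D chk57 i := rfl
theorem c57_0 : allRange (fun i => Nat.beq (act57 i) i) 0 10000 = true := by decide +kernel
theorem c57_1 : allRange (fun i => Nat.beq (act57 i) i) 10000 10000 = true := by decide +kernel
theorem c57_2 : allRange (fun i => Nat.beq (act57 i) i) 20000 10000 = true := by decide +kernel
theorem c57_3 : allRange (fun i => Nat.beq (act57 i) i) 30000 10000 = true := by decide +kernel
theorem c57_4 : allRange (fun i => Nat.beq (act57 i) i) 40000 10000 = true := by decide +kernel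
theorem c57_5 : allRange (fun i => Nat.beq (act57 i) i) 50000 10000 = true := by decide +kernel
theorem c57_6 : allRange (fun i => Nat.beq (act57 i) i) 60000 10000 = true := by decide +kernel
theorem c57_7 : allRange (fun i => Nat.beq (act57 i) i) 70000 10000 = true := by decide +kernel
theorem c57_8 : allRange (fun i => Nat.beq (act57 i) i) 80000 10000 = true := by decide +kernel
theorem c57_9 : allRange (fun i => Nat.beq (act57 i) i) 90000 10000 = true := by decide +kernel
theorem c57_10 : allRange (fun i => Nat.beq (act57 i) i) 100000 10000 = true := by decide +kernel
theorem c57_11 : allRange (fun i => Nat.beq (act57 i) i) 110000 10000 = true := by decide +kernel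
theorem c57_12 : allRange (fun i => Nat.beq (act57 i) i) 120000 10000 = true := by decide +kernel
theorem c57_13 : allRange (fun i => Nat.beq (act57 i) i) 130000 10000 = true := by decide +kernel
theorem c57_14 : allRange (fun i => Nat.beq (act57 i) i) 140000 10000 = true := by decide +kernel
theorem c57_15 : allRange (fun i => Nat.beq (act57 i) i) 150000 10000 = true := by decide +kernel
theorem c57_16 : allRange (fun i => Nat.beq (act57 i) i) 160000 10000 = true := by decide +kernel
theorem c57_17 : allRange (fun i => Nat.beq (act57 i) i) 170000 10000 = true := by decide +kernel
theorem c57_18 : allRange (fun i => Nat.beq (act57 i) i) 180000 5328 = true := by decide +kernel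
theorem h57 : ∀ i, i < T.N → Tab.relActOK T D chk57 i = true := by
  intro i hi
  rw [Tab.relActOK, ← act57_eq]
  exact (range_glue (range_of_allRange c57_0) (range_glue (range_of_allRange c57_1) (range_glue (range_of_allRange c57_2) (range_glue (range_of_allRange c57_3) (range_glue (range_of_allRange c57_4) (range_glue (range_of_allRange c57_5) (range_glue (range_of_allRange c57_6) (range_glue (range_of_allRange c57_7) (range_glue (range_of_allRange c57_8) (range_glue (range_of_allRange c57_9) (range_glue (range_of_allRange c57_10) (range_glue (range_of_allRange c57_11) (range_glue (range_of_allRange c57_12) (range_glue (range_of_allRange c57_13) (range_glue (range_of_allRange c57_14) (range_glue (range_of_allRange c57_15) (range_glue (range_of_allRange c57_16) (range_glue (range_of_allRange c57_17) (range_of_allRange c57_18))))))))))))))))))) i (Nat.zero_le _) hi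

def chk62 : List Nat := [25, 15, 24, 14]
noncomputable def act62 (i : Nat) : Nat := col24 (col14 (col25 (col15 (i))))
theorem act62_eq (i : Nat) : act62 i = Tab.act T D chk62 i := rfl
theorem c62_0 : allRange (fun i => Nat.beq (act62 i) i) 0 10000 = true := by decide +kernel
theorem c62_1 : allRange (fun i => Nat.beq (act62 i) i) 10000 10000 = true := by decide +kernel
theorem c62_2 : allRange (fun i => Nat.beq (act62 i) i) 20000 10000 = true := by decide +kernel
theorem c62_3 : allRange (fun i => Nat.beq (act62 i) i) 30000 10000 = true := by decide +kernel
theorem c62_4 : allRange (fun i => Nat.beq (act62 i) i) 40000 10000 = true := by decide +kernel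
theorem c62_5 : allRange (fun i => Nat.beq (act62 i) i) 50000 10000 = true := by decide +kernel
theorem c62_6 : allRange (fun i => Nat.beq (act62 i) i) 60000 10000 = true := by decide +kernel
theorem c62_7 : allRange (fun i => Nat.beq (act62 i) i) 70000 10000 = true := by decide +kernel
theorem c62_8 : allRange (fun i => Nat.beq (act62 i) i) 80000 10000 = true := by decide +kernel
theorem c62_9 : allRange (fun i => Nat.beq (act62 i) i) 90000 10000 = true := by decide +kernel
theorem c62_10 : allRange (fun i => Nat.beq (act62 i) i) 100000 10000 = true := by decide +kernel
theorem c62_11 : allRange (fun i => Nat.beq (act62 i) i) 110000 10000 = true := by decide +kernel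
theorem c62_12 : allRange (fun i => Nat.beq (act62 i) i) 120000 10000 = true := by decide +kernel
theorem c62_13 : allRange (fun i => Nat.beq (act62 i) i) 130000 10000 = true := by decide +kernel
theorem c62_14 : allRange (fun i => Nat.beq (act62 i) i) 140000 10000 = true := by decide +kernel
theorem c62_15 : allRange (fun i => Nat.beq (act62 i) i) 150000 10000 = true := by decide +kernel
theorem c62_16 : allRange (fun i => Nat.beq (act62 i) i) 160000 10000 = true := by decide +kernel
theorem c62_17 : allRange (fun i => Nat.beq (act62 i) i) 170000 10000 = true := by decide +kernel
theorem c62_18 : allRange (fun i => Nat.beq (act62 i) i) 180000 5328 = true := by decide +kernel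
theorem h62 : ∀ i, i < T.N → Tab.relActOK T D chk62 i = true := by
  intro i hi
  rw [Tab.relActOK, ← act62_eq]
  exact (range_glue (range_of_allRange c62_0) (range_glue (range_of_allRange c62_1) (range_glue (range_of_allRange c62_2) (range_glue (range_of_allRange c62_3) (range_glue (range_of_allRange c62_4) (range_glue (range_of_allRange c62_5) (range_glue (range_of_allRange c62_6) (range_glue (range_of_allRange c62_7) (range_glue (range_of_allRange c62_8) (range_glue (range_of_allRange c62_9) (range_glue (range_of_allRange c62_10) (range_glue (range_of_allRange c62_11) (range_glue (range_of_allRange c62_12) (range_glue (range_of_allRange c62_13) (range_glue (range_of_allRange c62_14) (range_glue (range_of_allRange c62_15) (range_glue (range_of_allRange c62_16) (range_glue (range_of_allRange c62_17) (range_of_allRange c62_18))))))))))))))))))) i (Nat.zero_le _) hi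

end Cfsg.Agent.Lib.Helper4.TCD.SC3Fi22yp3W
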