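import Cfsg.Agent.Lib.Helper4.TCD_C3Fi22yR_Acc
import Cfsg.Agent.Lib.Helper4.TC13

namespace Cfsg.Agent.Lib.Helper4.TCD.SC3Fi22yp3W

open Cfsg.Agent.Lib.Helper4.TC Cfsg.Agent.Lib.Helper4.TCD.C3Fi22yR

set_option maxRecDepth 100000
set_option Elab.async false

def chk5 : List Nat := [12, 12]
noncomputable def act5 (i : Nat) : Nat := col13 (col13 (i))
theorem act5_eq (i : Nat) : act5 i = Tab.act T D chk5 i := rfl
theorem c5_0 : allRange (fun i => Nat.beq (act5 i) i) 0 15000 = true := by decide +kernel
theorem c5_1 : allRange (fun i => Nat.beq (act5 i) i) 15000 15000 = true := by decide +kernel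
theorem c5_2 : allRange (fun i => Nat.beq (act5 i) i) 30000 15000 = true := by decide +kernel
theorem c5_3 : allRange (fun i => Nat.beq (act5 i) i) 45000 15000 = true := by decide +kernel
theorem c5_4 : allRange (fun i => Nat.beq (act5 i) i) 60000 15000 = true := by decide +kernel
theorem c5_5 : allRange (fun i => Nat.beq (act5 i) i) 75000 15000 = true := by decide +kernel
theorem c5_6 : allRange (fun i => Nat.beq (act5 i) i) 90000 15000 = true := by decide +kernel
theorem c5_7 : allRange (fun i => Nat.beq (act5 i) i) 105000 15000 = true := by decide +kernel
theorem c5_8 : allRange (fun i => Nat.beq (act5 i) i) 120000 15000 = true := by decide +kernel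
theorem c5_9 : allRange (fun i => Nat.beq (act5 i) i) 135000 15000 = true := by decide +kernel
theorem c5_10 : allRange (fun i => Nat.beq (act5 i) i) 150000 15000 = true := by decide +kernel
theorem c5_11 : allRange (fun i => Nat.beq (act5 i) i) 165000 15000 = true := by decide +kernel
theorem c5_12 : allRange (fun i => Nat.beq (act5 i) i) 180000 5328 = true := by decide +kernel
theorem h5 : ∀ i, i < T.N → Tab.relActOK T D chk5 i = true := by
  intro i hi
  rw [Tab.relActOK, ← act5_eq]
  exact (range_glue (range_of_allRange c5_0) (range_glue (range_of_allRange c5_1) (range_glue (range_of_allRange c5_2) (range_glue (range_of_allRange c5_3) (range_glue (range_of_allRange c5_4) (range_glue (range_of_allRange c5_5) (range_glue (range_of_allRange c5_6) (range_glue (range_of_allRange c5_7) (range_glue (range_of_allRange c5_8) (range_glue (range_of_allRange c5_9) (range_glue (range_of_allRange c5_10) (range_glue (range_of_allRange c5_11) (range_of_allRange c5_12))))))))))))) i (Nat.zero_le _) hi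

def chk17 : List Nat := [0, 16, 0, 16]
noncomputable def act17 (i : Nat) : Nat := col1 (col17 (col1 (col17 (i))))
theorem act17_eq (i : Nat) : act17 i = Tab.act T D chk17 i := rfl
theorem c17_0 : allRange (fun i => Nat.beq (act17 i) i) 0 10000 = true := by decide +kernel
theorem c17_1 : allRange (fun i => Nat.beq (act17 i) i) 10000 10000 = true := by decide +kernel
theorem c17_2 : allRange (fun i => Nat.beq (act17 i) i) 20000 10000 = true := by decide +kernel
theorem c17_3 : allRange (fun i => Nat.beq (act17 i) i) 30000 10000 = true := by decide +kernel
theorem c17_4 : allRange (fun i => Nat.beq (act17 i) i) 40000 10000 = true := by decide +kernel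
theorem c17_5 : allRange (fun i => Nat.beq (act17 i) i) 50000 10000 = true := by decide +kernel
theorem c17_6 : allRange (fun i => Nat.beq (act17 i) i) 60000 10000 = true := by decide +kernel
theorem c17_7 : allRange (fun i => Nat.beq (act17 i) i) 70000 10000 = true := by decide +kernel
theorem c17_8 : allRange (fun i => Nat.beq (act17 i) i) 80000 10000 = true := by decide +kernel
theorem c17_9 : allRange (fun i => Nat.beq (act17 i) i) 90000 10000 = true := by decide +kernel
theorem c17_10 : allRange (fun i => Nat.beq (act17 i) i) 100000 10000 = true := by decide +kernel
theorem c17_11 : allRange (fun i => Nat.beq (act17 i) i) 110000 10000 = true := by decide +kernel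
theorem c17_12 : allRange (fun i => Nat.beq (act17 i) i) 120000 10000 = true := by decide +kernel
theorem c17_13 : allRange (fun i => Nat.beq (act17 i) i) 130000 10000 = true := by decide +kernel
theorem c17_14 : allRange (fun i => Nat.beq (act17 i) i) 140000 10000 = true := by decide +kernel
theorem c17_15 : allRange (fun i => Nat.beq (act17 i) i) 150000 10000 = true := by decide +kernel
theorem c17_16 : allRange (fun i => Nat.beq (act17 i) i) 160000 10000 = true := by decide +kernel
theorem c17_17 : allRange (fun i => Nat.beq (act17 i) i) 170000 10000 = true := by decide +kernel
theorem c17_18 : allRange (fun i => Nat.beq (act17 i) i) 180000 5328 = true := by decide +kernel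
theorem h17 : ∀ i, i < T.N → Tab.relActOK T D chk17 i = true := by
  intro i hi
  rw [Tab.relActOK, ← act17_eq]
  exact (range_glue (range_of_allRange c17_0) (range_glue (range_of_allRange c17_1) (range_glue (range_of_allRange c17_2) (range_glue (range_of_allRange c17_3) (range_glue (range_of_allRange c17_4) (range_glue (range_of_allRange c17_5) (range_glue (range_of_allRange c17_6) (range_glue (range_of_allRange c17_7) (range_glue (range_of_allRange c17_8) (range_glue (range_of_allRange c17_9) (range_glue (range_of_allRange c17_10) (range_glue (range_of_allRange c17_11) (range_glue (range_of_allRange c17_12) (range_glue (range_of_allRange c17_13) (range_glue (range_of_allRange c17_14) (range_glue (range_of_allRange c17_15) (range_glue (range_of_allRange c17_16) (range_glue (range_of_allRange c17_17) (range_of_allRange c17_18))))))))))))))))))) i (Nat.zero_le _) hi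

def chk25 : List Nat := [2, 10, 2, 10]
noncomputable def act25 (i : Nat) : Nat := col3 (col11 (col3 (col11 (i))))
theorem act25_eq (i : Nat) : act25 i = Tab.act T D chk25 i := rfl
theorem c25_0 : allRange (fun i => Nat.beq (act25 i) i) 0 10000 = true := by decide +kernel
theorem c25_1 : allRange (fun i => Nat.beq (act25 i) i) 10000 10000 = true := by decide +kernel
theorem c25_2 : allRange (fun i => Nat.beq (act25 i) i) 20000 10000 = true := by decide +kernel
theorem c25_3 : allRange (fun i => Nat.beq (act25 i) i) 30000 10000 = true := by decide +kernel
theorem c25_4 : allRange (fun i => Nat.beq (act25 i) i) 40000 10000 = true := by decide +kernel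
theorem c25_5 : allRange (fun i => Nat.beq (act25 i) i) 50000 10000 = true := by decide +kernel
theorem c25_6 : allRange (fun i => Nat.beq (act25 i) i) 60000 10000 = true := by decide +kernel
theorem c25_7 : allRange (fun i => Nat.beq (act25 i) i) 70000 10000 = true := by decide +kernel
theorem c25_8 : allRange (fun i => Nat.beq (act25 i) i) 80000 10000 = true := by decide +kernel
theorem c25_9 : allRange (fun i => Nat.beq (act25 i) i) 90000 10000 = true := by decide +kernel
theorem c25_10 : allRange (fun i => Nat.beq (act25 i) i) 100000 10000 = true := by decide +kernel
theorem c25_11 : allRange (fun i => Nat.beq (act25 i) i) 110000 10000 = true := by decide +kernel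
theorem c25_12 : allRange (fun i => Nat.beq (act25 i) i) 120000 10000 = true := by decide +kernel
theorem c25_13 : allRange (fun i => Nat.beq (act25 i) i) 130000 10000 = true := by decide +kernel
theorem c25_14 : allRange (fun i => Nat.beq (act25 i) i) 140000 10000 = true := by decide +kernel
theorem c25_15 : allRange (fun i => Nat.beq (act25 i) i) 150000 10000 = true := by decide +kernel
theorem c25_16 : allRange (fun i => Nat.beq (act25 i) i) 160000 10000 = true := by decide +kernel
theorem c25_17 : allRange (fun i => Nat.beq (act25 i) i) 170000 10000 = true := by decide +kernel
theorem c25_18 : allRange (fun i => Nat.beq (act25 i) i) 180000 5328 = true := by decide +kernel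
theorem h25 : ∀ i, i < T.N → Tab.relActOK T D chk25 i = true := by
  intro i hi
  rw [Tab.relActOK, ← act25_eq]
  exact (range_glue (range_of_allRange c25_0) (range_glue (range_of_allRange c25_1) (range_glue (range_of_allRange c25_2) (range_glue (range_of_allRange c25_3) (range_glue (range_of_allRange c25_4) (range_glue (range_of_allRange c25_5) (range_glue (range_of_allRange c25_6) (range_glue (range_of_allRange c25_7) (range_glue (range_of_allRange c25_8) (range_glue (range_of_allRange c25_9) (range_glue (range_of_allRange c25_10) (range_glue (range_of_allRange c25_11) (range_glue (range_of_allRange c25_12) (range_glue (range_of_allRange c25_13) (range_glue (range_of_allRange c25_14) (range_glue (range_of_allRange c25_15) (range_glue (range_of_allRange c25_16) (range_glue (range_of_allRange c25_17) (range_of_allRange c25_18))))))))))))))))))) i (Nat.zero_le _) hi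

def chk29 : List Nat := [4, 6, 4, 6, 4, 6]
noncomputable def act29 (i : Nat) : Nat := col5 (col7 (col5 (col7 (col5 (col7 (i))))))
theorem act29_eq (i : Nat) : act29 i = Tab.act T D chk29 i := rfl
theorem c29_0 : allRange (fun i => Nat.beq (act29 i) i) 0 7500 = true := by decide +kernel
theorem c29_1 : allRange (fun i => Nat.beq (act29 i) i) 7500 7500 = true := by decide +kernel
theorem c29_2 : allRange (fun i => Nat.beq (act29 i) i) 15000 7500 = true := by decide +kernel
theorem c29_3 : allRange (fun i => Nat.beq (act29 i) i) 22500 7500 = true := by decide +kernel
theorem c29_4 : allRange (fun i => Nat.beq (act29 i) i) 30000 7500 = true := by decide +kernel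
theorem c29_5 : allRange (fun i => Nat.beq (act29 i) i) 37500 7500 = true := by decide +kernel
theorem c29_6 : allRange (fun i => Nat.beq (act29 i) i) 45000 7500 = true := by decide +kernel
theorem c29_7 : allRange (fun i => Nat.beq (act29 i) i) 52500 7500 = true := by decide +kernel
theorem c29_8 : allRange (fun i => Nat.beq (act29 i) i) 60000 7500 = true := by decide +kernel
theorem c29_9 : allRange (fun i => Nat.beq (act29 i) i) 67500 7500 = true := by decide +kernel
theorem c29_10 : allRange (fun i => Nat.beq (act29 i) i) 75000 7500 = true := by decide +kernel
theorem c29_11 : allRange (fun i => Nat.beq (act29 i) i) 82500 7500 = true := by decide +kernel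
theorem c29_12 : allRange (fun i => Nat.beq (act29 i) i) 90000 7500 = true := by decide +kernel
theorem c29_13 : allRange (fun i => Nat.beq (act29 i) i) 97500 7500 = true := by decide +kernel
theorem c29_14 : allRange (fun i => Nat.beq (act29 i) i) 105000 7500 = true := by decide +kernel
theorem c29_15 : allRange (fun i => Nat.beq (act29 i) i) 112500 7500 = true := by decide +kernel
theorem c29_16 : allRange (fun i => Nat.beq (act29 i) i) 120000 7500 = true := by decide +kernel
theorem c29_17 : allRange (fun i => Nat.beq (act29 i) i) 127500 7500 = true := by decide +kernel
theorem c29_18 : allRange (fun i => Nat.beq (act29 i) i) 135000 7500 = true := by decide +kernel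
theorem c29_19 : allRange (fun i => Nat.beq (act29 i) i) 142500 7500 = true := by decide +kernel
theorem c29_20 : allRange (fun i => Nat.beq (act29 i) i) 150000 7500 = true := by decide +kernel
theorem c29_21 : allRange (fun i => Nat.beq (act29 i) i) 157500 7500 = true := by decide +kernel
theorem c29_22 : allRange (fun i => Nat.beq (act29 i) i) 165000 7500 = true := by decide +kernel
theorem c29_23 : allRange (fun i => Nat.beq (act29 i) i) 172500 7500 = true := by decide +kernel
theorem c29_24 : allRange (fun i => Nat.beq (act29 i) i) 180000 5328 = true := by decide +kernel
theorem h29 : ∀ i, i < T.N → Tab.relActOK T D chk29 i = true := by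
  intro i hi
  rw [Tab.relActOK, ← act29_eq]
  exact (range_glue (range_of_allRange c29_0) (range_glue (range_of_allRange c29_1) (range_glue (range_of_allRange c29_2) (range_glue (range_of_allRange c29_3) (range_glue (range_of_allRange c29_4) (range_glue (range_of_allRange c29_5) (range_glue (range_of_allRange c29_6) (range_glue (range_of_allRange c29_7) (range_glue (range_of_allRange c29_8) (range_glue (range_of_allRange c29_9) (range_glue (range_of_allRange c29_10) (range_glue (range_of_allRange c29_11) (range_glue (range_of_allRange c29_12) (range_glue (range_of_allRange c29_13) (range_glue (range_of_allRange c29_14) (range_glue (range_of_allRange c29_15) (range_glue (range_of_allRange c29_16) (range_glue (range_of_allRange c29_17) (range_glue (range_of_allRange c29_18) (range_glue (range_of_allRange c29_19) (range_glue (range_of_allRange c29_20) (range_glue (range_of_allRange c29_21) (range_glue (range_of_allRange c29_22) (range_glue (range_of_allRange c29_23) (range_of_allRange c29_24))))))))))))))))))))))))) i (Nat.zero_le _) hi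

def chk32 : List Nat := [4, 10, 4, 10]
noncomputable def act32 (i : Nat) : Nat := col5 (col11 (col5 (col11 (i))))
theorem act32_eq (i : Nat) : act32 i = Tab.act T D chk32 i := rfl
theorem c32_0 : allRange (fun i => Nat.beq (act32 i) i) 0 10000 = true := by decide +kernel
theorem c32_1 : allRange (fun i => Nat.beq (act32 i) i) 10000 10000 = true := by decide +kernel
theorem c32_2 : allRange (fun i => Nat.beq (act32 i) i) 20000 10000 = true := by decide +kernel
theorem c32_3 : allRange (fun i => Nat.beq (act32 i) i) 30000 10000 = true := by decide +kernel
theorem c32_4 : allRange (fun i => Nat.beq (act32 i) i) 40000 10000 = true := by decide +kernel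
theorem c32_5 : allRange (fun i => Nat.beq (act32 i) i) 50000 10000 = true := by decide +kernel
theorem c32_6 : allRange (fun i => Nat.beq (act32 i) i) 60000 10000 = true := by decide +kernel
theorem c32_7 : allRange (fun i => Nat.beq (act32 i) i) 70000 10000 = true := by decide +kernel
theorem c32_8 : allRange (fun i => Nat.beq (act32 i) i) 80000 10000 = true := by decide +kernel
theorem c32_9 : allRange (fun i => Nat.beq (act32 i) i) 90000 10000 = true := by decide +kernel
theorem c32_10 : allRange (fun i => Nat.beq (act32 i) i) 100000 10000 = true := by decide +kernel
theorem c32_11 : allRange (fun i => Nat.beq (act32 i) i) 110000 10000 = true := by decide +kernel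
theorem c32_12 : allRange (fun i => Nat.beq (act32 i) i) 120000 10000 = true := by decide +kernel
theorem c32_13 : allRange (fun i => Nat.beq (act32 i) i) 130000 10000 = true := by decide +kernel
theorem c32_14 : allRange (fun i => Nat.beq (act32 i) i) 140000 10000 = true := by decide +kernel
theorem c32_15 : allRange (fun i => Nat.beq (act32 i) i) 150000 10000 = true := by decide +kernel
theorem c32_16 : allRange (fun i => Nat.beq (act32 i) i) 160000 10000 = true := by decide +kernel
theorem c32_17 : allRange (fun i => Nat.beq (act32 i) i) 170000 10000 = true := by decide +kernel
theorem c32_18 : allRange (fun i => Nat.beq (act32 i) i) 180000 5328 = true := by decide +kernel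
theorem h32 : ∀ i, i < T.N → Tab.relActOK T D chk32 i = true := by
  intro i hi
  rw [Tab.relActOK, ← act32_eq]
  exact (range_glue (range_of_allRange c32_0) (range_glue (range_of_allRange c32_1) (range_glue (range_of_allRange c32_2) (range_glue (range_of_allRange c32_3) (range_glue (range_of_allRange c32_4) (range_glue (range_of_allRange c32_5) (range_glue (range_of_allRange c32_6) (range_glue (range_of_allRange c32_7) (range_glue (range_of_allRange c32_8) (range_glue (range_of_allRange c32_9) (range_glue (range_of_allRange c32_10) (range_glue (range_of_allRange c32_11) (range_glue (range_of_allRange c32_12) (range_glue (range_of_allRange c32_13) (range_glue (range_of_allRange c32_14) (range_glue (range_of_allRange c32_15) (range_glue (range_of_allRange c32_16) (range_glue (range_of_allRange c32_17) (range_of_allRange c32_18))))))))))))))))))) i (Nat.zero_le _) hi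

def chk40 : List Nat := [6, 16, 6, 16]
noncomputable def act40 (i : Nat) : Nat := col7 (col17 (col7 (col17 (i))))
theorem act40_eq (i : Nat) : act40 i = Tab.act T D chk40 i := rfl
theorem c40_0 : allRange (fun i => Nat.beq (act40 i) i) 0 10000 = true := by decide +kernel
theorem c40_1 : allRange (fun i => Nat.beq (act40 i) i) 10000 10000 = true := by decide +kernel
theorem c40_2 : allRange (fun i => Nat.beq (act40 i) i) 20000 10000 = true := by decide +kernel
theorem c40_3 : allRange (fun i => Nat.beq (act40 i) i) 30000 10000 = true := by decide +kernel
theorem c40_4 : allRange (fun i => Nat.beq (act40 i) i) 40000 10000 = true := by decide +kernel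
theorem c40_5 : allRange (fun i => Nat.beq (act40 i) i) 50000 10000 = true := by decide +kernel
theorem c40_6 : allRange (fun i => Nat.beq (act40 i) i) 60000 10000 = true := by decide +kernel
theorem c40_7 : allRange (fun i => Nat.beq (act40 i) i) 70000 10000 = true := by decide +kernel
theorem c40_8 : allRange (fun i => Nat.beq (act40 i) i) 80000 10000 = true := by decide +kernel
theorem c40_9 : allRange (fun i => Nat.beq (act40 i) i) 90000 10000 = true := by decide +kernel
theorem c40_10 : allRange (fun i => Nat.beq (act40 i) i) 100000 10000 = true := by decide +kernel
theorem c40_11 : allRange (fun i => Nat.beq (act40 i) i) 110000 10000 = true := by decide +kernel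
theorem c40_12 : allRange (fun i => Nat.beq (act40 i) i) 120000 10000 = true := by decide +kernel
theorem c40_13 : allRange (fun i => Nat.beq (act40 i) i) 130000 10000 = true := by decide +kernel
theorem c40_14 : allRange (fun i => Nat.beq (act40 i) i) 140000 10000 = true := by decide +kernel
theorem c40_15 : allRange (fun i => Nat.beq (act40 i) i) 150000 10000 = true := by decide +kernel
theorem c40_16 : allRange (fun i => Nat.beq (act40 i) i) 160000 10000 = true := by decide +kernel
theorem c40_17 : allRange (fun i => Nat.beq (act40 i) i) 170000 10000 = true := by decide +kernel
theorem c40_18 : allRange (fun i => Nat.beq (act40 i) i) 180000 5328 = true := by decide +kernel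
theorem h40 : ∀ i, i < T.N → Tab.relActOK T D chk40 i = true := by
  intro i hi
  rw [Tab.relActOK, ← act40_eq]
  exact (range_glue (range_of_allRange c40_0) (range_glue (range_of_allRange c40_1) (range_glue (range_of_allRange c40_2) (range_glue (range_of_allRange c40_3) (range_glue (range_of_allRange c40_4) (range_glue (range_of_allRange c40_5) (range_glue (range_of_allRange c40_6) (range_glue (range_of_allRange c40_7) (range_glue (range_of_allRange c40_8) (range_glue (range_of_allRange c40_9) (range_glue (range_of_allRange c40_10) (range_glue (range_of_allRange c40_11) (range_glue (range_of_allRange c40_12) (range_glue (range_of_allRange c40_13) (range_glue (range_of_allRange c40_14) (range_glue (range_of_allRange c40_15) (range_glue (range_of_allRange c40_16) (range_glue (range_of_allRange c40_17) (range_of_allRange c40_18))))))))))))))))))) i (Nat.zero_le _) hi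

def chk41 : List Nat := [8, 8]
noncomputable def act41 (i : Nat) : Nat := col9 (col9 (i))
theorem act41_eq (i : Nat) : act41 i = Tab.act T D chk41 i := rfl
theorem c41_0 : allRange (fun i => Nat.beq (act41 i) i) 0 15000 = true := by decide +kernel
theorem c41_1 : allRange (fun i => Nat.beq (act41 i) i) 15000 15000 = true := by decide +kernel
theorem c41_2 : allRange (fun i => Nat.beq (act41 i) i) 30000 15000 = true := by decide +kernel
theorem c41_3 : allRange (fun i => Nat.beq (act41 i) i) 45000 15000 = true := by decide +kernel
theorem c41_4 : allRange (fun i => Nat.beq (act41 i) i) 60000 15000 = true := by decide +kernel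
theorem c41_5 : allRange (fun i => Nat.beq (act41 i) i) 75000 15000 = true := by decide +kernel
theorem c41_6 : allRange (fun i => Nat.beq (act41 i) i) 90000 15000 = true := by decide +kernel
theorem c41_7 : allRange (fun i => Nat.beq (act41 i) i) 105000 15000 = true := by decide +kernel
theorem c41_8 : allRange (fun i => Nat.beq (act41 i) i) 120000 15000 = true := by decide +kernel
theorem c41_9 : allRange (fun i => Nat.beq (act41 i) i) 135000 15000 = true := by decide +kernel
theorem c41_10 : allRange (fun i => Nat.beq (act41 i) i) 150000 15000 = true := by decide +kernel
theorem c41_11 : allRange (fun i => Nat.beq (act41 i) i) 165000 15000 = true := by decide +kernel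
theorem c41_12 : allRange (fun i => Nat.beq (act41 i) i) 180000 5328 = true := by decide +kernel
theorem h41 : ∀ i, i < T.N → Tab.relActOK T D chk41 i = true := by
  intro i hi
  rw [Tab.relActOK, ← act41_eq]
  exact (range_glue (range_of_allRange c41_0) (range_glue (range_of_allRange c41_1) (range_glue (range_of_allRange c41_2) (range_glue (range_of_allRange c41_3) (range_glue (range_of_allRange c41_4) (range_glue (range_of_allRange c41_5) (range_glue (range_of_allRange c41_6) (range_glue (range_of_allRange c41_7) (range_glue (range_of_allRange c41_8) (range_glue (range_of_allRange c41_9) (range_glue (range_of_allRange c41_10) (range_glue (range_of_allRange c41_11) (range_of_allRange c41_12))))))))))))) i (Nat.zero_le _) hi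

def chk48 : List Nat := [14, 12, 14, 12]
noncomputable def act48 (i : Nat) : Nat := col15 (col13 (col15 (col13 (i))))
theorem act48_eq (i : Nat) : act48 i = Tab.act T D chk48 i := rfl
theorem c48_0 : allRange (fun i => Nat.beq (act48 i) i) 0 10000 = true := by decide +kernel
theorem c48_1 : allRange (fun i => Nat.beq (act48 i) i) 10000 10000 = true := by decide +kernel
theorem c48_2 : allRange (fun i => Nat.beq (act48 i) i) 20000 10000 = true := by decide +kernel
theorem c48_3 : allRange (fun i => Nat.beq (act48 i) i) 30000 10000 = true := by decide +kernel
theorem c48_4 : allRange (fun i => Nat.beq (act48 i) i) 40000 10000 = true := by decide +kernel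
theorem c48_5 : allRange (fun i => Nat.beq (act48 i) i) 50000 10000 = true := by decide +kernel
theorem c48_6 : allRange (fun i => Nat.beq (act48 i) i) 60000 10000 = true := by decide +kernel
theorem c48_7 : allRange (fun i => Nat.beq (act48 i) i) 70000 10000 = true := by decide +kernel
theorem c48_8 : allRange (fun i => Nat.beq (act48 i) i) 80000 10000 = true := by decide +kernel
theorem c48_9 : allRange (fun i => Nat.beq (act48 i) i) 90000 10000 = true := by decide +kernel
theorem c48_10 : allRange (fun i => Nat.beq (act48 i) i) 100000 10000 = true := by decide +kernel
theorem c48_11 : allRange (fun i => Nat.beq (act48 i) i) 110000 10000 = true := by decide +kernel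
theorem c48_12 : allRange (fun i => Nat.beq (act48 i) i) 120000 10000 = true := by decide +kernel
theorem c48_13 : allRange (fun i => Nat.beq (act48 i) i) 130000 10000 = true := by decide +kernel
theorem c48_14 : allRange (fun i => Nat.beq (act48 i) i) 140000 10000 = true := by decide +kernel
theorem c48_15 : allRange (fun i => Nat.beq (act48 i) i) 150000 10000 = true := by decide +kernel
theorem c48_16 : allRange (fun i => Nat.beq (act48 i) i) 160000 10000 = true := by decide +kernel
theorem c48_17 : allRange (fun i => Nat.beq (act48 i) i) 170000 10000 = true := by decide +kernel
theorem c48_18 : allRange (fun i => Nat.beq (act48 i) i) 180000 5328 = true := by decide +kernel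
theorem h48 : ∀ i, i < T.N → Tab.relActOK T D chk48 i = true := by
  intro i hi
  rw [Tab.relActOK, ← act48_eq]
  exact (range_glue (range_of_allRange c48_0) (range_glue (range_of_allRange c48_1) (range_glue (range_of_allRange c48_2) (range_glue (range_of_allRange c48_3) (range_glue (range_of_allRange c48_4) (range_glue (range_of_allRange c48_5) (range_glue (range_of_allRange c48_6) (range_glue (range_of_allRange c48_7) (range_glue (range_of_allRange c48_8) (range_glue (range_of_allRange c48_9) (range_glue (range_of_allRange c48_10) (range_glue (range_of_allRange c48_11) (range_glue (range_of_allRange c48_12) (range_glue (range_of_allRange c48_13) (range_glue (range_of_allRange c48_14) (range_glue (range_of_allRange c48_15) (range_glue (range_of_allRange c48_16) (range_glue (range_of_allRange c48_17) (range_of_allRange c48_18))))))))))))))))))) i (Nat.zero_le _) hi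

def chk51 : List Nat := [10, 12, 10, 12, 10, 12]
noncomputable def act51 (i : Nat) : Nat := col11 (col13 (col11 (col13 (col11 (col13 (i))))))
theorem act51_eq (i : Nat) : act51 i = Tab.act T D chk51 i := rfl
theorem c51_0 : allRange (fun i => Nat.beq (act51 i) i) 0 7500 = true := by decide +kernel
theorem c51_1 : allRange (fun i => Nat.beq (act51 i) i) 7500 7500 = true := by decide +kernel
theorem c51_2 : allRange (fun i => Nat.beq (act51 i) i) 15000 7500 = true := by decide +kernel
theorem c51_3 : allRange (fun i => Nat.beq (act51 i) i) 22500 7500 = true := by decide +kernel
theorem c51_4 : allRange (fun i => Nat.beq (act51 i) i) 30000 7500 = true := by decide +kernel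
theorem c51_5 : allRange (fun i => Nat.beq (act51 i) i) 37500 7500 = true := by decide +kernel
theorem c51_6 : allRange (fun i => Nat.beq (act51 i) i) 45000 7500 = true := by decide +kernel
theorem c51_7 : allRange (fun i => Nat.beq (act51 i) i) 52500 7500 = true := by decide +kernel
theorem c51_8 : allRange (fun i => Nat.beq (act51 i) i) 60000 7500 = true := by decide +kernel
theorem c51_9 : allRange (fun i => Nat.beq (act51 i) i) 67500 7500 = true := by decide +kernel
theorem c51_10 : allRange (fun i => Nat.beq (act51 i) i) 75000 7500 = true := by decide +kernel
theorem c51_11 : allRange (fun i => Nat.beq (act51 i) i) 82500 7500 = true := by decide +kernel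
theorem c51_12 : allRange (fun i => Nat.beq (act51 i) i) 90000 7500 = true := by decide +kernel
theorem c51_13 : allRange (fun i => Nat.beq (act51 i) i) 97500 7500 = true := by decide +kernel
theorem c51_14 : allRange (fun i => Nat.beq (act51 i) i) 105000 7500 = true := by decide +kernel
theorem c51_15 : allRange (fun i => Nat.beq (act51 i) i) 112500 7500 = true := by decide +kernel
theorem c51_16 : allRange (fun i => Nat.beq (act51 i) i) 120000 7500 = true := by decide +kernel
theorem c51_17 : allRange (fun i => Nat.beq (act51 i) i) 127500 7500 = true := by decide +kernel
theorem c51_18 : allRange (fun i => Nat.beq (act51 i) i) 135000 7500 = true := by decide +kernel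
theorem c51_19 : allRange (fun i => Nat.beq (act51 i) i) 142500 7500 = true := by decide +kernel
theorem c51_20 : allRange (fun i => Nat.beq (act51 i) i) 150000 7500 = true := by decide +kernel
theorem c51_21 : allRange (fun i => Nat.beq (act51 i) i) 157500 7500 = true := by decide +kernel
theorem c51_22 : allRange (fun i => Nat.beq (act51 i) i) 165000 7500 = true := by decide +kernel
theorem c51_23 : allRange (fun i => Nat.beq (act51 i) i) 172500 7500 = true := by decide +kernel
theorem c51_24 : allRange (fun i => Nat.beq (act51 i) i) 180000 5328 = true := by decide +kernel
theorem h51 : ∀ i, i < T.N → Tab.relActOK T D chk51 i = true := by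
  intro i hi
  rw [Tab.relActOK, ← act51_eq]
  exact (range_glue (range_of_allRange c51_0) (range_glue (range_of_allRange c51_1) (range_glue (range_of_allRange c51_2) (range_glue (range_of_allRange c51_3) (range_glue (range_of_allRange c51_4) (range_glue (range_of_allRange c51_5) (range_glue (range_of_allRange c51_6) (range_glue (range_of_allRange c51_7) (range_glue (range_of_allRange c51_8) (range_glue (range_of_allRange c51_9) (range_glue (range_of_allRange c51_10) (range_glue (range_of_allRange c51_11) (range_glue (range_of_allRange c51_12) (range_glue (range_of_allRange c51_13) (range_glue (range_of_allRange c51_14) (range_glue (range_of_allRange c51_15) (range_glue (range_of_allRange c51_16) (range_glue (range_of_allRange c51_17) (range_glue (range_of_allRange c51_18) (range_glue (range_of_allRange c51_19) (range_glue (range_of_allRange c51_20) (range_glue (range_of_allRange c51_21) (range_glue (range_of_allRange c51_22) (range_glue (range_of_allRange c51_23) (range_of_allRange c51_24))))))))))))))))))))))))) i (Nat.zero_le _) hi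

def chk58 : List Nat := [25, 7, 24, 6]
noncomputable def act58 (i : Nat) : Nat := col24 (col6 (col25 (col7 (i))))
theorem act58_eq (i : Nat) : act58 i = Tab.act T D chk58 i := rfl
theorem c58_0 : allRange (fun i => Nat.beq (act58 i) i) 0 10000 = true := by decide +kernel
theorem c58_1 : allRange (fun i => Nat.beq (act58 i) i) 10000 10000 = true := by decide +kernel
theorem c58_2 : allRange (fun i => Nat.beq (act58 i) i) 20000 10000 = true := by decide +kernel
theorem c58_3 : allRange (fun i => Nat.beq (act58 i) i) 30000 10000 = true := by decide +kernel
theorem c58_4 : allRange (fun i => Nat.beq (act58 i) i) 40000 10000 = true := by decide +kernel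
theorem c58_5 : allRange (fun i => Nat.beq (act58 i) i) 50000 10000 = true := by decide +kernel
theorem c58_6 : allRange (fun i => Nat.beq (act58 i) i) 60000 10000 = true := by decide +kernel
theorem c58_7 : allRange (fun i => Nat.beq (act58 i) i) 70000 10000 = true := by decide +kernel
theorem c58_8 : allRange (fun i => Nat.beq (act58 i) i) 80000 10000 = true := by decide +kernel
theorem c58_9 : allRange (fun i => Nat.beq (act58 i) i) 90000 10000 = true := by decide +kernel
theorem c58_10 : allRange (fun i => Nat.beq (act58 i) i) 100000 10000 = true := by decide +kernel
theorem c58_11 : allRange (fun i => Nat.beq (act58 i) i) 110000 10000 = true := by decide +kernel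
theorem c58_12 : allRange (fun i => Nat.beq (act58 i) i) 120000 10000 = true := by decide +kernel
theorem c58_13 : allRange (fun i => Nat.beq (act58 i) i) 130000 10000 = true := by decide +kernel
theorem c58_14 : allRange (fun i => Nat.beq (act58 i) i) 140000 10000 = true := by decide +kernel
theorem c58_15 : allRange (fun i => Nat.beq (act58 i) i) 150000 10000 = true := by decide +kernel
theorem c58_16 : allRange (fun i => Nat.beq (act58 i) i) 160000 10000 = true := by decide +kernel
theorem c58_17 : allRange (fun i => Nat.beq (act58 i) i) 170000 10000 = true := by decide +kernel
theorem c58_18 : allRange (fun i => Nat.beq (act58 i) i) 180000 5328 = true := by decide +kernel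
theorem h58 : ∀ i, i < T.N → Tab.relActOK T D chk58 i = true := by
  intro i hi
  rw [Tab.relActOK, ← act58_eq]
  exact (range_glue (range_of_allRange c58_0) (range_glue (range_of_allRange c58_1) (range_glue (range_of_allRange c58_2) (range_glue (range_of_allRange c58_3) (range_glue (range_of_allRange c58_4) (range_glue (range_of_allRange c58_5) (range_glue (range_of_allRange c58_6) (range_glue (range_of_allRange c58_7) (range_glue (range_of_allRange c58_8) (range_glue (range_of_allRange c58_9) (range_glue (range_of_allRange c58_10) (range_glue (range_of_allRange c58_11) (range_glue (range_of_allRange c58_12) (range_glue (range_of_allRange c58_13) (range_glue (range_of_allRange c58_14) (range_glue (range_of_allRange c58_15) (range_glue (range_of_allRange c58_16) (range_glue (range_of_allRange c58_17) (range_of_allRange c58_18))))))))))))))))))) i (Nat.zero_le _) hi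

def chk63 : List Nat := [25, 17, 24, 16]
noncomputable def act63 (i : Nat) : Nat := col24 (col16 (col25 (col17 (i))))
theorem act63_eq (i : Nat) : act63 i = Tab.act T D chk63 i := rfl
theorem c63_0 : allRange (fun i => Nat.beq (act63 i) i) 0 10000 = true := by decide +kernel
theorem c63_1 : allRange (fun i => Nat.beq (act63 i) i) 10000 10000 = true := by decide +kernel
theorem c63_2 : allRange (fun i => Nat.beq (act63 i) i) 20000 10000 = true := by decide +kernel
theorem c63_3 : allRange (fun i => Nat.beq (act63 i) i) 30000 10000 = true := by decide +kernel
theorem c63_4 : allRange (fun i => Nat.beq (act63 i) i) 40000 10000 = true := by decide +kernel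
theorem c63_5 : allRange (fun i => Nat.beq (act63 i) i) 50000 10000 = true := by decide +kernel
theorem c63_6 : allRange (fun i => Nat.beq (act63 i) i) 60000 10000 = true := by decide +kernel
theorem c63_7 : allRange (fun i => Nat.beq (act63 i) i) 70000 10000 = true := by decide +kernel
theorem c63_8 : allRange (fun i => Nat.beq (act63 i) i) 80000 10000 = true := by decide +kernel
theorem c63_9 : allRange (fun i => Nat.beq (act63 i) i) 90000 10000 = true := by decide +kernel
theorem c63_10 : allRange (fun i => Nat.beq (act63 i) i) 100000 10000 = true := by decide +kernel
theorem c63_11 : allRange (fun i => Nat.beq (act63 i) i) 110000 10000 = true := by decide +kernel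
theorem c63_12 : allRange (fun i => Nat.beq (act63 i) i) 120000 10000 = true := by decide +kernel
theorem c63_13 : allRange (fun i => Nat.beq (act63 i) i) 130000 10000 = true := by decide +kernel
theorem c63_14 : allRange (fun i => Nat.beq (act63 i) i) 140000 10000 = true := by decide +kernel
theorem c63_15 : allRange (fun i => Nat.beq (act63 i) i) 150000 10000 = true := by decide +kernel
theorem c63_16 : allRange (fun i => Nat.beq (act63 i) i) 160000 10000 = true := by decide +kernel
theorem c63_17 : allRange (fun i => Nat.beq (act63 i) i) 170000 10000 = true := by decide +kernel
theorem c63_18 : allRange (fun i => Nat.beq (act63 i) i) 180000 5328 = true := by decide +kernel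
theorem h63 : ∀ i, i < T.N → Tab.relActOK T D chk63 i = true := by
  intro i hi
  rw [Tab.relActOK, ← act63_eq]
  exact (range_glue (range_of_allRange c63_0) (range_glue (range_of_allRange c63_1) (range_glue (range_of_allRange c63_2) (range_glue (range_of_allRange c63_3) (range_glue (range_of_allRange c63_4) (range_glue (range_of_allRange c63_5) (range_glue (range_of_allRange c63_6) (range_glue (range_of_allRange c63_7) (range_glue (range_of_allRange c63_8) (range_glue (range_of_allRange c63_9) (range_glue (range_of_allRange c63_10) (range_glue (range_of_allRange c63_11) (range_glue (range_of_allRange c63_12) (range_glue (range_of_allRange c63_13) (range_glue (range_of_allRange c63_14) (range_glue (range_of_allRange c63_15) (range_glue (range_of_allRange c63_16) (range_glue (range_of_allRange c63_17) (range_of_allRange c63_18))))))))))))))))))) i (Nat.zero_le _) hi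

end Cfsg.Agent.Lib.Helper4.TCD.SC3Fi22yp3W
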