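import Cfsg.Agent.Lib.Helper4.TCD_C3Fi22yR_Acc
import Cfsg.Agent.Lib.Helper4.TC13

namespace Cfsg.Agent.Lib.Helper4.TCD.SC3Fi22yp3W

open Cfsg.Agent.Lib.Helper4.TC Cfsg.Agent.Lib.Helper4.TCD.C3Fi22yR

set_option maxRecDepth 100000
set_option Elab.async false

def chk8 : List Nat := [24, 24, 24]
noncomputable def act8 (i : Nat) : Nat := col25 (col25 (col25 (i)))
theorem act8_eq (i : Nat) : act8 i = Tab.act T D chk8 i := rfl
theorem c8_0 : allRange (fun i => Nat.beq (act8 i) i) 0 12000 = true := by decide +kernel
theorem c8_1 : allRange (fun i => Nat.beq (act8 i) i) 12000 12000 = true := by decide +kernel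
theorem c8_2 : allRange (fun i => Nat.beq (act8 i) i) 24000 12000 = true := by decide +kernel
theorem c8_3 : allRange (fun i => Nat.beq (act8 i) i) 36000 12000 = true := by decide +kernel
theorem c8_4 : allRange (fun i => Nat.beq (act8 i) i) 48000 12000 = true := by decide +kernel
theorem c8_5 : allRange (fun i => Nat.beq (act8 i) i) 60000 12000 = true := by decide +kernel
theorem c8_6 : allRange (fun i => Nat.beq (act8 i) i) 72000 12000 = true := by decide +kernel
theorem c8_7 : allRange (fun i => Nat.beq (act8 i) i) 84000 12000 = true := by decide +kernel
theorem c8_8 : allRange (fun i => Nat.beq (act8 i) i) 96000 12000 = true := by decide +kernel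
theorem c8_9 : allRange (fun i => Nat.beq (act8 i) i) 108000 12000 = true := by decide +kernel
theorem c8_10 : allRange (fun i => Nat.beq (act8 i) i) 120000 12000 = true := by decide +kernel
theorem c8_11 : allRange (fun i => Nat.beq (act8 i) i) 132000 12000 = true := by decide +kernel
theorem c8_12 : allRange (fun i => Nat.beq (act8 i) i) 144000 12000 = true := by decide +kernel
theorem c8_13 : allRange (fun i => Nat.beq (act8 i) i) 156000 12000 = true := by decide +kernel
theorem c8_14 : allRange (fun i => Nat.beq (act8 i) i) 168000 12000 = true := by decide +kernel
theorem c8_15 : allRange (fun i => Nat.beq (act8 i) i) 180000 5328 = true := by decide +kernel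
theorem h8 : ∀ i, i < T.N → Tab.relActOK T D chk8 i = true := by
  intro i hi
  rw [Tab.relActOK, ← act8_eq]
  exact (range_glue (range_of_allRange c8_0) (range_glue (range_of_allRange c8_1) (range_glue (range_of_allRange c8_2) (range_glue (range_of_allRange c8_3) (range_glue (range_of_allRange c8_4) (range_glue (range_of_allRange c8_5) (range_glue (range_of_allRange c8_6) (range_glue (range_of_allRange c8_7) (range_glue (range_of_allRange c8_8) (range_glue (range_of_allRange c8_9) (range_glue (range_of_allRange c8_10) (range_glue (range_of_allRange c8_11) (range_glue (range_of_allRange c8_12) (range_glue (range_of_allRange c8_13) (range_glue (range_of_allRange c8_14) (range_of_allRange c8_15)))))))))))))))) i (Nat.zero_le _) hi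

def chk11 : List Nat := [0, 4, 0, 4]
noncomputable def act11 (i : Nat) : Nat := col1 (col5 (col1 (col5 (i))))
theorem act11_eq (i : Nat) : act11 i = Tab.act T D chk11 i := rfl
theorem c11_0 : allRange (fun i => Nat.beq (act11 i) i) 0 10000 = true := by decide +kernel
theorem c11_1 : allRange (fun i => Nat.beq (act11 i) i) 10000 10000 = true := by decide +kernel
theorem c11_2 : allRange (fun i => Nat.beq (act11 i) i) 20000 10000 = true := by decide +kernel
theorem c11_3 : allRange (fun i => Nat.beq (act11 i) i) 30000 10000 = true := by decide +kernel
theorem c11_4 : allRange (fun i => Nat.beq (act11 i) i) 40000 10000 = true := by decide +kernel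
theorem c11_5 : allRange (fun i => Nat.beq (act11 i) i) 50000 10000 = true := by decide +kernel
theorem c11_6 : allRange (fun i => Nat.beq (act11 i) i) 60000 10000 = true := by decide +kernel
theorem c11_7 : allRange (fun i => Nat.beq (act11 i) i) 70000 10000 = true := by decide +kernel
theorem c11_8 : allRange (fun i => Nat.beq (act11 i) i) 80000 10000 = true := by decide +kernel
theorem c11_9 : allRange (fun i => Nat.beq (act11 i) i) 90000 10000 = true := by decide +kernel
theorem c11_10 : allRange (fun i => Nat.beq (act11 i) i) 100000 10000 = true := by decide +kernel
theorem c11_11 : allRange (fun i => Nat.beq (act11 i) i) 110000 10000 = true := by decide +kernel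
theorem c11_12 : allRange (fun i => Nat.beq (act11 i) i) 120000 10000 = true := by decide +kernel
theorem c11_13 : allRange (fun i => Nat.beq (act11 i) i) 130000 10000 = true := by decide +kernel
theorem c11_14 : allRange (fun i => Nat.beq (act11 i) i) 140000 10000 = true := by decide +kernel
theorem c11_15 : allRange (fun i => Nat.beq (act11 i) i) 150000 10000 = true := by decide +kernel
theorem c11_16 : allRange (fun i => Nat.beq (act11 i) i) 160000 10000 = true := by decide +kernel
theorem c11_17 : allRange (fun i => Nat.beq (act11 i) i) 170000 10000 = true := by decide +kernel
theorem c11_18 : allRange (fun i => Nat.beq (act11 i) i) 180000 5328 = true := by decide +kernel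
theorem h11 : ∀ i, i < T.N → Tab.relActOK T D chk11 i = true := by
  intro i hi
  rw [Tab.relActOK, ← act11_eq]
  exact (range_glue (range_of_allRange c11_0) (range_glue (range_of_allRange c11_1) (range_glue (range_of_allRange c11_2) (range_glue (range_of_allRange c11_3) (range_glue (range_of_allRange c11_4) (range_glue (range_of_allRange c11_5) (range_glue (range_of_allRange c11_6) (range_glue (range_of_allRange c11_7) (range_glue (range_of_allRange c11_8) (range_glue (range_of_allRange c11_9) (range_glue (range_of_allRange c11_10) (range_glue (range_of_allRange c11_11) (range_glue (range_of_allRange c11_12) (range_glue (range_of_allRange c11_13) (range_glue (range_of_allRange c11_14) (range_glue (range_of_allRange c11_15) (range_glue (range_of_allRange c11_16) (range_glue (range_of_allRange c11_17) (range_of_allRange c11_18))))))))))))))))))) i (Nat.zero_le _) hi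

def chk13 : List Nat := [0, 8, 0, 8]
noncomputable def act13 (i : Nat) : Nat := col1 (col9 (col1 (col9 (i))))
theorem act13_eq (i : Nat) : act13 i = Tab.act T D chk13 i := rfl
theorem c13_0 : allRange (fun i => Nat.beq (act13 i) i) 0 10000 = true := by decide +kernel
theorem c13_1 : allRange (fun i => Nat.beq (act13 i) i) 10000 10000 = true := by decide +kernel
theorem c13_2 : allRange (fun i => Nat.beq (act13 i) i) 20000 10000 = true := by decide +kernel
theorem c13_3 : allRange (fun i => Nat.beq (act13 i) i) 30000 10000 = true := by decide +kernel
theorem c13_4 : allRange (fun i => Nat.beq (act13 i) i) 40000 10000 = true := by decide +kernel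
theorem c13_5 : allRange (fun i => Nat.beq (act13 i) i) 50000 10000 = true := by decide +kernel
theorem c13_6 : allRange (fun i => Nat.beq (act13 i) i) 60000 10000 = true := by decide +kernel
theorem c13_7 : allRange (fun i => Nat.beq (act13 i) i) 70000 10000 = true := by decide +kernel
theorem c13_8 : allRange (fun i => Nat.beq (act13 i) i) 80000 10000 = true := by decide +kernel
theorem c13_9 : allRange (fun i => Nat.beq (act13 i) i) 90000 10000 = true := by decide +kernel
theorem c13_10 : allRange (fun i => Nat.beq (act13 i) i) 100000 10000 = true := by decide +kernel
theorem c13_11 : allRange (fun i => Nat.beq (act13 i) i) 110000 10000 = true := by decide +kernel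
theorem c13_12 : allRange (fun i => Nat.beq (act13 i) i) 120000 10000 = true := by decide +kernel
theorem c13_13 : allRange (fun i => Nat.beq (act13 i) i) 130000 10000 = true := by decide +kernel
theorem c13_14 : allRange (fun i => Nat.beq (act13 i) i) 140000 10000 = true := by decide +kernel
theorem c13_15 : allRange (fun i => Nat.beq (act13 i) i) 150000 10000 = true := by decide +kernel
theorem c13_16 : allRange (fun i => Nat.beq (act13 i) i) 160000 10000 = true := by decide +kernel
theorem c13_17 : allRange (fun i => Nat.beq (act13 i) i) 170000 10000 = true := by decide +kernel
theorem c13_18 : allRange (fun i => Nat.beq (act13 i) i) 180000 5328 = true := by decide +kernel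
theorem h13 : ∀ i, i < T.N → Tab.relActOK T D chk13 i = true := by
  intro i hi
  rw [Tab.relActOK, ← act13_eq]
  exact (range_glue (range_of_allRange c13_0) (range_glue (range_of_allRange c13_1) (range_glue (range_of_allRange c13_2) (range_glue (range_of_allRange c13_3) (range_glue (range_of_allRange c13_4) (range_glue (range_of_allRange c13_5) (range_glue (range_of_allRange c13_6) (range_glue (range_of_allRange c13_7) (range_glue (range_of_allRange c13_8) (range_glue (range_of_allRange c13_9) (range_glue (range_of_allRange c13_10) (range_glue (range_of_allRange c13_11) (range_glue (range_of_allRange c13_12) (range_glue (range_of_allRange c13_13) (range_glue (range_of_allRange c13_14) (range_glue (range_of_allRange c13_15) (range_glue (range_of_allRange c13_16) (range_glue (range_of_allRange c13_17) (range_of_allRange c13_18))))))))))))))))))) i (Nat.zero_le _) hi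

def chk19 : List Nat := [25, 1, 24, 0]
noncomputable def act19 (i : Nat) : Nat := col24 (col0 (col25 (col1 (i))))
theorem act19_eq (i : Nat) : act19 i = Tab.act T D chk19 i := rfl
theorem c19_0 : allRange (fun i => Nat.beq (act19 i) i) 0 10000 = true := by decide +kernel
theorem c19_1 : allRange (fun i => Nat.beq (act19 i) i) 10000 10000 = true := by decide +kernel
theorem c19_2 : allRange (fun i => Nat.beq (act19 i) i) 20000 10000 = true := by decide +kernel
theorem c19_3 : allRange (fun i => Nat.beq (act19 i) i) 30000 10000 = true := by decide +kernel
theorem c19_4 : allRange (fun i => Nat.beq (act19 i) i) 40000 10000 = true := by decide +kernel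
theorem c19_5 : allRange (fun i => Nat.beq (act19 i) i) 50000 10000 = true := by decide +kernel
theorem c19_6 : allRange (fun i => Nat.beq (act19 i) i) 60000 10000 = true := by decide +kernel
theorem c19_7 : allRange (fun i => Nat.beq (act19 i) i) 70000 10000 = true := by decide +kernel
theorem c19_8 : allRange (fun i => Nat.beq (act19 i) i) 80000 10000 = true := by decide +kernel
theorem c19_9 : allRange (fun i => Nat.beq (act19 i) i) 90000 10000 = true := by decide +kernel
theorem c19_10 : allRange (fun i => Nat.beq (act19 i) i) 100000 10000 = true := by decide +kernel
theorem c19_11 : allRange (fun i => Nat.beq (act19 i) i) 110000 10000 = true := by decide +kernel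
theorem c19_12 : allRange (fun i => Nat.beq (act19 i) i) 120000 10000 = true := by decide +kernel
theorem c19_13 : allRange (fun i => Nat.beq (act19 i) i) 130000 10000 = true := by decide +kernel
theorem c19_14 : allRange (fun i => Nat.beq (act19 i) i) 140000 10000 = true := by decide +kernel
theorem c19_15 : allRange (fun i => Nat.beq (act19 i) i) 150000 10000 = true := by decide +kernel
theorem c19_16 : allRange (fun i => Nat.beq (act19 i) i) 160000 10000 = true := by decide +kernel
theorem c19_17 : allRange (fun i => Nat.beq (act19 i) i) 170000 10000 = true := by decide +kernel
theorem c19_18 : allRange (fun i => Nat.beq (act19 i) i) 180000 5328 = true := by decide +kernel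
theorem h19 : ∀ i, i < T.N → Tab.relActOK T D chk19 i = true := by
  intro i hi
  rw [Tab.relActOK, ← act19_eq]
  exact (range_glue (range_of_allRange c19_0) (range_glue (range_of_allRange c19_1) (range_glue (range_of_allRange c19_2) (range_glue (range_of_allRange c19_3) (range_glue (range_of_allRange c19_4) (range_glue (range_of_allRange c19_5) (range_glue (range_of_allRange c19_6) (range_glue (range_of_allRange c19_7) (range_glue (range_of_allRange c19_8) (range_glue (range_of_allRange c19_9) (range_glue (range_of_allRange c19_10) (range_glue (range_of_allRange c19_11) (range_glue (range_of_allRange c19_12) (range_glue (range_of_allRange c19_13) (range_glue (range_of_allRange c19_14) (range_glue (range_of_allRange c19_15) (range_glue (range_of_allRange c19_16) (range_glue (range_of_allRange c19_17) (range_of_allRange c19_18))))))))))))))))))) i (Nat.zero_le _) hi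

def chk20 : List Nat := [2, 2]
noncomputable def act20 (i : Nat) : Nat := col3 (col3 (i))
theorem act20_eq (i : Nat) : act20 i = Tab.act T D chk20 i := rfl
theorem c20_0 : allRange (fun i => Nat.beq (act20 i) i) 0 15000 = true := by decide +kernel
theorem c20_1 : allRange (fun i => Nat.beq (act20 i) i) 15000 15000 = true := by decide +kernel
theorem c20_2 : allRange (fun i => Nat.beq (act20 i) i) 30000 15000 = true := by decide +kernel
theorem c20_3 : allRange (fun i => Nat.beq (act20 i) i) 45000 15000 = true := by decide +kernel
theorem c20_4 : allRange (fun i => Nat.beq (act20 i) i) 60000 15000 = true := by decide +kernel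
theorem c20_5 : allRange (fun i => Nat.beq (act20 i) i) 75000 15000 = true := by decide +kernel
theorem c20_6 : allRange (fun i => Nat.beq (act20 i) i) 90000 15000 = true := by decide +kernel
theorem c20_7 : allRange (fun i => Nat.beq (act20 i) i) 105000 15000 = true := by decide +kernel
theorem c20_8 : allRange (fun i => Nat.beq (act20 i) i) 120000 15000 = true := by decide +kernel
theorem c20_9 : allRange (fun i => Nat.beq (act20 i) i) 135000 15000 = true := by decide +kernel
theorem c20_10 : allRange (fun i => Nat.beq (act20 i) i) 150000 15000 = true := by decide +kernel
theorem c20_11 : allRange (fun i => Nat.beq (act20 i) i) 165000 15000 = true := by decide +kernel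
theorem c20_12 : allRange (fun i => Nat.beq (act20 i) i) 180000 5328 = true := by decide +kernel
theorem h20 : ∀ i, i < T.N → Tab.relActOK T D chk20 i = true := by
  intro i hi
  rw [Tab.relActOK, ← act20_eq]
  exact (range_glue (range_of_allRange c20_0) (range_glue (range_of_allRange c20_1) (range_glue (range_of_allRange c20_2) (range_glue (range_of_allRange c20_3) (range_glue (range_of_allRange c20_4) (range_glue (range_of_allRange c20_5) (range_glue (range_of_allRange c20_6) (range_glue (range_of_allRange c20_7) (range_glue (range_of_allRange c20_8) (range_glue (range_of_allRange c20_9) (range_glue (range_of_allRange c20_10) (range_glue (range_of_allRange c20_11) (range_of_allRange c20_12))))))))))))) i (Nat.zero_le _) hi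

def chk26 : List Nat := [2, 12, 2, 12]
noncomputable def act26 (i : Nat) : Nat := col3 (col13 (col3 (col13 (i))))
theorem act26_eq (i : Nat) : act26 i = Tab.act T D chk26 i := rfl
theorem c26_0 : allRange (fun i => Nat.beq (act26 i) i) 0 10000 = true := by decide +kernel
theorem c26_1 : allRange (fun i => Nat.beq (act26 i) i) 10000 10000 = true := by decide +kernel
theorem c26_2 : allRange (fun i => Nat.beq (act26 i) i) 20000 10000 = true := by decide +kernel
theorem c26_3 : allRange (fun i => Nat.beq (act26 i) i) 30000 10000 = true := by decide +kernel
theorem c26_4 : allRange (fun i => Nat.beq (act26 i) i) 40000 10000 = true := by decide +kernel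
theorem c26_5 : allRange (fun i => Nat.beq (act26 i) i) 50000 10000 = true := by decide +kernel
theorem c26_6 : allRange (fun i => Nat.beq (act26 i) i) 60000 10000 = true := by decide +kernel
theorem c26_7 : allRange (fun i => Nat.beq (act26 i) i) 70000 10000 = true := by decide +kernel
theorem c26_8 : allRange (fun i => Nat.beq (act26 i) i) 80000 10000 = true := by decide +kernel
theorem c26_9 : allRange (fun i => Nat.beq (act26 i) i) 90000 10000 = true := by decide +kernel
theorem c26_10 : allRange (fun i => Nat.beq (act26 i) i) 100000 10000 = true := by decide +kernel
theorem c26_11 : allRange (fun i => Nat.beq (act26 i) i) 110000 10000 = true := by decide +kernel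
theorem c26_12 : allRange (fun i => Nat.beq (act26 i) i) 120000 10000 = true := by decide +kernel
theorem c26_13 : allRange (fun i => Nat.beq (act26 i) i) 130000 10000 = true := by decide +kernel
theorem c26_14 : allRange (fun i => Nat.beq (act26 i) i) 140000 10000 = true := by decide +kernel
theorem c26_15 : allRange (fun i => Nat.beq (act26 i) i) 150000 10000 = true := by decide +kernel
theorem c26_16 : allRange (fun i => Nat.beq (act26 i) i) 160000 10000 = true := by decide +kernel
theorem c26_17 : allRange (fun i => Nat.beq (act26 i) i) 170000 10000 = true := by decide +kernel
theorem c26_18 : allRange (fun i => Nat.beq (act26 i) i) 180000 5328 = true := by decide +kernel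
theorem h26 : ∀ i, i < T.N → Tab.relActOK T D chk26 i = true := by
  intro i hi
  rw [Tab.relActOK, ← act26_eq]
  exact (range_glue (range_of_allRange c26_0) (range_glue (range_of_allRange c26_1) (range_glue (range_of_allRange c26_2) (range_glue (range_of_allRange c26_3) (range_glue (range_of_allRange c26_4) (range_glue (range_of_allRange c26_5) (range_glue (range_of_allRange c26_6) (range_glue (range_of_allRange c26_7) (range_glue (range_of_allRange c26_8) (range_glue (range_of_allRange c26_9) (range_glue (range_of_allRange c26_10) (range_glue (range_of_allRange c26_11) (range_glue (range_of_allRange c26_12) (range_glue (range_of_allRange c26_13) (range_glue (range_of_allRange c26_14) (range_glue (range_of_allRange c26_15) (range_glue (range_of_allRange c26_16) (range_glue (range_of_allRange c26_17) (range_of_allRange c26_18))))))))))))))))))) i (Nat.zero_le _) hi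

def chk33 : List Nat := [4, 12, 4, 12]
noncomputable def act33 (i : Nat) : Nat := col5 (col13 (col5 (col13 (i))))
theorem act33_eq (i : Nat) : act33 i = Tab.act T D chk33 i := rfl
theorem c33_0 : allRange (fun i => Nat.beq (act33 i) i) 0 10000 = true := by decide +kernel
theorem c33_1 : allRange (fun i => Nat.beq (act33 i) i) 10000 10000 = true := by decide +kernel
theorem c33_2 : allRange (fun i => Nat.beq (act33 i) i) 20000 10000 = true := by decide +kernel
theorem c33_3 : allRange (fun i => Nat.beq (act33 i) i) 30000 10000 = true := by decide +kernel
theorem c33_4 : allRange (fun i => Nat.beq (act33 i) i) 40000 10000 = true := by decide +kernel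
theorem c33_5 : allRange (fun i => Nat.beq (act33 i) i) 50000 10000 = true := by decide +kernel
theorem c33_6 : allRange (fun i => Nat.beq (act33 i) i) 60000 10000 = true := by decide +kernel
theorem c33_7 : allRange (fun i => Nat.beq (act33 i) i) 70000 10000 = true := by decide +kernel
theorem c33_8 : allRange (fun i => Nat.beq (act33 i) i) 80000 10000 = true := by decide +kernel
theorem c33_9 : allRange (fun i => Nat.beq (act33 i) i) 90000 10000 = true := by decide +kernel
theorem c33_10 : allRange (fun i => Nat.beq (act33 i) i) 100000 10000 = true := by decide +kernel
theorem c33_11 : allRange (fun i => Nat.beq (act33 i) i) 110000 10000 = true := by decide +kernel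
theorem c33_12 : allRange (fun i => Nat.beq (act33 i) i) 120000 10000 = true := by decide +kernel
theorem c33_13 : allRange (fun i => Nat.beq (act33 i) i) 130000 10000 = true := by decide +kernel
theorem c33_14 : allRange (fun i => Nat.beq (act33 i) i) 140000 10000 = true := by decide +kernel
theorem c33_15 : allRange (fun i => Nat.beq (act33 i) i) 150000 10000 = true := by decide +kernel
theorem c33_16 : allRange (fun i => Nat.beq (act33 i) i) 160000 10000 = true := by decide +kernel
theorem c33_17 : allRange (fun i => Nat.beq (act33 i) i) 170000 10000 = true := by decide +kernel
theorem c33_18 : allRange (fun i => Nat.beq (act33 i) i) 180000 5328 = true := by decide +kernel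
theorem h33 : ∀ i, i < T.N → Tab.relActOK T D chk33 i = true := by
  intro i hi
  rw [Tab.relActOK, ← act33_eq]
  exact (range_glue (range_of_allRange c33_0) (range_glue (range_of_allRange c33_1) (range_glue (range_of_allRange c33_2) (range_glue (range_of_allRange c33_3) (range_glue (range_of_allRange c33_4) (range_glue (range_of_allRange c33_5) (range_glue (range_of_allRange c33_6) (range_glue (range_of_allRange c33_7) (range_glue (range_of_allRange c33_8) (range_glue (range_of_allRange c33_9) (range_glue (range_of_allRange c33_10) (range_glue (range_of_allRange c33_11) (range_glue (range_of_allRange c33_12) (range_glue (range_of_allRange c33_13) (range_glue (range_of_allRange c33_14) (range_glue (range_of_allRange c33_15) (range_glue (range_of_allRange c33_16) (range_glue (range_of_allRange c33_17) (range_of_allRange c33_18))))))))))))))))))) i (Nat.zero_le _) hi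

def chk36 : List Nat := [6, 8, 6, 8, 6, 8]
noncomputable def act36 (i : Nat) : Nat := col7 (col9 (col7 (col9 (col7 (col9 (i))))))
theorem act36_eq (i : Nat) : act36 i = Tab.act T D chk36 i := rfl
theorem c36_0 : allRange (fun i => Nat.beq (act36 i) i) 0 7500 = true := by decide +kernel
theorem c36_1 : allRange (fun i => Nat.beq (act36 i) i) 7500 7500 = true := by decide +kernel
theorem c36_2 : allRange (fun i => Nat.beq (act36 i) i) 15000 7500 = true := by decide +kernel
theorem c36_3 : allRange (fun i => Nat.beq (act36 i) i) 22500 7500 = true := by decide +kernel
theorem c36_4 : allRange (fun i => Nat.beq (act36 i) i) 30000 7500 = true := by decide +kernel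
theorem c36_5 : allRange (fun i => Nat.beq (act36 i) i) 37500 7500 = true := by decide +kernel
theorem c36_6 : allRange (fun i => Nat.beq (act36 i) i) 45000 7500 = true := by decide +kernel
theorem c36_7 : allRange (fun i => Nat.beq (act36 i) i) 52500 7500 = true := by decide +kernel
theorem c36_8 : allRange (fun i => Nat.beq (act36 i) i) 60000 7500 = true := by decide +kernel
theorem c36_9 : allRange (fun i => Nat.beq (act36 i) i) 67500 7500 = true := by decide +kernel
theorem c36_10 : allRange (fun i => Nat.beq (act36 i) i) 75000 7500 = true := by decide +kernel
theorem c36_11 : allRange (fun i => Nat.beq (act36 i) i) 82500 7500 = true := by decide +kernel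
theorem c36_12 : allRange (fun i => Nat.beq (act36 i) i) 90000 7500 = true := by decide +kernel
theorem c36_13 : allRange (fun i => Nat.beq (act36 i) i) 97500 7500 = true := by decide +kernel
theorem c36_14 : allRange (fun i => Nat.beq (act36 i) i) 105000 7500 = true := by decide +kernel
theorem c36_15 : allRange (fun i => Nat.beq (act36 i) i) 112500 7500 = true := by decide +kernel
theorem c36_16 : allRange (fun i => Nat.beq (act36 i) i) 120000 7500 = true := by decide +kernel
theorem c36_17 : allRange (fun i => Nat.beq (act36 i) i) 127500 7500 = true := by decide +kernel
theorem c36_18 : allRange (fun i => Nat.beq (act36 i) i) 135000 7500 = true := by decide +kernel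
theorem c36_19 : allRange (fun i => Nat.beq (act36 i) i) 142500 7500 = true := by decide +kernel
theorem c36_20 : allRange (fun i => Nat.beq (act36 i) i) 150000 7500 = true := by decide +kernel
theorem c36_21 : allRange (fun i => Nat.beq (act36 i) i) 157500 7500 = true := by decide +kernel
theorem c36_22 : allRange (fun i => Nat.beq (act36 i) i) 165000 7500 = true := by decide +kernel
theorem c36_23 : allRange (fun i => Nat.beq (act36 i) i) 172500 7500 = true := by decide +kernel
theorem c36_24 : allRange (fun i => Nat.beq (act36 i) i) 180000 5328 = true := by decide +kernel
theorem h36 : ∀ i, i < T.N → Tab.relActOK T D chk36 i = true := by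
  intro i hi
  rw [Tab.relActOK, ← act36_eq]
  exact (range_glue (range_of_allRange c36_0) (range_glue (range_of_allRange c36_1) (range_glue (range_of_allRange c36_2) (range_glue (range_of_allRange c36_3) (range_glue (range_of_allRange c36_4) (range_glue (range_of_allRange c36_5) (range_glue (range_of_allRange c36_6) (range_glue (range_of_allRange c36_7) (range_glue (range_of_allRange c36_8) (range_glue (range_of_allRange c36_9) (range_glue (range_of_allRange c36_10) (range_glue (range_of_allRange c36_11) (range_glue (range_of_allRange c36_12) (range_glue (range_of_allRange c36_13) (range_glue (range_of_allRange c36_14) (range_glue (range_of_allRange c36_15) (range_glue (range_of_allRange c36_16) (range_glue (range_of_allRange c36_17) (range_glue (range_of_allRange c36_18) (range_glue (range_of_allRange c36_19) (range_glue (range_of_allRange c36_20) (range_glue (range_of_allRange c36_21) (range_glue (range_of_allRange c36_22) (range_glue (range_of_allRange c36_23) (range_of_allRange c36_24))))))))))))))))))))))))) i (Nat.zero_le _) hi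

def chk42 : List Nat := [8, 14, 8, 14]
noncomputable def act42 (i : Nat) : Nat := col9 (col15 (col9 (col15 (i))))
theorem act42_eq (i : Nat) : act42 i = Tab.act T D chk42 i := rfl
theorem c42_0 : allRange (fun i => Nat.beq (act42 i) i) 0 10000 = true := by decide +kernel
theorem c42_1 : allRange (fun i => Nat.beq (act42 i) i) 10000 10000 = true := by decide +kernel
theorem c42_2 : allRange (fun i => Nat.beq (act42 i) i) 20000 10000 = true := by decide +kernel
theorem c42_3 : allRange (fun i => Nat.beq (act42 i) i) 30000 10000 = true := by decide +kernel
theorem c42_4 : allRange (fun i => Nat.beq (act42 i) i) 40000 10000 = true := by decide +kernel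
theorem c42_5 : allRange (fun i => Nat.beq (act42 i) i) 50000 10000 = true := by decide +kernel
theorem c42_6 : allRange (fun i => Nat.beq (act42 i) i) 60000 10000 = true := by decide +kernel
theorem c42_7 : allRange (fun i => Nat.beq (act42 i) i) 70000 10000 = true := by decide +kernel
theorem c42_8 : allRange (fun i => Nat.beq (act42 i) i) 80000 10000 = true := by decide +kernel
theorem c42_9 : allRange (fun i => Nat.beq (act42 i) i) 90000 10000 = true := by decide +kernel
theorem c42_10 : allRange (fun i => Nat.beq (act42 i) i) 100000 10000 = true := by decide +kernel
theorem c42_11 : allRange (fun i => Nat.beq (act42 i) i) 110000 10000 = true := by decide +kernel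
theorem c42_12 : allRange (fun i => Nat.beq (act42 i) i) 120000 10000 = true := by decide +kernel
theorem c42_13 : allRange (fun i => Nat.beq (act42 i) i) 130000 10000 = true := by decide +kernel
theorem c42_14 : allRange (fun i => Nat.beq (act42 i) i) 140000 10000 = true := by decide +kernel
theorem c42_15 : allRange (fun i => Nat.beq (act42 i) i) 150000 10000 = true := by decide +kernel
theorem c42_16 : allRange (fun i => Nat.beq (act42 i) i) 160000 10000 = true := by decide +kernel
theorem c42_17 : allRange (fun i => Nat.beq (act42 i) i) 170000 10000 = true := by decide +kernel
theorem c42_18 : allRange (fun i => Nat.beq (act42 i) i) 180000 5328 = true := by decide +kernel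
theorem h42 : ∀ i, i < T.N → Tab.relActOK T D chk42 i = true := by
  intro i hi
  rw [Tab.relActOK, ← act42_eq]
  exact (range_glue (range_of_allRange c42_0) (range_glue (range_of_allRange c42_1) (range_glue (range_of_allRange c42_2) (range_glue (range_of_allRange c42_3) (range_glue (range_of_allRange c42_4) (range_glue (range_of_allRange c42_5) (range_glue (range_of_allRange c42_6) (range_glue (range_of_allRange c42_7) (range_glue (range_of_allRange c42_8) (range_glue (range_of_allRange c42_9) (range_glue (range_of_allRange c42_10) (range_glue (range_of_allRange c42_11) (range_glue (range_of_allRange c42_12) (range_glue (range_of_allRange c42_13) (range_glue (range_of_allRange c42_14) (range_glue (range_of_allRange c42_15) (range_glue (range_of_allRange c42_16) (range_glue (range_of_allRange c42_17) (range_of_allRange c42_18))))))))))))))))))) i (Nat.zero_le _) hi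

def chk52 : List Nat := [10, 16, 10, 16]
noncomputable def act52 (i : Nat) : Nat := col11 (col17 (col11 (col17 (i))))
theorem act52_eq (i : Nat) : act52 i = Tab.act T D chk52 i := rfl
theorem c52_0 : allRange (fun i => Nat.beq (act52 i) i) 0 10000 = true := by decide +kernel
theorem c52_1 : allRange (fun i => Nat.beq (act52 i) i) 10000 10000 = true := by decide +kernel
theorem c52_2 : allRange (fun i => Nat.beq (act52 i) i) 20000 10000 = true := by decide +kernel
theorem c52_3 : allRange (fun i => Nat.beq (act52 i) i) 30000 10000 = true := by decide +kernel
theorem c52_4 : allRange (fun i => Nat.beq (act52 i) i) 40000 10000 = true := by decide +kernel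
theorem c52_5 : allRange (fun i => Nat.beq (act52 i) i) 50000 10000 = true := by decide +kernel
theorem c52_6 : allRange (fun i => Nat.beq (act52 i) i) 60000 10000 = true := by decide +kernel
theorem c52_7 : allRange (fun i => Nat.beq (act52 i) i) 70000 10000 = true := by decide +kernel
theorem c52_8 : allRange (fun i => Nat.beq (act52 i) i) 80000 10000 = true := by decide +kernel
theorem c52_9 : allRange (fun i => Nat.beq (act52 i) i) 90000 10000 = true := by decide +kernel
theorem c52_10 : allRange (fun i => Nat.beq (act52 i) i) 100000 10000 = true := by decide +kernel
theorem c52_11 : allRange (fun i => Nat.beq (act52 i) i) 110000 10000 = true := by decide +kernel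
theorem c52_12 : allRange (fun i => Nat.beq (act52 i) i) 120000 10000 = true := by decide +kernel
theorem c52_13 : allRange (fun i => Nat.beq (act52 i) i) 130000 10000 = true := by decide +kernel
theorem c52_14 : allRange (fun i => Nat.beq (act52 i) i) 140000 10000 = true := by decide +kernel
theorem c52_15 : allRange (fun i => Nat.beq (act52 i) i) 150000 10000 = true := by decide +kernel
theorem c52_16 : allRange (fun i => Nat.beq (act52 i) i) 160000 10000 = true := by decide +kernel
theorem c52_17 : allRange (fun i => Nat.beq (act52 i) i) 170000 10000 = true := by decide +kernel
theorem c52_18 : allRange (fun i => Nat.beq (act52 i) i) 180000 5328 = true := by decide +kernel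
theorem h52 : ∀ i, i < T.N → Tab.relActOK T D chk52 i = true := by
  intro i hi
  rw [Tab.relActOK, ← act52_eq]
  exact (range_glue (range_of_allRange c52_0) (range_glue (range_of_allRange c52_1) (range_glue (range_of_allRange c52_2) (range_glue (range_of_allRange c52_3) (range_glue (range_of_allRange c52_4) (range_glue (range_of_allRange c52_5) (range_glue (range_of_allRange c52_6) (range_glue (range_of_allRange c52_7) (range_glue (range_of_allRange c52_8) (range_glue (range_of_allRange c52_9) (range_glue (range_of_allRange c52_10) (range_glue (range_of_allRange c52_11) (range_glue (range_of_allRange c52_12) (range_glue (range_of_allRange c52_13) (range_glue (range_of_allRange c52_14) (range_glue (range_of_allRange c52_15) (range_glue (range_of_allRange c52_16) (range_glue (range_of_allRange c52_17) (range_of_allRange c52_18))))))))))))))))))) i (Nat.zero_le _) hi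

def chk55 : List Nat := [16, 16]
noncomputable def act55 (i : Nat) : Nat := col17 (col17 (i))
theorem act55_eq (i : Nat) : act55 i = Tab.act T D chk55 i := rfl
theorem c55_0 : allRange (fun i => Nat.beq (act55 i) i) 0 15000 = true := by decide +kernel
theorem c55_1 : allRange (fun i => Nat.beq (act55 i) i) 15000 15000 = true := by decide +kernel
theorem c55_2 : allRange (fun i => Nat.beq (act55 i) i) 30000 15000 = true := by decide +kernel
theorem c55_3 : allRange (fun i => Nat.beq (act55 i) i) 45000 15000 = true := by decide +kernel
theorem c55_4 : allRange (fun i => Nat.beq (act55 i) i) 60000 15000 = true := by decide +kernel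
theorem c55_5 : allRange (fun i => Nat.beq (act55 i) i) 75000 15000 = true := by decide +kernel
theorem c55_6 : allRange (fun i => Nat.beq (act55 i) i) 90000 15000 = true := by decide +kernel
theorem c55_7 : allRange (fun i => Nat.beq (act55 i) i) 105000 15000 = true := by decide +kernel
theorem c55_8 : allRange (fun i => Nat.beq (act55 i) i) 120000 15000 = true := by decide +kernel
theorem c55_9 : allRange (fun i => Nat.beq (act55 i) i) 135000 15000 = true := by decide +kernel
theorem c55_10 : allRange (fun i => Nat.beq (act55 i) i) 150000 15000 = true := by decide +kernel
theorem c55_11 : allRange (fun i => Nat.beq (act55 i) i) 165000 15000 = true := by decide +kernel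
theorem c55_12 : allRange (fun i => Nat.beq (act55 i) i) 180000 5328 = true := by decide +kernel
theorem h55 : ∀ i, i < T.N → Tab.relActOK T D chk55 i = true := by
  intro i hi
  rw [Tab.relActOK, ← act55_eq]
  exact (range_glue (range_of_allRange c55_0) (range_glue (range_of_allRange c55_1) (range_glue (range_of_allRange c55_2) (range_glue (range_of_allRange c55_3) (range_glue (range_of_allRange c55_4) (range_glue (range_of_allRange c55_5) (range_glue (range_of_allRange c55_6) (range_glue (range_of_allRange c55_7) (range_glue (range_of_allRange c55_8) (range_glue (range_of_allRange c55_9) (range_glue (range_of_allRange c55_10) (range_glue (range_of_allRange c55_11) (range_of_allRange c55_12))))))))))))) i (Nat.zero_le _) hi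

def chk59 : List Nat := [25, 9, 24, 8]
noncomputable def act59 (i : Nat) : Nat := col24 (col8 (col25 (col9 (i))))
theorem act59_eq (i : Nat) : act59 i = Tab.act T D chk59 i := rfl
theorem c59_0 : allRange (fun i => Nat.beq (act59 i) i) 0 10000 = true := by decide +kernel
theorem c59_1 : allRange (fun i => Nat.beq (act59 i) i) 10000 10000 = true := by decide +kernel
theorem c59_2 : allRange (fun i => Nat.beq (act59 i) i) 20000 10000 = true := by decide +kernel
theorem c59_3 : allRange (fun i => Nat.beq (act59 i) i) 30000 10000 = true := by decide +kernel
theorem c59_4 : allRange (fun i => Nat.beq (act59 i) i) 40000 10000 = true := by decide +kernel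
theorem c59_5 : allRange (fun i => Nat.beq (act59 i) i) 50000 10000 = true := by decide +kernel
theorem c59_6 : allRange (fun i => Nat.beq (act59 i) i) 60000 10000 = true := by decide +kernel
theorem c59_7 : allRange (fun i => Nat.beq (act59 i) i) 70000 10000 = true := by decide +kernel
theorem c59_8 : allRange (fun i => Nat.beq (act59 i) i) 80000 10000 = true := by decide +kernel
theorem c59_9 : allRange (fun i => Nat.beq (act59 i) i) 90000 10000 = true := by decide +kernel
theorem c59_10 : allRange (fun i => Nat.beq (act59 i) i) 100000 10000 = true := by decide +kernel
theorem c59_11 : allRange (fun i => Nat.beq (act59 i) i) 110000 10000 = true := by decide +kernel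
theorem c59_12 : allRange (fun i => Nat.beq (act59 i) i) 120000 10000 = true := by decide +kernel
theorem c59_13 : allRange (fun i => Nat.beq (act59 i) i) 130000 10000 = true := by decide +kernel
theorem c59_14 : allRange (fun i => Nat.beq (act59 i) i) 140000 10000 = true := by decide +kernel
theorem c59_15 : allRange (fun i => Nat.beq (act59 i) i) 150000 10000 = true := by decide +kernel
theorem c59_16 : allRange (fun i => Nat.beq (act59 i) i) 160000 10000 = true := by decide +kernel
theorem c59_17 : allRange (fun i => Nat.beq (act59 i) i) 170000 10000 = true := by decide +kernel
theorem c59_18 : allRange (fun i => Nat.beq (act59 i) i) 180000 5328 = true := by decide +kernel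
theorem h59 : ∀ i, i < T.N → Tab.relActOK T D chk59 i = true := by
  intro i hi
  rw [Tab.relActOK, ← act59_eq]
  exact (range_glue (range_of_allRange c59_0) (range_glue (range_of_allRange c59_1) (range_glue (range_of_allRange c59_2) (range_glue (range_of_allRange c59_3) (range_glue (range_of_allRange c59_4) (range_glue (range_of_allRange c59_5) (range_glue (range_of_allRange c59_6) (range_glue (range_of_allRange c59_7) (range_glue (range_of_allRange c59_8) (range_glue (range_of_allRange c59_9) (range_glue (range_of_allRange c59_10) (range_glue (range_of_allRange c59_11) (range_glue (range_of_allRange c59_12) (range_glue (range_of_allRange c59_13) (range_glue (range_of_allRange c59_14) (range_glue (range_of_allRange c59_15) (range_glue (range_of_allRange c59_16) (range_glue (range_of_allRange c59_17) (range_of_allRange c59_18))))))))))))))))))) i (Nat.zero_le _) hi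

end Cfsg.Agent.Lib.Helper4.TCD.SC3Fi22yp3W
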