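import Cfsg.Agent.Lib.Helper4.TCD_C3Fi22yR_Acc
import Cfsg.Agent.Lib.Helper4.TC13

namespace Cfsg.Agent.Lib.Helper4.TCD.SC3Fi22yp3W

open Cfsg.Agent.Lib.Helper4.TC Cfsg.Agent.Lib.Helper4.TCD.C3Fi22yR

set_option maxRecDepth 100000
set_option Elab.async false

def chk0 : List Nat := [2, 2]
noncomputable def act0 (i : Nat) : Nat := col3 (col3 (i))
theorem act0_eq (i : Nat) : act0 i = Tab.act T D chk0 i := rfl
theorem c0_0 : allRange (fun i => Nat.beq (act0 i) i) 0 15000 = true := by decide +kernel
theorem c0_1 : allRange (fun i => Nat.beq (act0 i) i) 15000 15000 = true := by decide +kernel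
theorem c0_2 : allRange (fun i => Nat.beq (act0 i) i) 30000 15000 = true := by decide +kernel
theorem c0_3 : allRange (fun i => Nat.beq (act0 i) i) 45000 15000 = true := by decide +kernel
theorem c0_4 : allRange (fun i => Nat.beq (act0 i) i) 60000 15000 = true := by decide +kernel
theorem c0_5 : allRange (fun i => Nat.beq (act0 i) i) 75000 15000 = true := by decide +kernel
theorem c0_6 : allRange (fun i => Nat.beq (act0 i) i) 90000 15000 = true := by decide +kernel
theorem c0_7 : allRange (fun i => Nat.beq (act0 i) i) 105000 15000 = true := by decide +kernel
theorem c0_8 : allRange (fun i => Nat.beq (act0 i) i) 120000 15000 = true := by decide +kernel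
theorem c0_9 : allRange (fun i => Nat.beq (act0 i) i) 135000 15000 = true := by decide +kernel
theorem c0_10 : allRange (fun i => Nat.beq (act0 i) i) 150000 15000 = true := by decide +kernel
theorem c0_11 : allRange (fun i => Nat.beq (act0 i) i) 165000 15000 = true := by decide +kernel
theorem c0_12 : allRange (fun i => Nat.beq (act0 i) i) 180000 5328 = true := by decide +kernel
theorem h0 : ∀ i, i < T.N → Tab.relActOK T D chk0 i = true := by
  intro i hi
  rw [Tab.relActOK, ← act0_eq]
  exact (range_glue (range_of_allRange c0_0) (range_glue (range_of_allRange c0_1) (range_glue (range_of_allRange c0_2) (range_glue (range_of_allRange c0_3) (range_glue (range_of_allRange c0_4) (range_glue (range_of_allRange c0_5) (range_glue (range_of_allRange c0_6) (range_glue (range_of_allRange c0_7) (range_glue (range_of_allRange c0_8) (range_glue (range_of_allRange c0_9) (range_glue (range_of_allRange c0_10) (range_glue (range_of_allRange c0_11) (range_of_allRange c0_12))))))))))))) i (Nat.zero_le _) hi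

def chk6 : List Nat := [14, 14]
noncomputable def act6 (i : Nat) : Nat := col15 (col15 (i))
theorem act6_eq (i : Nat) : act6 i = Tab.act T D chk6 i := rfl
theorem c6_0 : allRange (fun i => Nat.beq (act6 i) i) 0 15000 = true := by decide +kernel
theorem c6_1 : allRange (fun i => Nat.beq (act6 i) i) 15000 15000 = true := by decide +kernel
theorem c6_2 : allRange (fun i => Nat.beq (act6 i) i) 30000 15000 = true := by decide +kernel
theorem c6_3 : allRange (fun i => Nat.beq (act6 i) i) 45000 15000 = true := by decide +kernel
theorem c6_4 : allRange (fun i => Nat.beq (act6 i) i) 60000 15000 = true := by decide +kernel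
theorem c6_5 : allRange (fun i => Nat.beq (act6 i) i) 75000 15000 = true := by decide +kernel
theorem c6_6 : allRange (fun i => Nat.beq (act6 i) i) 90000 15000 = true := by decide +kernel
theorem c6_7 : allRange (fun i => Nat.beq (act6 i) i) 105000 15000 = true := by decide +kernel
theorem c6_8 : allRange (fun i => Nat.beq (act6 i) i) 120000 15000 = true := by decide +kernel
theorem c6_9 : allRange (fun i => Nat.beq (act6 i) i) 135000 15000 = true := by decide +kernel
theorem c6_10 : allRange (fun i => Nat.beq (act6 i) i) 150000 15000 = true := by decide +kernel
theorem c6_11 : allRange (fun i => Nat.beq (act6 i) i) 165000 15000 = true := by decide +kernel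
theorem c6_12 : allRange (fun i => Nat.beq (act6 i) i) 180000 5328 = true := by decide +kernel
theorem h6 : ∀ i, i < T.N → Tab.relActOK T D chk6 i = true := by
  intro i hi
  rw [Tab.relActOK, ← act6_eq]
  exact (range_glue (range_of_allRange c6_0) (range_glue (range_of_allRange c6_1) (range_glue (range_of_allRange c6_2) (range_glue (range_of_allRange c6_3) (range_glue (range_of_allRange c6_4) (range_glue (range_of_allRange c6_5) (range_glue (range_of_allRange c6_6) (range_glue (range_of_allRange c6_7) (range_glue (range_of_allRange c6_8) (range_glue (range_of_allRange c6_9) (range_glue (range_of_allRange c6_10) (range_glue (range_of_allRange c6_11) (range_of_allRange c6_12))))))))))))) i (Nat.zero_le _) hi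

def chk12 : List Nat := [0, 6, 0, 6]
noncomputable def act12 (i : Nat) : Nat := col1 (col7 (col1 (col7 (i))))
theorem act12_eq (i : Nat) : act12 i = Tab.act T D chk12 i := rfl
theorem c12_0 : allRange (fun i => Nat.beq (act12 i) i) 0 10000 = true := by decide +kernel
theorem c12_1 : allRange (fun i => Nat.beq (act12 i) i) 10000 10000 = true := by decide +kernel
theorem c12_2 : allRange (fun i => Nat.beq (act12 i) i) 20000 10000 = true := by decide +kernel
theorem c12_3 : allRange (fun i => Nat.beq (act12 i) i) 30000 10000 = true := by decide +kernel
theorem c12_4 : allRange (fun i => Nat.beq (act12 i) i) 40000 10000 = true := by decide +kernel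
theorem c12_5 : allRange (fun i => Nat.beq (act12 i) i) 50000 10000 = true := by decide +kernel
theorem c12_6 : allRange (fun i => Nat.beq (act12 i) i) 60000 10000 = true := by decide +kernel
theorem c12_7 : allRange (fun i => Nat.beq (act12 i) i) 70000 10000 = true := by decide +kernel
theorem c12_8 : allRange (fun i => Nat.beq (act12 i) i) 80000 10000 = true := by decide +kernel
theorem c12_9 : allRange (fun i => Nat.beq (act12 i) i) 90000 10000 = true := by decide +kernel
theorem c12_10 : allRange (fun i => Nat.beq (act12 i) i) 100000 10000 = true := by decide +kernel
theorem c12_11 : allRange (fun i => Nat.beq (act12 i) i) 110000 10000 = true := by decide +kernel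
theorem c12_12 : allRange (fun i => Nat.beq (act12 i) i) 120000 10000 = true := by decide +kernel
theorem c12_13 : allRange (fun i => Nat.beq (act12 i) i) 130000 10000 = true := by decide +kernel
theorem c12_14 : allRange (fun i => Nat.beq (act12 i) i) 140000 10000 = true := by decide +kernel
theorem c12_15 : allRange (fun i => Nat.beq (act12 i) i) 150000 10000 = true := by decide +kernel
theorem c12_16 : allRange (fun i => Nat.beq (act12 i) i) 160000 10000 = true := by decide +kernel
theorem c12_17 : allRange (fun i => Nat.beq (act12 i) i) 170000 10000 = true := by decide +kernel
theorem c12_18 : allRange (fun i => Nat.beq (act12 i) i) 180000 5328 = true := by decide +kernel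
theorem h12 : ∀ i, i < T.N → Tab.relActOK T D chk12 i = true := by
  intro i hi
  rw [Tab.relActOK, ← act12_eq]
  exact (range_glue (range_of_allRange c12_0) (range_glue (range_of_allRange c12_1) (range_glue (range_of_allRange c12_2) (range_glue (range_of_allRange c12_3) (range_glue (range_of_allRange c12_4) (range_glue (range_of_allRange c12_5) (range_glue (range_of_allRange c12_6) (range_glue (range_of_allRange c12_7) (range_glue (range_of_allRange c12_8) (range_glue (range_of_allRange c12_9) (range_glue (range_of_allRange c12_10) (range_glue (range_of_allRange c12_11) (range_glue (range_of_allRange c12_12) (range_glue (range_of_allRange c12_13) (range_glue (range_of_allRange c12_14) (range_glue (range_of_allRange c12_15) (range_glue (range_of_allRange c12_16) (range_glue (range_of_allRange c12_17) (range_of_allRange c12_18))))))))))))))))))) i (Nat.zero_le _) hi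

def chk14 : List Nat := [0, 10, 0, 10]
noncomputable def act14 (i : Nat) : Nat := col1 (col11 (col1 (col11 (i))))
theorem act14_eq (i : Nat) : act14 i = Tab.act T D chk14 i := rfl
theorem c14_0 : allRange (fun i => Nat.beq (act14 i) i) 0 10000 = true := by decide +kernel
theorem c14_1 : allRange (fun i => Nat.beq (act14 i) i) 10000 10000 = true := by decide +kernel
theorem c14_2 : allRange (fun i => Nat.beq (act14 i) i) 20000 10000 = true := by decide +kernel
theorem c14_3 : allRange (fun i => Nat.beq (act14 i) i) 30000 10000 = true := by decide +kernel
theorem c14_4 : allRange (fun i => Nat.beq (act14 i) i) 40000 10000 = true := by decide +kernel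
theorem c14_5 : allRange (fun i => Nat.beq (act14 i) i) 50000 10000 = true := by decide +kernel
theorem c14_6 : allRange (fun i => Nat.beq (act14 i) i) 60000 10000 = true := by decide +kernel
theorem c14_7 : allRange (fun i => Nat.beq (act14 i) i) 70000 10000 = true := by decide +kernel
theorem c14_8 : allRange (fun i => Nat.beq (act14 i) i) 80000 10000 = true := by decide +kernel
theorem c14_9 : allRange (fun i => Nat.beq (act14 i) i) 90000 10000 = true := by decide +kernel
theorem c14_10 : allRange (fun i => Nat.beq (act14 i) i) 100000 10000 = true := by decide +kernel
theorem c14_11 : allRange (fun i => Nat.beq (act14 i) i) 110000 10000 = true := by decide +kernel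
theorem c14_12 : allRange (fun i => Nat.beq (act14 i) i) 120000 10000 = true := by decide +kernel
theorem c14_13 : allRange (fun i => Nat.beq (act14 i) i) 130000 10000 = true := by decide +kernel
theorem c14_14 : allRange (fun i => Nat.beq (act14 i) i) 140000 10000 = true := by decide +kernel
theorem c14_15 : allRange (fun i => Nat.beq (act14 i) i) 150000 10000 = true := by decide +kernel
theorem c14_16 : allRange (fun i => Nat.beq (act14 i) i) 160000 10000 = true := by decide +kernel
theorem c14_17 : allRange (fun i => Nat.beq (act14 i) i) 170000 10000 = true := by decide +kernel
theorem c14_18 : allRange (fun i => Nat.beq (act14 i) i) 180000 5328 = true := by decide +kernel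
theorem h14 : ∀ i, i < T.N → Tab.relActOK T D chk14 i = true := by
  intro i hi
  rw [Tab.relActOK, ← act14_eq]
  exact (range_glue (range_of_allRange c14_0) (range_glue (range_of_allRange c14_1) (range_glue (range_of_allRange c14_2) (range_glue (range_of_allRange c14_3) (range_glue (range_of_allRange c14_4) (range_glue (range_of_allRange c14_5) (range_glue (range_of_allRange c14_6) (range_glue (range_of_allRange c14_7) (range_glue (range_of_allRange c14_8) (range_glue (range_of_allRange c14_9) (range_glue (range_of_allRange c14_10) (range_glue (range_of_allRange c14_11) (range_glue (range_of_allRange c14_12) (range_glue (range_of_allRange c14_13) (range_glue (range_of_allRange c14_14) (range_glue (range_of_allRange c14_15) (range_glue (range_of_allRange c14_16) (range_glue (range_of_allRange c14_17) (range_of_allRange c14_18))))))))))))))))))) i (Nat.zero_le _) hi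

def chk22 : List Nat := [2, 6, 2, 6]
noncomputable def act22 (i : Nat) : Nat := col3 (col7 (col3 (col7 (i))))
theorem act22_eq (i : Nat) : act22 i = Tab.act T D chk22 i := rfl
theorem c22_0 : allRange (fun i => Nat.beq (act22 i) i) 0 10000 = true := by decide +kernel
theorem c22_1 : allRange (fun i => Nat.beq (act22 i) i) 10000 10000 = true := by decide +kernel
theorem c22_2 : allRange (fun i => Nat.beq (act22 i) i) 20000 10000 = true := by decide +kernel
theorem c22_3 : allRange (fun i => Nat.beq (act22 i) i) 30000 10000 = true := by decide +kernel
theorem c22_4 : allRange (fun i => Nat.beq (act22 i) i) 40000 10000 = true := by decide +kernel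
theorem c22_5 : allRange (fun i => Nat.beq (act22 i) i) 50000 10000 = true := by decide +kernel
theorem c22_6 : allRange (fun i => Nat.beq (act22 i) i) 60000 10000 = true := by decide +kernel
theorem c22_7 : allRange (fun i => Nat.beq (act22 i) i) 70000 10000 = true := by decide +kernel
theorem c22_8 : allRange (fun i => Nat.beq (act22 i) i) 80000 10000 = true := by decide +kernel
theorem c22_9 : allRange (fun i => Nat.beq (act22 i) i) 90000 10000 = true := by decide +kernel
theorem c22_10 : allRange (fun i => Nat.beq (act22 i) i) 100000 10000 = true := by decide +kernel
theorem c22_11 : allRange (fun i => Nat.beq (act22 i) i) 110000 10000 = true := by decide +kernel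
theorem c22_12 : allRange (fun i => Nat.beq (act22 i) i) 120000 10000 = true := by decide +kernel
theorem c22_13 : allRange (fun i => Nat.beq (act22 i) i) 130000 10000 = true := by decide +kernel
theorem c22_14 : allRange (fun i => Nat.beq (act22 i) i) 140000 10000 = true := by decide +kernel
theorem c22_15 : allRange (fun i => Nat.beq (act22 i) i) 150000 10000 = true := by decide +kernel
theorem c22_16 : allRange (fun i => Nat.beq (act22 i) i) 160000 10000 = true := by decide +kernel
theorem c22_17 : allRange (fun i => Nat.beq (act22 i) i) 170000 10000 = true := by decide +kernel
theorem c22_18 : allRange (fun i => Nat.beq (act22 i) i) 180000 5328 = true := by decide +kernel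
theorem h22 : ∀ i, i < T.N → Tab.relActOK T D chk22 i = true := by
  intro i hi
  rw [Tab.relActOK, ← act22_eq]
  exact (range_glue (range_of_allRange c22_0) (range_glue (range_of_allRange c22_1) (range_glue (range_of_allRange c22_2) (range_glue (range_of_allRange c22_3) (range_glue (range_of_allRange c22_4) (range_glue (range_of_allRange c22_5) (range_glue (range_of_allRange c22_6) (range_glue (range_of_allRange c22_7) (range_glue (range_of_allRange c22_8) (range_glue (range_of_allRange c22_9) (range_glue (range_of_allRange c22_10) (range_glue (range_of_allRange c22_11) (range_glue (range_of_allRange c22_12) (range_glue (range_of_allRange c22_13) (range_glue (range_of_allRange c22_14) (range_glue (range_of_allRange c22_15) (range_glue (range_of_allRange c22_16) (range_glue (range_of_allRange c22_17) (range_of_allRange c22_18))))))))))))))))))) i (Nat.zero_le _) hi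

def chk27 : List Nat := [2, 16, 2, 16]
noncomputable def act27 (i : Nat) : Nat := col3 (col17 (col3 (col17 (i))))
theorem act27_eq (i : Nat) : act27 i = Tab.act T D chk27 i := rfl
theorem c27_0 : allRange (fun i => Nat.beq (act27 i) i) 0 10000 = true := by decide +kernel
theorem c27_1 : allRange (fun i => Nat.beq (act27 i) i) 10000 10000 = true := by decide +kernel
theorem c27_2 : allRange (fun i => Nat.beq (act27 i) i) 20000 10000 = true := by decide +kernel
theorem c27_3 : allRange (fun i => Nat.beq (act27 i) i) 30000 10000 = true := by decide +kernel
theorem c27_4 : allRange (fun i => Nat.beq (act27 i) i) 40000 10000 = true := by decide +kernel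
theorem c27_5 : allRange (fun i => Nat.beq (act27 i) i) 50000 10000 = true := by decide +kernel
theorem c27_6 : allRange (fun i => Nat.beq (act27 i) i) 60000 10000 = true := by decide +kernel
theorem c27_7 : allRange (fun i => Nat.beq (act27 i) i) 70000 10000 = true := by decide +kernel
theorem c27_8 : allRange (fun i => Nat.beq (act27 i) i) 80000 10000 = true := by decide +kernel
theorem c27_9 : allRange (fun i => Nat.beq (act27 i) i) 90000 10000 = true := by decide +kernel
theorem c27_10 : allRange (fun i => Nat.beq (act27 i) i) 100000 10000 = true := by decide +kernel
theorem c27_11 : allRange (fun i => Nat.beq (act27 i) i) 110000 10000 = true := by decide +kernel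
theorem c27_12 : allRange (fun i => Nat.beq (act27 i) i) 120000 10000 = true := by decide +kernel
theorem c27_13 : allRange (fun i => Nat.beq (act27 i) i) 130000 10000 = true := by decide +kernel
theorem c27_14 : allRange (fun i => Nat.beq (act27 i) i) 140000 10000 = true := by decide +kernel
theorem c27_15 : allRange (fun i => Nat.beq (act27 i) i) 150000 10000 = true := by decide +kernel
theorem c27_16 : allRange (fun i => Nat.beq (act27 i) i) 160000 10000 = true := by decide +kernel
theorem c27_17 : allRange (fun i => Nat.beq (act27 i) i) 170000 10000 = true := by decide +kernel
theorem c27_18 : allRange (fun i => Nat.beq (act27 i) i) 180000 5328 = true := by decide +kernel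
theorem h27 : ∀ i, i < T.N → Tab.relActOK T D chk27 i = true := by
  intro i hi
  rw [Tab.relActOK, ← act27_eq]
  exact (range_glue (range_of_allRange c27_0) (range_glue (range_of_allRange c27_1) (range_glue (range_of_allRange c27_2) (range_glue (range_of_allRange c27_3) (range_glue (range_of_allRange c27_4) (range_glue (range_of_allRange c27_5) (range_glue (range_of_allRange c27_6) (range_glue (range_of_allRange c27_7) (range_glue (range_of_allRange c27_8) (range_glue (range_of_allRange c27_9) (range_glue (range_of_allRange c27_10) (range_glue (range_of_allRange c27_11) (range_glue (range_of_allRange c27_12) (range_glue (range_of_allRange c27_13) (range_glue (range_of_allRange c27_14) (range_glue (range_of_allRange c27_15) (range_glue (range_of_allRange c27_16) (range_glue (range_of_allRange c27_17) (range_of_allRange c27_18))))))))))))))))))) i (Nat.zero_le _) hi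

def chk34 : List Nat := [4, 16, 4, 16]
noncomputable def act34 (i : Nat) : Nat := col5 (col17 (col5 (col17 (i))))
theorem act34_eq (i : Nat) : act34 i = Tab.act T D chk34 i := rfl
theorem c34_0 : allRange (fun i => Nat.beq (act34 i) i) 0 10000 = true := by decide +kernel
theorem c34_1 : allRange (fun i => Nat.beq (act34 i) i) 10000 10000 = true := by decide +kernel
theorem c34_2 : allRange (fun i => Nat.beq (act34 i) i) 20000 10000 = true := by decide +kernel
theorem c34_3 : allRange (fun i => Nat.beq (act34 i) i) 30000 10000 = true := by decide +kernel
theorem c34_4 : allRange (fun i => Nat.beq (act34 i) i) 40000 10000 = true := by decide +kernel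
theorem c34_5 : allRange (fun i => Nat.beq (act34 i) i) 50000 10000 = true := by decide +kernel
theorem c34_6 : allRange (fun i => Nat.beq (act34 i) i) 60000 10000 = true := by decide +kernel
theorem c34_7 : allRange (fun i => Nat.beq (act34 i) i) 70000 10000 = true := by decide +kernel
theorem c34_8 : allRange (fun i => Nat.beq (act34 i) i) 80000 10000 = true := by decide +kernel
theorem c34_9 : allRange (fun i => Nat.beq (act34 i) i) 90000 10000 = true := by decide +kernel
theorem c34_10 : allRange (fun i => Nat.beq (act34 i) i) 100000 10000 = true := by decide +kernel
theorem c34_11 : allRange (fun i => Nat.beq (act34 i) i) 110000 10000 = true := by decide +kernel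
theorem c34_12 : allRange (fun i => Nat.beq (act34 i) i) 120000 10000 = true := by decide +kernel
theorem c34_13 : allRange (fun i => Nat.beq (act34 i) i) 130000 10000 = true := by decide +kernel
theorem c34_14 : allRange (fun i => Nat.beq (act34 i) i) 140000 10000 = true := by decide +kernel
theorem c34_15 : allRange (fun i => Nat.beq (act34 i) i) 150000 10000 = true := by decide +kernel
theorem c34_16 : allRange (fun i => Nat.beq (act34 i) i) 160000 10000 = true := by decide +kernel
theorem c34_17 : allRange (fun i => Nat.beq (act34 i) i) 170000 10000 = true := by decide +kernel
theorem c34_18 : allRange (fun i => Nat.beq (act34 i) i) 180000 5328 = true := by decide +kernel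
theorem h34 : ∀ i, i < T.N → Tab.relActOK T D chk34 i = true := by
  intro i hi
  rw [Tab.relActOK, ← act34_eq]
  exact (range_glue (range_of_allRange c34_0) (range_glue (range_of_allRange c34_1) (range_glue (range_of_allRange c34_2) (range_glue (range_of_allRange c34_3) (range_glue (range_of_allRange c34_4) (range_glue (range_of_allRange c34_5) (range_glue (range_of_allRange c34_6) (range_glue (range_of_allRange c34_7) (range_glue (range_of_allRange c34_8) (range_glue (range_of_allRange c34_9) (range_glue (range_of_allRange c34_10) (range_glue (range_of_allRange c34_11) (range_glue (range_of_allRange c34_12) (range_glue (range_of_allRange c34_13) (range_glue (range_of_allRange c34_14) (range_glue (range_of_allRange c34_15) (range_glue (range_of_allRange c34_16) (range_glue (range_of_allRange c34_17) (range_of_allRange c34_18))))))))))))))))))) i (Nat.zero_le _) hi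

def chk37 : List Nat := [6, 14, 6, 14, 6, 14]
noncomputable def act37 (i : Nat) : Nat := col7 (col15 (col7 (col15 (col7 (col15 (i))))))
theorem act37_eq (i : Nat) : act37 i = Tab.act T D chk37 i := rfl
theorem c37_0 : allRange (fun i => Nat.beq (act37 i) i) 0 7500 = true := by decide +kernel
theorem c37_1 : allRange (fun i => Nat.beq (act37 i) i) 7500 7500 = true := by decide +kernel
theorem c37_2 : allRange (fun i => Nat.beq (act37 i) i) 15000 7500 = true := by decide +kernel
theorem c37_3 : allRange (fun i => Nat.beq (act37 i) i) 22500 7500 = true := by decide +kernel
theorem c37_4 : allRange (fun i => Nat.beq (act37 i) i) 30000 7500 = true := by decide +kernel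
theorem c37_5 : allRange (fun i => Nat.beq (act37 i) i) 37500 7500 = true := by decide +kernel
theorem c37_6 : allRange (fun i => Nat.beq (act37 i) i) 45000 7500 = true := by decide +kernel
theorem c37_7 : allRange (fun i => Nat.beq (act37 i) i) 52500 7500 = true := by decide +kernel
theorem c37_8 : allRange (fun i => Nat.beq (act37 i) i) 60000 7500 = true := by decide +kernel
theorem c37_9 : allRange (fun i => Nat.beq (act37 i) i) 67500 7500 = true := by decide +kernel
theorem c37_10 : allRange (fun i => Nat.beq (act37 i) i) 75000 7500 = true := by decide +kernel
theorem c37_11 : allRange (fun i => Nat.beq (act37 i) i) 82500 7500 = true := by decide +kernel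
theorem c37_12 : allRange (fun i => Nat.beq (act37 i) i) 90000 7500 = true := by decide +kernel
theorem c37_13 : allRange (fun i => Nat.beq (act37 i) i) 97500 7500 = true := by decide +kernel
theorem c37_14 : allRange (fun i => Nat.beq (act37 i) i) 105000 7500 = true := by decide +kernel
theorem c37_15 : allRange (fun i => Nat.beq (act37 i) i) 112500 7500 = true := by decide +kernel
theorem c37_16 : allRange (fun i => Nat.beq (act37 i) i) 120000 7500 = true := by decide +kernel
theorem c37_17 : allRange (fun i => Nat.beq (act37 i) i) 127500 7500 = true := by decide +kernel
theorem c37_18 : allRange (fun i => Nat.beq (act37 i) i) 135000 7500 = true := by decide +kernel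
theorem c37_19 : allRange (fun i => Nat.beq (act37 i) i) 142500 7500 = true := by decide +kernel
theorem c37_20 : allRange (fun i => Nat.beq (act37 i) i) 150000 7500 = true := by decide +kernel
theorem c37_21 : allRange (fun i => Nat.beq (act37 i) i) 157500 7500 = true := by decide +kernel
theorem c37_22 : allRange (fun i => Nat.beq (act37 i) i) 165000 7500 = true := by decide +kernel
theorem c37_23 : allRange (fun i => Nat.beq (act37 i) i) 172500 7500 = true := by decide +kernel
theorem c37_24 : allRange (fun i => Nat.beq (act37 i) i) 180000 5328 = true := by decide +kernel
theorem h37 : ∀ i, i < T.N → Tab.relActOK T D chk37 i = true := by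
  intro i hi
  rw [Tab.relActOK, ← act37_eq]
  exact (range_glue (range_of_allRange c37_0) (range_glue (range_of_allRange c37_1) (range_glue (range_of_allRange c37_2) (range_glue (range_of_allRange c37_3) (range_glue (range_of_allRange c37_4) (range_glue (range_of_allRange c37_5) (range_glue (range_of_allRange c37_6) (range_glue (range_of_allRange c37_7) (range_glue (range_of_allRange c37_8) (range_glue (range_of_allRange c37_9) (range_glue (range_of_allRange c37_10) (range_glue (range_of_allRange c37_11) (range_glue (range_of_allRange c37_12) (range_glue (range_of_allRange c37_13) (range_glue (range_of_allRange c37_14) (range_glue (range_of_allRange c37_15) (range_glue (range_of_allRange c37_16) (range_glue (range_of_allRange c37_17) (range_glue (range_of_allRange c37_18) (range_glue (range_of_allRange c37_19) (range_glue (range_of_allRange c37_20) (range_glue (range_of_allRange c37_21) (range_glue (range_of_allRange c37_22) (range_glue (range_of_allRange c37_23) (range_of_allRange c37_24))))))))))))))))))))))))) i (Nat.zero_le _) hi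

def chk44 : List Nat := [8, 12, 8, 12]
noncomputable def act44 (i : Nat) : Nat := col9 (col13 (col9 (col13 (i))))
theorem act44_eq (i : Nat) : act44 i = Tab.act T D chk44 i := rfl
theorem c44_0 : allRange (fun i => Nat.beq (act44 i) i) 0 10000 = true := by decide +kernel
theorem c44_1 : allRange (fun i => Nat.beq (act44 i) i) 10000 10000 = true := by decide +kernel
theorem c44_2 : allRange (fun i => Nat.beq (act44 i) i) 20000 10000 = true := by decide +kernel
theorem c44_3 : allRange (fun i => Nat.beq (act44 i) i) 30000 10000 = true := by decide +kernel
theorem c44_4 : allRange (fun i => Nat.beq (act44 i) i) 40000 10000 = true := by decide +kernel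
theorem c44_5 : allRange (fun i => Nat.beq (act44 i) i) 50000 10000 = true := by decide +kernel
theorem c44_6 : allRange (fun i => Nat.beq (act44 i) i) 60000 10000 = true := by decide +kernel
theorem c44_7 : allRange (fun i => Nat.beq (act44 i) i) 70000 10000 = true := by decide +kernel
theorem c44_8 : allRange (fun i => Nat.beq (act44 i) i) 80000 10000 = true := by decide +kernel
theorem c44_9 : allRange (fun i => Nat.beq (act44 i) i) 90000 10000 = true := by decide +kernel
theorem c44_10 : allRange (fun i => Nat.beq (act44 i) i) 100000 10000 = true := by decide +kernel
theorem c44_11 : allRange (fun i => Nat.beq (act44 i) i) 110000 10000 = true := by decide +kernel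
theorem c44_12 : allRange (fun i => Nat.beq (act44 i) i) 120000 10000 = true := by decide +kernel
theorem c44_13 : allRange (fun i => Nat.beq (act44 i) i) 130000 10000 = true := by decide +kernel
theorem c44_14 : allRange (fun i => Nat.beq (act44 i) i) 140000 10000 = true := by decide +kernel
theorem c44_15 : allRange (fun i => Nat.beq (act44 i) i) 150000 10000 = true := by decide +kernel
theorem c44_16 : allRange (fun i => Nat.beq (act44 i) i) 160000 10000 = true := by decide +kernel
theorem c44_17 : allRange (fun i => Nat.beq (act44 i) i) 170000 10000 = true := by decide +kernel
theorem c44_18 : allRange (fun i => Nat.beq (act44 i) i) 180000 5328 = true := by decide +kernel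
theorem h44 : ∀ i, i < T.N → Tab.relActOK T D chk44 i = true := by
  intro i hi
  rw [Tab.relActOK, ← act44_eq]
  exact (range_glue (range_of_allRange c44_0) (range_glue (range_of_allRange c44_1) (range_glue (range_of_allRange c44_2) (range_glue (range_of_allRange c44_3) (range_glue (range_of_allRange c44_4) (range_glue (range_of_allRange c44_5) (range_glue (range_of_allRange c44_6) (range_glue (range_of_allRange c44_7) (range_glue (range_of_allRange c44_8) (range_glue (range_of_allRange c44_9) (range_glue (range_of_allRange c44_10) (range_glue (range_of_allRange c44_11) (range_glue (range_of_allRange c44_12) (range_glue (range_of_allRange c44_13) (range_glue (range_of_allRange c44_14) (range_glue (range_of_allRange c44_15) (range_glue (range_of_allRange c44_16) (range_glue (range_of_allRange c44_17) (range_of_allRange c44_18))))))))))))))))))) i (Nat.zero_le _) hi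

def chk46 : List Nat := [14, 14]
noncomputable def act46 (i : Nat) : Nat := col15 (col15 (i))
theorem act46_eq (i : Nat) : act46 i = Tab.act T D chk46 i := rfl
theorem c46_0 : allRange (fun i => Nat.beq (act46 i) i) 0 15000 = true := by decide +kernel
theorem c46_1 : allRange (fun i => Nat.beq (act46 i) i) 15000 15000 = true := by decide +kernel
theorem c46_2 : allRange (fun i => Nat.beq (act46 i) i) 30000 15000 = true := by decide +kernel
theorem c46_3 : allRange (fun i => Nat.beq (act46 i) i) 45000 15000 = true := by decide +kernel
theorem c46_4 : allRange (fun i => Nat.beq (act46 i) i) 60000 15000 = true := by decide +kernel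
theorem c46_5 : allRange (fun i => Nat.beq (act46 i) i) 75000 15000 = true := by decide +kernel
theorem c46_6 : allRange (fun i => Nat.beq (act46 i) i) 90000 15000 = true := by decide +kernel
theorem c46_7 : allRange (fun i => Nat.beq (act46 i) i) 105000 15000 = true := by decide +kernel
theorem c46_8 : allRange (fun i => Nat.beq (act46 i) i) 120000 15000 = true := by decide +kernel
theorem c46_9 : allRange (fun i => Nat.beq (act46 i) i) 135000 15000 = true := by decide +kernel
theorem c46_10 : allRange (fun i => Nat.beq (act46 i) i) 150000 15000 = true := by decide +kernel
theorem c46_11 : allRange (fun i => Nat.beq (act46 i) i) 165000 15000 = true := by decide +kernel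
theorem c46_12 : allRange (fun i => Nat.beq (act46 i) i) 180000 5328 = true := by decide +kernel
theorem h46 : ∀ i, i < T.N → Tab.relActOK T D chk46 i = true := by
  intro i hi
  rw [Tab.relActOK, ← act46_eq]
  exact (range_glue (range_of_allRange c46_0) (range_glue (range_of_allRange c46_1) (range_glue (range_of_allRange c46_2) (range_glue (range_of_allRange c46_3) (range_glue (range_of_allRange c46_4) (range_glue (range_of_allRange c46_5) (range_glue (range_of_allRange c46_6) (range_glue (range_of_allRange c46_7) (range_glue (range_of_allRange c46_8) (range_glue (range_of_allRange c46_9) (range_glue (range_of_allRange c46_10) (range_glue (range_of_allRange c46_11) (range_of_allRange c46_12))))))))))))) i (Nat.zero_le _) hi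

def chk54 : List Nat := [12, 16, 12, 16]
noncomputable def act54 (i : Nat) : Nat := col13 (col17 (col13 (col17 (i))))
theorem act54_eq (i : Nat) : act54 i = Tab.act T D chk54 i := rfl
theorem c54_0 : allRange (fun i => Nat.beq (act54 i) i) 0 10000 = true := by decide +kernel
theorem c54_1 : allRange (fun i => Nat.beq (act54 i) i) 10000 10000 = true := by decide +kernel
theorem c54_2 : allRange (fun i => Nat.beq (act54 i) i) 20000 10000 = true := by decide +kernel
theorem c54_3 : allRange (fun i => Nat.beq (act54 i) i) 30000 10000 = true := by decide +kernel
theorem c54_4 : allRange (fun i => Nat.beq (act54 i) i) 40000 10000 = true := by decide +kernel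
theorem c54_5 : allRange (fun i => Nat.beq (act54 i) i) 50000 10000 = true := by decide +kernel
theorem c54_6 : allRange (fun i => Nat.beq (act54 i) i) 60000 10000 = true := by decide +kernel
theorem c54_7 : allRange (fun i => Nat.beq (act54 i) i) 70000 10000 = true := by decide +kernel
theorem c54_8 : allRange (fun i => Nat.beq (act54 i) i) 80000 10000 = true := by decide +kernel
theorem c54_9 : allRange (fun i => Nat.beq (act54 i) i) 90000 10000 = true := by decide +kernel
theorem c54_10 : allRange (fun i => Nat.beq (act54 i) i) 100000 10000 = true := by decide +kernel
theorem c54_11 : allRange (fun i => Nat.beq (act54 i) i) 110000 10000 = true := by decide +kernel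
theorem c54_12 : allRange (fun i => Nat.beq (act54 i) i) 120000 10000 = true := by decide +kernel
theorem c54_13 : allRange (fun i => Nat.beq (act54 i) i) 130000 10000 = true := by decide +kernel
theorem c54_14 : allRange (fun i => Nat.beq (act54 i) i) 140000 10000 = true := by decide +kernel
theorem c54_15 : allRange (fun i => Nat.beq (act54 i) i) 150000 10000 = true := by decide +kernel
theorem c54_16 : allRange (fun i => Nat.beq (act54 i) i) 160000 10000 = true := by decide +kernel
theorem c54_17 : allRange (fun i => Nat.beq (act54 i) i) 170000 10000 = true := by decide +kernel
theorem c54_18 : allRange (fun i => Nat.beq (act54 i) i) 180000 5328 = true := by decide +kernel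
theorem h54 : ∀ i, i < T.N → Tab.relActOK T D chk54 i = true := by
  intro i hi
  rw [Tab.relActOK, ← act54_eq]
  exact (range_glue (range_of_allRange c54_0) (range_glue (range_of_allRange c54_1) (range_glue (range_of_allRange c54_2) (range_glue (range_of_allRange c54_3) (range_glue (range_of_allRange c54_4) (range_glue (range_of_allRange c54_5) (range_glue (range_of_allRange c54_6) (range_glue (range_of_allRange c54_7) (range_glue (range_of_allRange c54_8) (range_glue (range_of_allRange c54_9) (range_glue (range_of_allRange c54_10) (range_glue (range_of_allRange c54_11) (range_glue (range_of_allRange c54_12) (range_glue (range_of_allRange c54_13) (range_glue (range_of_allRange c54_14) (range_glue (range_of_allRange c54_15) (range_glue (range_of_allRange c54_16) (range_glue (range_of_allRange c54_17) (range_of_allRange c54_18))))))))))))))))))) i (Nat.zero_le _) hi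

def chk60 : List Nat := [25, 11, 24, 10]
noncomputable def act60 (i : Nat) : Nat := col24 (col10 (col25 (col11 (i))))
theorem act60_eq (i : Nat) : act60 i = Tab.act T D chk60 i := rfl
theorem c60_0 : allRange (fun i => Nat.beq (act60 i) i) 0 10000 = true := by decide +kernel
theorem c60_1 : allRange (fun i => Nat.beq (act60 i) i) 10000 10000 = true := by decide +kernel
theorem c60_2 : allRange (fun i => Nat.beq (act60 i) i) 20000 10000 = true := by decide +kernel
theorem c60_3 : allRange (fun i => Nat.beq (act60 i) i) 30000 10000 = true := by decide +kernel
theorem c60_4 : allRange (fun i => Nat.beq (act60 i) i) 40000 10000 = true := by decide +kernel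
theorem c60_5 : allRange (fun i => Nat.beq (act60 i) i) 50000 10000 = true := by decide +kernel
theorem c60_6 : allRange (fun i => Nat.beq (act60 i) i) 60000 10000 = true := by decide +kernel
theorem c60_7 : allRange (fun i => Nat.beq (act60 i) i) 70000 10000 = true := by decide +kernel
theorem c60_8 : allRange (fun i => Nat.beq (act60 i) i) 80000 10000 = true := by decide +kernel
theorem c60_9 : allRange (fun i => Nat.beq (act60 i) i) 90000 10000 = true := by decide +kernel
theorem c60_10 : allRange (fun i => Nat.beq (act60 i) i) 100000 10000 = true := by decide +kernel
theorem c60_11 : allRange (fun i => Nat.beq (act60 i) i) 110000 10000 = true := by decide +kernel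
theorem c60_12 : allRange (fun i => Nat.beq (act60 i) i) 120000 10000 = true := by decide +kernel
theorem c60_13 : allRange (fun i => Nat.beq (act60 i) i) 130000 10000 = true := by decide +kernel
theorem c60_14 : allRange (fun i => Nat.beq (act60 i) i) 140000 10000 = true := by decide +kernel
theorem c60_15 : allRange (fun i => Nat.beq (act60 i) i) 150000 10000 = true := by decide +kernel
theorem c60_16 : allRange (fun i => Nat.beq (act60 i) i) 160000 10000 = true := by decide +kernel
theorem c60_17 : allRange (fun i => Nat.beq (act60 i) i) 170000 10000 = true := by decide +kernel
theorem c60_18 : allRange (fun i => Nat.beq (act60 i) i) 180000 5328 = true := by decide +kernel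
theorem h60 : ∀ i, i < T.N → Tab.relActOK T D chk60 i = true := by
  intro i hi
  rw [Tab.relActOK, ← act60_eq]
  exact (range_glue (range_of_allRange c60_0) (range_glue (range_of_allRange c60_1) (range_glue (range_of_allRange c60_2) (range_glue (range_of_allRange c60_3) (range_glue (range_of_allRange c60_4) (range_glue (range_of_allRange c60_5) (range_glue (range_of_allRange c60_6) (range_glue (range_of_allRange c60_7) (range_glue (range_of_allRange c60_8) (range_glue (range_of_allRange c60_9) (range_glue (range_of_allRange c60_10) (range_glue (range_of_allRange c60_11) (range_glue (range_of_allRange c60_12) (range_glue (range_of_allRange c60_13) (range_glue (range_of_allRange c60_14) (range_glue (range_of_allRange c60_15) (range_glue (range_of_allRange c60_16) (range_glue (range_of_allRange c60_17) (range_of_allRange c60_18))))))))))))))))))) i (Nat.zero_le _) hi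

end Cfsg.Agent.Lib.Helper4.TCD.SC3Fi22yp3W
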