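import Cfsg.Agent.Lib.Helper4.TCD_SC3Fi22yp3W_P0
import Cfsg.Agent.Lib.Helper4.TCD_SC3Fi22yp3W_P1
import Cfsg.Agent.Lib.Helper4.TCD_SC3Fi22yp3W_P2
import Cfsg.Agent.Lib.Helper4.TCD_SC3Fi22yp3W_P3
import Cfsg.Agent.Lib.Helper4.TCD_SC3Fi22yp3W_P4
import Cfsg.Agent.Lib.Helper4.TCD_SC3Fi22yp3W_P5
import Cfsg.Agent.Lib.Helper4.TCD_SC3Fi22yp3W_P6
import Cfsg.Agent.Lib.Helper4.TCD_SC3Fi22yp3W_P7

namespace Cfsg.Agent.Lib.Helper4.TCD.SC3Fi22yp3W

open Cfsg.Agent.Lib.Helper4.TC Cfsg.Agent.Lib.Helper4.TCD.C3Fi22yR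

set_option maxRecDepth 100000
set_option Elab.async false

def chkAll : List (List Nat) := [chk0, chk1, chk2, chk3, chk4, chk5, chk6, chk7, chk8, chk9, chk10, chk11, chk12, chk13, chk14, chk15, chk16, chk17, chk18, chk19, chk20, chk21, chk22, chk23, chk24, chk25, chk26, chk27, chk28, chk29, chk30, chk31, chk32, chk33, chk34, chk35, chk36, chk37, chk38, chk39, chk40, chk41, chk42, chk43, chk44, chk45, chk46, chk47, chk48, chk49, chk50, chk51, chk52, chk53, chk54, chk55, chk56, chk57, chk58, chk59, chk60, chk61, chk62, chk63, chk64, chk65]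
theorem hAll : ∀ w ∈ chkAll, ∀ i, i < T.N → Tab.relActOK T D w i = true := by
  intro w hw
  simp only [chkAll, List.mem_cons, List.not_mem_nil, or_false] at hw
  rcases hw with rfl | rfl | rfl | rfl | rfl | rfl | rfl | rfl | rfl | rfl | rfl | rfl | rfl | rfl | rfl | rfl | rfl | rfl | rfl | rfl | rfl | rfl | rfl | rfl | rfl | rfl | rfl | rfl | rfl | rfl | rfl | rfl | rfl | rfl | rfl | rfl | rfl | rfl | rfl | rfl | rfl | rfl | rfl | rfl | rfl | rfl | rfl | rfl | rfl | rfl | rfl | rfl | rfl | rfl | rfl | rfl | rfl | rfl | rfl | rfl | rfl | rfl | rfl | rfl | rfl | rfl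
  · exact h0
  · exact h1
  · exact h2
  · exact h3
  · exact h4
  · exact h5
  · exact h6
  · exact h7
  · exact h8
  · exact h9
  · exact h10
  · exact h11
  · exact h12
  · exact h13
  · exact h14
  · exact h15
  · exact h16
  · exact h17
  · exact h18
  · exact h19
  · exact h20
  · exact h21
  · exact h22
  · exact h23
  · exact h24
  · exact h25
  · exact h26
  · exact h27
  · exact h28
  · exact h29
  · exact h30
  · exact h31
  · exact h32
  · exact h33
  · exact h34
  · exact h35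
  · exact h36
  · exact h37
  · exact h38
  · exact h39
  · exact h40
  · exact h41
  · exact h42
  · exact h43
  · exact h44
  · exact h45
  · exact h46
  · exact h47
  · exact h48
  · exact h49
  · exact h50
  · exact h51
  · exact h52
  · exact h53
  · exact h54
  · exact h55
  · exact h56
  · exact h57
  · exact h58
  · exact h59
  · exact h60
  · exact h61
  · exact h62
  · exact h63
  · exact h64
  · exact h65
theorem hAll_lt : ∀ w ∈ chkAll, ∀ x ∈ w, x < 26 := by decide +kernel

end Cfsg.Agent.Lib.Helper4.TCD.SC3Fi22yp3W
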