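import Cfsg.Agent.Lib.Helper4.TCD_SC3Fi22yp5A_Acc

namespace Cfsg.Agent.Lib.Helper4.TCD.SC3Fi22yp5A

open Cfsg.Agent.Lib.Helper4.TC

set_option maxRecDepth 100000
set_option Elab.async false

theorem c_act125_0 : allRange (fun i => Nat.beq (actR125 i) i) 0 14080 = true := by decide +kernel
theorem c_act126_0 : allRange (fun i => Nat.beq (actR126 i) i) 0 14080 = true := by decide +kernel
theorem c_act127_0 : allRange (fun i => Nat.beq (actR127 i) i) 0 14080 = true := by decide +kernel
theorem c_act128_0 : allRange (fun i => Nat.beq (actR128 i) i) 0 14080 = true := by decide +kernel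
theorem c_act129_0 : allRange (fun i => Nat.beq (actR129 i) i) 0 14080 = true := by decide +kernel
theorem c_act130_0 : allRange (fun i => Nat.beq (actR130 i) i) 0 14080 = true := by decide +kernel
theorem c_act131_0 : allRange (fun i => Nat.beq (actR131 i) i) 0 10000 = true := by decide +kernel
theorem c_act131_1 : allRange (fun i => Nat.beq (actR131 i) i) 10000 4080 = true := by decide +kernel
theorem c_act132_0 : allRange (fun i => Nat.beq (actR132 i) i) 0 14080 = true := by decide +kernel
theorem c_act133_0 : allRange (fun i => Nat.beq (actR133 i) i) 0 14080 = true := by decide +kernel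
theorem c_act134_0 : allRange (fun i => Nat.beq (actR134 i) i) 0 14080 = true := by decide +kernel
theorem c_act135_0 : allRange (fun i => Nat.beq (actR135 i) i) 0 14080 = true := by decide +kernel
theorem c_act136_0 : allRange (fun i => Nat.beq (actR136 i) i) 0 14080 = true := by decide +kernel
theorem c_act137_0 : allRange (fun i => Nat.beq (actR137 i) i) 0 14080 = true := by decide +kernel
theorem c_act138_0 : allRange (fun i => Nat.beq (actR138 i) i) 0 14080 = true := by decide +kernel
theorem c_act139_0 : allRange (fun i => Nat.beq (actR139 i) i) 0 10000 = true := by decide +kernel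
theorem c_act139_1 : allRange (fun i => Nat.beq (actR139 i) i) 10000 4080 = true := by decide +kernel
theorem c_act140_0 : allRange (fun i => Nat.beq (actR140 i) i) 0 14080 = true := by decide +kernel
theorem c_act141_0 : allRange (fun i => Nat.beq (actR141 i) i) 0 14080 = true := by decide +kernel
theorem c_act142_0 : allRange (fun i => Nat.beq (actR142 i) i) 0 14080 = true := by decide +kernel
theorem c_act143_0 : allRange (fun i => Nat.beq (actR143 i) i) 0 14080 = true := by decide +kernel
theorem c_act144_0 : allRange (fun i => Nat.beq (actR144 i) i) 0 14080 = true := by decide +kernel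
theorem c_act145_0 : allRange (fun i => Nat.beq (actR145 i) i) 0 14080 = true := by decide +kernel
theorem c_act146_0 : allRange (fun i => Nat.beq (actR146 i) i) 0 10000 = true := by decide +kernel
theorem c_act146_1 : allRange (fun i => Nat.beq (actR146 i) i) 10000 4080 = true := by decide +kernel
theorem c_act147_0 : allRange (fun i => Nat.beq (actR147 i) i) 0 10000 = true := by decide +kernel
theorem c_act147_1 : allRange (fun i => Nat.beq (actR147 i) i) 10000 4080 = true := by decide +kernel
theorem c_act148_0 : allRange (fun i => Nat.beq (actR148 i) i) 0 14080 = true := by decide +kernel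
theorem c_act149_0 : allRange (fun i => Nat.beq (actR149 i) i) 0 14080 = true := by decide +kernel
theorem c_act150_0 : allRange (fun i => Nat.beq (actR150 i) i) 0 14080 = true := by decide +kernel
theorem c_act151_0 : allRange (fun i => Nat.beq (actR151 i) i) 0 14080 = true := by decide +kernel
theorem c_act152_0 : allRange (fun i => Nat.beq (actR152 i) i) 0 14080 = true := by decide +kernel
theorem c_act153_0 : allRange (fun i => Nat.beq (actR153 i) i) 0 10000 = true := by decide +kernel
theorem c_act153_1 : allRange (fun i => Nat.beq (actR153 i) i) 10000 4080 = true := by decide +kernel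
theorem c_act154_0 : allRange (fun i => Nat.beq (actR154 i) i) 0 14080 = true := by decide +kernel
theorem c_act155_0 : allRange (fun i => Nat.beq (actR155 i) i) 0 14080 = true := by decide +kernel
theorem c_act156_0 : allRange (fun i => Nat.beq (actR156 i) i) 0 14080 = true := by decide +kernel
theorem c_act157_0 : allRange (fun i => Nat.beq (actR157 i) i) 0 14080 = true := by decide +kernel
theorem c_act158_0 : allRange (fun i => Nat.beq (actR158 i) i) 0 14080 = true := by decide +kernel
theorem c_act159_0 : allRange (fun i => Nat.beq (actR159 i) i) 0 10000 = true := by decide +kernel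
theorem c_act159_1 : allRange (fun i => Nat.beq (actR159 i) i) 10000 4080 = true := by decide +kernel
theorem c_act160_0 : allRange (fun i => Nat.beq (actR160 i) i) 0 14080 = true := by decide +kernel
theorem c_act161_0 : allRange (fun i => Nat.beq (actR161 i) i) 0 10000 = true := by decide +kernel
theorem c_act161_1 : allRange (fun i => Nat.beq (actR161 i) i) 10000 4080 = true := by decide +kernel
theorem c_act162_0 : allRange (fun i => Nat.beq (actR162 i) i) 0 14080 = true := by decide +kernel
theorem c_act163_0 : allRange (fun i => Nat.beq (actR163 i) i) 0 14080 = true := by decide +kernel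
theorem c_act164_0 : allRange (fun i => Nat.beq (actR164 i) i) 0 14080 = true := by decide +kernel
theorem c_act165_0 : allRange (fun i => Nat.beq (actR165 i) i) 0 14080 = true := by decide +kernel
theorem c_act166_0 : allRange (fun i => Nat.beq (actR166 i) i) 0 14080 = true := by decide +kernel
theorem c_act167_0 : allRange (fun i => Nat.beq (actR167 i) i) 0 14080 = true := by decide +kernel
theorem c_act168_0 : allRange (fun i => Nat.beq (actR168 i) i) 0 14080 = true := by decide +kernel
theorem c_act169_0 : allRange (fun i => Nat.beq (actR169 i) i) 0 14080 = true := by decide +kernel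
theorem c_act170_0 : allRange (fun i => Nat.beq (actR170 i) i) 0 14080 = true := by decide +kernel
theorem c_act171_0 : allRange (fun i => Nat.beq (actR171 i) i) 0 14080 = true := by decide +kernel
theorem c_act172_0 : allRange (fun i => Nat.beq (actR172 i) i) 0 14080 = true := by decide +kernel
theorem c_act173_0 : allRange (fun i => Nat.beq (actR173 i) i) 0 14080 = true := by decide +kernel
theorem c_act174_0 : allRange (fun i => Nat.beq (actR174 i) i) 0 659 = true := by decide +kernel
theorem c_act174_1 : allRange (fun i => Nat.beq (actR174 i) i) 659 659 = true := by decide +kernel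
theorem c_act174_2 : allRange (fun i => Nat.beq (actR174 i) i) 1318 659 = true := by decide +kernel
theorem c_act174_3 : allRange (fun i => Nat.beq (actR174 i) i) 1977 659 = true := by decide +kernel

end Cfsg.Agent.Lib.Helper4.TCD.SC3Fi22yp5A
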