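import Mathlib
import Cfsg.Agent.Lib.Helper4.C3Fi22yCover
import Cfsg.Agent.Lib.Helper4.TCD_SC3Fi22yp5A_Fin
import Cfsg.Agent.Lib.Helper4.TCD_SC3Fi22yp3W
import Cfsg.Agent.Lib.Helper4.StemLib9
import Cfsg.Agent.Lib.Helper4.C3Fi22ySub

/-! `C3Fi22y` has no stem extension with kernel of order 5 (generated). -/

namespace Cfsg.Agent.Lib.Helper4.SC3Fi22yp5Main

open Cfsg.Agent.Lib.Helper4.TC Cfsg.Agent.Lib.Helper4.TCD Cfsg.Agent.Lib.Helper4.TC.Log Cfsg.Agent.Lib.Helper4.Stem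

/-- the description of the auxiliary presentation -/
def spec : Spec4 :=
  { p := 5
    items := [(0, [], 2),
      (2, [], 2),
      (4, [], 2),
      (6, [], 2),
      (8, [], 2),
      (10, [], 2),
      (12, [], 2),
      (14, [], 2),
      (16, [], 3),
      (18, [], 2),
      (20, [18, 0, 18, 0, 18, 0], 0),
      (22, [18, 2, 18, 2], 0),
      (24, [18, 4, 18, 4], 0),
      (26, [18, 6, 18, 6], 0),
      (28, [18, 8, 18, 8], 0),
      (30, [18, 10, 18, 10], 0),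
      (32, [18, 12, 18, 12], 0),
      (34, [18, 14, 18, 14], 0),
      (36, [18, 0, 2, 4, 6, 8, 12, 18, 0, 2, 4, 6, 8, 12, 18, 0, 2, 4, 6, 8, 12, 18, 0, 2, 4, 6, 8, 12, 18, 0, 2, 4, 6, 8, 12, 18, 0, 2, 4, 6, 8, 12, 18, 0, 2, 4, 6, 8, 12, 18, 0, 2, 4, 6, 8, 12, 18, 0, 2, 4, 6, 8, 12], 0),
      (38, [17, 19, 16, 18], 0)]
    cen := [20, 22, 24, 26, 28, 30, 32, 34, 36, 38]
    R := []
    sub := [0, 2, 4, 6, 8, 10, 12, 14, 16]
    PR := [[0, 0], [0, 2, 0, 2, 0, 2], [0, 4, 0, 4], [0, 6, 0, 6], [0, 12, 0, 12], [0, 8, 0, 8], [0, 10, 0, 10], [0, 14, 0, 14], [2, 2], [2, 4, 2, 4, 2, 4], [2, 6, 2, 6], [2, 12, 2, 12], [2, 8, 2, 8], [2, 10, 2, 10], [2, 14, 2, 14], [4, 4], [4, 6, 4, 6, 4, 6], [4, 12, 4, 12, 4, 12], [4, 8, 4, 8], [4, 10, 4, 10], [4, 14, 4, 14], [6, 6], [6, 12, 6, 12], [6, 8, 6, 8, 6, 8], [6, 10, 6, 10], [6, 14, 6, 14], [12, 12], [12, 8, 12, 8], [12, 10, 12, 10], [12, 14, 12, 14, 12, 14], [8,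 8], [8, 10, 8, 10, 8, 10], [8, 14, 8, 14], [10, 10], [10, 14, 10, 14], [14, 14], [17, 1, 16, 0], [17, 3, 16, 2], [17, 5, 16, 4], [17, 7, 16, 6], [17, 9, 16, 8], [17, 11, 16, 10], [17, 13, 16, 12], [17, 15, 16, 14], [17, 4, 2, 0, 4, 6, 8, 4, 12, 14, 4, 2, 0, 4, 6, 8, 4, 12, 14, 4, 2, 0, 4, 6, 8, 4, 12, 14, 4, 2, 0, 4, 6, 8, 4, 12, 14, 4, 2, 0, 4, 6, 8, 4, 12, 14, 4, 2, 0, 4, 6, 8, 4, 12, 14, 4, 2, 0, 4, 6, 8, 4, 12, 14, 4, 2, 0, 4, 6, 8, 4, 12, 14, 4, 2, 0, 4, 6, 8, 4, 12, 14, 4, 2, 0, 4, 6, 8, 4, 12, 14], [0, 2, 4, 6, 8, 10, 12, 0, 2, 4, 6, 8, 10, 12, 0, 2, 4, 6, 8, 10, 12, 0, 2, 4, 6, 8, 10, 12, 0, 2, 4, 6, 8, 10, 12, 0, 2, 4, 6, 8, 10, 12, 0, 2, 4, 6, 8, 10, 12, 0, 2, 4, 6, 8, 10, 12, 0, 2, 4, 6, 8, 10, 12]]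
    XR := [] }

/-- the letters of the auxiliary presentation as words of the base group -/
def Wl (l : ℕ) : List ℕ :=
  [[2], [3], [4], [5], [6], [7], [8], [9], [10], [11], [12], [13], [14], [15], [16], [17], [24], [25], [0], [1], [], [], [], [], [], [], [], [], [], [], [], [], [], [], [], [], [], [], [], []].getD l []

theorem checks_eq : checks spec.toSpec2 PC3Fi22y.P.invR Wl ++ checksX spec PSC3Fi22yp5.P.invR Wl = SC3Fi22yp3W.chkAll := by decide +kernel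

theorem sub_eq : Subgroup.closure (xw PC3Fi22y.P Wl '' {l | l ∈ spec.sub}) = Inst.subG PC3Fi22y.P C3Fi22ySub.subs := by
  rw [closure_xw_eq]
  rfl

/-- the images of the letters generate -/
theorem hgen : Subgroup.closure (xw PC3Fi22y.P Wl '' Set.Iio PSC3Fi22yp5.P.k) = ⊤ := by
  apply C3Fi22ySub.gen_of_old
  intro l hl
  simp only [List.mem_cons, List.not_mem_nil, or_false] at hl
  rcases hl with rfl | rfl | rfl | rfl | rfl | rfl | rfl | rfl | rfl | rfl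
  · exact Subgroup.subset_closure ⟨18, by show 18 < 40; decide, by show wordP _ (Wl 18) = _; rw [show Wl 18 = [0] from rfl, wordP_cons, wordP_nil, mul_one]⟩
  · exact Subgroup.subset_closure ⟨0, by show 0 < 40; decide, by show wordP _ (Wl 0) = _; rw [show Wl 0 = [2] from rfl, wordP_cons, wordP_nil, mul_one]⟩
  · exact Subgroup.subset_closure ⟨2, by show 2 < 40; decide, by show wordP _ (Wl 2) = _; rw [show Wl 2 = [4] from rfl, wordP_cons, wordP_nil, mul_one]⟩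
  · exact Subgroup.subset_closure ⟨4, by show 4 < 40; decide, by show wordP _ (Wl 4) = _; rw [show Wl 4 = [6] from rfl, wordP_cons, wordP_nil, mul_one]⟩
  · exact Subgroup.subset_closure ⟨6, by show 6 < 40; decide, by show wordP _ (Wl 6) = _; rw [show Wl 6 = [8] from rfl, wordP_cons, wordP_nil, mul_one]⟩
  · exact Subgroup.subset_closure ⟨8, by show 8 < 40; decide, by show wordP _ (Wl 8) = _; rw [show Wl 8 = [10] from rfl, wordP_cons, wordP_nil, mul_one]⟩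
  · exact Subgroup.subset_closure ⟨10, by show 10 < 40; decide, by show wordP _ (Wl 10) = _; rw [show Wl 10 = [12] from rfl, wordP_cons, wordP_nil, mul_one]⟩
  · exact Subgroup.subset_closure ⟨12, by show 12 < 40; decide, by show wordP _ (Wl 12) = _; rw [show Wl 12 = [14] from rfl, wordP_cons, wordP_nil, mul_one]⟩
  · exact Subgroup.subset_closure ⟨14, by show 14 < 40; decide, by show wordP _ (Wl 14) = _; rw [show Wl 14 = [16] from rfl, wordP_cons, wordP_nil, mul_one]⟩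
  · exact Subgroup.subset_closure ⟨16, by show 16 < 40; decide, by show wordP _ (Wl 16) = _; rw [show Wl 16 = [24] from rfl, wordP_cons, wordP_nil, mul_one]⟩

set_option maxRecDepth 100000 in
theorem noStem : NoStemPrime PC3Fi22y.P.Grp 5 := by
  obtain ⟨fG, hinj, hcard⟩ := C3Fi22yCover.order_aux
  have hall : ∀ w ∈ checks spec.toSpec2 PC3Fi22y.P.invR Wl ++ checksX spec PSC3Fi22yp5.P.invR Wl, wordP PC3Fi22y.P.gR w = 1 := by
    rw [checks_eq]
    intro w hw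
    exact C3Fi22yR.prep.word_eq_one hinj w (SC3Fi22yp3W.hAll_lt w hw) (SC3Fi22yp3W.hAll w hw)
  exact noStemPrime_pres4' PC3Fi22y.P PC3Fi22y.valid PSC3Fi22yp5.P PSC3Fi22yp5.valid spec (by show Nat.Prime 5; norm_num) Wl
    (by decide +kernel) (by decide +kernel) hgen (fun w hw => hall w (List.mem_append_left _ hw))
    (fun w hw => hall w (List.mem_append_right _ hw)) (by decide +kernel)
    (by rw [sub_eq]; exact C3Fi22ySub.liftsP_sub 5 (by decide))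
    13756055040 (by rw [sub_eq]; exact C3Fi22ySub.sub_card.2)
    14080 (by decide) SC3Fi22yp5A.index_eq fG 193685254963200 hcard (by decide)

end Cfsg.Agent.Lib.Helper4.SC3Fi22yp5Main
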