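import Mathlib
import Cfsg.Prelude.Def_Classical
import Cfsg.Agent.Lib.Helper4.LaneMat
import Cfsg.Agent.Lib.Helper4.O73pMain
import Cfsg.Agent.Lib.Helper4.C2O73Cover
import Cfsg.Agent.Lib.Helper4.StemLib11
import Cfsg.Agent.Lib.Helper4.TC20
import Cfsg.Agent.S0292

/-!
The presented group `O73p` is isomorphic to the orthogonal group `PΩ₇(3)` of the quadratic form `x₀² + Σ xᵢ yᵢ`:
the letters are mapped to explicit isometries, given as packed `7 × 7` matrices over the field with three elements;
the image of the perfect group `O73p` lies in the commutator subgroup of the isometry group, the homomorphism to the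
quotient by the centre is injective since `O73p` is simple, and the orders agree.
-/

set_option autoImplicit false

namespace Cfsg.Agent.Lib.Helper4.O73Iso

open Cfsg Cfsg.Agent.Lib.Helper4.LaneMat Cfsg.Agent.Lib.Helper4.TC Cfsg.Agent.Lib.Helper4.TC.Log
  Cfsg.Agent.Lib.Helper4.Stem Matrix

/-- the coordinates of the quadratic form -/
abbrev I7 : Type := Unit ⊕ (Fin 3 ⊕ Fin 3)

/-- the format of the packed matrices: `7 × 7`, lanes of 5 bits, modulo 3 -/
@[reducible] def C7 : Cfg where
  n := 7
  b := 5
  p := 3
  MC := 51010641278441992362061082184635924928748862312331413523322109983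
  red := redA 7 5 3
  hn := by norm_num
  hb := by norm_num
  hp := by norm_num
  hpb := by norm_num
  hMC := by decide +kernel
  hred := fun Z i k hi hk => ent_redA 7 5 3 Z (by norm_num) (by norm_num) hi hk

/-- the numbering of the coordinates -/
def e7 : I7 ≃ Fin C7.n :=
  ((Equiv.sumCongr (Equiv.ofUnique Unit (Fin 1)) finSumFinEquiv).trans finSumFinEquiv :
    Unit ⊕ (Fin 3 ⊕ Fin 3) ≃ Fin (1 + (3 + 3)))

local notation "tm" => C7.toMat e7
local notation "mu" => C7.mul
local notation "i7" => C7.one

/-- packed images of the letters -/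
def gT : ℕ → ℕ
  | 0 => 3647626867567707785717186929030843273853556290455739437791821189194252288
  | 1 => 58718818194126504024360536437291130876821539745749001356322627668444160
  | 2 => 1770405779385609929328423332855169495634536361563856157698728763347503106
  | 3 => 112261324932940880652085086342100428948215153306446754691771134651729922
  | 4 => 3592468501633471897581477046726663855556603346115832287109015573643658274
  | 5 => 3645958770231108755585537905628212206853308691784909887238424482655799298
  | 6 => 3590741432654828237981728862598956156602869649174218598749248474553811008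
  | 7 => 3590741432654828237981728862598956156602869649174218598749248474553811008
  | _ => i7

/-- packed transposes of the images of the letters -/
def gTt : ℕ → ℕ
  | 0 => 3647630290217138465803781316242015624024647914330077549041451558208800800
  | 1 => 58720501545291878764118961660764086389981864343194257760149045482913824
  | 2 => 1766848855088952771653638066569396212316081344175675432121567626511057986
  | 3 => 55217447829906675322475593091162478364031212227324167495764040564604930
  | 4 => 3590741482071437194963862097483314747175080728119600658483805040121250882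
  | 5 => 3645955403528883342282710095652147006053711627887144478498783766641641506
  | 6 => 3533694129611505087541151568324105113093217116384215687910717747968869408
  | 7 => 3533694129611505087541151568324105113093217116384215687910717747968869408
  | _ => i7

/-- the packed Gram matrix of the polar form -/
def Spk : ℕ := 53919893334350319446641783262553268479309119214962607859700229734402

/-- the inverse letters -/
def invL : ℕ → ℕ
  | 0 => 1
  | 1 => 0
  | 2 => 3
  | 3 => 2
  | 4 => 5
  | 5 => 4
  | 6 => 7
  | 7 => 6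
  | n => n

theorem gT_ge (l : ℕ) (h : ¬ l < 8) : gT l = i7 := by
  match l, h with
  | 0, h => exact absurd (by norm_num) h
  | 1, h => exact absurd (by norm_num) h
  | 2, h => exact absurd (by norm_num) h
  | 3, h => exact absurd (by norm_num) h
  | 4, h => exact absurd (by norm_num) h
  | 5, h => exact absurd (by norm_num) h
  | 6, h => exact absurd (by norm_num) h
  | 7, h => exact absurd (by norm_num) h
  | (n + 8), _ => rfl

set_option maxRecDepth 100000 in
theorem gT_valid' : ∀ l, l < 8 → C7.Valid (gT l) ∧ C7.Valid (gTt l) := by decide +kernel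

set_option maxRecDepth 100000 in
theorem Spk_valid : C7.Valid Spk := by decide +kernel

theorem gT_valid (l : ℕ) : C7.Valid (gT l) := by
  by_cases h : l < 8
  · exact (gT_valid' l h).1
  · rw [gT_ge l h]; exact C7.valid_one

set_option maxRecDepth 100000 in
theorem c_inv : ∀ l, l < 8 → mu (gT l) (gT (invL l)) = i7 ∧ mu (gT (invL l)) (gT l) = i7 := by
  decide +kernel

set_option maxRecDepth 100000 in
theorem c_rel : ∀ L ∈ PO73p.P.real, C7.evalW gT L = i7 := by decide +kernel

set_option maxRecDepth 100000 in
theorem c_gram : ∀ l, l < 8 → mu (mu (gTt l) Spk) (gT l) = Spk := by decide +kernel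

set_option maxRecDepth 100000 in
theorem c_tr : ∀ l, l < 8 → tm (gTt l) = (tm (gT l))ᵀ := by decide +kernel

set_option maxRecDepth 100000 in
theorem c_ncomm : tm (mu (gT 0) (gT 2)) ≠ tm (mu (gT 2) (gT 0)) := by decide +kernel

abbrev G7 : Type := GL I7 (ZMod 3)

/-- the images of the letters -/
def gU (l : ℕ) : G7 :=
  if h : l < 8 then C7.toGL e7 (gT l) (gT (invL l)) (gT_valid _) (gT_valid _) (c_inv l h).1 (c_inv l h).2 else 1

theorem val_gU (l : ℕ) : ((gU l : G7) : Matrix I7 I7 (ZMod 3)) = tm (gT l) := by
  unfold gU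
  split_ifs with h
  · rfl
  · rw [gT_ge l h, C7.toMat_one]; rfl

theorem val_wordP (L : List ℕ) : ((wordP gU L : G7) : Matrix I7 I7 (ZMod 3)) = tm (C7.evalW gT L) := by
  rw [C7.toMat_evalW e7 gT L fun x _ => gT_valid x]
  induction L with
  | nil => rfl
  | cons x L ih => rw [wordP_cons, Units.val_mul, ih, val_gU, List.map_cons, List.prod_cons]

theorem gU_mul_inv (l : ℕ) (h : l < 8) : gU l * gU (invL l) = 1 := by
  apply Units.ext
  rw [Units.val_mul, val_gU, val_gU, ← C7.toMat_mul e7 (gT_valid _) (gT_valid _), (c_inv l h).1, C7.toMat_one]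
  rfl

theorem exists_hom : ∃ φ : PO73p.P.Grp →* G7, ∀ l, l < 8 → φ (PO73p.P.gR l) = gU l := by
  apply exists_hom_of_letters PO73p.P PO73p.valid gU
  · intro l hl
    have hl : l < 8 := hl
    interval_cases l
    · exact gU_mul_inv 0 (by norm_num)
    · exact gU_mul_inv 1 (by norm_num)
    · exact gU_mul_inv 2 (by norm_num)
    · exact gU_mul_inv 3 (by norm_num)
    · exact gU_mul_inv 4 (by norm_num)
    · exact gU_mul_inv 5 (by norm_num)
    · exact gU_mul_inv 6 (by norm_num)
    · exact gU_mul_inv 7 (by norm_num)
  · intro L hL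
    apply Units.ext
    rw [val_wordP, c_rel L hL, C7.toMat_one]
    rfl

/-- the homomorphism to the matrices over `ZMod 3` -/
noncomputable def phi : PO73p.P.Grp →* G7 := Classical.choose exists_hom

theorem phi_gR (l : ℕ) (h : l < 8) : phi (PO73p.P.gR l) = gU l := Classical.choose_spec exists_hom l h

/-- the Gram matrix of the polar form of `x₀² + Σ xᵢ yᵢ` -/
def gram (R : Type*) [CommRing R] : Matrix I7 I7 R := Matrix.of fun a b =>
  match a, b with
  | .inl _, .inl _ => 2
  | .inr (.inl i), .inr (.inr j) => if i = j then 1 else 0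
  | .inr (.inr i), .inr (.inl j) => if i = j then 1 else 0
  | _, _ => 0

set_option maxRecDepth 100000 in
theorem toMat_Spk : tm Spk = gram (ZMod 3) := by decide +kernel

theorem gram_map {R : Type*} [CommRing R] (φ : ZMod 3 →+* R) : (gram (ZMod 3)).map φ = gram R := by
  ext a b
  rcases a with a | a | a <;> rcases b with b | b | b <;> simp only [gram, Matrix.map_apply, Matrix.of_apply]
  all_goals first | exact map_zero φ | exact map_ofNat φ 2 | (split_ifs <;> simp)

theorem gram_quad {R : Type*} [Field R] (v : I7 → R) : v ⬝ᵥ (gram R *ᵥ v) = 2 * quadFormOdd 3 R v := by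
  simp only [dotProduct, mulVec, gram, quadFormOdd, Fintype.sum_sum_type, Fin.sum_univ_three, Matrix.of_apply,
    Finset.univ_unique, Finset.sum_singleton]
  simp
  ring

theorem quad_mulVec {R : Type*} [Field R] (h2 : (2 : R) ≠ 0) (M : Matrix I7 I7 R)
    (h : Mᵀ * gram R * M = gram R) (v : I7 → R) : quadFormOdd 3 R (M *ᵥ v) = quadFormOdd 3 R v := by
  apply mul_left_cancel₀ h2
  rw [← gram_quad, ← gram_quad]
  have : (M *ᵥ v) ⬝ᵥ (gram R *ᵥ (M *ᵥ v)) = v ⬝ᵥ ((Mᵀ * gram R * M) *ᵥ v) := by
    rw [← mulVec_mulVec, ← mulVec_mulVec, dotProduct_mulVec v Mᵀ, vecMul_transpose]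
  rw [this, h]

theorem gram_gT (l : ℕ) (hl : l < 8) : (tm (gT l))ᵀ * gram (ZMod 3) * tm (gT l) = gram (ZMod 3) := by
  rw [← c_tr l hl, ← toMat_Spk, ← C7.toMat_mul e7 (gT_valid' l hl).2 Spk_valid,
    ← C7.toMat_mul e7 (C7.valid_mul _ _) (gT_valid l), c_gram l hl]

section Field

variable {F : Type*} [Field F] (φ : ZMod 3 →+* F)

/-- the homomorphism to the matrices over a field of characteristic 3 -/
noncomputable def phiF : PO73p.P.Grp →* GL I7 F := (Matrix.GeneralLinearGroup.map φ).comp phi

theorem val_phiF (g : PO73p.P.Grp) : ((phiF φ g : GL I7 F) : Matrix I7 I7 F) = ((phi g : G7) : Matrix I7 I7 (ZMod 3)).map φ :=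
  rfl

theorem two_ne (φ : ZMod 3 →+* F) : (2 : F) ≠ 0 := by
  have h : φ 2 ≠ 0 := by
    rw [Ne, map_eq_zero_iff φ φ.injective]
    decide
  rwa [map_ofNat] at h

theorem gR_mem (l : ℕ) (hl : l < 8) : phiF φ (PO73p.P.gR l) ∈ isometryGroup F (quadFormOdd 3 F) := by
  intro u _
  show quadFormOdd 3 F (((phiF φ (PO73p.P.gR l) : GL I7 F) : Matrix I7 I7 F) *ᵥ u) = quadFormOdd 3 F u
  rw [val_phiF, phi_gR l hl, val_gU]
  apply quad_mulVec (two_ne φ)
  rw [← transpose_map, ← gram_map φ, ← Matrix.map_mul, ← Matrix.map_mul, gram_gT l hl]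

theorem range_le : (phiF φ).range ≤ isometryGroup F (quadFormOdd 3 F) := by
  rw [MonoidHom.range_eq_map, ← PO73p.valid.gen_top, MonoidHom.map_closure, Subgroup.closure_le]
  rintro _ ⟨_, ⟨l, hl, rfl⟩, rfl⟩
  exact gR_mem φ l hl

/-- the homomorphism to the isometry group -/
noncomputable def psi0 : PO73p.P.Grp →* isometryGroup F (quadFormOdd 3 F) :=
  (phiF φ).codRestrict _ fun g => range_le φ ⟨g, rfl⟩

/-- `O73p` is perfect -/
theorem perfect : commutator PO73p.P.Grp = ⊤ :=
  perfect_of_surjective C2O73Cover.π C2O73Cover.π_surjective C2O73Cover.perfect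

theorem psi0_mem (g : PO73p.P.Grp) : psi0 φ g ∈ Omega F (quadFormOdd 3 F) := by
  have h1 : g ∈ commutator PO73p.P.Grp := by rw [perfect]; trivial
  have h2 : (commutator PO73p.P.Grp).map (psi0 φ) ≤ commutator (isometryGroup F (quadFormOdd 3 F)) := by
    rw [commutator_def, Subgroup.map_commutator, commutator_def]
    exact Subgroup.commutator_mono le_top le_top
  exact h2 ⟨g, h1, rfl⟩

/-- the homomorphism to the commutator subgroup of the isometry group -/
noncomputable def psi1 : PO73p.P.Grp →* Omega F (quadFormOdd 3 F) :=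
  (psi0 φ).codRestrict _ (psi0_mem φ)

/-- the homomorphism to `PΩ₇` -/
noncomputable def psi : PO73p.P.Grp →* POmega F (quadFormOdd 3 F) :=
  (QuotientGroup.mk' (Subgroup.center (Omega F (quadFormOdd 3 F)))).comp (psi1 φ)

theorem val_psi1 (g : PO73p.P.Grp) :
    (((psi1 φ g : Omega F (quadFormOdd 3 F)) : isometryGroup F (quadFormOdd 3 F)) : GL I7 F) = phiF φ g := rfl

theorem psi_injective : Function.Injective (psi φ) := by
  rw [← MonoidHom.ker_eq_bot_iff]
  rcases O73pMain.simple_aux.eq_bot_or_eq_top_of_normal (psi φ).ker inferInstance with h | h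
  · exact h
  · exfalso
    have h0 : PO73p.P.gR 0 ∈ (psi φ).ker := by rw [h]; trivial
    rw [MonoidHom.mem_ker] at h0
    have h1 : psi1 φ (PO73p.P.gR 0) ∈ Subgroup.center (Omega F (quadFormOdd 3 F)) :=
      (QuotientGroup.eq_one_iff _).1 h0
    have h2 := Subgroup.mem_center_iff.1 h1 (psi1 φ (PO73p.P.gR 2))
    have h3 : phiF φ (PO73p.P.gR 2) * phiF φ (PO73p.P.gR 0) = phiF φ (PO73p.P.gR 0) * phiF φ (PO73p.P.gR 2) := by
      rw [← val_psi1, ← val_psi1]
      exact congrArg (fun x : Omega F (quadFormOdd 3 F) => ((x : isometryGroup F (quadFormOdd 3 F)) : GL I7 F)) h2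
    have h4 := congrArg (fun x : GL I7 F => (x : Matrix I7 I7 F)) h3
    simp only [Units.val_mul, val_phiF, phi_gR 0 (by norm_num), phi_gR 2 (by norm_num), val_gU] at h4
    rw [← Matrix.map_mul, ← Matrix.map_mul, ← C7.toMat_mul e7 (gT_valid _) (gT_valid _),
      ← C7.toMat_mul e7 (gT_valid _) (gT_valid _)] at h4
    exact c_ncomm (Matrix.map_injective φ.injective h4).symm

end Field

/-- the order of `PΩ₇(3)` -/
theorem card_POmega {F : Type*} [Field F] [Fintype F] (hF : Fintype.card F = 3) :
    Nat.card (POmega F (quadFormOdd 3 F)) = 4585351680 := by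
  have h := Cfsg.Agent.S0292.result (F := F) (q := 3) hF (by decide) 3 (le_refl 3)
  norm_num [Finset.prod_range_succ] at h
  omega

/-- the presented group `O73p` is the group `PΩ₇(3)` -/
theorem iso {F : Type*} [Field F] [Fintype F] (hF : Fintype.card F = 3) :
    Nonempty (PO73p.P.Grp ≃* POmega F (quadFormOdd 3 F)) := by
  obtain ⟨fG, _, hc⟩ := O73pMain.order_aux
  have := fG
  have e3 : ZMod 3 ≃+* F := ZMod.ringEquivOfPrime F (by norm_num) hF
  have hinj := psi_injective e3.toRingHom
  have hbij : Function.Bijective (psi e3.toRingHom) := by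
    apply hinj.bijective_of_nat_card_le
    rw [hc, card_POmega hF]
  exact ⟨MulEquiv.ofBijective _ hbij⟩

end Cfsg.Agent.Lib.Helper4.O73Iso
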