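import Cfsg.Agent.Lib.Helper4.TCD_C2O73R_Acc
import Cfsg.Agent.Lib.Helper4.TC13

namespace Cfsg.Agent.Lib.Helper4.TCD.SC2O73p2W

open Cfsg.Agent.Lib.Helper4.TC Cfsg.Agent.Lib.Helper4.TCD.C2O73R

set_option maxRecDepth 100000
set_option Elab.async false

def chk0 : List Nat := [0, 0, 0, 0, 0, 0, 0]
noncomputable def act0 (i : Nat) : Nat := col1 (col1 (col1 (col1 (col1 (col1 (col1 (i)))))))
theorem act0_eq (i : Nat) : act0 i = Tab.act T D chk0 i := rfl
theorem c0_0 : allRange (fun i => Nat.beq (act0 i) i) 0 2160 = true := by decide +kernel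
theorem h0 : ∀ i, i < T.N → Tab.relActOK T D chk0 i = true := by
  intro i hi
  rw [Tab.relActOK, ← act0_eq]
  exact (range_of_allRange c0_0) i (Nat.zero_le _) hi

def chk1 : List Nat := [2, 2, 2, 2]
noncomputable def act1 (i : Nat) : Nat := col3 (col3 (col3 (col3 (i))))
theorem act1_eq (i : Nat) : act1 i = Tab.act T D chk1 i := rfl
theorem c1_0 : allRange (fun i => Nat.beq (act1 i) i) 0 2160 = true := by decide +kernel
theorem h1 : ∀ i, i < T.N → Tab.relActOK T D chk1 i = true := by
  intro i hi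
  rw [Tab.relActOK, ← act1_eq]
  exact (range_of_allRange c1_0) i (Nat.zero_le _) hi

def chk2 : List Nat := [4, 4, 4]
noncomputable def act2 (i : Nat) : Nat := col5 (col5 (col5 (i)))
theorem act2_eq (i : Nat) : act2 i = Tab.act T D chk2 i := rfl
theorem c2_0 : allRange (fun i => Nat.beq (act2 i) i) 0 2160 = true := by decide +kernel
theorem h2 : ∀ i, i < T.N → Tab.relActOK T D chk2 i = true := by
  intro i hi
  rw [Tab.relActOK, ← act2_eq]
  exact (range_of_allRange c2_0) i (Nat.zero_le _) hi

def chk3 : List Nat := [6, 0, 6, 0, 6, 0, 6, 0, 6, 0, 6, 0, 6, 0]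
noncomputable def act3 (i : Nat) : Nat := col7 (col1 (col7 (col1 (col7 (col1 (col7 (col1 (col7 (col1 (col7 (col1 (col7 (col1 (i))))))))))))))
theorem act3_eq (i : Nat) : act3 i = Tab.act T D chk3 i := rfl
theorem c3_0 : allRange (fun i => Nat.beq (act3 i) i) 0 2160 = true := by decide +kernel
theorem h3 : ∀ i, i < T.N → Tab.relActOK T D chk3 i = true := by
  intro i hi
  rw [Tab.relActOK, ← act3_eq]
  exact (range_of_allRange c3_0) i (Nat.zero_le _) hi

def chk4 : List Nat := [6, 0, 1, 7]
noncomputable def act4 (i : Nat) : Nat := col7 (col1 (col0 (col6 (i))))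
theorem act4_eq (i : Nat) : act4 i = Tab.act T D chk4 i := rfl
theorem c4_0 : allRange (fun i => Nat.beq (act4 i) i) 0 2160 = true := by decide +kernel
theorem h4 : ∀ i, i < T.N → Tab.relActOK T D chk4 i = true := by
  intro i hi
  rw [Tab.relActOK, ← act4_eq]
  exact (range_of_allRange c4_0) i (Nat.zero_le _) hi

def chk5 : List Nat := [6, 6, 9]
noncomputable def act5 (i : Nat) : Nat := col7 (col7 (col8 (i)))
theorem act5_eq (i : Nat) : act5 i = Tab.act T D chk5 i := rfl
theorem c5_0 : allRange (fun i => Nat.beq (act5 i) i) 0 2160 = true := by decide +kernel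
theorem h5 : ∀ i, i < T.N → Tab.relActOK T D chk5 i = true := by
  intro i hi
  rw [Tab.relActOK, ← act5_eq]
  exact (range_of_allRange c5_0) i (Nat.zero_le _) hi

def chk6 : List Nat := [0, 6, 1, 6, 0, 6, 1, 6, 9]
noncomputable def act6 (i : Nat) : Nat := col1 (col7 (col0 (col7 (col1 (col7 (col0 (col7 (col8 (i)))))))))
theorem act6_eq (i : Nat) : act6 i = Tab.act T D chk6 i := rfl
theorem c6_0 : allRange (fun i => Nat.beq (act6 i) i) 0 2160 = true := by decide +kernel
theorem h6 : ∀ i, i < T.N → Tab.relActOK T D chk6 i = true := by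
  intro i hi
  rw [Tab.relActOK, ← act6_eq]
  exact (range_of_allRange c6_0) i (Nat.zero_le _) hi

def chk7 : List Nat := [2, 6, 3, 6, 2, 6, 3, 6, 9]
noncomputable def act7 (i : Nat) : Nat := col3 (col7 (col2 (col7 (col3 (col7 (col2 (col7 (col8 (i)))))))))
theorem act7_eq (i : Nat) : act7 i = Tab.act T D chk7 i := rfl
theorem c7_0 : allRange (fun i => Nat.beq (act7 i) i) 0 2160 = true := by decide +kernel
theorem h7 : ∀ i, i < T.N → Tab.relActOK T D chk7 i = true := by
  intro i hi
  rw [Tab.relActOK, ← act7_eq]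
  exact (range_of_allRange c7_0) i (Nat.zero_le _) hi

def chk8 : List Nat := [0, 0, 2, 0, 6, 1, 3, 1, 1, 6, 9]
noncomputable def act8 (i : Nat) : Nat := col1 (col1 (col3 (col1 (col7 (col0 (col2 (col0 (col0 (col7 (col8 (i)))))))))))
theorem act8_eq (i : Nat) : act8 i = Tab.act T D chk8 i := rfl
theorem c8_0 : allRange (fun i => Nat.beq (act8 i) i) 0 2160 = true := by decide +kernel
theorem h8 : ∀ i, i < T.N → Tab.relActOK T D chk8 i = true := by
  intro i hi
  rw [Tab.relActOK, ← act8_eq]
  exact (range_of_allRange c8_0) i (Nat.zero_le _) hi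

def chk9 : List Nat := [0, 3, 5, 2, 6, 3, 4, 2, 1, 6, 9]
noncomputable def act9 (i : Nat) : Nat := col1 (col2 (col4 (col3 (col7 (col2 (col5 (col3 (col0 (col7 (col8 (i)))))))))))
theorem act9_eq (i : Nat) : act9 i = Tab.act T D chk9 i := rfl
theorem c9_0 : allRange (fun i => Nat.beq (act9 i) i) 0 2160 = true := by decide +kernel
theorem h9 : ∀ i, i < T.N → Tab.relActOK T D chk9 i = true := by
  intro i hi
  rw [Tab.relActOK, ← act9_eq]
  exact (range_of_allRange c9_0) i (Nat.zero_le _) hi

def chk10 : List Nat := [0, 3, 4, 4, 2, 6, 3, 4, 2, 1, 6, 9]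
noncomputable def act10 (i : Nat) : Nat := col1 (col2 (col5 (col5 (col3 (col7 (col2 (col5 (col3 (col0 (col7 (col8 (i))))))))))))
theorem act10_eq (i : Nat) : act10 i = Tab.act T D chk10 i := rfl
theorem c10_0 : allRange (fun i => Nat.beq (act10 i) i) 0 2160 = true := by decide +kernel
theorem h10 : ∀ i, i < T.N → Tab.relActOK T D chk10 i = true := by
  intro i hi
  rw [Tab.relActOK, ← act10_eq]
  exact (range_of_allRange c10_0) i (Nat.zero_le _) hi

def chk11 : List Nat := [0, 0, 0, 4, 1, 1, 6, 3, 4, 2, 1, 6, 9]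
noncomputable def act11 (i : Nat) : Nat := col1 (col1 (col1 (col5 (col0 (col0 (col7 (col2 (col5 (col3 (col0 (col7 (col8 (i)))))))))))))
theorem act11_eq (i : Nat) : act11 i = Tab.act T D chk11 i := rfl
theorem c11_0 : allRange (fun i => Nat.beq (act11 i) i) 0 2160 = true := by decide +kernel
theorem h11 : ∀ i, i < T.N → Tab.relActOK T D chk11 i = true := by
  intro i hi
  rw [Tab.relActOK, ← act11_eq]
  exact (range_of_allRange c11_0) i (Nat.zero_le _) hi

def chk12 : List Nat := [0, 0, 2, 0, 6, 1, 2, 2, 2, 1, 1, 6, 9]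
noncomputable def act12 (i : Nat) : Nat := col1 (col1 (col3 (col1 (col7 (col0 (col3 (col3 (col3 (col0 (col0 (col7 (col8 (i)))))))))))))
theorem act12_eq (i : Nat) : act12 i = Tab.act T D chk12 i := rfl
theorem c12_0 : allRange (fun i => Nat.beq (act12 i) i) 0 2160 = true := by decide +kernel
theorem h12 : ∀ i, i < T.N → Tab.relActOK T D chk12 i = true := by
  intro i hi
  rw [Tab.relActOK, ← act12_eq]
  exact (range_of_allRange c12_0) i (Nat.zero_le _) hi

def chk13 : List Nat := [0, 2, 6, 2, 1, 5, 0, 2, 6, 2, 1, 5]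
noncomputable def act13 (i : Nat) : Nat := col1 (col3 (col7 (col3 (col0 (col4 (col1 (col3 (col7 (col3 (col0 (col4 (i))))))))))))
theorem act13_eq (i : Nat) : act13 i = Tab.act T D chk13 i := rfl
theorem c13_0 : allRange (fun i => Nat.beq (act13 i) i) 0 2160 = true := by decide +kernel
theorem h13 : ∀ i, i < T.N → Tab.relActOK T D chk13 i = true := by
  intro i hi
  rw [Tab.relActOK, ← act13_eq]
  exact (range_of_allRange c13_0) i (Nat.zero_le _) hi

def chk14 : List Nat := [0, 2, 6, 3, 1, 4, 0, 3, 6, 2, 1, 5]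
noncomputable def act14 (i : Nat) : Nat := col1 (col3 (col7 (col2 (col0 (col5 (col1 (col2 (col7 (col3 (col0 (col4 (i))))))))))))
theorem act14_eq (i : Nat) : act14 i = Tab.act T D chk14 i := rfl
theorem c14_0 : allRange (fun i => Nat.beq (act14 i) i) 0 2160 = true := by decide +kernel
theorem h14 : ∀ i, i < T.N → Tab.relActOK T D chk14 i = true := by
  intro i hi
  rw [Tab.relActOK, ← act14_eq]
  exact (range_of_allRange c14_0) i (Nat.zero_le _) hi

def chk15 : List Nat := [0, 2, 6, 3, 1, 4, 0, 3, 6, 2, 1, 4, 4]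
noncomputable def act15 (i : Nat) : Nat := col1 (col3 (col7 (col2 (col0 (col5 (col1 (col2 (col7 (col3 (col0 (col5 (col5 (i)))))))))))))
theorem act15_eq (i : Nat) : act15 i = Tab.act T D chk15 i := rfl
theorem c15_0 : allRange (fun i => Nat.beq (act15 i) i) 0 2160 = true := by decide +kernel
theorem h15 : ∀ i, i < T.N → Tab.relActOK T D chk15 i = true := by
  intro i hi
  rw [Tab.relActOK, ← act15_eq]
  exact (range_of_allRange c15_0) i (Nat.zero_le _) hi

def chk16 : List Nat := [0, 0, 4, 1, 2, 1, 6, 0, 3, 1, 3, 4, 2, 6, 9]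
noncomputable def act16 (i : Nat) : Nat := col1 (col1 (col5 (col0 (col3 (col0 (col7 (col1 (col2 (col0 (col2 (col5 (col3 (col7 (col8 (i)))))))))))))))
theorem act16_eq (i : Nat) : act16 i = Tab.act T D chk16 i := rfl
theorem c16_0 : allRange (fun i => Nat.beq (act16 i) i) 0 2160 = true := by decide +kernel
theorem h16 : ∀ i, i < T.N → Tab.relActOK T D chk16 i = true := by
  intro i hi
  rw [Tab.relActOK, ← act16_eq]
  exact (range_of_allRange c16_0) i (Nat.zero_le _) hi

def chk17 : List Nat := [0, 2, 2, 0, 5, 0, 6, 1, 4, 1, 2, 2, 1, 6]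
noncomputable def act17 (i : Nat) : Nat := col1 (col3 (col3 (col1 (col4 (col1 (col7 (col0 (col5 (col0 (col3 (col3 (col0 (col7 (i))))))))))))))
theorem act17_eq (i : Nat) : act17 i = Tab.act T D chk17 i := rfl
theorem c17_0 : allRange (fun i => Nat.beq (act17 i) i) 0 2160 = true := by decide +kernel
theorem h17 : ∀ i, i < T.N → Tab.relActOK T D chk17 i = true := by
  intro i hi
  rw [Tab.relActOK, ← act17_eq]
  exact (range_of_allRange c17_0) i (Nat.zero_le _) hi

def chk18 : List Nat := [0, 2, 1, 5, 0, 6, 1, 4, 0, 3, 1, 3, 6, 2]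
noncomputable def act18 (i : Nat) : Nat := col1 (col3 (col0 (col4 (col1 (col7 (col0 (col5 (col1 (col2 (col0 (col2 (col7 (col3 (i))))))))))))))
theorem act18_eq (i : Nat) : act18 i = Tab.act T D chk18 i := rfl
theorem c18_0 : allRange (fun i => Nat.beq (act18 i) i) 0 2160 = true := by decide +kernel
theorem h18 : ∀ i, i < T.N → Tab.relActOK T D chk18 i = true := by
  intro i hi
  rw [Tab.relActOK, ← act18_eq]
  exact (range_of_allRange c18_0) i (Nat.zero_le _) hi

def chk19 : List Nat := [0, 0, 3, 0, 6, 1, 2, 1, 1, 4, 3, 6, 2, 5]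
noncomputable def act19 (i : Nat) : Nat := col1 (col1 (col2 (col1 (col7 (col0 (col3 (col0 (col0 (col5 (col2 (col7 (col3 (col4 (i))))))))))))))
theorem act19_eq (i : Nat) : act19 i = Tab.act T D chk19 i := rfl
theorem c19_0 : allRange (fun i => Nat.beq (act19 i) i) 0 2160 = true := by decide +kernel
theorem h19 : ∀ i, i < T.N → Tab.relActOK T D chk19 i = true := by
  intro i hi
  rw [Tab.relActOK, ← act19_eq]
  exact (range_of_allRange c19_0) i (Nat.zero_le _) hi

def chk20 : List Nat := [0, 0, 2, 2, 6, 2, 2, 1, 1, 4, 2, 6, 3, 5, 9]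
noncomputable def act20 (i : Nat) : Nat := col1 (col1 (col3 (col3 (col7 (col3 (col3 (col0 (col0 (col5 (col3 (col7 (col2 (col4 (col8 (i)))))))))))))))
theorem act20_eq (i : Nat) : act20 i = Tab.act T D chk20 i := rfl
theorem c20_0 : allRange (fun i => Nat.beq (act20 i) i) 0 2160 = true := by decide +kernel
theorem h20 : ∀ i, i < T.N → Tab.relActOK T D chk20 i = true := by
  intro i hi
  rw [Tab.relActOK, ← act20_eq]
  exact (range_of_allRange c20_0) i (Nat.zero_le _) hi

def chk21 : List Nat := [0, 4, 2, 6, 3, 5, 1, 2, 5, 1, 6, 0, 4, 3, 9]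
noncomputable def act21 (i : Nat) : Nat := col1 (col5 (col3 (col7 (col2 (col4 (col0 (col3 (col4 (col0 (col7 (col1 (col5 (col2 (col8 (i)))))))))))))))
theorem act21_eq (i : Nat) : act21 i = Tab.act T D chk21 i := rfl
theorem c21_0 : allRange (fun i => Nat.beq (act21 i) i) 0 2160 = true := by decide +kernel
theorem h21 : ∀ i, i < T.N → Tab.relActOK T D chk21 i = true := by
  intro i hi
  rw [Tab.relActOK, ← act21_eq]
  exact (range_of_allRange c21_0) i (Nat.zero_le _) hi

def chk22 : List Nat := [0, 3, 3, 0, 5, 6, 4, 1, 2, 2, 1, 5, 6, 4, 9]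
noncomputable def act22 (i : Nat) : Nat := col1 (col2 (col2 (col1 (col4 (col7 (col5 (col0 (col3 (col3 (col0 (col4 (col7 (col5 (col8 (i)))))))))))))))
theorem act22_eq (i : Nat) : act22 i = Tab.act T D chk22 i := rfl
theorem c22_0 : allRange (fun i => Nat.beq (act22 i) i) 0 2160 = true := by decide +kernel
theorem h22 : ∀ i, i < T.N → Tab.relActOK T D chk22 i = true := by
  intro i hi
  rw [Tab.relActOK, ← act22_eq]
  exact (range_of_allRange c22_0) i (Nat.zero_le _) hi

def chk23 : List Nat := [0, 0, 3, 0, 4, 1, 6, 2, 1, 1, 2, 0, 5, 6, 1, 3, 9]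
noncomputable def act23 (i : Nat) : Nat := col1 (col1 (col2 (col1 (col5 (col0 (col7 (col3 (col0 (col0 (col3 (col1 (col4 (col7 (col0 (col2 (col8 (i)))))))))))))))))
theorem act23_eq (i : Nat) : act23 i = Tab.act T D chk23 i := rfl
theorem c23_0 : allRange (fun i => Nat.beq (act23 i) i) 0 2160 = true := by decide +kernel
theorem h23 : ∀ i, i < T.N → Tab.relActOK T D chk23 i = true := by
  intro i hi
  rw [Tab.relActOK, ← act23_eq]
  exact (range_of_allRange c23_0) i (Nat.zero_le _) hi

def chk24 : List Nat := [0, 0, 3, 0, 2, 0, 3, 6, 4, 6, 4, 6, 3, 0, 2, 4, 1, 4]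
noncomputable def act24 (i : Nat) : Nat := col1 (col1 (col2 (col1 (col3 (col1 (col2 (col7 (col5 (col7 (col5 (col7 (col2 (col1 (col3 (col5 (col0 (col5 (i))))))))))))))))))
theorem act24_eq (i : Nat) : act24 i = Tab.act T D chk24 i := rfl
theorem c24_0 : allRange (fun i => Nat.beq (act24 i) i) 0 2160 = true := by decide +kernel
theorem h24 : ∀ i, i < T.N → Tab.relActOK T D chk24 i = true := by
  intro i hi
  rw [Tab.relActOK, ← act24_eq]
  exact (range_of_allRange c24_0) i (Nat.zero_le _) hi

def chk25 : List Nat := [8, 8]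
noncomputable def act25 (i : Nat) : Nat := col9 (col9 (i))
theorem act25_eq (i : Nat) : act25 i = Tab.act T D chk25 i := rfl
theorem c25_0 : allRange (fun i => Nat.beq (act25 i) i) 0 2160 = true := by decide +kernel
theorem h25 : ∀ i, i < T.N → Tab.relActOK T D chk25 i = true := by
  intro i hi
  rw [Tab.relActOK, ← act25_eq]
  exact (range_of_allRange c25_0) i (Nat.zero_le _) hi

def chk26 : List Nat := [9, 1, 8, 0]
noncomputable def act26 (i : Nat) : Nat := col8 (col0 (col9 (col1 (i))))
theorem act26_eq (i : Nat) : act26 i = Tab.act T D chk26 i := rfl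
theorem c26_0 : allRange (fun i => Nat.beq (act26 i) i) 0 2160 = true := by decide +kernel
theorem h26 : ∀ i, i < T.N → Tab.relActOK T D chk26 i = true := by
  intro i hi
  rw [Tab.relActOK, ← act26_eq]
  exact (range_of_allRange c26_0) i (Nat.zero_le _) hi

def chk27 : List Nat := [9, 3, 8, 2]
noncomputable def act27 (i : Nat) : Nat := col8 (col2 (col9 (col3 (i))))
theorem act27_eq (i : Nat) : act27 i = Tab.act T D chk27 i := rfl
theorem c27_0 : allRange (fun i => Nat.beq (act27 i) i) 0 2160 = true := by decide +kernel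
theorem h27 : ∀ i, i < T.N → Tab.relActOK T D chk27 i = true := by
  intro i hi
  rw [Tab.relActOK, ← act27_eq]
  exact (range_of_allRange c27_0) i (Nat.zero_le _) hi

def chk28 : List Nat := [9, 5, 8, 4]
noncomputable def act28 (i : Nat) : Nat := col8 (col4 (col9 (col5 (i))))
theorem act28_eq (i : Nat) : act28 i = Tab.act T D chk28 i := rfl
theorem c28_0 : allRange (fun i => Nat.beq (act28 i) i) 0 2160 = true := by decide +kernel
theorem h28 : ∀ i, i < T.N → Tab.relActOK T D chk28 i = true := by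
  intro i hi
  rw [Tab.relActOK, ← act28_eq]
  exact (range_of_allRange c28_0) i (Nat.zero_le _) hi

def chk29 : List Nat := [9, 7, 8, 6]
noncomputable def act29 (i : Nat) : Nat := col8 (col6 (col9 (col7 (i))))
theorem act29_eq (i : Nat) : act29 i = Tab.act T D chk29 i := rfl
theorem c29_0 : allRange (fun i => Nat.beq (act29 i) i) 0 2160 = true := by decide +kernel
theorem h29 : ∀ i, i < T.N → Tab.relActOK T D chk29 i = true := by
  intro i hi
  rw [Tab.relActOK, ← act29_eq]
  exact (range_of_allRange c29_0) i (Nat.zero_le _) hi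

def chk30 : List Nat := [0, 0, 0, 0, 0, 0, 0]
noncomputable def act30 (i : Nat) : Nat := col1 (col1 (col1 (col1 (col1 (col1 (col1 (i)))))))
theorem act30_eq (i : Nat) : act30 i = Tab.act T D chk30 i := rfl
theorem c30_0 : allRange (fun i => Nat.beq (act30 i) i) 0 2160 = true := by decide +kernel
theorem h30 : ∀ i, i < T.N → Tab.relActOK T D chk30 i = true := by
  intro i hi
  rw [Tab.relActOK, ← act30_eq]
  exact (range_of_allRange c30_0) i (Nat.zero_le _) hi

def chk31 : List Nat := [0, 0, 2, 1, 2, 0, 3, 0, 2, 1, 2]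
noncomputable def act31 (i : Nat) : Nat := col1 (col1 (col3 (col0 (col3 (col1 (col2 (col1 (col3 (col0 (col3 (i)))))))))))
theorem act31_eq (i : Nat) : act31 i = Tab.act T D chk31 i := rfl
theorem c31_0 : allRange (fun i => Nat.beq (act31 i) i) 0 2160 = true := by decide +kernel
theorem h31 : ∀ i, i < T.N → Tab.relActOK T D chk31 i = true := by
  intro i hi
  rw [Tab.relActOK, ← act31_eq]
  exact (range_of_allRange c31_0) i (Nat.zero_le _) hi

def chk32 : List Nat := [0, 0, 0, 2, 0, 0, 0, 2, 0, 0, 0, 2]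
noncomputable def act32 (i : Nat) : Nat := col1 (col1 (col1 (col3 (col1 (col1 (col1 (col3 (col1 (col1 (col1 (col3 (i))))))))))))
theorem act32_eq (i : Nat) : act32 i = Tab.act T D chk32 i := rfl
theorem c32_0 : allRange (fun i => Nat.beq (act32 i) i) 0 2160 = true := by decide +kernel
theorem h32 : ∀ i, i < T.N → Tab.relActOK T D chk32 i = true := by
  intro i hi
  rw [Tab.relActOK, ← act32_eq]
  exact (range_of_allRange c32_0) i (Nat.zero_le _) hi

def chk33 : List Nat := [0, 0, 2, 2, 0, 0, 3, 3, 0, 0, 3, 3]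
noncomputable def act33 (i : Nat) : Nat := col1 (col1 (col3 (col3 (col1 (col1 (col2 (col2 (col1 (col1 (col2 (col2 (i))))))))))))
theorem act33_eq (i : Nat) : act33 i = Tab.act T D chk33 i := rfl
theorem c33_0 : allRange (fun i => Nat.beq (act33 i) i) 0 2160 = true := by decide +kernel
theorem h33 : ∀ i, i < T.N → Tab.relActOK T D chk33 i = true := by
  intro i hi
  rw [Tab.relActOK, ← act33_eq]
  exact (range_of_allRange c33_0) i (Nat.zero_le _) hi

def chk34 : List Nat := [4, 4, 4]
noncomputable def act34 (i : Nat) : Nat := col5 (col5 (col5 (i)))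
theorem act34_eq (i : Nat) : act34 i = Tab.act T D chk34 i := rfl
theorem c34_0 : allRange (fun i => Nat.beq (act34 i) i) 0 2160 = true := by decide +kernel
theorem h34 : ∀ i, i < T.N → Tab.relActOK T D chk34 i = true := by
  intro i hi
  rw [Tab.relActOK, ← act34_eq]
  exact (range_of_allRange c34_0) i (Nat.zero_le _) hi

def chk35 : List Nat := [0, 0, 4, 1, 1, 3, 4, 2]
noncomputable def act35 (i : Nat) : Nat := col1 (col1 (col5 (col0 (col0 (col2 (col5 (col3 (i))))))))
theorem act35_eq (i : Nat) : act35 i = Tab.act T D chk35 i := rfl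
theorem c35_0 : allRange (fun i => Nat.beq (act35 i) i) 0 2160 = true := by decide +kernel
theorem h35 : ∀ i, i < T.N → Tab.relActOK T D chk35 i = true := by
  intro i hi
  rw [Tab.relActOK, ← act35_eq]
  exact (range_of_allRange c35_0) i (Nat.zero_le _) hi

def chk36 : List Nat := [0, 2, 4, 0, 2, 4, 0, 2, 4]
noncomputable def act36 (i : Nat) : Nat := col1 (col3 (col5 (col1 (col3 (col5 (col1 (col3 (col5 (i)))))))))
theorem act36_eq (i : Nat) : act36 i = Tab.act T D chk36 i := rfl
theorem c36_0 : allRange (fun i => Nat.beq (act36 i) i) 0 2160 = true := by decide +kernel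
theorem h36 : ∀ i, i < T.N → Tab.relActOK T D chk36 i = true := by
  intro i hi
  rw [Tab.relActOK, ← act36_eq]
  exact (range_of_allRange c36_0) i (Nat.zero_le _) hi

def chk37 : List Nat := [0, 2, 2, 1, 4, 0, 3, 3, 1, 4]
noncomputable def act37 (i : Nat) : Nat := col1 (col3 (col3 (col0 (col5 (col1 (col2 (col2 (col0 (col5 (i))))))))))
theorem act37_eq (i : Nat) : act37 i = Tab.act T D chk37 i := rfl
theorem c37_0 : allRange (fun i => Nat.beq (act37 i) i) 0 2160 = true := by decide +kernel
theorem h37 : ∀ i, i < T.N → Tab.relActOK T D chk37 i = true := by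
  intro i hi
  rw [Tab.relActOK, ← act37_eq]
  exact (range_of_allRange c37_0) i (Nat.zero_le _) hi

def chk38 : List Nat := [0, 4, 1, 4, 1, 2, 4, 3, 0, 5]
noncomputable def act38 (i : Nat) : Nat := col1 (col5 (col0 (col5 (col0 (col3 (col5 (col2 (col1 (col4 (i))))))))))
theorem act38_eq (i : Nat) : act38 i = Tab.act T D chk38 i := rfl
theorem c38_0 : allRange (fun i => Nat.beq (act38 i) i) 0 2160 = true := by decide +kernel
theorem h38 : ∀ i, i < T.N → Tab.relActOK T D chk38 i = true := by
  intro i hi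
  rw [Tab.relActOK, ← act38_eq]
  exact (range_of_allRange c38_0) i (Nat.zero_le _) hi

def chk39 : List Nat := [0, 0, 3, 0, 4, 1, 2, 1, 1, 2, 0, 5, 1, 3]
noncomputable def act39 (i : Nat) : Nat := col1 (col1 (col2 (col1 (col5 (col0 (col3 (col0 (col0 (col3 (col1 (col4 (col0 (col2 (i))))))))))))))
theorem act39_eq (i : Nat) : act39 i = Tab.act T D chk39 i := rfl
theorem c39_0 : allRange (fun i => Nat.beq (act39 i) i) 0 2160 = true := by decide +kernel
theorem h39 : ∀ i, i < T.N → Tab.relActOK T D chk39 i = true := by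
  intro i hi
  rw [Tab.relActOK, ← act39_eq]
  exact (range_of_allRange c39_0) i (Nat.zero_le _) hi

def chkAll : List (List Nat) := [chk0, chk1, chk2, chk3, chk4, chk5, chk6, chk7, chk8, chk9, chk10, chk11, chk12, chk13, chk14, chk15, chk16, chk17, chk18, chk19, chk20, chk21, chk22, chk23, chk24, chk25, chk26, chk27, chk28, chk29, chk30, chk31, chk32, chk33, chk34, chk35, chk36, chk37, chk38, chk39]
theorem hAll : ∀ w ∈ chkAll, ∀ i, i < T.N → Tab.relActOK T D w i = true := by
  intro w hw
  simp only [chkAll, List.mem_cons, List.not_mem_nil, or_false] at hw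
  rcases hw with rfl | rfl | rfl | rfl | rfl | rfl | rfl | rfl | rfl | rfl | rfl | rfl | rfl | rfl | rfl | rfl | rfl | rfl | rfl | rfl | rfl | rfl | rfl | rfl | rfl | rfl | rfl | rfl | rfl | rfl | rfl | rfl | rfl | rfl | rfl | rfl | rfl | rfl | rfl | rfl
  · exact h0
  · exact h1
  · exact h2
  · exact h3
  · exact h4
  · exact h5
  · exact h6
  · exact h7
  · exact h8
  · exact h9
  · exact h10
  · exact h11
  · exact h12
  · exact h13
  · exact h14
  · exact h15
  · exact h16
  · exact h17
  · exact h18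
  · exact h19
  · exact h20
  · exact h21
  · exact h22
  · exact h23
  · exact h24
  · exact h25
  · exact h26
  · exact h27
  · exact h28
  · exact h29
  · exact h30
  · exact h31
  · exact h32
  · exact h33
  · exact h34
  · exact h35
  · exact h36
  · exact h37
  · exact h38
  · exact h39
theorem hAll_lt : ∀ w ∈ chkAll, ∀ x ∈ w, x < 10 := by decide +kernel

end Cfsg.Agent.Lib.Helper4.TCD.SC2O73p2W
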