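import Mathlib
import Cfsg.Agent.Lib.Helper4.C2O73Cover
import Cfsg.Agent.Lib.Helper4.TCD_SC2O73p2A_Fin
import Cfsg.Agent.Lib.Helper4.TCD_SC2O73p2W
import Cfsg.Agent.Lib.Helper4.StemLib8
import Cfsg.Agent.Lib.Helper4.C2O73Sub

/-! `C2O73` has no stem extension with kernel of order 2 (generated). -/

namespace Cfsg.Agent.Lib.Helper4.SC2O73p2Main

open Cfsg.Agent.Lib.Helper4.TC Cfsg.Agent.Lib.Helper4.TCD Cfsg.Agent.Lib.Helper4.TC.Log Cfsg.Agent.Lib.Helper4.Stem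

/-- the description of the auxiliary presentation -/
def spec : Spec4 :=
  { p := 2
    items := [(0, [], 7),
      (2, [], 4),
      (4, [], 3),
      (6, [], 7),
      (8, [6, 1], 0),
      (10, [8, 8], 0),
      (12, [0, 8, 1, 8, 0, 8, 1, 8, 11], 0),
      (14, [2, 8, 3, 8, 2, 8, 3, 8, 11], 0),
      (16, [0, 0, 2, 0, 8, 1, 3, 1, 1, 8, 11], 0),
      (18, [0, 3, 5, 2, 8, 3, 4, 2, 1, 8, 11], 0),
      (20, [0, 3, 4, 4, 2, 8, 3, 4, 2, 1, 8, 11], 0),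
      (22, [0, 0, 0, 4, 1, 1, 8, 3, 4, 2, 1, 8, 11], 0),
      (24, [0, 0, 2, 0, 8, 1, 2, 2, 2, 1, 1, 8, 11], 0),
      (26, [0, 2, 8, 2, 1, 5, 0, 2, 8, 2, 1, 5], 0),
      (28, [0, 2, 8, 3, 1, 4, 0, 3, 8, 2, 1, 5], 0),
      (30, [0, 2, 8, 3, 1, 4, 0, 3, 8, 2, 1, 4, 4], 0),
      (32, [0, 0, 4, 1, 2, 1, 8, 0, 3, 1, 3, 4, 2, 8, 11], 0),
      (34, [0, 2, 2, 0, 5, 0, 8, 1, 4, 1, 2, 2, 1, 8], 0),
      (36, [0, 2, 1, 5, 0, 8, 1, 4, 0, 3, 1, 3, 8, 2], 0),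
      (38, [0, 0, 3, 0, 8, 1, 2, 1, 1, 4, 3, 8, 2, 5], 0),
      (40, [0, 0, 2, 2, 8, 2, 2, 1, 1, 4, 2, 8, 3, 5, 11], 0),
      (42, [0, 4, 2, 8, 3, 5, 1, 2, 5, 1, 8, 0, 4, 3, 11], 0),
      (44, [0, 3, 3, 0, 5, 8, 4, 1, 2, 2, 1, 5, 8, 4, 11], 0),
      (46, [0, 0, 3, 0, 4, 1, 8, 2, 1, 1, 2, 0, 5, 8, 1, 3, 11], 0),
      (48, [0, 0, 3, 0, 2, 0, 3, 8, 4, 8, 4, 8, 3, 0, 2, 4, 1, 4], 0),
      (50, [10, 10], 0),
      (52, [11, 1, 10, 0], 0),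
      (54, [11, 3, 10, 2], 0),
      (56, [11, 5, 10, 4], 0),
      (58, [11, 9, 10, 8], 0)]
    cen := [12, 14, 16, 18, 20, 22, 24, 26, 28, 30, 32, 34, 36, 38, 40, 42, 44, 46, 48, 50, 52, 54, 56, 58]
    R := []
    sub := [0, 2, 4]
    PR := [[0, 0, 0, 0, 0, 0, 0], [0, 0, 2, 1, 2, 0, 3, 0, 2, 1, 2], [0, 0, 0, 2, 0, 0, 0, 2, 0, 0, 0, 2], [0, 0, 2, 2, 0, 0, 3, 3, 0, 0, 3, 3], [4, 4, 4], [0, 0, 4, 1, 1, 3, 4, 2], [0, 2, 4, 0, 2, 4, 0, 2, 4], [0, 2, 2, 1, 4, 0, 3, 3, 1, 4], [0, 4, 1, 4, 1, 2, 4, 3, 0, 5], [0, 0, 3, 0, 4, 1, 2, 1, 1, 2, 0, 5, 1, 3]]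
    XR := [] }

/-- the letters of the auxiliary presentation as words of the base group -/
def Wl (l : ℕ) : List ℕ :=
  [[0], [1], [2], [3], [4], [5], [6, 0], [1, 7], [6], [7], [8], [9], [], [], [], [], [], [], [], [], [], [], [], [], [], [], [], [], [], [], [], [], [], [], [], [], [], [], [], [], [], [], [], [], [], [], [], [], [], [], [], [], [], [], [], [], [], [], [], []].getD l []

theorem checks_eq : checks spec.toSpec2 PC2O73.P.invR Wl ++ checksX spec PSC2O73p2.P.invR Wl = SC2O73p2W.chkAll := by decide +kernel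

theorem sub_eq : Subgroup.closure (xw PC2O73.P Wl '' {l | l ∈ spec.sub}) = Inst.subG PC2O73.P C2O73B.subs := by
  rw [closure_xw_eq]
  rfl

set_option maxRecDepth 100000 in
theorem noStem : NoStemPrime PC2O73.P.Grp 2 := by
  obtain ⟨fG, hinj, hcard⟩ := C2O73Cover.order_aux
  have hall : ∀ w ∈ checks spec.toSpec2 PC2O73.P.invR Wl ++ checksX spec PSC2O73p2.P.invR Wl, wordP PC2O73.P.gR w = 1 := by
    rw [checks_eq]
    intro w hw
    exact C2O73R.prep.word_eq_one hinj w (SC2O73p2W.hAll_lt w hw) (SC2O73p2W.hAll w hw)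
  exact noStemPrime_pres4 PC2O73.P PC2O73.valid PSC2O73p2.P PSC2O73p2.valid spec (by show Nat.Prime 2; norm_num) Wl
    (by decide +kernel) (by decide +kernel) (fun w hw => hall w (List.mem_append_left _ hw))
    (fun w hw => hall w (List.mem_append_right _ hw)) (by decide +kernel)
    (by rw [sub_eq]; exact C2O73Sub.liftsP_sub 2 (by norm_num) (by norm_num))
    4245696 (by rw [sub_eq]; exact C2O73Sub.sub_card.2)
    2160 (by decide) SC2O73p2A.index_eq fG 9170703360 hcard (by decide)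

end Cfsg.Agent.Lib.Helper4.SC2O73p2Main
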