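import Mathlib
import Cfsg.Prelude.Def_KGroupFacts
import Cfsg.Agent.Lib.Helper4.O73Iso
import Cfsg.Agent.Lib.Helper4.C2O73Cover
import Cfsg.Agent.Lib.Helper4.C3O73Cover
import Cfsg.Agent.Lib.Helper4.SC2O73p2Main
import Cfsg.Agent.Lib.Helper4.SC3O73p3Main
import Cfsg.Agent.Lib.Helper4.FibreCover

/-!
The Schur multiplier of the orthogonal group `PΩ₇(3)` is cyclic of order 6: the fibre product of the presented double
cover `C2O73` and the presented triple cover `C3O73` is a stem extension with kernel of order 6 without further stem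
extensions with kernel of prime order.
-/

set_option autoImplicit false

namespace Cfsg.Agent.Lib.Helper4.C6O73Stem

open Cfsg Cfsg.Agent.Lib.Helper4.TC Cfsg.Agent.Lib.Helper4.TCD Cfsg.Agent.Lib.Helper4.TC.Log
  Cfsg.Agent.Lib.Helper4.Stem

/-- the double cover has no stem extension with kernel of prime order other than 3 -/
theorem noStem2 : ∀ p, p.Prime → p ≠ 3 → NoStemPrime PC2O73.P.Grp p := by
  obtain ⟨fG, _, hcard⟩ := C2O73Cover.order_aux
  have := fG
  intro p hp h3
  by_cases h1 : p ∣ Nat.card PC2O73.P.Grp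
  · by_cases h2 : p ^ 2 ∣ Nat.card PC2O73.P.Grp
    · rw [hcard] at h1 h2
      have hm : p ∈ [2, 3] := sq_dvd_mem_of_factors 9170703360
        [2, 2, 2, 2, 2, 2, 2, 2, 2, 2, 3, 3, 3, 3, 3, 3, 3, 3, 3, 5, 7, 13] (by norm_num) (by decide)
        [2, 3] (by decide) p hp h1 h2
      simp only [List.mem_cons, List.not_mem_nil, or_false] at hm
      rcases hm with rfl | rfl
      · exact SC2O73p2Main.noStem
      · exact absurd rfl h3
    · exact noStemPrime_of_sq_not_dvd _ p hp h2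
  · exact noStemPrime_of_not_dvd _ p hp h1

/-- the Schur multiplier of the orthogonal group `PΩ₇(3)` -/
theorem hasMult {F : Type*} [Field F] [Fintype F] (hF : Fintype.card F = 3) :
    Cfsg.HasCyclicSchurMultiplier (Cfsg.POmega F (Cfsg.quadFormOdd 3 F)) 6 := by
  obtain ⟨e⟩ := O73Iso.iso hF
  obtain ⟨f2, _, _⟩ := C2O73Cover.order_aux
  have := f2
  obtain ⟨f3, _, _⟩ := C3O73Cover.order_aux
  have := f3
  obtain ⟨fL, _, _⟩ := O73pMain.order_aux
  have := fL
  have : Finite (Cfsg.POmega F (Cfsg.quadFormOdd 3 F)) := Finite.of_equiv _ e.toEquiv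
  let τ2 : PC2O73.P.Grp →* Cfsg.POmega F (Cfsg.quadFormOdd 3 F) := e.toMonoidHom.comp C2O73Cover.π
  let τ3 : PC3O73.P.Grp →* Cfsg.POmega F (Cfsg.quadFormOdd 3 F) := e.toMonoidHom.comp C3O73Cover.π
  have hker2 : τ2.ker = C2O73Cover.π.ker := by
    ext x
    rw [MonoidHom.mem_ker, MonoidHom.mem_ker]
    show e (C2O73Cover.π x) = 1 ↔ _
    exact EmbeddingLike.map_eq_one_iff
  have hker3 : τ3.ker = C3O73Cover.π.ker := by
    ext x
    rw [MonoidHom.mem_ker, MonoidHom.mem_ker]
    show e (C3O73Cover.π x) = 1 ↔ _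
    exact EmbeddingLike.map_eq_one_iff
  have hτ2 : IsStemExtension τ2 := by
    refine ⟨?_, ?_, ?_⟩
    · exact e.surjective.comp C2O73Cover.isStem.1
    · rw [hker2]
      exact C2O73Cover.isStem.2.1
    · rw [hker2]
      exact C2O73Cover.isStem.2.2
  have hτ3 : IsStemExtension τ3 := by
    refine ⟨?_, ?_, ?_⟩
    · exact e.surjective.comp C3O73Cover.isStem.1
    · rw [hker3]
      exact C3O73Cover.isStem.2.1
    · rw [hker3]
      exact C3O73Cover.isStem.2.2
  have hc2 : Nat.card τ2.ker = 2 := by rw [hker2]; exact C2O73Cover.card_ker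
  have hc3 : Nat.card τ3.ker = 3 := by rw [hker3]; exact C3O73Cover.card_ker
  obtain ⟨ek2⟩ := C2O73Cover.ker_equiv
  obtain ⟨ek3⟩ := C3O73Cover.ker_equiv
  have e6 : Multiplicative (ZMod 2 × ZMod 3) ≃* Multiplicative (ZMod 6) :=
    AddEquiv.toMultiplicative (ZMod.chineseRemainder (show Nat.Coprime 2 3 by decide)).toAddEquiv.symm
  have ek : τ2.ker × τ3.ker ≃* Multiplicative (ZMod 6) :=
    ((MulEquiv.prodCongr ((MulEquiv.subgroupCongr hker2).trans ek2) ((MulEquiv.subgroupCongr hker3).trans ek3)).trans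
      (MulEquiv.prodMultiplicative (ZMod 2) (ZMod 3)).symm).trans e6
  apply hasSchurMultiplier_of_fib PC2O73.P.Grp PC3O73.P.Grp τ2 τ3 hτ2 hτ3 C2O73Cover.perfect C3O73Cover.perfect
    (by rw [hc2, hc3]; decide) ek
  intro p hp
  by_cases h3 : p = 3
  · right
    subst h3
    refine ⟨by rw [hc2]; decide, SC3O73p3Main.noStem⟩
  · left
    refine ⟨?_, noStem2 p hp h3⟩
    rw [hc3]
    exact (Nat.coprime_primes Nat.prime_three hp).2 (Ne.symm h3)

end Cfsg.Agent.Lib.Helper4.C6O73Stem
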