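import Cfsg.Agent.Lib.Helper4.TCD_SC2Suzp2A_C0
import Cfsg.Agent.Lib.Helper4.TCD_SC2Suzp2A_C1

namespace Cfsg.Agent.Lib.Helper4.TCD.SC2Suzp2A

open Cfsg.Agent.Lib.Helper4.TC

theorem h_rel_p0 : ∀ t, 112361 ≤ t → t < 240073 → D.relOK t = true :=
  (range_glue (range_of_allRange c_rel_0) (range_glue (range_of_allRange c_rel_1) (range_glue (range_of_allRange c_rel_2) (range_glue (range_of_allRange c_rel_3) (range_glue (range_of_allRange c_rel_4) (range_glue (range_of_allRange c_rel_5) (range_glue (range_of_allRange c_rel_6) (range_glue (range_of_allRange c_rel_7) (range_glue (range_of_allRange c_rel_8) (range_glue (range_of_allRange c_rel_9) (range_glue (range_of_allRange c_rel_10) (range_glue (range_of_allRange c_rel_11) (range_glue (range_of_allRange c_rel_12) (range_glue (range_of_allRange c_rel_13) (range_glue (range_of_allRange c_rel_14) (range_glue (range_of_allRange c_rel_15) (range_glue (range_of_allRange c_rel_16) (range_glue (range_of_allRange c_rel_17) (range_glue (range_of_allRange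 c_rel_18) (range_glue (range_of_allRange c_rel_19) (range_glue (range_of_allRange c_rel_20) (range_glue (range_of_allRange c_rel_21) (range_glue (range_of_allRange c_rel_22) (range_glue (range_of_allRange c_rel_23) (range_glue (range_of_allRange c_rel_24) (range_glue (range_of_allRange c_rel_25) (range_glue (range_of_allRange c_rel_26) (range_glue (range_of_allRange c_rel_27) (range_glue (range_of_allRange c_rel_28) (range_glue (range_of_allRange c_rel_29) (range_glue (range_of_allRange c_rel_30) (range_glue (range_of_allRange c_rel_31) (range_glue (range_of_allRange c_rel_32) (range_glue (range_of_allRange c_rel_33) (range_glue (range_of_allRange c_rel_34) (range_glue (range_of_allRange c_rel_35) (range_glue (range_of_allRange c_rel_36) (range_glue (range_of_allRange c_rel_37) (range_glue (range_of_allRange c_rel_38) (range_of_allRange c_rel_39))))))))))))))))))))))))))))))))))))))))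
theorem h_rel_p1 : ∀ t, 240073 ≤ t → t < 349549 → D.relOK t = true :=
  (range_glue (range_of_allRange c_rel_40) (range_glue (range_of_allRange c_rel_41) (range_glue (range_of_allRange c_rel_42) (range_glue (range_of_allRange c_rel_43) (range_glue (range_of_allRange c_rel_44) (range_glue (range_of_allRange c_rel_45) (range_glue (range_of_allRange c_rel_46) (range_glue (range_of_allRange c_rel_47) (range_glue (range_of_allRange c_rel_48) (range_glue (range_of_allRange c_rel_49) (range_glue (range_of_allRange c_rel_50) (range_glue (range_of_allRange c_rel_51) (range_glue (range_of_allRange c_rel_52) (range_glue (range_of_allRange c_rel_53) (range_glue (range_of_allRange c_rel_54) (range_glue (range_of_allRange c_rel_55) (range_glue (range_of_allRange c_rel_56) (range_glue (range_of_allRange c_rel_57) (range_glue (range_of_allRange c_rel_58) (range_glue (range_of_allRange c_rel_59) (range_glue (range_of_allRange c_rel_60) (range_glue (range_of_allRange c_rel_61) (range_glue (range_of_allRange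 c_rel_62) (range_glue (range_of_allRange c_rel_63) (range_glue (range_of_allRange c_rel_64) (range_glue (range_of_allRange c_rel_65) (range_glue (range_of_allRange c_rel_66) (range_glue (range_of_allRange c_rel_67) (range_glue (range_of_allRange c_rel_68) (range_glue (range_of_allRange c_rel_69) (range_glue (range_of_allRange c_rel_70) (range_glue (range_of_allRange c_rel_71) (range_glue (range_of_allRange c_rel_72) (range_glue (range_of_allRange c_rel_73) (range_glue (range_of_allRange c_rel_74) (range_glue (range_of_allRange c_rel_75) (range_glue (range_of_allRange c_rel_76) (range_glue (range_of_allRange c_rel_77) (range_glue (range_of_allRange c_rel_78) (range_of_allRange c_rel_79))))))))))))))))))))))))))))))))))))))))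
theorem h_rel_p2 : ∀ t, 349549 ≤ t → t < 411696 → D.relOK t = true :=
  (range_glue (range_of_allRange c_rel_80) (range_glue (range_of_allRange c_rel_81) (range_glue (range_of_allRange c_rel_82) (range_glue (range_of_allRange c_rel_83) (range_glue (range_of_allRange c_rel_84) (range_glue (range_of_allRange c_rel_85) (range_glue (range_of_allRange c_rel_86) (range_glue (range_of_allRange c_rel_87) (range_glue (range_of_allRange c_rel_88) (range_glue (range_of_allRange c_rel_89) (range_glue (range_of_allRange c_rel_90) (range_glue (range_of_allRange c_rel_91) (range_glue (range_of_allRange c_rel_92) (range_glue (range_of_allRange c_rel_93) (range_of_allRange c_rel_94)))))))))))))))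
theorem h_rel : ∀ t, 112361 ≤ t → t < 411696 → D.relOK t = true :=
  (range_glue h_rel_p0 (range_glue h_rel_p1 h_rel_p2))
theorem h_names : ∀ t, 1 ≤ t → t < 112353 → D.nameOK t = true :=
  (range_glue (range_of_allRange c_names_0) (range_of_allRange c_names_1))
theorem h_cls : ∀ t, 1 ≤ t → t < 112353 → T.clsOK D t = true :=
  (range_glue (range_of_allRange c_cls_0) (range_glue (range_of_allRange c_cls_1) (range_glue (range_of_allRange c_cls_2) (range_glue (range_of_allRange c_cls_3) (range_glue (range_of_allRange c_cls_4) (range_glue (range_of_allRange c_cls_5) (range_glue (range_of_allRange c_cls_6) (range_of_allRange c_cls_7))))))))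
theorem h_rep : ∀ t, 0 ≤ t → t < 1782 → T.repOK D t = true :=
  (range_of_allRange c_rep_0)
theorem h_fin : ∀ i, 0 ≤ i → i < 1782 → ∀ x, x < 46 → T.finOK D i x = true :=
  (range_glue (range_of_allGrid c_fin_0) (range_glue (range_of_allGrid c_fin_1) (range_glue (range_of_allGrid c_fin_2) (range_glue (range_of_allGrid c_fin_3) (range_glue (range_of_allGrid c_fin_4) (range_glue (range_of_allGrid c_fin_5) (range_of_allGrid c_fin_6)))))))
theorem h_perm : ∀ i, 0 ≤ i → i < 1782 → ∀ x, x < 46 → T.permOK1 D i x = true :=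
  (range_glue (range_of_allGrid c_perm_0) (range_glue (range_of_allGrid c_perm_1) (range_of_allGrid c_perm_2)))
theorem h_act0 : ∀ i, 0 ≤ i → i < 1782 → Nat.beq (actR0 i) i = true :=
  (range_of_allRange c_act0_0)
theorem h_act1 : ∀ i, 0 ≤ i → i < 1782 → Nat.beq (actR1 i) i = true :=
  (range_of_allRange c_act1_0)
theorem h_act2 : ∀ i, 0 ≤ i → i < 1782 → Nat.beq (actR2 i) i = true :=
  (range_of_allRange c_act2_0)
theorem h_act3 : ∀ i, 0 ≤ i → i < 1782 → Nat.beq (actR3 i) i = true :=
  (range_of_allRange c_act3_0)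
theorem h_act4 : ∀ i, 0 ≤ i → i < 1782 → Nat.beq (actR4 i) i = true :=
  (range_of_allRange c_act4_0)
theorem h_act5 : ∀ i, 0 ≤ i → i < 1782 → Nat.beq (actR5 i) i = true :=
  (range_of_allRange c_act5_0)
theorem h_act6 : ∀ i, 0 ≤ i → i < 1782 → Nat.beq (actR6 i) i = true :=
  (range_of_allRange c_act6_0)
theorem h_act7 : ∀ i, 0 ≤ i → i < 1782 → Nat.beq (actR7 i) i = true :=
  (range_of_allRange c_act7_0)
theorem h_act8 : ∀ i, 0 ≤ i → i < 1782 → Nat.beq (actR8 i) i = true :=
  (range_of_allRange c_act8_0)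
theorem h_act9 : ∀ i, 0 ≤ i → i < 1782 → Nat.beq (actR9 i) i = true :=
  (range_of_allRange c_act9_0)
theorem h_act10 : ∀ i, 0 ≤ i → i < 1782 → Nat.beq (actR10 i) i = true :=
  (range_of_allRange c_act10_0)
theorem h_act11 : ∀ i, 0 ≤ i → i < 1782 → Nat.beq (actR11 i) i = true :=
  (range_of_allRange c_act11_0)
theorem h_act12 : ∀ i, 0 ≤ i → i < 1782 → Nat.beq (actR12 i) i = true :=
  (range_of_allRange c_act12_0)
theorem h_act13 : ∀ i, 0 ≤ i → i < 1782 → Nat.beq (actR13 i) i = true :=
  (range_of_allRange c_act13_0)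
theorem h_act14 : ∀ i, 0 ≤ i → i < 1782 → Nat.beq (actR14 i) i = true :=
  (range_of_allRange c_act14_0)
theorem h_act15 : ∀ i, 0 ≤ i → i < 1782 → Nat.beq (actR15 i) i = true :=
  (range_of_allRange c_act15_0)
theorem h_act16 : ∀ i, 0 ≤ i → i < 1782 → Nat.beq (actR16 i) i = true :=
  (range_of_allRange c_act16_0)
theorem h_act17 : ∀ i, 0 ≤ i → i < 1782 → Nat.beq (actR17 i) i = true :=
  (range_of_allRange c_act17_0)
theorem h_act18 : ∀ i, 0 ≤ i → i < 1782 → Nat.beq (actR18 i) i = true :=
  (range_of_allRange c_act18_0)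
theorem h_act19 : ∀ i, 0 ≤ i → i < 1782 → Nat.beq (actR19 i) i = true :=
  (range_of_allRange c_act19_0)
theorem h_act20 : ∀ i, 0 ≤ i → i < 1782 → Nat.beq (actR20 i) i = true :=
  (range_of_allRange c_act20_0)
theorem h_act21 : ∀ i, 0 ≤ i → i < 1782 → Nat.beq (actR21 i) i = true :=
  (range_of_allRange c_act21_0)
theorem h_act22 : ∀ i, 0 ≤ i → i < 1782 → Nat.beq (actR22 i) i = true :=
  (range_of_allRange c_act22_0)
theorem h_act23 : ∀ i, 0 ≤ i → i < 1782 → Nat.beq (actR23 i) i = true :=
  (range_of_allRange c_act23_0)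
theorem h_act24 : ∀ i, 0 ≤ i → i < 1782 → Nat.beq (actR24 i) i = true :=
  (range_of_allRange c_act24_0)
theorem h_act25 : ∀ i, 0 ≤ i → i < 1782 → Nat.beq (actR25 i) i = true :=
  (range_of_allRange c_act25_0)
theorem h_act26 : ∀ i, 0 ≤ i → i < 1782 → Nat.beq (actR26 i) i = true :=
  (range_of_allRange c_act26_0)
theorem h_act27 : ∀ i, 0 ≤ i → i < 1782 → Nat.beq (actR27 i) i = true :=
  (range_of_allRange c_act27_0)
theorem h_act28 : ∀ i, 0 ≤ i → i < 1782 → Nat.beq (actR28 i) i = true :=
  (range_of_allRange c_act28_0)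
theorem h_act29 : ∀ i, 0 ≤ i → i < 1782 → Nat.beq (actR29 i) i = true :=
  (range_of_allRange c_act29_0)
theorem h_act30 : ∀ i, 0 ≤ i → i < 1782 → Nat.beq (actR30 i) i = true :=
  (range_of_allRange c_act30_0)
theorem h_act31 : ∀ i, 0 ≤ i → i < 1782 → Nat.beq (actR31 i) i = true :=
  (range_of_allRange c_act31_0)
theorem h_act32 : ∀ i, 0 ≤ i → i < 1782 → Nat.beq (actR32 i) i = true :=
  (range_of_allRange c_act32_0)
theorem h_act33 : ∀ i, 0 ≤ i → i < 1782 → Nat.beq (actR33 i) i = true :=
  (range_of_allRange c_act33_0)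
theorem h_act34 : ∀ i, 0 ≤ i → i < 1782 → Nat.beq (actR34 i) i = true :=
  (range_of_allRange c_act34_0)
theorem h_act35 : ∀ i, 0 ≤ i → i < 1782 → Nat.beq (actR35 i) i = true :=
  (range_of_allRange c_act35_0)
theorem h_act36 : ∀ i, 0 ≤ i → i < 1782 → Nat.beq (actR36 i) i = true :=
  (range_of_allRange c_act36_0)
theorem h_act37 : ∀ i, 0 ≤ i → i < 1782 → Nat.beq (actR37 i) i = true :=
  (range_of_allRange c_act37_0)
theorem h_act38 : ∀ i, 0 ≤ i → i < 1782 → Nat.beq (actR38 i) i = true :=
  (range_of_allRange c_act38_0)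
theorem h_act39 : ∀ i, 0 ≤ i → i < 1782 → Nat.beq (actR39 i) i = true :=
  (range_of_allRange c_act39_0)
theorem h_act40 : ∀ i, 0 ≤ i → i < 1782 → Nat.beq (actR40 i) i = true :=
  (range_of_allRange c_act40_0)
theorem h_act41 : ∀ i, 0 ≤ i → i < 1782 → Nat.beq (actR41 i) i = true :=
  (range_of_allRange c_act41_0)
theorem h_act42 : ∀ i, 0 ≤ i → i < 1782 → Nat.beq (actR42 i) i = true :=
  (range_of_allRange c_act42_0)
theorem h_act43 : ∀ i, 0 ≤ i → i < 1782 → Nat.beq (actR43 i) i = true :=
  (range_of_allRange c_act43_0)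
theorem h_act44 : ∀ i, 0 ≤ i → i < 1782 → Nat.beq (actR44 i) i = true :=
  (range_of_allRange c_act44_0)
theorem h_act45 : ∀ i, 0 ≤ i → i < 1782 → Nat.beq (actR45 i) i = true :=
  (range_of_allRange c_act45_0)
theorem h_act46 : ∀ i, 0 ≤ i → i < 1782 → Nat.beq (actR46 i) i = true :=
  (range_of_allRange c_act46_0)
theorem h_act47 : ∀ i, 0 ≤ i → i < 1782 → Nat.beq (actR47 i) i = true :=
  (range_of_allRange c_act47_0)
theorem h_act48 : ∀ i, 0 ≤ i → i < 1782 → Nat.beq (actR48 i) i = true :=
  (range_of_allRange c_act48_0)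
theorem h_act49 : ∀ i, 0 ≤ i → i < 1782 → Nat.beq (actR49 i) i = true :=
  (range_of_allRange c_act49_0)
theorem h_act50 : ∀ i, 0 ≤ i → i < 1782 → Nat.beq (actR50 i) i = true :=
  (range_of_allRange c_act50_0)
theorem h_act51 : ∀ i, 0 ≤ i → i < 1782 → Nat.beq (actR51 i) i = true :=
  (range_of_allRange c_act51_0)
theorem h_act52 : ∀ i, 0 ≤ i → i < 1782 → Nat.beq (actR52 i) i = true :=
  (range_of_allRange c_act52_0)
theorem h_act53 : ∀ i, 0 ≤ i → i < 1782 → Nat.beq (actR53 i) i = true :=
  (range_of_allRange c_act53_0)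
theorem h_act54 : ∀ i, 0 ≤ i → i < 1782 → Nat.beq (actR54 i) i = true :=
  (range_of_allRange c_act54_0)
theorem h_act55 : ∀ i, 0 ≤ i → i < 1782 → Nat.beq (actR55 i) i = true :=
  (range_of_allRange c_act55_0)
theorem h_act56 : ∀ i, 0 ≤ i → i < 1782 → Nat.beq (actR56 i) i = true :=
  (range_of_allRange c_act56_0)
theorem h_act57 : ∀ i, 0 ≤ i → i < 1782 → Nat.beq (actR57 i) i = true :=
  (range_of_allRange c_act57_0)
theorem h_act58 : ∀ i, 0 ≤ i → i < 1782 → Nat.beq (actR58 i) i = true :=
  (range_of_allRange c_act58_0)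
theorem h_act59 : ∀ i, 0 ≤ i → i < 1782 → Nat.beq (actR59 i) i = true :=
  (range_of_allRange c_act59_0)
theorem h_act60 : ∀ i, 0 ≤ i → i < 1782 → Nat.beq (actR60 i) i = true :=
  (range_of_allRange c_act60_0)
theorem h_act61 : ∀ i, 0 ≤ i → i < 1782 → Nat.beq (actR61 i) i = true :=
  (range_of_allRange c_act61_0)
theorem h_act62 : ∀ i, 0 ≤ i → i < 1782 → Nat.beq (actR62 i) i = true :=
  (range_of_allRange c_act62_0)
theorem h_act63 : ∀ i, 0 ≤ i → i < 1782 → Nat.beq (actR63 i) i = true :=
  (range_of_allRange c_act63_0)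
theorem h_act64 : ∀ i, 0 ≤ i → i < 1782 → Nat.beq (actR64 i) i = true :=
  (range_of_allRange c_act64_0)
theorem h_act65 : ∀ i, 0 ≤ i → i < 1782 → Nat.beq (actR65 i) i = true :=
  (range_of_allRange c_act65_0)
theorem h_act66 : ∀ i, 0 ≤ i → i < 1782 → Nat.beq (actR66 i) i = true :=
  (range_of_allRange c_act66_0)
theorem h_act67 : ∀ i, 0 ≤ i → i < 1782 → Nat.beq (actR67 i) i = true :=
  (range_of_allRange c_act67_0)
theorem h_act68 : ∀ i, 0 ≤ i → i < 1782 → Nat.beq (actR68 i) i = true :=
  (range_of_allRange c_act68_0)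
theorem h_act69 : ∀ i, 0 ≤ i → i < 1782 → Nat.beq (actR69 i) i = true :=
  (range_of_allRange c_act69_0)
theorem h_act70 : ∀ i, 0 ≤ i → i < 1782 → Nat.beq (actR70 i) i = true :=
  (range_of_allRange c_act70_0)
theorem h_act71 : ∀ i, 0 ≤ i → i < 1782 → Nat.beq (actR71 i) i = true :=
  (range_of_allRange c_act71_0)
theorem h_act72 : ∀ i, 0 ≤ i → i < 1782 → Nat.beq (actR72 i) i = true :=
  (range_of_allRange c_act72_0)
theorem h_act73 : ∀ i, 0 ≤ i → i < 1782 → Nat.beq (actR73 i) i = true :=
  (range_of_allRange c_act73_0)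
theorem h_act74 : ∀ i, 0 ≤ i → i < 1782 → Nat.beq (actR74 i) i = true :=
  (range_of_allRange c_act74_0)
theorem h_act75 : ∀ i, 0 ≤ i → i < 1782 → Nat.beq (actR75 i) i = true :=
  (range_of_allRange c_act75_0)
theorem h_act76 : ∀ i, 0 ≤ i → i < 1782 → Nat.beq (actR76 i) i = true :=
  (range_of_allRange c_act76_0)
theorem h_act77 : ∀ i, 0 ≤ i → i < 1782 → Nat.beq (actR77 i) i = true :=
  (range_of_allRange c_act77_0)
theorem h_act78 : ∀ i, 0 ≤ i → i < 1782 → Nat.beq (actR78 i) i = true :=
  (range_of_allRange c_act78_0)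
theorem h_act79 : ∀ i, 0 ≤ i → i < 1782 → Nat.beq (actR79 i) i = true :=
  (range_of_allRange c_act79_0)
theorem h_act80 : ∀ i, 0 ≤ i → i < 1782 → Nat.beq (actR80 i) i = true :=
  (range_of_allRange c_act80_0)
theorem h_act81 : ∀ i, 0 ≤ i → i < 1782 → Nat.beq (actR81 i) i = true :=
  (range_of_allRange c_act81_0)
theorem h_act82 : ∀ i, 0 ≤ i → i < 1782 → Nat.beq (actR82 i) i = true :=
  (range_of_allRange c_act82_0)
theorem h_act83 : ∀ i, 0 ≤ i → i < 1782 → Nat.beq (actR83 i) i = true :=
  (range_of_allRange c_act83_0)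
theorem h_act84 : ∀ i, 0 ≤ i → i < 1782 → Nat.beq (actR84 i) i = true :=
  (range_of_allRange c_act84_0)
theorem h_act85 : ∀ i, 0 ≤ i → i < 1782 → Nat.beq (actR85 i) i = true :=
  (range_of_allRange c_act85_0)
theorem h_act86 : ∀ i, 0 ≤ i → i < 1782 → Nat.beq (actR86 i) i = true :=
  (range_of_allRange c_act86_0)
theorem h_act87 : ∀ i, 0 ≤ i → i < 1782 → Nat.beq (actR87 i) i = true :=
  (range_of_allRange c_act87_0)
theorem h_act88 : ∀ i, 0 ≤ i → i < 1782 → Nat.beq (actR88 i) i = true :=
  (range_of_allRange c_act88_0)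
theorem h_act89 : ∀ i, 0 ≤ i → i < 1782 → Nat.beq (actR89 i) i = true :=
  (range_of_allRange c_act89_0)
theorem h_act90 : ∀ i, 0 ≤ i → i < 1782 → Nat.beq (actR90 i) i = true :=
  (range_of_allRange c_act90_0)
theorem h_act91 : ∀ i, 0 ≤ i → i < 1782 → Nat.beq (actR91 i) i = true :=
  (range_of_allRange c_act91_0)
theorem h_act92 : ∀ i, 0 ≤ i → i < 1782 → Nat.beq (actR92 i) i = true :=
  (range_of_allRange c_act92_0)
theorem h_act93 : ∀ i, 0 ≤ i → i < 1782 → Nat.beq (actR93 i) i = true :=
  (range_of_allRange c_act93_0)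
theorem h_act94 : ∀ i, 0 ≤ i → i < 1782 → Nat.beq (actR94 i) i = true :=
  (range_of_allRange c_act94_0)
theorem h_act95 : ∀ i, 0 ≤ i → i < 1782 → Nat.beq (actR95 i) i = true :=
  (range_of_allRange c_act95_0)
theorem h_act96 : ∀ i, 0 ≤ i → i < 1782 → Nat.beq (actR96 i) i = true :=
  (range_of_allRange c_act96_0)
theorem h_act97 : ∀ i, 0 ≤ i → i < 1782 → Nat.beq (actR97 i) i = true :=
  (range_of_allRange c_act97_0)
theorem h_act98 : ∀ i, 0 ≤ i → i < 1782 → Nat.beq (actR98 i) i = true :=
  (range_of_allRange c_act98_0)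
theorem h_act99 : ∀ i, 0 ≤ i → i < 1782 → Nat.beq (actR99 i) i = true :=
  (range_of_allRange c_act99_0)
theorem h_act100 : ∀ i, 0 ≤ i → i < 1782 → Nat.beq (actR100 i) i = true :=
  (range_of_allRange c_act100_0)
theorem h_act101 : ∀ i, 0 ≤ i → i < 1782 → Nat.beq (actR101 i) i = true :=
  (range_of_allRange c_act101_0)
theorem h_act102 : ∀ i, 0 ≤ i → i < 1782 → Nat.beq (actR102 i) i = true :=
  (range_of_allRange c_act102_0)
theorem h_act103 : ∀ i, 0 ≤ i → i < 1782 → Nat.beq (actR103 i) i = true :=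
  (range_of_allRange c_act103_0)
theorem h_act104 : ∀ i, 0 ≤ i → i < 1782 → Nat.beq (actR104 i) i = true :=
  (range_of_allRange c_act104_0)
theorem h_act105 : ∀ i, 0 ≤ i → i < 1782 → Nat.beq (actR105 i) i = true :=
  (range_of_allRange c_act105_0)
theorem h_act106 : ∀ i, 0 ≤ i → i < 1782 → Nat.beq (actR106 i) i = true :=
  (range_of_allRange c_act106_0)
theorem h_act107 : ∀ i, 0 ≤ i → i < 1782 → Nat.beq (actR107 i) i = true :=
  (range_of_allRange c_act107_0)
theorem h_act108 : ∀ i, 0 ≤ i → i < 1782 → Nat.beq (actR108 i) i = true :=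
  (range_of_allRange c_act108_0)
theorem h_act109 : ∀ i, 0 ≤ i → i < 1782 → Nat.beq (actR109 i) i = true :=
  (range_of_allRange c_act109_0)
theorem h_act110 : ∀ i, 0 ≤ i → i < 1782 → Nat.beq (actR110 i) i = true :=
  (range_of_allRange c_act110_0)
theorem h_act111 : ∀ i, 0 ≤ i → i < 1782 → Nat.beq (actR111 i) i = true :=
  (range_of_allRange c_act111_0)
theorem h_act112 : ∀ i, 0 ≤ i → i < 1782 → Nat.beq (actR112 i) i = true :=
  (range_of_allRange c_act112_0)
theorem h_act113 : ∀ i, 0 ≤ i → i < 1782 → Nat.beq (actR113 i) i = true :=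
  (range_of_allRange c_act113_0)
theorem h_act114 : ∀ i, 0 ≤ i → i < 1782 → Nat.beq (actR114 i) i = true :=
  (range_of_allRange c_act114_0)
theorem h_act115 : ∀ i, 0 ≤ i → i < 1782 → Nat.beq (actR115 i) i = true :=
  (range_of_allRange c_act115_0)
theorem h_act116 : ∀ i, 0 ≤ i → i < 1782 → Nat.beq (actR116 i) i = true :=
  (range_of_allRange c_act116_0)
theorem h_act117 : ∀ i, 0 ≤ i → i < 1782 → Nat.beq (actR117 i) i = true :=
  (range_of_allRange c_act117_0)
theorem h_act118 : ∀ i, 0 ≤ i → i < 1782 → Nat.beq (actR118 i) i = true :=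
  (range_of_allRange c_act118_0)
theorem h_act119 : ∀ i, 0 ≤ i → i < 1782 → Nat.beq (actR119 i) i = true :=
  (range_of_allRange c_act119_0)
theorem h_act120 : ∀ i, 0 ≤ i → i < 1782 → Nat.beq (actR120 i) i = true :=
  (range_of_allRange c_act120_0)
theorem h_act121 : ∀ i, 0 ≤ i → i < 1782 → Nat.beq (actR121 i) i = true :=
  (range_of_allRange c_act121_0)
theorem h_act122 : ∀ i, 0 ≤ i → i < 1782 → Nat.beq (actR122 i) i = true :=
  (range_of_allRange c_act122_0)
theorem h_act123 : ∀ i, 0 ≤ i → i < 1782 → Nat.beq (actR123 i) i = true :=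
  (range_of_allRange c_act123_0)
theorem h_act124 : ∀ i, 0 ≤ i → i < 1782 → Nat.beq (actR124 i) i = true :=
  (range_of_allRange c_act124_0)
theorem h_act125 : ∀ i, 0 ≤ i → i < 1782 → Nat.beq (actR125 i) i = true :=
  (range_of_allRange c_act125_0)
theorem h_act126 : ∀ i, 0 ≤ i → i < 1782 → Nat.beq (actR126 i) i = true :=
  (range_of_allRange c_act126_0)
theorem h_act127 : ∀ i, 0 ≤ i → i < 1782 → Nat.beq (actR127 i) i = true :=
  (range_of_allRange c_act127_0)
theorem h_act128 : ∀ i, 0 ≤ i → i < 1782 → Nat.beq (actR128 i) i = true :=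
  (range_of_allRange c_act128_0)
theorem h_act129 : ∀ i, 0 ≤ i → i < 1782 → Nat.beq (actR129 i) i = true :=
  (range_of_allRange c_act129_0)
theorem h_act130 : ∀ i, 0 ≤ i → i < 1782 → Nat.beq (actR130 i) i = true :=
  (range_of_allRange c_act130_0)
theorem h_act131 : ∀ i, 0 ≤ i → i < 1782 → Nat.beq (actR131 i) i = true :=
  (range_of_allRange c_act131_0)
theorem h_act132 : ∀ i, 0 ≤ i → i < 1782 → Nat.beq (actR132 i) i = true :=
  (range_of_allRange c_act132_0)
theorem h_act133 : ∀ i, 0 ≤ i → i < 1782 → Nat.beq (actR133 i) i = true :=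
  (range_of_allRange c_act133_0)
theorem h_act134 : ∀ i, 0 ≤ i → i < 1782 → Nat.beq (actR134 i) i = true :=
  (range_of_allRange c_act134_0)
theorem h_act135 : ∀ i, 0 ≤ i → i < 1782 → Nat.beq (actR135 i) i = true :=
  (range_of_allRange c_act135_0)
theorem h_act136 : ∀ i, 0 ≤ i → i < 1782 → Nat.beq (actR136 i) i = true :=
  (range_of_allRange c_act136_0)
theorem h_act137 : ∀ i, 0 ≤ i → i < 1782 → Nat.beq (actR137 i) i = true :=
  (range_of_allRange c_act137_0)
theorem h_act138 : ∀ i, 0 ≤ i → i < 1782 → Nat.beq (actR138 i) i = true :=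
  (range_of_allRange c_act138_0)
theorem h_act139 : ∀ i, 0 ≤ i → i < 1782 → Nat.beq (actR139 i) i = true :=
  (range_of_allRange c_act139_0)
theorem h_act140 : ∀ i, 0 ≤ i → i < 1782 → Nat.beq (actR140 i) i = true :=
  (range_of_allRange c_act140_0)
theorem h_act141 : ∀ i, 0 ≤ i → i < 1782 → Nat.beq (actR141 i) i = true :=
  (range_of_allRange c_act141_0)
theorem h_act142 : ∀ i, 0 ≤ i → i < 1782 → Nat.beq (actR142 i) i = true :=
  (range_of_allRange c_act142_0)
theorem h_act143 : ∀ i, 0 ≤ i → i < 1782 → Nat.beq (actR143 i) i = true :=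
  (range_of_allRange c_act143_0)
theorem h_act144 : ∀ i, 0 ≤ i → i < 1782 → Nat.beq (actR144 i) i = true :=
  (range_of_allRange c_act144_0)
theorem h_act145 : ∀ i, 0 ≤ i → i < 1782 → Nat.beq (actR145 i) i = true :=
  (range_of_allRange c_act145_0)
theorem h_act146 : ∀ i, 0 ≤ i → i < 1782 → Nat.beq (actR146 i) i = true :=
  (range_of_allRange c_act146_0)
theorem h_act147 : ∀ i, 0 ≤ i → i < 1782 → Nat.beq (actR147 i) i = true :=
  (range_of_allRange c_act147_0)
theorem h_act148 : ∀ i, 0 ≤ i → i < 1782 → Nat.beq (actR148 i) i = true :=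
  (range_of_allRange c_act148_0)
theorem h_act149 : ∀ i, 0 ≤ i → i < 1782 → Nat.beq (actR149 i) i = true :=
  (range_of_allRange c_act149_0)
theorem h_act150 : ∀ i, 0 ≤ i → i < 1782 → Nat.beq (actR150 i) i = true :=
  (range_of_allRange c_act150_0)
theorem h_act151 : ∀ i, 0 ≤ i → i < 1782 → Nat.beq (actR151 i) i = true :=
  (range_of_allRange c_act151_0)
theorem h_act152 : ∀ i, 0 ≤ i → i < 1782 → Nat.beq (actR152 i) i = true :=
  (range_of_allRange c_act152_0)
theorem h_act153 : ∀ i, 0 ≤ i → i < 1782 → Nat.beq (actR153 i) i = true :=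
  (range_of_allRange c_act153_0)
theorem h_act154 : ∀ i, 0 ≤ i → i < 1782 → Nat.beq (actR154 i) i = true :=
  (range_of_allRange c_act154_0)
theorem h_act155 : ∀ i, 0 ≤ i → i < 1782 → Nat.beq (actR155 i) i = true :=
  (range_of_allRange c_act155_0)
theorem h_act156 : ∀ i, 0 ≤ i → i < 1782 → Nat.beq (actR156 i) i = true :=
  (range_of_allRange c_act156_0)
theorem h_act157 : ∀ i, 0 ≤ i → i < 1782 → Nat.beq (actR157 i) i = true :=
  (range_of_allRange c_act157_0)
theorem h_act158 : ∀ i, 0 ≤ i → i < 1782 → Nat.beq (actR158 i) i = true :=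
  (range_of_allRange c_act158_0)
theorem h_act159 : ∀ i, 0 ≤ i → i < 1782 → Nat.beq (actR159 i) i = true :=
  (range_of_allRange c_act159_0)
theorem h_act160 : ∀ i, 0 ≤ i → i < 1782 → Nat.beq (actR160 i) i = true :=
  (range_of_allRange c_act160_0)
theorem h_act161 : ∀ i, 0 ≤ i → i < 1782 → Nat.beq (actR161 i) i = true :=
  (range_of_allRange c_act161_0)
theorem h_act162 : ∀ i, 0 ≤ i → i < 1782 → Nat.beq (actR162 i) i = true :=
  (range_of_allRange c_act162_0)
theorem h_act163 : ∀ i, 0 ≤ i → i < 1782 → Nat.beq (actR163 i) i = true :=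
  (range_of_allRange c_act163_0)
theorem h_act164 : ∀ i, 0 ≤ i → i < 1782 → Nat.beq (actR164 i) i = true :=
  (range_of_allRange c_act164_0)

theorem checked : T.Checked D where
  hz := c_zero
  hn := fun d h0 hd => h_names d h0 hd
  hb := fun j hj => allBelow_eq_true.1 c_base j hj
  hr := fun t h1 h2 => h_rel t h1 h2
  hfin := fun i x hi hx => h_fin i (Nat.zero_le _) hi x hx
  hperm := fun i x hi hx => h_perm i (Nat.zero_le _) hi x hx
  hlet := fun x hx => allBelow_eq_true.1 c_let x hx
  hcls := fun d h0 hd => h_cls d h0 hd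
  hrep := fun i hi => h_rep i (Nat.zero_le _) hi
  hcls0 := c_cls0
  hname0 := c_name0
  hN := by decide
  hM := by decide

theorem h_act : ∀ L ∈ PSC2Suzp2.P.real, ∀ i, i < T.N → Tab.relActOK T D L i = true := by
  rw [c_real]
  intro L hL
  simp only [realLit, List.mem_cons, List.not_mem_nil, or_false] at hL
  rcases hL with rfl | rfl | rfl | rfl | rfl | rfl | rfl | rfl | rfl | rfl | rfl | rfl | rfl | rfl | rfl | rfl | rfl | rfl | rfl | rfl | rfl | rfl | rfl | rfl | rfl | rfl | rfl | rfl | rfl | rfl | rfl | rfl | rfl | rfl | rfl | rfl | rfl | rfl | rfl | rfl | rfl | rfl | rfl | rfl | rfl | rfl | rfl | rfl | rfl | rfl | rfl | rfl | rfl | rfl | rfl | rfl | rfl | rfl | rfl | rfl | rfl | rfl | rfl | rfl | rfl | rfl | rfl | rfl | rfl | rfl | rfl | rfl | rfl | rfl | rfl | rfl | rfl | rfl | rfl | rfl | rfl | rfl | rfl | rfl | rfl | rfl | rfl | rfl | rfl | rfl | rfl | rfl | rfl | rfl | rfl | rfl | rfl | rfl | rfl | rfl | rfl | rfl | rfl | rfl | rfl | rfl | rfl | rfl | rfl | rfl | rfl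 | rfl | rfl | rfl | rfl | rfl | rfl | rfl | rfl | rfl | rfl | rfl | rfl | rfl | rfl | rfl | rfl | rfl | rfl | rfl | rfl | rfl | rfl | rfl | rfl | rfl | rfl | rfl | rfl | rfl | rfl | rfl | rfl | rfl | rfl | rfl | rfl | rfl | rfl | rfl | rfl | rfl | rfl | rfl | rfl | rfl | rfl | rfl | rfl | rfl | rfl | rfl | rfl | rfl | rfl
  · intro i hi
    rw [Tab.relActOK, ← actR0_eq]
    exact h_act0 i (Nat.zero_le _) hi
  · intro i hi
    rw [Tab.relActOK, ← actR1_eq]
    exact h_act1 i (Nat.zero_le _) hi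
  · intro i hi
    rw [Tab.relActOK, ← actR2_eq]
    exact h_act2 i (Nat.zero_le _) hi
  · intro i hi
    rw [Tab.relActOK, ← actR3_eq]
    exact h_act3 i (Nat.zero_le _) hi
  · intro i hi
    rw [Tab.relActOK, ← actR4_eq]
    exact h_act4 i (Nat.zero_le _) hi
  · intro i hi
    rw [Tab.relActOK, ← actR5_eq]
    exact h_act5 i (Nat.zero_le _) hi
  · intro i hi
    rw [Tab.relActOK, ← actR6_eq]
    exact h_act6 i (Nat.zero_le _) hi
  · intro i hi
    rw [Tab.relActOK, ← actR7_eq]
    exact h_act7 i (Nat.zero_le _) hi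
  · intro i hi
    rw [Tab.relActOK, ← actR8_eq]
    exact h_act8 i (Nat.zero_le _) hi
  · intro i hi
    rw [Tab.relActOK, ← actR9_eq]
    exact h_act9 i (Nat.zero_le _) hi
  · intro i hi
    rw [Tab.relActOK, ← actR10_eq]
    exact h_act10 i (Nat.zero_le _) hi
  · intro i hi
    rw [Tab.relActOK, ← actR11_eq]
    exact h_act11 i (Nat.zero_le _) hi
  · intro i hi
    rw [Tab.relActOK, ← actR12_eq]
    exact h_act12 i (Nat.zero_le _) hi
  · intro i hi
    rw [Tab.relActOK, ← actR13_eq]
    exact h_act13 i (Nat.zero_le _) hi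
  · intro i hi
    rw [Tab.relActOK, ← actR14_eq]
    exact h_act14 i (Nat.zero_le _) hi
  · intro i hi
    rw [Tab.relActOK, ← actR15_eq]
    exact h_act15 i (Nat.zero_le _) hi
  · intro i hi
    rw [Tab.relActOK, ← actR16_eq]
    exact h_act16 i (Nat.zero_le _) hi
  · intro i hi
    rw [Tab.relActOK, ← actR17_eq]
    exact h_act17 i (Nat.zero_le _) hi
  · intro i hi
    rw [Tab.relActOK, ← actR18_eq]
    exact h_act18 i (Nat.zero_le _) hi
  · intro i hi
    rw [Tab.relActOK, ← actR19_eq]
    exact h_act19 i (Nat.zero_le _) hi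
  · intro i hi
    rw [Tab.relActOK, ← actR20_eq]
    exact h_act20 i (Nat.zero_le _) hi
  · intro i hi
    rw [Tab.relActOK, ← actR21_eq]
    exact h_act21 i (Nat.zero_le _) hi
  · intro i hi
    rw [Tab.relActOK, ← actR22_eq]
    exact h_act22 i (Nat.zero_le _) hi
  · intro i hi
    rw [Tab.relActOK, ← actR23_eq]
    exact h_act23 i (Nat.zero_le _) hi
  · intro i hi
    rw [Tab.relActOK, ← actR24_eq]
    exact h_act24 i (Nat.zero_le _) hi
  · intro i hi
    rw [Tab.relActOK, ← actR25_eq]
    exact h_act25 i (Nat.zero_le _) hi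
  · intro i hi
    rw [Tab.relActOK, ← actR26_eq]
    exact h_act26 i (Nat.zero_le _) hi
  · intro i hi
    rw [Tab.relActOK, ← actR27_eq]
    exact h_act27 i (Nat.zero_le _) hi
  · intro i hi
    rw [Tab.relActOK, ← actR28_eq]
    exact h_act28 i (Nat.zero_le _) hi
  · intro i hi
    rw [Tab.relActOK, ← actR29_eq]
    exact h_act29 i (Nat.zero_le _) hi
  · intro i hi
    rw [Tab.relActOK, ← actR30_eq]
    exact h_act30 i (Nat.zero_le _) hi
  · intro i hi
    rw [Tab.relActOK, ← actR31_eq]
    exact h_act31 i (Nat.zero_le _) hi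
  · intro i hi
    rw [Tab.relActOK, ← actR32_eq]
    exact h_act32 i (Nat.zero_le _) hi
  · intro i hi
    rw [Tab.relActOK, ← actR33_eq]
    exact h_act33 i (Nat.zero_le _) hi
  · intro i hi
    rw [Tab.relActOK, ← actR34_eq]
    exact h_act34 i (Nat.zero_le _) hi
  · intro i hi
    rw [Tab.relActOK, ← actR35_eq]
    exact h_act35 i (Nat.zero_le _) hi
  · intro i hi
    rw [Tab.relActOK, ← actR36_eq]
    exact h_act36 i (Nat.zero_le _) hi
  · intro i hi
    rw [Tab.relActOK, ← actR37_eq]
    exact h_act37 i (Nat.zero_le _) hi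
  · intro i hi
    rw [Tab.relActOK, ← actR38_eq]
    exact h_act38 i (Nat.zero_le _) hi
  · intro i hi
    rw [Tab.relActOK, ← actR39_eq]
    exact h_act39 i (Nat.zero_le _) hi
  · intro i hi
    rw [Tab.relActOK, ← actR40_eq]
    exact h_act40 i (Nat.zero_le _) hi
  · intro i hi
    rw [Tab.relActOK, ← actR41_eq]
    exact h_act41 i (Nat.zero_le _) hi
  · intro i hi
    rw [Tab.relActOK, ← actR42_eq]
    exact h_act42 i (Nat.zero_le _) hi
  · intro i hi
    rw [Tab.relActOK, ← actR43_eq]
    exact h_act43 i (Nat.zero_le _) hi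
  · intro i hi
    rw [Tab.relActOK, ← actR44_eq]
    exact h_act44 i (Nat.zero_le _) hi
  · intro i hi
    rw [Tab.relActOK, ← actR45_eq]
    exact h_act45 i (Nat.zero_le _) hi
  · intro i hi
    rw [Tab.relActOK, ← actR46_eq]
    exact h_act46 i (Nat.zero_le _) hi
  · intro i hi
    rw [Tab.relActOK, ← actR47_eq]
    exact h_act47 i (Nat.zero_le _) hi
  · intro i hi
    rw [Tab.relActOK, ← actR48_eq]
    exact h_act48 i (Nat.zero_le _) hi
  · intro i hi
    rw [Tab.relActOK, ← actR49_eq]
    exact h_act49 i (Nat.zero_le _) hi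
  · intro i hi
    rw [Tab.relActOK, ← actR50_eq]
    exact h_act50 i (Nat.zero_le _) hi
  · intro i hi
    rw [Tab.relActOK, ← actR51_eq]
    exact h_act51 i (Nat.zero_le _) hi
  · intro i hi
    rw [Tab.relActOK, ← actR52_eq]
    exact h_act52 i (Nat.zero_le _) hi
  · intro i hi
    rw [Tab.relActOK, ← actR53_eq]
    exact h_act53 i (Nat.zero_le _) hi
  · intro i hi
    rw [Tab.relActOK, ← actR54_eq]
    exact h_act54 i (Nat.zero_le _) hi
  · intro i hi
    rw [Tab.relActOK, ← actR55_eq]
    exact h_act55 i (Nat.zero_le _) hi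
  · intro i hi
    rw [Tab.relActOK, ← actR56_eq]
    exact h_act56 i (Nat.zero_le _) hi
  · intro i hi
    rw [Tab.relActOK, ← actR57_eq]
    exact h_act57 i (Nat.zero_le _) hi
  · intro i hi
    rw [Tab.relActOK, ← actR58_eq]
    exact h_act58 i (Nat.zero_le _) hi
  · intro i hi
    rw [Tab.relActOK, ← actR59_eq]
    exact h_act59 i (Nat.zero_le _) hi
  · intro i hi
    rw [Tab.relActOK, ← actR60_eq]
    exact h_act60 i (Nat.zero_le _) hi
  · intro i hi
    rw [Tab.relActOK, ← actR61_eq]
    exact h_act61 i (Nat.zero_le _) hi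
  · intro i hi
    rw [Tab.relActOK, ← actR62_eq]
    exact h_act62 i (Nat.zero_le _) hi
  · intro i hi
    rw [Tab.relActOK, ← actR63_eq]
    exact h_act63 i (Nat.zero_le _) hi
  · intro i hi
    rw [Tab.relActOK, ← actR64_eq]
    exact h_act64 i (Nat.zero_le _) hi
  · intro i hi
    rw [Tab.relActOK, ← actR65_eq]
    exact h_act65 i (Nat.zero_le _) hi
  · intro i hi
    rw [Tab.relActOK, ← actR66_eq]
    exact h_act66 i (Nat.zero_le _) hi
  · intro i hi
    rw [Tab.relActOK, ← actR67_eq]
    exact h_act67 i (Nat.zero_le _) hi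
  · intro i hi
    rw [Tab.relActOK, ← actR68_eq]
    exact h_act68 i (Nat.zero_le _) hi
  · intro i hi
    rw [Tab.relActOK, ← actR69_eq]
    exact h_act69 i (Nat.zero_le _) hi
  · intro i hi
    rw [Tab.relActOK, ← actR70_eq]
    exact h_act70 i (Nat.zero_le _) hi
  · intro i hi
    rw [Tab.relActOK, ← actR71_eq]
    exact h_act71 i (Nat.zero_le _) hi
  · intro i hi
    rw [Tab.relActOK, ← actR72_eq]
    exact h_act72 i (Nat.zero_le _) hi
  · intro i hi
    rw [Tab.relActOK, ← actR73_eq]
    exact h_act73 i (Nat.zero_le _) hi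
  · intro i hi
    rw [Tab.relActOK, ← actR74_eq]
    exact h_act74 i (Nat.zero_le _) hi
  · intro i hi
    rw [Tab.relActOK, ← actR75_eq]
    exact h_act75 i (Nat.zero_le _) hi
  · intro i hi
    rw [Tab.relActOK, ← actR76_eq]
    exact h_act76 i (Nat.zero_le _) hi
  · intro i hi
    rw [Tab.relActOK, ← actR77_eq]
    exact h_act77 i (Nat.zero_le _) hi
  · intro i hi
    rw [Tab.relActOK, ← actR78_eq]
    exact h_act78 i (Nat.zero_le _) hi
  · intro i hi
    rw [Tab.relActOK, ← actR79_eq]
    exact h_act79 i (Nat.zero_le _) hi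
  · intro i hi
    rw [Tab.relActOK, ← actR80_eq]
    exact h_act80 i (Nat.zero_le _) hi
  · intro i hi
    rw [Tab.relActOK, ← actR81_eq]
    exact h_act81 i (Nat.zero_le _) hi
  · intro i hi
    rw [Tab.relActOK, ← actR82_eq]
    exact h_act82 i (Nat.zero_le _) hi
  · intro i hi
    rw [Tab.relActOK, ← actR83_eq]
    exact h_act83 i (Nat.zero_le _) hi
  · intro i hi
    rw [Tab.relActOK, ← actR84_eq]
    exact h_act84 i (Nat.zero_le _) hi
  · intro i hi
    rw [Tab.relActOK, ← actR85_eq]
    exact h_act85 i (Nat.zero_le _) hi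
  · intro i hi
    rw [Tab.relActOK, ← actR86_eq]
    exact h_act86 i (Nat.zero_le _) hi
  · intro i hi
    rw [Tab.relActOK, ← actR87_eq]
    exact h_act87 i (Nat.zero_le _) hi
  · intro i hi
    rw [Tab.relActOK, ← actR88_eq]
    exact h_act88 i (Nat.zero_le _) hi
  · intro i hi
    rw [Tab.relActOK, ← actR89_eq]
    exact h_act89 i (Nat.zero_le _) hi
  · intro i hi
    rw [Tab.relActOK, ← actR90_eq]
    exact h_act90 i (Nat.zero_le _) hi
  · intro i hi
    rw [Tab.relActOK, ← actR91_eq]
    exact h_act91 i (Nat.zero_le _) hi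
  · intro i hi
    rw [Tab.relActOK, ← actR92_eq]
    exact h_act92 i (Nat.zero_le _) hi
  · intro i hi
    rw [Tab.relActOK, ← actR93_eq]
    exact h_act93 i (Nat.zero_le _) hi
  · intro i hi
    rw [Tab.relActOK, ← actR94_eq]
    exact h_act94 i (Nat.zero_le _) hi
  · intro i hi
    rw [Tab.relActOK, ← actR95_eq]
    exact h_act95 i (Nat.zero_le _) hi
  · intro i hi
    rw [Tab.relActOK, ← actR96_eq]
    exact h_act96 i (Nat.zero_le _) hi
  · intro i hi
    rw [Tab.relActOK, ← actR97_eq]
    exact h_act97 i (Nat.zero_le _) hi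
  · intro i hi
    rw [Tab.relActOK, ← actR98_eq]
    exact h_act98 i (Nat.zero_le _) hi
  · intro i hi
    rw [Tab.relActOK, ← actR99_eq]
    exact h_act99 i (Nat.zero_le _) hi
  · intro i hi
    rw [Tab.relActOK, ← actR100_eq]
    exact h_act100 i (Nat.zero_le _) hi
  · intro i hi
    rw [Tab.relActOK, ← actR101_eq]
    exact h_act101 i (Nat.zero_le _) hi
  · intro i hi
    rw [Tab.relActOK, ← actR102_eq]
    exact h_act102 i (Nat.zero_le _) hi
  · intro i hi
    rw [Tab.relActOK, ← actR103_eq]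
    exact h_act103 i (Nat.zero_le _) hi
  · intro i hi
    rw [Tab.relActOK, ← actR104_eq]
    exact h_act104 i (Nat.zero_le _) hi
  · intro i hi
    rw [Tab.relActOK, ← actR105_eq]
    exact h_act105 i (Nat.zero_le _) hi
  · intro i hi
    rw [Tab.relActOK, ← actR106_eq]
    exact h_act106 i (Nat.zero_le _) hi
  · intro i hi
    rw [Tab.relActOK, ← actR107_eq]
    exact h_act107 i (Nat.zero_le _) hi
  · intro i hi
    rw [Tab.relActOK, ← actR108_eq]
    exact h_act108 i (Nat.zero_le _) hi
  · intro i hi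
    rw [Tab.relActOK, ← actR109_eq]
    exact h_act109 i (Nat.zero_le _) hi
  · intro i hi
    rw [Tab.relActOK, ← actR110_eq]
    exact h_act110 i (Nat.zero_le _) hi
  · intro i hi
    rw [Tab.relActOK, ← actR111_eq]
    exact h_act111 i (Nat.zero_le _) hi
  · intro i hi
    rw [Tab.relActOK, ← actR112_eq]
    exact h_act112 i (Nat.zero_le _) hi
  · intro i hi
    rw [Tab.relActOK, ← actR113_eq]
    exact h_act113 i (Nat.zero_le _) hi
  · intro i hi
    rw [Tab.relActOK, ← actR114_eq]
    exact h_act114 i (Nat.zero_le _) hi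
  · intro i hi
    rw [Tab.relActOK, ← actR115_eq]
    exact h_act115 i (Nat.zero_le _) hi
  · intro i hi
    rw [Tab.relActOK, ← actR116_eq]
    exact h_act116 i (Nat.zero_le _) hi
  · intro i hi
    rw [Tab.relActOK, ← actR117_eq]
    exact h_act117 i (Nat.zero_le _) hi
  · intro i hi
    rw [Tab.relActOK, ← actR118_eq]
    exact h_act118 i (Nat.zero_le _) hi
  · intro i hi
    rw [Tab.relActOK, ← actR119_eq]
    exact h_act119 i (Nat.zero_le _) hi
  · intro i hi
    rw [Tab.relActOK, ← actR120_eq]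
    exact h_act120 i (Nat.zero_le _) hi
  · intro i hi
    rw [Tab.relActOK, ← actR121_eq]
    exact h_act121 i (Nat.zero_le _) hi
  · intro i hi
    rw [Tab.relActOK, ← actR122_eq]
    exact h_act122 i (Nat.zero_le _) hi
  · intro i hi
    rw [Tab.relActOK, ← actR123_eq]
    exact h_act123 i (Nat.zero_le _) hi
  · intro i hi
    rw [Tab.relActOK, ← actR124_eq]
    exact h_act124 i (Nat.zero_le _) hi
  · intro i hi
    rw [Tab.relActOK, ← actR125_eq]
    exact h_act125 i (Nat.zero_le _) hi
  · intro i hi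
    rw [Tab.relActOK, ← actR126_eq]
    exact h_act126 i (Nat.zero_le _) hi
  · intro i hi
    rw [Tab.relActOK, ← actR127_eq]
    exact h_act127 i (Nat.zero_le _) hi
  · intro i hi
    rw [Tab.relActOK, ← actR128_eq]
    exact h_act128 i (Nat.zero_le _) hi
  · intro i hi
    rw [Tab.relActOK, ← actR129_eq]
    exact h_act129 i (Nat.zero_le _) hi
  · intro i hi
    rw [Tab.relActOK, ← actR130_eq]
    exact h_act130 i (Nat.zero_le _) hi
  · intro i hi
    rw [Tab.relActOK, ← actR131_eq]
    exact h_act131 i (Nat.zero_le _) hi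
  · intro i hi
    rw [Tab.relActOK, ← actR132_eq]
    exact h_act132 i (Nat.zero_le _) hi
  · intro i hi
    rw [Tab.relActOK, ← actR133_eq]
    exact h_act133 i (Nat.zero_le _) hi
  · intro i hi
    rw [Tab.relActOK, ← actR134_eq]
    exact h_act134 i (Nat.zero_le _) hi
  · intro i hi
    rw [Tab.relActOK, ← actR135_eq]
    exact h_act135 i (Nat.zero_le _) hi
  · intro i hi
    rw [Tab.relActOK, ← actR136_eq]
    exact h_act136 i (Nat.zero_le _) hi
  · intro i hi
    rw [Tab.relActOK, ← actR137_eq]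
    exact h_act137 i (Nat.zero_le _) hi
  · intro i hi
    rw [Tab.relActOK, ← actR138_eq]
    exact h_act138 i (Nat.zero_le _) hi
  · intro i hi
    rw [Tab.relActOK, ← actR139_eq]
    exact h_act139 i (Nat.zero_le _) hi
  · intro i hi
    rw [Tab.relActOK, ← actR140_eq]
    exact h_act140 i (Nat.zero_le _) hi
  · intro i hi
    rw [Tab.relActOK, ← actR141_eq]
    exact h_act141 i (Nat.zero_le _) hi
  · intro i hi
    rw [Tab.relActOK, ← actR142_eq]
    exact h_act142 i (Nat.zero_le _) hi
  · intro i hi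
    rw [Tab.relActOK, ← actR143_eq]
    exact h_act143 i (Nat.zero_le _) hi
  · intro i hi
    rw [Tab.relActOK, ← actR144_eq]
    exact h_act144 i (Nat.zero_le _) hi
  · intro i hi
    rw [Tab.relActOK, ← actR145_eq]
    exact h_act145 i (Nat.zero_le _) hi
  · intro i hi
    rw [Tab.relActOK, ← actR146_eq]
    exact h_act146 i (Nat.zero_le _) hi
  · intro i hi
    rw [Tab.relActOK, ← actR147_eq]
    exact h_act147 i (Nat.zero_le _) hi
  · intro i hi
    rw [Tab.relActOK, ← actR148_eq]
    exact h_act148 i (Nat.zero_le _) hi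
  · intro i hi
    rw [Tab.relActOK, ← actR149_eq]
    exact h_act149 i (Nat.zero_le _) hi
  · intro i hi
    rw [Tab.relActOK, ← actR150_eq]
    exact h_act150 i (Nat.zero_le _) hi
  · intro i hi
    rw [Tab.relActOK, ← actR151_eq]
    exact h_act151 i (Nat.zero_le _) hi
  · intro i hi
    rw [Tab.relActOK, ← actR152_eq]
    exact h_act152 i (Nat.zero_le _) hi
  · intro i hi
    rw [Tab.relActOK, ← actR153_eq]
    exact h_act153 i (Nat.zero_le _) hi
  · intro i hi
    rw [Tab.relActOK, ← actR154_eq]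
    exact h_act154 i (Nat.zero_le _) hi
  · intro i hi
    rw [Tab.relActOK, ← actR155_eq]
    exact h_act155 i (Nat.zero_le _) hi
  · intro i hi
    rw [Tab.relActOK, ← actR156_eq]
    exact h_act156 i (Nat.zero_le _) hi
  · intro i hi
    rw [Tab.relActOK, ← actR157_eq]
    exact h_act157 i (Nat.zero_le _) hi
  · intro i hi
    rw [Tab.relActOK, ← actR158_eq]
    exact h_act158 i (Nat.zero_le _) hi
  · intro i hi
    rw [Tab.relActOK, ← actR159_eq]
    exact h_act159 i (Nat.zero_le _) hi
  · intro i hi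
    rw [Tab.relActOK, ← actR160_eq]
    exact h_act160 i (Nat.zero_le _) hi
  · intro i hi
    rw [Tab.relActOK, ← actR161_eq]
    exact h_act161 i (Nat.zero_le _) hi
  · intro i hi
    rw [Tab.relActOK, ← actR162_eq]
    exact h_act162 i (Nat.zero_le _) hi
  · intro i hi
    rw [Tab.relActOK, ← actR163_eq]
    exact h_act163 i (Nat.zero_le _) hi
  · intro i hi
    rw [Tab.relActOK, ← actR164_eq]
    exact h_act164 i (Nat.zero_le _) hi

theorem inst : Inst PSC2Suzp2.P T D subs where
  hP := PSC2Suzp2.valid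
  hk := rfl
  hinv := rfl
  hsubs := by
    intro u hu x hx
    have h1 := List.all_eq_true.1 c_subs u hu
    exact ble_succ (List.all_eq_true.1 h1 x hx)
  htab := c_tab
  hC := checked
  hact := h_act
  hsubfix := fun u hu => beq_eq (List.all_eq_true.1 c_subfix u hu)

theorem index_eq : (Inst.subG PSC2Suzp2.P subs).index = 1782 := inst.index_eq


end Cfsg.Agent.Lib.Helper4.TCD.SC2Suzp2A
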