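import Cfsg.Agent.Lib.Helper4.TCD_C2SuzR_Acc
import Cfsg.Agent.Lib.Helper4.TC13

namespace Cfsg.Agent.Lib.Helper4.TCD.SC2Suzp5W

open Cfsg.Agent.Lib.Helper4.TC Cfsg.Agent.Lib.Helper4.TCD.C2SuzR

set_option maxRecDepth 100000
set_option Elab.async false

def chk0 : List Nat := [0, 0, 0, 0, 0, 0, 0]
noncomputable def act0 (i : Nat) : Nat := col1 (col1 (col1 (col1 (col1 (col1 (col1 (i)))))))
theorem act0_eq (i : Nat) : act0 i = Tab.act T D chk0 i := rfl
theorem c0_0 : allRange (fun i => Nat.beq (act0 i) i) 0 6666 = true := by decide +kernel
theorem c0_1 : allRange (fun i => Nat.beq (act0 i) i) 6666 6666 = true := by decide +kernel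
theorem c0_2 : allRange (fun i => Nat.beq (act0 i) i) 13332 6666 = true := by decide +kernel
theorem c0_3 : allRange (fun i => Nat.beq (act0 i) i) 19998 6666 = true := by decide +kernel
theorem c0_4 : allRange (fun i => Nat.beq (act0 i) i) 26664 6666 = true := by decide +kernel
theorem c0_5 : allRange (fun i => Nat.beq (act0 i) i) 33330 6666 = true := by decide +kernel
theorem c0_6 : allRange (fun i => Nat.beq (act0 i) i) 39996 6666 = true := by decide +kernel
theorem c0_7 : allRange (fun i => Nat.beq (act0 i) i) 46662 6666 = true := by decide +kernel
theorem c0_8 : allRange (fun i => Nat.beq (act0 i) i) 53328 6666 = true := by decide +kernel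
theorem c0_9 : allRange (fun i => Nat.beq (act0 i) i) 59994 5526 = true := by decide +kernel
theorem h0 : ∀ i, i < T.N → Tab.relActOK T D chk0 i = true := by
  intro i hi
  rw [Tab.relActOK, ← act0_eq]
  exact (range_glue (range_of_allRange c0_0) (range_glue (range_of_allRange c0_1) (range_glue (range_of_allRange c0_2) (range_glue (range_of_allRange c0_3) (range_glue (range_of_allRange c0_4) (range_glue (range_of_allRange c0_5) (range_glue (range_of_allRange c0_6) (range_glue (range_of_allRange c0_7) (range_glue (range_of_allRange c0_8) (range_of_allRange c0_9)))))))))) i (Nat.zero_le _) hi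

def chk1 : List Nat := [2, 2, 2, 2]
noncomputable def act1 (i : Nat) : Nat := col3 (col3 (col3 (col3 (i))))
theorem act1_eq (i : Nat) : act1 i = Tab.act T D chk1 i := rfl
theorem c1_0 : allRange (fun i => Nat.beq (act1 i) i) 0 10000 = true := by decide +kernel
theorem c1_1 : allRange (fun i => Nat.beq (act1 i) i) 10000 10000 = true := by decide +kernel
theorem c1_2 : allRange (fun i => Nat.beq (act1 i) i) 20000 10000 = true := by decide +kernel
theorem c1_3 : allRange (fun i => Nat.beq (act1 i) i) 30000 10000 = true := by decide +kernel
theorem c1_4 : allRange (fun i => Nat.beq (act1 i) i) 40000 10000 = true := by decide +kernel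
theorem c1_5 : allRange (fun i => Nat.beq (act1 i) i) 50000 10000 = true := by decide +kernel
theorem c1_6 : allRange (fun i => Nat.beq (act1 i) i) 60000 5520 = true := by decide +kernel
theorem h1 : ∀ i, i < T.N → Tab.relActOK T D chk1 i = true := by
  intro i hi
  rw [Tab.relActOK, ← act1_eq]
  exact (range_glue (range_of_allRange c1_0) (range_glue (range_of_allRange c1_1) (range_glue (range_of_allRange c1_2) (range_glue (range_of_allRange c1_3) (range_glue (range_of_allRange c1_4) (range_glue (range_of_allRange c1_5) (range_of_allRange c1_6))))))) i (Nat.zero_le _) hi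

def chk2 : List Nat := [4, 4, 4, 4]
noncomputable def act2 (i : Nat) : Nat := col5 (col5 (col5 (col5 (i))))
theorem act2_eq (i : Nat) : act2 i = Tab.act T D chk2 i := rfl
theorem c2_0 : allRange (fun i => Nat.beq (act2 i) i) 0 10000 = true := by decide +kernel
theorem c2_1 : allRange (fun i => Nat.beq (act2 i) i) 10000 10000 = true := by decide +kernel
theorem c2_2 : allRange (fun i => Nat.beq (act2 i) i) 20000 10000 = true := by decide +kernel
theorem c2_3 : allRange (fun i => Nat.beq (act2 i) i) 30000 10000 = true := by decide +kernel
theorem c2_4 : allRange (fun i => Nat.beq (act2 i) i) 40000 10000 = true := by decide +kernel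
theorem c2_5 : allRange (fun i => Nat.beq (act2 i) i) 50000 10000 = true := by decide +kernel
theorem c2_6 : allRange (fun i => Nat.beq (act2 i) i) 60000 5520 = true := by decide +kernel
theorem h2 : ∀ i, i < T.N → Tab.relActOK T D chk2 i = true := by
  intro i hi
  rw [Tab.relActOK, ← act2_eq]
  exact (range_glue (range_of_allRange c2_0) (range_glue (range_of_allRange c2_1) (range_glue (range_of_allRange c2_2) (range_glue (range_of_allRange c2_3) (range_glue (range_of_allRange c2_4) (range_glue (range_of_allRange c2_5) (range_of_allRange c2_6))))))) i (Nat.zero_le _) hi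

def chk3 : List Nat := [6, 6, 6, 6]
noncomputable def act3 (i : Nat) : Nat := col7 (col7 (col7 (col7 (i))))
theorem act3_eq (i : Nat) : act3 i = Tab.act T D chk3 i := rfl
theorem c3_0 : allRange (fun i => Nat.beq (act3 i) i) 0 10000 = true := by decide +kernel
theorem c3_1 : allRange (fun i => Nat.beq (act3 i) i) 10000 10000 = true := by decide +kernel
theorem c3_2 : allRange (fun i => Nat.beq (act3 i) i) 20000 10000 = true := by decide +kernel
theorem c3_3 : allRange (fun i => Nat.beq (act3 i) i) 30000 10000 = true := by decide +kernel
theorem c3_4 : allRange (fun i => Nat.beq (act3 i) i) 40000 10000 = true := by decide +kernel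
theorem c3_5 : allRange (fun i => Nat.beq (act3 i) i) 50000 10000 = true := by decide +kernel
theorem c3_6 : allRange (fun i => Nat.beq (act3 i) i) 60000 5520 = true := by decide +kernel
theorem h3 : ∀ i, i < T.N → Tab.relActOK T D chk3 i = true := by
  intro i hi
  rw [Tab.relActOK, ← act3_eq]
  exact (range_glue (range_of_allRange c3_0) (range_glue (range_of_allRange c3_1) (range_glue (range_of_allRange c3_2) (range_glue (range_of_allRange c3_3) (range_glue (range_of_allRange c3_4) (range_glue (range_of_allRange c3_5) (range_of_allRange c3_6))))))) i (Nat.zero_le _) hi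

def chk4 : List Nat := [8, 8]
noncomputable def act4 (i : Nat) : Nat := col9 (col9 (i))
theorem act4_eq (i : Nat) : act4 i = Tab.act T D chk4 i := rfl
theorem c4_0 : allRange (fun i => Nat.beq (act4 i) i) 0 15000 = true := by decide +kernel
theorem c4_1 : allRange (fun i => Nat.beq (act4 i) i) 15000 15000 = true := by decide +kernel
theorem c4_2 : allRange (fun i => Nat.beq (act4 i) i) 30000 15000 = true := by decide +kernel
theorem c4_3 : allRange (fun i => Nat.beq (act4 i) i) 45000 15000 = true := by decide +kernel
theorem c4_4 : allRange (fun i => Nat.beq (act4 i) i) 60000 5520 = true := by decide +kernel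
theorem h4 : ∀ i, i < T.N → Tab.relActOK T D chk4 i = true := by
  intro i hi
  rw [Tab.relActOK, ← act4_eq]
  exact (range_glue (range_of_allRange c4_0) (range_glue (range_of_allRange c4_1) (range_glue (range_of_allRange c4_2) (range_glue (range_of_allRange c4_3) (range_of_allRange c4_4))))) i (Nat.zero_le _) hi

def chk5 : List Nat := [4, 4, 11]
noncomputable def act5 (i : Nat) : Nat := col5 (col5 (col10 (i)))
theorem act5_eq (i : Nat) : act5 i = Tab.act T D chk5 i := rfl
theorem c5_0 : allRange (fun i => Nat.beq (act5 i) i) 0 12000 = true := by decide +kernel
theorem c5_1 : allRange (fun i => Nat.beq (act5 i) i) 12000 12000 = true := by decide +kernel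
theorem c5_2 : allRange (fun i => Nat.beq (act5 i) i) 24000 12000 = true := by decide +kernel
theorem c5_3 : allRange (fun i => Nat.beq (act5 i) i) 36000 12000 = true := by decide +kernel
theorem c5_4 : allRange (fun i => Nat.beq (act5 i) i) 48000 12000 = true := by decide +kernel
theorem c5_5 : allRange (fun i => Nat.beq (act5 i) i) 60000 5520 = true := by decide +kernel
theorem h5 : ∀ i, i < T.N → Tab.relActOK T D chk5 i = true := by
  intro i hi
  rw [Tab.relActOK, ← act5_eq]
  exact (range_glue (range_of_allRange c5_0) (range_glue (range_of_allRange c5_1) (range_glue (range_of_allRange c5_2) (range_glue (range_of_allRange c5_3) (range_glue (range_of_allRange c5_4) (range_of_allRange c5_5)))))) i (Nat.zero_le _) hi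

def chk6 : List Nat := [0, 8, 1, 3, 4, 3, 8, 2, 4, 2, 11]
noncomputable def act6 (i : Nat) : Nat := col1 (col9 (col0 (col2 (col5 (col2 (col9 (col3 (col5 (col3 (col10 (i)))))))))))
theorem act6_eq (i : Nat) : act6 i = Tab.act T D chk6 i := rfl
theorem c6_0 : allRange (fun i => Nat.beq (act6 i) i) 0 4615 = true := by decide +kernel
theorem c6_1 : allRange (fun i => Nat.beq (act6 i) i) 4615 4615 = true := by decide +kernel
theorem c6_2 : allRange (fun i => Nat.beq (act6 i) i) 9230 4615 = true := by decide +kernel
theorem c6_3 : allRange (fun i => Nat.beq (act6 i) i) 13845 4615 = true := by decide +kernel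
theorem c6_4 : allRange (fun i => Nat.beq (act6 i) i) 18460 4615 = true := by decide +kernel
theorem c6_5 : allRange (fun i => Nat.beq (act6 i) i) 23075 4615 = true := by decide +kernel
theorem c6_6 : allRange (fun i => Nat.beq (act6 i) i) 27690 4615 = true := by decide +kernel
theorem c6_7 : allRange (fun i => Nat.beq (act6 i) i) 32305 4615 = true := by decide +kernel
theorem c6_8 : allRange (fun i => Nat.beq (act6 i) i) 36920 4615 = true := by decide +kernel
theorem c6_9 : allRange (fun i => Nat.beq (act6 i) i) 41535 4615 = true := by decide +kernel
theorem c6_10 : allRange (fun i => Nat.beq (act6 i) i) 46150 4615 = true := by decide +kernel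
theorem c6_11 : allRange (fun i => Nat.beq (act6 i) i) 50765 4615 = true := by decide +kernel
theorem c6_12 : allRange (fun i => Nat.beq (act6 i) i) 55380 4615 = true := by decide +kernel
theorem c6_13 : allRange (fun i => Nat.beq (act6 i) i) 59995 4615 = true := by decide +kernel
theorem c6_14 : allRange (fun i => Nat.beq (act6 i) i) 64610 910 = true := by decide +kernel
theorem h6 : ∀ i, i < T.N → Tab.relActOK T D chk6 i = true := by
  intro i hi
  rw [Tab.relActOK, ← act6_eq]
  exact (range_glue (range_of_allRange c6_0) (range_glue (range_of_allRange c6_1) (range_glue (range_of_allRange c6_2) (range_glue (range_of_allRange c6_3) (range_glue (range_of_allRange c6_4) (range_glue (range_of_allRange c6_5) (range_glue (range_of_allRange c6_6) (range_glue (range_of_allRange c6_7) (range_glue (range_of_allRange c6_8) (range_glue (range_of_allRange c6_9) (range_glue (range_of_allRange c6_10) (range_glue (range_of_allRange c6_11) (range_glue (range_of_allRange c6_12) (range_glue (range_of_allRange c6_13) (range_of_allRange c6_14))))))))))))))) i (Nat.zero_le _) hi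

def chk7 : List Nat := [0, 3, 8, 2, 1, 3, 0, 4, 8, 4, 1, 2, 11]
noncomputable def act7 (i : Nat) : Nat := col1 (col2 (col9 (col3 (col0 (col2 (col1 (col5 (col9 (col5 (col0 (col3 (col10 (i)))))))))))))
theorem act7_eq (i : Nat) : act7 i = Tab.act T D chk7 i := rfl
theorem c7_0 : allRange (fun i => Nat.beq (act7 i) i) 0 4000 = true := by decide +kernel
theorem c7_1 : allRange (fun i => Nat.beq (act7 i) i) 4000 4000 = true := by decide +kernel
theorem c7_2 : allRange (fun i => Nat.beq (act7 i) i) 8000 4000 = true := by decide +kernel
theorem c7_3 : allRange (fun i => Nat.beq (act7 i) i) 12000 4000 = true := by decide +kernel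
theorem c7_4 : allRange (fun i => Nat.beq (act7 i) i) 16000 4000 = true := by decide +kernel
theorem c7_5 : allRange (fun i => Nat.beq (act7 i) i) 20000 4000 = true := by decide +kernel
theorem c7_6 : allRange (fun i => Nat.beq (act7 i) i) 24000 4000 = true := by decide +kernel
theorem c7_7 : allRange (fun i => Nat.beq (act7 i) i) 28000 4000 = true := by decide +kernel
theorem c7_8 : allRange (fun i => Nat.beq (act7 i) i) 32000 4000 = true := by decide +kernel
theorem c7_9 : allRange (fun i => Nat.beq (act7 i) i) 36000 4000 = true := by decide +kernel
theorem c7_10 : allRange (fun i => Nat.beq (act7 i) i) 40000 4000 = true := by decide +kernel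
theorem c7_11 : allRange (fun i => Nat.beq (act7 i) i) 44000 4000 = true := by decide +kernel
theorem c7_12 : allRange (fun i => Nat.beq (act7 i) i) 48000 4000 = true := by decide +kernel
theorem c7_13 : allRange (fun i => Nat.beq (act7 i) i) 52000 4000 = true := by decide +kernel
theorem c7_14 : allRange (fun i => Nat.beq (act7 i) i) 56000 4000 = true := by decide +kernel
theorem c7_15 : allRange (fun i => Nat.beq (act7 i) i) 60000 4000 = true := by decide +kernel
theorem c7_16 : allRange (fun i => Nat.beq (act7 i) i) 64000 1520 = true := by decide +kernel
theorem h7 : ∀ i, i < T.N → Tab.relActOK T D chk7 i = true := by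
  intro i hi
  rw [Tab.relActOK, ← act7_eq]
  exact (range_glue (range_of_allRange c7_0) (range_glue (range_of_allRange c7_1) (range_glue (range_of_allRange c7_2) (range_glue (range_of_allRange c7_3) (range_glue (range_of_allRange c7_4) (range_glue (range_of_allRange c7_5) (range_glue (range_of_allRange c7_6) (range_glue (range_of_allRange c7_7) (range_glue (range_of_allRange c7_8) (range_glue (range_of_allRange c7_9) (range_glue (range_of_allRange c7_10) (range_glue (range_of_allRange c7_11) (range_glue (range_of_allRange c7_12) (range_glue (range_of_allRange c7_13) (range_glue (range_of_allRange c7_14) (range_glue (range_of_allRange c7_15) (range_of_allRange c7_16))))))))))))))))) i (Nat.zero_le _) hi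

def chk8 : List Nat := [0, 8, 1, 2, 8, 3, 0, 8, 1, 2, 8, 3]
noncomputable def act8 (i : Nat) : Nat := col1 (col9 (col0 (col3 (col9 (col2 (col1 (col9 (col0 (col3 (col9 (col2 (i))))))))))))
theorem act8_eq (i : Nat) : act8 i = Tab.act T D chk8 i := rfl
theorem c8_0 : allRange (fun i => Nat.beq (act8 i) i) 0 4285 = true := by decide +kernel
theorem c8_1 : allRange (fun i => Nat.beq (act8 i) i) 4285 4285 = true := by decide +kernel
theorem c8_2 : allRange (fun i => Nat.beq (act8 i) i) 8570 4285 = true := by decide +kernel
theorem c8_3 : allRange (fun i => Nat.beq (act8 i) i) 12855 4285 = true := by decide +kernel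
theorem c8_4 : allRange (fun i => Nat.beq (act8 i) i) 17140 4285 = true := by decide +kernel
theorem c8_5 : allRange (fun i => Nat.beq (act8 i) i) 21425 4285 = true := by decide +kernel
theorem c8_6 : allRange (fun i => Nat.beq (act8 i) i) 25710 4285 = true := by decide +kernel
theorem c8_7 : allRange (fun i => Nat.beq (act8 i) i) 29995 4285 = true := by decide +kernel
theorem c8_8 : allRange (fun i => Nat.beq (act8 i) i) 34280 4285 = true := by decide +kernel
theorem c8_9 : allRange (fun i => Nat.beq (act8 i) i) 38565 4285 = true := by decide +kernel
theorem c8_10 : allRange (fun i => Nat.beq (act8 i) i) 42850 4285 = true := by decide +kernel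
theorem c8_11 : allRange (fun i => Nat.beq (act8 i) i) 47135 4285 = true := by decide +kernel
theorem c8_12 : allRange (fun i => Nat.beq (act8 i) i) 51420 4285 = true := by decide +kernel
theorem c8_13 : allRange (fun i => Nat.beq (act8 i) i) 55705 4285 = true := by decide +kernel
theorem c8_14 : allRange (fun i => Nat.beq (act8 i) i) 59990 4285 = true := by decide +kernel
theorem c8_15 : allRange (fun i => Nat.beq (act8 i) i) 64275 1245 = true := by decide +kernel
theorem h8 : ∀ i, i < T.N → Tab.relActOK T D chk8 i = true := by
  intro i hi
  rw [Tab.relActOK, ← act8_eq]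
  exact (range_glue (range_of_allRange c8_0) (range_glue (range_of_allRange c8_1) (range_glue (range_of_allRange c8_2) (range_glue (range_of_allRange c8_3) (range_glue (range_of_allRange c8_4) (range_glue (range_of_allRange c8_5) (range_glue (range_of_allRange c8_6) (range_glue (range_of_allRange c8_7) (range_glue (range_of_allRange c8_8) (range_glue (range_of_allRange c8_9) (range_glue (range_of_allRange c8_10) (range_glue (range_of_allRange c8_11) (range_glue (range_of_allRange c8_12) (range_glue (range_of_allRange c8_13) (range_glue (range_of_allRange c8_14) (range_of_allRange c8_15)))))))))))))))) i (Nat.zero_le _) hi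

def chk9 : List Nat := [0, 0, 4, 3, 3, 1, 8, 0, 2, 2, 4, 1, 1, 8, 11]
noncomputable def act9 (i : Nat) : Nat := col1 (col1 (col5 (col2 (col2 (col0 (col9 (col1 (col3 (col3 (col5 (col0 (col0 (col9 (col10 (i)))))))))))))))
theorem act9_eq (i : Nat) : act9 i = Tab.act T D chk9 i := rfl
theorem c9_0 : allRange (fun i => Nat.beq (act9 i) i) 0 3529 = true := by decide +kernel
theorem c9_1 : allRange (fun i => Nat.beq (act9 i) i) 3529 3529 = true := by decide +kernel
theorem c9_2 : allRange (fun i => Nat.beq (act9 i) i) 7058 3529 = true := by decide +kernel
theorem c9_3 : allRange (fun i => Nat.beq (act9 i) i) 10587 3529 = true := by decide +kernel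
theorem c9_4 : allRange (fun i => Nat.beq (act9 i) i) 14116 3529 = true := by decide +kernel
theorem c9_5 : allRange (fun i => Nat.beq (act9 i) i) 17645 3529 = true := by decide +kernel
theorem c9_6 : allRange (fun i => Nat.beq (act9 i) i) 21174 3529 = true := by decide +kernel
theorem c9_7 : allRange (fun i => Nat.beq (act9 i) i) 24703 3529 = true := by decide +kernel
theorem c9_8 : allRange (fun i => Nat.beq (act9 i) i) 28232 3529 = true := by decide +kernel
theorem c9_9 : allRange (fun i => Nat.beq (act9 i) i) 31761 3529 = true := by decide +kernel
theorem c9_10 : allRange (fun i => Nat.beq (act9 i) i) 35290 3529 = true := by decide +kernel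
theorem c9_11 : allRange (fun i => Nat.beq (act9 i) i) 38819 3529 = true := by decide +kernel
theorem c9_12 : allRange (fun i => Nat.beq (act9 i) i) 42348 3529 = true := by decide +kernel
theorem c9_13 : allRange (fun i => Nat.beq (act9 i) i) 45877 3529 = true := by decide +kernel
theorem c9_14 : allRange (fun i => Nat.beq (act9 i) i) 49406 3529 = true := by decide +kernel
theorem c9_15 : allRange (fun i => Nat.beq (act9 i) i) 52935 3529 = true := by decide +kernel
theorem c9_16 : allRange (fun i => Nat.beq (act9 i) i) 56464 3529 = true := by decide +kernel
theorem c9_17 : allRange (fun i => Nat.beq (act9 i) i) 59993 3529 = true := by decide +kernel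
theorem c9_18 : allRange (fun i => Nat.beq (act9 i) i) 63522 1998 = true := by decide +kernel
theorem h9 : ∀ i, i < T.N → Tab.relActOK T D chk9 i = true := by
  intro i hi
  rw [Tab.relActOK, ← act9_eq]
  exact (range_glue (range_of_allRange c9_0) (range_glue (range_of_allRange c9_1) (range_glue (range_of_allRange c9_2) (range_glue (range_of_allRange c9_3) (range_glue (range_of_allRange c9_4) (range_glue (range_of_allRange c9_5) (range_glue (range_of_allRange c9_6) (range_glue (range_of_allRange c9_7) (range_glue (range_of_allRange c9_8) (range_glue (range_of_allRange c9_9) (range_glue (range_of_allRange c9_10) (range_glue (range_of_allRange c9_11) (range_glue (range_of_allRange c9_12) (range_glue (range_of_allRange c9_13) (range_glue (range_of_allRange c9_14) (range_glue (range_of_allRange c9_15) (range_glue (range_of_allRange c9_16) (range_glue (range_of_allRange c9_17) (range_of_allRange c9_18))))))))))))))))))) i (Nat.zero_le _) hi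

def chk10 : List Nat := [0, 0, 4, 2, 2, 1, 8, 0, 2, 2, 4, 1, 1, 8, 11]
noncomputable def act10 (i : Nat) : Nat := col1 (col1 (col5 (col3 (col3 (col0 (col9 (col1 (col3 (col3 (col5 (col0 (col0 (col9 (col10 (i)))))))))))))))
theorem act10_eq (i : Nat) : act10 i = Tab.act T D chk10 i := rfl
theorem c10_0 : allRange (fun i => Nat.beq (act10 i) i) 0 3529 = true := by decide +kernel
theorem c10_1 : allRange (fun i => Nat.beq (act10 i) i) 3529 3529 = true := by decide +kernel
theorem c10_2 : allRange (fun i => Nat.beq (act10 i) i) 7058 3529 = true := by decide +kernel
theorem c10_3 : allRange (fun i => Nat.beq (act10 i) i) 10587 3529 = true := by decide +kernel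
theorem c10_4 : allRange (fun i => Nat.beq (act10 i) i) 14116 3529 = true := by decide +kernel
theorem c10_5 : allRange (fun i => Nat.beq (act10 i) i) 17645 3529 = true := by decide +kernel
theorem c10_6 : allRange (fun i => Nat.beq (act10 i) i) 21174 3529 = true := by decide +kernel
theorem c10_7 : allRange (fun i => Nat.beq (act10 i) i) 24703 3529 = true := by decide +kernel
theorem c10_8 : allRange (fun i => Nat.beq (act10 i) i) 28232 3529 = true := by decide +kernel
theorem c10_9 : allRange (fun i => Nat.beq (act10 i) i) 31761 3529 = true := by decide +kernel
theorem c10_10 : allRange (fun i => Nat.beq (act10 i) i) 35290 3529 = true := by decide +kernel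
theorem c10_11 : allRange (fun i => Nat.beq (act10 i) i) 38819 3529 = true := by decide +kernel
theorem c10_12 : allRange (fun i => Nat.beq (act10 i) i) 42348 3529 = true := by decide +kernel
theorem c10_13 : allRange (fun i => Nat.beq (act10 i) i) 45877 3529 = true := by decide +kernel
theorem c10_14 : allRange (fun i => Nat.beq (act10 i) i) 49406 3529 = true := by decide +kernel
theorem c10_15 : allRange (fun i => Nat.beq (act10 i) i) 52935 3529 = true := by decide +kernel
theorem c10_16 : allRange (fun i => Nat.beq (act10 i) i) 56464 3529 = true := by decide +kernel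
theorem c10_17 : allRange (fun i => Nat.beq (act10 i) i) 59993 3529 = true := by decide +kernel
theorem c10_18 : allRange (fun i => Nat.beq (act10 i) i) 63522 1998 = true := by decide +kernel
theorem h10 : ∀ i, i < T.N → Tab.relActOK T D chk10 i = true := by
  intro i hi
  rw [Tab.relActOK, ← act10_eq]
  exact (range_glue (range_of_allRange c10_0) (range_glue (range_of_allRange c10_1) (range_glue (range_of_allRange c10_2) (range_glue (range_of_allRange c10_3) (range_glue (range_of_allRange c10_4) (range_glue (range_of_allRange c10_5) (range_glue (range_of_allRange c10_6) (range_glue (range_of_allRange c10_7) (range_glue (range_of_allRange c10_8) (range_glue (range_of_allRange c10_9) (range_glue (range_of_allRange c10_10) (range_glue (range_of_allRange c10_11) (range_glue (range_of_allRange c10_12) (range_glue (range_of_allRange c10_13) (range_glue (range_of_allRange c10_14) (range_glue (range_of_allRange c10_15) (range_glue (range_of_allRange c10_16) (range_glue (range_of_allRange c10_17) (range_of_allRange c10_18))))))))))))))))))) i (Nat.zero_le _) hi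

def chk11 : List Nat := [0, 0, 3, 8, 1, 4, 8, 4, 0, 8, 1, 3, 1, 3]
noncomputable def act11 (i : Nat) : Nat := col1 (col1 (col2 (col9 (col0 (col5 (col9 (col5 (col1 (col9 (col0 (col2 (col0 (col2 (i))))))))))))))
theorem act11_eq (i : Nat) : act11 i = Tab.act T D chk11 i := rfl
theorem c11_0 : allRange (fun i => Nat.beq (act11 i) i) 0 3750 = true := by decide +kernel
theorem c11_1 : allRange (fun i => Nat.beq (act11 i) i) 3750 3750 = true := by decide +kernel
theorem c11_2 : allRange (fun i => Nat.beq (act11 i) i) 7500 3750 = true := by decide +kernel
theorem c11_3 : allRange (fun i => Nat.beq (act11 i) i) 11250 3750 = true := by decide +kernel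
theorem c11_4 : allRange (fun i => Nat.beq (act11 i) i) 15000 3750 = true := by decide +kernel
theorem c11_5 : allRange (fun i => Nat.beq (act11 i) i) 18750 3750 = true := by decide +kernel
theorem c11_6 : allRange (fun i => Nat.beq (act11 i) i) 22500 3750 = true := by decide +kernel
theorem c11_7 : allRange (fun i => Nat.beq (act11 i) i) 26250 3750 = true := by decide +kernel
theorem c11_8 : allRange (fun i => Nat.beq (act11 i) i) 30000 3750 = true := by decide +kernel
theorem c11_9 : allRange (fun i => Nat.beq (act11 i) i) 33750 3750 = true := by decide +kernel
theorem c11_10 : allRange (fun i => Nat.beq (act11 i) i) 37500 3750 = true := by decide +kernel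
theorem c11_11 : allRange (fun i => Nat.beq (act11 i) i) 41250 3750 = true := by decide +kernel
theorem c11_12 : allRange (fun i => Nat.beq (act11 i) i) 45000 3750 = true := by decide +kernel
theorem c11_13 : allRange (fun i => Nat.beq (act11 i) i) 48750 3750 = true := by decide +kernel
theorem c11_14 : allRange (fun i => Nat.beq (act11 i) i) 52500 3750 = true := by decide +kernel
theorem c11_15 : allRange (fun i => Nat.beq (act11 i) i) 56250 3750 = true := by decide +kernel
theorem c11_16 : allRange (fun i => Nat.beq (act11 i) i) 60000 3750 = true := by decide +kernel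
theorem c11_17 : allRange (fun i => Nat.beq (act11 i) i) 63750 1770 = true := by decide +kernel
theorem h11 : ∀ i, i < T.N → Tab.relActOK T D chk11 i = true := by
  intro i hi
  rw [Tab.relActOK, ← act11_eq]
  exact (range_glue (range_of_allRange c11_0) (range_glue (range_of_allRange c11_1) (range_glue (range_of_allRange c11_2) (range_glue (range_of_allRange c11_3) (range_glue (range_of_allRange c11_4) (range_glue (range_of_allRange c11_5) (range_glue (range_of_allRange c11_6) (range_glue (range_of_allRange c11_7) (range_glue (range_of_allRange c11_8) (range_glue (range_of_allRange c11_9) (range_glue (range_of_allRange c11_10) (range_glue (range_of_allRange c11_11) (range_glue (range_of_allRange c11_12) (range_glue (range_of_allRange c11_13) (range_glue (range_of_allRange c11_14) (range_glue (range_of_allRange c11_15) (range_glue (range_of_allRange c11_16) (range_of_allRange c11_17)))))))))))))))))) i (Nat.zero_le _) hi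

def chk12 : List Nat := [0, 2, 1, 4, 0, 8, 1, 6, 2, 6, 0, 8, 1, 4]
noncomputable def act12 (i : Nat) : Nat := col1 (col3 (col0 (col5 (col1 (col9 (col0 (col7 (col3 (col7 (col1 (col9 (col0 (col5 (i))))))))))))))
theorem act12_eq (i : Nat) : act12 i = Tab.act T D chk12 i := rfl
theorem c12_0 : allRange (fun i => Nat.beq (act12 i) i) 0 3750 = true := by decide +kernel
theorem c12_1 : allRange (fun i => Nat.beq (act12 i) i) 3750 3750 = true := by decide +kernel
theorem c12_2 : allRange (fun i => Nat.beq (act12 i) i) 7500 3750 = true := by decide +kernel
theorem c12_3 : allRange (fun i => Nat.beq (act12 i) i) 11250 3750 = true := by decide +kernel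
theorem c12_4 : allRange (fun i => Nat.beq (act12 i) i) 15000 3750 = true := by decide +kernel
theorem c12_5 : allRange (fun i => Nat.beq (act12 i) i) 18750 3750 = true := by decide +kernel
theorem c12_6 : allRange (fun i => Nat.beq (act12 i) i) 22500 3750 = true := by decide +kernel
theorem c12_7 : allRange (fun i => Nat.beq (act12 i) i) 26250 3750 = true := by decide +kernel
theorem c12_8 : allRange (fun i => Nat.beq (act12 i) i) 30000 3750 = true := by decide +kernel
theorem c12_9 : allRange (fun i => Nat.beq (act12 i) i) 33750 3750 = true := by decide +kernel
theorem c12_10 : allRange (fun i => Nat.beq (act12 i) i) 37500 3750 = true := by decide +kernel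
theorem c12_11 : allRange (fun i => Nat.beq (act12 i) i) 41250 3750 = true := by decide +kernel
theorem c12_12 : allRange (fun i => Nat.beq (act12 i) i) 45000 3750 = true := by decide +kernel
theorem c12_13 : allRange (fun i => Nat.beq (act12 i) i) 48750 3750 = true := by decide +kernel
theorem c12_14 : allRange (fun i => Nat.beq (act12 i) i) 52500 3750 = true := by decide +kernel
theorem c12_15 : allRange (fun i => Nat.beq (act12 i) i) 56250 3750 = true := by decide +kernel
theorem c12_16 : allRange (fun i => Nat.beq (act12 i) i) 60000 3750 = true := by decide +kernel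
theorem c12_17 : allRange (fun i => Nat.beq (act12 i) i) 63750 1770 = true := by decide +kernel
theorem h12 : ∀ i, i < T.N → Tab.relActOK T D chk12 i = true := by
  intro i hi
  rw [Tab.relActOK, ← act12_eq]
  exact (range_glue (range_of_allRange c12_0) (range_glue (range_of_allRange c12_1) (range_glue (range_of_allRange c12_2) (range_glue (range_of_allRange c12_3) (range_glue (range_of_allRange c12_4) (range_glue (range_of_allRange c12_5) (range_glue (range_of_allRange c12_6) (range_glue (range_of_allRange c12_7) (range_glue (range_of_allRange c12_8) (range_glue (range_of_allRange c12_9) (range_glue (range_of_allRange c12_10) (range_glue (range_of_allRange c12_11) (range_glue (range_of_allRange c12_12) (range_glue (range_of_allRange c12_13) (range_glue (range_of_allRange c12_14) (range_glue (range_of_allRange c12_15) (range_glue (range_of_allRange c12_16) (range_of_allRange c12_17)))))))))))))))))) i (Nat.zero_le _) hi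

def chk13 : List Nat := [0, 3, 0, 3, 8, 2, 1, 2, 1, 2, 0, 8, 1, 3]
noncomputable def act13 (i : Nat) : Nat := col1 (col2 (col1 (col2 (col9 (col3 (col0 (col3 (col0 (col3 (col1 (col9 (col0 (col2 (i))))))))))))))
theorem act13_eq (i : Nat) : act13 i = Tab.act T D chk13 i := rfl
theorem c13_0 : allRange (fun i => Nat.beq (act13 i) i) 0 3750 = true := by decide +kernel
theorem c13_1 : allRange (fun i => Nat.beq (act13 i) i) 3750 3750 = true := by decide +kernel
theorem c13_2 : allRange (fun i => Nat.beq (act13 i) i) 7500 3750 = true := by decide +kernel
theorem c13_3 : allRange (fun i => Nat.beq (act13 i) i) 11250 3750 = true := by decide +kernel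
theorem c13_4 : allRange (fun i => Nat.beq (act13 i) i) 15000 3750 = true := by decide +kernel
theorem c13_5 : allRange (fun i => Nat.beq (act13 i) i) 18750 3750 = true := by decide +kernel
theorem c13_6 : allRange (fun i => Nat.beq (act13 i) i) 22500 3750 = true := by decide +kernel
theorem c13_7 : allRange (fun i => Nat.beq (act13 i) i) 26250 3750 = true := by decide +kernel
theorem c13_8 : allRange (fun i => Nat.beq (act13 i) i) 30000 3750 = true := by decide +kernel
theorem c13_9 : allRange (fun i => Nat.beq (act13 i) i) 33750 3750 = true := by decide +kernel
theorem c13_10 : allRange (fun i => Nat.beq (act13 i) i) 37500 3750 = true := by decide +kernel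
theorem c13_11 : allRange (fun i => Nat.beq (act13 i) i) 41250 3750 = true := by decide +kernel
theorem c13_12 : allRange (fun i => Nat.beq (act13 i) i) 45000 3750 = true := by decide +kernel
theorem c13_13 : allRange (fun i => Nat.beq (act13 i) i) 48750 3750 = true := by decide +kernel
theorem c13_14 : allRange (fun i => Nat.beq (act13 i) i) 52500 3750 = true := by decide +kernel
theorem c13_15 : allRange (fun i => Nat.beq (act13 i) i) 56250 3750 = true := by decide +kernel
theorem c13_16 : allRange (fun i => Nat.beq (act13 i) i) 60000 3750 = true := by decide +kernel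
theorem c13_17 : allRange (fun i => Nat.beq (act13 i) i) 63750 1770 = true := by decide +kernel
theorem h13 : ∀ i, i < T.N → Tab.relActOK T D chk13 i = true := by
  intro i hi
  rw [Tab.relActOK, ← act13_eq]
  exact (range_glue (range_of_allRange c13_0) (range_glue (range_of_allRange c13_1) (range_glue (range_of_allRange c13_2) (range_glue (range_of_allRange c13_3) (range_glue (range_of_allRange c13_4) (range_glue (range_of_allRange c13_5) (range_glue (range_of_allRange c13_6) (range_glue (range_of_allRange c13_7) (range_glue (range_of_allRange c13_8) (range_glue (range_of_allRange c13_9) (range_glue (range_of_allRange c13_10) (range_glue (range_of_allRange c13_11) (range_glue (range_of_allRange c13_12) (range_glue (range_of_allRange c13_13) (range_glue (range_of_allRange c13_14) (range_glue (range_of_allRange c13_15) (range_glue (range_of_allRange c13_16) (range_of_allRange c13_17)))))))))))))))))) i (Nat.zero_le _) hi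

def chk14 : List Nat := [0, 0, 2, 0, 0, 2, 8, 3, 1, 1, 3, 1, 1, 8]
noncomputable def act14 (i : Nat) : Nat := col1 (col1 (col3 (col1 (col1 (col3 (col9 (col2 (col0 (col0 (col2 (col0 (col0 (col9 (i))))))))))))))
theorem act14_eq (i : Nat) : act14 i = Tab.act T D chk14 i := rfl
theorem c14_0 : allRange (fun i => Nat.beq (act14 i) i) 0 3750 = true := by decide +kernel
theorem c14_1 : allRange (fun i => Nat.beq (act14 i) i) 3750 3750 = true := by decide +kernel
theorem c14_2 : allRange (fun i => Nat.beq (act14 i) i) 7500 3750 = true := by decide +kernel
theorem c14_3 : allRange (fun i => Nat.beq (act14 i) i) 11250 3750 = true := by decide +kernel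
theorem c14_4 : allRange (fun i => Nat.beq (act14 i) i) 15000 3750 = true := by decide +kernel
theorem c14_5 : allRange (fun i => Nat.beq (act14 i) i) 18750 3750 = true := by decide +kernel
theorem c14_6 : allRange (fun i => Nat.beq (act14 i) i) 22500 3750 = true := by decide +kernel
theorem c14_7 : allRange (fun i => Nat.beq (act14 i) i) 26250 3750 = true := by decide +kernel
theorem c14_8 : allRange (fun i => Nat.beq (act14 i) i) 30000 3750 = true := by decide +kernel
theorem c14_9 : allRange (fun i => Nat.beq (act14 i) i) 33750 3750 = true := by decide +kernel
theorem c14_10 : allRange (fun i => Nat.beq (act14 i) i) 37500 3750 = true := by decide +kernel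
theorem c14_11 : allRange (fun i => Nat.beq (act14 i) i) 41250 3750 = true := by decide +kernel
theorem c14_12 : allRange (fun i => Nat.beq (act14 i) i) 45000 3750 = true := by decide +kernel
theorem c14_13 : allRange (fun i => Nat.beq (act14 i) i) 48750 3750 = true := by decide +kernel
theorem c14_14 : allRange (fun i => Nat.beq (act14 i) i) 52500 3750 = true := by decide +kernel
theorem c14_15 : allRange (fun i => Nat.beq (act14 i) i) 56250 3750 = true := by decide +kernel
theorem c14_16 : allRange (fun i => Nat.beq (act14 i) i) 60000 3750 = true := by decide +kernel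
theorem c14_17 : allRange (fun i => Nat.beq (act14 i) i) 63750 1770 = true := by decide +kernel
theorem h14 : ∀ i, i < T.N → Tab.relActOK T D chk14 i = true := by
  intro i hi
  rw [Tab.relActOK, ← act14_eq]
  exact (range_glue (range_of_allRange c14_0) (range_glue (range_of_allRange c14_1) (range_glue (range_of_allRange c14_2) (range_glue (range_of_allRange c14_3) (range_glue (range_of_allRange c14_4) (range_glue (range_of_allRange c14_5) (range_glue (range_of_allRange c14_6) (range_glue (range_of_allRange c14_7) (range_glue (range_of_allRange c14_8) (range_glue (range_of_allRange c14_9) (range_glue (range_of_allRange c14_10) (range_glue (range_of_allRange c14_11) (range_glue (range_of_allRange c14_12) (range_glue (range_of_allRange c14_13) (range_glue (range_of_allRange c14_14) (range_glue (range_of_allRange c14_15) (range_glue (range_of_allRange c14_16) (range_of_allRange c14_17)))))))))))))))))) i (Nat.zero_le _) hi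

def chk15 : List Nat := [0, 4, 2, 8, 3, 4, 1, 2, 4, 0, 8, 1, 4, 3]
noncomputable def act15 (i : Nat) : Nat := col1 (col5 (col3 (col9 (col2 (col5 (col0 (col3 (col5 (col1 (col9 (col0 (col5 (col2 (i))))))))))))))
theorem act15_eq (i : Nat) : act15 i = Tab.act T D chk15 i := rfl
theorem c15_0 : allRange (fun i => Nat.beq (act15 i) i) 0 3750 = true := by decide +kernel
theorem c15_1 : allRange (fun i => Nat.beq (act15 i) i) 3750 3750 = true := by decide +kernel
theorem c15_2 : allRange (fun i => Nat.beq (act15 i) i) 7500 3750 = true := by decide +kernel
theorem c15_3 : allRange (fun i => Nat.beq (act15 i) i) 11250 3750 = true := by decide +kernel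
theorem c15_4 : allRange (fun i => Nat.beq (act15 i) i) 15000 3750 = true := by decide +kernel
theorem c15_5 : allRange (fun i => Nat.beq (act15 i) i) 18750 3750 = true := by decide +kernel
theorem c15_6 : allRange (fun i => Nat.beq (act15 i) i) 22500 3750 = true := by decide +kernel
theorem c15_7 : allRange (fun i => Nat.beq (act15 i) i) 26250 3750 = true := by decide +kernel
theorem c15_8 : allRange (fun i => Nat.beq (act15 i) i) 30000 3750 = true := by decide +kernel
theorem c15_9 : allRange (fun i => Nat.beq (act15 i) i) 33750 3750 = true := by decide +kernel
theorem c15_10 : allRange (fun i => Nat.beq (act15 i) i) 37500 3750 = true := by decide +kernel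
theorem c15_11 : allRange (fun i => Nat.beq (act15 i) i) 41250 3750 = true := by decide +kernel
theorem c15_12 : allRange (fun i => Nat.beq (act15 i) i) 45000 3750 = true := by decide +kernel
theorem c15_13 : allRange (fun i => Nat.beq (act15 i) i) 48750 3750 = true := by decide +kernel
theorem c15_14 : allRange (fun i => Nat.beq (act15 i) i) 52500 3750 = true := by decide +kernel
theorem c15_15 : allRange (fun i => Nat.beq (act15 i) i) 56250 3750 = true := by decide +kernel
theorem c15_16 : allRange (fun i => Nat.beq (act15 i) i) 60000 3750 = true := by decide +kernel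
theorem c15_17 : allRange (fun i => Nat.beq (act15 i) i) 63750 1770 = true := by decide +kernel
theorem h15 : ∀ i, i < T.N → Tab.relActOK T D chk15 i = true := by
  intro i hi
  rw [Tab.relActOK, ← act15_eq]
  exact (range_glue (range_of_allRange c15_0) (range_glue (range_of_allRange c15_1) (range_glue (range_of_allRange c15_2) (range_glue (range_of_allRange c15_3) (range_glue (range_of_allRange c15_4) (range_glue (range_of_allRange c15_5) (range_glue (range_of_allRange c15_6) (range_glue (range_of_allRange c15_7) (range_glue (range_of_allRange c15_8) (range_glue (range_of_allRange c15_9) (range_glue (range_of_allRange c15_10) (range_glue (range_of_allRange c15_11) (range_glue (range_of_allRange c15_12) (range_glue (range_of_allRange c15_13) (range_glue (range_of_allRange c15_14) (range_glue (range_of_allRange c15_15) (range_glue (range_of_allRange c15_16) (range_of_allRange c15_17)))))))))))))))))) i (Nat.zero_le _) hi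

def chk16 : List Nat := [0, 0, 0, 3, 4, 8, 4, 2, 1, 1, 1, 4, 8, 4]
noncomputable def act16 (i : Nat) : Nat := col1 (col1 (col1 (col2 (col5 (col9 (col5 (col3 (col0 (col0 (col0 (col5 (col9 (col5 (i))))))))))))))
theorem act16_eq (i : Nat) : act16 i = Tab.act T D chk16 i := rfl
theorem c16_0 : allRange (fun i => Nat.beq (act16 i) i) 0 3750 = true := by decide +kernel
theorem c16_1 : allRange (fun i => Nat.beq (act16 i) i) 3750 3750 = true := by decide +kernel
theorem c16_2 : allRange (fun i => Nat.beq (act16 i) i) 7500 3750 = true := by decide +kernel
theorem c16_3 : allRange (fun i => Nat.beq (act16 i) i) 11250 3750 = true := by decide +kernel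
theorem c16_4 : allRange (fun i => Nat.beq (act16 i) i) 15000 3750 = true := by decide +kernel
theorem c16_5 : allRange (fun i => Nat.beq (act16 i) i) 18750 3750 = true := by decide +kernel
theorem c16_6 : allRange (fun i => Nat.beq (act16 i) i) 22500 3750 = true := by decide +kernel
theorem c16_7 : allRange (fun i => Nat.beq (act16 i) i) 26250 3750 = true := by decide +kernel
theorem c16_8 : allRange (fun i => Nat.beq (act16 i) i) 30000 3750 = true := by decide +kernel
theorem c16_9 : allRange (fun i => Nat.beq (act16 i) i) 33750 3750 = true := by decide +kernel
theorem c16_10 : allRange (fun i => Nat.beq (act16 i) i) 37500 3750 = true := by decide +kernel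
theorem c16_11 : allRange (fun i => Nat.beq (act16 i) i) 41250 3750 = true := by decide +kernel
theorem c16_12 : allRange (fun i => Nat.beq (act16 i) i) 45000 3750 = true := by decide +kernel
theorem c16_13 : allRange (fun i => Nat.beq (act16 i) i) 48750 3750 = true := by decide +kernel
theorem c16_14 : allRange (fun i => Nat.beq (act16 i) i) 52500 3750 = true := by decide +kernel
theorem c16_15 : allRange (fun i => Nat.beq (act16 i) i) 56250 3750 = true := by decide +kernel
theorem c16_16 : allRange (fun i => Nat.beq (act16 i) i) 60000 3750 = true := by decide +kernel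
theorem c16_17 : allRange (fun i => Nat.beq (act16 i) i) 63750 1770 = true := by decide +kernel
theorem h16 : ∀ i, i < T.N → Tab.relActOK T D chk16 i = true := by
  intro i hi
  rw [Tab.relActOK, ← act16_eq]
  exact (range_glue (range_of_allRange c16_0) (range_glue (range_of_allRange c16_1) (range_glue (range_of_allRange c16_2) (range_glue (range_of_allRange c16_3) (range_glue (range_of_allRange c16_4) (range_glue (range_of_allRange c16_5) (range_glue (range_of_allRange c16_6) (range_glue (range_of_allRange c16_7) (range_glue (range_of_allRange c16_8) (range_glue (range_of_allRange c16_9) (range_glue (range_of_allRange c16_10) (range_glue (range_of_allRange c16_11) (range_glue (range_of_allRange c16_12) (range_glue (range_of_allRange c16_13) (range_glue (range_of_allRange c16_14) (range_glue (range_of_allRange c16_15) (range_glue (range_of_allRange c16_16) (range_of_allRange c16_17)))))))))))))))))) i (Nat.zero_le _) hi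

def chk17 : List Nat := [0, 4, 8, 4, 8, 2, 2, 8, 4, 8, 4, 1, 2, 2]
noncomputable def act17 (i : Nat) : Nat := col1 (col5 (col9 (col5 (col9 (col3 (col3 (col9 (col5 (col9 (col5 (col0 (col3 (col3 (i))))))))))))))
theorem act17_eq (i : Nat) : act17 i = Tab.act T D chk17 i := rfl
theorem c17_0 : allRange (fun i => Nat.beq (act17 i) i) 0 3750 = true := by decide +kernel
theorem c17_1 : allRange (fun i => Nat.beq (act17 i) i) 3750 3750 = true := by decide +kernel
theorem c17_2 : allRange (fun i => Nat.beq (act17 i) i) 7500 3750 = true := by decide +kernel
theorem c17_3 : allRange (fun i => Nat.beq (act17 i) i) 11250 3750 = true := by decide +kernel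
theorem c17_4 : allRange (fun i => Nat.beq (act17 i) i) 15000 3750 = true := by decide +kernel
theorem c17_5 : allRange (fun i => Nat.beq (act17 i) i) 18750 3750 = true := by decide +kernel
theorem c17_6 : allRange (fun i => Nat.beq (act17 i) i) 22500 3750 = true := by decide +kernel
theorem c17_7 : allRange (fun i => Nat.beq (act17 i) i) 26250 3750 = true := by decide +kernel
theorem c17_8 : allRange (fun i => Nat.beq (act17 i) i) 30000 3750 = true := by decide +kernel
theorem c17_9 : allRange (fun i => Nat.beq (act17 i) i) 33750 3750 = true := by decide +kernel
theorem c17_10 : allRange (fun i => Nat.beq (act17 i) i) 37500 3750 = true := by decide +kernel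
theorem c17_11 : allRange (fun i => Nat.beq (act17 i) i) 41250 3750 = true := by decide +kernel
theorem c17_12 : allRange (fun i => Nat.beq (act17 i) i) 45000 3750 = true := by decide +kernel
theorem c17_13 : allRange (fun i => Nat.beq (act17 i) i) 48750 3750 = true := by decide +kernel
theorem c17_14 : allRange (fun i => Nat.beq (act17 i) i) 52500 3750 = true := by decide +kernel
theorem c17_15 : allRange (fun i => Nat.beq (act17 i) i) 56250 3750 = true := by decide +kernel
theorem c17_16 : allRange (fun i => Nat.beq (act17 i) i) 60000 3750 = true := by decide +kernel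
theorem c17_17 : allRange (fun i => Nat.beq (act17 i) i) 63750 1770 = true := by decide +kernel
theorem h17 : ∀ i, i < T.N → Tab.relActOK T D chk17 i = true := by
  intro i hi
  rw [Tab.relActOK, ← act17_eq]
  exact (range_glue (range_of_allRange c17_0) (range_glue (range_of_allRange c17_1) (range_glue (range_of_allRange c17_2) (range_glue (range_of_allRange c17_3) (range_glue (range_of_allRange c17_4) (range_glue (range_of_allRange c17_5) (range_glue (range_of_allRange c17_6) (range_glue (range_of_allRange c17_7) (range_glue (range_of_allRange c17_8) (range_glue (range_of_allRange c17_9) (range_glue (range_of_allRange c17_10) (range_glue (range_of_allRange c17_11) (range_glue (range_of_allRange c17_12) (range_glue (range_of_allRange c17_13) (range_glue (range_of_allRange c17_14) (range_glue (range_of_allRange c17_15) (range_glue (range_of_allRange c17_16) (range_of_allRange c17_17)))))))))))))))))) i (Nat.zero_le _) hi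

def chk18 : List Nat := [0, 2, 8, 6, 8, 4, 8, 6, 8, 0, 4, 1, 4, 2, 11]
noncomputable def act18 (i : Nat) : Nat := col1 (col3 (col9 (col7 (col9 (col5 (col9 (col7 (col9 (col1 (col5 (col0 (col5 (col3 (col10 (i)))))))))))))))
theorem act18_eq (i : Nat) : act18 i = Tab.act T D chk18 i := rfl
theorem c18_0 : allRange (fun i => Nat.beq (act18 i) i) 0 3529 = true := by decide +kernel
theorem c18_1 : allRange (fun i => Nat.beq (act18 i) i) 3529 3529 = true := by decide +kernel
theorem c18_2 : allRange (fun i => Nat.beq (act18 i) i) 7058 3529 = true := by decide +kernel
theorem c18_3 : allRange (fun i => Nat.beq (act18 i) i) 10587 3529 = true := by decide +kernel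
theorem c18_4 : allRange (fun i => Nat.beq (act18 i) i) 14116 3529 = true := by decide +kernel
theorem c18_5 : allRange (fun i => Nat.beq (act18 i) i) 17645 3529 = true := by decide +kernel
theorem c18_6 : allRange (fun i => Nat.beq (act18 i) i) 21174 3529 = true := by decide +kernel
theorem c18_7 : allRange (fun i => Nat.beq (act18 i) i) 24703 3529 = true := by decide +kernel
theorem c18_8 : allRange (fun i => Nat.beq (act18 i) i) 28232 3529 = true := by decide +kernel
theorem c18_9 : allRange (fun i => Nat.beq (act18 i) i) 31761 3529 = true := by decide +kernel
theorem c18_10 : allRange (fun i => Nat.beq (act18 i) i) 35290 3529 = true := by decide +kernel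
theorem c18_11 : allRange (fun i => Nat.beq (act18 i) i) 38819 3529 = true := by decide +kernel
theorem c18_12 : allRange (fun i => Nat.beq (act18 i) i) 42348 3529 = true := by decide +kernel
theorem c18_13 : allRange (fun i => Nat.beq (act18 i) i) 45877 3529 = true := by decide +kernel
theorem c18_14 : allRange (fun i => Nat.beq (act18 i) i) 49406 3529 = true := by decide +kernel
theorem c18_15 : allRange (fun i => Nat.beq (act18 i) i) 52935 3529 = true := by decide +kernel
theorem c18_16 : allRange (fun i => Nat.beq (act18 i) i) 56464 3529 = true := by decide +kernel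
theorem c18_17 : allRange (fun i => Nat.beq (act18 i) i) 59993 3529 = true := by decide +kernel
theorem c18_18 : allRange (fun i => Nat.beq (act18 i) i) 63522 1998 = true := by decide +kernel
theorem h18 : ∀ i, i < T.N → Tab.relActOK T D chk18 i = true := by
  intro i hi
  rw [Tab.relActOK, ← act18_eq]
  exact (range_glue (range_of_allRange c18_0) (range_glue (range_of_allRange c18_1) (range_glue (range_of_allRange c18_2) (range_glue (range_of_allRange c18_3) (range_glue (range_of_allRange c18_4) (range_glue (range_of_allRange c18_5) (range_glue (range_of_allRange c18_6) (range_glue (range_of_allRange c18_7) (range_glue (range_of_allRange c18_8) (range_glue (range_of_allRange c18_9) (range_glue (range_of_allRange c18_10) (range_glue (range_of_allRange c18_11) (range_glue (range_of_allRange c18_12) (range_glue (range_of_allRange c18_13) (range_glue (range_of_allRange c18_14) (range_glue (range_of_allRange c18_15) (range_glue (range_of_allRange c18_16) (range_glue (range_of_allRange c18_17) (range_of_allRange c18_18))))))))))))))))))) i (Nat.zero_le _) hi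

def chk19 : List Nat := [2, 8, 4, 6, 2, 8, 4, 6, 2, 8, 4, 6, 2, 8, 4, 6, 2, 8, 4, 6, 2, 8, 4, 6, 2, 8, 4, 6, 2, 8, 4, 6]
noncomputable def act19 (i : Nat) : Nat := col3 (col9 (col5 (col7 (col3 (col9 (col5 (col7 (col3 (col9 (col5 (col7 (col3 (col9 (col5 (col7 (col3 (col9 (col5 (col7 (col3 (col9 (col5 (col7 (col3 (col9 (col5 (col7 (col3 (col9 (col5 (col7 (i))))))))))))))))))))))))))))))))
theorem act19_eq (i : Nat) : act19 i = Tab.act T D chk19 i := rfl
theorem c19_0 : allRange (fun i => Nat.beq (act19 i) i) 0 1764 = true := by decide +kernel
theorem c19_1 : allRange (fun i => Nat.beq (act19 i) i) 1764 1764 = true := by decide +kernel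
theorem c19_2 : allRange (fun i => Nat.beq (act19 i) i) 3528 1764 = true := by decide +kernel
theorem c19_3 : allRange (fun i => Nat.beq (act19 i) i) 5292 1764 = true := by decide +kernel
theorem c19_4 : allRange (fun i => Nat.beq (act19 i) i) 7056 1764 = true := by decide +kernel
theorem c19_5 : allRange (fun i => Nat.beq (act19 i) i) 8820 1764 = true := by decide +kernel
theorem c19_6 : allRange (fun i => Nat.beq (act19 i) i) 10584 1764 = true := by decide +kernel
theorem c19_7 : allRange (fun i => Nat.beq (act19 i) i) 12348 1764 = true := by decide +kernel
theorem c19_8 : allRange (fun i => Nat.beq (act19 i) i) 14112 1764 = true := by decide +kernel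
theorem c19_9 : allRange (fun i => Nat.beq (act19 i) i) 15876 1764 = true := by decide +kernel
theorem c19_10 : allRange (fun i => Nat.beq (act19 i) i) 17640 1764 = true := by decide +kernel
theorem c19_11 : allRange (fun i => Nat.beq (act19 i) i) 19404 1764 = true := by decide +kernel
theorem c19_12 : allRange (fun i => Nat.beq (act19 i) i) 21168 1764 = true := by decide +kernel
theorem c19_13 : allRange (fun i => Nat.beq (act19 i) i) 22932 1764 = true := by decide +kernel
theorem c19_14 : allRange (fun i => Nat.beq (act19 i) i) 24696 1764 = true := by decide +kernel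
theorem c19_15 : allRange (fun i => Nat.beq (act19 i) i) 26460 1764 = true := by decide +kernel
theorem c19_16 : allRange (fun i => Nat.beq (act19 i) i) 28224 1764 = true := by decide +kernel
theorem c19_17 : allRange (fun i => Nat.beq (act19 i) i) 29988 1764 = true := by decide +kernel
theorem c19_18 : allRange (fun i => Nat.beq (act19 i) i) 31752 1764 = true := by decide +kernel
theorem c19_19 : allRange (fun i => Nat.beq (act19 i) i) 33516 1764 = true := by decide +kernel
theorem c19_20 : allRange (fun i => Nat.beq (act19 i) i) 35280 1764 = true := by decide +kernel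
theorem c19_21 : allRange (fun i => Nat.beq (act19 i) i) 37044 1764 = true := by decide +kernel
theorem c19_22 : allRange (fun i => Nat.beq (act19 i) i) 38808 1764 = true := by decide +kernel
theorem c19_23 : allRange (fun i => Nat.beq (act19 i) i) 40572 1764 = true := by decide +kernel
theorem c19_24 : allRange (fun i => Nat.beq (act19 i) i) 42336 1764 = true := by decide +kernel
theorem c19_25 : allRange (fun i => Nat.beq (act19 i) i) 44100 1764 = true := by decide +kernel
theorem c19_26 : allRange (fun i => Nat.beq (act19 i) i) 45864 1764 = true := by decide +kernel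
theorem c19_27 : allRange (fun i => Nat.beq (act19 i) i) 47628 1764 = true := by decide +kernel
theorem c19_28 : allRange (fun i => Nat.beq (act19 i) i) 49392 1764 = true := by decide +kernel
theorem c19_29 : allRange (fun i => Nat.beq (act19 i) i) 51156 1764 = true := by decide +kernel
theorem c19_30 : allRange (fun i => Nat.beq (act19 i) i) 52920 1764 = true := by decide +kernel
theorem c19_31 : allRange (fun i => Nat.beq (act19 i) i) 54684 1764 = true := by decide +kernel
theorem c19_32 : allRange (fun i => Nat.beq (act19 i) i) 56448 1764 = true := by decide +kernel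
theorem c19_33 : allRange (fun i => Nat.beq (act19 i) i) 58212 1764 = true := by decide +kernel
theorem c19_34 : allRange (fun i => Nat.beq (act19 i) i) 59976 1764 = true := by decide +kernel
theorem c19_35 : allRange (fun i => Nat.beq (act19 i) i) 61740 1764 = true := by decide +kernel
theorem c19_36 : allRange (fun i => Nat.beq (act19 i) i) 63504 1764 = true := by decide +kernel
theorem c19_37 : allRange (fun i => Nat.beq (act19 i) i) 65268 252 = true := by decide +kernel
theorem h19 : ∀ i, i < T.N → Tab.relActOK T D chk19 i = true := by
  intro i hi
  rw [Tab.relActOK, ← act19_eq]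
  exact (range_glue (range_of_allRange c19_0) (range_glue (range_of_allRange c19_1) (range_glue (range_of_allRange c19_2) (range_glue (range_of_allRange c19_3) (range_glue (range_of_allRange c19_4) (range_glue (range_of_allRange c19_5) (range_glue (range_of_allRange c19_6) (range_glue (range_of_allRange c19_7) (range_glue (range_of_allRange c19_8) (range_glue (range_of_allRange c19_9) (range_glue (range_of_allRange c19_10) (range_glue (range_of_allRange c19_11) (range_glue (range_of_allRange c19_12) (range_glue (range_of_allRange c19_13) (range_glue (range_of_allRange c19_14) (range_glue (range_of_allRange c19_15) (range_glue (range_of_allRange c19_16) (range_glue (range_of_allRange c19_17) (range_glue (range_of_allRange c19_18) (range_glue (range_of_allRange c19_19) (range_glue (range_of_allRange c19_20) (range_glue (range_of_allRange c19_21) (range_glue (range_of_allRange c19_22) (range_glue (range_of_allRange c19_23) (range_glue (range_of_allRange c19_24) (range_glue (range_of_allRange c19_25) (range_glue (range_of_allRange c19_26) (range_glue (range_of_allRange c19_27) (range_glue (range_of_allRange c19_28) (range_glue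 (range_of_allRange c19_29) (range_glue (range_of_allRange c19_30) (range_glue (range_of_allRange c19_31) (range_glue (range_of_allRange c19_32) (range_glue (range_of_allRange c19_33) (range_glue (range_of_allRange c19_34) (range_glue (range_of_allRange c19_35) (range_glue (range_of_allRange c19_36) (range_of_allRange c19_37)))))))))))))))))))))))))))))))))))))) i (Nat.zero_le _) hi

def chk20 : List Nat := [11, 9, 10, 8]
noncomputable def act20 (i : Nat) : Nat := col10 (col8 (col11 (col9 (i))))
theorem act20_eq (i : Nat) : act20 i = Tab.act T D chk20 i := rfl
theorem c20_0 : allRange (fun i => Nat.beq (act20 i) i) 0 10000 = true := by decide +kernel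
theorem c20_1 : allRange (fun i => Nat.beq (act20 i) i) 10000 10000 = true := by decide +kernel
theorem c20_2 : allRange (fun i => Nat.beq (act20 i) i) 20000 10000 = true := by decide +kernel
theorem c20_3 : allRange (fun i => Nat.beq (act20 i) i) 30000 10000 = true := by decide +kernel
theorem c20_4 : allRange (fun i => Nat.beq (act20 i) i) 40000 10000 = true := by decide +kernel
theorem c20_5 : allRange (fun i => Nat.beq (act20 i) i) 50000 10000 = true := by decide +kernel
theorem c20_6 : allRange (fun i => Nat.beq (act20 i) i) 60000 5520 = true := by decide +kernel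
theorem h20 : ∀ i, i < T.N → Tab.relActOK T D chk20 i = true := by
  intro i hi
  rw [Tab.relActOK, ← act20_eq]
  exact (range_glue (range_of_allRange c20_0) (range_glue (range_of_allRange c20_1) (range_glue (range_of_allRange c20_2) (range_glue (range_of_allRange c20_3) (range_glue (range_of_allRange c20_4) (range_glue (range_of_allRange c20_5) (range_of_allRange c20_6))))))) i (Nat.zero_le _) hi

def chk21 : List Nat := [0, 0, 0, 0, 0, 0, 0]
noncomputable def act21 (i : Nat) : Nat := col1 (col1 (col1 (col1 (col1 (col1 (col1 (i)))))))
theorem act21_eq (i : Nat) : act21 i = Tab.act T D chk21 i := rfl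
theorem c21_0 : allRange (fun i => Nat.beq (act21 i) i) 0 6666 = true := by decide +kernel
theorem c21_1 : allRange (fun i => Nat.beq (act21 i) i) 6666 6666 = true := by decide +kernel
theorem c21_2 : allRange (fun i => Nat.beq (act21 i) i) 13332 6666 = true := by decide +kernel
theorem c21_3 : allRange (fun i => Nat.beq (act21 i) i) 19998 6666 = true := by decide +kernel
theorem c21_4 : allRange (fun i => Nat.beq (act21 i) i) 26664 6666 = true := by decide +kernel
theorem c21_5 : allRange (fun i => Nat.beq (act21 i) i) 33330 6666 = true := by decide +kernel
theorem c21_6 : allRange (fun i => Nat.beq (act21 i) i) 39996 6666 = true := by decide +kernel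
theorem c21_7 : allRange (fun i => Nat.beq (act21 i) i) 46662 6666 = true := by decide +kernel
theorem c21_8 : allRange (fun i => Nat.beq (act21 i) i) 53328 6666 = true := by decide +kernel
theorem c21_9 : allRange (fun i => Nat.beq (act21 i) i) 59994 5526 = true := by decide +kernel
theorem h21 : ∀ i, i < T.N → Tab.relActOK T D chk21 i = true := by
  intro i hi
  rw [Tab.relActOK, ← act21_eq]
  exact (range_glue (range_of_allRange c21_0) (range_glue (range_of_allRange c21_1) (range_glue (range_of_allRange c21_2) (range_glue (range_of_allRange c21_3) (range_glue (range_of_allRange c21_4) (range_glue (range_of_allRange c21_5) (range_glue (range_of_allRange c21_6) (range_glue (range_of_allRange c21_7) (range_glue (range_of_allRange c21_8) (range_of_allRange c21_9)))))))))) i (Nat.zero_le _) hi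

def chk22 : List Nat := [0, 0, 2, 1, 2, 0, 3, 0, 2, 1, 2]
noncomputable def act22 (i : Nat) : Nat := col1 (col1 (col3 (col0 (col3 (col1 (col2 (col1 (col3 (col0 (col3 (i)))))))))))
theorem act22_eq (i : Nat) : act22 i = Tab.act T D chk22 i := rfl
theorem c22_0 : allRange (fun i => Nat.beq (act22 i) i) 0 4615 = true := by decide +kernel
theorem c22_1 : allRange (fun i => Nat.beq (act22 i) i) 4615 4615 = true := by decide +kernel
theorem c22_2 : allRange (fun i => Nat.beq (act22 i) i) 9230 4615 = true := by decide +kernel
theorem c22_3 : allRange (fun i => Nat.beq (act22 i) i) 13845 4615 = true := by decide +kernel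
theorem c22_4 : allRange (fun i => Nat.beq (act22 i) i) 18460 4615 = true := by decide +kernel
theorem c22_5 : allRange (fun i => Nat.beq (act22 i) i) 23075 4615 = true := by decide +kernel
theorem c22_6 : allRange (fun i => Nat.beq (act22 i) i) 27690 4615 = true := by decide +kernel
theorem c22_7 : allRange (fun i => Nat.beq (act22 i) i) 32305 4615 = true := by decide +kernel
theorem c22_8 : allRange (fun i => Nat.beq (act22 i) i) 36920 4615 = true := by decide +kernel
theorem c22_9 : allRange (fun i => Nat.beq (act22 i) i) 41535 4615 = true := by decide +kernel
theorem c22_10 : allRange (fun i => Nat.beq (act22 i) i) 46150 4615 = true := by decide +kernel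
theorem c22_11 : allRange (fun i => Nat.beq (act22 i) i) 50765 4615 = true := by decide +kernel
theorem c22_12 : allRange (fun i => Nat.beq (act22 i) i) 55380 4615 = true := by decide +kernel
theorem c22_13 : allRange (fun i => Nat.beq (act22 i) i) 59995 4615 = true := by decide +kernel
theorem c22_14 : allRange (fun i => Nat.beq (act22 i) i) 64610 910 = true := by decide +kernel
theorem h22 : ∀ i, i < T.N → Tab.relActOK T D chk22 i = true := by
  intro i hi
  rw [Tab.relActOK, ← act22_eq]
  exact (range_glue (range_of_allRange c22_0) (range_glue (range_of_allRange c22_1) (range_glue (range_of_allRange c22_2) (range_glue (range_of_allRange c22_3) (range_glue (range_of_allRange c22_4) (range_glue (range_of_allRange c22_5) (range_glue (range_of_allRange c22_6) (range_glue (range_of_allRange c22_7) (range_glue (range_of_allRange c22_8) (range_glue (range_of_allRange c22_9) (range_glue (range_of_allRange c22_10) (range_glue (range_of_allRange c22_11) (range_glue (range_of_allRange c22_12) (range_glue (range_of_allRange c22_13) (range_of_allRange c22_14))))))))))))))) i (Nat.zero_le _) hi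

def chk23 : List Nat := [0, 0, 0, 2, 0, 0, 0, 2, 0, 0, 0, 2]
noncomputable def act23 (i : Nat) : Nat := col1 (col1 (col1 (col3 (col1 (col1 (col1 (col3 (col1 (col1 (col1 (col3 (i))))))))))))
theorem act23_eq (i : Nat) : act23 i = Tab.act T D chk23 i := rfl
theorem c23_0 : allRange (fun i => Nat.beq (act23 i) i) 0 4285 = true := by decide +kernel
theorem c23_1 : allRange (fun i => Nat.beq (act23 i) i) 4285 4285 = true := by decide +kernel
theorem c23_2 : allRange (fun i => Nat.beq (act23 i) i) 8570 4285 = true := by decide +kernel
theorem c23_3 : allRange (fun i => Nat.beq (act23 i) i) 12855 4285 = true := by decide +kernel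
theorem c23_4 : allRange (fun i => Nat.beq (act23 i) i) 17140 4285 = true := by decide +kernel
theorem c23_5 : allRange (fun i => Nat.beq (act23 i) i) 21425 4285 = true := by decide +kernel
theorem c23_6 : allRange (fun i => Nat.beq (act23 i) i) 25710 4285 = true := by decide +kernel
theorem c23_7 : allRange (fun i => Nat.beq (act23 i) i) 29995 4285 = true := by decide +kernel
theorem c23_8 : allRange (fun i => Nat.beq (act23 i) i) 34280 4285 = true := by decide +kernel
theorem c23_9 : allRange (fun i => Nat.beq (act23 i) i) 38565 4285 = true := by decide +kernel
theorem c23_10 : allRange (fun i => Nat.beq (act23 i) i) 42850 4285 = true := by decide +kernel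
theorem c23_11 : allRange (fun i => Nat.beq (act23 i) i) 47135 4285 = true := by decide +kernel
theorem c23_12 : allRange (fun i => Nat.beq (act23 i) i) 51420 4285 = true := by decide +kernel
theorem c23_13 : allRange (fun i => Nat.beq (act23 i) i) 55705 4285 = true := by decide +kernel
theorem c23_14 : allRange (fun i => Nat.beq (act23 i) i) 59990 4285 = true := by decide +kernel
theorem c23_15 : allRange (fun i => Nat.beq (act23 i) i) 64275 1245 = true := by decide +kernel
theorem h23 : ∀ i, i < T.N → Tab.relActOK T D chk23 i = true := by
  intro i hi
  rw [Tab.relActOK, ← act23_eq]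
  exact (range_glue (range_of_allRange c23_0) (range_glue (range_of_allRange c23_1) (range_glue (range_of_allRange c23_2) (range_glue (range_of_allRange c23_3) (range_glue (range_of_allRange c23_4) (range_glue (range_of_allRange c23_5) (range_glue (range_of_allRange c23_6) (range_glue (range_of_allRange c23_7) (range_glue (range_of_allRange c23_8) (range_glue (range_of_allRange c23_9) (range_glue (range_of_allRange c23_10) (range_glue (range_of_allRange c23_11) (range_glue (range_of_allRange c23_12) (range_glue (range_of_allRange c23_13) (range_glue (range_of_allRange c23_14) (range_of_allRange c23_15)))))))))))))))) i (Nat.zero_le _) hi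

def chk24 : List Nat := [0, 0, 2, 2, 0, 0, 3, 3, 0, 0, 3, 3]
noncomputable def act24 (i : Nat) : Nat := col1 (col1 (col3 (col3 (col1 (col1 (col2 (col2 (col1 (col1 (col2 (col2 (i))))))))))))
theorem act24_eq (i : Nat) : act24 i = Tab.act T D chk24 i := rfl
theorem c24_0 : allRange (fun i => Nat.beq (act24 i) i) 0 4285 = true := by decide +kernel
theorem c24_1 : allRange (fun i => Nat.beq (act24 i) i) 4285 4285 = true := by decide +kernel
theorem c24_2 : allRange (fun i => Nat.beq (act24 i) i) 8570 4285 = true := by decide +kernel
theorem c24_3 : allRange (fun i => Nat.beq (act24 i) i) 12855 4285 = true := by decide +kernel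
theorem c24_4 : allRange (fun i => Nat.beq (act24 i) i) 17140 4285 = true := by decide +kernel
theorem c24_5 : allRange (fun i => Nat.beq (act24 i) i) 21425 4285 = true := by decide +kernel
theorem c24_6 : allRange (fun i => Nat.beq (act24 i) i) 25710 4285 = true := by decide +kernel
theorem c24_7 : allRange (fun i => Nat.beq (act24 i) i) 29995 4285 = true := by decide +kernel
theorem c24_8 : allRange (fun i => Nat.beq (act24 i) i) 34280 4285 = true := by decide +kernel
theorem c24_9 : allRange (fun i => Nat.beq (act24 i) i) 38565 4285 = true := by decide +kernel
theorem c24_10 : allRange (fun i => Nat.beq (act24 i) i) 42850 4285 = true := by decide +kernel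
theorem c24_11 : allRange (fun i => Nat.beq (act24 i) i) 47135 4285 = true := by decide +kernel
theorem c24_12 : allRange (fun i => Nat.beq (act24 i) i) 51420 4285 = true := by decide +kernel
theorem c24_13 : allRange (fun i => Nat.beq (act24 i) i) 55705 4285 = true := by decide +kernel
theorem c24_14 : allRange (fun i => Nat.beq (act24 i) i) 59990 4285 = true := by decide +kernel
theorem c24_15 : allRange (fun i => Nat.beq (act24 i) i) 64275 1245 = true := by decide +kernel
theorem h24 : ∀ i, i < T.N → Tab.relActOK T D chk24 i = true := by
  intro i hi
  rw [Tab.relActOK, ← act24_eq]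
  exact (range_glue (range_of_allRange c24_0) (range_glue (range_of_allRange c24_1) (range_glue (range_of_allRange c24_2) (range_glue (range_of_allRange c24_3) (range_glue (range_of_allRange c24_4) (range_glue (range_of_allRange c24_5) (range_glue (range_of_allRange c24_6) (range_glue (range_of_allRange c24_7) (range_glue (range_of_allRange c24_8) (range_glue (range_of_allRange c24_9) (range_glue (range_of_allRange c24_10) (range_glue (range_of_allRange c24_11) (range_glue (range_of_allRange c24_12) (range_glue (range_of_allRange c24_13) (range_glue (range_of_allRange c24_14) (range_of_allRange c24_15)))))))))))))))) i (Nat.zero_le _) hi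

def chk25 : List Nat := [4, 4, 4, 4]
noncomputable def act25 (i : Nat) : Nat := col5 (col5 (col5 (col5 (i))))
theorem act25_eq (i : Nat) : act25 i = Tab.act T D chk25 i := rfl
theorem c25_0 : allRange (fun i => Nat.beq (act25 i) i) 0 10000 = true := by decide +kernel
theorem c25_1 : allRange (fun i => Nat.beq (act25 i) i) 10000 10000 = true := by decide +kernel
theorem c25_2 : allRange (fun i => Nat.beq (act25 i) i) 20000 10000 = true := by decide +kernel
theorem c25_3 : allRange (fun i => Nat.beq (act25 i) i) 30000 10000 = true := by decide +kernel
theorem c25_4 : allRange (fun i => Nat.beq (act25 i) i) 40000 10000 = true := by decide +kernel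
theorem c25_5 : allRange (fun i => Nat.beq (act25 i) i) 50000 10000 = true := by decide +kernel
theorem c25_6 : allRange (fun i => Nat.beq (act25 i) i) 60000 5520 = true := by decide +kernel
theorem h25 : ∀ i, i < T.N → Tab.relActOK T D chk25 i = true := by
  intro i hi
  rw [Tab.relActOK, ← act25_eq]
  exact (range_glue (range_of_allRange c25_0) (range_glue (range_of_allRange c25_1) (range_glue (range_of_allRange c25_2) (range_glue (range_of_allRange c25_3) (range_glue (range_of_allRange c25_4) (range_glue (range_of_allRange c25_5) (range_of_allRange c25_6))))))) i (Nat.zero_le _) hi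

def chk26 : List Nat := [0, 4, 3, 4, 2, 1, 2, 1, 1, 4, 2]
noncomputable def act26 (i : Nat) : Nat := col1 (col5 (col2 (col5 (col3 (col0 (col3 (col0 (col0 (col5 (col3 (i)))))))))))
theorem act26_eq (i : Nat) : act26 i = Tab.act T D chk26 i := rfl
theorem c26_0 : allRange (fun i => Nat.beq (act26 i) i) 0 4615 = true := by decide +kernel
theorem c26_1 : allRange (fun i => Nat.beq (act26 i) i) 4615 4615 = true := by decide +kernel
theorem c26_2 : allRange (fun i => Nat.beq (act26 i) i) 9230 4615 = true := by decide +kernel
theorem c26_3 : allRange (fun i => Nat.beq (act26 i) i) 13845 4615 = true := by decide +kernel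
theorem c26_4 : allRange (fun i => Nat.beq (act26 i) i) 18460 4615 = true := by decide +kernel
theorem c26_5 : allRange (fun i => Nat.beq (act26 i) i) 23075 4615 = true := by decide +kernel
theorem c26_6 : allRange (fun i => Nat.beq (act26 i) i) 27690 4615 = true := by decide +kernel
theorem c26_7 : allRange (fun i => Nat.beq (act26 i) i) 32305 4615 = true := by decide +kernel
theorem c26_8 : allRange (fun i => Nat.beq (act26 i) i) 36920 4615 = true := by decide +kernel
theorem c26_9 : allRange (fun i => Nat.beq (act26 i) i) 41535 4615 = true := by decide +kernel
theorem c26_10 : allRange (fun i => Nat.beq (act26 i) i) 46150 4615 = true := by decide +kernel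
theorem c26_11 : allRange (fun i => Nat.beq (act26 i) i) 50765 4615 = true := by decide +kernel
theorem c26_12 : allRange (fun i => Nat.beq (act26 i) i) 55380 4615 = true := by decide +kernel
theorem c26_13 : allRange (fun i => Nat.beq (act26 i) i) 59995 4615 = true := by decide +kernel
theorem c26_14 : allRange (fun i => Nat.beq (act26 i) i) 64610 910 = true := by decide +kernel
theorem h26 : ∀ i, i < T.N → Tab.relActOK T D chk26 i = true := by
  intro i hi
  rw [Tab.relActOK, ← act26_eq]
  exact (range_glue (range_of_allRange c26_0) (range_glue (range_of_allRange c26_1) (range_glue (range_of_allRange c26_2) (range_glue (range_of_allRange c26_3) (range_glue (range_of_allRange c26_4) (range_glue (range_of_allRange c26_5) (range_glue (range_of_allRange c26_6) (range_glue (range_of_allRange c26_7) (range_glue (range_of_allRange c26_8) (range_glue (range_of_allRange c26_9) (range_glue (range_of_allRange c26_10) (range_glue (range_of_allRange c26_11) (range_glue (range_of_allRange c26_12) (range_glue (range_of_allRange c26_13) (range_of_allRange c26_14))))))))))))))) i (Nat.zero_le _) hi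

def chk27 : List Nat := [0, 4, 1, 3, 1, 3, 0, 4, 1, 3, 1, 3, 4, 4]
noncomputable def act27 (i : Nat) : Nat := col1 (col5 (col0 (col2 (col0 (col2 (col1 (col5 (col0 (col2 (col0 (col2 (col5 (col5 (i))))))))))))))
theorem act27_eq (i : Nat) : act27 i = Tab.act T D chk27 i := rfl
theorem c27_0 : allRange (fun i => Nat.beq (act27 i) i) 0 3750 = true := by decide +kernel
theorem c27_1 : allRange (fun i => Nat.beq (act27 i) i) 3750 3750 = true := by decide +kernel
theorem c27_2 : allRange (fun i => Nat.beq (act27 i) i) 7500 3750 = true := by decide +kernel
theorem c27_3 : allRange (fun i => Nat.beq (act27 i) i) 11250 3750 = true := by decide +kernel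
theorem c27_4 : allRange (fun i => Nat.beq (act27 i) i) 15000 3750 = true := by decide +kernel
theorem c27_5 : allRange (fun i => Nat.beq (act27 i) i) 18750 3750 = true := by decide +kernel
theorem c27_6 : allRange (fun i => Nat.beq (act27 i) i) 22500 3750 = true := by decide +kernel
theorem c27_7 : allRange (fun i => Nat.beq (act27 i) i) 26250 3750 = true := by decide +kernel
theorem c27_8 : allRange (fun i => Nat.beq (act27 i) i) 30000 3750 = true := by decide +kernel
theorem c27_9 : allRange (fun i => Nat.beq (act27 i) i) 33750 3750 = true := by decide +kernel
theorem c27_10 : allRange (fun i => Nat.beq (act27 i) i) 37500 3750 = true := by decide +kernel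
theorem c27_11 : allRange (fun i => Nat.beq (act27 i) i) 41250 3750 = true := by decide +kernel
theorem c27_12 : allRange (fun i => Nat.beq (act27 i) i) 45000 3750 = true := by decide +kernel
theorem c27_13 : allRange (fun i => Nat.beq (act27 i) i) 48750 3750 = true := by decide +kernel
theorem c27_14 : allRange (fun i => Nat.beq (act27 i) i) 52500 3750 = true := by decide +kernel
theorem c27_15 : allRange (fun i => Nat.beq (act27 i) i) 56250 3750 = true := by decide +kernel
theorem c27_16 : allRange (fun i => Nat.beq (act27 i) i) 60000 3750 = true := by decide +kernel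
theorem c27_17 : allRange (fun i => Nat.beq (act27 i) i) 63750 1770 = true := by decide +kernel
theorem h27 : ∀ i, i < T.N → Tab.relActOK T D chk27 i = true := by
  intro i hi
  rw [Tab.relActOK, ← act27_eq]
  exact (range_glue (range_of_allRange c27_0) (range_glue (range_of_allRange c27_1) (range_glue (range_of_allRange c27_2) (range_glue (range_of_allRange c27_3) (range_glue (range_of_allRange c27_4) (range_glue (range_of_allRange c27_5) (range_glue (range_of_allRange c27_6) (range_glue (range_of_allRange c27_7) (range_glue (range_of_allRange c27_8) (range_glue (range_of_allRange c27_9) (range_glue (range_of_allRange c27_10) (range_glue (range_of_allRange c27_11) (range_glue (range_of_allRange c27_12) (range_glue (range_of_allRange c27_13) (range_glue (range_of_allRange c27_14) (range_glue (range_of_allRange c27_15) (range_glue (range_of_allRange c27_16) (range_of_allRange c27_17)))))))))))))))))) i (Nat.zero_le _) hi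

def chk28 : List Nat := [6, 6, 5, 5]
noncomputable def act28 (i : Nat) : Nat := col7 (col7 (col4 (col4 (i))))
theorem act28_eq (i : Nat) : act28 i = Tab.act T D chk28 i := rfl
theorem c28_0 : allRange (fun i => Nat.beq (act28 i) i) 0 10000 = true := by decide +kernel
theorem c28_1 : allRange (fun i => Nat.beq (act28 i) i) 10000 10000 = true := by decide +kernel
theorem c28_2 : allRange (fun i => Nat.beq (act28 i) i) 20000 10000 = true := by decide +kernel
theorem c28_3 : allRange (fun i => Nat.beq (act28 i) i) 30000 10000 = true := by decide +kernel
theorem c28_4 : allRange (fun i => Nat.beq (act28 i) i) 40000 10000 = true := by decide +kernel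
theorem c28_5 : allRange (fun i => Nat.beq (act28 i) i) 50000 10000 = true := by decide +kernel
theorem c28_6 : allRange (fun i => Nat.beq (act28 i) i) 60000 5520 = true := by decide +kernel
theorem h28 : ∀ i, i < T.N → Tab.relActOK T D chk28 i = true := by
  intro i hi
  rw [Tab.relActOK, ← act28_eq]
  exact (range_glue (range_of_allRange c28_0) (range_glue (range_of_allRange c28_1) (range_glue (range_of_allRange c28_2) (range_glue (range_of_allRange c28_3) (range_glue (range_of_allRange c28_4) (range_glue (range_of_allRange c28_5) (range_of_allRange c28_6))))))) i (Nat.zero_le _) hi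

def chk29 : List Nat := [0, 2, 1, 4, 6, 2, 7, 4, 5, 5]
noncomputable def act29 (i : Nat) : Nat := col1 (col3 (col0 (col5 (col7 (col3 (col6 (col5 (col4 (col4 (i))))))))))
theorem act29_eq (i : Nat) : act29 i = Tab.act T D chk29 i := rfl
theorem c29_0 : allRange (fun i => Nat.beq (act29 i) i) 0 5000 = true := by decide +kernel
theorem c29_1 : allRange (fun i => Nat.beq (act29 i) i) 5000 5000 = true := by decide +kernel
theorem c29_2 : allRange (fun i => Nat.beq (act29 i) i) 10000 5000 = true := by decide +kernel
theorem c29_3 : allRange (fun i => Nat.beq (act29 i) i) 15000 5000 = true := by decide +kernel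
theorem c29_4 : allRange (fun i => Nat.beq (act29 i) i) 20000 5000 = true := by decide +kernel
theorem c29_5 : allRange (fun i => Nat.beq (act29 i) i) 25000 5000 = true := by decide +kernel
theorem c29_6 : allRange (fun i => Nat.beq (act29 i) i) 30000 5000 = true := by decide +kernel
theorem c29_7 : allRange (fun i => Nat.beq (act29 i) i) 35000 5000 = true := by decide +kernel
theorem c29_8 : allRange (fun i => Nat.beq (act29 i) i) 40000 5000 = true := by decide +kernel
theorem c29_9 : allRange (fun i => Nat.beq (act29 i) i) 45000 5000 = true := by decide +kernel
theorem c29_10 : allRange (fun i => Nat.beq (act29 i) i) 50000 5000 = true := by decide +kernel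
theorem c29_11 : allRange (fun i => Nat.beq (act29 i) i) 55000 5000 = true := by decide +kernel
theorem c29_12 : allRange (fun i => Nat.beq (act29 i) i) 60000 5000 = true := by decide +kernel
theorem c29_13 : allRange (fun i => Nat.beq (act29 i) i) 65000 520 = true := by decide +kernel
theorem h29 : ∀ i, i < T.N → Tab.relActOK T D chk29 i = true := by
  intro i hi
  rw [Tab.relActOK, ← act29_eq]
  exact (range_glue (range_of_allRange c29_0) (range_glue (range_of_allRange c29_1) (range_glue (range_of_allRange c29_2) (range_glue (range_of_allRange c29_3) (range_glue (range_of_allRange c29_4) (range_glue (range_of_allRange c29_5) (range_glue (range_of_allRange c29_6) (range_glue (range_of_allRange c29_7) (range_glue (range_of_allRange c29_8) (range_glue (range_of_allRange c29_9) (range_glue (range_of_allRange c29_10) (range_glue (range_of_allRange c29_11) (range_glue (range_of_allRange c29_12) (range_of_allRange c29_13)))))))))))))) i (Nat.zero_le _) hi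

def chk30 : List Nat := [0, 2, 1, 7, 4, 1, 2, 0, 4, 6, 5, 5]
noncomputable def act30 (i : Nat) : Nat := col1 (col3 (col0 (col6 (col5 (col0 (col3 (col1 (col5 (col7 (col4 (col4 (i))))))))))))
theorem act30_eq (i : Nat) : act30 i = Tab.act T D chk30 i := rfl
theorem c30_0 : allRange (fun i => Nat.beq (act30 i) i) 0 4285 = true := by decide +kernel
theorem c30_1 : allRange (fun i => Nat.beq (act30 i) i) 4285 4285 = true := by decide +kernel
theorem c30_2 : allRange (fun i => Nat.beq (act30 i) i) 8570 4285 = true := by decide +kernel
theorem c30_3 : allRange (fun i => Nat.beq (act30 i) i) 12855 4285 = true := by decide +kernel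
theorem c30_4 : allRange (fun i => Nat.beq (act30 i) i) 17140 4285 = true := by decide +kernel
theorem c30_5 : allRange (fun i => Nat.beq (act30 i) i) 21425 4285 = true := by decide +kernel
theorem c30_6 : allRange (fun i => Nat.beq (act30 i) i) 25710 4285 = true := by decide +kernel
theorem c30_7 : allRange (fun i => Nat.beq (act30 i) i) 29995 4285 = true := by decide +kernel
theorem c30_8 : allRange (fun i => Nat.beq (act30 i) i) 34280 4285 = true := by decide +kernel
theorem c30_9 : allRange (fun i => Nat.beq (act30 i) i) 38565 4285 = true := by decide +kernel
theorem c30_10 : allRange (fun i => Nat.beq (act30 i) i) 42850 4285 = true := by decide +kernel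
theorem c30_11 : allRange (fun i => Nat.beq (act30 i) i) 47135 4285 = true := by decide +kernel
theorem c30_12 : allRange (fun i => Nat.beq (act30 i) i) 51420 4285 = true := by decide +kernel
theorem c30_13 : allRange (fun i => Nat.beq (act30 i) i) 55705 4285 = true := by decide +kernel
theorem c30_14 : allRange (fun i => Nat.beq (act30 i) i) 59990 4285 = true := by decide +kernel
theorem c30_15 : allRange (fun i => Nat.beq (act30 i) i) 64275 1245 = true := by decide +kernel
theorem h30 : ∀ i, i < T.N → Tab.relActOK T D chk30 i = true := by
  intro i hi
  rw [Tab.relActOK, ← act30_eq]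
  exact (range_glue (range_of_allRange c30_0) (range_glue (range_of_allRange c30_1) (range_glue (range_of_allRange c30_2) (range_glue (range_of_allRange c30_3) (range_glue (range_of_allRange c30_4) (range_glue (range_of_allRange c30_5) (range_glue (range_of_allRange c30_6) (range_glue (range_of_allRange c30_7) (range_glue (range_of_allRange c30_8) (range_glue (range_of_allRange c30_9) (range_glue (range_of_allRange c30_10) (range_glue (range_of_allRange c30_11) (range_glue (range_of_allRange c30_12) (range_glue (range_of_allRange c30_13) (range_glue (range_of_allRange c30_14) (range_of_allRange c30_15)))))))))))))))) i (Nat.zero_le _) hi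

def chk31 : List Nat := [0, 0, 4, 3, 1, 3, 1, 4, 2, 4, 3, 0, 6, 0, 6, 4, 7]
noncomputable def act31 (i : Nat) : Nat := col1 (col1 (col5 (col2 (col0 (col2 (col0 (col5 (col3 (col5 (col2 (col1 (col7 (col1 (col7 (col5 (col6 (i)))))))))))))))))
theorem act31_eq (i : Nat) : act31 i = Tab.act T D chk31 i := rfl
theorem c31_0 : allRange (fun i => Nat.beq (act31 i) i) 0 3157 = true := by decide +kernel
theorem c31_1 : allRange (fun i => Nat.beq (act31 i) i) 3157 3157 = true := by decide +kernel
theorem c31_2 : allRange (fun i => Nat.beq (act31 i) i) 6314 3157 = true := by decide +kernel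
theorem c31_3 : allRange (fun i => Nat.beq (act31 i) i) 9471 3157 = true := by decide +kernel
theorem c31_4 : allRange (fun i => Nat.beq (act31 i) i) 12628 3157 = true := by decide +kernel
theorem c31_5 : allRange (fun i => Nat.beq (act31 i) i) 15785 3157 = true := by decide +kernel
theorem c31_6 : allRange (fun i => Nat.beq (act31 i) i) 18942 3157 = true := by decide +kernel
theorem c31_7 : allRange (fun i => Nat.beq (act31 i) i) 22099 3157 = true := by decide +kernel
theorem c31_8 : allRange (fun i => Nat.beq (act31 i) i) 25256 3157 = true := by decide +kernel
theorem c31_9 : allRange (fun i => Nat.beq (act31 i) i) 28413 3157 = true := by decide +kernel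
theorem c31_10 : allRange (fun i => Nat.beq (act31 i) i) 31570 3157 = true := by decide +kernel
theorem c31_11 : allRange (fun i => Nat.beq (act31 i) i) 34727 3157 = true := by decide +kernel
theorem c31_12 : allRange (fun i => Nat.beq (act31 i) i) 37884 3157 = true := by decide +kernel
theorem c31_13 : allRange (fun i => Nat.beq (act31 i) i) 41041 3157 = true := by decide +kernel
theorem c31_14 : allRange (fun i => Nat.beq (act31 i) i) 44198 3157 = true := by decide +kernel
theorem c31_15 : allRange (fun i => Nat.beq (act31 i) i) 47355 3157 = true := by decide +kernel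
theorem c31_16 : allRange (fun i => Nat.beq (act31 i) i) 50512 3157 = true := by decide +kernel
theorem c31_17 : allRange (fun i => Nat.beq (act31 i) i) 53669 3157 = true := by decide +kernel
theorem c31_18 : allRange (fun i => Nat.beq (act31 i) i) 56826 3157 = true := by decide +kernel
theorem c31_19 : allRange (fun i => Nat.beq (act31 i) i) 59983 3157 = true := by decide +kernel
theorem c31_20 : allRange (fun i => Nat.beq (act31 i) i) 63140 2380 = true := by decide +kernel
theorem h31 : ∀ i, i < T.N → Tab.relActOK T D chk31 i = true := by
  intro i hi
  rw [Tab.relActOK, ← act31_eq]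
  exact (range_glue (range_of_allRange c31_0) (range_glue (range_of_allRange c31_1) (range_glue (range_of_allRange c31_2) (range_glue (range_of_allRange c31_3) (range_glue (range_of_allRange c31_4) (range_glue (range_of_allRange c31_5) (range_glue (range_of_allRange c31_6) (range_glue (range_of_allRange c31_7) (range_glue (range_of_allRange c31_8) (range_glue (range_of_allRange c31_9) (range_glue (range_of_allRange c31_10) (range_glue (range_of_allRange c31_11) (range_glue (range_of_allRange c31_12) (range_glue (range_of_allRange c31_13) (range_glue (range_of_allRange c31_14) (range_glue (range_of_allRange c31_15) (range_glue (range_of_allRange c31_16) (range_glue (range_of_allRange c31_17) (range_glue (range_of_allRange c31_18) (range_glue (range_of_allRange c31_19) (range_of_allRange c31_20))))))))))))))))))))) i (Nat.zero_le _) hi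

def chk32 : List Nat := [5, 5, 1, 4, 4, 0]
noncomputable def act32 (i : Nat) : Nat := col4 (col4 (col0 (col5 (col5 (col1 (i))))))
theorem act32_eq (i : Nat) : act32 i = Tab.act T D chk32 i := rfl
theorem c32_0 : allRange (fun i => Nat.beq (act32 i) i) 0 7500 = true := by decide +kernel
theorem c32_1 : allRange (fun i => Nat.beq (act32 i) i) 7500 7500 = true := by decide +kernel
theorem c32_2 : allRange (fun i => Nat.beq (act32 i) i) 15000 7500 = true := by decide +kernel
theorem c32_3 : allRange (fun i => Nat.beq (act32 i) i) 22500 7500 = true := by decide +kernel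
theorem c32_4 : allRange (fun i => Nat.beq (act32 i) i) 30000 7500 = true := by decide +kernel
theorem c32_5 : allRange (fun i => Nat.beq (act32 i) i) 37500 7500 = true := by decide +kernel
theorem c32_6 : allRange (fun i => Nat.beq (act32 i) i) 45000 7500 = true := by decide +kernel
theorem c32_7 : allRange (fun i => Nat.beq (act32 i) i) 52500 7500 = true := by decide +kernel
theorem c32_8 : allRange (fun i => Nat.beq (act32 i) i) 60000 5520 = true := by decide +kernel
theorem h32 : ∀ i, i < T.N → Tab.relActOK T D chk32 i = true := by
  intro i hi
  rw [Tab.relActOK, ← act32_eq]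
  exact (range_glue (range_of_allRange c32_0) (range_glue (range_of_allRange c32_1) (range_glue (range_of_allRange c32_2) (range_glue (range_of_allRange c32_3) (range_glue (range_of_allRange c32_4) (range_glue (range_of_allRange c32_5) (range_glue (range_of_allRange c32_6) (range_glue (range_of_allRange c32_7) (range_of_allRange c32_8))))))))) i (Nat.zero_le _) hi

def chk33 : List Nat := [5, 5, 3, 4, 4, 2]
noncomputable def act33 (i : Nat) : Nat := col4 (col4 (col2 (col5 (col5 (col3 (i))))))
theorem act33_eq (i : Nat) : act33 i = Tab.act T D chk33 i := rfl
theorem c33_0 : allRange (fun i => Nat.beq (act33 i) i) 0 7500 = true := by decide +kernel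
theorem c33_1 : allRange (fun i => Nat.beq (act33 i) i) 7500 7500 = true := by decide +kernel
theorem c33_2 : allRange (fun i => Nat.beq (act33 i) i) 15000 7500 = true := by decide +kernel
theorem c33_3 : allRange (fun i => Nat.beq (act33 i) i) 22500 7500 = true := by decide +kernel
theorem c33_4 : allRange (fun i => Nat.beq (act33 i) i) 30000 7500 = true := by decide +kernel
theorem c33_5 : allRange (fun i => Nat.beq (act33 i) i) 37500 7500 = true := by decide +kernel
theorem c33_6 : allRange (fun i => Nat.beq (act33 i) i) 45000 7500 = true := by decide +kernel
theorem c33_7 : allRange (fun i => Nat.beq (act33 i) i) 52500 7500 = true := by decide +kernel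
theorem c33_8 : allRange (fun i => Nat.beq (act33 i) i) 60000 5520 = true := by decide +kernel
theorem h33 : ∀ i, i < T.N → Tab.relActOK T D chk33 i = true := by
  intro i hi
  rw [Tab.relActOK, ← act33_eq]
  exact (range_glue (range_of_allRange c33_0) (range_glue (range_of_allRange c33_1) (range_glue (range_of_allRange c33_2) (range_glue (range_of_allRange c33_3) (range_glue (range_of_allRange c33_4) (range_glue (range_of_allRange c33_5) (range_glue (range_of_allRange c33_6) (range_glue (range_of_allRange c33_7) (range_of_allRange c33_8))))))))) i (Nat.zero_le _) hi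

def chk34 : List Nat := [5, 5, 7, 4, 4, 6]
noncomputable def act34 (i : Nat) : Nat := col4 (col4 (col6 (col5 (col5 (col7 (i))))))
theorem act34_eq (i : Nat) : act34 i = Tab.act T D chk34 i := rfl
theorem c34_0 : allRange (fun i => Nat.beq (act34 i) i) 0 7500 = true := by decide +kernel
theorem c34_1 : allRange (fun i => Nat.beq (act34 i) i) 7500 7500 = true := by decide +kernel
theorem c34_2 : allRange (fun i => Nat.beq (act34 i) i) 15000 7500 = true := by decide +kernel
theorem c34_3 : allRange (fun i => Nat.beq (act34 i) i) 22500 7500 = true := by decide +kernel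
theorem c34_4 : allRange (fun i => Nat.beq (act34 i) i) 30000 7500 = true := by decide +kernel
theorem c34_5 : allRange (fun i => Nat.beq (act34 i) i) 37500 7500 = true := by decide +kernel
theorem c34_6 : allRange (fun i => Nat.beq (act34 i) i) 45000 7500 = true := by decide +kernel
theorem c34_7 : allRange (fun i => Nat.beq (act34 i) i) 52500 7500 = true := by decide +kernel
theorem c34_8 : allRange (fun i => Nat.beq (act34 i) i) 60000 5520 = true := by decide +kernel
theorem h34 : ∀ i, i < T.N → Tab.relActOK T D chk34 i = true := by
  intro i hi
  rw [Tab.relActOK, ← act34_eq]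
  exact (range_glue (range_of_allRange c34_0) (range_glue (range_of_allRange c34_1) (range_glue (range_of_allRange c34_2) (range_glue (range_of_allRange c34_3) (range_glue (range_of_allRange c34_4) (range_glue (range_of_allRange c34_5) (range_glue (range_of_allRange c34_6) (range_glue (range_of_allRange c34_7) (range_of_allRange c34_8))))))))) i (Nat.zero_le _) hi

def chkAll : List (List Nat) := [chk0, chk1, chk2, chk3, chk4, chk5, chk6, chk7, chk8, chk9, chk10, chk11, chk12, chk13, chk14, chk15, chk16, chk17, chk18, chk19, chk20, chk21, chk22, chk23, chk24, chk25, chk26, chk27, chk28, chk29, chk30, chk31, chk32, chk33, chk34]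
theorem hAll : ∀ w ∈ chkAll, ∀ i, i < T.N → Tab.relActOK T D w i = true := by
  intro w hw
  simp only [chkAll, List.mem_cons, List.not_mem_nil, or_false] at hw
  rcases hw with rfl | rfl | rfl | rfl | rfl | rfl | rfl | rfl | rfl | rfl | rfl | rfl | rfl | rfl | rfl | rfl | rfl | rfl | rfl | rfl | rfl | rfl | rfl | rfl | rfl | rfl | rfl | rfl | rfl | rfl | rfl | rfl | rfl | rfl | rfl
  · exact h0
  · exact h1
  · exact h2
  · exact h3
  · exact h4
  · exact h5
  · exact h6
  · exact h7
  · exact h8
  · exact h9
  · exact h10
  · exact h11
  · exact h12
  · exact h13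
  · exact h14
  · exact h15
  · exact h16
  · exact h17
  · exact h18
  · exact h19
  · exact h20
  · exact h21
  · exact h22
  · exact h23
  · exact h24
  · exact h25
  · exact h26
  · exact h27
  · exact h28
  · exact h29
  · exact h30
  · exact h31
  · exact h32
  · exact h33
  · exact h34
theorem hAll_lt : ∀ w ∈ chkAll, ∀ x ∈ w, x < 12 := by decide +kernel

end Cfsg.Agent.Lib.Helper4.TCD.SC2Suzp5W
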