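import Cfsg.Agent.Lib.Helper4.TCD_SC3Suzp3A_Acc

namespace Cfsg.Agent.Lib.Helper4.TCD.SC3Suzp3A

open Cfsg.Agent.Lib.Helper4.TC

set_option maxRecDepth 100000
set_option Elab.async false

theorem c_fin_2 : allGrid (T.finOK D) 480 240 50 = true := by decide +kernel
theorem c_fin_3 : allGrid (T.finOK D) 720 240 50 = true := by decide +kernel
theorem c_fin_4 : allGrid (T.finOK D) 960 240 50 = true := by decide +kernel
theorem c_fin_5 : allGrid (T.finOK D) 1200 240 50 = true := by decide +kernel
theorem c_fin_6 : allGrid (T.finOK D) 1440 240 50 = true := by decide +kernel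
theorem c_fin_7 : allGrid (T.finOK D) 1680 240 50 = true := by decide +kernel
theorem c_fin_8 : allGrid (T.finOK D) 1920 240 50 = true := by decide +kernel
theorem c_fin_9 : allGrid (T.finOK D) 2160 240 50 = true := by decide +kernel
theorem c_fin_10 : allGrid (T.finOK D) 2400 240 50 = true := by decide +kernel
theorem c_fin_11 : allGrid (T.finOK D) 2640 240 50 = true := by decide +kernel
theorem c_fin_12 : allGrid (T.finOK D) 2880 240 50 = true := by decide +kernel
theorem c_fin_13 : allGrid (T.finOK D) 3120 240 50 = true := by decide +kernel
theorem c_fin_14 : allGrid (T.finOK D) 3360 240 50 = true := by decide +kernel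
theorem c_fin_15 : allGrid (T.finOK D) 3600 240 50 = true := by decide +kernel
theorem c_fin_16 : allGrid (T.finOK D) 3840 240 50 = true := by decide +kernel
theorem c_fin_17 : allGrid (T.finOK D) 4080 240 50 = true := by decide +kernel
theorem c_fin_18 : allGrid (T.finOK D) 4320 240 50 = true := by decide +kernel
theorem c_fin_19 : allGrid (T.finOK D) 4560 240 50 = true := by decide +kernel
theorem c_fin_20 : allGrid (T.finOK D) 4800 240 50 = true := by decide +kernel
theorem c_fin_21 : allGrid (T.finOK D) 5040 240 50 = true := by decide +kernel
theorem c_fin_22 : allGrid (T.finOK D) 5280 66 50 = true := by decide +kernel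
theorem c_perm_0 : allGrid (T.permOK1 D) 0 600 50 = true := by decide +kernel
theorem c_perm_1 : allGrid (T.permOK1 D) 600 600 50 = true := by decide +kernel
theorem c_perm_2 : allGrid (T.permOK1 D) 1200 600 50 = true := by decide +kernel
theorem c_perm_3 : allGrid (T.permOK1 D) 1800 600 50 = true := by decide +kernel
theorem c_perm_4 : allGrid (T.permOK1 D) 2400 600 50 = true := by decide +kernel
theorem c_perm_5 : allGrid (T.permOK1 D) 3000 600 50 = true := by decide +kernel
theorem c_perm_6 : allGrid (T.permOK1 D) 3600 600 50 = true := by decide +kernel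
theorem c_perm_7 : allGrid (T.permOK1 D) 4200 600 50 = true := by decide +kernel
theorem c_perm_8 : allGrid (T.permOK1 D) 4800 546 50 = true := by decide +kernel
theorem c_act0_0 : allRange (fun i => Nat.beq (actR0 i) i) 0 5346 = true := by decide +kernel
theorem c_act1_0 : allRange (fun i => Nat.beq (actR1 i) i) 0 5346 = true := by decide +kernel
theorem c_act2_0 : allRange (fun i => Nat.beq (actR2 i) i) 0 5346 = true := by decide +kernel
theorem c_act3_0 : allRange (fun i => Nat.beq (actR3 i) i) 0 5346 = true := by decide +kernel
theorem c_act4_0 : allRange (fun i => Nat.beq (actR4 i) i) 0 5346 = true := by decide +kernel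
theorem c_act5_0 : allRange (fun i => Nat.beq (actR5 i) i) 0 1818 = true := by decide +kernel
theorem c_act5_1 : allRange (fun i => Nat.beq (actR5 i) i) 1818 1818 = true := by decide +kernel
theorem c_act5_2 : allRange (fun i => Nat.beq (actR5 i) i) 3636 1710 = true := by decide +kernel
theorem c_act6_0 : allRange (fun i => Nat.beq (actR6 i) i) 0 5346 = true := by decide +kernel
theorem c_act7_0 : allRange (fun i => Nat.beq (actR7 i) i) 0 4615 = true := by decide +kernel
theorem c_act7_1 : allRange (fun i => Nat.beq (actR7 i) i) 4615 731 = true := by decide +kernel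
theorem c_act8_0 : allRange (fun i => Nat.beq (actR8 i) i) 0 4615 = true := by decide +kernel
theorem c_act8_1 : allRange (fun i => Nat.beq (actR8 i) i) 4615 731 = true := by decide +kernel
theorem c_act9_0 : allRange (fun i => Nat.beq (actR9 i) i) 0 4000 = true := by decide +kernel
theorem c_act9_1 : allRange (fun i => Nat.beq (actR9 i) i) 4000 1346 = true := by decide +kernel
theorem c_act10_0 : allRange (fun i => Nat.beq (actR10 i) i) 0 4000 = true := by decide +kernel
theorem c_act10_1 : allRange (fun i => Nat.beq (actR10 i) i) 4000 1346 = true := by decide +kernel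
theorem c_act11_0 : allRange (fun i => Nat.beq (actR11 i) i) 0 4000 = true := by decide +kernel
theorem c_act11_1 : allRange (fun i => Nat.beq (actR11 i) i) 4000 1346 = true := by decide +kernel
theorem c_act12_0 : allRange (fun i => Nat.beq (actR12 i) i) 0 4000 = true := by decide +kernel
theorem c_act12_1 : allRange (fun i => Nat.beq (actR12 i) i) 4000 1346 = true := by decide +kernel
theorem c_act13_0 : allRange (fun i => Nat.beq (actR13 i) i) 0 4000 = true := by decide +kernel
theorem c_act13_1 : allRange (fun i => Nat.beq (actR13 i) i) 4000 1346 = true := by decide +kernel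
theorem c_act14_0 : allRange (fun i => Nat.beq (actR14 i) i) 0 4000 = true := by decide +kernel
theorem c_act14_1 : allRange (fun i => Nat.beq (actR14 i) i) 4000 1346 = true := by decide +kernel
theorem c_act15_0 : allRange (fun i => Nat.beq (actR15 i) i) 0 4000 = true := by decide +kernel
theorem c_act15_1 : allRange (fun i => Nat.beq (actR15 i) i) 4000 1346 = true := by decide +kernel
theorem c_act16_0 : allRange (fun i => Nat.beq (actR16 i) i) 0 4000 = true := by decide +kernel
theorem c_act16_1 : allRange (fun i => Nat.beq (actR16 i) i) 4000 1346 = true := by decide +kernel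
theorem c_act17_0 : allRange (fun i => Nat.beq (actR17 i) i) 0 4000 = true := by decide +kernel
theorem c_act17_1 : allRange (fun i => Nat.beq (actR17 i) i) 4000 1346 = true := by decide +kernel
theorem c_act18_0 : allRange (fun i => Nat.beq (actR18 i) i) 0 4000 = true := by decide +kernel

end Cfsg.Agent.Lib.Helper4.TCD.SC3Suzp3A
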