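import Cfsg.Agent.Lib.Helper4.TCD_SC3Suzp3A_Acc

namespace Cfsg.Agent.Lib.Helper4.TCD.SC3Suzp3A

open Cfsg.Agent.Lib.Helper4.TC

set_option maxRecDepth 100000
set_option Elab.async false

theorem c_act159_0 : allRange (fun i => Nat.beq (actR159 i) i) 0 5346 = true := by decide +kernel
theorem c_act160_0 : allRange (fun i => Nat.beq (actR160 i) i) 0 5000 = true := by decide +kernel
theorem c_act160_1 : allRange (fun i => Nat.beq (actR160 i) i) 5000 346 = true := by decide +kernel
theorem c_act161_0 : allRange (fun i => Nat.beq (actR161 i) i) 0 5000 = true := by decide +kernel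
theorem c_act161_1 : allRange (fun i => Nat.beq (actR161 i) i) 5000 346 = true := by decide +kernel
theorem c_act162_0 : allRange (fun i => Nat.beq (actR162 i) i) 0 5346 = true := by decide +kernel
theorem c_act163_0 : allRange (fun i => Nat.beq (actR163 i) i) 0 5346 = true := by decide +kernel
theorem c_act164_0 : allRange (fun i => Nat.beq (actR164 i) i) 0 5000 = true := by decide +kernel
theorem c_act164_1 : allRange (fun i => Nat.beq (actR164 i) i) 5000 346 = true := by decide +kernel
theorem c_act165_0 : allRange (fun i => Nat.beq (actR165 i) i) 0 5346 = true := by decide +kernel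
theorem c_act166_0 : allRange (fun i => Nat.beq (actR166 i) i) 0 5346 = true := by decide +kernel
theorem c_act167_0 : allRange (fun i => Nat.beq (actR167 i) i) 0 5346 = true := by decide +kernel
theorem c_act168_0 : allRange (fun i => Nat.beq (actR168 i) i) 0 3529 = true := by decide +kernel
theorem c_act168_1 : allRange (fun i => Nat.beq (actR168 i) i) 3529 1817 = true := by decide +kernel

end Cfsg.Agent.Lib.Helper4.TCD.SC3Suzp3A
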