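import Cfsg.Agent.Lib.Helper4.TCD_Suz1_Acc
import Cfsg.Agent.Lib.Helper4.TC13

namespace Cfsg.Agent.Lib.Helper4.TCD.SuzpSuzS

open Cfsg.Agent.Lib.Helper4.TC Cfsg.Agent.Lib.Helper4.TCD.Suz1

set_option maxRecDepth 100000
set_option Elab.async false

def chk0 : List Nat := [3, 2, 3, 2, 1, 0, 1, 2, 4, 3, 2, 1, 0, 3, 2, 1, 0, 4, 3, 2, 1, 3, 4, 3, 2, 3, 2, 1, 0, 1, 2, 4, 3, 2, 1, 0, 3, 2, 1, 0, 4, 3, 2, 1, 3, 4, 3, 2, 3, 2, 1, 0, 1, 2, 4, 3, 2, 1, 0, 3, 2, 1, 0, 4, 3, 2, 1, 3, 4, 3, 2, 3, 2, 1, 0, 1, 2, 4, 3, 2, 1, 0, 3, 2, 1, 0, 4, 3, 2, 1, 3, 4, 3, 2, 3, 2, 1, 0, 1, 2, 4, 3, 2, 1, 0, 3, 2, 1, 0, 4, 3, 2, 1, 3, 4, 3, 2, 3, 2, 1, 0, 1, 2, 4, 3, 2, 1, 0, 3, 2, 1, 0, 4, 3, 2, 1, 3, 4, 3, 2, 3, 2, 1, 0, 1, 2, 4, 3, 2, 1, 0, 3, 2, 1, 0, 4, 3, 2, 1, 3, 4]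
noncomputable def act0 (i : Nat) : Nat := col3 (col2 (col3 (col2 (col1 (col0 (col1 (col2 (col4 (col3 (col2 (col1 (col0 (col3 (col2 (col1 (col0 (col4 (col3 (col2 (col1 (col3 (col4 (col3 (col2 (col3 (col2 (col1 (col0 (col1 (col2 (col4 (col3 (col2 (col1 (col0 (col3 (col2 (col1 (col0 (col4 (col3 (col2 (col1 (col3 (col4 (col3 (col2 (col3 (col2 (col1 (col0 (col1 (col2 (col4 (col3 (col2 (col1 (col0 (col3 (col2 (col1 (col0 (col4 (col3 (col2 (col1 (col3 (col4 (col3 (col2 (col3 (col2 (col1 (col0 (col1 (col2 (col4 (col3 (col2 (col1 (col0 (col3 (col2 (col1 (col0 (col4 (col3 (col2 (col1 (col3 (col4 (col3 (col2 (col3 (col2 (col1 (col0 (col1 (col2 (col4 (col3 (col2 (col1 (col0 (col3 (col2 (col1 (col0 (col4 (col3 (col2 (col1 (col3 (col4 (col3 (col2 (col3 (col2 (col1 (col0 (col1 (col2 (col4 (col3 (col2 (col1 (col0 (col3 (col2 (col1 (col0 (col4 (col3 (col2 (col1 (col3 (col4 (col3 (col2 (col3 (col2 (col1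 (col0 (col1 (col2 (col4 (col3 (col2 (col1 (col0 (col3 (col2 (col1 (col0 (col4 (col3 (col2 (col1 (col3 (col4 (i)))))))))))))))))))))))))))))))))))))))))))))))))))))))))))))))))))))))))))))))))))))))))))))))))))))))))))))))))))))))))))))))))))))))))))))))))))))))))))))))))
theorem act0_eq (i : Nat) : act0 i = Tab.act T D chk0 i := rfl
theorem c0_0 : allRange (fun i => Nat.beq (act0 i) i) 0 368 = true := by decide +kernel
theorem c0_1 : allRange (fun i => Nat.beq (act0 i) i) 368 368 = true := by decide +kernel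
theorem c0_2 : allRange (fun i => Nat.beq (act0 i) i) 736 368 = true := by decide +kernel
theorem c0_3 : allRange (fun i => Nat.beq (act0 i) i) 1104 368 = true := by decide +kernel
theorem c0_4 : allRange (fun i => Nat.beq (act0 i) i) 1472 310 = true := by decide +kernel
theorem h0 : ∀ i, i < T.N → Tab.relActOK T D chk0 i = true := by
  intro i hi
  rw [Tab.relActOK, ← act0_eq]
  exact (range_glue (range_of_allRange c0_0) (range_glue (range_of_allRange c0_1) (range_glue (range_of_allRange c0_2) (range_glue (range_of_allRange c0_3) (range_of_allRange c0_4))))) i (Nat.zero_le _) hi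

def chk1 : List Nat := [3, 2, 3, 2, 1, 0, 1, 2, 4, 3, 2, 1, 0, 3, 2, 1, 0, 4, 3, 2, 1, 3, 4, 3, 2, 3, 2, 1, 0, 1, 2, 4, 3, 2, 1, 0, 3, 2, 1, 0, 4, 3, 2, 1, 3, 4, 1, 0, 1, 2, 3, 2, 4, 3, 2, 1, 0, 1, 0, 2, 3, 2, 1, 0, 4, 3, 2, 1, 0, 3, 2, 4, 3, 1, 2, 3, 4, 0, 1, 2, 3, 0, 1, 2, 3, 4, 2, 1, 0, 1, 2, 3, 2, 3, 1, 0, 1, 2, 3, 2, 4, 3, 2, 1, 0, 1, 0, 2, 3, 2, 1, 0, 4, 3, 2, 1, 0, 3, 2, 3, 2, 3, 2, 1, 0, 1, 2, 4, 3, 2, 1, 0, 3, 2, 1, 0, 4, 3, 2, 1, 3, 4, 2, 3, 0, 1, 2, 3, 4, 0, 1, 2, 3, 2, 0, 1, 0, 1, 2, 3, 4, 2, 3, 2, 1, 0, 1, 3, 2, 3, 2, 1, 0, 1, 2, 4, 3, 2, 1, 0, 3, 2, 1, 0, 4, 3, 2, 1, 3, 4, 1, 0, 1, 2, 3, 2, 4, 3, 2, 1, 0, 1, 0, 2, 3, 2, 1, 0, 4, 3, 2, 1, 0, 3, 2, 4, 3, 1, 2, 3, 4, 0, 1, 2, 3, 0, 1, 2, 3, 4, 2, 1, 0, 1, 2, 3, 2, 3, 1, 0, 1, 2, 3, 2, 4, 3, 2, 1, 0, 1, 0, 2, 3, 2, 1, 0, 4, 3, 2, 1, 0, 3, 2]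
noncomputable def act1 (i : Nat) : Nat := col3 (col2 (col3 (col2 (col1 (col0 (col1 (col2 (col4 (col3 (col2 (col1 (col0 (col3 (col2 (col1 (col0 (col4 (col3 (col2 (col1 (col3 (col4 (col3 (col2 (col3 (col2 (col1 (col0 (col1 (col2 (col4 (col3 (col2 (col1 (col0 (col3 (col2 (col1 (col0 (col4 (col3 (col2 (col1 (col3 (col4 (col1 (col0 (col1 (col2 (col3 (col2 (col4 (col3 (col2 (col1 (col0 (col1 (col0 (col2 (col3 (col2 (col1 (col0 (col4 (col3 (col2 (col1 (col0 (col3 (col2 (col4 (col3 (col1 (col2 (col3 (col4 (col0 (col1 (col2 (col3 (col0 (col1 (col2 (col3 (col4 (col2 (col1 (col0 (col1 (col2 (col3 (col2 (col3 (col1 (col0 (col1 (col2 (col3 (col2 (col4 (col3 (col2 (col1 (col0 (col1 (col0 (col2 (col3 (col2 (col1 (col0 (col4 (col3 (col2 (col1 (col0 (col3 (col2 (col3 (col2 (col3 (col2 (col1 (col0 (col1 (col2 (col4 (col3 (col2 (col1 (col0 (col3 (col2 (col1 (col0 (col4 (col3 (col2 (col1 (col3 (col4 (col2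 (col3 (col0 (col1 (col2 (col3 (col4 (col0 (col1 (col2 (col3 (col2 (col0 (col1 (col0 (col1 (col2 (col3 (col4 (col2 (col3 (col2 (col1 (col0 (col1 (col3 (col2 (col3 (col2 (col1 (col0 (col1 (col2 (col4 (col3 (col2 (col1 (col0 (col3 (col2 (col1 (col0 (col4 (col3 (col2 (col1 (col3 (col4 (col1 (col0 (col1 (col2 (col3 (col2 (col4 (col3 (col2 (col1 (col0 (col1 (col0 (col2 (col3 (col2 (col1 (col0 (col4 (col3 (col2 (col1 (col0 (col3 (col2 (col4 (col3 (col1 (col2 (col3 (col4 (col0 (col1 (col2 (col3 (col0 (col1 (col2 (col3 (col4 (col2 (col1 (col0 (col1 (col2 (col3 (col2 (col3 (col1 (col0 (col1 (col2 (col3 (col2 (col4 (col3 (col2 (col1 (col0 (col1 (col0 (col2 (col3 (col2 (col1 (col0 (col4 (col3 (col2 (col1 (col0 (col3 (col2 (i)))))))))))))))))))))))))))))))))))))))))))))))))))))))))))))))))))))))))))))))))))))))))))))))))))))))))))))))))))))))))))))))))))))))))))))))))))))))))))))))))))))))))))))))))))))))))))))))))))))))))))))))))))))))))))))))))))))))))))))))))))))))))))))))))))))))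
theorem act1_eq (i : Nat) : act1 i = Tab.act T D chk1 i := rfl
theorem c1_0 : allRange (fun i => Nat.beq (act1 i) i) 0 226 = true := by decide +kernel
theorem c1_1 : allRange (fun i => Nat.beq (act1 i) i) 226 226 = true := by decide +kernel
theorem c1_2 : allRange (fun i => Nat.beq (act1 i) i) 452 226 = true := by decide +kernel
theorem c1_3 : allRange (fun i => Nat.beq (act1 i) i) 678 226 = true := by decide +kernel
theorem c1_4 : allRange (fun i => Nat.beq (act1 i) i) 904 226 = true := by decide +kernel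
theorem c1_5 : allRange (fun i => Nat.beq (act1 i) i) 1130 226 = true := by decide +kernel
theorem c1_6 : allRange (fun i => Nat.beq (act1 i) i) 1356 226 = true := by decide +kernel
theorem c1_7 : allRange (fun i => Nat.beq (act1 i) i) 1582 200 = true := by decide +kernel
theorem h1 : ∀ i, i < T.N → Tab.relActOK T D chk1 i = true := by
  intro i hi
  rw [Tab.relActOK, ← act1_eq]
  exact (range_glue (range_of_allRange c1_0) (range_glue (range_of_allRange c1_1) (range_glue (range_of_allRange c1_2) (range_glue (range_of_allRange c1_3) (range_glue (range_of_allRange c1_4) (range_glue (range_of_allRange c1_5) (range_glue (range_of_allRange c1_6) (range_of_allRange c1_7)))))))) i (Nat.zero_le _) hi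

def chk2 : List Nat := [3, 2, 3, 2, 1, 0, 1, 2, 4, 3, 2, 1, 0, 3, 2, 1, 0, 4, 3, 2, 1, 3, 4, 3, 2, 3, 2, 1, 0, 1, 2, 4, 3, 2, 1, 0, 3, 2, 1, 0, 4, 3, 2, 1, 3, 4, 3, 2, 3, 2, 1, 0, 1, 2, 4, 3, 2, 1, 0, 3, 2, 1, 0, 4, 3, 2, 1, 3, 4, 1, 0, 1, 2, 3, 2, 4, 3, 2, 1, 0, 1, 0, 2, 3, 2, 1, 0, 4, 3, 2, 1, 0, 3, 2, 3, 2, 3, 2, 1, 0, 1, 2, 4, 3, 2, 1, 0, 3, 2, 1, 0, 4, 3, 2, 1, 3, 4, 3, 2, 3, 2, 1, 0, 1, 2, 4, 3, 2, 1, 0, 3, 2, 1, 0, 4, 3, 2, 1, 3, 4, 3, 2, 3, 2, 1, 0, 1, 2, 4, 3, 2, 1, 0, 3, 2, 1, 0, 4, 3, 2, 1, 3, 4, 1, 0, 1, 2, 3, 2, 4, 3, 2, 1, 0, 1, 0, 2, 3, 2, 1, 0, 4, 3, 2, 1, 0, 3, 2, 3, 2, 3, 2, 1, 0, 1, 2, 4, 3, 2, 1, 0, 3, 2, 1, 0, 4, 3, 2, 1, 3, 4, 3, 2, 3, 2, 1, 0, 1, 2, 4, 3, 2, 1, 0, 3, 2, 1, 0, 4, 3, 2, 1, 3, 4, 3, 2, 3, 2, 1, 0, 1, 2, 4, 3, 2, 1, 0, 3, 2, 1, 0, 4, 3, 2, 1, 3, 4, 1, 0, 1, 2, 3, 2, 4, 3, 2, 1, 0, 1, 0, 2, 3, 2, 1, 0, 4, 3, 2, 1, 0, 3, 2]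
noncomputable def act2 (i : Nat) : Nat := col3 (col2 (col3 (col2 (col1 (col0 (col1 (col2 (col4 (col3 (col2 (col1 (col0 (col3 (col2 (col1 (col0 (col4 (col3 (col2 (col1 (col3 (col4 (col3 (col2 (col3 (col2 (col1 (col0 (col1 (col2 (col4 (col3 (col2 (col1 (col0 (col3 (col2 (col1 (col0 (col4 (col3 (col2 (col1 (col3 (col4 (col3 (col2 (col3 (col2 (col1 (col0 (col1 (col2 (col4 (col3 (col2 (col1 (col0 (col3 (col2 (col1 (col0 (col4 (col3 (col2 (col1 (col3 (col4 (col1 (col0 (col1 (col2 (col3 (col2 (col4 (col3 (col2 (col1 (col0 (col1 (col0 (col2 (col3 (col2 (col1 (col0 (col4 (col3 (col2 (col1 (col0 (col3 (col2 (col3 (col2 (col3 (col2 (col1 (col0 (col1 (col2 (col4 (col3 (col2 (col1 (col0 (col3 (col2 (col1 (col0 (col4 (col3 (col2 (col1 (col3 (col4 (col3 (col2 (col3 (col2 (col1 (col0 (col1 (col2 (col4 (col3 (col2 (col1 (col0 (col3 (col2 (col1 (col0 (col4 (col3 (col2 (col1 (col3 (col4 (col3 (col2 (col3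 (col2 (col1 (col0 (col1 (col2 (col4 (col3 (col2 (col1 (col0 (col3 (col2 (col1 (col0 (col4 (col3 (col2 (col1 (col3 (col4 (col1 (col0 (col1 (col2 (col3 (col2 (col4 (col3 (col2 (col1 (col0 (col1 (col0 (col2 (col3 (col2 (col1 (col0 (col4 (col3 (col2 (col1 (col0 (col3 (col2 (col3 (col2 (col3 (col2 (col1 (col0 (col1 (col2 (col4 (col3 (col2 (col1 (col0 (col3 (col2 (col1 (col0 (col4 (col3 (col2 (col1 (col3 (col4 (col3 (col2 (col3 (col2 (col1 (col0 (col1 (col2 (col4 (col3 (col2 (col1 (col0 (col3 (col2 (col1 (col0 (col4 (col3 (col2 (col1 (col3 (col4 (col3 (col2 (col3 (col2 (col1 (col0 (col1 (col2 (col4 (col3 (col2 (col1 (col0 (col3 (col2 (col1 (col0 (col4 (col3 (col2 (col1 (col3 (col4 (col1 (col0 (col1 (col2 (col3 (col2 (col4 (col3 (col2 (col1 (col0 (col1 (col0 (col2 (col3 (col2 (col1 (col0 (col4 (col3 (col2 (col1 (col0 (col3 (col2 (i))))))))))))))))))))))))))))))))))))))))))))))))))))))))))))))))))))))))))))))))))))))))))))))))))))))))))))))))))))))))))))))))))))))))))))))))))))))))))))))))))))))))))))))))))))))))))))))))))))))))))))))))))))))))))))))))))))))))))))))))))))))))))))))))))))))))))))))))))))))))))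
theorem act2_eq (i : Nat) : act2 i = Tab.act T D chk2 i := rfl
theorem c2_0 : allRange (fun i => Nat.beq (act2 i) i) 0 211 = true := by decide +kernel
theorem c2_1 : allRange (fun i => Nat.beq (act2 i) i) 211 211 = true := by decide +kernel
theorem c2_2 : allRange (fun i => Nat.beq (act2 i) i) 422 211 = true := by decide +kernel
theorem c2_3 : allRange (fun i => Nat.beq (act2 i) i) 633 211 = true := by decide +kernel
theorem c2_4 : allRange (fun i => Nat.beq (act2 i) i) 844 211 = true := by decide +kernel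
theorem c2_5 : allRange (fun i => Nat.beq (act2 i) i) 1055 211 = true := by decide +kernel
theorem c2_6 : allRange (fun i => Nat.beq (act2 i) i) 1266 211 = true := by decide +kernel
theorem c2_7 : allRange (fun i => Nat.beq (act2 i) i) 1477 211 = true := by decide +kernel
theorem c2_8 : allRange (fun i => Nat.beq (act2 i) i) 1688 94 = true := by decide +kernel
theorem h2 : ∀ i, i < T.N → Tab.relActOK T D chk2 i = true := by
  intro i hi
  rw [Tab.relActOK, ← act2_eq]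
  exact (range_glue (range_of_allRange c2_0) (range_glue (range_of_allRange c2_1) (range_glue (range_of_allRange c2_2) (range_glue (range_of_allRange c2_3) (range_glue (range_of_allRange c2_4) (range_glue (range_of_allRange c2_5) (range_glue (range_of_allRange c2_6) (range_glue (range_of_allRange c2_7) (range_of_allRange c2_8))))))))) i (Nat.zero_le _) hi

def chk3 : List Nat := [3, 2, 3, 2, 1, 0, 1, 2, 4, 3, 2, 1, 0, 3, 2, 1, 0, 4, 3, 2, 1, 3, 4, 3, 2, 3, 2, 1, 0, 1, 2, 4, 3, 2, 1, 0, 3, 2, 1, 0, 4, 3, 2, 1, 3, 4, 1, 0, 1, 2, 3, 2, 4, 3, 2, 1, 0, 1, 0, 2, 3, 2, 1, 0, 4, 3, 2, 1, 0, 3, 2, 1, 0, 1, 2, 3, 2, 4, 3, 2, 1, 0, 1, 0, 2, 3, 2, 1, 0, 4, 3, 2, 1, 0, 3, 2, 3, 2, 3, 2, 1, 0, 1, 2, 4, 3, 2, 1, 0, 3, 2, 1, 0, 4, 3, 2, 1, 3, 4, 3, 2, 3, 2, 1, 0, 1, 2, 4, 3, 2, 1, 0, 3, 2, 1, 0, 4, 3, 2, 1, 3, 4, 2, 3, 0, 1, 2, 3, 4, 0, 1, 2, 3, 2, 0, 1, 0, 1, 2, 3, 4, 2, 3, 2, 1, 0, 1, 2, 3, 0, 1, 2,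 3, 4, 0, 1, 2, 3, 2, 0, 1, 0, 1, 2, 3, 4, 2, 3, 2, 1, 0, 1, 3, 2, 3, 2, 1, 0, 1, 2, 4, 3, 2, 1, 0, 3, 2, 1, 0, 4, 3, 2, 1, 3, 4, 3, 2, 3, 2, 1, 0, 1, 2, 4, 3, 2, 1, 0, 3, 2, 1, 0, 4, 3, 2, 1, 3, 4, 2, 3, 0, 1, 2, 3, 4, 0, 1, 2, 3, 2, 0, 1, 0, 1, 2, 3, 4, 2, 3, 2, 1, 0, 1, 2, 3, 0, 1, 2, 3, 4, 0, 1, 2, 3, 2, 0, 1, 0, 1, 2, 3, 4, 2, 3, 2, 1, 0, 1]
noncomputable def act3 (i : Nat) : Nat := col3 (col2 (col3 (col2 (col1 (col0 (col1 (col2 (col4 (col3 (col2 (col1 (col0 (col3 (col2 (col1 (col0 (col4 (col3 (col2 (col1 (col3 (col4 (col3 (col2 (col3 (col2 (col1 (col0 (col1 (col2 (col4 (col3 (col2 (col1 (col0 (col3 (col2 (col1 (col0 (col4 (col3 (col2 (col1 (col3 (col4 (col1 (col0 (col1 (col2 (col3 (col2 (col4 (col3 (col2 (col1 (col0 (col1 (col0 (col2 (col3 (col2 (col1 (col0 (col4 (col3 (col2 (col1 (col0 (col3 (col2 (col1 (col0 (col1 (col2 (col3 (col2 (col4 (col3 (col2 (col1 (col0 (col1 (col0 (col2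 (col3 (col2 (col1 (col0 (col4 (col3 (col2 (col1 (col0 (col3 (col2 (col3 (col2 (col3 (col2 (col1 (col0 (col1 (col2 (col4 (col3 (col2 (col1 (col0 (col3 (col2 (col1 (col0 (col4 (col3 (col2 (col1 (col3 (col4 (col3 (col2 (col3 (col2 (col1 (col0 (col1 (col2 (col4 (col3 (col2 (col1 (col0 (col3 (col2 (col1 (col0 (col4 (col3 (col2 (col1 (col3 (col4 (col2 (col3 (col0 (col1 (col2 (col3 (col4 (col0 (col1 (col2 (col3 (col2 (col0 (col1 (col0 (col1 (col2 (col3 (col4 (col2 (col3 (col2 (col1 (col0 (col1 (col2 (col3 (col0 (col1 (col2 (col3 (col4 (col0 (col1 (col2 (col3 (col2 (col0 (col1 (col0 (col1 (col2 (col3 (col4 (col2 (col3 (col2 (col1 (col0 (col1 (col3 (col2 (col3 (col2 (col1 (col0 (col1 (col2 (col4 (col3 (col2 (col1 (col0 (col3 (col2 (col1 (col0 (col4 (col3 (col2 (col1 (col3 (col4 (col3 (col2 (col3 (col2 (col1 (col0 (col1 (col2 (col4 (col3 (col2 (col1 (col0 (col3 (col2 (col1 (col0 (col4 (col3 (col2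 (col1 (col3 (col4 (col2 (col3 (col0 (col1 (col2 (col3 (col4 (col0 (col1 (col2 (col3 (col2 (col0 (col1 (col0 (col1 (col2 (col3 (col4 (col2 (col3 (col2 (col1 (col0 (col1 (col2 (col3 (col0 (col1 (col2 (col3 (col4 (col0 (col1 (col2 (col3 (col2 (col0 (col1 (col0 (col1 (col2 (col3 (col4 (col2 (col3 (col2 (col1 (col0 (col1 (i))))))))))))))))))))))))))))))))))))))))))))))))))))))))))))))))))))))))))))))))))))))))))))))))))))))))))))))))))))))))))))))))))))))))))))))))))))))))))))))))))))))))))))))))))))))))))))))))))))))))))))))))))))))))))))))))))))))))))))))))))))))))))))))))))))))))))))))))))))))))))))))))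
theorem act3_eq (i : Nat) : act3 i = Tab.act T D chk3 i := rfl
theorem c3_0 : allRange (fun i => Nat.beq (act3 i) i) 0 206 = true := by decide +kernel
theorem c3_1 : allRange (fun i => Nat.beq (act3 i) i) 206 206 = true := by decide +kernel
theorem c3_2 : allRange (fun i => Nat.beq (act3 i) i) 412 206 = true := by decide +kernel
theorem c3_3 : allRange (fun i => Nat.beq (act3 i) i) 618 206 = true := by decide +kernel
theorem c3_4 : allRange (fun i => Nat.beq (act3 i) i) 824 206 = true := by decide +kernel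
theorem c3_5 : allRange (fun i => Nat.beq (act3 i) i) 1030 206 = true := by decide +kernel
theorem c3_6 : allRange (fun i => Nat.beq (act3 i) i) 1236 206 = true := by decide +kernel
theorem c3_7 : allRange (fun i => Nat.beq (act3 i) i) 1442 206 = true := by decide +kernel
theorem c3_8 : allRange (fun i => Nat.beq (act3 i) i) 1648 134 = true := by decide +kernel
theorem h3 : ∀ i, i < T.N → Tab.relActOK T D chk3 i = true := by
  intro i hi
  rw [Tab.relActOK, ← act3_eq]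
  exact (range_glue (range_of_allRange c3_0) (range_glue (range_of_allRange c3_1) (range_glue (range_of_allRange c3_2) (range_glue (range_of_allRange c3_3) (range_glue (range_of_allRange c3_4) (range_glue (range_of_allRange c3_5) (range_glue (range_of_allRange c3_6) (range_glue (range_of_allRange c3_7) (range_of_allRange c3_8))))))))) i (Nat.zero_le _) hi

def chk4 : List Nat := [1, 0, 1, 3, 2, 4, 3, 2, 1, 0, 1, 3, 2, 1, 3, 2, 4, 3, 2, 1, 3, 2, 1, 0, 1, 3, 2, 4, 3, 2, 1, 0, 1, 3, 2, 1, 3, 2, 4, 3, 2, 1, 3, 2]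
noncomputable def act4 (i : Nat) : Nat := col1 (col0 (col1 (col3 (col2 (col4 (col3 (col2 (col1 (col0 (col1 (col3 (col2 (col1 (col3 (col2 (col4 (col3 (col2 (col1 (col3 (col2 (col1 (col0 (col1 (col3 (col2 (col4 (col3 (col2 (col1 (col0 (col1 (col3 (col2 (col1 (col3 (col2 (col4 (col3 (col2 (col1 (col3 (col2 (i))))))))))))))))))))))))))))))))))))))))))))
theorem act4_eq (i : Nat) : act4 i = Tab.act T D chk4 i := rfl
theorem c4_0 : allRange (fun i => Nat.beq (act4 i) i) 0 1304 = true := by decide +kernel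
theorem c4_1 : allRange (fun i => Nat.beq (act4 i) i) 1304 478 = true := by decide +kernel
theorem h4 : ∀ i, i < T.N → Tab.relActOK T D chk4 i = true := by
  intro i hi
  rw [Tab.relActOK, ← act4_eq]
  exact (range_glue (range_of_allRange c4_0) (range_of_allRange c4_1)) i (Nat.zero_le _) hi

def chk5 : List Nat := [3, 2, 3, 2, 1, 0, 1, 2, 4, 3, 2, 1, 0, 3, 2, 1, 0, 4, 3, 2, 1, 3, 4, 1, 0, 1, 3, 2, 4, 3, 2, 1, 0, 1, 3, 2, 1, 3, 2, 4, 3, 2, 1, 3, 2, 2, 3, 0, 1, 2, 3, 4, 0, 1, 2, 3, 2, 0, 1, 0, 1, 2, 3, 4, 2, 3, 2, 1, 0, 1, 1, 0, 1, 3, 2, 4, 3, 2, 1, 0, 1, 3, 2, 1, 3, 2, 4, 3, 2, 1, 3, 2, 1, 0, 1, 2, 3, 2, 4, 3, 2, 1, 0, 1, 0, 2, 3, 2, 1, 0, 4, 3, 2, 1, 0, 3, 2, 4, 3, 1, 2, 3, 4, 0, 1, 2, 3, 0, 1, 2, 3, 4, 2, 1, 0, 1, 2, 3, 2, 3, 1, 0, 1, 2, 3, 2, 4, 3, 2, 1, 0, 1, 0, 2, 3, 2, 1, 0, 4, 3, 2, 1, 0, 3, 2, 4, 3, 1, 2, 3, 4, 0, 1, 2, 3, 0, 1, 2, 3, 4, 2, 1, 0, 1, 2, 3, 2, 3, 4, 3, 1, 2, 3, 4,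 0, 1, 2, 3, 0, 1, 2, 3, 4, 2, 1, 0, 1, 2, 3, 2, 3, 1, 0, 1, 3, 2, 4, 3, 2, 1, 0, 1, 3, 2, 1, 3, 2, 4, 3, 2, 1, 3, 2, 1, 0, 1, 2, 3, 2, 4, 3, 2, 1, 0, 1, 0, 2, 3, 2, 1, 0, 4, 3, 2, 1, 0, 3, 2]
noncomputable def act5 (i : Nat) : Nat := col3 (col2 (col3 (col2 (col1 (col0 (col1 (col2 (col4 (col3 (col2 (col1 (col0 (col3 (col2 (col1 (col0 (col4 (col3 (col2 (col1 (col3 (col4 (col1 (col0 (col1 (col3 (col2 (col4 (col3 (col2 (col1 (col0 (col1 (col3 (col2 (col1 (col3 (col2 (col4 (col3 (col2 (col1 (col3 (col2 (col2 (col3 (col0 (col1 (col2 (col3 (col4 (col0 (col1 (col2 (col3 (col2 (col0 (col1 (col0 (col1 (col2 (col3 (col4 (col2 (col3 (col2 (col1 (col0 (col1 (col1 (col0 (col1 (col3 (col2 (col4 (col3 (col2 (col1 (col0 (col1 (col3 (col2 (col1 (col3 (col2 (col4 (col3 (col2 (col1 (col3 (col2 (col1 (col0 (col1 (col2 (col3 (col2 (col4 (col3 (col2 (col1 (col0 (col1 (col0 (col2 (col3 (col2 (col1 (col0 (col4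 (col3 (col2 (col1 (col0 (col3 (col2 (col4 (col3 (col1 (col2 (col3 (col4 (col0 (col1 (col2 (col3 (col0 (col1 (col2 (col3 (col4 (col2 (col1 (col0 (col1 (col2 (col3 (col2 (col3 (col1 (col0 (col1 (col2 (col3 (col2 (col4 (col3 (col2 (col1 (col0 (col1 (col0 (col2 (col3 (col2 (col1 (col0 (col4 (col3 (col2 (col1 (col0 (col3 (col2 (col4 (col3 (col1 (col2 (col3 (col4 (col0 (col1 (col2 (col3 (col0 (col1 (col2 (col3 (col4 (col2 (col1 (col0 (col1 (col2 (col3 (col2 (col3 (col4 (col3 (col1 (col2 (col3 (col4 (col0 (col1 (col2 (col3 (col0 (col1 (col2 (col3 (col4 (col2 (col1 (col0 (col1 (col2 (col3 (col2 (col3 (col1 (col0 (col1 (col3 (col2 (col4 (col3 (col2 (col1 (col0 (col1 (col3 (col2 (col1 (col3 (col2 (col4 (col3 (col2 (col1 (col3 (col2 (col1 (col0 (col1 (col2 (col3 (col2 (col4 (col3 (col2 (col1 (col0 (col1 (col0 (col2 (col3 (col2 (col1 (col0 (col4 (col3 (col2 (col1 (col0 (col3 (col2 (i))))))))))))))))))))))))))))))))))))))))))))))))))))))))))))))))))))))))))))))))))))))))))))))))))))))))))))))))))))))))))))))))))))))))))))))))))))))))))))))))))))))))))))))))))))))))))))))))))))))))))))))))))))))))))))))))))))))))))))))))))))))))))))))))))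
theorem act5_eq (i : Nat) : act5 i = Tab.act T D chk5 i := rfl
theorem c5_0 : allRange (fun i => Nat.beq (act5 i) i) 0 230 = true := by decide +kernel
theorem c5_1 : allRange (fun i => Nat.beq (act5 i) i) 230 230 = true := by decide +kernel
theorem c5_2 : allRange (fun i => Nat.beq (act5 i) i) 460 230 = true := by decide +kernel
theorem c5_3 : allRange (fun i => Nat.beq (act5 i) i) 690 230 = true := by decide +kernel
theorem c5_4 : allRange (fun i => Nat.beq (act5 i) i) 920 230 = true := by decide +kernel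
theorem c5_5 : allRange (fun i => Nat.beq (act5 i) i) 1150 230 = true := by decide +kernel
theorem c5_6 : allRange (fun i => Nat.beq (act5 i) i) 1380 230 = true := by decide +kernel
theorem c5_7 : allRange (fun i => Nat.beq (act5 i) i) 1610 172 = true := by decide +kernel
theorem h5 : ∀ i, i < T.N → Tab.relActOK T D chk5 i = true := by
  intro i hi
  rw [Tab.relActOK, ← act5_eq]
  exact (range_glue (range_of_allRange c5_0) (range_glue (range_of_allRange c5_1) (range_glue (range_of_allRange c5_2) (range_glue (range_of_allRange c5_3) (range_glue (range_of_allRange c5_4) (range_glue (range_of_allRange c5_5) (range_glue (range_of_allRange c5_6) (range_of_allRange c5_7)))))))) i (Nat.zero_le _) hi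

def chk6 : List Nat := [3, 2, 3, 2, 1, 0, 1, 2, 4, 3, 2, 1, 0, 3, 2, 1, 0, 4, 3, 2, 1, 3, 4, 1, 0, 1, 3, 2, 4, 3, 2, 1, 0, 1, 3, 2, 1, 3, 2, 4, 3, 2, 1, 3, 2, 4, 3, 1, 2, 3, 4, 0, 1, 2, 3, 0, 1, 2, 3, 4, 2, 1, 0, 1, 2, 3, 2, 3, 2, 3, 0, 1, 2, 3, 4, 0, 1, 2, 3, 2, 0, 1, 0, 1, 2, 3, 4, 2, 3, 2, 1, 0, 1, 4, 3, 1, 2, 3, 4, 0, 1, 2, 3, 0, 1, 2, 3, 4, 2, 1, 0, 1, 2, 3, 2, 3, 2, 3, 0, 1, 2, 3, 4, 0, 1, 2, 3, 2, 0, 1, 0, 1, 2, 3, 4, 2, 3, 2, 1, 0, 1, 3, 2, 3, 2, 1, 0, 1, 2, 4, 3, 2, 1, 0, 3, 2, 1, 0, 4, 3, 2, 1, 3, 4, 1, 0, 1, 3, 2, 4, 3, 2, 1, 0, 1, 3, 2, 1, 3, 2, 4, 3, 2, 1, 3, 2, 4, 3, 1, 2, 3, 4, 0, 1, 2, 3, 0, 1, 2, 3, 4, 2, 1, 0, 1, 2, 3, 2, 3, 2, 3, 0, 1, 2, 3, 4, 0, 1, 2, 3, 2, 0, 1, 0, 1, 2, 3, 4, 2, 3, 2, 1, 0, 1, 4, 3, 1, 2, 3, 4, 0, 1, 2, 3, 0, 1, 2, 3, 4, 2, 1, 0, 1, 2, 3, 2, 3, 2, 3, 0, 1, 2, 3, 4, 0, 1, 2, 3, 2, 0, 1, 0, 1, 2, 3, 4, 2, 3, 2, 1, 0, 1]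
noncomputable def act6 (i : Nat) : Nat := col3 (col2 (col3 (col2 (col1 (col0 (col1 (col2 (col4 (col3 (col2 (col1 (col0 (col3 (col2 (col1 (col0 (col4 (col3 (col2 (col1 (col3 (col4 (col1 (col0 (col1 (col3 (col2 (col4 (col3 (col2 (col1 (col0 (col1 (col3 (col2 (col1 (col3 (col2 (col4 (col3 (col2 (col1 (col3 (col2 (col4 (col3 (col1 (col2 (col3 (col4 (col0 (col1 (col2 (col3 (col0 (col1 (col2 (col3 (col4 (col2 (col1 (col0 (col1 (col2 (col3 (col2 (col3 (col2 (col3 (col0 (col1 (col2 (col3 (col4 (col0 (col1 (col2 (col3 (col2 (col0 (col1 (col0 (col1 (col2 (col3 (col4 (col2 (col3 (col2 (col1 (col0 (col1 (col4 (col3 (col1 (col2 (col3 (col4 (col0 (col1 (col2 (col3 (col0 (col1 (col2 (col3 (col4 (col2 (col1 (col0 (col1 (col2 (col3 (col2 (col3 (col2 (col3 (col0 (col1 (col2 (col3 (col4 (col0 (col1 (col2 (col3 (col2 (col0 (col1 (col0 (col1 (col2 (col3 (col4 (col2 (col3 (col2 (col1 (col0 (col1 (col3 (col2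 (col3 (col2 (col1 (col0 (col1 (col2 (col4 (col3 (col2 (col1 (col0 (col3 (col2 (col1 (col0 (col4 (col3 (col2 (col1 (col3 (col4 (col1 (col0 (col1 (col3 (col2 (col4 (col3 (col2 (col1 (col0 (col1 (col3 (col2 (col1 (col3 (col2 (col4 (col3 (col2 (col1 (col3 (col2 (col4 (col3 (col1 (col2 (col3 (col4 (col0 (col1 (col2 (col3 (col0 (col1 (col2 (col3 (col4 (col2 (col1 (col0 (col1 (col2 (col3 (col2 (col3 (col2 (col3 (col0 (col1 (col2 (col3 (col4 (col0 (col1 (col2 (col3 (col2 (col0 (col1 (col0 (col1 (col2 (col3 (col4 (col2 (col3 (col2 (col1 (col0 (col1 (col4 (col3 (col1 (col2 (col3 (col4 (col0 (col1 (col2 (col3 (col0 (col1 (col2 (col3 (col4 (col2 (col1 (col0 (col1 (col2 (col3 (col2 (col3 (col2 (col3 (col0 (col1 (col2 (col3 (col4 (col0 (col1 (col2 (col3 (col2 (col0 (col1 (col0 (col1 (col2 (col3 (col4 (col2 (col3 (col2 (col1 (col0 (col1 (i))))))))))))))))))))))))))))))))))))))))))))))))))))))))))))))))))))))))))))))))))))))))))))))))))))))))))))))))))))))))))))))))))))))))))))))))))))))))))))))))))))))))))))))))))))))))))))))))))))))))))))))))))))))))))))))))))))))))))))))))))))))))))))))))))))))))))))))))))))))))))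
theorem act6_eq (i : Nat) : act6 i = Tab.act T D chk6 i := rfl
theorem c6_0 : allRange (fun i => Nat.beq (act6 i) i) 0 211 = true := by decide +kernel
theorem c6_1 : allRange (fun i => Nat.beq (act6 i) i) 211 211 = true := by decide +kernel
theorem c6_2 : allRange (fun i => Nat.beq (act6 i) i) 422 211 = true := by decide +kernel
theorem c6_3 : allRange (fun i => Nat.beq (act6 i) i) 633 211 = true := by decide +kernel
theorem c6_4 : allRange (fun i => Nat.beq (act6 i) i) 844 211 = true := by decide +kernel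
theorem c6_5 : allRange (fun i => Nat.beq (act6 i) i) 1055 211 = true := by decide +kernel
theorem c6_6 : allRange (fun i => Nat.beq (act6 i) i) 1266 211 = true := by decide +kernel
theorem c6_7 : allRange (fun i => Nat.beq (act6 i) i) 1477 211 = true := by decide +kernel
theorem c6_8 : allRange (fun i => Nat.beq (act6 i) i) 1688 94 = true := by decide +kernel
theorem h6 : ∀ i, i < T.N → Tab.relActOK T D chk6 i = true := by
  intro i hi
  rw [Tab.relActOK, ← act6_eq]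
  exact (range_glue (range_of_allRange c6_0) (range_glue (range_of_allRange c6_1) (range_glue (range_of_allRange c6_2) (range_glue (range_of_allRange c6_3) (range_glue (range_of_allRange c6_4) (range_glue (range_of_allRange c6_5) (range_glue (range_of_allRange c6_6) (range_glue (range_of_allRange c6_7) (range_of_allRange c6_8))))))))) i (Nat.zero_le _) hi

def chk7 : List Nat := [0, 1, 2, 4, 3, 2, 1, 0, 1, 3, 2, 3, 2, 4, 3, 2, 1, 0, 3, 2, 1, 0, 1, 5, 1, 0, 2, 3, 2, 1, 4, 3, 2, 3, 2, 5, 0, 1, 2, 4, 3, 2, 1, 0, 1, 3, 2, 3, 2, 4, 3, 2, 1, 0, 3, 2, 1, 0, 1, 5, 1, 0, 2, 3, 2, 1, 4, 3, 2, 3, 2, 5]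
noncomputable def act7 (i : Nat) : Nat := col0 (col1 (col2 (col4 (col3 (col2 (col1 (col0 (col1 (col3 (col2 (col3 (col2 (col4 (col3 (col2 (col1 (col0 (col3 (col2 (col1 (col0 (col1 (col5 (col1 (col0 (col2 (col3 (col2 (col1 (col4 (col3 (col2 (col3 (col2 (col5 (col0 (col1 (col2 (col4 (col3 (col2 (col1 (col0 (col1 (col3 (col2 (col3 (col2 (col4 (col3 (col2 (col1 (col0 (col3 (col2 (col1 (col0 (col1 (col5 (col1 (col0 (col2 (col3 (col2 (col1 (col4 (col3 (col2 (col3 (col2 (col5 (i))))))))))))))))))))))))))))))))))))))))))))))))))))))))))))))))))))))))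
theorem act7_eq (i : Nat) : act7 i = Tab.act T D chk7 i := rfl
theorem c7_0 : allRange (fun i => Nat.beq (act7 i) i) 0 810 = true := by decide +kernel
theorem c7_1 : allRange (fun i => Nat.beq (act7 i) i) 810 810 = true := by decide +kernel
theorem c7_2 : allRange (fun i => Nat.beq (act7 i) i) 1620 162 = true := by decide +kernel
theorem h7 : ∀ i, i < T.N → Tab.relActOK T D chk7 i = true := by
  intro i hi
  rw [Tab.relActOK, ← act7_eq]
  exact (range_glue (range_of_allRange c7_0) (range_glue (range_of_allRange c7_1) (range_of_allRange c7_2))) i (Nat.zero_le _) hi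

def chk8 : List Nat := [3, 2, 3, 2, 1, 0, 1, 2, 4, 3, 2, 1, 0, 3, 2, 1, 0, 4, 3, 2, 1, 3, 4, 1, 0, 1, 2, 3, 2, 4, 3, 2, 1, 0, 1, 0, 2, 3, 2, 1, 0, 4, 3, 2, 1, 0, 3, 2, 4, 3, 1, 2, 3, 4, 0, 1, 2, 3, 0, 1, 2, 3, 4, 2, 1, 0, 1, 2, 3, 2, 3, 1, 0, 1, 3, 2, 4, 3, 2, 1, 0, 1, 3, 2, 1, 3, 2, 4, 3, 2, 1, 3, 2, 0, 1, 2, 4, 3, 2, 1, 0, 1, 3, 2, 3, 2, 4, 3, 2, 1, 0, 3, 2, 1, 0, 1, 5, 1, 0, 2, 3, 2, 1, 4, 3, 2, 3, 2, 5, 1, 0, 1, 2, 3, 2, 4, 3, 2, 1, 0, 1, 0, 2, 3, 2, 1, 0, 4, 3, 2, 1, 0, 3, 2, 5, 2, 3, 2, 3, 4, 1, 2, 3, 2, 0, 1, 5, 1, 0, 1, 2, 3, 0, 1, 2, 3, 4, 2, 3, 2, 3, 1, 0, 1, 2, 3, 4, 2, 1, 0, 1, 0, 1, 3, 2, 4, 3, 2, 1, 0, 1, 3, 2, 1, 3, 2, 4, 3, 2, 1, 3, 2]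
noncomputable def act8 (i : Nat) : Nat := col3 (col2 (col3 (col2 (col1 (col0 (col1 (col2 (col4 (col3 (col2 (col1 (col0 (col3 (col2 (col1 (col0 (col4 (col3 (col2 (col1 (col3 (col4 (col1 (col0 (col1 (col2 (col3 (col2 (col4 (col3 (col2 (col1 (col0 (col1 (col0 (col2 (col3 (col2 (col1 (col0 (col4 (col3 (col2 (col1 (col0 (col3 (col2 (col4 (col3 (col1 (col2 (col3 (col4 (col0 (col1 (col2 (col3 (col0 (col1 (col2 (col3 (col4 (col2 (col1 (col0 (col1 (col2 (col3 (col2 (col3 (col1 (col0 (col1 (col3 (col2 (col4 (col3 (col2 (col1 (col0 (col1 (col3 (col2 (col1 (col3 (col2 (col4 (col3 (col2 (col1 (col3 (col2 (col0 (col1 (col2 (col4 (col3 (col2 (col1 (col0 (col1 (col3 (col2 (col3 (col2 (col4 (col3 (col2 (col1 (col0 (col3 (col2 (col1 (col0 (col1 (col5 (col1 (col0 (col2 (col3 (col2 (col1 (col4 (col3 (col2 (col3 (col2 (col5 (col1 (col0 (col1 (col2 (col3 (col2 (col4 (col3 (col2 (col1 (col0 (col1 (col0 (col2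 (col3 (col2 (col1 (col0 (col4 (col3 (col2 (col1 (col0 (col3 (col2 (col5 (col2 (col3 (col2 (col3 (col4 (col1 (col2 (col3 (col2 (col0 (col1 (col5 (col1 (col0 (col1 (col2 (col3 (col0 (col1 (col2 (col3 (col4 (col2 (col3 (col2 (col3 (col1 (col0 (col1 (col2 (col3 (col4 (col2 (col1 (col0 (col1 (col0 (col1 (col3 (col2 (col4 (col3 (col2 (col1 (col0 (col1 (col3 (col2 (col1 (col3 (col2 (col4 (col3 (col2 (col1 (col3 (col2 (i))))))))))))))))))))))))))))))))))))))))))))))))))))))))))))))))))))))))))))))))))))))))))))))))))))))))))))))))))))))))))))))))))))))))))))))))))))))))))))))))))))))))))))))))))))))))))))))))))))))))))))))))))))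
theorem act8_eq (i : Nat) : act8 i = Tab.act T D chk8 i := rfl
theorem c8_0 : allRange (fun i => Nat.beq (act8 i) i) 0 280 = true := by decide +kernel
theorem c8_1 : allRange (fun i => Nat.beq (act8 i) i) 280 280 = true := by decide +kernel
theorem c8_2 : allRange (fun i => Nat.beq (act8 i) i) 560 280 = true := by decide +kernel
theorem c8_3 : allRange (fun i => Nat.beq (act8 i) i) 840 280 = true := by decide +kernel
theorem c8_4 : allRange (fun i => Nat.beq (act8 i) i) 1120 280 = true := by decide +kernel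
theorem c8_5 : allRange (fun i => Nat.beq (act8 i) i) 1400 280 = true := by decide +kernel
theorem c8_6 : allRange (fun i => Nat.beq (act8 i) i) 1680 102 = true := by decide +kernel
theorem h8 : ∀ i, i < T.N → Tab.relActOK T D chk8 i = true := by
  intro i hi
  rw [Tab.relActOK, ← act8_eq]
  exact (range_glue (range_of_allRange c8_0) (range_glue (range_of_allRange c8_1) (range_glue (range_of_allRange c8_2) (range_glue (range_of_allRange c8_3) (range_glue (range_of_allRange c8_4) (range_glue (range_of_allRange c8_5) (range_of_allRange c8_6))))))) i (Nat.zero_le _) hi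

def chk9 : List Nat := [3, 2, 3, 2, 1, 0, 1, 2, 4, 3, 2, 1, 0, 3, 2, 1, 0, 4, 3, 2, 1, 3, 4, 1, 0, 1, 2, 3, 2, 4, 3, 2, 1, 0, 1, 0, 2, 3, 2, 1, 0, 4, 3, 2, 1, 0, 3, 2, 4, 3, 1, 2, 3, 4, 0, 1, 2, 3, 0, 1, 2, 3, 4, 2, 1, 0, 1, 2, 3, 2, 3, 5, 2, 3, 2, 3, 4, 1, 2, 3, 2, 0, 1, 5, 1, 0, 1, 2, 3, 0, 1, 2, 3, 4, 2, 3, 2, 3, 1, 0, 1, 2, 3, 4, 2, 1, 0, 1, 0, 1, 3, 2, 4, 3, 2, 1, 0, 1, 3, 2, 1, 3, 2, 4, 3, 2, 1, 3, 2, 4, 3, 1, 2, 3, 4, 0, 1, 2, 3, 0, 1, 2, 3, 4, 2, 1, 0, 1, 2, 3, 2, 3, 1, 0, 1, 2, 3, 2, 4, 3, 2, 1, 0, 1, 0, 2, 3, 2, 1, 0, 4, 3, 2, 1, 0, 3, 2, 3, 2, 3, 2, 1, 0, 1, 2, 4, 3, 2, 1, 0, 3, 2, 1, 0, 4, 3, 2, 1, 3, 4, 1, 0, 1, 3, 2, 4, 3, 2, 1, 0, 1, 3, 2, 1, 3, 2, 4, 3, 2, 1, 3, 2, 0, 1, 2, 4, 3, 2, 1, 0, 1, 3, 2, 3, 2, 4, 3, 2, 1, 0, 3, 2, 1, 0, 1, 5, 1, 0, 2, 3, 2, 1, 4, 3, 2, 3, 2, 5]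
noncomputable def act9 (i : Nat) : Nat := col3 (col2 (col3 (col2 (col1 (col0 (col1 (col2 (col4 (col3 (col2 (col1 (col0 (col3 (col2 (col1 (col0 (col4 (col3 (col2 (col1 (col3 (col4 (col1 (col0 (col1 (col2 (col3 (col2 (col4 (col3 (col2 (col1 (col0 (col1 (col0 (col2 (col3 (col2 (col1 (col0 (col4 (col3 (col2 (col1 (col0 (col3 (col2 (col4 (col3 (col1 (col2 (col3 (col4 (col0 (col1 (col2 (col3 (col0 (col1 (col2 (col3 (col4 (col2 (col1 (col0 (col1 (col2 (col3 (col2 (col3 (col5 (col2 (col3 (col2 (col3 (col4 (col1 (col2 (col3 (col2 (col0 (col1 (col5 (col1 (col0 (col1 (col2 (col3 (col0 (col1 (col2 (col3 (col4 (col2 (col3 (col2 (col3 (col1 (col0 (col1 (col2 (col3 (col4 (col2 (col1 (col0 (col1 (col0 (col1 (col3 (col2 (col4 (col3 (col2 (col1 (col0 (col1 (col3 (col2 (col1 (col3 (col2 (col4 (col3 (col2 (col1 (col3 (col2 (col4 (col3 (col1 (col2 (col3 (col4 (col0 (col1 (col2 (col3 (col0 (col1 (col2 (col3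 (col4 (col2 (col1 (col0 (col1 (col2 (col3 (col2 (col3 (col1 (col0 (col1 (col2 (col3 (col2 (col4 (col3 (col2 (col1 (col0 (col1 (col0 (col2 (col3 (col2 (col1 (col0 (col4 (col3 (col2 (col1 (col0 (col3 (col2 (col3 (col2 (col3 (col2 (col1 (col0 (col1 (col2 (col4 (col3 (col2 (col1 (col0 (col3 (col2 (col1 (col0 (col4 (col3 (col2 (col1 (col3 (col4 (col1 (col0 (col1 (col3 (col2 (col4 (col3 (col2 (col1 (col0 (col1 (col3 (col2 (col1 (col3 (col2 (col4 (col3 (col2 (col1 (col3 (col2 (col0 (col1 (col2 (col4 (col3 (col2 (col1 (col0 (col1 (col3 (col2 (col3 (col2 (col4 (col3 (col2 (col1 (col0 (col3 (col2 (col1 (col0 (col1 (col5 (col1 (col0 (col2 (col3 (col2 (col1 (col4 (col3 (col2 (col3 (col2 (col5 (i))))))))))))))))))))))))))))))))))))))))))))))))))))))))))))))))))))))))))))))))))))))))))))))))))))))))))))))))))))))))))))))))))))))))))))))))))))))))))))))))))))))))))))))))))))))))))))))))))))))))))))))))))))))))))))))))))))))))))))))))))))))))))))))))))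
theorem act9_eq (i : Nat) : act9 i = Tab.act T D chk9 i := rfl
theorem c9_0 : allRange (fun i => Nat.beq (act9 i) i) 0 230 = true := by decide +kernel
theorem c9_1 : allRange (fun i => Nat.beq (act9 i) i) 230 230 = true := by decide +kernel
theorem c9_2 : allRange (fun i => Nat.beq (act9 i) i) 460 230 = true := by decide +kernel
theorem c9_3 : allRange (fun i => Nat.beq (act9 i) i) 690 230 = true := by decide +kernel
theorem c9_4 : allRange (fun i => Nat.beq (act9 i) i) 920 230 = true := by decide +kernel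
theorem c9_5 : allRange (fun i => Nat.beq (act9 i) i) 1150 230 = true := by decide +kernel
theorem c9_6 : allRange (fun i => Nat.beq (act9 i) i) 1380 230 = true := by decide +kernel
theorem c9_7 : allRange (fun i => Nat.beq (act9 i) i) 1610 172 = true := by decide +kernel
theorem h9 : ∀ i, i < T.N → Tab.relActOK T D chk9 i = true := by
  intro i hi
  rw [Tab.relActOK, ← act9_eq]
  exact (range_glue (range_of_allRange c9_0) (range_glue (range_of_allRange c9_1) (range_glue (range_of_allRange c9_2) (range_glue (range_of_allRange c9_3) (range_glue (range_of_allRange c9_4) (range_glue (range_of_allRange c9_5) (range_glue (range_of_allRange c9_6) (range_of_allRange c9_7)))))))) i (Nat.zero_le _) hi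

def chk10 : List Nat := [3, 2, 3, 2, 1, 0, 1, 2, 4, 3, 2, 1, 0, 3, 2, 1, 0, 4, 3, 2, 1, 3, 4, 3, 2, 3, 2, 1, 0, 1, 2, 4, 3, 2, 1, 0, 3, 2, 1, 0, 4, 3, 2, 1, 3, 4, 1, 0, 1, 3, 2, 4, 3, 2, 1, 0, 1, 3, 2, 1, 3, 2, 4, 3, 2, 1, 3, 2, 2, 3, 0, 1, 2, 3, 4, 0, 1, 2, 3, 2, 0, 1, 0, 1, 2, 3, 4, 2, 3, 2, 1, 0, 1, 4, 3, 1, 2, 3, 4, 0, 1, 2, 3, 0, 1, 2, 3, 4, 2, 1, 0, 1, 2, 3, 2, 3, 2, 3, 0, 1, 2, 3, 4, 0, 1, 2, 3, 2, 0, 1, 0, 1, 2, 3, 4, 2, 3, 2, 1, 0, 1, 4, 3, 1, 2, 3, 4, 0, 1, 2, 3, 0, 1, 2, 3, 4, 2, 1, 0, 1, 2, 3, 2, 3, 1, 0, 1, 3, 2, 4, 3, 2, 1, 0, 1, 3, 2, 1, 3, 2, 4, 3, 2, 1, 3, 2, 1, 0, 1, 2, 3, 2, 4, 3, 2, 1, 0, 1, 0, 2, 3, 2, 1, 0, 4, 3, 2, 1, 0, 3, 2, 1, 0, 1, 3, 2, 4, 3, 2, 1, 0, 1, 3, 2, 1, 3, 2, 4, 3, 2, 1, 3, 2, 2, 3, 0, 1, 2, 3, 4, 0, 1, 2, 3, 2, 0, 1, 0, 1, 2, 3, 4, 2, 3, 2, 1, 0, 1, 3, 2, 3, 2, 1, 0, 1, 2, 4, 3, 2, 1, 0, 3, 2, 1, 0, 4, 3, 2, 1, 3, 4, 0, 1, 2, 4, 3, 2, 1, 0, 1, 3,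 2, 3, 2, 4, 3, 2, 1, 0, 3, 2, 1, 0, 1, 5, 1, 0, 2, 3, 2, 1, 4, 3, 2, 3, 2, 5, 3, 2, 3, 2, 1, 0, 1, 2, 4, 3, 2, 1, 0, 3, 2, 1, 0, 4, 3, 2, 1, 3, 4, 0, 1, 2, 4, 3, 2, 1, 0, 1, 3, 2, 3, 2, 4, 3, 2, 1, 0, 3, 2, 1, 0, 1, 5, 1, 0, 2, 3, 2, 1, 4, 3, 2, 3, 2, 5, 1, 0, 1, 3, 2, 4, 3, 2, 1, 0, 1, 3, 2, 1, 3, 2, 4, 3, 2, 1, 3, 2, 5, 2, 3, 2, 3, 4, 1, 2, 3, 2, 0, 1, 5, 1, 0, 1, 2, 3, 0, 1, 2, 3, 4, 2, 3, 2, 3, 1, 0, 1, 2, 3, 4, 2, 1, 0]
noncomputable def act10 (i : Nat) : Nat := col3 (col2 (col3 (col2 (col1 (col0 (col1 (col2 (col4 (col3 (col2 (col1 (col0 (col3 (col2 (col1 (col0 (col4 (col3 (col2 (col1 (col3 (col4 (col3 (col2 (col3 (col2 (col1 (col0 (col1 (col2 (col4 (col3 (col2 (col1 (col0 (col3 (col2 (col1 (col0 (col4 (col3 (col2 (col1 (col3 (col4 (col1 (col0 (col1 (col3 (col2 (col4 (col3 (col2 (col1 (col0 (col1 (col3 (col2 (col1 (col3 (col2 (col4 (col3 (col2 (col1 (col3 (col2 (col2 (col3 (col0 (col1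 (col2 (col3 (col4 (col0 (col1 (col2 (col3 (col2 (col0 (col1 (col0 (col1 (col2 (col3 (col4 (col2 (col3 (col2 (col1 (col0 (col1 (col4 (col3 (col1 (col2 (col3 (col4 (col0 (col1 (col2 (col3 (col0 (col1 (col2 (col3 (col4 (col2 (col1 (col0 (col1 (col2 (col3 (col2 (col3 (col2 (col3 (col0 (col1 (col2 (col3 (col4 (col0 (col1 (col2 (col3 (col2 (col0 (col1 (col0 (col1 (col2 (col3 (col4 (col2 (col3 (col2 (col1 (col0 (col1 (col4 (col3 (col1 (col2 (col3 (col4 (col0 (col1 (col2 (col3 (col0 (col1 (col2 (col3 (col4 (col2 (col1 (col0 (col1 (col2 (col3 (col2 (col3 (col1 (col0 (col1 (col3 (col2 (col4 (col3 (col2 (col1 (col0 (col1 (col3 (col2 (col1 (col3 (col2 (col4 (col3 (col2 (col1 (col3 (col2 (col1 (col0 (col1 (col2 (col3 (col2 (col4 (col3 (col2 (col1 (col0 (col1 (col0 (col2 (col3 (col2 (col1 (col0 (col4 (col3 (col2 (col1 (col0 (col3 (col2 (col1 (col0 (col1 (col3 (col2 (col4 (col3 (col2 (col1 (col0 (col1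 (col3 (col2 (col1 (col3 (col2 (col4 (col3 (col2 (col1 (col3 (col2 (col2 (col3 (col0 (col1 (col2 (col3 (col4 (col0 (col1 (col2 (col3 (col2 (col0 (col1 (col0 (col1 (col2 (col3 (col4 (col2 (col3 (col2 (col1 (col0 (col1 (col3 (col2 (col3 (col2 (col1 (col0 (col1 (col2 (col4 (col3 (col2 (col1 (col0 (col3 (col2 (col1 (col0 (col4 (col3 (col2 (col1 (col3 (col4 (col0 (col1 (col2 (col4 (col3 (col2 (col1 (col0 (col1 (col3 (col2 (col3 (col2 (col4 (col3 (col2 (col1 (col0 (col3 (col2 (col1 (col0 (col1 (col5 (col1 (col0 (col2 (col3 (col2 (col1 (col4 (col3 (col2 (col3 (col2 (col5 (col3 (col2 (col3 (col2 (col1 (col0 (col1 (col2 (col4 (col3 (col2 (col1 (col0 (col3 (col2 (col1 (col0 (col4 (col3 (col2 (col1 (col3 (col4 (col0 (col1 (col2 (col4 (col3 (col2 (col1 (col0 (col1 (col3 (col2 (col3 (col2 (col4 (col3 (col2 (col1 (col0 (col3 (col2 (col1 (col0 (col1 (col5 (col1 (col0 (col2 (col3 (col2 (col1 (col4 (col3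 (col2 (col3 (col2 (col5 (col1 (col0 (col1 (col3 (col2 (col4 (col3 (col2 (col1 (col0 (col1 (col3 (col2 (col1 (col3 (col2 (col4 (col3 (col2 (col1 (col3 (col2 (col5 (col2 (col3 (col2 (col3 (col4 (col1 (col2 (col3 (col2 (col0 (col1 (col5 (col1 (col0 (col1 (col2 (col3 (col0 (col1 (col2 (col3 (col4 (col2 (col3 (col2 (col3 (col1 (col0 (col1 (col2 (col3 (col4 (col2 (col1 (col0 (i))))))))))))))))))))))))))))))))))))))))))))))))))))))))))))))))))))))))))))))))))))))))))))))))))))))))))))))))))))))))))))))))))))))))))))))))))))))))))))))))))))))))))))))))))))))))))))))))))))))))))))))))))))))))))))))))))))))))))))))))))))))))))))))))))))))))))))))))))))))))))))))))))))))))))))))))))))))))))))))))))))))))))))))))))))))))))))))))))))))))))))))))))))))))))))))))))))))))))))))))))))))))))))))))))))))))))))))))))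
theorem act10_eq (i : Nat) : act10 i = Tab.act T D chk10 i := rfl
theorem c10_0 : allRange (fun i => Nat.beq (act10 i) i) 0 137 = true := by decide +kernel
theorem c10_1 : allRange (fun i => Nat.beq (act10 i) i) 137 137 = true := by decide +kernel
theorem c10_2 : allRange (fun i => Nat.beq (act10 i) i) 274 137 = true := by decide +kernel
theorem c10_3 : allRange (fun i => Nat.beq (act10 i) i) 411 137 = true := by decide +kernel
theorem c10_4 : allRange (fun i => Nat.beq (act10 i) i) 548 137 = true := by decide +kernel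
theorem c10_5 : allRange (fun i => Nat.beq (act10 i) i) 685 137 = true := by decide +kernel
theorem c10_6 : allRange (fun i => Nat.beq (act10 i) i) 822 137 = true := by decide +kernel
theorem c10_7 : allRange (fun i => Nat.beq (act10 i) i) 959 137 = true := by decide +kernel
theorem c10_8 : allRange (fun i => Nat.beq (act10 i) i) 1096 137 = true := by decide +kernel
theorem c10_9 : allRange (fun i => Nat.beq (act10 i) i) 1233 137 = true := by decide +kernel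
theorem c10_10 : allRange (fun i => Nat.beq (act10 i) i) 1370 137 = true := by decide +kernel
theorem c10_11 : allRange (fun i => Nat.beq (act10 i) i) 1507 137 = true := by decide +kernel
theorem c10_12 : allRange (fun i => Nat.beq (act10 i) i) 1644 137 = true := by decide +kernel
theorem c10_13 : allRange (fun i => Nat.beq (act10 i) i) 1781 1 = true := by decide +kernel
theorem h10 : ∀ i, i < T.N → Tab.relActOK T D chk10 i = true := by
  intro i hi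
  rw [Tab.relActOK, ← act10_eq]
  exact (range_glue (range_of_allRange c10_0) (range_glue (range_of_allRange c10_1) (range_glue (range_of_allRange c10_2) (range_glue (range_of_allRange c10_3) (range_glue (range_of_allRange c10_4) (range_glue (range_of_allRange c10_5) (range_glue (range_of_allRange c10_6) (range_glue (range_of_allRange c10_7) (range_glue (range_of_allRange c10_8) (range_glue (range_of_allRange c10_9) (range_glue (range_of_allRange c10_10) (range_glue (range_of_allRange c10_11) (range_glue (range_of_allRange c10_12) (range_of_allRange c10_13)))))))))))))) i (Nat.zero_le _) hi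

def chk11 : List Nat := [6, 6]
noncomputable def act11 (i : Nat) : Nat := col6 (col6 (i))
theorem act11_eq (i : Nat) : act11 i = Tab.act T D chk11 i := rfl
theorem c11_0 : allRange (fun i => Nat.beq (act11 i) i) 0 1782 = true := by decide +kernel
theorem h11 : ∀ i, i < T.N → Tab.relActOK T D chk11 i = true := by
  intro i hi
  rw [Tab.relActOK, ← act11_eq]
  exact (range_of_allRange c11_0) i (Nat.zero_le _) hi

def chk12 : List Nat := [3, 2, 3, 2, 1, 0, 1, 2, 4, 3, 2, 1, 0, 3, 2, 1, 0, 4, 3, 2, 1, 3, 4, 6, 4, 3, 1, 2, 3, 4, 0, 1, 2, 3, 0, 1, 2, 3, 4, 2, 1, 0, 1, 2, 3, 2, 3, 2, 3, 0, 1, 2, 3, 4, 0, 1, 2, 3, 2, 0, 1, 0, 1, 2, 3, 4, 2, 3, 2, 1, 0, 1, 1, 0, 1, 3, 2, 4, 3, 2, 1, 0, 1, 3, 2, 1, 3, 2, 4, 3, 2, 1, 3, 2, 2, 3, 0, 1, 2, 3, 4, 0, 1, 2, 3, 2, 0, 1, 0, 1, 2, 3, 4, 2, 3, 2, 1, 0, 1, 6, 1, 0, 1, 2, 3, 2, 4, 3, 2, 1, 0, 1, 0, 2, 3, 2, 1, 0, 4, 3, 2, 1, 0, 3, 2, 1, 0, 1, 3, 2, 4, 3, 2,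 1, 0, 1, 3, 2, 1, 3, 2, 4, 3, 2, 1, 3, 2, 1, 0, 1, 2, 3, 2, 4, 3, 2, 1, 0, 1, 0, 2, 3, 2, 1, 0, 4, 3, 2, 1, 0, 3, 2]
noncomputable def act12 (i : Nat) : Nat := col3 (col2 (col3 (col2 (col1 (col0 (col1 (col2 (col4 (col3 (col2 (col1 (col0 (col3 (col2 (col1 (col0 (col4 (col3 (col2 (col1 (col3 (col4 (col6 (col4 (col3 (col1 (col2 (col3 (col4 (col0 (col1 (col2 (col3 (col0 (col1 (col2 (col3 (col4 (col2 (col1 (col0 (col1 (col2 (col3 (col2 (col3 (col2 (col3 (col0 (col1 (col2 (col3 (col4 (col0 (col1 (col2 (col3 (col2 (col0 (col1 (col0 (col1 (col2 (col3 (col4 (col2 (col3 (col2 (col1 (col0 (col1 (col1 (col0 (col1 (col3 (col2 (col4 (col3 (col2 (col1 (col0 (col1 (col3 (col2 (col1 (col3 (col2 (col4 (col3 (col2 (col1 (col3 (col2 (col2 (col3 (col0 (col1 (col2 (col3 (col4 (col0 (col1 (col2 (col3 (col2 (col0 (col1 (col0 (col1 (col2 (col3 (col4 (col2 (col3 (col2 (col1 (col0 (col1 (col6 (col1 (col0 (col1 (col2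 (col3 (col2 (col4 (col3 (col2 (col1 (col0 (col1 (col0 (col2 (col3 (col2 (col1 (col0 (col4 (col3 (col2 (col1 (col0 (col3 (col2 (col1 (col0 (col1 (col3 (col2 (col4 (col3 (col2 (col1 (col0 (col1 (col3 (col2 (col1 (col3 (col2 (col4 (col3 (col2 (col1 (col3 (col2 (col1 (col0 (col1 (col2 (col3 (col2 (col4 (col3 (col2 (col1 (col0 (col1 (col0 (col2 (col3 (col2 (col1 (col0 (col4 (col3 (col2 (col1 (col0 (col3 (col2 (i))))))))))))))))))))))))))))))))))))))))))))))))))))))))))))))))))))))))))))))))))))))))))))))))))))))))))))))))))))))))))))))))))))))))))))))))))))))))))))))))))))))))))))))))))))))))))))))))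
theorem act12_eq (i : Nat) : act12 i = Tab.act T D chk12 i := rfl
theorem c12_0 : allRange (fun i => Nat.beq (act12 i) i) 0 309 = true := by decide +kernel
theorem c12_1 : allRange (fun i => Nat.beq (act12 i) i) 309 309 = true := by decide +kernel
theorem c12_2 : allRange (fun i => Nat.beq (act12 i) i) 618 309 = true := by decide +kernel
theorem c12_3 : allRange (fun i => Nat.beq (act12 i) i) 927 309 = true := by decide +kernel
theorem c12_4 : allRange (fun i => Nat.beq (act12 i) i) 1236 309 = true := by decide +kernel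
theorem c12_5 : allRange (fun i => Nat.beq (act12 i) i) 1545 237 = true := by decide +kernel
theorem h12 : ∀ i, i < T.N → Tab.relActOK T D chk12 i = true := by
  intro i hi
  rw [Tab.relActOK, ← act12_eq]
  exact (range_glue (range_of_allRange c12_0) (range_glue (range_of_allRange c12_1) (range_glue (range_of_allRange c12_2) (range_glue (range_of_allRange c12_3) (range_glue (range_of_allRange c12_4) (range_of_allRange c12_5)))))) i (Nat.zero_le _) hi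

def chk13 : List Nat := [3, 2, 3, 2, 1, 0, 1, 2, 4, 3, 2, 1, 0, 3, 2, 1, 0, 4, 3, 2, 1, 3, 4, 2, 3, 0, 1, 2, 3, 4, 0, 1, 2, 3, 2, 0, 1, 0, 1, 2, 3, 4, 2, 3, 2, 1, 0, 1, 6, 1, 0, 1, 2, 3, 2, 4, 3, 2, 1, 0, 1, 0, 2, 3, 2, 1, 0, 4, 3, 2, 1, 0, 3, 2, 4, 3, 1, 2, 3, 4, 0, 1, 2, 3, 0, 1, 2, 3, 4, 2, 1, 0, 1, 2, 3, 2, 3, 2, 3, 0, 1, 2, 3, 4, 0, 1, 2, 3, 2, 0, 1, 0, 1, 2, 3, 4, 2, 3, 2, 1, 0, 1, 3, 2, 3, 2, 1, 0, 1, 2, 4, 3, 2, 1, 0, 3, 2, 1, 0, 4, 3, 2, 1, 3, 4, 1, 0, 1, 3, 2, 4, 3, 2, 1, 0, 1, 3, 2, 1, 3, 2, 4, 3, 2, 1, 3, 2, 6, 1, 0, 1, 3, 2, 4, 3, 2, 1, 0, 1, 3, 2, 1, 3, 2, 4, 3, 2, 1, 3, 2, 4, 3, 1, 2, 3, 4, 0, 1, 2, 3, 0, 1, 2, 3, 4, 2, 1, 0, 1, 2, 3, 2, 3, 1, 0, 1, 2, 3, 2, 4, 3, 2, 1, 0, 1, 0, 2, 3, 2, 1, 0, 4, 3, 2, 1, 0, 3, 2]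
noncomputable def act13 (i : Nat) : Nat := col3 (col2 (col3 (col2 (col1 (col0 (col1 (col2 (col4 (col3 (col2 (col1 (col0 (col3 (col2 (col1 (col0 (col4 (col3 (col2 (col1 (col3 (col4 (col2 (col3 (col0 (col1 (col2 (col3 (col4 (col0 (col1 (col2 (col3 (col2 (col0 (col1 (col0 (col1 (col2 (col3 (col4 (col2 (col3 (col2 (col1 (col0 (col1 (col6 (col1 (col0 (col1 (col2 (col3 (col2 (col4 (col3 (col2 (col1 (col0 (col1 (col0 (col2 (col3 (col2 (col1 (col0 (col4 (col3 (col2 (col1 (col0 (col3 (col2 (col4 (col3 (col1 (col2 (col3 (col4 (col0 (col1 (col2 (col3 (col0 (col1 (col2 (col3 (col4 (col2 (col1 (col0 (col1 (col2 (col3 (col2 (col3 (col2 (col3 (col0 (col1 (col2 (col3 (col4 (col0 (col1 (col2 (col3 (col2 (col0 (col1 (col0 (col1 (col2 (col3 (col4 (col2 (col3 (col2 (col1 (col0 (col1 (col3 (col2 (col3 (col2 (col1 (col0 (col1 (col2 (col4 (col3 (col2 (col1 (col0 (col3 (col2 (col1 (col0 (col4 (col3 (col2 (col1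 (col3 (col4 (col1 (col0 (col1 (col3 (col2 (col4 (col3 (col2 (col1 (col0 (col1 (col3 (col2 (col1 (col3 (col2 (col4 (col3 (col2 (col1 (col3 (col2 (col6 (col1 (col0 (col1 (col3 (col2 (col4 (col3 (col2 (col1 (col0 (col1 (col3 (col2 (col1 (col3 (col2 (col4 (col3 (col2 (col1 (col3 (col2 (col4 (col3 (col1 (col2 (col3 (col4 (col0 (col1 (col2 (col3 (col0 (col1 (col2 (col3 (col4 (col2 (col1 (col0 (col1 (col2 (col3 (col2 (col3 (col1 (col0 (col1 (col2 (col3 (col2 (col4 (col3 (col2 (col1 (col0 (col1 (col0 (col2 (col3 (col2 (col1 (col0 (col4 (col3 (col2 (col1 (col0 (col3 (col2 (i))))))))))))))))))))))))))))))))))))))))))))))))))))))))))))))))))))))))))))))))))))))))))))))))))))))))))))))))))))))))))))))))))))))))))))))))))))))))))))))))))))))))))))))))))))))))))))))))))))))))))))))))))))))))))))))))))))))))))))))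
theorem act13_eq (i : Nat) : act13 i = Tab.act T D chk13 i := rfl
theorem c13_0 : allRange (fun i => Nat.beq (act13 i) i) 0 250 = true := by decide +kernel
theorem c13_1 : allRange (fun i => Nat.beq (act13 i) i) 250 250 = true := by decide +kernel
theorem c13_2 : allRange (fun i => Nat.beq (act13 i) i) 500 250 = true := by decide +kernel
theorem c13_3 : allRange (fun i => Nat.beq (act13 i) i) 750 250 = true := by decide +kernel
theorem c13_4 : allRange (fun i => Nat.beq (act13 i) i) 1000 250 = true := by decide +kernel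
theorem c13_5 : allRange (fun i => Nat.beq (act13 i) i) 1250 250 = true := by decide +kernel
theorem c13_6 : allRange (fun i => Nat.beq (act13 i) i) 1500 250 = true := by decide +kernel
theorem c13_7 : allRange (fun i => Nat.beq (act13 i) i) 1750 32 = true := by decide +kernel
theorem h13 : ∀ i, i < T.N → Tab.relActOK T D chk13 i = true := by
  intro i hi
  rw [Tab.relActOK, ← act13_eq]
  exact (range_glue (range_of_allRange c13_0) (range_glue (range_of_allRange c13_1) (range_glue (range_of_allRange c13_2) (range_glue (range_of_allRange c13_3) (range_glue (range_of_allRange c13_4) (range_glue (range_of_allRange c13_5) (range_glue (range_of_allRange c13_6) (range_of_allRange c13_7)))))))) i (Nat.zero_le _) hi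

def chk14 : List Nat := [3, 2, 3, 2, 1, 0, 1, 2, 4, 3, 2, 1, 0, 3, 2, 1, 0, 4, 3, 2, 1, 3, 4, 6, 4, 3, 1, 2, 3, 4, 0, 1, 2, 3, 0, 1, 2, 3, 4, 2, 1, 0, 1, 2, 3, 2, 3, 1, 0, 1, 2, 3, 2, 4, 3, 2, 1, 0, 1, 0, 2, 3, 2, 1, 0, 4, 3, 2, 1, 0, 3, 2, 6, 2, 3, 0, 1, 2, 3, 4, 0, 1, 2, 3, 2, 0, 1, 0, 1, 2, 3, 4, 2, 3, 2, 1, 0, 1, 3, 2, 3, 2, 1, 0, 1, 2, 4, 3, 2, 1, 0, 3, 2, 1, 0, 4, 3, 2, 1, 3, 4, 6, 4, 3, 1, 2, 3, 4, 0, 1, 2, 3, 0, 1, 2, 3, 4, 2, 1, 0, 1, 2, 3, 2, 3, 1, 0, 1, 2, 3, 2, 4, 3, 2, 1, 0, 1, 0, 2, 3, 2, 1, 0, 4, 3, 2, 1, 0, 3, 2, 6, 2, 3, 0, 1, 2, 3, 4, 0, 1, 2, 3, 2, 0, 1, 0, 1, 2, 3, 4, 2, 3, 2, 1, 0, 1]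
noncomputable def act14 (i : Nat) : Nat := col3 (col2 (col3 (col2 (col1 (col0 (col1 (col2 (col4 (col3 (col2 (col1 (col0 (col3 (col2 (col1 (col0 (col4 (col3 (col2 (col1 (col3 (col4 (col6 (col4 (col3 (col1 (col2 (col3 (col4 (col0 (col1 (col2 (col3 (col0 (col1 (col2 (col3 (col4 (col2 (col1 (col0 (col1 (col2 (col3 (col2 (col3 (col1 (col0 (col1 (col2 (col3 (col2 (col4 (col3 (col2 (col1 (col0 (col1 (col0 (col2 (col3 (col2 (col1 (col0 (col4 (col3 (col2 (col1 (col0 (col3 (col2 (col6 (col2 (col3 (col0 (col1 (col2 (col3 (col4 (col0 (col1 (col2 (col3 (col2 (col0 (col1 (col0 (col1 (col2 (col3 (col4 (col2 (col3 (col2 (col1 (col0 (col1 (col3 (col2 (col3 (col2 (col1 (col0 (col1 (col2 (col4 (col3 (col2 (col1 (col0 (col3 (col2 (col1 (col0 (col4 (col3 (col2 (col1 (col3 (col4 (col6 (col4 (col3 (col1 (col2 (col3 (col4 (col0 (col1 (col2 (col3 (col0 (col1 (col2 (col3 (col4 (col2 (col1 (col0 (col1 (col2 (col3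 (col2 (col3 (col1 (col0 (col1 (col2 (col3 (col2 (col4 (col3 (col2 (col1 (col0 (col1 (col0 (col2 (col3 (col2 (col1 (col0 (col4 (col3 (col2 (col1 (col0 (col3 (col2 (col6 (col2 (col3 (col0 (col1 (col2 (col3 (col4 (col0 (col1 (col2 (col3 (col2 (col0 (col1 (col0 (col1 (col2 (col3 (col4 (col2 (col3 (col2 (col1 (col0 (col1 (i))))))))))))))))))))))))))))))))))))))))))))))))))))))))))))))))))))))))))))))))))))))))))))))))))))))))))))))))))))))))))))))))))))))))))))))))))))))))))))))))))))))))))))))))))))))))))))))))))))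
theorem act14_eq (i : Nat) : act14 i = Tab.act T D chk14 i := rfl
theorem c14_0 : allRange (fun i => Nat.beq (act14 i) i) 0 303 = true := by decide +kernel
theorem c14_1 : allRange (fun i => Nat.beq (act14 i) i) 303 303 = true := by decide +kernel
theorem c14_2 : allRange (fun i => Nat.beq (act14 i) i) 606 303 = true := by decide +kernel
theorem c14_3 : allRange (fun i => Nat.beq (act14 i) i) 909 303 = true := by decide +kernel
theorem c14_4 : allRange (fun i => Nat.beq (act14 i) i) 1212 303 = true := by decide +kernel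
theorem c14_5 : allRange (fun i => Nat.beq (act14 i) i) 1515 267 = true := by decide +kernel
theorem h14 : ∀ i, i < T.N → Tab.relActOK T D chk14 i = true := by
  intro i hi
  rw [Tab.relActOK, ← act14_eq]
  exact (range_glue (range_of_allRange c14_0) (range_glue (range_of_allRange c14_1) (range_glue (range_of_allRange c14_2) (range_glue (range_of_allRange c14_3) (range_glue (range_of_allRange c14_4) (range_of_allRange c14_5)))))) i (Nat.zero_le _) hi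

def chk15 : List Nat := [3, 2, 3, 2, 1, 0, 1, 2, 4, 3, 2, 1, 0, 3, 2, 1, 0, 4, 3, 2, 1, 3, 4, 3, 2, 3, 2, 1, 0, 1, 2, 4, 3, 2, 1, 0, 3, 2, 1, 0, 4, 3, 2, 1, 3, 4, 1, 0, 1, 3, 2, 4, 3, 2, 1, 0, 1, 3, 2, 1, 3, 2, 4, 3, 2, 1, 3, 2, 2, 3, 0, 1, 2, 3, 4, 0, 1, 2, 3, 2, 0, 1, 0, 1, 2, 3, 4, 2, 3, 2, 1, 0, 1, 2, 3, 0, 1, 2, 3, 4, 0, 1, 2, 3, 2, 0, 1, 0, 1, 2, 3, 4, 2, 3, 2, 1, 0, 1, 4, 3, 1, 2, 3, 4, 0, 1, 2, 3, 0, 1, 2, 3, 4, 2, 1, 0, 1, 2, 3, 2, 3, 6, 3, 2, 3, 2, 1, 0, 1, 2, 4, 3, 2, 1, 0, 3, 2, 1, 0, 4, 3, 2, 1, 3, 4, 1, 0, 1, 2, 3, 2, 4, 3, 2, 1, 0, 1, 0, 2, 3, 2, 1, 0, 4, 3, 2, 1, 0, 3, 2, 1, 0, 1, 2, 3, 2, 4, 3, 2, 1, 0, 1, 0, 2, 3, 2, 1, 0, 4, 3, 2, 1, 0, 3, 2, 1, 0, 1, 3, 2, 4, 3, 2, 1, 0, 1, 3, 2, 1, 3, 2, 4, 3, 2, 1, 3, 2, 4, 3, 1, 2, 3, 4, 0, 1, 2, 3, 0, 1, 2, 3, 4, 2, 1, 0, 1, 2, 3, 2, 3, 4, 3, 1, 2, 3, 4, 0, 1, 2, 3, 0, 1, 2, 3, 4, 2, 1, 0, 1, 2, 3, 2, 3, 6]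
noncomputable def act15 (i : Nat) : Nat := col3 (col2 (col3 (col2 (col1 (col0 (col1 (col2 (col4 (col3 (col2 (col1 (col0 (col3 (col2 (col1 (col0 (col4 (col3 (col2 (col1 (col3 (col4 (col3 (col2 (col3 (col2 (col1 (col0 (col1 (col2 (col4 (col3 (col2 (col1 (col0 (col3 (col2 (col1 (col0 (col4 (col3 (col2 (col1 (col3 (col4 (col1 (col0 (col1 (col3 (col2 (col4 (col3 (col2 (col1 (col0 (col1 (col3 (col2 (col1 (col3 (col2 (col4 (col3 (col2 (col1 (col3 (col2 (col2 (col3 (col0 (col1 (col2 (col3 (col4 (col0 (col1 (col2 (col3 (col2 (col0 (col1 (col0 (col1 (col2 (col3 (col4 (col2 (col3 (col2 (col1 (col0 (col1 (col2 (col3 (col0 (col1 (col2 (col3 (col4 (col0 (col1 (col2 (col3 (col2 (col0 (col1 (col0 (col1 (col2 (col3 (col4 (col2 (col3 (col2 (col1 (col0 (col1 (col4 (col3 (col1 (col2 (col3 (col4 (col0 (col1 (col2 (col3 (col0 (col1 (col2 (col3 (col4 (col2 (col1 (col0 (col1 (col2 (col3 (col2 (col3 (col6 (col3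 (col2 (col3 (col2 (col1 (col0 (col1 (col2 (col4 (col3 (col2 (col1 (col0 (col3 (col2 (col1 (col0 (col4 (col3 (col2 (col1 (col3 (col4 (col1 (col0 (col1 (col2 (col3 (col2 (col4 (col3 (col2 (col1 (col0 (col1 (col0 (col2 (col3 (col2 (col1 (col0 (col4 (col3 (col2 (col1 (col0 (col3 (col2 (col1 (col0 (col1 (col2 (col3 (col2 (col4 (col3 (col2 (col1 (col0 (col1 (col0 (col2 (col3 (col2 (col1 (col0 (col4 (col3 (col2 (col1 (col0 (col3 (col2 (col1 (col0 (col1 (col3 (col2 (col4 (col3 (col2 (col1 (col0 (col1 (col3 (col2 (col1 (col3 (col2 (col4 (col3 (col2 (col1 (col3 (col2 (col4 (col3 (col1 (col2 (col3 (col4 (col0 (col1 (col2 (col3 (col0 (col1 (col2 (col3 (col4 (col2 (col1 (col0 (col1 (col2 (col3 (col2 (col3 (col4 (col3 (col1 (col2 (col3 (col4 (col0 (col1 (col2 (col3 (col0 (col1 (col2 (col3 (col4 (col2 (col1 (col0 (col1 (col2 (col3 (col2 (col3 (col6 (i))))))))))))))))))))))))))))))))))))))))))))))))))))))))))))))))))))))))))))))))))))))))))))))))))))))))))))))))))))))))))))))))))))))))))))))))))))))))))))))))))))))))))))))))))))))))))))))))))))))))))))))))))))))))))))))))))))))))))))))))))))))))))))))))))))))))))))))))))))))))))))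
theorem act15_eq (i : Nat) : act15 i = Tab.act T D chk15 i := rfl
theorem c15_0 : allRange (fun i => Nat.beq (act15 i) i) 0 209 = true := by decide +kernel
theorem c15_1 : allRange (fun i => Nat.beq (act15 i) i) 209 209 = true := by decide +kernel
theorem c15_2 : allRange (fun i => Nat.beq (act15 i) i) 418 209 = true := by decide +kernel
theorem c15_3 : allRange (fun i => Nat.beq (act15 i) i) 627 209 = true := by decide +kernel
theorem c15_4 : allRange (fun i => Nat.beq (act15 i) i) 836 209 = true := by decide +kernel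
theorem c15_5 : allRange (fun i => Nat.beq (act15 i) i) 1045 209 = true := by decide +kernel
theorem c15_6 : allRange (fun i => Nat.beq (act15 i) i) 1254 209 = true := by decide +kernel
theorem c15_7 : allRange (fun i => Nat.beq (act15 i) i) 1463 209 = true := by decide +kernel
theorem c15_8 : allRange (fun i => Nat.beq (act15 i) i) 1672 110 = true := by decide +kernel
theorem h15 : ∀ i, i < T.N → Tab.relActOK T D chk15 i = true := by
  intro i hi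
  rw [Tab.relActOK, ← act15_eq]
  exact (range_glue (range_of_allRange c15_0) (range_glue (range_of_allRange c15_1) (range_glue (range_of_allRange c15_2) (range_glue (range_of_allRange c15_3) (range_glue (range_of_allRange c15_4) (range_glue (range_of_allRange c15_5) (range_glue (range_of_allRange c15_6) (range_glue (range_of_allRange c15_7) (range_of_allRange c15_8))))))))) i (Nat.zero_le _) hi

def chk16 : List Nat := [3, 2, 3, 2, 1, 0, 1, 2, 4, 3, 2, 1, 0, 3, 2, 1, 0, 4, 3, 2, 1, 3, 4, 3, 2, 3, 2, 1, 0, 1, 2, 4, 3, 2, 1, 0, 3, 2, 1, 0, 4, 3, 2, 1, 3, 4, 1, 0, 1, 3, 2, 4, 3, 2, 1, 0, 1, 3, 2, 1, 3, 2, 4, 3, 2, 1, 3, 2, 1, 0, 1, 2, 3, 2, 4, 3, 2, 1, 0, 1, 0, 2, 3, 2, 1, 0, 4, 3, 2, 1, 0, 3, 2, 1, 0, 1, 2, 3, 2, 4, 3, 2, 1, 0, 1, 0, 2, 3, 2, 1, 0, 4, 3, 2, 1, 0, 3, 2, 4, 3, 1, 2, 3, 4, 0, 1, 2, 3, 0, 1, 2, 3, 4, 2, 1, 0, 1, 2, 3, 2, 3, 6, 3, 2, 3, 2, 1, 0, 1, 2, 4, 3, 2, 1, 0, 3, 2, 1,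 0, 4, 3, 2, 1, 3, 4, 1, 0, 1, 2, 3, 2, 4, 3, 2, 1, 0, 1, 0, 2, 3, 2, 1, 0, 4, 3, 2, 1, 0, 3, 2, 1, 0, 1, 2, 3, 2, 4, 3, 2, 1, 0, 1, 0, 2, 3, 2, 1, 0, 4, 3, 2, 1, 0, 3, 2, 1, 0, 1, 3, 2, 4, 3, 2, 1, 0, 1, 3, 2, 1, 3, 2, 4, 3, 2, 1, 3, 2, 4, 3, 1, 2, 3, 4, 0, 1, 2, 3, 0, 1, 2, 3, 4, 2, 1, 0, 1, 2, 3, 2, 3, 4, 3, 1, 2, 3, 4, 0, 1, 2, 3, 0, 1, 2, 3, 4, 2, 1, 0, 1, 2, 3, 2, 3, 6]
noncomputable def act16 (i : Nat) : Nat := col3 (col2 (col3 (col2 (col1 (col0 (col1 (col2 (col4 (col3 (col2 (col1 (col0 (col3 (col2 (col1 (col0 (col4 (col3 (col2 (col1 (col3 (col4 (col3 (col2 (col3 (col2 (col1 (col0 (col1 (col2 (col4 (col3 (col2 (col1 (col0 (col3 (col2 (col1 (col0 (col4 (col3 (col2 (col1 (col3 (col4 (col1 (col0 (col1 (col3 (col2 (col4 (col3 (col2 (col1 (col0 (col1 (col3 (col2 (col1 (col3 (col2 (col4 (col3 (col2 (col1 (col3 (col2 (col1 (col0 (col1 (col2 (col3 (col2 (col4 (col3 (col2 (col1 (col0 (col1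 (col0 (col2 (col3 (col2 (col1 (col0 (col4 (col3 (col2 (col1 (col0 (col3 (col2 (col1 (col0 (col1 (col2 (col3 (col2 (col4 (col3 (col2 (col1 (col0 (col1 (col0 (col2 (col3 (col2 (col1 (col0 (col4 (col3 (col2 (col1 (col0 (col3 (col2 (col4 (col3 (col1 (col2 (col3 (col4 (col0 (col1 (col2 (col3 (col0 (col1 (col2 (col3 (col4 (col2 (col1 (col0 (col1 (col2 (col3 (col2 (col3 (col6 (col3 (col2 (col3 (col2 (col1 (col0 (col1 (col2 (col4 (col3 (col2 (col1 (col0 (col3 (col2 (col1 (col0 (col4 (col3 (col2 (col1 (col3 (col4 (col1 (col0 (col1 (col2 (col3 (col2 (col4 (col3 (col2 (col1 (col0 (col1 (col0 (col2 (col3 (col2 (col1 (col0 (col4 (col3 (col2 (col1 (col0 (col3 (col2 (col1 (col0 (col1 (col2 (col3 (col2 (col4 (col3 (col2 (col1 (col0 (col1 (col0 (col2 (col3 (col2 (col1 (col0 (col4 (col3 (col2 (col1 (col0 (col3 (col2 (col1 (col0 (col1 (col3 (col2 (col4 (col3 (col2 (col1 (col0 (col1 (col3 (col2 (col1 (col3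 (col2 (col4 (col3 (col2 (col1 (col3 (col2 (col4 (col3 (col1 (col2 (col3 (col4 (col0 (col1 (col2 (col3 (col0 (col1 (col2 (col3 (col4 (col2 (col1 (col0 (col1 (col2 (col3 (col2 (col3 (col4 (col3 (col1 (col2 (col3 (col4 (col0 (col1 (col2 (col3 (col0 (col1 (col2 (col3 (col4 (col2 (col1 (col0 (col1 (col2 (col3 (col2 (col3 (col6 (i))))))))))))))))))))))))))))))))))))))))))))))))))))))))))))))))))))))))))))))))))))))))))))))))))))))))))))))))))))))))))))))))))))))))))))))))))))))))))))))))))))))))))))))))))))))))))))))))))))))))))))))))))))))))))))))))))))))))))))))))))))))))))))))))))))))))))))))))))))))))))))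
theorem act16_eq (i : Nat) : act16 i = Tab.act T D chk16 i := rfl
theorem c16_0 : allRange (fun i => Nat.beq (act16 i) i) 0 209 = true := by decide +kernel
theorem c16_1 : allRange (fun i => Nat.beq (act16 i) i) 209 209 = true := by decide +kernel
theorem c16_2 : allRange (fun i => Nat.beq (act16 i) i) 418 209 = true := by decide +kernel
theorem c16_3 : allRange (fun i => Nat.beq (act16 i) i) 627 209 = true := by decide +kernel
theorem c16_4 : allRange (fun i => Nat.beq (act16 i) i) 836 209 = true := by decide +kernel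
theorem c16_5 : allRange (fun i => Nat.beq (act16 i) i) 1045 209 = true := by decide +kernel
theorem c16_6 : allRange (fun i => Nat.beq (act16 i) i) 1254 209 = true := by decide +kernel
theorem c16_7 : allRange (fun i => Nat.beq (act16 i) i) 1463 209 = true := by decide +kernel
theorem c16_8 : allRange (fun i => Nat.beq (act16 i) i) 1672 110 = true := by decide +kernel
theorem h16 : ∀ i, i < T.N → Tab.relActOK T D chk16 i = true := by
  intro i hi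
  rw [Tab.relActOK, ← act16_eq]
  exact (range_glue (range_of_allRange c16_0) (range_glue (range_of_allRange c16_1) (range_glue (range_of_allRange c16_2) (range_glue (range_of_allRange c16_3) (range_glue (range_of_allRange c16_4) (range_glue (range_of_allRange c16_5) (range_glue (range_of_allRange c16_6) (range_glue (range_of_allRange c16_7) (range_of_allRange c16_8))))))))) i (Nat.zero_le _) hi

def chk17 : List Nat := [3, 2, 3, 2, 1, 0, 1, 2, 4, 3, 2, 1, 0, 3, 2, 1, 0, 4, 3, 2, 1, 3, 4, 3, 2, 3, 2, 1, 0, 1, 2, 4, 3, 2, 1, 0, 3, 2, 1, 0, 4, 3, 2, 1, 3, 4, 2, 3, 0, 1, 2, 3, 4, 0, 1, 2, 3, 2, 0, 1, 0, 1, 2, 3, 4, 2, 3, 2, 1, 0, 1, 6, 4, 3, 1, 2, 3, 4, 0, 1, 2, 3, 0, 1, 2, 3, 4, 2, 1, 0, 1, 2, 3, 2, 3, 1, 0, 1, 3, 2, 4, 3, 2, 1, 0, 1, 3, 2, 1, 3, 2, 4, 3, 2, 1, 3, 2, 6, 1, 0, 1, 3, 2, 4, 3, 2, 1, 0, 1, 3, 2, 1, 3, 2, 4, 3, 2, 1, 3, 2, 3, 2, 3, 2, 1, 0, 1, 2, 4, 3, 2, 1, 0, 3, 2, 1, 0, 4,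 3, 2, 1, 3, 4, 6, 4, 3, 1, 2, 3, 4, 0, 1, 2, 3, 0, 1, 2, 3, 4, 2, 1, 0, 1, 2, 3, 2, 3, 2, 3, 0, 1, 2, 3, 4, 0, 1, 2, 3, 2, 0, 1, 0, 1, 2, 3, 4, 2, 3, 2, 1, 0, 1, 4, 3, 1, 2, 3, 4, 0, 1, 2, 3, 0, 1, 2, 3, 4, 2, 1, 0, 1, 2, 3, 2, 3, 2, 3, 0, 1, 2, 3, 4, 0, 1, 2, 3, 2, 0, 1, 0, 1, 2, 3, 4, 2, 3, 2, 1, 0, 1]
noncomputable def act17 (i : Nat) : Nat := col3 (col2 (col3 (col2 (col1 (col0 (col1 (col2 (col4 (col3 (col2 (col1 (col0 (col3 (col2 (col1 (col0 (col4 (col3 (col2 (col1 (col3 (col4 (col3 (col2 (col3 (col2 (col1 (col0 (col1 (col2 (col4 (col3 (col2 (col1 (col0 (col3 (col2 (col1 (col0 (col4 (col3 (col2 (col1 (col3 (col4 (col2 (col3 (col0 (col1 (col2 (col3 (col4 (col0 (col1 (col2 (col3 (col2 (col0 (col1 (col0 (col1 (col2 (col3 (col4 (col2 (col3 (col2 (col1 (col0 (col1 (col6 (col4 (col3 (col1 (col2 (col3 (col4 (col0 (col1 (col2 (col3 (col0 (col1 (col2 (col3 (col4 (col2 (col1 (col0 (col1 (col2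 (col3 (col2 (col3 (col1 (col0 (col1 (col3 (col2 (col4 (col3 (col2 (col1 (col0 (col1 (col3 (col2 (col1 (col3 (col2 (col4 (col3 (col2 (col1 (col3 (col2 (col6 (col1 (col0 (col1 (col3 (col2 (col4 (col3 (col2 (col1 (col0 (col1 (col3 (col2 (col1 (col3 (col2 (col4 (col3 (col2 (col1 (col3 (col2 (col3 (col2 (col3 (col2 (col1 (col0 (col1 (col2 (col4 (col3 (col2 (col1 (col0 (col3 (col2 (col1 (col0 (col4 (col3 (col2 (col1 (col3 (col4 (col6 (col4 (col3 (col1 (col2 (col3 (col4 (col0 (col1 (col2 (col3 (col0 (col1 (col2 (col3 (col4 (col2 (col1 (col0 (col1 (col2 (col3 (col2 (col3 (col2 (col3 (col0 (col1 (col2 (col3 (col4 (col0 (col1 (col2 (col3 (col2 (col0 (col1 (col0 (col1 (col2 (col3 (col4 (col2 (col3 (col2 (col1 (col0 (col1 (col4 (col3 (col1 (col2 (col3 (col4 (col0 (col1 (col2 (col3 (col0 (col1 (col2 (col3 (col4 (col2 (col1 (col0 (col1 (col2 (col3 (col2 (col3 (col2 (col3 (col0 (col1 (col2 (col3 (col4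 (col0 (col1 (col2 (col3 (col2 (col0 (col1 (col0 (col1 (col2 (col3 (col4 (col2 (col3 (col2 (col1 (col0 (col1 (i))))))))))))))))))))))))))))))))))))))))))))))))))))))))))))))))))))))))))))))))))))))))))))))))))))))))))))))))))))))))))))))))))))))))))))))))))))))))))))))))))))))))))))))))))))))))))))))))))))))))))))))))))))))))))))))))))))))))))))))))))))))))))))))))))))
theorem act17_eq (i : Nat) : act17 i = Tab.act T D chk17 i := rfl
theorem c17_0 : allRange (fun i => Nat.beq (act17 i) i) 0 229 = true := by decide +kernel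
theorem c17_1 : allRange (fun i => Nat.beq (act17 i) i) 229 229 = true := by decide +kernel
theorem c17_2 : allRange (fun i => Nat.beq (act17 i) i) 458 229 = true := by decide +kernel
theorem c17_3 : allRange (fun i => Nat.beq (act17 i) i) 687 229 = true := by decide +kernel
theorem c17_4 : allRange (fun i => Nat.beq (act17 i) i) 916 229 = true := by decide +kernel
theorem c17_5 : allRange (fun i => Nat.beq (act17 i) i) 1145 229 = true := by decide +kernel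
theorem c17_6 : allRange (fun i => Nat.beq (act17 i) i) 1374 229 = true := by decide +kernel
theorem c17_7 : allRange (fun i => Nat.beq (act17 i) i) 1603 179 = true := by decide +kernel
theorem h17 : ∀ i, i < T.N → Tab.relActOK T D chk17 i = true := by
  intro i hi
  rw [Tab.relActOK, ← act17_eq]
  exact (range_glue (range_of_allRange c17_0) (range_glue (range_of_allRange c17_1) (range_glue (range_of_allRange c17_2) (range_glue (range_of_allRange c17_3) (range_glue (range_of_allRange c17_4) (range_glue (range_of_allRange c17_5) (range_glue (range_of_allRange c17_6) (range_of_allRange c17_7)))))))) i (Nat.zero_le _) hi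

def chk18 : List Nat := [3, 2, 3, 2, 1, 0, 1, 2, 4, 3, 2, 1, 0, 3, 2, 1, 0, 4, 3, 2, 1, 3, 4, 1, 0, 1, 2, 3, 2, 4, 3, 2, 1, 0, 1, 0, 2, 3, 2, 1, 0, 4, 3, 2, 1, 0, 3, 2, 4, 3, 1, 2, 3, 4, 0, 1, 2, 3, 0, 1, 2, 3, 4, 2, 1, 0, 1, 2, 3, 2, 3, 1, 0, 1, 3, 2, 4, 3, 2, 1, 0, 1, 3, 2, 1, 3, 2, 4, 3, 2, 1, 3, 2, 3, 2, 3, 2, 1, 0, 1, 2, 4, 3, 2, 1, 0, 3, 2, 1, 0, 4, 3, 2, 1, 3, 4, 6, 4, 3, 1, 2, 3, 4, 0, 1, 2, 3, 0, 1, 2, 3, 4, 2, 1, 0, 1, 2, 3, 2, 3, 0, 1, 2, 4, 3, 2, 1, 0, 1, 3, 2, 3, 2, 4, 3, 2, 1, 0, 3, 2, 1, 0, 1, 5, 1, 0, 2, 3, 2, 1, 4, 3, 2, 3, 2, 5, 1, 0, 1, 2, 3, 2, 4, 3, 2, 1, 0, 1, 0, 2, 3, 2, 1, 0, 4, 3, 2, 1, 0, 3, 2, 0, 1, 2, 4, 3, 2, 1, 0, 1, 3, 2, 3, 2, 4, 3, 2, 1, 0, 3, 2, 1, 0, 1, 5, 1, 0, 2, 3, 2, 1, 4, 3, 2, 3, 2, 5, 3, 2, 3, 2, 1, 0, 1, 2, 4, 3, 2, 1, 0, 3, 2, 1, 0, 4, 3, 2, 1, 3, 4, 6, 4, 3, 1, 2, 3, 4, 0, 1, 2, 3, 0, 1, 2, 3, 4, 2, 1, 0, 1, 2, 3, 2, 3, 1, 0, 1, 3, 2, 4, 3,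 2, 1, 0, 1, 3, 2, 1, 3, 2, 4, 3, 2, 1, 3, 2]
noncomputable def act18 (i : Nat) : Nat := col3 (col2 (col3 (col2 (col1 (col0 (col1 (col2 (col4 (col3 (col2 (col1 (col0 (col3 (col2 (col1 (col0 (col4 (col3 (col2 (col1 (col3 (col4 (col1 (col0 (col1 (col2 (col3 (col2 (col4 (col3 (col2 (col1 (col0 (col1 (col0 (col2 (col3 (col2 (col1 (col0 (col4 (col3 (col2 (col1 (col0 (col3 (col2 (col4 (col3 (col1 (col2 (col3 (col4 (col0 (col1 (col2 (col3 (col0 (col1 (col2 (col3 (col4 (col2 (col1 (col0 (col1 (col2 (col3 (col2 (col3 (col1 (col0 (col1 (col3 (col2 (col4 (col3 (col2 (col1 (col0 (col1 (col3 (col2 (col1 (col3 (col2 (col4 (col3 (col2 (col1 (col3 (col2 (col3 (col2 (col3 (col2 (col1 (col0 (col1 (col2 (col4 (col3 (col2 (col1 (col0 (col3 (col2 (col1 (col0 (col4 (col3 (col2 (col1 (col3 (col4 (col6 (col4 (col3 (col1 (col2 (col3 (col4 (col0 (col1 (col2 (col3 (col0 (col1 (col2 (col3 (col4 (col2 (col1 (col0 (col1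 (col2 (col3 (col2 (col3 (col0 (col1 (col2 (col4 (col3 (col2 (col1 (col0 (col1 (col3 (col2 (col3 (col2 (col4 (col3 (col2 (col1 (col0 (col3 (col2 (col1 (col0 (col1 (col5 (col1 (col0 (col2 (col3 (col2 (col1 (col4 (col3 (col2 (col3 (col2 (col5 (col1 (col0 (col1 (col2 (col3 (col2 (col4 (col3 (col2 (col1 (col0 (col1 (col0 (col2 (col3 (col2 (col1 (col0 (col4 (col3 (col2 (col1 (col0 (col3 (col2 (col0 (col1 (col2 (col4 (col3 (col2 (col1 (col0 (col1 (col3 (col2 (col3 (col2 (col4 (col3 (col2 (col1 (col0 (col3 (col2 (col1 (col0 (col1 (col5 (col1 (col0 (col2 (col3 (col2 (col1 (col4 (col3 (col2 (col3 (col2 (col5 (col3 (col2 (col3 (col2 (col1 (col0 (col1 (col2 (col4 (col3 (col2 (col1 (col0 (col3 (col2 (col1 (col0 (col4 (col3 (col2 (col1 (col3 (col4 (col6 (col4 (col3 (col1 (col2 (col3 (col4 (col0 (col1 (col2 (col3 (col0 (col1 (col2 (col3 (col4 (col2 (col1 (col0 (col1 (col2 (col3 (col2 (col3 (col1 (col0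 (col1 (col3 (col2 (col4 (col3 (col2 (col1 (col0 (col1 (col3 (col2 (col1 (col3 (col2 (col4 (col3 (col2 (col1 (col3 (col2 (i))))))))))))))))))))))))))))))))))))))))))))))))))))))))))))))))))))))))))))))))))))))))))))))))))))))))))))))))))))))))))))))))))))))))))))))))))))))))))))))))))))))))))))))))))))))))))))))))))))))))))))))))))))))))))))))))))))))))))))))))))))))))))))))))))))))))))))))))))))))))))))))))))))))))))))))))))
theorem act18_eq (i : Nat) : act18 i = Tab.act T D chk18 i := rfl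
theorem c18_0 : allRange (fun i => Nat.beq (act18 i) i) 0 194 = true := by decide +kernel
theorem c18_1 : allRange (fun i => Nat.beq (act18 i) i) 194 194 = true := by decide +kernel
theorem c18_2 : allRange (fun i => Nat.beq (act18 i) i) 388 194 = true := by decide +kernel
theorem c18_3 : allRange (fun i => Nat.beq (act18 i) i) 582 194 = true := by decide +kernel
theorem c18_4 : allRange (fun i => Nat.beq (act18 i) i) 776 194 = true := by decide +kernel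
theorem c18_5 : allRange (fun i => Nat.beq (act18 i) i) 970 194 = true := by decide +kernel
theorem c18_6 : allRange (fun i => Nat.beq (act18 i) i) 1164 194 = true := by decide +kernel
theorem c18_7 : allRange (fun i => Nat.beq (act18 i) i) 1358 194 = true := by decide +kernel
theorem c18_8 : allRange (fun i => Nat.beq (act18 i) i) 1552 194 = true := by decide +kernel
theorem c18_9 : allRange (fun i => Nat.beq (act18 i) i) 1746 36 = true := by decide +kernel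
theorem h18 : ∀ i, i < T.N → Tab.relActOK T D chk18 i = true := by
  intro i hi
  rw [Tab.relActOK, ← act18_eq]
  exact (range_glue (range_of_allRange c18_0) (range_glue (range_of_allRange c18_1) (range_glue (range_of_allRange c18_2) (range_glue (range_of_allRange c18_3) (range_glue (range_of_allRange c18_4) (range_glue (range_of_allRange c18_5) (range_glue (range_of_allRange c18_6) (range_glue (range_of_allRange c18_7) (range_glue (range_of_allRange c18_8) (range_of_allRange c18_9)))))))))) i (Nat.zero_le _) hi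

def chk19 : List Nat := [3, 2, 3, 2, 1, 0, 1, 2, 4, 3, 2, 1, 0, 3, 2, 1, 0, 4, 3, 2, 1, 3, 4, 2, 3, 0, 1, 2, 3, 4, 0, 1, 2, 3, 2, 0, 1, 0, 1, 2, 3, 4, 2, 3, 2, 1, 0, 1, 3, 2, 3, 2, 1, 0, 1, 2, 4, 3, 2, 1, 0, 3, 2, 1, 0, 4, 3, 2, 1, 3, 4, 2, 3, 0, 1, 2, 3, 4, 0, 1, 2, 3, 2, 0, 1, 0, 1, 2, 3, 4, 2, 3, 2, 1, 0, 1, 6, 1, 0, 1, 2, 3, 2, 4, 3, 2, 1, 0, 1, 0, 2, 3, 2, 1, 0, 4, 3, 2, 1, 0, 3, 2, 4, 3, 1, 2, 3, 4, 0, 1, 2, 3, 0, 1, 2, 3, 4, 2, 1, 0, 1, 2, 3, 2, 3, 1, 0, 1, 2, 3, 2, 4, 3, 2, 1, 0, 1, 0, 2, 3, 2, 1, 0, 4, 3, 2, 1, 0, 3, 2, 4, 3, 1, 2, 3, 4, 0, 1, 2, 3, 0, 1, 2, 3, 4, 2, 1, 0, 1, 2, 3, 2, 3, 1, 0, 1, 2, 3, 2, 4, 3, 2, 1, 0, 1, 0, 2, 3, 2, 1, 0, 4, 3, 2, 1, 0, 3, 2, 3, 2, 3, 2, 1, 0, 1, 2, 4, 3, 2, 1, 0, 3, 2, 1, 0, 4, 3, 2, 1, 3, 4, 6, 4, 3, 1, 2, 3, 4, 0, 1, 2, 3, 0, 1, 2, 3, 4, 2, 1, 0, 1, 2, 3, 2, 3, 2, 3, 0, 1, 2, 3, 4, 0, 1, 2, 3, 2, 0, 1, 0, 1, 2, 3, 4, 2, 3, 2, 1, 0, 1]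
noncomputable def act19 (i : Nat) : Nat := col3 (col2 (col3 (col2 (col1 (col0 (col1 (col2 (col4 (col3 (col2 (col1 (col0 (col3 (col2 (col1 (col0 (col4 (col3 (col2 (col1 (col3 (col4 (col2 (col3 (col0 (col1 (col2 (col3 (col4 (col0 (col1 (col2 (col3 (col2 (col0 (col1 (col0 (col1 (col2 (col3 (col4 (col2 (col3 (col2 (col1 (col0 (col1 (col3 (col2 (col3 (col2 (col1 (col0 (col1 (col2 (col4 (col3 (col2 (col1 (col0 (col3 (col2 (col1 (col0 (col4 (col3 (col2 (col1 (col3 (col4 (col2 (col3 (col0 (col1 (col2 (col3 (col4 (col0 (col1 (col2 (col3 (col2 (col0 (col1 (col0 (col1 (col2 (col3 (col4 (col2 (col3 (col2 (col1 (col0 (col1 (col6 (col1 (col0 (col1 (col2 (col3 (col2 (col4 (col3 (col2 (col1 (col0 (col1 (col0 (col2 (col3 (col2 (col1 (col0 (col4 (col3 (col2 (col1 (col0 (col3 (col2 (col4 (col3 (col1 (col2 (col3 (col4 (col0 (col1 (col2 (col3 (col0 (col1 (col2 (col3 (col4 (col2 (col1 (col0 (col1 (col2 (col3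 (col2 (col3 (col1 (col0 (col1 (col2 (col3 (col2 (col4 (col3 (col2 (col1 (col0 (col1 (col0 (col2 (col3 (col2 (col1 (col0 (col4 (col3 (col2 (col1 (col0 (col3 (col2 (col4 (col3 (col1 (col2 (col3 (col4 (col0 (col1 (col2 (col3 (col0 (col1 (col2 (col3 (col4 (col2 (col1 (col0 (col1 (col2 (col3 (col2 (col3 (col1 (col0 (col1 (col2 (col3 (col2 (col4 (col3 (col2 (col1 (col0 (col1 (col0 (col2 (col3 (col2 (col1 (col0 (col4 (col3 (col2 (col1 (col0 (col3 (col2 (col3 (col2 (col3 (col2 (col1 (col0 (col1 (col2 (col4 (col3 (col2 (col1 (col0 (col3 (col2 (col1 (col0 (col4 (col3 (col2 (col1 (col3 (col4 (col6 (col4 (col3 (col1 (col2 (col3 (col4 (col0 (col1 (col2 (col3 (col0 (col1 (col2 (col3 (col4 (col2 (col1 (col0 (col1 (col2 (col3 (col2 (col3 (col2 (col3 (col0 (col1 (col2 (col3 (col4 (col0 (col1 (col2 (col3 (col2 (col0 (col1 (col0 (col1 (col2 (col3 (col4 (col2 (col3 (col2 (col1 (col0 (col1 (i))))))))))))))))))))))))))))))))))))))))))))))))))))))))))))))))))))))))))))))))))))))))))))))))))))))))))))))))))))))))))))))))))))))))))))))))))))))))))))))))))))))))))))))))))))))))))))))))))))))))))))))))))))))))))))))))))))))))))))))))))))))))))))))))))))))))))))))))))))))))))))))))))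
theorem act19_eq (i : Nat) : act19 i = Tab.act T D chk19 i := rfl
theorem c19_0 : allRange (fun i => Nat.beq (act19 i) i) 0 205 = true := by decide +kernel
theorem c19_1 : allRange (fun i => Nat.beq (act19 i) i) 205 205 = true := by decide +kernel
theorem c19_2 : allRange (fun i => Nat.beq (act19 i) i) 410 205 = true := by decide +kernel
theorem c19_3 : allRange (fun i => Nat.beq (act19 i) i) 615 205 = true := by decide +kernel
theorem c19_4 : allRange (fun i => Nat.beq (act19 i) i) 820 205 = true := by decide +kernel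
theorem c19_5 : allRange (fun i => Nat.beq (act19 i) i) 1025 205 = true := by decide +kernel
theorem c19_6 : allRange (fun i => Nat.beq (act19 i) i) 1230 205 = true := by decide +kernel
theorem c19_7 : allRange (fun i => Nat.beq (act19 i) i) 1435 205 = true := by decide +kernel
theorem c19_8 : allRange (fun i => Nat.beq (act19 i) i) 1640 142 = true := by decide +kernel
theorem h19 : ∀ i, i < T.N → Tab.relActOK T D chk19 i = true := by
  intro i hi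
  rw [Tab.relActOK, ← act19_eq]
  exact (range_glue (range_of_allRange c19_0) (range_glue (range_of_allRange c19_1) (range_glue (range_of_allRange c19_2) (range_glue (range_of_allRange c19_3) (range_glue (range_of_allRange c19_4) (range_glue (range_of_allRange c19_5) (range_glue (range_of_allRange c19_6) (range_glue (range_of_allRange c19_7) (range_of_allRange c19_8))))))))) i (Nat.zero_le _) hi

def chk20 : List Nat := [3, 2, 3, 2, 1, 0, 1, 2, 4, 3, 2, 1, 0, 3, 2, 1, 0, 4, 3, 2, 1, 3, 4, 3, 2, 3, 2, 1, 0, 1, 2, 4, 3, 2, 1, 0, 3, 2, 1, 0, 4, 3, 2, 1, 3, 4, 1, 0, 1, 2, 3, 2, 4, 3, 2, 1, 0, 1, 0, 2, 3, 2, 1, 0, 4, 3, 2, 1, 0, 3, 2, 3, 2, 3, 2, 1, 0, 1, 2, 4, 3, 2, 1, 0, 3, 2, 1, 0, 4, 3, 2, 1, 3, 4, 3, 2, 3, 2, 1, 0, 1, 2, 4, 3, 2, 1, 0, 3, 2, 1, 0, 4, 3, 2, 1, 3, 4, 1, 0, 1, 2, 3, 2, 4, 3, 2, 1, 0, 1, 0, 2, 3, 2, 1, 0, 4, 3, 2, 1, 0, 3, 2, 6, 2, 3, 0, 1, 2, 3, 4, 0, 1, 2, 3, 2, 0, 1, 0,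 1, 2, 3, 4, 2, 3, 2, 1, 0, 1, 4, 3, 1, 2, 3, 4, 0, 1, 2, 3, 0, 1, 2, 3, 4, 2, 1, 0, 1, 2, 3, 2, 3, 4, 3, 1, 2, 3, 4, 0, 1, 2, 3, 0, 1, 2, 3, 4, 2, 1, 0, 1, 2, 3, 2, 3, 2, 3, 0, 1, 2, 3, 4, 0, 1, 2, 3, 2, 0, 1, 0, 1, 2, 3, 4, 2, 3, 2, 1, 0, 1, 4, 3, 1, 2, 3, 4, 0, 1, 2, 3, 0, 1, 2, 3, 4, 2, 1, 0, 1, 2, 3, 2, 3, 4, 3, 1, 2, 3, 4, 0, 1, 2, 3, 0, 1, 2, 3, 4, 2, 1, 0, 1, 2, 3, 2, 3, 6]
noncomputable def act20 (i : Nat) : Nat := col3 (col2 (col3 (col2 (col1 (col0 (col1 (col2 (col4 (col3 (col2 (col1 (col0 (col3 (col2 (col1 (col0 (col4 (col3 (col2 (col1 (col3 (col4 (col3 (col2 (col3 (col2 (col1 (col0 (col1 (col2 (col4 (col3 (col2 (col1 (col0 (col3 (col2 (col1 (col0 (col4 (col3 (col2 (col1 (col3 (col4 (col1 (col0 (col1 (col2 (col3 (col2 (col4 (col3 (col2 (col1 (col0 (col1 (col0 (col2 (col3 (col2 (col1 (col0 (col4 (col3 (col2 (col1 (col0 (col3 (col2 (col3 (col2 (col3 (col2 (col1 (col0 (col1 (col2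 (col4 (col3 (col2 (col1 (col0 (col3 (col2 (col1 (col0 (col4 (col3 (col2 (col1 (col3 (col4 (col3 (col2 (col3 (col2 (col1 (col0 (col1 (col2 (col4 (col3 (col2 (col1 (col0 (col3 (col2 (col1 (col0 (col4 (col3 (col2 (col1 (col3 (col4 (col1 (col0 (col1 (col2 (col3 (col2 (col4 (col3 (col2 (col1 (col0 (col1 (col0 (col2 (col3 (col2 (col1 (col0 (col4 (col3 (col2 (col1 (col0 (col3 (col2 (col6 (col2 (col3 (col0 (col1 (col2 (col3 (col4 (col0 (col1 (col2 (col3 (col2 (col0 (col1 (col0 (col1 (col2 (col3 (col4 (col2 (col3 (col2 (col1 (col0 (col1 (col4 (col3 (col1 (col2 (col3 (col4 (col0 (col1 (col2 (col3 (col0 (col1 (col2 (col3 (col4 (col2 (col1 (col0 (col1 (col2 (col3 (col2 (col3 (col4 (col3 (col1 (col2 (col3 (col4 (col0 (col1 (col2 (col3 (col0 (col1 (col2 (col3 (col4 (col2 (col1 (col0 (col1 (col2 (col3 (col2 (col3 (col2 (col3 (col0 (col1 (col2 (col3 (col4 (col0 (col1 (col2 (col3 (col2 (col0 (col1 (col0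 (col1 (col2 (col3 (col4 (col2 (col3 (col2 (col1 (col0 (col1 (col4 (col3 (col1 (col2 (col3 (col4 (col0 (col1 (col2 (col3 (col0 (col1 (col2 (col3 (col4 (col2 (col1 (col0 (col1 (col2 (col3 (col2 (col3 (col4 (col3 (col1 (col2 (col3 (col4 (col0 (col1 (col2 (col3 (col0 (col1 (col2 (col3 (col4 (col2 (col1 (col0 (col1 (col2 (col3 (col2 (col3 (col6 (i))))))))))))))))))))))))))))))))))))))))))))))))))))))))))))))))))))))))))))))))))))))))))))))))))))))))))))))))))))))))))))))))))))))))))))))))))))))))))))))))))))))))))))))))))))))))))))))))))))))))))))))))))))))))))))))))))))))))))))))))))))))))))))))))))))))))))))))))))))))))))))))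
theorem act20_eq (i : Nat) : act20 i = Tab.act T D chk20 i := rfl
theorem c20_0 : allRange (fun i => Nat.beq (act20 i) i) 0 208 = true := by decide +kernel
theorem c20_1 : allRange (fun i => Nat.beq (act20 i) i) 208 208 = true := by decide +kernel
theorem c20_2 : allRange (fun i => Nat.beq (act20 i) i) 416 208 = true := by decide +kernel
theorem c20_3 : allRange (fun i => Nat.beq (act20 i) i) 624 208 = true := by decide +kernel
theorem c20_4 : allRange (fun i => Nat.beq (act20 i) i) 832 208 = true := by decide +kernel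
theorem c20_5 : allRange (fun i => Nat.beq (act20 i) i) 1040 208 = true := by decide +kernel
theorem c20_6 : allRange (fun i => Nat.beq (act20 i) i) 1248 208 = true := by decide +kernel
theorem c20_7 : allRange (fun i => Nat.beq (act20 i) i) 1456 208 = true := by decide +kernel
theorem c20_8 : allRange (fun i => Nat.beq (act20 i) i) 1664 118 = true := by decide +kernel
theorem h20 : ∀ i, i < T.N → Tab.relActOK T D chk20 i = true := by
  intro i hi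
  rw [Tab.relActOK, ← act20_eq]
  exact (range_glue (range_of_allRange c20_0) (range_glue (range_of_allRange c20_1) (range_glue (range_of_allRange c20_2) (range_glue (range_of_allRange c20_3) (range_glue (range_of_allRange c20_4) (range_glue (range_of_allRange c20_5) (range_glue (range_of_allRange c20_6) (range_glue (range_of_allRange c20_7) (range_of_allRange c20_8))))))))) i (Nat.zero_le _) hi

def chk21 : List Nat := [3, 2, 3, 2, 1, 0, 1, 2, 4, 3, 2, 1, 0, 3, 2, 1, 0, 4, 3, 2, 1, 3, 4, 1, 0, 1, 3, 2, 4, 3, 2, 1, 0, 1, 3, 2, 1, 3, 2, 4, 3, 2, 1, 3, 2, 1, 0, 1, 2, 3, 2, 4, 3, 2, 1, 0, 1, 0, 2, 3, 2, 1, 0, 4, 3, 2, 1, 0, 3, 2, 6, 2, 3, 0, 1, 2, 3, 4, 0, 1, 2, 3, 2, 0, 1, 0, 1, 2, 3, 4, 2, 3, 2, 1, 0, 1, 1, 0, 1, 3, 2, 4, 3, 2, 1, 0, 1, 3, 2, 1, 3, 2, 4, 3, 2, 1, 3, 2, 4, 3, 1, 2, 3, 4, 0, 1, 2, 3, 0, 1, 2, 3, 4, 2, 1, 0, 1, 2, 3, 2, 3, 1, 0, 1, 2, 3, 2, 4, 3, 2, 1, 0, 1, 0, 2, 3, 2, 1,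 0, 4, 3, 2, 1, 0, 3, 2, 1, 0, 1, 3, 2, 4, 3, 2, 1, 0, 1, 3, 2, 1, 3, 2, 4, 3, 2, 1, 3, 2, 3, 2, 3, 2, 1, 0, 1, 2, 4, 3, 2, 1, 0, 3, 2, 1, 0, 4, 3, 2, 1, 3, 4, 6, 4, 3, 1, 2, 3, 4, 0, 1, 2, 3, 0, 1, 2, 3, 4, 2, 1, 0, 1, 2, 3, 2, 3, 1, 0, 1, 3, 2, 4, 3, 2, 1, 0, 1, 3, 2, 1, 3, 2, 4, 3, 2, 1, 3, 2, 2, 3, 0, 1, 2, 3, 4, 0, 1, 2, 3, 2, 0, 1, 0, 1, 2, 3, 4, 2, 3, 2, 1, 0, 1]
noncomputable def act21 (i : Nat) : Nat := col3 (col2 (col3 (col2 (col1 (col0 (col1 (col2 (col4 (col3 (col2 (col1 (col0 (col3 (col2 (col1 (col0 (col4 (col3 (col2 (col1 (col3 (col4 (col1 (col0 (col1 (col3 (col2 (col4 (col3 (col2 (col1 (col0 (col1 (col3 (col2 (col1 (col3 (col2 (col4 (col3 (col2 (col1 (col3 (col2 (col1 (col0 (col1 (col2 (col3 (col2 (col4 (col3 (col2 (col1 (col0 (col1 (col0 (col2 (col3 (col2 (col1 (col0 (col4 (col3 (col2 (col1 (col0 (col3 (col2 (col6 (col2 (col3 (col0 (col1 (col2 (col3 (col4 (col0 (col1 (col2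 (col3 (col2 (col0 (col1 (col0 (col1 (col2 (col3 (col4 (col2 (col3 (col2 (col1 (col0 (col1 (col1 (col0 (col1 (col3 (col2 (col4 (col3 (col2 (col1 (col0 (col1 (col3 (col2 (col1 (col3 (col2 (col4 (col3 (col2 (col1 (col3 (col2 (col4 (col3 (col1 (col2 (col3 (col4 (col0 (col1 (col2 (col3 (col0 (col1 (col2 (col3 (col4 (col2 (col1 (col0 (col1 (col2 (col3 (col2 (col3 (col1 (col0 (col1 (col2 (col3 (col2 (col4 (col3 (col2 (col1 (col0 (col1 (col0 (col2 (col3 (col2 (col1 (col0 (col4 (col3 (col2 (col1 (col0 (col3 (col2 (col1 (col0 (col1 (col3 (col2 (col4 (col3 (col2 (col1 (col0 (col1 (col3 (col2 (col1 (col3 (col2 (col4 (col3 (col2 (col1 (col3 (col2 (col3 (col2 (col3 (col2 (col1 (col0 (col1 (col2 (col4 (col3 (col2 (col1 (col0 (col3 (col2 (col1 (col0 (col4 (col3 (col2 (col1 (col3 (col4 (col6 (col4 (col3 (col1 (col2 (col3 (col4 (col0 (col1 (col2 (col3 (col0 (col1 (col2 (col3 (col4 (col2 (col1 (col0 (col1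 (col2 (col3 (col2 (col3 (col1 (col0 (col1 (col3 (col2 (col4 (col3 (col2 (col1 (col0 (col1 (col3 (col2 (col1 (col3 (col2 (col4 (col3 (col2 (col1 (col3 (col2 (col2 (col3 (col0 (col1 (col2 (col3 (col4 (col0 (col1 (col2 (col3 (col2 (col0 (col1 (col0 (col1 (col2 (col3 (col4 (col2 (col3 (col2 (col1 (col0 (col1 (i))))))))))))))))))))))))))))))))))))))))))))))))))))))))))))))))))))))))))))))))))))))))))))))))))))))))))))))))))))))))))))))))))))))))))))))))))))))))))))))))))))))))))))))))))))))))))))))))))))))))))))))))))))))))))))))))))))))))))))))))))))))))))))))))))))))))))))))))))))))))))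
theorem act21_eq (i : Nat) : act21 i = Tab.act T D chk21 i := rfl
theorem c21_0 : allRange (fun i => Nat.beq (act21 i) i) 0 211 = true := by decide +kernel
theorem c21_1 : allRange (fun i => Nat.beq (act21 i) i) 211 211 = true := by decide +kernel
theorem c21_2 : allRange (fun i => Nat.beq (act21 i) i) 422 211 = true := by decide +kernel
theorem c21_3 : allRange (fun i => Nat.beq (act21 i) i) 633 211 = true := by decide +kernel
theorem c21_4 : allRange (fun i => Nat.beq (act21 i) i) 844 211 = true := by decide +kernel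
theorem c21_5 : allRange (fun i => Nat.beq (act21 i) i) 1055 211 = true := by decide +kernel
theorem c21_6 : allRange (fun i => Nat.beq (act21 i) i) 1266 211 = true := by decide +kernel
theorem c21_7 : allRange (fun i => Nat.beq (act21 i) i) 1477 211 = true := by decide +kernel
theorem c21_8 : allRange (fun i => Nat.beq (act21 i) i) 1688 94 = true := by decide +kernel
theorem h21 : ∀ i, i < T.N → Tab.relActOK T D chk21 i = true := by
  intro i hi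
  rw [Tab.relActOK, ← act21_eq]
  exact (range_glue (range_of_allRange c21_0) (range_glue (range_of_allRange c21_1) (range_glue (range_of_allRange c21_2) (range_glue (range_of_allRange c21_3) (range_glue (range_of_allRange c21_4) (range_glue (range_of_allRange c21_5) (range_glue (range_of_allRange c21_6) (range_glue (range_of_allRange c21_7) (range_of_allRange c21_8))))))))) i (Nat.zero_le _) hi

def chk22 : List Nat := [3, 2, 3, 2, 1, 0, 1, 2, 4, 3, 2, 1, 0, 3, 2, 1, 0, 4, 3, 2, 1, 3, 4, 3, 2, 3, 2, 1, 0, 1, 2, 4, 3, 2, 1, 0, 3, 2, 1, 0, 4, 3, 2, 1, 3, 4, 3, 2, 3, 2, 1, 0, 1, 2, 4, 3, 2, 1, 0, 3, 2, 1, 0, 4, 3, 2, 1, 3, 4, 2, 3, 0, 1, 2, 3, 4, 0, 1, 2, 3, 2, 0, 1, 0, 1, 2, 3, 4, 2, 3, 2, 1, 0, 1, 1, 0, 1, 3, 2, 4, 3, 2, 1, 0, 1, 3, 2, 1, 3, 2, 4, 3, 2, 1, 3, 2, 6, 1, 0, 1, 3, 2, 4, 3, 2, 1, 0, 1, 3, 2, 1, 3, 2, 4, 3, 2, 1, 3, 2, 1, 0, 1, 2, 3, 2, 4, 3, 2, 1, 0, 1, 0, 2, 3, 2, 1, 0, 4,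 3, 2, 1, 0, 3, 2, 4, 3, 1, 2, 3, 4, 0, 1, 2, 3, 0, 1, 2, 3, 4, 2, 1, 0, 1, 2, 3, 2, 3, 4, 3, 1, 2, 3, 4, 0, 1, 2, 3, 0, 1, 2, 3, 4, 2, 1, 0, 1, 2, 3, 2, 3, 4, 3, 1, 2, 3, 4, 0, 1, 2, 3, 0, 1, 2, 3, 4, 2, 1, 0, 1, 2, 3, 2, 3, 1, 0, 1, 3, 2, 4, 3, 2, 1, 0, 1, 3, 2, 1, 3, 2, 4, 3, 2, 1, 3, 2, 6, 1, 0, 1, 3, 2, 4, 3, 2, 1, 0, 1, 3, 2, 1, 3, 2, 4, 3, 2, 1, 3, 2]
noncomputable def act22 (i : Nat) : Nat := col3 (col2 (col3 (col2 (col1 (col0 (col1 (col2 (col4 (col3 (col2 (col1 (col0 (col3 (col2 (col1 (col0 (col4 (col3 (col2 (col1 (col3 (col4 (col3 (col2 (col3 (col2 (col1 (col0 (col1 (col2 (col4 (col3 (col2 (col1 (col0 (col3 (col2 (col1 (col0 (col4 (col3 (col2 (col1 (col3 (col4 (col3 (col2 (col3 (col2 (col1 (col0 (col1 (col2 (col4 (col3 (col2 (col1 (col0 (col3 (col2 (col1 (col0 (col4 (col3 (col2 (col1 (col3 (col4 (col2 (col3 (col0 (col1 (col2 (col3 (col4 (col0 (col1 (col2 (col3 (col2 (col0 (col1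 (col0 (col1 (col2 (col3 (col4 (col2 (col3 (col2 (col1 (col0 (col1 (col1 (col0 (col1 (col3 (col2 (col4 (col3 (col2 (col1 (col0 (col1 (col3 (col2 (col1 (col3 (col2 (col4 (col3 (col2 (col1 (col3 (col2 (col6 (col1 (col0 (col1 (col3 (col2 (col4 (col3 (col2 (col1 (col0 (col1 (col3 (col2 (col1 (col3 (col2 (col4 (col3 (col2 (col1 (col3 (col2 (col1 (col0 (col1 (col2 (col3 (col2 (col4 (col3 (col2 (col1 (col0 (col1 (col0 (col2 (col3 (col2 (col1 (col0 (col4 (col3 (col2 (col1 (col0 (col3 (col2 (col4 (col3 (col1 (col2 (col3 (col4 (col0 (col1 (col2 (col3 (col0 (col1 (col2 (col3 (col4 (col2 (col1 (col0 (col1 (col2 (col3 (col2 (col3 (col4 (col3 (col1 (col2 (col3 (col4 (col0 (col1 (col2 (col3 (col0 (col1 (col2 (col3 (col4 (col2 (col1 (col0 (col1 (col2 (col3 (col2 (col3 (col4 (col3 (col1 (col2 (col3 (col4 (col0 (col1 (col2 (col3 (col0 (col1 (col2 (col3 (col4 (col2 (col1 (col0 (col1 (col2 (col3 (col2 (col3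 (col1 (col0 (col1 (col3 (col2 (col4 (col3 (col2 (col1 (col0 (col1 (col3 (col2 (col1 (col3 (col2 (col4 (col3 (col2 (col1 (col3 (col2 (col6 (col1 (col0 (col1 (col3 (col2 (col4 (col3 (col2 (col1 (col0 (col1 (col3 (col2 (col1 (col3 (col2 (col4 (col3 (col2 (col1 (col3 (col2 (i))))))))))))))))))))))))))))))))))))))))))))))))))))))))))))))))))))))))))))))))))))))))))))))))))))))))))))))))))))))))))))))))))))))))))))))))))))))))))))))))))))))))))))))))))))))))))))))))))))))))))))))))))))))))))))))))))))))))))))))))))))))))))))))))))))))))))))))))))))))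
theorem act22_eq (i : Nat) : act22 i = Tab.act T D chk22 i := rfl
theorem c22_0 : allRange (fun i => Nat.beq (act22 i) i) 0 214 = true := by decide +kernel
theorem c22_1 : allRange (fun i => Nat.beq (act22 i) i) 214 214 = true := by decide +kernel
theorem c22_2 : allRange (fun i => Nat.beq (act22 i) i) 428 214 = true := by decide +kernel
theorem c22_3 : allRange (fun i => Nat.beq (act22 i) i) 642 214 = true := by decide +kernel
theorem c22_4 : allRange (fun i => Nat.beq (act22 i) i) 856 214 = true := by decide +kernel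
theorem c22_5 : allRange (fun i => Nat.beq (act22 i) i) 1070 214 = true := by decide +kernel
theorem c22_6 : allRange (fun i => Nat.beq (act22 i) i) 1284 214 = true := by decide +kernel
theorem c22_7 : allRange (fun i => Nat.beq (act22 i) i) 1498 214 = true := by decide +kernel
theorem c22_8 : allRange (fun i => Nat.beq (act22 i) i) 1712 70 = true := by decide +kernel
theorem h22 : ∀ i, i < T.N → Tab.relActOK T D chk22 i = true := by
  intro i hi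
  rw [Tab.relActOK, ← act22_eq]
  exact (range_glue (range_of_allRange c22_0) (range_glue (range_of_allRange c22_1) (range_glue (range_of_allRange c22_2) (range_glue (range_of_allRange c22_3) (range_glue (range_of_allRange c22_4) (range_glue (range_of_allRange c22_5) (range_glue (range_of_allRange c22_6) (range_glue (range_of_allRange c22_7) (range_of_allRange c22_8))))))))) i (Nat.zero_le _) hi

def chk23 : List Nat := [3, 2, 3, 2, 1, 0, 1, 2, 4, 3, 2, 1, 0, 3, 2, 1, 0, 4, 3, 2, 1, 3, 4, 1, 0, 1, 3, 2, 4, 3, 2, 1, 0, 1, 3, 2, 1, 3, 2, 4, 3, 2, 1, 3, 2, 6, 1, 0, 1, 3, 2, 4, 3, 2, 1, 0, 1, 3, 2, 1, 3, 2, 4, 3, 2, 1, 3, 2, 6, 1, 0, 1, 2, 3, 2, 4, 3, 2, 1, 0, 1, 0, 2, 3, 2, 1, 0, 4, 3, 2, 1, 0, 3, 2, 1, 0, 1, 2, 3, 2, 4, 3, 2, 1, 0, 1, 0, 2, 3, 2, 1, 0, 4, 3, 2, 1, 0, 3, 2, 6, 1, 0, 1, 3, 2, 4, 3, 2, 1, 0, 1, 3, 2, 1, 3, 2, 4, 3, 2, 1, 3, 2, 6, 1, 0, 1, 3, 2, 4, 3, 2, 1, 0, 1, 3, 2, 1, 3,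 2, 4, 3, 2, 1, 3, 2, 4, 3, 1, 2, 3, 4, 0, 1, 2, 3, 0, 1, 2, 3, 4, 2, 1, 0, 1, 2, 3, 2, 3, 1, 0, 1, 2, 3, 2, 4, 3, 2, 1, 0, 1, 0, 2, 3, 2, 1, 0, 4, 3, 2, 1, 0, 3, 2, 1, 0, 1, 2, 3, 2, 4, 3, 2, 1, 0, 1, 0, 2, 3, 2, 1, 0, 4, 3, 2, 1, 0, 3, 2]
noncomputable def act23 (i : Nat) : Nat := col3 (col2 (col3 (col2 (col1 (col0 (col1 (col2 (col4 (col3 (col2 (col1 (col0 (col3 (col2 (col1 (col0 (col4 (col3 (col2 (col1 (col3 (col4 (col1 (col0 (col1 (col3 (col2 (col4 (col3 (col2 (col1 (col0 (col1 (col3 (col2 (col1 (col3 (col2 (col4 (col3 (col2 (col1 (col3 (col2 (col6 (col1 (col0 (col1 (col3 (col2 (col4 (col3 (col2 (col1 (col0 (col1 (col3 (col2 (col1 (col3 (col2 (col4 (col3 (col2 (col1 (col3 (col2 (col6 (col1 (col0 (col1 (col2 (col3 (col2 (col4 (col3 (col2 (col1 (col0 (col1 (col0 (col2 (col3 (col2 (col1 (col0 (col4 (col3 (col2 (col1 (col0 (col3 (col2 (col1 (col0 (col1 (col2 (col3 (col2 (col4 (col3 (col2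 (col1 (col0 (col1 (col0 (col2 (col3 (col2 (col1 (col0 (col4 (col3 (col2 (col1 (col0 (col3 (col2 (col6 (col1 (col0 (col1 (col3 (col2 (col4 (col3 (col2 (col1 (col0 (col1 (col3 (col2 (col1 (col3 (col2 (col4 (col3 (col2 (col1 (col3 (col2 (col6 (col1 (col0 (col1 (col3 (col2 (col4 (col3 (col2 (col1 (col0 (col1 (col3 (col2 (col1 (col3 (col2 (col4 (col3 (col2 (col1 (col3 (col2 (col4 (col3 (col1 (col2 (col3 (col4 (col0 (col1 (col2 (col3 (col0 (col1 (col2 (col3 (col4 (col2 (col1 (col0 (col1 (col2 (col3 (col2 (col3 (col1 (col0 (col1 (col2 (col3 (col2 (col4 (col3 (col2 (col1 (col0 (col1 (col0 (col2 (col3 (col2 (col1 (col0 (col4 (col3 (col2 (col1 (col0 (col3 (col2 (col1 (col0 (col1 (col2 (col3 (col2 (col4 (col3 (col2 (col1 (col0 (col1 (col0 (col2 (col3 (col2 (col1 (col0 (col4 (col3 (col2 (col1 (col0 (col3 (col2 (i))))))))))))))))))))))))))))))))))))))))))))))))))))))))))))))))))))))))))))))))))))))))))))))))))))))))))))))))))))))))))))))))))))))))))))))))))))))))))))))))))))))))))))))))))))))))))))))))))))))))))))))))))))))))))))))))))))))))))))))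
theorem act23_eq (i : Nat) : act23 i = Tab.act T D chk23 i := rfl
theorem c23_0 : allRange (fun i => Nat.beq (act23 i) i) 0 250 = true := by decide +kernel
theorem c23_1 : allRange (fun i => Nat.beq (act23 i) i) 250 250 = true := by decide +kernel
theorem c23_2 : allRange (fun i => Nat.beq (act23 i) i) 500 250 = true := by decide +kernel
theorem c23_3 : allRange (fun i => Nat.beq (act23 i) i) 750 250 = true := by decide +kernel
theorem c23_4 : allRange (fun i => Nat.beq (act23 i) i) 1000 250 = true := by decide +kernel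
theorem c23_5 : allRange (fun i => Nat.beq (act23 i) i) 1250 250 = true := by decide +kernel
theorem c23_6 : allRange (fun i => Nat.beq (act23 i) i) 1500 250 = true := by decide +kernel
theorem c23_7 : allRange (fun i => Nat.beq (act23 i) i) 1750 32 = true := by decide +kernel
theorem h23 : ∀ i, i < T.N → Tab.relActOK T D chk23 i = true := by
  intro i hi
  rw [Tab.relActOK, ← act23_eq]
  exact (range_glue (range_of_allRange c23_0) (range_glue (range_of_allRange c23_1) (range_glue (range_of_allRange c23_2) (range_glue (range_of_allRange c23_3) (range_glue (range_of_allRange c23_4) (range_glue (range_of_allRange c23_5) (range_glue (range_of_allRange c23_6) (range_of_allRange c23_7)))))))) i (Nat.zero_le _) hi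

def chk24 : List Nat := [3, 2, 3, 2, 1, 0, 1, 2, 4, 3, 2, 1, 0, 3, 2, 1, 0, 4, 3, 2, 1, 3, 4, 1, 0, 1, 2, 3, 2, 4, 3, 2, 1, 0, 1, 0, 2, 3, 2, 1, 0, 4, 3, 2, 1, 0, 3, 2, 6, 0, 1, 2, 4, 3, 2, 1, 0, 1, 3, 2, 3, 2, 4, 3, 2, 1, 0, 3, 2, 1, 0, 1, 5, 1, 0, 2, 3, 2, 1, 4, 3, 2, 3, 2, 5, 6, 1, 0, 1, 3, 2, 4, 3, 2, 1, 0, 1, 3, 2, 1, 3, 2, 4, 3, 2, 1, 3, 2, 6, 0, 1, 2, 4, 3, 2, 1, 0, 1, 3, 2, 3, 2, 4, 3, 2, 1, 0, 3, 2, 1, 0, 1, 5, 1, 0, 2, 3, 2, 1, 4, 3, 2, 3, 2, 5, 6, 3, 2, 3, 2, 1, 0, 1, 2, 4, 3, 2, 1, 0, 3, 2, 1, 0, 4, 3, 2, 1, 3, 4, 1, 0, 1, 3, 2, 4, 3, 2, 1, 0, 1, 3, 2, 1, 3, 2, 4, 3, 2, 1, 3, 2, 4, 3, 1, 2, 3, 4, 0, 1, 2, 3, 0, 1, 2, 3, 4, 2, 1, 0, 1, 2, 3, 2, 3, 1, 0, 1, 3, 2, 4, 3, 2, 1, 0, 1, 3, 2, 1, 3, 2, 4, 3, 2, 1, 3, 2, 1, 0, 1, 2, 3, 2, 4, 3, 2, 1, 0, 1, 0, 2, 3, 2, 1, 0, 4, 3, 2, 1, 0, 3, 2]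
noncomputable def act24 (i : Nat) : Nat := col3 (col2 (col3 (col2 (col1 (col0 (col1 (col2 (col4 (col3 (col2 (col1 (col0 (col3 (col2 (col1 (col0 (col4 (col3 (col2 (col1 (col3 (col4 (col1 (col0 (col1 (col2 (col3 (col2 (col4 (col3 (col2 (col1 (col0 (col1 (col0 (col2 (col3 (col2 (col1 (col0 (col4 (col3 (col2 (col1 (col0 (col3 (col2 (col6 (col0 (col1 (col2 (col4 (col3 (col2 (col1 (col0 (col1 (col3 (col2 (col3 (col2 (col4 (col3 (col2 (col1 (col0 (col3 (col2 (col1 (col0 (col1 (col5 (col1 (col0 (col2 (col3 (col2 (col1 (col4 (col3 (col2 (col3 (col2 (col5 (col6 (col1 (col0 (col1 (col3 (col2 (col4 (col3 (col2 (col1 (col0 (col1 (col3 (col2 (col1 (col3 (col2 (col4 (col3 (col2 (col1 (col3 (col2 (col6 (col0 (col1 (col2 (col4 (col3 (col2 (col1 (col0 (col1 (col3 (col2 (col3 (col2 (col4 (col3 (col2 (col1 (col0 (col3 (col2 (col1 (col0 (col1 (col5 (col1 (col0 (col2 (col3 (col2 (col1 (col4 (col3 (col2 (col3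 (col2 (col5 (col6 (col3 (col2 (col3 (col2 (col1 (col0 (col1 (col2 (col4 (col3 (col2 (col1 (col0 (col3 (col2 (col1 (col0 (col4 (col3 (col2 (col1 (col3 (col4 (col1 (col0 (col1 (col3 (col2 (col4 (col3 (col2 (col1 (col0 (col1 (col3 (col2 (col1 (col3 (col2 (col4 (col3 (col2 (col1 (col3 (col2 (col4 (col3 (col1 (col2 (col3 (col4 (col0 (col1 (col2 (col3 (col0 (col1 (col2 (col3 (col4 (col2 (col1 (col0 (col1 (col2 (col3 (col2 (col3 (col1 (col0 (col1 (col3 (col2 (col4 (col3 (col2 (col1 (col0 (col1 (col3 (col2 (col1 (col3 (col2 (col4 (col3 (col2 (col1 (col3 (col2 (col1 (col0 (col1 (col2 (col3 (col2 (col4 (col3 (col2 (col1 (col0 (col1 (col0 (col2 (col3 (col2 (col1 (col0 (col4 (col3 (col2 (col1 (col0 (col3 (col2 (i)))))))))))))))))))))))))))))))))))))))))))))))))))))))))))))))))))))))))))))))))))))))))))))))))))))))))))))))))))))))))))))))))))))))))))))))))))))))))))))))))))))))))))))))))))))))))))))))))))))))))))))))))))))))))))))))))))))))))))))))))))))))))))))))))))))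
theorem act24_eq (i : Nat) : act24 i = Tab.act T D chk24 i := rfl
theorem c24_0 : allRange (fun i => Nat.beq (act24 i) i) 0 228 = true := by decide +kernel
theorem c24_1 : allRange (fun i => Nat.beq (act24 i) i) 228 228 = true := by decide +kernel
theorem c24_2 : allRange (fun i => Nat.beq (act24 i) i) 456 228 = true := by decide +kernel
theorem c24_3 : allRange (fun i => Nat.beq (act24 i) i) 684 228 = true := by decide +kernel
theorem c24_4 : allRange (fun i => Nat.beq (act24 i) i) 912 228 = true := by decide +kernel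
theorem c24_5 : allRange (fun i => Nat.beq (act24 i) i) 1140 228 = true := by decide +kernel
theorem c24_6 : allRange (fun i => Nat.beq (act24 i) i) 1368 228 = true := by decide +kernel
theorem c24_7 : allRange (fun i => Nat.beq (act24 i) i) 1596 186 = true := by decide +kernel
theorem h24 : ∀ i, i < T.N → Tab.relActOK T D chk24 i = true := by
  intro i hi
  rw [Tab.relActOK, ← act24_eq]
  exact (range_glue (range_of_allRange c24_0) (range_glue (range_of_allRange c24_1) (range_glue (range_of_allRange c24_2) (range_glue (range_of_allRange c24_3) (range_glue (range_of_allRange c24_4) (range_glue (range_of_allRange c24_5) (range_glue (range_of_allRange c24_6) (range_of_allRange c24_7)))))))) i (Nat.zero_le _) hi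

def chk25 : List Nat := [1, 0, 1, 2, 3, 2, 4, 3, 2, 1, 0, 1, 0, 2, 3, 2, 1, 0, 4, 3, 2, 1, 0, 3, 2, 6, 1, 0, 1, 3, 2, 4, 3, 2, 1, 0, 1, 3, 2, 1, 3, 2, 4, 3, 2, 1, 3, 2, 0, 1, 2, 4, 3, 2, 1, 0, 1, 3, 2, 3, 2, 4, 3, 2, 1, 0, 3, 2, 1, 0, 1, 5, 1, 0, 2, 3, 2, 1, 4, 3, 2, 3, 2, 5, 1, 0, 1, 2, 3, 2, 4, 3, 2, 1, 0, 1, 0, 2, 3, 2, 1, 0, 4, 3, 2, 1, 0, 3, 2, 6, 1, 0, 1, 3, 2, 4, 3, 2, 1, 0, 1, 3, 2, 1, 3, 2, 4, 3, 2, 1, 3, 2, 0, 1, 2, 4, 3, 2, 1, 0, 1, 3, 2, 3, 2, 4, 3, 2, 1, 0, 3, 2, 1, 0, 1, 5, 1, 0, 2, 3, 2, 1, 4, 3, 2, 3, 2, 5, 1, 0, 1, 2, 3, 2, 4, 3, 2, 1, 0, 1, 0, 2, 3, 2, 1, 0, 4, 3, 2, 1, 0, 3, 2, 6, 1, 0, 1, 3, 2, 4, 3, 2, 1, 0, 1, 3, 2, 1, 3, 2, 4, 3, 2, 1, 3, 2, 0, 1, 2, 4, 3, 2, 1, 0, 1, 3, 2, 3, 2, 4, 3, 2, 1, 0, 3, 2, 1, 0, 1, 5, 1, 0, 2, 3, 2, 1, 4, 3, 2, 3, 2, 5, 1, 0, 1, 2, 3, 2, 4, 3, 2, 1, 0, 1, 0, 2, 3, 2, 1, 0, 4, 3, 2, 1, 0, 3, 2, 6, 1, 0, 1, 3, 2, 4, 3, 2, 1, 0, 1, 3, 2,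 1, 3, 2, 4, 3, 2, 1, 3, 2, 0, 1, 2, 4, 3, 2, 1, 0, 1, 3, 2, 3, 2, 4, 3, 2, 1, 0, 3, 2, 1, 0, 1, 5, 1, 0, 2, 3, 2, 1, 4, 3, 2, 3, 2, 5, 1, 0, 1, 2, 3, 2, 4, 3, 2, 1, 0, 1, 0, 2, 3, 2, 1, 0, 4, 3, 2, 1, 0, 3, 2, 6, 1, 0, 1, 3, 2, 4, 3, 2, 1, 0, 1, 3, 2, 1, 3, 2, 4, 3, 2, 1, 3, 2, 0, 1, 2, 4, 3, 2, 1, 0, 1, 3, 2, 3, 2, 4, 3, 2, 1, 0, 3, 2, 1, 0, 1, 5, 1, 0, 2, 3, 2, 1, 4, 3, 2, 3, 2, 5, 1, 0, 1, 2, 3, 2, 4, 3, 2, 1, 0, 1, 0, 2, 3, 2, 1, 0, 4, 3, 2, 1, 0, 3, 2, 6, 1, 0, 1, 3, 2, 4, 3, 2, 1, 0, 1, 3, 2, 1, 3, 2, 4, 3, 2, 1, 3, 2, 0, 1, 2, 4, 3, 2, 1, 0, 1, 3, 2, 3, 2, 4, 3, 2, 1, 0, 3, 2, 1, 0, 1, 5, 1, 0, 2, 3, 2, 1, 4, 3, 2, 3, 2, 5, 1, 0, 1, 2, 3, 2, 4, 3, 2, 1, 0, 1, 0, 2, 3, 2, 1, 0, 4, 3, 2, 1, 0, 3, 2, 6, 1, 0, 1, 3, 2, 4, 3, 2, 1, 0, 1, 3, 2, 1, 3, 2, 4, 3, 2, 1, 3, 2, 0, 1, 2, 4, 3, 2, 1, 0, 1, 3, 2, 3, 2, 4, 3, 2, 1, 0, 3, 2, 1, 0, 1, 5, 1, 0, 2, 3, 2, 1, 4, 3, 2, 3, 2, 5, 1, 0, 1,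 2, 3, 2, 4, 3, 2, 1, 0, 1, 0, 2, 3, 2, 1, 0, 4, 3, 2, 1, 0, 3, 2, 6, 1, 0, 1, 3, 2, 4, 3, 2, 1, 0, 1, 3, 2, 1, 3, 2, 4, 3, 2, 1, 3, 2, 0, 1, 2, 4, 3, 2, 1, 0, 1, 3, 2, 3, 2, 4, 3, 2, 1, 0, 3, 2, 1, 0, 1, 5, 1, 0, 2, 3, 2, 1, 4, 3, 2, 3, 2, 5]
noncomputable def act25 (i : Nat) : Nat := col1 (col0 (col1 (col2 (col3 (col2 (col4 (col3 (col2 (col1 (col0 (col1 (col0 (col2 (col3 (col2 (col1 (col0 (col4 (col3 (col2 (col1 (col0 (col3 (col2 (col6 (col1 (col0 (col1 (col3 (col2 (col4 (col3 (col2 (col1 (col0 (col1 (col3 (col2 (col1 (col3 (col2 (col4 (col3 (col2 (col1 (col3 (col2 (col0 (col1 (col2 (col4 (col3 (col2 (col1 (col0 (col1 (col3 (col2 (col3 (col2 (col4 (col3 (col2 (col1 (col0 (col3 (col2 (col1 (col0 (col1 (col5 (col1 (col0 (col2 (col3 (col2 (col1 (col4 (col3 (col2 (col3 (col2 (col5 (col1 (col0 (col1 (col2 (col3 (col2 (col4 (col3 (col2 (col1 (col0 (col1 (col0 (col2 (col3 (col2 (col1 (col0 (col4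 (col3 (col2 (col1 (col0 (col3 (col2 (col6 (col1 (col0 (col1 (col3 (col2 (col4 (col3 (col2 (col1 (col0 (col1 (col3 (col2 (col1 (col3 (col2 (col4 (col3 (col2 (col1 (col3 (col2 (col0 (col1 (col2 (col4 (col3 (col2 (col1 (col0 (col1 (col3 (col2 (col3 (col2 (col4 (col3 (col2 (col1 (col0 (col3 (col2 (col1 (col0 (col1 (col5 (col1 (col0 (col2 (col3 (col2 (col1 (col4 (col3 (col2 (col3 (col2 (col5 (col1 (col0 (col1 (col2 (col3 (col2 (col4 (col3 (col2 (col1 (col0 (col1 (col0 (col2 (col3 (col2 (col1 (col0 (col4 (col3 (col2 (col1 (col0 (col3 (col2 (col6 (col1 (col0 (col1 (col3 (col2 (col4 (col3 (col2 (col1 (col0 (col1 (col3 (col2 (col1 (col3 (col2 (col4 (col3 (col2 (col1 (col3 (col2 (col0 (col1 (col2 (col4 (col3 (col2 (col1 (col0 (col1 (col3 (col2 (col3 (col2 (col4 (col3 (col2 (col1 (col0 (col3 (col2 (col1 (col0 (col1 (col5 (col1 (col0 (col2 (col3 (col2 (col1 (col4 (col3 (col2 (col3 (col2 (col5 (col1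 (col0 (col1 (col2 (col3 (col2 (col4 (col3 (col2 (col1 (col0 (col1 (col0 (col2 (col3 (col2 (col1 (col0 (col4 (col3 (col2 (col1 (col0 (col3 (col2 (col6 (col1 (col0 (col1 (col3 (col2 (col4 (col3 (col2 (col1 (col0 (col1 (col3 (col2 (col1 (col3 (col2 (col4 (col3 (col2 (col1 (col3 (col2 (col0 (col1 (col2 (col4 (col3 (col2 (col1 (col0 (col1 (col3 (col2 (col3 (col2 (col4 (col3 (col2 (col1 (col0 (col3 (col2 (col1 (col0 (col1 (col5 (col1 (col0 (col2 (col3 (col2 (col1 (col4 (col3 (col2 (col3 (col2 (col5 (col1 (col0 (col1 (col2 (col3 (col2 (col4 (col3 (col2 (col1 (col0 (col1 (col0 (col2 (col3 (col2 (col1 (col0 (col4 (col3 (col2 (col1 (col0 (col3 (col2 (col6 (col1 (col0 (col1 (col3 (col2 (col4 (col3 (col2 (col1 (col0 (col1 (col3 (col2 (col1 (col3 (col2 (col4 (col3 (col2 (col1 (col3 (col2 (col0 (col1 (col2 (col4 (col3 (col2 (col1 (col0 (col1 (col3 (col2 (col3 (col2 (col4 (col3 (col2 (col1 (col0 (col3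 (col2 (col1 (col0 (col1 (col5 (col1 (col0 (col2 (col3 (col2 (col1 (col4 (col3 (col2 (col3 (col2 (col5 (col1 (col0 (col1 (col2 (col3 (col2 (col4 (col3 (col2 (col1 (col0 (col1 (col0 (col2 (col3 (col2 (col1 (col0 (col4 (col3 (col2 (col1 (col0 (col3 (col2 (col6 (col1 (col0 (col1 (col3 (col2 (col4 (col3 (col2 (col1 (col0 (col1 (col3 (col2 (col1 (col3 (col2 (col4 (col3 (col2 (col1 (col3 (col2 (col0 (col1 (col2 (col4 (col3 (col2 (col1 (col0 (col1 (col3 (col2 (col3 (col2 (col4 (col3 (col2 (col1 (col0 (col3 (col2 (col1 (col0 (col1 (col5 (col1 (col0 (col2 (col3 (col2 (col1 (col4 (col3 (col2 (col3 (col2 (col5 (col1 (col0 (col1 (col2 (col3 (col2 (col4 (col3 (col2 (col1 (col0 (col1 (col0 (col2 (col3 (col2 (col1 (col0 (col4 (col3 (col2 (col1 (col0 (col3 (col2 (col6 (col1 (col0 (col1 (col3 (col2 (col4 (col3 (col2 (col1 (col0 (col1 (col3 (col2 (col1 (col3 (col2 (col4 (col3 (col2 (col1 (col3 (col2 (col0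 (col1 (col2 (col4 (col3 (col2 (col1 (col0 (col1 (col3 (col2 (col3 (col2 (col4 (col3 (col2 (col1 (col0 (col3 (col2 (col1 (col0 (col1 (col5 (col1 (col0 (col2 (col3 (col2 (col1 (col4 (col3 (col2 (col3 (col2 (col5 (col1 (col0 (col1 (col2 (col3 (col2 (col4 (col3 (col2 (col1 (col0 (col1 (col0 (col2 (col3 (col2 (col1 (col0 (col4 (col3 (col2 (col1 (col0 (col3 (col2 (col6 (col1 (col0 (col1 (col3 (col2 (col4 (col3 (col2 (col1 (col0 (col1 (col3 (col2 (col1 (col3 (col2 (col4 (col3 (col2 (col1 (col3 (col2 (col0 (col1 (col2 (col4 (col3 (col2 (col1 (col0 (col1 (col3 (col2 (col3 (col2 (col4 (col3 (col2 (col1 (col0 (col3 (col2 (col1 (col0 (col1 (col5 (col1 (col0 (col2 (col3 (col2 (col1 (col4 (col3 (col2 (col3 (col2 (col5 (i))))))))))))))))))))))))))))))))))))))))))))))))))))))))))))))))))))))))))))))))))))))))))))))))))))))))))))))))))))))))))))))))))))))))))))))))))))))))))))))))))))))))))))))))))))))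))))))))))))))))))))))))))))))))))))))))))))))))))))))))))))))))))))))))))))))))))))))))))))))))))))))))))))))))))))))))))))))))))))))))))))))))))))))))))))))))))))))))))))))))))))))))))))))))))))))))))))))))))))))))))))))))))))))))))))))))))))))))))))))))))))))))))))))))))))))))))))))))))))))))))))))))))))))))))))))))))))))))))))))))))))))))))))))))))))))))))))))))))))))))))))))))))))))))))))))))))))))))))))))))))))))))))))))))))))))))))))))))))))))))))))))))))))))))))))))))))))))))))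
theorem act25_eq (i : Nat) : act25 i = Tab.act T D chk25 i := rfl
theorem c25_0 : allRange (fun i => Nat.beq (act25 i) i) 0 89 = true := by decide +kernel
theorem c25_1 : allRange (fun i => Nat.beq (act25 i) i) 89 89 = true := by decide +kernel
theorem c25_2 : allRange (fun i => Nat.beq (act25 i) i) 178 89 = true := by decide +kernel
theorem c25_3 : allRange (fun i => Nat.beq (act25 i) i) 267 89 = true := by decide +kernel
theorem c25_4 : allRange (fun i => Nat.beq (act25 i) i) 356 89 = true := by decide +kernel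
theorem c25_5 : allRange (fun i => Nat.beq (act25 i) i) 445 89 = true := by decide +kernel
theorem c25_6 : allRange (fun i => Nat.beq (act25 i) i) 534 89 = true := by decide +kernel
theorem c25_7 : allRange (fun i => Nat.beq (act25 i) i) 623 89 = true := by decide +kernel
theorem c25_8 : allRange (fun i => Nat.beq (act25 i) i) 712 89 = true := by decide +kernel
theorem c25_9 : allRange (fun i => Nat.beq (act25 i) i) 801 89 = true := by decide +kernel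
theorem c25_10 : allRange (fun i => Nat.beq (act25 i) i) 890 89 = true := by decide +kernel
theorem c25_11 : allRange (fun i => Nat.beq (act25 i) i) 979 89 = true := by decide +kernel
theorem c25_12 : allRange (fun i => Nat.beq (act25 i) i) 1068 89 = true := by decide +kernel
theorem c25_13 : allRange (fun i => Nat.beq (act25 i) i) 1157 89 = true := by decide +kernel
theorem c25_14 : allRange (fun i => Nat.beq (act25 i) i) 1246 89 = true := by decide +kernel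
theorem c25_15 : allRange (fun i => Nat.beq (act25 i) i) 1335 89 = true := by decide +kernel
theorem c25_16 : allRange (fun i => Nat.beq (act25 i) i) 1424 89 = true := by decide +kernel
theorem c25_17 : allRange (fun i => Nat.beq (act25 i) i) 1513 89 = true := by decide +kernel
theorem c25_18 : allRange (fun i => Nat.beq (act25 i) i) 1602 89 = true := by decide +kernel
theorem c25_19 : allRange (fun i => Nat.beq (act25 i) i) 1691 89 = true := by decide +kernel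
theorem c25_20 : allRange (fun i => Nat.beq (act25 i) i) 1780 2 = true := by decide +kernel
theorem h25 : ∀ i, i < T.N → Tab.relActOK T D chk25 i = true := by
  intro i hi
  rw [Tab.relActOK, ← act25_eq]
  exact (range_glue (range_of_allRange c25_0) (range_glue (range_of_allRange c25_1) (range_glue (range_of_allRange c25_2) (range_glue (range_of_allRange c25_3) (range_glue (range_of_allRange c25_4) (range_glue (range_of_allRange c25_5) (range_glue (range_of_allRange c25_6) (range_glue (range_of_allRange c25_7) (range_glue (range_of_allRange c25_8) (range_glue (range_of_allRange c25_9) (range_glue (range_of_allRange c25_10) (range_glue (range_of_allRange c25_11) (range_glue (range_of_allRange c25_12) (range_glue (range_of_allRange c25_13) (range_glue (range_of_allRange c25_14) (range_glue (range_of_allRange c25_15) (range_glue (range_of_allRange c25_16) (range_glue (range_of_allRange c25_17)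 (range_glue (range_of_allRange c25_18) (range_glue (range_of_allRange c25_19) (range_of_allRange c25_20))))))))))))))))))))) i (Nat.zero_le _) hi

def chk26 : List Nat := [3, 2, 3, 2, 1, 0, 1, 2, 4, 3, 2, 1, 0, 3, 2, 1, 0, 4, 3, 2, 1, 3, 4, 4, 3, 1, 2, 3, 4, 0, 1, 2, 3, 0, 1, 2, 3, 4, 2, 1, 0, 1, 2, 3, 2, 3]
noncomputable def act26 (i : Nat) : Nat := col3 (col2 (col3 (col2 (col1 (col0 (col1 (col2 (col4 (col3 (col2 (col1 (col0 (col3 (col2 (col1 (col0 (col4 (col3 (col2 (col1 (col3 (col4 (col4 (col3 (col1 (col2 (col3 (col4 (col0 (col1 (col2 (col3 (col0 (col1 (col2 (col3 (col4 (col2 (col1 (col0 (col1 (col2 (col3 (col2 (col3 (i))))))))))))))))))))))))))))))))))))))))))))))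
theorem act26_eq (i : Nat) : act26 i = Tab.act T D chk26 i := rfl
theorem c26_0 : allRange (fun i => Nat.beq (act26 i) i) 0 1250 = true := by decide +kernel
theorem c26_1 : allRange (fun i => Nat.beq (act26 i) i) 1250 532 = true := by decide +kernel
theorem h26 : ∀ i, i < T.N → Tab.relActOK T D chk26 i = true := by
  intro i hi
  rw [Tab.relActOK, ← act26_eq]
  exact (range_glue (range_of_allRange c26_0) (range_of_allRange c26_1)) i (Nat.zero_le _) hi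

def chk27 : List Nat := [4, 3, 1, 2, 3, 4, 0, 1, 2, 3, 0, 1, 2, 3, 4, 2, 1, 0, 1, 2, 3, 2, 3, 3, 2, 3, 2, 1, 0, 1, 2, 4, 3, 2, 1, 0, 3, 2, 1, 0, 4, 3, 2, 1, 3, 4]
noncomputable def act27 (i : Nat) : Nat := col4 (col3 (col1 (col2 (col3 (col4 (col0 (col1 (col2 (col3 (col0 (col1 (col2 (col3 (col4 (col2 (col1 (col0 (col1 (col2 (col3 (col2 (col3 (col3 (col2 (col3 (col2 (col1 (col0 (col1 (col2 (col4 (col3 (col2 (col1 (col0 (col3 (col2 (col1 (col0 (col4 (col3 (col2 (col1 (col3 (col4 (i))))))))))))))))))))))))))))))))))))))))))))))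
theorem act27_eq (i : Nat) : act27 i = Tab.act T D chk27 i := rfl
theorem c27_0 : allRange (fun i => Nat.beq (act27 i) i) 0 1250 = true := by decide +kernel
theorem c27_1 : allRange (fun i => Nat.beq (act27 i) i) 1250 532 = true := by decide +kernel
theorem h27 : ∀ i, i < T.N → Tab.relActOK T D chk27 i = true := by
  intro i hi
  rw [Tab.relActOK, ← act27_eq]
  exact (range_glue (range_of_allRange c27_0) (range_of_allRange c27_1)) i (Nat.zero_le _) hi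

def chk28 : List Nat := [1, 0, 1, 2, 3, 2, 4, 3, 2, 1, 0, 1, 0, 2, 3, 2, 1, 0, 4, 3, 2, 1, 0, 3, 2, 2, 3, 0, 1, 2, 3, 4, 0, 1, 2, 3, 2, 0, 1, 0, 1, 2, 3, 4, 2, 3, 2, 1, 0, 1]
noncomputable def act28 (i : Nat) : Nat := col1 (col0 (col1 (col2 (col3 (col2 (col4 (col3 (col2 (col1 (col0 (col1 (col0 (col2 (col3 (col2 (col1 (col0 (col4 (col3 (col2 (col1 (col0 (col3 (col2 (col2 (col3 (col0 (col1 (col2 (col3 (col4 (col0 (col1 (col2 (col3 (col2 (col0 (col1 (col0 (col1 (col2 (col3 (col4 (col2 (col3 (col2 (col1 (col0 (col1 (i))))))))))))))))))))))))))))))))))))))))))))))))))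
theorem act28_eq (i : Nat) : act28 i = Tab.act T D chk28 i := rfl
theorem c28_0 : allRange (fun i => Nat.beq (act28 i) i) 0 1153 = true := by decide +kernel
theorem c28_1 : allRange (fun i => Nat.beq (act28 i) i) 1153 629 = true := by decide +kernel
theorem h28 : ∀ i, i < T.N → Tab.relActOK T D chk28 i = true := by
  intro i hi
  rw [Tab.relActOK, ← act28_eq]
  exact (range_glue (range_of_allRange c28_0) (range_of_allRange c28_1)) i (Nat.zero_le _) hi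

def chk29 : List Nat := [2, 3, 0, 1, 2, 3, 4, 0, 1, 2, 3, 2, 0, 1, 0, 1, 2, 3, 4, 2, 3, 2, 1, 0, 1, 1, 0, 1, 2, 3, 2, 4, 3, 2, 1, 0, 1, 0, 2, 3, 2, 1, 0, 4, 3, 2, 1, 0, 3, 2]
noncomputable def act29 (i : Nat) : Nat := col2 (col3 (col0 (col1 (col2 (col3 (col4 (col0 (col1 (col2 (col3 (col2 (col0 (col1 (col0 (col1 (col2 (col3 (col4 (col2 (col3 (col2 (col1 (col0 (col1 (col1 (col0 (col1 (col2 (col3 (col2 (col4 (col3 (col2 (col1 (col0 (col1 (col0 (col2 (col3 (col2 (col1 (col0 (col4 (col3 (col2 (col1 (col0 (col3 (col2 (i))))))))))))))))))))))))))))))))))))))))))))))))))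
theorem act29_eq (i : Nat) : act29 i = Tab.act T D chk29 i := rfl
theorem c29_0 : allRange (fun i => Nat.beq (act29 i) i) 0 1153 = true := by decide +kernel
theorem c29_1 : allRange (fun i => Nat.beq (act29 i) i) 1153 629 = true := by decide +kernel
theorem h29 : ∀ i, i < T.N → Tab.relActOK T D chk29 i = true := by
  intro i hi
  rw [Tab.relActOK, ← act29_eq]
  exact (range_glue (range_of_allRange c29_0) (range_of_allRange c29_1)) i (Nat.zero_le _) hi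

def chk30 : List Nat := [1, 0, 1, 3, 2, 4, 3, 2, 1, 0, 1, 3, 2, 1, 3, 2, 4, 3, 2, 1, 3, 2, 2, 3, 1, 2, 3, 4, 2, 3, 1, 2, 3, 1, 0, 1, 2, 3, 4, 2, 3, 1, 0, 1]
noncomputable def act30 (i : Nat) : Nat := col1 (col0 (col1 (col3 (col2 (col4 (col3 (col2 (col1 (col0 (col1 (col3 (col2 (col1 (col3 (col2 (col4 (col3 (col2 (col1 (col3 (col2 (col2 (col3 (col1 (col2 (col3 (col4 (col2 (col3 (col1 (col2 (col3 (col1 (col0 (col1 (col2 (col3 (col4 (col2 (col3 (col1 (col0 (col1 (i))))))))))))))))))))))))))))))))))))))))))))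
theorem act30_eq (i : Nat) : act30 i = Tab.act T D chk30 i := rfl
theorem c30_0 : allRange (fun i => Nat.beq (act30 i) i) 0 1304 = true := by decide +kernel
theorem c30_1 : allRange (fun i => Nat.beq (act30 i) i) 1304 478 = true := by decide +kernel
theorem h30 : ∀ i, i < T.N → Tab.relActOK T D chk30 i = true := by
  intro i hi
  rw [Tab.relActOK, ← act30_eq]
  exact (range_glue (range_of_allRange c30_0) (range_of_allRange c30_1)) i (Nat.zero_le _) hi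

def chk31 : List Nat := [2, 3, 1, 2, 3, 4, 2, 3, 1, 2, 3, 1, 0, 1, 2, 3, 4, 2, 3, 1, 0, 1, 1, 0, 1, 3, 2, 4, 3, 2, 1, 0, 1, 3, 2, 1, 3, 2, 4, 3, 2, 1, 3, 2]
noncomputable def act31 (i : Nat) : Nat := col2 (col3 (col1 (col2 (col3 (col4 (col2 (col3 (col1 (col2 (col3 (col1 (col0 (col1 (col2 (col3 (col4 (col2 (col3 (col1 (col0 (col1 (col1 (col0 (col1 (col3 (col2 (col4 (col3 (col2 (col1 (col0 (col1 (col3 (col2 (col1 (col3 (col2 (col4 (col3 (col2 (col1 (col3 (col2 (i))))))))))))))))))))))))))))))))))))))))))))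
theorem act31_eq (i : Nat) : act31 i = Tab.act T D chk31 i := rfl
theorem c31_0 : allRange (fun i => Nat.beq (act31 i) i) 0 1304 = true := by decide +kernel
theorem c31_1 : allRange (fun i => Nat.beq (act31 i) i) 1304 478 = true := by decide +kernel
theorem h31 : ∀ i, i < T.N → Tab.relActOK T D chk31 i = true := by
  intro i hi
  rw [Tab.relActOK, ← act31_eq]
  exact (range_glue (range_of_allRange c31_0) (range_of_allRange c31_1)) i (Nat.zero_le _) hi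

def chk32 : List Nat := [0, 1, 2, 4, 3, 2, 1, 0, 1, 3, 2, 3, 2, 4, 3, 2, 1, 0, 3, 2, 1, 0, 1, 5, 1, 0, 2, 3, 2, 1, 4, 3, 2, 3, 2, 5, 5, 2, 3, 2, 3, 4, 1, 2, 3, 2, 0, 1, 5, 1, 0, 1, 2, 3, 0, 1, 2, 3, 4, 2, 3, 2, 3, 1, 0, 1, 2, 3, 4, 2, 1, 0]
noncomputable def act32 (i : Nat) : Nat := col0 (col1 (col2 (col4 (col3 (col2 (col1 (col0 (col1 (col3 (col2 (col3 (col2 (col4 (col3 (col2 (col1 (col0 (col3 (col2 (col1 (col0 (col1 (col5 (col1 (col0 (col2 (col3 (col2 (col1 (col4 (col3 (col2 (col3 (col2 (col5 (col5 (col2 (col3 (col2 (col3 (col4 (col1 (col2 (col3 (col2 (col0 (col1 (col5 (col1 (col0 (col1 (col2 (col3 (col0 (col1 (col2 (col3 (col4 (col2 (col3 (col2 (col3 (col1 (col0 (col1 (col2 (col3 (col4 (col2 (col1 (col0 (i))))))))))))))))))))))))))))))))))))))))))))))))))))))))))))))))))))))))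
theorem act32_eq (i : Nat) : act32 i = Tab.act T D chk32 i := rfl
theorem c32_0 : allRange (fun i => Nat.beq (act32 i) i) 0 810 = true := by decide +kernel
theorem c32_1 : allRange (fun i => Nat.beq (act32 i) i) 810 810 = true := by decide +kernel
theorem c32_2 : allRange (fun i => Nat.beq (act32 i) i) 1620 162 = true := by decide +kernel
theorem h32 : ∀ i, i < T.N → Tab.relActOK T D chk32 i = true := by
  intro i hi
  rw [Tab.relActOK, ← act32_eq]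
  exact (range_glue (range_of_allRange c32_0) (range_glue (range_of_allRange c32_1) (range_of_allRange c32_2))) i (Nat.zero_le _) hi

def chk33 : List Nat := [5, 2, 3, 2, 3, 4, 1, 2, 3, 2, 0, 1, 5, 1, 0, 1, 2, 3, 0, 1, 2, 3, 4, 2, 3, 2, 3, 1, 0, 1, 2, 3, 4, 2, 1, 0, 0, 1, 2, 4, 3, 2, 1, 0, 1, 3, 2, 3, 2, 4, 3, 2, 1, 0, 3, 2, 1, 0, 1, 5, 1, 0, 2, 3, 2, 1, 4, 3, 2, 3, 2, 5]
noncomputable def act33 (i : Nat) : Nat := col5 (col2 (col3 (col2 (col3 (col4 (col1 (col2 (col3 (col2 (col0 (col1 (col5 (col1 (col0 (col1 (col2 (col3 (col0 (col1 (col2 (col3 (col4 (col2 (col3 (col2 (col3 (col1 (col0 (col1 (col2 (col3 (col4 (col2 (col1 (col0 (col0 (col1 (col2 (col4 (col3 (col2 (col1 (col0 (col1 (col3 (col2 (col3 (col2 (col4 (col3 (col2 (col1 (col0 (col3 (col2 (col1 (col0 (col1 (col5 (col1 (col0 (col2 (col3 (col2 (col1 (col4 (col3 (col2 (col3 (col2 (col5 (i))))))))))))))))))))))))))))))))))))))))))))))))))))))))))))))))))))))))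
theorem act33_eq (i : Nat) : act33 i = Tab.act T D chk33 i := rfl
theorem c33_0 : allRange (fun i => Nat.beq (act33 i) i) 0 810 = true := by decide +kernel
theorem c33_1 : allRange (fun i => Nat.beq (act33 i) i) 810 810 = true := by decide +kernel
theorem c33_2 : allRange (fun i => Nat.beq (act33 i) i) 1620 162 = true := by decide +kernel
theorem h33 : ∀ i, i < T.N → Tab.relActOK T D chk33 i = true := by
  intro i hi
  rw [Tab.relActOK, ← act33_eq]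
  exact (range_glue (range_of_allRange c33_0) (range_glue (range_of_allRange c33_1) (range_of_allRange c33_2))) i (Nat.zero_le _) hi

def chk34 : List Nat := [6, 6]
noncomputable def act34 (i : Nat) : Nat := col6 (col6 (i))
theorem act34_eq (i : Nat) : act34 i = Tab.act T D chk34 i := rfl
theorem c34_0 : allRange (fun i => Nat.beq (act34 i) i) 0 1782 = true := by decide +kernel
theorem h34 : ∀ i, i < T.N → Tab.relActOK T D chk34 i = true := by
  intro i hi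
  rw [Tab.relActOK, ← act34_eq]
  exact (range_of_allRange c34_0) i (Nat.zero_le _) hi

def chk35 : List Nat := [6, 6]
noncomputable def act35 (i : Nat) : Nat := col6 (col6 (i))
theorem act35_eq (i : Nat) : act35 i = Tab.act T D chk35 i := rfl
theorem c35_0 : allRange (fun i => Nat.beq (act35 i) i) 0 1782 = true := by decide +kernel
theorem h35 : ∀ i, i < T.N → Tab.relActOK T D chk35 i = true := by
  intro i hi
  rw [Tab.relActOK, ← act35_eq]
  exact (range_of_allRange c35_0) i (Nat.zero_le _) hi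

def chkAll : List (List Nat) := [chk0, chk1, chk2, chk3, chk4, chk5, chk6, chk7, chk8, chk9, chk10, chk11, chk12, chk13, chk14, chk15, chk16, chk17, chk18, chk19, chk20, chk21, chk22, chk23, chk24, chk25, chk26, chk27, chk28, chk29, chk30, chk31, chk32, chk33, chk34, chk35]
theorem hAll : ∀ w ∈ chkAll, ∀ i, i < T.N → Tab.relActOK T D w i = true := by
  intro w hw
  simp only [chkAll, List.mem_cons, List.not_mem_nil, or_false] at hw
  rcases hw with rfl | rfl | rfl | rfl | rfl | rfl | rfl | rfl | rfl | rfl | rfl | rfl | rfl | rfl | rfl | rfl | rfl | rfl | rfl | rfl | rfl | rfl | rfl | rfl | rfl | rfl | rfl | rfl | rfl | rfl | rfl | rfl | rfl | rfl | rfl | rfl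
  · exact h0
  · exact h1
  · exact h2
  · exact h3
  · exact h4
  · exact h5
  · exact h6
  · exact h7
  · exact h8
  · exact h9
  · exact h10
  · exact h11
  · exact h12
  · exact h13
  · exact h14
  · exact h15
  · exact h16
  · exact h17
  · exact h18
  · exact h19
  · exact h20
  · exact h21
  · exact h22
  · exact h23
  · exact h24
  · exact h25
  · exact h26
  · exact h27
  · exact h28
  · exact h29
  · exact h30
  · exact h31
  · exact h32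
  · exact h33
  · exact h34
  · exact h35
theorem hAll_lt : ∀ w ∈ chkAll, ∀ x ∈ w, x < 7 := by decide +kernel

end Cfsg.Agent.Lib.Helper4.TCD.SuzpSuzS
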