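import Mathlib
import Cfsg.Prelude.Def_Spor_Suz
import Cfsg.Agent.Lib.Helper4.SuzpMain
import Cfsg.Agent.Lib.Helper4.TCD_SuzpSuzS
import Cfsg.Agent.Lib.Helper4.TC19
import Cfsg.Agent.Lib.Helper4.RepLib
import Cfsg.Agent.Lib.Helper4.RepLib2
import Cfsg.Agent.S1694

/-!
The presented group `Suzp` of order 448345497600 is isomorphic to the presented sporadic Suzuki group: its generators
`c`, `d`, `t`, `s` are sent to words in the generators `a, …, f` and `u` to the generator `g`.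
-/

set_option autoImplicit false

namespace Cfsg.Agent.Lib.Helper4.SuzpIso

open Cfsg Cfsg.Agent.Lib.Helper4.TC Cfsg.Agent.Lib.Helper4.TCD Cfsg.Agent.Lib.Helper4.TC.Log

/-- the letters of `Suzp` as words of the presented Suzuki group -/
def Wf (l : ℕ) : List ℕ := [[3, 2, 3, 2, 1, 0, 1, 2, 4, 3, 2, 1, 0, 3, 2, 1, 0, 4, 3, 2, 1, 3, 4], [4, 3, 1, 2, 3, 4, 0, 1, 2, 3, 0, 1, 2, 3, 4, 2, 1, 0, 1, 2, 3, 2, 3], [1, 0, 1, 2, 3, 2, 4, 3, 2, 1, 0, 1, 0, 2, 3, 2, 1, 0, 4, 3, 2, 1, 0, 3, 2], [2, 3, 0, 1, 2, 3, 4, 0, 1, 2, 3, 2, 0, 1, 0, 1, 2, 3, 4, 2, 3, 2, 1, 0, 1], [1, 0, 1, 3, 2, 4, 3, 2, 1, 0, 1, 3, 2, 1, 3, 2, 4, 3, 2, 1, 3, 2], [2, 3, 1, 2, 3, 4, 2, 3, 1, 2, 3, 1, 0, 1, 2, 3, 4, 2, 3, 1, 0, 1], [0, 1, 2, 4, 3, 2, 1, 0, 1, 3, 2, 3, 2, 4, 3, 2, 1, 0, 3, 2, 1, 0, 1, 5, 1, 0, 2, 3, 2, 1, 4, 3, 2, 3, 2, 5], [5, 2, 3, 2, 3, 4, 1, 2, 3, 2, 0, 1, 5, 1, 0, 1, 2, 3, 0, 1, 2, 3, 4, 2, 3, 2, 3,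 1, 0, 1, 2, 3, 4, 2, 1, 0], [6], [6]].getD l []

theorem checks_eq : PSuzp.P.real.map (fun L => L.flatMap Wf) ++
    (List.range 10).map (fun l => Wf l ++ Wf (PSuzp.P.invR l)) = SuzpSuzS.chkAll := by decide +kernel

theorem word_one (w : List ℕ) (hw : w ∈ SuzpSuzS.chkAll) : wordP PSuz.P.gR w = 1 := by
  obtain ⟨fG, hinj, hcard⟩ := Cfsg.Agent.S1694.order_aux
  exact Suz1.inst.word_eq_one hinj w (SuzpSuzS.hAll_lt w hw) (SuzpSuzS.hAll w hw)

theorem emb : WordEmb PSuzp.P PSuz.P.gR Wf where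
  hP := PSuzp.valid
  hinv := by
    intro l hl
    have hl : l < 10 := hl
    apply word_one
    rw [← checks_eq]
    apply List.mem_append_right
    exact List.mem_map.2 ⟨l, List.mem_range.2 hl, rfl⟩
  hrel := by
    intro L hL
    apply word_one
    rw [← checks_eq]
    apply List.mem_append_left
    exact List.mem_map.2 ⟨L, hL, rfl⟩

/-- the homomorphism to the presented Suzuki group -/
noncomputable def f : PSuzp.P.Grp →* PSuz.P.Grp := emb.hom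

theorem f_gR (l : ℕ) (hl : l < 10) : f (PSuzp.P.gR l) = wordP PSuz.P.gR (Wf l) := emb.hom_gR l hl

theorem Wf_lt : ∀ l, l < 10 → ∀ x ∈ Wf l, x < 7 := by decide +kernel

theorem f_injective : Function.Injective f := by
  apply RepLib.injective_of_simple SuzpMain.simple_aux f (PSuzp.P.gR 8)
  rw [f_gR 8 (by decide)]
  intro h
  obtain ⟨fG, hinj, hcard⟩ := Cfsg.Agent.S1694.order_aux
  have h1 := Suz1.inst.phi_word (Wf 8) (fun x hx => by have := Wf_lt 8 (by decide) x hx; exact this) ⟨0, by decide⟩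
  rw [h, map_one] at h1
  simp only [Equiv.Perm.coe_one, id_eq] at h1
  have h2 : Tab.act Suz1.T Suz1.D (Wf 8) 0 ≠ 0 := by decide +kernel
  exact h2 h1.symm

/-- the presented group is the presented sporadic Suzuki group -/
theorem iso : Nonempty (PSuzp.P.Grp ≃* Cfsg.Spor.Suz) := by
  obtain ⟨fG, _, hcard⟩ := Cfsg.Agent.S1694.order_aux
  obtain ⟨fP, _, hcardP⟩ := SuzpMain.order_aux
  have := fG
  have := fP
  have hb : Function.Bijective f :=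
    f_injective.bijective_of_nat_card_le (by rw [hcard, hcardP])
  exact ⟨MulEquiv.ofBijective f hb⟩

end Cfsg.Agent.Lib.Helper4.SuzpIso
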