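import Mathlib
import Cfsg.Prelude.Def_KGroupFacts
import Cfsg.Agent.Lib.Helper4.SuzpIso
import Cfsg.Agent.Lib.Helper4.C2SuzCover
import Cfsg.Agent.Lib.Helper4.C3SuzCover
import Cfsg.Agent.Lib.Helper4.SC2Suzp2Main
import Cfsg.Agent.Lib.Helper4.SC2Suzp5Main
import Cfsg.Agent.Lib.Helper4.SC3Suzp3Main
import Cfsg.Agent.Lib.Helper4.FibreCover

/-!
The Schur multiplier of the sporadic Suzuki group is cyclic of order 6: the fibre product of the presented double
cover `C2Suz` and the presented triple cover `C3Suz` is a stem extension with kernel of order 6 without further stem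
extensions with kernel of prime order.
-/

set_option autoImplicit false

namespace Cfsg.Agent.Lib.Helper4.C6SuzStem

open Cfsg Cfsg.Agent.Lib.Helper4.TC Cfsg.Agent.Lib.Helper4.TCD Cfsg.Agent.Lib.Helper4.TC.Log
  Cfsg.Agent.Lib.Helper4.Stem

/-- the double cover has no stem extension with kernel of prime order other than 3 -/
theorem noStem2 : ∀ p, p.Prime → p ≠ 3 → NoStemPrime PC2Suz.P.Grp p := by
  obtain ⟨fG, _, hcard⟩ := C2SuzCover.order_aux
  have := fG
  intro p hp h3
  by_cases h1 : p ∣ Nat.card PC2Suz.P.Grp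
  · by_cases h2 : p ^ 2 ∣ Nat.card PC2Suz.P.Grp
    · rw [hcard] at h1 h2
      have hm : p ∈ [2, 3, 5] := sq_dvd_mem_of_factors 896690995200
        [2, 2, 2, 2, 2, 2, 2, 2, 2, 2, 2, 2, 2, 2, 3, 3, 3, 3, 3, 3, 3, 5, 5, 7, 11, 13] (by norm_num) (by decide)
        [2, 3, 5] (by decide) p hp h1 h2
      simp only [List.mem_cons, List.not_mem_nil, or_false] at hm
      rcases hm with rfl | rfl | rfl
      · exact SC2Suzp2Main.noStem
      · exact absurd rfl h3
      · exact SC2Suzp5Main.noStem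
    · exact noStemPrime_of_sq_not_dvd _ p hp h2
  · exact noStemPrime_of_not_dvd _ p hp h1

/-- the Schur multiplier of the sporadic Suzuki group -/
theorem hasMult : Cfsg.HasCyclicSchurMultiplier Cfsg.Spor.Suz 6 := by
  obtain ⟨e⟩ := SuzpIso.iso
  obtain ⟨f2, _, _⟩ := C2SuzCover.order_aux
  have := f2
  obtain ⟨f3, _, _⟩ := C3SuzCover.order_aux
  have := f3
  obtain ⟨fL, _, _⟩ := SuzpMain.order_aux
  have := fL
  have : Finite Cfsg.Spor.Suz := Finite.of_equiv _ e.toEquiv
  let τ2 : PC2Suz.P.Grp →* Cfsg.Spor.Suz := e.toMonoidHom.comp C2SuzCover.π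
  let τ3 : PC3Suz.P.Grp →* Cfsg.Spor.Suz := e.toMonoidHom.comp C3SuzCover.π
  have hker2 : τ2.ker = C2SuzCover.π.ker := by
    ext x
    rw [MonoidHom.mem_ker, MonoidHom.mem_ker]
    show e (C2SuzCover.π x) = 1 ↔ _
    exact EmbeddingLike.map_eq_one_iff
  have hker3 : τ3.ker = C3SuzCover.π.ker := by
    ext x
    rw [MonoidHom.mem_ker, MonoidHom.mem_ker]
    show e (C3SuzCover.π x) = 1 ↔ _
    exact EmbeddingLike.map_eq_one_iff
  have hτ2 : IsStemExtension τ2 := by
    refine ⟨?_, ?_, ?_⟩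
    · exact e.surjective.comp C2SuzCover.isStem.1
    · rw [hker2]
      exact C2SuzCover.isStem.2.1
    · rw [hker2]
      exact C2SuzCover.isStem.2.2
  have hτ3 : IsStemExtension τ3 := by
    refine ⟨?_, ?_, ?_⟩
    · exact e.surjective.comp C3SuzCover.isStem.1
    · rw [hker3]
      exact C3SuzCover.isStem.2.1
    · rw [hker3]
      exact C3SuzCover.isStem.2.2
  have hc2 : Nat.card τ2.ker = 2 := by rw [hker2]; exact C2SuzCover.card_ker
  have hc3 : Nat.card τ3.ker = 3 := by rw [hker3]; exact C3SuzCover.card_ker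
  obtain ⟨ek2⟩ := C2SuzCover.ker_equiv
  obtain ⟨ek3⟩ := C3SuzCover.ker_equiv
  have e6 : Multiplicative (ZMod 2 × ZMod 3) ≃* Multiplicative (ZMod 6) :=
    AddEquiv.toMultiplicative (ZMod.chineseRemainder (show Nat.Coprime 2 3 by decide)).toAddEquiv.symm
  have ek : τ2.ker × τ3.ker ≃* Multiplicative (ZMod 6) :=
    ((MulEquiv.prodCongr ((MulEquiv.subgroupCongr hker2).trans ek2) ((MulEquiv.subgroupCongr hker3).trans ek3)).trans
      (MulEquiv.prodMultiplicative (ZMod 2) (ZMod 3)).symm).trans e6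
  apply hasSchurMultiplier_of_fib PC2Suz.P.Grp PC3Suz.P.Grp τ2 τ3 hτ2 hτ3 C2SuzCover.perfect C3SuzCover.perfect
    (by rw [hc2, hc3]; decide) ek
  intro p hp
  by_cases h3 : p = 3
  · right
    subst h3
    refine ⟨by rw [hc2]; decide, SC3Suzp3Main.noStem⟩
  · left
    refine ⟨?_, noStem2 p hp h3⟩
    rw [hc3]
    exact (Nat.coprime_primes Nat.prime_three hp).2 (Ne.symm h3)

end Cfsg.Agent.Lib.Helper4.C6SuzStem
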