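import Mathlib
import Cfsg.Prelude.Def_SporCoxeter

/-! The ninefold cover of U4(3), of order 9·3265920, presented on lifts `c`, `d`, `t` of the generators of `U43p` and central elements `a`, `b` of order 3 (generated). -/

namespace Cfsg.Agent.Lib.Helper4

namespace C9U43

/-- the generators -/
inductive Gen
  | c
  | d
  | t
  | a
  | b
  deriving DecidableEq

abbrev c : FreeGroup Gen := FreeGroup.of Gen.c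
abbrev d : FreeGroup Gen := FreeGroup.of Gen.d
abbrev t : FreeGroup Gen := FreeGroup.of Gen.t
abbrev a : FreeGroup Gen := FreeGroup.of Gen.a
abbrev b : FreeGroup Gen := FreeGroup.of Gen.b

/-- no Coxeter graph -/
def edges : List (Gen × ℕ × Gen) := []

/-- the relators -/
def extra : List (FreeGroup Gen) := [
  c ^ 7,
  c * c * d * c⁻¹ * d * c * d⁻¹ * c * d * c⁻¹ * d,
  (c * c * c * d) ^ 3,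
  c * c * d * d * c * c * d⁻¹ * d⁻¹ * c * c * d⁻¹ * d⁻¹,
  t ^ 7,
  ((d * t) ^ 4) * a⁻¹,
  c * c * c * d⁻¹ * t * c⁻¹ * d⁻¹ * t * c⁻¹ * d⁻¹ * b⁻¹,
  c * d * c * d * c⁻¹ * t⁻¹ * c⁻¹ * d⁻¹ * c⁻¹ * d⁻¹ * t,
  c * c * c * c * t⁻¹ * c⁻¹ * d * c * c * c * d * t⁻¹ * b⁻¹ * b⁻¹,
  c * c * c * d * c⁻¹ * d * c⁻¹ * c⁻¹ * c⁻¹ * t⁻¹ * c⁻¹ * d⁻¹ * t⁻¹ * b⁻¹ * b⁻¹,
  c * c * d⁻¹ * c⁻¹ * d⁻¹ * c * c * t * d * c⁻¹ * c⁻¹ * t⁻¹ * d,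
  c * c * d * c * c * d⁻¹ * c * t⁻¹ * c * t⁻¹ * t⁻¹ * t⁻¹ * c * t⁻¹ * d⁻¹ * b⁻¹,
  c * c * d * t * c * t⁻¹ * c⁻¹ * c⁻¹ * t⁻¹ * d⁻¹ * t⁻¹ * d * c * d * d * b⁻¹,
  a ^ 3,
  b ^ 3,
  a⁻¹ * c⁻¹ * a * c,
  a⁻¹ * d⁻¹ * a * d,
  a⁻¹ * t⁻¹ * a * t,
  b⁻¹ * c⁻¹ * b * c,
  b⁻¹ * d⁻¹ * b * d,
  b⁻¹ * t⁻¹ * b * t,
  a⁻¹ * b⁻¹ * a * b ]

end C9U43

end Cfsg.Agent.Lib.Helper4
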