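import Mathlib
import Cfsg.Agent.Lib.Helper7.CentrallyLarge

set_option autoImplicit false

/-! # S2990 unit U1: centrally large subgroups of `↥S` in terms of subgroups of `G` inside `S` -/

namespace Cfsg.Agent.Lib.Helper4.MCLG

open Cfsg Cfsg.Agent.Lib.Helper7

variable {G : Type*} [Group G]

/-- `|X| · |Z(X)|` for a subgroup `X` of `G` -/
noncomputable def cm (X : Subgroup G) : ℕ :=
  Nat.card X * Nat.card (X ⊓ Subgroup.centralizer (X : Set G) : Subgroup G)

/-- `|X| · |C_S(X)|` -/
noncomputable def zm (S X : Subgroup G) : ℕ :=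
  Nat.card X * Nat.card (S ⊓ Subgroup.centralizer (X : Set G) : Subgroup G)

theorem clMeasure_eq_cm (X : Subgroup G) : clMeasure X = cm X := by
  unfold clMeasure cm
  rw [card_center_subtype]

theorem clMeasure_map (S : Subgroup G) (R : Subgroup S) : clMeasure R = cm (R.map S.subtype) := by
  rw [← clMeasure_eq_cm]
  unfold clMeasure
  have e : ↥R ≃* ↥(R.map S.subtype) := R.equivMapOfInjective S.subtype (Subgroup.subtype_injective S)
  rw [Nat.card_congr e.toEquiv, Nat.card_congr (Subgroup.centerCongr e).toEquiv]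

theorem map_centralizer (S : Subgroup G) (R : Subgroup S) :
    (Subgroup.centralizer (R : Set S)).map S.subtype =
      S ⊓ Subgroup.centralizer ((R.map S.subtype : Subgroup G) : Set G) := by
  ext x
  constructor
  · rintro ⟨s, hs, rfl⟩
    refine Subgroup.mem_inf.mpr ⟨s.2, ?_⟩
    rw [Subgroup.mem_centralizer_iff]
    rintro _ ⟨r, hr, rfl⟩
    have := Subgroup.mem_centralizer_iff.mp hs r hr
    exact congrArg Subtype.val this
  · intro hx
    obtain ⟨hxS, hxc⟩ := Subgroup.mem_inf.mp hx
    refine ⟨⟨x, hxS⟩, ?_, rfl⟩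
    change (⟨x, hxS⟩ : S) ∈ Subgroup.centralizer (R : Set S)
    rw [Subgroup.mem_centralizer_iff]
    intro r hr
    apply Subtype.ext
    exact Subgroup.mem_centralizer_iff.mp hxc _ (Subgroup.mem_map_of_mem _ hr)

theorem cdMeasure_map (S : Subgroup G) (R : Subgroup S) : cdMeasure R = zm S (R.map S.subtype) := by
  unfold cdMeasure zm
  rw [← map_centralizer, Subgroup.card_map_of_injective (Subgroup.subtype_injective S),
    Subgroup.card_map_of_injective (Subgroup.subtype_injective S)]

theorem map_subgroupOf_of_le {S X : Subgroup G} (hX : X ≤ S) :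
    (X.subgroupOf S).map S.subtype = X := Subgroup.map_subgroupOf_eq_of_le hX

theorem subgroupOf_map (S : Subgroup G) (R : Subgroup S) : (R.map S.subtype).subgroupOf S = R :=
  Subgroup.comap_map_eq_self_of_injective (Subgroup.subtype_injective S) R

variable [Finite G]

theorem clMeasure_le_max (S : Subgroup G) (R : Subgroup S) : clMeasure R ≤ maxCentralProduct S :=
  le_csSup clMeasure_bddAbove ⟨R, rfl⟩

theorem exists_clMeasure_eq_max (S : Subgroup G) :
    ∃ R : Subgroup S, clMeasure R = maxCentralProduct S := by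
  have := Nat.sSup_mem (s := {k : ℕ | ∃ R : Subgroup S,
      Nat.card ↥R * Nat.card ↥(Subgroup.center ↥R) = k}) ⟨_, ⊥, rfl⟩ clMeasure_bddAbove
  obtain ⟨R, hR⟩ := this
  exact ⟨R, hR⟩

/-- (U1b) centrally large in `↥S`, in terms of `G` -/
theorem isCentrallyLarge_iff_forall (S : Subgroup G) (R : Subgroup S) :
    IsCentrallyLarge R ↔ ∀ Y : Subgroup G, Y ≤ S → cm Y ≤ cm (R.map S.subtype) := by
  have hdef : IsCentrallyLarge R ↔ clMeasure R = maxCentralProduct S := Iff.rfl
  rw [hdef]
  constructor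
  · intro h Y hY
    rw [← clMeasure_map, h, ← map_subgroupOf_of_le hY, ← clMeasure_map]
    exact clMeasure_le_max S _
  · intro h
    apply le_antisymm (clMeasure_le_max S R)
    obtain ⟨R', hR'⟩ := exists_clMeasure_eq_max S
    rw [← hR', clMeasure_map, clMeasure_map]
    exact h _ (Subgroup.map_subtype_le R')

theorem isCentrallyLarge_subgroupOf_iff {S X : Subgroup G} (hX : X ≤ S) :
    IsCentrallyLarge (X.subgroupOf S) ↔ ∀ Y : Subgroup G, Y ≤ S → cm Y ≤ cm X := by
  rw [isCentrallyLarge_iff_forall, map_subgroupOf_of_le hX]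

theorem cdMeasure_le_max' (S : Subgroup G) (R : Subgroup S) :
    cdMeasure R ≤ maxCentralizerProduct S := cdMeasure_le_max R

/-- (U1b) centralizer large (largest Chermak–Delgado measure) in `↥S`, in terms of `G` -/
theorem isCentralizerLarge_iff_forall (S : Subgroup G) (R : Subgroup S) :
    IsCentralizerLarge R ↔ ∀ Y : Subgroup G, Y ≤ S → zm S Y ≤ zm S (R.map S.subtype) := by
  rw [isCentralizerLarge_iff]
  constructor
  · intro h Y hY
    rw [← cdMeasure_map, h, ← map_subgroupOf_of_le hY, ← cdMeasure_map]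
    exact cdMeasure_le_max _
  · intro h
    apply le_antisymm (cdMeasure_le_max R)
    obtain ⟨R', hR'⟩ := exists_cdMeasure_max S
    rw [← hR', cdMeasure_map, cdMeasure_map]
    exact h _ (Subgroup.map_subtype_le R')

theorem isCentralizerLarge_subgroupOf_iff {S X : Subgroup G} (hX : X ≤ S) :
    IsCentralizerLarge (X.subgroupOf S) ↔ ∀ Y : Subgroup G, Y ≤ S → zm S Y ≤ zm S X := by
  rw [isCentralizerLarge_iff_forall, map_subgroupOf_of_le hX]

/-- (U1b) minimal centrally large in `↥S`, in terms of `G` -/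
theorem isMinimalCentrallyLarge_subgroupOf_iff {S X : Subgroup G} (hX : X ≤ S) :
    IsMinimalCentrallyLarge (X.subgroupOf S) ↔
      (∀ Y : Subgroup G, Y ≤ S → cm Y ≤ cm X) ∧
      ∀ Y : Subgroup G, Y ≤ X → (∀ Y' : Subgroup G, Y' ≤ S → cm Y' ≤ cm Y) → Y = X := by
  unfold IsMinimalCentrallyLarge
  rw [isCentrallyLarge_subgroupOf_iff hX]
  constructor
  · rintro ⟨h1, h2⟩
    refine ⟨h1, fun Y hYX hY => ?_⟩
    have hYS : Y ≤ S := hYX.trans hX
    have h3 := h2 (Y.subgroupOf S) (Subgroup.comap_mono hYX)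
      ((isCentrallyLarge_subgroupOf_iff hYS).mpr hY)
    rw [← map_subgroupOf_of_le hYS, h3, map_subgroupOf_of_le hX]
  · rintro ⟨h1, h2⟩
    refine ⟨h1, fun R' hR' hCL => ?_⟩
    have hle : R'.map S.subtype ≤ X := by
      have := Subgroup.map_mono (f := S.subtype) hR'
      rwa [map_subgroupOf_of_le hX] at this
    have h3 := h2 _ hle ((isCentrallyLarge_iff_forall S R').mp hCL)
    rw [← subgroupOf_map S R', h3]

theorem isMinimalCentrallyLarge_iff_map (S : Subgroup G) (R : Subgroup S) :
    IsMinimalCentrallyLarge R ↔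
      (∀ Y : Subgroup G, Y ≤ S → cm Y ≤ cm (R.map S.subtype)) ∧
      ∀ Y : Subgroup G, Y ≤ R.map S.subtype →
        (∀ Y' : Subgroup G, Y' ≤ S → cm Y' ≤ cm Y) → Y = R.map S.subtype := by
  rw [← isMinimalCentrallyLarge_subgroupOf_iff (Subgroup.map_subtype_le R), subgroupOf_map]

end Cfsg.Agent.Lib.Helper4.MCLG
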