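import Mathlib
import Cfsg.Agent.Lib.Helper4.MCLG1

set_option autoImplicit false

/-! # S2990 unit U2 (CONJ): conjugates of minimal centrally large subgroups inside a normal subgroup `O ≤ S` -/

namespace Cfsg.Agent.Lib.Helper4.MCLG

open Cfsg Cfsg.Agent.Lib.Helper7

variable {G : Type*} [Group G]

theorem map_conj_inf_centralizer (X : Subgroup G) (g : G) :
    X.map (MulAut.conj g).toMonoidHom ⊓
        Subgroup.centralizer ((X.map (MulAut.conj g).toMonoidHom : Subgroup G) : Set G) =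
      (X ⊓ Subgroup.centralizer (X : Set G)).map (MulAut.conj g).toMonoidHom := by
  ext x
  constructor
  · intro hx
    obtain ⟨⟨y, hy, rfl⟩, hc⟩ := Subgroup.mem_inf.mp hx
    refine ⟨y, Subgroup.mem_inf.mpr ⟨hy, ?_⟩, rfl⟩
    rw [Subgroup.mem_centralizer_iff]
    intro z hz
    have := Subgroup.mem_centralizer_iff.mp hc _ (Subgroup.mem_map_of_mem _ hz)
    simp only [MulEquiv.coe_toMonoidHom, MulAut.conj_apply] at this
    have h2 : g * (z * y) * g⁻¹ = g * (y * z) * g⁻¹ := by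
      calc g * (z * y) * g⁻¹ = g * z * g⁻¹ * (g * y * g⁻¹) := by group
        _ = g * y * g⁻¹ * (g * z * g⁻¹) := this
        _ = g * (y * z) * g⁻¹ := by group
    exact mul_left_cancel (mul_right_cancel h2)
  · rintro ⟨y, hy, rfl⟩
    obtain ⟨hyX, hyc⟩ := Subgroup.mem_inf.mp hy
    refine Subgroup.mem_inf.mpr ⟨Subgroup.mem_map_of_mem _ hyX, ?_⟩
    rw [Subgroup.mem_centralizer_iff]
    rintro _ ⟨z, hz, rfl⟩
    have := Subgroup.mem_centralizer_iff.mp hyc z hz
    simp only [MulEquiv.coe_toMonoidHom, MulAut.conj_apply]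
    calc g * z * g⁻¹ * (g * y * g⁻¹) = g * (z * y) * g⁻¹ := by group
      _ = g * (y * z) * g⁻¹ := by rw [this]
      _ = g * y * g⁻¹ * (g * z * g⁻¹) := by group

theorem cm_map_conj (X : Subgroup G) (g : G) : cm (X.map (MulAut.conj g).toMonoidHom) = cm X := by
  unfold cm
  rw [map_conj_inf_centralizer, Subgroup.card_map_of_injective (MulAut.conj g).injective,
    Subgroup.card_map_of_injective (MulAut.conj g).injective]

theorem map_conj_map_conj_inv (X : Subgroup G) (g : G) :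
    (X.map (MulAut.conj g⁻¹).toMonoidHom).map (MulAut.conj g).toMonoidHom = X := by
  ext x
  constructor
  · rintro ⟨_, ⟨y, hy, rfl⟩, rfl⟩
    simp only [MulEquiv.coe_toMonoidHom, MulAut.conj_apply]
    rwa [show g * (g⁻¹ * y * g⁻¹⁻¹) * g⁻¹ = y by group]
  · intro hx
    refine ⟨g⁻¹ * x * g, ⟨x, hx, by simp [MulAut.conj_apply]⟩, ?_⟩
    simp only [MulEquiv.coe_toMonoidHom, MulAut.conj_apply]
    group

variable [Finite G]

/-- (U2, CONJ) a `G`-conjugate of a minimal centrally large subgroup of `S` lying in a normal subgroup `O ≤ S`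
of `G` is again minimal centrally large in `S` -/
theorem conj_isMCL (S O X : Subgroup G) [O.Normal] (hOS : O ≤ S) (hX : X ≤ O)
    (h : IsMinimalCentrallyLarge (X.subgroupOf S)) (g : G) :
    IsMinimalCentrallyLarge ((X.map (MulAut.conj g).toMonoidHom).subgroupOf S) := by
  have conj_le : ∀ (Y : Subgroup G) (k : G), Y ≤ O → Y.map (MulAut.conj k).toMonoidHom ≤ O := by
    rintro Y k hY _ ⟨y, hy, rfl⟩
    exact (inferInstance : O.Normal).conj_mem y (hY hy) k
  have hXg : X.map (MulAut.conj g).toMonoidHom ≤ O := conj_le X g hX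
  obtain ⟨h1, h2⟩ := (isMinimalCentrallyLarge_subgroupOf_iff (hX.trans hOS)).mp h
  rw [isMinimalCentrallyLarge_subgroupOf_iff (hXg.trans hOS)]
  refine ⟨fun Y hY => by rw [cm_map_conj]; exact h1 Y hY, fun Y hYX hY => ?_⟩
  -- pull `Y` back by `g⁻¹`
  have hY' : Y.map (MulAut.conj g⁻¹).toMonoidHom ≤ X := by
    rintro _ ⟨y, hy, rfl⟩
    obtain ⟨x, hx, hxy⟩ := hYX hy
    simp only [MulEquiv.coe_toMonoidHom, MulAut.conj_apply] at hxy ⊢
    rw [← hxy]
    rwa [show g⁻¹ * (g * x * g⁻¹) * g⁻¹⁻¹ = x by group]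
  have h3 := h2 _ hY' (fun Y' hY'S => by rw [cm_map_conj]; exact hY Y' hY'S)
  rw [← h3, map_conj_map_conj_inv]

end Cfsg.Agent.Lib.Helper4.MCLG
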