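import Mathlib
import Cfsg.Agent.Lib.Helper6.CL0
import Cfsg.Agent.Lib.Helper4.MCLG2

set_option autoImplicit false

/-! # S2990 / S2989 farm (owner helper6): units U-CONJ, U-MCLJOIN, U-BRIDGE1, U-BRIDGE2, U-BRIDGE3 -/

namespace Cfsg.Agent.Lib.Helper4.CL4

open Cfsg.Agent.Lib.Helper6.CLP Cfsg.Agent.Lib.Helper4.MCLG

variable {G : Type*} [Group G] [Finite G] {p : ℕ} [Fact p.Prime]

omit [Fact p.Prime] in
/-- U-CONJ : conjugates (inside the normal subgroup `O ≤ S`) of minimal centrally large subgroups. -/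
theorem conj_mcl (S O X : Subgroup G) [O.Normal] (hOS : O ≤ S) (hXO : X ≤ O) (hX : MCLin S X)
    (g : G) : MCLin S (X.map (MulAut.conj g).toMonoidHom) := by
  refine ⟨?_, conj_isMCL S O X hOS hXO hX.2 g⟩
  rintro _ ⟨x, hx, rfl⟩
  exact hOS ((inferInstance : O.Normal).conj_mem x (hXO hx) g)

omit [Finite G] [Fact p.Prime] in
/-- U-BRIDGE1 -/
theorem mclin_map (S : Subgroup G) (Q : Subgroup ↥S) :
    Cfsg.IsMinimalCentrallyLarge Q ↔ MCLin S (Q.map S.subtype) := by
  unfold MCLin
  rw [subgroupOf_map]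
  exact ⟨fun h => ⟨Subgroup.map_subtype_le Q, h⟩, fun h => h.2⟩

omit [Fact p.Prime] in
/-- U-MCLJOIN : if all minimal centrally large subgroups lie in `O` then `S_MCL` is normal in `G`. -/
theorem mclJoin_normal (S O : Subgroup G) [O.Normal] (hOS : O ≤ S)
    (hall : ∀ X : Subgroup G, MCLin S X → X ≤ O) :
    ((Cfsg.minimalCentrallyLargeJoin ↥S).map S.subtype).Normal := by
  have key : ∀ g : G, ((Cfsg.minimalCentrallyLargeJoin ↥S).map S.subtype).map
      (MulAut.conj g).toMonoidHom ≤ (Cfsg.minimalCentrallyLargeJoin ↥S).map S.subtype := by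
    intro g
    unfold Cfsg.minimalCentrallyLargeJoin
    rw [Subgroup.map_le_iff_le_comap, Subgroup.map_le_iff_le_comap]
    apply sSup_le
    intro R hR
    rw [← Subgroup.map_le_iff_le_comap, ← Subgroup.map_le_iff_le_comap]
    have h1 : MCLin S (R.map S.subtype) := (mclin_map S R).mp hR
    have h2 := conj_mcl S O _ hOS (hall _ h1) h1 g
    have h3 : ((R.map S.subtype).map (MulAut.conj g).toMonoidHom).subgroupOf S ≤
        sSup {R : Subgroup ↥S | Cfsg.IsMinimalCentrallyLarge R} := le_sSup h2.2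
    have h4 := Subgroup.map_mono (f := S.subtype) h3
    rwa [map_subgroupOf_of_le h2.1] at h4
  constructor
  intro x hx g
  exact key g ⟨x, hx, rfl⟩

omit [Finite G] [Fact p.Prime] in
theorem omegaOne_map {H : Type*} [Group H] (p : ℕ) (f : G →* H) (hf : Function.Injective f)
    (K : Subgroup G) : (Cfsg.omegaOne p K).map f = Cfsg.omegaOne p (K.map f) := by
  unfold Cfsg.omegaOne
  rw [MonoidHom.map_closure]
  congr 1
  ext y
  constructor
  · rintro ⟨x, ⟨hx, hxp⟩, rfl⟩
    exact ⟨Subgroup.mem_map_of_mem _ hx, by rw [← map_pow, hxp, map_one]⟩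
  · rintro ⟨⟨x, hx, rfl⟩, hyp⟩
    refine ⟨x, ⟨hx, ?_⟩, rfl⟩
    apply hf
    rw [map_pow, hyp, map_one]

omit [Finite G] [Fact p.Prime] in
theorem map_inf_centralizer' (S : Subgroup G) (R : Subgroup S) :
    (R ⊓ Subgroup.centralizer (R : Set S)).map S.subtype =
      R.map S.subtype ⊓ Subgroup.centralizer ((R.map S.subtype : Subgroup G) : Set G) := by
  rw [Subgroup.map_inf _ _ _ (Subgroup.subtype_injective S), map_centralizer, ← inf_assoc,
    inf_eq_left.mpr (Subgroup.map_subtype_le R)]

omit [Finite G] [Fact p.Prime] in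
/-- U-BRIDGE2 -/
theorem card_omegaOneCenter_map (p : ℕ) (S : Subgroup G) (Q : Subgroup ↥S) :
    Nat.card (Cfsg.omegaOneCenter p Q) = Nat.card (Cfsg.omegaOneCenter p (Q.map S.subtype)) := by
  unfold Cfsg.omegaOneCenter
  rw [← map_inf_centralizer', ← omegaOne_map p S.subtype (Subgroup.subtype_injective S),
    Subgroup.card_map_of_injective (Subgroup.subtype_injective S)]

omit [Finite G] [Fact p.Prime] in
theorem frattini_map_equiv {A B : Type*} [Group A] [Group B] (e : A ≃* B) :
    (frattini A).map e.toMonoidHom = frattini B := by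
  apply le_antisymm
  · rw [Subgroup.map_le_iff_le_comap]
    exact frattini_le_comap_frattini_of_surjective e.surjective
  · have h := frattini_le_comap_frattini_of_surjective (φ := e.symm.toMonoidHom) e.symm.surjective
    intro b hb
    exact ⟨e.symm b, h hb, by simp⟩

omit [Finite G] [Fact p.Prime] in
/-- U-BRIDGE3 -/
theorem phi_map (S : Subgroup G) (Q : Subgroup ↥S) :
    ((frattini ↥Q).map Q.subtype).map S.subtype = phi (Q.map S.subtype) := by
  unfold phi
  have e : ↥Q ≃* ↥(Q.map S.subtype) := Q.equivMapOfInjective S.subtype (Subgroup.subtype_injective S)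
  rw [← frattini_map_equiv (Q.equivMapOfInjective S.subtype (Subgroup.subtype_injective S)),
    Subgroup.map_map, Subgroup.map_map]
  congr 1

end Cfsg.Agent.Lib.Helper4.CL4
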