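import Mathlib
import Cfsg.Prelude.Def_Local
import Cfsg.Prelude.Def_Balance
import Cfsg.Prelude.Def_ClassificationStages

/-! Farm CMX (S1305), unit FIN, part a: transport of elementary abelian subgroups. -/

set_option autoImplicit false

namespace Cfsg.Agent.Lib.Helper4.CMX

open Cfsg

variable {G : Type*} [Group G]

theorem elemAb_subgroupOf (H A : Subgroup G) (h : IsElementaryAbelian 2 A) :
    IsElementaryAbelian 2 (A.subgroupOf H) := by
  obtain ⟨h1, h2⟩ := h
  refine ⟨inferInstance, ?_⟩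
  intro x hx
  have := h2 (x : G) (Subgroup.mem_subgroupOf.mp hx)
  exact Subtype.ext (by simpa using this)

theorem elemAb_map_subtype (H : Subgroup G) (A : Subgroup ↥H) (h : IsElementaryAbelian 2 A) :
    IsElementaryAbelian 2 (A.map H.subtype) := by
  obtain ⟨h1, h2⟩ := h
  refine ⟨inferInstance, ?_⟩
  rintro _ ⟨x, hx, rfl⟩
  have := h2 x hx
  have h3 := congrArg Subtype.val this
  simpa using h3

theorem card_subgroupOf_of_le {H A : Subgroup G} (h : A ≤ H) :
    Nat.card ↥(A.subgroupOf H) = Nat.card ↥A :=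
  Nat.card_congr (Subgroup.subgroupOfEquivOfLe h).toEquiv

theorem isPGroup_of_elemAb {A : Subgroup G} (h : IsElementaryAbelian 2 A) : IsPGroup 2 ↥A := by
  intro x
  refine ⟨1, ?_⟩
  have := h.2 (x : G) x.2
  exact Subtype.ext (by simpa using this)

theorem exists_card_eq_of_elemAb [Finite G] {A : Subgroup G} (h : IsElementaryAbelian 2 A) :
    ∃ n : ℕ, Nat.card ↥A = 2 ^ n := by
  have : Fact (Nat.Prime 2) := ⟨Nat.prime_two⟩
  exact (IsPGroup.iff_card).mp (isPGroup_of_elemAb h)

/-- A group of 2-rank at least two contains an elementary abelian subgroup of order at least 4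
and has even order. -/
theorem exists_four_of_not_pRankLE [Finite G] (K : Subgroup G) (hrk : ¬ PRankLE 2 1 ↥K) :
    ∃ V : Subgroup G, V ≤ K ∧ IsElementaryAbelian 2 V ∧ 4 ≤ Nat.card ↥V := by
  unfold PRankLE at hrk
  push Not at hrk
  obtain ⟨A, hA1, hA2, hA3⟩ := hrk
  have hel : IsElementaryAbelian 2 (A.map K.subtype) := elemAb_map_subtype K A ⟨hA1, hA2⟩
  refine ⟨A.map K.subtype, Subgroup.map_subtype_le A, hel, ?_⟩
  obtain ⟨n, hn⟩ := exists_card_eq_of_elemAb hel
  rw [Subgroup.card_subtype] at hn ⊢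
  rw [hn] at hA3 ⊢
  have : 2 ≤ n := by
    by_contra hlt
    have : n ≤ 1 := by omega
    have := Nat.pow_le_pow_right (show 0 < 2 by norm_num) this
    omega
  calc 4 = 2 ^ 2 := by norm_num
    _ ≤ 2 ^ n := Nat.pow_le_pow_right (by norm_num) this

theorem two_dvd_card_of_four_le [Finite G] {V K : Subgroup G} (hVK : V ≤ K)
    (hV : IsElementaryAbelian 2 V) (h4 : 4 ≤ Nat.card ↥V) : 2 ∣ Nat.card ↥K := by
  obtain ⟨n, hn⟩ := exists_card_eq_of_elemAb hV
  have hd : Nat.card ↥V ∣ Nat.card ↥K := Subgroup.card_dvd_of_le hVK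
  have : 2 ∣ Nat.card ↥V := by
    rw [hn]
    have : n ≠ 0 := by
      rintro rfl
      rw [hn] at h4; norm_num at h4
    exact dvd_pow_self 2 this
  exact this.trans hd

end Cfsg.Agent.Lib.Helper4.CMX
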