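import Mathlib
import Cfsg.Agent.Lib.Helper4.CMXFINa

/-! Farm CMX (S1305), unit FIN: the assembly, with the units T1 T2 T3 CORE RK as explicit hypotheses. -/

set_option autoImplicit false
set_option linter.unusedVariables false

namespace Cfsg.Agent.Lib.Helper4.CMX

open Cfsg

universe u

variable {G : Type u} [Group G]

theorem FIN_of [Finite G]
    (uT1 : ∀ (hO : oddCore G = ⊥) (hB : HasBProperty G) (b : G) (hb : orderOf b = 2),

    pLayer 2 ↥(Subgroup.centralizer ({b} : Set G)) ≤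
      layer ↥(Subgroup.centralizer ({b} : Set G)))
    (uT2 : ∀ (a b : G) (ha : orderOf a = 2)
    (hab : a ∈ Subgroup.centralizer ({b} : Set G))
    (hLB : ∀ T : Subgroup ↥(Subgroup.centralizer ({b} : Set G)), IsPGroup 2 ↥T →
      (pLayer 2 ↥(Subgroup.centralizer (T : Set ↥(Subgroup.centralizer ({b} : Set G))))).map
        (Subgroup.centralizer (T : Set ↥(Subgroup.centralizer ({b} : Set G)))).subtype ≤
        pLayer 2 ↥(Subgroup.centralizer ({b} : Set G)))
    (K : Subgroup G)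
    (hKa : K ≤ Subgroup.centralizer ({a} : Set G)) (hKb : K ≤ Subgroup.centralizer ({b} : Set G))
    (hK : IsComponent (K.subgroupOf (Subgroup.centralizer ({a} : Set G))))
    (hKeven : 2 ∣ Nat.card K),

    K.subgroupOf (Subgroup.centralizer ({b} : Set G)) ≤
      pLayer 2 ↥(Subgroup.centralizer ({b} : Set G)))
    (uT3 : ∀ (a b : G) (hab : a ∈ Subgroup.centralizer ({b} : Set G)) (K : Subgroup G)
    (hKa : K ≤ Subgroup.centralizer ({a} : Set G)) (hKb : K ≤ Subgroup.centralizer ({b} : Set G))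
    (hK : IsComponent (K.subgroupOf (Subgroup.centralizer ({a} : Set G)))),

    IsComponent ((K.subgroupOf (Subgroup.centralizer ({b} : Set G))).subgroupOf
      (Subgroup.centralizer
        ({(⟨a, hab⟩ : ↥(Subgroup.centralizer ({b} : Set G)))} :
          Set ↥(Subgroup.centralizer ({b} : Set G))))))
    (uCORE : ∀ {X : Type u} [Group X] [Finite X] (a : X) (ha : a * a = 1) (L : Subgroup X)
    (hLa : L ≤ Subgroup.centralizer ({a} : Set X))
    (hL : IsComponent (L.subgroupOf (Subgroup.centralizer ({a} : Set X))))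
    (hLE : L ≤ layer X)
    (hmax : ∀ D : Subgroup X, IsComponent D → Nat.card D ≤ Nat.card L),

    IsComponent L ∨ ∃ D : Subgroup X, IsComponent D ∧ D.map (MulAut.conj a).toMonoidHom ≠ D ∧
      (∀ d ∈ D, d * (a * d * a⁻¹) ∈ L) ∧ (∀ x ∈ L, ∃ d ∈ D, x = d * (a * d * a⁻¹)) ∧
      (∀ d ∈ D, d * (a * d * a⁻¹) = 1 → d = 1) ∧ Nat.card D = Nat.card L)
    (uRK : ∀ {X : Type u} [Group X] [Finite X] (a : X) (ha : a * a = 1) {D L B V : Subgroup X} (hD : IsComponent D)
    (hDa : D.map (MulAut.conj a).toMonoidHom ≠ D)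
    (h1 : ∀ d ∈ D, d * (a * d * a⁻¹) ∈ L) (h2 : ∀ x ∈ L, ∃ d ∈ D, x = d * (a * d * a⁻¹))
    (h3 : ∀ d ∈ D, d * (a * d * a⁻¹) = 1 → d = 1)
    (hBa : B ≤ Subgroup.centralizer ({a} : Set X)) (hBL : B ≤ Subgroup.centralizer (L : Set X))
    (hBel : IsElementaryAbelian 2 B)
    (hVL : V ≤ L) (hVel : IsElementaryAbelian 2 V) (hV4 : 4 ≤ Nat.card V),

    ∃ W : Subgroup X, W ≤ Subgroup.centralizer (D : Set X) ∧ IsElementaryAbelian 2 W ∧
      Nat.card B < Nat.card W)
    (hLB : ∀ (Y : Type u) [Group Y] [Finite Y] (T : Subgroup Y), IsPGroup 2 ↥T →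
      (pLayer 2 ↥(Subgroup.centralizer (T : Set Y))).map
        (Subgroup.centralizer (T : Set Y)).subtype ≤ pLayer 2 Y)
    (hO : oddCore G = ⊥) (hB : HasBProperty G) (a : G) (ha : orderOf a = 2) (K : Subgroup G)
    (hKa : K ≤ Subgroup.centralizer ({a} : Set G))
    (hK : IsComponent (K.subgroupOf (Subgroup.centralizer ({a} : Set G))))
    (hmax : ∀ y : G, orderOf y = 2 → ∀ K' : Subgroup G, K' ≤ Subgroup.centralizer ({y} : Set G) →
      IsComponent (K'.subgroupOf (Subgroup.centralizer ({y} : Set G))) →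
      Nat.card ↥K' ≤ Nat.card ↥K ∧ (Nat.card ↥K' = Nat.card ↥K → ∀ k : ℕ,
        PRankLE 2 k ↥(Subgroup.centralizer ({a} : Set G) ⊓ Subgroup.centralizer (K : Set G)) →
        PRankLE 2 k ↥(Subgroup.centralizer ({y} : Set G) ⊓ Subgroup.centralizer (K' : Set G))))
    (hrk : ¬ PRankLE 2 1 ↥K) (B : Subgroup G)
    (hBle : B ≤ Subgroup.centralizer ({a} : Set G) ⊓ Subgroup.centralizer (K : Set G))
    (hBel : IsElementaryAbelian 2 B)
    (hBmax : ∀ B' : Subgroup G,
      B' ≤ Subgroup.centralizer ({a} : Set G) ⊓ Subgroup.centralizer (K : Set G) →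
      IsElementaryAbelian 2 B' → Nat.card ↥B' ≤ Nat.card ↥B)
    (b : G) (hb : b ∈ B) (hb1 : b ≠ 1) :
    K ≤ Subgroup.centralizer ({b} : Set G) ∧
      IsComponent (K.subgroupOf (Subgroup.centralizer ({b} : Set G))) := by
  -- basic facts on `b`
  have hbB := hBle hb
  rw [Subgroup.mem_inf] at hbB
  obtain ⟨hba, hbK⟩ := hbB
  have hb2 : orderOf b = 2 := orderOf_eq_prime (hBel.2 b hb) hb1
  have hab : a ∈ Subgroup.centralizer ({b} : Set G) := by
    rw [Subgroup.mem_centralizer_singleton_iff] at hba ⊢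
    exact hba.symm
  have hKb : K ≤ Subgroup.centralizer ({b} : Set G) := by
    intro k hk
    rw [Subgroup.mem_centralizer_singleton_iff]
    rw [Subgroup.mem_centralizer_iff] at hbK
    exact hbK k hk
  refine ⟨hKb, ?_⟩
  have haa : a * a = 1 := by
    have := pow_orderOf_eq_one a
    rw [ha, sq] at this
    exact this
  -- a four-group in `K`
  obtain ⟨V, hVK, hVel, hV4⟩ := exists_four_of_not_pRankLE K hrk
  have hKeven : 2 ∣ Nat.card ↥K := two_dvd_card_of_four_le hVK hVel hV4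
  -- notation
  set Cb : Subgroup G := Subgroup.centralizer ({b} : Set G) with hCb
  set a' : ↥Cb := ⟨a, hab⟩ with ha'
  have ha'a' : a' * a' = 1 := Subtype.ext (by simpa using haa)
  have h2 : K.subgroupOf Cb ≤ pLayer 2 ↥Cb :=
    uT2 a b ha hab (fun T hT => hLB ↥Cb T hT) K hKa hKb hK hKeven
  have h1 : pLayer 2 ↥Cb ≤ layer ↥Cb := uT1 hO hB b hb2
  have h3 : IsComponent ((K.subgroupOf Cb).subgroupOf
      (Subgroup.centralizer ({a'} : Set ↥Cb))) := uT3 a b hab K hKa hKb hK
  have hLa : K.subgroupOf Cb ≤ Subgroup.centralizer ({a'} : Set ↥Cb) := by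
    intro x hx
    rw [Subgroup.mem_subgroupOf] at hx
    have := hKa hx
    rw [Subgroup.mem_centralizer_singleton_iff] at this ⊢
    exact Subtype.ext (by simpa using this)
  have hcardK : Nat.card ↥(K.subgroupOf Cb) = Nat.card ↥K := card_subgroupOf_of_le hKb
  -- components of `C_G(b)` viewed in `G`
  have hcomp : ∀ D : Subgroup ↥Cb, IsComponent D →
      D.map Cb.subtype ≤ Subgroup.centralizer ({b} : Set G) ∧
      IsComponent ((D.map Cb.subtype).subgroupOf (Subgroup.centralizer ({b} : Set G))) ∧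
      Nat.card ↥(D.map Cb.subtype) = Nat.card ↥D := by
    intro D hD
    refine ⟨Subgroup.map_subtype_le D, ?_, Subgroup.card_subtype Cb D⟩
    have : (D.map Cb.subtype).subgroupOf Cb = D :=
      Subgroup.comap_map_eq_self_of_injective Cb.subtype_injective D
    rw [this]
    exact hD
  have hmaxD : ∀ D : Subgroup ↥Cb, IsComponent D →
      Nat.card ↥D ≤ Nat.card ↥(K.subgroupOf Cb) := by
    intro D hD
    obtain ⟨hle, hc, hcard⟩ := hcomp D hD
    rw [hcardK, ← hcard]
    exact (hmax b hb2 _ hle hc).1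
  rcases uCORE a' ha'a' (K.subgroupOf Cb) hLa h3 (h2.trans h1) hmaxD with hdone | hdiag
  · exact hdone
  exfalso
  obtain ⟨D, hD, hDa, hd1, hd2, hd3, hdcard⟩ := hdiag
  -- the rank argument
  have hBa' : B.subgroupOf Cb ≤ Subgroup.centralizer ({a'} : Set ↥Cb) := by
    intro x hx
    rw [Subgroup.mem_subgroupOf] at hx
    have := (Subgroup.mem_inf.mp (hBle hx)).1
    rw [Subgroup.mem_centralizer_singleton_iff] at this ⊢
    exact Subtype.ext (by simpa using this)
  have hBL' : B.subgroupOf Cb ≤ Subgroup.centralizer ((K.subgroupOf Cb : Subgroup ↥Cb) : Set ↥Cb) := by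
    intro x hx
    rw [Subgroup.mem_subgroupOf] at hx
    have := (Subgroup.mem_inf.mp (hBle hx)).2
    rw [Subgroup.mem_centralizer_iff] at this ⊢
    intro y hy
    exact Subtype.ext (by simpa using this (y : G) (Subgroup.mem_subgroupOf.mp hy))
  have hVCb : V ≤ Cb := hVK.trans hKb
  have hVL' : V.subgroupOf Cb ≤ K.subgroupOf Cb := by
    intro x hx
    rw [Subgroup.mem_subgroupOf] at hx ⊢
    exact hVK hx
  have hV4' : 4 ≤ Nat.card ↥(V.subgroupOf Cb) := by
    rw [card_subgroupOf_of_le hVCb]; exact hV4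
  obtain ⟨W, hWD, hWel, hWcard⟩ := uRK a' ha'a' hD hDa hd1 hd2 hd3 hBa' hBL'
    (elemAb_subgroupOf Cb B hBel) hVL' (elemAb_subgroupOf Cb V hVel) hV4'
  have hBCb : B ≤ Cb := by
    intro x hx
    rw [hCb, Subgroup.mem_centralizer_singleton_iff]
    have := (hBel.1).is_comm.comm (⟨x, hx⟩ : ↥B) ⟨b, hb⟩
    exact congrArg Subtype.val this
  rw [card_subgroupOf_of_le hBCb] at hWcard
  -- the 2-rank of `C(a) ⊓ C(K)`
  obtain ⟨k, hk⟩ := exists_card_eq_of_elemAb hBel
  have hPR : PRankLE 2 k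
      ↥(Subgroup.centralizer ({a} : Set G) ⊓ Subgroup.centralizer (K : Set G)) := by
    intro A hA1 hA2
    have hel := elemAb_map_subtype _ A ⟨hA1, hA2⟩
    have := hBmax _ (Subgroup.map_subtype_le A) hel
    rw [Subgroup.card_subtype, hk] at this
    exact this
  obtain ⟨hle, hc, hcard⟩ := hcomp D hD
  have hPR' := (hmax b hb2 _ hle hc).2 (by rw [hcard, hdcard, hcardK]) k hPR
  -- `W` viewed in `C(b) ⊓ C(D)`
  have hWle : W.map Cb.subtype ≤
      Subgroup.centralizer ({b} : Set G) ⊓ Subgroup.centralizer ((D.map Cb.subtype : Subgroup G) : Set G) := by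
    rintro _ ⟨x, hx, rfl⟩
    rw [Subgroup.mem_inf]
    refine ⟨x.2, ?_⟩
    rw [Subgroup.mem_centralizer_iff]
    rintro _ ⟨d, hd, rfl⟩
    have := hWD hx
    rw [Subgroup.mem_centralizer_iff] at this
    have h := this d hd
    exact congrArg Subtype.val h
  have hWel' := elemAb_map_subtype Cb W hWel
  have hWel'' := elemAb_subgroupOf
    (Subgroup.centralizer ({b} : Set G) ⊓ Subgroup.centralizer ((D.map Cb.subtype : Subgroup G) : Set G))
    (W.map Cb.subtype) hWel'
  have hfin := hPR' _ hWel''.1 hWel''.2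
  rw [card_subgroupOf_of_le hWle, Subgroup.card_subtype, ← hk] at hfin
  omega

end Cfsg.Agent.Lib.Helper4.CMX
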