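import Mathlib
import Cfsg.Agent.Lib.Helper4.CMXFINpre
import Cfsg.Agent.Lib.Helper1.CMXT2
import Cfsg.Agent.Lib.Helper1.CMXT3
import Cfsg.Agent.Lib.Helper3.CMXRK
import Cfsg.Agent.Lib.Helper7.CMXT1
import Cfsg.Agent.Lib.Helper9.CMXCORE

/-! Farm CMX (S1305), unit FIN: S1305 with `L_{2'}`-balance as a hypothesis. -/

set_option autoImplicit false

namespace Cfsg.Agent.Lib.Helper4.CMX

open Cfsg

universe u

variable {G : Type u} [Group G]

theorem FIN [Finite G]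
    (hLB : ∀ (Y : Type u) [Group Y] [Finite Y] (T : Subgroup Y), IsPGroup 2 ↥T →
      (pLayer 2 ↥(Subgroup.centralizer (T : Set Y))).map
        (Subgroup.centralizer (T : Set Y)).subtype ≤ pLayer 2 Y)
    (hO : oddCore G = ⊥) (hB : HasBProperty G) (a : G) (ha : orderOf a = 2) (K : Subgroup G)
    (hKa : K ≤ Subgroup.centralizer ({a} : Set G))
    (hK : IsComponent (K.subgroupOf (Subgroup.centralizer ({a} : Set G))))
    (hmax : ∀ y : G, orderOf y = 2 → ∀ K' : Subgroup G, K' ≤ Subgroup.centralizer ({y} : Set G) →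
      IsComponent (K'.subgroupOf (Subgroup.centralizer ({y} : Set G))) →
      Nat.card ↥K' ≤ Nat.card ↥K ∧ (Nat.card ↥K' = Nat.card ↥K → ∀ k : ℕ,
        PRankLE 2 k ↥(Subgroup.centralizer ({a} : Set G) ⊓ Subgroup.centralizer (K : Set G)) →
        PRankLE 2 k ↥(Subgroup.centralizer ({y} : Set G) ⊓ Subgroup.centralizer (K' : Set G))))
    (hrk : ¬ PRankLE 2 1 ↥K) (B : Subgroup G)
    (hBle : B ≤ Subgroup.centralizer ({a} : Set G) ⊓ Subgroup.centralizer (K : Set G))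
    (hBel : IsElementaryAbelian 2 B)
    (hBmax : ∀ B' : Subgroup G,
      B' ≤ Subgroup.centralizer ({a} : Set G) ⊓ Subgroup.centralizer (K : Set G) →
      IsElementaryAbelian 2 B' → Nat.card ↥B' ≤ Nat.card ↥B)
    (b : G) (hb : b ∈ B) (hb1 : b ≠ 1) :
    K ≤ Subgroup.centralizer ({b} : Set G) ∧
      IsComponent (K.subgroupOf (Subgroup.centralizer ({b} : Set G))) :=
  FIN_of (@Cfsg.Agent.Lib.Helper7.CMX.T1 G _ _) (@Cfsg.Agent.Lib.Helper1.CMX.T2 G _ _)
    (@Cfsg.Agent.Lib.Helper1.CMX.T3 G _) (@Cfsg.Agent.Lib.Helper9.CMX.CORE)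
    (@Cfsg.Agent.Lib.Helper3.CMX.RK)
    hLB hO hB a ha K hKa hK hmax hrk B hBle hBel hBmax b hb hb1

end Cfsg.Agent.Lib.Helper4.CMX
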