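import Mathlib
import Cfsg.Agent.Lib.Helper4.CentProd1
import Cfsg.Agent.Lib.Helper4.SL2Ord4
import Cfsg.Agent.Lib.Helper4.SL2Cov3
import Cfsg.Agent.Lib.Helper4.SLCard
import Cfsg.Agent.Lib.Helper1.FactorizationSylow

set_option autoImplicit false

namespace Cfsg.Agent.Lib.Helper4.CentProd

open Matrix Cfsg.Agent.Lib.Helper4 Cfsg.Agent.Lib.Helper4.SL2Ord Cfsg.Agent.Lib.Helper4.SL2Tr
  Cfsg.Agent.Lib.Helper4.SL2Cov

section sl2

variable {F : Type*} [Field F] [Fintype F]

local notation "SL2" => Matrix.SpecialLinearGroup (Fin 2) F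

/-- upper transvection -/
def tU (F : Type*) [Field F] : Matrix.SpecialLinearGroup (Fin 2) F :=
  ⟨!![1, 1; 0, 1], by simp [Matrix.det_fin_two]⟩

/-- lower transvection -/
def tL (F : Type*) [Field F] : Matrix.SpecialLinearGroup (Fin 2) F :=
  ⟨!![1, 0; 1, 1], by simp [Matrix.det_fin_two]⟩

theorem negOne_coe' : ((negOneSL F : SL2) : Matrix (Fin 2) (Fin 2) F) = !![-1, 0; 0, -1] := by
  classical
  exact negOneSL_coe

theorem center_cases (hodd : Odd (Fintype.card F)) (s : SL2) (hs : s ∈ Subgroup.center SL2) :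
    s = 1 ∨ s = negOneSL F := by
  classical
  exact eq_one_or_neg_of_sq hodd s ((mem_center_iff_sq hodd s).mp hs)

theorem negOne_comm (s : SL2) : negOneSL F * s = s * negOneSL F :=
  ((Subgroup.mem_center_iff.mp negOneSL_mem_center) s).symm

theorem negOne_sq : negOneSL F * negOneSL F = 1 := by
  classical
  exact negOneSL_mul_self

theorem negOne_ne (hodd : Odd (Fintype.card F)) : negOneSL F ≠ (1 : SL2) := by
  classical
  exact negOneSL_ne_one hodd

theorem tU_coe : ((tU F : SL2) : Matrix (Fin 2) (Fin 2) F) = !![1, 1; 0, 1] := rfl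

theorem tL_coe : ((tL F : SL2) : Matrix (Fin 2) (Fin 2) F) = !![1, 0; 1, 1] := rfl

/-- the centre of `PSL₂` is trivial -/
theorem cent_sl2 (hodd : Odd (Fintype.card F)) (s : SL2)
    (h : ∀ t : SL2, s * t = t * s ∨ s * t = negOneSL F * (t * s)) : s = 1 ∨ s = negOneSL F := by
  classical
  have h2 : (2 : F) ≠ 0 := two_ne_zero_of_odd hodd
  apply center_cases hodd
  have hdet := s.2
  rw [Matrix.det_fin_two] at hdet
  obtain ⟨a, ha⟩ : ∃ a, a = (s : Matrix (Fin 2) (Fin 2) F) 0 0 := ⟨_, rfl⟩
  obtain ⟨b, hb⟩ : ∃ b, b = (s : Matrix (Fin 2) (Fin 2) F) 0 1 := ⟨_, rfl⟩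
  obtain ⟨c, hc⟩ : ∃ c, c = (s : Matrix (Fin 2) (Fin 2) F) 1 0 := ⟨_, rfl⟩
  obtain ⟨d, hd⟩ : ∃ d, d = (s : Matrix (Fin 2) (Fin 2) F) 1 1 := ⟨_, rfl⟩
  have hS : (s : Matrix (Fin 2) (Fin 2) F) = !![a, b; c, d] := by
    rw [ha, hb, hc, hd]
    exact Matrix.eta_fin_two _
  rw [← ha, ← hb, ← hc, ← hd] at hdet
  -- entries
  have hU := h (tU F)
  have hL := h (tL F)
  have key1 : ∀ t : SL2, s * t = t * s →
      !![a, b; c, d] * (t : Matrix (Fin 2) (Fin 2) F) =
        (t : Matrix (Fin 2) (Fin 2) F) * !![a, b; c, d] := by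
    intro t ht
    have := congrArg (fun x : SL2 => (x : Matrix (Fin 2) (Fin 2) F)) ht
    simp only [Matrix.SpecialLinearGroup.coe_mul, hS] at this
    exact this
  have key : ∀ t : SL2, s * t = negOneSL F * (t * s) →
      !![a, b; c, d] * (t : Matrix (Fin 2) (Fin 2) F) =
        -((t : Matrix (Fin 2) (Fin 2) F) * !![a, b; c, d]) := by
    intro t ht
    have := congrArg (fun x : SL2 => (x : Matrix (Fin 2) (Fin 2) F)) ht
    simp only [Matrix.SpecialLinearGroup.coe_mul, hS] at this
    rw [this, negOne_coe', ← Matrix.mul_assoc]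
    have e : (!![-1, 0; 0, -1] : Matrix (Fin 2) (Fin 2) F) = -1 := by
      ext i j
      fin_cases i <;> fin_cases j <;> simp
    rw [e, neg_one_mul, Matrix.neg_mul]
  have hc0 : c = 0 ∧ a = d := by
    rcases hU with hU | hU
    · have := key1 _ hU
      rw [tU_coe, Matrix.mul_fin_two, Matrix.mul_fin_two] at this
      have e00 := congrFun (congrFun this 0) 0
      have e01 := congrFun (congrFun this 0) 1
      simp at e00 e01
      exact ⟨e00, by linear_combination e01⟩
    · have := key _ hU
      rw [tU_coe, Matrix.mul_fin_two, Matrix.mul_fin_two] at this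
      have e00 := congrFun (congrFun this 0) 0
      have e10 := congrFun (congrFun this 1) 0
      simp at e00 e10
      exfalso
      have hc' : c = 0 := by
        have : (2 : F) * c = 0 := by linear_combination e10
        rcases mul_eq_zero.mp this with h' | h'
        · exact absurd h' h2
        · exact h'
      have ha' : a = 0 := by
        have : (2 : F) * a = 0 := by linear_combination e00 - hc'
        rcases mul_eq_zero.mp this with h' | h'
        · exact absurd h' h2
        · exact h'
      rw [ha', hc'] at hdet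
      simp at hdet
  have hb0 : b = 0 := by
    rcases hL with hL | hL
    · have := key1 _ hL
      rw [tL_coe, Matrix.mul_fin_two, Matrix.mul_fin_two] at this
      have e11 := congrFun (congrFun this 1) 1
      simp at e11
      exact e11
    · have := key _ hL
      rw [tL_coe, Matrix.mul_fin_two, Matrix.mul_fin_two] at this
      have e01 := congrFun (congrFun this 0) 1
      simp at e01
      have : (2 : F) * b = 0 := by linear_combination e01
      rcases mul_eq_zero.mp this with h' | h'
      · exact absurd h' h2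
      · exact h'
  rw [Matrix.SpecialLinearGroup.mem_center_iff]
  refine ⟨a, ?_, ?_⟩
  · rw [Fintype.card_fin]
    rw [hc0.1, hb0, ← hc0.2] at hdet
    linear_combination hdet
  · rw [hS]
    ext i j
    fin_cases i <;> fin_cases j <;> simp [hc0.1, hb0, ← hc0.2]

theorem big_sl2 (hodd : Odd (Fintype.card F)) : tU F ≠ 1 ∧ tU F ≠ negOneSL F := by
  constructor
  · intro h
    have := congrArg (fun x : SL2 => (x : Matrix (Fin 2) (Fin 2) F) 0 1) h
    simp [tU] at this
  · intro h
    have := congrArg (fun x : SL2 => (x : Matrix (Fin 2) (Fin 2) F) 0 1) h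
    simp only [negOne_coe'] at this
    simp [tU] at this

/-- a commuting factorisation of `SL₂(q)` over the centre, the smaller factor having at most six
elements -/
theorem indec_small (hodd : Odd (Fintype.card F)) (X Y : Subgroup SL2)
    (hc : ∀ x ∈ X, ∀ y ∈ Y, x * y = y * x) (hXY : ∀ l : SL2, ∃ x ∈ X, ∃ y ∈ Y, l = x * y)
    (hz : negOneSL F ∈ X) (hcard : Nat.card X ≤ 6) : ∀ x ∈ X, x = 1 ∨ x = negOneSL F := by
  classical
  -- X is abelian
  let zX : X := ⟨negOneSL F, hz⟩
  have hzc : ∀ g : X, g * zX = zX * g := fun g => Subtype.ext (negOne_comm (g : SL2)).symm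
  let N : Subgroup X := Subgroup.zpowers zX
  have hNle : N ≤ Subgroup.center X := by
    rw [Subgroup.zpowers_le, Subgroup.mem_center_iff]
    exact hzc
  haveI hNn : N.Normal := by
    constructor
    intro n hn g
    have := Subgroup.mem_center_iff.mp (hNle hn) g
    rw [this, mul_inv_cancel_right]
    exact hn
  have hNcard : Nat.card N = 2 := by
    rw [Nat.card_zpowers]
    apply orderOf_eq_prime
    · rw [pow_two]; exact Subtype.ext negOne_sq
    · intro h
      exact negOne_ne hodd (congrArg Subtype.val h)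
  have hq := Subgroup.card_eq_card_quotient_mul_card_subgroup N
  rw [hNcard] at hq
  have hqpos : 0 < Nat.card (X ⧸ N) := Nat.card_pos
  haveI : IsCyclic (X ⧸ N) := by
    have hle : Nat.card (X ⧸ N) ≤ 3 := by omega
    interval_cases hk : Nat.card (X ⧸ N)
    · haveI : Subsingleton (X ⧸ N) := (Nat.card_eq_one_iff_unique.mp hk).1
      exact isCyclic_of_subsingleton
    · haveI : Fact (Nat.Prime 2) := ⟨Nat.prime_two⟩
      exact isCyclic_of_prime_card hk
    · haveI : Fact (Nat.Prime 3) := ⟨Nat.prime_three⟩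
      exact isCyclic_of_prime_card hk
  have hab : ∀ a b : X, a * b = b * a := fun a b =>
    ((QuotientGroup.mk' N).isMulCommutative_of_isCyclic_of_ker_le_center
      (by rw [QuotientGroup.ker_mk']; exact hNle)).is_comm.comm a b
  intro x hx
  apply cent_sl2 hodd
  intro t
  obtain ⟨x₁, hx₁, y₁, hy₁, rfl⟩ := hXY t
  left
  have e1 : x * x₁ = x₁ * x := congrArg Subtype.val (hab ⟨x, hx⟩ ⟨x₁, hx₁⟩)
  calc x * (x₁ * y₁) = (x * x₁) * y₁ := by group
    _ = x₁ * (x * y₁) := by rw [e1]; group
    _ = x₁ * (y₁ * x) := by rw [hc x hx y₁ hy₁]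
    _ = x₁ * y₁ * x := by group

theorem indec_sl2 (hodd : Odd (Fintype.card F)) (X Y : Subgroup SL2)
    (hc : ∀ x ∈ X, ∀ y ∈ Y, x * y = y * x) (hXY : ∀ l : SL2, ∃ x ∈ X, ∃ y ∈ Y, l = x * y)
    (hi : ∀ w, w ∈ X → w ∈ Y → w = 1 ∨ w = negOneSL F) (hzX : negOneSL F ∈ X)
    (hzY : negOneSL F ∈ Y) :
    (∀ x ∈ X, x = 1 ∨ x = negOneSL F) ∨ (∀ y ∈ Y, y = 1 ∨ y = negOneSL F) := by
  classical
  have hq3 : 3 ≤ Fintype.card F := by
    have h2 : 2 ≤ Fintype.card F := Fintype.one_lt_card
    rcases hodd with ⟨k, hk⟩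
    omega
  rcases Nat.lt_or_ge 3 (Fintype.card F) with hq | hq
  · -- simple quotient
    haveI hsimple : IsSimpleGroup (Matrix.ProjectiveSpecialLinearGroup (Fin 2) F) :=
      Matrix.ProjectiveSpecialLinearGroup.rank_two_simple (by
        rw [Nat.card_eq_fintype_card]; omega)
    have hXn : X.Normal := by
      constructor
      intro n hn g
      obtain ⟨x, hx, y, hy, rfl⟩ := hXY g
      have e : x * y * n * (x * y)⁻¹ = x * n * x⁻¹ := by
        have : y * n = n * y := (hc n hn y hy).symm
        calc x * y * n * (x * y)⁻¹ = x * (y * n) * y⁻¹ * x⁻¹ := by group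
          _ = x * (n * y) * y⁻¹ * x⁻¹ := by rw [this]
          _ = x * n * x⁻¹ := by group
      rw [e]
      exact X.mul_mem (X.mul_mem hx hn) (X.inv_mem hx)
    have hmapn : (X.map (QuotientGroup.mk' (Subgroup.center SL2))).Normal :=
      hXn.map _ (QuotientGroup.mk'_surjective _)
    rcases hmapn.eq_bot_or_eq_top with hb | ht
    · left
      intro x hx
      apply center_cases hodd
      have : (QuotientGroup.mk' (Subgroup.center SL2)) x ∈ X.map (QuotientGroup.mk' (Subgroup.center SL2)) :=
        Subgroup.mem_map_of_mem _ hx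
      rw [hb, Subgroup.mem_bot] at this
      exact (QuotientGroup.eq_one_iff x).mp this
    · right
      have h1 : X ⊔ Subgroup.center SL2 = ⊤ := by
        have := Subgroup.comap_map_eq (QuotientGroup.mk' (Subgroup.center SL2)) X
        rw [ht, Subgroup.comap_top, QuotientGroup.ker_mk'] at this
        exact this.symm
      have h2 : Subgroup.center SL2 ≤ X := by
        intro s hs
        rcases center_cases hodd s hs with rfl | rfl
        · exact X.one_mem
        · exact hzX
      rw [sup_eq_left.mpr h2] at h1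
      intro y hy
      exact hi y (by rw [h1]; exact Subgroup.mem_top y) hy
  · -- q = 3
    have hq' : Fintype.card F = 3 := le_antisymm hq hq3
    have hcard : Nat.card SL2 = 24 := by rw [card_SL2, hq']; norm_num
    have hinf : Nat.card (X ⊓ Y : Subgroup SL2) = 2 := by
      have : (X ⊓ Y : Subgroup SL2) = Subgroup.zpowers (negOneSL F) := by
        apply le_antisymm
        · intro w hw
          rcases hi w hw.1 hw.2 with rfl | rfl
          · exact Subgroup.one_mem _
          · exact Subgroup.mem_zpowers _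
        · rw [Subgroup.zpowers_le]
          exact ⟨hzX, hzY⟩
      rw [this, Nat.card_zpowers]
      apply orderOf_eq_prime
      · rw [pow_two]; exact negOne_sq
      · exact negOne_ne hodd
    have hprod := Cfsg.Agent.Lib.Helper1.card_mul_card_inf_eq_of_mul_eq X Y hXY
    rw [hcard, hinf] at hprod
    rcases Nat.lt_or_ge 6 (Nat.card X) with hX | hX
    · right
      apply indec_small hodd Y X (fun y hy x hx => (hc x hx y hy).symm) _ hzY
      · by_contra hY
        push Not at hY
        have : 7 * 7 ≤ Nat.card X * Nat.card Y := Nat.mul_le_mul hX hY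
        omega
      · intro l
        obtain ⟨x, hx, y, hy, rfl⟩ := hXY l
        exact ⟨y, hy, x, hx, hc x hx y hy⟩
    · left
      exact indec_small hodd X Y hc hXY hzX hX

end sl2

section transport

variable {G : Type*} [Group G] {F : Type*} [Field F] [Fintype F]

theorem slike_of_hom (hodd : Odd (Fintype.card F))
    (ψ : Matrix.SpecialLinearGroup (Fin 2) F →* G) (hψ : Function.Injective ψ) :
    SLikeSub ψ.range (ψ (negOneSL F)) := by
  refine ⟨⟨_, rfl⟩, ?_, ?_, ?_, ?_⟩
  · rintro _ ⟨s, rfl⟩
    rw [← map_mul, ← map_mul, negOne_comm]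
  · rintro _ ⟨s, rfl⟩ h
    have : s = 1 ∨ s = negOneSL F := by
      apply cent_sl2 hodd
      intro t
      rcases h (ψ t) ⟨t, rfl⟩ with h' | h'
      · left
        apply hψ
        rw [map_mul, map_mul, h']
      · right
        apply hψ
        rw [map_mul, map_mul, map_mul, h']
    rcases this with rfl | rfl
    · left; exact map_one ψ
    · right; rfl
  · intro X Y hX hY hc hXY hi hjX hjY
    have hres := indec_sl2 hodd (X.comap ψ) (Y.comap ψ)
      (fun x hx y hy => by
        apply hψ
        rw [map_mul, map_mul]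
        exact hc _ hx _ hy)
      (fun l => by
        obtain ⟨x, hx, y, hy, hl⟩ := hXY (ψ l) ⟨l, rfl⟩
        obtain ⟨x', rfl⟩ := hX hx
        obtain ⟨y', rfl⟩ := hY hy
        refine ⟨x', hx, y', hy, ?_⟩
        apply hψ
        rw [hl, map_mul])
      (fun w hw1 hw2 => by
        rcases hi (ψ w) hw1 hw2 with h | h
        · left
          apply hψ
          rw [h, map_one]
        · right
          exact hψ h)
      hjX hjY
    rcases hres with h | h
    · left
      intro x hx
      obtain ⟨x', rfl⟩ := hX hx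
      rcases h x' hx with rfl | rfl
      · left; exact map_one ψ
      · right; rfl
    · right
      intro y hy
      obtain ⟨y', rfl⟩ := hY hy
      rcases h y' hy with rfl | rfl
      · left; exact map_one ψ
      · right; rfl
  · refine ⟨ψ (tU F), ⟨_, rfl⟩, ?_, ?_⟩
    · intro h
      rw [← map_one ψ] at h
      exact (big_sl2 hodd).1 (hψ h)
    · intro h
      exact (big_sl2 hodd).2 (hψ h)

end transport

end Cfsg.Agent.Lib.Helper4.CentProd
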