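import Mathlib
import Cfsg.Agent.Lib.Helper4.CentProd2

set_option autoImplicit false

namespace Cfsg.Agent.Lib.Helper4.CentProd

open Matrix Cfsg.Agent.Lib.Helper4 Cfsg.Agent.Lib.Helper4.SL2Ord Cfsg.Agent.Lib.Helper4.SL2Tr

section main

variable {G : Type*} [Group G]

theorem mem_map_conj_iff (L : Subgroup G) (n y : G) :
    y ∈ L.map (MulAut.conj n).toMonoidHom ↔ n⁻¹ * y * n ∈ L := by
  rw [Subgroup.mem_map]
  constructor
  · rintro ⟨x, hx, rfl⟩
    simp only [MulEquiv.coe_toMonoidHom, MulAut.conj_apply]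
    have : n⁻¹ * (n * x * n⁻¹) * n = x := by group
    rw [this]; exact hx
  · intro h
    refine ⟨_, h, ?_⟩
    simp only [MulEquiv.coe_toMonoidHom, MulAut.conj_apply]
    group

/-- an embedded `SL₂(q)` with given central involution -/
theorem slike_of_equiv {F : Type*} [Field F] [Fintype F] (hodd : Odd (Fintype.card F))
    (L : Subgroup G) (e : ↥L ≃* Matrix.SpecialLinearGroup (Fin 2) F) (j : G) (hjL : j ∈ L)
    (hj2 : j * j = 1) (hj1 : j ≠ 1) (n : G) (hn : n * j * n⁻¹ = j) :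
    SLikeSub (L.map (MulAut.conj n).toMonoidHom) j := by
  classical
  let ψ : Matrix.SpecialLinearGroup (Fin 2) F →* G :=
    ((MulAut.conj n).toMonoidHom.comp L.subtype).comp e.symm.toMonoidHom
  have hψinj : Function.Injective ψ := by
    intro a b hab
    simp only [ψ, MonoidHom.coe_comp, Function.comp_apply, MulEquiv.coe_toMonoidHom] at hab
    exact e.symm.injective (Subtype.ext ((MulAut.conj n).injective hab))
  have hrange : ψ.range = L.map (MulAut.conj n).toMonoidHom := by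
    ext y
    constructor
    · rintro ⟨s, rfl⟩
      exact Subgroup.mem_map_of_mem _ (e.symm s).2
    · rintro ⟨x, hx, rfl⟩
      refine ⟨e ⟨x, hx⟩, ?_⟩
      simp [ψ]
  have hj : ψ (negOneSL F) = j := by
    have h1 : e ⟨j, hjL⟩ = negOneSL F := by
      have hsq : (e ⟨j, hjL⟩) ^ 2 = 1 := by
        rw [← map_pow, pow_two]
        have : (⟨j, hjL⟩ : L) * ⟨j, hjL⟩ = 1 := Subtype.ext hj2
        rw [this, map_one]
      rcases eq_one_or_neg_of_sq hodd _ hsq with h | h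
      · exfalso
        apply hj1
        have := e.injective (h.trans (map_one e).symm)
        exact congrArg Subtype.val this
      · exact h
    have h2 : e.symm (negOneSL F) = ⟨j, hjL⟩ := by rw [← h1, e.symm_apply_apply]
    simp only [ψ, MonoidHom.coe_comp, Function.comp_apply, MulEquiv.coe_toMonoidHom, h2,
      Subgroup.coe_subtype, MulAut.conj_apply]
    exact hn
  have := slike_of_hom hodd ψ hψinj
  rwa [hrange, hj] at this

theorem map_conj_one (L : Subgroup G) : L.map (MulAut.conj (1 : G)).toMonoidHom = L := by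
  ext y
  rw [mem_map_conj_iff]
  simp

theorem card_inj {q₁ q₂ : ℕ} (h1 : 3 ≤ q₁) (h2 : 3 ≤ q₂)
    (h : q₁ * (q₁ ^ 2 - 1) = q₂ * (q₂ ^ 2 - 1)) : q₁ = q₂ := by
  have mono : ∀ a b : ℕ, 3 ≤ a → a < b → a * (a ^ 2 - 1) < b * (b ^ 2 - 1) := by
    intro a b ha hab
    have h3 : a ^ 2 - 1 ≤ b ^ 2 - 1 := by
      have : a ^ 2 ≤ b ^ 2 := Nat.pow_le_pow_left hab.le 2
      omega
    have h4 : 0 < a ^ 2 - 1 := by
      have : 9 ≤ a ^ 2 := by nlinarith
      omega
    calc a * (a ^ 2 - 1) < b * (a ^ 2 - 1) := Nat.mul_lt_mul_of_pos_right hab h4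
      _ ≤ b * (b ^ 2 - 1) := Nat.mul_le_mul_left _ h3
  rcases lt_trichotomy q₁ q₂ with hlt | heq | hgt
  · exact absurd h (mono q₁ q₂ h1 hlt).ne
  · exact heq
  · exact absurd h.symm (mono q₂ q₁ h2 hgt).ne

theorem main [Finite G]
    {F₁ : Type*} [Field F₁] [Fintype F₁] {F₂ : Type*} [Field F₂] [Fintype F₂]
    (hF₁ : Odd (Fintype.card F₁)) (hF₂ : Odd (Fintype.card F₂)) (L₁ L₂ : Subgroup G)
    (e₁ : ↥L₁ ≃* Matrix.SpecialLinearGroup (Fin 2) F₁) (e₂ : ↥L₂ ≃* Matrix.SpecialLinearGroup (Fin 2) F₂)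
    (hc : ∀ x ∈ L₁, ∀ y ∈ L₂, x * y = y * x) (j : G) (hj : orderOf j = 2)
    (hm : L₁ ⊓ L₂ = Subgroup.zpowers j)
    (hle : L₁ ⊔ L₂ ≤ Subgroup.centralizer ({j} : Set G))
    (hi : (L₁ ⊔ L₂).relIndex (Subgroup.centralizer ({j} : Set G)) = 2) (n : G)
    (hn : n ∈ Subgroup.centralizer ({j} : Set G)) (hn' : n ∉ L₁ ⊔ L₂) :
    (L₁.map (MulAut.conj n).toMonoidHom = L₁ ∧ L₂.map (MulAut.conj n).toMonoidHom = L₂) ∨
      (L₁.map (MulAut.conj n).toMonoidHom = L₂ ∧ Fintype.card F₁ = Fintype.card F₂ ∧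
        ∃ n' ∈ Subgroup.centralizer ({j} : Set G), n' ∉ L₁ ⊔ L₂ ∧
          L₁.map (MulAut.conj n').toMonoidHom = L₂ ∧ n' ^ 2 ∈ Subgroup.zpowers j) := by
  classical
  have hj2 : j * j = 1 := by rw [← pow_two, ← hj]; exact pow_orderOf_eq_one j
  have hj1 : j ≠ 1 := by
    intro h
    rw [h, orderOf_one] at hj
    omega
  have hjmem : j ∈ L₁ ⊓ L₂ := by rw [hm]; exact Subgroup.mem_zpowers j
  have hjn : n * j * n⁻¹ = j := by
    rw [Subgroup.mem_centralizer_iff] at hn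
    have := hn j (Set.mem_singleton j)
    rw [← this, mul_inv_cancel_right]
  have hzp : ∀ z ∈ Subgroup.zpowers j, z = 1 ∨ z = j := by
    intro z hz
    rw [Subgroup.mem_zpowers_iff] at hz
    obtain ⟨k, rfl⟩ := hz
    rcases Int.emod_two_eq_zero_or_one k with h | h
    · left
      have : k = 2 * (k / 2) := by omega
      rw [this, _root_.zpow_mul, zpow_ofNat, pow_two, hj2, _root_.one_zpow]
    · right
      have : k = 2 * (k / 2) + 1 := by omega
      rw [this, _root_.zpow_add, _root_.zpow_mul, zpow_ofNat, pow_two, hj2, _root_.one_zpow, one_mul, zpow_one]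
  have hiL : ∀ z, z ∈ L₁ → z ∈ L₂ → z = 1 ∨ z = j := by
    intro z h1 h2
    apply hzp
    rw [← hm]
    exact ⟨h1, h2⟩
  -- the four subgroups
  set M₁ := L₁.map (MulAut.conj n).toMonoidHom with hM₁
  set M₂ := L₂.map (MulAut.conj n).toMonoidHom with hM₂
  have hL1 : SLikeSub L₁ j := by
    have := slike_of_equiv hF₁ L₁ e₁ j hjmem.1 hj2 hj1 1 (by simp)
    rwa [map_conj_one] at this
  have hL2 : SLikeSub L₂ j := by
    have := slike_of_equiv hF₂ L₂ e₂ j hjmem.2 hj2 hj1 1 (by simp)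
    rwa [map_conj_one] at this
  have hM1 : SLikeSub M₁ j := slike_of_equiv hF₁ L₁ e₁ j hjmem.1 hj2 hj1 n hjn
  have hM2 : SLikeSub M₂ j := slike_of_equiv hF₂ L₂ e₂ j hjmem.2 hj2 hj1 n hjn
  have hcM : ∀ x ∈ M₁, ∀ y ∈ M₂, x * y = y * x := by
    intro x hx y hy
    rw [hM₁, mem_map_conj_iff] at hx
    rw [hM₂, mem_map_conj_iff] at hy
    have := hc _ hx _ hy
    have e1 : x * y = n * ((n⁻¹ * x * n) * (n⁻¹ * y * n)) * n⁻¹ := by group
    have e2 : y * x = n * ((n⁻¹ * y * n) * (n⁻¹ * x * n)) * n⁻¹ := by group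
    rw [e1, e2, this]
  have hiM : ∀ z, z ∈ M₁ → z ∈ M₂ → z = 1 ∨ z = j := by
    intro z h1 h2
    rw [hM₁, mem_map_conj_iff] at h1
    rw [hM₂, mem_map_conj_iff] at h2
    rcases hiL _ h1 h2 with h | h
    · left
      have : z = n * (n⁻¹ * z * n) * n⁻¹ := by group
      rw [this, h]; group
    · right
      have : z = n * (n⁻¹ * z * n) * n⁻¹ := by group
      rw [this, h]; exact hjn
  -- K is normalised by n
  set K := L₁ ⊔ L₂ with hKdef
  set C := Subgroup.centralizer ({j} : Set G) with hCdef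
  have hidx : (K.subgroupOf C).index = 2 := hi
  haveI hKn : (K.subgroupOf C).Normal := Subgroup.normal_of_index_eq_two hidx
  have hconjK : ∀ c ∈ C, ∀ k ∈ K, c * k * c⁻¹ ∈ K := by
    intro c hc' k hk
    have := hKn.conj_mem ⟨k, hle hk⟩ (Subgroup.mem_subgroupOf.mpr hk) ⟨c, hc'⟩
    rw [Subgroup.mem_subgroupOf] at this
    exact this
  have hKmap : K.map (MulAut.conj n).toMonoidHom = K := by
    ext y
    rw [mem_map_conj_iff]
    constructor
    · intro h
      have := hconjK n hn _ h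
      have e : n * (n⁻¹ * y * n) * n⁻¹ = y := by group
      rwa [e] at this
    · intro h
      have := hconjK n⁻¹ (C.inv_mem hn) _ h
      rwa [inv_inv] at this
  have hK : L₁ ⊔ L₂ = M₁ ⊔ M₂ := by
    rw [hM₁, hM₂, ← Subgroup.map_sup, hKmap]
  rcases swap_or_fix hL1 hL2 hM1 hM2 hc hcM hiL hiM hK with ⟨h1, h2⟩ | ⟨h1, h2⟩
  · left
    exact ⟨h1, h2⟩
  · right
    refine ⟨h1, ?_, ?_⟩
    · -- cardinalities
      have c1 : Nat.card L₁ = Nat.card M₁ :=
        (Subgroup.card_map_of_injective (MulAut.conj n).injective).symm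
      rw [h1] at c1
      have c2 : Nat.card L₁ = Fintype.card F₁ * (Fintype.card F₁ ^ 2 - 1) := by
        rw [Nat.card_congr e₁.toEquiv, card_SL2]
      have c3 : Nat.card L₂ = Fintype.card F₂ * (Fintype.card F₂ ^ 2 - 1) := by
        rw [Nat.card_congr e₂.toEquiv, card_SL2]
      have q1 : 3 ≤ Fintype.card F₁ := by
        have h2 : 2 ≤ Fintype.card F₁ := Fintype.one_lt_card
        rcases hF₁ with ⟨k, hk⟩
        omega
      have q2 : 3 ≤ Fintype.card F₂ := by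
        have h2 : 2 ≤ Fintype.card F₂ := Fintype.one_lt_card
        rcases hF₂ with ⟨k, hk⟩
        omega
      exact card_inj q1 q2 (by rw [← c2, ← c3, c1])
    · -- the element n'
      have hnsq : n ^ 2 ∈ K := by
        have := Subgroup.sq_mem_of_index_two hidx ⟨n, hn⟩
        rw [Subgroup.mem_subgroupOf] at this
        exact this
      obtain ⟨a, ha, b, hb, hab⟩ := exists_mul_of_mem_sup L₁ L₂ hc hnsq
      -- σ(x) = n⁻¹ x n
      have hσ1 : ∀ x ∈ L₁, n⁻¹ * x * n ∈ L₂ := by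
        intro x hx
        have : x ∈ M₂ := by rw [h2]; exact hx
        rwa [hM₂, mem_map_conj_iff] at this
      have hσ2 : ∀ x ∈ L₂, n⁻¹ * x * n ∈ L₁ := by
        intro x hx
        have : x ∈ M₁ := by rw [h1]; exact hx
        rwa [hM₁, mem_map_conj_iff] at this
      have hcomm : n⁻¹ * (a * b) * n = a * b := by
        rw [← hab]; group
      have hsplit : (n⁻¹ * b * n) * (n⁻¹ * a * n) = a * b := by
        rw [hc _ (hσ2 b hb) _ (hσ1 a ha), ← hcomm]; group
      -- z = b σ(a)⁻¹ = a⁻¹ σ(b)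
      have hz : b * (n⁻¹ * a * n)⁻¹ = a⁻¹ * (n⁻¹ * b * n) := by
        have : a⁻¹ * ((n⁻¹ * b * n) * (n⁻¹ * a * n)) * (n⁻¹ * a * n)⁻¹ =
            a⁻¹ * (a * b) * (n⁻¹ * a * n)⁻¹ := by rw [hsplit]
        calc b * (n⁻¹ * a * n)⁻¹ = a⁻¹ * (a * b) * (n⁻¹ * a * n)⁻¹ := by group
          _ = a⁻¹ * ((n⁻¹ * b * n) * (n⁻¹ * a * n)) * (n⁻¹ * a * n)⁻¹ := this.symm
          _ = a⁻¹ * (n⁻¹ * b * n) := by group
      have hz2 : b * (n⁻¹ * a * n)⁻¹ ∈ L₂ := L₂.mul_mem hb (L₂.inv_mem (hσ1 a ha))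
      have hz1 : b * (n⁻¹ * a * n)⁻¹ ∈ L₁ := by
        rw [hz]; exact L₁.mul_mem (L₁.inv_mem ha) (hσ2 b hb)
      have hzj : b * (n⁻¹ * a * n)⁻¹ ∈ Subgroup.zpowers j := by
        rw [← hm]; exact ⟨hz1, hz2⟩
      have haK : a⁻¹ ∈ K := Subgroup.mem_sup_left (L₁.inv_mem ha)
      refine ⟨n * a⁻¹, C.mul_mem hn (hle haK), ?_, ?_, ?_⟩
      · intro h
        apply hn'
        have := K.mul_mem h (K.inv_mem haK)
        rwa [mul_inv_cancel_right] at this
      · ext y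
        rw [mem_map_conj_iff, ← h1, hM₁, mem_map_conj_iff]
        have e : (n * a⁻¹)⁻¹ * y * (n * a⁻¹) = a * (n⁻¹ * y * n) * a⁻¹ := by group
        rw [e]
        constructor
        · intro h
          have := L₁.mul_mem (L₁.mul_mem (L₁.inv_mem ha) h) ha
          have e2 : a⁻¹ * (a * (n⁻¹ * y * n) * a⁻¹) * a = n⁻¹ * y * n := by group
          rwa [e2] at this
        · intro h
          exact L₁.mul_mem (L₁.mul_mem ha h) (L₁.inv_mem ha)
      · have e : (n * a⁻¹) ^ 2 = a * (b * (n⁻¹ * a * n)⁻¹) * a⁻¹ := by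
          calc (n * a⁻¹) ^ 2 = n ^ 2 * (n⁻¹ * a * n)⁻¹ * a⁻¹ := by rw [pow_two, pow_two]; group
            _ = a * b * (n⁻¹ * a * n)⁻¹ * a⁻¹ := by rw [hab]
            _ = _ := by group
        rw [e, hc a ha _ hz2, mul_inv_cancel_right]
        exact hzj

end main

end Cfsg.Agent.Lib.Helper4.CentProd
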