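import Mathlib

/-! Commuting graph of `PSL(3,3)` (helper4, for S3412), part A: natural-number encoded
`3 × 3` matrices over `ZMod 3` and kernel scans over all `3 ^ 9` of them. -/

set_option autoImplicit false

namespace Cfsg.Agent.Lib.Helper4.Cg33

abbrev M3 := Matrix (Fin 3) (Fin 3) (ZMod 3)

abbrev SL3 := Matrix.SpecialLinearGroup (Fin 3) (ZMod 3)

/-- a matrix of naturals, indexed by naturals -/
abbrev NMat := ℕ → ℕ → ℕ

def natMul (A B : NMat) : NMat := fun i j => A i 0 * B 0 j + A i 1 * B 1 j + A i 2 * B 2 j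

def rowEq (A B : NMat) (i : ℕ) : Bool :=
  (A i 0 % 3 == B i 0 % 3) && (A i 1 % 3 == B i 1 % 3) && (A i 2 % 3 == B i 2 % 3)

def eqMod (A B : NMat) : Bool := rowEq A B 0 && rowEq A B 1 && rowEq A B 2

def detPos (A : NMat) : ℕ :=
  A 0 0 * A 1 1 * A 2 2 + A 0 1 * A 1 2 * A 2 0 + A 0 2 * A 1 0 * A 2 1

def detNeg (A : NMat) : ℕ :=
  A 0 0 * A 1 2 * A 2 1 + A 0 1 * A 1 0 * A 2 2 + A 0 2 * A 1 1 * A 2 0

def isSL (A : NMat) : Bool := detPos A % 3 == (detNeg A + 1) % 3

def toM (A : NMat) : M3 := Matrix.of fun i j => ((A i.val j.val : ℕ) : ZMod 3)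

theorem toM_apply (A : NMat) (i j : Fin 3) : toM A i j = ((A i.val j.val : ℕ) : ZMod 3) := rfl

theorem toM_mul (A B : NMat) : toM (natMul A B) = toM A * toM B := by
  ext i j
  rw [Matrix.mul_apply, Fin.sum_univ_three]
  simp only [toM_apply, natMul]
  push_cast
  rfl

theorem natCast_eq_iff (a b : ℕ) : ((a : ℕ) : ZMod 3) = ((b : ℕ) : ZMod 3) ↔ (a % 3 == b % 3) = true := by
  rw [ZMod.natCast_eq_natCast_iff', beq_iff_eq]

theorem toM_eq_iff (A B : NMat) : toM A = toM B ↔ eqMod A B = true := by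
  constructor
  · intro h
    have h' : ∀ i j : Fin 3, ((A i.val j.val : ℕ) : ZMod 3) = ((B i.val j.val : ℕ) : ZMod 3) := by
      intro i j
      have := congrFun (congrFun h i) j
      simpa only [toM_apply] using this
    simp only [eqMod, rowEq, Bool.and_eq_true, ← natCast_eq_iff]
    exact ⟨⟨⟨⟨h' 0 0, h' 0 1⟩, h' 0 2⟩, ⟨⟨h' 1 0, h' 1 1⟩, h' 1 2⟩⟩, ⟨⟨h' 2 0, h' 2 1⟩, h' 2 2⟩⟩
  · intro h
    simp only [eqMod, rowEq, Bool.and_eq_true, ← natCast_eq_iff] at h
    obtain ⟨⟨⟨⟨h00, h01⟩, h02⟩, ⟨⟨h10, h11⟩, h12⟩⟩, ⟨⟨h20, h21⟩, h22⟩⟩ := h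
    ext i j
    simp only [toM_apply]
    fin_cases i <;> fin_cases j <;> assumption

theorem det_toM_iff (A : NMat) : (toM A).det = 1 ↔ isSL A = true := by
  rw [Matrix.det_fin_three]
  simp only [toM_apply, isSL]
  have h : ((detPos A : ℕ) : ZMod 3) = ((detNeg A + 1 : ℕ) : ZMod 3) ↔
      (detPos A % 3 == (detNeg A + 1) % 3) = true := natCast_eq_iff _ _
  rw [← h]
  simp only [detPos, detNeg]
  push_cast
  simp only [Fin.val_zero, Fin.val_one, Fin.val_two]
  constructor
  · intro h1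
    linear_combination h1
  · intro h1
    linear_combination h1

/-- the matrix with code `n` (base `3` digits) -/
def ofNat (n : ℕ) : NMat := fun i j => n / 3 ^ (3 * i + j) % 3

/-- the code of a matrix -/
def code (A : M3) : ℕ :=
  (A 0 0).val + 3 * (A 0 1).val + 9 * (A 0 2).val + 27 * (A 1 0).val + 81 * (A 1 1).val +
    243 * (A 1 2).val + 729 * (A 2 0).val + 2187 * (A 2 1).val + 6561 * (A 2 2).val

theorem code_lt (A : M3) : code A < 19683 := by
  unfold code
  have h := fun i j => ZMod.val_lt (A i j)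
  have := h 0 0; have := h 0 1; have := h 0 2; have := h 1 0; have := h 1 1; have := h 1 2
  have := h 2 0; have := h 2 1; have := h 2 2
  omega

theorem ofNat_code (A : M3) (i j : Fin 3) : ofNat (code A) i.val j.val = (A i j).val := by
  have h := fun i j => ZMod.val_lt (A i j)
  have := h 0 0; have := h 0 1; have := h 0 2; have := h 1 0; have := h 1 1; have := h 1 2
  have := h 2 0; have := h 2 1; have := h 2 2
  unfold ofNat code
  fin_cases i <;> fin_cases j <;>
    (simp only [Fin.zero_eta, Fin.mk_one, Fin.reduceFinMk, Fin.val_zero, Fin.val_one, Fin.val_two,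
      Fin.isValue, Nat.reducePow, Nat.reduceMul, Nat.reduceAdd, Nat.div_one, pow_zero, mul_zero,
      add_zero, zero_add]
     omega)

theorem toM_ofNat_code (A : M3) : toM (ofNat (code A)) = A := by
  ext i j
  rw [toM_apply, ofNat_code, ZMod.natCast_zmod_val]

end Cfsg.Agent.Lib.Helper4.Cg33
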