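import Mathlib
import Cfsg.Agent.Lib.Helper4.Cg33A
import Cfsg.Agent.Lib.Helper2.Bsw2A

/-! Commuting graph of `PSL(3,3)` (helper4, for S3412), part B: centralizer bounds by scanning,
and the class equation forcing a list of representatives to be complete. -/

set_option autoImplicit false
set_option linter.style.haveILetI false
set_option linter.unusedSectionVars false

namespace Cfsg.Agent.Lib.Helper4.Cg33

def ofList (l : List ℕ) : NMat := fun i j => l.getD (3 * i + j) 0

def commTest (G : NMat) (n : ℕ) : Bool :=
  isSL (ofNat n) && eqMod (natMul (ofNat n) G) (natMul G (ofNat n))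

def cnt (G : NMat) : ℕ := ((List.range 19683).filter (commTest G)).length

/-- the element of `SL(3,3)` with a given natural matrix -/
def mkSL (G : NMat) (hG : isSL G = true) : SL3 := ⟨toM G, (det_toM_iff G).mpr hG⟩

theorem commTest_code (G : NMat) (a : SL3) (h : a.val * toM G = toM G * a.val) :
    commTest G (code a.val) = true := by
  unfold commTest
  rw [Bool.and_eq_true]
  constructor
  · rw [← det_toM_iff, toM_ofNat_code]
    exact a.2
  · rw [← toM_eq_iff, toM_mul, toM_mul, toM_ofNat_code]
    exact h

theorem code_injective : Function.Injective code := by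
  intro A B h
  rw [← toM_ofNat_code A, ← toM_ofNat_code B, h]

theorem card_centralizer_le (G : NMat) (hG : isSL G = true) :
    Nat.card (Subgroup.centralizer ({mkSL G hG} : Set SL3)) ≤ cnt G := by
  classical
  have h1 : ((List.range 19683).filter (commTest G)).toFinset.card ≤ cnt G :=
    List.toFinset_card_le _
  refine le_trans ?_ h1
  rw [← Fintype.card_coe, ← Nat.card_eq_fintype_card]
  refine Nat.card_le_card_of_injective
    (fun a => ⟨code a.1.val, ?_⟩) ?_
  · rw [List.mem_toFinset, List.mem_filter, List.mem_range]
    refine ⟨code_lt _, commTest_code G a.1 ?_⟩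
    have h2 := Subgroup.mem_centralizer_singleton_iff.mp a.2
    have h3 := congrArg Subtype.val h2
    simp only [Matrix.SpecialLinearGroup.coe_mul] at h3
    exact h3
  · intro a b hab
    have h2 : code a.1.val = code b.1.val := congrArg Subtype.val hab
    exact Subtype.ext (Subtype.ext (code_injective h2))

section cover

variable {G : Type*} [Group G] [Finite G]

/-- conjugate elements have centralizers of the same order -/
theorem card_centralizer_conj (g h : G) :
    Nat.card (Subgroup.centralizer ({h * g * h⁻¹} : Set G)) =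
      Nat.card (Subgroup.centralizer ({g} : Set G)) := by
  apply Nat.card_congr
  refine ⟨fun a => ⟨h⁻¹ * a.1 * h, ?_⟩, fun b => ⟨h * b.1 * h⁻¹, ?_⟩, fun a => ?_, fun b => ?_⟩
  · have := Subgroup.mem_centralizer_singleton_iff.mp a.2
    rw [Subgroup.mem_centralizer_singleton_iff]
    calc h⁻¹ * a.1 * h * g = h⁻¹ * (a.1 * (h * g * h⁻¹)) * h := by group
      _ = h⁻¹ * ((h * g * h⁻¹) * a.1) * h := by rw [this]
      _ = g * (h⁻¹ * a.1 * h) := by group
  · have := Subgroup.mem_centralizer_singleton_iff.mp b.2
    rw [Subgroup.mem_centralizer_singleton_iff]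
    calc h * b.1 * h⁻¹ * (h * g * h⁻¹) = h * (b.1 * g) * h⁻¹ := by group
      _ = h * (g * b.1) * h⁻¹ := by rw [this]
      _ = h * g * h⁻¹ * (h * b.1 * h⁻¹) := by group
  · apply Subtype.ext
    simp only
    group
  · apply Subtype.ext
    simp only
    group

/-- representatives with centralizer bounds whose class sizes add up to the group order form a
complete set of representatives, and the bounds are attained -/
theorem class_cover {α : Type*} (inv : G → α)
    (hinv : ∀ g h : G, inv (h * g * h⁻¹) = inv g) {k : ℕ} (r : Fin k → G) (c : Fin k → ℕ)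
    (hr : Function.Injective (fun i => inv (r i)))
    (hle : ∀ i, Nat.card (Subgroup.centralizer ({r i} : Set G)) ≤ c i)
    (hsum : Nat.card G ≤ ∑ i, Nat.card G / c i) :
    (∀ x : G, ∃ i, ∃ h : G, h * r i * h⁻¹ = x) ∧
      ∀ i, Nat.card (Subgroup.centralizer ({r i} : Set G)) = c i := by
  classical
  haveI : Fintype G := Fintype.ofFinite G
  set K : Fin k → Finset G := fun i => Finset.univ.filter (fun x => ∃ h : G, h * r i * h⁻¹ = x)
    with hK
  have hKcard : ∀ i, (K i).card * Nat.card (Subgroup.centralizer ({r i} : Set G)) = Nat.card G := by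
    intro i
    rw [← Cfsg.Agent.Lib.Helper2.Bsw2.card_conj_mul_card_centralizer (r i)]
    congr 1
    rw [Nat.card_eq_fintype_card, Fintype.card_subtype]
  have hCpos : ∀ i, 0 < Nat.card (Subgroup.centralizer ({r i} : Set G)) := fun i => Nat.card_pos
  have hKdiv : ∀ i, (K i).card = Nat.card G / Nat.card (Subgroup.centralizer ({r i} : Set G)) := by
    intro i
    rw [← hKcard i, Nat.mul_div_cancel _ (hCpos i)]
  have hKge : ∀ i, Nat.card G / c i ≤ (K i).card := by
    intro i
    rw [hKdiv i]
    exact Nat.div_le_div_left (hle i) (hCpos i)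
  have hdisj : ∀ i ∈ (Finset.univ : Finset (Fin k)), ∀ j ∈ (Finset.univ : Finset (Fin k)),
      i ≠ j → Disjoint (K i) (K j) := by
    intro i _ j _ hij
    rw [Finset.disjoint_left]
    intro x hxi hxj
    simp only [hK, Finset.mem_filter, Finset.mem_univ, true_and] at hxi hxj
    obtain ⟨h, rfl⟩ := hxi
    obtain ⟨h', hh'⟩ := hxj
    apply hij
    apply hr
    show inv (r i) = inv (r j)
    rw [← hinv (r i) h, ← hh', hinv]
  have hU : (Finset.univ.biUnion K).card = ∑ i, (K i).card := Finset.card_biUnion hdisj
  have hUle : (Finset.univ.biUnion K).card ≤ Nat.card G := by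
    rw [Nat.card_eq_fintype_card]
    exact Finset.card_le_univ _
  have hsumle : ∑ i, Nat.card G / c i ≤ ∑ i, (K i).card := Finset.sum_le_sum (fun i _ => hKge i)
  have heq1 : ∑ i, Nat.card G / c i = ∑ i, (K i).card := by omega
  have heq2 : (Finset.univ.biUnion K).card = Nat.card G := by omega
  have hterm : ∀ i, Nat.card G / c i = (K i).card := by
    intro i
    exact (Finset.sum_eq_sum_iff_of_le (fun i _ => hKge i)).mp heq1 i (Finset.mem_univ i)
  constructor
  · intro x
    have hx : x ∈ Finset.univ.biUnion K := by
      have : Finset.univ.biUnion K = Finset.univ := by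
        apply Finset.eq_univ_of_card
        rw [heq2, Nat.card_eq_fintype_card]
      rw [this]
      exact Finset.mem_univ x
    rw [Finset.mem_biUnion] at hx
    obtain ⟨i, _, hxi⟩ := hx
    simp only [hK, Finset.mem_filter, Finset.mem_univ, true_and] at hxi
    exact ⟨i, hxi⟩
  · intro i
    apply le_antisymm (hle i)
    have h1 := hKcard i
    have h2 := hterm i
    have h3 : Nat.card G / c i * c i ≤ Nat.card G := Nat.div_mul_le_self _ _
    rw [h2] at h3
    have hKpos : 0 < (K i).card := by
      rcases Nat.eq_zero_or_pos (K i).card with h0 | h0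
      · rw [h0, zero_mul] at h1
        have : 0 < Nat.card G := Nat.card_pos
        omega
      · exact h0
    rw [← h1] at h3
    exact Nat.le_of_mul_le_mul_left h3 hKpos

end cover

end Cfsg.Agent.Lib.Helper4.Cg33
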