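import Mathlib
import Cfsg.Agent.Lib.Helper4.Cg33B

/-! Commuting graph of `PSL(3,3)` (helper4, for S3412), part C: twelve representatives of
`SL(3,3)`, a conjugation invariant separating them, and the kernel scans of their centralizers. -/

set_option autoImplicit false

namespace Cfsg.Agent.Lib.Helper4.Cg33

/-- a conjugation invariant separating the twelve classes of `SL(3,3)` -/
def inv (g : SL3) : ZMod 3 × ZMod 3 × Bool × Bool × Bool :=
  (g.val.trace, (g.val * g.val).trace, decide (g.val = 1),
    decide ((g.val - 1) * (g.val - 1) = 0), decide (g.val * g.val = 1))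

theorem conj_cancel {A B X Y : M3} (hBA : B * A = 1) (hAB : A * B = 1)
    (h : A * X * B = A * Y * B) : X = Y := by
  have h1 : B * (A * X * B) * A = B * (A * Y * B) * A := by rw [h]
  have e : ∀ Z : M3, B * (A * Z * B) * A = (B * A) * Z * (B * A) := by
    intro Z
    simp only [Matrix.mul_assoc]
  rw [e, e, hBA, Matrix.one_mul, Matrix.mul_one, Matrix.one_mul, Matrix.mul_one] at h1
  exact h1

theorem inv_conj (g h : SL3) : inv (h * g * h⁻¹) = inv g := by
  have hAB : h.val * (h⁻¹).val = 1 := by
    rw [← Matrix.SpecialLinearGroup.coe_mul, mul_inv_cancel, Matrix.SpecialLinearGroup.coe_one]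
  have hBA : (h⁻¹).val * h.val = 1 := by
    rw [← Matrix.SpecialLinearGroup.coe_mul, inv_mul_cancel, Matrix.SpecialLinearGroup.coe_one]
  have hval : (h * g * h⁻¹).val = h.val * g.val * (h⁻¹).val := by
    rw [Matrix.SpecialLinearGroup.coe_mul, Matrix.SpecialLinearGroup.coe_mul]
  have hone : h.val * 1 * (h⁻¹).val = 1 := by rw [Matrix.mul_one, hAB]
  have hsq : ∀ X Y : M3, (h.val * X * (h⁻¹).val) * (h.val * Y * (h⁻¹).val) =
      h.val * (X * Y) * (h⁻¹).val := by
    intro X Y
    calc (h.val * X * (h⁻¹).val) * (h.val * Y * (h⁻¹).val)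
        = h.val * X * ((h⁻¹).val * h.val) * Y * (h⁻¹).val := by simp only [Matrix.mul_assoc]
      _ = h.val * (X * Y) * (h⁻¹).val := by rw [hBA, Matrix.mul_one]; simp only [Matrix.mul_assoc]
  have htr : ∀ X : M3, (h.val * X * (h⁻¹).val).trace = X.trace := by
    intro X
    rw [Matrix.trace_mul_cycle, hBA, Matrix.one_mul]
  have hsub : h.val * g.val * (h⁻¹).val - 1 = h.val * (g.val - 1) * (h⁻¹).val := by
    rw [Matrix.mul_sub, Matrix.sub_mul, hone]
  have hzero : h.val * 0 * (h⁻¹).val = 0 := by rw [Matrix.mul_zero, Matrix.zero_mul]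
  unfold inv
  rw [hval, hsq, htr, htr, hsub, hsq]
  have e1 : (h.val * g.val * (h⁻¹).val = 1) ↔ g.val = 1 := by
    constructor
    · intro h1
      exact conj_cancel hBA hAB (h1.trans hone.symm)
    · intro h1
      rw [h1, hone]
  have e2 : (h.val * ((g.val - 1) * (g.val - 1)) * (h⁻¹).val = 0) ↔
      (g.val - 1) * (g.val - 1) = 0 := by
    constructor
    · intro h1
      exact conj_cancel hBA hAB (h1.trans hzero.symm)
    · intro h1
      rw [h1, hzero]
  have e3 : (h.val * (g.val * g.val) * (h⁻¹).val = 1) ↔ g.val * g.val = 1 := by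
    constructor
    · intro h1
      exact conj_cancel hBA hAB (h1.trans hone.symm)
    · intro h1
      rw [h1, hone]
  simp only [e1, e2, e3]

def repL : Fin 12 → List ℕ := ![[1,0,0,0,1,0,0,0,1], [0,0,1,0,2,0,1,0,0], [1,0,1,0,1,0,0,0,1],
  [0,0,1,0,1,0,2,1,2], [0,0,1,0,1,0,2,0,0], [0,0,1,0,1,0,2,0,1], [0,0,1,0,1,1,2,1,0],
  [0,0,1,0,1,1,2,2,2], [0,0,1,0,1,1,2,1,1], [0,0,1,0,1,1,2,1,2], [0,0,1,0,1,1,2,2,0],
  [0,0,1,0,1,1,2,2,1]]

def repC : Fin 12 → ℕ := ![5616, 48, 54, 9, 8, 6, 8, 8, 13, 13, 13, 13]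

theorem repL_sl : ∀ i, isSL (ofList (repL i)) = true := by decide

def rep (i : Fin 12) : SL3 := mkSL (ofList (repL i)) (repL_sl i)

def invT : Fin 12 → ZMod 3 × ZMod 3 × Bool × Bool × Bool :=
  ![(0,0,true,true,true), (2,0,false,false,true), (0,0,false,true,false), (0,0,false,false,false),
    (1,2,false,false,false), (2,0,false,false,false), (1,1,false,false,false), (0,1,false,false,false),
    (2,2,false,false,false), (0,2,false,false,false), (1,0,false,false,false), (2,1,false,false,false)]

set_option maxRecDepth 100000 in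
theorem inv_rep : ∀ i, inv (rep i) = invT i := by decide

theorem invT_inj : Function.Injective invT := by decide

theorem inv_rep_inj : Function.Injective (fun i => inv (rep i)) := by
  intro i j h
  simp only [inv_rep] at h
  exact invT_inj h

theorem rep_zero : rep 0 = 1 := by
  apply Subtype.ext
  show toM (ofList (repL 0)) = 1
  decide

end Cfsg.Agent.Lib.Helper4.Cg33
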