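import Mathlib
import Cfsg.Agent.Lib.Helper4.Cg33C

/-! Commuting graph of `PSL(3,3)` (helper4, for S3412): kernel scans of centralizers, part 1. -/

set_option autoImplicit false

namespace Cfsg.Agent.Lib.Helper4.Cg33

set_option maxRecDepth 1000000 in
theorem cnt_rep_0 : cnt (ofList (repL 0)) = 5616 := by decide +kernel

set_option maxRecDepth 1000000 in
theorem cnt_rep_1 : cnt (ofList (repL 1)) = 48 := by decide +kernel

set_option maxRecDepth 1000000 in
theorem cnt_rep_2 : cnt (ofList (repL 2)) = 54 := by decide +kernel

end Cfsg.Agent.Lib.Helper4.Cg33
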