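import Mathlib
import Cfsg.Agent.Lib.Helper4.Cg33C

/-! Commuting graph of `PSL(3,3)` (helper4, for S3412): kernel scans of centralizers, part 3. -/

set_option autoImplicit false

namespace Cfsg.Agent.Lib.Helper4.Cg33

set_option maxRecDepth 1000000 in
theorem cnt_rep_6 : cnt (ofList (repL 6)) = 8 := by decide +kernel

set_option maxRecDepth 1000000 in
theorem cnt_rep_7 : cnt (ofList (repL 7)) = 8 := by decide +kernel

set_option maxRecDepth 1000000 in
theorem cnt_rep_8 : cnt (ofList (repL 8)) = 13 := by decide +kernel

end Cfsg.Agent.Lib.Helper4.Cg33
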