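import Mathlib
import Cfsg.Agent.Lib.Helper4.Cg33S1
import Cfsg.Agent.Lib.Helper4.Cg33S2
import Cfsg.Agent.Lib.Helper4.Cg33S3
import Cfsg.Agent.Lib.Helper4.Cg33S4
import Cfsg.Agent.Lib.Helper4.SLCard

/-! Commuting graph of `PSL(3,3)` (helper4, for S3412), part D: the centralizer statistics of
`SL(3,3)`. -/

set_option autoImplicit false
set_option linter.style.haveILetI false
set_option linter.unusedSectionVars false

namespace Cfsg.Agent.Lib.Helper4.Cg33

section count

variable {G : Type*} [Group G] [Finite G]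

/-- the number of elements with a given centralizer order, from a complete list of
representatives -/
theorem class_count {α : Type*} (inv : G → α)
    (hinv : ∀ g h : G, inv (h * g * h⁻¹) = inv g) {k : ℕ} (r : Fin k → G) (c : Fin k → ℕ)
    (hr : Function.Injective (fun i => inv (r i)))
    (hcov : ∀ x : G, ∃ i, ∃ h : G, h * r i * h⁻¹ = x)
    (hex : ∀ i, Nat.card (Subgroup.centralizer ({r i} : Set G)) = c i) (c0 : ℕ) :
    Nat.card {x : G // Nat.card (Subgroup.centralizer ({x} : Set G)) = c0} =
      ∑ i, if c i = c0 then Nat.card G / c i else 0 := by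
  classical
  haveI : Fintype G := Fintype.ofFinite G
  set K : Fin k → Finset G := fun i => Finset.univ.filter (fun x => ∃ h : G, h * r i * h⁻¹ = x)
    with hK
  have hKcard : ∀ i, (K i).card = Nat.card G / c i := by
    intro i
    have h1 := Cfsg.Agent.Lib.Helper2.Bsw2.card_conj_mul_card_centralizer (r i)
    rw [hex i] at h1
    have hpos : 0 < c i := by
      rw [← hex i]
      exact Nat.card_pos
    rw [← h1, Nat.mul_div_cancel _ hpos, Nat.card_eq_fintype_card, Fintype.card_subtype]
  have hdisj : ∀ i ∈ (Finset.univ.filter (fun i => c i = c0) : Finset (Fin k)),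
      ∀ j ∈ (Finset.univ.filter (fun i => c i = c0) : Finset (Fin k)),
      i ≠ j → Disjoint (K i) (K j) := by
    intro i _ j _ hij
    rw [Finset.disjoint_left]
    intro x hxi hxj
    simp only [hK, Finset.mem_filter, Finset.mem_univ, true_and] at hxi hxj
    obtain ⟨h, rfl⟩ := hxi
    obtain ⟨h', hh'⟩ := hxj
    apply hij
    apply hr
    show inv (r i) = inv (r j)
    rw [← hinv (r i) h, ← hh', hinv]
  have hset : (Finset.univ.filter
      (fun x : G => Nat.card (Subgroup.centralizer ({x} : Set G)) = c0)) =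
      (Finset.univ.filter (fun i => c i = c0)).biUnion K := by
    ext x
    simp only [Finset.mem_filter, Finset.mem_univ, true_and, Finset.mem_biUnion, hK]
    constructor
    · intro hx
      obtain ⟨i, h, hh⟩ := hcov x
      refine ⟨i, ?_, h, hh⟩
      rw [← hx, ← hh, card_centralizer_conj, hex]
    · rintro ⟨i, hi, h, hh⟩
      rw [← hh, card_centralizer_conj, hex, hi]
  rw [Nat.card_eq_fintype_card, Fintype.card_subtype, hset, Finset.card_biUnion hdisj,
    Finset.sum_filter]
  apply Finset.sum_congr rfl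
  intro i _
  rw [hKcard i]

end count

theorem card_SL3 : Nat.card SL3 = 5616 := by
  have h := Cfsg.Agent.Lib.Helper4.card_SL_mul (F := ZMod 3) 3 (by norm_num)
  rw [Matrix.card_GL_field, ZMod.card, Fin.prod_univ_three] at h
  have h2 : (3 ^ 3 - 3 ^ ((0 : Fin 3) : ℕ)) * (3 ^ 3 - 3 ^ ((1 : Fin 3) : ℕ)) *
      (3 ^ 3 - 3 ^ ((2 : Fin 3) : ℕ)) = 11232 := by decide
  rw [h2] at h
  show Nat.card (Matrix.SpecialLinearGroup (Fin 3) (ZMod 3)) = 5616
  omega

theorem cnt_rep : ∀ i, cnt (ofList (repL i)) = repC i := by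
  intro i
  fin_cases i
  · exact cnt_rep_0
  · exact cnt_rep_1
  · exact cnt_rep_2
  · exact cnt_rep_3
  · exact cnt_rep_4
  · exact cnt_rep_5
  · exact cnt_rep_6
  · exact cnt_rep_7
  · exact cnt_rep_8
  · exact cnt_rep_9
  · exact cnt_rep_10
  · exact cnt_rep_11

theorem rep_le (i : Fin 12) : Nat.card (Subgroup.centralizer ({rep i} : Set SL3)) ≤ repC i := by
  rw [← cnt_rep i]
  exact card_centralizer_le _ _

theorem sum_repC : Nat.card SL3 ≤ ∑ i, Nat.card SL3 / repC i := by
  rw [card_SL3]
  decide

theorem cover_SL3 : (∀ x : SL3, ∃ i, ∃ h : SL3, h * rep i * h⁻¹ = x) ∧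
    ∀ i, Nat.card (Subgroup.centralizer ({rep i} : Set SL3)) = repC i :=
  class_cover inv inv_conj rep repC inv_rep_inj rep_le sum_repC

/-- the class index of an element, read off the invariant -/
theorem exists_index (x : SL3) : ∃ i, inv x = invT i ∧
    Nat.card (Subgroup.centralizer ({x} : Set SL3)) = repC i := by
  obtain ⟨i, h, hh⟩ := cover_SL3.1 x
  refine ⟨i, ?_, ?_⟩
  · rw [← hh, inv_conj, inv_rep]
  · rw [← hh, card_centralizer_conj, cover_SL3.2]

theorem card_centralizer_of_inv (x : SL3) (i : Fin 12) (h : inv x = invT i) :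
    Nat.card (Subgroup.centralizer ({x} : Set SL3)) = repC i := by
  obtain ⟨j, hj, hc⟩ := exists_index x
  rw [h] at hj
  rw [invT_inj hj, hc]

theorem stat_mem (x : SL3) (hx : x ≠ 1) :
    Nat.card (Subgroup.centralizer ({x} : Set SL3)) ∈ ({48, 54, 9, 8, 6, 13} : Finset ℕ) := by
  obtain ⟨i, h, hh⟩ := cover_SL3.1 x
  have hi : i ≠ 0 := by
    rintro rfl
    apply hx
    rw [← hh, rep_zero]
    group
  rw [← hh, card_centralizer_conj, cover_SL3.2]
  fin_cases i
  · exact absurd rfl hi
  all_goals decide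

theorem stat_count (c0 : ℕ) :
    Nat.card {x : SL3 // Nat.card (Subgroup.centralizer ({x} : Set SL3)) = c0} =
      ∑ i, if repC i = c0 then 5616 / repC i else 0 := by
  rw [class_count inv inv_conj rep repC inv_rep_inj cover_SL3.1 cover_SL3.2 c0, card_SL3]

theorem stat_48 :
    Nat.card {x : SL3 // Nat.card (Subgroup.centralizer ({x} : Set SL3)) = 48} = 117 := by
  rw [stat_count]; decide

theorem stat_54 :
    Nat.card {x : SL3 // Nat.card (Subgroup.centralizer ({x} : Set SL3)) = 54} = 104 := by
  rw [stat_count]; decide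

theorem stat_9 :
    Nat.card {x : SL3 // Nat.card (Subgroup.centralizer ({x} : Set SL3)) = 9} = 624 := by
  rw [stat_count]; decide

theorem stat_8 :
    Nat.card {x : SL3 // Nat.card (Subgroup.centralizer ({x} : Set SL3)) = 8} = 2106 := by
  rw [stat_count]; decide

theorem stat_6 :
    Nat.card {x : SL3 // Nat.card (Subgroup.centralizer ({x} : Set SL3)) = 6} = 936 := by
  rw [stat_count]; decide

theorem stat_13 :
    Nat.card {x : SL3 // Nat.card (Subgroup.centralizer ({x} : Set SL3)) = 13} = 1728 := by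
  rw [stat_count]; decide

end Cfsg.Agent.Lib.Helper4.Cg33
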