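import Mathlib
import Cfsg.Agent.Lib.Helper4.Cg33D

/-! Commuting graph of `PSL(3,3)` (helper4, for S3412), part E: the self-centralizing subgroup
`D` of order `9` of `SL(3,3)` (the unipotent radical of a maximal parabolic subgroup). -/

set_option autoImplicit false

namespace Cfsg.Agent.Lib.Helper4.Cg33

/-- the elements of `D` -/
def dM (a b : ZMod 3) : SL3 := ⟨!![1, 0, a; 0, 1, b; 0, 0, 1], by simp [Matrix.det_fin_three]⟩

theorem dM_val (a b : ZMod 3) : (dM a b).val = !![1, 0, a; 0, 1, b; 0, 0, 1] := rfl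

theorem dM_mul (a b a' b' : ZMod 3) : dM a b * dM a' b' = dM (a + a') (b + b') := by
  apply Subtype.ext
  rw [Matrix.SpecialLinearGroup.coe_mul, dM_val, dM_val, dM_val]
  ext i j
  fin_cases i <;> fin_cases j <;> simp [Matrix.mul_apply, Fin.sum_univ_three] <;> ring

theorem dM_zero : dM 0 0 = 1 := by
  apply Subtype.ext
  rw [dM_val, Matrix.SpecialLinearGroup.coe_one]
  ext i j
  fin_cases i <;> fin_cases j <;> simp

theorem dM_inj {a b a' b' : ZMod 3} (h : dM a b = dM a' b') : a = a' ∧ b = b' := by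
  have h1 := congrArg Subtype.val h
  rw [dM_val, dM_val] at h1
  constructor
  · have := congrFun (congrFun h1 0) 2
    simpa using this
  · have := congrFun (congrFun h1 1) 2
    simpa using this

theorem dM_comm (a b a' b' : ZMod 3) : dM a b * dM a' b' = dM a' b' * dM a b := by
  rw [dM_mul, dM_mul, add_comm a, add_comm b]

theorem inv_dM : ∀ a b : ZMod 3, (a, b) ≠ (0, 0) → inv (dM a b) = invT 2 := by decide

theorem card_centralizer_dM (a b : ZMod 3) (h : (a, b) ≠ (0, 0)) :
    Nat.card (Subgroup.centralizer ({dM a b} : Set SL3)) = 54 :=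
  card_centralizer_of_inv (dM a b) 2 (inv_dM a b h)

def E13 : NMat := ofList [1, 0, 1, 0, 1, 0, 0, 0, 1]

def E23 : NMat := ofList [1, 0, 0, 0, 1, 1, 0, 0, 1]

def isD (A : NMat) : Bool :=
  (A 0 0 % 3 == 1) && (A 0 1 % 3 == 0) && (A 1 0 % 3 == 0) && (A 1 1 % 3 == 1) &&
    (A 2 0 % 3 == 0) && (A 2 1 % 3 == 0) && (A 2 2 % 3 == 1)

def testD (n : ℕ) : Bool :=
  !(isSL (ofNat n) && eqMod (natMul (ofNat n) E13) (natMul E13 (ofNat n)) &&
    eqMod (natMul (ofNat n) E23) (natMul E23 (ofNat n))) || isD (ofNat n)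

set_option maxRecDepth 1000000 in
theorem scanD : (List.range 19683).all testD = true := by decide +kernel

theorem toM_E13 : toM E13 = (dM 1 0).val := by decide

theorem toM_E23 : toM E23 = (dM 0 1).val := by decide

theorem entry (y : SL3) (i j : Fin 3) :
    y.val i j = ((ofNat (code y.val) i.val j.val : ℕ) : ZMod 3) := by
  conv_lhs => rw [← toM_ofNat_code y.val]
  rfl

theorem entry_of_mod (y : SL3) (i j : Fin 3) (v : ℕ)
    (h : (ofNat (code y.val) i.val j.val % 3 == v) = true) : y.val i j = (v : ZMod 3) := by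
  rw [entry, ← ZMod.natCast_mod, beq_iff_eq.mp h]

/-- `D` is self-centralizing -/
theorem mem_dM_of_comm (y : SL3) (h1 : y * dM 1 0 = dM 1 0 * y) (h2 : y * dM 0 1 = dM 0 1 * y) :
    ∃ a b, y = dM a b := by
  have h := List.all_eq_true.mp scanD (code y.val) (List.mem_range.mpr (code_lt _))
  unfold testD at h
  have h1' : y.val * toM E13 = toM E13 * y.val := by
    rw [toM_E13, ← Matrix.SpecialLinearGroup.coe_mul, h1, Matrix.SpecialLinearGroup.coe_mul]
  have h2' : y.val * toM E23 = toM E23 * y.val := by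
    rw [toM_E23, ← Matrix.SpecialLinearGroup.coe_mul, h2, Matrix.SpecialLinearGroup.coe_mul]
  have t1 : isSL (ofNat (code y.val)) = true := by
    rw [← det_toM_iff, toM_ofNat_code]
    exact y.2
  have t2 : eqMod (natMul (ofNat (code y.val)) E13) (natMul E13 (ofNat (code y.val))) = true := by
    rw [← toM_eq_iff, toM_mul, toM_mul, toM_ofNat_code]
    exact h1'
  have t3 : eqMod (natMul (ofNat (code y.val)) E23) (natMul E23 (ofNat (code y.val))) = true := by
    rw [← toM_eq_iff, toM_mul, toM_mul, toM_ofNat_code]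
    exact h2'
  rw [t1, t2, t3] at h
  simp only [Bool.and_self, Bool.not_true, Bool.false_or] at h
  unfold isD at h
  simp only [Bool.and_eq_true] at h
  obtain ⟨⟨⟨⟨⟨⟨e00, e01⟩, e10⟩, e11⟩, e20⟩, e21⟩, e22⟩ := h
  refine ⟨y.val 0 2, y.val 1 2, ?_⟩
  apply Subtype.ext
  rw [dM_val]
  ext i j
  fin_cases i <;> fin_cases j
  · simpa using entry_of_mod y 0 0 1 e00
  · simpa using entry_of_mod y 0 1 0 e01
  · simp
  · simpa using entry_of_mod y 1 0 0 e10
  · simpa using entry_of_mod y 1 1 1 e11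
  · simp
  · simpa using entry_of_mod y 2 0 0 e20
  · simpa using entry_of_mod y 2 1 0 e21
  · simpa using entry_of_mod y 2 2 1 e22

end Cfsg.Agent.Lib.Helper4.Cg33
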