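import Mathlib
import Cfsg.Agent.Lib.Helper4.Cg33E

/-! Commuting graph of `PSL(3,3)` (helper4, for S3412), part F: what a group `H` with the
commuting graph of `SL(3,3)` inherits: the order, the centralizer statistics, and a
self-centralizing subgroup of order `9` whose non-identity elements have centralizers of
order `54`. -/

set_option autoImplicit false
set_option linter.style.haveILetI false
set_option linter.unusedSectionVars false

namespace Cfsg.Agent.Lib.Helper4.Cg33

/-- the data a group inherits from the commuting graph of `SL(3,3)` -/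
structure GData (H : Type*) [Group H] : Prop where
  card : Nat.card H = 5616
  mem : ∀ x : H, x ≠ 1 →
    Nat.card (Subgroup.centralizer ({x} : Set H)) ∈ ({48, 54, 9, 8, 6, 13} : Finset ℕ)
  n48 : Nat.card {x : H // Nat.card (Subgroup.centralizer ({x} : Set H)) = 48} = 117
  n54 : Nat.card {x : H // Nat.card (Subgroup.centralizer ({x} : Set H)) = 54} = 104
  n9 : Nat.card {x : H // Nat.card (Subgroup.centralizer ({x} : Set H)) = 9} = 624
  n8 : Nat.card {x : H // Nat.card (Subgroup.centralizer ({x} : Set H)) = 8} = 2106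
  n6 : Nat.card {x : H // Nat.card (Subgroup.centralizer ({x} : Set H)) = 6} = 936
  n13 : Nat.card {x : H // Nat.card (Subgroup.centralizer ({x} : Set H)) = 13} = 1728
  exD : ∃ D : Subgroup H, Nat.card D = 9 ∧ Subgroup.centralizer (D : Set H) = D ∧
    ∀ d ∈ D, d ≠ 1 → Nat.card (Subgroup.centralizer ({d} : Set H)) = 54

section general

variable {H : Type*} [Group H] [Finite H] {M : Type*} [Group M] [Finite M]

theorem card_eq_succ' (K : Type*) [Group K] [Finite K] :
    Nat.card K = Nat.card {k : K // k ≠ 1} + 1 := by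
  classical
  rw [← Finite.card_option]
  exact Nat.card_congr (Equiv.optionSubtypeNe (1 : K)).symm

theorem card_eq_of_graph (f : {h : H // h ≠ 1} ≃ {g : M // g ≠ 1}) : Nat.card H = Nat.card M := by
  rw [card_eq_succ' H, card_eq_succ' M, Nat.card_congr f]

theorem card_centralizer_succ {K : Type*} [Group K] [Finite K] (x : {k : K // k ≠ 1}) :
    Nat.card (Subgroup.centralizer ({(x : K)} : Set K)) =
      Nat.card {y : {k : K // k ≠ 1} // (x : K) * y = y * x} + 1 := by
  rw [card_eq_succ' (Subgroup.centralizer ({(x : K)} : Set K))]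
  congr 1
  apply Nat.card_congr
  refine ⟨fun b => ⟨⟨(b : Subgroup.centralizer ({(x : K)} : Set K)), fun h => b.2 (Subtype.ext h)⟩,
      (Subgroup.mem_centralizer_singleton_iff.mp b.1.2).symm⟩,
    fun y => ⟨⟨(y : {k : K // k ≠ 1}), Subgroup.mem_centralizer_singleton_iff.mpr y.2.symm⟩,
      fun h => y.1.2 (congrArg Subtype.val h)⟩, fun b => ?_, fun y => ?_⟩
  · rfl
  · rfl

variable (f : {h : H // h ≠ 1} ≃ {g : M // g ≠ 1})
  (hf : ∀ x y : {h : H // h ≠ 1},
    (x : H) * y = y * x ↔ ((f x) : M) * (f y) = (f y) * (f x))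

include hf in
theorem card_centralizer_graph (x : {h : H // h ≠ 1}) :
    Nat.card (Subgroup.centralizer ({(x : H)} : Set H)) =
      Nat.card (Subgroup.centralizer ({((f x) : M)} : Set M)) := by
  rw [card_centralizer_succ x, card_centralizer_succ (f x)]
  congr 1
  exact Nat.card_congr (Equiv.subtypeEquiv f (fun y => hf x y))

theorem centralizer_one_eq_top (K : Type*) [Group K] :
    Subgroup.centralizer ({(1 : K)} : Set K) = ⊤ := by
  rw [Subgroup.eq_top_iff']
  intro x
  rw [Subgroup.mem_centralizer_singleton_iff, mul_one, one_mul]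

include hf in
/-- the number of elements with a given centralizer order is a graph invariant -/
theorem count_graph (c : ℕ) (hc : c ≠ Nat.card M) :
    Nat.card {x : H // Nat.card (Subgroup.centralizer ({x} : Set H)) = c} =
      Nat.card {y : M // Nat.card (Subgroup.centralizer ({y} : Set M)) = c} := by
  have hcH : c ≠ Nat.card H := by rw [card_eq_of_graph f]; exact hc
  have neH : ∀ x : H, Nat.card (Subgroup.centralizer ({x} : Set H)) = c → x ≠ 1 := by
    rintro x hx rfl
    rw [centralizer_one_eq_top, Subgroup.card_top] at hx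
    exact hcH hx.symm
  have neM : ∀ y : M, Nat.card (Subgroup.centralizer ({y} : Set M)) = c → y ≠ 1 := by
    rintro y hy rfl
    rw [centralizer_one_eq_top, Subgroup.card_top] at hy
    exact hc hy.symm
  apply Nat.card_congr
  refine ⟨fun x => ⟨(f ⟨x.1, neH x.1 x.2⟩ : M), ?_⟩, fun y => ⟨(f.symm ⟨y.1, neM y.1 y.2⟩ : H), ?_⟩,
    fun x => ?_, fun y => ?_⟩
  · rw [← card_centralizer_graph f hf ⟨x.1, neH x.1 x.2⟩]
    exact x.2
  · have := card_centralizer_graph f hf (f.symm ⟨y.1, neM y.1 y.2⟩)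
    rw [Equiv.apply_symm_apply] at this
    rw [this]
    exact y.2
  · apply Subtype.ext
    simp
  · apply Subtype.ext
    simp

end general

section sl3

variable {H : Type*} [Group H] [Finite H]
  (f : {h : H // h ≠ 1} ≃ {g : SL3 // g ≠ 1})
  (hf : ∀ x y : {h : H // h ≠ 1},
    (x : H) * y = y * x ↔ ((f x) : SL3) * (f y) = (f y) * (f x))

theorem dM_ne_one {p : ZMod 3 × ZMod 3} (h : p ≠ (0, 0)) : dM p.1 p.2 ≠ 1 := by
  intro h1
  rw [← dM_zero] at h1
  obtain ⟨h2, h3⟩ := dM_inj h1
  exact h (Prod.ext h2 h3)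

/-- the elements of `D` in `H` -/
noncomputable def dH (p : ZMod 3 × ZMod 3) : H :=
  if h : p = (0, 0) then 1 else (f.symm ⟨dM p.1 p.2, dM_ne_one h⟩ : H)

theorem dH_zero : dH f (0, 0) = 1 := by
  unfold dH
  rw [dif_pos rfl]

theorem dH_ne_one {p : ZMod 3 × ZMod 3} (h : p ≠ (0, 0)) : dH f p ≠ 1 := by
  unfold dH
  rw [dif_neg h]
  exact (f.symm ⟨dM p.1 p.2, dM_ne_one h⟩).2

theorem f_dH {p : ZMod 3 × ZMod 3} (h : p ≠ (0, 0)) :
    (f ⟨dH f p, dH_ne_one f h⟩ : SL3) = dM p.1 p.2 := by
  have : (⟨dH f p, dH_ne_one f h⟩ : {h : H // h ≠ 1}) = f.symm ⟨dM p.1 p.2, dM_ne_one h⟩ := by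
    apply Subtype.ext
    show dH f p = _
    unfold dH
    rw [dif_neg h]
  rw [this, Equiv.apply_symm_apply]

theorem dH_injective : Function.Injective (dH f) := by
  intro p q hpq
  by_cases hp : p = (0, 0)
  · by_cases hq : q = (0, 0)
    · rw [hp, hq]
    · exfalso
      rw [hp, dH_zero] at hpq
      exact dH_ne_one f hq hpq.symm
  · by_cases hq : q = (0, 0)
    · exfalso
      rw [hq, dH_zero] at hpq
      exact dH_ne_one f hp hpq
    · have h1 := f_dH f hp
      have h2 := f_dH f hq
      have h3 : (⟨dH f p, dH_ne_one f hp⟩ : {h : H // h ≠ 1}) = ⟨dH f q, dH_ne_one f hq⟩ :=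
        Subtype.ext hpq
      rw [h3, h2] at h1
      obtain ⟨e1, e2⟩ := dM_inj h1
      exact (Prod.ext e1 e2).symm

include hf in
theorem dH_comm (p q : ZMod 3 × ZMod 3) : dH f p * dH f q = dH f q * dH f p := by
  by_cases hp : p = (0, 0)
  · rw [hp, dH_zero, one_mul, mul_one]
  · by_cases hq : q = (0, 0)
    · rw [hq, dH_zero, one_mul, mul_one]
    · have := (hf ⟨dH f p, dH_ne_one f hp⟩ ⟨dH f q, dH_ne_one f hq⟩).mpr
      apply this
      rw [f_dH f hp, f_dH f hq]
      exact dM_comm _ _ _ _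

/-- the subgroup `D` of `H` -/
noncomputable def DH : Subgroup H := Subgroup.centralizer (Set.range (dH f))

include hf in
theorem dH_mem (p : ZMod 3 × ZMod 3) : dH f p ∈ DH f := by
  unfold DH
  rw [Subgroup.mem_centralizer_iff]
  rintro _ ⟨q, rfl⟩
  exact dH_comm f hf q p

include hf in
theorem mem_DH_iff (y : H) : y ∈ DH f ↔ ∃ p, dH f p = y := by
  constructor
  · intro hy
    by_cases hy1 : y = 1
    · exact ⟨(0, 0), by rw [dH_zero, hy1]⟩
    · unfold DH at hy
      rw [Subgroup.mem_centralizer_iff] at hy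
      have h10 : ((1, 0) : ZMod 3 × ZMod 3) ≠ (0, 0) := by decide
      have h01 : ((0, 1) : ZMod 3 × ZMod 3) ≠ (0, 0) := by decide
      have c1 := hy (dH f (1, 0)) ⟨_, rfl⟩
      have c2 := hy (dH f (0, 1)) ⟨_, rfl⟩
      have c1' := (hf ⟨y, hy1⟩ ⟨dH f (1, 0), dH_ne_one f h10⟩).mp c1.symm
      have c2' := (hf ⟨y, hy1⟩ ⟨dH f (0, 1), dH_ne_one f h01⟩).mp c2.symm
      rw [f_dH f h10] at c1'
      rw [f_dH f h01] at c2'
      obtain ⟨a, b, hab⟩ := mem_dM_of_comm _ c1' c2'
      have hp : ((a, b) : ZMod 3 × ZMod 3) ≠ (0, 0) := by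
        intro h0
        have ha : a = 0 := congrArg Prod.fst h0
        have hb : b = 0 := congrArg Prod.snd h0
        rw [ha, hb, dM_zero] at hab
        exact (f ⟨y, hy1⟩).2 hab
      refine ⟨(a, b), ?_⟩
      have h3 : f ⟨dH f (a, b), dH_ne_one f hp⟩ = f ⟨y, hy1⟩ := by
        apply Subtype.ext
        rw [f_dH f hp, hab]
      exact congrArg Subtype.val (f.injective h3)
  · rintro ⟨p, rfl⟩
    exact dH_mem f hf p

include hf in
theorem card_DH : Nat.card (DH f) = 9 := by
  have e : (ZMod 3 × ZMod 3) ≃ DH f :=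
    Equiv.ofBijective (fun p => ⟨dH f p, dH_mem f hf p⟩)
      ⟨fun p q h => dH_injective f (congrArg Subtype.val h),
        fun y => by
          obtain ⟨p, hp⟩ := (mem_DH_iff f hf y.1).mp y.2
          exact ⟨p, Subtype.ext hp⟩⟩
  rw [← Nat.card_congr e, Nat.card_prod, Nat.card_eq_fintype_card, ZMod.card]

include hf in
theorem centralizer_DH : Subgroup.centralizer ((DH f : Subgroup H) : Set H) = DH f := by
  apply le_antisymm
  · intro y hy
    unfold DH
    rw [Subgroup.mem_centralizer_iff] at hy ⊢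
    rintro _ ⟨q, rfl⟩
    exact hy _ (dH_mem f hf q)
  · intro y hy
    rw [Subgroup.mem_centralizer_iff]
    intro d hd
    obtain ⟨p, rfl⟩ := (mem_DH_iff f hf d).mp hd
    unfold DH at hy
    rw [Subgroup.mem_centralizer_iff] at hy
    exact hy _ ⟨p, rfl⟩

include hf in
theorem card_centralizer_DH (d : H) (hd : d ∈ DH f) (hd1 : d ≠ 1) :
    Nat.card (Subgroup.centralizer ({d} : Set H)) = 54 := by
  obtain ⟨p, rfl⟩ := (mem_DH_iff f hf d).mp hd
  have hp : p ≠ (0, 0) := by
    rintro rfl
    exact hd1 (dH_zero f)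
  have h1 := card_centralizer_graph f hf ⟨dH f p, hd1⟩
  rw [h1, f_dH f hp]
  apply card_centralizer_dM
  intro h0
  exact hp (Prod.ext (congrArg Prod.fst h0) (congrArg Prod.snd h0))

include hf in
/-- a group with the commuting graph of `SL(3,3)` inherits its data -/
theorem gdata_of_graph : GData H := by
  have hcard : Nat.card H = 5616 := by rw [card_eq_of_graph f, card_SL3]
  refine ⟨hcard, ?_, ?_, ?_, ?_, ?_, ?_, ?_, ⟨DH f, card_DH f hf, centralizer_DH f hf,
    card_centralizer_DH f hf⟩⟩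
  · intro x hx
    rw [card_centralizer_graph f hf ⟨x, hx⟩]
    exact stat_mem _ (f ⟨x, hx⟩).2
  · rw [count_graph f hf 48 (by rw [card_SL3]; norm_num), stat_48]
  · rw [count_graph f hf 54 (by rw [card_SL3]; norm_num), stat_54]
  · rw [count_graph f hf 9 (by rw [card_SL3]; norm_num), stat_9]
  · rw [count_graph f hf 8 (by rw [card_SL3]; norm_num), stat_8]
  · rw [count_graph f hf 6 (by rw [card_SL3]; norm_num), stat_6]
  · rw [count_graph f hf 13 (by rw [card_SL3]; norm_num), stat_13]

end sl3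

end Cfsg.Agent.Lib.Helper4.Cg33
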