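import Mathlib
import Cfsg.Agent.Lib.Helper4.Cg33F
import Cfsg.Agent.Lib.Helper3.ClassCount

/-! Commuting graph of `PSL(3,3)` (helper4, for S3412), part G: a group with the centralizer
statistics of `SL(3,3)` is simple (a normal subgroup is a union of classes, and no sum of class
sizes containing `1` divides `5616` except `1` and `5616`). -/

set_option autoImplicit false
set_option linter.style.haveILetI false
set_option linter.unusedSectionVars false

namespace Cfsg.Agent.Lib.Helper4.Cg33

section simple

variable {H : Type*} [Group H] [Finite H]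

/-- the elements of a normal subgroup with a given centralizer order: their number is a multiple
of the class size -/
theorem dvd_card_normal_inter (N : Subgroup H) [N.Normal] (c m : ℕ) (hc : 0 < c)
    (hcm : Nat.card H = c * m) :
    m ∣ Nat.card {x : H // x ∈ N ∧ Nat.card (Subgroup.centralizer ({x} : Set H)) = c} := by
  classical
  haveI : Fintype H := Fintype.ofFinite H
  let P : ConjClasses H → Prop := fun C =>
    ∃ x : H, ConjClasses.mk x = C ∧ x ∈ N ∧ Nat.card (Subgroup.centralizer ({x} : Set H)) = c
  have hP : ∀ x : H, P (ConjClasses.mk x) ↔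
      (x ∈ N ∧ Nat.card (Subgroup.centralizer ({x} : Set H)) = c) := by
    intro x
    constructor
    · rintro ⟨y, hy, hyN, hyc⟩
      rw [ConjClasses.mk_eq_mk_iff_isConj, isConj_iff] at hy
      obtain ⟨g, rfl⟩ := hy
      refine ⟨Subgroup.Normal.conj_mem inferInstance y hyN g, ?_⟩
      rw [card_centralizer_conj, hyc]
    · intro hx
      exact ⟨x, rfl, hx⟩
  have h1 := Cfsg.Agent.Lib.Helper3.ClassCount.card_classes_mul_card (X := H) P
  have h2 : (∑ x : H, if P (ConjClasses.mk x) then
      Nat.card (Subgroup.centralizer ({x} : Set H)) else 0) =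
      c * Nat.card {x : H // x ∈ N ∧ Nat.card (Subgroup.centralizer ({x} : Set H)) = c} := by
    rw [Nat.card_eq_fintype_card, Fintype.card_subtype, Finset.card_filter, Finset.mul_sum]
    apply Finset.sum_congr rfl
    intro x _
    by_cases hx : x ∈ N ∧ Nat.card (Subgroup.centralizer ({x} : Set H)) = c
    · rw [if_pos ((hP x).mpr hx), if_pos hx, hx.2, mul_one]
    · rw [if_neg (fun h => hx ((hP x).mp h)), if_neg hx, mul_zero]
  rw [h2, hcm] at h1
  refine ⟨Nat.card {C : ConjClasses H // P C}, ?_⟩
  have h3 : c * (Nat.card {C : ConjClasses H // P C} * m) =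
      c * Nat.card {x : H // x ∈ N ∧ Nat.card (Subgroup.centralizer ({x} : Set H)) = c} := by
    rw [← h1]; ring
  rw [← Nat.eq_of_mul_eq_mul_left hc h3, mul_comm]

theorem card_normal_inter_le (N : Subgroup H) (c : ℕ) :
    Nat.card {x : H // x ∈ N ∧ Nat.card (Subgroup.centralizer ({x} : Set H)) = c} ≤
      Nat.card {x : H // Nat.card (Subgroup.centralizer ({x} : Set H)) = c} :=
  Nat.card_le_card_of_injective (fun x => ⟨x.1, x.2.2⟩)
    (fun x y h => Subtype.ext (Subtype.mk.inj h))

theorem numeric_key : ∀ a < 2, ∀ b < 2, ∀ c < 2, ∀ e < 4, ∀ g < 2, ∀ h < 5,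
    (1 + 117 * a + 104 * b + 624 * c + 702 * e + 936 * g + 432 * h) ∣ 5616 →
    (1 + 117 * a + 104 * b + 624 * c + 702 * e + 936 * g + 432 * h = 1 ∨
      1 + 117 * a + 104 * b + 624 * c + 702 * e + 936 * g + 432 * h = 5616) := by
  set_option synthInstance.maxSize 4000 in
  decide

/-- the partition of a subgroup by centralizer orders -/
theorem card_subgroup_split (hd : GData H) (N : Subgroup H) :
    Nat.card N = 1 +
      Nat.card {x : H // x ∈ N ∧ Nat.card (Subgroup.centralizer ({x} : Set H)) = 48} +
      Nat.card {x : H // x ∈ N ∧ Nat.card (Subgroup.centralizer ({x} : Set H)) = 54} +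
      Nat.card {x : H // x ∈ N ∧ Nat.card (Subgroup.centralizer ({x} : Set H)) = 9} +
      Nat.card {x : H // x ∈ N ∧ Nat.card (Subgroup.centralizer ({x} : Set H)) = 8} +
      Nat.card {x : H // x ∈ N ∧ Nat.card (Subgroup.centralizer ({x} : Set H)) = 6} +
      Nat.card {x : H // x ∈ N ∧ Nat.card (Subgroup.centralizer ({x} : Set H)) = 13} := by
  classical
  haveI : Fintype H := Fintype.ofFinite H
  set Nf : Finset H := Finset.univ.filter (fun x => x ∈ N) with hNf
  have hN : Nat.card N = Nf.card := by
    rw [Nat.card_eq_fintype_card, Fintype.card_subtype]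
  have hmaps : ∀ x ∈ Nf, Nat.card (Subgroup.centralizer ({x} : Set H)) ∈
      ({5616, 48, 54, 9, 8, 6, 13} : Finset ℕ) := by
    intro x _
    by_cases hx : x = 1
    · rw [hx, centralizer_one_eq_top, Subgroup.card_top, hd.card]
      decide
    · have := hd.mem x hx
      simp only [Finset.mem_insert, Finset.mem_singleton] at this ⊢
      tauto
  have hfib := Finset.card_eq_sum_card_fiberwise (s := Nf)
    (t := ({5616, 48, 54, 9, 8, 6, 13} : Finset ℕ))
    (f := fun x => Nat.card (Subgroup.centralizer ({x} : Set H))) hmaps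
  have hsub : ∀ c : ℕ,
      Nat.card {x : H // x ∈ N ∧ Nat.card (Subgroup.centralizer ({x} : Set H)) = c} =
      (Nf.filter (fun x => Nat.card (Subgroup.centralizer ({x} : Set H)) = c)).card := by
    intro c
    rw [Nat.card_eq_fintype_card, Fintype.card_subtype, hNf, Finset.filter_filter]
  have hone : (Nf.filter
      (fun x => Nat.card (Subgroup.centralizer ({x} : Set H)) = 5616)).card = 1 := by
    rw [Finset.card_eq_one]
    refine ⟨1, ?_⟩
    ext x
    simp only [hNf, Finset.mem_filter, Finset.mem_univ, true_and, Finset.mem_singleton]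
    constructor
    · rintro ⟨_, hx⟩
      by_contra hx1
      have := hd.mem x hx1
      rw [hx] at this
      revert this
      decide
    · rintro rfl
      refine ⟨N.one_mem, ?_⟩
      rw [centralizer_one_eq_top, Subgroup.card_top, hd.card]
  rw [hN, hfib, Finset.sum_insert (by decide), Finset.sum_insert (by decide),
    Finset.sum_insert (by decide), Finset.sum_insert (by decide), Finset.sum_insert (by decide),
    Finset.sum_insert (by decide), Finset.sum_singleton, hone, hsub, hsub, hsub, hsub, hsub, hsub]
  ring

theorem isSimpleGroup_of_gdata (hd : GData H) : IsSimpleGroup H := by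
  haveI : Nontrivial H := by
    rw [← Finite.one_lt_card_iff_nontrivial, hd.card]
    norm_num
  refine ⟨fun N hN => ?_⟩
  haveI := hN
  have hsplit := card_subgroup_split hd N
  obtain ⟨a, ha⟩ := dvd_card_normal_inter N 48 117 (by norm_num) (by rw [hd.card])
  obtain ⟨b, hb⟩ := dvd_card_normal_inter N 54 104 (by norm_num) (by rw [hd.card])
  obtain ⟨c, hc⟩ := dvd_card_normal_inter N 9 624 (by norm_num) (by rw [hd.card])
  obtain ⟨e, he⟩ := dvd_card_normal_inter N 8 702 (by norm_num) (by rw [hd.card])
  obtain ⟨g, hg⟩ := dvd_card_normal_inter N 6 936 (by norm_num) (by rw [hd.card])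
  obtain ⟨h, hh⟩ := dvd_card_normal_inter N 13 432 (by norm_num) (by rw [hd.card])
  have la := card_normal_inter_le N 48
  have lb := card_normal_inter_le N 54
  have lc := card_normal_inter_le N 9
  have le := card_normal_inter_le N 8
  have lg := card_normal_inter_le N 6
  have lh := card_normal_inter_le N 13
  rw [hd.n48, ha] at la
  rw [hd.n54, hb] at lb
  rw [hd.n9, hc] at lc
  rw [hd.n8, he] at le
  rw [hd.n6, hg] at lg
  rw [hd.n13, hh] at lh
  rw [ha, hb, hc, he, hg, hh] at hsplit
  have hdvd : Nat.card N ∣ 5616 := by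
    rw [← hd.card]
    exact Subgroup.card_subgroup_dvd_card N
  rw [hsplit] at hdvd
  have key := numeric_key a (by omega) b (by omega) c (by omega) e (by omega) g (by omega)
    h (by omega) hdvd
  rw [← hsplit] at key
  rcases key with h1 | h1
  · left
    exact Subgroup.card_eq_one.mp h1
  · right
    apply Subgroup.eq_top_of_card_eq
    rw [h1, hd.card]

end simple

end Cfsg.Agent.Lib.Helper4.Cg33
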