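import Mathlib
import Cfsg.Agent.Lib.Helper4.Cg33F
import Cfsg.Agent.Lib.Lead.SylowCount

/-! Commuting graph of `PSL(3,3)` (helper4, for S3412), part H: the self-centralizing subgroup
`D` of order `9`: it has exponent `3`, the elements with centralizer of order `54` form one class,
and the centralizer of a non-identity element `x` of `D` has a subgroup `S` of order `27`
containing `D` and normalizing it. -/

set_option autoImplicit false
set_option linter.style.haveILetI false
set_option linter.unusedSectionVars false

namespace Cfsg.Agent.Lib.Helper4.Cg33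

section dsub

variable {H : Type*} [Group H] [Finite H]

/-- hypotheses on the subgroup `D` -/
structure DHyp (D : Subgroup H) : Prop where
  card : Nat.card D = 9
  cent : Subgroup.centralizer (D : Set H) = D
  c54 : ∀ d ∈ D, d ≠ 1 → Nat.card (Subgroup.centralizer ({d} : Set H)) = 54

variable {D : Subgroup H}

theorem DHyp.comm (hD : DHyp D) {a b : H} (ha : a ∈ D) (hb : b ∈ D) : a * b = b * a := by
  have h : b ∈ Subgroup.centralizer (D : Set H) := by rw [hD.cent]; exact hb
  exact Subgroup.mem_centralizer_iff.mp h a ha

theorem DHyp.pow_nine (hD : DHyp D) {a : H} (ha : a ∈ D) : a ^ 9 = 1 := by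
  have h := pow_card_eq_one' (G := D) (x := ⟨a, ha⟩)
  rw [hD.card] at h
  exact congrArg Subtype.val h

theorem centralizer_singleton_le_zpowers (d : H) :
    Subgroup.centralizer ({d} : Set H) ≤ Subgroup.centralizer ((Subgroup.zpowers d : Subgroup H) : Set H) := by
  intro y hy
  rw [Subgroup.mem_centralizer_singleton_iff] at hy
  rw [Subgroup.mem_centralizer_iff]
  rintro _ ⟨k, rfl⟩
  have : Commute y d := hy
  exact ((this.zpow_right k).eq).symm

/-- `D` has exponent `3` -/
theorem DHyp.pow_three (hD : DHyp D) {d : H} (hd : d ∈ D) : d ^ 3 = 1 := by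
  by_contra h3
  have hd1 : d ≠ 1 := by
    rintro rfl
    exact h3 (one_pow 3)
  have h9 := hD.pow_nine hd
  have ho : orderOf d ∣ 9 := orderOf_dvd_of_pow_eq_one h9
  have ho3 : ¬ orderOf d ∣ 3 := fun h => h3 (orderOf_dvd_iff_pow_eq_one.mp h)
  have ho9 : orderOf d = 9 := by
    have : orderOf d ∈ Nat.divisors 9 := Nat.mem_divisors.mpr ⟨ho, by norm_num⟩
    have hdiv : Nat.divisors 9 = {1, 3, 9} := by decide
    rw [hdiv] at this
    simp only [Finset.mem_insert, Finset.mem_singleton] at this
    rcases this with h | h | h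
    · exact absurd (by rw [h]; norm_num) ho3
    · exact absurd (by rw [h]) ho3
    · exact h
  have hz : Subgroup.zpowers d = D := by
    apply Subgroup.eq_of_le_of_card_ge
    · rw [Subgroup.zpowers_le]; exact hd
    · rw [Nat.card_zpowers, ho9, hD.card]
  have hle : Subgroup.centralizer ({d} : Set H) ≤ D := by
    have := centralizer_singleton_le_zpowers d
    rw [hz, hD.cent] at this
    exact this
  have := Subgroup.card_le_of_le hle
  rw [hD.c54 d hd hd1, hD.card] at this
  omega

theorem DHyp.orderOf_eq (hD : DHyp D) {d : H} (hd : d ∈ D) (hd1 : d ≠ 1) : orderOf d = 3 := by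
  have := orderOf_dvd_of_pow_eq_one (hD.pow_three hd)
  rcases (Nat.dvd_prime Nat.prime_three).mp this with h | h
  · exact absurd (orderOf_eq_one_iff.mp h) hd1
  · exact h

/-- the elements with centralizer of order `54` form one conjugacy class -/
theorem DHyp.conj_of_card (hg : GData H) (hD : DHyp D) {d : H} (hd : d ∈ D) (hd1 : d ≠ 1) (x : H)
    (hx : Nat.card (Subgroup.centralizer ({x} : Set H)) = 54) : ∃ g : H, g * d * g⁻¹ = x := by
  classical
  haveI : Fintype H := Fintype.ofFinite H
  have h1 := Cfsg.Agent.Lib.Helper2.Bsw2.card_conj_mul_card_centralizer d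
  rw [hD.c54 d hd hd1, hg.card] at h1
  have h2 : Nat.card {x : H // ∃ g : H, g * d * g⁻¹ = x} = 104 := by omega
  have h3 := hg.n54
  rw [Nat.card_eq_fintype_card, Fintype.card_subtype] at h2 h3
  have hsub : (Finset.univ.filter (fun x : H => ∃ g : H, g * d * g⁻¹ = x)) ⊆
      (Finset.univ.filter (fun x : H => Nat.card (Subgroup.centralizer ({x} : Set H)) = 54)) := by
    intro y hy
    simp only [Finset.mem_filter, Finset.mem_univ, true_and] at hy ⊢
    obtain ⟨g, rfl⟩ := hy
    rw [card_centralizer_conj, hD.c54 d hd hd1]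
  have heq := Finset.eq_of_subset_of_card_le hsub (by rw [h2, h3])
  have : x ∈ Finset.univ.filter
      (fun x : H => Nat.card (Subgroup.centralizer ({x} : Set H)) = 54) := by
    simp only [Finset.mem_filter, Finset.mem_univ, true_and]
    exact hx
  rw [← heq] at this
  simpa only [Finset.mem_filter, Finset.mem_univ, true_and] using this

theorem DHyp.exists_ne_one (hD : DHyp D) : ∃ d ∈ D, d ≠ 1 := by
  by_contra h
  push Not at h
  have : D = ⊥ := by
    rw [eq_bot_iff]
    intro d hd
    rw [Subgroup.mem_bot]
    exact h d hd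
  have h1 := hD.card
  rw [this, Subgroup.card_bot] at h1
  omega

/-- an involution does not have a centralizer of order `54` -/
theorem DHyp.card_centralizer_invol (hg : GData H) (hD : DHyp D) {u : H} (hu1 : u ≠ 1)
    (hu2 : u * u = 1) :
    Nat.card (Subgroup.centralizer ({u} : Set H)) = 48 ∨
      Nat.card (Subgroup.centralizer ({u} : Set H)) = 8 ∨
        Nat.card (Subgroup.centralizer ({u} : Set H)) = 6 := by
  have hmem := hg.mem u hu1
  have hou : orderOf u = 2 := by
    apply orderOf_eq_prime
    · rw [pow_two]; exact hu2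
    · exact hu1
  have h2 : 2 ∣ Nat.card (Subgroup.centralizer ({u} : Set H)) := by
    have huC : u ∈ Subgroup.centralizer ({u} : Set H) := Subgroup.mem_centralizer_singleton_iff.mpr rfl
    have := orderOf_dvd_natCard (⟨u, huC⟩ : Subgroup.centralizer ({u} : Set H))
    rw [← hou]
    rwa [Subgroup.orderOf_mk] at this
  simp only [Finset.mem_insert, Finset.mem_singleton] at hmem
  rcases hmem with h | h | h | h | h | h
  · left; exact h
  · exfalso
    obtain ⟨d, hd, hd1⟩ := hD.exists_ne_one
    obtain ⟨g, hgd⟩ := hD.conj_of_card hg hd hd1 u h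
    have h3 : u ^ 3 = 1 := by
      rw [← hgd, conj_pow, hD.pow_three hd]
      group
    apply hu1
    calc u = u ^ 3 * (u * u)⁻¹ := by group
      _ = 1 := by rw [h3, hu2]; group
  · rw [h] at h2; omega
  · right; left; exact h
  · right; right; exact h
  · rw [h] at h2; omega

end dsub

end Cfsg.Agent.Lib.Helper4.Cg33
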