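import Mathlib
import Cfsg.Agent.Lib.Helper4.Cg33H

/-! Commuting graph of `PSL(3,3)` (helper4, for S3412), part I: for a non-identity element `x` of
`D`, the centralizer of `x` (of order `54`) normalizes `D`. -/

set_option autoImplicit false
set_option linter.style.haveILetI false
set_option linter.unusedSectionVars false

namespace Cfsg.Agent.Lib.Helper4.Cg33

section ssub

variable {H : Type*} [Group H] [Finite H] {D : Subgroup H}

/-- a subgroup of order `27` of the centralizer of a non-identity element of `D` -/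
structure SHyp (D : Subgroup H) (x : H) (S : Subgroup H) : Prop where
  mem : x ∈ D
  ne : x ≠ 1
  le : S ≤ Subgroup.centralizer ({x} : Set H)
  card : Nat.card S = 27

theorem exists_SHyp (hD : DHyp D) {x : H} (hx : x ∈ D) (hx1 : x ≠ 1) :
    ∃ S : Subgroup H, SHyp D x S := by
  haveI : Fact (Nat.Prime 3) := ⟨Nat.prime_three⟩
  have hC := hD.c54 x hx hx1
  obtain ⟨K, hK⟩ := Sylow.exists_subgroup_card_pow_prime 3 (n := 3)
    (G := Subgroup.centralizer ({x} : Set H)) (by rw [hC]; norm_num)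
  refine ⟨K.map (Subgroup.centralizer ({x} : Set H)).subtype, hx, hx1, Subgroup.map_subtype_le K, ?_⟩
  rw [Subgroup.card_subtype, hK]
  norm_num

variable {x : H} {S : Subgroup H}

theorem SHyp.mul_self_mem (hD : DHyp D) (hS : SHyp D x S) {y : H}
    (hy : y ∈ Subgroup.centralizer ({x} : Set H)) : y * y ∈ S := by
  have h1 := Cfsg.Agent.Lib.Lead.SylowCount.card_mul_relIndex hS.le
  rw [hS.card, hD.c54 x hS.mem hS.ne] at h1
  have h2 : (S.subgroupOf (Subgroup.centralizer ({x} : Set H))).index = 2 := by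
    change S.relIndex (Subgroup.centralizer ({x} : Set H)) = 2
    omega
  have h3 := Subgroup.mul_self_mem_of_index_two h2 ⟨y, hy⟩
  rw [Subgroup.mem_subgroupOf] at h3
  exact h3

theorem SHyp.mem_of_pow (hD : DHyp D) (hS : SHyp D x S) {y : H}
    (hy : y ∈ Subgroup.centralizer ({x} : Set H)) (hy27 : y ^ 27 = 1) : y ∈ S := by
  have h1 := hS.mul_self_mem hD (Subgroup.pow_mem _ hy 14)
  have h2 : y ^ 14 * y ^ 14 = y := by
    calc y ^ 14 * y ^ 14 = y ^ 27 * y := by group
      _ = y := by rw [hy27, one_mul]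
  rwa [h2] at h1

theorem SHyp.pow_eq_one (hS : SHyp D x S) {s : H} (hs : s ∈ S) : s ^ 27 = 1 := by
  have h := pow_card_eq_one' (G := S) (x := ⟨s, hs⟩)
  rw [hS.card] at h
  exact congrArg Subtype.val h

theorem SHyp.D_le_cent (hD : DHyp D) (hS : SHyp D x S) :
    D ≤ Subgroup.centralizer ({x} : Set H) := by
  intro d hd
  rw [Subgroup.mem_centralizer_singleton_iff]
  exact hD.comm hd hS.mem

theorem SHyp.D_le (hD : DHyp D) (hS : SHyp D x S) : D ≤ S := by
  intro d hd
  apply hS.mem_of_pow hD (hS.D_le_cent hD hd)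
  calc d ^ 27 = (d ^ 3) ^ 9 := by rw [← pow_mul]
    _ = 1 := by rw [hD.pow_three hd, one_pow]

theorem SHyp.x_mem (hD : DHyp D) (hS : SHyp D x S) : x ∈ S := hS.D_le hD hS.mem

theorem SHyp.conj_mem (hD : DHyp D) (hS : SHyp D x S) {u s : H}
    (hu : u ∈ Subgroup.centralizer ({x} : Set H)) (hs : s ∈ S) : u * s * u⁻¹ ∈ S := by
  apply hS.mem_of_pow hD
  · exact Subgroup.mul_mem _ (Subgroup.mul_mem _ hu (hS.le hs)) (Subgroup.inv_mem _ hu)
  · rw [conj_pow, hS.pow_eq_one hs]
    group

theorem SHyp.le_normalizer (hD : DHyp D) (hS : SHyp D x S) :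
    S ≤ Subgroup.normalizer (D : Set H) := by
  rw [← Subgroup.normal_subgroupOf_iff_le_normalizer (hS.D_le hD)]
  apply Subgroup.normal_of_index_eq_minFac_card
  have h1 := Cfsg.Agent.Lib.Lead.SylowCount.card_mul_relIndex (hS.D_le hD)
  rw [hS.card, hD.card] at h1
  have h2 : (D.subgroupOf S).index = 3 := by
    change D.relIndex S = 3
    omega
  rw [h2, hS.card]
  norm_num

/-- conjugation by an element of `S` preserves `D` -/
theorem SHyp.conj_mem_D (hD : DHyp D) (hS : SHyp D x S) {s d : H} (hs : s ∈ S) (hd : d ∈ D) :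
    s * d * s⁻¹ ∈ D :=
  (Subgroup.mem_normalizer_iff.mp (hS.le_normalizer hD hs) d).mp hd

theorem SHyp.zpowers_card (hD : DHyp D) (hS : SHyp D x S) : Nat.card (Subgroup.zpowers x) = 3 := by
  rw [Nat.card_zpowers, hD.orderOf_eq hS.mem hS.ne]

/-- the fixed points on `S` of an involution of the centralizer of `x` -/
theorem SHyp.mem_zpowers_of_comm (hg : GData H) (hD : DHyp D) (hS : SHyp D x S) {u : H}
    (hu : u ∈ Subgroup.centralizer ({x} : Set H)) (hu1 : u ≠ 1) (hu2 : u * u = 1) {c : H}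
    (hc : c ∈ S) (hcu : u * c = c * u) : c ∈ Subgroup.zpowers x := by
  set K : Subgroup H := S ⊓ Subgroup.centralizer ({u} : Set H) with hK
  have hK27 : Nat.card K ∣ 27 := by
    rw [← hS.card]
    exact Subgroup.card_dvd_of_le inf_le_left
  have hKu : Nat.card K ∣ Nat.card (Subgroup.centralizer ({u} : Set H)) :=
    Subgroup.card_dvd_of_le inf_le_right
  have hK3 : Nat.card K ∣ 3 := by
    have h27 : Nat.card K ∈ Nat.divisors 27 := Nat.mem_divisors.mpr ⟨hK27, by norm_num⟩
    have hdiv : Nat.divisors 27 = {1, 3, 9, 27} := by decide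
    rw [hdiv] at h27
    simp only [Finset.mem_insert, Finset.mem_singleton] at h27
    rcases hD.card_centralizer_invol hg hu1 hu2 with h | h | h <;> rw [h] at hKu <;>
      rcases h27 with h' | h' | h' | h' <;> rw [h'] at hKu ⊢ <;> omega
  have hzK : Subgroup.zpowers x ≤ K := by
    rw [Subgroup.zpowers_le, hK, Subgroup.mem_inf]
    refine ⟨hS.x_mem hD, ?_⟩
    rw [Subgroup.mem_centralizer_singleton_iff]
    exact (Subgroup.mem_centralizer_singleton_iff.mp hu).symm
  have hKle : Nat.card K ≤ 3 := Nat.le_of_dvd (by norm_num) hK3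
  have heq : Subgroup.zpowers x = K := by
    apply Subgroup.eq_of_le_of_card_ge hzK
    rw [hS.zpowers_card hD]
    exact hKle
  rw [heq, hK, Subgroup.mem_inf]
  exact ⟨hc, Subgroup.mem_centralizer_singleton_iff.mpr hcu.symm⟩

end ssub

end Cfsg.Agent.Lib.Helper4.Cg33
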