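import Mathlib
import Cfsg.Agent.Lib.Helper4.Cg33I

/-! Commuting graph of `PSL(3,3)` (helper4, for S3412), part J: an involution centralizing a
non-identity element `x` of `D` normalizes `D`; hence the centralizer of `x` normalizes `D`. -/

set_option autoImplicit false
set_option linter.style.haveILetI false
set_option linter.unusedSectionVars false

namespace Cfsg.Agent.Lib.Helper4.Cg33

section usub

variable {H : Type*} [Group H] [Finite H] {D : Subgroup H} {x : H} {S : Subgroup H}

/-- the main computation: if the only common elements of `D` and its conjugate under `u` are the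
powers of `x`, then `u` maps `D` into `D` -/
theorem SHyp.conj_mem_of_inter (hg : GData H) (hD : DHyp D) (hS : SHyp D x S) {u : H}
    (hu : u ∈ Subgroup.centralizer ({x} : Set H)) (hu1 : u ≠ 1) (hu2 : u * u = 1)
    (hE : ∀ y : H, y ∈ D → (∃ d ∈ D, u * d * u⁻¹ = y) → y ∈ Subgroup.zpowers x)
    {a : H} (ha : a ∈ D) : u * a * u⁻¹ ∈ D := by
  have hui : u⁻¹ = u := inv_eq_of_mul_eq_one_right hu2
  have hzD : Subgroup.zpowers x ≤ D := by
    rw [Subgroup.zpowers_le]; exact hS.mem
  have huC : u⁻¹ ∈ Subgroup.centralizer ({x} : Set H) := Subgroup.inv_mem _ hu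
  set b : H := u * a * u⁻¹ with hb
  have haS : a ∈ S := hS.D_le hD ha
  have hbS : b ∈ S := hS.conj_mem hD hu haS
  set ζ : H := b⁻¹ * a⁻¹ * b * a with hζ
  have hζD : ζ ∈ D := by
    have h1 : b⁻¹ * a⁻¹ * (b⁻¹)⁻¹ ∈ D :=
      hS.conj_mem_D hD (S.inv_mem hbS) (D.inv_mem ha)
    rw [inv_inv] at h1
    exact D.mul_mem h1 ha
  have hζD' : ∃ d ∈ D, u * d * u⁻¹ = ζ := by
    -- `s = u⁻¹ a u ∈ S`
    have hs : u⁻¹ * a * (u⁻¹)⁻¹ ∈ S := hS.conj_mem hD huC haS
    rw [inv_inv] at hs
    have h1 : (u⁻¹ * a * u)⁻¹ * a * ((u⁻¹ * a * u)⁻¹)⁻¹ ∈ D :=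
      hS.conj_mem_D hD (S.inv_mem hs) ha
    rw [inv_inv] at h1
    refine ⟨a⁻¹ * ((u⁻¹ * a * u)⁻¹ * a * (u⁻¹ * a * u)), D.mul_mem (D.inv_mem ha) h1, ?_⟩
    rw [hζ, hb]
    group
  have hζz : ζ ∈ Subgroup.zpowers x := hE ζ hζD hζD'
  have hζ3 : ζ ^ 3 = 1 := hD.pow_three hζD
  have hζu : u * ζ * u⁻¹ = ζ := by
    have h1 := centralizer_singleton_le_zpowers x hu
    rw [Subgroup.mem_centralizer_iff] at h1
    have h2 := h1 ζ hζz
    rw [← h2]
    group
  set c : H := a * b with hc
  have hcu : u * c * u⁻¹ = c * ζ := by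
    have h1 : u * b * u⁻¹ = a := by
      rw [hb]
      calc u * (u * a * u⁻¹) * u⁻¹ = (u * u) * a * (u * u)⁻¹ := by group
        _ = a := by rw [hu2]; group
    calc u * c * u⁻¹ = (u * a * u⁻¹) * (u * b * u⁻¹) := by rw [hc]; group
      _ = b * a := by rw [h1]
      _ = c * ζ := by rw [hc, hζ]; group
  have hζζ : ζ * ζ = 1 := by
    have h1 : u * (u * c * u⁻¹) * u⁻¹ = c := by
      calc u * (u * c * u⁻¹) * u⁻¹ = (u * u) * c * (u * u)⁻¹ := by group
        _ = c := by rw [hu2]; group
    rw [hcu] at h1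
    have h2 : u * (c * ζ) * u⁻¹ = (u * c * u⁻¹) * (u * ζ * u⁻¹) := by group
    rw [h2, hcu, hζu] at h1
    have h3 : c * (ζ * ζ) = c * 1 := by rw [mul_one, ← mul_assoc]; exact h1
    exact mul_left_cancel h3
  have hζ1 : ζ = 1 := by
    calc ζ = ζ ^ 3 * (ζ * ζ)⁻¹ := by group
      _ = 1 := by rw [hζ3, hζζ]; group
  have hcu' : u * c = c * u := by
    rw [hζ1, mul_one] at hcu
    calc u * c = (u * c * u⁻¹) * u := by group
      _ = c * u := by rw [hcu]
  have hcS : c ∈ S := S.mul_mem haS hbS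
  have hcz : c ∈ Subgroup.zpowers x := hS.mem_zpowers_of_comm hg hD hu hu1 hu2 hcS hcu'
  have hbc : b = a⁻¹ * c := by rw [hc]; group
  rw [hbc]
  exact D.mul_mem (D.inv_mem ha) (hzD hcz)

/-- an involution centralizing `x` normalizes `D` -/
theorem SHyp.invol_conj_mem (hg : GData H) (hD : DHyp D) (hS : SHyp D x S) {u : H}
    (hu : u ∈ Subgroup.centralizer ({x} : Set H)) (hu1 : u ≠ 1) (hu2 : u * u = 1)
    {a : H} (ha : a ∈ D) : u * a * u⁻¹ ∈ D := by
  set D' : Subgroup H := D.map (MulAut.conj u).toMonoidHom with hD'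
  have hmem : ∀ y : H, y ∈ D' ↔ ∃ d ∈ D, u * d * u⁻¹ = y := by
    intro y
    rw [hD', Subgroup.mem_map]
    simp only [MulEquiv.coe_toMonoidHom, MulAut.conj_apply]
  have hcard : Nat.card D' = 9 := by
    rw [hD', Subgroup.card_map_of_injective (MulAut.conj u).injective, hD.card]
  set E : Subgroup H := D ⊓ D' with hE
  have hxE : Subgroup.zpowers x ≤ E := by
    rw [Subgroup.zpowers_le, hE, Subgroup.mem_inf]
    refine ⟨hS.mem, (hmem x).mpr ⟨x, hS.mem, ?_⟩⟩
    have := Subgroup.mem_centralizer_singleton_iff.mp hu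
    rw [this]
    group
  have hE9 : Nat.card E ∣ 9 := by
    rw [← hD.card]
    exact Subgroup.card_dvd_of_le inf_le_left
  have hE3 : 3 ≤ Nat.card E := by
    rw [← hS.zpowers_card hD]
    exact Subgroup.card_le_of_le hxE
  have hEcases : Nat.card E = 3 ∨ Nat.card E = 9 := by
    have h9 : Nat.card E ∈ Nat.divisors 9 := Nat.mem_divisors.mpr ⟨hE9, by norm_num⟩
    have hdiv : Nat.divisors 9 = {1, 3, 9} := by decide
    rw [hdiv] at h9
    simp only [Finset.mem_insert, Finset.mem_singleton] at h9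
    rcases h9 with h | h | h
    · omega
    · left; exact h
    · right; exact h
  rcases hEcases with h3 | h9
  · have hEz : Subgroup.zpowers x = E := by
      apply Subgroup.eq_of_le_of_card_ge hxE
      rw [hS.zpowers_card hD, h3]
    apply hS.conj_mem_of_inter hg hD hu hu1 hu2 _ ha
    intro y hyD hyD'
    rw [hEz, hE, Subgroup.mem_inf]
    exact ⟨hyD, (hmem y).mpr hyD'⟩
  · have hED : E = D := by
      apply Subgroup.eq_of_le_of_card_ge inf_le_left
      rw [h9, hD.card]
    have hDD' : D ≤ D' := by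
      rw [← hED]
      exact inf_le_right
    have heq : D = D' := by
      apply Subgroup.eq_of_le_of_card_ge hDD'
      rw [hcard, hD.card]
    rw [heq, hmem]
    exact ⟨a, ha, rfl⟩

/-- the centralizer of `x` normalizes `D` -/
theorem SHyp.centralizer_le_normalizer (hg : GData H) (hD : DHyp D) (hS : SHyp D x S) :
    Subgroup.centralizer ({x} : Set H) ≤ Subgroup.normalizer (D : Set H) := by
  haveI : Fact (Nat.Prime 2) := ⟨Nat.prime_two⟩
  have hC := hD.c54 x hS.mem hS.ne
  -- an involution in the centralizer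
  obtain ⟨u', hu'⟩ := exists_prime_orderOf_dvd_card' (G := Subgroup.centralizer ({x} : Set H)) 2
    (by rw [hC]; norm_num)
  set u : H := (u' : H) with hu
  have huC : u ∈ Subgroup.centralizer ({x} : Set H) := u'.2
  have hou : orderOf u = 2 := by rw [hu, Subgroup.orderOf_coe, hu']
  have hu1 : u ≠ 1 := by
    intro h
    rw [h, orderOf_one] at hou
    omega
  have hu2 : u * u = 1 := by
    rw [← pow_two, ← hou]
    exact pow_orderOf_eq_one u
  -- `u` normalizes `D`
  have huN : u ∈ Subgroup.normalizer (D : Set H) := by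
    rw [Subgroup.mem_normalizer_iff]
    intro d
    constructor
    · intro hd
      exact hS.invol_conj_mem hg hD huC hu1 hu2 hd
    · intro hd
      have h1 := hS.invol_conj_mem hg hD huC hu1 hu2 hd
      have hui : u⁻¹ = u := inv_eq_of_mul_eq_one_right hu2
      have h2 : u * (u * d * u⁻¹) * u⁻¹ = d := by
        calc u * (u * d * u⁻¹) * u⁻¹ = (u * u) * d * (u * u)⁻¹ := by group
          _ = d := by rw [hu2]; group
      rwa [h2] at h1
  have huS : u ∉ S := by
    intro h
    have h27 := hS.pow_eq_one h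
    apply hu1
    have h26 : u ^ 26 = 1 := by
      calc u ^ 26 = (u * u) ^ 13 := by rw [← pow_two, ← pow_mul]
        _ = 1 := by rw [hu2, one_pow]
    calc u = u ^ 27 * (u ^ 26)⁻¹ := by group
      _ = 1 := by rw [h27, h26]; group
  -- the part of the centralizer normalizing `D`
  set K : Subgroup H := Subgroup.normalizer (D : Set H) ⊓ Subgroup.centralizer ({x} : Set H)
    with hK
  have hSK : S ≤ K := le_inf (hS.le_normalizer hD) hS.le
  have hK54 : Nat.card K ∣ 54 := by
    rw [← hC]
    exact Subgroup.card_dvd_of_le inf_le_right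
  have hK27 : 27 ∣ Nat.card K := by
    rw [← hS.card]
    exact Subgroup.card_dvd_of_le hSK
  have hKne : Nat.card K ≠ 27 := by
    intro h
    have : S = K := by
      apply Subgroup.eq_of_le_of_card_ge hSK
      rw [h, hS.card]
    apply huS
    rw [this, hK, Subgroup.mem_inf]
    exact ⟨huN, huC⟩
  have hK54' : Nat.card K = 54 := by
    obtain ⟨m, hm⟩ := hK27
    rw [hm] at hK54 hKne ⊢
    have hm2 : m ∣ 2 := by
      have : 27 * m ∣ 27 * 2 := hK54
      exact Nat.dvd_of_mul_dvd_mul_left (by norm_num) this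
    have hmle : m ≤ 2 := Nat.le_of_dvd (by norm_num) hm2
    have hm0 : m ≠ 0 := by
      rintro rfl
      simp at hm2
    have hm12 : m = 1 ∨ m = 2 := by omega
    rcases hm12 with rfl | rfl
    · exact absurd rfl hKne
    · rfl
  have hKC : K = Subgroup.centralizer ({x} : Set H) := by
    apply Subgroup.eq_of_le_of_card_ge inf_le_right
    rw [hK54', hC]
  rw [← hKC]
  exact inf_le_left

end usub

end Cfsg.Agent.Lib.Helper4.Cg33
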