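import Mathlib
import Cfsg.Agent.Lib.Helper4.Cg33J
import Cfsg.Agent.Lib.Helper4.SylTwoMax1

/-! Commuting graph of `PSL(3,3)` (helper4, for S3412), part K: the normalizer of `D` permutes
the four subgroups of order `3` of `D` transitively (Sylow's theorem in the normalizer). -/

set_option autoImplicit false
set_option linter.style.haveILetI false
set_option linter.unusedSectionVars false

namespace Cfsg.Agent.Lib.Helper4.Cg33

section conj

variable {H : Type*} [Group H] [Finite H]

/-- two subgroups of a subgroup `N` whose order is the full `p`-part of `|N|` are conjugate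
in `N` -/
theorem exists_conj_of_card_pow (N S S' : Subgroup H) (hS : S ≤ N) (hS' : S' ≤ N) (p k m : ℕ)
    [hp : Fact p.Prime] (hN : Nat.card N = p ^ k * m) (hm : ¬ p ∣ m) (hcS : Nat.card S = p ^ k)
    (hcS' : Nat.card S' = p ^ k) : ∃ n ∈ N, ∀ s ∈ S, n * s * n⁻¹ ∈ S' := by
  have hT : IsPGroup p (S.subgroupOf N) := by
    apply IsPGroup.of_card (n := k)
    rw [Nat.card_congr (Subgroup.subgroupOfEquivOfLe hS).toEquiv, hcS]
  have hT' : IsPGroup p (S'.subgroupOf N) := by
    apply IsPGroup.of_card (n := k)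
    rw [Nat.card_congr (Subgroup.subgroupOfEquivOfLe hS').toEquiv, hcS']
  obtain ⟨Q, hQ⟩ := hT'.exists_le_sylow
  have hQcard : Nat.card Q = p ^ k :=
    Cfsg.Agent.Lib.Lead.SylowCount.card_sylow_of_card_eq_pow p k m hN hm Q
  have hQeq : S'.subgroupOf N = (Q : Subgroup N) := by
    apply Subgroup.eq_of_le_of_card_ge hQ
    rw [hQcard, Nat.card_congr (Subgroup.subgroupOfEquivOfLe hS').toEquiv, hcS']
  obtain ⟨g, hg⟩ := Cfsg.Agent.Lib.Helper4.SylTwoMax1.exists_conj_le_sylow Q (S.subgroupOf N) hT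
  refine ⟨(g : H), g.2, fun s hs => ?_⟩
  have h1 := hg ⟨s, hS hs⟩ (Subgroup.mem_subgroupOf.mpr hs)
  change g * ⟨s, hS hs⟩ * g⁻¹ ∈ (Q : Subgroup N) at h1
  rw [← hQeq, Subgroup.mem_subgroupOf] at h1
  exact h1

/-- ... and then conjugation is onto -/
theorem exists_conj_surj (S S' : Subgroup H) (n : H) (hc : Nat.card S = Nat.card S')
    (h : ∀ s ∈ S, n * s * n⁻¹ ∈ S') : ∀ s' ∈ S', ∃ s ∈ S, n * s * n⁻¹ = s' := by
  have hle : S.map (MulAut.conj n).toMonoidHom ≤ S' := by
    rintro _ ⟨s, hs, rfl⟩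
    simp only [MulEquiv.coe_toMonoidHom, MulAut.conj_apply]
    exact h s hs
  have heq : S.map (MulAut.conj n).toMonoidHom = S' := by
    apply Subgroup.eq_of_le_of_card_ge hle
    rw [Subgroup.card_map_of_injective (MulAut.conj n).injective, hc]
  intro s' hs'
  rw [← heq] at hs'
  obtain ⟨s, hs, rfl⟩ := hs'
  exact ⟨s, hs, by simp only [MulEquiv.coe_toMonoidHom, MulAut.conj_apply]⟩

variable {D : Subgroup H}

theorem card_normalizer_eq (hg : GData H) (hD : DHyp D) {x : H} {S : Subgroup H}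
    (hS : SHyp D x S) :
    ∃ m : ℕ, Nat.card (Subgroup.normalizer (D : Set H)) = 3 ^ 3 * m ∧ ¬ 3 ∣ m := by
  have h1 : 27 ∣ Nat.card (Subgroup.normalizer (D : Set H)) := by
    rw [← hS.card]
    exact Subgroup.card_dvd_of_le (hS.le_normalizer hD)
  have h2 : Nat.card (Subgroup.normalizer (D : Set H)) ∣ 5616 := by
    rw [← hg.card]
    exact Subgroup.card_subgroup_dvd_card _
  obtain ⟨m, hm⟩ := h1
  refine ⟨m, by rw [hm]; norm_num, ?_⟩
  rw [hm] at h2
  have h3 : m ∣ 208 := by
    have : 27 * m ∣ 27 * 208 := h2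
    exact Nat.dvd_of_mul_dvd_mul_left (by norm_num) this
  intro h4
  have := dvd_trans h4 h3
  omega

/-- the normalizer of `D` moves `x` into any prescribed subgroup of order `3` of `D` -/
theorem exists_conj_mem_zpowers (hg : GData H) (hD : DHyp D) {x x' : H} {S S' : Subgroup H}
    (hS : SHyp D x S) (hS' : SHyp D x' S') :
    ∃ n ∈ Subgroup.normalizer (D : Set H), n * x * n⁻¹ ∈ Subgroup.zpowers x' := by
  haveI : Fact (Nat.Prime 3) := ⟨Nat.prime_three⟩
  obtain ⟨m, hm, hm3⟩ := card_normalizer_eq hg hD hS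
  obtain ⟨n, hn, hconj⟩ := exists_conj_of_card_pow (Subgroup.normalizer (D : Set H)) S S'
    (hS.le_normalizer hD) (hS'.le_normalizer hD) 3 3 m hm hm3 (by rw [hS.card]; norm_num)
    (by rw [hS'.card]; norm_num)
  have hsurj := exists_conj_surj S S' n (by rw [hS.card, hS'.card]) hconj
  refine ⟨n, hn, ?_⟩
  set y : H := n * x * n⁻¹ with hy
  -- `y` commutes with all of `S'`
  have hyS' : ∀ s' ∈ S', s' * y = y * s' := by
    intro s' hs'
    obtain ⟨s, hs, rfl⟩ := hsurj s' hs'
    have h1 : s * x = x * s := Subgroup.mem_centralizer_singleton_iff.mp (hS.le hs)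
    rw [hy]
    calc n * s * n⁻¹ * (n * x * n⁻¹) = n * (s * x) * n⁻¹ := by group
      _ = n * (x * s) * n⁻¹ := by rw [h1]
      _ = n * x * n⁻¹ * (n * s * n⁻¹) := by group
  have hyD : y ∈ D := by
    rw [← hD.cent, Subgroup.mem_centralizer_iff]
    intro d hd
    exact hyS' d (hS'.D_le hD hd)
  set K : Subgroup H := D ⊓ Subgroup.centralizer (S' : Set H) with hK
  have hzK : Subgroup.zpowers x' ≤ K := by
    rw [Subgroup.zpowers_le, hK, Subgroup.mem_inf]
    refine ⟨hS'.mem, ?_⟩
    rw [Subgroup.mem_centralizer_iff]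
    intro s' hs'
    exact Subgroup.mem_centralizer_singleton_iff.mp (hS'.le hs')
  have hyK : y ∈ K := by
    rw [hK, Subgroup.mem_inf]
    refine ⟨hyD, ?_⟩
    rw [Subgroup.mem_centralizer_iff]
    exact hyS'
  have hK9 : Nat.card K ∣ 9 := by
    rw [← hD.card]
    exact Subgroup.card_dvd_of_le inf_le_left
  have hK3 : 3 ≤ Nat.card K := by
    rw [← hS'.zpowers_card hD]
    exact Subgroup.card_le_of_le hzK
  have hKne : Nat.card K ≠ 9 := by
    intro h9
    have hKD : K = D := by
      apply Subgroup.eq_of_le_of_card_ge inf_le_left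
      rw [h9, hD.card]
    have hDle : D ≤ Subgroup.centralizer (S' : Set H) := by
      rw [← hKD]
      exact inf_le_right
    have hS'le : S' ≤ Subgroup.centralizer (D : Set H) := Subgroup.le_centralizer_iff.mp hDle
    rw [hD.cent] at hS'le
    have := Subgroup.card_le_of_le hS'le
    rw [hS'.card, hD.card] at this
    omega
  have hKcard : Nat.card K = 3 := by
    have h9 : Nat.card K ∈ Nat.divisors 9 := Nat.mem_divisors.mpr ⟨hK9, by norm_num⟩
    have hdiv : Nat.divisors 9 = {1, 3, 9} := by decide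
    rw [hdiv] at h9
    simp only [Finset.mem_insert, Finset.mem_singleton] at h9
    rcases h9 with h | h | h
    · omega
    · exact h
    · exact absurd h hKne
  have hzeq : Subgroup.zpowers x' = K := by
    apply Subgroup.eq_of_le_of_card_ge hzK
    rw [hS'.zpowers_card hD, hKcard]
  rw [hzeq]
  exact hyK

end conj

end Cfsg.Agent.Lib.Helper4.Cg33
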