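import Mathlib
import Cfsg.Agent.Lib.Helper4.Cg33K
import Cfsg.Agent.Lib.Helper4.Cg33G
import Cfsg.Agent.Lib.Helper7.Ix13B3
import Cfsg.Agent.Lib.Lead.SEInvol

/-! Commuting graph of `PSL(3,3)` (helper4, for S3412), part L: the normalizer of `D` has order
`432`, and the data needed for the recognition of `PSL(3,3)`. -/

set_option autoImplicit false
set_option linter.style.haveILetI false
set_option linter.unusedSectionVars false

namespace Cfsg.Agent.Lib.Helper4.Cg33

section final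

variable {H : Type*} [Group H] [Finite H] {D : Subgroup H}

theorem mem_zpowers_cases {x y : H} (hx : x ^ 3 = 1) (hy : y ∈ Subgroup.zpowers x) :
    y = 1 ∨ y = x ∨ y = x⁻¹ := by
  obtain ⟨k, rfl⟩ := hy
  have h1 : x ^ k = x ^ (k % ((3 : ℕ) : ℤ)) := zpow_eq_zpow_emod' k hx
  have h2 : 0 ≤ k % ((3 : ℕ) : ℤ) := Int.emod_nonneg k (by norm_num)
  have h3 : k % ((3 : ℕ) : ℤ) < 3 := Int.emod_lt_of_pos k (by norm_num)
  show x ^ k = 1 ∨ x ^ k = x ∨ x ^ k = x⁻¹
  rw [h1]
  generalize k % ((3 : ℕ) : ℤ) = r at h2 h3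
  interval_cases r
  · left; simp
  · right; left; simp
  · right; right
    have : x ^ (2 : ℤ) = x ^ 3 * x⁻¹ := by group
    rw [this, hx, one_mul]

theorem card_normalizer_D (hg : GData H) (hD : DHyp D) :
    Nat.card (Subgroup.normalizer (D : Set H)) = 432 := by
  classical
  obtain ⟨x, hx, hx1⟩ := hD.exists_ne_one
  obtain ⟨S, hS⟩ := exists_SHyp hD hx hx1
  set N : Subgroup H := Subgroup.normalizer (D : Set H) with hN
  have hDN : D ≤ N := Subgroup.le_normalizer
  -- orbit-stabilizer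
  have horb := Cfsg.Agent.Lib.Lead.SE.card_conjOrbit_mul N x
  have hstab : Subgroup.centralizer ({x} : Set H) ⊓ N = Subgroup.centralizer ({x} : Set H) :=
    inf_eq_left.mpr (hS.centralizer_le_normalizer hg hD)
  rw [hstab, hD.c54 x hx hx1] at horb
  -- the orbit lies in `D` minus the identity
  have horbD : ∀ b : H, (∃ n ∈ N, n * x * n⁻¹ = b) → b ∈ D ∧ b ≠ 1 := by
    rintro b ⟨n, hn, rfl⟩
    refine ⟨(Subgroup.mem_normalizer_iff.mp hn x).mp hx, ?_⟩
    intro h
    apply hx1
    calc x = n⁻¹ * (n * x * n⁻¹) * n := by group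
      _ = 1 := by rw [h]; group
  have hD8 : Nat.card {b : H // b ∈ D ∧ b ≠ 1} = 8 := by
    have h1 := card_eq_succ' D
    rw [hD.card] at h1
    have h2 : Nat.card {b : H // b ∈ D ∧ b ≠ 1} = Nat.card {k : D // k ≠ 1} := by
      apply Nat.card_congr
      refine ⟨fun b => ⟨⟨b.1, b.2.1⟩, fun h => b.2.2 (congrArg Subtype.val h)⟩,
        fun k => ⟨k.1.1, k.1.2, fun h => k.2 (Subtype.ext h)⟩, fun b => rfl, fun k => rfl⟩
    omega
  have hle8 : Nat.card {b : H // ∃ n ∈ N, n * x * n⁻¹ = b} ≤ 8 := by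
    rw [← hD8]
    exact Nat.card_le_card_of_injective (fun b => ⟨b.1, horbD b.1 b.2⟩)
      (fun a b h => Subtype.ext (Subtype.mk.inj h))
  -- an element outside the powers of `x`
  have hex' : ∃ x' ∈ D, x' ∉ Subgroup.zpowers x := by
    by_contra h
    push Not at h
    have hle : D ≤ Subgroup.zpowers x := h
    have := Subgroup.card_le_of_le hle
    rw [hD.card, hS.zpowers_card hD] at this
    omega
  obtain ⟨x', hx', hx'z⟩ := hex'
  have hx'1 : x' ≠ 1 := by
    rintro rfl
    exact hx'z (Subgroup.one_mem _)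
  obtain ⟨S', hS'⟩ := exists_SHyp hD hx' hx'1
  -- the orbit has at least two elements
  have hge2 : 2 ≤ Nat.card {b : H // ∃ n ∈ N, n * x * n⁻¹ = b} := by
    obtain ⟨n, hn, hnz⟩ := exists_conj_mem_zpowers hg hD hS hS'
    have hne : n * x * n⁻¹ ≠ x := by
      intro h
      rw [h] at hnz
      have hle : Subgroup.zpowers x ≤ Subgroup.zpowers x' := by
        rw [Subgroup.zpowers_le]; exact hnz
      have heq : Subgroup.zpowers x = Subgroup.zpowers x' := by
        apply Subgroup.eq_of_le_of_card_ge hle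
        rw [hS.zpowers_card hD, hS'.zpowers_card hD]
      apply hx'z
      rw [heq]
      exact Subgroup.mem_zpowers x'
    have : Nontrivial {b : H // ∃ n ∈ N, n * x * n⁻¹ = b} :=
      ⟨⟨⟨n * x * n⁻¹, n, hn, rfl⟩, ⟨x, 1, N.one_mem, by group⟩,
        fun h => hne (Subtype.mk.inj h)⟩⟩
    exact Finite.one_lt_card
  -- so `4` divides the order of the normalizer
  have hNdvd : Nat.card N ∣ 5616 := by
    rw [← hg.card]
    exact Subgroup.card_subgroup_dvd_card _
  have h4 : 2 ^ 2 ∣ Nat.card N := by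
    rw [← horb] at hNdvd ⊢
    set o := Nat.card {b : H // ∃ n ∈ N, n * x * n⁻¹ = b} with ho
    have ho104 : o ∣ 104 := by
      have : o * 54 ∣ 104 * 54 := hNdvd
      exact Nat.dvd_of_mul_dvd_mul_right (by norm_num) this
    have : o = 2 ∨ o = 4 ∨ o = 8 := by
      have hmem : o ∈ Nat.divisors 104 := Nat.mem_divisors.mpr ⟨ho104, by norm_num⟩
      have hdiv : Nat.divisors 104 = {1, 2, 4, 8, 13, 26, 52, 104} := by decide
      rw [hdiv] at hmem
      simp only [Finset.mem_insert, Finset.mem_singleton] at hmem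
      omega
    rcases this with h | h | h <;> rw [h] <;> norm_num
  -- a subgroup of order `4` and an element inverting `D`
  haveI : Fact (Nat.Prime 2) := ⟨Nat.prime_two⟩
  obtain ⟨U', hU'⟩ := Sylow.exists_subgroup_card_pow_prime 2 (n := 2) (G := N) h4
  set U : Subgroup H := U'.map N.subtype with hU
  have hUN : U ≤ N := Subgroup.map_subtype_le U'
  have hUcard : Nat.card U = 4 := by
    rw [hU, Subgroup.card_subtype, hU']
    norm_num
  obtain ⟨z, hzU, hz⟩ := Cfsg.Agent.Lib.Helper7.Ix13B3.exists_inverting D U hD.card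
    (fun d hd => hD.pow_three hd) hD.cent hUN hUcard
  have hzN : z ∈ N := hUN hzU
  -- the orbit is all of `D` minus the identity
  have hall : ∀ b : H, b ∈ D ∧ b ≠ 1 → ∃ n ∈ N, n * x * n⁻¹ = b := by
    rintro b ⟨hb, hb1⟩
    obtain ⟨Sb, hSb⟩ := exists_SHyp hD hb hb1
    obtain ⟨n, hn, hnz⟩ := exists_conj_mem_zpowers hg hD hS hSb
    have hy1 := (horbD (n * x * n⁻¹) ⟨n, hn, rfl⟩)
    rcases mem_zpowers_cases (hD.pow_three hb) hnz with h | h | h
    · exact absurd h hy1.2
    · exact ⟨n, hn, h⟩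
    · refine ⟨z * n, N.mul_mem hzN hn, ?_⟩
      calc z * n * x * (z * n)⁻¹ = z * (n * x * n⁻¹) * z⁻¹ := by group
        _ = (n * x * n⁻¹)⁻¹ := hz _ hy1.1
        _ = b := by rw [h, inv_inv]
  have heq8 : Nat.card {b : H // ∃ n ∈ N, n * x * n⁻¹ = b} = 8 := by
    rw [← hD8]
    apply Nat.card_congr
    exact Equiv.subtypeEquivRight (fun b => ⟨horbD b, hall b⟩)
  rw [heq8] at horb
  omega

/-- all the data for the recognition theorem -/
theorem exists_D_of_gdata (hg : GData H) :
    ∃ D : Subgroup H, Nat.card D = 9 ∧ (∀ d ∈ D, d ^ 3 = 1) ∧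
      Subgroup.centralizer (D : Set H) = D ∧
      Nat.card (Subgroup.normalizer (D : Set H)) = 432 := by
  obtain ⟨D, h9, hC, h54⟩ := hg.exD
  have hD : DHyp D := ⟨h9, hC, h54⟩
  exact ⟨D, h9, fun d hd => hD.pow_three hd, hC, card_normalizer_D hg hD⟩

end final

end Cfsg.Agent.Lib.Helper4.Cg33
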