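import Mathlib
import Cfsg.Agent.Lib.Helper4.Cg33L

/-! Commuting graph of `PSL(3,3)` (helper4, for S3412), part M: assembly. A group with the
commuting graph of `PSL(3,3)` is simple of order `5616` and has a self-centralizing elementary
abelian subgroup of order `9` with normalizer of order `432`. -/

set_option autoImplicit false
set_option linter.style.haveILetI false
set_option linter.unusedSectionVars false

namespace Cfsg.Agent.Lib.Helper4.Cg33

abbrev PSL3 := Matrix.ProjectiveSpecialLinearGroup (Fin 3) (ZMod 3)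

theorem center_SL3 : Subgroup.center SL3 = ⊥ := by
  rw [eq_bot_iff]
  intro g hg
  rw [Matrix.SpecialLinearGroup.mem_center_iff] at hg
  obtain ⟨r, hr, hg⟩ := hg
  rw [Subgroup.mem_bot]
  have key : ∀ r : ZMod 3, r ^ Fintype.card (Fin 3) = 1 → r = 1 := by decide
  have hr1 : r = 1 := key r hr
  apply Subtype.ext
  rw [← hg, hr1]
  simp

/-- `PSL(3,3)` is `SL(3,3)` -/
noncomputable def pslEquiv : PSL3 ≃* SL3 :=
  (QuotientGroup.quotientMulEquivOfEq center_SL3).trans QuotientGroup.quotientBot

section graph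

variable {H : Type*} [Group H] [Finite H]
  (f : {h : H // h ≠ 1} ≃ {g : PSL3 // g ≠ 1})
  (hf : ∀ x y : {h : H // h ≠ 1},
    (x : H) * y = y * x ↔ ((f x) : PSL3) * (f y) = (f y) * (f x))

/-- the graph isomorphism, with values in `SL(3,3)` -/
noncomputable def fSL : {h : H // h ≠ 1} ≃ {g : SL3 // g ≠ 1} :=
  f.trans (pslEquiv.toEquiv.subtypeEquiv (fun a => by
    show a ≠ 1 ↔ pslEquiv a ≠ 1
    rw [Ne, Ne, MulEquiv.map_eq_one_iff]))

theorem fSL_apply (x : {h : H // h ≠ 1}) : ((fSL f x) : SL3) = pslEquiv ((f x) : PSL3) := rfl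

include hf in
theorem fSL_comm (x y : {h : H // h ≠ 1}) :
    (x : H) * y = y * x ↔ ((fSL f x) : SL3) * (fSL f y) = (fSL f y) * (fSL f x) := by
  rw [hf x y, fSL_apply, fSL_apply, ← map_mul, ← map_mul]
  exact pslEquiv.injective.eq_iff.symm

include hf in
theorem gdata_of_psl_graph : GData H := gdata_of_graph (fSL f) (fSL_comm f hf)

include hf in
/-- S3412, given the recognition of `PSL(3,3)` by the order and the normalizer of a
self-centralizing elementary abelian subgroup of order `9` (helper2's `Pl3.iso_psl33`) -/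
theorem s3412_of_recognition
    (hrec : ∀ [IsSimpleGroup H], Nat.card H = 5616 → ∀ D : Subgroup H, Nat.card D = 9 →
      (∀ d ∈ D, d ^ 3 = 1) → Subgroup.centralizer (D : Set H) = D →
      Nat.card (Subgroup.normalizer (D : Set H)) = 432 → Nonempty (H ≃* PSL3)) :
    Nonempty (H ≃* PSL3) := by
  have hg := gdata_of_psl_graph f hf
  haveI := isSimpleGroup_of_gdata hg
  obtain ⟨D, h9, h3, hC, hN⟩ := exists_D_of_gdata hg
  exact hrec hg.card D h9 h3 hC hN

end graph

end Cfsg.Agent.Lib.Helper4.Cg33
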