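import Cfsg.Agent.Lib.Helper4.SemiMod3

/-!
# Irreducible factors of characteristic polynomials vs annihilating polynomials
-/

namespace Cfsg.Agent.Lib.Helper4.SemiMod

open Polynomial

universe u v

variable {F : Type u} [Field F]

section general

variable (M : Type v) [AddCommGroup M] [Module F M] [Module F[X] M] [IsScalarTower F F[X] M]
  [Module.Finite F M]

/-- Cayley–Hamilton: `cp M` kills `M`. -/
lemma cp_smul (m : M) : cp (F := F) M • m = 0 := by
  rw [← aeval_Xact]
  unfold cp
  rw [LinearMap.aeval_self_charpoly]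
  rfl

/-- An irreducible polynomial killing a nonzero vector divides `cp`. -/
lemma dvd_cp_of_smul_eq_zero {π : F[X]} (hπ : Irreducible π) (w : M) (hw : w ≠ 0) (hπw : π • w = 0) :
    π ∣ cp (F := F) M :=
  dvd_of_smul_eq_zero M hπ w hw hπw _ (cp_smul M w)

/-- Irreducible factors of `cp` divide every annihilating polynomial. -/
lemma dvd_of_dvd_cp_of_annihilates {π : F[X]} (hπ : Irreducible π) (hd : π ∣ cp (F := F) M)
    (P : F[X]) (hP : ∀ m : M, P • m = 0) : π ∣ P := by
  obtain ⟨w, hw, hπw⟩ := exists_torsion_of_dvd_cp M hπ hd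
  exact dvd_of_smul_eq_zero M hπ w hw hπw P (hP w)

/-- **Lemma C**: in a semisimple module, a polynomial divisible by every irreducible factor of
`cp` kills the module. -/
theorem smul_eq_zero_of_semisimple [IsSemisimpleModule F[X] M] (Q : F[X])
    (hQ : ∀ π : F[X], Irreducible π → π ∣ cp (F := F) M → π ∣ Q) (m : M) : Q • m = 0 := by
  set N : Submodule F[X] M := LinearMap.ker (DistribMulAction.toLinearMap F[X] M Q) with hN
  have hmem : ∀ x : M, x ∈ N ↔ Q • x = 0 := by
    intro x
    rw [hN, LinearMap.mem_ker]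
    rfl
  obtain ⟨U, hU⟩ := exists_isCompl N
  haveI : Module.Finite F U :=
    Module.Finite.of_injective (U.subtype.restrictScalars F) U.injective_subtype
  have hU0 : U = ⊥ := by
    by_contra hne
    have hpos : 0 < Module.finrank F U := by
      rw [Module.finrank_pos_iff]
      obtain ⟨x, hx, hx0⟩ := Submodule.exists_mem_ne_zero_of_ne_bot hne
      exact ⟨⟨⟨x, hx⟩, 0, fun h => hx0 (congrArg Subtype.val h)⟩⟩
    obtain ⟨π, hπ, hπd⟩ := exists_irreducible_of_natDegree_pos (f := cp (F := F) U)
      (by rw [cp_natDegree]; exact hpos)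
    obtain ⟨w, hw, hπw⟩ := exists_torsion_of_dvd_cp U hπ hπd
    have hw' : (w : M) ≠ 0 := fun h => hw (Subtype.ext h)
    have hπw' : π • (w : M) = 0 := by
      have := congrArg Subtype.val hπw
      simpa using this
    have hπQ : π ∣ Q := hQ π hπ (dvd_cp_of_smul_eq_zero M hπ (w : M) hw' hπw')
    obtain ⟨R, rfl⟩ := hπQ
    have : (w : M) ∈ N := by
      rw [hmem, mul_comm, mul_smul, hπw', smul_zero]
    have hbot : (w : M) ∈ N ⊓ U := ⟨this, w.2⟩
    rw [hU.inf_eq_bot] at hbot
    exact hw' ((Submodule.mem_bot _).1 hbot)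
  have hNtop : N = ⊤ := by
    have := hU.sup_eq_top
    rwa [hU0, sup_bot_eq] at this
  have : m ∈ N := by rw [hNtop]; exact Submodule.mem_top
  exact (hmem m).1 this

end general

section matrix

variable {n : ℕ}

lemma smul_MA (A : Matrix (Fin n) (Fin n) F) (P : F[X]) (v : Fin n → F) :
    P • (Module.AEval'.of (Matrix.toLin' A) v : MA A) =
      Module.AEval'.of (Matrix.toLin' A) (Matrix.toLin' (aeval A P) v) := by
  rw [← aeval_toLin']
  exact (Module.AEval.of_aeval_smul (R := F) (M := Fin n → F) (Matrix.toLin' A) P v).symm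

/-- **Lemma A**: irreducible factors of the characteristic polynomial divide any annihilating
polynomial. -/
theorem dvd_of_dvd_charpoly (A : Matrix (Fin n) (Fin n) F) (P : F[X]) (hP : aeval A P = 0)
    {π : F[X]} (hπ : Irreducible π) (hd : π ∣ A.charpoly) : π ∣ P := by
  apply dvd_of_dvd_cp_of_annihilates (MA A) hπ (by rw [cp_MA]; exact hd) P
  intro m
  obtain ⟨v, rfl⟩ := (Module.AEval'.of (Matrix.toLin' A)).surjective m
  rw [smul_MA, hP]
  simp

/-- Lemma C for matrices. -/
theorem aeval_eq_zero_of_semisimple (A : Matrix (Fin n) (Fin n) F)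
    [IsSemisimpleModule F[X] (MA A)] (Q : F[X])
    (hQ : ∀ π : F[X], Irreducible π → π ∣ A.charpoly → π ∣ Q) : aeval A Q = 0 := by
  apply Matrix.toLin'.injective
  apply LinearMap.ext
  intro v
  have h := smul_eq_zero_of_semisimple (MA A) Q (by intro π hπ hd; exact hQ π hπ (cp_MA A ▸ hd))
    (Module.AEval'.of (Matrix.toLin' A) v)
  rw [smul_MA] at h
  have h' := (Module.AEval'.of (Matrix.toLin' A)).injective (h.trans (map_zero _).symm)
  rw [h']
  simp

end matrix

section factor

/-- **Lemma B**: a monic polynomial all of whose irreducible factors are associated to members of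
a finite family is a product of powers of members of the family. -/
theorem eq_prod_pow {ι : Type*} [Fintype ι] [DecidableEq ι] (p : ι → F[X])
    (hp : ∀ i, (p i).Monic) :
    ∀ (d : ℕ) (f : F[X]), f.Monic → f.natDegree = d →
      (∀ π : F[X], Irreducible π → π ∣ f → ∃ i, Associated π (p i)) →
      ∃ a : ι → ℕ, f = ∏ i, p i ^ a i := by
  intro d
  induction d using Nat.strong_induction_on with
  | _ d ih =>
  intro f hf hd h
  rcases Nat.eq_zero_or_pos d with hd0 | hpos
  · have : f = 1 := by
      rw [← Polynomial.Monic.natDegree_eq_zero hf, hd, hd0]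
    exact ⟨fun _ => 0, by simp [this]⟩
  · obtain ⟨π, hπ, hπd⟩ := exists_irreducible_of_natDegree_pos (f := f) (by rw [hd]; exact hpos)
    obtain ⟨i, hi⟩ := h π hπ hπd
    have hpi : Irreducible (p i) := hi.irreducible hπ
    obtain ⟨g, hg⟩ : p i ∣ f := hi.symm.dvd.trans hπd
    -- leading coefficients
    have hg0 : g ≠ 0 := by
      rintro rfl
      rw [mul_zero] at hg
      exact hf.ne_zero hg
    have hdeg : f.natDegree = (p i).natDegree + g.natDegree := by
      rw [hg, natDegree_mul hpi.ne_zero hg0]
    have hpdeg : 0 < (p i).natDegree := hpi.natDegree_pos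
    have hgm : g.Monic := Polynomial.Monic.of_mul_monic_left (hp i) (hg ▸ hf)
    obtain ⟨a, ha⟩ := ih g.natDegree (by omega) g hgm rfl (by
      intro π' hπ' hd'
      exact h π' hπ' (hd'.trans ⟨p i, by rw [hg, mul_comm]⟩))
    refine ⟨fun j => a j + (if j = i then 1 else 0), ?_⟩
    have h1 : ∀ j, p j ^ (a j + (if j = i then 1 else 0)) =
        p j ^ a j * (if j = i then p j else 1) := by
      intro j
      rw [pow_add]
      split_ifs <;> simp
    simp only [h1]
    rw [Finset.prod_mul_distrib, Finset.prod_ite_eq' Finset.univ i, if_pos (Finset.mem_univ _),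
      ← ha, hg, mul_comm]

end factor

end Cfsg.Agent.Lib.Helper4.SemiMod
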