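import Cfsg.Agent.Lib.Helper4.TCD_Co3pA_Acc

namespace Cfsg.Agent.Lib.Helper4.TCD.Co3pA

open Cfsg.Agent.Lib.Helper4.TC

set_option maxRecDepth 100000
set_option Elab.async false

theorem c_rel_87 : allRange D.relOK 161963 1150 = true := by decide +kernel
theorem c_rel_88 : allRange D.relOK 163113 1154 = true := by decide +kernel
theorem c_rel_89 : allRange D.relOK 164267 1150 = true := by decide +kernel
theorem c_rel_90 : allRange D.relOK 165417 1117 = true := by decide +kernel
theorem c_rel_91 : allRange D.relOK 166534 1107 = true := by decide +kernel
theorem c_rel_92 : allRange D.relOK 167641 1116 = true := by decide +kernel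
theorem c_rel_93 : allRange D.relOK 168757 1121 = true := by decide +kernel
theorem c_rel_94 : allRange D.relOK 169878 1140 = true := by decide +kernel
theorem c_rel_95 : allRange D.relOK 171018 1134 = true := by decide +kernel
theorem c_rel_96 : allRange D.relOK 172152 1143 = true := by decide +kernel
theorem c_rel_97 : allRange D.relOK 173295 1161 = true := by decide +kernel
theorem c_rel_98 : allRange D.relOK 174456 1117 = true := by decide +kernel
theorem c_rel_99 : allRange D.relOK 175573 1143 = true := by decide +kernel
theorem c_rel_100 : allRange D.relOK 176716 1134 = true := by decide +kernel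
theorem c_rel_101 : allRange D.relOK 177850 1214 = true := by decide +kernel
theorem c_rel_102 : allRange D.relOK 179064 1185 = true := by decide +kernel
theorem c_rel_103 : allRange D.relOK 180249 1113 = true := by decide +kernel
theorem c_rel_104 : allRange D.relOK 181362 1105 = true := by decide +kernel
theorem c_rel_105 : allRange D.relOK 182467 1101 = true := by decide +kernel
theorem c_rel_106 : allRange D.relOK 183568 1111 = true := by decide +kernel
theorem c_rel_107 : allRange D.relOK 184679 1098 = true := by decide +kernel
theorem c_rel_108 : allRange D.relOK 185777 1098 = true := by decide +kernel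
theorem c_rel_109 : allRange D.relOK 186875 1091 = true := by decide +kernel
theorem c_rel_110 : allRange D.relOK 187966 1074 = true := by decide +kernel
theorem c_rel_111 : allRange D.relOK 189040 1100 = true := by decide +kernel
theorem c_rel_112 : allRange D.relOK 190140 1089 = true := by decide +kernel
theorem c_rel_113 : allRange D.relOK 191229 1128 = true := by decide +kernel
theorem c_rel_114 : allRange D.relOK 192357 1079 = true := by decide +kernel
theorem c_rel_115 : allRange D.relOK 193436 1091 = true := by decide +kernel
theorem c_rel_116 : allRange D.relOK 194527 1084 = true := by decide +kernel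
theorem c_rel_117 : allRange D.relOK 195611 1082 = true := by decide +kernel
theorem c_rel_118 : allRange D.relOK 196693 1108 = true := by decide +kernel
theorem c_rel_119 : allRange D.relOK 197801 1082 = true := by decide +kernel
theorem c_rel_120 : allRange D.relOK 198883 1136 = true := by decide +kernel
theorem c_rel_121 : allRange D.relOK 200019 1098 = true := by decide +kernel
theorem c_rel_122 : allRange D.relOK 201117 1131 = true := by decide +kernel
theorem c_rel_123 : allRange D.relOK 202248 1119 = true := by decide +kernel
theorem c_rel_124 : allRange D.relOK 203367 1082 = true := by decide +kernel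
theorem c_rel_125 : allRange D.relOK 204449 1135 = true := by decide +kernel
theorem c_rel_126 : allRange D.relOK 205584 1119 = true := by decide +kernel
theorem c_rel_127 : allRange D.relOK 206703 1101 = true := by decide +kernel
theorem c_rel_128 : allRange D.relOK 207804 1073 = true := by decide +kernel
theorem c_rel_129 : allRange D.relOK 208877 1009 = true := by decide +kernel
theorem c_rel_130 : allRange D.relOK 209886 1090 = true := by decide +kernel
theorem c_rel_131 : allRange D.relOK 210976 1154 = true := by decide +kernel
theorem c_rel_132 : allRange D.relOK 212130 4872 = true := by decide +kernel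
theorem c_rel_133 : allRange D.relOK 217002 4657 = true := by decide +kernel
theorem c_rel_134 : allRange D.relOK 221659 4439 = true := by decide +kernel
theorem c_fin_0 : allGrid (T.finOK D) 0 1500 8 = true := by decide +kernel
theorem c_fin_1 : allGrid (T.finOK D) 1500 1500 8 = true := by decide +kernel
theorem c_fin_2 : allGrid (T.finOK D) 3000 1500 8 = true := by decide +kernel
theorem c_fin_3 : allGrid (T.finOK D) 4500 1500 8 = true := by decide +kernel
theorem c_fin_4 : allGrid (T.finOK D) 6000 1500 8 = true := by decide +kernel
theorem c_fin_5 : allGrid (T.finOK D) 7500 1500 8 = true := by decide +kernel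
theorem c_fin_6 : allGrid (T.finOK D) 9000 1500 8 = true := by decide +kernel
theorem c_fin_7 : allGrid (T.finOK D) 10500 1500 8 = true := by decide +kernel
theorem c_fin_8 : allGrid (T.finOK D) 12000 1500 8 = true := by decide +kernel
theorem c_fin_9 : allGrid (T.finOK D) 13500 1500 8 = true := by decide +kernel
theorem c_fin_10 : allGrid (T.finOK D) 15000 1500 8 = true := by decide +kernel
theorem c_fin_11 : allGrid (T.finOK D) 16500 1500 8 = true := by decide +kernel
theorem c_fin_12 : allGrid (T.finOK D) 18000 1500 8 = true := by decide +kernel
theorem c_fin_13 : allGrid (T.finOK D) 19500 1500 8 = true := by decide +kernel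
theorem c_fin_14 : allGrid (T.finOK D) 21000 1500 8 = true := by decide +kernel
theorem c_fin_15 : allGrid (T.finOK D) 22500 1500 8 = true := by decide +kernel
theorem c_fin_16 : allGrid (T.finOK D) 24000 1500 8 = true := by decide +kernel
theorem c_fin_17 : allGrid (T.finOK D) 25500 1500 8 = true := by decide +kernel
theorem c_fin_18 : allGrid (T.finOK D) 27000 1500 8 = true := by decide +kernel
theorem c_fin_19 : allGrid (T.finOK D) 28500 1500 8 = true := by decide +kernel
theorem c_fin_20 : allGrid (T.finOK D) 30000 1500 8 = true := by decide +kernel
theorem c_fin_21 : allGrid (T.finOK D) 31500 1500 8 = true := by decide +kernel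
theorem c_fin_22 : allGrid (T.finOK D) 33000 1500 8 = true := by decide +kernel
theorem c_fin_23 : allGrid (T.finOK D) 34500 1500 8 = true := by decide +kernel
theorem c_fin_24 : allGrid (T.finOK D) 36000 1500 8 = true := by decide +kernel
theorem c_fin_25 : allGrid (T.finOK D) 37500 1500 8 = true := by decide +kernel

end Cfsg.Agent.Lib.Helper4.TCD.Co3pA
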