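import Cfsg.Agent.Lib.Helper4.TCD_Co3pA_Acc

namespace Cfsg.Agent.Lib.Helper4.TCD.Co3pA

open Cfsg.Agent.Lib.Helper4.TC

set_option maxRecDepth 100000
set_option Elab.async false

theorem c_fin_26 : allGrid (T.finOK D) 39000 1500 8 = true := by decide +kernel
theorem c_fin_27 : allGrid (T.finOK D) 40500 1500 8 = true := by decide +kernel
theorem c_fin_28 : allGrid (T.finOK D) 42000 1500 8 = true := by decide +kernel
theorem c_fin_29 : allGrid (T.finOK D) 43500 1500 8 = true := by decide +kernel
theorem c_fin_30 : allGrid (T.finOK D) 45000 1500 8 = true := by decide +kernel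
theorem c_fin_31 : allGrid (T.finOK D) 46500 1500 8 = true := by decide +kernel
theorem c_fin_32 : allGrid (T.finOK D) 48000 600 8 = true := by decide +kernel
theorem c_perm_0 : allGrid (T.permOK1 D) 0 3750 8 = true := by decide +kernel
theorem c_perm_1 : allGrid (T.permOK1 D) 3750 3750 8 = true := by decide +kernel
theorem c_perm_2 : allGrid (T.permOK1 D) 7500 3750 8 = true := by decide +kernel
theorem c_perm_3 : allGrid (T.permOK1 D) 11250 3750 8 = true := by decide +kernel
theorem c_perm_4 : allGrid (T.permOK1 D) 15000 3750 8 = true := by decide +kernel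
theorem c_perm_5 : allGrid (T.permOK1 D) 18750 3750 8 = true := by decide +kernel
theorem c_perm_6 : allGrid (T.permOK1 D) 22500 3750 8 = true := by decide +kernel
theorem c_perm_7 : allGrid (T.permOK1 D) 26250 3750 8 = true := by decide +kernel
theorem c_perm_8 : allGrid (T.permOK1 D) 30000 3750 8 = true := by decide +kernel
theorem c_perm_9 : allGrid (T.permOK1 D) 33750 3750 8 = true := by decide +kernel
theorem c_perm_10 : allGrid (T.permOK1 D) 37500 3750 8 = true := by decide +kernel
theorem c_perm_11 : allGrid (T.permOK1 D) 41250 3750 8 = true := by decide +kernel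
theorem c_perm_12 : allGrid (T.permOK1 D) 45000 3600 8 = true := by decide +kernel
theorem c_act0_0 : allRange (fun i => Nat.beq (actR0 i) i) 0 30000 = true := by decide +kernel
theorem c_act0_1 : allRange (fun i => Nat.beq (actR0 i) i) 30000 18600 = true := by decide +kernel
theorem c_act1_0 : allRange (fun i => Nat.beq (actR1 i) i) 0 15000 = true := by decide +kernel
theorem c_act1_1 : allRange (fun i => Nat.beq (actR1 i) i) 15000 15000 = true := by decide +kernel
theorem c_act1_2 : allRange (fun i => Nat.beq (actR1 i) i) 30000 15000 = true := by decide +kernel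
theorem c_act1_3 : allRange (fun i => Nat.beq (actR1 i) i) 45000 3600 = true := by decide +kernel
theorem c_act2_0 : allRange (fun i => Nat.beq (actR2 i) i) 0 2727 = true := by decide +kernel
theorem c_act2_1 : allRange (fun i => Nat.beq (actR2 i) i) 2727 2727 = true := by decide +kernel
theorem c_act2_2 : allRange (fun i => Nat.beq (actR2 i) i) 5454 2727 = true := by decide +kernel
theorem c_act2_3 : allRange (fun i => Nat.beq (actR2 i) i) 8181 2727 = true := by decide +kernel
theorem c_act2_4 : allRange (fun i => Nat.beq (actR2 i) i) 10908 2727 = true := by decide +kernel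
theorem c_act2_5 : allRange (fun i => Nat.beq (actR2 i) i) 13635 2727 = true := by decide +kernel
theorem c_act2_6 : allRange (fun i => Nat.beq (actR2 i) i) 16362 2727 = true := by decide +kernel
theorem c_act2_7 : allRange (fun i => Nat.beq (actR2 i) i) 19089 2727 = true := by decide +kernel
theorem c_act2_8 : allRange (fun i => Nat.beq (actR2 i) i) 21816 2727 = true := by decide +kernel
theorem c_act2_9 : allRange (fun i => Nat.beq (actR2 i) i) 24543 2727 = true := by decide +kernel
theorem c_act2_10 : allRange (fun i => Nat.beq (actR2 i) i) 27270 2727 = true := by decide +kernel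
theorem c_act2_11 : allRange (fun i => Nat.beq (actR2 i) i) 29997 2727 = true := by decide +kernel
theorem c_act2_12 : allRange (fun i => Nat.beq (actR2 i) i) 32724 2727 = true := by decide +kernel
theorem c_act2_13 : allRange (fun i => Nat.beq (actR2 i) i) 35451 2727 = true := by decide +kernel
theorem c_act2_14 : allRange (fun i => Nat.beq (actR2 i) i) 38178 2727 = true := by decide +kernel
theorem c_act2_15 : allRange (fun i => Nat.beq (actR2 i) i) 40905 2727 = true := by decide +kernel
theorem c_act2_16 : allRange (fun i => Nat.beq (actR2 i) i) 43632 2727 = true := by decide +kernel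
theorem c_act2_17 : allRange (fun i => Nat.beq (actR2 i) i) 46359 2241 = true := by decide +kernel
theorem c_act3_0 : allRange (fun i => Nat.beq (actR3 i) i) 0 3333 = true := by decide +kernel
theorem c_act3_1 : allRange (fun i => Nat.beq (actR3 i) i) 3333 3333 = true := by decide +kernel
theorem c_act3_2 : allRange (fun i => Nat.beq (actR3 i) i) 6666 3333 = true := by decide +kernel
theorem c_act3_3 : allRange (fun i => Nat.beq (actR3 i) i) 9999 3333 = true := by decide +kernel
theorem c_act3_4 : allRange (fun i => Nat.beq (actR3 i) i) 13332 3333 = true := by decide +kernel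
theorem c_act3_5 : allRange (fun i => Nat.beq (actR3 i) i) 16665 3333 = true := by decide +kernel
theorem c_act3_6 : allRange (fun i => Nat.beq (actR3 i) i) 19998 3333 = true := by decide +kernel

end Cfsg.Agent.Lib.Helper4.TCD.Co3pA
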