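import Cfsg.Agent.Lib.Helper4.TCD_Co3pA_Acc

namespace Cfsg.Agent.Lib.Helper4.TCD.Co3pA

open Cfsg.Agent.Lib.Helper4.TC

set_option maxRecDepth 100000
set_option Elab.async false

theorem c_act3_7 : allRange (fun i => Nat.beq (actR3 i) i) 23331 3333 = true := by decide +kernel
theorem c_act3_8 : allRange (fun i => Nat.beq (actR3 i) i) 26664 3333 = true := by decide +kernel
theorem c_act3_9 : allRange (fun i => Nat.beq (actR3 i) i) 29997 3333 = true := by decide +kernel
theorem c_act3_10 : allRange (fun i => Nat.beq (actR3 i) i) 33330 3333 = true := by decide +kernel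
theorem c_act3_11 : allRange (fun i => Nat.beq (actR3 i) i) 36663 3333 = true := by decide +kernel
theorem c_act3_12 : allRange (fun i => Nat.beq (actR3 i) i) 39996 3333 = true := by decide +kernel
theorem c_act3_13 : allRange (fun i => Nat.beq (actR3 i) i) 43329 3333 = true := by decide +kernel
theorem c_act3_14 : allRange (fun i => Nat.beq (actR3 i) i) 46662 1938 = true := by decide +kernel
theorem c_act4_0 : allRange (fun i => Nat.beq (actR4 i) i) 0 3157 = true := by decide +kernel
theorem c_act4_1 : allRange (fun i => Nat.beq (actR4 i) i) 3157 3157 = true := by decide +kernel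
theorem c_act4_2 : allRange (fun i => Nat.beq (actR4 i) i) 6314 3157 = true := by decide +kernel
theorem c_act4_3 : allRange (fun i => Nat.beq (actR4 i) i) 9471 3157 = true := by decide +kernel
theorem c_act4_4 : allRange (fun i => Nat.beq (actR4 i) i) 12628 3157 = true := by decide +kernel
theorem c_act4_5 : allRange (fun i => Nat.beq (actR4 i) i) 15785 3157 = true := by decide +kernel
theorem c_act4_6 : allRange (fun i => Nat.beq (actR4 i) i) 18942 3157 = true := by decide +kernel
theorem c_act4_7 : allRange (fun i => Nat.beq (actR4 i) i) 22099 3157 = true := by decide +kernel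
theorem c_act4_8 : allRange (fun i => Nat.beq (actR4 i) i) 25256 3157 = true := by decide +kernel
theorem c_act4_9 : allRange (fun i => Nat.beq (actR4 i) i) 28413 3157 = true := by decide +kernel
theorem c_act4_10 : allRange (fun i => Nat.beq (actR4 i) i) 31570 3157 = true := by decide +kernel
theorem c_act4_11 : allRange (fun i => Nat.beq (actR4 i) i) 34727 3157 = true := by decide +kernel
theorem c_act4_12 : allRange (fun i => Nat.beq (actR4 i) i) 37884 3157 = true := by decide +kernel
theorem c_act4_13 : allRange (fun i => Nat.beq (actR4 i) i) 41041 3157 = true := by decide +kernel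
theorem c_act4_14 : allRange (fun i => Nat.beq (actR4 i) i) 44198 3157 = true := by decide +kernel
theorem c_act4_15 : allRange (fun i => Nat.beq (actR4 i) i) 47355 1245 = true := by decide +kernel
theorem c_act5_0 : allRange (fun i => Nat.beq (actR5 i) i) 0 2608 = true := by decide +kernel
theorem c_act5_1 : allRange (fun i => Nat.beq (actR5 i) i) 2608 2608 = true := by decide +kernel
theorem c_act5_2 : allRange (fun i => Nat.beq (actR5 i) i) 5216 2608 = true := by decide +kernel
theorem c_act5_3 : allRange (fun i => Nat.beq (actR5 i) i) 7824 2608 = true := by decide +kernel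
theorem c_act5_4 : allRange (fun i => Nat.beq (actR5 i) i) 10432 2608 = true := by decide +kernel
theorem c_act5_5 : allRange (fun i => Nat.beq (actR5 i) i) 13040 2608 = true := by decide +kernel
theorem c_act5_6 : allRange (fun i => Nat.beq (actR5 i) i) 15648 2608 = true := by decide +kernel
theorem c_act5_7 : allRange (fun i => Nat.beq (actR5 i) i) 18256 2608 = true := by decide +kernel
theorem c_act5_8 : allRange (fun i => Nat.beq (actR5 i) i) 20864 2608 = true := by decide +kernel
theorem c_act5_9 : allRange (fun i => Nat.beq (actR5 i) i) 23472 2608 = true := by decide +kernel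
theorem c_act5_10 : allRange (fun i => Nat.beq (actR5 i) i) 26080 2608 = true := by decide +kernel
theorem c_act5_11 : allRange (fun i => Nat.beq (actR5 i) i) 28688 2608 = true := by decide +kernel
theorem c_act5_12 : allRange (fun i => Nat.beq (actR5 i) i) 31296 2608 = true := by decide +kernel
theorem c_act5_13 : allRange (fun i => Nat.beq (actR5 i) i) 33904 2608 = true := by decide +kernel
theorem c_act5_14 : allRange (fun i => Nat.beq (actR5 i) i) 36512 2608 = true := by decide +kernel
theorem c_act5_15 : allRange (fun i => Nat.beq (actR5 i) i) 39120 2608 = true := by decide +kernel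
theorem c_act5_16 : allRange (fun i => Nat.beq (actR5 i) i) 41728 2608 = true := by decide +kernel
theorem c_act5_17 : allRange (fun i => Nat.beq (actR5 i) i) 44336 2608 = true := by decide +kernel
theorem c_act5_18 : allRange (fun i => Nat.beq (actR5 i) i) 46944 1656 = true := by decide +kernel
theorem c_act6_0 : allRange (fun i => Nat.beq (actR6 i) i) 0 8571 = true := by decide +kernel
theorem c_act6_1 : allRange (fun i => Nat.beq (actR6 i) i) 8571 8571 = true := by decide +kernel
theorem c_act6_2 : allRange (fun i => Nat.beq (actR6 i) i) 17142 8571 = true := by decide +kernel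
theorem c_act6_3 : allRange (fun i => Nat.beq (actR6 i) i) 25713 8571 = true := by decide +kernel
theorem c_act6_4 : allRange (fun i => Nat.beq (actR6 i) i) 34284 8571 = true := by decide +kernel
theorem c_act6_5 : allRange (fun i => Nat.beq (actR6 i) i) 42855 5745 = true := by decide +kernel
theorem c_act7_0 : allRange (fun i => Nat.beq (actR7 i) i) 0 5000 = true := by decide +kernel
theorem c_act7_1 : allRange (fun i => Nat.beq (actR7 i) i) 5000 5000 = true := by decide +kernel

end Cfsg.Agent.Lib.Helper4.TCD.Co3pA
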