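import Cfsg.Agent.Lib.Helper4.TCD_Co3pA_Acc

namespace Cfsg.Agent.Lib.Helper4.TCD.Co3pA

open Cfsg.Agent.Lib.Helper4.TC

set_option maxRecDepth 100000
set_option Elab.async false

theorem c_act7_2 : allRange (fun i => Nat.beq (actR7 i) i) 10000 5000 = true := by decide +kernel
theorem c_act7_3 : allRange (fun i => Nat.beq (actR7 i) i) 15000 5000 = true := by decide +kernel
theorem c_act7_4 : allRange (fun i => Nat.beq (actR7 i) i) 20000 5000 = true := by decide +kernel
theorem c_act7_5 : allRange (fun i => Nat.beq (actR7 i) i) 25000 5000 = true := by decide +kernel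
theorem c_act7_6 : allRange (fun i => Nat.beq (actR7 i) i) 30000 5000 = true := by decide +kernel
theorem c_act7_7 : allRange (fun i => Nat.beq (actR7 i) i) 35000 5000 = true := by decide +kernel
theorem c_act7_8 : allRange (fun i => Nat.beq (actR7 i) i) 40000 5000 = true := by decide +kernel
theorem c_act7_9 : allRange (fun i => Nat.beq (actR7 i) i) 45000 3600 = true := by decide +kernel
theorem c_act8_0 : allRange (fun i => Nat.beq (actR8 i) i) 0 5000 = true := by decide +kernel
theorem c_act8_1 : allRange (fun i => Nat.beq (actR8 i) i) 5000 5000 = true := by decide +kernel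
theorem c_act8_2 : allRange (fun i => Nat.beq (actR8 i) i) 10000 5000 = true := by decide +kernel
theorem c_act8_3 : allRange (fun i => Nat.beq (actR8 i) i) 15000 5000 = true := by decide +kernel
theorem c_act8_4 : allRange (fun i => Nat.beq (actR8 i) i) 20000 5000 = true := by decide +kernel
theorem c_act8_5 : allRange (fun i => Nat.beq (actR8 i) i) 25000 5000 = true := by decide +kernel
theorem c_act8_6 : allRange (fun i => Nat.beq (actR8 i) i) 30000 5000 = true := by decide +kernel
theorem c_act8_7 : allRange (fun i => Nat.beq (actR8 i) i) 35000 5000 = true := by decide +kernel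
theorem c_act8_8 : allRange (fun i => Nat.beq (actR8 i) i) 40000 5000 = true := by decide +kernel
theorem c_act8_9 : allRange (fun i => Nat.beq (actR8 i) i) 45000 3600 = true := by decide +kernel
theorem c_act9_0 : allRange (fun i => Nat.beq (actR9 i) i) 0 4000 = true := by decide +kernel
theorem c_act9_1 : allRange (fun i => Nat.beq (actR9 i) i) 4000 4000 = true := by decide +kernel
theorem c_act9_2 : allRange (fun i => Nat.beq (actR9 i) i) 8000 4000 = true := by decide +kernel
theorem c_act9_3 : allRange (fun i => Nat.beq (actR9 i) i) 12000 4000 = true := by decide +kernel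
theorem c_act9_4 : allRange (fun i => Nat.beq (actR9 i) i) 16000 4000 = true := by decide +kernel
theorem c_act9_5 : allRange (fun i => Nat.beq (actR9 i) i) 20000 4000 = true := by decide +kernel
theorem c_act9_6 : allRange (fun i => Nat.beq (actR9 i) i) 24000 4000 = true := by decide +kernel
theorem c_act9_7 : allRange (fun i => Nat.beq (actR9 i) i) 28000 4000 = true := by decide +kernel
theorem c_act9_8 : allRange (fun i => Nat.beq (actR9 i) i) 32000 4000 = true := by decide +kernel
theorem c_act9_9 : allRange (fun i => Nat.beq (actR9 i) i) 36000 4000 = true := by decide +kernel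
theorem c_act9_10 : allRange (fun i => Nat.beq (actR9 i) i) 40000 4000 = true := by decide +kernel
theorem c_act9_11 : allRange (fun i => Nat.beq (actR9 i) i) 44000 4000 = true := by decide +kernel
theorem c_act9_12 : allRange (fun i => Nat.beq (actR9 i) i) 48000 600 = true := by decide +kernel
theorem c_act10_0 : allRange (fun i => Nat.beq (actR10 i) i) 0 4000 = true := by decide +kernel
theorem c_act10_1 : allRange (fun i => Nat.beq (actR10 i) i) 4000 4000 = true := by decide +kernel
theorem c_act10_2 : allRange (fun i => Nat.beq (actR10 i) i) 8000 4000 = true := by decide +kernel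
theorem c_act10_3 : allRange (fun i => Nat.beq (actR10 i) i) 12000 4000 = true := by decide +kernel
theorem c_act10_4 : allRange (fun i => Nat.beq (actR10 i) i) 16000 4000 = true := by decide +kernel
theorem c_act10_5 : allRange (fun i => Nat.beq (actR10 i) i) 20000 4000 = true := by decide +kernel
theorem c_act10_6 : allRange (fun i => Nat.beq (actR10 i) i) 24000 4000 = true := by decide +kernel
theorem c_act10_7 : allRange (fun i => Nat.beq (actR10 i) i) 28000 4000 = true := by decide +kernel
theorem c_act10_8 : allRange (fun i => Nat.beq (actR10 i) i) 32000 4000 = true := by decide +kernel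
theorem c_act10_9 : allRange (fun i => Nat.beq (actR10 i) i) 36000 4000 = true := by decide +kernel
theorem c_act10_10 : allRange (fun i => Nat.beq (actR10 i) i) 40000 4000 = true := by decide +kernel
theorem c_act10_11 : allRange (fun i => Nat.beq (actR10 i) i) 44000 4000 = true := by decide +kernel
theorem c_act10_12 : allRange (fun i => Nat.beq (actR10 i) i) 48000 600 = true := by decide +kernel
theorem c_act11_0 : allRange (fun i => Nat.beq (actR11 i) i) 0 4000 = true := by decide +kernel
theorem c_act11_1 : allRange (fun i => Nat.beq (actR11 i) i) 4000 4000 = true := by decide +kernel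
theorem c_act11_2 : allRange (fun i => Nat.beq (actR11 i) i) 8000 4000 = true := by decide +kernel
theorem c_act11_3 : allRange (fun i => Nat.beq (actR11 i) i) 12000 4000 = true := by decide +kernel
theorem c_act11_4 : allRange (fun i => Nat.beq (actR11 i) i) 16000 4000 = true := by decide +kernel
theorem c_act11_5 : allRange (fun i => Nat.beq (actR11 i) i) 20000 4000 = true := by decide +kernel
theorem c_act11_6 : allRange (fun i => Nat.beq (actR11 i) i) 24000 4000 = true := by decide +kernel
theorem c_act11_7 : allRange (fun i => Nat.beq (actR11 i) i) 28000 4000 = true := by decide +kernel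

end Cfsg.Agent.Lib.Helper4.TCD.Co3pA
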