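import Cfsg.Agent.Lib.Helper4.TCD_Co3pA_Acc

namespace Cfsg.Agent.Lib.Helper4.TCD.Co3pA

open Cfsg.Agent.Lib.Helper4.TC

set_option maxRecDepth 100000
set_option Elab.async false

theorem c_act11_8 : allRange (fun i => Nat.beq (actR11 i) i) 32000 4000 = true := by decide +kernel
theorem c_act11_9 : allRange (fun i => Nat.beq (actR11 i) i) 36000 4000 = true := by decide +kernel
theorem c_act11_10 : allRange (fun i => Nat.beq (actR11 i) i) 40000 4000 = true := by decide +kernel
theorem c_act11_11 : allRange (fun i => Nat.beq (actR11 i) i) 44000 4000 = true := by decide +kernel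
theorem c_act11_12 : allRange (fun i => Nat.beq (actR11 i) i) 48000 600 = true := by decide +kernel
theorem c_act12_0 : allRange (fun i => Nat.beq (actR12 i) i) 0 30000 = true := by decide +kernel
theorem c_act12_1 : allRange (fun i => Nat.beq (actR12 i) i) 30000 18600 = true := by decide +kernel
theorem c_act13_0 : allRange (fun i => Nat.beq (actR13 i) i) 0 2857 = true := by decide +kernel
theorem c_act13_1 : allRange (fun i => Nat.beq (actR13 i) i) 2857 2857 = true := by decide +kernel
theorem c_act13_2 : allRange (fun i => Nat.beq (actR13 i) i) 5714 2857 = true := by decide +kernel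
theorem c_act13_3 : allRange (fun i => Nat.beq (actR13 i) i) 8571 2857 = true := by decide +kernel
theorem c_act13_4 : allRange (fun i => Nat.beq (actR13 i) i) 11428 2857 = true := by decide +kernel
theorem c_act13_5 : allRange (fun i => Nat.beq (actR13 i) i) 14285 2857 = true := by decide +kernel
theorem c_act13_6 : allRange (fun i => Nat.beq (actR13 i) i) 17142 2857 = true := by decide +kernel
theorem c_act13_7 : allRange (fun i => Nat.beq (actR13 i) i) 19999 2857 = true := by decide +kernel
theorem c_act13_8 : allRange (fun i => Nat.beq (actR13 i) i) 22856 2857 = true := by decide +kernel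
theorem c_act13_9 : allRange (fun i => Nat.beq (actR13 i) i) 25713 2857 = true := by decide +kernel
theorem c_act13_10 : allRange (fun i => Nat.beq (actR13 i) i) 28570 2857 = true := by decide +kernel
theorem c_act13_11 : allRange (fun i => Nat.beq (actR13 i) i) 31427 2857 = true := by decide +kernel
theorem c_act13_12 : allRange (fun i => Nat.beq (actR13 i) i) 34284 2857 = true := by decide +kernel
theorem c_act13_13 : allRange (fun i => Nat.beq (actR13 i) i) 37141 2857 = true := by decide +kernel
theorem c_act13_14 : allRange (fun i => Nat.beq (actR13 i) i) 39998 2857 = true := by decide +kernel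
theorem c_act13_15 : allRange (fun i => Nat.beq (actR13 i) i) 42855 2857 = true := by decide +kernel
theorem c_act13_16 : allRange (fun i => Nat.beq (actR13 i) i) 45712 2857 = true := by decide +kernel
theorem c_act13_17 : allRange (fun i => Nat.beq (actR13 i) i) 48569 31 = true := by decide +kernel
theorem c_act14_0 : allRange (fun i => Nat.beq (actR14 i) i) 0 2608 = true := by decide +kernel
theorem c_act14_1 : allRange (fun i => Nat.beq (actR14 i) i) 2608 2608 = true := by decide +kernel
theorem c_act14_2 : allRange (fun i => Nat.beq (actR14 i) i) 5216 2608 = true := by decide +kernel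
theorem c_act14_3 : allRange (fun i => Nat.beq (actR14 i) i) 7824 2608 = true := by decide +kernel
theorem c_act14_4 : allRange (fun i => Nat.beq (actR14 i) i) 10432 2608 = true := by decide +kernel
theorem c_act14_5 : allRange (fun i => Nat.beq (actR14 i) i) 13040 2608 = true := by decide +kernel
theorem c_act14_6 : allRange (fun i => Nat.beq (actR14 i) i) 15648 2608 = true := by decide +kernel
theorem c_act14_7 : allRange (fun i => Nat.beq (actR14 i) i) 18256 2608 = true := by decide +kernel
theorem c_act14_8 : allRange (fun i => Nat.beq (actR14 i) i) 20864 2608 = true := by decide +kernel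
theorem c_act14_9 : allRange (fun i => Nat.beq (actR14 i) i) 23472 2608 = true := by decide +kernel
theorem c_act14_10 : allRange (fun i => Nat.beq (actR14 i) i) 26080 2608 = true := by decide +kernel
theorem c_act14_11 : allRange (fun i => Nat.beq (actR14 i) i) 28688 2608 = true := by decide +kernel
theorem c_act14_12 : allRange (fun i => Nat.beq (actR14 i) i) 31296 2608 = true := by decide +kernel
theorem c_act14_13 : allRange (fun i => Nat.beq (actR14 i) i) 33904 2608 = true := by decide +kernel
theorem c_act14_14 : allRange (fun i => Nat.beq (actR14 i) i) 36512 2608 = true := by decide +kernel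
theorem c_act14_15 : allRange (fun i => Nat.beq (actR14 i) i) 39120 2608 = true := by decide +kernel
theorem c_act14_16 : allRange (fun i => Nat.beq (actR14 i) i) 41728 2608 = true := by decide +kernel
theorem c_act14_17 : allRange (fun i => Nat.beq (actR14 i) i) 44336 2608 = true := by decide +kernel
theorem c_act14_18 : allRange (fun i => Nat.beq (actR14 i) i) 46944 1656 = true := by decide +kernel
theorem c_act15_0 : allRange (fun i => Nat.beq (actR15 i) i) 0 2500 = true := by decide +kernel
theorem c_act15_1 : allRange (fun i => Nat.beq (actR15 i) i) 2500 2500 = true := by decide +kernel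
theorem c_act15_2 : allRange (fun i => Nat.beq (actR15 i) i) 5000 2500 = true := by decide +kernel
theorem c_act15_3 : allRange (fun i => Nat.beq (actR15 i) i) 7500 2500 = true := by decide +kernel
theorem c_act15_4 : allRange (fun i => Nat.beq (actR15 i) i) 10000 2500 = true := by decide +kernel
theorem c_act15_5 : allRange (fun i => Nat.beq (actR15 i) i) 12500 2500 = true := by decide +kernel
theorem c_act15_6 : allRange (fun i => Nat.beq (actR15 i) i) 15000 2500 = true := by decide +kernel
theorem c_act15_7 : allRange (fun i => Nat.beq (actR15 i) i) 17500 2500 = true := by decide +kernel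

end Cfsg.Agent.Lib.Helper4.TCD.Co3pA
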