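import Cfsg.Agent.Lib.Helper4.TCD_Co3pA_Acc

namespace Cfsg.Agent.Lib.Helper4.TCD.Co3pA

open Cfsg.Agent.Lib.Helper4.TC

set_option maxRecDepth 100000
set_option Elab.async false

theorem c_act15_8 : allRange (fun i => Nat.beq (actR15 i) i) 20000 2500 = true := by decide +kernel
theorem c_act15_9 : allRange (fun i => Nat.beq (actR15 i) i) 22500 2500 = true := by decide +kernel
theorem c_act15_10 : allRange (fun i => Nat.beq (actR15 i) i) 25000 2500 = true := by decide +kernel
theorem c_act15_11 : allRange (fun i => Nat.beq (actR15 i) i) 27500 2500 = true := by decide +kernel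
theorem c_act15_12 : allRange (fun i => Nat.beq (actR15 i) i) 30000 2500 = true := by decide +kernel
theorem c_act15_13 : allRange (fun i => Nat.beq (actR15 i) i) 32500 2500 = true := by decide +kernel
theorem c_act15_14 : allRange (fun i => Nat.beq (actR15 i) i) 35000 2500 = true := by decide +kernel
theorem c_act15_15 : allRange (fun i => Nat.beq (actR15 i) i) 37500 2500 = true := by decide +kernel
theorem c_act15_16 : allRange (fun i => Nat.beq (actR15 i) i) 40000 2500 = true := by decide +kernel
theorem c_act15_17 : allRange (fun i => Nat.beq (actR15 i) i) 42500 2500 = true := by decide +kernel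
theorem c_act15_18 : allRange (fun i => Nat.beq (actR15 i) i) 45000 2500 = true := by decide +kernel
theorem c_act15_19 : allRange (fun i => Nat.beq (actR15 i) i) 47500 1100 = true := by decide +kernel
theorem c_act16_0 : allRange (fun i => Nat.beq (actR16 i) i) 0 2222 = true := by decide +kernel
theorem c_act16_1 : allRange (fun i => Nat.beq (actR16 i) i) 2222 2222 = true := by decide +kernel
theorem c_act16_2 : allRange (fun i => Nat.beq (actR16 i) i) 4444 2222 = true := by decide +kernel
theorem c_act16_3 : allRange (fun i => Nat.beq (actR16 i) i) 6666 2222 = true := by decide +kernel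
theorem c_act16_4 : allRange (fun i => Nat.beq (actR16 i) i) 8888 2222 = true := by decide +kernel
theorem c_act16_5 : allRange (fun i => Nat.beq (actR16 i) i) 11110 2222 = true := by decide +kernel
theorem c_act16_6 : allRange (fun i => Nat.beq (actR16 i) i) 13332 2222 = true := by decide +kernel
theorem c_act16_7 : allRange (fun i => Nat.beq (actR16 i) i) 15554 2222 = true := by decide +kernel
theorem c_act16_8 : allRange (fun i => Nat.beq (actR16 i) i) 17776 2222 = true := by decide +kernel
theorem c_act16_9 : allRange (fun i => Nat.beq (actR16 i) i) 19998 2222 = true := by decide +kernel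
theorem c_act16_10 : allRange (fun i => Nat.beq (actR16 i) i) 22220 2222 = true := by decide +kernel
theorem c_act16_11 : allRange (fun i => Nat.beq (actR16 i) i) 24442 2222 = true := by decide +kernel
theorem c_act16_12 : allRange (fun i => Nat.beq (actR16 i) i) 26664 2222 = true := by decide +kernel
theorem c_act16_13 : allRange (fun i => Nat.beq (actR16 i) i) 28886 2222 = true := by decide +kernel
theorem c_act16_14 : allRange (fun i => Nat.beq (actR16 i) i) 31108 2222 = true := by decide +kernel
theorem c_act16_15 : allRange (fun i => Nat.beq (actR16 i) i) 33330 2222 = true := by decide +kernel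
theorem c_act16_16 : allRange (fun i => Nat.beq (actR16 i) i) 35552 2222 = true := by decide +kernel
theorem c_act16_17 : allRange (fun i => Nat.beq (actR16 i) i) 37774 2222 = true := by decide +kernel
theorem c_act16_18 : allRange (fun i => Nat.beq (actR16 i) i) 39996 2222 = true := by decide +kernel
theorem c_act16_19 : allRange (fun i => Nat.beq (actR16 i) i) 42218 2222 = true := by decide +kernel
theorem c_act16_20 : allRange (fun i => Nat.beq (actR16 i) i) 44440 2222 = true := by decide +kernel
theorem c_act16_21 : allRange (fun i => Nat.beq (actR16 i) i) 46662 1938 = true := by decide +kernel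

end Cfsg.Agent.Lib.Helper4.TCD.Co3pA
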