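import Cfsg.Agent.Lib.Helper4.TCD_Co3pA_C0
import Cfsg.Agent.Lib.Helper4.TCD_Co3pA_C1
import Cfsg.Agent.Lib.Helper4.TCD_Co3pA_C2
import Cfsg.Agent.Lib.Helper4.TCD_Co3pA_C3
import Cfsg.Agent.Lib.Helper4.TCD_Co3pA_C4
import Cfsg.Agent.Lib.Helper4.TCD_Co3pA_C5
import Cfsg.Agent.Lib.Helper4.TCD_Co3pA_C6

namespace Cfsg.Agent.Lib.Helper4.TCD.Co3pA

open Cfsg.Agent.Lib.Helper4.TC

theorem h_rel_p0 : ∀ t, 57543 ≤ t → t < 108552 → D.relOK t = true :=
  (range_glue (range_of_allRange c_rel_0) (range_glue (range_of_allRange c_rel_1) (range_glue (range_of_allRange c_rel_2) (range_glue (range_of_allRange c_rel_3) (range_glue (range_of_allRange c_rel_4) (range_glue (range_of_allRange c_rel_5) (range_glue (range_of_allRange c_rel_6) (range_glue (range_of_allRange c_rel_7) (range_glue (range_of_allRange c_rel_8) (range_glue (range_of_allRange c_rel_9) (range_glue (range_of_allRange c_rel_10) (range_glue (range_of_allRange c_rel_11) (range_glue (range_of_allRange c_rel_12) (range_glue (range_of_allRange c_rel_13) (range_glue (range_of_allRange c_rel_14) (range_glue (range_of_allRange c_rel_15) (range_glue (range_of_allRange c_rel_16) (range_glue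 (range_of_allRange c_rel_17) (range_glue (range_of_allRange c_rel_18) (range_glue (range_of_allRange c_rel_19) (range_glue (range_of_allRange c_rel_20) (range_glue (range_of_allRange c_rel_21) (range_glue (range_of_allRange c_rel_22) (range_glue (range_of_allRange c_rel_23) (range_glue (range_of_allRange c_rel_24) (range_glue (range_of_allRange c_rel_25) (range_glue (range_of_allRange c_rel_26) (range_glue (range_of_allRange c_rel_27) (range_glue (range_of_allRange c_rel_28) (range_glue (range_of_allRange c_rel_29) (range_glue (range_of_allRange c_rel_30) (range_glue (range_of_allRange c_rel_31) (range_glue (range_of_allRange c_rel_32) (range_glue (range_of_allRange c_rel_33) (range_glue (range_of_allRange c_rel_34) (range_glue (range_of_allRange c_rel_35) (range_glue (range_of_allRange c_rel_36) (range_glue (range_of_allRange c_rel_37) (range_glue (range_of_allRange c_rel_38) (range_of_allRange c_rel_39))))))))))))))))))))))))))))))))))))))))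
theorem h_rel_p1 : ∀ t, 108552 ≤ t → t < 153964 → D.relOK t = true :=
  (range_glue (range_of_allRange c_rel_40) (range_glue (range_of_allRange c_rel_41) (range_glue (range_of_allRange c_rel_42) (range_glue (range_of_allRange c_rel_43) (range_glue (range_of_allRange c_rel_44) (range_glue (range_of_allRange c_rel_45) (range_glue (range_of_allRange c_rel_46) (range_glue (range_of_allRange c_rel_47) (range_glue (range_of_allRange c_rel_48) (range_glue (range_of_allRange c_rel_49) (range_glue (range_of_allRange c_rel_50) (range_glue (range_of_allRange c_rel_51) (range_glue (range_of_allRange c_rel_52) (range_glue (range_of_allRange c_rel_53) (range_glue (range_of_allRange c_rel_54) (range_glue (range_of_allRange c_rel_55) (range_glue (range_of_allRange c_rel_56) (range_glue (range_of_allRange c_rel_57) (range_glue (range_of_allRange c_rel_58) (range_glue (range_of_allRange c_rel_59) (range_glue (range_of_allRange c_rel_60) (range_glue (range_of_allRange c_rel_61) (range_glue (range_of_allRange c_rel_62) (range_glue (range_of_allRange c_rel_63) (range_glue (range_of_allRange c_rel_64) (range_glue (range_of_allRange c_rel_65) (range_glue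 (range_of_allRange c_rel_66) (range_glue (range_of_allRange c_rel_67) (range_glue (range_of_allRange c_rel_68) (range_glue (range_of_allRange c_rel_69) (range_glue (range_of_allRange c_rel_70) (range_glue (range_of_allRange c_rel_71) (range_glue (range_of_allRange c_rel_72) (range_glue (range_of_allRange c_rel_73) (range_glue (range_of_allRange c_rel_74) (range_glue (range_of_allRange c_rel_75) (range_glue (range_of_allRange c_rel_76) (range_glue (range_of_allRange c_rel_77) (range_glue (range_of_allRange c_rel_78) (range_of_allRange c_rel_79))))))))))))))))))))))))))))))))))))))))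
theorem h_rel_p2 : ∀ t, 153964 ≤ t → t < 198883 → D.relOK t = true :=
  (range_glue (range_of_allRange c_rel_80) (range_glue (range_of_allRange c_rel_81) (range_glue (range_of_allRange c_rel_82) (range_glue (range_of_allRange c_rel_83) (range_glue (range_of_allRange c_rel_84) (range_glue (range_of_allRange c_rel_85) (range_glue (range_of_allRange c_rel_86) (range_glue (range_of_allRange c_rel_87) (range_glue (range_of_allRange c_rel_88) (range_glue (range_of_allRange c_rel_89) (range_glue (range_of_allRange c_rel_90) (range_glue (range_of_allRange c_rel_91) (range_glue (range_of_allRange c_rel_92) (range_glue (range_of_allRange c_rel_93) (range_glue (range_of_allRange c_rel_94) (range_glue (range_of_allRange c_rel_95) (range_glue (range_of_allRange c_rel_96) (range_glue (range_of_allRange c_rel_97) (range_glue (range_of_allRange c_rel_98) (range_glue (range_of_allRange c_rel_99) (range_glue (range_of_allRange c_rel_100) (range_glue (range_of_allRange c_rel_101) (range_glue (range_of_allRange c_rel_102) (range_glue (range_of_allRange c_rel_103) (range_glue (range_of_allRange c_rel_104) (range_glue (range_of_allRange c_rel_105)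 (range_glue (range_of_allRange c_rel_106) (range_glue (range_of_allRange c_rel_107) (range_glue (range_of_allRange c_rel_108) (range_glue (range_of_allRange c_rel_109) (range_glue (range_of_allRange c_rel_110) (range_glue (range_of_allRange c_rel_111) (range_glue (range_of_allRange c_rel_112) (range_glue (range_of_allRange c_rel_113) (range_glue (range_of_allRange c_rel_114) (range_glue (range_of_allRange c_rel_115) (range_glue (range_of_allRange c_rel_116) (range_glue (range_of_allRange c_rel_117) (range_glue (range_of_allRange c_rel_118) (range_of_allRange c_rel_119))))))))))))))))))))))))))))))))))))))))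
theorem h_rel_p3 : ∀ t, 198883 ≤ t → t < 226098 → D.relOK t = true :=
  (range_glue (range_of_allRange c_rel_120) (range_glue (range_of_allRange c_rel_121) (range_glue (range_of_allRange c_rel_122) (range_glue (range_of_allRange c_rel_123) (range_glue (range_of_allRange c_rel_124) (range_glue (range_of_allRange c_rel_125) (range_glue (range_of_allRange c_rel_126) (range_glue (range_of_allRange c_rel_127) (range_glue (range_of_allRange c_rel_128) (range_glue (range_of_allRange c_rel_129) (range_glue (range_of_allRange c_rel_130) (range_glue (range_of_allRange c_rel_131) (range_glue (range_of_allRange c_rel_132) (range_glue (range_of_allRange c_rel_133) (range_of_allRange c_rel_134)))))))))))))))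
theorem h_rel : ∀ t, 57543 ≤ t → t < 226098 → D.relOK t = true :=
  (range_glue h_rel_p0 (range_glue h_rel_p1 (range_glue h_rel_p2 h_rel_p3)))
theorem h_names : ∀ t, 1 ≤ t → t < 57537 → D.nameOK t = true :=
  (range_of_allRange c_names_0)
theorem h_cls : ∀ t, 1 ≤ t → t < 57537 → T.clsOK D t = true :=
  (range_glue (range_of_allRange c_cls_0) (range_glue (range_of_allRange c_cls_1) (range_glue (range_of_allRange c_cls_2) (range_of_allRange c_cls_3))))
theorem h_rep : ∀ t, 0 ≤ t → t < 48600 → T.repOK D t = true :=
  (range_glue (range_of_allRange c_rep_0) (range_of_allRange c_rep_1))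
theorem h_fin : ∀ i, 0 ≤ i → i < 48600 → ∀ x, x < 8 → T.finOK D i x = true :=
  (range_glue (range_of_allGrid c_fin_0) (range_glue (range_of_allGrid c_fin_1) (range_glue (range_of_allGrid c_fin_2) (range_glue (range_of_allGrid c_fin_3) (range_glue (range_of_allGrid c_fin_4) (range_glue (range_of_allGrid c_fin_5) (range_glue (range_of_allGrid c_fin_6) (range_glue (range_of_allGrid c_fin_7) (range_glue (range_of_allGrid c_fin_8) (range_glue (range_of_allGrid c_fin_9) (range_glue (range_of_allGrid c_fin_10) (range_glue (range_of_allGrid c_fin_11) (range_glue (range_of_allGrid c_fin_12) (range_glue (range_of_allGrid c_fin_13) (range_glue (range_of_allGrid c_fin_14) (range_glue (range_of_allGrid c_fin_15) (range_glue (range_of_allGrid c_fin_16) (range_glue (range_of_allGrid c_fin_17) (range_glue (range_of_allGrid c_fin_18) (range_glue (range_of_allGrid c_fin_19) (range_glue (range_of_allGrid c_fin_20) (range_glue (range_of_allGrid c_fin_21) (range_glue (range_of_allGrid c_fin_22) (range_glue (range_of_allGrid c_fin_23) (range_glue (range_of_allGrid c_fin_24) (range_glue (range_of_allGrid c_fin_25) (range_glue (range_of_allGrid c_fin_26)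 (range_glue (range_of_allGrid c_fin_27) (range_glue (range_of_allGrid c_fin_28) (range_glue (range_of_allGrid c_fin_29) (range_glue (range_of_allGrid c_fin_30) (range_glue (range_of_allGrid c_fin_31) (range_of_allGrid c_fin_32)))))))))))))))))))))))))))))))))
theorem h_perm : ∀ i, 0 ≤ i → i < 48600 → ∀ x, x < 8 → T.permOK1 D i x = true :=
  (range_glue (range_of_allGrid c_perm_0) (range_glue (range_of_allGrid c_perm_1) (range_glue (range_of_allGrid c_perm_2) (range_glue (range_of_allGrid c_perm_3) (range_glue (range_of_allGrid c_perm_4) (range_glue (range_of_allGrid c_perm_5) (range_glue (range_of_allGrid c_perm_6) (range_glue (range_of_allGrid c_perm_7) (range_glue (range_of_allGrid c_perm_8) (range_glue (range_of_allGrid c_perm_9) (range_glue (range_of_allGrid c_perm_10) (range_glue (range_of_allGrid c_perm_11) (range_of_allGrid c_perm_12)))))))))))))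
theorem h_act0 : ∀ i, 0 ≤ i → i < 48600 → Nat.beq (actR0 i) i = true :=
  (range_glue (range_of_allRange c_act0_0) (range_of_allRange c_act0_1))
theorem h_act1 : ∀ i, 0 ≤ i → i < 48600 → Nat.beq (actR1 i) i = true :=
  (range_glue (range_of_allRange c_act1_0) (range_glue (range_of_allRange c_act1_1) (range_glue (range_of_allRange c_act1_2) (range_of_allRange c_act1_3))))
theorem h_act2 : ∀ i, 0 ≤ i → i < 48600 → Nat.beq (actR2 i) i = true :=
  (range_glue (range_of_allRange c_act2_0) (range_glue (range_of_allRange c_act2_1) (range_glue (range_of_allRange c_act2_2) (range_glue (range_of_allRange c_act2_3) (range_glue (range_of_allRange c_act2_4) (range_glue (range_of_allRange c_act2_5) (range_glue (range_of_allRange c_act2_6) (range_glue (range_of_allRange c_act2_7) (range_glue (range_of_allRange c_act2_8) (range_glue (range_of_allRange c_act2_9) (range_glue (range_of_allRange c_act2_10) (range_glue (range_of_allRange c_act2_11) (range_glue (range_of_allRange c_act2_12) (range_glue (range_of_allRange c_act2_13) (range_glue (range_of_allRange c_act2_14) (range_glue (range_of_allRange c_act2_15) (range_glue (range_of_allRange c_act2_16)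 (range_of_allRange c_act2_17))))))))))))))))))
theorem h_act3 : ∀ i, 0 ≤ i → i < 48600 → Nat.beq (actR3 i) i = true :=
  (range_glue (range_of_allRange c_act3_0) (range_glue (range_of_allRange c_act3_1) (range_glue (range_of_allRange c_act3_2) (range_glue (range_of_allRange c_act3_3) (range_glue (range_of_allRange c_act3_4) (range_glue (range_of_allRange c_act3_5) (range_glue (range_of_allRange c_act3_6) (range_glue (range_of_allRange c_act3_7) (range_glue (range_of_allRange c_act3_8) (range_glue (range_of_allRange c_act3_9) (range_glue (range_of_allRange c_act3_10) (range_glue (range_of_allRange c_act3_11) (range_glue (range_of_allRange c_act3_12) (range_glue (range_of_allRange c_act3_13) (range_of_allRange c_act3_14)))))))))))))))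
theorem h_act4 : ∀ i, 0 ≤ i → i < 48600 → Nat.beq (actR4 i) i = true :=
  (range_glue (range_of_allRange c_act4_0) (range_glue (range_of_allRange c_act4_1) (range_glue (range_of_allRange c_act4_2) (range_glue (range_of_allRange c_act4_3) (range_glue (range_of_allRange c_act4_4) (range_glue (range_of_allRange c_act4_5) (range_glue (range_of_allRange c_act4_6) (range_glue (range_of_allRange c_act4_7) (range_glue (range_of_allRange c_act4_8) (range_glue (range_of_allRange c_act4_9) (range_glue (range_of_allRange c_act4_10) (range_glue (range_of_allRange c_act4_11) (range_glue (range_of_allRange c_act4_12) (range_glue (range_of_allRange c_act4_13) (range_glue (range_of_allRange c_act4_14) (range_of_allRange c_act4_15))))))))))))))))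
theorem h_act5 : ∀ i, 0 ≤ i → i < 48600 → Nat.beq (actR5 i) i = true :=
  (range_glue (range_of_allRange c_act5_0) (range_glue (range_of_allRange c_act5_1) (range_glue (range_of_allRange c_act5_2) (range_glue (range_of_allRange c_act5_3) (range_glue (range_of_allRange c_act5_4) (range_glue (range_of_allRange c_act5_5) (range_glue (range_of_allRange c_act5_6) (range_glue (range_of_allRange c_act5_7) (range_glue (range_of_allRange c_act5_8) (range_glue (range_of_allRange c_act5_9) (range_glue (range_of_allRange c_act5_10) (range_glue (range_of_allRange c_act5_11) (range_glue (range_of_allRange c_act5_12) (range_glue (range_of_allRange c_act5_13) (range_glue (range_of_allRange c_act5_14) (range_glue (range_of_allRange c_act5_15) (range_glue (range_of_allRange c_act5_16) (range_glue (range_of_allRange c_act5_17) (range_of_allRange c_act5_18)))))))))))))))))))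
theorem h_act6 : ∀ i, 0 ≤ i → i < 48600 → Nat.beq (actR6 i) i = true :=
  (range_glue (range_of_allRange c_act6_0) (range_glue (range_of_allRange c_act6_1) (range_glue (range_of_allRange c_act6_2) (range_glue (range_of_allRange c_act6_3) (range_glue (range_of_allRange c_act6_4) (range_of_allRange c_act6_5))))))
theorem h_act7 : ∀ i, 0 ≤ i → i < 48600 → Nat.beq (actR7 i) i = true :=
  (range_glue (range_of_allRange c_act7_0) (range_glue (range_of_allRange c_act7_1) (range_glue (range_of_allRange c_act7_2) (range_glue (range_of_allRange c_act7_3) (range_glue (range_of_allRange c_act7_4) (range_glue (range_of_allRange c_act7_5) (range_glue (range_of_allRange c_act7_6) (range_glue (range_of_allRange c_act7_7) (range_glue (range_of_allRange c_act7_8) (range_of_allRange c_act7_9))))))))))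
theorem h_act8 : ∀ i, 0 ≤ i → i < 48600 → Nat.beq (actR8 i) i = true :=
  (range_glue (range_of_allRange c_act8_0) (range_glue (range_of_allRange c_act8_1) (range_glue (range_of_allRange c_act8_2) (range_glue (range_of_allRange c_act8_3) (range_glue (range_of_allRange c_act8_4) (range_glue (range_of_allRange c_act8_5) (range_glue (range_of_allRange c_act8_6) (range_glue (range_of_allRange c_act8_7) (range_glue (range_of_allRange c_act8_8) (range_of_allRange c_act8_9))))))))))
theorem h_act9 : ∀ i, 0 ≤ i → i < 48600 → Nat.beq (actR9 i) i = true :=
  (range_glue (range_of_allRange c_act9_0) (range_glue (range_of_allRange c_act9_1) (range_glue (range_of_allRange c_act9_2) (range_glue (range_of_allRange c_act9_3) (range_glue (range_of_allRange c_act9_4) (range_glue (range_of_allRange c_act9_5) (range_glue (range_of_allRange c_act9_6) (range_glue (range_of_allRange c_act9_7) (range_glue (range_of_allRange c_act9_8) (range_glue (range_of_allRange c_act9_9) (range_glue (range_of_allRange c_act9_10) (range_glue (range_of_allRange c_act9_11) (range_of_allRange c_act9_12)))))))))))))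
theorem h_act10 : ∀ i, 0 ≤ i → i < 48600 → Nat.beq (actR10 i) i = true :=
  (range_glue (range_of_allRange c_act10_0) (range_glue (range_of_allRange c_act10_1) (range_glue (range_of_allRange c_act10_2) (range_glue (range_of_allRange c_act10_3) (range_glue (range_of_allRange c_act10_4) (range_glue (range_of_allRange c_act10_5) (range_glue (range_of_allRange c_act10_6) (range_glue (range_of_allRange c_act10_7) (range_glue (range_of_allRange c_act10_8) (range_glue (range_of_allRange c_act10_9) (range_glue (range_of_allRange c_act10_10) (range_glue (range_of_allRange c_act10_11) (range_of_allRange c_act10_12)))))))))))))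
theorem h_act11 : ∀ i, 0 ≤ i → i < 48600 → Nat.beq (actR11 i) i = true :=
  (range_glue (range_of_allRange c_act11_0) (range_glue (range_of_allRange c_act11_1) (range_glue (range_of_allRange c_act11_2) (range_glue (range_of_allRange c_act11_3) (range_glue (range_of_allRange c_act11_4) (range_glue (range_of_allRange c_act11_5) (range_glue (range_of_allRange c_act11_6) (range_glue (range_of_allRange c_act11_7) (range_glue (range_of_allRange c_act11_8) (range_glue (range_of_allRange c_act11_9) (range_glue (range_of_allRange c_act11_10) (range_glue (range_of_allRange c_act11_11) (range_of_allRange c_act11_12)))))))))))))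
theorem h_act12 : ∀ i, 0 ≤ i → i < 48600 → Nat.beq (actR12 i) i = true :=
  (range_glue (range_of_allRange c_act12_0) (range_of_allRange c_act12_1))
theorem h_act13 : ∀ i, 0 ≤ i → i < 48600 → Nat.beq (actR13 i) i = true :=
  (range_glue (range_of_allRange c_act13_0) (range_glue (range_of_allRange c_act13_1) (range_glue (range_of_allRange c_act13_2) (range_glue (range_of_allRange c_act13_3) (range_glue (range_of_allRange c_act13_4) (range_glue (range_of_allRange c_act13_5) (range_glue (range_of_allRange c_act13_6) (range_glue (range_of_allRange c_act13_7) (range_glue (range_of_allRange c_act13_8) (range_glue (range_of_allRange c_act13_9) (range_glue (range_of_allRange c_act13_10) (range_glue (range_of_allRange c_act13_11) (range_glue (range_of_allRange c_act13_12) (range_glue (range_of_allRange c_act13_13) (range_glue (range_of_allRange c_act13_14) (range_glue (range_of_allRange c_act13_15) (range_glue (range_of_allRange c_act13_16) (range_of_allRange c_act13_17))))))))))))))))))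
theorem h_act14 : ∀ i, 0 ≤ i → i < 48600 → Nat.beq (actR14 i) i = true :=
  (range_glue (range_of_allRange c_act14_0) (range_glue (range_of_allRange c_act14_1) (range_glue (range_of_allRange c_act14_2) (range_glue (range_of_allRange c_act14_3) (range_glue (range_of_allRange c_act14_4) (range_glue (range_of_allRange c_act14_5) (range_glue (range_of_allRange c_act14_6) (range_glue (range_of_allRange c_act14_7) (range_glue (range_of_allRange c_act14_8) (range_glue (range_of_allRange c_act14_9) (range_glue (range_of_allRange c_act14_10) (range_glue (range_of_allRange c_act14_11) (range_glue (range_of_allRange c_act14_12) (range_glue (range_of_allRange c_act14_13) (range_glue (range_of_allRange c_act14_14) (range_glue (range_of_allRange c_act14_15) (range_glue (range_of_allRange c_act14_16) (range_glue (range_of_allRange c_act14_17) (range_of_allRange c_act14_18)))))))))))))))))))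
theorem h_act15 : ∀ i, 0 ≤ i → i < 48600 → Nat.beq (actR15 i) i = true :=
  (range_glue (range_of_allRange c_act15_0) (range_glue (range_of_allRange c_act15_1) (range_glue (range_of_allRange c_act15_2) (range_glue (range_of_allRange c_act15_3) (range_glue (range_of_allRange c_act15_4) (range_glue (range_of_allRange c_act15_5) (range_glue (range_of_allRange c_act15_6) (range_glue (range_of_allRange c_act15_7) (range_glue (range_of_allRange c_act15_8) (range_glue (range_of_allRange c_act15_9) (range_glue (range_of_allRange c_act15_10) (range_glue (range_of_allRange c_act15_11) (range_glue (range_of_allRange c_act15_12) (range_glue (range_of_allRange c_act15_13) (range_glue (range_of_allRange c_act15_14) (range_glue (range_of_allRange c_act15_15) (range_glue (range_of_allRange c_act15_16) (range_glue (range_of_allRange c_act15_17) (range_glue (range_of_allRange c_act15_18) (range_of_allRange c_act15_19))))))))))))))))))))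
theorem h_act16 : ∀ i, 0 ≤ i → i < 48600 → Nat.beq (actR16 i) i = true :=
  (range_glue (range_of_allRange c_act16_0) (range_glue (range_of_allRange c_act16_1) (range_glue (range_of_allRange c_act16_2) (range_glue (range_of_allRange c_act16_3) (range_glue (range_of_allRange c_act16_4) (range_glue (range_of_allRange c_act16_5) (range_glue (range_of_allRange c_act16_6) (range_glue (range_of_allRange c_act16_7) (range_glue (range_of_allRange c_act16_8) (range_glue (range_of_allRange c_act16_9) (range_glue (range_of_allRange c_act16_10) (range_glue (range_of_allRange c_act16_11) (range_glue (range_of_allRange c_act16_12) (range_glue (range_of_allRange c_act16_13) (range_glue (range_of_allRange c_act16_14) (range_glue (range_of_allRange c_act16_15) (range_glue (range_of_allRange c_act16_16) (range_glue (range_of_allRange c_act16_17) (range_glue (range_of_allRange c_act16_18) (range_glue (range_of_allRange c_act16_19) (range_glue (range_of_allRange c_act16_20) (range_of_allRange c_act16_21))))))))))))))))))))))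

theorem checked : T.Checked D where
  hz := c_zero
  hn := fun d h0 hd => h_names d h0 hd
  hb := fun j hj => allBelow_eq_true.1 c_base j hj
  hr := fun t h1 h2 => h_rel t h1 h2
  hfin := fun i x hi hx => h_fin i (Nat.zero_le _) hi x hx
  hperm := fun i x hi hx => h_perm i (Nat.zero_le _) hi x hx
  hlet := fun x hx => allBelow_eq_true.1 c_let x hx
  hcls := fun d h0 hd => h_cls d h0 hd
  hrep := fun i hi => h_rep i (Nat.zero_le _) hi
  hcls0 := c_cls0
  hname0 := c_name0
  hN := by decide
  hM := by decide

theorem h_act : ∀ L ∈ PCo3p.P.real, ∀ i, i < T.N → Tab.relActOK T D L i = true := by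
  rw [c_real]
  intro L hL
  simp only [realLit, List.mem_cons, List.not_mem_nil, or_false] at hL
  rcases hL with rfl | rfl | rfl | rfl | rfl | rfl | rfl | rfl | rfl | rfl | rfl | rfl | rfl | rfl | rfl | rfl | rfl
  · intro i hi
    rw [Tab.relActOK, ← actR0_eq]
    exact h_act0 i (Nat.zero_le _) hi
  · intro i hi
    rw [Tab.relActOK, ← actR1_eq]
    exact h_act1 i (Nat.zero_le _) hi
  · intro i hi
    rw [Tab.relActOK, ← actR2_eq]
    exact h_act2 i (Nat.zero_le _) hi
  · intro i hi
    rw [Tab.relActOK, ← actR3_eq]
    exact h_act3 i (Nat.zero_le _) hi
  · intro i hi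
    rw [Tab.relActOK, ← actR4_eq]
    exact h_act4 i (Nat.zero_le _) hi
  · intro i hi
    rw [Tab.relActOK, ← actR5_eq]
    exact h_act5 i (Nat.zero_le _) hi
  · intro i hi
    rw [Tab.relActOK, ← actR6_eq]
    exact h_act6 i (Nat.zero_le _) hi
  · intro i hi
    rw [Tab.relActOK, ← actR7_eq]
    exact h_act7 i (Nat.zero_le _) hi
  · intro i hi
    rw [Tab.relActOK, ← actR8_eq]
    exact h_act8 i (Nat.zero_le _) hi
  · intro i hi
    rw [Tab.relActOK, ← actR9_eq]
    exact h_act9 i (Nat.zero_le _) hi
  · intro i hi
    rw [Tab.relActOK, ← actR10_eq]
    exact h_act10 i (Nat.zero_le _) hi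
  · intro i hi
    rw [Tab.relActOK, ← actR11_eq]
    exact h_act11 i (Nat.zero_le _) hi
  · intro i hi
    rw [Tab.relActOK, ← actR12_eq]
    exact h_act12 i (Nat.zero_le _) hi
  · intro i hi
    rw [Tab.relActOK, ← actR13_eq]
    exact h_act13 i (Nat.zero_le _) hi
  · intro i hi
    rw [Tab.relActOK, ← actR14_eq]
    exact h_act14 i (Nat.zero_le _) hi
  · intro i hi
    rw [Tab.relActOK, ← actR15_eq]
    exact h_act15 i (Nat.zero_le _) hi
  · intro i hi
    rw [Tab.relActOK, ← actR16_eq]
    exact h_act16 i (Nat.zero_le _) hi

theorem inst : Inst PCo3p.P T D subs where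
  hP := PCo3p.valid
  hk := rfl
  hinv := rfl
  hsubs := by
    intro u hu x hx
    have h1 := List.all_eq_true.1 c_subs u hu
    exact ble_succ (List.all_eq_true.1 h1 x hx)
  htab := c_tab
  hC := checked
  hact := h_act
  hsubfix := fun u hu => beq_eq (List.all_eq_true.1 c_subfix u hu)

theorem index_eq : (Inst.subG PCo3p.P subs).index = 48600 := inst.index_eq


end Cfsg.Agent.Lib.Helper4.TCD.Co3pA
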