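import Cfsg.Agent.Lib.Helper4.TCD_Co3pL_Acc

namespace Cfsg.Agent.Lib.Helper4.TCD.Co3pL

open Cfsg.Agent.Lib.Helper4.TC Cfsg.Agent.Lib.Helper4.TCD.Co3pA

set_option maxRecDepth 100000
set_option Elab.async false

theorem c_p12_8 : allRange chk12 16544 2068 = true := by decide +kernel
theorem c_p12_9 : allRange chk12 18612 2068 = true := by decide +kernel
theorem c_p12_10 : allRange chk12 20680 2068 = true := by decide +kernel
theorem c_p12_11 : allRange chk12 22748 2068 = true := by decide +kernel
theorem c_p12_12 : allRange chk12 24816 2068 = true := by decide +kernel
theorem c_p12_13 : allRange chk12 26884 2068 = true := by decide +kernel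
theorem c_p12_14 : allRange chk12 28952 2068 = true := by decide +kernel
theorem c_p12_15 : allRange chk12 31020 2068 = true := by decide +kernel
theorem c_p12_16 : allRange chk12 33088 2068 = true := by decide +kernel
theorem c_p12_17 : allRange chk12 35156 2068 = true := by decide +kernel
theorem c_p12_18 : allRange chk12 37224 2068 = true := by decide +kernel
theorem c_p12_19 : allRange chk12 39292 2068 = true := by decide +kernel
theorem c_p12_20 : allRange chk12 41360 2068 = true := by decide +kernel
theorem c_p12_21 : allRange chk12 43428 2068 = true := by decide +kernel
theorem c_p12_22 : allRange chk12 45496 2068 = true := by decide +kernel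
theorem c_p12_23 : allRange chk12 47564 1036 = true := by decide +kernel
theorem c_p13_0 : allRange chk13 0 2222 = true := by decide +kernel
theorem c_p13_1 : allRange chk13 2222 2222 = true := by decide +kernel
theorem c_p13_2 : allRange chk13 4444 2222 = true := by decide +kernel
theorem c_p13_3 : allRange chk13 6666 2222 = true := by decide +kernel
theorem c_p13_4 : allRange chk13 8888 2222 = true := by decide +kernel
theorem c_p13_5 : allRange chk13 11110 2222 = true := by decide +kernel
theorem c_p13_6 : allRange chk13 13332 2222 = true := by decide +kernel
theorem c_p13_7 : allRange chk13 15554 2222 = true := by decide +kernel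
theorem c_p13_8 : allRange chk13 17776 2222 = true := by decide +kernel
theorem c_p13_9 : allRange chk13 19998 2222 = true := by decide +kernel
theorem c_p13_10 : allRange chk13 22220 2222 = true := by decide +kernel
theorem c_p13_11 : allRange chk13 24442 2222 = true := by decide +kernel
theorem c_p13_12 : allRange chk13 26664 2222 = true := by decide +kernel
theorem c_p13_13 : allRange chk13 28886 2222 = true := by decide +kernel
theorem c_p13_14 : allRange chk13 31108 2222 = true := by decide +kernel
theorem c_p13_15 : allRange chk13 33330 2222 = true := by decide +kernel
theorem c_p13_16 : allRange chk13 35552 2222 = true := by decide +kernel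
theorem c_p13_17 : allRange chk13 37774 2222 = true := by decide +kernel
theorem c_p13_18 : allRange chk13 39996 2222 = true := by decide +kernel
theorem c_p13_19 : allRange chk13 42218 2222 = true := by decide +kernel
theorem c_p13_20 : allRange chk13 44440 2222 = true := by decide +kernel
theorem c_p13_21 : allRange chk13 46662 1938 = true := by decide +kernel
theorem c_p14_0 : allRange chk14 0 3750 = true := by decide +kernel
theorem c_p14_1 : allRange chk14 3750 3750 = true := by decide +kernel
theorem c_p14_2 : allRange chk14 7500 3750 = true := by decide +kernel
theorem c_p14_3 : allRange chk14 11250 3750 = true := by decide +kernel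
theorem c_p14_4 : allRange chk14 15000 3750 = true := by decide +kernel
theorem c_p14_5 : allRange chk14 18750 3750 = true := by decide +kernel
theorem c_p14_6 : allRange chk14 22500 3750 = true := by decide +kernel
theorem c_p14_7 : allRange chk14 26250 3750 = true := by decide +kernel
theorem c_p14_8 : allRange chk14 30000 3750 = true := by decide +kernel
theorem c_p14_9 : allRange chk14 33750 3750 = true := by decide +kernel
theorem c_p14_10 : allRange chk14 37500 3750 = true := by decide +kernel
theorem c_p14_11 : allRange chk14 41250 3750 = true := by decide +kernel

end Cfsg.Agent.Lib.Helper4.TCD.Co3pL
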