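import Cfsg.Agent.Lib.Helper4.TCD_Co3pL_Acc

namespace Cfsg.Agent.Lib.Helper4.TCD.Co3pL

open Cfsg.Agent.Lib.Helper4.TC Cfsg.Agent.Lib.Helper4.TCD.Co3pA

set_option maxRecDepth 100000
set_option Elab.async false

theorem c_p14_12 : allRange chk14 45000 3600 = true := by decide +kernel
theorem c_nd0_0 : allRange (S.nodeOK 0) 0 5000 = true := by decide +kernel
theorem c_nd0_1 : allRange (S.nodeOK 0) 5000 5000 = true := by decide +kernel
theorem c_nd0_2 : allRange (S.nodeOK 0) 10000 5000 = true := by decide +kernel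
theorem c_nd0_3 : allRange (S.nodeOK 0) 15000 5000 = true := by decide +kernel
theorem c_nd0_4 : allRange (S.nodeOK 0) 20000 5000 = true := by decide +kernel
theorem c_nd0_5 : allRange (S.nodeOK 0) 25000 5000 = true := by decide +kernel
theorem c_nd0_6 : allRange (S.nodeOK 0) 30000 5000 = true := by decide +kernel
theorem c_nd0_7 : allRange (S.nodeOK 0) 35000 5000 = true := by decide +kernel
theorem c_nd0_8 : allRange (S.nodeOK 0) 40000 5000 = true := by decide +kernel
theorem c_nd0_9 : allRange (S.nodeOK 0) 45000 3600 = true := by decide +kernel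
theorem c_nd1_0 : allRange (S.nodeOK 1) 0 1771 = true := by decide +kernel
theorem c_nd2_0 : allRange (S.nodeOK 2) 0 320 = true := by decide +kernel
theorem c_nd3_0 : allRange (S.nodeOK 3) 0 9 = true := by decide +kernel
theorem c_nd4_0 : allRange (S.nodeOK 4) 0 2 = true := by decide +kernel

end Cfsg.Agent.Lib.Helper4.TCD.Co3pL
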