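import Cfsg.Agent.Lib.Helper4.TCD_SM23pp2A_Acc

namespace Cfsg.Agent.Lib.Helper4.TCD.SM23pp2A

open Cfsg.Agent.Lib.Helper4.TC

set_option maxRecDepth 100000
set_option Elab.async false

theorem c_rel_58 : allRange D.relOK 465987 3687 = true := by decide +kernel
theorem c_rel_59 : allRange D.relOK 469674 3674 = true := by decide +kernel
theorem c_rel_60 : allRange D.relOK 473348 3695 = true := by decide +kernel
theorem c_rel_61 : allRange D.relOK 477043 3734 = true := by decide +kernel
theorem c_rel_62 : allRange D.relOK 480777 3776 = true := by decide +kernel
theorem c_rel_63 : allRange D.relOK 484553 3758 = true := by decide +kernel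
theorem c_rel_64 : allRange D.relOK 488311 3741 = true := by decide +kernel
theorem c_rel_65 : allRange D.relOK 492052 3740 = true := by decide +kernel
theorem c_rel_66 : allRange D.relOK 495792 3791 = true := by decide +kernel
theorem c_rel_67 : allRange D.relOK 499583 3674 = true := by decide +kernel
theorem c_rel_68 : allRange D.relOK 503257 3637 = true := by decide +kernel
theorem c_rel_69 : allRange D.relOK 506894 3653 = true := by decide +kernel
theorem c_rel_70 : allRange D.relOK 510547 3759 = true := by decide +kernel
theorem c_rel_71 : allRange D.relOK 514306 3738 = true := by decide +kernel
theorem c_rel_72 : allRange D.relOK 518044 3595 = true := by decide +kernel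
theorem c_rel_73 : allRange D.relOK 521639 3490 = true := by decide +kernel
theorem c_rel_74 : allRange D.relOK 525129 3697 = true := by decide +kernel
theorem c_rel_75 : allRange D.relOK 528826 3634 = true := by decide +kernel
theorem c_rel_76 : allRange D.relOK 532460 3637 = true := by decide +kernel
theorem c_rel_77 : allRange D.relOK 536097 3639 = true := by decide +kernel
theorem c_rel_78 : allRange D.relOK 539736 3658 = true := by decide +kernel
theorem c_rel_79 : allRange D.relOK 543394 3823 = true := by decide +kernel
theorem c_rel_80 : allRange D.relOK 547217 3709 = true := by decide +kernel
theorem c_rel_81 : allRange D.relOK 550926 3589 = true := by decide +kernel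
theorem c_rel_82 : allRange D.relOK 554515 3596 = true := by decide +kernel
theorem c_rel_83 : allRange D.relOK 558111 3641 = true := by decide +kernel
theorem c_rel_84 : allRange D.relOK 561752 3586 = true := by decide +kernel
theorem c_rel_85 : allRange D.relOK 565338 3528 = true := by decide +kernel
theorem c_rel_86 : allRange D.relOK 568866 3503 = true := by decide +kernel
theorem c_rel_87 : allRange D.relOK 572369 3678 = true := by decide +kernel
theorem c_rel_88 : allRange D.relOK 576047 3326 = true := by decide +kernel
theorem c_rel_89 : allRange D.relOK 579373 3662 = true := by decide +kernel
theorem c_rel_90 : allRange D.relOK 583035 3697 = true := by decide +kernel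
theorem c_rel_91 : allRange D.relOK 586732 3722 = true := by decide +kernel
theorem c_rel_92 : allRange D.relOK 590454 2914 = true := by decide +kernel
theorem c_rel_93 : allRange D.relOK 593368 2900 = true := by decide +kernel
theorem c_rel_94 : allRange D.relOK 596268 3388 = true := by decide +kernel
theorem c_rel_95 : allRange D.relOK 599656 3444 = true := by decide +kernel
theorem c_rel_96 : allRange D.relOK 603100 3295 = true := by decide +kernel
theorem c_rel_97 : allRange D.relOK 606395 3424 = true := by decide +kernel
theorem c_rel_98 : allRange D.relOK 609819 3510 = true := by decide +kernel
theorem c_rel_99 : allRange D.relOK 613329 3561 = true := by decide +kernel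
theorem c_rel_100 : allRange D.relOK 616890 3571 = true := by decide +kernel
theorem c_rel_101 : allRange D.relOK 620461 3593 = true := by decide +kernel
theorem c_rel_102 : allRange D.relOK 624054 3604 = true := by decide +kernel
theorem c_rel_103 : allRange D.relOK 627658 2621 = true := by decide +kernel
theorem c_rel_104 : allRange D.relOK 630279 3063 = true := by decide +kernel
theorem c_rel_105 : allRange D.relOK 633342 3344 = true := by decide +kernel
theorem c_rel_106 : allRange D.relOK 636686 3321 = true := by decide +kernel
theorem c_rel_107 : allRange D.relOK 640007 3288 = true := by decide +kernel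
theorem c_rel_108 : allRange D.relOK 643295 3288 = true := by decide +kernel
theorem c_rel_109 : allRange D.relOK 646583 3290 = true := by decide +kernel
theorem c_rel_110 : allRange D.relOK 649873 3194 = true := by decide +kernel
theorem c_rel_111 : allRange D.relOK 653067 3212 = true := by decide +kernel
theorem c_rel_112 : allRange D.relOK 656279 3214 = true := by decide +kernel
theorem c_rel_113 : allRange D.relOK 659493 3165 = true := by decide +kernel
theorem c_rel_114 : allRange D.relOK 662658 3175 = true := by decide +kernel
theorem c_rel_115 : allRange D.relOK 665833 3051 = true := by decide +kernel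
theorem c_rel_116 : allRange D.relOK 668884 3091 = true := by decide +kernel
theorem c_rel_117 : allRange D.relOK 671975 3071 = true := by decide +kernel
theorem c_rel_118 : allRange D.relOK 675046 3000 = true := by decide +kernel
theorem c_rel_119 : allRange D.relOK 678046 3019 = true := by decide +kernel
theorem c_rel_120 : allRange D.relOK 681065 2949 = true := by decide +kernel
theorem c_rel_121 : allRange D.relOK 684014 3072 = true := by decide +kernel
theorem c_rel_122 : allRange D.relOK 687086 2977 = true := by decide +kernel
theorem c_rel_123 : allRange D.relOK 690063 2971 = true := by decide +kernel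
theorem c_rel_124 : allRange D.relOK 693034 2942 = true := by decide +kernel
theorem c_rel_125 : allRange D.relOK 695976 2968 = true := by decide +kernel
theorem c_rel_126 : allRange D.relOK 698944 2976 = true := by decide +kernel
theorem c_rel_127 : allRange D.relOK 701920 2956 = true := by decide +kernel
theorem c_rel_128 : allRange D.relOK 704876 2978 = true := by decide +kernel
theorem c_rel_129 : allRange D.relOK 707854 2875 = true := by decide +kernel
theorem c_rel_130 : allRange D.relOK 710729 2915 = true := by decide +kernel
theorem c_rel_131 : allRange D.relOK 713644 2892 = true := by decide +kernel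
theorem c_rel_132 : allRange D.relOK 716536 2856 = true := by decide +kernel
theorem c_rel_133 : allRange D.relOK 719392 2827 = true := by decide +kernel
theorem c_rel_134 : allRange D.relOK 722219 2789 = true := by decide +kernel
theorem c_rel_135 : allRange D.relOK 725008 2736 = true := by decide +kernel
theorem c_rel_136 : allRange D.relOK 727744 2818 = true := by decide +kernel
theorem c_rel_137 : allRange D.relOK 730562 2758 = true := by decide +kernel
theorem c_rel_138 : allRange D.relOK 733320 2683 = true := by decide +kernel
theorem c_rel_139 : allRange D.relOK 736003 2702 = true := by decide +kernel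
theorem c_rel_140 : allRange D.relOK 738705 2673 = true := by decide +kernel
theorem c_rel_141 : allRange D.relOK 741378 2681 = true := by decide +kernel
theorem c_rel_142 : allRange D.relOK 744059 2610 = true := by decide +kernel
theorem c_rel_143 : allRange D.relOK 746669 2591 = true := by decide +kernel
theorem c_rel_144 : allRange D.relOK 749260 2580 = true := by decide +kernel
theorem c_rel_145 : allRange D.relOK 751840 2566 = true := by decide +kernel
theorem c_rel_146 : allRange D.relOK 754406 2538 = true := by decide +kernel
theorem c_rel_147 : allRange D.relOK 756944 2536 = true := by decide +kernel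
theorem c_rel_148 : allRange D.relOK 759480 2546 = true := by decide +kernel
theorem c_rel_149 : allRange D.relOK 762026 2508 = true := by decide +kernel
theorem c_rel_150 : allRange D.relOK 764534 2527 = true := by decide +kernel
theorem c_rel_151 : allRange D.relOK 767061 2506 = true := by decide +kernel
theorem c_rel_152 : allRange D.relOK 769567 2497 = true := by decide +kernel
theorem c_rel_153 : allRange D.relOK 772064 2497 = true := by decide +kernel
theorem c_rel_154 : allRange D.relOK 774561 2461 = true := by decide +kernel
theorem c_rel_155 : allRange D.relOK 777022 4192 = true := by decide +kernel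
theorem c_rel_156 : allRange D.relOK 781214 4078 = true := by decide +kernel

end Cfsg.Agent.Lib.Helper4.TCD.SM23pp2A
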