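import Mathlib
import Cfsg.Agent.Lib.Helper4.M23pMain
import Cfsg.Agent.Lib.Helper4.SM23pp2Main
import Cfsg.Agent.Lib.Helper4.M11pStem
import Cfsg.Agent.Lib.Helper4.RelLib
import Cfsg.Agent.Lib.Helper4.StemLib7

/-!
The presented group `M23p` (the Mathieu group M23) is perfect and has no stem extension with kernel of prime
order: for the prime 2 by a coset enumeration, for the prime 3 by transfer to the subgroup M11.
-/

namespace Cfsg.Agent.Lib.Helper4.M23pStem

open Cfsg.Agent.Lib.Helper4.TC Cfsg.Agent.Lib.Helper4.TCD Cfsg.Agent.Lib.Helper4.TC.Log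
  Cfsg.Agent.Lib.Helper4.Stem

theorem exists_row : ∃ i, i < M23pA.T.N ∧
    Tab.act M23pA.T M23pA.D [0, 2] i ≠ Tab.act M23pA.T M23pA.D [2, 0] i := by decide +kernel

theorem perfect : commutator PM23p.P.Grp = ⊤ := by
  apply commutator_eq_top_of_simple M23pMain.simple_aux (PM23p.P.gR 0) (PM23p.P.gR 2)
  obtain ⟨i, hi, h⟩ := exists_row
  have h1 := M23pA.inst.word_ne_word [0, 2] [2, 0] (by decide) (by decide) i hi h
  simpa only [wordP_cons, wordP_nil, mul_one] using h1

/-- the prime 3: the subgroup M11 has index 1288 -/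
theorem noStem3 : NoStemPrime PM23p.P.Grp 3 := by
  obtain ⟨fG, _, hcard⟩ := M23pMain.order_aux
  obtain ⟨fK, _, hcardK⟩ := M11pMain.order_aux
  have := fG
  have := fK
  let f := M23pMain.embK_emb.hom
  have e : PM11p.P.Grp ≃* f.range := MonoidHom.ofInjective M23pMain.hom_injective
  have hc : Nat.card f.range = 7920 := by rw [← Nat.card_congr e.toEquiv, hcardK]
  have hidx : f.range.index = 1288 := by
    have h := f.range.card_mul_index
    rw [hc, hcard] at h
    omega
  apply noStemPrime_of_subgroup PM23p.P.Grp f.range 3 (by norm_num)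
  · rw [hidx]
    decide
  · exact noStemPrime_of_mulEquiv e 3 (M11pStem.noStem 3 (by norm_num))

theorem noStem : ∀ p, p.Prime → NoStemPrime PM23p.P.Grp p := by
  obtain ⟨fG, _, hcard⟩ := M23pMain.order_aux
  have := fG
  apply noStemPrime_all PM23p.P.Grp [2, 3]
  · intro p hp
    simp only [List.mem_cons, List.not_mem_nil, or_false] at hp
    rcases hp with rfl | rfl
    · exact SM23pp2Main.noStem
    · exact noStem3
  · rw [hcard]
    exact sq_dvd_mem_of_factors 10200960 [2, 2, 2, 2, 2, 2, 2, 3, 3, 5, 7, 11, 23] (by norm_num) (by decide) [2, 3]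
      (by decide)

end Cfsg.Agent.Lib.Helper4.M23pStem
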