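import Cfsg.Agent.Lib.Helper4.TCD_SCo3pp2A_Acc

namespace Cfsg.Agent.Lib.Helper4.TCD.SCo3pp2A

open Cfsg.Agent.Lib.Helper4.TC

set_option maxRecDepth 100000
set_option Elab.async false

theorem c_rel_83 : allRange D.relOK 286509 2053 = true := by decide +kernel
theorem c_rel_84 : allRange D.relOK 288562 3247 = true := by decide +kernel
theorem c_rel_85 : allRange D.relOK 291809 3418 = true := by decide +kernel
theorem c_rel_86 : allRange D.relOK 295227 2518 = true := by decide +kernel
theorem c_rel_87 : allRange D.relOK 297745 1872 = true := by decide +kernel
theorem c_rel_88 : allRange D.relOK 299617 2295 = true := by decide +kernel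
theorem c_rel_89 : allRange D.relOK 301912 2569 = true := by decide +kernel
theorem c_rel_90 : allRange D.relOK 304481 3427 = true := by decide +kernel
theorem c_rel_91 : allRange D.relOK 307908 2128 = true := by decide +kernel
theorem c_rel_92 : allRange D.relOK 310036 2167 = true := by decide +kernel
theorem c_rel_93 : allRange D.relOK 312203 1692 = true := by decide +kernel
theorem c_rel_94 : allRange D.relOK 313895 1559 = true := by decide +kernel
theorem c_rel_95 : allRange D.relOK 315454 2631 = true := by decide +kernel
theorem c_rel_96 : allRange D.relOK 318085 2017 = true := by decide +kernel
theorem c_rel_97 : allRange D.relOK 320102 2076 = true := by decide +kernel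
theorem c_rel_98 : allRange D.relOK 322178 1841 = true := by decide +kernel
theorem c_rel_99 : allRange D.relOK 324019 1870 = true := by decide +kernel
theorem c_rel_100 : allRange D.relOK 325889 1684 = true := by decide +kernel
theorem c_rel_101 : allRange D.relOK 327573 1717 = true := by decide +kernel
theorem c_rel_102 : allRange D.relOK 329290 1545 = true := by decide +kernel
theorem c_rel_103 : allRange D.relOK 330835 2082 = true := by decide +kernel
theorem c_rel_104 : allRange D.relOK 332917 2160 = true := by decide +kernel
theorem c_rel_105 : allRange D.relOK 335077 2662 = true := by decide +kernel
theorem c_rel_106 : allRange D.relOK 337739 1890 = true := by decide +kernel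
theorem c_rel_107 : allRange D.relOK 339629 1954 = true := by decide +kernel
theorem c_rel_108 : allRange D.relOK 341583 1926 = true := by decide +kernel
theorem c_rel_109 : allRange D.relOK 343509 1584 = true := by decide +kernel
theorem c_rel_110 : allRange D.relOK 345093 1001 = true := by decide +kernel
theorem c_rel_111 : allRange D.relOK 346094 1002 = true := by decide +kernel
theorem c_rel_112 : allRange D.relOK 347096 1578 = true := by decide +kernel
theorem c_rel_113 : allRange D.relOK 348674 1528 = true := by decide +kernel
theorem c_rel_114 : allRange D.relOK 350202 1561 = true := by decide +kernel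
theorem c_rel_115 : allRange D.relOK 351763 1813 = true := by decide +kernel
theorem c_rel_116 : allRange D.relOK 353576 1697 = true := by decide +kernel
theorem c_rel_117 : allRange D.relOK 355273 1425 = true := by decide +kernel
theorem c_rel_118 : allRange D.relOK 356698 1631 = true := by decide +kernel
theorem c_rel_119 : allRange D.relOK 358329 1477 = true := by decide +kernel
theorem c_rel_120 : allRange D.relOK 359806 1848 = true := by decide +kernel
theorem c_rel_121 : allRange D.relOK 361654 1596 = true := by decide +kernel
theorem c_rel_122 : allRange D.relOK 363250 1424 = true := by decide +kernel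
theorem c_rel_123 : allRange D.relOK 364674 1382 = true := by decide +kernel
theorem c_rel_124 : allRange D.relOK 366056 1328 = true := by decide +kernel
theorem c_rel_125 : allRange D.relOK 367384 1768 = true := by decide +kernel
theorem c_rel_126 : allRange D.relOK 369152 1360 = true := by decide +kernel
theorem c_rel_127 : allRange D.relOK 370512 1458 = true := by decide +kernel
theorem c_rel_128 : allRange D.relOK 371970 1546 = true := by decide +kernel
theorem c_rel_129 : allRange D.relOK 373516 1461 = true := by decide +kernel
theorem c_rel_130 : allRange D.relOK 374977 1531 = true := by decide +kernel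
theorem c_rel_131 : allRange D.relOK 376508 1416 = true := by decide +kernel
theorem c_rel_132 : allRange D.relOK 377924 1595 = true := by decide +kernel
theorem c_rel_133 : allRange D.relOK 379519 1918 = true := by decide +kernel
theorem c_rel_134 : allRange D.relOK 381437 1953 = true := by decide +kernel
theorem c_rel_135 : allRange D.relOK 383390 1617 = true := by decide +kernel
theorem c_rel_136 : allRange D.relOK 385007 1910 = true := by decide +kernel
theorem c_rel_137 : allRange D.relOK 386917 1856 = true := by decide +kernel
theorem c_rel_138 : allRange D.relOK 388773 1844 = true := by decide +kernel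
theorem c_rel_139 : allRange D.relOK 390617 1591 = true := by decide +kernel
theorem c_rel_140 : allRange D.relOK 392208 1460 = true := by decide +kernel
theorem c_rel_141 : allRange D.relOK 393668 1628 = true := by decide +kernel
theorem c_rel_142 : allRange D.relOK 395296 1773 = true := by decide +kernel
theorem c_rel_143 : allRange D.relOK 397069 1447 = true := by decide +kernel
theorem c_rel_144 : allRange D.relOK 398516 1432 = true := by decide +kernel
theorem c_rel_145 : allRange D.relOK 399948 1581 = true := by decide +kernel
theorem c_rel_146 : allRange D.relOK 401529 1554 = true := by decide +kernel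
theorem c_rel_147 : allRange D.relOK 403083 1516 = true := by decide +kernel
theorem c_rel_148 : allRange D.relOK 404599 1513 = true := by decide +kernel
theorem c_rel_149 : allRange D.relOK 406112 1800 = true := by decide +kernel
theorem c_rel_150 : allRange D.relOK 407912 1582 = true := by decide +kernel
theorem c_rel_151 : allRange D.relOK 409494 1412 = true := by decide +kernel
theorem c_rel_152 : allRange D.relOK 410906 1709 = true := by decide +kernel
theorem c_rel_153 : allRange D.relOK 412615 1380 = true := by decide +kernel
theorem c_rel_154 : allRange D.relOK 413995 1689 = true := by decide +kernel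
theorem c_rel_155 : allRange D.relOK 415684 1567 = true := by decide +kernel
theorem c_rel_156 : allRange D.relOK 417251 1545 = true := by decide +kernel
theorem c_rel_157 : allRange D.relOK 418796 1466 = true := by decide +kernel
theorem c_rel_158 : allRange D.relOK 420262 1700 = true := by decide +kernel
theorem c_rel_159 : allRange D.relOK 421962 1465 = true := by decide +kernel
theorem c_rel_160 : allRange D.relOK 423427 1472 = true := by decide +kernel
theorem c_rel_161 : allRange D.relOK 424899 1387 = true := by decide +kernel
theorem c_rel_162 : allRange D.relOK 426286 1353 = true := by decide +kernel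
theorem c_rel_163 : allRange D.relOK 427639 1464 = true := by decide +kernel
theorem c_rel_164 : allRange D.relOK 429103 1422 = true := by decide +kernel
theorem c_rel_165 : allRange D.relOK 430525 1497 = true := by decide +kernel
theorem c_rel_166 : allRange D.relOK 432022 1579 = true := by decide +kernel
theorem c_rel_167 : allRange D.relOK 433601 1567 = true := by decide +kernel
theorem c_rel_168 : allRange D.relOK 435168 1516 = true := by decide +kernel
theorem c_rel_169 : allRange D.relOK 436684 1477 = true := by decide +kernel
theorem c_rel_170 : allRange D.relOK 438161 1524 = true := by decide +kernel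
theorem c_rel_171 : allRange D.relOK 439685 1595 = true := by decide +kernel
theorem c_rel_172 : allRange D.relOK 441280 1560 = true := by decide +kernel
theorem c_rel_173 : allRange D.relOK 442840 1520 = true := by decide +kernel
theorem c_rel_174 : allRange D.relOK 444360 1413 = true := by decide +kernel
theorem c_rel_175 : allRange D.relOK 445773 1636 = true := by decide +kernel
theorem c_rel_176 : allRange D.relOK 447409 1856 = true := by decide +kernel
theorem c_rel_177 : allRange D.relOK 449265 1663 = true := by decide +kernel
theorem c_rel_178 : allRange D.relOK 450928 1485 = true := by decide +kernel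
theorem c_rel_179 : allRange D.relOK 452413 1816 = true := by decide +kernel
theorem c_rel_180 : allRange D.relOK 454229 1536 = true := by decide +kernel
theorem c_rel_181 : allRange D.relOK 455765 1498 = true := by decide +kernel

end Cfsg.Agent.Lib.Helper4.TCD.SCo3pp2A
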