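import Cfsg.Agent.Lib.Helper4.TCD_SCo3pp2A_Acc

namespace Cfsg.Agent.Lib.Helper4.TCD.SCo3pp2A

open Cfsg.Agent.Lib.Helper4.TC

set_option maxRecDepth 100000
set_option Elab.async false

theorem c_act44_1 : allRange (fun i => Nat.beq (actR44 i) i) 3157 3157 = true := by decide +kernel
theorem c_act44_2 : allRange (fun i => Nat.beq (actR44 i) i) 6314 3157 = true := by decide +kernel
theorem c_act44_3 : allRange (fun i => Nat.beq (actR44 i) i) 9471 3157 = true := by decide +kernel
theorem c_act44_4 : allRange (fun i => Nat.beq (actR44 i) i) 12628 3157 = true := by decide +kernel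
theorem c_act44_5 : allRange (fun i => Nat.beq (actR44 i) i) 15785 3157 = true := by decide +kernel
theorem c_act44_6 : allRange (fun i => Nat.beq (actR44 i) i) 18942 3157 = true := by decide +kernel
theorem c_act44_7 : allRange (fun i => Nat.beq (actR44 i) i) 22099 3157 = true := by decide +kernel
theorem c_act44_8 : allRange (fun i => Nat.beq (actR44 i) i) 25256 3157 = true := by decide +kernel
theorem c_act44_9 : allRange (fun i => Nat.beq (actR44 i) i) 28413 3157 = true := by decide +kernel
theorem c_act44_10 : allRange (fun i => Nat.beq (actR44 i) i) 31570 3157 = true := by decide +kernel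
theorem c_act44_11 : allRange (fun i => Nat.beq (actR44 i) i) 34727 3157 = true := by decide +kernel
theorem c_act44_12 : allRange (fun i => Nat.beq (actR44 i) i) 37884 3157 = true := by decide +kernel
theorem c_act44_13 : allRange (fun i => Nat.beq (actR44 i) i) 41041 3157 = true := by decide +kernel
theorem c_act44_14 : allRange (fun i => Nat.beq (actR44 i) i) 44198 3157 = true := by decide +kernel
theorem c_act44_15 : allRange (fun i => Nat.beq (actR44 i) i) 47355 1245 = true := by decide +kernel
theorem c_act45_0 : allRange (fun i => Nat.beq (actR45 i) i) 0 2608 = true := by decide +kernel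
theorem c_act45_1 : allRange (fun i => Nat.beq (actR45 i) i) 2608 2608 = true := by decide +kernel
theorem c_act45_2 : allRange (fun i => Nat.beq (actR45 i) i) 5216 2608 = true := by decide +kernel
theorem c_act45_3 : allRange (fun i => Nat.beq (actR45 i) i) 7824 2608 = true := by decide +kernel
theorem c_act45_4 : allRange (fun i => Nat.beq (actR45 i) i) 10432 2608 = true := by decide +kernel
theorem c_act45_5 : allRange (fun i => Nat.beq (actR45 i) i) 13040 2608 = true := by decide +kernel
theorem c_act45_6 : allRange (fun i => Nat.beq (actR45 i) i) 15648 2608 = true := by decide +kernel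
theorem c_act45_7 : allRange (fun i => Nat.beq (actR45 i) i) 18256 2608 = true := by decide +kernel
theorem c_act45_8 : allRange (fun i => Nat.beq (actR45 i) i) 20864 2608 = true := by decide +kernel
theorem c_act45_9 : allRange (fun i => Nat.beq (actR45 i) i) 23472 2608 = true := by decide +kernel
theorem c_act45_10 : allRange (fun i => Nat.beq (actR45 i) i) 26080 2608 = true := by decide +kernel
theorem c_act45_11 : allRange (fun i => Nat.beq (actR45 i) i) 28688 2608 = true := by decide +kernel
theorem c_act45_12 : allRange (fun i => Nat.beq (actR45 i) i) 31296 2608 = true := by decide +kernel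
theorem c_act45_13 : allRange (fun i => Nat.beq (actR45 i) i) 33904 2608 = true := by decide +kernel
theorem c_act45_14 : allRange (fun i => Nat.beq (actR45 i) i) 36512 2608 = true := by decide +kernel
theorem c_act45_15 : allRange (fun i => Nat.beq (actR45 i) i) 39120 2608 = true := by decide +kernel
theorem c_act45_16 : allRange (fun i => Nat.beq (actR45 i) i) 41728 2608 = true := by decide +kernel
theorem c_act45_17 : allRange (fun i => Nat.beq (actR45 i) i) 44336 2608 = true := by decide +kernel
theorem c_act45_18 : allRange (fun i => Nat.beq (actR45 i) i) 46944 1656 = true := by decide +kernel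
theorem c_act46_0 : allRange (fun i => Nat.beq (actR46 i) i) 0 8571 = true := by decide +kernel
theorem c_act46_1 : allRange (fun i => Nat.beq (actR46 i) i) 8571 8571 = true := by decide +kernel
theorem c_act46_2 : allRange (fun i => Nat.beq (actR46 i) i) 17142 8571 = true := by decide +kernel
theorem c_act46_3 : allRange (fun i => Nat.beq (actR46 i) i) 25713 8571 = true := by decide +kernel
theorem c_act46_4 : allRange (fun i => Nat.beq (actR46 i) i) 34284 8571 = true := by decide +kernel
theorem c_act46_5 : allRange (fun i => Nat.beq (actR46 i) i) 42855 5745 = true := by decide +kernel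
theorem c_act47_0 : allRange (fun i => Nat.beq (actR47 i) i) 0 5000 = true := by decide +kernel
theorem c_act47_1 : allRange (fun i => Nat.beq (actR47 i) i) 5000 5000 = true := by decide +kernel
theorem c_act47_2 : allRange (fun i => Nat.beq (actR47 i) i) 10000 5000 = true := by decide +kernel
theorem c_act47_3 : allRange (fun i => Nat.beq (actR47 i) i) 15000 5000 = true := by decide +kernel
theorem c_act47_4 : allRange (fun i => Nat.beq (actR47 i) i) 20000 5000 = true := by decide +kernel
theorem c_act47_5 : allRange (fun i => Nat.beq (actR47 i) i) 25000 5000 = true := by decide +kernel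
theorem c_act47_6 : allRange (fun i => Nat.beq (actR47 i) i) 30000 5000 = true := by decide +kernel
theorem c_act47_7 : allRange (fun i => Nat.beq (actR47 i) i) 35000 5000 = true := by decide +kernel
theorem c_act47_8 : allRange (fun i => Nat.beq (actR47 i) i) 40000 5000 = true := by decide +kernel
theorem c_act47_9 : allRange (fun i => Nat.beq (actR47 i) i) 45000 3600 = true := by decide +kernel
theorem c_act48_0 : allRange (fun i => Nat.beq (actR48 i) i) 0 5000 = true := by decide +kernel

end Cfsg.Agent.Lib.Helper4.TCD.SCo3pp2A
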