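import Cfsg.Agent.Lib.Helper4.TCD_SCo3pp2A_Acc

namespace Cfsg.Agent.Lib.Helper4.TCD.SCo3pp2A

open Cfsg.Agent.Lib.Helper4.TC

set_option maxRecDepth 100000
set_option Elab.async false

theorem c_act48_1 : allRange (fun i => Nat.beq (actR48 i) i) 5000 5000 = true := by decide +kernel
theorem c_act48_2 : allRange (fun i => Nat.beq (actR48 i) i) 10000 5000 = true := by decide +kernel
theorem c_act48_3 : allRange (fun i => Nat.beq (actR48 i) i) 15000 5000 = true := by decide +kernel
theorem c_act48_4 : allRange (fun i => Nat.beq (actR48 i) i) 20000 5000 = true := by decide +kernel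
theorem c_act48_5 : allRange (fun i => Nat.beq (actR48 i) i) 25000 5000 = true := by decide +kernel
theorem c_act48_6 : allRange (fun i => Nat.beq (actR48 i) i) 30000 5000 = true := by decide +kernel
theorem c_act48_7 : allRange (fun i => Nat.beq (actR48 i) i) 35000 5000 = true := by decide +kernel
theorem c_act48_8 : allRange (fun i => Nat.beq (actR48 i) i) 40000 5000 = true := by decide +kernel
theorem c_act48_9 : allRange (fun i => Nat.beq (actR48 i) i) 45000 3600 = true := by decide +kernel
theorem c_act49_0 : allRange (fun i => Nat.beq (actR49 i) i) 0 4000 = true := by decide +kernel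
theorem c_act49_1 : allRange (fun i => Nat.beq (actR49 i) i) 4000 4000 = true := by decide +kernel
theorem c_act49_2 : allRange (fun i => Nat.beq (actR49 i) i) 8000 4000 = true := by decide +kernel
theorem c_act49_3 : allRange (fun i => Nat.beq (actR49 i) i) 12000 4000 = true := by decide +kernel
theorem c_act49_4 : allRange (fun i => Nat.beq (actR49 i) i) 16000 4000 = true := by decide +kernel
theorem c_act49_5 : allRange (fun i => Nat.beq (actR49 i) i) 20000 4000 = true := by decide +kernel
theorem c_act49_6 : allRange (fun i => Nat.beq (actR49 i) i) 24000 4000 = true := by decide +kernel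
theorem c_act49_7 : allRange (fun i => Nat.beq (actR49 i) i) 28000 4000 = true := by decide +kernel
theorem c_act49_8 : allRange (fun i => Nat.beq (actR49 i) i) 32000 4000 = true := by decide +kernel
theorem c_act49_9 : allRange (fun i => Nat.beq (actR49 i) i) 36000 4000 = true := by decide +kernel
theorem c_act49_10 : allRange (fun i => Nat.beq (actR49 i) i) 40000 4000 = true := by decide +kernel
theorem c_act49_11 : allRange (fun i => Nat.beq (actR49 i) i) 44000 4000 = true := by decide +kernel
theorem c_act49_12 : allRange (fun i => Nat.beq (actR49 i) i) 48000 600 = true := by decide +kernel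
theorem c_act50_0 : allRange (fun i => Nat.beq (actR50 i) i) 0 4000 = true := by decide +kernel
theorem c_act50_1 : allRange (fun i => Nat.beq (actR50 i) i) 4000 4000 = true := by decide +kernel
theorem c_act50_2 : allRange (fun i => Nat.beq (actR50 i) i) 8000 4000 = true := by decide +kernel
theorem c_act50_3 : allRange (fun i => Nat.beq (actR50 i) i) 12000 4000 = true := by decide +kernel
theorem c_act50_4 : allRange (fun i => Nat.beq (actR50 i) i) 16000 4000 = true := by decide +kernel
theorem c_act50_5 : allRange (fun i => Nat.beq (actR50 i) i) 20000 4000 = true := by decide +kernel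
theorem c_act50_6 : allRange (fun i => Nat.beq (actR50 i) i) 24000 4000 = true := by decide +kernel
theorem c_act50_7 : allRange (fun i => Nat.beq (actR50 i) i) 28000 4000 = true := by decide +kernel
theorem c_act50_8 : allRange (fun i => Nat.beq (actR50 i) i) 32000 4000 = true := by decide +kernel
theorem c_act50_9 : allRange (fun i => Nat.beq (actR50 i) i) 36000 4000 = true := by decide +kernel
theorem c_act50_10 : allRange (fun i => Nat.beq (actR50 i) i) 40000 4000 = true := by decide +kernel
theorem c_act50_11 : allRange (fun i => Nat.beq (actR50 i) i) 44000 4000 = true := by decide +kernel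
theorem c_act50_12 : allRange (fun i => Nat.beq (actR50 i) i) 48000 600 = true := by decide +kernel
theorem c_act51_0 : allRange (fun i => Nat.beq (actR51 i) i) 0 4000 = true := by decide +kernel
theorem c_act51_1 : allRange (fun i => Nat.beq (actR51 i) i) 4000 4000 = true := by decide +kernel
theorem c_act51_2 : allRange (fun i => Nat.beq (actR51 i) i) 8000 4000 = true := by decide +kernel
theorem c_act51_3 : allRange (fun i => Nat.beq (actR51 i) i) 12000 4000 = true := by decide +kernel
theorem c_act51_4 : allRange (fun i => Nat.beq (actR51 i) i) 16000 4000 = true := by decide +kernel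
theorem c_act51_5 : allRange (fun i => Nat.beq (actR51 i) i) 20000 4000 = true := by decide +kernel
theorem c_act51_6 : allRange (fun i => Nat.beq (actR51 i) i) 24000 4000 = true := by decide +kernel
theorem c_act51_7 : allRange (fun i => Nat.beq (actR51 i) i) 28000 4000 = true := by decide +kernel
theorem c_act51_8 : allRange (fun i => Nat.beq (actR51 i) i) 32000 4000 = true := by decide +kernel
theorem c_act51_9 : allRange (fun i => Nat.beq (actR51 i) i) 36000 4000 = true := by decide +kernel
theorem c_act51_10 : allRange (fun i => Nat.beq (actR51 i) i) 40000 4000 = true := by decide +kernel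
theorem c_act51_11 : allRange (fun i => Nat.beq (actR51 i) i) 44000 4000 = true := by decide +kernel
theorem c_act51_12 : allRange (fun i => Nat.beq (actR51 i) i) 48000 600 = true := by decide +kernel
theorem c_act52_0 : allRange (fun i => Nat.beq (actR52 i) i) 0 2727 = true := by decide +kernel
theorem c_act52_1 : allRange (fun i => Nat.beq (actR52 i) i) 2727 2727 = true := by decide +kernel
theorem c_act52_2 : allRange (fun i => Nat.beq (actR52 i) i) 5454 2727 = true := by decide +kernel
theorem c_act52_3 : allRange (fun i => Nat.beq (actR52 i) i) 8181 2727 = true := by decide +kernel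

end Cfsg.Agent.Lib.Helper4.TCD.SCo3pp2A
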