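import Cfsg.Agent.Lib.Helper4.TCD_SCo3pp2A_Acc

namespace Cfsg.Agent.Lib.Helper4.TCD.SCo3pp2A

open Cfsg.Agent.Lib.Helper4.TC

set_option maxRecDepth 100000
set_option Elab.async false

theorem c_act54_18 : allRange (fun i => Nat.beq (actR54 i) i) 45000 2500 = true := by decide +kernel
theorem c_act54_19 : allRange (fun i => Nat.beq (actR54 i) i) 47500 1100 = true := by decide +kernel
theorem c_act55_0 : allRange (fun i => Nat.beq (actR55 i) i) 0 2500 = true := by decide +kernel
theorem c_act55_1 : allRange (fun i => Nat.beq (actR55 i) i) 2500 2500 = true := by decide +kernel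
theorem c_act55_2 : allRange (fun i => Nat.beq (actR55 i) i) 5000 2500 = true := by decide +kernel
theorem c_act55_3 : allRange (fun i => Nat.beq (actR55 i) i) 7500 2500 = true := by decide +kernel
theorem c_act55_4 : allRange (fun i => Nat.beq (actR55 i) i) 10000 2500 = true := by decide +kernel
theorem c_act55_5 : allRange (fun i => Nat.beq (actR55 i) i) 12500 2500 = true := by decide +kernel
theorem c_act55_6 : allRange (fun i => Nat.beq (actR55 i) i) 15000 2500 = true := by decide +kernel
theorem c_act55_7 : allRange (fun i => Nat.beq (actR55 i) i) 17500 2500 = true := by decide +kernel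
theorem c_act55_8 : allRange (fun i => Nat.beq (actR55 i) i) 20000 2500 = true := by decide +kernel
theorem c_act55_9 : allRange (fun i => Nat.beq (actR55 i) i) 22500 2500 = true := by decide +kernel
theorem c_act55_10 : allRange (fun i => Nat.beq (actR55 i) i) 25000 2500 = true := by decide +kernel
theorem c_act55_11 : allRange (fun i => Nat.beq (actR55 i) i) 27500 2500 = true := by decide +kernel
theorem c_act55_12 : allRange (fun i => Nat.beq (actR55 i) i) 30000 2500 = true := by decide +kernel
theorem c_act55_13 : allRange (fun i => Nat.beq (actR55 i) i) 32500 2500 = true := by decide +kernel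
theorem c_act55_14 : allRange (fun i => Nat.beq (actR55 i) i) 35000 2500 = true := by decide +kernel
theorem c_act55_15 : allRange (fun i => Nat.beq (actR55 i) i) 37500 2500 = true := by decide +kernel
theorem c_act55_16 : allRange (fun i => Nat.beq (actR55 i) i) 40000 2500 = true := by decide +kernel
theorem c_act55_17 : allRange (fun i => Nat.beq (actR55 i) i) 42500 2500 = true := by decide +kernel
theorem c_act55_18 : allRange (fun i => Nat.beq (actR55 i) i) 45000 2500 = true := by decide +kernel
theorem c_act55_19 : allRange (fun i => Nat.beq (actR55 i) i) 47500 1100 = true := by decide +kernel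
theorem c_act56_0 : allRange (fun i => Nat.beq (actR56 i) i) 0 2500 = true := by decide +kernel
theorem c_act56_1 : allRange (fun i => Nat.beq (actR56 i) i) 2500 2500 = true := by decide +kernel
theorem c_act56_2 : allRange (fun i => Nat.beq (actR56 i) i) 5000 2500 = true := by decide +kernel
theorem c_act56_3 : allRange (fun i => Nat.beq (actR56 i) i) 7500 2500 = true := by decide +kernel
theorem c_act56_4 : allRange (fun i => Nat.beq (actR56 i) i) 10000 2500 = true := by decide +kernel
theorem c_act56_5 : allRange (fun i => Nat.beq (actR56 i) i) 12500 2500 = true := by decide +kernel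
theorem c_act56_6 : allRange (fun i => Nat.beq (actR56 i) i) 15000 2500 = true := by decide +kernel
theorem c_act56_7 : allRange (fun i => Nat.beq (actR56 i) i) 17500 2500 = true := by decide +kernel
theorem c_act56_8 : allRange (fun i => Nat.beq (actR56 i) i) 20000 2500 = true := by decide +kernel
theorem c_act56_9 : allRange (fun i => Nat.beq (actR56 i) i) 22500 2500 = true := by decide +kernel
theorem c_act56_10 : allRange (fun i => Nat.beq (actR56 i) i) 25000 2500 = true := by decide +kernel
theorem c_act56_11 : allRange (fun i => Nat.beq (actR56 i) i) 27500 2500 = true := by decide +kernel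
theorem c_act56_12 : allRange (fun i => Nat.beq (actR56 i) i) 30000 2500 = true := by decide +kernel
theorem c_act56_13 : allRange (fun i => Nat.beq (actR56 i) i) 32500 2500 = true := by decide +kernel
theorem c_act56_14 : allRange (fun i => Nat.beq (actR56 i) i) 35000 2500 = true := by decide +kernel
theorem c_act56_15 : allRange (fun i => Nat.beq (actR56 i) i) 37500 2500 = true := by decide +kernel
theorem c_act56_16 : allRange (fun i => Nat.beq (actR56 i) i) 40000 2500 = true := by decide +kernel
theorem c_act56_17 : allRange (fun i => Nat.beq (actR56 i) i) 42500 2500 = true := by decide +kernel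
theorem c_act56_18 : allRange (fun i => Nat.beq (actR56 i) i) 45000 2500 = true := by decide +kernel
theorem c_act56_19 : allRange (fun i => Nat.beq (actR56 i) i) 47500 1100 = true := by decide +kernel
theorem c_act57_0 : allRange (fun i => Nat.beq (actR57 i) i) 0 2400 = true := by decide +kernel
theorem c_act57_1 : allRange (fun i => Nat.beq (actR57 i) i) 2400 2400 = true := by decide +kernel
theorem c_act57_2 : allRange (fun i => Nat.beq (actR57 i) i) 4800 2400 = true := by decide +kernel
theorem c_act57_3 : allRange (fun i => Nat.beq (actR57 i) i) 7200 2400 = true := by decide +kernel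
theorem c_act57_4 : allRange (fun i => Nat.beq (actR57 i) i) 9600 2400 = true := by decide +kernel
theorem c_act57_5 : allRange (fun i => Nat.beq (actR57 i) i) 12000 2400 = true := by decide +kernel
theorem c_act57_6 : allRange (fun i => Nat.beq (actR57 i) i) 14400 2400 = true := by decide +kernel
theorem c_act57_7 : allRange (fun i => Nat.beq (actR57 i) i) 16800 2400 = true := by decide +kernel
theorem c_act57_8 : allRange (fun i => Nat.beq (actR57 i) i) 19200 2400 = true := by decide +kernel

end Cfsg.Agent.Lib.Helper4.TCD.SCo3pp2A
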