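import Cfsg.Agent.Lib.Helper4.TCD_SCo3pp2A_Acc

namespace Cfsg.Agent.Lib.Helper4.TCD.SCo3pp2A

open Cfsg.Agent.Lib.Helper4.TC

set_option maxRecDepth 100000
set_option Elab.async false

theorem c_act57_9 : allRange (fun i => Nat.beq (actR57 i) i) 21600 2400 = true := by decide +kernel
theorem c_act57_10 : allRange (fun i => Nat.beq (actR57 i) i) 24000 2400 = true := by decide +kernel
theorem c_act57_11 : allRange (fun i => Nat.beq (actR57 i) i) 26400 2400 = true := by decide +kernel
theorem c_act57_12 : allRange (fun i => Nat.beq (actR57 i) i) 28800 2400 = true := by decide +kernel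
theorem c_act57_13 : allRange (fun i => Nat.beq (actR57 i) i) 31200 2400 = true := by decide +kernel
theorem c_act57_14 : allRange (fun i => Nat.beq (actR57 i) i) 33600 2400 = true := by decide +kernel
theorem c_act57_15 : allRange (fun i => Nat.beq (actR57 i) i) 36000 2400 = true := by decide +kernel
theorem c_act57_16 : allRange (fun i => Nat.beq (actR57 i) i) 38400 2400 = true := by decide +kernel
theorem c_act57_17 : allRange (fun i => Nat.beq (actR57 i) i) 40800 2400 = true := by decide +kernel
theorem c_act57_18 : allRange (fun i => Nat.beq (actR57 i) i) 43200 2400 = true := by decide +kernel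
theorem c_act57_19 : allRange (fun i => Nat.beq (actR57 i) i) 45600 2400 = true := by decide +kernel
theorem c_act57_20 : allRange (fun i => Nat.beq (actR57 i) i) 48000 600 = true := by decide +kernel

end Cfsg.Agent.Lib.Helper4.TCD.SCo3pp2A
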