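import Cfsg.Agent.Lib.Helper4.TCD_SCo3pp2A_Acc

namespace Cfsg.Agent.Lib.Helper4.TCD.SCo3pp2A

open Cfsg.Agent.Lib.Helper4.TC

set_option maxRecDepth 100000
set_option Elab.async false

theorem c_rel_182 : allRange D.relOK 457263 1446 = true := by decide +kernel
theorem c_rel_183 : allRange D.relOK 458709 1566 = true := by decide +kernel
theorem c_rel_184 : allRange D.relOK 460275 1423 = true := by decide +kernel
theorem c_rel_185 : allRange D.relOK 461698 1539 = true := by decide +kernel
theorem c_rel_186 : allRange D.relOK 463237 1312 = true := by decide +kernel
theorem c_rel_187 : allRange D.relOK 464549 1520 = true := by decide +kernel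
theorem c_rel_188 : allRange D.relOK 466069 1450 = true := by decide +kernel
theorem c_rel_189 : allRange D.relOK 467519 1469 = true := by decide +kernel
theorem c_rel_190 : allRange D.relOK 468988 1525 = true := by decide +kernel
theorem c_rel_191 : allRange D.relOK 470513 1709 = true := by decide +kernel
theorem c_rel_192 : allRange D.relOK 472222 1737 = true := by decide +kernel
theorem c_rel_193 : allRange D.relOK 473959 1691 = true := by decide +kernel
theorem c_rel_194 : allRange D.relOK 475650 1984 = true := by decide +kernel
theorem c_rel_195 : allRange D.relOK 477634 1704 = true := by decide +kernel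
theorem c_rel_196 : allRange D.relOK 479338 1712 = true := by decide +kernel
theorem c_rel_197 : allRange D.relOK 481050 2154 = true := by decide +kernel
theorem c_rel_198 : allRange D.relOK 483204 1909 = true := by decide +kernel
theorem c_rel_199 : allRange D.relOK 485113 1432 = true := by decide +kernel
theorem c_rel_200 : allRange D.relOK 486545 1324 = true := by decide +kernel
theorem c_rel_201 : allRange D.relOK 487869 1357 = true := by decide +kernel
theorem c_rel_202 : allRange D.relOK 489226 1481 = true := by decide +kernel
theorem c_rel_203 : allRange D.relOK 490707 1294 = true := by decide +kernel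
theorem c_rel_204 : allRange D.relOK 492001 1316 = true := by decide +kernel
theorem c_rel_205 : allRange D.relOK 493317 1488 = true := by decide +kernel
theorem c_rel_206 : allRange D.relOK 494805 1942 = true := by decide +kernel
theorem c_rel_207 : allRange D.relOK 496747 1550 = true := by decide +kernel
theorem c_rel_208 : allRange D.relOK 498297 1485 = true := by decide +kernel
theorem c_rel_209 : allRange D.relOK 499782 1514 = true := by decide +kernel
theorem c_rel_210 : allRange D.relOK 501296 1412 = true := by decide +kernel
theorem c_rel_211 : allRange D.relOK 502708 1358 = true := by decide +kernel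
theorem c_rel_212 : allRange D.relOK 504066 1339 = true := by decide +kernel
theorem c_rel_213 : allRange D.relOK 505405 1448 = true := by decide +kernel
theorem c_rel_214 : allRange D.relOK 506853 1400 = true := by decide +kernel
theorem c_rel_215 : allRange D.relOK 508253 1386 = true := by decide +kernel
theorem c_rel_216 : allRange D.relOK 509639 1304 = true := by decide +kernel
theorem c_rel_217 : allRange D.relOK 510943 1435 = true := by decide +kernel
theorem c_rel_218 : allRange D.relOK 512378 1310 = true := by decide +kernel
theorem c_rel_219 : allRange D.relOK 513688 1362 = true := by decide +kernel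
theorem c_rel_220 : allRange D.relOK 515050 1351 = true := by decide +kernel
theorem c_rel_221 : allRange D.relOK 516401 1385 = true := by decide +kernel
theorem c_rel_222 : allRange D.relOK 517786 1378 = true := by decide +kernel
theorem c_rel_223 : allRange D.relOK 519164 1387 = true := by decide +kernel
theorem c_rel_224 : allRange D.relOK 520551 1390 = true := by decide +kernel
theorem c_rel_225 : allRange D.relOK 521941 1391 = true := by decide +kernel
theorem c_rel_226 : allRange D.relOK 523332 1350 = true := by decide +kernel
theorem c_rel_227 : allRange D.relOK 524682 1373 = true := by decide +kernel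
theorem c_rel_228 : allRange D.relOK 526055 1349 = true := by decide +kernel
theorem c_rel_229 : allRange D.relOK 527404 1305 = true := by decide +kernel
theorem c_rel_230 : allRange D.relOK 528709 1403 = true := by decide +kernel
theorem c_rel_231 : allRange D.relOK 530112 1361 = true := by decide +kernel
theorem c_rel_232 : allRange D.relOK 531473 1358 = true := by decide +kernel
theorem c_rel_233 : allRange D.relOK 532831 1362 = true := by decide +kernel
theorem c_rel_234 : allRange D.relOK 534193 1314 = true := by decide +kernel
theorem c_rel_235 : allRange D.relOK 535507 1383 = true := by decide +kernel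
theorem c_rel_236 : allRange D.relOK 536890 1325 = true := by decide +kernel
theorem c_rel_237 : allRange D.relOK 538215 1316 = true := by decide +kernel
theorem c_rel_238 : allRange D.relOK 539531 1315 = true := by decide +kernel
theorem c_rel_239 : allRange D.relOK 540846 1261 = true := by decide +kernel
theorem c_rel_240 : allRange D.relOK 542107 1272 = true := by decide +kernel
theorem c_rel_241 : allRange D.relOK 543379 1249 = true := by decide +kernel
theorem c_rel_242 : allRange D.relOK 544628 1358 = true := by decide +kernel
theorem c_rel_243 : allRange D.relOK 545986 1319 = true := by decide +kernel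
theorem c_rel_244 : allRange D.relOK 547305 1286 = true := by decide +kernel
theorem c_rel_245 : allRange D.relOK 548591 1280 = true := by decide +kernel
theorem c_rel_246 : allRange D.relOK 549871 1283 = true := by decide +kernel
theorem c_rel_247 : allRange D.relOK 551154 1281 = true := by decide +kernel
theorem c_rel_248 : allRange D.relOK 552435 3189 = true := by decide +kernel
theorem c_rel_249 : allRange D.relOK 555624 4923 = true := by decide +kernel
theorem c_rel_250 : allRange D.relOK 560547 4929 = true := by decide +kernel
theorem c_rel_251 : allRange D.relOK 565476 4815 = true := by decide +kernel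
theorem c_rel_252 : allRange D.relOK 570291 4864 = true := by decide +kernel
theorem c_rel_253 : allRange D.relOK 575155 4741 = true := by decide +kernel
theorem c_rel_254 : allRange D.relOK 579896 4723 = true := by decide +kernel
theorem c_rel_255 : allRange D.relOK 584619 4670 = true := by decide +kernel
theorem c_rel_256 : allRange D.relOK 589289 4830 = true := by decide +kernel
theorem c_rel_257 : allRange D.relOK 594119 4823 = true := by decide +kernel
theorem c_rel_258 : allRange D.relOK 598942 4850 = true := by decide +kernel
theorem c_rel_259 : allRange D.relOK 603792 4876 = true := by decide +kernel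
theorem c_rel_260 : allRange D.relOK 608668 4871 = true := by decide +kernel
theorem c_rel_261 : allRange D.relOK 613539 4883 = true := by decide +kernel
theorem c_rel_262 : allRange D.relOK 618422 4887 = true := by decide +kernel
theorem c_rel_263 : allRange D.relOK 623309 4871 = true := by decide +kernel
theorem c_rel_264 : allRange D.relOK 628180 4876 = true := by decide +kernel
theorem c_rel_265 : allRange D.relOK 633056 4878 = true := by decide +kernel
theorem c_rel_266 : allRange D.relOK 637934 4905 = true := by decide +kernel
theorem c_rel_267 : allRange D.relOK 642839 4932 = true := by decide +kernel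
theorem c_rel_268 : allRange D.relOK 647771 4936 = true := by decide +kernel
theorem c_rel_269 : allRange D.relOK 652707 1835 = true := by decide +kernel
theorem c_fin_0 : allGrid (T.finOK D) 0 600 20 = true := by decide +kernel
theorem c_fin_1 : allGrid (T.finOK D) 600 600 20 = true := by decide +kernel
theorem c_fin_2 : allGrid (T.finOK D) 1200 600 20 = true := by decide +kernel
theorem c_fin_3 : allGrid (T.finOK D) 1800 600 20 = true := by decide +kernel
theorem c_fin_4 : allGrid (T.finOK D) 2400 600 20 = true := by decide +kernel
theorem c_fin_5 : allGrid (T.finOK D) 3000 600 20 = true := by decide +kernel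

end Cfsg.Agent.Lib.Helper4.TCD.SCo3pp2A
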