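import Cfsg.Agent.Lib.Helper4.TCD_SCo3pp2A_Acc

namespace Cfsg.Agent.Lib.Helper4.TCD.SCo3pp2A

open Cfsg.Agent.Lib.Helper4.TC

set_option maxRecDepth 100000
set_option Elab.async false

theorem c_fin_6 : allGrid (T.finOK D) 3600 600 20 = true := by decide +kernel
theorem c_fin_7 : allGrid (T.finOK D) 4200 600 20 = true := by decide +kernel
theorem c_fin_8 : allGrid (T.finOK D) 4800 600 20 = true := by decide +kernel
theorem c_fin_9 : allGrid (T.finOK D) 5400 600 20 = true := by decide +kernel
theorem c_fin_10 : allGrid (T.finOK D) 6000 600 20 = true := by decide +kernel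
theorem c_fin_11 : allGrid (T.finOK D) 6600 600 20 = true := by decide +kernel
theorem c_fin_12 : allGrid (T.finOK D) 7200 600 20 = true := by decide +kernel
theorem c_fin_13 : allGrid (T.finOK D) 7800 600 20 = true := by decide +kernel
theorem c_fin_14 : allGrid (T.finOK D) 8400 600 20 = true := by decide +kernel
theorem c_fin_15 : allGrid (T.finOK D) 9000 600 20 = true := by decide +kernel
theorem c_fin_16 : allGrid (T.finOK D) 9600 600 20 = true := by decide +kernel
theorem c_fin_17 : allGrid (T.finOK D) 10200 600 20 = true := by decide +kernel
theorem c_fin_18 : allGrid (T.finOK D) 10800 600 20 = true := by decide +kernel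
theorem c_fin_19 : allGrid (T.finOK D) 11400 600 20 = true := by decide +kernel
theorem c_fin_20 : allGrid (T.finOK D) 12000 600 20 = true := by decide +kernel
theorem c_fin_21 : allGrid (T.finOK D) 12600 600 20 = true := by decide +kernel
theorem c_fin_22 : allGrid (T.finOK D) 13200 600 20 = true := by decide +kernel
theorem c_fin_23 : allGrid (T.finOK D) 13800 600 20 = true := by decide +kernel
theorem c_fin_24 : allGrid (T.finOK D) 14400 600 20 = true := by decide +kernel
theorem c_fin_25 : allGrid (T.finOK D) 15000 600 20 = true := by decide +kernel
theorem c_fin_26 : allGrid (T.finOK D) 15600 600 20 = true := by decide +kernel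
theorem c_fin_27 : allGrid (T.finOK D) 16200 600 20 = true := by decide +kernel
theorem c_fin_28 : allGrid (T.finOK D) 16800 600 20 = true := by decide +kernel
theorem c_fin_29 : allGrid (T.finOK D) 17400 600 20 = true := by decide +kernel
theorem c_fin_30 : allGrid (T.finOK D) 18000 600 20 = true := by decide +kernel
theorem c_fin_31 : allGrid (T.finOK D) 18600 600 20 = true := by decide +kernel
theorem c_fin_32 : allGrid (T.finOK D) 19200 600 20 = true := by decide +kernel
theorem c_fin_33 : allGrid (T.finOK D) 19800 600 20 = true := by decide +kernel
theorem c_fin_34 : allGrid (T.finOK D) 20400 600 20 = true := by decide +kernel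
theorem c_fin_35 : allGrid (T.finOK D) 21000 600 20 = true := by decide +kernel
theorem c_fin_36 : allGrid (T.finOK D) 21600 600 20 = true := by decide +kernel
theorem c_fin_37 : allGrid (T.finOK D) 22200 600 20 = true := by decide +kernel
theorem c_fin_38 : allGrid (T.finOK D) 22800 600 20 = true := by decide +kernel
theorem c_fin_39 : allGrid (T.finOK D) 23400 600 20 = true := by decide +kernel
theorem c_fin_40 : allGrid (T.finOK D) 24000 600 20 = true := by decide +kernel
theorem c_fin_41 : allGrid (T.finOK D) 24600 600 20 = true := by decide +kernel
theorem c_fin_42 : allGrid (T.finOK D) 25200 600 20 = true := by decide +kernel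
theorem c_fin_43 : allGrid (T.finOK D) 25800 600 20 = true := by decide +kernel
theorem c_fin_44 : allGrid (T.finOK D) 26400 600 20 = true := by decide +kernel
theorem c_fin_45 : allGrid (T.finOK D) 27000 600 20 = true := by decide +kernel
theorem c_fin_46 : allGrid (T.finOK D) 27600 600 20 = true := by decide +kernel
theorem c_fin_47 : allGrid (T.finOK D) 28200 600 20 = true := by decide +kernel
theorem c_fin_48 : allGrid (T.finOK D) 28800 600 20 = true := by decide +kernel
theorem c_fin_49 : allGrid (T.finOK D) 29400 600 20 = true := by decide +kernel
theorem c_fin_50 : allGrid (T.finOK D) 30000 600 20 = true := by decide +kernel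
theorem c_fin_51 : allGrid (T.finOK D) 30600 600 20 = true := by decide +kernel
theorem c_fin_52 : allGrid (T.finOK D) 31200 600 20 = true := by decide +kernel
theorem c_fin_53 : allGrid (T.finOK D) 31800 600 20 = true := by decide +kernel
theorem c_fin_54 : allGrid (T.finOK D) 32400 600 20 = true := by decide +kernel
theorem c_fin_55 : allGrid (T.finOK D) 33000 600 20 = true := by decide +kernel

end Cfsg.Agent.Lib.Helper4.TCD.SCo3pp2A
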