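import Cfsg.Agent.Lib.Helper4.TCD_SCo3pp2A_Acc

namespace Cfsg.Agent.Lib.Helper4.TCD.SCo3pp2A

open Cfsg.Agent.Lib.Helper4.TC

set_option maxRecDepth 100000
set_option Elab.async false

theorem c_fin_56 : allGrid (T.finOK D) 33600 600 20 = true := by decide +kernel
theorem c_fin_57 : allGrid (T.finOK D) 34200 600 20 = true := by decide +kernel
theorem c_fin_58 : allGrid (T.finOK D) 34800 600 20 = true := by decide +kernel
theorem c_fin_59 : allGrid (T.finOK D) 35400 600 20 = true := by decide +kernel
theorem c_fin_60 : allGrid (T.finOK D) 36000 600 20 = true := by decide +kernel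
theorem c_fin_61 : allGrid (T.finOK D) 36600 600 20 = true := by decide +kernel
theorem c_fin_62 : allGrid (T.finOK D) 37200 600 20 = true := by decide +kernel
theorem c_fin_63 : allGrid (T.finOK D) 37800 600 20 = true := by decide +kernel
theorem c_fin_64 : allGrid (T.finOK D) 38400 600 20 = true := by decide +kernel
theorem c_fin_65 : allGrid (T.finOK D) 39000 600 20 = true := by decide +kernel
theorem c_fin_66 : allGrid (T.finOK D) 39600 600 20 = true := by decide +kernel
theorem c_fin_67 : allGrid (T.finOK D) 40200 600 20 = true := by decide +kernel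
theorem c_fin_68 : allGrid (T.finOK D) 40800 600 20 = true := by decide +kernel
theorem c_fin_69 : allGrid (T.finOK D) 41400 600 20 = true := by decide +kernel
theorem c_fin_70 : allGrid (T.finOK D) 42000 600 20 = true := by decide +kernel
theorem c_fin_71 : allGrid (T.finOK D) 42600 600 20 = true := by decide +kernel
theorem c_fin_72 : allGrid (T.finOK D) 43200 600 20 = true := by decide +kernel
theorem c_fin_73 : allGrid (T.finOK D) 43800 600 20 = true := by decide +kernel
theorem c_fin_74 : allGrid (T.finOK D) 44400 600 20 = true := by decide +kernel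
theorem c_fin_75 : allGrid (T.finOK D) 45000 600 20 = true := by decide +kernel
theorem c_fin_76 : allGrid (T.finOK D) 45600 600 20 = true := by decide +kernel
theorem c_fin_77 : allGrid (T.finOK D) 46200 600 20 = true := by decide +kernel
theorem c_fin_78 : allGrid (T.finOK D) 46800 600 20 = true := by decide +kernel
theorem c_fin_79 : allGrid (T.finOK D) 47400 600 20 = true := by decide +kernel
theorem c_fin_80 : allGrid (T.finOK D) 48000 600 20 = true := by decide +kernel
theorem c_perm_0 : allGrid (T.permOK1 D) 0 1500 20 = true := by decide +kernel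
theorem c_perm_1 : allGrid (T.permOK1 D) 1500 1500 20 = true := by decide +kernel
theorem c_perm_2 : allGrid (T.permOK1 D) 3000 1500 20 = true := by decide +kernel
theorem c_perm_3 : allGrid (T.permOK1 D) 4500 1500 20 = true := by decide +kernel
theorem c_perm_4 : allGrid (T.permOK1 D) 6000 1500 20 = true := by decide +kernel
theorem c_perm_5 : allGrid (T.permOK1 D) 7500 1500 20 = true := by decide +kernel
theorem c_perm_6 : allGrid (T.permOK1 D) 9000 1500 20 = true := by decide +kernel
theorem c_perm_7 : allGrid (T.permOK1 D) 10500 1500 20 = true := by decide +kernel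
theorem c_perm_8 : allGrid (T.permOK1 D) 12000 1500 20 = true := by decide +kernel
theorem c_perm_9 : allGrid (T.permOK1 D) 13500 1500 20 = true := by decide +kernel
theorem c_perm_10 : allGrid (T.permOK1 D) 15000 1500 20 = true := by decide +kernel
theorem c_perm_11 : allGrid (T.permOK1 D) 16500 1500 20 = true := by decide +kernel
theorem c_perm_12 : allGrid (T.permOK1 D) 18000 1500 20 = true := by decide +kernel
theorem c_perm_13 : allGrid (T.permOK1 D) 19500 1500 20 = true := by decide +kernel
theorem c_perm_14 : allGrid (T.permOK1 D) 21000 1500 20 = true := by decide +kernel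
theorem c_perm_15 : allGrid (T.permOK1 D) 22500 1500 20 = true := by decide +kernel
theorem c_perm_16 : allGrid (T.permOK1 D) 24000 1500 20 = true := by decide +kernel
theorem c_perm_17 : allGrid (T.permOK1 D) 25500 1500 20 = true := by decide +kernel
theorem c_perm_18 : allGrid (T.permOK1 D) 27000 1500 20 = true := by decide +kernel
theorem c_perm_19 : allGrid (T.permOK1 D) 28500 1500 20 = true := by decide +kernel
theorem c_perm_20 : allGrid (T.permOK1 D) 30000 1500 20 = true := by decide +kernel
theorem c_perm_21 : allGrid (T.permOK1 D) 31500 1500 20 = true := by decide +kernel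
theorem c_perm_22 : allGrid (T.permOK1 D) 33000 1500 20 = true := by decide +kernel
theorem c_perm_23 : allGrid (T.permOK1 D) 34500 1500 20 = true := by decide +kernel
theorem c_perm_24 : allGrid (T.permOK1 D) 36000 1500 20 = true := by decide +kernel

end Cfsg.Agent.Lib.Helper4.TCD.SCo3pp2A
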