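import Cfsg.Agent.Lib.Helper4.TCD_SCo3pp2A_Acc

namespace Cfsg.Agent.Lib.Helper4.TCD.SCo3pp2A

open Cfsg.Agent.Lib.Helper4.TC

set_option maxRecDepth 100000
set_option Elab.async false

theorem c_act36_2 : allRange (fun i => Nat.beq (actR36 i) i) 30000 15000 = true := by decide +kernel
theorem c_act36_3 : allRange (fun i => Nat.beq (actR36 i) i) 45000 3600 = true := by decide +kernel
theorem c_act37_0 : allRange (fun i => Nat.beq (actR37 i) i) 0 15000 = true := by decide +kernel
theorem c_act37_1 : allRange (fun i => Nat.beq (actR37 i) i) 15000 15000 = true := by decide +kernel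
theorem c_act37_2 : allRange (fun i => Nat.beq (actR37 i) i) 30000 15000 = true := by decide +kernel
theorem c_act37_3 : allRange (fun i => Nat.beq (actR37 i) i) 45000 3600 = true := by decide +kernel
theorem c_act38_0 : allRange (fun i => Nat.beq (actR38 i) i) 0 15000 = true := by decide +kernel
theorem c_act38_1 : allRange (fun i => Nat.beq (actR38 i) i) 15000 15000 = true := by decide +kernel
theorem c_act38_2 : allRange (fun i => Nat.beq (actR38 i) i) 30000 15000 = true := by decide +kernel
theorem c_act38_3 : allRange (fun i => Nat.beq (actR38 i) i) 45000 3600 = true := by decide +kernel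
theorem c_act39_0 : allRange (fun i => Nat.beq (actR39 i) i) 0 15000 = true := by decide +kernel
theorem c_act39_1 : allRange (fun i => Nat.beq (actR39 i) i) 15000 15000 = true := by decide +kernel
theorem c_act39_2 : allRange (fun i => Nat.beq (actR39 i) i) 30000 15000 = true := by decide +kernel
theorem c_act39_3 : allRange (fun i => Nat.beq (actR39 i) i) 45000 3600 = true := by decide +kernel
theorem c_act40_0 : allRange (fun i => Nat.beq (actR40 i) i) 0 30000 = true := by decide +kernel
theorem c_act40_1 : allRange (fun i => Nat.beq (actR40 i) i) 30000 18600 = true := by decide +kernel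
theorem c_act41_0 : allRange (fun i => Nat.beq (actR41 i) i) 0 15000 = true := by decide +kernel
theorem c_act41_1 : allRange (fun i => Nat.beq (actR41 i) i) 15000 15000 = true := by decide +kernel
theorem c_act41_2 : allRange (fun i => Nat.beq (actR41 i) i) 30000 15000 = true := by decide +kernel
theorem c_act41_3 : allRange (fun i => Nat.beq (actR41 i) i) 45000 3600 = true := by decide +kernel
theorem c_act42_0 : allRange (fun i => Nat.beq (actR42 i) i) 0 2727 = true := by decide +kernel
theorem c_act42_1 : allRange (fun i => Nat.beq (actR42 i) i) 2727 2727 = true := by decide +kernel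
theorem c_act42_2 : allRange (fun i => Nat.beq (actR42 i) i) 5454 2727 = true := by decide +kernel
theorem c_act42_3 : allRange (fun i => Nat.beq (actR42 i) i) 8181 2727 = true := by decide +kernel
theorem c_act42_4 : allRange (fun i => Nat.beq (actR42 i) i) 10908 2727 = true := by decide +kernel
theorem c_act42_5 : allRange (fun i => Nat.beq (actR42 i) i) 13635 2727 = true := by decide +kernel
theorem c_act42_6 : allRange (fun i => Nat.beq (actR42 i) i) 16362 2727 = true := by decide +kernel
theorem c_act42_7 : allRange (fun i => Nat.beq (actR42 i) i) 19089 2727 = true := by decide +kernel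
theorem c_act42_8 : allRange (fun i => Nat.beq (actR42 i) i) 21816 2727 = true := by decide +kernel
theorem c_act42_9 : allRange (fun i => Nat.beq (actR42 i) i) 24543 2727 = true := by decide +kernel
theorem c_act42_10 : allRange (fun i => Nat.beq (actR42 i) i) 27270 2727 = true := by decide +kernel
theorem c_act42_11 : allRange (fun i => Nat.beq (actR42 i) i) 29997 2727 = true := by decide +kernel
theorem c_act42_12 : allRange (fun i => Nat.beq (actR42 i) i) 32724 2727 = true := by decide +kernel
theorem c_act42_13 : allRange (fun i => Nat.beq (actR42 i) i) 35451 2727 = true := by decide +kernel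
theorem c_act42_14 : allRange (fun i => Nat.beq (actR42 i) i) 38178 2727 = true := by decide +kernel
theorem c_act42_15 : allRange (fun i => Nat.beq (actR42 i) i) 40905 2727 = true := by decide +kernel
theorem c_act42_16 : allRange (fun i => Nat.beq (actR42 i) i) 43632 2727 = true := by decide +kernel
theorem c_act42_17 : allRange (fun i => Nat.beq (actR42 i) i) 46359 2241 = true := by decide +kernel
theorem c_act43_0 : allRange (fun i => Nat.beq (actR43 i) i) 0 3333 = true := by decide +kernel
theorem c_act43_1 : allRange (fun i => Nat.beq (actR43 i) i) 3333 3333 = true := by decide +kernel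
theorem c_act43_2 : allRange (fun i => Nat.beq (actR43 i) i) 6666 3333 = true := by decide +kernel
theorem c_act43_3 : allRange (fun i => Nat.beq (actR43 i) i) 9999 3333 = true := by decide +kernel
theorem c_act43_4 : allRange (fun i => Nat.beq (actR43 i) i) 13332 3333 = true := by decide +kernel
theorem c_act43_5 : allRange (fun i => Nat.beq (actR43 i) i) 16665 3333 = true := by decide +kernel
theorem c_act43_6 : allRange (fun i => Nat.beq (actR43 i) i) 19998 3333 = true := by decide +kernel
theorem c_act43_7 : allRange (fun i => Nat.beq (actR43 i) i) 23331 3333 = true := by decide +kernel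
theorem c_act43_8 : allRange (fun i => Nat.beq (actR43 i) i) 26664 3333 = true := by decide +kernel
theorem c_act43_9 : allRange (fun i => Nat.beq (actR43 i) i) 29997 3333 = true := by decide +kernel
theorem c_act43_10 : allRange (fun i => Nat.beq (actR43 i) i) 33330 3333 = true := by decide +kernel
theorem c_act43_11 : allRange (fun i => Nat.beq (actR43 i) i) 36663 3333 = true := by decide +kernel
theorem c_act43_12 : allRange (fun i => Nat.beq (actR43 i) i) 39996 3333 = true := by decide +kernel
theorem c_act43_13 : allRange (fun i => Nat.beq (actR43 i) i) 43329 3333 = true := by decide +kernel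
theorem c_act43_14 : allRange (fun i => Nat.beq (actR43 i) i) 46662 1938 = true := by decide +kernel
theorem c_act44_0 : allRange (fun i => Nat.beq (actR44 i) i) 0 3157 = true := by decide +kernel

end Cfsg.Agent.Lib.Helper4.TCD.SCo3pp2A
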