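import Cfsg.Agent.Lib.Helper4.TCD_Co3pA_Acc
import Cfsg.Agent.Lib.Helper4.TC13

namespace Cfsg.Agent.Lib.Helper4.TCD.SCo3pp2W

open Cfsg.Agent.Lib.Helper4.TC Cfsg.Agent.Lib.Helper4.TCD.Co3pA

set_option maxRecDepth 100000
set_option Elab.async false

def chk0 : List Nat := [0, 0]
noncomputable def act0 (i : Nat) : Nat := col1 (col1 (i))
theorem act0_eq (i : Nat) : act0 i = Tab.act T D chk0 i := rfl
theorem c0_0 : allRange (fun i => Nat.beq (act0 i) i) 0 15000 = true := by decide +kernel
theorem c0_1 : allRange (fun i => Nat.beq (act0 i) i) 15000 15000 = true := by decide +kernel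
theorem c0_2 : allRange (fun i => Nat.beq (act0 i) i) 30000 15000 = true := by decide +kernel
theorem c0_3 : allRange (fun i => Nat.beq (act0 i) i) 45000 3600 = true := by decide +kernel
theorem h0 : ∀ i, i < T.N → Tab.relActOK T D chk0 i = true := by
  intro i hi
  rw [Tab.relActOK, ← act0_eq]
  exact (range_glue (range_of_allRange c0_0) (range_glue (range_of_allRange c0_1) (range_glue (range_of_allRange c0_2) (range_of_allRange c0_3)))) i (Nat.zero_le _) hi

def chk1 : List Nat := [2, 2, 2, 2]
noncomputable def act1 (i : Nat) : Nat := col3 (col3 (col3 (col3 (i))))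
theorem act1_eq (i : Nat) : act1 i = Tab.act T D chk1 i := rfl
theorem c1_0 : allRange (fun i => Nat.beq (act1 i) i) 0 10000 = true := by decide +kernel
theorem c1_1 : allRange (fun i => Nat.beq (act1 i) i) 10000 10000 = true := by decide +kernel
theorem c1_2 : allRange (fun i => Nat.beq (act1 i) i) 20000 10000 = true := by decide +kernel
theorem c1_3 : allRange (fun i => Nat.beq (act1 i) i) 30000 10000 = true := by decide +kernel
theorem c1_4 : allRange (fun i => Nat.beq (act1 i) i) 40000 8600 = true := by decide +kernel
theorem h1 : ∀ i, i < T.N → Tab.relActOK T D chk1 i = true := by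
  intro i hi
  rw [Tab.relActOK, ← act1_eq]
  exact (range_glue (range_of_allRange c1_0) (range_glue (range_of_allRange c1_1) (range_glue (range_of_allRange c1_2) (range_glue (range_of_allRange c1_3) (range_of_allRange c1_4))))) i (Nat.zero_le _) hi

def chk2 : List Nat := [4, 4, 4, 4, 4, 4, 4, 4, 4, 4, 4, 4, 4, 4, 4, 4, 4, 4, 4, 4, 4, 4, 4]
noncomputable def act2 (i : Nat) : Nat := col5 (col5 (col5 (col5 (col5 (col5 (col5 (col5 (col5 (col5 (col5 (col5 (col5 (col5 (col5 (col5 (col5 (col5 (col5 (col5 (col5 (col5 (col5 (i)))))))))))))))))))))))
theorem act2_eq (i : Nat) : act2 i = Tab.act T D chk2 i := rfl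
theorem c2_0 : allRange (fun i => Nat.beq (act2 i) i) 0 2400 = true := by decide +kernel
theorem c2_1 : allRange (fun i => Nat.beq (act2 i) i) 2400 2400 = true := by decide +kernel
theorem c2_2 : allRange (fun i => Nat.beq (act2 i) i) 4800 2400 = true := by decide +kernel
theorem c2_3 : allRange (fun i => Nat.beq (act2 i) i) 7200 2400 = true := by decide +kernel
theorem c2_4 : allRange (fun i => Nat.beq (act2 i) i) 9600 2400 = true := by decide +kernel
theorem c2_5 : allRange (fun i => Nat.beq (act2 i) i) 12000 2400 = true := by decide +kernel
theorem c2_6 : allRange (fun i => Nat.beq (act2 i) i) 14400 2400 = true := by decide +kernel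
theorem c2_7 : allRange (fun i => Nat.beq (act2 i) i) 16800 2400 = true := by decide +kernel
theorem c2_8 : allRange (fun i => Nat.beq (act2 i) i) 19200 2400 = true := by decide +kernel
theorem c2_9 : allRange (fun i => Nat.beq (act2 i) i) 21600 2400 = true := by decide +kernel
theorem c2_10 : allRange (fun i => Nat.beq (act2 i) i) 24000 2400 = true := by decide +kernel
theorem c2_11 : allRange (fun i => Nat.beq (act2 i) i) 26400 2400 = true := by decide +kernel
theorem c2_12 : allRange (fun i => Nat.beq (act2 i) i) 28800 2400 = true := by decide +kernel
theorem c2_13 : allRange (fun i => Nat.beq (act2 i) i) 31200 2400 = true := by decide +kernel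
theorem c2_14 : allRange (fun i => Nat.beq (act2 i) i) 33600 2400 = true := by decide +kernel
theorem c2_15 : allRange (fun i => Nat.beq (act2 i) i) 36000 2400 = true := by decide +kernel
theorem c2_16 : allRange (fun i => Nat.beq (act2 i) i) 38400 2400 = true := by decide +kernel
theorem c2_17 : allRange (fun i => Nat.beq (act2 i) i) 40800 2400 = true := by decide +kernel
theorem c2_18 : allRange (fun i => Nat.beq (act2 i) i) 43200 2400 = true := by decide +kernel
theorem c2_19 : allRange (fun i => Nat.beq (act2 i) i) 45600 2400 = true := by decide +kernel
theorem c2_20 : allRange (fun i => Nat.beq (act2 i) i) 48000 600 = true := by decide +kernel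
theorem h2 : ∀ i, i < T.N → Tab.relActOK T D chk2 i = true := by
  intro i hi
  rw [Tab.relActOK, ← act2_eq]
  exact (range_glue (range_of_allRange c2_0) (range_glue (range_of_allRange c2_1) (range_glue (range_of_allRange c2_2) (range_glue (range_of_allRange c2_3) (range_glue (range_of_allRange c2_4) (range_glue (range_of_allRange c2_5) (range_glue (range_of_allRange c2_6) (range_glue (range_of_allRange c2_7) (range_glue (range_of_allRange c2_8) (range_glue (range_of_allRange c2_9) (range_glue (range_of_allRange c2_10) (range_glue (range_of_allRange c2_11) (range_glue (range_of_allRange c2_12) (range_glue (range_of_allRange c2_13) (range_glue (range_of_allRange c2_14) (range_glue (range_of_allRange c2_15) (range_glue (range_of_allRange c2_16) (range_glue (range_of_allRange c2_17) (range_glue (range_of_allRange c2_18) (range_glue (range_of_allRange c2_19) (range_of_allRange c2_20))))))))))))))))))))) i (Nat.zero_le _) hi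

def chk3 : List Nat := [6, 0, 6, 0, 6, 0, 6, 0, 6, 0]
noncomputable def act3 (i : Nat) : Nat := col7 (col1 (col7 (col1 (col7 (col1 (col7 (col1 (col7 (col1 (i))))))))))
theorem act3_eq (i : Nat) : act3 i = Tab.act T D chk3 i := rfl
theorem c3_0 : allRange (fun i => Nat.beq (act3 i) i) 0 5000 = true := by decide +kernel
theorem c3_1 : allRange (fun i => Nat.beq (act3 i) i) 5000 5000 = true := by decide +kernel
theorem c3_2 : allRange (fun i => Nat.beq (act3 i) i) 10000 5000 = true := by decide +kernel
theorem c3_3 : allRange (fun i => Nat.beq (act3 i) i) 15000 5000 = true := by decide +kernel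
theorem c3_4 : allRange (fun i => Nat.beq (act3 i) i) 20000 5000 = true := by decide +kernel
theorem c3_5 : allRange (fun i => Nat.beq (act3 i) i) 25000 5000 = true := by decide +kernel
theorem c3_6 : allRange (fun i => Nat.beq (act3 i) i) 30000 5000 = true := by decide +kernel
theorem c3_7 : allRange (fun i => Nat.beq (act3 i) i) 35000 5000 = true := by decide +kernel
theorem c3_8 : allRange (fun i => Nat.beq (act3 i) i) 40000 5000 = true := by decide +kernel
theorem c3_9 : allRange (fun i => Nat.beq (act3 i) i) 45000 3600 = true := by decide +kernel
theorem h3 : ∀ i, i < T.N → Tab.relActOK T D chk3 i = true := by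
  intro i hi
  rw [Tab.relActOK, ← act3_eq]
  exact (range_glue (range_of_allRange c3_0) (range_glue (range_of_allRange c3_1) (range_glue (range_of_allRange c3_2) (range_glue (range_of_allRange c3_3) (range_glue (range_of_allRange c3_4) (range_glue (range_of_allRange c3_5) (range_glue (range_of_allRange c3_6) (range_glue (range_of_allRange c3_7) (range_glue (range_of_allRange c3_8) (range_of_allRange c3_9)))))))))) i (Nat.zero_le _) hi

def chk4 : List Nat := [6, 0, 0, 7]
noncomputable def act4 (i : Nat) : Nat := col7 (col1 (col1 (col6 (i))))
theorem act4_eq (i : Nat) : act4 i = Tab.act T D chk4 i := rfl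
theorem c4_0 : allRange (fun i => Nat.beq (act4 i) i) 0 10000 = true := by decide +kernel
theorem c4_1 : allRange (fun i => Nat.beq (act4 i) i) 10000 10000 = true := by decide +kernel
theorem c4_2 : allRange (fun i => Nat.beq (act4 i) i) 20000 10000 = true := by decide +kernel
theorem c4_3 : allRange (fun i => Nat.beq (act4 i) i) 30000 10000 = true := by decide +kernel
theorem c4_4 : allRange (fun i => Nat.beq (act4 i) i) 40000 8600 = true := by decide +kernel
theorem h4 : ∀ i, i < T.N → Tab.relActOK T D chk4 i = true := by
  intro i hi
  rw [Tab.relActOK, ← act4_eq]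
  exact (range_glue (range_of_allRange c4_0) (range_glue (range_of_allRange c4_1) (range_glue (range_of_allRange c4_2) (range_glue (range_of_allRange c4_3) (range_of_allRange c4_4))))) i (Nat.zero_le _) hi

def chk5 : List Nat := [6, 6]
noncomputable def act5 (i : Nat) : Nat := col7 (col7 (i))
theorem act5_eq (i : Nat) : act5 i = Tab.act T D chk5 i := rfl
theorem c5_0 : allRange (fun i => Nat.beq (act5 i) i) 0 15000 = true := by decide +kernel
theorem c5_1 : allRange (fun i => Nat.beq (act5 i) i) 15000 15000 = true := by decide +kernel
theorem c5_2 : allRange (fun i => Nat.beq (act5 i) i) 30000 15000 = true := by decide +kernel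
theorem c5_3 : allRange (fun i => Nat.beq (act5 i) i) 45000 3600 = true := by decide +kernel
theorem h5 : ∀ i, i < T.N → Tab.relActOK T D chk5 i = true := by
  intro i hi
  rw [Tab.relActOK, ← act5_eq]
  exact (range_glue (range_of_allRange c5_0) (range_glue (range_of_allRange c5_1) (range_glue (range_of_allRange c5_2) (range_of_allRange c5_3)))) i (Nat.zero_le _) hi

def chk6 : List Nat := [0, 2, 0, 2, 2, 0, 2, 0, 2, 2, 0, 2, 5, 0, 6, 5, 6, 5, 0, 6, 3]
noncomputable def act6 (i : Nat) : Nat := col1 (col3 (col1 (col3 (col3 (col1 (col3 (col1 (col3 (col3 (col1 (col3 (col4 (col1 (col7 (col4 (col7 (col4 (col1 (col7 (col2 (i)))))))))))))))))))))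
theorem act6_eq (i : Nat) : act6 i = Tab.act T D chk6 i := rfl
theorem c6_0 : allRange (fun i => Nat.beq (act6 i) i) 0 2608 = true := by decide +kernel
theorem c6_1 : allRange (fun i => Nat.beq (act6 i) i) 2608 2608 = true := by decide +kernel
theorem c6_2 : allRange (fun i => Nat.beq (act6 i) i) 5216 2608 = true := by decide +kernel
theorem c6_3 : allRange (fun i => Nat.beq (act6 i) i) 7824 2608 = true := by decide +kernel
theorem c6_4 : allRange (fun i => Nat.beq (act6 i) i) 10432 2608 = true := by decide +kernel
theorem c6_5 : allRange (fun i => Nat.beq (act6 i) i) 13040 2608 = true := by decide +kernel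
theorem c6_6 : allRange (fun i => Nat.beq (act6 i) i) 15648 2608 = true := by decide +kernel
theorem c6_7 : allRange (fun i => Nat.beq (act6 i) i) 18256 2608 = true := by decide +kernel
theorem c6_8 : allRange (fun i => Nat.beq (act6 i) i) 20864 2608 = true := by decide +kernel
theorem c6_9 : allRange (fun i => Nat.beq (act6 i) i) 23472 2608 = true := by decide +kernel
theorem c6_10 : allRange (fun i => Nat.beq (act6 i) i) 26080 2608 = true := by decide +kernel
theorem c6_11 : allRange (fun i => Nat.beq (act6 i) i) 28688 2608 = true := by decide +kernel
theorem c6_12 : allRange (fun i => Nat.beq (act6 i) i) 31296 2608 = true := by decide +kernel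
theorem c6_13 : allRange (fun i => Nat.beq (act6 i) i) 33904 2608 = true := by decide +kernel
theorem c6_14 : allRange (fun i => Nat.beq (act6 i) i) 36512 2608 = true := by decide +kernel
theorem c6_15 : allRange (fun i => Nat.beq (act6 i) i) 39120 2608 = true := by decide +kernel
theorem c6_16 : allRange (fun i => Nat.beq (act6 i) i) 41728 2608 = true := by decide +kernel
theorem c6_17 : allRange (fun i => Nat.beq (act6 i) i) 44336 2608 = true := by decide +kernel
theorem c6_18 : allRange (fun i => Nat.beq (act6 i) i) 46944 1656 = true := by decide +kernel
theorem h6 : ∀ i, i < T.N → Tab.relActOK T D chk6 i = true := by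
  intro i hi
  rw [Tab.relActOK, ← act6_eq]
  exact (range_glue (range_of_allRange c6_0) (range_glue (range_of_allRange c6_1) (range_glue (range_of_allRange c6_2) (range_glue (range_of_allRange c6_3) (range_glue (range_of_allRange c6_4) (range_glue (range_of_allRange c6_5) (range_glue (range_of_allRange c6_6) (range_glue (range_of_allRange c6_7) (range_glue (range_of_allRange c6_8) (range_glue (range_of_allRange c6_9) (range_glue (range_of_allRange c6_10) (range_glue (range_of_allRange c6_11) (range_glue (range_of_allRange c6_12) (range_glue (range_of_allRange c6_13) (range_glue (range_of_allRange c6_14) (range_glue (range_of_allRange c6_15) (range_glue (range_of_allRange c6_16) (range_glue (range_of_allRange c6_17) (range_of_allRange c6_18))))))))))))))))))) i (Nat.zero_le _) hi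

def chk7 : List Nat := [0, 2, 0, 2, 5, 3, 5, 0, 6, 5, 0, 4, 6, 2, 2, 0, 2, 2, 0, 3, 0, 2, 2]
noncomputable def act7 (i : Nat) : Nat := col1 (col3 (col1 (col3 (col4 (col2 (col4 (col1 (col7 (col4 (col1 (col5 (col7 (col3 (col3 (col1 (col3 (col3 (col1 (col2 (col1 (col3 (col3 (i)))))))))))))))))))))))
theorem act7_eq (i : Nat) : act7 i = Tab.act T D chk7 i := rfl
theorem c7_0 : allRange (fun i => Nat.beq (act7 i) i) 0 2400 = true := by decide +kernel
theorem c7_1 : allRange (fun i => Nat.beq (act7 i) i) 2400 2400 = true := by decide +kernel
theorem c7_2 : allRange (fun i => Nat.beq (act7 i) i) 4800 2400 = true := by decide +kernel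
theorem c7_3 : allRange (fun i => Nat.beq (act7 i) i) 7200 2400 = true := by decide +kernel
theorem c7_4 : allRange (fun i => Nat.beq (act7 i) i) 9600 2400 = true := by decide +kernel
theorem c7_5 : allRange (fun i => Nat.beq (act7 i) i) 12000 2400 = true := by decide +kernel
theorem c7_6 : allRange (fun i => Nat.beq (act7 i) i) 14400 2400 = true := by decide +kernel
theorem c7_7 : allRange (fun i => Nat.beq (act7 i) i) 16800 2400 = true := by decide +kernel
theorem c7_8 : allRange (fun i => Nat.beq (act7 i) i) 19200 2400 = true := by decide +kernel
theorem c7_9 : allRange (fun i => Nat.beq (act7 i) i) 21600 2400 = true := by decide +kernel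
theorem c7_10 : allRange (fun i => Nat.beq (act7 i) i) 24000 2400 = true := by decide +kernel
theorem c7_11 : allRange (fun i => Nat.beq (act7 i) i) 26400 2400 = true := by decide +kernel
theorem c7_12 : allRange (fun i => Nat.beq (act7 i) i) 28800 2400 = true := by decide +kernel
theorem c7_13 : allRange (fun i => Nat.beq (act7 i) i) 31200 2400 = true := by decide +kernel
theorem c7_14 : allRange (fun i => Nat.beq (act7 i) i) 33600 2400 = true := by decide +kernel
theorem c7_15 : allRange (fun i => Nat.beq (act7 i) i) 36000 2400 = true := by decide +kernel
theorem c7_16 : allRange (fun i => Nat.beq (act7 i) i) 38400 2400 = true := by decide +kernel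
theorem c7_17 : allRange (fun i => Nat.beq (act7 i) i) 40800 2400 = true := by decide +kernel
theorem c7_18 : allRange (fun i => Nat.beq (act7 i) i) 43200 2400 = true := by decide +kernel
theorem c7_19 : allRange (fun i => Nat.beq (act7 i) i) 45600 2400 = true := by decide +kernel
theorem c7_20 : allRange (fun i => Nat.beq (act7 i) i) 48000 600 = true := by decide +kernel
theorem h7 : ∀ i, i < T.N → Tab.relActOK T D chk7 i = true := by
  intro i hi
  rw [Tab.relActOK, ← act7_eq]
  exact (range_glue (range_of_allRange c7_0) (range_glue (range_of_allRange c7_1) (range_glue (range_of_allRange c7_2) (range_glue (range_of_allRange c7_3) (range_glue (range_of_allRange c7_4) (range_glue (range_of_allRange c7_5) (range_glue (range_of_allRange c7_6) (range_glue (range_of_allRange c7_7) (range_glue (range_of_allRange c7_8) (range_glue (range_of_allRange c7_9) (range_glue (range_of_allRange c7_10) (range_glue (range_of_allRange c7_11) (range_glue (range_of_allRange c7_12) (range_glue (range_of_allRange c7_13) (range_glue (range_of_allRange c7_14) (range_glue (range_of_allRange c7_15) (range_glue (range_of_allRange c7_16) (range_glue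 (range_of_allRange c7_17) (range_glue (range_of_allRange c7_18) (range_glue (range_of_allRange c7_19) (range_of_allRange c7_20))))))))))))))))))))) i (Nat.zero_le _) hi

def chk8 : List Nat := [0, 2, 0, 3, 3, 0, 2, 0, 3, 3, 0, 6, 5, 2, 5, 0, 3, 3, 6, 0, 4, 4, 2, 5]
noncomputable def act8 (i : Nat) : Nat := col1 (col3 (col1 (col2 (col2 (col1 (col3 (col1 (col2 (col2 (col1 (col7 (col4 (col3 (col4 (col1 (col2 (col2 (col7 (col1 (col5 (col5 (col3 (col4 (i))))))))))))))))))))))))
theorem act8_eq (i : Nat) : act8 i = Tab.act T D chk8 i := rfl
theorem c8_0 : allRange (fun i => Nat.beq (act8 i) i) 0 2307 = true := by decide +kernel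
theorem c8_1 : allRange (fun i => Nat.beq (act8 i) i) 2307 2307 = true := by decide +kernel
theorem c8_2 : allRange (fun i => Nat.beq (act8 i) i) 4614 2307 = true := by decide +kernel
theorem c8_3 : allRange (fun i => Nat.beq (act8 i) i) 6921 2307 = true := by decide +kernel
theorem c8_4 : allRange (fun i => Nat.beq (act8 i) i) 9228 2307 = true := by decide +kernel
theorem c8_5 : allRange (fun i => Nat.beq (act8 i) i) 11535 2307 = true := by decide +kernel
theorem c8_6 : allRange (fun i => Nat.beq (act8 i) i) 13842 2307 = true := by decide +kernel
theorem c8_7 : allRange (fun i => Nat.beq (act8 i) i) 16149 2307 = true := by decide +kernel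
theorem c8_8 : allRange (fun i => Nat.beq (act8 i) i) 18456 2307 = true := by decide +kernel
theorem c8_9 : allRange (fun i => Nat.beq (act8 i) i) 20763 2307 = true := by decide +kernel
theorem c8_10 : allRange (fun i => Nat.beq (act8 i) i) 23070 2307 = true := by decide +kernel
theorem c8_11 : allRange (fun i => Nat.beq (act8 i) i) 25377 2307 = true := by decide +kernel
theorem c8_12 : allRange (fun i => Nat.beq (act8 i) i) 27684 2307 = true := by decide +kernel
theorem c8_13 : allRange (fun i => Nat.beq (act8 i) i) 29991 2307 = true := by decide +kernel
theorem c8_14 : allRange (fun i => Nat.beq (act8 i) i) 32298 2307 = true := by decide +kernel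
theorem c8_15 : allRange (fun i => Nat.beq (act8 i) i) 34605 2307 = true := by decide +kernel
theorem c8_16 : allRange (fun i => Nat.beq (act8 i) i) 36912 2307 = true := by decide +kernel
theorem c8_17 : allRange (fun i => Nat.beq (act8 i) i) 39219 2307 = true := by decide +kernel
theorem c8_18 : allRange (fun i => Nat.beq (act8 i) i) 41526 2307 = true := by decide +kernel
theorem c8_19 : allRange (fun i => Nat.beq (act8 i) i) 43833 2307 = true := by decide +kernel
theorem c8_20 : allRange (fun i => Nat.beq (act8 i) i) 46140 2307 = true := by decide +kernel
theorem c8_21 : allRange (fun i => Nat.beq (act8 i) i) 48447 153 = true := by decide +kernel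
theorem h8 : ∀ i, i < T.N → Tab.relActOK T D chk8 i = true := by
  intro i hi
  rw [Tab.relActOK, ← act8_eq]
  exact (range_glue (range_of_allRange c8_0) (range_glue (range_of_allRange c8_1) (range_glue (range_of_allRange c8_2) (range_glue (range_of_allRange c8_3) (range_glue (range_of_allRange c8_4) (range_glue (range_of_allRange c8_5) (range_glue (range_of_allRange c8_6) (range_glue (range_of_allRange c8_7) (range_glue (range_of_allRange c8_8) (range_glue (range_of_allRange c8_9) (range_glue (range_of_allRange c8_10) (range_glue (range_of_allRange c8_11) (range_glue (range_of_allRange c8_12) (range_glue (range_of_allRange c8_13) (range_glue (range_of_allRange c8_14) (range_glue (range_of_allRange c8_15) (range_glue (range_of_allRange c8_16) (range_glue (range_of_allRange c8_17) (range_glue (range_of_allRange c8_18) (range_glue (range_of_allRange c8_19) (range_glue (range_of_allRange c8_20) (range_of_allRange c8_21)))))))))))))))))))))) i (Nat.zero_le _) hi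

def chk9 : List Nat := [0, 2, 0, 2, 0, 3, 3, 0, 3, 3, 6, 4, 0, 3, 5, 0, 6, 3, 4, 3, 5, 0, 4, 3, 3, 0, 3]
noncomputable def act9 (i : Nat) : Nat := col1 (col3 (col1 (col3 (col1 (col2 (col2 (col1 (col2 (col2 (col7 (col5 (col1 (col2 (col4 (col1 (col7 (col2 (col5 (col2 (col4 (col1 (col5 (col2 (col2 (col1 (col2 (i)))))))))))))))))))))))))))
theorem act9_eq (i : Nat) : act9 i = Tab.act T D chk9 i := rfl
theorem c9_0 : allRange (fun i => Nat.beq (act9 i) i) 0 2068 = true := by decide +kernel
theorem c9_1 : allRange (fun i => Nat.beq (act9 i) i) 2068 2068 = true := by decide +kernel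
theorem c9_2 : allRange (fun i => Nat.beq (act9 i) i) 4136 2068 = true := by decide +kernel
theorem c9_3 : allRange (fun i => Nat.beq (act9 i) i) 6204 2068 = true := by decide +kernel
theorem c9_4 : allRange (fun i => Nat.beq (act9 i) i) 8272 2068 = true := by decide +kernel
theorem c9_5 : allRange (fun i => Nat.beq (act9 i) i) 10340 2068 = true := by decide +kernel
theorem c9_6 : allRange (fun i => Nat.beq (act9 i) i) 12408 2068 = true := by decide +kernel
theorem c9_7 : allRange (fun i => Nat.beq (act9 i) i) 14476 2068 = true := by decide +kernel
theorem c9_8 : allRange (fun i => Nat.beq (act9 i) i) 16544 2068 = true := by decide +kernel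
theorem c9_9 : allRange (fun i => Nat.beq (act9 i) i) 18612 2068 = true := by decide +kernel
theorem c9_10 : allRange (fun i => Nat.beq (act9 i) i) 20680 2068 = true := by decide +kernel
theorem c9_11 : allRange (fun i => Nat.beq (act9 i) i) 22748 2068 = true := by decide +kernel
theorem c9_12 : allRange (fun i => Nat.beq (act9 i) i) 24816 2068 = true := by decide +kernel
theorem c9_13 : allRange (fun i => Nat.beq (act9 i) i) 26884 2068 = true := by decide +kernel
theorem c9_14 : allRange (fun i => Nat.beq (act9 i) i) 28952 2068 = true := by decide +kernel
theorem c9_15 : allRange (fun i => Nat.beq (act9 i) i) 31020 2068 = true := by decide +kernel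
theorem c9_16 : allRange (fun i => Nat.beq (act9 i) i) 33088 2068 = true := by decide +kernel
theorem c9_17 : allRange (fun i => Nat.beq (act9 i) i) 35156 2068 = true := by decide +kernel
theorem c9_18 : allRange (fun i => Nat.beq (act9 i) i) 37224 2068 = true := by decide +kernel
theorem c9_19 : allRange (fun i => Nat.beq (act9 i) i) 39292 2068 = true := by decide +kernel
theorem c9_20 : allRange (fun i => Nat.beq (act9 i) i) 41360 2068 = true := by decide +kernel
theorem c9_21 : allRange (fun i => Nat.beq (act9 i) i) 43428 2068 = true := by decide +kernel
theorem c9_22 : allRange (fun i => Nat.beq (act9 i) i) 45496 2068 = true := by decide +kernel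
theorem c9_23 : allRange (fun i => Nat.beq (act9 i) i) 47564 1036 = true := by decide +kernel
theorem h9 : ∀ i, i < T.N → Tab.relActOK T D chk9 i = true := by
  intro i hi
  rw [Tab.relActOK, ← act9_eq]
  exact (range_glue (range_of_allRange c9_0) (range_glue (range_of_allRange c9_1) (range_glue (range_of_allRange c9_2) (range_glue (range_of_allRange c9_3) (range_glue (range_of_allRange c9_4) (range_glue (range_of_allRange c9_5) (range_glue (range_of_allRange c9_6) (range_glue (range_of_allRange c9_7) (range_glue (range_of_allRange c9_8) (range_glue (range_of_allRange c9_9) (range_glue (range_of_allRange c9_10) (range_glue (range_of_allRange c9_11) (range_glue (range_of_allRange c9_12) (range_glue (range_of_allRange c9_13) (range_glue (range_of_allRange c9_14) (range_glue (range_of_allRange c9_15) (range_glue (range_of_allRange c9_16) (range_glue (range_of_allRange c9_17) (range_glue (range_of_allRange c9_18) (range_glue (range_of_allRange c9_19) (range_glue (range_of_allRange c9_20) (range_glue (range_of_allRange c9_21) (range_glue (range_of_allRange c9_22) (range_of_allRange c9_23)))))))))))))))))))))))) i (Nat.zero_le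 _) hi

def chk10 : List Nat := [0, 0]
noncomputable def act10 (i : Nat) : Nat := col1 (col1 (i))
theorem act10_eq (i : Nat) : act10 i = Tab.act T D chk10 i := rfl
theorem c10_0 : allRange (fun i => Nat.beq (act10 i) i) 0 15000 = true := by decide +kernel
theorem c10_1 : allRange (fun i => Nat.beq (act10 i) i) 15000 15000 = true := by decide +kernel
theorem c10_2 : allRange (fun i => Nat.beq (act10 i) i) 30000 15000 = true := by decide +kernel
theorem c10_3 : allRange (fun i => Nat.beq (act10 i) i) 45000 3600 = true := by decide +kernel
theorem h10 : ∀ i, i < T.N → Tab.relActOK T D chk10 i = true := by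
  intro i hi
  rw [Tab.relActOK, ← act10_eq]
  exact (range_glue (range_of_allRange c10_0) (range_glue (range_of_allRange c10_1) (range_glue (range_of_allRange c10_2) (range_of_allRange c10_3)))) i (Nat.zero_le _) hi

def chk11 : List Nat := [2, 2, 2, 2]
noncomputable def act11 (i : Nat) : Nat := col3 (col3 (col3 (col3 (i))))
theorem act11_eq (i : Nat) : act11 i = Tab.act T D chk11 i := rfl
theorem c11_0 : allRange (fun i => Nat.beq (act11 i) i) 0 10000 = true := by decide +kernel
theorem c11_1 : allRange (fun i => Nat.beq (act11 i) i) 10000 10000 = true := by decide +kernel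
theorem c11_2 : allRange (fun i => Nat.beq (act11 i) i) 20000 10000 = true := by decide +kernel
theorem c11_3 : allRange (fun i => Nat.beq (act11 i) i) 30000 10000 = true := by decide +kernel
theorem c11_4 : allRange (fun i => Nat.beq (act11 i) i) 40000 8600 = true := by decide +kernel
theorem h11 : ∀ i, i < T.N → Tab.relActOK T D chk11 i = true := by
  intro i hi
  rw [Tab.relActOK, ← act11_eq]
  exact (range_glue (range_of_allRange c11_0) (range_glue (range_of_allRange c11_1) (range_glue (range_of_allRange c11_2) (range_glue (range_of_allRange c11_3) (range_of_allRange c11_4))))) i (Nat.zero_le _) hi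

def chk12 : List Nat := [0, 2, 0, 2, 0, 2, 0, 2, 0, 2, 0, 2, 0, 2, 0, 2, 0, 2, 0, 2, 0, 2]
noncomputable def act12 (i : Nat) : Nat := col1 (col3 (col1 (col3 (col1 (col3 (col1 (col3 (col1 (col3 (col1 (col3 (col1 (col3 (col1 (col3 (col1 (col3 (col1 (col3 (col1 (col3 (i))))))))))))))))))))))
theorem act12_eq (i : Nat) : act12 i = Tab.act T D chk12 i := rfl
theorem c12_0 : allRange (fun i => Nat.beq (act12 i) i) 0 2500 = true := by decide +kernel
theorem c12_1 : allRange (fun i => Nat.beq (act12 i) i) 2500 2500 = true := by decide +kernel
theorem c12_2 : allRange (fun i => Nat.beq (act12 i) i) 5000 2500 = true := by decide +kernel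
theorem c12_3 : allRange (fun i => Nat.beq (act12 i) i) 7500 2500 = true := by decide +kernel
theorem c12_4 : allRange (fun i => Nat.beq (act12 i) i) 10000 2500 = true := by decide +kernel
theorem c12_5 : allRange (fun i => Nat.beq (act12 i) i) 12500 2500 = true := by decide +kernel
theorem c12_6 : allRange (fun i => Nat.beq (act12 i) i) 15000 2500 = true := by decide +kernel
theorem c12_7 : allRange (fun i => Nat.beq (act12 i) i) 17500 2500 = true := by decide +kernel
theorem c12_8 : allRange (fun i => Nat.beq (act12 i) i) 20000 2500 = true := by decide +kernel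
theorem c12_9 : allRange (fun i => Nat.beq (act12 i) i) 22500 2500 = true := by decide +kernel
theorem c12_10 : allRange (fun i => Nat.beq (act12 i) i) 25000 2500 = true := by decide +kernel
theorem c12_11 : allRange (fun i => Nat.beq (act12 i) i) 27500 2500 = true := by decide +kernel
theorem c12_12 : allRange (fun i => Nat.beq (act12 i) i) 30000 2500 = true := by decide +kernel
theorem c12_13 : allRange (fun i => Nat.beq (act12 i) i) 32500 2500 = true := by decide +kernel
theorem c12_14 : allRange (fun i => Nat.beq (act12 i) i) 35000 2500 = true := by decide +kernel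
theorem c12_15 : allRange (fun i => Nat.beq (act12 i) i) 37500 2500 = true := by decide +kernel
theorem c12_16 : allRange (fun i => Nat.beq (act12 i) i) 40000 2500 = true := by decide +kernel
theorem c12_17 : allRange (fun i => Nat.beq (act12 i) i) 42500 2500 = true := by decide +kernel
theorem c12_18 : allRange (fun i => Nat.beq (act12 i) i) 45000 2500 = true := by decide +kernel
theorem c12_19 : allRange (fun i => Nat.beq (act12 i) i) 47500 1100 = true := by decide +kernel
theorem h12 : ∀ i, i < T.N → Tab.relActOK T D chk12 i = true := by
  intro i hi
  rw [Tab.relActOK, ← act12_eq]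
  exact (range_glue (range_of_allRange c12_0) (range_glue (range_of_allRange c12_1) (range_glue (range_of_allRange c12_2) (range_glue (range_of_allRange c12_3) (range_glue (range_of_allRange c12_4) (range_glue (range_of_allRange c12_5) (range_glue (range_of_allRange c12_6) (range_glue (range_of_allRange c12_7) (range_glue (range_of_allRange c12_8) (range_glue (range_of_allRange c12_9) (range_glue (range_of_allRange c12_10) (range_glue (range_of_allRange c12_11) (range_glue (range_of_allRange c12_12) (range_glue (range_of_allRange c12_13) (range_glue (range_of_allRange c12_14) (range_glue (range_of_allRange c12_15) (range_glue (range_of_allRange c12_16) (range_glue (range_of_allRange c12_17) (range_glue (range_of_allRange c12_18) (range_of_allRange c12_19)))))))))))))))))))) i (Nat.zero_le _) hi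

def chk13 : List Nat := [0, 2, 2, 0, 2, 2, 0, 2, 2, 0, 2, 2, 0, 2, 2, 0, 2, 2]
noncomputable def act13 (i : Nat) : Nat := col1 (col3 (col3 (col1 (col3 (col3 (col1 (col3 (col3 (col1 (col3 (col3 (col1 (col3 (col3 (col1 (col3 (col3 (i))))))))))))))))))
theorem act13_eq (i : Nat) : act13 i = Tab.act T D chk13 i := rfl
theorem c13_0 : allRange (fun i => Nat.beq (act13 i) i) 0 3000 = true := by decide +kernel
theorem c13_1 : allRange (fun i => Nat.beq (act13 i) i) 3000 3000 = true := by decide +kernel
theorem c13_2 : allRange (fun i => Nat.beq (act13 i) i) 6000 3000 = true := by decide +kernel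
theorem c13_3 : allRange (fun i => Nat.beq (act13 i) i) 9000 3000 = true := by decide +kernel
theorem c13_4 : allRange (fun i => Nat.beq (act13 i) i) 12000 3000 = true := by decide +kernel
theorem c13_5 : allRange (fun i => Nat.beq (act13 i) i) 15000 3000 = true := by decide +kernel
theorem c13_6 : allRange (fun i => Nat.beq (act13 i) i) 18000 3000 = true := by decide +kernel
theorem c13_7 : allRange (fun i => Nat.beq (act13 i) i) 21000 3000 = true := by decide +kernel
theorem c13_8 : allRange (fun i => Nat.beq (act13 i) i) 24000 3000 = true := by decide +kernel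
theorem c13_9 : allRange (fun i => Nat.beq (act13 i) i) 27000 3000 = true := by decide +kernel
theorem c13_10 : allRange (fun i => Nat.beq (act13 i) i) 30000 3000 = true := by decide +kernel
theorem c13_11 : allRange (fun i => Nat.beq (act13 i) i) 33000 3000 = true := by decide +kernel
theorem c13_12 : allRange (fun i => Nat.beq (act13 i) i) 36000 3000 = true := by decide +kernel
theorem c13_13 : allRange (fun i => Nat.beq (act13 i) i) 39000 3000 = true := by decide +kernel
theorem c13_14 : allRange (fun i => Nat.beq (act13 i) i) 42000 3000 = true := by decide +kernel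
theorem c13_15 : allRange (fun i => Nat.beq (act13 i) i) 45000 3000 = true := by decide +kernel
theorem c13_16 : allRange (fun i => Nat.beq (act13 i) i) 48000 600 = true := by decide +kernel
theorem h13 : ∀ i, i < T.N → Tab.relActOK T D chk13 i = true := by
  intro i hi
  rw [Tab.relActOK, ← act13_eq]
  exact (range_glue (range_of_allRange c13_0) (range_glue (range_of_allRange c13_1) (range_glue (range_of_allRange c13_2) (range_glue (range_of_allRange c13_3) (range_glue (range_of_allRange c13_4) (range_glue (range_of_allRange c13_5) (range_glue (range_of_allRange c13_6) (range_glue (range_of_allRange c13_7) (range_glue (range_of_allRange c13_8) (range_glue (range_of_allRange c13_9) (range_glue (range_of_allRange c13_10) (range_glue (range_of_allRange c13_11) (range_glue (range_of_allRange c13_12) (range_glue (range_of_allRange c13_13) (range_glue (range_of_allRange c13_14) (range_glue (range_of_allRange c13_15) (range_of_allRange c13_16))))))))))))))))) i (Nat.zero_le _) hi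

def chk14 : List Nat := [0, 2, 0, 2, 0, 3, 0, 2, 0, 2, 2, 0, 3, 0, 2, 0, 3, 0, 3]
noncomputable def act14 (i : Nat) : Nat := col1 (col3 (col1 (col3 (col1 (col2 (col1 (col3 (col1 (col3 (col3 (col1 (col2 (col1 (col3 (col1 (col2 (col1 (col2 (i)))))))))))))))))))
theorem act14_eq (i : Nat) : act14 i = Tab.act T D chk14 i := rfl
theorem c14_0 : allRange (fun i => Nat.beq (act14 i) i) 0 2857 = true := by decide +kernel
theorem c14_1 : allRange (fun i => Nat.beq (act14 i) i) 2857 2857 = true := by decide +kernel
theorem c14_2 : allRange (fun i => Nat.beq (act14 i) i) 5714 2857 = true := by decide +kernel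
theorem c14_3 : allRange (fun i => Nat.beq (act14 i) i) 8571 2857 = true := by decide +kernel
theorem c14_4 : allRange (fun i => Nat.beq (act14 i) i) 11428 2857 = true := by decide +kernel
theorem c14_5 : allRange (fun i => Nat.beq (act14 i) i) 14285 2857 = true := by decide +kernel
theorem c14_6 : allRange (fun i => Nat.beq (act14 i) i) 17142 2857 = true := by decide +kernel
theorem c14_7 : allRange (fun i => Nat.beq (act14 i) i) 19999 2857 = true := by decide +kernel
theorem c14_8 : allRange (fun i => Nat.beq (act14 i) i) 22856 2857 = true := by decide +kernel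
theorem c14_9 : allRange (fun i => Nat.beq (act14 i) i) 25713 2857 = true := by decide +kernel
theorem c14_10 : allRange (fun i => Nat.beq (act14 i) i) 28570 2857 = true := by decide +kernel
theorem c14_11 : allRange (fun i => Nat.beq (act14 i) i) 31427 2857 = true := by decide +kernel
theorem c14_12 : allRange (fun i => Nat.beq (act14 i) i) 34284 2857 = true := by decide +kernel
theorem c14_13 : allRange (fun i => Nat.beq (act14 i) i) 37141 2857 = true := by decide +kernel
theorem c14_14 : allRange (fun i => Nat.beq (act14 i) i) 39998 2857 = true := by decide +kernel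
theorem c14_15 : allRange (fun i => Nat.beq (act14 i) i) 42855 2857 = true := by decide +kernel
theorem c14_16 : allRange (fun i => Nat.beq (act14 i) i) 45712 2857 = true := by decide +kernel
theorem c14_17 : allRange (fun i => Nat.beq (act14 i) i) 48569 31 = true := by decide +kernel
theorem h14 : ∀ i, i < T.N → Tab.relActOK T D chk14 i = true := by
  intro i hi
  rw [Tab.relActOK, ← act14_eq]
  exact (range_glue (range_of_allRange c14_0) (range_glue (range_of_allRange c14_1) (range_glue (range_of_allRange c14_2) (range_glue (range_of_allRange c14_3) (range_glue (range_of_allRange c14_4) (range_glue (range_of_allRange c14_5) (range_glue (range_of_allRange c14_6) (range_glue (range_of_allRange c14_7) (range_glue (range_of_allRange c14_8) (range_glue (range_of_allRange c14_9) (range_glue (range_of_allRange c14_10) (range_glue (range_of_allRange c14_11) (range_glue (range_of_allRange c14_12) (range_glue (range_of_allRange c14_13) (range_glue (range_of_allRange c14_14) (range_glue (range_of_allRange c14_15) (range_glue (range_of_allRange c14_16) (range_of_allRange c14_17)))))))))))))))))) i (Nat.zero_le _) hi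

def chk15 : List Nat := [4, 4, 4, 4, 4, 4, 4, 4, 4, 4, 4, 4, 4, 4, 4, 4, 4, 4, 4, 4, 4, 4, 4]
noncomputable def act15 (i : Nat) : Nat := col5 (col5 (col5 (col5 (col5 (col5 (col5 (col5 (col5 (col5 (col5 (col5 (col5 (col5 (col5 (col5 (col5 (col5 (col5 (col5 (col5 (col5 (col5 (i)))))))))))))))))))))))
theorem act15_eq (i : Nat) : act15 i = Tab.act T D chk15 i := rfl
theorem c15_0 : allRange (fun i => Nat.beq (act15 i) i) 0 2400 = true := by decide +kernel
theorem c15_1 : allRange (fun i => Nat.beq (act15 i) i) 2400 2400 = true := by decide +kernel
theorem c15_2 : allRange (fun i => Nat.beq (act15 i) i) 4800 2400 = true := by decide +kernel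
theorem c15_3 : allRange (fun i => Nat.beq (act15 i) i) 7200 2400 = true := by decide +kernel
theorem c15_4 : allRange (fun i => Nat.beq (act15 i) i) 9600 2400 = true := by decide +kernel
theorem c15_5 : allRange (fun i => Nat.beq (act15 i) i) 12000 2400 = true := by decide +kernel
theorem c15_6 : allRange (fun i => Nat.beq (act15 i) i) 14400 2400 = true := by decide +kernel
theorem c15_7 : allRange (fun i => Nat.beq (act15 i) i) 16800 2400 = true := by decide +kernel
theorem c15_8 : allRange (fun i => Nat.beq (act15 i) i) 19200 2400 = true := by decide +kernel
theorem c15_9 : allRange (fun i => Nat.beq (act15 i) i) 21600 2400 = true := by decide +kernel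
theorem c15_10 : allRange (fun i => Nat.beq (act15 i) i) 24000 2400 = true := by decide +kernel
theorem c15_11 : allRange (fun i => Nat.beq (act15 i) i) 26400 2400 = true := by decide +kernel
theorem c15_12 : allRange (fun i => Nat.beq (act15 i) i) 28800 2400 = true := by decide +kernel
theorem c15_13 : allRange (fun i => Nat.beq (act15 i) i) 31200 2400 = true := by decide +kernel
theorem c15_14 : allRange (fun i => Nat.beq (act15 i) i) 33600 2400 = true := by decide +kernel
theorem c15_15 : allRange (fun i => Nat.beq (act15 i) i) 36000 2400 = true := by decide +kernel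
theorem c15_16 : allRange (fun i => Nat.beq (act15 i) i) 38400 2400 = true := by decide +kernel
theorem c15_17 : allRange (fun i => Nat.beq (act15 i) i) 40800 2400 = true := by decide +kernel
theorem c15_18 : allRange (fun i => Nat.beq (act15 i) i) 43200 2400 = true := by decide +kernel
theorem c15_19 : allRange (fun i => Nat.beq (act15 i) i) 45600 2400 = true := by decide +kernel
theorem c15_20 : allRange (fun i => Nat.beq (act15 i) i) 48000 600 = true := by decide +kernel
theorem h15 : ∀ i, i < T.N → Tab.relActOK T D chk15 i = true := by
  intro i hi
  rw [Tab.relActOK, ← act15_eq]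
  exact (range_glue (range_of_allRange c15_0) (range_glue (range_of_allRange c15_1) (range_glue (range_of_allRange c15_2) (range_glue (range_of_allRange c15_3) (range_glue (range_of_allRange c15_4) (range_glue (range_of_allRange c15_5) (range_glue (range_of_allRange c15_6) (range_glue (range_of_allRange c15_7) (range_glue (range_of_allRange c15_8) (range_glue (range_of_allRange c15_9) (range_glue (range_of_allRange c15_10) (range_glue (range_of_allRange c15_11) (range_glue (range_of_allRange c15_12) (range_glue (range_of_allRange c15_13) (range_glue (range_of_allRange c15_14) (range_glue (range_of_allRange c15_15) (range_glue (range_of_allRange c15_16) (range_glue (range_of_allRange c15_17) (range_glue (range_of_allRange c15_18) (range_glue (range_of_allRange c15_19) (range_of_allRange c15_20))))))))))))))))))))) i (Nat.zero_le _) hi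

def chk16 : List Nat := [0, 2, 4, 3, 1, 5, 5]
noncomputable def act16 (i : Nat) : Nat := col1 (col3 (col5 (col2 (col0 (col4 (col4 (i)))))))
theorem act16_eq (i : Nat) : act16 i = Tab.act T D chk16 i := rfl
theorem c16_0 : allRange (fun i => Nat.beq (act16 i) i) 0 6666 = true := by decide +kernel
theorem c16_1 : allRange (fun i => Nat.beq (act16 i) i) 6666 6666 = true := by decide +kernel
theorem c16_2 : allRange (fun i => Nat.beq (act16 i) i) 13332 6666 = true := by decide +kernel
theorem c16_3 : allRange (fun i => Nat.beq (act16 i) i) 19998 6666 = true := by decide +kernel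
theorem c16_4 : allRange (fun i => Nat.beq (act16 i) i) 26664 6666 = true := by decide +kernel
theorem c16_5 : allRange (fun i => Nat.beq (act16 i) i) 33330 6666 = true := by decide +kernel
theorem c16_6 : allRange (fun i => Nat.beq (act16 i) i) 39996 6666 = true := by decide +kernel
theorem c16_7 : allRange (fun i => Nat.beq (act16 i) i) 46662 1938 = true := by decide +kernel
theorem h16 : ∀ i, i < T.N → Tab.relActOK T D chk16 i = true := by
  intro i hi
  rw [Tab.relActOK, ← act16_eq]
  exact (range_glue (range_of_allRange c16_0) (range_glue (range_of_allRange c16_1) (range_glue (range_of_allRange c16_2) (range_glue (range_of_allRange c16_3) (range_glue (range_of_allRange c16_4) (range_glue (range_of_allRange c16_5) (range_glue (range_of_allRange c16_6) (range_of_allRange c16_7)))))))) i (Nat.zero_le _) hi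

def chk17 : List Nat := [0, 4, 0, 4, 3, 4, 0, 4, 4, 3, 5, 5]
noncomputable def act17 (i : Nat) : Nat := col1 (col5 (col1 (col5 (col2 (col5 (col1 (col5 (col5 (col2 (col4 (col4 (i))))))))))))
theorem act17_eq (i : Nat) : act17 i = Tab.act T D chk17 i := rfl
theorem c17_0 : allRange (fun i => Nat.beq (act17 i) i) 0 4285 = true := by decide +kernel
theorem c17_1 : allRange (fun i => Nat.beq (act17 i) i) 4285 4285 = true := by decide +kernel
theorem c17_2 : allRange (fun i => Nat.beq (act17 i) i) 8570 4285 = true := by decide +kernel
theorem c17_3 : allRange (fun i => Nat.beq (act17 i) i) 12855 4285 = true := by decide +kernel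
theorem c17_4 : allRange (fun i => Nat.beq (act17 i) i) 17140 4285 = true := by decide +kernel
theorem c17_5 : allRange (fun i => Nat.beq (act17 i) i) 21425 4285 = true := by decide +kernel
theorem c17_6 : allRange (fun i => Nat.beq (act17 i) i) 25710 4285 = true := by decide +kernel
theorem c17_7 : allRange (fun i => Nat.beq (act17 i) i) 29995 4285 = true := by decide +kernel
theorem c17_8 : allRange (fun i => Nat.beq (act17 i) i) 34280 4285 = true := by decide +kernel
theorem c17_9 : allRange (fun i => Nat.beq (act17 i) i) 38565 4285 = true := by decide +kernel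
theorem c17_10 : allRange (fun i => Nat.beq (act17 i) i) 42850 4285 = true := by decide +kernel
theorem c17_11 : allRange (fun i => Nat.beq (act17 i) i) 47135 1465 = true := by decide +kernel
theorem h17 : ∀ i, i < T.N → Tab.relActOK T D chk17 i = true := by
  intro i hi
  rw [Tab.relActOK, ← act17_eq]
  exact (range_glue (range_of_allRange c17_0) (range_glue (range_of_allRange c17_1) (range_glue (range_of_allRange c17_2) (range_glue (range_of_allRange c17_3) (range_glue (range_of_allRange c17_4) (range_glue (range_of_allRange c17_5) (range_glue (range_of_allRange c17_6) (range_glue (range_of_allRange c17_7) (range_glue (range_of_allRange c17_8) (range_glue (range_of_allRange c17_9) (range_glue (range_of_allRange c17_10) (range_of_allRange c17_11)))))))))))) i (Nat.zero_le _) hi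

def chk18 : List Nat := [0, 4, 0, 5, 0, 4, 0, 5, 1, 4, 1, 5]
noncomputable def act18 (i : Nat) : Nat := col1 (col5 (col1 (col4 (col1 (col5 (col1 (col4 (col0 (col5 (col0 (col4 (i))))))))))))
theorem act18_eq (i : Nat) : act18 i = Tab.act T D chk18 i := rfl
theorem c18_0 : allRange (fun i => Nat.beq (act18 i) i) 0 4285 = true := by decide +kernel
theorem c18_1 : allRange (fun i => Nat.beq (act18 i) i) 4285 4285 = true := by decide +kernel
theorem c18_2 : allRange (fun i => Nat.beq (act18 i) i) 8570 4285 = true := by decide +kernel
theorem c18_3 : allRange (fun i => Nat.beq (act18 i) i) 12855 4285 = true := by decide +kernel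
theorem c18_4 : allRange (fun i => Nat.beq (act18 i) i) 17140 4285 = true := by decide +kernel
theorem c18_5 : allRange (fun i => Nat.beq (act18 i) i) 21425 4285 = true := by decide +kernel
theorem c18_6 : allRange (fun i => Nat.beq (act18 i) i) 25710 4285 = true := by decide +kernel
theorem c18_7 : allRange (fun i => Nat.beq (act18 i) i) 29995 4285 = true := by decide +kernel
theorem c18_8 : allRange (fun i => Nat.beq (act18 i) i) 34280 4285 = true := by decide +kernel
theorem c18_9 : allRange (fun i => Nat.beq (act18 i) i) 38565 4285 = true := by decide +kernel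
theorem c18_10 : allRange (fun i => Nat.beq (act18 i) i) 42850 4285 = true := by decide +kernel
theorem c18_11 : allRange (fun i => Nat.beq (act18 i) i) 47135 1465 = true := by decide +kernel
theorem h18 : ∀ i, i < T.N → Tab.relActOK T D chk18 i = true := by
  intro i hi
  rw [Tab.relActOK, ← act18_eq]
  exact (range_glue (range_of_allRange c18_0) (range_glue (range_of_allRange c18_1) (range_glue (range_of_allRange c18_2) (range_glue (range_of_allRange c18_3) (range_glue (range_of_allRange c18_4) (range_glue (range_of_allRange c18_5) (range_glue (range_of_allRange c18_6) (range_glue (range_of_allRange c18_7) (range_glue (range_of_allRange c18_8) (range_glue (range_of_allRange c18_9) (range_glue (range_of_allRange c18_10) (range_of_allRange c18_11)))))))))))) i (Nat.zero_le _) hi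

def chk19 : List Nat := [0, 2, 0, 4, 4, 2, 0, 4, 4, 2, 5, 3, 5, 2, 2]
noncomputable def act19 (i : Nat) : Nat := col1 (col3 (col1 (col5 (col5 (col3 (col1 (col5 (col5 (col3 (col4 (col2 (col4 (col3 (col3 (i)))))))))))))))
theorem act19_eq (i : Nat) : act19 i = Tab.act T D chk19 i := rfl
theorem c19_0 : allRange (fun i => Nat.beq (act19 i) i) 0 3529 = true := by decide +kernel
theorem c19_1 : allRange (fun i => Nat.beq (act19 i) i) 3529 3529 = true := by decide +kernel
theorem c19_2 : allRange (fun i => Nat.beq (act19 i) i) 7058 3529 = true := by decide +kernel
theorem c19_3 : allRange (fun i => Nat.beq (act19 i) i) 10587 3529 = true := by decide +kernel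
theorem c19_4 : allRange (fun i => Nat.beq (act19 i) i) 14116 3529 = true := by decide +kernel
theorem c19_5 : allRange (fun i => Nat.beq (act19 i) i) 17645 3529 = true := by decide +kernel
theorem c19_6 : allRange (fun i => Nat.beq (act19 i) i) 21174 3529 = true := by decide +kernel
theorem c19_7 : allRange (fun i => Nat.beq (act19 i) i) 24703 3529 = true := by decide +kernel
theorem c19_8 : allRange (fun i => Nat.beq (act19 i) i) 28232 3529 = true := by decide +kernel
theorem c19_9 : allRange (fun i => Nat.beq (act19 i) i) 31761 3529 = true := by decide +kernel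
theorem c19_10 : allRange (fun i => Nat.beq (act19 i) i) 35290 3529 = true := by decide +kernel
theorem c19_11 : allRange (fun i => Nat.beq (act19 i) i) 38819 3529 = true := by decide +kernel
theorem c19_12 : allRange (fun i => Nat.beq (act19 i) i) 42348 3529 = true := by decide +kernel
theorem c19_13 : allRange (fun i => Nat.beq (act19 i) i) 45877 2723 = true := by decide +kernel
theorem h19 : ∀ i, i < T.N → Tab.relActOK T D chk19 i = true := by
  intro i hi
  rw [Tab.relActOK, ← act19_eq]
  exact (range_glue (range_of_allRange c19_0) (range_glue (range_of_allRange c19_1) (range_glue (range_of_allRange c19_2) (range_glue (range_of_allRange c19_3) (range_glue (range_of_allRange c19_4) (range_glue (range_of_allRange c19_5) (range_glue (range_of_allRange c19_6) (range_glue (range_of_allRange c19_7) (range_glue (range_of_allRange c19_8) (range_glue (range_of_allRange c19_9) (range_glue (range_of_allRange c19_10) (range_glue (range_of_allRange c19_11) (range_glue (range_of_allRange c19_12) (range_of_allRange c19_13)))))))))))))) i (Nat.zero_le _) hi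

def chk20 : List Nat := [0, 2, 5, 0, 4, 2, 5, 5, 1, 5, 1, 4, 2, 2, 5]
noncomputable def act20 (i : Nat) : Nat := col1 (col3 (col4 (col1 (col5 (col3 (col4 (col4 (col0 (col4 (col0 (col5 (col3 (col3 (col4 (i)))))))))))))))
theorem act20_eq (i : Nat) : act20 i = Tab.act T D chk20 i := rfl
theorem c20_0 : allRange (fun i => Nat.beq (act20 i) i) 0 3529 = true := by decide +kernel
theorem c20_1 : allRange (fun i => Nat.beq (act20 i) i) 3529 3529 = true := by decide +kernel
theorem c20_2 : allRange (fun i => Nat.beq (act20 i) i) 7058 3529 = true := by decide +kernel
theorem c20_3 : allRange (fun i => Nat.beq (act20 i) i) 10587 3529 = true := by decide +kernel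
theorem c20_4 : allRange (fun i => Nat.beq (act20 i) i) 14116 3529 = true := by decide +kernel
theorem c20_5 : allRange (fun i => Nat.beq (act20 i) i) 17645 3529 = true := by decide +kernel
theorem c20_6 : allRange (fun i => Nat.beq (act20 i) i) 21174 3529 = true := by decide +kernel
theorem c20_7 : allRange (fun i => Nat.beq (act20 i) i) 24703 3529 = true := by decide +kernel
theorem c20_8 : allRange (fun i => Nat.beq (act20 i) i) 28232 3529 = true := by decide +kernel
theorem c20_9 : allRange (fun i => Nat.beq (act20 i) i) 31761 3529 = true := by decide +kernel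
theorem c20_10 : allRange (fun i => Nat.beq (act20 i) i) 35290 3529 = true := by decide +kernel
theorem c20_11 : allRange (fun i => Nat.beq (act20 i) i) 38819 3529 = true := by decide +kernel
theorem c20_12 : allRange (fun i => Nat.beq (act20 i) i) 42348 3529 = true := by decide +kernel
theorem c20_13 : allRange (fun i => Nat.beq (act20 i) i) 45877 2723 = true := by decide +kernel
theorem h20 : ∀ i, i < T.N → Tab.relActOK T D chk20 i = true := by
  intro i hi
  rw [Tab.relActOK, ← act20_eq]
  exact (range_glue (range_of_allRange c20_0) (range_glue (range_of_allRange c20_1) (range_glue (range_of_allRange c20_2) (range_glue (range_of_allRange c20_3) (range_glue (range_of_allRange c20_4) (range_glue (range_of_allRange c20_5) (range_glue (range_of_allRange c20_6) (range_glue (range_of_allRange c20_7) (range_glue (range_of_allRange c20_8) (range_glue (range_of_allRange c20_9) (range_glue (range_of_allRange c20_10) (range_glue (range_of_allRange c20_11) (range_glue (range_of_allRange c20_12) (range_of_allRange c20_13)))))))))))))) i (Nat.zero_le _) hi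

def chk21 : List Nat := [0, 3, 5, 1, 4, 3, 4, 3, 3, 5, 0, 4, 3, 4, 3]
noncomputable def act21 (i : Nat) : Nat := col1 (col2 (col4 (col0 (col5 (col2 (col5 (col2 (col2 (col4 (col1 (col5 (col2 (col5 (col2 (i)))))))))))))))
theorem act21_eq (i : Nat) : act21 i = Tab.act T D chk21 i := rfl
theorem c21_0 : allRange (fun i => Nat.beq (act21 i) i) 0 3529 = true := by decide +kernel
theorem c21_1 : allRange (fun i => Nat.beq (act21 i) i) 3529 3529 = true := by decide +kernel
theorem c21_2 : allRange (fun i => Nat.beq (act21 i) i) 7058 3529 = true := by decide +kernel
theorem c21_3 : allRange (fun i => Nat.beq (act21 i) i) 10587 3529 = true := by decide +kernel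
theorem c21_4 : allRange (fun i => Nat.beq (act21 i) i) 14116 3529 = true := by decide +kernel
theorem c21_5 : allRange (fun i => Nat.beq (act21 i) i) 17645 3529 = true := by decide +kernel
theorem c21_6 : allRange (fun i => Nat.beq (act21 i) i) 21174 3529 = true := by decide +kernel
theorem c21_7 : allRange (fun i => Nat.beq (act21 i) i) 24703 3529 = true := by decide +kernel
theorem c21_8 : allRange (fun i => Nat.beq (act21 i) i) 28232 3529 = true := by decide +kernel
theorem c21_9 : allRange (fun i => Nat.beq (act21 i) i) 31761 3529 = true := by decide +kernel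
theorem c21_10 : allRange (fun i => Nat.beq (act21 i) i) 35290 3529 = true := by decide +kernel
theorem c21_11 : allRange (fun i => Nat.beq (act21 i) i) 38819 3529 = true := by decide +kernel
theorem c21_12 : allRange (fun i => Nat.beq (act21 i) i) 42348 3529 = true := by decide +kernel
theorem c21_13 : allRange (fun i => Nat.beq (act21 i) i) 45877 2723 = true := by decide +kernel
theorem h21 : ∀ i, i < T.N → Tab.relActOK T D chk21 i = true := by
  intro i hi
  rw [Tab.relActOK, ← act21_eq]
  exact (range_glue (range_of_allRange c21_0) (range_glue (range_of_allRange c21_1) (range_glue (range_of_allRange c21_2) (range_glue (range_of_allRange c21_3) (range_glue (range_of_allRange c21_4) (range_glue (range_of_allRange c21_5) (range_glue (range_of_allRange c21_6) (range_glue (range_of_allRange c21_7) (range_glue (range_of_allRange c21_8) (range_glue (range_of_allRange c21_9) (range_glue (range_of_allRange c21_10) (range_glue (range_of_allRange c21_11) (range_glue (range_of_allRange c21_12) (range_of_allRange c21_13)))))))))))))) i (Nat.zero_le _) hi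

def chk22 : List Nat := [6, 4, 0, 4, 3, 4, 4, 4, 2, 4, 3, 7, 5, 3, 3, 4, 3, 4, 2, 1, 3, 3]
noncomputable def act22 (i : Nat) : Nat := col7 (col5 (col1 (col5 (col2 (col5 (col5 (col5 (col3 (col5 (col2 (col6 (col4 (col2 (col2 (col5 (col2 (col5 (col3 (col0 (col2 (col2 (i))))))))))))))))))))))
theorem act22_eq (i : Nat) : act22 i = Tab.act T D chk22 i := rfl
theorem c22_0 : allRange (fun i => Nat.beq (act22 i) i) 0 2500 = true := by decide +kernel
theorem c22_1 : allRange (fun i => Nat.beq (act22 i) i) 2500 2500 = true := by decide +kernel
theorem c22_2 : allRange (fun i => Nat.beq (act22 i) i) 5000 2500 = true := by decide +kernel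
theorem c22_3 : allRange (fun i => Nat.beq (act22 i) i) 7500 2500 = true := by decide +kernel
theorem c22_4 : allRange (fun i => Nat.beq (act22 i) i) 10000 2500 = true := by decide +kernel
theorem c22_5 : allRange (fun i => Nat.beq (act22 i) i) 12500 2500 = true := by decide +kernel
theorem c22_6 : allRange (fun i => Nat.beq (act22 i) i) 15000 2500 = true := by decide +kernel
theorem c22_7 : allRange (fun i => Nat.beq (act22 i) i) 17500 2500 = true := by decide +kernel
theorem c22_8 : allRange (fun i => Nat.beq (act22 i) i) 20000 2500 = true := by decide +kernel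
theorem c22_9 : allRange (fun i => Nat.beq (act22 i) i) 22500 2500 = true := by decide +kernel
theorem c22_10 : allRange (fun i => Nat.beq (act22 i) i) 25000 2500 = true := by decide +kernel
theorem c22_11 : allRange (fun i => Nat.beq (act22 i) i) 27500 2500 = true := by decide +kernel
theorem c22_12 : allRange (fun i => Nat.beq (act22 i) i) 30000 2500 = true := by decide +kernel
theorem c22_13 : allRange (fun i => Nat.beq (act22 i) i) 32500 2500 = true := by decide +kernel
theorem c22_14 : allRange (fun i => Nat.beq (act22 i) i) 35000 2500 = true := by decide +kernel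
theorem c22_15 : allRange (fun i => Nat.beq (act22 i) i) 37500 2500 = true := by decide +kernel
theorem c22_16 : allRange (fun i => Nat.beq (act22 i) i) 40000 2500 = true := by decide +kernel
theorem c22_17 : allRange (fun i => Nat.beq (act22 i) i) 42500 2500 = true := by decide +kernel
theorem c22_18 : allRange (fun i => Nat.beq (act22 i) i) 45000 2500 = true := by decide +kernel
theorem c22_19 : allRange (fun i => Nat.beq (act22 i) i) 47500 1100 = true := by decide +kernel
theorem h22 : ∀ i, i < T.N → Tab.relActOK T D chk22 i = true := by
  intro i hi
  rw [Tab.relActOK, ← act22_eq]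
  exact (range_glue (range_of_allRange c22_0) (range_glue (range_of_allRange c22_1) (range_glue (range_of_allRange c22_2) (range_glue (range_of_allRange c22_3) (range_glue (range_of_allRange c22_4) (range_glue (range_of_allRange c22_5) (range_glue (range_of_allRange c22_6) (range_glue (range_of_allRange c22_7) (range_glue (range_of_allRange c22_8) (range_glue (range_of_allRange c22_9) (range_glue (range_of_allRange c22_10) (range_glue (range_of_allRange c22_11) (range_glue (range_of_allRange c22_12) (range_glue (range_of_allRange c22_13) (range_glue (range_of_allRange c22_14) (range_glue (range_of_allRange c22_15) (range_glue (range_of_allRange c22_16) (range_glue (range_of_allRange c22_17) (range_glue (range_of_allRange c22_18) (range_of_allRange c22_19)))))))))))))))))))) i (Nat.zero_le _) hi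

def chk23 : List Nat := [4, 0, 4, 3, 4, 4, 4, 2, 4, 3, 4, 0, 4, 3, 4, 4, 4, 2, 4, 3, 4, 0, 4, 3, 4, 4, 4, 2, 4, 3]
noncomputable def act23 (i : Nat) : Nat := col5 (col1 (col5 (col2 (col5 (col5 (col5 (col3 (col5 (col2 (col5 (col1 (col5 (col2 (col5 (col5 (col5 (col3 (col5 (col2 (col5 (col1 (col5 (col2 (col5 (col5 (col5 (col3 (col5 (col2 (i))))))))))))))))))))))))))))))
theorem act23_eq (i : Nat) : act23 i = Tab.act T D chk23 i := rfl
theorem c23_0 : allRange (fun i => Nat.beq (act23 i) i) 0 1875 = true := by decide +kernel
theorem c23_1 : allRange (fun i => Nat.beq (act23 i) i) 1875 1875 = true := by decide +kernel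
theorem c23_2 : allRange (fun i => Nat.beq (act23 i) i) 3750 1875 = true := by decide +kernel
theorem c23_3 : allRange (fun i => Nat.beq (act23 i) i) 5625 1875 = true := by decide +kernel
theorem c23_4 : allRange (fun i => Nat.beq (act23 i) i) 7500 1875 = true := by decide +kernel
theorem c23_5 : allRange (fun i => Nat.beq (act23 i) i) 9375 1875 = true := by decide +kernel
theorem c23_6 : allRange (fun i => Nat.beq (act23 i) i) 11250 1875 = true := by decide +kernel
theorem c23_7 : allRange (fun i => Nat.beq (act23 i) i) 13125 1875 = true := by decide +kernel
theorem c23_8 : allRange (fun i => Nat.beq (act23 i) i) 15000 1875 = true := by decide +kernel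
theorem c23_9 : allRange (fun i => Nat.beq (act23 i) i) 16875 1875 = true := by decide +kernel
theorem c23_10 : allRange (fun i => Nat.beq (act23 i) i) 18750 1875 = true := by decide +kernel
theorem c23_11 : allRange (fun i => Nat.beq (act23 i) i) 20625 1875 = true := by decide +kernel
theorem c23_12 : allRange (fun i => Nat.beq (act23 i) i) 22500 1875 = true := by decide +kernel
theorem c23_13 : allRange (fun i => Nat.beq (act23 i) i) 24375 1875 = true := by decide +kernel
theorem c23_14 : allRange (fun i => Nat.beq (act23 i) i) 26250 1875 = true := by decide +kernel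
theorem c23_15 : allRange (fun i => Nat.beq (act23 i) i) 28125 1875 = true := by decide +kernel
theorem c23_16 : allRange (fun i => Nat.beq (act23 i) i) 30000 1875 = true := by decide +kernel
theorem c23_17 : allRange (fun i => Nat.beq (act23 i) i) 31875 1875 = true := by decide +kernel
theorem c23_18 : allRange (fun i => Nat.beq (act23 i) i) 33750 1875 = true := by decide +kernel
theorem c23_19 : allRange (fun i => Nat.beq (act23 i) i) 35625 1875 = true := by decide +kernel
theorem c23_20 : allRange (fun i => Nat.beq (act23 i) i) 37500 1875 = true := by decide +kernel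
theorem c23_21 : allRange (fun i => Nat.beq (act23 i) i) 39375 1875 = true := by decide +kernel
theorem c23_22 : allRange (fun i => Nat.beq (act23 i) i) 41250 1875 = true := by decide +kernel
theorem c23_23 : allRange (fun i => Nat.beq (act23 i) i) 43125 1875 = true := by decide +kernel
theorem c23_24 : allRange (fun i => Nat.beq (act23 i) i) 45000 1875 = true := by decide +kernel
theorem c23_25 : allRange (fun i => Nat.beq (act23 i) i) 46875 1725 = true := by decide +kernel
theorem h23 : ∀ i, i < T.N → Tab.relActOK T D chk23 i = true := by
  intro i hi
  rw [Tab.relActOK, ← act23_eq]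
  exact (range_glue (range_of_allRange c23_0) (range_glue (range_of_allRange c23_1) (range_glue (range_of_allRange c23_2) (range_glue (range_of_allRange c23_3) (range_glue (range_of_allRange c23_4) (range_glue (range_of_allRange c23_5) (range_glue (range_of_allRange c23_6) (range_glue (range_of_allRange c23_7) (range_glue (range_of_allRange c23_8) (range_glue (range_of_allRange c23_9) (range_glue (range_of_allRange c23_10) (range_glue (range_of_allRange c23_11) (range_glue (range_of_allRange c23_12) (range_glue (range_of_allRange c23_13) (range_glue (range_of_allRange c23_14) (range_glue (range_of_allRange c23_15) (range_glue (range_of_allRange c23_16) (range_glue (range_of_allRange c23_17) (range_glue (range_of_allRange c23_18) (range_glue (range_of_allRange c23_19) (range_glue (range_of_allRange c23_20) (range_glue (range_of_allRange c23_21) (range_glue (range_of_allRange c23_22) (range_glue (range_of_allRange c23_23) (range_glue (range_of_allRange c23_24) (range_of_allRange c23_25)))))))))))))))))))))))))) i (Nat.zero_le _) hi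

def chk24 : List Nat := [2, 2, 0, 3, 5, 2, 5, 2, 2, 4, 2, 2, 0, 3, 5, 2, 5, 2, 2, 4, 2, 2, 0, 3, 5, 2, 5, 2, 2, 4]
noncomputable def act24 (i : Nat) : Nat := col3 (col3 (col1 (col2 (col4 (col3 (col4 (col3 (col3 (col5 (col3 (col3 (col1 (col2 (col4 (col3 (col4 (col3 (col3 (col5 (col3 (col3 (col1 (col2 (col4 (col3 (col4 (col3 (col3 (col5 (i))))))))))))))))))))))))))))))
theorem act24_eq (i : Nat) : act24 i = Tab.act T D chk24 i := rfl
theorem c24_0 : allRange (fun i => Nat.beq (act24 i) i) 0 1875 = true := by decide +kernel
theorem c24_1 : allRange (fun i => Nat.beq (act24 i) i) 1875 1875 = true := by decide +kernel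
theorem c24_2 : allRange (fun i => Nat.beq (act24 i) i) 3750 1875 = true := by decide +kernel
theorem c24_3 : allRange (fun i => Nat.beq (act24 i) i) 5625 1875 = true := by decide +kernel
theorem c24_4 : allRange (fun i => Nat.beq (act24 i) i) 7500 1875 = true := by decide +kernel
theorem c24_5 : allRange (fun i => Nat.beq (act24 i) i) 9375 1875 = true := by decide +kernel
theorem c24_6 : allRange (fun i => Nat.beq (act24 i) i) 11250 1875 = true := by decide +kernel
theorem c24_7 : allRange (fun i => Nat.beq (act24 i) i) 13125 1875 = true := by decide +kernel
theorem c24_8 : allRange (fun i => Nat.beq (act24 i) i) 15000 1875 = true := by decide +kernel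
theorem c24_9 : allRange (fun i => Nat.beq (act24 i) i) 16875 1875 = true := by decide +kernel
theorem c24_10 : allRange (fun i => Nat.beq (act24 i) i) 18750 1875 = true := by decide +kernel
theorem c24_11 : allRange (fun i => Nat.beq (act24 i) i) 20625 1875 = true := by decide +kernel
theorem c24_12 : allRange (fun i => Nat.beq (act24 i) i) 22500 1875 = true := by decide +kernel
theorem c24_13 : allRange (fun i => Nat.beq (act24 i) i) 24375 1875 = true := by decide +kernel
theorem c24_14 : allRange (fun i => Nat.beq (act24 i) i) 26250 1875 = true := by decide +kernel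
theorem c24_15 : allRange (fun i => Nat.beq (act24 i) i) 28125 1875 = true := by decide +kernel
theorem c24_16 : allRange (fun i => Nat.beq (act24 i) i) 30000 1875 = true := by decide +kernel
theorem c24_17 : allRange (fun i => Nat.beq (act24 i) i) 31875 1875 = true := by decide +kernel
theorem c24_18 : allRange (fun i => Nat.beq (act24 i) i) 33750 1875 = true := by decide +kernel
theorem c24_19 : allRange (fun i => Nat.beq (act24 i) i) 35625 1875 = true := by decide +kernel
theorem c24_20 : allRange (fun i => Nat.beq (act24 i) i) 37500 1875 = true := by decide +kernel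
theorem c24_21 : allRange (fun i => Nat.beq (act24 i) i) 39375 1875 = true := by decide +kernel
theorem c24_22 : allRange (fun i => Nat.beq (act24 i) i) 41250 1875 = true := by decide +kernel
theorem c24_23 : allRange (fun i => Nat.beq (act24 i) i) 43125 1875 = true := by decide +kernel
theorem c24_24 : allRange (fun i => Nat.beq (act24 i) i) 45000 1875 = true := by decide +kernel
theorem c24_25 : allRange (fun i => Nat.beq (act24 i) i) 46875 1725 = true := by decide +kernel
theorem h24 : ∀ i, i < T.N → Tab.relActOK T D chk24 i = true := by
  intro i hi
  rw [Tab.relActOK, ← act24_eq]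
  exact (range_glue (range_of_allRange c24_0) (range_glue (range_of_allRange c24_1) (range_glue (range_of_allRange c24_2) (range_glue (range_of_allRange c24_3) (range_glue (range_of_allRange c24_4) (range_glue (range_of_allRange c24_5) (range_glue (range_of_allRange c24_6) (range_glue (range_of_allRange c24_7) (range_glue (range_of_allRange c24_8) (range_glue (range_of_allRange c24_9) (range_glue (range_of_allRange c24_10) (range_glue (range_of_allRange c24_11) (range_glue (range_of_allRange c24_12) (range_glue (range_of_allRange c24_13) (range_glue (range_of_allRange c24_14) (range_glue (range_of_allRange c24_15) (range_glue (range_of_allRange c24_16) (range_glue (range_of_allRange c24_17) (range_glue (range_of_allRange c24_18) (range_glue (range_of_allRange c24_19) (range_glue (range_of_allRange c24_20) (range_glue (range_of_allRange c24_21) (range_glue (range_of_allRange c24_22) (range_glue (range_of_allRange c24_23) (range_glue (range_of_allRange c24_24) (range_of_allRange c24_25)))))))))))))))))))))))))) i (Nat.zero_le _) hi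

def chk25 : List Nat := [6, 5, 2, 2, 5, 5, 3, 5, 2, 5, 7, 4, 2, 4, 2, 4, 1, 3, 3, 1, 2, 1]
noncomputable def act25 (i : Nat) : Nat := col7 (col4 (col3 (col3 (col4 (col4 (col2 (col4 (col3 (col4 (col6 (col5 (col3 (col5 (col3 (col5 (col0 (col2 (col2 (col0 (col3 (col0 (i))))))))))))))))))))))
theorem act25_eq (i : Nat) : act25 i = Tab.act T D chk25 i := rfl
theorem c25_0 : allRange (fun i => Nat.beq (act25 i) i) 0 2500 = true := by decide +kernel
theorem c25_1 : allRange (fun i => Nat.beq (act25 i) i) 2500 2500 = true := by decide +kernel
theorem c25_2 : allRange (fun i => Nat.beq (act25 i) i) 5000 2500 = true := by decide +kernel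
theorem c25_3 : allRange (fun i => Nat.beq (act25 i) i) 7500 2500 = true := by decide +kernel
theorem c25_4 : allRange (fun i => Nat.beq (act25 i) i) 10000 2500 = true := by decide +kernel
theorem c25_5 : allRange (fun i => Nat.beq (act25 i) i) 12500 2500 = true := by decide +kernel
theorem c25_6 : allRange (fun i => Nat.beq (act25 i) i) 15000 2500 = true := by decide +kernel
theorem c25_7 : allRange (fun i => Nat.beq (act25 i) i) 17500 2500 = true := by decide +kernel
theorem c25_8 : allRange (fun i => Nat.beq (act25 i) i) 20000 2500 = true := by decide +kernel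
theorem c25_9 : allRange (fun i => Nat.beq (act25 i) i) 22500 2500 = true := by decide +kernel
theorem c25_10 : allRange (fun i => Nat.beq (act25 i) i) 25000 2500 = true := by decide +kernel
theorem c25_11 : allRange (fun i => Nat.beq (act25 i) i) 27500 2500 = true := by decide +kernel
theorem c25_12 : allRange (fun i => Nat.beq (act25 i) i) 30000 2500 = true := by decide +kernel
theorem c25_13 : allRange (fun i => Nat.beq (act25 i) i) 32500 2500 = true := by decide +kernel
theorem c25_14 : allRange (fun i => Nat.beq (act25 i) i) 35000 2500 = true := by decide +kernel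
theorem c25_15 : allRange (fun i => Nat.beq (act25 i) i) 37500 2500 = true := by decide +kernel
theorem c25_16 : allRange (fun i => Nat.beq (act25 i) i) 40000 2500 = true := by decide +kernel
theorem c25_17 : allRange (fun i => Nat.beq (act25 i) i) 42500 2500 = true := by decide +kernel
theorem c25_18 : allRange (fun i => Nat.beq (act25 i) i) 45000 2500 = true := by decide +kernel
theorem c25_19 : allRange (fun i => Nat.beq (act25 i) i) 47500 1100 = true := by decide +kernel
theorem h25 : ∀ i, i < T.N → Tab.relActOK T D chk25 i = true := by
  intro i hi
  rw [Tab.relActOK, ← act25_eq]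
  exact (range_glue (range_of_allRange c25_0) (range_glue (range_of_allRange c25_1) (range_glue (range_of_allRange c25_2) (range_glue (range_of_allRange c25_3) (range_glue (range_of_allRange c25_4) (range_glue (range_of_allRange c25_5) (range_glue (range_of_allRange c25_6) (range_glue (range_of_allRange c25_7) (range_glue (range_of_allRange c25_8) (range_glue (range_of_allRange c25_9) (range_glue (range_of_allRange c25_10) (range_glue (range_of_allRange c25_11) (range_glue (range_of_allRange c25_12) (range_glue (range_of_allRange c25_13) (range_glue (range_of_allRange c25_14) (range_glue (range_of_allRange c25_15) (range_glue (range_of_allRange c25_16) (range_glue (range_of_allRange c25_17) (range_glue (range_of_allRange c25_18) (range_of_allRange c25_19)))))))))))))))))))) i (Nat.zero_le _) hi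

def chk26 : List Nat := [5, 2, 2, 5, 5, 3, 5, 2, 5, 5, 2, 2, 5, 5, 3, 5, 2, 5, 5, 2, 2, 5, 5, 3, 5, 2, 5]
noncomputable def act26 (i : Nat) : Nat := col4 (col3 (col3 (col4 (col4 (col2 (col4 (col3 (col4 (col4 (col3 (col3 (col4 (col4 (col2 (col4 (col3 (col4 (col4 (col3 (col3 (col4 (col4 (col2 (col4 (col3 (col4 (i)))))))))))))))))))))))))))
theorem act26_eq (i : Nat) : act26 i = Tab.act T D chk26 i := rfl
theorem c26_0 : allRange (fun i => Nat.beq (act26 i) i) 0 2068 = true := by decide +kernel
theorem c26_1 : allRange (fun i => Nat.beq (act26 i) i) 2068 2068 = true := by decide +kernel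
theorem c26_2 : allRange (fun i => Nat.beq (act26 i) i) 4136 2068 = true := by decide +kernel
theorem c26_3 : allRange (fun i => Nat.beq (act26 i) i) 6204 2068 = true := by decide +kernel
theorem c26_4 : allRange (fun i => Nat.beq (act26 i) i) 8272 2068 = true := by decide +kernel
theorem c26_5 : allRange (fun i => Nat.beq (act26 i) i) 10340 2068 = true := by decide +kernel
theorem c26_6 : allRange (fun i => Nat.beq (act26 i) i) 12408 2068 = true := by decide +kernel
theorem c26_7 : allRange (fun i => Nat.beq (act26 i) i) 14476 2068 = true := by decide +kernel
theorem c26_8 : allRange (fun i => Nat.beq (act26 i) i) 16544 2068 = true := by decide +kernel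
theorem c26_9 : allRange (fun i => Nat.beq (act26 i) i) 18612 2068 = true := by decide +kernel
theorem c26_10 : allRange (fun i => Nat.beq (act26 i) i) 20680 2068 = true := by decide +kernel
theorem c26_11 : allRange (fun i => Nat.beq (act26 i) i) 22748 2068 = true := by decide +kernel
theorem c26_12 : allRange (fun i => Nat.beq (act26 i) i) 24816 2068 = true := by decide +kernel
theorem c26_13 : allRange (fun i => Nat.beq (act26 i) i) 26884 2068 = true := by decide +kernel
theorem c26_14 : allRange (fun i => Nat.beq (act26 i) i) 28952 2068 = true := by decide +kernel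
theorem c26_15 : allRange (fun i => Nat.beq (act26 i) i) 31020 2068 = true := by decide +kernel
theorem c26_16 : allRange (fun i => Nat.beq (act26 i) i) 33088 2068 = true := by decide +kernel
theorem c26_17 : allRange (fun i => Nat.beq (act26 i) i) 35156 2068 = true := by decide +kernel
theorem c26_18 : allRange (fun i => Nat.beq (act26 i) i) 37224 2068 = true := by decide +kernel
theorem c26_19 : allRange (fun i => Nat.beq (act26 i) i) 39292 2068 = true := by decide +kernel
theorem c26_20 : allRange (fun i => Nat.beq (act26 i) i) 41360 2068 = true := by decide +kernel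
theorem c26_21 : allRange (fun i => Nat.beq (act26 i) i) 43428 2068 = true := by decide +kernel
theorem c26_22 : allRange (fun i => Nat.beq (act26 i) i) 45496 2068 = true := by decide +kernel
theorem c26_23 : allRange (fun i => Nat.beq (act26 i) i) 47564 1036 = true := by decide +kernel
theorem h26 : ∀ i, i < T.N → Tab.relActOK T D chk26 i = true := by
  intro i hi
  rw [Tab.relActOK, ← act26_eq]
  exact (range_glue (range_of_allRange c26_0) (range_glue (range_of_allRange c26_1) (range_glue (range_of_allRange c26_2) (range_glue (range_of_allRange c26_3) (range_glue (range_of_allRange c26_4) (range_glue (range_of_allRange c26_5) (range_glue (range_of_allRange c26_6) (range_glue (range_of_allRange c26_7) (range_glue (range_of_allRange c26_8) (range_glue (range_of_allRange c26_9) (range_glue (range_of_allRange c26_10) (range_glue (range_of_allRange c26_11) (range_glue (range_of_allRange c26_12) (range_glue (range_of_allRange c26_13) (range_glue (range_of_allRange c26_14) (range_glue (range_of_allRange c26_15) (range_glue (range_of_allRange c26_16) (range_glue (range_of_allRange c26_17) (range_glue (range_of_allRange c26_18)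 (range_glue (range_of_allRange c26_19) (range_glue (range_of_allRange c26_20) (range_glue (range_of_allRange c26_21) (range_glue (range_of_allRange c26_22) (range_of_allRange c26_23)))))))))))))))))))))))) i (Nat.zero_le _) hi

def chk27 : List Nat := [0, 3, 0, 2, 2, 0, 5, 3, 5, 3, 5, 0, 3, 0, 2, 2, 0, 5, 3, 5, 3, 5, 0, 3, 0, 2, 2, 0, 5, 3, 5, 3, 5]
noncomputable def act27 (i : Nat) : Nat := col1 (col2 (col1 (col3 (col3 (col1 (col4 (col2 (col4 (col2 (col4 (col1 (col2 (col1 (col3 (col3 (col1 (col4 (col2 (col4 (col2 (col4 (col1 (col2 (col1 (col3 (col3 (col1 (col4 (col2 (col4 (col2 (col4 (i)))))))))))))))))))))))))))))))))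
theorem act27_eq (i : Nat) : act27 i = Tab.act T D chk27 i := rfl
theorem c27_0 : allRange (fun i => Nat.beq (act27 i) i) 0 1714 = true := by decide +kernel
theorem c27_1 : allRange (fun i => Nat.beq (act27 i) i) 1714 1714 = true := by decide +kernel
theorem c27_2 : allRange (fun i => Nat.beq (act27 i) i) 3428 1714 = true := by decide +kernel
theorem c27_3 : allRange (fun i => Nat.beq (act27 i) i) 5142 1714 = true := by decide +kernel
theorem c27_4 : allRange (fun i => Nat.beq (act27 i) i) 6856 1714 = true := by decide +kernel
theorem c27_5 : allRange (fun i => Nat.beq (act27 i) i) 8570 1714 = true := by decide +kernel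
theorem c27_6 : allRange (fun i => Nat.beq (act27 i) i) 10284 1714 = true := by decide +kernel
theorem c27_7 : allRange (fun i => Nat.beq (act27 i) i) 11998 1714 = true := by decide +kernel
theorem c27_8 : allRange (fun i => Nat.beq (act27 i) i) 13712 1714 = true := by decide +kernel
theorem c27_9 : allRange (fun i => Nat.beq (act27 i) i) 15426 1714 = true := by decide +kernel
theorem c27_10 : allRange (fun i => Nat.beq (act27 i) i) 17140 1714 = true := by decide +kernel
theorem c27_11 : allRange (fun i => Nat.beq (act27 i) i) 18854 1714 = true := by decide +kernel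
theorem c27_12 : allRange (fun i => Nat.beq (act27 i) i) 20568 1714 = true := by decide +kernel
theorem c27_13 : allRange (fun i => Nat.beq (act27 i) i) 22282 1714 = true := by decide +kernel
theorem c27_14 : allRange (fun i => Nat.beq (act27 i) i) 23996 1714 = true := by decide +kernel
theorem c27_15 : allRange (fun i => Nat.beq (act27 i) i) 25710 1714 = true := by decide +kernel
theorem c27_16 : allRange (fun i => Nat.beq (act27 i) i) 27424 1714 = true := by decide +kernel
theorem c27_17 : allRange (fun i => Nat.beq (act27 i) i) 29138 1714 = true := by decide +kernel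
theorem c27_18 : allRange (fun i => Nat.beq (act27 i) i) 30852 1714 = true := by decide +kernel
theorem c27_19 : allRange (fun i => Nat.beq (act27 i) i) 32566 1714 = true := by decide +kernel
theorem c27_20 : allRange (fun i => Nat.beq (act27 i) i) 34280 1714 = true := by decide +kernel
theorem c27_21 : allRange (fun i => Nat.beq (act27 i) i) 35994 1714 = true := by decide +kernel
theorem c27_22 : allRange (fun i => Nat.beq (act27 i) i) 37708 1714 = true := by decide +kernel
theorem c27_23 : allRange (fun i => Nat.beq (act27 i) i) 39422 1714 = true := by decide +kernel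
theorem c27_24 : allRange (fun i => Nat.beq (act27 i) i) 41136 1714 = true := by decide +kernel
theorem c27_25 : allRange (fun i => Nat.beq (act27 i) i) 42850 1714 = true := by decide +kernel
theorem c27_26 : allRange (fun i => Nat.beq (act27 i) i) 44564 1714 = true := by decide +kernel
theorem c27_27 : allRange (fun i => Nat.beq (act27 i) i) 46278 1714 = true := by decide +kernel
theorem c27_28 : allRange (fun i => Nat.beq (act27 i) i) 47992 608 = true := by decide +kernel
theorem h27 : ∀ i, i < T.N → Tab.relActOK T D chk27 i = true := by
  intro i hi
  rw [Tab.relActOK, ← act27_eq]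
  exact (range_glue (range_of_allRange c27_0) (range_glue (range_of_allRange c27_1) (range_glue (range_of_allRange c27_2) (range_glue (range_of_allRange c27_3) (range_glue (range_of_allRange c27_4) (range_glue (range_of_allRange c27_5) (range_glue (range_of_allRange c27_6) (range_glue (range_of_allRange c27_7) (range_glue (range_of_allRange c27_8) (range_glue (range_of_allRange c27_9) (range_glue (range_of_allRange c27_10) (range_glue (range_of_allRange c27_11) (range_glue (range_of_allRange c27_12) (range_glue (range_of_allRange c27_13) (range_glue (range_of_allRange c27_14) (range_glue (range_of_allRange c27_15) (range_glue (range_of_allRange c27_16) (range_glue (range_of_allRange c27_17) (range_glue (range_of_allRange c27_18) (range_glue (range_of_allRange c27_19) (range_glue (range_of_allRange c27_20) (range_glue (range_of_allRange c27_21) (range_glue (range_of_allRange c27_22) (range_glue (range_of_allRange c27_23) (range_glue (range_of_allRange c27_24) (range_glue (range_of_allRange c27_25) (range_glue (range_of_allRange c27_26) (range_glue (range_of_allRange c27_27) (range_of_allRange c27_28)))))))))))))))))))))))))))))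 i (Nat.zero_le _) hi

def chk28 : List Nat := [6, 5, 2, 5, 0, 3, 3, 7, 1, 4, 4, 2, 5, 1, 2, 1, 3, 3, 1, 2, 1, 3, 3, 1]
noncomputable def act28 (i : Nat) : Nat := col7 (col4 (col3 (col4 (col1 (col2 (col2 (col6 (col0 (col5 (col5 (col3 (col4 (col0 (col3 (col0 (col2 (col2 (col0 (col3 (col0 (col2 (col2 (col0 (i))))))))))))))))))))))))
theorem act28_eq (i : Nat) : act28 i = Tab.act T D chk28 i := rfl
theorem c28_0 : allRange (fun i => Nat.beq (act28 i) i) 0 2307 = true := by decide +kernel
theorem c28_1 : allRange (fun i => Nat.beq (act28 i) i) 2307 2307 = true := by decide +kernel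
theorem c28_2 : allRange (fun i => Nat.beq (act28 i) i) 4614 2307 = true := by decide +kernel
theorem c28_3 : allRange (fun i => Nat.beq (act28 i) i) 6921 2307 = true := by decide +kernel
theorem c28_4 : allRange (fun i => Nat.beq (act28 i) i) 9228 2307 = true := by decide +kernel
theorem c28_5 : allRange (fun i => Nat.beq (act28 i) i) 11535 2307 = true := by decide +kernel
theorem c28_6 : allRange (fun i => Nat.beq (act28 i) i) 13842 2307 = true := by decide +kernel
theorem c28_7 : allRange (fun i => Nat.beq (act28 i) i) 16149 2307 = true := by decide +kernel
theorem c28_8 : allRange (fun i => Nat.beq (act28 i) i) 18456 2307 = true := by decide +kernel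
theorem c28_9 : allRange (fun i => Nat.beq (act28 i) i) 20763 2307 = true := by decide +kernel
theorem c28_10 : allRange (fun i => Nat.beq (act28 i) i) 23070 2307 = true := by decide +kernel
theorem c28_11 : allRange (fun i => Nat.beq (act28 i) i) 25377 2307 = true := by decide +kernel
theorem c28_12 : allRange (fun i => Nat.beq (act28 i) i) 27684 2307 = true := by decide +kernel
theorem c28_13 : allRange (fun i => Nat.beq (act28 i) i) 29991 2307 = true := by decide +kernel
theorem c28_14 : allRange (fun i => Nat.beq (act28 i) i) 32298 2307 = true := by decide +kernel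
theorem c28_15 : allRange (fun i => Nat.beq (act28 i) i) 34605 2307 = true := by decide +kernel
theorem c28_16 : allRange (fun i => Nat.beq (act28 i) i) 36912 2307 = true := by decide +kernel
theorem c28_17 : allRange (fun i => Nat.beq (act28 i) i) 39219 2307 = true := by decide +kernel
theorem c28_18 : allRange (fun i => Nat.beq (act28 i) i) 41526 2307 = true := by decide +kernel
theorem c28_19 : allRange (fun i => Nat.beq (act28 i) i) 43833 2307 = true := by decide +kernel
theorem c28_20 : allRange (fun i => Nat.beq (act28 i) i) 46140 2307 = true := by decide +kernel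
theorem c28_21 : allRange (fun i => Nat.beq (act28 i) i) 48447 153 = true := by decide +kernel
theorem h28 : ∀ i, i < T.N → Tab.relActOK T D chk28 i = true := by
  intro i hi
  rw [Tab.relActOK, ← act28_eq]
  exact (range_glue (range_of_allRange c28_0) (range_glue (range_of_allRange c28_1) (range_glue (range_of_allRange c28_2) (range_glue (range_of_allRange c28_3) (range_glue (range_of_allRange c28_4) (range_glue (range_of_allRange c28_5) (range_glue (range_of_allRange c28_6) (range_glue (range_of_allRange c28_7) (range_glue (range_of_allRange c28_8) (range_glue (range_of_allRange c28_9) (range_glue (range_of_allRange c28_10) (range_glue (range_of_allRange c28_11) (range_glue (range_of_allRange c28_12) (range_glue (range_of_allRange c28_13) (range_glue (range_of_allRange c28_14) (range_glue (range_of_allRange c28_15) (range_glue (range_of_allRange c28_16) (range_glue (range_of_allRange c28_17) (range_glue (range_of_allRange c28_18) (range_glue (range_of_allRange c28_19) (range_glue (range_of_allRange c28_20) (range_of_allRange c28_21)))))))))))))))))))))) i (Nat.zero_le _) hi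

def chk29 : List Nat := [5, 2, 5, 0, 3, 3, 5, 2, 5, 0, 3, 3, 5, 2, 5, 0, 3, 3]
noncomputable def act29 (i : Nat) : Nat := col4 (col3 (col4 (col1 (col2 (col2 (col4 (col3 (col4 (col1 (col2 (col2 (col4 (col3 (col4 (col1 (col2 (col2 (i))))))))))))))))))
theorem act29_eq (i : Nat) : act29 i = Tab.act T D chk29 i := rfl
theorem c29_0 : allRange (fun i => Nat.beq (act29 i) i) 0 3000 = true := by decide +kernel
theorem c29_1 : allRange (fun i => Nat.beq (act29 i) i) 3000 3000 = true := by decide +kernel
theorem c29_2 : allRange (fun i => Nat.beq (act29 i) i) 6000 3000 = true := by decide +kernel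
theorem c29_3 : allRange (fun i => Nat.beq (act29 i) i) 9000 3000 = true := by decide +kernel
theorem c29_4 : allRange (fun i => Nat.beq (act29 i) i) 12000 3000 = true := by decide +kernel
theorem c29_5 : allRange (fun i => Nat.beq (act29 i) i) 15000 3000 = true := by decide +kernel
theorem c29_6 : allRange (fun i => Nat.beq (act29 i) i) 18000 3000 = true := by decide +kernel
theorem c29_7 : allRange (fun i => Nat.beq (act29 i) i) 21000 3000 = true := by decide +kernel
theorem c29_8 : allRange (fun i => Nat.beq (act29 i) i) 24000 3000 = true := by decide +kernel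
theorem c29_9 : allRange (fun i => Nat.beq (act29 i) i) 27000 3000 = true := by decide +kernel
theorem c29_10 : allRange (fun i => Nat.beq (act29 i) i) 30000 3000 = true := by decide +kernel
theorem c29_11 : allRange (fun i => Nat.beq (act29 i) i) 33000 3000 = true := by decide +kernel
theorem c29_12 : allRange (fun i => Nat.beq (act29 i) i) 36000 3000 = true := by decide +kernel
theorem c29_13 : allRange (fun i => Nat.beq (act29 i) i) 39000 3000 = true := by decide +kernel
theorem c29_14 : allRange (fun i => Nat.beq (act29 i) i) 42000 3000 = true := by decide +kernel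
theorem c29_15 : allRange (fun i => Nat.beq (act29 i) i) 45000 3000 = true := by decide +kernel
theorem c29_16 : allRange (fun i => Nat.beq (act29 i) i) 48000 600 = true := by decide +kernel
theorem h29 : ∀ i, i < T.N → Tab.relActOK T D chk29 i = true := by
  intro i hi
  rw [Tab.relActOK, ← act29_eq]
  exact (range_glue (range_of_allRange c29_0) (range_glue (range_of_allRange c29_1) (range_glue (range_of_allRange c29_2) (range_glue (range_of_allRange c29_3) (range_glue (range_of_allRange c29_4) (range_glue (range_of_allRange c29_5) (range_glue (range_of_allRange c29_6) (range_glue (range_of_allRange c29_7) (range_glue (range_of_allRange c29_8) (range_glue (range_of_allRange c29_9) (range_glue (range_of_allRange c29_10) (range_glue (range_of_allRange c29_11) (range_glue (range_of_allRange c29_12) (range_glue (range_of_allRange c29_13) (range_glue (range_of_allRange c29_14) (range_glue (range_of_allRange c29_15) (range_of_allRange c29_16))))))))))))))))) i (Nat.zero_le _) hi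

def chk30 : List Nat := [0, 2, 2, 0, 3, 0, 2, 2, 0, 3, 0, 4, 3, 5, 5, 0, 0, 2, 2, 0, 3, 0, 2, 2, 0, 3, 0, 4, 3, 5, 5, 0, 0, 2, 2, 0, 3, 0, 2, 2, 0, 3, 0, 4, 3, 5, 5, 0]
noncomputable def act30 (i : Nat) : Nat := col1 (col3 (col3 (col1 (col2 (col1 (col3 (col3 (col1 (col2 (col1 (col5 (col2 (col4 (col4 (col1 (col1 (col3 (col3 (col1 (col2 (col1 (col3 (col3 (col1 (col2 (col1 (col5 (col2 (col4 (col4 (col1 (col1 (col3 (col3 (col1 (col2 (col1 (col3 (col3 (col1 (col2 (col1 (col5 (col2 (col4 (col4 (col1 (i))))))))))))))))))))))))))))))))))))))))))))))))
theorem act30_eq (i : Nat) : act30 i = Tab.act T D chk30 i := rfl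
theorem c30_0 : allRange (fun i => Nat.beq (act30 i) i) 0 1200 = true := by decide +kernel
theorem c30_1 : allRange (fun i => Nat.beq (act30 i) i) 1200 1200 = true := by decide +kernel
theorem c30_2 : allRange (fun i => Nat.beq (act30 i) i) 2400 1200 = true := by decide +kernel
theorem c30_3 : allRange (fun i => Nat.beq (act30 i) i) 3600 1200 = true := by decide +kernel
theorem c30_4 : allRange (fun i => Nat.beq (act30 i) i) 4800 1200 = true := by decide +kernel
theorem c30_5 : allRange (fun i => Nat.beq (act30 i) i) 6000 1200 = true := by decide +kernel
theorem c30_6 : allRange (fun i => Nat.beq (act30 i) i) 7200 1200 = true := by decide +kernel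
theorem c30_7 : allRange (fun i => Nat.beq (act30 i) i) 8400 1200 = true := by decide +kernel
theorem c30_8 : allRange (fun i => Nat.beq (act30 i) i) 9600 1200 = true := by decide +kernel
theorem c30_9 : allRange (fun i => Nat.beq (act30 i) i) 10800 1200 = true := by decide +kernel
theorem c30_10 : allRange (fun i => Nat.beq (act30 i) i) 12000 1200 = true := by decide +kernel
theorem c30_11 : allRange (fun i => Nat.beq (act30 i) i) 13200 1200 = true := by decide +kernel
theorem c30_12 : allRange (fun i => Nat.beq (act30 i) i) 14400 1200 = true := by decide +kernel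
theorem c30_13 : allRange (fun i => Nat.beq (act30 i) i) 15600 1200 = true := by decide +kernel
theorem c30_14 : allRange (fun i => Nat.beq (act30 i) i) 16800 1200 = true := by decide +kernel
theorem c30_15 : allRange (fun i => Nat.beq (act30 i) i) 18000 1200 = true := by decide +kernel
theorem c30_16 : allRange (fun i => Nat.beq (act30 i) i) 19200 1200 = true := by decide +kernel
theorem c30_17 : allRange (fun i => Nat.beq (act30 i) i) 20400 1200 = true := by decide +kernel
theorem c30_18 : allRange (fun i => Nat.beq (act30 i) i) 21600 1200 = true := by decide +kernel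
theorem c30_19 : allRange (fun i => Nat.beq (act30 i) i) 22800 1200 = true := by decide +kernel
theorem c30_20 : allRange (fun i => Nat.beq (act30 i) i) 24000 1200 = true := by decide +kernel
theorem c30_21 : allRange (fun i => Nat.beq (act30 i) i) 25200 1200 = true := by decide +kernel
theorem c30_22 : allRange (fun i => Nat.beq (act30 i) i) 26400 1200 = true := by decide +kernel
theorem c30_23 : allRange (fun i => Nat.beq (act30 i) i) 27600 1200 = true := by decide +kernel
theorem c30_24 : allRange (fun i => Nat.beq (act30 i) i) 28800 1200 = true := by decide +kernel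
theorem c30_25 : allRange (fun i => Nat.beq (act30 i) i) 30000 1200 = true := by decide +kernel
theorem c30_26 : allRange (fun i => Nat.beq (act30 i) i) 31200 1200 = true := by decide +kernel
theorem c30_27 : allRange (fun i => Nat.beq (act30 i) i) 32400 1200 = true := by decide +kernel
theorem c30_28 : allRange (fun i => Nat.beq (act30 i) i) 33600 1200 = true := by decide +kernel
theorem c30_29 : allRange (fun i => Nat.beq (act30 i) i) 34800 1200 = true := by decide +kernel
theorem c30_30 : allRange (fun i => Nat.beq (act30 i) i) 36000 1200 = true := by decide +kernel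
theorem c30_31 : allRange (fun i => Nat.beq (act30 i) i) 37200 1200 = true := by decide +kernel
theorem c30_32 : allRange (fun i => Nat.beq (act30 i) i) 38400 1200 = true := by decide +kernel
theorem c30_33 : allRange (fun i => Nat.beq (act30 i) i) 39600 1200 = true := by decide +kernel
theorem c30_34 : allRange (fun i => Nat.beq (act30 i) i) 40800 1200 = true := by decide +kernel
theorem c30_35 : allRange (fun i => Nat.beq (act30 i) i) 42000 1200 = true := by decide +kernel
theorem c30_36 : allRange (fun i => Nat.beq (act30 i) i) 43200 1200 = true := by decide +kernel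
theorem c30_37 : allRange (fun i => Nat.beq (act30 i) i) 44400 1200 = true := by decide +kernel
theorem c30_38 : allRange (fun i => Nat.beq (act30 i) i) 45600 1200 = true := by decide +kernel
theorem c30_39 : allRange (fun i => Nat.beq (act30 i) i) 46800 1200 = true := by decide +kernel
theorem c30_40 : allRange (fun i => Nat.beq (act30 i) i) 48000 600 = true := by decide +kernel
theorem h30 : ∀ i, i < T.N → Tab.relActOK T D chk30 i = true := by
  intro i hi
  rw [Tab.relActOK, ← act30_eq]
  exact (range_glue (range_of_allRange c30_0) (range_glue (range_of_allRange c30_1) (range_glue (range_of_allRange c30_2) (range_glue (range_of_allRange c30_3) (range_glue (range_of_allRange c30_4) (range_glue (range_of_allRange c30_5) (range_glue (range_of_allRange c30_6) (range_glue (range_of_allRange c30_7) (range_glue (range_of_allRange c30_8) (range_glue (range_of_allRange c30_9) (range_glue (range_of_allRange c30_10) (range_glue (range_of_allRange c30_11) (range_glue (range_of_allRange c30_12) (range_glue (range_of_allRange c30_13) (range_glue (range_of_allRange c30_14) (range_glue (range_of_allRange c30_15) (range_glue (range_of_allRange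 c30_16) (range_glue (range_of_allRange c30_17) (range_glue (range_of_allRange c30_18) (range_glue (range_of_allRange c30_19) (range_glue (range_of_allRange c30_20) (range_glue (range_of_allRange c30_21) (range_glue (range_of_allRange c30_22) (range_glue (range_of_allRange c30_23) (range_glue (range_of_allRange c30_24) (range_glue (range_of_allRange c30_25) (range_glue (range_of_allRange c30_26) (range_glue (range_of_allRange c30_27) (range_glue (range_of_allRange c30_28) (range_glue (range_of_allRange c30_29) (range_glue (range_of_allRange c30_30) (range_glue (range_of_allRange c30_31) (range_glue (range_of_allRange c30_32) (range_glue (range_of_allRange c30_33) (range_glue (range_of_allRange c30_34) (range_glue (range_of_allRange c30_35) (range_glue (range_of_allRange c30_36) (range_glue (range_of_allRange c30_37) (range_glue (range_of_allRange c30_38) (range_glue (range_of_allRange c30_39) (range_of_allRange c30_40))))))))))))))))))))))))))))))))))))))))) i (Nat.zero_le _) hi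

def chk31 : List Nat := [6, 0, 3, 4, 2, 2, 4, 3, 7, 2, 4, 2, 1, 3, 5, 2, 1, 2, 1, 2, 1, 3, 1, 2]
noncomputable def act31 (i : Nat) : Nat := col7 (col1 (col2 (col5 (col3 (col3 (col5 (col2 (col6 (col3 (col5 (col3 (col0 (col2 (col4 (col3 (col0 (col3 (col0 (col3 (col0 (col2 (col0 (col3 (i))))))))))))))))))))))))
theorem act31_eq (i : Nat) : act31 i = Tab.act T D chk31 i := rfl
theorem c31_0 : allRange (fun i => Nat.beq (act31 i) i) 0 2307 = true := by decide +kernel
theorem c31_1 : allRange (fun i => Nat.beq (act31 i) i) 2307 2307 = true := by decide +kernel
theorem c31_2 : allRange (fun i => Nat.beq (act31 i) i) 4614 2307 = true := by decide +kernel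
theorem c31_3 : allRange (fun i => Nat.beq (act31 i) i) 6921 2307 = true := by decide +kernel
theorem c31_4 : allRange (fun i => Nat.beq (act31 i) i) 9228 2307 = true := by decide +kernel
theorem c31_5 : allRange (fun i => Nat.beq (act31 i) i) 11535 2307 = true := by decide +kernel
theorem c31_6 : allRange (fun i => Nat.beq (act31 i) i) 13842 2307 = true := by decide +kernel
theorem c31_7 : allRange (fun i => Nat.beq (act31 i) i) 16149 2307 = true := by decide +kernel
theorem c31_8 : allRange (fun i => Nat.beq (act31 i) i) 18456 2307 = true := by decide +kernel
theorem c31_9 : allRange (fun i => Nat.beq (act31 i) i) 20763 2307 = true := by decide +kernel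
theorem c31_10 : allRange (fun i => Nat.beq (act31 i) i) 23070 2307 = true := by decide +kernel
theorem c31_11 : allRange (fun i => Nat.beq (act31 i) i) 25377 2307 = true := by decide +kernel
theorem c31_12 : allRange (fun i => Nat.beq (act31 i) i) 27684 2307 = true := by decide +kernel
theorem c31_13 : allRange (fun i => Nat.beq (act31 i) i) 29991 2307 = true := by decide +kernel
theorem c31_14 : allRange (fun i => Nat.beq (act31 i) i) 32298 2307 = true := by decide +kernel
theorem c31_15 : allRange (fun i => Nat.beq (act31 i) i) 34605 2307 = true := by decide +kernel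
theorem c31_16 : allRange (fun i => Nat.beq (act31 i) i) 36912 2307 = true := by decide +kernel
theorem c31_17 : allRange (fun i => Nat.beq (act31 i) i) 39219 2307 = true := by decide +kernel
theorem c31_18 : allRange (fun i => Nat.beq (act31 i) i) 41526 2307 = true := by decide +kernel
theorem c31_19 : allRange (fun i => Nat.beq (act31 i) i) 43833 2307 = true := by decide +kernel
theorem c31_20 : allRange (fun i => Nat.beq (act31 i) i) 46140 2307 = true := by decide +kernel
theorem c31_21 : allRange (fun i => Nat.beq (act31 i) i) 48447 153 = true := by decide +kernel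
theorem h31 : ∀ i, i < T.N → Tab.relActOK T D chk31 i = true := by
  intro i hi
  rw [Tab.relActOK, ← act31_eq]
  exact (range_glue (range_of_allRange c31_0) (range_glue (range_of_allRange c31_1) (range_glue (range_of_allRange c31_2) (range_glue (range_of_allRange c31_3) (range_glue (range_of_allRange c31_4) (range_glue (range_of_allRange c31_5) (range_glue (range_of_allRange c31_6) (range_glue (range_of_allRange c31_7) (range_glue (range_of_allRange c31_8) (range_glue (range_of_allRange c31_9) (range_glue (range_of_allRange c31_10) (range_glue (range_of_allRange c31_11) (range_glue (range_of_allRange c31_12) (range_glue (range_of_allRange c31_13) (range_glue (range_of_allRange c31_14) (range_glue (range_of_allRange c31_15) (range_glue (range_of_allRange c31_16) (range_glue (range_of_allRange c31_17) (range_glue (range_of_allRange c31_18) (range_glue (range_of_allRange c31_19) (range_glue (range_of_allRange c31_20) (range_of_allRange c31_21)))))))))))))))))))))) i (Nat.zero_le _) hi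

def chk32 : List Nat := [0, 3, 4, 2, 2, 4, 3, 0, 3, 4, 2, 2, 4, 3, 0, 3, 4, 2, 2, 4, 3]
noncomputable def act32 (i : Nat) : Nat := col1 (col2 (col5 (col3 (col3 (col5 (col2 (col1 (col2 (col5 (col3 (col3 (col5 (col2 (col1 (col2 (col5 (col3 (col3 (col5 (col2 (i)))))))))))))))))))))
theorem act32_eq (i : Nat) : act32 i = Tab.act T D chk32 i := rfl
theorem c32_0 : allRange (fun i => Nat.beq (act32 i) i) 0 2608 = true := by decide +kernel
theorem c32_1 : allRange (fun i => Nat.beq (act32 i) i) 2608 2608 = true := by decide +kernel
theorem c32_2 : allRange (fun i => Nat.beq (act32 i) i) 5216 2608 = true := by decide +kernel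
theorem c32_3 : allRange (fun i => Nat.beq (act32 i) i) 7824 2608 = true := by decide +kernel
theorem c32_4 : allRange (fun i => Nat.beq (act32 i) i) 10432 2608 = true := by decide +kernel
theorem c32_5 : allRange (fun i => Nat.beq (act32 i) i) 13040 2608 = true := by decide +kernel
theorem c32_6 : allRange (fun i => Nat.beq (act32 i) i) 15648 2608 = true := by decide +kernel
theorem c32_7 : allRange (fun i => Nat.beq (act32 i) i) 18256 2608 = true := by decide +kernel
theorem c32_8 : allRange (fun i => Nat.beq (act32 i) i) 20864 2608 = true := by decide +kernel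
theorem c32_9 : allRange (fun i => Nat.beq (act32 i) i) 23472 2608 = true := by decide +kernel
theorem c32_10 : allRange (fun i => Nat.beq (act32 i) i) 26080 2608 = true := by decide +kernel
theorem c32_11 : allRange (fun i => Nat.beq (act32 i) i) 28688 2608 = true := by decide +kernel
theorem c32_12 : allRange (fun i => Nat.beq (act32 i) i) 31296 2608 = true := by decide +kernel
theorem c32_13 : allRange (fun i => Nat.beq (act32 i) i) 33904 2608 = true := by decide +kernel
theorem c32_14 : allRange (fun i => Nat.beq (act32 i) i) 36512 2608 = true := by decide +kernel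
theorem c32_15 : allRange (fun i => Nat.beq (act32 i) i) 39120 2608 = true := by decide +kernel
theorem c32_16 : allRange (fun i => Nat.beq (act32 i) i) 41728 2608 = true := by decide +kernel
theorem c32_17 : allRange (fun i => Nat.beq (act32 i) i) 44336 2608 = true := by decide +kernel
theorem c32_18 : allRange (fun i => Nat.beq (act32 i) i) 46944 1656 = true := by decide +kernel
theorem h32 : ∀ i, i < T.N → Tab.relActOK T D chk32 i = true := by
  intro i hi
  rw [Tab.relActOK, ← act32_eq]
  exact (range_glue (range_of_allRange c32_0) (range_glue (range_of_allRange c32_1) (range_glue (range_of_allRange c32_2) (range_glue (range_of_allRange c32_3) (range_glue (range_of_allRange c32_4) (range_glue (range_of_allRange c32_5) (range_glue (range_of_allRange c32_6) (range_glue (range_of_allRange c32_7) (range_glue (range_of_allRange c32_8) (range_glue (range_of_allRange c32_9) (range_glue (range_of_allRange c32_10) (range_glue (range_of_allRange c32_11) (range_glue (range_of_allRange c32_12) (range_glue (range_of_allRange c32_13) (range_glue (range_of_allRange c32_14) (range_glue (range_of_allRange c32_15) (range_glue (range_of_allRange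 c32_16) (range_glue (range_of_allRange c32_17) (range_of_allRange c32_18))))))))))))))))))) i (Nat.zero_le _) hi

def chk33 : List Nat := [3, 0, 2, 0, 3, 0, 3, 0, 3, 4, 2, 0, 3, 5, 3, 3, 0, 2, 0, 3, 0, 3, 0, 3, 4, 2, 0, 3, 5, 3, 3, 0, 2, 0, 3, 0, 3, 0, 3, 4, 2, 0, 3, 5, 3]
noncomputable def act33 (i : Nat) : Nat := col2 (col1 (col3 (col1 (col2 (col1 (col2 (col1 (col2 (col5 (col3 (col1 (col2 (col4 (col2 (col2 (col1 (col3 (col1 (col2 (col1 (col2 (col1 (col2 (col5 (col3 (col1 (col2 (col4 (col2 (col2 (col1 (col3 (col1 (col2 (col1 (col2 (col1 (col2 (col5 (col3 (col1 (col2 (col4 (col2 (i)))))))))))))))))))))))))))))))))))))))))))))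
theorem act33_eq (i : Nat) : act33 i = Tab.act T D chk33 i := rfl
theorem c33_0 : allRange (fun i => Nat.beq (act33 i) i) 0 1276 = true := by decide +kernel
theorem c33_1 : allRange (fun i => Nat.beq (act33 i) i) 1276 1276 = true := by decide +kernel
theorem c33_2 : allRange (fun i => Nat.beq (act33 i) i) 2552 1276 = true := by decide +kernel
theorem c33_3 : allRange (fun i => Nat.beq (act33 i) i) 3828 1276 = true := by decide +kernel
theorem c33_4 : allRange (fun i => Nat.beq (act33 i) i) 5104 1276 = true := by decide +kernel
theorem c33_5 : allRange (fun i => Nat.beq (act33 i) i) 6380 1276 = true := by decide +kernel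
theorem c33_6 : allRange (fun i => Nat.beq (act33 i) i) 7656 1276 = true := by decide +kernel
theorem c33_7 : allRange (fun i => Nat.beq (act33 i) i) 8932 1276 = true := by decide +kernel
theorem c33_8 : allRange (fun i => Nat.beq (act33 i) i) 10208 1276 = true := by decide +kernel
theorem c33_9 : allRange (fun i => Nat.beq (act33 i) i) 11484 1276 = true := by decide +kernel
theorem c33_10 : allRange (fun i => Nat.beq (act33 i) i) 12760 1276 = true := by decide +kernel
theorem c33_11 : allRange (fun i => Nat.beq (act33 i) i) 14036 1276 = true := by decide +kernel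
theorem c33_12 : allRange (fun i => Nat.beq (act33 i) i) 15312 1276 = true := by decide +kernel
theorem c33_13 : allRange (fun i => Nat.beq (act33 i) i) 16588 1276 = true := by decide +kernel
theorem c33_14 : allRange (fun i => Nat.beq (act33 i) i) 17864 1276 = true := by decide +kernel
theorem c33_15 : allRange (fun i => Nat.beq (act33 i) i) 19140 1276 = true := by decide +kernel
theorem c33_16 : allRange (fun i => Nat.beq (act33 i) i) 20416 1276 = true := by decide +kernel
theorem c33_17 : allRange (fun i => Nat.beq (act33 i) i) 21692 1276 = true := by decide +kernel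
theorem c33_18 : allRange (fun i => Nat.beq (act33 i) i) 22968 1276 = true := by decide +kernel
theorem c33_19 : allRange (fun i => Nat.beq (act33 i) i) 24244 1276 = true := by decide +kernel
theorem c33_20 : allRange (fun i => Nat.beq (act33 i) i) 25520 1276 = true := by decide +kernel
theorem c33_21 : allRange (fun i => Nat.beq (act33 i) i) 26796 1276 = true := by decide +kernel
theorem c33_22 : allRange (fun i => Nat.beq (act33 i) i) 28072 1276 = true := by decide +kernel
theorem c33_23 : allRange (fun i => Nat.beq (act33 i) i) 29348 1276 = true := by decide +kernel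
theorem c33_24 : allRange (fun i => Nat.beq (act33 i) i) 30624 1276 = true := by decide +kernel
theorem c33_25 : allRange (fun i => Nat.beq (act33 i) i) 31900 1276 = true := by decide +kernel
theorem c33_26 : allRange (fun i => Nat.beq (act33 i) i) 33176 1276 = true := by decide +kernel
theorem c33_27 : allRange (fun i => Nat.beq (act33 i) i) 34452 1276 = true := by decide +kernel
theorem c33_28 : allRange (fun i => Nat.beq (act33 i) i) 35728 1276 = true := by decide +kernel
theorem c33_29 : allRange (fun i => Nat.beq (act33 i) i) 37004 1276 = true := by decide +kernel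
theorem c33_30 : allRange (fun i => Nat.beq (act33 i) i) 38280 1276 = true := by decide +kernel
theorem c33_31 : allRange (fun i => Nat.beq (act33 i) i) 39556 1276 = true := by decide +kernel
theorem c33_32 : allRange (fun i => Nat.beq (act33 i) i) 40832 1276 = true := by decide +kernel
theorem c33_33 : allRange (fun i => Nat.beq (act33 i) i) 42108 1276 = true := by decide +kernel
theorem c33_34 : allRange (fun i => Nat.beq (act33 i) i) 43384 1276 = true := by decide +kernel
theorem c33_35 : allRange (fun i => Nat.beq (act33 i) i) 44660 1276 = true := by decide +kernel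
theorem c33_36 : allRange (fun i => Nat.beq (act33 i) i) 45936 1276 = true := by decide +kernel
theorem c33_37 : allRange (fun i => Nat.beq (act33 i) i) 47212 1276 = true := by decide +kernel
theorem c33_38 : allRange (fun i => Nat.beq (act33 i) i) 48488 112 = true := by decide +kernel
theorem h33 : ∀ i, i < T.N → Tab.relActOK T D chk33 i = true := by
  intro i hi
  rw [Tab.relActOK, ← act33_eq]
  exact (range_glue (range_of_allRange c33_0) (range_glue (range_of_allRange c33_1) (range_glue (range_of_allRange c33_2) (range_glue (range_of_allRange c33_3) (range_glue (range_of_allRange c33_4) (range_glue (range_of_allRange c33_5) (range_glue (range_of_allRange c33_6) (range_glue (range_of_allRange c33_7) (range_glue (range_of_allRange c33_8) (range_glue (range_of_allRange c33_9) (range_glue (range_of_allRange c33_10) (range_glue (range_of_allRange c33_11) (range_glue (range_of_allRange c33_12) (range_glue (range_of_allRange c33_13) (range_glue (range_of_allRange c33_14) (range_glue (range_of_allRange c33_15) (range_glue (range_of_allRange c33_16) (range_glue (range_of_allRange c33_17) (range_glue (range_of_allRange c33_18)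 (range_glue (range_of_allRange c33_19) (range_glue (range_of_allRange c33_20) (range_glue (range_of_allRange c33_21) (range_glue (range_of_allRange c33_22) (range_glue (range_of_allRange c33_23) (range_glue (range_of_allRange c33_24) (range_glue (range_of_allRange c33_25) (range_glue (range_of_allRange c33_26) (range_glue (range_of_allRange c33_27) (range_glue (range_of_allRange c33_28) (range_glue (range_of_allRange c33_29) (range_glue (range_of_allRange c33_30) (range_glue (range_of_allRange c33_31) (range_glue (range_of_allRange c33_32) (range_glue (range_of_allRange c33_33) (range_glue (range_of_allRange c33_34) (range_glue (range_of_allRange c33_35) (range_glue (range_of_allRange c33_36) (range_glue (range_of_allRange c33_37) (range_of_allRange c33_38))))))))))))))))))))))))))))))))))))))) i (Nat.zero_le _) hi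

def chk34 : List Nat := [6, 3, 4, 2, 5, 5, 5, 3, 4, 0, 7, 5, 5, 5, 1, 4, 1, 2, 1, 2, 1, 2, 1, 3]
noncomputable def act34 (i : Nat) : Nat := col7 (col2 (col5 (col3 (col4 (col4 (col4 (col2 (col5 (col1 (col6 (col4 (col4 (col4 (col0 (col5 (col0 (col3 (col0 (col3 (col0 (col3 (col0 (col2 (i))))))))))))))))))))))))
theorem act34_eq (i : Nat) : act34 i = Tab.act T D chk34 i := rfl
theorem c34_0 : allRange (fun i => Nat.beq (act34 i) i) 0 2307 = true := by decide +kernel
theorem c34_1 : allRange (fun i => Nat.beq (act34 i) i) 2307 2307 = true := by decide +kernel
theorem c34_2 : allRange (fun i => Nat.beq (act34 i) i) 4614 2307 = true := by decide +kernel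
theorem c34_3 : allRange (fun i => Nat.beq (act34 i) i) 6921 2307 = true := by decide +kernel
theorem c34_4 : allRange (fun i => Nat.beq (act34 i) i) 9228 2307 = true := by decide +kernel
theorem c34_5 : allRange (fun i => Nat.beq (act34 i) i) 11535 2307 = true := by decide +kernel
theorem c34_6 : allRange (fun i => Nat.beq (act34 i) i) 13842 2307 = true := by decide +kernel
theorem c34_7 : allRange (fun i => Nat.beq (act34 i) i) 16149 2307 = true := by decide +kernel
theorem c34_8 : allRange (fun i => Nat.beq (act34 i) i) 18456 2307 = true := by decide +kernel
theorem c34_9 : allRange (fun i => Nat.beq (act34 i) i) 20763 2307 = true := by decide +kernel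
theorem c34_10 : allRange (fun i => Nat.beq (act34 i) i) 23070 2307 = true := by decide +kernel
theorem c34_11 : allRange (fun i => Nat.beq (act34 i) i) 25377 2307 = true := by decide +kernel
theorem c34_12 : allRange (fun i => Nat.beq (act34 i) i) 27684 2307 = true := by decide +kernel
theorem c34_13 : allRange (fun i => Nat.beq (act34 i) i) 29991 2307 = true := by decide +kernel
theorem c34_14 : allRange (fun i => Nat.beq (act34 i) i) 32298 2307 = true := by decide +kernel
theorem c34_15 : allRange (fun i => Nat.beq (act34 i) i) 34605 2307 = true := by decide +kernel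
theorem c34_16 : allRange (fun i => Nat.beq (act34 i) i) 36912 2307 = true := by decide +kernel
theorem c34_17 : allRange (fun i => Nat.beq (act34 i) i) 39219 2307 = true := by decide +kernel
theorem c34_18 : allRange (fun i => Nat.beq (act34 i) i) 41526 2307 = true := by decide +kernel
theorem c34_19 : allRange (fun i => Nat.beq (act34 i) i) 43833 2307 = true := by decide +kernel
theorem c34_20 : allRange (fun i => Nat.beq (act34 i) i) 46140 2307 = true := by decide +kernel
theorem c34_21 : allRange (fun i => Nat.beq (act34 i) i) 48447 153 = true := by decide +kernel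
theorem h34 : ∀ i, i < T.N → Tab.relActOK T D chk34 i = true := by
  intro i hi
  rw [Tab.relActOK, ← act34_eq]
  exact (range_glue (range_of_allRange c34_0) (range_glue (range_of_allRange c34_1) (range_glue (range_of_allRange c34_2) (range_glue (range_of_allRange c34_3) (range_glue (range_of_allRange c34_4) (range_glue (range_of_allRange c34_5) (range_glue (range_of_allRange c34_6) (range_glue (range_of_allRange c34_7) (range_glue (range_of_allRange c34_8) (range_glue (range_of_allRange c34_9) (range_glue (range_of_allRange c34_10) (range_glue (range_of_allRange c34_11) (range_glue (range_of_allRange c34_12) (range_glue (range_of_allRange c34_13) (range_glue (range_of_allRange c34_14) (range_glue (range_of_allRange c34_15) (range_glue (range_of_allRange c34_16) (range_glue (range_of_allRange c34_17) (range_glue (range_of_allRange c34_18) (range_glue (range_of_allRange c34_19) (range_glue (range_of_allRange c34_20) (range_of_allRange c34_21)))))))))))))))))))))) i (Nat.zero_le _) hi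

def chk35 : List Nat := [3, 4, 2, 5, 5, 5, 3, 4, 0, 3, 4, 2, 5, 5, 5, 3, 4, 0, 3, 4, 2, 5, 5, 5, 3, 4, 0]
noncomputable def act35 (i : Nat) : Nat := col2 (col5 (col3 (col4 (col4 (col4 (col2 (col5 (col1 (col2 (col5 (col3 (col4 (col4 (col4 (col2 (col5 (col1 (col2 (col5 (col3 (col4 (col4 (col4 (col2 (col5 (col1 (i)))))))))))))))))))))))))))
theorem act35_eq (i : Nat) : act35 i = Tab.act T D chk35 i := rfl
theorem c35_0 : allRange (fun i => Nat.beq (act35 i) i) 0 2068 = true := by decide +kernel
theorem c35_1 : allRange (fun i => Nat.beq (act35 i) i) 2068 2068 = true := by decide +kernel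
theorem c35_2 : allRange (fun i => Nat.beq (act35 i) i) 4136 2068 = true := by decide +kernel
theorem c35_3 : allRange (fun i => Nat.beq (act35 i) i) 6204 2068 = true := by decide +kernel
theorem c35_4 : allRange (fun i => Nat.beq (act35 i) i) 8272 2068 = true := by decide +kernel
theorem c35_5 : allRange (fun i => Nat.beq (act35 i) i) 10340 2068 = true := by decide +kernel
theorem c35_6 : allRange (fun i => Nat.beq (act35 i) i) 12408 2068 = true := by decide +kernel
theorem c35_7 : allRange (fun i => Nat.beq (act35 i) i) 14476 2068 = true := by decide +kernel
theorem c35_8 : allRange (fun i => Nat.beq (act35 i) i) 16544 2068 = true := by decide +kernel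
theorem c35_9 : allRange (fun i => Nat.beq (act35 i) i) 18612 2068 = true := by decide +kernel
theorem c35_10 : allRange (fun i => Nat.beq (act35 i) i) 20680 2068 = true := by decide +kernel
theorem c35_11 : allRange (fun i => Nat.beq (act35 i) i) 22748 2068 = true := by decide +kernel
theorem c35_12 : allRange (fun i => Nat.beq (act35 i) i) 24816 2068 = true := by decide +kernel
theorem c35_13 : allRange (fun i => Nat.beq (act35 i) i) 26884 2068 = true := by decide +kernel
theorem c35_14 : allRange (fun i => Nat.beq (act35 i) i) 28952 2068 = true := by decide +kernel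
theorem c35_15 : allRange (fun i => Nat.beq (act35 i) i) 31020 2068 = true := by decide +kernel
theorem c35_16 : allRange (fun i => Nat.beq (act35 i) i) 33088 2068 = true := by decide +kernel
theorem c35_17 : allRange (fun i => Nat.beq (act35 i) i) 35156 2068 = true := by decide +kernel
theorem c35_18 : allRange (fun i => Nat.beq (act35 i) i) 37224 2068 = true := by decide +kernel
theorem c35_19 : allRange (fun i => Nat.beq (act35 i) i) 39292 2068 = true := by decide +kernel
theorem c35_20 : allRange (fun i => Nat.beq (act35 i) i) 41360 2068 = true := by decide +kernel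
theorem c35_21 : allRange (fun i => Nat.beq (act35 i) i) 43428 2068 = true := by decide +kernel
theorem c35_22 : allRange (fun i => Nat.beq (act35 i) i) 45496 2068 = true := by decide +kernel
theorem c35_23 : allRange (fun i => Nat.beq (act35 i) i) 47564 1036 = true := by decide +kernel
theorem h35 : ∀ i, i < T.N → Tab.relActOK T D chk35 i = true := by
  intro i hi
  rw [Tab.relActOK, ← act35_eq]
  exact (range_glue (range_of_allRange c35_0) (range_glue (range_of_allRange c35_1) (range_glue (range_of_allRange c35_2) (range_glue (range_of_allRange c35_3) (range_glue (range_of_allRange c35_4) (range_glue (range_of_allRange c35_5) (range_glue (range_of_allRange c35_6) (range_glue (range_of_allRange c35_7) (range_glue (range_of_allRange c35_8) (range_glue (range_of_allRange c35_9) (range_glue (range_of_allRange c35_10) (range_glue (range_of_allRange c35_11) (range_glue (range_of_allRange c35_12) (range_glue (range_of_allRange c35_13) (range_glue (range_of_allRange c35_14) (range_glue (range_of_allRange c35_15) (range_glue (range_of_allRange c35_16) (range_glue (range_of_allRange c35_17) (range_glue (range_of_allRange c35_18)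 (range_glue (range_of_allRange c35_19) (range_glue (range_of_allRange c35_20) (range_glue (range_of_allRange c35_21) (range_glue (range_of_allRange c35_22) (range_of_allRange c35_23)))))))))))))))))))))))) i (Nat.zero_le _) hi

def chk36 : List Nat := [2, 0, 3, 0, 3, 0, 3, 0, 5, 0, 4, 4, 4, 2, 0, 3, 0, 3, 0, 3, 0, 5, 0, 4, 4, 4, 2, 0, 3, 0, 3, 0, 3, 0, 5, 0, 4, 4, 4]
noncomputable def act36 (i : Nat) : Nat := col3 (col1 (col2 (col1 (col2 (col1 (col2 (col1 (col4 (col1 (col5 (col5 (col5 (col3 (col1 (col2 (col1 (col2 (col1 (col2 (col1 (col4 (col1 (col5 (col5 (col5 (col3 (col1 (col2 (col1 (col2 (col1 (col2 (col1 (col4 (col1 (col5 (col5 (col5 (i)))))))))))))))))))))))))))))))))))))))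
theorem act36_eq (i : Nat) : act36 i = Tab.act T D chk36 i := rfl
theorem c36_0 : allRange (fun i => Nat.beq (act36 i) i) 0 1463 = true := by decide +kernel
theorem c36_1 : allRange (fun i => Nat.beq (act36 i) i) 1463 1463 = true := by decide +kernel
theorem c36_2 : allRange (fun i => Nat.beq (act36 i) i) 2926 1463 = true := by decide +kernel
theorem c36_3 : allRange (fun i => Nat.beq (act36 i) i) 4389 1463 = true := by decide +kernel
theorem c36_4 : allRange (fun i => Nat.beq (act36 i) i) 5852 1463 = true := by decide +kernel
theorem c36_5 : allRange (fun i => Nat.beq (act36 i) i) 7315 1463 = true := by decide +kernel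
theorem c36_6 : allRange (fun i => Nat.beq (act36 i) i) 8778 1463 = true := by decide +kernel
theorem c36_7 : allRange (fun i => Nat.beq (act36 i) i) 10241 1463 = true := by decide +kernel
theorem c36_8 : allRange (fun i => Nat.beq (act36 i) i) 11704 1463 = true := by decide +kernel
theorem c36_9 : allRange (fun i => Nat.beq (act36 i) i) 13167 1463 = true := by decide +kernel
theorem c36_10 : allRange (fun i => Nat.beq (act36 i) i) 14630 1463 = true := by decide +kernel
theorem c36_11 : allRange (fun i => Nat.beq (act36 i) i) 16093 1463 = true := by decide +kernel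
theorem c36_12 : allRange (fun i => Nat.beq (act36 i) i) 17556 1463 = true := by decide +kernel
theorem c36_13 : allRange (fun i => Nat.beq (act36 i) i) 19019 1463 = true := by decide +kernel
theorem c36_14 : allRange (fun i => Nat.beq (act36 i) i) 20482 1463 = true := by decide +kernel
theorem c36_15 : allRange (fun i => Nat.beq (act36 i) i) 21945 1463 = true := by decide +kernel
theorem c36_16 : allRange (fun i => Nat.beq (act36 i) i) 23408 1463 = true := by decide +kernel
theorem c36_17 : allRange (fun i => Nat.beq (act36 i) i) 24871 1463 = true := by decide +kernel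
theorem c36_18 : allRange (fun i => Nat.beq (act36 i) i) 26334 1463 = true := by decide +kernel
theorem c36_19 : allRange (fun i => Nat.beq (act36 i) i) 27797 1463 = true := by decide +kernel
theorem c36_20 : allRange (fun i => Nat.beq (act36 i) i) 29260 1463 = true := by decide +kernel
theorem c36_21 : allRange (fun i => Nat.beq (act36 i) i) 30723 1463 = true := by decide +kernel
theorem c36_22 : allRange (fun i => Nat.beq (act36 i) i) 32186 1463 = true := by decide +kernel
theorem c36_23 : allRange (fun i => Nat.beq (act36 i) i) 33649 1463 = true := by decide +kernel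
theorem c36_24 : allRange (fun i => Nat.beq (act36 i) i) 35112 1463 = true := by decide +kernel
theorem c36_25 : allRange (fun i => Nat.beq (act36 i) i) 36575 1463 = true := by decide +kernel
theorem c36_26 : allRange (fun i => Nat.beq (act36 i) i) 38038 1463 = true := by decide +kernel
theorem c36_27 : allRange (fun i => Nat.beq (act36 i) i) 39501 1463 = true := by decide +kernel
theorem c36_28 : allRange (fun i => Nat.beq (act36 i) i) 40964 1463 = true := by decide +kernel
theorem c36_29 : allRange (fun i => Nat.beq (act36 i) i) 42427 1463 = true := by decide +kernel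
theorem c36_30 : allRange (fun i => Nat.beq (act36 i) i) 43890 1463 = true := by decide +kernel
theorem c36_31 : allRange (fun i => Nat.beq (act36 i) i) 45353 1463 = true := by decide +kernel
theorem c36_32 : allRange (fun i => Nat.beq (act36 i) i) 46816 1463 = true := by decide +kernel
theorem c36_33 : allRange (fun i => Nat.beq (act36 i) i) 48279 321 = true := by decide +kernel
theorem h36 : ∀ i, i < T.N → Tab.relActOK T D chk36 i = true := by
  intro i hi
  rw [Tab.relActOK, ← act36_eq]
  exact (range_glue (range_of_allRange c36_0) (range_glue (range_of_allRange c36_1) (range_glue (range_of_allRange c36_2) (range_glue (range_of_allRange c36_3) (range_glue (range_of_allRange c36_4) (range_glue (range_of_allRange c36_5) (range_glue (range_of_allRange c36_6) (range_glue (range_of_allRange c36_7) (range_glue (range_of_allRange c36_8) (range_glue (range_of_allRange c36_9) (range_glue (range_of_allRange c36_10) (range_glue (range_of_allRange c36_11) (range_glue (range_of_allRange c36_12) (range_glue (range_of_allRange c36_13) (range_glue (range_of_allRange c36_14) (range_glue (range_of_allRange c36_15) (range_glue (range_of_allRange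 c36_16) (range_glue (range_of_allRange c36_17) (range_glue (range_of_allRange c36_18) (range_glue (range_of_allRange c36_19) (range_glue (range_of_allRange c36_20) (range_glue (range_of_allRange c36_21) (range_glue (range_of_allRange c36_22) (range_glue (range_of_allRange c36_23) (range_glue (range_of_allRange c36_24) (range_glue (range_of_allRange c36_25) (range_glue (range_of_allRange c36_26) (range_glue (range_of_allRange c36_27) (range_glue (range_of_allRange c36_28) (range_glue (range_of_allRange c36_29) (range_glue (range_of_allRange c36_30) (range_glue (range_of_allRange c36_31) (range_glue (range_of_allRange c36_32) (range_of_allRange c36_33)))))))))))))))))))))))))))))))))) i (Nat.zero_le _) hi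

def chk37 : List Nat := [6, 2, 2, 0, 3, 4, 3, 3, 4, 2, 7, 2, 4, 2, 4, 4, 3, 1, 3, 3, 1, 2, 1, 3, 3]
noncomputable def act37 (i : Nat) : Nat := col7 (col3 (col3 (col1 (col2 (col5 (col2 (col2 (col5 (col3 (col6 (col3 (col5 (col3 (col5 (col5 (col2 (col0 (col2 (col2 (col0 (col3 (col0 (col2 (col2 (i)))))))))))))))))))))))))
theorem act37_eq (i : Nat) : act37 i = Tab.act T D chk37 i := rfl
theorem c37_0 : allRange (fun i => Nat.beq (act37 i) i) 0 2222 = true := by decide +kernel
theorem c37_1 : allRange (fun i => Nat.beq (act37 i) i) 2222 2222 = true := by decide +kernel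
theorem c37_2 : allRange (fun i => Nat.beq (act37 i) i) 4444 2222 = true := by decide +kernel
theorem c37_3 : allRange (fun i => Nat.beq (act37 i) i) 6666 2222 = true := by decide +kernel
theorem c37_4 : allRange (fun i => Nat.beq (act37 i) i) 8888 2222 = true := by decide +kernel
theorem c37_5 : allRange (fun i => Nat.beq (act37 i) i) 11110 2222 = true := by decide +kernel
theorem c37_6 : allRange (fun i => Nat.beq (act37 i) i) 13332 2222 = true := by decide +kernel
theorem c37_7 : allRange (fun i => Nat.beq (act37 i) i) 15554 2222 = true := by decide +kernel
theorem c37_8 : allRange (fun i => Nat.beq (act37 i) i) 17776 2222 = true := by decide +kernel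
theorem c37_9 : allRange (fun i => Nat.beq (act37 i) i) 19998 2222 = true := by decide +kernel
theorem c37_10 : allRange (fun i => Nat.beq (act37 i) i) 22220 2222 = true := by decide +kernel
theorem c37_11 : allRange (fun i => Nat.beq (act37 i) i) 24442 2222 = true := by decide +kernel
theorem c37_12 : allRange (fun i => Nat.beq (act37 i) i) 26664 2222 = true := by decide +kernel
theorem c37_13 : allRange (fun i => Nat.beq (act37 i) i) 28886 2222 = true := by decide +kernel
theorem c37_14 : allRange (fun i => Nat.beq (act37 i) i) 31108 2222 = true := by decide +kernel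
theorem c37_15 : allRange (fun i => Nat.beq (act37 i) i) 33330 2222 = true := by decide +kernel
theorem c37_16 : allRange (fun i => Nat.beq (act37 i) i) 35552 2222 = true := by decide +kernel
theorem c37_17 : allRange (fun i => Nat.beq (act37 i) i) 37774 2222 = true := by decide +kernel
theorem c37_18 : allRange (fun i => Nat.beq (act37 i) i) 39996 2222 = true := by decide +kernel
theorem c37_19 : allRange (fun i => Nat.beq (act37 i) i) 42218 2222 = true := by decide +kernel
theorem c37_20 : allRange (fun i => Nat.beq (act37 i) i) 44440 2222 = true := by decide +kernel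
theorem c37_21 : allRange (fun i => Nat.beq (act37 i) i) 46662 1938 = true := by decide +kernel
theorem h37 : ∀ i, i < T.N → Tab.relActOK T D chk37 i = true := by
  intro i hi
  rw [Tab.relActOK, ← act37_eq]
  exact (range_glue (range_of_allRange c37_0) (range_glue (range_of_allRange c37_1) (range_glue (range_of_allRange c37_2) (range_glue (range_of_allRange c37_3) (range_glue (range_of_allRange c37_4) (range_glue (range_of_allRange c37_5) (range_glue (range_of_allRange c37_6) (range_glue (range_of_allRange c37_7) (range_glue (range_of_allRange c37_8) (range_glue (range_of_allRange c37_9) (range_glue (range_of_allRange c37_10) (range_glue (range_of_allRange c37_11) (range_glue (range_of_allRange c37_12) (range_glue (range_of_allRange c37_13) (range_glue (range_of_allRange c37_14) (range_glue (range_of_allRange c37_15) (range_glue (range_of_allRange c37_16) (range_glue (range_of_allRange c37_17) (range_glue (range_of_allRange c37_18) (range_glue (range_of_allRange c37_19) (range_glue (range_of_allRange c37_20) (range_of_allRange c37_21)))))))))))))))))))))) i (Nat.zero_le _) hi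

def chk38 : List Nat := [2, 2, 0, 3, 4, 3, 3, 4, 2, 2, 2, 0, 3, 4, 3, 3, 4, 2, 2, 2, 0, 3, 4, 3, 3, 4, 2]
noncomputable def act38 (i : Nat) : Nat := col3 (col3 (col1 (col2 (col5 (col2 (col2 (col5 (col3 (col3 (col3 (col1 (col2 (col5 (col2 (col2 (col5 (col3 (col3 (col3 (col1 (col2 (col5 (col2 (col2 (col5 (col3 (i)))))))))))))))))))))))))))
theorem act38_eq (i : Nat) : act38 i = Tab.act T D chk38 i := rfl
theorem c38_0 : allRange (fun i => Nat.beq (act38 i) i) 0 2068 = true := by decide +kernel
theorem c38_1 : allRange (fun i => Nat.beq (act38 i) i) 2068 2068 = true := by decide +kernel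
theorem c38_2 : allRange (fun i => Nat.beq (act38 i) i) 4136 2068 = true := by decide +kernel
theorem c38_3 : allRange (fun i => Nat.beq (act38 i) i) 6204 2068 = true := by decide +kernel
theorem c38_4 : allRange (fun i => Nat.beq (act38 i) i) 8272 2068 = true := by decide +kernel
theorem c38_5 : allRange (fun i => Nat.beq (act38 i) i) 10340 2068 = true := by decide +kernel
theorem c38_6 : allRange (fun i => Nat.beq (act38 i) i) 12408 2068 = true := by decide +kernel
theorem c38_7 : allRange (fun i => Nat.beq (act38 i) i) 14476 2068 = true := by decide +kernel
theorem c38_8 : allRange (fun i => Nat.beq (act38 i) i) 16544 2068 = true := by decide +kernel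
theorem c38_9 : allRange (fun i => Nat.beq (act38 i) i) 18612 2068 = true := by decide +kernel
theorem c38_10 : allRange (fun i => Nat.beq (act38 i) i) 20680 2068 = true := by decide +kernel
theorem c38_11 : allRange (fun i => Nat.beq (act38 i) i) 22748 2068 = true := by decide +kernel
theorem c38_12 : allRange (fun i => Nat.beq (act38 i) i) 24816 2068 = true := by decide +kernel
theorem c38_13 : allRange (fun i => Nat.beq (act38 i) i) 26884 2068 = true := by decide +kernel
theorem c38_14 : allRange (fun i => Nat.beq (act38 i) i) 28952 2068 = true := by decide +kernel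
theorem c38_15 : allRange (fun i => Nat.beq (act38 i) i) 31020 2068 = true := by decide +kernel
theorem c38_16 : allRange (fun i => Nat.beq (act38 i) i) 33088 2068 = true := by decide +kernel
theorem c38_17 : allRange (fun i => Nat.beq (act38 i) i) 35156 2068 = true := by decide +kernel
theorem c38_18 : allRange (fun i => Nat.beq (act38 i) i) 37224 2068 = true := by decide +kernel
theorem c38_19 : allRange (fun i => Nat.beq (act38 i) i) 39292 2068 = true := by decide +kernel
theorem c38_20 : allRange (fun i => Nat.beq (act38 i) i) 41360 2068 = true := by decide +kernel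
theorem c38_21 : allRange (fun i => Nat.beq (act38 i) i) 43428 2068 = true := by decide +kernel
theorem c38_22 : allRange (fun i => Nat.beq (act38 i) i) 45496 2068 = true := by decide +kernel
theorem c38_23 : allRange (fun i => Nat.beq (act38 i) i) 47564 1036 = true := by decide +kernel
theorem h38 : ∀ i, i < T.N → Tab.relActOK T D chk38 i = true := by
  intro i hi
  rw [Tab.relActOK, ← act38_eq]
  exact (range_glue (range_of_allRange c38_0) (range_glue (range_of_allRange c38_1) (range_glue (range_of_allRange c38_2) (range_glue (range_of_allRange c38_3) (range_glue (range_of_allRange c38_4) (range_glue (range_of_allRange c38_5) (range_glue (range_of_allRange c38_6) (range_glue (range_of_allRange c38_7) (range_glue (range_of_allRange c38_8) (range_glue (range_of_allRange c38_9) (range_glue (range_of_allRange c38_10) (range_glue (range_of_allRange c38_11) (range_glue (range_of_allRange c38_12) (range_glue (range_of_allRange c38_13) (range_glue (range_of_allRange c38_14) (range_glue (range_of_allRange c38_15) (range_glue (range_of_allRange c38_16) (range_glue (range_of_allRange c38_17) (range_glue (range_of_allRange c38_18)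 (range_glue (range_of_allRange c38_19) (range_glue (range_of_allRange c38_20) (range_glue (range_of_allRange c38_21) (range_glue (range_of_allRange c38_22) (range_of_allRange c38_23)))))))))))))))))))))))) i (Nat.zero_le _) hi

def chk39 : List Nat := [2, 2, 0, 3, 0, 2, 2, 0, 2, 5, 5, 3, 5, 3, 2, 2, 0, 3, 0, 2, 2, 0, 2, 5, 5, 3, 5, 3, 2, 2, 0, 3, 0, 2, 2, 0, 2, 5, 5, 3, 5, 3]
noncomputable def act39 (i : Nat) : Nat := col3 (col3 (col1 (col2 (col1 (col3 (col3 (col1 (col3 (col4 (col4 (col2 (col4 (col2 (col3 (col3 (col1 (col2 (col1 (col3 (col3 (col1 (col3 (col4 (col4 (col2 (col4 (col2 (col3 (col3 (col1 (col2 (col1 (col3 (col3 (col1 (col3 (col4 (col4 (col2 (col4 (col2 (i))))))))))))))))))))))))))))))))))))))))))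
theorem act39_eq (i : Nat) : act39 i = Tab.act T D chk39 i := rfl
theorem c39_0 : allRange (fun i => Nat.beq (act39 i) i) 0 1363 = true := by decide +kernel
theorem c39_1 : allRange (fun i => Nat.beq (act39 i) i) 1363 1363 = true := by decide +kernel
theorem c39_2 : allRange (fun i => Nat.beq (act39 i) i) 2726 1363 = true := by decide +kernel
theorem c39_3 : allRange (fun i => Nat.beq (act39 i) i) 4089 1363 = true := by decide +kernel
theorem c39_4 : allRange (fun i => Nat.beq (act39 i) i) 5452 1363 = true := by decide +kernel
theorem c39_5 : allRange (fun i => Nat.beq (act39 i) i) 6815 1363 = true := by decide +kernel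
theorem c39_6 : allRange (fun i => Nat.beq (act39 i) i) 8178 1363 = true := by decide +kernel
theorem c39_7 : allRange (fun i => Nat.beq (act39 i) i) 9541 1363 = true := by decide +kernel
theorem c39_8 : allRange (fun i => Nat.beq (act39 i) i) 10904 1363 = true := by decide +kernel
theorem c39_9 : allRange (fun i => Nat.beq (act39 i) i) 12267 1363 = true := by decide +kernel
theorem c39_10 : allRange (fun i => Nat.beq (act39 i) i) 13630 1363 = true := by decide +kernel
theorem c39_11 : allRange (fun i => Nat.beq (act39 i) i) 14993 1363 = true := by decide +kernel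
theorem c39_12 : allRange (fun i => Nat.beq (act39 i) i) 16356 1363 = true := by decide +kernel
theorem c39_13 : allRange (fun i => Nat.beq (act39 i) i) 17719 1363 = true := by decide +kernel
theorem c39_14 : allRange (fun i => Nat.beq (act39 i) i) 19082 1363 = true := by decide +kernel
theorem c39_15 : allRange (fun i => Nat.beq (act39 i) i) 20445 1363 = true := by decide +kernel
theorem c39_16 : allRange (fun i => Nat.beq (act39 i) i) 21808 1363 = true := by decide +kernel
theorem c39_17 : allRange (fun i => Nat.beq (act39 i) i) 23171 1363 = true := by decide +kernel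
theorem c39_18 : allRange (fun i => Nat.beq (act39 i) i) 24534 1363 = true := by decide +kernel
theorem c39_19 : allRange (fun i => Nat.beq (act39 i) i) 25897 1363 = true := by decide +kernel
theorem c39_20 : allRange (fun i => Nat.beq (act39 i) i) 27260 1363 = true := by decide +kernel
theorem c39_21 : allRange (fun i => Nat.beq (act39 i) i) 28623 1363 = true := by decide +kernel
theorem c39_22 : allRange (fun i => Nat.beq (act39 i) i) 29986 1363 = true := by decide +kernel
theorem c39_23 : allRange (fun i => Nat.beq (act39 i) i) 31349 1363 = true := by decide +kernel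
theorem c39_24 : allRange (fun i => Nat.beq (act39 i) i) 32712 1363 = true := by decide +kernel
theorem c39_25 : allRange (fun i => Nat.beq (act39 i) i) 34075 1363 = true := by decide +kernel
theorem c39_26 : allRange (fun i => Nat.beq (act39 i) i) 35438 1363 = true := by decide +kernel
theorem c39_27 : allRange (fun i => Nat.beq (act39 i) i) 36801 1363 = true := by decide +kernel
theorem c39_28 : allRange (fun i => Nat.beq (act39 i) i) 38164 1363 = true := by decide +kernel
theorem c39_29 : allRange (fun i => Nat.beq (act39 i) i) 39527 1363 = true := by decide +kernel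
theorem c39_30 : allRange (fun i => Nat.beq (act39 i) i) 40890 1363 = true := by decide +kernel
theorem c39_31 : allRange (fun i => Nat.beq (act39 i) i) 42253 1363 = true := by decide +kernel
theorem c39_32 : allRange (fun i => Nat.beq (act39 i) i) 43616 1363 = true := by decide +kernel
theorem c39_33 : allRange (fun i => Nat.beq (act39 i) i) 44979 1363 = true := by decide +kernel
theorem c39_34 : allRange (fun i => Nat.beq (act39 i) i) 46342 1363 = true := by decide +kernel
theorem c39_35 : allRange (fun i => Nat.beq (act39 i) i) 47705 895 = true := by decide +kernel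
theorem h39 : ∀ i, i < T.N → Tab.relActOK T D chk39 i = true := by
  intro i hi
  rw [Tab.relActOK, ← act39_eq]
  exact (range_glue (range_of_allRange c39_0) (range_glue (range_of_allRange c39_1) (range_glue (range_of_allRange c39_2) (range_glue (range_of_allRange c39_3) (range_glue (range_of_allRange c39_4) (range_glue (range_of_allRange c39_5) (range_glue (range_of_allRange c39_6) (range_glue (range_of_allRange c39_7) (range_glue (range_of_allRange c39_8) (range_glue (range_of_allRange c39_9) (range_glue (range_of_allRange c39_10) (range_glue (range_of_allRange c39_11) (range_glue (range_of_allRange c39_12) (range_glue (range_of_allRange c39_13) (range_glue (range_of_allRange c39_14) (range_glue (range_of_allRange c39_15) (range_glue (range_of_allRange c39_16) (range_glue (range_of_allRange c39_17) (range_glue (range_of_allRange c39_18) (range_glue (range_of_allRange c39_19) (range_glue (range_of_allRange c39_20) (range_glue (range_of_allRange c39_21) (range_glue (range_of_allRange c39_22) (range_glue (range_of_allRange c39_23) (range_glue (range_of_allRange c39_24) (range_glue (range_of_allRange c39_25) (range_glue (range_of_allRange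 c39_26) (range_glue (range_of_allRange c39_27) (range_glue (range_of_allRange c39_28) (range_glue (range_of_allRange c39_29) (range_glue (range_of_allRange c39_30) (range_glue (range_of_allRange c39_31) (range_glue (range_of_allRange c39_32) (range_glue (range_of_allRange c39_33) (range_glue (range_of_allRange c39_34) (range_of_allRange c39_35)))))))))))))))))))))))))))))))))))) i (Nat.zero_le _) hi

def chkAll : List (List Nat) := [chk0, chk1, chk2, chk3, chk4, chk5, chk6, chk7, chk8, chk9, chk10, chk11, chk12, chk13, chk14, chk15, chk16, chk17, chk18, chk19, chk20, chk21, chk22, chk23, chk24, chk25, chk26, chk27, chk28, chk29, chk30, chk31, chk32, chk33, chk34, chk35, chk36, chk37, chk38, chk39]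
theorem hAll : ∀ w ∈ chkAll, ∀ i, i < T.N → Tab.relActOK T D w i = true := by
  intro w hw
  simp only [chkAll, List.mem_cons, List.not_mem_nil, or_false] at hw
  rcases hw with rfl | rfl | rfl | rfl | rfl | rfl | rfl | rfl | rfl | rfl | rfl | rfl | rfl | rfl | rfl | rfl | rfl | rfl | rfl | rfl | rfl | rfl | rfl | rfl | rfl | rfl | rfl | rfl | rfl | rfl | rfl | rfl | rfl | rfl | rfl | rfl | rfl | rfl | rfl | rfl
  · exact h0
  · exact h1
  · exact h2
  · exact h3
  · exact h4
  · exact h5
  · exact h6
  · exact h7
  · exact h8
  · exact h9
  · exact h10
  · exact h11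
  · exact h12
  · exact h13
  · exact h14
  · exact h15
  · exact h16
  · exact h17
  · exact h18
  · exact h19
  · exact h20
  · exact h21
  · exact h22
  · exact h23
  · exact h24
  · exact h25
  · exact h26
  · exact h27
  · exact h28
  · exact h29
  · exact h30
  · exact h31
  · exact h32
  · exact h33
  · exact h34
  · exact h35
  · exact h36
  · exact h37
  · exact h38
  · exact h39
theorem hAll_lt : ∀ w ∈ chkAll, ∀ x ∈ w, x < 8 := by decide +kernel

end Cfsg.Agent.Lib.Helper4.TCD.SCo3pp2W
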