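import Cfsg.Agent.Lib.Helper4.TCD_SCo3pp3A_Acc

namespace Cfsg.Agent.Lib.Helper4.TCD.SCo3pp3A

open Cfsg.Agent.Lib.Helper4.TC

set_option maxRecDepth 100000
set_option Elab.async false

theorem c_rel_85 : allRange D.relOK 234067 1925 = true := by decide +kernel
theorem c_rel_86 : allRange D.relOK 235992 1849 = true := by decide +kernel
theorem c_rel_87 : allRange D.relOK 237841 2013 = true := by decide +kernel
theorem c_rel_88 : allRange D.relOK 239854 1739 = true := by decide +kernel
theorem c_rel_89 : allRange D.relOK 241593 1487 = true := by decide +kernel
theorem c_rel_90 : allRange D.relOK 243080 1807 = true := by decide +kernel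
theorem c_rel_91 : allRange D.relOK 244887 1859 = true := by decide +kernel
theorem c_rel_92 : allRange D.relOK 246746 1762 = true := by decide +kernel
theorem c_rel_93 : allRange D.relOK 248508 1247 = true := by decide +kernel
theorem c_rel_94 : allRange D.relOK 249755 1546 = true := by decide +kernel
theorem c_rel_95 : allRange D.relOK 251301 1523 = true := by decide +kernel
theorem c_rel_96 : allRange D.relOK 252824 1435 = true := by decide +kernel
theorem c_rel_97 : allRange D.relOK 254259 1370 = true := by decide +kernel
theorem c_rel_98 : allRange D.relOK 255629 1571 = true := by decide +kernel
theorem c_rel_99 : allRange D.relOK 257200 1915 = true := by decide +kernel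
theorem c_rel_100 : allRange D.relOK 259115 1341 = true := by decide +kernel
theorem c_rel_101 : allRange D.relOK 260456 1312 = true := by decide +kernel
theorem c_rel_102 : allRange D.relOK 261768 1356 = true := by decide +kernel
theorem c_rel_103 : allRange D.relOK 263124 1435 = true := by decide +kernel
theorem c_rel_104 : allRange D.relOK 264559 1738 = true := by decide +kernel
theorem c_rel_105 : allRange D.relOK 266297 1596 = true := by decide +kernel
theorem c_rel_106 : allRange D.relOK 267893 1657 = true := by decide +kernel
theorem c_rel_107 : allRange D.relOK 269550 1569 = true := by decide +kernel
theorem c_rel_108 : allRange D.relOK 271119 1426 = true := by decide +kernel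
theorem c_rel_109 : allRange D.relOK 272545 1538 = true := by decide +kernel
theorem c_rel_110 : allRange D.relOK 274083 1594 = true := by decide +kernel
theorem c_rel_111 : allRange D.relOK 275677 1397 = true := by decide +kernel
theorem c_rel_112 : allRange D.relOK 277074 1625 = true := by decide +kernel
theorem c_rel_113 : allRange D.relOK 278699 1395 = true := by decide +kernel
theorem c_rel_114 : allRange D.relOK 280094 1390 = true := by decide +kernel
theorem c_rel_115 : allRange D.relOK 281484 1546 = true := by decide +kernel
theorem c_rel_116 : allRange D.relOK 283030 1553 = true := by decide +kernel
theorem c_rel_117 : allRange D.relOK 284583 1592 = true := by decide +kernel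
theorem c_rel_118 : allRange D.relOK 286175 1427 = true := by decide +kernel
theorem c_rel_119 : allRange D.relOK 287602 1462 = true := by decide +kernel
theorem c_rel_120 : allRange D.relOK 289064 1524 = true := by decide +kernel
theorem c_rel_121 : allRange D.relOK 290588 1573 = true := by decide +kernel
theorem c_rel_122 : allRange D.relOK 292161 1580 = true := by decide +kernel
theorem c_rel_123 : allRange D.relOK 293741 1351 = true := by decide +kernel
theorem c_rel_124 : allRange D.relOK 295092 1531 = true := by decide +kernel
theorem c_rel_125 : allRange D.relOK 296623 1567 = true := by decide +kernel
theorem c_rel_126 : allRange D.relOK 298190 1347 = true := by decide +kernel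
theorem c_rel_127 : allRange D.relOK 299537 1486 = true := by decide +kernel
theorem c_rel_128 : allRange D.relOK 301023 1429 = true := by decide +kernel
theorem c_rel_129 : allRange D.relOK 302452 1449 = true := by decide +kernel
theorem c_rel_130 : allRange D.relOK 303901 1405 = true := by decide +kernel
theorem c_rel_131 : allRange D.relOK 305306 1307 = true := by decide +kernel
theorem c_rel_132 : allRange D.relOK 306613 1484 = true := by decide +kernel
theorem c_rel_133 : allRange D.relOK 308097 1356 = true := by decide +kernel
theorem c_rel_134 : allRange D.relOK 309453 1421 = true := by decide +kernel
theorem c_rel_135 : allRange D.relOK 310874 1616 = true := by decide +kernel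
theorem c_rel_136 : allRange D.relOK 312490 1415 = true := by decide +kernel
theorem c_rel_137 : allRange D.relOK 313905 1422 = true := by decide +kernel
theorem c_rel_138 : allRange D.relOK 315327 1343 = true := by decide +kernel
theorem c_rel_139 : allRange D.relOK 316670 1420 = true := by decide +kernel
theorem c_rel_140 : allRange D.relOK 318090 1378 = true := by decide +kernel
theorem c_rel_141 : allRange D.relOK 319468 1293 = true := by decide +kernel
theorem c_rel_142 : allRange D.relOK 320761 1353 = true := by decide +kernel
theorem c_rel_143 : allRange D.relOK 322114 1439 = true := by decide +kernel
theorem c_rel_144 : allRange D.relOK 323553 1322 = true := by decide +kernel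
theorem c_rel_145 : allRange D.relOK 324875 1550 = true := by decide +kernel
theorem c_rel_146 : allRange D.relOK 326425 1534 = true := by decide +kernel
theorem c_rel_147 : allRange D.relOK 327959 1317 = true := by decide +kernel
theorem c_rel_148 : allRange D.relOK 329276 1287 = true := by decide +kernel
theorem c_rel_149 : allRange D.relOK 330563 1421 = true := by decide +kernel
theorem c_rel_150 : allRange D.relOK 331984 1403 = true := by decide +kernel
theorem c_rel_151 : allRange D.relOK 333387 1281 = true := by decide +kernel
theorem c_rel_152 : allRange D.relOK 334668 1747 = true := by decide +kernel
theorem c_rel_153 : allRange D.relOK 336415 1638 = true := by decide +kernel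
theorem c_rel_154 : allRange D.relOK 338053 1437 = true := by decide +kernel
theorem c_rel_155 : allRange D.relOK 339490 1459 = true := by decide +kernel
theorem c_rel_156 : allRange D.relOK 340949 1491 = true := by decide +kernel
theorem c_rel_157 : allRange D.relOK 342440 1434 = true := by decide +kernel
theorem c_rel_158 : allRange D.relOK 343874 1443 = true := by decide +kernel
theorem c_rel_159 : allRange D.relOK 345317 1324 = true := by decide +kernel
theorem c_rel_160 : allRange D.relOK 346641 1570 = true := by decide +kernel
theorem c_rel_161 : allRange D.relOK 348211 1389 = true := by decide +kernel
theorem c_rel_162 : allRange D.relOK 349600 1227 = true := by decide +kernel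
theorem c_rel_163 : allRange D.relOK 350827 1207 = true := by decide +kernel
theorem c_rel_164 : allRange D.relOK 352034 1328 = true := by decide +kernel
theorem c_rel_165 : allRange D.relOK 353362 1236 = true := by decide +kernel
theorem c_rel_166 : allRange D.relOK 354598 1473 = true := by decide +kernel
theorem c_rel_167 : allRange D.relOK 356071 1373 = true := by decide +kernel
theorem c_rel_168 : allRange D.relOK 357444 1295 = true := by decide +kernel
theorem c_rel_169 : allRange D.relOK 358739 1239 = true := by decide +kernel
theorem c_rel_170 : allRange D.relOK 359978 1396 = true := by decide +kernel
theorem c_rel_171 : allRange D.relOK 361374 1432 = true := by decide +kernel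
theorem c_rel_172 : allRange D.relOK 362806 1342 = true := by decide +kernel
theorem c_rel_173 : allRange D.relOK 364148 1296 = true := by decide +kernel
theorem c_rel_174 : allRange D.relOK 365444 1219 = true := by decide +kernel
theorem c_rel_175 : allRange D.relOK 366663 1290 = true := by decide +kernel
theorem c_rel_176 : allRange D.relOK 367953 1230 = true := by decide +kernel
theorem c_rel_177 : allRange D.relOK 369183 1243 = true := by decide +kernel
theorem c_rel_178 : allRange D.relOK 370426 1285 = true := by decide +kernel
theorem c_rel_179 : allRange D.relOK 371711 1233 = true := by decide +kernel
theorem c_rel_180 : allRange D.relOK 372944 1280 = true := by decide +kernel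
theorem c_rel_181 : allRange D.relOK 374224 1311 = true := by decide +kernel
theorem c_rel_182 : allRange D.relOK 375535 1265 = true := by decide +kernel
theorem c_rel_183 : allRange D.relOK 376800 1314 = true := by decide +kernel

end Cfsg.Agent.Lib.Helper4.TCD.SCo3pp3A
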