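import Cfsg.Agent.Lib.Helper4.TCD_SCo3pp3A_Acc

namespace Cfsg.Agent.Lib.Helper4.TCD.SCo3pp3A

open Cfsg.Agent.Lib.Helper4.TC

set_option maxRecDepth 100000
set_option Elab.async false

theorem c_act47_13 : allRange (fun i => Nat.beq (actR47 i) i) 32500 2500 = true := by decide +kernel
theorem c_act47_14 : allRange (fun i => Nat.beq (actR47 i) i) 35000 2500 = true := by decide +kernel
theorem c_act47_15 : allRange (fun i => Nat.beq (actR47 i) i) 37500 2500 = true := by decide +kernel
theorem c_act47_16 : allRange (fun i => Nat.beq (actR47 i) i) 40000 2500 = true := by decide +kernel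
theorem c_act47_17 : allRange (fun i => Nat.beq (actR47 i) i) 42500 2500 = true := by decide +kernel
theorem c_act47_18 : allRange (fun i => Nat.beq (actR47 i) i) 45000 2500 = true := by decide +kernel
theorem c_act47_19 : allRange (fun i => Nat.beq (actR47 i) i) 47500 1100 = true := by decide +kernel

end Cfsg.Agent.Lib.Helper4.TCD.SCo3pp3A
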