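import Cfsg.Agent.Lib.Helper4.TCD_SCo3pp3A_Acc

namespace Cfsg.Agent.Lib.Helper4.TCD.SCo3pp3A

open Cfsg.Agent.Lib.Helper4.TC

set_option maxRecDepth 100000
set_option Elab.async false

theorem c_rel_184 : allRange D.relOK 378114 1345 = true := by decide +kernel
theorem c_rel_185 : allRange D.relOK 379459 1360 = true := by decide +kernel
theorem c_rel_186 : allRange D.relOK 380819 1303 = true := by decide +kernel
theorem c_rel_187 : allRange D.relOK 382122 1331 = true := by decide +kernel
theorem c_rel_188 : allRange D.relOK 383453 1219 = true := by decide +kernel
theorem c_rel_189 : allRange D.relOK 384672 1290 = true := by decide +kernel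
theorem c_rel_190 : allRange D.relOK 385962 1292 = true := by decide +kernel
theorem c_rel_191 : allRange D.relOK 387254 1284 = true := by decide +kernel
theorem c_rel_192 : allRange D.relOK 388538 1296 = true := by decide +kernel
theorem c_rel_193 : allRange D.relOK 389834 1255 = true := by decide +kernel
theorem c_rel_194 : allRange D.relOK 391089 1311 = true := by decide +kernel
theorem c_rel_195 : allRange D.relOK 392400 1402 = true := by decide +kernel
theorem c_rel_196 : allRange D.relOK 393802 1234 = true := by decide +kernel
theorem c_rel_197 : allRange D.relOK 395036 1299 = true := by decide +kernel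
theorem c_rel_198 : allRange D.relOK 396335 1359 = true := by decide +kernel
theorem c_rel_199 : allRange D.relOK 397694 1250 = true := by decide +kernel
theorem c_rel_200 : allRange D.relOK 398944 1275 = true := by decide +kernel
theorem c_rel_201 : allRange D.relOK 400219 1222 = true := by decide +kernel
theorem c_rel_202 : allRange D.relOK 401441 1299 = true := by decide +kernel
theorem c_rel_203 : allRange D.relOK 402740 1223 = true := by decide +kernel
theorem c_rel_204 : allRange D.relOK 403963 1191 = true := by decide +kernel
theorem c_rel_205 : allRange D.relOK 405154 1252 = true := by decide +kernel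
theorem c_rel_206 : allRange D.relOK 406406 1222 = true := by decide +kernel
theorem c_rel_207 : allRange D.relOK 407628 1187 = true := by decide +kernel
theorem c_rel_208 : allRange D.relOK 408815 1169 = true := by decide +kernel
theorem c_rel_209 : allRange D.relOK 409984 1129 = true := by decide +kernel
theorem c_rel_210 : allRange D.relOK 411113 1149 = true := by decide +kernel
theorem c_rel_211 : allRange D.relOK 412262 1112 = true := by decide +kernel
theorem c_rel_212 : allRange D.relOK 413374 1182 = true := by decide +kernel
theorem c_rel_213 : allRange D.relOK 414556 1203 = true := by decide +kernel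
theorem c_rel_214 : allRange D.relOK 415759 1143 = true := by decide +kernel
theorem c_rel_215 : allRange D.relOK 416902 4084 = true := by decide +kernel
theorem c_rel_216 : allRange D.relOK 420986 4902 = true := by decide +kernel
theorem c_rel_217 : allRange D.relOK 425888 4870 = true := by decide +kernel
theorem c_rel_218 : allRange D.relOK 430758 4956 = true := by decide +kernel
theorem c_rel_219 : allRange D.relOK 435714 4950 = true := by decide +kernel
theorem c_rel_220 : allRange D.relOK 440664 4959 = true := by decide +kernel
theorem c_rel_221 : allRange D.relOK 445623 4953 = true := by decide +kernel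
theorem c_rel_222 : allRange D.relOK 450576 4965 = true := by decide +kernel
theorem c_rel_223 : allRange D.relOK 455541 4959 = true := by decide +kernel
theorem c_rel_224 : allRange D.relOK 460500 1208 = true := by decide +kernel
theorem c_fin_0 : allGrid (T.finOK D) 0 750 16 = true := by decide +kernel
theorem c_fin_1 : allGrid (T.finOK D) 750 750 16 = true := by decide +kernel
theorem c_fin_2 : allGrid (T.finOK D) 1500 750 16 = true := by decide +kernel
theorem c_fin_3 : allGrid (T.finOK D) 2250 750 16 = true := by decide +kernel
theorem c_fin_4 : allGrid (T.finOK D) 3000 750 16 = true := by decide +kernel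
theorem c_fin_5 : allGrid (T.finOK D) 3750 750 16 = true := by decide +kernel
theorem c_fin_6 : allGrid (T.finOK D) 4500 750 16 = true := by decide +kernel
theorem c_fin_7 : allGrid (T.finOK D) 5250 750 16 = true := by decide +kernel
theorem c_fin_8 : allGrid (T.finOK D) 6000 750 16 = true := by decide +kernel
theorem c_fin_9 : allGrid (T.finOK D) 6750 750 16 = true := by decide +kernel
theorem c_fin_10 : allGrid (T.finOK D) 7500 750 16 = true := by decide +kernel
theorem c_fin_11 : allGrid (T.finOK D) 8250 750 16 = true := by decide +kernel
theorem c_fin_12 : allGrid (T.finOK D) 9000 750 16 = true := by decide +kernel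
theorem c_fin_13 : allGrid (T.finOK D) 9750 750 16 = true := by decide +kernel
theorem c_fin_14 : allGrid (T.finOK D) 10500 750 16 = true := by decide +kernel
theorem c_fin_15 : allGrid (T.finOK D) 11250 750 16 = true := by decide +kernel
theorem c_fin_16 : allGrid (T.finOK D) 12000 750 16 = true := by decide +kernel
theorem c_fin_17 : allGrid (T.finOK D) 12750 750 16 = true := by decide +kernel
theorem c_fin_18 : allGrid (T.finOK D) 13500 750 16 = true := by decide +kernel
theorem c_fin_19 : allGrid (T.finOK D) 14250 750 16 = true := by decide +kernel
theorem c_fin_20 : allGrid (T.finOK D) 15000 750 16 = true := by decide +kernel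
theorem c_fin_21 : allGrid (T.finOK D) 15750 750 16 = true := by decide +kernel
theorem c_fin_22 : allGrid (T.finOK D) 16500 750 16 = true := by decide +kernel
theorem c_fin_23 : allGrid (T.finOK D) 17250 750 16 = true := by decide +kernel
theorem c_fin_24 : allGrid (T.finOK D) 18000 750 16 = true := by decide +kernel
theorem c_fin_25 : allGrid (T.finOK D) 18750 750 16 = true := by decide +kernel
theorem c_fin_26 : allGrid (T.finOK D) 19500 750 16 = true := by decide +kernel
theorem c_fin_27 : allGrid (T.finOK D) 20250 750 16 = true := by decide +kernel
theorem c_fin_28 : allGrid (T.finOK D) 21000 750 16 = true := by decide +kernel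

end Cfsg.Agent.Lib.Helper4.TCD.SCo3pp3A
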