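import Cfsg.Agent.Lib.Helper4.TCD_SCo3pp3A_Acc

namespace Cfsg.Agent.Lib.Helper4.TCD.SCo3pp3A

open Cfsg.Agent.Lib.Helper4.TC

set_option maxRecDepth 100000
set_option Elab.async false

theorem c_fin_29 : allGrid (T.finOK D) 21750 750 16 = true := by decide +kernel
theorem c_fin_30 : allGrid (T.finOK D) 22500 750 16 = true := by decide +kernel
theorem c_fin_31 : allGrid (T.finOK D) 23250 750 16 = true := by decide +kernel
theorem c_fin_32 : allGrid (T.finOK D) 24000 750 16 = true := by decide +kernel
theorem c_fin_33 : allGrid (T.finOK D) 24750 750 16 = true := by decide +kernel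
theorem c_fin_34 : allGrid (T.finOK D) 25500 750 16 = true := by decide +kernel
theorem c_fin_35 : allGrid (T.finOK D) 26250 750 16 = true := by decide +kernel
theorem c_fin_36 : allGrid (T.finOK D) 27000 750 16 = true := by decide +kernel
theorem c_fin_37 : allGrid (T.finOK D) 27750 750 16 = true := by decide +kernel
theorem c_fin_38 : allGrid (T.finOK D) 28500 750 16 = true := by decide +kernel
theorem c_fin_39 : allGrid (T.finOK D) 29250 750 16 = true := by decide +kernel
theorem c_fin_40 : allGrid (T.finOK D) 30000 750 16 = true := by decide +kernel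
theorem c_fin_41 : allGrid (T.finOK D) 30750 750 16 = true := by decide +kernel
theorem c_fin_42 : allGrid (T.finOK D) 31500 750 16 = true := by decide +kernel
theorem c_fin_43 : allGrid (T.finOK D) 32250 750 16 = true := by decide +kernel
theorem c_fin_44 : allGrid (T.finOK D) 33000 750 16 = true := by decide +kernel
theorem c_fin_45 : allGrid (T.finOK D) 33750 750 16 = true := by decide +kernel
theorem c_fin_46 : allGrid (T.finOK D) 34500 750 16 = true := by decide +kernel
theorem c_fin_47 : allGrid (T.finOK D) 35250 750 16 = true := by decide +kernel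
theorem c_fin_48 : allGrid (T.finOK D) 36000 750 16 = true := by decide +kernel
theorem c_fin_49 : allGrid (T.finOK D) 36750 750 16 = true := by decide +kernel
theorem c_fin_50 : allGrid (T.finOK D) 37500 750 16 = true := by decide +kernel
theorem c_fin_51 : allGrid (T.finOK D) 38250 750 16 = true := by decide +kernel
theorem c_fin_52 : allGrid (T.finOK D) 39000 750 16 = true := by decide +kernel
theorem c_fin_53 : allGrid (T.finOK D) 39750 750 16 = true := by decide +kernel
theorem c_fin_54 : allGrid (T.finOK D) 40500 750 16 = true := by decide +kernel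
theorem c_fin_55 : allGrid (T.finOK D) 41250 750 16 = true := by decide +kernel
theorem c_fin_56 : allGrid (T.finOK D) 42000 750 16 = true := by decide +kernel
theorem c_fin_57 : allGrid (T.finOK D) 42750 750 16 = true := by decide +kernel
theorem c_fin_58 : allGrid (T.finOK D) 43500 750 16 = true := by decide +kernel
theorem c_fin_59 : allGrid (T.finOK D) 44250 750 16 = true := by decide +kernel
theorem c_fin_60 : allGrid (T.finOK D) 45000 750 16 = true := by decide +kernel
theorem c_fin_61 : allGrid (T.finOK D) 45750 750 16 = true := by decide +kernel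
theorem c_fin_62 : allGrid (T.finOK D) 46500 750 16 = true := by decide +kernel
theorem c_fin_63 : allGrid (T.finOK D) 47250 750 16 = true := by decide +kernel
theorem c_fin_64 : allGrid (T.finOK D) 48000 600 16 = true := by decide +kernel
theorem c_perm_0 : allGrid (T.permOK1 D) 0 1875 16 = true := by decide +kernel
theorem c_perm_1 : allGrid (T.permOK1 D) 1875 1875 16 = true := by decide +kernel
theorem c_perm_2 : allGrid (T.permOK1 D) 3750 1875 16 = true := by decide +kernel
theorem c_perm_3 : allGrid (T.permOK1 D) 5625 1875 16 = true := by decide +kernel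
theorem c_perm_4 : allGrid (T.permOK1 D) 7500 1875 16 = true := by decide +kernel
theorem c_perm_5 : allGrid (T.permOK1 D) 9375 1875 16 = true := by decide +kernel
theorem c_perm_6 : allGrid (T.permOK1 D) 11250 1875 16 = true := by decide +kernel
theorem c_perm_7 : allGrid (T.permOK1 D) 13125 1875 16 = true := by decide +kernel
theorem c_perm_8 : allGrid (T.permOK1 D) 15000 1875 16 = true := by decide +kernel
theorem c_perm_9 : allGrid (T.permOK1 D) 16875 1875 16 = true := by decide +kernel
theorem c_perm_10 : allGrid (T.permOK1 D) 18750 1875 16 = true := by decide +kernel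
theorem c_perm_11 : allGrid (T.permOK1 D) 20625 1875 16 = true := by decide +kernel
theorem c_perm_12 : allGrid (T.permOK1 D) 22500 1875 16 = true := by decide +kernel
theorem c_perm_13 : allGrid (T.permOK1 D) 24375 1875 16 = true := by decide +kernel

end Cfsg.Agent.Lib.Helper4.TCD.SCo3pp3A
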