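import Cfsg.Agent.Lib.Helper4.TCD_Co3pA_Acc
import Cfsg.Agent.Lib.Helper4.TC13

namespace Cfsg.Agent.Lib.Helper4.TCD.SCo3pp3W

open Cfsg.Agent.Lib.Helper4.TC Cfsg.Agent.Lib.Helper4.TCD.Co3pA

set_option maxRecDepth 100000
set_option Elab.async false

def chk0 : List Nat := [0, 0]
noncomputable def act0 (i : Nat) : Nat := col1 (col1 (i))
theorem act0_eq (i : Nat) : act0 i = Tab.act T D chk0 i := rfl
theorem c0_0 : allRange (fun i => Nat.beq (act0 i) i) 0 15000 = true := by decide +kernel
theorem c0_1 : allRange (fun i => Nat.beq (act0 i) i) 15000 15000 = true := by decide +kernel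
theorem c0_2 : allRange (fun i => Nat.beq (act0 i) i) 30000 15000 = true := by decide +kernel
theorem c0_3 : allRange (fun i => Nat.beq (act0 i) i) 45000 3600 = true := by decide +kernel
theorem h0 : ∀ i, i < T.N → Tab.relActOK T D chk0 i = true := by
  intro i hi
  rw [Tab.relActOK, ← act0_eq]
  exact (range_glue (range_of_allRange c0_0) (range_glue (range_of_allRange c0_1) (range_glue (range_of_allRange c0_2) (range_of_allRange c0_3)))) i (Nat.zero_le _) hi

def chk1 : List Nat := [2, 2, 2, 2]
noncomputable def act1 (i : Nat) : Nat := col3 (col3 (col3 (col3 (i))))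
theorem act1_eq (i : Nat) : act1 i = Tab.act T D chk1 i := rfl
theorem c1_0 : allRange (fun i => Nat.beq (act1 i) i) 0 10000 = true := by decide +kernel
theorem c1_1 : allRange (fun i => Nat.beq (act1 i) i) 10000 10000 = true := by decide +kernel
theorem c1_2 : allRange (fun i => Nat.beq (act1 i) i) 20000 10000 = true := by decide +kernel
theorem c1_3 : allRange (fun i => Nat.beq (act1 i) i) 30000 10000 = true := by decide +kernel
theorem c1_4 : allRange (fun i => Nat.beq (act1 i) i) 40000 8600 = true := by decide +kernel
theorem h1 : ∀ i, i < T.N → Tab.relActOK T D chk1 i = true := by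
  intro i hi
  rw [Tab.relActOK, ← act1_eq]
  exact (range_glue (range_of_allRange c1_0) (range_glue (range_of_allRange c1_1) (range_glue (range_of_allRange c1_2) (range_glue (range_of_allRange c1_3) (range_of_allRange c1_4))))) i (Nat.zero_le _) hi

def chk2 : List Nat := [4, 4, 4, 4, 4, 4, 4, 4, 4, 4, 4, 4, 4, 4, 4, 4, 4, 4, 4, 4, 4, 4, 4]
noncomputable def act2 (i : Nat) : Nat := col5 (col5 (col5 (col5 (col5 (col5 (col5 (col5 (col5 (col5 (col5 (col5 (col5 (col5 (col5 (col5 (col5 (col5 (col5 (col5 (col5 (col5 (col5 (i)))))))))))))))))))))))
theorem act2_eq (i : Nat) : act2 i = Tab.act T D chk2 i := rfl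
theorem c2_0 : allRange (fun i => Nat.beq (act2 i) i) 0 2400 = true := by decide +kernel
theorem c2_1 : allRange (fun i => Nat.beq (act2 i) i) 2400 2400 = true := by decide +kernel
theorem c2_2 : allRange (fun i => Nat.beq (act2 i) i) 4800 2400 = true := by decide +kernel
theorem c2_3 : allRange (fun i => Nat.beq (act2 i) i) 7200 2400 = true := by decide +kernel
theorem c2_4 : allRange (fun i => Nat.beq (act2 i) i) 9600 2400 = true := by decide +kernel
theorem c2_5 : allRange (fun i => Nat.beq (act2 i) i) 12000 2400 = true := by decide +kernel
theorem c2_6 : allRange (fun i => Nat.beq (act2 i) i) 14400 2400 = true := by decide +kernel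
theorem c2_7 : allRange (fun i => Nat.beq (act2 i) i) 16800 2400 = true := by decide +kernel
theorem c2_8 : allRange (fun i => Nat.beq (act2 i) i) 19200 2400 = true := by decide +kernel
theorem c2_9 : allRange (fun i => Nat.beq (act2 i) i) 21600 2400 = true := by decide +kernel
theorem c2_10 : allRange (fun i => Nat.beq (act2 i) i) 24000 2400 = true := by decide +kernel
theorem c2_11 : allRange (fun i => Nat.beq (act2 i) i) 26400 2400 = true := by decide +kernel
theorem c2_12 : allRange (fun i => Nat.beq (act2 i) i) 28800 2400 = true := by decide +kernel
theorem c2_13 : allRange (fun i => Nat.beq (act2 i) i) 31200 2400 = true := by decide +kernel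
theorem c2_14 : allRange (fun i => Nat.beq (act2 i) i) 33600 2400 = true := by decide +kernel
theorem c2_15 : allRange (fun i => Nat.beq (act2 i) i) 36000 2400 = true := by decide +kernel
theorem c2_16 : allRange (fun i => Nat.beq (act2 i) i) 38400 2400 = true := by decide +kernel
theorem c2_17 : allRange (fun i => Nat.beq (act2 i) i) 40800 2400 = true := by decide +kernel
theorem c2_18 : allRange (fun i => Nat.beq (act2 i) i) 43200 2400 = true := by decide +kernel
theorem c2_19 : allRange (fun i => Nat.beq (act2 i) i) 45600 2400 = true := by decide +kernel
theorem c2_20 : allRange (fun i => Nat.beq (act2 i) i) 48000 600 = true := by decide +kernel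
theorem h2 : ∀ i, i < T.N → Tab.relActOK T D chk2 i = true := by
  intro i hi
  rw [Tab.relActOK, ← act2_eq]
  exact (range_glue (range_of_allRange c2_0) (range_glue (range_of_allRange c2_1) (range_glue (range_of_allRange c2_2) (range_glue (range_of_allRange c2_3) (range_glue (range_of_allRange c2_4) (range_glue (range_of_allRange c2_5) (range_glue (range_of_allRange c2_6) (range_glue (range_of_allRange c2_7) (range_glue (range_of_allRange c2_8) (range_glue (range_of_allRange c2_9) (range_glue (range_of_allRange c2_10) (range_glue (range_of_allRange c2_11) (range_glue (range_of_allRange c2_12) (range_glue (range_of_allRange c2_13) (range_glue (range_of_allRange c2_14) (range_glue (range_of_allRange c2_15) (range_glue (range_of_allRange c2_16) (range_glue (range_of_allRange c2_17) (range_glue (range_of_allRange c2_18) (range_glue (range_of_allRange c2_19) (range_of_allRange c2_20))))))))))))))))))))) i (Nat.zero_le _) hi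

def chk3 : List Nat := [6, 6]
noncomputable def act3 (i : Nat) : Nat := col7 (col7 (i))
theorem act3_eq (i : Nat) : act3 i = Tab.act T D chk3 i := rfl
theorem c3_0 : allRange (fun i => Nat.beq (act3 i) i) 0 15000 = true := by decide +kernel
theorem c3_1 : allRange (fun i => Nat.beq (act3 i) i) 15000 15000 = true := by decide +kernel
theorem c3_2 : allRange (fun i => Nat.beq (act3 i) i) 30000 15000 = true := by decide +kernel
theorem c3_3 : allRange (fun i => Nat.beq (act3 i) i) 45000 3600 = true := by decide +kernel
theorem h3 : ∀ i, i < T.N → Tab.relActOK T D chk3 i = true := by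
  intro i hi
  rw [Tab.relActOK, ← act3_eq]
  exact (range_glue (range_of_allRange c3_0) (range_glue (range_of_allRange c3_1) (range_glue (range_of_allRange c3_2) (range_of_allRange c3_3)))) i (Nat.zero_le _) hi

def chk4 : List Nat := [0, 2, 0, 2, 2, 0, 2, 0, 2, 2, 0, 2, 5, 0, 6, 5, 6, 5, 0, 6, 3]
noncomputable def act4 (i : Nat) : Nat := col1 (col3 (col1 (col3 (col3 (col1 (col3 (col1 (col3 (col3 (col1 (col3 (col4 (col1 (col7 (col4 (col7 (col4 (col1 (col7 (col2 (i)))))))))))))))))))))
theorem act4_eq (i : Nat) : act4 i = Tab.act T D chk4 i := rfl
theorem c4_0 : allRange (fun i => Nat.beq (act4 i) i) 0 2608 = true := by decide +kernel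
theorem c4_1 : allRange (fun i => Nat.beq (act4 i) i) 2608 2608 = true := by decide +kernel
theorem c4_2 : allRange (fun i => Nat.beq (act4 i) i) 5216 2608 = true := by decide +kernel
theorem c4_3 : allRange (fun i => Nat.beq (act4 i) i) 7824 2608 = true := by decide +kernel
theorem c4_4 : allRange (fun i => Nat.beq (act4 i) i) 10432 2608 = true := by decide +kernel
theorem c4_5 : allRange (fun i => Nat.beq (act4 i) i) 13040 2608 = true := by decide +kernel
theorem c4_6 : allRange (fun i => Nat.beq (act4 i) i) 15648 2608 = true := by decide +kernel
theorem c4_7 : allRange (fun i => Nat.beq (act4 i) i) 18256 2608 = true := by decide +kernel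
theorem c4_8 : allRange (fun i => Nat.beq (act4 i) i) 20864 2608 = true := by decide +kernel
theorem c4_9 : allRange (fun i => Nat.beq (act4 i) i) 23472 2608 = true := by decide +kernel
theorem c4_10 : allRange (fun i => Nat.beq (act4 i) i) 26080 2608 = true := by decide +kernel
theorem c4_11 : allRange (fun i => Nat.beq (act4 i) i) 28688 2608 = true := by decide +kernel
theorem c4_12 : allRange (fun i => Nat.beq (act4 i) i) 31296 2608 = true := by decide +kernel
theorem c4_13 : allRange (fun i => Nat.beq (act4 i) i) 33904 2608 = true := by decide +kernel
theorem c4_14 : allRange (fun i => Nat.beq (act4 i) i) 36512 2608 = true := by decide +kernel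
theorem c4_15 : allRange (fun i => Nat.beq (act4 i) i) 39120 2608 = true := by decide +kernel
theorem c4_16 : allRange (fun i => Nat.beq (act4 i) i) 41728 2608 = true := by decide +kernel
theorem c4_17 : allRange (fun i => Nat.beq (act4 i) i) 44336 2608 = true := by decide +kernel
theorem c4_18 : allRange (fun i => Nat.beq (act4 i) i) 46944 1656 = true := by decide +kernel
theorem h4 : ∀ i, i < T.N → Tab.relActOK T D chk4 i = true := by
  intro i hi
  rw [Tab.relActOK, ← act4_eq]
  exact (range_glue (range_of_allRange c4_0) (range_glue (range_of_allRange c4_1) (range_glue (range_of_allRange c4_2) (range_glue (range_of_allRange c4_3) (range_glue (range_of_allRange c4_4) (range_glue (range_of_allRange c4_5) (range_glue (range_of_allRange c4_6) (range_glue (range_of_allRange c4_7) (range_glue (range_of_allRange c4_8) (range_glue (range_of_allRange c4_9) (range_glue (range_of_allRange c4_10) (range_glue (range_of_allRange c4_11) (range_glue (range_of_allRange c4_12) (range_glue (range_of_allRange c4_13) (range_glue (range_of_allRange c4_14) (range_glue (range_of_allRange c4_15) (range_glue (range_of_allRange c4_16) (range_glue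 (range_of_allRange c4_17) (range_of_allRange c4_18))))))))))))))))))) i (Nat.zero_le _) hi

def chk5 : List Nat := [0, 2, 0, 2, 5, 3, 5, 0, 6, 5, 0, 4, 6, 2, 2, 0, 2, 2, 0, 3, 0, 2, 2]
noncomputable def act5 (i : Nat) : Nat := col1 (col3 (col1 (col3 (col4 (col2 (col4 (col1 (col7 (col4 (col1 (col5 (col7 (col3 (col3 (col1 (col3 (col3 (col1 (col2 (col1 (col3 (col3 (i)))))))))))))))))))))))
theorem act5_eq (i : Nat) : act5 i = Tab.act T D chk5 i := rfl
theorem c5_0 : allRange (fun i => Nat.beq (act5 i) i) 0 2400 = true := by decide +kernel
theorem c5_1 : allRange (fun i => Nat.beq (act5 i) i) 2400 2400 = true := by decide +kernel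
theorem c5_2 : allRange (fun i => Nat.beq (act5 i) i) 4800 2400 = true := by decide +kernel
theorem c5_3 : allRange (fun i => Nat.beq (act5 i) i) 7200 2400 = true := by decide +kernel
theorem c5_4 : allRange (fun i => Nat.beq (act5 i) i) 9600 2400 = true := by decide +kernel
theorem c5_5 : allRange (fun i => Nat.beq (act5 i) i) 12000 2400 = true := by decide +kernel
theorem c5_6 : allRange (fun i => Nat.beq (act5 i) i) 14400 2400 = true := by decide +kernel
theorem c5_7 : allRange (fun i => Nat.beq (act5 i) i) 16800 2400 = true := by decide +kernel
theorem c5_8 : allRange (fun i => Nat.beq (act5 i) i) 19200 2400 = true := by decide +kernel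
theorem c5_9 : allRange (fun i => Nat.beq (act5 i) i) 21600 2400 = true := by decide +kernel
theorem c5_10 : allRange (fun i => Nat.beq (act5 i) i) 24000 2400 = true := by decide +kernel
theorem c5_11 : allRange (fun i => Nat.beq (act5 i) i) 26400 2400 = true := by decide +kernel
theorem c5_12 : allRange (fun i => Nat.beq (act5 i) i) 28800 2400 = true := by decide +kernel
theorem c5_13 : allRange (fun i => Nat.beq (act5 i) i) 31200 2400 = true := by decide +kernel
theorem c5_14 : allRange (fun i => Nat.beq (act5 i) i) 33600 2400 = true := by decide +kernel
theorem c5_15 : allRange (fun i => Nat.beq (act5 i) i) 36000 2400 = true := by decide +kernel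
theorem c5_16 : allRange (fun i => Nat.beq (act5 i) i) 38400 2400 = true := by decide +kernel
theorem c5_17 : allRange (fun i => Nat.beq (act5 i) i) 40800 2400 = true := by decide +kernel
theorem c5_18 : allRange (fun i => Nat.beq (act5 i) i) 43200 2400 = true := by decide +kernel
theorem c5_19 : allRange (fun i => Nat.beq (act5 i) i) 45600 2400 = true := by decide +kernel
theorem c5_20 : allRange (fun i => Nat.beq (act5 i) i) 48000 600 = true := by decide +kernel
theorem h5 : ∀ i, i < T.N → Tab.relActOK T D chk5 i = true := by
  intro i hi
  rw [Tab.relActOK, ← act5_eq]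
  exact (range_glue (range_of_allRange c5_0) (range_glue (range_of_allRange c5_1) (range_glue (range_of_allRange c5_2) (range_glue (range_of_allRange c5_3) (range_glue (range_of_allRange c5_4) (range_glue (range_of_allRange c5_5) (range_glue (range_of_allRange c5_6) (range_glue (range_of_allRange c5_7) (range_glue (range_of_allRange c5_8) (range_glue (range_of_allRange c5_9) (range_glue (range_of_allRange c5_10) (range_glue (range_of_allRange c5_11) (range_glue (range_of_allRange c5_12) (range_glue (range_of_allRange c5_13) (range_glue (range_of_allRange c5_14) (range_glue (range_of_allRange c5_15) (range_glue (range_of_allRange c5_16) (range_glue (range_of_allRange c5_17) (range_glue (range_of_allRange c5_18) (range_glue (range_of_allRange c5_19) (range_of_allRange c5_20))))))))))))))))))))) i (Nat.zero_le _) hi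

def chk6 : List Nat := [0, 2, 0, 3, 3, 0, 2, 0, 3, 3, 0, 6, 5, 2, 5, 0, 3, 3, 6, 0, 4, 4, 2, 5]
noncomputable def act6 (i : Nat) : Nat := col1 (col3 (col1 (col2 (col2 (col1 (col3 (col1 (col2 (col2 (col1 (col7 (col4 (col3 (col4 (col1 (col2 (col2 (col7 (col1 (col5 (col5 (col3 (col4 (i))))))))))))))))))))))))
theorem act6_eq (i : Nat) : act6 i = Tab.act T D chk6 i := rfl
theorem c6_0 : allRange (fun i => Nat.beq (act6 i) i) 0 2307 = true := by decide +kernel
theorem c6_1 : allRange (fun i => Nat.beq (act6 i) i) 2307 2307 = true := by decide +kernel
theorem c6_2 : allRange (fun i => Nat.beq (act6 i) i) 4614 2307 = true := by decide +kernel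
theorem c6_3 : allRange (fun i => Nat.beq (act6 i) i) 6921 2307 = true := by decide +kernel
theorem c6_4 : allRange (fun i => Nat.beq (act6 i) i) 9228 2307 = true := by decide +kernel
theorem c6_5 : allRange (fun i => Nat.beq (act6 i) i) 11535 2307 = true := by decide +kernel
theorem c6_6 : allRange (fun i => Nat.beq (act6 i) i) 13842 2307 = true := by decide +kernel
theorem c6_7 : allRange (fun i => Nat.beq (act6 i) i) 16149 2307 = true := by decide +kernel
theorem c6_8 : allRange (fun i => Nat.beq (act6 i) i) 18456 2307 = true := by decide +kernel
theorem c6_9 : allRange (fun i => Nat.beq (act6 i) i) 20763 2307 = true := by decide +kernel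
theorem c6_10 : allRange (fun i => Nat.beq (act6 i) i) 23070 2307 = true := by decide +kernel
theorem c6_11 : allRange (fun i => Nat.beq (act6 i) i) 25377 2307 = true := by decide +kernel
theorem c6_12 : allRange (fun i => Nat.beq (act6 i) i) 27684 2307 = true := by decide +kernel
theorem c6_13 : allRange (fun i => Nat.beq (act6 i) i) 29991 2307 = true := by decide +kernel
theorem c6_14 : allRange (fun i => Nat.beq (act6 i) i) 32298 2307 = true := by decide +kernel
theorem c6_15 : allRange (fun i => Nat.beq (act6 i) i) 34605 2307 = true := by decide +kernel
theorem c6_16 : allRange (fun i => Nat.beq (act6 i) i) 36912 2307 = true := by decide +kernel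
theorem c6_17 : allRange (fun i => Nat.beq (act6 i) i) 39219 2307 = true := by decide +kernel
theorem c6_18 : allRange (fun i => Nat.beq (act6 i) i) 41526 2307 = true := by decide +kernel
theorem c6_19 : allRange (fun i => Nat.beq (act6 i) i) 43833 2307 = true := by decide +kernel
theorem c6_20 : allRange (fun i => Nat.beq (act6 i) i) 46140 2307 = true := by decide +kernel
theorem c6_21 : allRange (fun i => Nat.beq (act6 i) i) 48447 153 = true := by decide +kernel
theorem h6 : ∀ i, i < T.N → Tab.relActOK T D chk6 i = true := by
  intro i hi
  rw [Tab.relActOK, ← act6_eq]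
  exact (range_glue (range_of_allRange c6_0) (range_glue (range_of_allRange c6_1) (range_glue (range_of_allRange c6_2) (range_glue (range_of_allRange c6_3) (range_glue (range_of_allRange c6_4) (range_glue (range_of_allRange c6_5) (range_glue (range_of_allRange c6_6) (range_glue (range_of_allRange c6_7) (range_glue (range_of_allRange c6_8) (range_glue (range_of_allRange c6_9) (range_glue (range_of_allRange c6_10) (range_glue (range_of_allRange c6_11) (range_glue (range_of_allRange c6_12) (range_glue (range_of_allRange c6_13) (range_glue (range_of_allRange c6_14) (range_glue (range_of_allRange c6_15) (range_glue (range_of_allRange c6_16) (range_glue (range_of_allRange c6_17) (range_glue (range_of_allRange c6_18) (range_glue (range_of_allRange c6_19) (range_glue (range_of_allRange c6_20) (range_of_allRange c6_21)))))))))))))))))))))) i (Nat.zero_le _) hi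

def chk7 : List Nat := [0, 2, 0, 2, 0, 3, 3, 0, 3, 3, 6, 4, 0, 3, 5, 0, 6, 3, 4, 3, 5, 0, 4, 3, 3, 0, 3]
noncomputable def act7 (i : Nat) : Nat := col1 (col3 (col1 (col3 (col1 (col2 (col2 (col1 (col2 (col2 (col7 (col5 (col1 (col2 (col4 (col1 (col7 (col2 (col5 (col2 (col4 (col1 (col5 (col2 (col2 (col1 (col2 (i)))))))))))))))))))))))))))
theorem act7_eq (i : Nat) : act7 i = Tab.act T D chk7 i := rfl
theorem c7_0 : allRange (fun i => Nat.beq (act7 i) i) 0 2068 = true := by decide +kernel
theorem c7_1 : allRange (fun i => Nat.beq (act7 i) i) 2068 2068 = true := by decide +kernel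
theorem c7_2 : allRange (fun i => Nat.beq (act7 i) i) 4136 2068 = true := by decide +kernel
theorem c7_3 : allRange (fun i => Nat.beq (act7 i) i) 6204 2068 = true := by decide +kernel
theorem c7_4 : allRange (fun i => Nat.beq (act7 i) i) 8272 2068 = true := by decide +kernel
theorem c7_5 : allRange (fun i => Nat.beq (act7 i) i) 10340 2068 = true := by decide +kernel
theorem c7_6 : allRange (fun i => Nat.beq (act7 i) i) 12408 2068 = true := by decide +kernel
theorem c7_7 : allRange (fun i => Nat.beq (act7 i) i) 14476 2068 = true := by decide +kernel
theorem c7_8 : allRange (fun i => Nat.beq (act7 i) i) 16544 2068 = true := by decide +kernel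
theorem c7_9 : allRange (fun i => Nat.beq (act7 i) i) 18612 2068 = true := by decide +kernel
theorem c7_10 : allRange (fun i => Nat.beq (act7 i) i) 20680 2068 = true := by decide +kernel
theorem c7_11 : allRange (fun i => Nat.beq (act7 i) i) 22748 2068 = true := by decide +kernel
theorem c7_12 : allRange (fun i => Nat.beq (act7 i) i) 24816 2068 = true := by decide +kernel
theorem c7_13 : allRange (fun i => Nat.beq (act7 i) i) 26884 2068 = true := by decide +kernel
theorem c7_14 : allRange (fun i => Nat.beq (act7 i) i) 28952 2068 = true := by decide +kernel
theorem c7_15 : allRange (fun i => Nat.beq (act7 i) i) 31020 2068 = true := by decide +kernel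
theorem c7_16 : allRange (fun i => Nat.beq (act7 i) i) 33088 2068 = true := by decide +kernel
theorem c7_17 : allRange (fun i => Nat.beq (act7 i) i) 35156 2068 = true := by decide +kernel
theorem c7_18 : allRange (fun i => Nat.beq (act7 i) i) 37224 2068 = true := by decide +kernel
theorem c7_19 : allRange (fun i => Nat.beq (act7 i) i) 39292 2068 = true := by decide +kernel
theorem c7_20 : allRange (fun i => Nat.beq (act7 i) i) 41360 2068 = true := by decide +kernel
theorem c7_21 : allRange (fun i => Nat.beq (act7 i) i) 43428 2068 = true := by decide +kernel
theorem c7_22 : allRange (fun i => Nat.beq (act7 i) i) 45496 2068 = true := by decide +kernel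
theorem c7_23 : allRange (fun i => Nat.beq (act7 i) i) 47564 1036 = true := by decide +kernel
theorem h7 : ∀ i, i < T.N → Tab.relActOK T D chk7 i = true := by
  intro i hi
  rw [Tab.relActOK, ← act7_eq]
  exact (range_glue (range_of_allRange c7_0) (range_glue (range_of_allRange c7_1) (range_glue (range_of_allRange c7_2) (range_glue (range_of_allRange c7_3) (range_glue (range_of_allRange c7_4) (range_glue (range_of_allRange c7_5) (range_glue (range_of_allRange c7_6) (range_glue (range_of_allRange c7_7) (range_glue (range_of_allRange c7_8) (range_glue (range_of_allRange c7_9) (range_glue (range_of_allRange c7_10) (range_glue (range_of_allRange c7_11) (range_glue (range_of_allRange c7_12) (range_glue (range_of_allRange c7_13) (range_glue (range_of_allRange c7_14) (range_glue (range_of_allRange c7_15) (range_glue (range_of_allRange c7_16) (range_glue (range_of_allRange c7_17) (range_glue (range_of_allRange c7_18) (range_glue (range_of_allRange c7_19) (range_glue (range_of_allRange c7_20) (range_glue (range_of_allRange c7_21) (range_glue (range_of_allRange c7_22) (range_of_allRange c7_23)))))))))))))))))))))))) i (Nat.zero_le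 _) hi

def chk8 : List Nat := [0, 0]
noncomputable def act8 (i : Nat) : Nat := col1 (col1 (i))
theorem act8_eq (i : Nat) : act8 i = Tab.act T D chk8 i := rfl
theorem c8_0 : allRange (fun i => Nat.beq (act8 i) i) 0 15000 = true := by decide +kernel
theorem c8_1 : allRange (fun i => Nat.beq (act8 i) i) 15000 15000 = true := by decide +kernel
theorem c8_2 : allRange (fun i => Nat.beq (act8 i) i) 30000 15000 = true := by decide +kernel
theorem c8_3 : allRange (fun i => Nat.beq (act8 i) i) 45000 3600 = true := by decide +kernel
theorem h8 : ∀ i, i < T.N → Tab.relActOK T D chk8 i = true := by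
  intro i hi
  rw [Tab.relActOK, ← act8_eq]
  exact (range_glue (range_of_allRange c8_0) (range_glue (range_of_allRange c8_1) (range_glue (range_of_allRange c8_2) (range_of_allRange c8_3)))) i (Nat.zero_le _) hi

def chk9 : List Nat := [2, 2, 2, 2]
noncomputable def act9 (i : Nat) : Nat := col3 (col3 (col3 (col3 (i))))
theorem act9_eq (i : Nat) : act9 i = Tab.act T D chk9 i := rfl
theorem c9_0 : allRange (fun i => Nat.beq (act9 i) i) 0 10000 = true := by decide +kernel
theorem c9_1 : allRange (fun i => Nat.beq (act9 i) i) 10000 10000 = true := by decide +kernel
theorem c9_2 : allRange (fun i => Nat.beq (act9 i) i) 20000 10000 = true := by decide +kernel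
theorem c9_3 : allRange (fun i => Nat.beq (act9 i) i) 30000 10000 = true := by decide +kernel
theorem c9_4 : allRange (fun i => Nat.beq (act9 i) i) 40000 8600 = true := by decide +kernel
theorem h9 : ∀ i, i < T.N → Tab.relActOK T D chk9 i = true := by
  intro i hi
  rw [Tab.relActOK, ← act9_eq]
  exact (range_glue (range_of_allRange c9_0) (range_glue (range_of_allRange c9_1) (range_glue (range_of_allRange c9_2) (range_glue (range_of_allRange c9_3) (range_of_allRange c9_4))))) i (Nat.zero_le _) hi

def chk10 : List Nat := [0, 2, 0, 2, 0, 2, 0, 2, 0, 2, 0, 2, 0, 2, 0, 2, 0, 2, 0, 2, 0, 2]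
noncomputable def act10 (i : Nat) : Nat := col1 (col3 (col1 (col3 (col1 (col3 (col1 (col3 (col1 (col3 (col1 (col3 (col1 (col3 (col1 (col3 (col1 (col3 (col1 (col3 (col1 (col3 (i))))))))))))))))))))))
theorem act10_eq (i : Nat) : act10 i = Tab.act T D chk10 i := rfl
theorem c10_0 : allRange (fun i => Nat.beq (act10 i) i) 0 2500 = true := by decide +kernel
theorem c10_1 : allRange (fun i => Nat.beq (act10 i) i) 2500 2500 = true := by decide +kernel
theorem c10_2 : allRange (fun i => Nat.beq (act10 i) i) 5000 2500 = true := by decide +kernel
theorem c10_3 : allRange (fun i => Nat.beq (act10 i) i) 7500 2500 = true := by decide +kernel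
theorem c10_4 : allRange (fun i => Nat.beq (act10 i) i) 10000 2500 = true := by decide +kernel
theorem c10_5 : allRange (fun i => Nat.beq (act10 i) i) 12500 2500 = true := by decide +kernel
theorem c10_6 : allRange (fun i => Nat.beq (act10 i) i) 15000 2500 = true := by decide +kernel
theorem c10_7 : allRange (fun i => Nat.beq (act10 i) i) 17500 2500 = true := by decide +kernel
theorem c10_8 : allRange (fun i => Nat.beq (act10 i) i) 20000 2500 = true := by decide +kernel
theorem c10_9 : allRange (fun i => Nat.beq (act10 i) i) 22500 2500 = true := by decide +kernel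
theorem c10_10 : allRange (fun i => Nat.beq (act10 i) i) 25000 2500 = true := by decide +kernel
theorem c10_11 : allRange (fun i => Nat.beq (act10 i) i) 27500 2500 = true := by decide +kernel
theorem c10_12 : allRange (fun i => Nat.beq (act10 i) i) 30000 2500 = true := by decide +kernel
theorem c10_13 : allRange (fun i => Nat.beq (act10 i) i) 32500 2500 = true := by decide +kernel
theorem c10_14 : allRange (fun i => Nat.beq (act10 i) i) 35000 2500 = true := by decide +kernel
theorem c10_15 : allRange (fun i => Nat.beq (act10 i) i) 37500 2500 = true := by decide +kernel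
theorem c10_16 : allRange (fun i => Nat.beq (act10 i) i) 40000 2500 = true := by decide +kernel
theorem c10_17 : allRange (fun i => Nat.beq (act10 i) i) 42500 2500 = true := by decide +kernel
theorem c10_18 : allRange (fun i => Nat.beq (act10 i) i) 45000 2500 = true := by decide +kernel
theorem c10_19 : allRange (fun i => Nat.beq (act10 i) i) 47500 1100 = true := by decide +kernel
theorem h10 : ∀ i, i < T.N → Tab.relActOK T D chk10 i = true := by
  intro i hi
  rw [Tab.relActOK, ← act10_eq]
  exact (range_glue (range_of_allRange c10_0) (range_glue (range_of_allRange c10_1) (range_glue (range_of_allRange c10_2) (range_glue (range_of_allRange c10_3) (range_glue (range_of_allRange c10_4) (range_glue (range_of_allRange c10_5) (range_glue (range_of_allRange c10_6) (range_glue (range_of_allRange c10_7) (range_glue (range_of_allRange c10_8) (range_glue (range_of_allRange c10_9) (range_glue (range_of_allRange c10_10) (range_glue (range_of_allRange c10_11) (range_glue (range_of_allRange c10_12) (range_glue (range_of_allRange c10_13) (range_glue (range_of_allRange c10_14) (range_glue (range_of_allRange c10_15) (range_glue (range_of_allRange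 c10_16) (range_glue (range_of_allRange c10_17) (range_glue (range_of_allRange c10_18) (range_of_allRange c10_19)))))))))))))))))))) i (Nat.zero_le _) hi

def chk11 : List Nat := [0, 2, 2, 0, 2, 2, 0, 2, 2, 0, 2, 2, 0, 2, 2, 0, 2, 2]
noncomputable def act11 (i : Nat) : Nat := col1 (col3 (col3 (col1 (col3 (col3 (col1 (col3 (col3 (col1 (col3 (col3 (col1 (col3 (col3 (col1 (col3 (col3 (i))))))))))))))))))
theorem act11_eq (i : Nat) : act11 i = Tab.act T D chk11 i := rfl
theorem c11_0 : allRange (fun i => Nat.beq (act11 i) i) 0 3000 = true := by decide +kernel
theorem c11_1 : allRange (fun i => Nat.beq (act11 i) i) 3000 3000 = true := by decide +kernel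
theorem c11_2 : allRange (fun i => Nat.beq (act11 i) i) 6000 3000 = true := by decide +kernel
theorem c11_3 : allRange (fun i => Nat.beq (act11 i) i) 9000 3000 = true := by decide +kernel
theorem c11_4 : allRange (fun i => Nat.beq (act11 i) i) 12000 3000 = true := by decide +kernel
theorem c11_5 : allRange (fun i => Nat.beq (act11 i) i) 15000 3000 = true := by decide +kernel
theorem c11_6 : allRange (fun i => Nat.beq (act11 i) i) 18000 3000 = true := by decide +kernel
theorem c11_7 : allRange (fun i => Nat.beq (act11 i) i) 21000 3000 = true := by decide +kernel
theorem c11_8 : allRange (fun i => Nat.beq (act11 i) i) 24000 3000 = true := by decide +kernel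
theorem c11_9 : allRange (fun i => Nat.beq (act11 i) i) 27000 3000 = true := by decide +kernel
theorem c11_10 : allRange (fun i => Nat.beq (act11 i) i) 30000 3000 = true := by decide +kernel
theorem c11_11 : allRange (fun i => Nat.beq (act11 i) i) 33000 3000 = true := by decide +kernel
theorem c11_12 : allRange (fun i => Nat.beq (act11 i) i) 36000 3000 = true := by decide +kernel
theorem c11_13 : allRange (fun i => Nat.beq (act11 i) i) 39000 3000 = true := by decide +kernel
theorem c11_14 : allRange (fun i => Nat.beq (act11 i) i) 42000 3000 = true := by decide +kernel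
theorem c11_15 : allRange (fun i => Nat.beq (act11 i) i) 45000 3000 = true := by decide +kernel
theorem c11_16 : allRange (fun i => Nat.beq (act11 i) i) 48000 600 = true := by decide +kernel
theorem h11 : ∀ i, i < T.N → Tab.relActOK T D chk11 i = true := by
  intro i hi
  rw [Tab.relActOK, ← act11_eq]
  exact (range_glue (range_of_allRange c11_0) (range_glue (range_of_allRange c11_1) (range_glue (range_of_allRange c11_2) (range_glue (range_of_allRange c11_3) (range_glue (range_of_allRange c11_4) (range_glue (range_of_allRange c11_5) (range_glue (range_of_allRange c11_6) (range_glue (range_of_allRange c11_7) (range_glue (range_of_allRange c11_8) (range_glue (range_of_allRange c11_9) (range_glue (range_of_allRange c11_10) (range_glue (range_of_allRange c11_11) (range_glue (range_of_allRange c11_12) (range_glue (range_of_allRange c11_13) (range_glue (range_of_allRange c11_14) (range_glue (range_of_allRange c11_15) (range_of_allRange c11_16))))))))))))))))) i (Nat.zero_le _) hi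

def chk12 : List Nat := [0, 2, 0, 2, 0, 3, 0, 2, 0, 2, 2, 0, 3, 0, 2, 0, 3, 0, 3]
noncomputable def act12 (i : Nat) : Nat := col1 (col3 (col1 (col3 (col1 (col2 (col1 (col3 (col1 (col3 (col3 (col1 (col2 (col1 (col3 (col1 (col2 (col1 (col2 (i)))))))))))))))))))
theorem act12_eq (i : Nat) : act12 i = Tab.act T D chk12 i := rfl
theorem c12_0 : allRange (fun i => Nat.beq (act12 i) i) 0 2857 = true := by decide +kernel
theorem c12_1 : allRange (fun i => Nat.beq (act12 i) i) 2857 2857 = true := by decide +kernel
theorem c12_2 : allRange (fun i => Nat.beq (act12 i) i) 5714 2857 = true := by decide +kernel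
theorem c12_3 : allRange (fun i => Nat.beq (act12 i) i) 8571 2857 = true := by decide +kernel
theorem c12_4 : allRange (fun i => Nat.beq (act12 i) i) 11428 2857 = true := by decide +kernel
theorem c12_5 : allRange (fun i => Nat.beq (act12 i) i) 14285 2857 = true := by decide +kernel
theorem c12_6 : allRange (fun i => Nat.beq (act12 i) i) 17142 2857 = true := by decide +kernel
theorem c12_7 : allRange (fun i => Nat.beq (act12 i) i) 19999 2857 = true := by decide +kernel
theorem c12_8 : allRange (fun i => Nat.beq (act12 i) i) 22856 2857 = true := by decide +kernel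
theorem c12_9 : allRange (fun i => Nat.beq (act12 i) i) 25713 2857 = true := by decide +kernel
theorem c12_10 : allRange (fun i => Nat.beq (act12 i) i) 28570 2857 = true := by decide +kernel
theorem c12_11 : allRange (fun i => Nat.beq (act12 i) i) 31427 2857 = true := by decide +kernel
theorem c12_12 : allRange (fun i => Nat.beq (act12 i) i) 34284 2857 = true := by decide +kernel
theorem c12_13 : allRange (fun i => Nat.beq (act12 i) i) 37141 2857 = true := by decide +kernel
theorem c12_14 : allRange (fun i => Nat.beq (act12 i) i) 39998 2857 = true := by decide +kernel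
theorem c12_15 : allRange (fun i => Nat.beq (act12 i) i) 42855 2857 = true := by decide +kernel
theorem c12_16 : allRange (fun i => Nat.beq (act12 i) i) 45712 2857 = true := by decide +kernel
theorem c12_17 : allRange (fun i => Nat.beq (act12 i) i) 48569 31 = true := by decide +kernel
theorem h12 : ∀ i, i < T.N → Tab.relActOK T D chk12 i = true := by
  intro i hi
  rw [Tab.relActOK, ← act12_eq]
  exact (range_glue (range_of_allRange c12_0) (range_glue (range_of_allRange c12_1) (range_glue (range_of_allRange c12_2) (range_glue (range_of_allRange c12_3) (range_glue (range_of_allRange c12_4) (range_glue (range_of_allRange c12_5) (range_glue (range_of_allRange c12_6) (range_glue (range_of_allRange c12_7) (range_glue (range_of_allRange c12_8) (range_glue (range_of_allRange c12_9) (range_glue (range_of_allRange c12_10) (range_glue (range_of_allRange c12_11) (range_glue (range_of_allRange c12_12) (range_glue (range_of_allRange c12_13) (range_glue (range_of_allRange c12_14) (range_glue (range_of_allRange c12_15) (range_glue (range_of_allRange c12_16) (range_of_allRange c12_17)))))))))))))))))) i (Nat.zero_le _) hi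

def chk13 : List Nat := [4, 4, 4, 4, 4, 4, 4, 4, 4, 4, 4, 4, 4, 4, 4, 4, 4, 4, 4, 4, 4, 4, 4]
noncomputable def act13 (i : Nat) : Nat := col5 (col5 (col5 (col5 (col5 (col5 (col5 (col5 (col5 (col5 (col5 (col5 (col5 (col5 (col5 (col5 (col5 (col5 (col5 (col5 (col5 (col5 (col5 (i)))))))))))))))))))))))
theorem act13_eq (i : Nat) : act13 i = Tab.act T D chk13 i := rfl
theorem c13_0 : allRange (fun i => Nat.beq (act13 i) i) 0 2400 = true := by decide +kernel
theorem c13_1 : allRange (fun i => Nat.beq (act13 i) i) 2400 2400 = true := by decide +kernel
theorem c13_2 : allRange (fun i => Nat.beq (act13 i) i) 4800 2400 = true := by decide +kernel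
theorem c13_3 : allRange (fun i => Nat.beq (act13 i) i) 7200 2400 = true := by decide +kernel
theorem c13_4 : allRange (fun i => Nat.beq (act13 i) i) 9600 2400 = true := by decide +kernel
theorem c13_5 : allRange (fun i => Nat.beq (act13 i) i) 12000 2400 = true := by decide +kernel
theorem c13_6 : allRange (fun i => Nat.beq (act13 i) i) 14400 2400 = true := by decide +kernel
theorem c13_7 : allRange (fun i => Nat.beq (act13 i) i) 16800 2400 = true := by decide +kernel
theorem c13_8 : allRange (fun i => Nat.beq (act13 i) i) 19200 2400 = true := by decide +kernel
theorem c13_9 : allRange (fun i => Nat.beq (act13 i) i) 21600 2400 = true := by decide +kernel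
theorem c13_10 : allRange (fun i => Nat.beq (act13 i) i) 24000 2400 = true := by decide +kernel
theorem c13_11 : allRange (fun i => Nat.beq (act13 i) i) 26400 2400 = true := by decide +kernel
theorem c13_12 : allRange (fun i => Nat.beq (act13 i) i) 28800 2400 = true := by decide +kernel
theorem c13_13 : allRange (fun i => Nat.beq (act13 i) i) 31200 2400 = true := by decide +kernel
theorem c13_14 : allRange (fun i => Nat.beq (act13 i) i) 33600 2400 = true := by decide +kernel
theorem c13_15 : allRange (fun i => Nat.beq (act13 i) i) 36000 2400 = true := by decide +kernel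
theorem c13_16 : allRange (fun i => Nat.beq (act13 i) i) 38400 2400 = true := by decide +kernel
theorem c13_17 : allRange (fun i => Nat.beq (act13 i) i) 40800 2400 = true := by decide +kernel
theorem c13_18 : allRange (fun i => Nat.beq (act13 i) i) 43200 2400 = true := by decide +kernel
theorem c13_19 : allRange (fun i => Nat.beq (act13 i) i) 45600 2400 = true := by decide +kernel
theorem c13_20 : allRange (fun i => Nat.beq (act13 i) i) 48000 600 = true := by decide +kernel
theorem h13 : ∀ i, i < T.N → Tab.relActOK T D chk13 i = true := by
  intro i hi
  rw [Tab.relActOK, ← act13_eq]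
  exact (range_glue (range_of_allRange c13_0) (range_glue (range_of_allRange c13_1) (range_glue (range_of_allRange c13_2) (range_glue (range_of_allRange c13_3) (range_glue (range_of_allRange c13_4) (range_glue (range_of_allRange c13_5) (range_glue (range_of_allRange c13_6) (range_glue (range_of_allRange c13_7) (range_glue (range_of_allRange c13_8) (range_glue (range_of_allRange c13_9) (range_glue (range_of_allRange c13_10) (range_glue (range_of_allRange c13_11) (range_glue (range_of_allRange c13_12) (range_glue (range_of_allRange c13_13) (range_glue (range_of_allRange c13_14) (range_glue (range_of_allRange c13_15) (range_glue (range_of_allRange c13_16) (range_glue (range_of_allRange c13_17) (range_glue (range_of_allRange c13_18) (range_glue (range_of_allRange c13_19) (range_of_allRange c13_20))))))))))))))))))))) i (Nat.zero_le _) hi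

def chk14 : List Nat := [0, 2, 4, 3, 1, 5, 5]
noncomputable def act14 (i : Nat) : Nat := col1 (col3 (col5 (col2 (col0 (col4 (col4 (i)))))))
theorem act14_eq (i : Nat) : act14 i = Tab.act T D chk14 i := rfl
theorem c14_0 : allRange (fun i => Nat.beq (act14 i) i) 0 6666 = true := by decide +kernel
theorem c14_1 : allRange (fun i => Nat.beq (act14 i) i) 6666 6666 = true := by decide +kernel
theorem c14_2 : allRange (fun i => Nat.beq (act14 i) i) 13332 6666 = true := by decide +kernel
theorem c14_3 : allRange (fun i => Nat.beq (act14 i) i) 19998 6666 = true := by decide +kernel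
theorem c14_4 : allRange (fun i => Nat.beq (act14 i) i) 26664 6666 = true := by decide +kernel
theorem c14_5 : allRange (fun i => Nat.beq (act14 i) i) 33330 6666 = true := by decide +kernel
theorem c14_6 : allRange (fun i => Nat.beq (act14 i) i) 39996 6666 = true := by decide +kernel
theorem c14_7 : allRange (fun i => Nat.beq (act14 i) i) 46662 1938 = true := by decide +kernel
theorem h14 : ∀ i, i < T.N → Tab.relActOK T D chk14 i = true := by
  intro i hi
  rw [Tab.relActOK, ← act14_eq]
  exact (range_glue (range_of_allRange c14_0) (range_glue (range_of_allRange c14_1) (range_glue (range_of_allRange c14_2) (range_glue (range_of_allRange c14_3) (range_glue (range_of_allRange c14_4) (range_glue (range_of_allRange c14_5) (range_glue (range_of_allRange c14_6) (range_of_allRange c14_7)))))))) i (Nat.zero_le _) hi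

def chk15 : List Nat := [0, 4, 0, 4, 3, 4, 0, 4, 4, 3, 5, 5]
noncomputable def act15 (i : Nat) : Nat := col1 (col5 (col1 (col5 (col2 (col5 (col1 (col5 (col5 (col2 (col4 (col4 (i))))))))))))
theorem act15_eq (i : Nat) : act15 i = Tab.act T D chk15 i := rfl
theorem c15_0 : allRange (fun i => Nat.beq (act15 i) i) 0 4285 = true := by decide +kernel
theorem c15_1 : allRange (fun i => Nat.beq (act15 i) i) 4285 4285 = true := by decide +kernel
theorem c15_2 : allRange (fun i => Nat.beq (act15 i) i) 8570 4285 = true := by decide +kernel
theorem c15_3 : allRange (fun i => Nat.beq (act15 i) i) 12855 4285 = true := by decide +kernel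
theorem c15_4 : allRange (fun i => Nat.beq (act15 i) i) 17140 4285 = true := by decide +kernel
theorem c15_5 : allRange (fun i => Nat.beq (act15 i) i) 21425 4285 = true := by decide +kernel
theorem c15_6 : allRange (fun i => Nat.beq (act15 i) i) 25710 4285 = true := by decide +kernel
theorem c15_7 : allRange (fun i => Nat.beq (act15 i) i) 29995 4285 = true := by decide +kernel
theorem c15_8 : allRange (fun i => Nat.beq (act15 i) i) 34280 4285 = true := by decide +kernel
theorem c15_9 : allRange (fun i => Nat.beq (act15 i) i) 38565 4285 = true := by decide +kernel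
theorem c15_10 : allRange (fun i => Nat.beq (act15 i) i) 42850 4285 = true := by decide +kernel
theorem c15_11 : allRange (fun i => Nat.beq (act15 i) i) 47135 1465 = true := by decide +kernel
theorem h15 : ∀ i, i < T.N → Tab.relActOK T D chk15 i = true := by
  intro i hi
  rw [Tab.relActOK, ← act15_eq]
  exact (range_glue (range_of_allRange c15_0) (range_glue (range_of_allRange c15_1) (range_glue (range_of_allRange c15_2) (range_glue (range_of_allRange c15_3) (range_glue (range_of_allRange c15_4) (range_glue (range_of_allRange c15_5) (range_glue (range_of_allRange c15_6) (range_glue (range_of_allRange c15_7) (range_glue (range_of_allRange c15_8) (range_glue (range_of_allRange c15_9) (range_glue (range_of_allRange c15_10) (range_of_allRange c15_11)))))))))))) i (Nat.zero_le _) hi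

def chk16 : List Nat := [0, 4, 0, 5, 0, 4, 0, 5, 1, 4, 1, 5]
noncomputable def act16 (i : Nat) : Nat := col1 (col5 (col1 (col4 (col1 (col5 (col1 (col4 (col0 (col5 (col0 (col4 (i))))))))))))
theorem act16_eq (i : Nat) : act16 i = Tab.act T D chk16 i := rfl
theorem c16_0 : allRange (fun i => Nat.beq (act16 i) i) 0 4285 = true := by decide +kernel
theorem c16_1 : allRange (fun i => Nat.beq (act16 i) i) 4285 4285 = true := by decide +kernel
theorem c16_2 : allRange (fun i => Nat.beq (act16 i) i) 8570 4285 = true := by decide +kernel
theorem c16_3 : allRange (fun i => Nat.beq (act16 i) i) 12855 4285 = true := by decide +kernel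
theorem c16_4 : allRange (fun i => Nat.beq (act16 i) i) 17140 4285 = true := by decide +kernel
theorem c16_5 : allRange (fun i => Nat.beq (act16 i) i) 21425 4285 = true := by decide +kernel
theorem c16_6 : allRange (fun i => Nat.beq (act16 i) i) 25710 4285 = true := by decide +kernel
theorem c16_7 : allRange (fun i => Nat.beq (act16 i) i) 29995 4285 = true := by decide +kernel
theorem c16_8 : allRange (fun i => Nat.beq (act16 i) i) 34280 4285 = true := by decide +kernel
theorem c16_9 : allRange (fun i => Nat.beq (act16 i) i) 38565 4285 = true := by decide +kernel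
theorem c16_10 : allRange (fun i => Nat.beq (act16 i) i) 42850 4285 = true := by decide +kernel
theorem c16_11 : allRange (fun i => Nat.beq (act16 i) i) 47135 1465 = true := by decide +kernel
theorem h16 : ∀ i, i < T.N → Tab.relActOK T D chk16 i = true := by
  intro i hi
  rw [Tab.relActOK, ← act16_eq]
  exact (range_glue (range_of_allRange c16_0) (range_glue (range_of_allRange c16_1) (range_glue (range_of_allRange c16_2) (range_glue (range_of_allRange c16_3) (range_glue (range_of_allRange c16_4) (range_glue (range_of_allRange c16_5) (range_glue (range_of_allRange c16_6) (range_glue (range_of_allRange c16_7) (range_glue (range_of_allRange c16_8) (range_glue (range_of_allRange c16_9) (range_glue (range_of_allRange c16_10) (range_of_allRange c16_11)))))))))))) i (Nat.zero_le _) hi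

def chk17 : List Nat := [0, 2, 0, 4, 4, 2, 0, 4, 4, 2, 5, 3, 5, 2, 2]
noncomputable def act17 (i : Nat) : Nat := col1 (col3 (col1 (col5 (col5 (col3 (col1 (col5 (col5 (col3 (col4 (col2 (col4 (col3 (col3 (i)))))))))))))))
theorem act17_eq (i : Nat) : act17 i = Tab.act T D chk17 i := rfl
theorem c17_0 : allRange (fun i => Nat.beq (act17 i) i) 0 3529 = true := by decide +kernel
theorem c17_1 : allRange (fun i => Nat.beq (act17 i) i) 3529 3529 = true := by decide +kernel
theorem c17_2 : allRange (fun i => Nat.beq (act17 i) i) 7058 3529 = true := by decide +kernel
theorem c17_3 : allRange (fun i => Nat.beq (act17 i) i) 10587 3529 = true := by decide +kernel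
theorem c17_4 : allRange (fun i => Nat.beq (act17 i) i) 14116 3529 = true := by decide +kernel
theorem c17_5 : allRange (fun i => Nat.beq (act17 i) i) 17645 3529 = true := by decide +kernel
theorem c17_6 : allRange (fun i => Nat.beq (act17 i) i) 21174 3529 = true := by decide +kernel
theorem c17_7 : allRange (fun i => Nat.beq (act17 i) i) 24703 3529 = true := by decide +kernel
theorem c17_8 : allRange (fun i => Nat.beq (act17 i) i) 28232 3529 = true := by decide +kernel
theorem c17_9 : allRange (fun i => Nat.beq (act17 i) i) 31761 3529 = true := by decide +kernel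
theorem c17_10 : allRange (fun i => Nat.beq (act17 i) i) 35290 3529 = true := by decide +kernel
theorem c17_11 : allRange (fun i => Nat.beq (act17 i) i) 38819 3529 = true := by decide +kernel
theorem c17_12 : allRange (fun i => Nat.beq (act17 i) i) 42348 3529 = true := by decide +kernel
theorem c17_13 : allRange (fun i => Nat.beq (act17 i) i) 45877 2723 = true := by decide +kernel
theorem h17 : ∀ i, i < T.N → Tab.relActOK T D chk17 i = true := by
  intro i hi
  rw [Tab.relActOK, ← act17_eq]
  exact (range_glue (range_of_allRange c17_0) (range_glue (range_of_allRange c17_1) (range_glue (range_of_allRange c17_2) (range_glue (range_of_allRange c17_3) (range_glue (range_of_allRange c17_4) (range_glue (range_of_allRange c17_5) (range_glue (range_of_allRange c17_6) (range_glue (range_of_allRange c17_7) (range_glue (range_of_allRange c17_8) (range_glue (range_of_allRange c17_9) (range_glue (range_of_allRange c17_10) (range_glue (range_of_allRange c17_11) (range_glue (range_of_allRange c17_12) (range_of_allRange c17_13)))))))))))))) i (Nat.zero_le _) hi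

def chk18 : List Nat := [0, 2, 5, 0, 4, 2, 5, 5, 1, 5, 1, 4, 2, 2, 5]
noncomputable def act18 (i : Nat) : Nat := col1 (col3 (col4 (col1 (col5 (col3 (col4 (col4 (col0 (col4 (col0 (col5 (col3 (col3 (col4 (i)))))))))))))))
theorem act18_eq (i : Nat) : act18 i = Tab.act T D chk18 i := rfl
theorem c18_0 : allRange (fun i => Nat.beq (act18 i) i) 0 3529 = true := by decide +kernel
theorem c18_1 : allRange (fun i => Nat.beq (act18 i) i) 3529 3529 = true := by decide +kernel
theorem c18_2 : allRange (fun i => Nat.beq (act18 i) i) 7058 3529 = true := by decide +kernel
theorem c18_3 : allRange (fun i => Nat.beq (act18 i) i) 10587 3529 = true := by decide +kernel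
theorem c18_4 : allRange (fun i => Nat.beq (act18 i) i) 14116 3529 = true := by decide +kernel
theorem c18_5 : allRange (fun i => Nat.beq (act18 i) i) 17645 3529 = true := by decide +kernel
theorem c18_6 : allRange (fun i => Nat.beq (act18 i) i) 21174 3529 = true := by decide +kernel
theorem c18_7 : allRange (fun i => Nat.beq (act18 i) i) 24703 3529 = true := by decide +kernel
theorem c18_8 : allRange (fun i => Nat.beq (act18 i) i) 28232 3529 = true := by decide +kernel
theorem c18_9 : allRange (fun i => Nat.beq (act18 i) i) 31761 3529 = true := by decide +kernel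
theorem c18_10 : allRange (fun i => Nat.beq (act18 i) i) 35290 3529 = true := by decide +kernel
theorem c18_11 : allRange (fun i => Nat.beq (act18 i) i) 38819 3529 = true := by decide +kernel
theorem c18_12 : allRange (fun i => Nat.beq (act18 i) i) 42348 3529 = true := by decide +kernel
theorem c18_13 : allRange (fun i => Nat.beq (act18 i) i) 45877 2723 = true := by decide +kernel
theorem h18 : ∀ i, i < T.N → Tab.relActOK T D chk18 i = true := by
  intro i hi
  rw [Tab.relActOK, ← act18_eq]
  exact (range_glue (range_of_allRange c18_0) (range_glue (range_of_allRange c18_1) (range_glue (range_of_allRange c18_2) (range_glue (range_of_allRange c18_3) (range_glue (range_of_allRange c18_4) (range_glue (range_of_allRange c18_5) (range_glue (range_of_allRange c18_6) (range_glue (range_of_allRange c18_7) (range_glue (range_of_allRange c18_8) (range_glue (range_of_allRange c18_9) (range_glue (range_of_allRange c18_10) (range_glue (range_of_allRange c18_11) (range_glue (range_of_allRange c18_12) (range_of_allRange c18_13)))))))))))))) i (Nat.zero_le _) hi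

def chk19 : List Nat := [0, 3, 5, 1, 4, 3, 4, 3, 3, 5, 0, 4, 3, 4, 3]
noncomputable def act19 (i : Nat) : Nat := col1 (col2 (col4 (col0 (col5 (col2 (col5 (col2 (col2 (col4 (col1 (col5 (col2 (col5 (col2 (i)))))))))))))))
theorem act19_eq (i : Nat) : act19 i = Tab.act T D chk19 i := rfl
theorem c19_0 : allRange (fun i => Nat.beq (act19 i) i) 0 3529 = true := by decide +kernel
theorem c19_1 : allRange (fun i => Nat.beq (act19 i) i) 3529 3529 = true := by decide +kernel
theorem c19_2 : allRange (fun i => Nat.beq (act19 i) i) 7058 3529 = true := by decide +kernel
theorem c19_3 : allRange (fun i => Nat.beq (act19 i) i) 10587 3529 = true := by decide +kernel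
theorem c19_4 : allRange (fun i => Nat.beq (act19 i) i) 14116 3529 = true := by decide +kernel
theorem c19_5 : allRange (fun i => Nat.beq (act19 i) i) 17645 3529 = true := by decide +kernel
theorem c19_6 : allRange (fun i => Nat.beq (act19 i) i) 21174 3529 = true := by decide +kernel
theorem c19_7 : allRange (fun i => Nat.beq (act19 i) i) 24703 3529 = true := by decide +kernel
theorem c19_8 : allRange (fun i => Nat.beq (act19 i) i) 28232 3529 = true := by decide +kernel
theorem c19_9 : allRange (fun i => Nat.beq (act19 i) i) 31761 3529 = true := by decide +kernel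
theorem c19_10 : allRange (fun i => Nat.beq (act19 i) i) 35290 3529 = true := by decide +kernel
theorem c19_11 : allRange (fun i => Nat.beq (act19 i) i) 38819 3529 = true := by decide +kernel
theorem c19_12 : allRange (fun i => Nat.beq (act19 i) i) 42348 3529 = true := by decide +kernel
theorem c19_13 : allRange (fun i => Nat.beq (act19 i) i) 45877 2723 = true := by decide +kernel
theorem h19 : ∀ i, i < T.N → Tab.relActOK T D chk19 i = true := by
  intro i hi
  rw [Tab.relActOK, ← act19_eq]
  exact (range_glue (range_of_allRange c19_0) (range_glue (range_of_allRange c19_1) (range_glue (range_of_allRange c19_2) (range_glue (range_of_allRange c19_3) (range_glue (range_of_allRange c19_4) (range_glue (range_of_allRange c19_5) (range_glue (range_of_allRange c19_6) (range_glue (range_of_allRange c19_7) (range_glue (range_of_allRange c19_8) (range_glue (range_of_allRange c19_9) (range_glue (range_of_allRange c19_10) (range_glue (range_of_allRange c19_11) (range_glue (range_of_allRange c19_12) (range_of_allRange c19_13)))))))))))))) i (Nat.zero_le _) hi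

def chk20 : List Nat := [6, 2, 4, 4, 0, 5, 0, 3, 0, 7, 2, 4, 4, 1, 5, 1, 3, 1]
noncomputable def act20 (i : Nat) : Nat := col7 (col3 (col5 (col5 (col1 (col4 (col1 (col2 (col1 (col6 (col3 (col5 (col5 (col0 (col4 (col0 (col2 (col0 (i))))))))))))))))))
theorem act20_eq (i : Nat) : act20 i = Tab.act T D chk20 i := rfl
theorem c20_0 : allRange (fun i => Nat.beq (act20 i) i) 0 3000 = true := by decide +kernel
theorem c20_1 : allRange (fun i => Nat.beq (act20 i) i) 3000 3000 = true := by decide +kernel
theorem c20_2 : allRange (fun i => Nat.beq (act20 i) i) 6000 3000 = true := by decide +kernel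
theorem c20_3 : allRange (fun i => Nat.beq (act20 i) i) 9000 3000 = true := by decide +kernel
theorem c20_4 : allRange (fun i => Nat.beq (act20 i) i) 12000 3000 = true := by decide +kernel
theorem c20_5 : allRange (fun i => Nat.beq (act20 i) i) 15000 3000 = true := by decide +kernel
theorem c20_6 : allRange (fun i => Nat.beq (act20 i) i) 18000 3000 = true := by decide +kernel
theorem c20_7 : allRange (fun i => Nat.beq (act20 i) i) 21000 3000 = true := by decide +kernel
theorem c20_8 : allRange (fun i => Nat.beq (act20 i) i) 24000 3000 = true := by decide +kernel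
theorem c20_9 : allRange (fun i => Nat.beq (act20 i) i) 27000 3000 = true := by decide +kernel
theorem c20_10 : allRange (fun i => Nat.beq (act20 i) i) 30000 3000 = true := by decide +kernel
theorem c20_11 : allRange (fun i => Nat.beq (act20 i) i) 33000 3000 = true := by decide +kernel
theorem c20_12 : allRange (fun i => Nat.beq (act20 i) i) 36000 3000 = true := by decide +kernel
theorem c20_13 : allRange (fun i => Nat.beq (act20 i) i) 39000 3000 = true := by decide +kernel
theorem c20_14 : allRange (fun i => Nat.beq (act20 i) i) 42000 3000 = true := by decide +kernel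
theorem c20_15 : allRange (fun i => Nat.beq (act20 i) i) 45000 3000 = true := by decide +kernel
theorem c20_16 : allRange (fun i => Nat.beq (act20 i) i) 48000 600 = true := by decide +kernel
theorem h20 : ∀ i, i < T.N → Tab.relActOK T D chk20 i = true := by
  intro i hi
  rw [Tab.relActOK, ← act20_eq]
  exact (range_glue (range_of_allRange c20_0) (range_glue (range_of_allRange c20_1) (range_glue (range_of_allRange c20_2) (range_glue (range_of_allRange c20_3) (range_glue (range_of_allRange c20_4) (range_glue (range_of_allRange c20_5) (range_glue (range_of_allRange c20_6) (range_glue (range_of_allRange c20_7) (range_glue (range_of_allRange c20_8) (range_glue (range_of_allRange c20_9) (range_glue (range_of_allRange c20_10) (range_glue (range_of_allRange c20_11) (range_glue (range_of_allRange c20_12) (range_glue (range_of_allRange c20_13) (range_glue (range_of_allRange c20_14) (range_glue (range_of_allRange c20_15) (range_of_allRange c20_16))))))))))))))))) i (Nat.zero_le _) hi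

def chk21 : List Nat := [2, 4, 4, 0, 5, 0, 3, 0, 2, 4, 4, 0, 5, 0, 3, 0, 2, 4, 4, 0, 5, 0, 3, 0, 2, 4, 4, 0, 5, 0, 3, 0]
noncomputable def act21 (i : Nat) : Nat := col3 (col5 (col5 (col1 (col4 (col1 (col2 (col1 (col3 (col5 (col5 (col1 (col4 (col1 (col2 (col1 (col3 (col5 (col5 (col1 (col4 (col1 (col2 (col1 (col3 (col5 (col5 (col1 (col4 (col1 (col2 (col1 (i))))))))))))))))))))))))))))))))
theorem act21_eq (i : Nat) : act21 i = Tab.act T D chk21 i := rfl
theorem c21_0 : allRange (fun i => Nat.beq (act21 i) i) 0 1764 = true := by decide +kernel
theorem c21_1 : allRange (fun i => Nat.beq (act21 i) i) 1764 1764 = true := by decide +kernel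
theorem c21_2 : allRange (fun i => Nat.beq (act21 i) i) 3528 1764 = true := by decide +kernel
theorem c21_3 : allRange (fun i => Nat.beq (act21 i) i) 5292 1764 = true := by decide +kernel
theorem c21_4 : allRange (fun i => Nat.beq (act21 i) i) 7056 1764 = true := by decide +kernel
theorem c21_5 : allRange (fun i => Nat.beq (act21 i) i) 8820 1764 = true := by decide +kernel
theorem c21_6 : allRange (fun i => Nat.beq (act21 i) i) 10584 1764 = true := by decide +kernel
theorem c21_7 : allRange (fun i => Nat.beq (act21 i) i) 12348 1764 = true := by decide +kernel
theorem c21_8 : allRange (fun i => Nat.beq (act21 i) i) 14112 1764 = true := by decide +kernel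
theorem c21_9 : allRange (fun i => Nat.beq (act21 i) i) 15876 1764 = true := by decide +kernel
theorem c21_10 : allRange (fun i => Nat.beq (act21 i) i) 17640 1764 = true := by decide +kernel
theorem c21_11 : allRange (fun i => Nat.beq (act21 i) i) 19404 1764 = true := by decide +kernel
theorem c21_12 : allRange (fun i => Nat.beq (act21 i) i) 21168 1764 = true := by decide +kernel
theorem c21_13 : allRange (fun i => Nat.beq (act21 i) i) 22932 1764 = true := by decide +kernel
theorem c21_14 : allRange (fun i => Nat.beq (act21 i) i) 24696 1764 = true := by decide +kernel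
theorem c21_15 : allRange (fun i => Nat.beq (act21 i) i) 26460 1764 = true := by decide +kernel
theorem c21_16 : allRange (fun i => Nat.beq (act21 i) i) 28224 1764 = true := by decide +kernel
theorem c21_17 : allRange (fun i => Nat.beq (act21 i) i) 29988 1764 = true := by decide +kernel
theorem c21_18 : allRange (fun i => Nat.beq (act21 i) i) 31752 1764 = true := by decide +kernel
theorem c21_19 : allRange (fun i => Nat.beq (act21 i) i) 33516 1764 = true := by decide +kernel
theorem c21_20 : allRange (fun i => Nat.beq (act21 i) i) 35280 1764 = true := by decide +kernel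
theorem c21_21 : allRange (fun i => Nat.beq (act21 i) i) 37044 1764 = true := by decide +kernel
theorem c21_22 : allRange (fun i => Nat.beq (act21 i) i) 38808 1764 = true := by decide +kernel
theorem c21_23 : allRange (fun i => Nat.beq (act21 i) i) 40572 1764 = true := by decide +kernel
theorem c21_24 : allRange (fun i => Nat.beq (act21 i) i) 42336 1764 = true := by decide +kernel
theorem c21_25 : allRange (fun i => Nat.beq (act21 i) i) 44100 1764 = true := by decide +kernel
theorem c21_26 : allRange (fun i => Nat.beq (act21 i) i) 45864 1764 = true := by decide +kernel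
theorem c21_27 : allRange (fun i => Nat.beq (act21 i) i) 47628 972 = true := by decide +kernel
theorem h21 : ∀ i, i < T.N → Tab.relActOK T D chk21 i = true := by
  intro i hi
  rw [Tab.relActOK, ← act21_eq]
  exact (range_glue (range_of_allRange c21_0) (range_glue (range_of_allRange c21_1) (range_glue (range_of_allRange c21_2) (range_glue (range_of_allRange c21_3) (range_glue (range_of_allRange c21_4) (range_glue (range_of_allRange c21_5) (range_glue (range_of_allRange c21_6) (range_glue (range_of_allRange c21_7) (range_glue (range_of_allRange c21_8) (range_glue (range_of_allRange c21_9) (range_glue (range_of_allRange c21_10) (range_glue (range_of_allRange c21_11) (range_glue (range_of_allRange c21_12) (range_glue (range_of_allRange c21_13) (range_glue (range_of_allRange c21_14) (range_glue (range_of_allRange c21_15) (range_glue (range_of_allRange c21_16) (range_glue (range_of_allRange c21_17) (range_glue (range_of_allRange c21_18) (range_glue (range_of_allRange c21_19) (range_glue (range_of_allRange c21_20) (range_glue (range_of_allRange c21_21) (range_glue (range_of_allRange c21_22) (range_glue (range_of_allRange c21_23)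 (range_glue (range_of_allRange c21_24) (range_glue (range_of_allRange c21_25) (range_glue (range_of_allRange c21_26) (range_of_allRange c21_27)))))))))))))))))))))))))))) i (Nat.zero_le _) hi

def chk22 : List Nat := [0, 2, 0, 4, 0, 5, 5, 3, 0, 2, 0, 4, 0, 5, 5, 3, 0, 2, 0, 4, 0, 5, 5, 3, 0, 2, 0, 4, 0, 5, 5, 3]
noncomputable def act22 (i : Nat) : Nat := col1 (col3 (col1 (col5 (col1 (col4 (col4 (col2 (col1 (col3 (col1 (col5 (col1 (col4 (col4 (col2 (col1 (col3 (col1 (col5 (col1 (col4 (col4 (col2 (col1 (col3 (col1 (col5 (col1 (col4 (col4 (col2 (i))))))))))))))))))))))))))))))))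
theorem act22_eq (i : Nat) : act22 i = Tab.act T D chk22 i := rfl
theorem c22_0 : allRange (fun i => Nat.beq (act22 i) i) 0 1764 = true := by decide +kernel
theorem c22_1 : allRange (fun i => Nat.beq (act22 i) i) 1764 1764 = true := by decide +kernel
theorem c22_2 : allRange (fun i => Nat.beq (act22 i) i) 3528 1764 = true := by decide +kernel
theorem c22_3 : allRange (fun i => Nat.beq (act22 i) i) 5292 1764 = true := by decide +kernel
theorem c22_4 : allRange (fun i => Nat.beq (act22 i) i) 7056 1764 = true := by decide +kernel
theorem c22_5 : allRange (fun i => Nat.beq (act22 i) i) 8820 1764 = true := by decide +kernel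
theorem c22_6 : allRange (fun i => Nat.beq (act22 i) i) 10584 1764 = true := by decide +kernel
theorem c22_7 : allRange (fun i => Nat.beq (act22 i) i) 12348 1764 = true := by decide +kernel
theorem c22_8 : allRange (fun i => Nat.beq (act22 i) i) 14112 1764 = true := by decide +kernel
theorem c22_9 : allRange (fun i => Nat.beq (act22 i) i) 15876 1764 = true := by decide +kernel
theorem c22_10 : allRange (fun i => Nat.beq (act22 i) i) 17640 1764 = true := by decide +kernel
theorem c22_11 : allRange (fun i => Nat.beq (act22 i) i) 19404 1764 = true := by decide +kernel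
theorem c22_12 : allRange (fun i => Nat.beq (act22 i) i) 21168 1764 = true := by decide +kernel
theorem c22_13 : allRange (fun i => Nat.beq (act22 i) i) 22932 1764 = true := by decide +kernel
theorem c22_14 : allRange (fun i => Nat.beq (act22 i) i) 24696 1764 = true := by decide +kernel
theorem c22_15 : allRange (fun i => Nat.beq (act22 i) i) 26460 1764 = true := by decide +kernel
theorem c22_16 : allRange (fun i => Nat.beq (act22 i) i) 28224 1764 = true := by decide +kernel
theorem c22_17 : allRange (fun i => Nat.beq (act22 i) i) 29988 1764 = true := by decide +kernel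
theorem c22_18 : allRange (fun i => Nat.beq (act22 i) i) 31752 1764 = true := by decide +kernel
theorem c22_19 : allRange (fun i => Nat.beq (act22 i) i) 33516 1764 = true := by decide +kernel
theorem c22_20 : allRange (fun i => Nat.beq (act22 i) i) 35280 1764 = true := by decide +kernel
theorem c22_21 : allRange (fun i => Nat.beq (act22 i) i) 37044 1764 = true := by decide +kernel
theorem c22_22 : allRange (fun i => Nat.beq (act22 i) i) 38808 1764 = true := by decide +kernel
theorem c22_23 : allRange (fun i => Nat.beq (act22 i) i) 40572 1764 = true := by decide +kernel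
theorem c22_24 : allRange (fun i => Nat.beq (act22 i) i) 42336 1764 = true := by decide +kernel
theorem c22_25 : allRange (fun i => Nat.beq (act22 i) i) 44100 1764 = true := by decide +kernel
theorem c22_26 : allRange (fun i => Nat.beq (act22 i) i) 45864 1764 = true := by decide +kernel
theorem c22_27 : allRange (fun i => Nat.beq (act22 i) i) 47628 972 = true := by decide +kernel
theorem h22 : ∀ i, i < T.N → Tab.relActOK T D chk22 i = true := by
  intro i hi
  rw [Tab.relActOK, ← act22_eq]
  exact (range_glue (range_of_allRange c22_0) (range_glue (range_of_allRange c22_1) (range_glue (range_of_allRange c22_2) (range_glue (range_of_allRange c22_3) (range_glue (range_of_allRange c22_4) (range_glue (range_of_allRange c22_5) (range_glue (range_of_allRange c22_6) (range_glue (range_of_allRange c22_7) (range_glue (range_of_allRange c22_8) (range_glue (range_of_allRange c22_9) (range_glue (range_of_allRange c22_10) (range_glue (range_of_allRange c22_11) (range_glue (range_of_allRange c22_12) (range_glue (range_of_allRange c22_13) (range_glue (range_of_allRange c22_14) (range_glue (range_of_allRange c22_15) (range_glue (range_of_allRange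 c22_16) (range_glue (range_of_allRange c22_17) (range_glue (range_of_allRange c22_18) (range_glue (range_of_allRange c22_19) (range_glue (range_of_allRange c22_20) (range_glue (range_of_allRange c22_21) (range_glue (range_of_allRange c22_22) (range_glue (range_of_allRange c22_23) (range_glue (range_of_allRange c22_24) (range_glue (range_of_allRange c22_25) (range_glue (range_of_allRange c22_26) (range_of_allRange c22_27)))))))))))))))))))))))))))) i (Nat.zero_le _) hi

def chk23 : List Nat := [6, 0, 2, 0, 4, 0, 5, 5, 3, 7, 1, 2, 1, 4, 2, 5, 3, 1, 3]
noncomputable def act23 (i : Nat) : Nat := col7 (col1 (col3 (col1 (col5 (col1 (col4 (col4 (col2 (col6 (col0 (col3 (col0 (col5 (col3 (col4 (col2 (col0 (col2 (i)))))))))))))))))))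
theorem act23_eq (i : Nat) : act23 i = Tab.act T D chk23 i := rfl
theorem c23_0 : allRange (fun i => Nat.beq (act23 i) i) 0 2857 = true := by decide +kernel
theorem c23_1 : allRange (fun i => Nat.beq (act23 i) i) 2857 2857 = true := by decide +kernel
theorem c23_2 : allRange (fun i => Nat.beq (act23 i) i) 5714 2857 = true := by decide +kernel
theorem c23_3 : allRange (fun i => Nat.beq (act23 i) i) 8571 2857 = true := by decide +kernel
theorem c23_4 : allRange (fun i => Nat.beq (act23 i) i) 11428 2857 = true := by decide +kernel
theorem c23_5 : allRange (fun i => Nat.beq (act23 i) i) 14285 2857 = true := by decide +kernel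
theorem c23_6 : allRange (fun i => Nat.beq (act23 i) i) 17142 2857 = true := by decide +kernel
theorem c23_7 : allRange (fun i => Nat.beq (act23 i) i) 19999 2857 = true := by decide +kernel
theorem c23_8 : allRange (fun i => Nat.beq (act23 i) i) 22856 2857 = true := by decide +kernel
theorem c23_9 : allRange (fun i => Nat.beq (act23 i) i) 25713 2857 = true := by decide +kernel
theorem c23_10 : allRange (fun i => Nat.beq (act23 i) i) 28570 2857 = true := by decide +kernel
theorem c23_11 : allRange (fun i => Nat.beq (act23 i) i) 31427 2857 = true := by decide +kernel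
theorem c23_12 : allRange (fun i => Nat.beq (act23 i) i) 34284 2857 = true := by decide +kernel
theorem c23_13 : allRange (fun i => Nat.beq (act23 i) i) 37141 2857 = true := by decide +kernel
theorem c23_14 : allRange (fun i => Nat.beq (act23 i) i) 39998 2857 = true := by decide +kernel
theorem c23_15 : allRange (fun i => Nat.beq (act23 i) i) 42855 2857 = true := by decide +kernel
theorem c23_16 : allRange (fun i => Nat.beq (act23 i) i) 45712 2857 = true := by decide +kernel
theorem c23_17 : allRange (fun i => Nat.beq (act23 i) i) 48569 31 = true := by decide +kernel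
theorem h23 : ∀ i, i < T.N → Tab.relActOK T D chk23 i = true := by
  intro i hi
  rw [Tab.relActOK, ← act23_eq]
  exact (range_glue (range_of_allRange c23_0) (range_glue (range_of_allRange c23_1) (range_glue (range_of_allRange c23_2) (range_glue (range_of_allRange c23_3) (range_glue (range_of_allRange c23_4) (range_glue (range_of_allRange c23_5) (range_glue (range_of_allRange c23_6) (range_glue (range_of_allRange c23_7) (range_glue (range_of_allRange c23_8) (range_glue (range_of_allRange c23_9) (range_glue (range_of_allRange c23_10) (range_glue (range_of_allRange c23_11) (range_glue (range_of_allRange c23_12) (range_glue (range_of_allRange c23_13) (range_glue (range_of_allRange c23_14) (range_glue (range_of_allRange c23_15) (range_glue (range_of_allRange c23_16) (range_of_allRange c23_17)))))))))))))))))) i (Nat.zero_le _) hi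

def chk24 : List Nat := [0, 2, 0, 4, 0, 5, 5, 3, 0, 2, 0, 4, 0, 5, 5, 3, 0, 2, 0, 4, 0, 5, 5, 3, 0, 2, 0, 4, 0, 5, 5, 3]
noncomputable def act24 (i : Nat) : Nat := col1 (col3 (col1 (col5 (col1 (col4 (col4 (col2 (col1 (col3 (col1 (col5 (col1 (col4 (col4 (col2 (col1 (col3 (col1 (col5 (col1 (col4 (col4 (col2 (col1 (col3 (col1 (col5 (col1 (col4 (col4 (col2 (i))))))))))))))))))))))))))))))))
theorem act24_eq (i : Nat) : act24 i = Tab.act T D chk24 i := rfl
theorem c24_0 : allRange (fun i => Nat.beq (act24 i) i) 0 1764 = true := by decide +kernel
theorem c24_1 : allRange (fun i => Nat.beq (act24 i) i) 1764 1764 = true := by decide +kernel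
theorem c24_2 : allRange (fun i => Nat.beq (act24 i) i) 3528 1764 = true := by decide +kernel
theorem c24_3 : allRange (fun i => Nat.beq (act24 i) i) 5292 1764 = true := by decide +kernel
theorem c24_4 : allRange (fun i => Nat.beq (act24 i) i) 7056 1764 = true := by decide +kernel
theorem c24_5 : allRange (fun i => Nat.beq (act24 i) i) 8820 1764 = true := by decide +kernel
theorem c24_6 : allRange (fun i => Nat.beq (act24 i) i) 10584 1764 = true := by decide +kernel
theorem c24_7 : allRange (fun i => Nat.beq (act24 i) i) 12348 1764 = true := by decide +kernel
theorem c24_8 : allRange (fun i => Nat.beq (act24 i) i) 14112 1764 = true := by decide +kernel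
theorem c24_9 : allRange (fun i => Nat.beq (act24 i) i) 15876 1764 = true := by decide +kernel
theorem c24_10 : allRange (fun i => Nat.beq (act24 i) i) 17640 1764 = true := by decide +kernel
theorem c24_11 : allRange (fun i => Nat.beq (act24 i) i) 19404 1764 = true := by decide +kernel
theorem c24_12 : allRange (fun i => Nat.beq (act24 i) i) 21168 1764 = true := by decide +kernel
theorem c24_13 : allRange (fun i => Nat.beq (act24 i) i) 22932 1764 = true := by decide +kernel
theorem c24_14 : allRange (fun i => Nat.beq (act24 i) i) 24696 1764 = true := by decide +kernel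
theorem c24_15 : allRange (fun i => Nat.beq (act24 i) i) 26460 1764 = true := by decide +kernel
theorem c24_16 : allRange (fun i => Nat.beq (act24 i) i) 28224 1764 = true := by decide +kernel
theorem c24_17 : allRange (fun i => Nat.beq (act24 i) i) 29988 1764 = true := by decide +kernel
theorem c24_18 : allRange (fun i => Nat.beq (act24 i) i) 31752 1764 = true := by decide +kernel
theorem c24_19 : allRange (fun i => Nat.beq (act24 i) i) 33516 1764 = true := by decide +kernel
theorem c24_20 : allRange (fun i => Nat.beq (act24 i) i) 35280 1764 = true := by decide +kernel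
theorem c24_21 : allRange (fun i => Nat.beq (act24 i) i) 37044 1764 = true := by decide +kernel
theorem c24_22 : allRange (fun i => Nat.beq (act24 i) i) 38808 1764 = true := by decide +kernel
theorem c24_23 : allRange (fun i => Nat.beq (act24 i) i) 40572 1764 = true := by decide +kernel
theorem c24_24 : allRange (fun i => Nat.beq (act24 i) i) 42336 1764 = true := by decide +kernel
theorem c24_25 : allRange (fun i => Nat.beq (act24 i) i) 44100 1764 = true := by decide +kernel
theorem c24_26 : allRange (fun i => Nat.beq (act24 i) i) 45864 1764 = true := by decide +kernel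
theorem c24_27 : allRange (fun i => Nat.beq (act24 i) i) 47628 972 = true := by decide +kernel
theorem h24 : ∀ i, i < T.N → Tab.relActOK T D chk24 i = true := by
  intro i hi
  rw [Tab.relActOK, ← act24_eq]
  exact (range_glue (range_of_allRange c24_0) (range_glue (range_of_allRange c24_1) (range_glue (range_of_allRange c24_2) (range_glue (range_of_allRange c24_3) (range_glue (range_of_allRange c24_4) (range_glue (range_of_allRange c24_5) (range_glue (range_of_allRange c24_6) (range_glue (range_of_allRange c24_7) (range_glue (range_of_allRange c24_8) (range_glue (range_of_allRange c24_9) (range_glue (range_of_allRange c24_10) (range_glue (range_of_allRange c24_11) (range_glue (range_of_allRange c24_12) (range_glue (range_of_allRange c24_13) (range_glue (range_of_allRange c24_14) (range_glue (range_of_allRange c24_15) (range_glue (range_of_allRange c24_16) (range_glue (range_of_allRange c24_17) (range_glue (range_of_allRange c24_18) (range_glue (range_of_allRange c24_19) (range_glue (range_of_allRange c24_20) (range_glue (range_of_allRange c24_21) (range_glue (range_of_allRange c24_22) (range_glue (range_of_allRange c24_23)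 (range_glue (range_of_allRange c24_24) (range_glue (range_of_allRange c24_25) (range_glue (range_of_allRange c24_26) (range_of_allRange c24_27)))))))))))))))))))))))))))) i (Nat.zero_le _) hi

def chk25 : List Nat := [2, 0, 2, 4, 3, 5, 0, 3, 0, 2, 0, 2, 4, 3, 5, 0, 3, 0, 2, 0, 2, 4, 3, 5, 0, 3, 0, 2, 0, 2, 4, 3, 5, 0, 3, 0]
noncomputable def act25 (i : Nat) : Nat := col3 (col1 (col3 (col5 (col2 (col4 (col1 (col2 (col1 (col3 (col1 (col3 (col5 (col2 (col4 (col1 (col2 (col1 (col3 (col1 (col3 (col5 (col2 (col4 (col1 (col2 (col1 (col3 (col1 (col3 (col5 (col2 (col4 (col1 (col2 (col1 (i))))))))))))))))))))))))))))))))))))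
theorem act25_eq (i : Nat) : act25 i = Tab.act T D chk25 i := rfl
theorem c25_0 : allRange (fun i => Nat.beq (act25 i) i) 0 1578 = true := by decide +kernel
theorem c25_1 : allRange (fun i => Nat.beq (act25 i) i) 1578 1578 = true := by decide +kernel
theorem c25_2 : allRange (fun i => Nat.beq (act25 i) i) 3156 1578 = true := by decide +kernel
theorem c25_3 : allRange (fun i => Nat.beq (act25 i) i) 4734 1578 = true := by decide +kernel
theorem c25_4 : allRange (fun i => Nat.beq (act25 i) i) 6312 1578 = true := by decide +kernel
theorem c25_5 : allRange (fun i => Nat.beq (act25 i) i) 7890 1578 = true := by decide +kernel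
theorem c25_6 : allRange (fun i => Nat.beq (act25 i) i) 9468 1578 = true := by decide +kernel
theorem c25_7 : allRange (fun i => Nat.beq (act25 i) i) 11046 1578 = true := by decide +kernel
theorem c25_8 : allRange (fun i => Nat.beq (act25 i) i) 12624 1578 = true := by decide +kernel
theorem c25_9 : allRange (fun i => Nat.beq (act25 i) i) 14202 1578 = true := by decide +kernel
theorem c25_10 : allRange (fun i => Nat.beq (act25 i) i) 15780 1578 = true := by decide +kernel
theorem c25_11 : allRange (fun i => Nat.beq (act25 i) i) 17358 1578 = true := by decide +kernel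
theorem c25_12 : allRange (fun i => Nat.beq (act25 i) i) 18936 1578 = true := by decide +kernel
theorem c25_13 : allRange (fun i => Nat.beq (act25 i) i) 20514 1578 = true := by decide +kernel
theorem c25_14 : allRange (fun i => Nat.beq (act25 i) i) 22092 1578 = true := by decide +kernel
theorem c25_15 : allRange (fun i => Nat.beq (act25 i) i) 23670 1578 = true := by decide +kernel
theorem c25_16 : allRange (fun i => Nat.beq (act25 i) i) 25248 1578 = true := by decide +kernel
theorem c25_17 : allRange (fun i => Nat.beq (act25 i) i) 26826 1578 = true := by decide +kernel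
theorem c25_18 : allRange (fun i => Nat.beq (act25 i) i) 28404 1578 = true := by decide +kernel
theorem c25_19 : allRange (fun i => Nat.beq (act25 i) i) 29982 1578 = true := by decide +kernel
theorem c25_20 : allRange (fun i => Nat.beq (act25 i) i) 31560 1578 = true := by decide +kernel
theorem c25_21 : allRange (fun i => Nat.beq (act25 i) i) 33138 1578 = true := by decide +kernel
theorem c25_22 : allRange (fun i => Nat.beq (act25 i) i) 34716 1578 = true := by decide +kernel
theorem c25_23 : allRange (fun i => Nat.beq (act25 i) i) 36294 1578 = true := by decide +kernel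
theorem c25_24 : allRange (fun i => Nat.beq (act25 i) i) 37872 1578 = true := by decide +kernel
theorem c25_25 : allRange (fun i => Nat.beq (act25 i) i) 39450 1578 = true := by decide +kernel
theorem c25_26 : allRange (fun i => Nat.beq (act25 i) i) 41028 1578 = true := by decide +kernel
theorem c25_27 : allRange (fun i => Nat.beq (act25 i) i) 42606 1578 = true := by decide +kernel
theorem c25_28 : allRange (fun i => Nat.beq (act25 i) i) 44184 1578 = true := by decide +kernel
theorem c25_29 : allRange (fun i => Nat.beq (act25 i) i) 45762 1578 = true := by decide +kernel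
theorem c25_30 : allRange (fun i => Nat.beq (act25 i) i) 47340 1260 = true := by decide +kernel
theorem h25 : ∀ i, i < T.N → Tab.relActOK T D chk25 i = true := by
  intro i hi
  rw [Tab.relActOK, ← act25_eq]
  exact (range_glue (range_of_allRange c25_0) (range_glue (range_of_allRange c25_1) (range_glue (range_of_allRange c25_2) (range_glue (range_of_allRange c25_3) (range_glue (range_of_allRange c25_4) (range_glue (range_of_allRange c25_5) (range_glue (range_of_allRange c25_6) (range_glue (range_of_allRange c25_7) (range_glue (range_of_allRange c25_8) (range_glue (range_of_allRange c25_9) (range_glue (range_of_allRange c25_10) (range_glue (range_of_allRange c25_11) (range_glue (range_of_allRange c25_12) (range_glue (range_of_allRange c25_13) (range_glue (range_of_allRange c25_14) (range_glue (range_of_allRange c25_15) (range_glue (range_of_allRange c25_16) (range_glue (range_of_allRange c25_17) (range_glue (range_of_allRange c25_18) (range_glue (range_of_allRange c25_19) (range_glue (range_of_allRange c25_20) (range_glue (range_of_allRange c25_21) (range_glue (range_of_allRange c25_22) (range_glue (range_of_allRange c25_23)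 (range_glue (range_of_allRange c25_24) (range_glue (range_of_allRange c25_25) (range_glue (range_of_allRange c25_26) (range_glue (range_of_allRange c25_27) (range_glue (range_of_allRange c25_28) (range_glue (range_of_allRange c25_29) (range_of_allRange c25_30))))))))))))))))))))))))))))))) i (Nat.zero_le _) hi

def chk26 : List Nat := [6, 4, 2, 0, 5, 5, 0, 3, 0, 3, 7, 4, 3, 3, 5, 3, 3, 1, 3]
noncomputable def act26 (i : Nat) : Nat := col7 (col5 (col3 (col1 (col4 (col4 (col1 (col2 (col1 (col2 (col6 (col5 (col2 (col2 (col4 (col2 (col2 (col0 (col2 (i)))))))))))))))))))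
theorem act26_eq (i : Nat) : act26 i = Tab.act T D chk26 i := rfl
theorem c26_0 : allRange (fun i => Nat.beq (act26 i) i) 0 2857 = true := by decide +kernel
theorem c26_1 : allRange (fun i => Nat.beq (act26 i) i) 2857 2857 = true := by decide +kernel
theorem c26_2 : allRange (fun i => Nat.beq (act26 i) i) 5714 2857 = true := by decide +kernel
theorem c26_3 : allRange (fun i => Nat.beq (act26 i) i) 8571 2857 = true := by decide +kernel
theorem c26_4 : allRange (fun i => Nat.beq (act26 i) i) 11428 2857 = true := by decide +kernel
theorem c26_5 : allRange (fun i => Nat.beq (act26 i) i) 14285 2857 = true := by decide +kernel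
theorem c26_6 : allRange (fun i => Nat.beq (act26 i) i) 17142 2857 = true := by decide +kernel
theorem c26_7 : allRange (fun i => Nat.beq (act26 i) i) 19999 2857 = true := by decide +kernel
theorem c26_8 : allRange (fun i => Nat.beq (act26 i) i) 22856 2857 = true := by decide +kernel
theorem c26_9 : allRange (fun i => Nat.beq (act26 i) i) 25713 2857 = true := by decide +kernel
theorem c26_10 : allRange (fun i => Nat.beq (act26 i) i) 28570 2857 = true := by decide +kernel
theorem c26_11 : allRange (fun i => Nat.beq (act26 i) i) 31427 2857 = true := by decide +kernel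
theorem c26_12 : allRange (fun i => Nat.beq (act26 i) i) 34284 2857 = true := by decide +kernel
theorem c26_13 : allRange (fun i => Nat.beq (act26 i) i) 37141 2857 = true := by decide +kernel
theorem c26_14 : allRange (fun i => Nat.beq (act26 i) i) 39998 2857 = true := by decide +kernel
theorem c26_15 : allRange (fun i => Nat.beq (act26 i) i) 42855 2857 = true := by decide +kernel
theorem c26_16 : allRange (fun i => Nat.beq (act26 i) i) 45712 2857 = true := by decide +kernel
theorem c26_17 : allRange (fun i => Nat.beq (act26 i) i) 48569 31 = true := by decide +kernel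
theorem h26 : ∀ i, i < T.N → Tab.relActOK T D chk26 i = true := by
  intro i hi
  rw [Tab.relActOK, ← act26_eq]
  exact (range_glue (range_of_allRange c26_0) (range_glue (range_of_allRange c26_1) (range_glue (range_of_allRange c26_2) (range_glue (range_of_allRange c26_3) (range_glue (range_of_allRange c26_4) (range_glue (range_of_allRange c26_5) (range_glue (range_of_allRange c26_6) (range_glue (range_of_allRange c26_7) (range_glue (range_of_allRange c26_8) (range_glue (range_of_allRange c26_9) (range_glue (range_of_allRange c26_10) (range_glue (range_of_allRange c26_11) (range_glue (range_of_allRange c26_12) (range_glue (range_of_allRange c26_13) (range_glue (range_of_allRange c26_14) (range_glue (range_of_allRange c26_15) (range_glue (range_of_allRange c26_16) (range_of_allRange c26_17)))))))))))))))))) i (Nat.zero_le _) hi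

def chk27 : List Nat := [4, 2, 0, 5, 5, 0, 3, 0, 3, 4, 2, 0, 5, 5, 0, 3, 0, 3, 4, 2, 0, 5, 5, 0, 3, 0, 3, 4, 2, 0, 5, 5, 0, 3, 0, 3]
noncomputable def act27 (i : Nat) : Nat := col5 (col3 (col1 (col4 (col4 (col1 (col2 (col1 (col2 (col5 (col3 (col1 (col4 (col4 (col1 (col2 (col1 (col2 (col5 (col3 (col1 (col4 (col4 (col1 (col2 (col1 (col2 (col5 (col3 (col1 (col4 (col4 (col1 (col2 (col1 (col2 (i))))))))))))))))))))))))))))))))))))
theorem act27_eq (i : Nat) : act27 i = Tab.act T D chk27 i := rfl
theorem c27_0 : allRange (fun i => Nat.beq (act27 i) i) 0 1578 = true := by decide +kernel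
theorem c27_1 : allRange (fun i => Nat.beq (act27 i) i) 1578 1578 = true := by decide +kernel
theorem c27_2 : allRange (fun i => Nat.beq (act27 i) i) 3156 1578 = true := by decide +kernel
theorem c27_3 : allRange (fun i => Nat.beq (act27 i) i) 4734 1578 = true := by decide +kernel
theorem c27_4 : allRange (fun i => Nat.beq (act27 i) i) 6312 1578 = true := by decide +kernel
theorem c27_5 : allRange (fun i => Nat.beq (act27 i) i) 7890 1578 = true := by decide +kernel
theorem c27_6 : allRange (fun i => Nat.beq (act27 i) i) 9468 1578 = true := by decide +kernel
theorem c27_7 : allRange (fun i => Nat.beq (act27 i) i) 11046 1578 = true := by decide +kernel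
theorem c27_8 : allRange (fun i => Nat.beq (act27 i) i) 12624 1578 = true := by decide +kernel
theorem c27_9 : allRange (fun i => Nat.beq (act27 i) i) 14202 1578 = true := by decide +kernel
theorem c27_10 : allRange (fun i => Nat.beq (act27 i) i) 15780 1578 = true := by decide +kernel
theorem c27_11 : allRange (fun i => Nat.beq (act27 i) i) 17358 1578 = true := by decide +kernel
theorem c27_12 : allRange (fun i => Nat.beq (act27 i) i) 18936 1578 = true := by decide +kernel
theorem c27_13 : allRange (fun i => Nat.beq (act27 i) i) 20514 1578 = true := by decide +kernel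
theorem c27_14 : allRange (fun i => Nat.beq (act27 i) i) 22092 1578 = true := by decide +kernel
theorem c27_15 : allRange (fun i => Nat.beq (act27 i) i) 23670 1578 = true := by decide +kernel
theorem c27_16 : allRange (fun i => Nat.beq (act27 i) i) 25248 1578 = true := by decide +kernel
theorem c27_17 : allRange (fun i => Nat.beq (act27 i) i) 26826 1578 = true := by decide +kernel
theorem c27_18 : allRange (fun i => Nat.beq (act27 i) i) 28404 1578 = true := by decide +kernel
theorem c27_19 : allRange (fun i => Nat.beq (act27 i) i) 29982 1578 = true := by decide +kernel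
theorem c27_20 : allRange (fun i => Nat.beq (act27 i) i) 31560 1578 = true := by decide +kernel
theorem c27_21 : allRange (fun i => Nat.beq (act27 i) i) 33138 1578 = true := by decide +kernel
theorem c27_22 : allRange (fun i => Nat.beq (act27 i) i) 34716 1578 = true := by decide +kernel
theorem c27_23 : allRange (fun i => Nat.beq (act27 i) i) 36294 1578 = true := by decide +kernel
theorem c27_24 : allRange (fun i => Nat.beq (act27 i) i) 37872 1578 = true := by decide +kernel
theorem c27_25 : allRange (fun i => Nat.beq (act27 i) i) 39450 1578 = true := by decide +kernel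
theorem c27_26 : allRange (fun i => Nat.beq (act27 i) i) 41028 1578 = true := by decide +kernel
theorem c27_27 : allRange (fun i => Nat.beq (act27 i) i) 42606 1578 = true := by decide +kernel
theorem c27_28 : allRange (fun i => Nat.beq (act27 i) i) 44184 1578 = true := by decide +kernel
theorem c27_29 : allRange (fun i => Nat.beq (act27 i) i) 45762 1578 = true := by decide +kernel
theorem c27_30 : allRange (fun i => Nat.beq (act27 i) i) 47340 1260 = true := by decide +kernel
theorem h27 : ∀ i, i < T.N → Tab.relActOK T D chk27 i = true := by
  intro i hi
  rw [Tab.relActOK, ← act27_eq]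
  exact (range_glue (range_of_allRange c27_0) (range_glue (range_of_allRange c27_1) (range_glue (range_of_allRange c27_2) (range_glue (range_of_allRange c27_3) (range_glue (range_of_allRange c27_4) (range_glue (range_of_allRange c27_5) (range_glue (range_of_allRange c27_6) (range_glue (range_of_allRange c27_7) (range_glue (range_of_allRange c27_8) (range_glue (range_of_allRange c27_9) (range_glue (range_of_allRange c27_10) (range_glue (range_of_allRange c27_11) (range_glue (range_of_allRange c27_12) (range_glue (range_of_allRange c27_13) (range_glue (range_of_allRange c27_14) (range_glue (range_of_allRange c27_15) (range_glue (range_of_allRange c27_16) (range_glue (range_of_allRange c27_17) (range_glue (range_of_allRange c27_18) (range_glue (range_of_allRange c27_19) (range_glue (range_of_allRange c27_20) (range_glue (range_of_allRange c27_21) (range_glue (range_of_allRange c27_22) (range_glue (range_of_allRange c27_23) (range_glue (range_of_allRange c27_24) (range_glue (range_of_allRange c27_25) (range_glue (range_of_allRange c27_26) (range_glue (range_of_allRange c27_27) (range_glue (range_of_allRange c27_28) (range_glue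 (range_of_allRange c27_29) (range_of_allRange c27_30))))))))))))))))))))))))))))))) i (Nat.zero_le _) hi

def chk28 : List Nat := [2, 0, 2, 2, 4, 2, 2, 5, 2, 0, 2, 2, 4, 2, 2, 5, 2, 0, 2, 2, 4, 2, 2, 5, 2, 0, 2, 2, 4, 2, 2, 5]
noncomputable def act28 (i : Nat) : Nat := col3 (col1 (col3 (col3 (col5 (col3 (col3 (col4 (col3 (col1 (col3 (col3 (col5 (col3 (col3 (col4 (col3 (col1 (col3 (col3 (col5 (col3 (col3 (col4 (col3 (col1 (col3 (col3 (col5 (col3 (col3 (col4 (i))))))))))))))))))))))))))))))))
theorem act28_eq (i : Nat) : act28 i = Tab.act T D chk28 i := rfl
theorem c28_0 : allRange (fun i => Nat.beq (act28 i) i) 0 1764 = true := by decide +kernel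
theorem c28_1 : allRange (fun i => Nat.beq (act28 i) i) 1764 1764 = true := by decide +kernel
theorem c28_2 : allRange (fun i => Nat.beq (act28 i) i) 3528 1764 = true := by decide +kernel
theorem c28_3 : allRange (fun i => Nat.beq (act28 i) i) 5292 1764 = true := by decide +kernel
theorem c28_4 : allRange (fun i => Nat.beq (act28 i) i) 7056 1764 = true := by decide +kernel
theorem c28_5 : allRange (fun i => Nat.beq (act28 i) i) 8820 1764 = true := by decide +kernel
theorem c28_6 : allRange (fun i => Nat.beq (act28 i) i) 10584 1764 = true := by decide +kernel
theorem c28_7 : allRange (fun i => Nat.beq (act28 i) i) 12348 1764 = true := by decide +kernel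
theorem c28_8 : allRange (fun i => Nat.beq (act28 i) i) 14112 1764 = true := by decide +kernel
theorem c28_9 : allRange (fun i => Nat.beq (act28 i) i) 15876 1764 = true := by decide +kernel
theorem c28_10 : allRange (fun i => Nat.beq (act28 i) i) 17640 1764 = true := by decide +kernel
theorem c28_11 : allRange (fun i => Nat.beq (act28 i) i) 19404 1764 = true := by decide +kernel
theorem c28_12 : allRange (fun i => Nat.beq (act28 i) i) 21168 1764 = true := by decide +kernel
theorem c28_13 : allRange (fun i => Nat.beq (act28 i) i) 22932 1764 = true := by decide +kernel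
theorem c28_14 : allRange (fun i => Nat.beq (act28 i) i) 24696 1764 = true := by decide +kernel
theorem c28_15 : allRange (fun i => Nat.beq (act28 i) i) 26460 1764 = true := by decide +kernel
theorem c28_16 : allRange (fun i => Nat.beq (act28 i) i) 28224 1764 = true := by decide +kernel
theorem c28_17 : allRange (fun i => Nat.beq (act28 i) i) 29988 1764 = true := by decide +kernel
theorem c28_18 : allRange (fun i => Nat.beq (act28 i) i) 31752 1764 = true := by decide +kernel
theorem c28_19 : allRange (fun i => Nat.beq (act28 i) i) 33516 1764 = true := by decide +kernel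
theorem c28_20 : allRange (fun i => Nat.beq (act28 i) i) 35280 1764 = true := by decide +kernel
theorem c28_21 : allRange (fun i => Nat.beq (act28 i) i) 37044 1764 = true := by decide +kernel
theorem c28_22 : allRange (fun i => Nat.beq (act28 i) i) 38808 1764 = true := by decide +kernel
theorem c28_23 : allRange (fun i => Nat.beq (act28 i) i) 40572 1764 = true := by decide +kernel
theorem c28_24 : allRange (fun i => Nat.beq (act28 i) i) 42336 1764 = true := by decide +kernel
theorem c28_25 : allRange (fun i => Nat.beq (act28 i) i) 44100 1764 = true := by decide +kernel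
theorem c28_26 : allRange (fun i => Nat.beq (act28 i) i) 45864 1764 = true := by decide +kernel
theorem c28_27 : allRange (fun i => Nat.beq (act28 i) i) 47628 972 = true := by decide +kernel
theorem h28 : ∀ i, i < T.N → Tab.relActOK T D chk28 i = true := by
  intro i hi
  rw [Tab.relActOK, ← act28_eq]
  exact (range_glue (range_of_allRange c28_0) (range_glue (range_of_allRange c28_1) (range_glue (range_of_allRange c28_2) (range_glue (range_of_allRange c28_3) (range_glue (range_of_allRange c28_4) (range_glue (range_of_allRange c28_5) (range_glue (range_of_allRange c28_6) (range_glue (range_of_allRange c28_7) (range_glue (range_of_allRange c28_8) (range_glue (range_of_allRange c28_9) (range_glue (range_of_allRange c28_10) (range_glue (range_of_allRange c28_11) (range_glue (range_of_allRange c28_12) (range_glue (range_of_allRange c28_13) (range_glue (range_of_allRange c28_14) (range_glue (range_of_allRange c28_15) (range_glue (range_of_allRange c28_16) (range_glue (range_of_allRange c28_17) (range_glue (range_of_allRange c28_18) (range_glue (range_of_allRange c28_19) (range_glue (range_of_allRange c28_20) (range_glue (range_of_allRange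 c28_21) (range_glue (range_of_allRange c28_22) (range_glue (range_of_allRange c28_23) (range_glue (range_of_allRange c28_24) (range_glue (range_of_allRange c28_25) (range_glue (range_of_allRange c28_26) (range_of_allRange c28_27)))))))))))))))))))))))))))) i (Nat.zero_le _) hi

def chk29 : List Nat := [6, 5, 0, 4, 7, 1, 4, 2, 4, 3, 1, 3, 1, 3, 3, 1, 2, 1, 3, 3, 1, 3, 3]
noncomputable def act29 (i : Nat) : Nat := col7 (col4 (col1 (col5 (col6 (col0 (col5 (col3 (col5 (col2 (col0 (col2 (col0 (col2 (col2 (col0 (col3 (col0 (col2 (col2 (col0 (col2 (col2 (i)))))))))))))))))))))))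
theorem act29_eq (i : Nat) : act29 i = Tab.act T D chk29 i := rfl
theorem c29_0 : allRange (fun i => Nat.beq (act29 i) i) 0 2400 = true := by decide +kernel
theorem c29_1 : allRange (fun i => Nat.beq (act29 i) i) 2400 2400 = true := by decide +kernel
theorem c29_2 : allRange (fun i => Nat.beq (act29 i) i) 4800 2400 = true := by decide +kernel
theorem c29_3 : allRange (fun i => Nat.beq (act29 i) i) 7200 2400 = true := by decide +kernel
theorem c29_4 : allRange (fun i => Nat.beq (act29 i) i) 9600 2400 = true := by decide +kernel
theorem c29_5 : allRange (fun i => Nat.beq (act29 i) i) 12000 2400 = true := by decide +kernel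
theorem c29_6 : allRange (fun i => Nat.beq (act29 i) i) 14400 2400 = true := by decide +kernel
theorem c29_7 : allRange (fun i => Nat.beq (act29 i) i) 16800 2400 = true := by decide +kernel
theorem c29_8 : allRange (fun i => Nat.beq (act29 i) i) 19200 2400 = true := by decide +kernel
theorem c29_9 : allRange (fun i => Nat.beq (act29 i) i) 21600 2400 = true := by decide +kernel
theorem c29_10 : allRange (fun i => Nat.beq (act29 i) i) 24000 2400 = true := by decide +kernel
theorem c29_11 : allRange (fun i => Nat.beq (act29 i) i) 26400 2400 = true := by decide +kernel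
theorem c29_12 : allRange (fun i => Nat.beq (act29 i) i) 28800 2400 = true := by decide +kernel
theorem c29_13 : allRange (fun i => Nat.beq (act29 i) i) 31200 2400 = true := by decide +kernel
theorem c29_14 : allRange (fun i => Nat.beq (act29 i) i) 33600 2400 = true := by decide +kernel
theorem c29_15 : allRange (fun i => Nat.beq (act29 i) i) 36000 2400 = true := by decide +kernel
theorem c29_16 : allRange (fun i => Nat.beq (act29 i) i) 38400 2400 = true := by decide +kernel
theorem c29_17 : allRange (fun i => Nat.beq (act29 i) i) 40800 2400 = true := by decide +kernel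
theorem c29_18 : allRange (fun i => Nat.beq (act29 i) i) 43200 2400 = true := by decide +kernel
theorem c29_19 : allRange (fun i => Nat.beq (act29 i) i) 45600 2400 = true := by decide +kernel
theorem c29_20 : allRange (fun i => Nat.beq (act29 i) i) 48000 600 = true := by decide +kernel
theorem h29 : ∀ i, i < T.N → Tab.relActOK T D chk29 i = true := by
  intro i hi
  rw [Tab.relActOK, ← act29_eq]
  exact (range_glue (range_of_allRange c29_0) (range_glue (range_of_allRange c29_1) (range_glue (range_of_allRange c29_2) (range_glue (range_of_allRange c29_3) (range_glue (range_of_allRange c29_4) (range_glue (range_of_allRange c29_5) (range_glue (range_of_allRange c29_6) (range_glue (range_of_allRange c29_7) (range_glue (range_of_allRange c29_8) (range_glue (range_of_allRange c29_9) (range_glue (range_of_allRange c29_10) (range_glue (range_of_allRange c29_11) (range_glue (range_of_allRange c29_12) (range_glue (range_of_allRange c29_13) (range_glue (range_of_allRange c29_14) (range_glue (range_of_allRange c29_15) (range_glue (range_of_allRange c29_16) (range_glue (range_of_allRange c29_17) (range_glue (range_of_allRange c29_18)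 (range_glue (range_of_allRange c29_19) (range_of_allRange c29_20))))))))))))))))))))) i (Nat.zero_le _) hi

def chk30 : List Nat := [5, 0, 4, 5, 0, 4]
noncomputable def act30 (i : Nat) : Nat := col4 (col1 (col5 (col4 (col1 (col5 (i))))))
theorem act30_eq (i : Nat) : act30 i = Tab.act T D chk30 i := rfl
theorem c30_0 : allRange (fun i => Nat.beq (act30 i) i) 0 7500 = true := by decide +kernel
theorem c30_1 : allRange (fun i => Nat.beq (act30 i) i) 7500 7500 = true := by decide +kernel
theorem c30_2 : allRange (fun i => Nat.beq (act30 i) i) 15000 7500 = true := by decide +kernel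
theorem c30_3 : allRange (fun i => Nat.beq (act30 i) i) 22500 7500 = true := by decide +kernel
theorem c30_4 : allRange (fun i => Nat.beq (act30 i) i) 30000 7500 = true := by decide +kernel
theorem c30_5 : allRange (fun i => Nat.beq (act30 i) i) 37500 7500 = true := by decide +kernel
theorem c30_6 : allRange (fun i => Nat.beq (act30 i) i) 45000 3600 = true := by decide +kernel
theorem h30 : ∀ i, i < T.N → Tab.relActOK T D chk30 i = true := by
  intro i hi
  rw [Tab.relActOK, ← act30_eq]
  exact (range_glue (range_of_allRange c30_0) (range_glue (range_of_allRange c30_1) (range_glue (range_of_allRange c30_2) (range_glue (range_of_allRange c30_3) (range_glue (range_of_allRange c30_4) (range_glue (range_of_allRange c30_5) (range_of_allRange c30_6))))))) i (Nat.zero_le _) hi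

def chk31 : List Nat := [2, 2, 0, 2, 2, 0, 3, 0, 2, 2, 0, 2, 0, 2, 5, 3, 5, 0, 2, 2, 0, 2, 2, 0, 3, 0, 2, 2, 0, 2, 0, 2, 5, 3, 5, 0]
noncomputable def act31 (i : Nat) : Nat := col3 (col3 (col1 (col3 (col3 (col1 (col2 (col1 (col3 (col3 (col1 (col3 (col1 (col3 (col4 (col2 (col4 (col1 (col3 (col3 (col1 (col3 (col3 (col1 (col2 (col1 (col3 (col3 (col1 (col3 (col1 (col3 (col4 (col2 (col4 (col1 (i))))))))))))))))))))))))))))))))))))
theorem act31_eq (i : Nat) : act31 i = Tab.act T D chk31 i := rfl
theorem c31_0 : allRange (fun i => Nat.beq (act31 i) i) 0 1578 = true := by decide +kernel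
theorem c31_1 : allRange (fun i => Nat.beq (act31 i) i) 1578 1578 = true := by decide +kernel
theorem c31_2 : allRange (fun i => Nat.beq (act31 i) i) 3156 1578 = true := by decide +kernel
theorem c31_3 : allRange (fun i => Nat.beq (act31 i) i) 4734 1578 = true := by decide +kernel
theorem c31_4 : allRange (fun i => Nat.beq (act31 i) i) 6312 1578 = true := by decide +kernel
theorem c31_5 : allRange (fun i => Nat.beq (act31 i) i) 7890 1578 = true := by decide +kernel
theorem c31_6 : allRange (fun i => Nat.beq (act31 i) i) 9468 1578 = true := by decide +kernel
theorem c31_7 : allRange (fun i => Nat.beq (act31 i) i) 11046 1578 = true := by decide +kernel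
theorem c31_8 : allRange (fun i => Nat.beq (act31 i) i) 12624 1578 = true := by decide +kernel
theorem c31_9 : allRange (fun i => Nat.beq (act31 i) i) 14202 1578 = true := by decide +kernel
theorem c31_10 : allRange (fun i => Nat.beq (act31 i) i) 15780 1578 = true := by decide +kernel
theorem c31_11 : allRange (fun i => Nat.beq (act31 i) i) 17358 1578 = true := by decide +kernel
theorem c31_12 : allRange (fun i => Nat.beq (act31 i) i) 18936 1578 = true := by decide +kernel
theorem c31_13 : allRange (fun i => Nat.beq (act31 i) i) 20514 1578 = true := by decide +kernel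
theorem c31_14 : allRange (fun i => Nat.beq (act31 i) i) 22092 1578 = true := by decide +kernel
theorem c31_15 : allRange (fun i => Nat.beq (act31 i) i) 23670 1578 = true := by decide +kernel
theorem c31_16 : allRange (fun i => Nat.beq (act31 i) i) 25248 1578 = true := by decide +kernel
theorem c31_17 : allRange (fun i => Nat.beq (act31 i) i) 26826 1578 = true := by decide +kernel
theorem c31_18 : allRange (fun i => Nat.beq (act31 i) i) 28404 1578 = true := by decide +kernel
theorem c31_19 : allRange (fun i => Nat.beq (act31 i) i) 29982 1578 = true := by decide +kernel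
theorem c31_20 : allRange (fun i => Nat.beq (act31 i) i) 31560 1578 = true := by decide +kernel
theorem c31_21 : allRange (fun i => Nat.beq (act31 i) i) 33138 1578 = true := by decide +kernel
theorem c31_22 : allRange (fun i => Nat.beq (act31 i) i) 34716 1578 = true := by decide +kernel
theorem c31_23 : allRange (fun i => Nat.beq (act31 i) i) 36294 1578 = true := by decide +kernel
theorem c31_24 : allRange (fun i => Nat.beq (act31 i) i) 37872 1578 = true := by decide +kernel
theorem c31_25 : allRange (fun i => Nat.beq (act31 i) i) 39450 1578 = true := by decide +kernel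
theorem c31_26 : allRange (fun i => Nat.beq (act31 i) i) 41028 1578 = true := by decide +kernel
theorem c31_27 : allRange (fun i => Nat.beq (act31 i) i) 42606 1578 = true := by decide +kernel
theorem c31_28 : allRange (fun i => Nat.beq (act31 i) i) 44184 1578 = true := by decide +kernel
theorem c31_29 : allRange (fun i => Nat.beq (act31 i) i) 45762 1578 = true := by decide +kernel
theorem c31_30 : allRange (fun i => Nat.beq (act31 i) i) 47340 1260 = true := by decide +kernel
theorem h31 : ∀ i, i < T.N → Tab.relActOK T D chk31 i = true := by
  intro i hi
  rw [Tab.relActOK, ← act31_eq]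
  exact (range_glue (range_of_allRange c31_0) (range_glue (range_of_allRange c31_1) (range_glue (range_of_allRange c31_2) (range_glue (range_of_allRange c31_3) (range_glue (range_of_allRange c31_4) (range_glue (range_of_allRange c31_5) (range_glue (range_of_allRange c31_6) (range_glue (range_of_allRange c31_7) (range_glue (range_of_allRange c31_8) (range_glue (range_of_allRange c31_9) (range_glue (range_of_allRange c31_10) (range_glue (range_of_allRange c31_11) (range_glue (range_of_allRange c31_12) (range_glue (range_of_allRange c31_13) (range_glue (range_of_allRange c31_14) (range_glue (range_of_allRange c31_15) (range_glue (range_of_allRange c31_16) (range_glue (range_of_allRange c31_17) (range_glue (range_of_allRange c31_18) (range_glue (range_of_allRange c31_19) (range_glue (range_of_allRange c31_20) (range_glue (range_of_allRange c31_21) (range_glue (range_of_allRange c31_22) (range_glue (range_of_allRange c31_23) (range_glue (range_of_allRange c31_24) (range_glue (range_of_allRange c31_25) (range_glue (range_of_allRange c31_26) (range_glue (range_of_allRange c31_27) (range_glue (range_of_allRange c31_28) (range_glue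 (range_of_allRange c31_29) (range_of_allRange c31_30))))))))))))))))))))))))))))))) i (Nat.zero_le _) hi

def chk32 : List Nat := [6, 2, 4, 4, 4, 3, 3, 5, 5, 5, 3, 7, 5, 3, 3, 5, 5, 1, 5, 3, 3, 1, 2]
noncomputable def act32 (i : Nat) : Nat := col7 (col3 (col5 (col5 (col5 (col2 (col2 (col4 (col4 (col4 (col2 (col6 (col4 (col2 (col2 (col4 (col4 (col0 (col4 (col2 (col2 (col0 (col3 (i)))))))))))))))))))))))
theorem act32_eq (i : Nat) : act32 i = Tab.act T D chk32 i := rfl
theorem c32_0 : allRange (fun i => Nat.beq (act32 i) i) 0 2400 = true := by decide +kernel
theorem c32_1 : allRange (fun i => Nat.beq (act32 i) i) 2400 2400 = true := by decide +kernel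
theorem c32_2 : allRange (fun i => Nat.beq (act32 i) i) 4800 2400 = true := by decide +kernel
theorem c32_3 : allRange (fun i => Nat.beq (act32 i) i) 7200 2400 = true := by decide +kernel
theorem c32_4 : allRange (fun i => Nat.beq (act32 i) i) 9600 2400 = true := by decide +kernel
theorem c32_5 : allRange (fun i => Nat.beq (act32 i) i) 12000 2400 = true := by decide +kernel
theorem c32_6 : allRange (fun i => Nat.beq (act32 i) i) 14400 2400 = true := by decide +kernel
theorem c32_7 : allRange (fun i => Nat.beq (act32 i) i) 16800 2400 = true := by decide +kernel
theorem c32_8 : allRange (fun i => Nat.beq (act32 i) i) 19200 2400 = true := by decide +kernel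
theorem c32_9 : allRange (fun i => Nat.beq (act32 i) i) 21600 2400 = true := by decide +kernel
theorem c32_10 : allRange (fun i => Nat.beq (act32 i) i) 24000 2400 = true := by decide +kernel
theorem c32_11 : allRange (fun i => Nat.beq (act32 i) i) 26400 2400 = true := by decide +kernel
theorem c32_12 : allRange (fun i => Nat.beq (act32 i) i) 28800 2400 = true := by decide +kernel
theorem c32_13 : allRange (fun i => Nat.beq (act32 i) i) 31200 2400 = true := by decide +kernel
theorem c32_14 : allRange (fun i => Nat.beq (act32 i) i) 33600 2400 = true := by decide +kernel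
theorem c32_15 : allRange (fun i => Nat.beq (act32 i) i) 36000 2400 = true := by decide +kernel
theorem c32_16 : allRange (fun i => Nat.beq (act32 i) i) 38400 2400 = true := by decide +kernel
theorem c32_17 : allRange (fun i => Nat.beq (act32 i) i) 40800 2400 = true := by decide +kernel
theorem c32_18 : allRange (fun i => Nat.beq (act32 i) i) 43200 2400 = true := by decide +kernel
theorem c32_19 : allRange (fun i => Nat.beq (act32 i) i) 45600 2400 = true := by decide +kernel
theorem c32_20 : allRange (fun i => Nat.beq (act32 i) i) 48000 600 = true := by decide +kernel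
theorem h32 : ∀ i, i < T.N → Tab.relActOK T D chk32 i = true := by
  intro i hi
  rw [Tab.relActOK, ← act32_eq]
  exact (range_glue (range_of_allRange c32_0) (range_glue (range_of_allRange c32_1) (range_glue (range_of_allRange c32_2) (range_glue (range_of_allRange c32_3) (range_glue (range_of_allRange c32_4) (range_glue (range_of_allRange c32_5) (range_glue (range_of_allRange c32_6) (range_glue (range_of_allRange c32_7) (range_glue (range_of_allRange c32_8) (range_glue (range_of_allRange c32_9) (range_glue (range_of_allRange c32_10) (range_glue (range_of_allRange c32_11) (range_glue (range_of_allRange c32_12) (range_glue (range_of_allRange c32_13) (range_glue (range_of_allRange c32_14) (range_glue (range_of_allRange c32_15) (range_glue (range_of_allRange c32_16) (range_glue (range_of_allRange c32_17) (range_glue (range_of_allRange c32_18) (range_glue (range_of_allRange c32_19) (range_of_allRange c32_20))))))))))))))))))))) i (Nat.zero_le _) hi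

def chk33 : List Nat := [2, 4, 4, 4, 3, 3, 5, 5, 5, 3, 2, 4, 4, 4, 3, 3, 5, 5, 5, 3]
noncomputable def act33 (i : Nat) : Nat := col3 (col5 (col5 (col5 (col2 (col2 (col4 (col4 (col4 (col2 (col3 (col5 (col5 (col5 (col2 (col2 (col4 (col4 (col4 (col2 (i))))))))))))))))))))
theorem act33_eq (i : Nat) : act33 i = Tab.act T D chk33 i := rfl
theorem c33_0 : allRange (fun i => Nat.beq (act33 i) i) 0 2727 = true := by decide +kernel
theorem c33_1 : allRange (fun i => Nat.beq (act33 i) i) 2727 2727 = true := by decide +kernel
theorem c33_2 : allRange (fun i => Nat.beq (act33 i) i) 5454 2727 = true := by decide +kernel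
theorem c33_3 : allRange (fun i => Nat.beq (act33 i) i) 8181 2727 = true := by decide +kernel
theorem c33_4 : allRange (fun i => Nat.beq (act33 i) i) 10908 2727 = true := by decide +kernel
theorem c33_5 : allRange (fun i => Nat.beq (act33 i) i) 13635 2727 = true := by decide +kernel
theorem c33_6 : allRange (fun i => Nat.beq (act33 i) i) 16362 2727 = true := by decide +kernel
theorem c33_7 : allRange (fun i => Nat.beq (act33 i) i) 19089 2727 = true := by decide +kernel
theorem c33_8 : allRange (fun i => Nat.beq (act33 i) i) 21816 2727 = true := by decide +kernel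
theorem c33_9 : allRange (fun i => Nat.beq (act33 i) i) 24543 2727 = true := by decide +kernel
theorem c33_10 : allRange (fun i => Nat.beq (act33 i) i) 27270 2727 = true := by decide +kernel
theorem c33_11 : allRange (fun i => Nat.beq (act33 i) i) 29997 2727 = true := by decide +kernel
theorem c33_12 : allRange (fun i => Nat.beq (act33 i) i) 32724 2727 = true := by decide +kernel
theorem c33_13 : allRange (fun i => Nat.beq (act33 i) i) 35451 2727 = true := by decide +kernel
theorem c33_14 : allRange (fun i => Nat.beq (act33 i) i) 38178 2727 = true := by decide +kernel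
theorem c33_15 : allRange (fun i => Nat.beq (act33 i) i) 40905 2727 = true := by decide +kernel
theorem c33_16 : allRange (fun i => Nat.beq (act33 i) i) 43632 2727 = true := by decide +kernel
theorem c33_17 : allRange (fun i => Nat.beq (act33 i) i) 46359 2241 = true := by decide +kernel
theorem h33 : ∀ i, i < T.N → Tab.relActOK T D chk33 i = true := by
  intro i hi
  rw [Tab.relActOK, ← act33_eq]
  exact (range_glue (range_of_allRange c33_0) (range_glue (range_of_allRange c33_1) (range_glue (range_of_allRange c33_2) (range_glue (range_of_allRange c33_3) (range_glue (range_of_allRange c33_4) (range_glue (range_of_allRange c33_5) (range_glue (range_of_allRange c33_6) (range_glue (range_of_allRange c33_7) (range_glue (range_of_allRange c33_8) (range_glue (range_of_allRange c33_9) (range_glue (range_of_allRange c33_10) (range_glue (range_of_allRange c33_11) (range_glue (range_of_allRange c33_12) (range_glue (range_of_allRange c33_13) (range_glue (range_of_allRange c33_14) (range_glue (range_of_allRange c33_15) (range_glue (range_of_allRange c33_16) (range_of_allRange c33_17)))))))))))))))))) i (Nat.zero_le _) hi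

def chk34 : List Nat := [3, 0, 2, 2, 4, 0, 4, 4, 2, 2, 4, 3, 0, 2, 2, 4, 0, 4, 4, 2, 2, 4]
noncomputable def act34 (i : Nat) : Nat := col2 (col1 (col3 (col3 (col5 (col1 (col5 (col5 (col3 (col3 (col5 (col2 (col1 (col3 (col3 (col5 (col1 (col5 (col5 (col3 (col3 (col5 (i))))))))))))))))))))))
theorem act34_eq (i : Nat) : act34 i = Tab.act T D chk34 i := rfl
theorem c34_0 : allRange (fun i => Nat.beq (act34 i) i) 0 2500 = true := by decide +kernel
theorem c34_1 : allRange (fun i => Nat.beq (act34 i) i) 2500 2500 = true := by decide +kernel
theorem c34_2 : allRange (fun i => Nat.beq (act34 i) i) 5000 2500 = true := by decide +kernel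
theorem c34_3 : allRange (fun i => Nat.beq (act34 i) i) 7500 2500 = true := by decide +kernel
theorem c34_4 : allRange (fun i => Nat.beq (act34 i) i) 10000 2500 = true := by decide +kernel
theorem c34_5 : allRange (fun i => Nat.beq (act34 i) i) 12500 2500 = true := by decide +kernel
theorem c34_6 : allRange (fun i => Nat.beq (act34 i) i) 15000 2500 = true := by decide +kernel
theorem c34_7 : allRange (fun i => Nat.beq (act34 i) i) 17500 2500 = true := by decide +kernel
theorem c34_8 : allRange (fun i => Nat.beq (act34 i) i) 20000 2500 = true := by decide +kernel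
theorem c34_9 : allRange (fun i => Nat.beq (act34 i) i) 22500 2500 = true := by decide +kernel
theorem c34_10 : allRange (fun i => Nat.beq (act34 i) i) 25000 2500 = true := by decide +kernel
theorem c34_11 : allRange (fun i => Nat.beq (act34 i) i) 27500 2500 = true := by decide +kernel
theorem c34_12 : allRange (fun i => Nat.beq (act34 i) i) 30000 2500 = true := by decide +kernel
theorem c34_13 : allRange (fun i => Nat.beq (act34 i) i) 32500 2500 = true := by decide +kernel
theorem c34_14 : allRange (fun i => Nat.beq (act34 i) i) 35000 2500 = true := by decide +kernel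
theorem c34_15 : allRange (fun i => Nat.beq (act34 i) i) 37500 2500 = true := by decide +kernel
theorem c34_16 : allRange (fun i => Nat.beq (act34 i) i) 40000 2500 = true := by decide +kernel
theorem c34_17 : allRange (fun i => Nat.beq (act34 i) i) 42500 2500 = true := by decide +kernel
theorem c34_18 : allRange (fun i => Nat.beq (act34 i) i) 45000 2500 = true := by decide +kernel
theorem c34_19 : allRange (fun i => Nat.beq (act34 i) i) 47500 1100 = true := by decide +kernel
theorem h34 : ∀ i, i < T.N → Tab.relActOK T D chk34 i = true := by
  intro i hi
  rw [Tab.relActOK, ← act34_eq]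
  exact (range_glue (range_of_allRange c34_0) (range_glue (range_of_allRange c34_1) (range_glue (range_of_allRange c34_2) (range_glue (range_of_allRange c34_3) (range_glue (range_of_allRange c34_4) (range_glue (range_of_allRange c34_5) (range_glue (range_of_allRange c34_6) (range_glue (range_of_allRange c34_7) (range_glue (range_of_allRange c34_8) (range_glue (range_of_allRange c34_9) (range_glue (range_of_allRange c34_10) (range_glue (range_of_allRange c34_11) (range_glue (range_of_allRange c34_12) (range_glue (range_of_allRange c34_13) (range_glue (range_of_allRange c34_14) (range_glue (range_of_allRange c34_15) (range_glue (range_of_allRange c34_16) (range_glue (range_of_allRange c34_17) (range_glue (range_of_allRange c34_18) (range_of_allRange c34_19)))))))))))))))))))) i (Nat.zero_le _) hi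

def chk35 : List Nat := [6, 2, 2, 0, 2, 2, 0, 3, 0, 2, 2, 0, 2, 0, 2, 5, 3, 5, 0, 7, 5, 1, 4]
noncomputable def act35 (i : Nat) : Nat := col7 (col3 (col3 (col1 (col3 (col3 (col1 (col2 (col1 (col3 (col3 (col1 (col3 (col1 (col3 (col4 (col2 (col4 (col1 (col6 (col4 (col0 (col5 (i)))))))))))))))))))))))
theorem act35_eq (i : Nat) : act35 i = Tab.act T D chk35 i := rfl
theorem c35_0 : allRange (fun i => Nat.beq (act35 i) i) 0 2400 = true := by decide +kernel
theorem c35_1 : allRange (fun i => Nat.beq (act35 i) i) 2400 2400 = true := by decide +kernel
theorem c35_2 : allRange (fun i => Nat.beq (act35 i) i) 4800 2400 = true := by decide +kernel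
theorem c35_3 : allRange (fun i => Nat.beq (act35 i) i) 7200 2400 = true := by decide +kernel
theorem c35_4 : allRange (fun i => Nat.beq (act35 i) i) 9600 2400 = true := by decide +kernel
theorem c35_5 : allRange (fun i => Nat.beq (act35 i) i) 12000 2400 = true := by decide +kernel
theorem c35_6 : allRange (fun i => Nat.beq (act35 i) i) 14400 2400 = true := by decide +kernel
theorem c35_7 : allRange (fun i => Nat.beq (act35 i) i) 16800 2400 = true := by decide +kernel
theorem c35_8 : allRange (fun i => Nat.beq (act35 i) i) 19200 2400 = true := by decide +kernel
theorem c35_9 : allRange (fun i => Nat.beq (act35 i) i) 21600 2400 = true := by decide +kernel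
theorem c35_10 : allRange (fun i => Nat.beq (act35 i) i) 24000 2400 = true := by decide +kernel
theorem c35_11 : allRange (fun i => Nat.beq (act35 i) i) 26400 2400 = true := by decide +kernel
theorem c35_12 : allRange (fun i => Nat.beq (act35 i) i) 28800 2400 = true := by decide +kernel
theorem c35_13 : allRange (fun i => Nat.beq (act35 i) i) 31200 2400 = true := by decide +kernel
theorem c35_14 : allRange (fun i => Nat.beq (act35 i) i) 33600 2400 = true := by decide +kernel
theorem c35_15 : allRange (fun i => Nat.beq (act35 i) i) 36000 2400 = true := by decide +kernel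
theorem c35_16 : allRange (fun i => Nat.beq (act35 i) i) 38400 2400 = true := by decide +kernel
theorem c35_17 : allRange (fun i => Nat.beq (act35 i) i) 40800 2400 = true := by decide +kernel
theorem c35_18 : allRange (fun i => Nat.beq (act35 i) i) 43200 2400 = true := by decide +kernel
theorem c35_19 : allRange (fun i => Nat.beq (act35 i) i) 45600 2400 = true := by decide +kernel
theorem c35_20 : allRange (fun i => Nat.beq (act35 i) i) 48000 600 = true := by decide +kernel
theorem h35 : ∀ i, i < T.N → Tab.relActOK T D chk35 i = true := by
  intro i hi
  rw [Tab.relActOK, ← act35_eq]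
  exact (range_glue (range_of_allRange c35_0) (range_glue (range_of_allRange c35_1) (range_glue (range_of_allRange c35_2) (range_glue (range_of_allRange c35_3) (range_glue (range_of_allRange c35_4) (range_glue (range_of_allRange c35_5) (range_glue (range_of_allRange c35_6) (range_glue (range_of_allRange c35_7) (range_glue (range_of_allRange c35_8) (range_glue (range_of_allRange c35_9) (range_glue (range_of_allRange c35_10) (range_glue (range_of_allRange c35_11) (range_glue (range_of_allRange c35_12) (range_glue (range_of_allRange c35_13) (range_glue (range_of_allRange c35_14) (range_glue (range_of_allRange c35_15) (range_glue (range_of_allRange c35_16) (range_glue (range_of_allRange c35_17) (range_glue (range_of_allRange c35_18) (range_glue (range_of_allRange c35_19) (range_of_allRange c35_20))))))))))))))))))))) i (Nat.zero_le _) hi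

def chk36 : List Nat := [2, 2, 0, 2, 2, 0, 3, 0, 2, 2, 0, 2, 0, 2, 5, 3, 5, 0, 2, 2, 0, 2, 2, 0, 3, 0, 2, 2, 0, 2, 0, 2, 5, 3, 5, 0]
noncomputable def act36 (i : Nat) : Nat := col3 (col3 (col1 (col3 (col3 (col1 (col2 (col1 (col3 (col3 (col1 (col3 (col1 (col3 (col4 (col2 (col4 (col1 (col3 (col3 (col1 (col3 (col3 (col1 (col2 (col1 (col3 (col3 (col1 (col3 (col1 (col3 (col4 (col2 (col4 (col1 (i))))))))))))))))))))))))))))))))))))
theorem act36_eq (i : Nat) : act36 i = Tab.act T D chk36 i := rfl
theorem c36_0 : allRange (fun i => Nat.beq (act36 i) i) 0 1578 = true := by decide +kernel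
theorem c36_1 : allRange (fun i => Nat.beq (act36 i) i) 1578 1578 = true := by decide +kernel
theorem c36_2 : allRange (fun i => Nat.beq (act36 i) i) 3156 1578 = true := by decide +kernel
theorem c36_3 : allRange (fun i => Nat.beq (act36 i) i) 4734 1578 = true := by decide +kernel
theorem c36_4 : allRange (fun i => Nat.beq (act36 i) i) 6312 1578 = true := by decide +kernel
theorem c36_5 : allRange (fun i => Nat.beq (act36 i) i) 7890 1578 = true := by decide +kernel
theorem c36_6 : allRange (fun i => Nat.beq (act36 i) i) 9468 1578 = true := by decide +kernel
theorem c36_7 : allRange (fun i => Nat.beq (act36 i) i) 11046 1578 = true := by decide +kernel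
theorem c36_8 : allRange (fun i => Nat.beq (act36 i) i) 12624 1578 = true := by decide +kernel
theorem c36_9 : allRange (fun i => Nat.beq (act36 i) i) 14202 1578 = true := by decide +kernel
theorem c36_10 : allRange (fun i => Nat.beq (act36 i) i) 15780 1578 = true := by decide +kernel
theorem c36_11 : allRange (fun i => Nat.beq (act36 i) i) 17358 1578 = true := by decide +kernel
theorem c36_12 : allRange (fun i => Nat.beq (act36 i) i) 18936 1578 = true := by decide +kernel
theorem c36_13 : allRange (fun i => Nat.beq (act36 i) i) 20514 1578 = true := by decide +kernel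
theorem c36_14 : allRange (fun i => Nat.beq (act36 i) i) 22092 1578 = true := by decide +kernel
theorem c36_15 : allRange (fun i => Nat.beq (act36 i) i) 23670 1578 = true := by decide +kernel
theorem c36_16 : allRange (fun i => Nat.beq (act36 i) i) 25248 1578 = true := by decide +kernel
theorem c36_17 : allRange (fun i => Nat.beq (act36 i) i) 26826 1578 = true := by decide +kernel
theorem c36_18 : allRange (fun i => Nat.beq (act36 i) i) 28404 1578 = true := by decide +kernel
theorem c36_19 : allRange (fun i => Nat.beq (act36 i) i) 29982 1578 = true := by decide +kernel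
theorem c36_20 : allRange (fun i => Nat.beq (act36 i) i) 31560 1578 = true := by decide +kernel
theorem c36_21 : allRange (fun i => Nat.beq (act36 i) i) 33138 1578 = true := by decide +kernel
theorem c36_22 : allRange (fun i => Nat.beq (act36 i) i) 34716 1578 = true := by decide +kernel
theorem c36_23 : allRange (fun i => Nat.beq (act36 i) i) 36294 1578 = true := by decide +kernel
theorem c36_24 : allRange (fun i => Nat.beq (act36 i) i) 37872 1578 = true := by decide +kernel
theorem c36_25 : allRange (fun i => Nat.beq (act36 i) i) 39450 1578 = true := by decide +kernel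
theorem c36_26 : allRange (fun i => Nat.beq (act36 i) i) 41028 1578 = true := by decide +kernel
theorem c36_27 : allRange (fun i => Nat.beq (act36 i) i) 42606 1578 = true := by decide +kernel
theorem c36_28 : allRange (fun i => Nat.beq (act36 i) i) 44184 1578 = true := by decide +kernel
theorem c36_29 : allRange (fun i => Nat.beq (act36 i) i) 45762 1578 = true := by decide +kernel
theorem c36_30 : allRange (fun i => Nat.beq (act36 i) i) 47340 1260 = true := by decide +kernel
theorem h36 : ∀ i, i < T.N → Tab.relActOK T D chk36 i = true := by
  intro i hi
  rw [Tab.relActOK, ← act36_eq]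
  exact (range_glue (range_of_allRange c36_0) (range_glue (range_of_allRange c36_1) (range_glue (range_of_allRange c36_2) (range_glue (range_of_allRange c36_3) (range_glue (range_of_allRange c36_4) (range_glue (range_of_allRange c36_5) (range_glue (range_of_allRange c36_6) (range_glue (range_of_allRange c36_7) (range_glue (range_of_allRange c36_8) (range_glue (range_of_allRange c36_9) (range_glue (range_of_allRange c36_10) (range_glue (range_of_allRange c36_11) (range_glue (range_of_allRange c36_12) (range_glue (range_of_allRange c36_13) (range_glue (range_of_allRange c36_14) (range_glue (range_of_allRange c36_15) (range_glue (range_of_allRange c36_16) (range_glue (range_of_allRange c36_17) (range_glue (range_of_allRange c36_18) (range_glue (range_of_allRange c36_19) (range_glue (range_of_allRange c36_20) (range_glue (range_of_allRange c36_21) (range_glue (range_of_allRange c36_22) (range_glue (range_of_allRange c36_23) (range_glue (range_of_allRange c36_24) (range_glue (range_of_allRange c36_25) (range_glue (range_of_allRange c36_26) (range_glue (range_of_allRange c36_27) (range_glue (range_of_allRange c36_28) (range_glue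 (range_of_allRange c36_29) (range_of_allRange c36_30))))))))))))))))))))))))))))))) i (Nat.zero_le _) hi

def chk37 : List Nat := [5, 0, 4, 5, 0, 4]
noncomputable def act37 (i : Nat) : Nat := col4 (col1 (col5 (col4 (col1 (col5 (i))))))
theorem act37_eq (i : Nat) : act37 i = Tab.act T D chk37 i := rfl
theorem c37_0 : allRange (fun i => Nat.beq (act37 i) i) 0 7500 = true := by decide +kernel
theorem c37_1 : allRange (fun i => Nat.beq (act37 i) i) 7500 7500 = true := by decide +kernel
theorem c37_2 : allRange (fun i => Nat.beq (act37 i) i) 15000 7500 = true := by decide +kernel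
theorem c37_3 : allRange (fun i => Nat.beq (act37 i) i) 22500 7500 = true := by decide +kernel
theorem c37_4 : allRange (fun i => Nat.beq (act37 i) i) 30000 7500 = true := by decide +kernel
theorem c37_5 : allRange (fun i => Nat.beq (act37 i) i) 37500 7500 = true := by decide +kernel
theorem c37_6 : allRange (fun i => Nat.beq (act37 i) i) 45000 3600 = true := by decide +kernel
theorem h37 : ∀ i, i < T.N → Tab.relActOK T D chk37 i = true := by
  intro i hi
  rw [Tab.relActOK, ← act37_eq]
  exact (range_glue (range_of_allRange c37_0) (range_glue (range_of_allRange c37_1) (range_glue (range_of_allRange c37_2) (range_glue (range_of_allRange c37_3) (range_glue (range_of_allRange c37_4) (range_glue (range_of_allRange c37_5) (range_of_allRange c37_6))))))) i (Nat.zero_le _) hi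

def chk38 : List Nat := [6, 3, 5, 5, 0, 5, 3, 5, 3, 7, 3, 5, 5, 1, 4, 3, 1, 3, 3, 1, 2, 1, 3, 3]
noncomputable def act38 (i : Nat) : Nat := col7 (col2 (col4 (col4 (col1 (col4 (col2 (col4 (col2 (col6 (col2 (col4 (col4 (col0 (col5 (col2 (col0 (col2 (col2 (col0 (col3 (col0 (col2 (col2 (i))))))))))))))))))))))))
theorem act38_eq (i : Nat) : act38 i = Tab.act T D chk38 i := rfl
theorem c38_0 : allRange (fun i => Nat.beq (act38 i) i) 0 2307 = true := by decide +kernel
theorem c38_1 : allRange (fun i => Nat.beq (act38 i) i) 2307 2307 = true := by decide +kernel
theorem c38_2 : allRange (fun i => Nat.beq (act38 i) i) 4614 2307 = true := by decide +kernel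
theorem c38_3 : allRange (fun i => Nat.beq (act38 i) i) 6921 2307 = true := by decide +kernel
theorem c38_4 : allRange (fun i => Nat.beq (act38 i) i) 9228 2307 = true := by decide +kernel
theorem c38_5 : allRange (fun i => Nat.beq (act38 i) i) 11535 2307 = true := by decide +kernel
theorem c38_6 : allRange (fun i => Nat.beq (act38 i) i) 13842 2307 = true := by decide +kernel
theorem c38_7 : allRange (fun i => Nat.beq (act38 i) i) 16149 2307 = true := by decide +kernel
theorem c38_8 : allRange (fun i => Nat.beq (act38 i) i) 18456 2307 = true := by decide +kernel
theorem c38_9 : allRange (fun i => Nat.beq (act38 i) i) 20763 2307 = true := by decide +kernel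
theorem c38_10 : allRange (fun i => Nat.beq (act38 i) i) 23070 2307 = true := by decide +kernel
theorem c38_11 : allRange (fun i => Nat.beq (act38 i) i) 25377 2307 = true := by decide +kernel
theorem c38_12 : allRange (fun i => Nat.beq (act38 i) i) 27684 2307 = true := by decide +kernel
theorem c38_13 : allRange (fun i => Nat.beq (act38 i) i) 29991 2307 = true := by decide +kernel
theorem c38_14 : allRange (fun i => Nat.beq (act38 i) i) 32298 2307 = true := by decide +kernel
theorem c38_15 : allRange (fun i => Nat.beq (act38 i) i) 34605 2307 = true := by decide +kernel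
theorem c38_16 : allRange (fun i => Nat.beq (act38 i) i) 36912 2307 = true := by decide +kernel
theorem c38_17 : allRange (fun i => Nat.beq (act38 i) i) 39219 2307 = true := by decide +kernel
theorem c38_18 : allRange (fun i => Nat.beq (act38 i) i) 41526 2307 = true := by decide +kernel
theorem c38_19 : allRange (fun i => Nat.beq (act38 i) i) 43833 2307 = true := by decide +kernel
theorem c38_20 : allRange (fun i => Nat.beq (act38 i) i) 46140 2307 = true := by decide +kernel
theorem c38_21 : allRange (fun i => Nat.beq (act38 i) i) 48447 153 = true := by decide +kernel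
theorem h38 : ∀ i, i < T.N → Tab.relActOK T D chk38 i = true := by
  intro i hi
  rw [Tab.relActOK, ← act38_eq]
  exact (range_glue (range_of_allRange c38_0) (range_glue (range_of_allRange c38_1) (range_glue (range_of_allRange c38_2) (range_glue (range_of_allRange c38_3) (range_glue (range_of_allRange c38_4) (range_glue (range_of_allRange c38_5) (range_glue (range_of_allRange c38_6) (range_glue (range_of_allRange c38_7) (range_glue (range_of_allRange c38_8) (range_glue (range_of_allRange c38_9) (range_glue (range_of_allRange c38_10) (range_glue (range_of_allRange c38_11) (range_glue (range_of_allRange c38_12) (range_glue (range_of_allRange c38_13) (range_glue (range_of_allRange c38_14) (range_glue (range_of_allRange c38_15) (range_glue (range_of_allRange c38_16) (range_glue (range_of_allRange c38_17) (range_glue (range_of_allRange c38_18) (range_glue (range_of_allRange c38_19) (range_glue (range_of_allRange c38_20) (range_of_allRange c38_21)))))))))))))))))))))) i (Nat.zero_le _) hi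

def chk39 : List Nat := [3, 5, 5, 0, 5, 3, 5, 3, 3, 5, 5, 0, 5, 3, 5, 3]
noncomputable def act39 (i : Nat) : Nat := col2 (col4 (col4 (col1 (col4 (col2 (col4 (col2 (col2 (col4 (col4 (col1 (col4 (col2 (col4 (col2 (i))))))))))))))))
theorem act39_eq (i : Nat) : act39 i = Tab.act T D chk39 i := rfl
theorem c39_0 : allRange (fun i => Nat.beq (act39 i) i) 0 3333 = true := by decide +kernel
theorem c39_1 : allRange (fun i => Nat.beq (act39 i) i) 3333 3333 = true := by decide +kernel
theorem c39_2 : allRange (fun i => Nat.beq (act39 i) i) 6666 3333 = true := by decide +kernel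
theorem c39_3 : allRange (fun i => Nat.beq (act39 i) i) 9999 3333 = true := by decide +kernel
theorem c39_4 : allRange (fun i => Nat.beq (act39 i) i) 13332 3333 = true := by decide +kernel
theorem c39_5 : allRange (fun i => Nat.beq (act39 i) i) 16665 3333 = true := by decide +kernel
theorem c39_6 : allRange (fun i => Nat.beq (act39 i) i) 19998 3333 = true := by decide +kernel
theorem c39_7 : allRange (fun i => Nat.beq (act39 i) i) 23331 3333 = true := by decide +kernel
theorem c39_8 : allRange (fun i => Nat.beq (act39 i) i) 26664 3333 = true := by decide +kernel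
theorem c39_9 : allRange (fun i => Nat.beq (act39 i) i) 29997 3333 = true := by decide +kernel
theorem c39_10 : allRange (fun i => Nat.beq (act39 i) i) 33330 3333 = true := by decide +kernel
theorem c39_11 : allRange (fun i => Nat.beq (act39 i) i) 36663 3333 = true := by decide +kernel
theorem c39_12 : allRange (fun i => Nat.beq (act39 i) i) 39996 3333 = true := by decide +kernel
theorem c39_13 : allRange (fun i => Nat.beq (act39 i) i) 43329 3333 = true := by decide +kernel
theorem c39_14 : allRange (fun i => Nat.beq (act39 i) i) 46662 1938 = true := by decide +kernel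
theorem h39 : ∀ i, i < T.N → Tab.relActOK T D chk39 i = true := by
  intro i hi
  rw [Tab.relActOK, ← act39_eq]
  exact (range_glue (range_of_allRange c39_0) (range_glue (range_of_allRange c39_1) (range_glue (range_of_allRange c39_2) (range_glue (range_of_allRange c39_3) (range_glue (range_of_allRange c39_4) (range_glue (range_of_allRange c39_5) (range_glue (range_of_allRange c39_6) (range_glue (range_of_allRange c39_7) (range_glue (range_of_allRange c39_8) (range_glue (range_of_allRange c39_9) (range_glue (range_of_allRange c39_10) (range_glue (range_of_allRange c39_11) (range_glue (range_of_allRange c39_12) (range_glue (range_of_allRange c39_13) (range_of_allRange c39_14))))))))))))))) i (Nat.zero_le _) hi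

def chk40 : List Nat := [2, 2, 0, 3, 0, 2, 2, 0, 2, 5, 0, 4, 4, 2, 2, 2, 0, 3, 0, 2, 2, 0, 2, 5, 0, 4, 4, 2]
noncomputable def act40 (i : Nat) : Nat := col3 (col3 (col1 (col2 (col1 (col3 (col3 (col1 (col3 (col4 (col1 (col5 (col5 (col3 (col3 (col3 (col1 (col2 (col1 (col3 (col3 (col1 (col3 (col4 (col1 (col5 (col5 (col3 (i))))))))))))))))))))))))))))
theorem act40_eq (i : Nat) : act40 i = Tab.act T D chk40 i := rfl
theorem c40_0 : allRange (fun i => Nat.beq (act40 i) i) 0 2000 = true := by decide +kernel
theorem c40_1 : allRange (fun i => Nat.beq (act40 i) i) 2000 2000 = true := by decide +kernel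
theorem c40_2 : allRange (fun i => Nat.beq (act40 i) i) 4000 2000 = true := by decide +kernel
theorem c40_3 : allRange (fun i => Nat.beq (act40 i) i) 6000 2000 = true := by decide +kernel
theorem c40_4 : allRange (fun i => Nat.beq (act40 i) i) 8000 2000 = true := by decide +kernel
theorem c40_5 : allRange (fun i => Nat.beq (act40 i) i) 10000 2000 = true := by decide +kernel
theorem c40_6 : allRange (fun i => Nat.beq (act40 i) i) 12000 2000 = true := by decide +kernel
theorem c40_7 : allRange (fun i => Nat.beq (act40 i) i) 14000 2000 = true := by decide +kernel
theorem c40_8 : allRange (fun i => Nat.beq (act40 i) i) 16000 2000 = true := by decide +kernel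
theorem c40_9 : allRange (fun i => Nat.beq (act40 i) i) 18000 2000 = true := by decide +kernel
theorem c40_10 : allRange (fun i => Nat.beq (act40 i) i) 20000 2000 = true := by decide +kernel
theorem c40_11 : allRange (fun i => Nat.beq (act40 i) i) 22000 2000 = true := by decide +kernel
theorem c40_12 : allRange (fun i => Nat.beq (act40 i) i) 24000 2000 = true := by decide +kernel
theorem c40_13 : allRange (fun i => Nat.beq (act40 i) i) 26000 2000 = true := by decide +kernel
theorem c40_14 : allRange (fun i => Nat.beq (act40 i) i) 28000 2000 = true := by decide +kernel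
theorem c40_15 : allRange (fun i => Nat.beq (act40 i) i) 30000 2000 = true := by decide +kernel
theorem c40_16 : allRange (fun i => Nat.beq (act40 i) i) 32000 2000 = true := by decide +kernel
theorem c40_17 : allRange (fun i => Nat.beq (act40 i) i) 34000 2000 = true := by decide +kernel
theorem c40_18 : allRange (fun i => Nat.beq (act40 i) i) 36000 2000 = true := by decide +kernel
theorem c40_19 : allRange (fun i => Nat.beq (act40 i) i) 38000 2000 = true := by decide +kernel
theorem c40_20 : allRange (fun i => Nat.beq (act40 i) i) 40000 2000 = true := by decide +kernel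
theorem c40_21 : allRange (fun i => Nat.beq (act40 i) i) 42000 2000 = true := by decide +kernel
theorem c40_22 : allRange (fun i => Nat.beq (act40 i) i) 44000 2000 = true := by decide +kernel
theorem c40_23 : allRange (fun i => Nat.beq (act40 i) i) 46000 2000 = true := by decide +kernel
theorem c40_24 : allRange (fun i => Nat.beq (act40 i) i) 48000 600 = true := by decide +kernel
theorem h40 : ∀ i, i < T.N → Tab.relActOK T D chk40 i = true := by
  intro i hi
  rw [Tab.relActOK, ← act40_eq]
  exact (range_glue (range_of_allRange c40_0) (range_glue (range_of_allRange c40_1) (range_glue (range_of_allRange c40_2) (range_glue (range_of_allRange c40_3) (range_glue (range_of_allRange c40_4) (range_glue (range_of_allRange c40_5) (range_glue (range_of_allRange c40_6) (range_glue (range_of_allRange c40_7) (range_glue (range_of_allRange c40_8) (range_glue (range_of_allRange c40_9) (range_glue (range_of_allRange c40_10) (range_glue (range_of_allRange c40_11) (range_glue (range_of_allRange c40_12) (range_glue (range_of_allRange c40_13) (range_glue (range_of_allRange c40_14) (range_glue (range_of_allRange c40_15) (range_glue (range_of_allRange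 c40_16) (range_glue (range_of_allRange c40_17) (range_glue (range_of_allRange c40_18) (range_glue (range_of_allRange c40_19) (range_glue (range_of_allRange c40_20) (range_glue (range_of_allRange c40_21) (range_glue (range_of_allRange c40_22) (range_glue (range_of_allRange c40_23) (range_of_allRange c40_24))))))))))))))))))))))))) i (Nat.zero_le _) hi

def chk41 : List Nat := [6, 0, 2, 5, 5, 0, 4, 4, 3, 0, 7, 3, 4, 3, 4, 2, 1, 3, 1, 3, 3, 1, 3, 3]
noncomputable def act41 (i : Nat) : Nat := col7 (col1 (col3 (col4 (col4 (col1 (col5 (col5 (col2 (col1 (col6 (col2 (col5 (col2 (col5 (col3 (col0 (col2 (col0 (col2 (col2 (col0 (col2 (col2 (i))))))))))))))))))))))))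
theorem act41_eq (i : Nat) : act41 i = Tab.act T D chk41 i := rfl
theorem c41_0 : allRange (fun i => Nat.beq (act41 i) i) 0 2307 = true := by decide +kernel
theorem c41_1 : allRange (fun i => Nat.beq (act41 i) i) 2307 2307 = true := by decide +kernel
theorem c41_2 : allRange (fun i => Nat.beq (act41 i) i) 4614 2307 = true := by decide +kernel
theorem c41_3 : allRange (fun i => Nat.beq (act41 i) i) 6921 2307 = true := by decide +kernel
theorem c41_4 : allRange (fun i => Nat.beq (act41 i) i) 9228 2307 = true := by decide +kernel
theorem c41_5 : allRange (fun i => Nat.beq (act41 i) i) 11535 2307 = true := by decide +kernel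
theorem c41_6 : allRange (fun i => Nat.beq (act41 i) i) 13842 2307 = true := by decide +kernel
theorem c41_7 : allRange (fun i => Nat.beq (act41 i) i) 16149 2307 = true := by decide +kernel
theorem c41_8 : allRange (fun i => Nat.beq (act41 i) i) 18456 2307 = true := by decide +kernel
theorem c41_9 : allRange (fun i => Nat.beq (act41 i) i) 20763 2307 = true := by decide +kernel
theorem c41_10 : allRange (fun i => Nat.beq (act41 i) i) 23070 2307 = true := by decide +kernel
theorem c41_11 : allRange (fun i => Nat.beq (act41 i) i) 25377 2307 = true := by decide +kernel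
theorem c41_12 : allRange (fun i => Nat.beq (act41 i) i) 27684 2307 = true := by decide +kernel
theorem c41_13 : allRange (fun i => Nat.beq (act41 i) i) 29991 2307 = true := by decide +kernel
theorem c41_14 : allRange (fun i => Nat.beq (act41 i) i) 32298 2307 = true := by decide +kernel
theorem c41_15 : allRange (fun i => Nat.beq (act41 i) i) 34605 2307 = true := by decide +kernel
theorem c41_16 : allRange (fun i => Nat.beq (act41 i) i) 36912 2307 = true := by decide +kernel
theorem c41_17 : allRange (fun i => Nat.beq (act41 i) i) 39219 2307 = true := by decide +kernel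
theorem c41_18 : allRange (fun i => Nat.beq (act41 i) i) 41526 2307 = true := by decide +kernel
theorem c41_19 : allRange (fun i => Nat.beq (act41 i) i) 43833 2307 = true := by decide +kernel
theorem c41_20 : allRange (fun i => Nat.beq (act41 i) i) 46140 2307 = true := by decide +kernel
theorem c41_21 : allRange (fun i => Nat.beq (act41 i) i) 48447 153 = true := by decide +kernel
theorem h41 : ∀ i, i < T.N → Tab.relActOK T D chk41 i = true := by
  intro i hi
  rw [Tab.relActOK, ← act41_eq]
  exact (range_glue (range_of_allRange c41_0) (range_glue (range_of_allRange c41_1) (range_glue (range_of_allRange c41_2) (range_glue (range_of_allRange c41_3) (range_glue (range_of_allRange c41_4) (range_glue (range_of_allRange c41_5) (range_glue (range_of_allRange c41_6) (range_glue (range_of_allRange c41_7) (range_glue (range_of_allRange c41_8) (range_glue (range_of_allRange c41_9) (range_glue (range_of_allRange c41_10) (range_glue (range_of_allRange c41_11) (range_glue (range_of_allRange c41_12) (range_glue (range_of_allRange c41_13) (range_glue (range_of_allRange c41_14) (range_glue (range_of_allRange c41_15) (range_glue (range_of_allRange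 c41_16) (range_glue (range_of_allRange c41_17) (range_glue (range_of_allRange c41_18) (range_glue (range_of_allRange c41_19) (range_glue (range_of_allRange c41_20) (range_of_allRange c41_21)))))))))))))))))))))) i (Nat.zero_le _) hi

def chk42 : List Nat := [0, 2, 5, 5, 0, 4, 4, 3, 0, 0, 2, 5, 5, 0, 4, 4, 3, 0]
noncomputable def act42 (i : Nat) : Nat := col1 (col3 (col4 (col4 (col1 (col5 (col5 (col2 (col1 (col1 (col3 (col4 (col4 (col1 (col5 (col5 (col2 (col1 (i))))))))))))))))))
theorem act42_eq (i : Nat) : act42 i = Tab.act T D chk42 i := rfl
theorem c42_0 : allRange (fun i => Nat.beq (act42 i) i) 0 3000 = true := by decide +kernel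
theorem c42_1 : allRange (fun i => Nat.beq (act42 i) i) 3000 3000 = true := by decide +kernel
theorem c42_2 : allRange (fun i => Nat.beq (act42 i) i) 6000 3000 = true := by decide +kernel
theorem c42_3 : allRange (fun i => Nat.beq (act42 i) i) 9000 3000 = true := by decide +kernel
theorem c42_4 : allRange (fun i => Nat.beq (act42 i) i) 12000 3000 = true := by decide +kernel
theorem c42_5 : allRange (fun i => Nat.beq (act42 i) i) 15000 3000 = true := by decide +kernel
theorem c42_6 : allRange (fun i => Nat.beq (act42 i) i) 18000 3000 = true := by decide +kernel
theorem c42_7 : allRange (fun i => Nat.beq (act42 i) i) 21000 3000 = true := by decide +kernel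
theorem c42_8 : allRange (fun i => Nat.beq (act42 i) i) 24000 3000 = true := by decide +kernel
theorem c42_9 : allRange (fun i => Nat.beq (act42 i) i) 27000 3000 = true := by decide +kernel
theorem c42_10 : allRange (fun i => Nat.beq (act42 i) i) 30000 3000 = true := by decide +kernel
theorem c42_11 : allRange (fun i => Nat.beq (act42 i) i) 33000 3000 = true := by decide +kernel
theorem c42_12 : allRange (fun i => Nat.beq (act42 i) i) 36000 3000 = true := by decide +kernel
theorem c42_13 : allRange (fun i => Nat.beq (act42 i) i) 39000 3000 = true := by decide +kernel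
theorem c42_14 : allRange (fun i => Nat.beq (act42 i) i) 42000 3000 = true := by decide +kernel
theorem c42_15 : allRange (fun i => Nat.beq (act42 i) i) 45000 3000 = true := by decide +kernel
theorem c42_16 : allRange (fun i => Nat.beq (act42 i) i) 48000 600 = true := by decide +kernel
theorem h42 : ∀ i, i < T.N → Tab.relActOK T D chk42 i = true := by
  intro i hi
  rw [Tab.relActOK, ← act42_eq]
  exact (range_glue (range_of_allRange c42_0) (range_glue (range_of_allRange c42_1) (range_glue (range_of_allRange c42_2) (range_glue (range_of_allRange c42_3) (range_glue (range_of_allRange c42_4) (range_glue (range_of_allRange c42_5) (range_glue (range_of_allRange c42_6) (range_glue (range_of_allRange c42_7) (range_glue (range_of_allRange c42_8) (range_glue (range_of_allRange c42_9) (range_glue (range_of_allRange c42_10) (range_glue (range_of_allRange c42_11) (range_glue (range_of_allRange c42_12) (range_glue (range_of_allRange c42_13) (range_glue (range_of_allRange c42_14) (range_glue (range_of_allRange c42_15) (range_of_allRange c42_16))))))))))))))))) i (Nat.zero_le _) hi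

def chk43 : List Nat := [2, 2, 0, 2, 2, 0, 2, 0, 3, 5, 2, 5, 2, 2, 2, 0, 2, 2, 0, 2, 0, 3, 5, 2, 5, 2]
noncomputable def act43 (i : Nat) : Nat := col3 (col3 (col1 (col3 (col3 (col1 (col3 (col1 (col2 (col4 (col3 (col4 (col3 (col3 (col3 (col1 (col3 (col3 (col1 (col3 (col1 (col2 (col4 (col3 (col4 (col3 (i))))))))))))))))))))))))))
theorem act43_eq (i : Nat) : act43 i = Tab.act T D chk43 i := rfl
theorem c43_0 : allRange (fun i => Nat.beq (act43 i) i) 0 2142 = true := by decide +kernel
theorem c43_1 : allRange (fun i => Nat.beq (act43 i) i) 2142 2142 = true := by decide +kernel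
theorem c43_2 : allRange (fun i => Nat.beq (act43 i) i) 4284 2142 = true := by decide +kernel
theorem c43_3 : allRange (fun i => Nat.beq (act43 i) i) 6426 2142 = true := by decide +kernel
theorem c43_4 : allRange (fun i => Nat.beq (act43 i) i) 8568 2142 = true := by decide +kernel
theorem c43_5 : allRange (fun i => Nat.beq (act43 i) i) 10710 2142 = true := by decide +kernel
theorem c43_6 : allRange (fun i => Nat.beq (act43 i) i) 12852 2142 = true := by decide +kernel
theorem c43_7 : allRange (fun i => Nat.beq (act43 i) i) 14994 2142 = true := by decide +kernel
theorem c43_8 : allRange (fun i => Nat.beq (act43 i) i) 17136 2142 = true := by decide +kernel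
theorem c43_9 : allRange (fun i => Nat.beq (act43 i) i) 19278 2142 = true := by decide +kernel
theorem c43_10 : allRange (fun i => Nat.beq (act43 i) i) 21420 2142 = true := by decide +kernel
theorem c43_11 : allRange (fun i => Nat.beq (act43 i) i) 23562 2142 = true := by decide +kernel
theorem c43_12 : allRange (fun i => Nat.beq (act43 i) i) 25704 2142 = true := by decide +kernel
theorem c43_13 : allRange (fun i => Nat.beq (act43 i) i) 27846 2142 = true := by decide +kernel
theorem c43_14 : allRange (fun i => Nat.beq (act43 i) i) 29988 2142 = true := by decide +kernel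
theorem c43_15 : allRange (fun i => Nat.beq (act43 i) i) 32130 2142 = true := by decide +kernel
theorem c43_16 : allRange (fun i => Nat.beq (act43 i) i) 34272 2142 = true := by decide +kernel
theorem c43_17 : allRange (fun i => Nat.beq (act43 i) i) 36414 2142 = true := by decide +kernel
theorem c43_18 : allRange (fun i => Nat.beq (act43 i) i) 38556 2142 = true := by decide +kernel
theorem c43_19 : allRange (fun i => Nat.beq (act43 i) i) 40698 2142 = true := by decide +kernel
theorem c43_20 : allRange (fun i => Nat.beq (act43 i) i) 42840 2142 = true := by decide +kernel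
theorem c43_21 : allRange (fun i => Nat.beq (act43 i) i) 44982 2142 = true := by decide +kernel
theorem c43_22 : allRange (fun i => Nat.beq (act43 i) i) 47124 1476 = true := by decide +kernel
theorem h43 : ∀ i, i < T.N → Tab.relActOK T D chk43 i = true := by
  intro i hi
  rw [Tab.relActOK, ← act43_eq]
  exact (range_glue (range_of_allRange c43_0) (range_glue (range_of_allRange c43_1) (range_glue (range_of_allRange c43_2) (range_glue (range_of_allRange c43_3) (range_glue (range_of_allRange c43_4) (range_glue (range_of_allRange c43_5) (range_glue (range_of_allRange c43_6) (range_glue (range_of_allRange c43_7) (range_glue (range_of_allRange c43_8) (range_glue (range_of_allRange c43_9) (range_glue (range_of_allRange c43_10) (range_glue (range_of_allRange c43_11) (range_glue (range_of_allRange c43_12) (range_glue (range_of_allRange c43_13) (range_glue (range_of_allRange c43_14) (range_glue (range_of_allRange c43_15) (range_glue (range_of_allRange c43_16) (range_glue (range_of_allRange c43_17) (range_glue (range_of_allRange c43_18) (range_glue (range_of_allRange c43_19) (range_glue (range_of_allRange c43_20) (range_glue (range_of_allRange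 c43_21) (range_of_allRange c43_22))))))))))))))))))))))) i (Nat.zero_le _) hi

def chkAll : List (List Nat) := [chk0, chk1, chk2, chk3, chk4, chk5, chk6, chk7, chk8, chk9, chk10, chk11, chk12, chk13, chk14, chk15, chk16, chk17, chk18, chk19, chk20, chk21, chk22, chk23, chk24, chk25, chk26, chk27, chk28, chk29, chk30, chk31, chk32, chk33, chk34, chk35, chk36, chk37, chk38, chk39, chk40, chk41, chk42, chk43]
theorem hAll : ∀ w ∈ chkAll, ∀ i, i < T.N → Tab.relActOK T D w i = true := by
  intro w hw
  simp only [chkAll, List.mem_cons, List.not_mem_nil, or_false] at hw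
  rcases hw with rfl | rfl | rfl | rfl | rfl | rfl | rfl | rfl | rfl | rfl | rfl | rfl | rfl | rfl | rfl | rfl | rfl | rfl | rfl | rfl | rfl | rfl | rfl | rfl | rfl | rfl | rfl | rfl | rfl | rfl | rfl | rfl | rfl | rfl | rfl | rfl | rfl | rfl | rfl | rfl | rfl | rfl | rfl | rfl
  · exact h0
  · exact h1
  · exact h2
  · exact h3
  · exact h4
  · exact h5
  · exact h6
  · exact h7
  · exact h8
  · exact h9
  · exact h10
  · exact h11
  · exact h12
  · exact h13
  · exact h14
  · exact h15
  · exact h16
  · exact h17
  · exact h18
  · exact h19
  · exact h20
  · exact h21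
  · exact h22
  · exact h23
  · exact h24
  · exact h25
  · exact h26
  · exact h27
  · exact h28
  · exact h29
  · exact h30
  · exact h31
  · exact h32
  · exact h33
  · exact h34
  · exact h35
  · exact h36
  · exact h37
  · exact h38
  · exact h39
  · exact h40
  · exact h41
  · exact h42
  · exact h43
theorem hAll_lt : ∀ w ∈ chkAll, ∀ x ∈ w, x < 8 := by decide +kernel

end Cfsg.Agent.Lib.Helper4.TCD.SCo3pp3W
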