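import Cfsg.Agent.Lib.Helper4.TCD_SCo3pp5A_Acc

namespace Cfsg.Agent.Lib.Helper4.TCD.SCo3pp5A

open Cfsg.Agent.Lib.Helper4.TC

set_option maxRecDepth 100000
set_option Elab.async false

theorem c_rel_85 : allRange D.relOK 237206 1960 = true := by decide +kernel
theorem c_rel_86 : allRange D.relOK 239166 1804 = true := by decide +kernel
theorem c_rel_87 : allRange D.relOK 240970 2015 = true := by decide +kernel
theorem c_rel_88 : allRange D.relOK 242985 1614 = true := by decide +kernel
theorem c_rel_89 : allRange D.relOK 244599 1593 = true := by decide +kernel
theorem c_rel_90 : allRange D.relOK 246192 1923 = true := by decide +kernel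
theorem c_rel_91 : allRange D.relOK 248115 1947 = true := by decide +kernel
theorem c_rel_92 : allRange D.relOK 250062 1608 = true := by decide +kernel
theorem c_rel_93 : allRange D.relOK 251670 1223 = true := by decide +kernel
theorem c_rel_94 : allRange D.relOK 252893 1563 = true := by decide +kernel
theorem c_rel_95 : allRange D.relOK 254456 1595 = true := by decide +kernel
theorem c_rel_96 : allRange D.relOK 256051 1456 = true := by decide +kernel
theorem c_rel_97 : allRange D.relOK 257507 1400 = true := by decide +kernel
theorem c_rel_98 : allRange D.relOK 258907 1829 = true := by decide +kernel
theorem c_rel_99 : allRange D.relOK 260736 1680 = true := by decide +kernel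
theorem c_rel_100 : allRange D.relOK 262416 1317 = true := by decide +kernel
theorem c_rel_101 : allRange D.relOK 263733 1347 = true := by decide +kernel
theorem c_rel_102 : allRange D.relOK 265080 1421 = true := by decide +kernel
theorem c_rel_103 : allRange D.relOK 266501 1533 = true := by decide +kernel
theorem c_rel_104 : allRange D.relOK 268034 1828 = true := by decide +kernel
theorem c_rel_105 : allRange D.relOK 269862 1672 = true := by decide +kernel
theorem c_rel_106 : allRange D.relOK 271534 1593 = true := by decide +kernel
theorem c_rel_107 : allRange D.relOK 273127 1517 = true := by decide +kernel
theorem c_rel_108 : allRange D.relOK 274644 1481 = true := by decide +kernel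
theorem c_rel_109 : allRange D.relOK 276125 1537 = true := by decide +kernel
theorem c_rel_110 : allRange D.relOK 277662 1600 = true := by decide +kernel
theorem c_rel_111 : allRange D.relOK 279262 1442 = true := by decide +kernel
theorem c_rel_112 : allRange D.relOK 280704 1592 = true := by decide +kernel
theorem c_rel_113 : allRange D.relOK 282296 1422 = true := by decide +kernel
theorem c_rel_114 : allRange D.relOK 283718 1520 = true := by decide +kernel
theorem c_rel_115 : allRange D.relOK 285238 1514 = true := by decide +kernel
theorem c_rel_116 : allRange D.relOK 286752 1724 = true := by decide +kernel
theorem c_rel_117 : allRange D.relOK 288476 1453 = true := by decide +kernel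
theorem c_rel_118 : allRange D.relOK 289929 1393 = true := by decide +kernel
theorem c_rel_119 : allRange D.relOK 291322 1576 = true := by decide +kernel
theorem c_rel_120 : allRange D.relOK 292898 1589 = true := by decide +kernel
theorem c_rel_121 : allRange D.relOK 294487 1659 = true := by decide +kernel
theorem c_rel_122 : allRange D.relOK 296146 1458 = true := by decide +kernel
theorem c_rel_123 : allRange D.relOK 297604 1560 = true := by decide +kernel
theorem c_rel_124 : allRange D.relOK 299164 1560 = true := by decide +kernel
theorem c_rel_125 : allRange D.relOK 300724 1447 = true := by decide +kernel
theorem c_rel_126 : allRange D.relOK 302171 1422 = true := by decide +kernel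
theorem c_rel_127 : allRange D.relOK 303593 1506 = true := by decide +kernel
theorem c_rel_128 : allRange D.relOK 305099 1454 = true := by decide +kernel
theorem c_rel_129 : allRange D.relOK 306553 1400 = true := by decide +kernel
theorem c_rel_130 : allRange D.relOK 307953 1387 = true := by decide +kernel
theorem c_rel_131 : allRange D.relOK 309340 1490 = true := by decide +kernel
theorem c_rel_132 : allRange D.relOK 310830 1377 = true := by decide +kernel
theorem c_rel_133 : allRange D.relOK 312207 1443 = true := by decide +kernel
theorem c_rel_134 : allRange D.relOK 313650 1627 = true := by decide +kernel
theorem c_rel_135 : allRange D.relOK 315277 1439 = true := by decide +kernel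
theorem c_rel_136 : allRange D.relOK 316716 1462 = true := by decide +kernel
theorem c_rel_137 : allRange D.relOK 318178 1368 = true := by decide +kernel
theorem c_rel_138 : allRange D.relOK 319546 1497 = true := by decide +kernel
theorem c_rel_139 : allRange D.relOK 321043 1367 = true := by decide +kernel
theorem c_rel_140 : allRange D.relOK 322410 1315 = true := by decide +kernel
theorem c_rel_141 : allRange D.relOK 323725 1340 = true := by decide +kernel
theorem c_rel_142 : allRange D.relOK 325065 1406 = true := by decide +kernel
theorem c_rel_143 : allRange D.relOK 326471 1403 = true := by decide +kernel
theorem c_rel_144 : allRange D.relOK 327874 1512 = true := by decide +kernel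
theorem c_rel_145 : allRange D.relOK 329386 1558 = true := by decide +kernel
theorem c_rel_146 : allRange D.relOK 330944 1350 = true := by decide +kernel
theorem c_rel_147 : allRange D.relOK 332294 1327 = true := by decide +kernel
theorem c_rel_148 : allRange D.relOK 333621 1388 = true := by decide +kernel
theorem c_rel_149 : allRange D.relOK 335009 1441 = true := by decide +kernel
theorem c_rel_150 : allRange D.relOK 336450 1296 = true := by decide +kernel
theorem c_rel_151 : allRange D.relOK 337746 1840 = true := by decide +kernel
theorem c_rel_152 : allRange D.relOK 339586 1622 = true := by decide +kernel
theorem c_rel_153 : allRange D.relOK 341208 1440 = true := by decide +kernel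
theorem c_rel_154 : allRange D.relOK 342648 1586 = true := by decide +kernel
theorem c_rel_155 : allRange D.relOK 344234 1389 = true := by decide +kernel
theorem c_rel_156 : allRange D.relOK 345623 1541 = true := by decide +kernel
theorem c_rel_157 : allRange D.relOK 347164 1305 = true := by decide +kernel
theorem c_rel_158 : allRange D.relOK 348469 1480 = true := by decide +kernel
theorem c_rel_159 : allRange D.relOK 349949 1494 = true := by decide +kernel
theorem c_rel_160 : allRange D.relOK 351443 1360 = true := by decide +kernel
theorem c_rel_161 : allRange D.relOK 352803 1259 = true := by decide +kernel
theorem c_rel_162 : allRange D.relOK 354062 1277 = true := by decide +kernel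
theorem c_rel_163 : allRange D.relOK 355339 1305 = true := by decide +kernel
theorem c_rel_164 : allRange D.relOK 356644 1395 = true := by decide +kernel
theorem c_rel_165 : allRange D.relOK 358039 1387 = true := by decide +kernel
theorem c_rel_166 : allRange D.relOK 359426 1360 = true := by decide +kernel
theorem c_rel_167 : allRange D.relOK 360786 1264 = true := by decide +kernel
theorem c_rel_168 : allRange D.relOK 362050 1311 = true := by decide +kernel
theorem c_rel_169 : allRange D.relOK 363361 1436 = true := by decide +kernel
theorem c_rel_170 : allRange D.relOK 364797 1448 = true := by decide +kernel
theorem c_rel_171 : allRange D.relOK 366245 1312 = true := by decide +kernel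
theorem c_rel_172 : allRange D.relOK 367557 1287 = true := by decide +kernel
theorem c_rel_173 : allRange D.relOK 368844 1312 = true := by decide +kernel
theorem c_rel_174 : allRange D.relOK 370156 1271 = true := by decide +kernel
theorem c_rel_175 : allRange D.relOK 371427 1318 = true := by decide +kernel
theorem c_rel_176 : allRange D.relOK 372745 1250 = true := by decide +kernel
theorem c_rel_177 : allRange D.relOK 373995 1345 = true := by decide +kernel
theorem c_rel_178 : allRange D.relOK 375340 1311 = true := by decide +kernel
theorem c_rel_179 : allRange D.relOK 376651 1280 = true := by decide +kernel
theorem c_rel_180 : allRange D.relOK 377931 1289 = true := by decide +kernel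
theorem c_rel_181 : allRange D.relOK 379220 1372 = true := by decide +kernel
theorem c_rel_182 : allRange D.relOK 380592 1287 = true := by decide +kernel
theorem c_rel_183 : allRange D.relOK 381879 1437 = true := by decide +kernel

end Cfsg.Agent.Lib.Helper4.TCD.SCo3pp5A
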