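import Cfsg.Agent.Lib.Helper4.TCD_SCo3pp5A_Acc

namespace Cfsg.Agent.Lib.Helper4.TCD.SCo3pp5A

open Cfsg.Agent.Lib.Helper4.TC

set_option maxRecDepth 100000
set_option Elab.async false

theorem c_act38_5 : allRange (fun i => Nat.beq (actR38 i) i) 20000 4000 = true := by decide +kernel
theorem c_act38_6 : allRange (fun i => Nat.beq (actR38 i) i) 24000 4000 = true := by decide +kernel
theorem c_act38_7 : allRange (fun i => Nat.beq (actR38 i) i) 28000 4000 = true := by decide +kernel
theorem c_act38_8 : allRange (fun i => Nat.beq (actR38 i) i) 32000 4000 = true := by decide +kernel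
theorem c_act38_9 : allRange (fun i => Nat.beq (actR38 i) i) 36000 4000 = true := by decide +kernel
theorem c_act38_10 : allRange (fun i => Nat.beq (actR38 i) i) 40000 4000 = true := by decide +kernel
theorem c_act38_11 : allRange (fun i => Nat.beq (actR38 i) i) 44000 4000 = true := by decide +kernel
theorem c_act38_12 : allRange (fun i => Nat.beq (actR38 i) i) 48000 600 = true := by decide +kernel
theorem c_act39_0 : allRange (fun i => Nat.beq (actR39 i) i) 0 4000 = true := by decide +kernel
theorem c_act39_1 : allRange (fun i => Nat.beq (actR39 i) i) 4000 4000 = true := by decide +kernel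
theorem c_act39_2 : allRange (fun i => Nat.beq (actR39 i) i) 8000 4000 = true := by decide +kernel
theorem c_act39_3 : allRange (fun i => Nat.beq (actR39 i) i) 12000 4000 = true := by decide +kernel
theorem c_act39_4 : allRange (fun i => Nat.beq (actR39 i) i) 16000 4000 = true := by decide +kernel
theorem c_act39_5 : allRange (fun i => Nat.beq (actR39 i) i) 20000 4000 = true := by decide +kernel
theorem c_act39_6 : allRange (fun i => Nat.beq (actR39 i) i) 24000 4000 = true := by decide +kernel
theorem c_act39_7 : allRange (fun i => Nat.beq (actR39 i) i) 28000 4000 = true := by decide +kernel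
theorem c_act39_8 : allRange (fun i => Nat.beq (actR39 i) i) 32000 4000 = true := by decide +kernel
theorem c_act39_9 : allRange (fun i => Nat.beq (actR39 i) i) 36000 4000 = true := by decide +kernel
theorem c_act39_10 : allRange (fun i => Nat.beq (actR39 i) i) 40000 4000 = true := by decide +kernel
theorem c_act39_11 : allRange (fun i => Nat.beq (actR39 i) i) 44000 4000 = true := by decide +kernel
theorem c_act39_12 : allRange (fun i => Nat.beq (actR39 i) i) 48000 600 = true := by decide +kernel
theorem c_act40_0 : allRange (fun i => Nat.beq (actR40 i) i) 0 3333 = true := by decide +kernel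
theorem c_act40_1 : allRange (fun i => Nat.beq (actR40 i) i) 3333 3333 = true := by decide +kernel
theorem c_act40_2 : allRange (fun i => Nat.beq (actR40 i) i) 6666 3333 = true := by decide +kernel
theorem c_act40_3 : allRange (fun i => Nat.beq (actR40 i) i) 9999 3333 = true := by decide +kernel
theorem c_act40_4 : allRange (fun i => Nat.beq (actR40 i) i) 13332 3333 = true := by decide +kernel
theorem c_act40_5 : allRange (fun i => Nat.beq (actR40 i) i) 16665 3333 = true := by decide +kernel
theorem c_act40_6 : allRange (fun i => Nat.beq (actR40 i) i) 19998 3333 = true := by decide +kernel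
theorem c_act40_7 : allRange (fun i => Nat.beq (actR40 i) i) 23331 3333 = true := by decide +kernel
theorem c_act40_8 : allRange (fun i => Nat.beq (actR40 i) i) 26664 3333 = true := by decide +kernel
theorem c_act40_9 : allRange (fun i => Nat.beq (actR40 i) i) 29997 3333 = true := by decide +kernel
theorem c_act40_10 : allRange (fun i => Nat.beq (actR40 i) i) 33330 3333 = true := by decide +kernel
theorem c_act40_11 : allRange (fun i => Nat.beq (actR40 i) i) 36663 3333 = true := by decide +kernel
theorem c_act40_12 : allRange (fun i => Nat.beq (actR40 i) i) 39996 3333 = true := by decide +kernel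
theorem c_act40_13 : allRange (fun i => Nat.beq (actR40 i) i) 43329 3333 = true := by decide +kernel
theorem c_act40_14 : allRange (fun i => Nat.beq (actR40 i) i) 46662 1938 = true := by decide +kernel
theorem c_act41_0 : allRange (fun i => Nat.beq (actR41 i) i) 0 3157 = true := by decide +kernel
theorem c_act41_1 : allRange (fun i => Nat.beq (actR41 i) i) 3157 3157 = true := by decide +kernel
theorem c_act41_2 : allRange (fun i => Nat.beq (actR41 i) i) 6314 3157 = true := by decide +kernel
theorem c_act41_3 : allRange (fun i => Nat.beq (actR41 i) i) 9471 3157 = true := by decide +kernel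
theorem c_act41_4 : allRange (fun i => Nat.beq (actR41 i) i) 12628 3157 = true := by decide +kernel
theorem c_act41_5 : allRange (fun i => Nat.beq (actR41 i) i) 15785 3157 = true := by decide +kernel
theorem c_act41_6 : allRange (fun i => Nat.beq (actR41 i) i) 18942 3157 = true := by decide +kernel
theorem c_act41_7 : allRange (fun i => Nat.beq (actR41 i) i) 22099 3157 = true := by decide +kernel
theorem c_act41_8 : allRange (fun i => Nat.beq (actR41 i) i) 25256 3157 = true := by decide +kernel
theorem c_act41_9 : allRange (fun i => Nat.beq (actR41 i) i) 28413 3157 = true := by decide +kernel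
theorem c_act41_10 : allRange (fun i => Nat.beq (actR41 i) i) 31570 3157 = true := by decide +kernel
theorem c_act41_11 : allRange (fun i => Nat.beq (actR41 i) i) 34727 3157 = true := by decide +kernel
theorem c_act41_12 : allRange (fun i => Nat.beq (actR41 i) i) 37884 3157 = true := by decide +kernel
theorem c_act41_13 : allRange (fun i => Nat.beq (actR41 i) i) 41041 3157 = true := by decide +kernel
theorem c_act41_14 : allRange (fun i => Nat.beq (actR41 i) i) 44198 3157 = true := by decide +kernel
theorem c_act41_15 : allRange (fun i => Nat.beq (actR41 i) i) 47355 1245 = true := by decide +kernel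

end Cfsg.Agent.Lib.Helper4.TCD.SCo3pp5A
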