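import Cfsg.Agent.Lib.Helper4.TCD_SCo3pp5A_Acc

namespace Cfsg.Agent.Lib.Helper4.TCD.SCo3pp5A

open Cfsg.Agent.Lib.Helper4.TC

set_option maxRecDepth 100000
set_option Elab.async false

theorem c_act42_0 : allRange (fun i => Nat.beq (actR42 i) i) 0 3157 = true := by decide +kernel
theorem c_act42_1 : allRange (fun i => Nat.beq (actR42 i) i) 3157 3157 = true := by decide +kernel
theorem c_act42_2 : allRange (fun i => Nat.beq (actR42 i) i) 6314 3157 = true := by decide +kernel
theorem c_act42_3 : allRange (fun i => Nat.beq (actR42 i) i) 9471 3157 = true := by decide +kernel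
theorem c_act42_4 : allRange (fun i => Nat.beq (actR42 i) i) 12628 3157 = true := by decide +kernel
theorem c_act42_5 : allRange (fun i => Nat.beq (actR42 i) i) 15785 3157 = true := by decide +kernel
theorem c_act42_6 : allRange (fun i => Nat.beq (actR42 i) i) 18942 3157 = true := by decide +kernel
theorem c_act42_7 : allRange (fun i => Nat.beq (actR42 i) i) 22099 3157 = true := by decide +kernel
theorem c_act42_8 : allRange (fun i => Nat.beq (actR42 i) i) 25256 3157 = true := by decide +kernel
theorem c_act42_9 : allRange (fun i => Nat.beq (actR42 i) i) 28413 3157 = true := by decide +kernel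
theorem c_act42_10 : allRange (fun i => Nat.beq (actR42 i) i) 31570 3157 = true := by decide +kernel
theorem c_act42_11 : allRange (fun i => Nat.beq (actR42 i) i) 34727 3157 = true := by decide +kernel
theorem c_act42_12 : allRange (fun i => Nat.beq (actR42 i) i) 37884 3157 = true := by decide +kernel
theorem c_act42_13 : allRange (fun i => Nat.beq (actR42 i) i) 41041 3157 = true := by decide +kernel
theorem c_act42_14 : allRange (fun i => Nat.beq (actR42 i) i) 44198 3157 = true := by decide +kernel
theorem c_act42_15 : allRange (fun i => Nat.beq (actR42 i) i) 47355 1245 = true := by decide +kernel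
theorem c_act43_0 : allRange (fun i => Nat.beq (actR43 i) i) 0 2727 = true := by decide +kernel
theorem c_act43_1 : allRange (fun i => Nat.beq (actR43 i) i) 2727 2727 = true := by decide +kernel
theorem c_act43_2 : allRange (fun i => Nat.beq (actR43 i) i) 5454 2727 = true := by decide +kernel
theorem c_act43_3 : allRange (fun i => Nat.beq (actR43 i) i) 8181 2727 = true := by decide +kernel
theorem c_act43_4 : allRange (fun i => Nat.beq (actR43 i) i) 10908 2727 = true := by decide +kernel
theorem c_act43_5 : allRange (fun i => Nat.beq (actR43 i) i) 13635 2727 = true := by decide +kernel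
theorem c_act43_6 : allRange (fun i => Nat.beq (actR43 i) i) 16362 2727 = true := by decide +kernel
theorem c_act43_7 : allRange (fun i => Nat.beq (actR43 i) i) 19089 2727 = true := by decide +kernel
theorem c_act43_8 : allRange (fun i => Nat.beq (actR43 i) i) 21816 2727 = true := by decide +kernel
theorem c_act43_9 : allRange (fun i => Nat.beq (actR43 i) i) 24543 2727 = true := by decide +kernel
theorem c_act43_10 : allRange (fun i => Nat.beq (actR43 i) i) 27270 2727 = true := by decide +kernel
theorem c_act43_11 : allRange (fun i => Nat.beq (actR43 i) i) 29997 2727 = true := by decide +kernel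
theorem c_act43_12 : allRange (fun i => Nat.beq (actR43 i) i) 32724 2727 = true := by decide +kernel
theorem c_act43_13 : allRange (fun i => Nat.beq (actR43 i) i) 35451 2727 = true := by decide +kernel
theorem c_act43_14 : allRange (fun i => Nat.beq (actR43 i) i) 38178 2727 = true := by decide +kernel
theorem c_act43_15 : allRange (fun i => Nat.beq (actR43 i) i) 40905 2727 = true := by decide +kernel
theorem c_act43_16 : allRange (fun i => Nat.beq (actR43 i) i) 43632 2727 = true := by decide +kernel
theorem c_act43_17 : allRange (fun i => Nat.beq (actR43 i) i) 46359 2241 = true := by decide +kernel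
theorem c_act44_0 : allRange (fun i => Nat.beq (actR44 i) i) 0 2727 = true := by decide +kernel
theorem c_act44_1 : allRange (fun i => Nat.beq (actR44 i) i) 2727 2727 = true := by decide +kernel
theorem c_act44_2 : allRange (fun i => Nat.beq (actR44 i) i) 5454 2727 = true := by decide +kernel
theorem c_act44_3 : allRange (fun i => Nat.beq (actR44 i) i) 8181 2727 = true := by decide +kernel
theorem c_act44_4 : allRange (fun i => Nat.beq (actR44 i) i) 10908 2727 = true := by decide +kernel
theorem c_act44_5 : allRange (fun i => Nat.beq (actR44 i) i) 13635 2727 = true := by decide +kernel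
theorem c_act44_6 : allRange (fun i => Nat.beq (actR44 i) i) 16362 2727 = true := by decide +kernel
theorem c_act44_7 : allRange (fun i => Nat.beq (actR44 i) i) 19089 2727 = true := by decide +kernel
theorem c_act44_8 : allRange (fun i => Nat.beq (actR44 i) i) 21816 2727 = true := by decide +kernel
theorem c_act44_9 : allRange (fun i => Nat.beq (actR44 i) i) 24543 2727 = true := by decide +kernel
theorem c_act44_10 : allRange (fun i => Nat.beq (actR44 i) i) 27270 2727 = true := by decide +kernel
theorem c_act44_11 : allRange (fun i => Nat.beq (actR44 i) i) 29997 2727 = true := by decide +kernel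
theorem c_act44_12 : allRange (fun i => Nat.beq (actR44 i) i) 32724 2727 = true := by decide +kernel
theorem c_act44_13 : allRange (fun i => Nat.beq (actR44 i) i) 35451 2727 = true := by decide +kernel
theorem c_act44_14 : allRange (fun i => Nat.beq (actR44 i) i) 38178 2727 = true := by decide +kernel
theorem c_act44_15 : allRange (fun i => Nat.beq (actR44 i) i) 40905 2727 = true := by decide +kernel

end Cfsg.Agent.Lib.Helper4.TCD.SCo3pp5A
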