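import Cfsg.Agent.Lib.Helper4.TCD_SCo3pp5A_Acc

namespace Cfsg.Agent.Lib.Helper4.TCD.SCo3pp5A

open Cfsg.Agent.Lib.Helper4.TC

set_option maxRecDepth 100000
set_option Elab.async false

theorem c_rel_184 : allRange D.relOK 383316 1281 = true := by decide +kernel
theorem c_rel_185 : allRange D.relOK 384597 1343 = true := by decide +kernel
theorem c_rel_186 : allRange D.relOK 385940 1293 = true := by decide +kernel
theorem c_rel_187 : allRange D.relOK 387233 1322 = true := by decide +kernel
theorem c_rel_188 : allRange D.relOK 388555 1291 = true := by decide +kernel
theorem c_rel_189 : allRange D.relOK 389846 1242 = true := by decide +kernel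
theorem c_rel_190 : allRange D.relOK 391088 1354 = true := by decide +kernel
theorem c_rel_191 : allRange D.relOK 392442 1257 = true := by decide +kernel
theorem c_rel_192 : allRange D.relOK 393699 1308 = true := by decide +kernel
theorem c_rel_193 : allRange D.relOK 395007 1367 = true := by decide +kernel
theorem c_rel_194 : allRange D.relOK 396374 1279 = true := by decide +kernel
theorem c_rel_195 : allRange D.relOK 397653 1333 = true := by decide +kernel
theorem c_rel_196 : allRange D.relOK 398986 1348 = true := by decide +kernel
theorem c_rel_197 : allRange D.relOK 400334 1334 = true := by decide +kernel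
theorem c_rel_198 : allRange D.relOK 401668 1288 = true := by decide +kernel
theorem c_rel_199 : allRange D.relOK 402956 1211 = true := by decide +kernel
theorem c_rel_200 : allRange D.relOK 404167 1322 = true := by decide +kernel
theorem c_rel_201 : allRange D.relOK 405489 1253 = true := by decide +kernel
theorem c_rel_202 : allRange D.relOK 406742 1207 = true := by decide +kernel
theorem c_rel_203 : allRange D.relOK 407949 1270 = true := by decide +kernel
theorem c_rel_204 : allRange D.relOK 409219 1225 = true := by decide +kernel
theorem c_rel_205 : allRange D.relOK 410444 1214 = true := by decide +kernel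
theorem c_rel_206 : allRange D.relOK 411658 1178 = true := by decide +kernel
theorem c_rel_207 : allRange D.relOK 412836 1149 = true := by decide +kernel
theorem c_rel_208 : allRange D.relOK 413985 1146 = true := by decide +kernel
theorem c_rel_209 : allRange D.relOK 415131 1132 = true := by decide +kernel
theorem c_rel_210 : allRange D.relOK 416263 1192 = true := by decide +kernel
theorem c_rel_211 : allRange D.relOK 417455 1226 = true := by decide +kernel
theorem c_rel_212 : allRange D.relOK 418681 1158 = true := by decide +kernel
theorem c_rel_213 : allRange D.relOK 419839 3702 = true := by decide +kernel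
theorem c_rel_214 : allRange D.relOK 423541 4800 = true := by decide +kernel
theorem c_rel_215 : allRange D.relOK 428341 4888 = true := by decide +kernel
theorem c_rel_216 : allRange D.relOK 433229 4950 = true := by decide +kernel
theorem c_rel_217 : allRange D.relOK 438179 4956 = true := by decide +kernel
theorem c_rel_218 : allRange D.relOK 443135 4955 = true := by decide +kernel
theorem c_rel_219 : allRange D.relOK 448090 4956 = true := by decide +kernel
theorem c_rel_220 : allRange D.relOK 453046 4963 = true := by decide +kernel
theorem c_rel_221 : allRange D.relOK 458009 4966 = true := by decide +kernel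
theorem c_rel_222 : allRange D.relOK 462975 174 = true := by decide +kernel
theorem c_fin_0 : allGrid (T.finOK D) 0 750 16 = true := by decide +kernel
theorem c_fin_1 : allGrid (T.finOK D) 750 750 16 = true := by decide +kernel
theorem c_fin_2 : allGrid (T.finOK D) 1500 750 16 = true := by decide +kernel
theorem c_fin_3 : allGrid (T.finOK D) 2250 750 16 = true := by decide +kernel
theorem c_fin_4 : allGrid (T.finOK D) 3000 750 16 = true := by decide +kernel
theorem c_fin_5 : allGrid (T.finOK D) 3750 750 16 = true := by decide +kernel
theorem c_fin_6 : allGrid (T.finOK D) 4500 750 16 = true := by decide +kernel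
theorem c_fin_7 : allGrid (T.finOK D) 5250 750 16 = true := by decide +kernel
theorem c_fin_8 : allGrid (T.finOK D) 6000 750 16 = true := by decide +kernel
theorem c_fin_9 : allGrid (T.finOK D) 6750 750 16 = true := by decide +kernel
theorem c_fin_10 : allGrid (T.finOK D) 7500 750 16 = true := by decide +kernel
theorem c_fin_11 : allGrid (T.finOK D) 8250 750 16 = true := by decide +kernel
theorem c_fin_12 : allGrid (T.finOK D) 9000 750 16 = true := by decide +kernel
theorem c_fin_13 : allGrid (T.finOK D) 9750 750 16 = true := by decide +kernel
theorem c_fin_14 : allGrid (T.finOK D) 10500 750 16 = true := by decide +kernel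
theorem c_fin_15 : allGrid (T.finOK D) 11250 750 16 = true := by decide +kernel
theorem c_fin_16 : allGrid (T.finOK D) 12000 750 16 = true := by decide +kernel
theorem c_fin_17 : allGrid (T.finOK D) 12750 750 16 = true := by decide +kernel
theorem c_fin_18 : allGrid (T.finOK D) 13500 750 16 = true := by decide +kernel
theorem c_fin_19 : allGrid (T.finOK D) 14250 750 16 = true := by decide +kernel
theorem c_fin_20 : allGrid (T.finOK D) 15000 750 16 = true := by decide +kernel
theorem c_fin_21 : allGrid (T.finOK D) 15750 750 16 = true := by decide +kernel
theorem c_fin_22 : allGrid (T.finOK D) 16500 750 16 = true := by decide +kernel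
theorem c_fin_23 : allGrid (T.finOK D) 17250 750 16 = true := by decide +kernel
theorem c_fin_24 : allGrid (T.finOK D) 18000 750 16 = true := by decide +kernel
theorem c_fin_25 : allGrid (T.finOK D) 18750 750 16 = true := by decide +kernel
theorem c_fin_26 : allGrid (T.finOK D) 19500 750 16 = true := by decide +kernel
theorem c_fin_27 : allGrid (T.finOK D) 20250 750 16 = true := by decide +kernel
theorem c_fin_28 : allGrid (T.finOK D) 21000 750 16 = true := by decide +kernel
theorem c_fin_29 : allGrid (T.finOK D) 21750 750 16 = true := by decide +kernel

end Cfsg.Agent.Lib.Helper4.TCD.SCo3pp5A
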