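import Cfsg.Agent.Lib.Helper4.TCD_SCo3pp5A_Acc

namespace Cfsg.Agent.Lib.Helper4.TCD.SCo3pp5A

open Cfsg.Agent.Lib.Helper4.TC

set_option maxRecDepth 100000
set_option Elab.async false

theorem c_perm_15 : allGrid (T.permOK1 D) 28125 1875 16 = true := by decide +kernel
theorem c_perm_16 : allGrid (T.permOK1 D) 30000 1875 16 = true := by decide +kernel
theorem c_perm_17 : allGrid (T.permOK1 D) 31875 1875 16 = true := by decide +kernel
theorem c_perm_18 : allGrid (T.permOK1 D) 33750 1875 16 = true := by decide +kernel
theorem c_perm_19 : allGrid (T.permOK1 D) 35625 1875 16 = true := by decide +kernel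
theorem c_perm_20 : allGrid (T.permOK1 D) 37500 1875 16 = true := by decide +kernel
theorem c_perm_21 : allGrid (T.permOK1 D) 39375 1875 16 = true := by decide +kernel
theorem c_perm_22 : allGrid (T.permOK1 D) 41250 1875 16 = true := by decide +kernel
theorem c_perm_23 : allGrid (T.permOK1 D) 43125 1875 16 = true := by decide +kernel
theorem c_perm_24 : allGrid (T.permOK1 D) 45000 1875 16 = true := by decide +kernel
theorem c_perm_25 : allGrid (T.permOK1 D) 46875 1725 16 = true := by decide +kernel
theorem c_act0_0 : allRange (fun i => Nat.beq (actR0 i) i) 0 30000 = true := by decide +kernel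
theorem c_act0_1 : allRange (fun i => Nat.beq (actR0 i) i) 30000 18600 = true := by decide +kernel
theorem c_act1_0 : allRange (fun i => Nat.beq (actR1 i) i) 0 15000 = true := by decide +kernel
theorem c_act1_1 : allRange (fun i => Nat.beq (actR1 i) i) 15000 15000 = true := by decide +kernel
theorem c_act1_2 : allRange (fun i => Nat.beq (actR1 i) i) 30000 15000 = true := by decide +kernel
theorem c_act1_3 : allRange (fun i => Nat.beq (actR1 i) i) 45000 3600 = true := by decide +kernel
theorem c_act2_0 : allRange (fun i => Nat.beq (actR2 i) i) 0 2608 = true := by decide +kernel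
theorem c_act2_1 : allRange (fun i => Nat.beq (actR2 i) i) 2608 2608 = true := by decide +kernel
theorem c_act2_2 : allRange (fun i => Nat.beq (actR2 i) i) 5216 2608 = true := by decide +kernel
theorem c_act2_3 : allRange (fun i => Nat.beq (actR2 i) i) 7824 2608 = true := by decide +kernel
theorem c_act2_4 : allRange (fun i => Nat.beq (actR2 i) i) 10432 2608 = true := by decide +kernel
theorem c_act2_5 : allRange (fun i => Nat.beq (actR2 i) i) 13040 2608 = true := by decide +kernel
theorem c_act2_6 : allRange (fun i => Nat.beq (actR2 i) i) 15648 2608 = true := by decide +kernel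
theorem c_act2_7 : allRange (fun i => Nat.beq (actR2 i) i) 18256 2608 = true := by decide +kernel
theorem c_act2_8 : allRange (fun i => Nat.beq (actR2 i) i) 20864 2608 = true := by decide +kernel
theorem c_act2_9 : allRange (fun i => Nat.beq (actR2 i) i) 23472 2608 = true := by decide +kernel
theorem c_act2_10 : allRange (fun i => Nat.beq (actR2 i) i) 26080 2608 = true := by decide +kernel
theorem c_act2_11 : allRange (fun i => Nat.beq (actR2 i) i) 28688 2608 = true := by decide +kernel
theorem c_act2_12 : allRange (fun i => Nat.beq (actR2 i) i) 31296 2608 = true := by decide +kernel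
theorem c_act2_13 : allRange (fun i => Nat.beq (actR2 i) i) 33904 2608 = true := by decide +kernel
theorem c_act2_14 : allRange (fun i => Nat.beq (actR2 i) i) 36512 2608 = true := by decide +kernel
theorem c_act2_15 : allRange (fun i => Nat.beq (actR2 i) i) 39120 2608 = true := by decide +kernel
theorem c_act2_16 : allRange (fun i => Nat.beq (actR2 i) i) 41728 2608 = true := by decide +kernel
theorem c_act2_17 : allRange (fun i => Nat.beq (actR2 i) i) 44336 2608 = true := by decide +kernel
theorem c_act2_18 : allRange (fun i => Nat.beq (actR2 i) i) 46944 1656 = true := by decide +kernel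
theorem c_act3_0 : allRange (fun i => Nat.beq (actR3 i) i) 0 30000 = true := by decide +kernel
theorem c_act3_1 : allRange (fun i => Nat.beq (actR3 i) i) 30000 18600 = true := by decide +kernel
theorem c_act4_0 : allRange (fun i => Nat.beq (actR4 i) i) 0 2727 = true := by decide +kernel
theorem c_act4_1 : allRange (fun i => Nat.beq (actR4 i) i) 2727 2727 = true := by decide +kernel
theorem c_act4_2 : allRange (fun i => Nat.beq (actR4 i) i) 5454 2727 = true := by decide +kernel
theorem c_act4_3 : allRange (fun i => Nat.beq (actR4 i) i) 8181 2727 = true := by decide +kernel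
theorem c_act4_4 : allRange (fun i => Nat.beq (actR4 i) i) 10908 2727 = true := by decide +kernel
theorem c_act4_5 : allRange (fun i => Nat.beq (actR4 i) i) 13635 2727 = true := by decide +kernel
theorem c_act4_6 : allRange (fun i => Nat.beq (actR4 i) i) 16362 2727 = true := by decide +kernel
theorem c_act4_7 : allRange (fun i => Nat.beq (actR4 i) i) 19089 2727 = true := by decide +kernel
theorem c_act4_8 : allRange (fun i => Nat.beq (actR4 i) i) 21816 2727 = true := by decide +kernel
theorem c_act4_9 : allRange (fun i => Nat.beq (actR4 i) i) 24543 2727 = true := by decide +kernel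
theorem c_act4_10 : allRange (fun i => Nat.beq (actR4 i) i) 27270 2727 = true := by decide +kernel
theorem c_act4_11 : allRange (fun i => Nat.beq (actR4 i) i) 29997 2727 = true := by decide +kernel
theorem c_act4_12 : allRange (fun i => Nat.beq (actR4 i) i) 32724 2727 = true := by decide +kernel

end Cfsg.Agent.Lib.Helper4.TCD.SCo3pp5A
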