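import Cfsg.Agent.Lib.Helper4.TCD_SCo3pp5A_Acc

namespace Cfsg.Agent.Lib.Helper4.TCD.SCo3pp5A

open Cfsg.Agent.Lib.Helper4.TC

set_option maxRecDepth 100000
set_option Elab.async false

theorem c_act30_9 : allRange (fun i => Nat.beq (actR30 i) i) 24543 2727 = true := by decide +kernel
theorem c_act30_10 : allRange (fun i => Nat.beq (actR30 i) i) 27270 2727 = true := by decide +kernel
theorem c_act30_11 : allRange (fun i => Nat.beq (actR30 i) i) 29997 2727 = true := by decide +kernel
theorem c_act30_12 : allRange (fun i => Nat.beq (actR30 i) i) 32724 2727 = true := by decide +kernel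
theorem c_act30_13 : allRange (fun i => Nat.beq (actR30 i) i) 35451 2727 = true := by decide +kernel
theorem c_act30_14 : allRange (fun i => Nat.beq (actR30 i) i) 38178 2727 = true := by decide +kernel
theorem c_act30_15 : allRange (fun i => Nat.beq (actR30 i) i) 40905 2727 = true := by decide +kernel
theorem c_act30_16 : allRange (fun i => Nat.beq (actR30 i) i) 43632 2727 = true := by decide +kernel
theorem c_act30_17 : allRange (fun i => Nat.beq (actR30 i) i) 46359 2241 = true := by decide +kernel
theorem c_act31_0 : allRange (fun i => Nat.beq (actR31 i) i) 0 3333 = true := by decide +kernel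
theorem c_act31_1 : allRange (fun i => Nat.beq (actR31 i) i) 3333 3333 = true := by decide +kernel
theorem c_act31_2 : allRange (fun i => Nat.beq (actR31 i) i) 6666 3333 = true := by decide +kernel
theorem c_act31_3 : allRange (fun i => Nat.beq (actR31 i) i) 9999 3333 = true := by decide +kernel
theorem c_act31_4 : allRange (fun i => Nat.beq (actR31 i) i) 13332 3333 = true := by decide +kernel
theorem c_act31_5 : allRange (fun i => Nat.beq (actR31 i) i) 16665 3333 = true := by decide +kernel
theorem c_act31_6 : allRange (fun i => Nat.beq (actR31 i) i) 19998 3333 = true := by decide +kernel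
theorem c_act31_7 : allRange (fun i => Nat.beq (actR31 i) i) 23331 3333 = true := by decide +kernel
theorem c_act31_8 : allRange (fun i => Nat.beq (actR31 i) i) 26664 3333 = true := by decide +kernel
theorem c_act31_9 : allRange (fun i => Nat.beq (actR31 i) i) 29997 3333 = true := by decide +kernel
theorem c_act31_10 : allRange (fun i => Nat.beq (actR31 i) i) 33330 3333 = true := by decide +kernel
theorem c_act31_11 : allRange (fun i => Nat.beq (actR31 i) i) 36663 3333 = true := by decide +kernel
theorem c_act31_12 : allRange (fun i => Nat.beq (actR31 i) i) 39996 3333 = true := by decide +kernel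
theorem c_act31_13 : allRange (fun i => Nat.beq (actR31 i) i) 43329 3333 = true := by decide +kernel
theorem c_act31_14 : allRange (fun i => Nat.beq (actR31 i) i) 46662 1938 = true := by decide +kernel
theorem c_act32_0 : allRange (fun i => Nat.beq (actR32 i) i) 0 3157 = true := by decide +kernel
theorem c_act32_1 : allRange (fun i => Nat.beq (actR32 i) i) 3157 3157 = true := by decide +kernel
theorem c_act32_2 : allRange (fun i => Nat.beq (actR32 i) i) 6314 3157 = true := by decide +kernel
theorem c_act32_3 : allRange (fun i => Nat.beq (actR32 i) i) 9471 3157 = true := by decide +kernel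
theorem c_act32_4 : allRange (fun i => Nat.beq (actR32 i) i) 12628 3157 = true := by decide +kernel
theorem c_act32_5 : allRange (fun i => Nat.beq (actR32 i) i) 15785 3157 = true := by decide +kernel
theorem c_act32_6 : allRange (fun i => Nat.beq (actR32 i) i) 18942 3157 = true := by decide +kernel
theorem c_act32_7 : allRange (fun i => Nat.beq (actR32 i) i) 22099 3157 = true := by decide +kernel
theorem c_act32_8 : allRange (fun i => Nat.beq (actR32 i) i) 25256 3157 = true := by decide +kernel
theorem c_act32_9 : allRange (fun i => Nat.beq (actR32 i) i) 28413 3157 = true := by decide +kernel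
theorem c_act32_10 : allRange (fun i => Nat.beq (actR32 i) i) 31570 3157 = true := by decide +kernel
theorem c_act32_11 : allRange (fun i => Nat.beq (actR32 i) i) 34727 3157 = true := by decide +kernel
theorem c_act32_12 : allRange (fun i => Nat.beq (actR32 i) i) 37884 3157 = true := by decide +kernel
theorem c_act32_13 : allRange (fun i => Nat.beq (actR32 i) i) 41041 3157 = true := by decide +kernel
theorem c_act32_14 : allRange (fun i => Nat.beq (actR32 i) i) 44198 3157 = true := by decide +kernel
theorem c_act32_15 : allRange (fun i => Nat.beq (actR32 i) i) 47355 1245 = true := by decide +kernel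
theorem c_act33_0 : allRange (fun i => Nat.beq (actR33 i) i) 0 2608 = true := by decide +kernel
theorem c_act33_1 : allRange (fun i => Nat.beq (actR33 i) i) 2608 2608 = true := by decide +kernel
theorem c_act33_2 : allRange (fun i => Nat.beq (actR33 i) i) 5216 2608 = true := by decide +kernel
theorem c_act33_3 : allRange (fun i => Nat.beq (actR33 i) i) 7824 2608 = true := by decide +kernel
theorem c_act33_4 : allRange (fun i => Nat.beq (actR33 i) i) 10432 2608 = true := by decide +kernel
theorem c_act33_5 : allRange (fun i => Nat.beq (actR33 i) i) 13040 2608 = true := by decide +kernel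
theorem c_act33_6 : allRange (fun i => Nat.beq (actR33 i) i) 15648 2608 = true := by decide +kernel
theorem c_act33_7 : allRange (fun i => Nat.beq (actR33 i) i) 18256 2608 = true := by decide +kernel
theorem c_act33_8 : allRange (fun i => Nat.beq (actR33 i) i) 20864 2608 = true := by decide +kernel
theorem c_act33_9 : allRange (fun i => Nat.beq (actR33 i) i) 23472 2608 = true := by decide +kernel
theorem c_act33_10 : allRange (fun i => Nat.beq (actR33 i) i) 26080 2608 = true := by decide +kernel

end Cfsg.Agent.Lib.Helper4.TCD.SCo3pp5A
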