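import Cfsg.Agent.Lib.Helper4.TCD_SCo3pp5A_Acc

namespace Cfsg.Agent.Lib.Helper4.TCD.SCo3pp5A

open Cfsg.Agent.Lib.Helper4.TC

set_option maxRecDepth 100000
set_option Elab.async false

theorem c_act33_11 : allRange (fun i => Nat.beq (actR33 i) i) 28688 2608 = true := by decide +kernel
theorem c_act33_12 : allRange (fun i => Nat.beq (actR33 i) i) 31296 2608 = true := by decide +kernel
theorem c_act33_13 : allRange (fun i => Nat.beq (actR33 i) i) 33904 2608 = true := by decide +kernel
theorem c_act33_14 : allRange (fun i => Nat.beq (actR33 i) i) 36512 2608 = true := by decide +kernel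
theorem c_act33_15 : allRange (fun i => Nat.beq (actR33 i) i) 39120 2608 = true := by decide +kernel
theorem c_act33_16 : allRange (fun i => Nat.beq (actR33 i) i) 41728 2608 = true := by decide +kernel
theorem c_act33_17 : allRange (fun i => Nat.beq (actR33 i) i) 44336 2608 = true := by decide +kernel
theorem c_act33_18 : allRange (fun i => Nat.beq (actR33 i) i) 46944 1656 = true := by decide +kernel
theorem c_act34_0 : allRange (fun i => Nat.beq (actR34 i) i) 0 8571 = true := by decide +kernel
theorem c_act34_1 : allRange (fun i => Nat.beq (actR34 i) i) 8571 8571 = true := by decide +kernel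
theorem c_act34_2 : allRange (fun i => Nat.beq (actR34 i) i) 17142 8571 = true := by decide +kernel
theorem c_act34_3 : allRange (fun i => Nat.beq (actR34 i) i) 25713 8571 = true := by decide +kernel
theorem c_act34_4 : allRange (fun i => Nat.beq (actR34 i) i) 34284 8571 = true := by decide +kernel
theorem c_act34_5 : allRange (fun i => Nat.beq (actR34 i) i) 42855 5745 = true := by decide +kernel
theorem c_act35_0 : allRange (fun i => Nat.beq (actR35 i) i) 0 5000 = true := by decide +kernel
theorem c_act35_1 : allRange (fun i => Nat.beq (actR35 i) i) 5000 5000 = true := by decide +kernel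
theorem c_act35_2 : allRange (fun i => Nat.beq (actR35 i) i) 10000 5000 = true := by decide +kernel
theorem c_act35_3 : allRange (fun i => Nat.beq (actR35 i) i) 15000 5000 = true := by decide +kernel
theorem c_act35_4 : allRange (fun i => Nat.beq (actR35 i) i) 20000 5000 = true := by decide +kernel
theorem c_act35_5 : allRange (fun i => Nat.beq (actR35 i) i) 25000 5000 = true := by decide +kernel
theorem c_act35_6 : allRange (fun i => Nat.beq (actR35 i) i) 30000 5000 = true := by decide +kernel
theorem c_act35_7 : allRange (fun i => Nat.beq (actR35 i) i) 35000 5000 = true := by decide +kernel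
theorem c_act35_8 : allRange (fun i => Nat.beq (actR35 i) i) 40000 5000 = true := by decide +kernel
theorem c_act35_9 : allRange (fun i => Nat.beq (actR35 i) i) 45000 3600 = true := by decide +kernel
theorem c_act36_0 : allRange (fun i => Nat.beq (actR36 i) i) 0 5000 = true := by decide +kernel
theorem c_act36_1 : allRange (fun i => Nat.beq (actR36 i) i) 5000 5000 = true := by decide +kernel
theorem c_act36_2 : allRange (fun i => Nat.beq (actR36 i) i) 10000 5000 = true := by decide +kernel
theorem c_act36_3 : allRange (fun i => Nat.beq (actR36 i) i) 15000 5000 = true := by decide +kernel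
theorem c_act36_4 : allRange (fun i => Nat.beq (actR36 i) i) 20000 5000 = true := by decide +kernel
theorem c_act36_5 : allRange (fun i => Nat.beq (actR36 i) i) 25000 5000 = true := by decide +kernel
theorem c_act36_6 : allRange (fun i => Nat.beq (actR36 i) i) 30000 5000 = true := by decide +kernel
theorem c_act36_7 : allRange (fun i => Nat.beq (actR36 i) i) 35000 5000 = true := by decide +kernel
theorem c_act36_8 : allRange (fun i => Nat.beq (actR36 i) i) 40000 5000 = true := by decide +kernel
theorem c_act36_9 : allRange (fun i => Nat.beq (actR36 i) i) 45000 3600 = true := by decide +kernel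
theorem c_act37_0 : allRange (fun i => Nat.beq (actR37 i) i) 0 4000 = true := by decide +kernel
theorem c_act37_1 : allRange (fun i => Nat.beq (actR37 i) i) 4000 4000 = true := by decide +kernel
theorem c_act37_2 : allRange (fun i => Nat.beq (actR37 i) i) 8000 4000 = true := by decide +kernel
theorem c_act37_3 : allRange (fun i => Nat.beq (actR37 i) i) 12000 4000 = true := by decide +kernel
theorem c_act37_4 : allRange (fun i => Nat.beq (actR37 i) i) 16000 4000 = true := by decide +kernel
theorem c_act37_5 : allRange (fun i => Nat.beq (actR37 i) i) 20000 4000 = true := by decide +kernel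
theorem c_act37_6 : allRange (fun i => Nat.beq (actR37 i) i) 24000 4000 = true := by decide +kernel
theorem c_act37_7 : allRange (fun i => Nat.beq (actR37 i) i) 28000 4000 = true := by decide +kernel
theorem c_act37_8 : allRange (fun i => Nat.beq (actR37 i) i) 32000 4000 = true := by decide +kernel
theorem c_act37_9 : allRange (fun i => Nat.beq (actR37 i) i) 36000 4000 = true := by decide +kernel
theorem c_act37_10 : allRange (fun i => Nat.beq (actR37 i) i) 40000 4000 = true := by decide +kernel
theorem c_act37_11 : allRange (fun i => Nat.beq (actR37 i) i) 44000 4000 = true := by decide +kernel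
theorem c_act37_12 : allRange (fun i => Nat.beq (actR37 i) i) 48000 600 = true := by decide +kernel
theorem c_act38_0 : allRange (fun i => Nat.beq (actR38 i) i) 0 4000 = true := by decide +kernel
theorem c_act38_1 : allRange (fun i => Nat.beq (actR38 i) i) 4000 4000 = true := by decide +kernel
theorem c_act38_2 : allRange (fun i => Nat.beq (actR38 i) i) 8000 4000 = true := by decide +kernel
theorem c_act38_3 : allRange (fun i => Nat.beq (actR38 i) i) 12000 4000 = true := by decide +kernel
theorem c_act38_4 : allRange (fun i => Nat.beq (actR38 i) i) 16000 4000 = true := by decide +kernel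

end Cfsg.Agent.Lib.Helper4.TCD.SCo3pp5A
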