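import Mathlib
import Cfsg.Agent.Lib.Helper4.Co3pMain
import Cfsg.Agent.Lib.Helper4.TCD_SCo3pp5A_Fin
import Cfsg.Agent.Lib.Helper4.TCD_SCo3pp5W
import Cfsg.Agent.Lib.Helper4.StemLib8
import Cfsg.Agent.Lib.Helper4.M23pStem

/-! `Co3p` has no stem extension with kernel of order 5 (generated). -/

namespace Cfsg.Agent.Lib.Helper4.SCo3pp5Main

open Cfsg.Agent.Lib.Helper4.TC Cfsg.Agent.Lib.Helper4.TCD Cfsg.Agent.Lib.Helper4.TC.Log Cfsg.Agent.Lib.Helper4.Stem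

/-- the description of the auxiliary presentation -/
def spec : Spec4 :=
  { p := 5
    items := [(0, [], 2),
      (2, [], 4),
      (4, [], 23),
      (6, [], 2),
      (8, [0, 2, 0, 2, 2, 0, 2, 0, 2, 2, 0, 2, 5, 0, 6, 5, 6, 5, 0, 6, 3], 0),
      (10, [0, 2, 0, 2, 5, 3, 5, 0, 6, 5, 0, 4, 6, 2, 2, 0, 2, 2, 0, 3, 0, 2, 2], 0),
      (12, [0, 2, 0, 3, 3, 0, 2, 0, 3, 3, 0, 6, 5, 2, 5, 0, 3, 3, 6, 0, 4, 4, 2, 5], 0),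
      (14, [0, 2, 0, 2, 0, 3, 3, 0, 3, 3, 6, 4, 0, 3, 5, 0, 6, 3, 4, 3, 5, 0, 4, 3, 3, 0, 3], 0)]
    cen := [8, 10, 12, 14]
    R := []
    sub := [0, 2, 4]
    PR := [[0, 0], [2, 2, 2, 2], [0, 2, 0, 2, 0, 2, 0, 2, 0, 2, 0, 2, 0, 2, 0, 2, 0, 2, 0, 2, 0, 2], [0, 2, 2, 0, 2, 2, 0, 2, 2, 0, 2, 2, 0, 2, 2, 0, 2, 2], [0, 2, 0, 2, 0, 3, 0, 2, 0, 2, 2, 0, 3, 0, 2, 0, 3, 0, 3], [4, 4, 4, 4, 4, 4, 4, 4, 4, 4, 4, 4, 4, 4, 4, 4, 4, 4, 4, 4, 4, 4, 4], [0, 2, 4, 3, 1, 5, 5], [0, 4, 0, 4, 3, 4, 0, 4, 4, 3, 5, 5], [0, 4, 0, 5, 0, 4, 0, 5, 1, 4, 1, 5], [0, 2, 0, 4, 4, 2, 0, 4, 4, 2, 5, 3, 5, 2, 2], [0, 2, 5, 0, 4, 2, 5, 5, 1, 5, 1, 4, 2, 2, 5], [0, 3, 5, 1, 4, 3, 4, 3, 3, 5, 0, 4, 3, 4, 3]]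
    XR := [([6], [2, 4, 4, 0, 5, 0, 3, 0], [0, 2, 0, 4, 0, 5, 5, 3], 4),
      ([6], [0, 2, 0, 4, 0, 5, 5, 3], [2, 0, 2, 4, 3, 5, 0, 3, 0], 4),
      ([6], [4, 2, 0, 5, 5, 0, 3, 0, 3], [2, 0, 2, 2, 4, 2, 2, 5], 4),
      ([6], [4, 0, 4, 3, 4, 4, 4, 2, 4, 3], [2, 2, 0, 3, 5, 2, 5, 2, 2, 4], 3),
      ([6], [5, 2, 2, 5, 5, 3, 5, 2, 5], [0, 3, 0, 2, 2, 0, 5, 3, 5, 3, 5], 3),
      ([6], [5, 0, 4], [2, 2, 0, 2, 2, 0, 3, 0, 2, 2, 0, 2, 0, 2, 5, 3, 5, 0], 2)] }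

/-- the letters of the auxiliary presentation as words of the base group -/
def Wl (l : ℕ) : List ℕ :=
  [[0], [1], [2], [3], [4], [5], [6], [7], [], [], [], [], [], [], [], []].getD l []

theorem checks_eq : checks spec.toSpec2 PCo3p.P.invR Wl ++ checksX spec PSCo3pp5.P.invR Wl = SCo3pp5W.chkAll := by decide +kernel

theorem sub_eq : Subgroup.closure (xw PCo3p.P Wl '' {l | l ∈ spec.sub}) = Inst.subG PCo3p.P Co3pA.subs := by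
  rw [closure_xw_eq]
  rfl

set_option maxRecDepth 100000 in
theorem noStem : NoStemPrime PCo3p.P.Grp 5 := by
  obtain ⟨fG, hinj, hcard⟩ := Co3pMain.order_aux
  have hall : ∀ w ∈ checks spec.toSpec2 PCo3p.P.invR Wl ++ checksX spec PSCo3pp5.P.invR Wl, wordP PCo3p.P.gR w = 1 := by
    rw [checks_eq]
    intro w hw
    exact Co3pA.inst.word_eq_one hinj w (SCo3pp5W.hAll_lt w hw) (SCo3pp5W.hAll w hw)
  exact noStemPrime_pres4 PCo3p.P PCo3p.valid PSCo3pp5.P PSCo3pp5.valid spec (by show Nat.Prime 5; norm_num) Wl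
    (by decide +kernel) (by decide +kernel) (fun w hw => hall w (List.mem_append_left _ hw))
    (fun w hw => hall w (List.mem_append_right _ hw)) (by decide +kernel)
    (by rw [sub_eq]; exact Co3pMain.liftsP_sub 5 (by norm_num) M23pStem.perfect (M23pStem.noStem 5 (by norm_num)))
    10200960 (by rw [sub_eq]; exact Co3pMain.sub_card.2)
    48600 (by decide) SCo3pp5A.index_eq fG 495766656000 hcard (by decide)

end Cfsg.Agent.Lib.Helper4.SCo3pp5Main
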