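import Mathlib
import Cfsg.Prelude.Def_KGroupFacts
import Cfsg.Agent.Lib.Helper4.Co3pIso
import Cfsg.Agent.Lib.Helper4.SCo3pp2Main
import Cfsg.Agent.Lib.Helper4.SCo3pp3Main
import Cfsg.Agent.Lib.Helper4.SCo3pp5Main
import Cfsg.Agent.Lib.Helper4.StemLib2

/-!
The presented group `Co3p` has no stem extension with kernel of prime order (for the primes 2, 3, 5 by coset
enumerations over the subgroup M23, which lifts to every stem extension), hence the Schur multiplier of the Conway
group `Co3` is trivial.
-/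

set_option autoImplicit false

namespace Cfsg.Agent.Lib.Helper4.Co3pStem

open Cfsg Cfsg.Agent.Lib.Helper4.TC Cfsg.Agent.Lib.Helper4.TCD Cfsg.Agent.Lib.Helper4.TC.Log
  Cfsg.Agent.Lib.Helper4.Stem

/-- no stem extension with kernel of prime order -/
theorem noStem : ∀ p, p.Prime → NoStemPrime PCo3p.P.Grp p := by
  obtain ⟨fG, _, hcard⟩ := Co3pMain.order_aux
  have := fG
  apply noStemPrime_all PCo3p.P.Grp [2, 3, 5]
  · intro p hp
    simp only [List.mem_cons, List.not_mem_nil, or_false] at hp
    rcases hp with rfl | rfl | rfl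
    · exact SCo3pp2Main.noStem
    · exact SCo3pp3Main.noStem
    · exact SCo3pp5Main.noStem
  · rw [hcard]
    exact sq_dvd_mem_of_factors 495766656000 [2, 2, 2, 2, 2, 2, 2, 2, 2, 2, 3, 3, 3, 3, 3, 3, 3, 5, 5, 5, 7, 11, 23]
      (by norm_num) (by decide) [2, 3, 5] (by decide)

/-- a group isomorphic to the presented group has trivial Schur multiplier -/
theorem hasMult_of_equiv {G : Type} [Group G] (e : G ≃* PCo3p.P.Grp) :
    Cfsg.HasCyclicSchurMultiplier G 1 := by
  obtain ⟨fG, _, _⟩ := Co3pMain.order_aux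
  have := fG
  have : Finite G := Finite.of_equiv _ e.symm.toEquiv
  apply trivialMultiplier_of_noStemPrime G
  intro p hp
  exact noStemPrime_of_mulEquiv e.symm p (noStem p hp)

/-- the Schur multiplier of the Conway group `Co3` is trivial -/
theorem hasMult : Cfsg.HasCyclicSchurMultiplier ↥Cfsg.Spor.Co3 1 := by
  obtain ⟨e⟩ := Co3pIso.iso
  exact hasMult_of_equiv e.symm

end Cfsg.Agent.Lib.Helper4.Co3pStem
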