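import Cfsg.Agent.Lib.Helper4.CoxT1

/-!
Chains of verified coset tables, and the application to presented Coxeter groups.
-/

namespace Cfsg.Agent.Lib.Helper4.CoxT

/-- data of one chain step -/
structure Level where
  N : ℕ
  tbl : ℕ → ℕ → ℕ
  par : ℕ → ℕ
  lab : ℕ → ℕ
  lev : ℕ → ℕ → ℕ
  just : ℕ → ℕ → ℕ
  c : ℕ

def chainOK (m : ℕ → ℕ → ℕ) (Ntop : ℕ) (top : ℕ → ℕ → ℕ) : ℕ → List Level → Bool
  | _, [] => true
  | kH, L :: Ls =>
    levelOK Ntop top L.N kH L.tbl L.par L.lab L.lev L.just m L.c && chainOK m Ntop top (kH+1) Ls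

theorem chain_main {W : Type*} [Group W] (g : ℕ → W) (m : ℕ → ℕ → ℕ) (Ntop : ℕ)
    (top : ℕ → ℕ → ℕ) (φ : W →* Equiv.Perm (Fin Ntop)) :
    ∀ (Ls : List Level) (kH : ℕ),
      (∀ s, s < kH + Ls.length → g s * g s = 1) →
      (∀ s, s < kH + Ls.length → ∀ i : Fin Ntop, ((φ (g s)) i).val = top i.val s) →
      (∀ s t, s < kH + Ls.length → t < kH + Ls.length → (g s * g t) ^ (m s t) = 1) →
      chainOK m Ntop top kH Ls = true →
      Nat.card (Hc g (kH + Ls.length)) = (Ls.map Level.N).prod * Nat.card (Hc g kH) ∧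
      ∀ x ∈ Hc g (kH + Ls.length),
        (∀ L ∈ Ls, ∀ i : Fin Ntop, i.val = L.c → φ x i = i) → x ∈ Hc g kH := by
  intro Ls
  induction Ls with
  | nil =>
    intro kH _ _ _ _
    simp
  | cons L Ls ih =>
    intro kH
    simp only [List.length_cons]
    rw [show kH + (Ls.length + 1) = kH + 1 + Ls.length by omega]
    intro hinv hφ hrel hchk
    simp only [chainOK, Bool.and_eq_true] at hchk
    obtain ⟨h1, h2⟩ := hchk
    have IH := ih (kH+1) hinv hφ hrel h2
    have lv := level_main g Ntop top φ L.N kH L.tbl L.par L.lab L.lev L.just m L.c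
      (fun s hs => hinv s (by omega)) (fun s hs => hφ s (by omega))
      (fun s t hs ht => hrel s t (by omega) (by omega)) h1
    refine ⟨?_, ?_⟩
    · simp only [List.map_cons, List.prod_cons]
      rw [IH.1, lv.1]; ring
    · intro x hx hfix
      have hx1 := IH.2 x hx (fun L' hL' => hfix L' (List.mem_cons_of_mem _ hL'))
      have hc : L.c < Ntop := by
        simp only [levelOK, Bool.and_eq_true] at h1
        exact lbOK_lt Ntop top L.N kH L.par L.lab L.c h1.2
      exact lv.2 x hx1 ⟨L.c, hc⟩ rfl (hfix L List.mem_cons_self ⟨L.c, hc⟩ rfl)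

/-! ### Permutation representation from a table -/

def walkEnd (top : ℕ → ℕ → ℕ) : ℕ → ℕ → ℕ → ℕ → ℕ
  | 0, _, _, j => j
  | (k+1), a, b, j => walkEnd top k b a (top j a)

def permOK (n N : ℕ) (top : ℕ → ℕ → ℕ) : Bool :=
  (List.range N).all fun i => (List.range n).all fun s =>
    Nat.blt (top i s) N && Nat.beq (top (top i s) s) i

def relOK (n N : ℕ) (top : ℕ → ℕ → ℕ) (m : ℕ → ℕ → ℕ) : Bool :=
  (List.range n).all fun s => (List.range n).all fun t => (List.range N).all fun i =>
    Nat.beq (walkEnd top (2 * m s t) t s i) i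

theorem permOK_apply {n N : ℕ} {top : ℕ → ℕ → ℕ} (h : permOK n N top = true) (i s : ℕ)
    (hi : i < N) (hs : s < n) : top i s < N ∧ top (top i s) s = i := by
  simp only [permOK, List.all_eq_true, List.mem_range, Bool.and_eq_true] at h
  exact ⟨blt_true (h i hi s hs).1, beq_true (h i hi s hs).2⟩

theorem relOK_apply {n N : ℕ} {top : ℕ → ℕ → ℕ} {m : ℕ → ℕ → ℕ} (h : relOK n N top m = true)
    (s t i : ℕ) (hs : s < n) (ht : t < n) (hi : i < N) : walkEnd top (2 * m s t) t s i = i := by
  simp only [relOK, List.all_eq_true, List.mem_range] at h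
  exact beq_true (h s hs t ht i hi)

/-- the involution of `Fin N` given by generator `s` -/
def permOf {n N : ℕ} {top : ℕ → ℕ → ℕ} (h : permOK n N top = true) (s : Fin n) :
    Equiv.Perm (Fin N) where
  toFun i := ⟨top i.1 s.1, (permOK_apply h i.1 s.1 i.2 s.2).1⟩
  invFun i := ⟨top i.1 s.1, (permOK_apply h i.1 s.1 i.2 s.2).1⟩
  left_inv i := Fin.ext (permOK_apply h i.1 s.1 i.2 s.2).2
  right_inv i := Fin.ext (permOK_apply h i.1 s.1 i.2 s.2).2

theorem permOf_apply {n N : ℕ} {top : ℕ → ℕ → ℕ} (h : permOK n N top = true) (s : Fin n)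
    (i : Fin N) : ((permOf h s) i).val = top i.1 s.1 := rfl

theorem permOf_pow {n N : ℕ} {top : ℕ → ℕ → ℕ} (h : permOK n N top = true) (s t : Fin n) :
    ∀ (k : ℕ) (i : Fin N), (((permOf h s * permOf h t) ^ k) i).val = walkEnd top (2 * k) t.1 s.1 i.1 := by
  intro k
  induction k with
  | zero => intro i; simp [walkEnd]
  | succ k ih =>
    intro i
    rw [pow_succ, Equiv.Perm.mul_apply, ih]
    have : 2 * (k + 1) = 2 * k + 1 + 1 := by ring
    rw [this, walkEnd, walkEnd]
    rfl

/-! ### Coxeter groups -/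

/-- certificate for a Coxeter group -/
structure Cert where
  m : ℕ → ℕ → ℕ
  N : ℕ
  top : ℕ → ℕ → ℕ
  levels : List Level

def Cert.check (C : Cert) (n : ℕ) : Bool :=
  Nat.beq C.levels.length n && permOK n C.N C.top && relOK n C.N C.top C.m &&
    chainOK C.m C.N C.top 0 C.levels

def Cert.order (C : Cert) : ℕ := (C.levels.map Level.N).prod

section Cox

variable {n : ℕ} (M : CoxeterMatrix (Fin n)) (C : Cert)

/-- generators indexed by `ℕ` -/
noncomputable def gen (s : ℕ) : M.Group := if h : s < n then M.simple ⟨s, h⟩ else 1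

theorem gen_of_lt {s : ℕ} (h : s < n) : gen M s = M.simple ⟨s, h⟩ := by rw [gen, dif_pos h]

theorem gen_val (s : Fin n) : gen M s.1 = M.simple s := by rw [gen_of_lt M s.2]

theorem Hc_gen_top : Hc (gen M) n = ⊤ := by
  rw [eq_top_iff, ← M.toCoxeterSystem.subgroup_closure_range_simple, Hc]
  apply Subgroup.closure_mono
  rintro _ ⟨s, rfl⟩
  exact ⟨s.1, s.2, by rw [gen_val, CoxeterMatrix.toCoxeterSystem_simple]⟩

variable (hM : ∀ s t : Fin n, M s t = C.m s.1 t.1) (hC : C.check n = true)

include hC in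
theorem Cert.check_perm : permOK n C.N C.top = true := by
  simp only [Cert.check, Bool.and_eq_true] at hC
  exact hC.1.1.2

include hC in
theorem Cert.check_rel : relOK n C.N C.top C.m = true := by
  simp only [Cert.check, Bool.and_eq_true] at hC
  exact hC.1.2

include hC in
theorem Cert.check_len : C.levels.length = n := by
  simp only [Cert.check, Bool.and_eq_true] at hC
  exact beq_true hC.1.1.1

include hC in
theorem Cert.check_chain : chainOK C.m C.N C.top 0 C.levels = true := by
  simp only [Cert.check, Bool.and_eq_true] at hC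
  exact hC.2

include hM in
theorem Cert.liftable : M.IsLiftable (permOf (C.check_perm hC)) := by
  intro s t
  ext i
  rw [hM, permOf_pow, relOK_apply (C.check_rel hC) s.1 t.1 i.1 s.2 t.2 i.2]
  rfl

/-- the permutation representation -/
noncomputable def Cert.phi : M.Group →* Equiv.Perm (Fin C.N) :=
  M.toCoxeterSystem.lift ⟨permOf (C.check_perm hC), C.liftable M hM hC⟩

theorem Cert.phi_simple (s : Fin n) : C.phi M hM hC (M.simple s) = permOf (C.check_perm hC) s := by
  rw [← CoxeterMatrix.toCoxeterSystem_simple]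
  exact M.toCoxeterSystem.lift_apply_simple _ s

theorem Cert.phi_gen (s : ℕ) (hs : s < n) (i : Fin C.N) :
    ((C.phi M hM hC (gen M s)) i).val = C.top i.1 s := by
  rw [gen_of_lt M hs, Cert.phi_simple]
  rfl

theorem gen_mul_self (s : ℕ) : gen M s * gen M s = 1 := by
  by_cases h : s < n
  · rw [gen_of_lt M h, ← CoxeterMatrix.toCoxeterSystem_simple]
    exact M.toCoxeterSystem.simple_mul_simple_self _
  · rw [gen, dif_neg h, one_mul]

include hM in
theorem gen_rel (s t : ℕ) (hs : s < n) (ht : t < n) : (gen M s * gen M t) ^ (C.m s t) = 1 := by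
  rw [gen_of_lt M hs, gen_of_lt M ht, ← CoxeterMatrix.toCoxeterSystem_simple]
  have := M.toCoxeterSystem.simple_mul_simple_pow ⟨s, hs⟩ ⟨t, ht⟩
  rw [hM] at this
  exact this

theorem Cert.chain :
    Nat.card M.Group = C.order ∧
    ∀ x : M.Group, (∀ L ∈ C.levels, ∀ i : Fin C.N, i.val = L.c → C.phi M hM hC x i = i) → x = 1 := by
  have hlen := C.check_len hC
  have := chain_main (gen M) C.m C.N C.top (C.phi M hM hC) C.levels 0
    (fun s _ => gen_mul_self M s)
    (fun s hs i => C.phi_gen M hM hC s (by omega) i)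
    (fun s t hs ht => gen_rel M C hM s t (by omega) (by omega))
    (C.check_chain hC)
  rw [Nat.zero_add, hlen, Hc_gen_top, Hc_zero] at this
  constructor
  · rw [Cert.order, ← Nat.card_congr (Subgroup.topEquiv (G := M.Group)).toEquiv, this.1]
    simp
  · intro x hx
    have := this.2 x (Subgroup.mem_top x) hx
    exact Subgroup.mem_bot.1 this

include hM hC in
theorem Cert.card_eq : Nat.card M.Group = C.order := (C.chain M hM hC).1

include hM hC in
theorem Cert.finite (hpos : 0 < C.order) : Finite M.Group := by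
  apply Nat.finite_of_card_ne_zero
  rw [C.card_eq M hM hC]
  omega

theorem Cert.phi_injective : Function.Injective (C.phi M hM hC) := by
  rw [injective_iff_map_eq_one]
  intro x hx
  apply (C.chain M hM hC).2 x
  intro L _ i _
  rw [hx]
  rfl

end Cox

end Cfsg.Agent.Lib.Helper4.CoxT
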