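import Cfsg.Agent.Lib.Helper4.CoxT2

/-! Generated certificate data for the Coxeter group of type D4r. -/

namespace Cfsg.Agent.Lib.Helper4.CoxT

def certD4r : Cert where
  m := fun s t => dig 8 0x1030303030102020302010203020201 (s * 4 + t)
  N := 24
  top := fun i s => dig 8 0x16171717171314151511121614101612131610110d0c15140e150c130f14130c100f0f0b110e0a0e12090d0d08121110070b0b0f060a0e0a050d09090c0506070b0304080a020804090802030401070603070105020605010004030201000000 (i * 4 + s)
  levels := [
    { N := 2,
      tbl := fun i s => dig 8 0x1 (i * 1 + s),
      par := fun j => dig 8 0x0 j,
      lab := fun j => dig 8 0x0 j,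
      lev := fun i s => dig 8 0x100 (i * 1 + s),
      just := fun i s => dig 8 0x1 (i * 1 + s),
      c := 1 },
    { N := 2,
      tbl := fun i s => dig 8 0x10100 (i * 2 + s),
      par := fun j => dig 8 0x0 j,
      lab := fun j => dig 8 0x100 j,
      lev := fun i s => dig 8 0x1020000 (i * 2 + s),
      just := fun i s => dig 8 0x1010203 (i * 2 + s),
      c := 10 },
    { N := 2,
      tbl := fun i s => dig 8 0x101010000 (i * 3 + s),
      par := fun j => dig 8 0x0 j,
      lab := fun j => dig 8 0x200 j,
      lev := fun i s => dig 8 0x10202000000 (i * 3 + s),
      just := fun i s => dig 8 0x20202030404 (i * 3 + s),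
      c := 9 },
    { N := 24,
      tbl := fun i s => dig 8 0x16171717171314151511121614101612131610110d0c15140e150c130f14130c100f0f0b110e0a0e12090d0d08121110070b0b0f060a0e0a050d09090c0506070b0304080a020804090802030401070603070105020605010004030201000000 (i * 4 + s),
      par := fun j => dig 8 0x16131110100c0c0c0b0a0908070605050302020101010000 j,
      lab := fun j => dig 8 0x30202020102010000010203030303020202010201000300 j,
      lev := fun i s => dig 8 0x10606060001020305010203050102020500010202010202030001020400000104040401030401040201040401000000010303000103000301000303000102030001020300010202000001020201020202000102020000010100000000000000 (i * 4 + s),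
      just := fun i s => dig 8 0x30303030402020101020201000202020004010102020202010401010004040000000000010101010202020203040404030303040303040303040303040202010402020104020202040401010202020201040101000404000304040404050505 (i * 4 + s),
      c := 0 }]

set_option maxRecDepth 100000 in
theorem certD4r_check : certD4r.check 4 = true := by decide +kernel

end Cfsg.Agent.Lib.Helper4.CoxT
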