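import Cfsg.Agent.Lib.Helper4.CoxT2

/-! Generated certificate data for the Coxeter group of type F4. -/

namespace Cfsg.Agent.Lib.Helper4.CoxT

def certF4 : Cert where
  m := fun s t => dig 8 0x1030202030104020204010302020301 (s * 4 + t)
  N := 24
  top := fun i s => dig 8 0x1617171717151616151614151412151313101314111412101211110f0f130e12100f0d110d0c100e0e0b0f0d0a0e0c0c080d090b0c080a0a06090b070b0a06080507070909040805070305060406040303050204020103020002010101000000 (i * 4 + s)
  levels := [
    { N := 2,
      tbl := fun i s => dig 8 0x1 (i * 1 + s),
      par := fun j => dig 8 0x0 j,
      lab := fun j => dig 8 0x0 j,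
      lev := fun i s => dig 8 0x100 (i * 1 + s),
      just := fun i s => dig 8 0x1 (i * 1 + s),
      c := 3 },
    { N := 3,
      tbl := fun i s => dig 8 0x20100020100 (i * 2 + s),
      par := fun j => dig 8 0x10000 j,
      lab := fun j => dig 8 0x100 j,
      lev := fun i s => dig 8 0x20101000000 (i * 2 + s),
      just := fun i s => dig 8 0x1020203 (i * 2 + s),
      c := 2 },
    { N := 8,
      tbl := fun i s => dig 8 0x60707070506030604020405050302040103000201010000 (i * 3 + s),
      par := fun j => dig 8 0x605030202010000 j,
      lab := fun j => dig 8 0x201020200010200 j,
      lev := fun i s => dig 8 0x10404000103010002010202000301000100010002000000 (i * 3 + s),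
      just := fun i s => dig 8 0x20202030101020302020202030000030103020302030404 (i * 3 + s),
      c := 1 },
    { N := 24,
      tbl := fun i s => dig 8 0x1617171717151616151614151412151313101314111412101211110f0f130e12100f0d110d0c100e0e0b0f0d0a0e0c0c080d090b0c080a0a06090b070b0a06080507070909040805070305060406040303050204020103020002010101000000 (i * 4 + s),
      par := fun j => dig 8 0x1615141210100f0e0d0c0b0a080806060504030302010000 j,
      lab := fun j => dig 8 0x30201020200000101020203030203010302020001020300 j,
      lev := fun i s => dig 8 0x10a0a0a0001090909000108080100020701070204000801040707010300010003060100020100070201000601000606010002050001050501050203000001040104040300010002000103020400040103000100020100030100020200000000 (i * 4 + s),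
      just := fun i s => dig 8 0x30303030402020201040101000204020202020200040000000000000104010401010104020204020202040203040303030403010402020203000303040401010303030304020402040202020004000001040104020204020304030304050505 (i * 4 + s),
      c := 0 }]

set_option maxRecDepth 100000 in
theorem certF4_check : certF4.check 4 = true := by decide +kernel

end Cfsg.Agent.Lib.Helper4.CoxT
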