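import Cfsg.Agent.Lib.Helper4.CoxT_B2
import Cfsg.Agent.Lib.Helper4.CoxT_G2
import Cfsg.Agent.Lib.Helper4.CoxT_F4
import Cfsg.Agent.Lib.Helper4.CoxT_D4r
import Cfsg.Agent.Lib.Helper4.CoxT_E6
import Cfsg.Agent.Lib.Helper4.CoxT_E7
import Cfsg.Agent.Lib.Helper4.CoxT_E8
import Cfsg.Prelude.Def_ChevStructure

/-! Orders of the exceptional Weyl groups from the verified certificates. -/

namespace Cfsg.Agent.Lib.Helper4.CoxT

theorem hMB2 : ∀ s t : Fin 2, CoxeterMatrix.B 2 s t = certB2.m s.1 t.1 := by
  intro s t; fin_cases s <;> fin_cases t <;> decide +kernel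

theorem hMG2 : ∀ s t : Fin 2, CoxeterMatrix.G₂ s t = certG2.m s.1 t.1 := by
  intro s t; fin_cases s <;> fin_cases t <;> decide +kernel

theorem hMF4 : ∀ s t : Fin 4, CoxeterMatrix.F₄ s t = certF4.m s.1 t.1 := by
  intro s t; fin_cases s <;> fin_cases t <;> decide +kernel

/-- `D₄` with the central node last. -/
def D4r : CoxeterMatrix (Fin 4) := Cfsg.Lie.coxeterD4.reindex (Equiv.swap 1 3)

theorem hMD4r : ∀ s t : Fin 4, D4r s t = certD4r.m s.1 t.1 := by
  intro s t; fin_cases s <;> fin_cases t <;> decide +kernel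

theorem hME6 : ∀ s t : Fin 6, CoxeterMatrix.E₆ s t = certE6.m s.1 t.1 := by
  intro s t; fin_cases s <;> fin_cases t <;> decide +kernel

theorem hME7 : ∀ s t : Fin 7, CoxeterMatrix.E₇ s t = certE7.m s.1 t.1 := by
  intro s t; fin_cases s <;> fin_cases t <;> decide +kernel

theorem hME8 : ∀ s t : Fin 8, CoxeterMatrix.E₈ s t = certE8.m s.1 t.1 := by
  intro s t; fin_cases s <;> fin_cases t <;> decide +kernel

theorem ordB2 : certB2.order = 8 := by decide +kernel
theorem ordG2 : certG2.order = 12 := by decide +kernel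
theorem ordF4 : certF4.order = 1152 := by decide +kernel
theorem ordD4r : certD4r.order = 192 := by decide +kernel
theorem ordE6 : certE6.order = 51840 := by decide +kernel
theorem ordE7 : certE7.order = 2903040 := by decide +kernel
theorem ordE8 : certE8.order = 696729600 := by decide +kernel

theorem card_B2 : Nat.card (CoxeterMatrix.B 2).Group = 8 := by
  rw [certB2.card_eq _ hMB2 certB2_check, ordB2]

theorem card_G2 : Nat.card (CoxeterMatrix.G₂).Group = 12 := by
  rw [certG2.card_eq _ hMG2 certG2_check, ordG2]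

theorem card_F4 : Nat.card (CoxeterMatrix.F₄).Group = 1152 := by
  rw [certF4.card_eq _ hMF4 certF4_check, ordF4]

theorem card_D4r : Nat.card D4r.Group = 192 := by
  rw [certD4r.card_eq _ hMD4r certD4r_check, ordD4r]

/-- the isomorphism between the relabelled and the original `D₄` -/
noncomputable def D4equiv : D4r.Group ≃* Cfsg.Lie.coxeterD4.Group :=
  CoxeterMatrix.reindexGroupEquiv Cfsg.Lie.coxeterD4 (Equiv.swap 1 3)

theorem card_D4 : Nat.card Cfsg.Lie.coxeterD4.Group = 192 := by
  rw [← Nat.card_congr D4equiv.toEquiv, card_D4r]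

theorem card_E6 : Nat.card (CoxeterMatrix.E₆).Group = 51840 := by
  rw [certE6.card_eq _ hME6 certE6_check, ordE6]

theorem card_E7 : Nat.card (CoxeterMatrix.E₇).Group = 2903040 := by
  rw [certE7.card_eq _ hME7 certE7_check, ordE7]

theorem card_E8 : Nat.card (CoxeterMatrix.E₈).Group = 696729600 := by
  rw [certE8.card_eq _ hME8 certE8_check, ordE8]

end Cfsg.Agent.Lib.Helper4.CoxT
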