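import Cfsg.Agent.Lib.Helper4.CoxT2

/-!
Words in the generators of a certified Coxeter group: equality of words is decided by
evaluating them on the base points of the certificate.
-/

namespace Cfsg.Agent.Lib.Helper4.CoxT

section Words

variable {n : ℕ} (M : CoxeterMatrix (Fin n))

/-- the group element of a word -/
noncomputable def wordW (l : List ℕ) : M.Group := (l.map (gen M)).prod

theorem wordW_nil : wordW M [] = 1 := rfl

theorem wordW_cons (s : ℕ) (l : List ℕ) : wordW M (s :: l) = gen M s * wordW M l := by
  simp [wordW]

theorem wordW_append (l l' : List ℕ) : wordW M (l ++ l') = wordW M l * wordW M l' := by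
  simp [wordW]

theorem wordW_singleton (s : ℕ) : wordW M [s] = gen M s := by simp [wordW]

theorem gen_inv (s : ℕ) : (gen M s)⁻¹ = gen M s := inv_eq_of_mul_eq_one_right (gen_mul_self M s)

theorem wordW_reverse (l : List ℕ) : wordW M l.reverse = (wordW M l)⁻¹ := by
  induction l with
  | nil => simp [wordW]
  | cons s l ih =>
    rw [List.reverse_cons, wordW_append, ih, wordW_cons, wordW_cons, wordW_nil, mul_one,
      mul_inv_rev, gen_inv]

theorem wordW_replicate (l : List ℕ) (k : ℕ) :
    wordW M (List.replicate k l).flatten = (wordW M l) ^ k := by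
  induction k with
  | zero => simp [wordW]
  | succ k ih =>
    rw [List.replicate_succ, List.flatten_cons, wordW_append, ih, pow_succ']

theorem coxElt_eq : ((List.finRange n).map M.simple).prod = wordW M (List.range n) := by
  rw [wordW, ← List.map_coe_finRange_eq_range, List.map_map]
  congr 1
  apply List.map_congr_left
  intro s _
  exact (gen_val M s).symm

/-- evaluation of a word on a point of the table -/
def applyW (top : ℕ → ℕ → ℕ) (l : List ℕ) (i : ℕ) : ℕ := l.foldr (fun s j => top j s) i

def validB (n : ℕ) (l : List ℕ) : Bool := l.all fun s => Nat.blt s n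

def wordEqB (top : ℕ → ℕ → ℕ) (pts : List ℕ) (l l' : List ℕ) : Bool :=
  pts.all fun i => Nat.beq (applyW top l i) (applyW top l' i)

theorem validB_apply {n : ℕ} {l : List ℕ} (h : validB n l = true) : ∀ s ∈ l, s < n := by
  intro s hs
  simp only [validB, List.all_eq_true] at h
  exact blt_true (h s hs)

variable (C : Cert) (hM : ∀ s t : Fin n, M s t = C.m s.1 t.1) (hC : C.check n = true)

theorem phi_wordW (l : List ℕ) (hl : ∀ s ∈ l, s < n) (i : Fin C.N) :
    ((C.phi M hM hC (wordW M l)) i).val = applyW C.top l i.val := by
  induction l with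
  | nil => simp [wordW, applyW]
  | cons s l ih =>
    rw [wordW_cons, map_mul, Equiv.Perm.mul_apply, C.phi_gen M hM hC s (hl s List.mem_cons_self),
      ih (fun t ht => hl t (List.mem_cons_of_mem _ ht))]
    rfl

/-- base points of the certificate -/
def Cert.base (C : Cert) : List ℕ := C.levels.map Level.c

include hM hC in
theorem word_eq_base (l l' : List ℕ) (hl : validB n l = true) (hl' : validB n l' = true)
    (h : wordEqB C.top C.base l l' = true) : wordW M l = wordW M l' := by
  have key := (C.chain M hM hC).2 ((wordW M l')⁻¹ * wordW M l) ?_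
  · exact (inv_mul_eq_one.1 key).symm
  · intro L hL i hi
    rw [map_mul, map_inv, Equiv.Perm.mul_apply, Equiv.Perm.inv_eq_iff_eq]
    apply Fin.ext
    rw [phi_wordW M C hM hC l (validB_apply hl), phi_wordW M C hM hC l' (validB_apply hl')]
    simp only [wordEqB, List.all_eq_true] at h
    have := h L.c (by rw [Cert.base]; exact List.mem_map_of_mem hL)
    rw [hi]
    exact beq_true this

include hM hC in
/-- a word moving a point is nontrivial -/
theorem word_ne_one (l : List ℕ) (hl : validB n l = true) (p : ℕ) (hp : p < C.N)
    (h : applyW C.top l p ≠ p) : wordW M l ≠ 1 := by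
  intro h1
  apply h
  have := phi_wordW M C hM hC l (validB_apply hl) ⟨p, hp⟩
  rw [h1, map_one] at this
  exact this.symm

/-- the check for the order of a word -/
def orderB (top : ℕ → ℕ → ℕ) (base : List ℕ) (n : ℕ) (l : List ℕ) (h p N : ℕ) : Bool :=
  validB n l && Nat.blt 0 h && Nat.blt p N && wordEqB top base (List.replicate h l).flatten [] &&
    (List.range h).all fun k => Nat.beq k 0 ||
      !(Nat.beq (applyW top (List.replicate k l).flatten p) p)

theorem validB_replicate {n : ℕ} {l : List ℕ} (h : validB n l = true) (k : ℕ) :
    validB n (List.replicate k l).flatten = true := by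
  simp only [validB, List.all_eq_true] at h ⊢
  intro s hs
  simp only [List.mem_flatten, List.mem_replicate] at hs
  obtain ⟨l', ⟨_, rfl⟩, hs⟩ := hs
  exact h s hs

include hM hC in
theorem orderOf_word (l : List ℕ) (h p : ℕ) (hchk : orderB C.top C.base n l h p C.N = true) :
    orderOf (wordW M l) = h := by
  simp only [orderB, Bool.and_eq_true] at hchk
  obtain ⟨⟨⟨⟨hv, hpos⟩, hp⟩, heq⟩, hne⟩ := hchk
  rw [orderOf_eq_iff (blt_true hpos)]
  constructor
  · rw [← wordW_replicate]
    exact word_eq_base M C hM hC _ [] (validB_replicate hv h) (by simp [validB]) heq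
  · intro k hk hk0
    rw [← wordW_replicate]
    apply word_ne_one M C hM hC _ (validB_replicate hv k) p (blt_true hp)
    simp only [List.all_eq_true, List.mem_range, Bool.or_eq_true] at hne
    rcases hne k hk with h0 | h1
    · have := beq_true h0; omega
    · intro heq'
      rw [heq', Nat.beq_refl] at h1
      exact Bool.noConfusion h1

end Words

end Cfsg.Agent.Lib.Helper4.CoxT
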