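import Cfsg.Agent.Lib.Helper4.CoxT3
import Cfsg.Agent.Lib.Helper4.CoxT4

/-! Orders of the Coxeter elements of the exceptional Weyl groups. -/

namespace Cfsg.Agent.Lib.Helper4.CoxT

theorem D4_simple (i : Fin 4) :
    D4equiv (D4r.simple i) = Cfsg.Lie.coxeterD4.simple ((Equiv.swap 1 3) i) := by
  have := CoxeterMatrix.reindexGroupEquiv_apply_simple Cfsg.Lie.coxeterD4 (Equiv.swap (1 : Fin 4) 3) i
  rw [Equiv.symm_swap] at this
  exact this

theorem swap13_0 : (Equiv.swap (1 : Fin 4) 3) 0 = 0 := by decide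
theorem swap13_1 : (Equiv.swap (1 : Fin 4) 3) 1 = 3 := by decide
theorem swap13_2 : (Equiv.swap (1 : Fin 4) 3) 2 = 2 := by decide
theorem swap13_3 : (Equiv.swap (1 : Fin 4) 3) 3 = 1 := by decide

theorem D4_gen0 : D4equiv (gen D4r 0) = Cfsg.Lie.coxeterD4.simple 0 := by
  rw [gen_of_lt D4r (by norm_num : 0 < 4)]
  exact (D4_simple 0).trans (by rw [swap13_0])

theorem D4_gen1 : D4equiv (gen D4r 1) = Cfsg.Lie.coxeterD4.simple 3 := by
  rw [gen_of_lt D4r (by norm_num : 1 < 4)]
  exact (D4_simple 1).trans (by rw [swap13_1])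

theorem D4_gen2 : D4equiv (gen D4r 2) = Cfsg.Lie.coxeterD4.simple 2 := by
  rw [gen_of_lt D4r (by norm_num : 2 < 4)]
  exact (D4_simple 2).trans (by rw [swap13_2])

theorem D4_gen3 : D4equiv (gen D4r 3) = Cfsg.Lie.coxeterD4.simple 1 := by
  rw [gen_of_lt D4r (by norm_num : 3 < 4)]
  exact (D4_simple 3).trans (by rw [swap13_3])

theorem D4_cox : ((List.finRange 4).map Cfsg.Lie.coxeterD4.simple).prod =
    D4equiv (wordW D4r [0,3,2,1]) := by
  simp only [wordW, List.map_cons, List.map_nil, List.prod_cons, List.prod_nil, mul_one, map_mul,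
    D4_gen0, D4_gen1, D4_gen2, D4_gen3]
  rfl

theorem order_cox_B2 : orderOf ((List.finRange 2).map (CoxeterMatrix.B 2).simple).prod = 4 := by
  rw [coxElt_eq]
  exact orderOf_word _ certB2 hMB2 certB2_check (List.range 2) 4 0 (by decide +kernel)

theorem order_cox_G2 : orderOf ((List.finRange 2).map CoxeterMatrix.G₂.simple).prod = 6 := by
  rw [coxElt_eq]
  exact orderOf_word _ certG2 hMG2 certG2_check (List.range 2) 6 0 (by decide +kernel)

theorem order_cox_D4 : orderOf ((List.finRange 4).map Cfsg.Lie.coxeterD4.simple).prod = 6 := by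
  rw [D4_cox, MulEquiv.orderOf_eq]
  exact orderOf_word _ certD4r hMD4r certD4r_check [0,3,2,1] 6 0 (by decide +kernel)

theorem order_cox_F4 : orderOf ((List.finRange 4).map CoxeterMatrix.F₄.simple).prod = 12 := by
  rw [coxElt_eq]
  exact orderOf_word _ certF4 hMF4 certF4_check (List.range 4) 12 0 (by decide +kernel)

theorem order_cox_E6 : orderOf ((List.finRange 6).map CoxeterMatrix.E₆.simple).prod = 12 := by
  rw [coxElt_eq]
  exact orderOf_word _ certE6 hME6 certE6_check (List.range 6) 12 0 (by decide +kernel)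

theorem order_cox_E7 : orderOf ((List.finRange 7).map CoxeterMatrix.E₇.simple).prod = 18 := by
  rw [coxElt_eq]
  exact orderOf_word _ certE7 hME7 certE7_check (List.range 7) 18 0 (by decide +kernel)

theorem order_cox_E8 : orderOf ((List.finRange 8).map CoxeterMatrix.E₈.simple).prod = 30 := by
  rw [coxElt_eq]
  exact orderOf_word _ certE8 hME8 certE8_check (List.range 8) 30 0 (by decide +kernel)

end Cfsg.Agent.Lib.Helper4.CoxT
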