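import Cfsg.Agent.Lib.Helper4.CoxT4

/-!
Centre and generation statements for certified Coxeter groups.
-/

namespace Cfsg.Agent.Lib.Helper4.CoxT

section Gen

variable {n : ℕ} (M : CoxeterMatrix (Fin n))

/-- expand a word in letters (indices into `ws`) to a word in the generators -/
def expandW (ws : List (List ℕ)) (L : List ℕ) : List ℕ := L.flatMap (fun a => ws.getD a [])

theorem wordW_expand_mem (K : Subgroup M.Group) (ws : List (List ℕ))
    (hws : ∀ w ∈ ws, wordW M w ∈ K) (L : List ℕ) : wordW M (expandW ws L) ∈ K := by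
  induction L with
  | nil => simp [expandW, wordW]
  | cons a L ih =>
    have : expandW ws (a :: L) = ws.getD a [] ++ expandW ws L := by simp [expandW]
    rw [this, wordW_append]
    refine mul_mem ?_ ih
    by_cases ha : a < ws.length
    · rw [List.getD_eq_getElem _ _ ha]
      exact hws _ (List.getElem_mem ha)
    · rw [List.getD_eq_default _ _ (by omega)]
      simp [wordW]

theorem validB_expand {n : ℕ} (ws : List (List ℕ)) (hws : ws.all (validB n) = true) (L : List ℕ) :
    validB n (expandW ws L) = true := by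
  simp only [validB, List.all_eq_true] at hws ⊢
  intro s hs
  simp only [expandW, List.mem_flatMap] at hs
  obtain ⟨a, _, hs⟩ := hs
  by_cases ha : a < ws.length
  · rw [List.getD_eq_getElem _ _ ha] at hs
    exact hws _ (List.getElem_mem ha) s hs
  · rw [List.getD_eq_default _ _ (by omega)] at hs
    simp at hs

def genB (top : ℕ → ℕ → ℕ) (base : List ℕ) (n : ℕ) (ws : List (List ℕ)) (Ls : List (List ℕ)) :
    Bool :=
  ws.all (validB n) && (List.range n).all fun s =>
    wordEqB top base [s] (expandW ws (Ls.getD s []))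

variable (C : Cert) (hM : ∀ s t : Fin n, M s t = C.m s.1 t.1) (hC : C.check n = true)

include hM hC in
theorem eq_top_of_genB (ws Ls : List (List ℕ)) (h : genB C.top C.base n ws Ls = true)
    (K : Subgroup M.Group) (hK : ∀ w ∈ ws, wordW M w ∈ K) : K = ⊤ := by
  simp only [genB, Bool.and_eq_true] at h
  obtain ⟨hv, hw⟩ := h
  rw [eq_top_iff, ← Hc_gen_top M, Hc, Subgroup.closure_le]
  rintro _ ⟨s, hs, rfl⟩
  have hs : s < n := hs
  simp only [List.all_eq_true, List.mem_range] at hw
  have h1 := word_eq_base M C hM hC [s] (expandW ws (Ls.getD s []))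
    (by simp [validB, Nat.blt, hs]) (validB_expand ws hv _) (hw s hs)
  rw [wordW_singleton] at h1
  rw [h1]
  exact wordW_expand_mem M K ws hK _

include hM hC in
theorem word_ne (l l' : List ℕ) (hl : validB n l = true) (hl' : validB n l' = true) (p : ℕ)
    (hp : p < C.N) (h : applyW C.top l p ≠ applyW C.top l' p) : wordW M l ≠ wordW M l' := by
  intro h1
  apply h
  have e1 := phi_wordW M C hM hC l (validB_apply hl) ⟨p, hp⟩
  have e2 := phi_wordW M C hM hC l' (validB_apply hl') ⟨p, hp⟩
  rw [h1] at e1
  exact e1.symm.trans e2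

end Gen

section Center

variable {n : ℕ} (M : CoxeterMatrix (Fin n))
variable (C : Cert) (hM : ∀ s t : Fin n, M s t = C.m s.1 t.1) (hC : C.check n = true)

def transB (n N : ℕ) (top : ℕ → ℕ → ℕ) (tpar tlab : ℕ → ℕ) : Bool :=
  Nat.blt 0 N && (List.range N).all fun j => Nat.beq j 0 ||
    (Nat.blt (tpar j) j && Nat.blt (tlab j) n && Nat.beq (top (tpar j) (tlab j)) j)

def fixB (n N : ℕ) (top : ℕ → ℕ → ℕ) (c1 : ℕ) : Bool :=
  (List.range N).all fun i =>
    !((List.range n).all fun s => !(Nat.beq (top 0 s) 0) || Nat.beq (top i s) i) ||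
      (Nat.beq i 0 || Nat.beq i c1)

theorem transB_pos {N : ℕ} {top : ℕ → ℕ → ℕ} {tpar tlab : ℕ → ℕ}
    (h : transB n N top tpar tlab = true) : 0 < N := by
  simp only [transB, Bool.and_eq_true] at h
  exact blt_true h.1

theorem trans_of (tpar tlab : ℕ → ℕ) (h : transB n C.N C.top tpar tlab = true) :
    ∀ j, j < C.N → ∃ w : M.Group, ((C.phi M hM hC w) ⟨0, transB_pos h⟩).val = j := by
  intro j
  induction j using Nat.strong_induction_on with
  | _ j ih =>
    intro hj
    rcases Nat.eq_zero_or_pos j with rfl | hpos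
    · exact ⟨1, by simp⟩
    · have h' := h
      simp only [transB, Bool.and_eq_true, List.all_eq_true, List.mem_range, Bool.or_eq_true] at h'
      rcases h'.2 j hj with h0 | h1
      · have := beq_true h0; omega
      · obtain ⟨⟨h2, h3⟩, h4⟩ := h1
        have hp := blt_true h2
        obtain ⟨w, hw⟩ := ih (tpar j) hp (by omega)
        refine ⟨gen M (tlab j) * w, ?_⟩
        rw [map_mul, Equiv.Perm.mul_apply, C.phi_gen M hM hC _ (blt_true h3), hw]
        exact beq_true h4

theorem center_point (tpar tlab : ℕ → ℕ) (htr : transB n C.N C.top tpar tlab = true) (c1 : ℕ)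
    (hfix : fixB n C.N C.top c1 = true) (z : M.Group) (hz : z ∈ Subgroup.center M.Group) :
    ((C.phi M hM hC z) ⟨0, transB_pos htr⟩).val = 0 ∨
      ((C.phi M hM hC z) ⟨0, transB_pos htr⟩).val = c1 := by
  set i := (C.phi M hM hC z) ⟨0, transB_pos htr⟩ with hi
  simp only [fixB, List.all_eq_true, List.mem_range, Bool.or_eq_true, Bool.not_eq_true'] at hfix
  rcases hfix i.val i.2 with h0 | h1
  · exfalso
    rw [← Bool.not_eq_true] at h0
    apply h0
    rw [List.all_eq_true]
    intro s hs
    rw [List.mem_range] at hs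
    rw [Bool.or_eq_true]
    by_cases h0s : C.top 0 s = 0
    · right
      have e1 : (C.phi M hM hC (gen M s)) ⟨0, transB_pos htr⟩ = ⟨0, transB_pos htr⟩ := by
        apply Fin.ext
        rw [C.phi_gen M hM hC s hs]
        exact h0s
      have e2 : (C.phi M hM hC (gen M s)) i = i := by
        rw [hi, ← Equiv.Perm.mul_apply, ← map_mul, (Subgroup.mem_center_iff.1 hz (gen M s)),
          map_mul, Equiv.Perm.mul_apply, e1]
      have e3 := C.phi_gen M hM hC s hs i
      rw [e2] at e3
      rw [← e3, Nat.beq_refl]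
    · left
      have : Nat.beq (C.top 0 s) 0 = false := by
        rw [← Bool.not_eq_true]
        intro hb
        exact h0s (beq_true hb)
      rw [this]
      rfl
  · rcases h1 with h1 | h1
    · left; exact beq_true h1
    · right; exact beq_true h1

theorem center_inj (tpar tlab : ℕ → ℕ) (htr : transB n C.N C.top tpar tlab = true)
    (z z' : M.Group) (hz : z ∈ Subgroup.center M.Group) (hz' : z' ∈ Subgroup.center M.Group)
    (h : (C.phi M hM hC z) ⟨0, transB_pos htr⟩ = (C.phi M hM hC z') ⟨0, transB_pos htr⟩) :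
    z = z' := by
  apply C.phi_injective M hM hC
  ext j
  obtain ⟨w, hw⟩ := trans_of M C hM hC tpar tlab htr j.val j.2
  have hj : j = (C.phi M hM hC w) ⟨0, transB_pos htr⟩ := Fin.ext hw.symm
  rw [hj, ← Equiv.Perm.mul_apply, ← Equiv.Perm.mul_apply, ← map_mul, ← map_mul,
    ← (Subgroup.mem_center_iff.1 hz w), ← (Subgroup.mem_center_iff.1 hz' w), map_mul, map_mul,
    Equiv.Perm.mul_apply, Equiv.Perm.mul_apply, h]

/-- check for a central word -/
def centB (top : ℕ → ℕ → ℕ) (base : List ℕ) (n : ℕ) (zw : List ℕ) (c1 : ℕ) : Bool :=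
  validB n zw && Nat.beq (applyW top zw 0) c1 && !(Nat.beq c1 0) &&
    (List.range n).all fun s => wordEqB top base (s :: zw) (zw ++ [s])

include hM hC in
theorem central_of_centB (zw : List ℕ) (c1 : ℕ) (h : centB C.top C.base n zw c1 = true) :
    wordW M zw ∈ Subgroup.center M.Group := by
  simp only [centB, Bool.and_eq_true, List.all_eq_true, List.mem_range] at h
  obtain ⟨⟨⟨hv, _⟩, _⟩, hcomm⟩ := h
  have : Subgroup.centralizer {wordW M zw} = ⊤ := by
    rw [eq_top_iff, ← Hc_gen_top M, Hc, Subgroup.closure_le]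
    rintro _ ⟨s, hs, rfl⟩
    have hs : s < n := hs
    have hsv : validB n [s] = true := by simp [validB, Nat.blt, hs]
    have h1 := word_eq_base M C hM hC (s :: zw) (zw ++ [s])
      (by simp only [validB, List.all_cons, Bool.and_eq_true] at hsv hv ⊢; exact ⟨hsv.1, hv⟩)
      (by simp only [validB, List.all_append, Bool.and_eq_true] at hsv hv ⊢; exact ⟨hv, hsv⟩)
      (hcomm s hs)
    rw [wordW_cons, wordW_append, wordW_singleton] at h1
    rw [SetLike.mem_coe, Subgroup.mem_centralizer_iff]
    intro y hy
    rw [Set.mem_singleton_iff] at hy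
    rw [hy]
    exact h1.symm
  rw [Subgroup.mem_center_iff]
  intro y
  have hy : y ∈ Subgroup.centralizer {wordW M zw} := by rw [this]; exact Subgroup.mem_top y
  exact (Subgroup.mem_centralizer_iff.1 hy _ rfl).symm

include hM hC in
theorem center_two (tpar tlab : ℕ → ℕ) (htr : transB n C.N C.top tpar tlab = true) (c1 : ℕ)
    (hfix : fixB n C.N C.top c1 = true) (cw : List ℕ) (k : ℕ)
    (hcent : centB C.top C.base n (List.replicate k cw).flatten c1 = true) :
    Nat.card (Subgroup.center M.Group) = 2 ∧
      Subgroup.center M.Group ≤ Subgroup.zpowers (wordW M cw) := by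
  set zw := (List.replicate k cw).flatten with hzw
  have hz0 := central_of_centB M C hM hC zw c1 hcent
  simp only [centB, Bool.and_eq_true] at hcent
  obtain ⟨⟨⟨hv, hc1⟩, hne⟩, _⟩ := hcent
  have hpt : ((C.phi M hM hC (wordW M zw)) ⟨0, transB_pos htr⟩).val = c1 := by
    rw [phi_wordW M C hM hC zw (validB_apply hv)]
    exact beq_true hc1
  have hc10 : c1 ≠ 0 := by
    intro h0
    rw [h0, Nat.beq_refl] at hne
    exact Bool.noConfusion hne
  have hcases : ∀ z ∈ Subgroup.center M.Group, z = 1 ∨ z = wordW M zw := by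
    intro z hz
    rcases center_point M C hM hC tpar tlab htr c1 hfix z hz with h0 | h1
    · left
      apply center_inj M C hM hC tpar tlab htr z 1 hz (one_mem _)
      apply Fin.ext
      rw [h0]; simp
    · right
      apply center_inj M C hM hC tpar tlab htr z _ hz hz0
      apply Fin.ext
      rw [h1, hpt]
  have hz1 : wordW M zw ≠ 1 := by
    intro h1
    rw [h1] at hpt
    apply hc10
    rw [← hpt]; simp
  constructor
  · rw [Nat.card_eq_two_iff]
    refine ⟨⟨1, one_mem _⟩, ⟨wordW M zw, hz0⟩, ?_, ?_⟩
    · intro h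
      exact hz1 (congrArg Subtype.val h).symm
    · ext ⟨z, hz⟩
      simp only [Set.mem_insert_iff, Set.mem_singleton_iff, Set.mem_univ, iff_true]
      rcases hcases z hz with h | h
      · left; exact Subtype.ext h
      · right; exact Subtype.ext h
  · intro z hz
    rcases hcases z hz with h | h
    · rw [h]; exact one_mem _
    · rw [h, hzw, wordW_replicate]
      exact Subgroup.pow_mem _ (Subgroup.mem_zpowers _) _

include hM hC in
theorem center_one (tpar tlab : ℕ → ℕ) (htr : transB n C.N C.top tpar tlab = true)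
    (hfix : fixB n C.N C.top 0 = true) :
    Nat.card (Subgroup.center M.Group) = 1 ∧ ∀ K : Subgroup M.Group, Subgroup.center M.Group ≤ K := by
  have hcases : ∀ z ∈ Subgroup.center M.Group, z = 1 := by
    intro z hz
    have h0 : ((C.phi M hM hC z) ⟨0, transB_pos htr⟩).val = 0 := by
      rcases center_point M C hM hC tpar tlab htr 0 hfix z hz with h0 | h0 <;> exact h0
    apply center_inj M C hM hC tpar tlab htr z 1 hz (one_mem _)
    apply Fin.ext
    rw [h0]; simp
  have hbot : Subgroup.center M.Group = ⊥ := by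
    rw [eq_bot_iff]
    intro z hz
    exact Subgroup.mem_bot.2 (hcases z hz)
  constructor
  · rw [hbot]; simp
  · intro K
    rw [hbot]; exact bot_le

end Center

/-- transfer of the centre statement along an isomorphism -/
theorem center_transfer {G G' : Type*} [Group G] [Group G'] (e : G ≃* G') (x : G) (k : ℕ)
    (h : Nat.card (Subgroup.center G) = k ∧ Subgroup.center G ≤ Subgroup.zpowers x) :
    Nat.card (Subgroup.center G') = k ∧ Subgroup.center G' ≤ Subgroup.zpowers (e x) := by
  constructor
  · rw [← h.1]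
    exact Nat.card_congr (Subgroup.centerCongr e).toEquiv.symm
  · intro z hz
    have hz' : e.symm z ∈ Subgroup.center G := by
      rw [Subgroup.mem_center_iff] at hz ⊢
      intro y
      apply e.injective
      rw [map_mul, map_mul, e.apply_symm_apply]
      exact hz (e y)
    obtain ⟨j, hj⟩ := Subgroup.mem_zpowers_iff.1 (h.2 hz')
    rw [Subgroup.mem_zpowers_iff]
    refine ⟨j, ?_⟩
    rw [← map_zpow, hj, e.apply_symm_apply]

end Cfsg.Agent.Lib.Helper4.CoxT
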