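import Cfsg.Agent.Lib.Helper4.CoxT5
import Cfsg.Agent.Lib.Helper4.CoxT6

/-! Generated: centre and generation data for the exceptional Weyl groups. -/

namespace Cfsg.Agent.Lib.Helper4.CoxT

def tparB2 : ℕ → ℕ := fun j => dig 8 0x2010000 j
def tlabB2 : ℕ → ℕ := fun j => dig 8 0x1000100 j
theorem transB2 : transB 2 certB2.N certB2.top tparB2 tlabB2 = true := by decide +kernel
theorem fixB2 : fixB 2 certB2.N certB2.top 3 = true := by decide +kernel
theorem centB2 : centB certB2.top certB2.base 2 (List.replicate 2 (List.range 2)).flatten 3 = true := by decide +kernel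
theorem center_B2 : Nat.card (Subgroup.center (CoxeterMatrix.B 2).Group) = 2 ∧
    Subgroup.center (CoxeterMatrix.B 2).Group ≤ Subgroup.zpowers (wordW (CoxeterMatrix.B 2) (List.range 2)) :=
  center_two (CoxeterMatrix.B 2) certB2 hMB2 certB2_check tparB2 tlabB2 transB2 3 fixB2 (List.range 2) 2 centB2
theorem genB2 : genB certB2.top certB2.base 2 [(List.range 2), (List.range 2).reverse, [0]]
    [[2], [1,2]] = true := by decide +kernel

def tparG2 : ℕ → ℕ := fun j => dig 8 0x40302010000 j
def tlabG2 : ℕ → ℕ := fun j => dig 8 0x10001000100 j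
theorem transG2 : transB 2 certG2.N certG2.top tparG2 tlabG2 = true := by decide +kernel
theorem fixG2 : fixB 2 certG2.N certG2.top 5 = true := by decide +kernel
theorem centG2 : centB certG2.top certG2.base 2 (List.replicate 3 (List.range 2)).flatten 5 = true := by decide +kernel
theorem center_G2 : Nat.card (Subgroup.center CoxeterMatrix.G₂.Group) = 2 ∧
    Subgroup.center CoxeterMatrix.G₂.Group ≤ Subgroup.zpowers (wordW CoxeterMatrix.G₂ (List.range 2)) :=
  center_two CoxeterMatrix.G₂ certG2 hMG2 certG2_check tparG2 tlabG2 transG2 5 fixG2 (List.range 2) 3 centG2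
theorem genG2 : genB certG2.top certG2.base 2 [(List.range 2), (List.range 2).reverse, [0]]
    [[2], [1,2]] = true := by decide +kernel

def tparD4r : ℕ → ℕ := fun j => dig 8 0x16131110100c0c0c0b0a0908070605050302020101010000 j
def tlabD4r : ℕ → ℕ := fun j => dig 8 0x30202020102010000010203030303020202010201000300 j
theorem transD4r : transB 4 certD4r.N certD4r.top tparD4r tlabD4r = true := by decide +kernel
theorem fixD4r : fixB 4 certD4r.N certD4r.top 23 = true := by decide +kernel
theorem centD4r : centB certD4r.top certD4r.base 4 (List.replicate 3 [0,3,2,1]).flatten 23 = true := by decide +kernel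
theorem center_D4r : Nat.card (Subgroup.center D4r.Group) = 2 ∧
    Subgroup.center D4r.Group ≤ Subgroup.zpowers (wordW D4r [0,3,2,1]) :=
  center_two D4r certD4r hMD4r certD4r_check tparD4r tlabD4r transD4r 23 fixD4r [0,3,2,1] 3 centD4r
theorem genD4r : genB certD4r.top certD4r.base 4 [[0,3,2,1], [0,3,2,1].reverse, [1], [3]]
    [[1,3,0], [2], [0,2,3,2,1], [3]] = true := by decide +kernel

def tparF4 : ℕ → ℕ := fun j => dig 8 0x1615141210100f0e0d0c0b0a080806060504030302010000 j
def tlabF4 : ℕ → ℕ := fun j => dig 8 0x30201020200000101020203030203010302020001020300 j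
theorem transF4 : transB 4 certF4.N certF4.top tparF4 tlabF4 = true := by decide +kernel
theorem fixF4 : fixB 4 certF4.N certF4.top 23 = true := by decide +kernel
theorem centF4 : centB certF4.top certF4.base 4 (List.replicate 6 (List.range 4)).flatten 23 = true := by decide +kernel
theorem center_F4 : Nat.card (Subgroup.center CoxeterMatrix.F₄.Group) = 2 ∧
    Subgroup.center CoxeterMatrix.F₄.Group ≤ Subgroup.zpowers (wordW CoxeterMatrix.F₄ (List.range 4)) :=
  center_two CoxeterMatrix.F₄ certF4 hMF4 certF4_check tparF4 tlabF4 transF4 23 fixF4 (List.range 4) 6 centF4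
theorem genF4 : genB certF4.top certF4.base 4 [(List.range 4), (List.range 4).reverse, [0], [2]]
    [[2], [0,2,1], [3], [0,3,1]] = true := by decide +kernel

def tparE6 : ℕ → ℕ := fun j => dig 8 0x19181715141311110f0f0d0c0b0a0a090806060504030302010000 j
def tlabE6 : ℕ → ℕ := fun j => dig 8 0x203040405050105030504050402040303000002020103040500 j
theorem transE6 : transB 6 certE6.N certE6.top tparE6 tlabE6 = true := by decide +kernel
theorem fixE6 : fixB 6 certE6.N certE6.top 0 = true := by decide +kernel
theorem center_E6 : Nat.card (Subgroup.center CoxeterMatrix.E₆.Group) = 1 ∧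
    ∀ K : Subgroup CoxeterMatrix.E₆.Group, Subgroup.center CoxeterMatrix.E₆.Group ≤ K :=
  center_one CoxeterMatrix.E₆ certE6 hME6 certE6_check tparE6 tlabE6 transE6 fixE6
theorem genE6 : genB certE6.top certE6.base 6 [(List.range 6), (List.range 6).reverse, [3]]
    [[1,1,1,1,1,2,0,0,0,0,0], [2,1,1,1,2,0,0,0,2], [1,1,1,1,2,0,0,0,0], [2], [0,2,1], [0,0,2,1,1]] = true := by decide +kernel

def tparE7 : ℕ → ℕ := fun j => dig 8 0x36353433312f2f2e2d2c2b2928272625232222201f1f1e1c1c1a19191717161413131110100f0e0d0c0b0b0a090707060504040302010000 j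
def tlabE7 : ℕ → ℕ := fun j => dig 8 0x605040302020101030304040504050605060005060205060306060406040506050106050306050405040204030300000202010304050600 j
theorem transE7 : transB 7 certE7.N certE7.top tparE7 tlabE7 = true := by decide +kernel
theorem fixE7 : fixB 7 certE7.N certE7.top 55 = true := by decide +kernel
theorem centE7 : centB certE7.top certE7.base 7 (List.replicate 9 (List.range 7)).flatten 55 = true := by decide +kernel
theorem center_E7 : Nat.card (Subgroup.center CoxeterMatrix.E₇.Group) = 2 ∧
    Subgroup.center CoxeterMatrix.E₇.Group ≤ Subgroup.zpowers (wordW CoxeterMatrix.E₇ (List.range 7)) :=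
  center_two CoxeterMatrix.E₇ certE7 hME7 certE7_check tparE7 tlabE7 transE7 55 fixE7 (List.range 7) 9 centE7
theorem genE7 : genB certE7.top certE7.base 7 [(List.range 7), (List.range 7).reverse, [3]]
    [[1,2,0,0,0,0,0,2,1,1,1,1,1,2,0], [2,0,2,1,1,1,1,2,0,0,0,0,2,1,2], [2,1,1,1,1,2,0,0,0,0,2], [2], [0,2,1], [0,0,2,1,1], [0,0,0,2,1,1,1]] = true := by decide +kernel

def tparE8 : ℕ → ℕ := fun j => dig 8 0xeeedecebeae8e6e6e5e4e3e2e0dfdedddcd9d8d8d7d5d4d4d3d2d0d0cfcdcccccac8c8c7c6c5c3c2c2bfbfbdbcbcbbb9b9b8b7b6b5b3b2b1b0b0aeadacacabaaa7a7a6a5a3a3a2a1a09e9e9d9c9a989897969595929291908f8f8e8c8b8a89898887858483838281807d7c7c7b7a797877767574737271706f6e6d6c6b6a696968666564636262605f5e5d5c5b5b5a5957565554545251504f4e4d4d4b4a4947464646454342424140403e3d3c3c3a3a3837353534343230302f2f2e2d2b2a2a2929272525242422222120201e1d1c1c1a1919181615141413121111100f0e0d0c0c0b0a080807060505040302010000 j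
def tlabE8 : ℕ → ℕ := fun j => dig 8 0x70605040302020101030304040504050605060000050602020506030306060404060405040506050105010605030105030605040305040504020405040204030402040303000204030300000203030000020201030000020201030000020201030400020201030405000201030405060001020304050607020303040506070603040405060705040405050607040405050606070305060506070702050607060702010506070106070306060703070406070704070506070407050606070705060007070506020705070603070606040706040507060501070605030605040504020403030000020201030405060700 j
theorem transE8 : transB 8 certE8.N certE8.top tparE8 tlabE8 = true := by decide +kernel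
theorem fixE8 : fixB 8 certE8.N certE8.top 239 = true := by decide +kernel
theorem centE8 : centB certE8.top certE8.base 8 (List.replicate 15 (List.range 8)).flatten 239 = true := by decide +kernel
theorem center_E8 : Nat.card (Subgroup.center CoxeterMatrix.E₈.Group) = 2 ∧
    Subgroup.center CoxeterMatrix.E₈.Group ≤ Subgroup.zpowers (wordW CoxeterMatrix.E₈ (List.range 8)) :=
  center_two CoxeterMatrix.E₈ certE8 hME8 certE8_check tparE8 tlabE8 transE8 239 fixE8 (List.range 8) 15 centE8
theorem genE8 : genB certE8.top certE8.base 8 [(List.range 8), (List.range 8).reverse, [4]]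
    [[1,1,2,0,0,0,0,0,0,2,1,1,1,1,1,1,2,0,0], [1,2,0,2,0,0,0,0,0,0,2,1,1,1,1,1,1,2,1,2,0], [1,2,0,0,0,0,0,0,2,1,1,1,1,1,1,2,0], [1,2,0], [2], [0,2,1], [0,0,2,1,1], [0,0,0,2,1,1,1]] = true := by decide +kernel

end Cfsg.Agent.Lib.Helper4.CoxT
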