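import Cfsg.Agent.Lib.Helper4.CoxT7

/-! Generation of the exceptional Weyl groups by the Coxeter element and one or two reflections. -/

namespace Cfsg.Agent.Lib.Helper4.CoxT

section GenThm

variable {n : ℕ} (M : CoxeterMatrix (Fin n))
variable (C : Cert) (hM : ∀ s t : Fin n, M s t = C.m s.1 t.1) (hC : C.check n = true)

include hM hC in
theorem gen_one (i : Fin n) (Ls : List (List ℕ))
    (h : genB C.top C.base n [List.range n, (List.range n).reverse, [i.1]] Ls = true) :
    ∃ T : Finset M.Group, T.card = 1 ∧
      (∀ t ∈ T, ∃ (g : M.Group) (j : Fin n), t = g * M.simple j * g⁻¹) ∧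
      Subgroup.closure (({((List.finRange n).map M.simple).prod} : Set M.Group) ∪ ↑T) = ⊤ := by
  classical
  refine ⟨{M.simple i}, Finset.card_singleton _, ?_, ?_⟩
  · intro t ht
    rw [Finset.mem_singleton] at ht
    exact ⟨1, i, by rw [ht]; simp⟩
  · apply eq_top_of_genB M C hM hC _ Ls h
    intro w hw
    simp only [List.mem_cons, List.mem_nil_iff, or_false] at hw
    have hc : wordW M (List.range n) ∈ Subgroup.closure
        (({((List.finRange n).map M.simple).prod} : Set M.Group) ∪ ↑({M.simple i} : Finset M.Group)) := by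
      rw [← coxElt_eq]
      exact Subgroup.subset_closure (Or.inl rfl)
    rcases hw with rfl | rfl | rfl
    · exact hc
    · rw [wordW_reverse]
      exact inv_mem hc
    · rw [wordW_singleton, gen_val]
      exact Subgroup.subset_closure (Or.inr (by simp))

include hM hC in
theorem gen_two (i j : Fin n) (Ls : List (List ℕ)) (p : ℕ) (hp : p < C.N)
    (hne : C.top p i.1 ≠ C.top p j.1)
    (h : genB C.top C.base n [List.range n, (List.range n).reverse, [i.1], [j.1]] Ls = true) :
    ∃ T : Finset M.Group, T.card = 2 ∧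
      (∀ t ∈ T, ∃ (g : M.Group) (j : Fin n), t = g * M.simple j * g⁻¹) ∧
      Subgroup.closure (({((List.finRange n).map M.simple).prod} : Set M.Group) ∪ ↑T) = ⊤ := by
  classical
  have hij : M.simple i ≠ M.simple j := by
    have := word_ne M C hM hC [i.1] [j.1] (by simp [validB, Nat.blt, i.2])
      (by simp [validB, Nat.blt, j.2]) p hp (by simpa [applyW] using hne)
    rwa [wordW_singleton, wordW_singleton, gen_val, gen_val] at this
  refine ⟨{M.simple i, M.simple j}, Finset.card_pair hij, ?_, ?_⟩
  · intro t ht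
    rw [Finset.mem_insert, Finset.mem_singleton] at ht
    rcases ht with rfl | rfl
    · exact ⟨1, i, by simp⟩
    · exact ⟨1, j, by simp⟩
  · apply eq_top_of_genB M C hM hC _ Ls h
    intro w hw
    simp only [List.mem_cons, List.mem_nil_iff, or_false] at hw
    have hc : wordW M (List.range n) ∈ Subgroup.closure
        (({((List.finRange n).map M.simple).prod} : Set M.Group) ∪
          ↑({M.simple i, M.simple j} : Finset M.Group)) := by
      rw [← coxElt_eq]
      exact Subgroup.subset_closure (Or.inl rfl)
    rcases hw with rfl | rfl | rfl | rfl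
    · exact hc
    · rw [wordW_reverse]
      exact inv_mem hc
    · rw [wordW_singleton, gen_val]
      exact Subgroup.subset_closure (Or.inr (by simp))
    · rw [wordW_singleton, gen_val]
      exact Subgroup.subset_closure (Or.inr (by simp))

end GenThm

/-! ### The seven groups -/

abbrev GenStmt {n : ℕ} (M : CoxeterMatrix (Fin n)) (k : ℕ) : Prop :=
  ∃ T : Finset M.Group, T.card = k ∧
    (∀ t ∈ T, ∃ (g : M.Group) (j : Fin n), t = g * M.simple j * g⁻¹) ∧
    Subgroup.closure (({((List.finRange n).map M.simple).prod} : Set M.Group) ∪ ↑T) = ⊤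

theorem gens_B2 : GenStmt (CoxeterMatrix.B 2) 1 :=
  gen_one _ certB2 hMB2 certB2_check 0 _ genB2

theorem gens_G2 : GenStmt CoxeterMatrix.G₂ 1 :=
  gen_one _ certG2 hMG2 certG2_check 0 _ genG2

theorem gens_F4 : GenStmt CoxeterMatrix.F₄ 2 :=
  gen_two _ certF4 hMF4 certF4_check 0 2 _ 1 (by decide +kernel) (by decide +kernel) genF4

theorem gens_E6 : GenStmt CoxeterMatrix.E₆ 1 :=
  gen_one _ certE6 hME6 certE6_check 3 _ genE6

theorem gens_E7 : GenStmt CoxeterMatrix.E₇ 1 :=
  gen_one _ certE7 hME7 certE7_check 3 _ genE7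

theorem gens_E8 : GenStmt CoxeterMatrix.E₈ 1 :=
  gen_one _ certE8 hME8 certE8_check 4 _ genE8

theorem gens_D4 : GenStmt Cfsg.Lie.coxeterD4 2 := by
  classical
  have hij : Cfsg.Lie.coxeterD4.simple 3 ≠ Cfsg.Lie.coxeterD4.simple 1 := by
    have := word_ne D4r certD4r hMD4r certD4r_check [1] [3] (by decide) (by decide) 0
      (by decide +kernel) (by decide +kernel)
    rw [wordW_singleton, wordW_singleton] at this
    intro h
    apply this
    apply D4equiv.injective
    rw [D4_gen1, D4_gen3, h]
  refine ⟨{Cfsg.Lie.coxeterD4.simple 3, Cfsg.Lie.coxeterD4.simple 1}, Finset.card_pair hij, ?_, ?_⟩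
  · intro t ht
    rw [Finset.mem_insert, Finset.mem_singleton] at ht
    rcases ht with rfl | rfl
    · exact ⟨1, 3, by simp⟩
    · exact ⟨1, 1, by simp⟩
  · set K' := Subgroup.closure (({((List.finRange 4).map Cfsg.Lie.coxeterD4.simple).prod} :
      Set Cfsg.Lie.coxeterD4.Group) ∪
        ↑({Cfsg.Lie.coxeterD4.simple 3, Cfsg.Lie.coxeterD4.simple 1} :
          Finset Cfsg.Lie.coxeterD4.Group)) with hK'
    have hc : D4equiv (wordW D4r [0,3,2,1]) ∈ K' := by
      rw [← D4_cox]
      exact Subgroup.subset_closure (Or.inl rfl)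
    have hK : K'.comap D4equiv.toMonoidHom = ⊤ := by
      apply eq_top_of_genB D4r certD4r hMD4r certD4r_check _ _ genD4r
      intro w hw
      simp only [List.mem_cons, List.mem_nil_iff, or_false] at hw
      rw [Subgroup.mem_comap]
      rcases hw with rfl | rfl | rfl | rfl
      · exact hc
      · rw [wordW_reverse, map_inv]
        exact inv_mem hc
      · rw [wordW_singleton]
        show D4equiv (gen D4r 1) ∈ K'
        rw [D4_gen1]
        exact Subgroup.subset_closure (Or.inr (by simp))
      · rw [wordW_singleton]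
        show D4equiv (gen D4r 3) ∈ K'
        rw [D4_gen3]
        exact Subgroup.subset_closure (Or.inr (by simp))
    rw [eq_top_iff]
    intro y _
    have : D4equiv.symm y ∈ K'.comap D4equiv.toMonoidHom := by rw [hK]; exact Subgroup.mem_top _
    rw [Subgroup.mem_comap] at this
    simpa using this

/-! ### Centres -/

theorem center_D4 : Nat.card (Subgroup.center Cfsg.Lie.coxeterD4.Group) = 2 ∧
    Subgroup.center Cfsg.Lie.coxeterD4.Group ≤
      Subgroup.zpowers ((List.finRange 4).map Cfsg.Lie.coxeterD4.simple).prod := by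
  rw [D4_cox]
  exact center_transfer D4equiv _ 2 center_D4r

end Cfsg.Agent.Lib.Helper4.CoxT
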