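import Cfsg.Agent.Lib.Helper4.CoxT2

/-! Generated certificate data for the Coxeter group of type B2. -/

namespace Cfsg.Agent.Lib.Helper4.CoxT

def certB2 : Cert where
  m := fun s t => dig 8 0x1040401 (s * 2 + t)
  N := 4
  top := fun i s => dig 8 0x203030100020100 (i * 2 + s)
  levels := [
    { N := 2,
      tbl := fun i s => dig 8 0x1 (i * 1 + s),
      par := fun j => dig 8 0x0 j,
      lab := fun j => dig 8 0x0 j,
      lev := fun i s => dig 8 0x100 (i * 1 + s),
      just := fun i s => dig 8 0x1 (i * 1 + s),
      c := 1 },
    { N := 4,
      tbl := fun i s => dig 8 0x203030100020100 (i * 2 + s),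
      par := fun j => dig 8 0x2010000 j,
      lab := fun j => dig 8 0x1000100 j,
      lev := fun i s => dig 8 0x102000101000000 (i * 2 + s),
      just := fun i s => dig 8 0x101020001020203 (i * 2 + s),
      c := 0 }]

set_option maxRecDepth 100000 in
theorem certB2_check : certB2.check 2 = true := by decide +kernel

end Cfsg.Agent.Lib.Helper4.CoxT
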