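import Mathlib
import Cfsg.Agent.Lib.Helper7.R33e

set_option autoImplicit false
set_option maxRecDepth 100000

/-! # S1903: the model `2^{2+4} : 5` of an involution centralizer of `PSU₃(4)` -/

namespace Cfsg.Agent.Lib.Helper4.Cq

open Cfsg.Agent.Lib.Helper7.R33 (pw pw_zero pw_one zmod2_cases)

/-- the model of the special group of order 64, in coordinates adapted to an automorphism of
order five -/
@[ext] structure T64 where
  e0 : ZMod 2
  e1 : ZMod 2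
  e2 : ZMod 2
  e3 : ZMod 2
  f1 : ZMod 2
  f2 : ZMod 2
deriving DecidableEq

namespace T64

instance : Mul T64 := ⟨fun g h => ⟨g.e0 + h.e0, g.e1 + h.e1, g.e2 + h.e2, g.e3 + h.e3,
  g.f1 + h.f1 + (g.e0 * h.e0 + g.e1 * h.e1 + g.e2 * h.e2 + g.e3 * h.e3 +
    g.e1 * h.e0 + g.e2 * h.e1 + g.e3 * h.e2),
  g.f2 + h.f2 + (g.e0 * h.e0 + g.e1 * h.e1 + g.e2 * h.e2 + g.e3 * h.e3 +
    g.e2 * h.e0 + g.e3 * h.e1 + g.e3 * h.e0)⟩⟩
instance : One T64 := ⟨⟨0, 0, 0, 0, 0, 0⟩⟩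
instance : Inv T64 := ⟨fun g => ⟨g.e0, g.e1, g.e2, g.e3,
  g.f1 + (g.e0 * g.e0 + g.e1 * g.e1 + g.e2 * g.e2 + g.e3 * g.e3 +
    g.e1 * g.e0 + g.e2 * g.e1 + g.e3 * g.e2),
  g.f2 + (g.e0 * g.e0 + g.e1 * g.e1 + g.e2 * g.e2 + g.e3 * g.e3 +
    g.e2 * g.e0 + g.e3 * g.e1 + g.e3 * g.e0)⟩⟩

@[simp] theorem mul_e0 (g h : T64) : (g * h).e0 = g.e0 + h.e0 := rfl
@[simp] theorem mul_e1 (g h : T64) : (g * h).e1 = g.e1 + h.e1 := rfl
@[simp] theorem mul_e2 (g h : T64) : (g * h).e2 = g.e2 + h.e2 := rfl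
@[simp] theorem mul_e3 (g h : T64) : (g * h).e3 = g.e3 + h.e3 := rfl
@[simp] theorem mul_f1 (g h : T64) : (g * h).f1 = g.f1 + h.f1 +
    (g.e0 * h.e0 + g.e1 * h.e1 + g.e2 * h.e2 + g.e3 * h.e3 +
      g.e1 * h.e0 + g.e2 * h.e1 + g.e3 * h.e2) := rfl
@[simp] theorem mul_f2 (g h : T64) : (g * h).f2 = g.f2 + h.f2 +
    (g.e0 * h.e0 + g.e1 * h.e1 + g.e2 * h.e2 + g.e3 * h.e3 +
      g.e2 * h.e0 + g.e3 * h.e1 + g.e3 * h.e0) := rfl
@[simp] theorem one_e0 : (1 : T64).e0 = 0 := rfl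
@[simp] theorem one_e1 : (1 : T64).e1 = 0 := rfl
@[simp] theorem one_e2 : (1 : T64).e2 = 0 := rfl
@[simp] theorem one_e3 : (1 : T64).e3 = 0 := rfl
@[simp] theorem one_f1 : (1 : T64).f1 = 0 := rfl
@[simp] theorem one_f2 : (1 : T64).f2 = 0 := rfl
@[simp] theorem inv_e0 (g : T64) : (g⁻¹).e0 = g.e0 := rfl
@[simp] theorem inv_e1 (g : T64) : (g⁻¹).e1 = g.e1 := rfl
@[simp] theorem inv_e2 (g : T64) : (g⁻¹).e2 = g.e2 := rfl
@[simp] theorem inv_e3 (g : T64) : (g⁻¹).e3 = g.e3 := rfl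
@[simp] theorem inv_f1 (g : T64) : (g⁻¹).f1 = g.f1 +
    (g.e0 * g.e0 + g.e1 * g.e1 + g.e2 * g.e2 + g.e3 * g.e3 +
      g.e1 * g.e0 + g.e2 * g.e1 + g.e3 * g.e2) := rfl
@[simp] theorem inv_f2 (g : T64) : (g⁻¹).f2 = g.f2 +
    (g.e0 * g.e0 + g.e1 * g.e1 + g.e2 * g.e2 + g.e3 * g.e3 +
      g.e2 * g.e0 + g.e3 * g.e1 + g.e3 * g.e0) := rfl

theorem z2_add_self : ∀ t : ZMod 2, t + t = 0 := by decide

instance : Group T64 where
  mul_assoc a b c := by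
    ext <;> simp only [mul_e0, mul_e1, mul_e2, mul_e3, mul_f1, mul_f2] <;> ring
  one_mul a := by
    ext <;> simp only [mul_e0, mul_e1, mul_e2, mul_e3, mul_f1, mul_f2, one_e0, one_e1, one_e2,
      one_e3, one_f1, one_f2] <;> ring
  mul_one a := by
    ext <;> simp only [mul_e0, mul_e1, mul_e2, mul_e3, mul_f1, mul_f2, one_e0, one_e1, one_e2,
      one_e3, one_f1, one_f2] <;> ring
  inv_mul_cancel a := by
    ext <;> simp only [mul_e0, mul_e1, mul_e2, mul_e3, mul_f1, mul_f2, one_e0, one_e1, one_e2,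
      one_e3, one_f1, one_f2, inv_e0, inv_e1, inv_e2, inv_e3, inv_f1, inv_f2]
    · exact z2_add_self _
    · exact z2_add_self _
    · exact z2_add_self _
    · exact z2_add_self _
    · have h := z2_add_self
        (a.f1 + (a.e0 * a.e0 + a.e1 * a.e1 + a.e2 * a.e2 + a.e3 * a.e3 +
          a.e1 * a.e0 + a.e2 * a.e1 + a.e3 * a.e2))
      linear_combination h
    · have h := z2_add_self
        (a.f2 + (a.e0 * a.e0 + a.e1 * a.e1 + a.e2 * a.e2 + a.e3 * a.e3 +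
          a.e2 * a.e0 + a.e3 * a.e1 + a.e3 * a.e0))
      linear_combination h

/-- the underlying tuple -/
def equivProd : T64 ≃ ZMod 2 × ZMod 2 × ZMod 2 × ZMod 2 × ZMod 2 × ZMod 2 where
  toFun g := (g.e0, g.e1, g.e2, g.e3, g.f1, g.f2)
  invFun p := ⟨p.1, p.2.1, p.2.2.1, p.2.2.2.1, p.2.2.2.2.1, p.2.2.2.2.2⟩
  left_inv _ := rfl
  right_inv _ := rfl

instance : Fintype T64 := Fintype.ofEquiv _ equivProd.symm

theorem card_eq : Nat.card T64 = 64 := by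
  rw [Nat.card_congr equivProd]
  simp only [Nat.card_prod, Nat.card_zmod]

/-- generators -/
def X0 : T64 := ⟨1, 0, 0, 0, 0, 0⟩
/-- generators -/
def X1 : T64 := ⟨0, 1, 0, 0, 0, 0⟩
/-- generators -/
def X2 : T64 := ⟨0, 0, 1, 0, 0, 0⟩
/-- generators -/
def X3 : T64 := ⟨0, 0, 0, 1, 0, 0⟩
/-- central generators -/
def B1 : T64 := ⟨0, 0, 0, 0, 1, 0⟩
/-- central generators -/
def B2 : T64 := ⟨0, 0, 0, 0, 0, 1⟩
/-- the fifth conjugate -/
def X4 : T64 := (X0 * X1 * X2 * X3)⁻¹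

/-- the automorphism of order five, as a function -/
def sig (m : T64) : T64 :=
  pw X1 m.e0 * pw X2 m.e1 * pw X3 m.e2 * pw X4 m.e3 * pw B1 m.f1 * pw B2 m.f2

theorem sig_mul : ∀ m m' : T64, sig (m * m') = sig m * sig m' := by decide +kernel

theorem sig_five : ∀ m : T64, sig (sig (sig (sig (sig m)))) = m := by decide +kernel

/-- normal form -/
theorem nf : ∀ m : T64,
    m = pw X0 m.e0 * pw X1 m.e1 * pw X2 m.e2 * pw X3 m.e3 * pw B1 m.f1 * pw B2 m.f2 := by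
  decide +kernel

theorem X4_eq : X4 = (X0 * X1 * X2 * X3)⁻¹ := rfl

/-- the automorphism of order five -/
def sigAut : MulAut T64 where
  toFun := sig
  invFun m := sig (sig (sig (sig m)))
  left_inv m := sig_five m
  right_inv m := sig_five m
  map_mul' := sig_mul

theorem sigAut_apply (m : T64) : sigAut m = sig m := rfl

theorem sigAut_pow_five : sigAut ^ 5 = 1 := by
  apply MulEquiv.ext
  intro m
  show (sigAut ^ 5) m = m
  have h : (sigAut ^ 5) m = sig (sig (sig (sig (sig m)))) := rfl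
  rw [h, sig_five]

end T64

end Cfsg.Agent.Lib.Helper4.Cq
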