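import Mathlib
import Cfsg.Agent.Lib.Helper4.Cq1

set_option autoImplicit false

/-! # S1903: the model group of order 320 and maps out of it -/

namespace Cfsg.Agent.Lib.Helper4.Cq

/-- the homomorphism from the cyclic group of order five determined by an element of order
dividing five -/
def c5hom {H : Type*} [Group H] (h : H) (hh : h ^ 5 = 1) : Multiplicative (ZMod 5) →* H where
  toFun c := h ^ (Multiplicative.toAdd c).val
  map_one' := by simp
  map_mul' a b := by
    show h ^ (ZMod.val (Multiplicative.toAdd a + Multiplicative.toAdd b)) = _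
    rw [ZMod.val_add, ← pow_eq_pow_mod _ hh, pow_add]

theorem c5hom_apply {H : Type*} [Group H] (h : H) (hh : h ^ 5 = 1) (c : Multiplicative (ZMod 5)) :
    c5hom h hh c = h ^ (Multiplicative.toAdd c).val := rfl

theorem c5hom_gen {H : Type*} [Group H] (h : H) (hh : h ^ 5 = 1) :
    c5hom h hh (Multiplicative.ofAdd 1) = h := by
  rw [c5hom_apply]
  have : (Multiplicative.toAdd (Multiplicative.ofAdd (1 : ZMod 5))).val = 1 := by decide
  rw [this, pow_one]

/-- the model group of order 320 -/
abbrev G320 : Type := T64 ⋊[c5hom T64.sigAut T64.sigAut_pow_five] Multiplicative (ZMod 5)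

theorem card_G320 : Nat.card G320 = 320 := by
  rw [SemidirectProduct.card, T64.card_eq, Nat.card_eq_fintype_card]
  simp

section lift

variable {H : Type*} [Group H] (f : T64 →* H) (h : H) (hh : h ^ 5 = 1)
  (hc : ∀ m : T64, f (T64.sig m) = h * f m * h⁻¹)

include hc in
theorem lift_compat_pow (k : ℕ) (m : T64) : f ((T64.sigAut ^ k) m) = h ^ k * f m * (h ^ k)⁻¹ := by
  induction k generalizing m with
  | zero => simp
  | succ k ih =>
    rw [pow_succ', MulAut.mul_apply, T64.sigAut_apply, hc, ih, pow_succ']
    group

/-- the homomorphism out of the model group -/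
def liftHom : G320 →* H :=
  SemidirectProduct.lift f (c5hom h hh) (by
    intro c
    ext m
    simp only [MonoidHom.comp_apply, MulEquiv.coe_toMonoidHom, MulAut.conj_apply, c5hom_apply]
    exact lift_compat_pow f h hc _ m)

theorem liftHom_apply (x : G320) :
    liftHom f h hh hc x = f x.left * h ^ (Multiplicative.toAdd x.right).val := rfl

theorem liftHom_inl (m : T64) : liftHom f h hh hc (SemidirectProduct.inl m) = f m := by
  rw [liftHom_apply]
  simp

theorem liftHom_inr_gen :
    liftHom f h hh hc (SemidirectProduct.inr (Multiplicative.ofAdd 1)) = h := by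
  unfold liftHom
  rw [SemidirectProduct.lift_inr, c5hom_gen]

end lift

end Cfsg.Agent.Lib.Helper4.Cq
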