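import Mathlib
import Cfsg.Agent.Lib.Helper4.Cq2
import Cfsg.Agent.Lib.Helper1.ClassTwo

set_option autoImplicit false
set_option linter.deprecated false
set_option linter.style.haveILetI false

/-! # S1903: a group of order 64 with Klein four centre and an automorphism of order five -/

namespace Cfsg.Agent.Lib.Helper4.Cq

open scoped commutatorElement
open Cfsg.Agent.Lib.Helper1 (CommCentral)

variable {T : Type*} [Group T]

/-- the subgroup of fixed points -/
def fixS (α : MulAut T) : Subgroup T where
  carrier := {x | α x = x}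
  mul_mem' := by
    intro a b ha hb
    simp only [Set.mem_setOf_eq] at *
    rw [map_mul, ha, hb]
  one_mem' := map_one α
  inv_mem' := by
    intro a ha
    simp only [Set.mem_setOf_eq] at *
    rw [map_inv, ha]

theorem mem_fixS {α : MulAut T} {x : T} : x ∈ fixS α ↔ α x = x := Iff.rfl

theorem card_modEq_fix [Finite T] (α : MulAut T) (h5 : α ^ 5 = 1) (H : Subgroup T)
    (hH : ∀ x ∈ H, α x ∈ H) : Nat.card H ≡ Nat.card ↥(H ⊓ fixS α) [MOD 5] := by
  classical
  haveI : Fact (Nat.Prime 5) := ⟨by norm_num⟩
  haveI := Fintype.ofFinite ↥H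
  let f : Function.End ↥H := fun x => ⟨α x, hH x x.2⟩
  have hpow : ∀ (n : ℕ) (x : ↥H), (((f ^ n) x : ↥H) : T) = (α ^ n) x := by
    intro n
    induction n with
    | zero => intro x; rfl
    | succ n ih =>
      intro x
      rw [pow_succ, pow_succ]
      show (((f ^ n) (f x) : ↥H) : T) = (α ^ n) (α x)
      rw [ih]
  have hf : f ^ 5 ^ 1 = 1 := by
    rw [pow_one]
    funext x
    apply Subtype.ext
    rw [hpow, h5]
    rfl
  have h := Equiv.Perm.card_fixedPoints_modEq (p := 5) (n := 1) hf
  rw [← Nat.card_eq_fintype_card, ← Nat.card_eq_fintype_card] at h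
  have e : ↥(Function.fixedPoints f) ≃ ↥(H ⊓ fixS α) :=
    { toFun := fun x => ⟨x.1.1, ⟨x.1.2, by
        have h1 : f x.1 = x.1 := x.2
        exact congrArg Subtype.val h1⟩⟩
      invFun := fun y => ⟨⟨y.1, y.2.1⟩, by
        show f ⟨y.1, y.2.1⟩ = ⟨y.1, y.2.1⟩
        apply Subtype.ext
        exact y.2.2⟩
      left_inv := fun x => rfl
      right_inv := fun y => rfl }
  rwa [Nat.card_congr e] at h

theorem dvd64_mod5 {n : ℕ} (h1 : n ∣ 64) (h2 : n ≡ 4 [MOD 5]) : n = 4 ∨ n = 64 := by
  have hle : n ≤ 64 := Nat.le_of_dvd (by norm_num) h1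
  have key : ∀ k : Fin 65, (k : ℕ) ∣ 64 → (k : ℕ) % 5 = 4 → (k : ℕ) = 4 ∨ (k : ℕ) = 64 := by
    decide
  exact key ⟨n, by omega⟩ h1 h2

/-- the hypotheses on the derived subgroup `T` of `G` and the automorphism `α` induced by an
element of order five -/
structure Hyp (α : MulAut T) : Prop where
  card : Nat.card T = 64
  pow5 : α ^ 5 = 1
  klein : IsKleinFour (Subgroup.center T)
  gen : ∀ N : Subgroup T, N.Normal → (∀ x ∈ N, α x ∈ N) → (∀ x y : T, ⁅x, y⁆ ∈ N) →
    (∀ x : T, x⁻¹ * α x ∈ N) → N = ⊤

namespace Hyp

variable {α : MulAut T} (D : Hyp α)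
include D

theorem fin : Finite T := Nat.finite_of_card_ne_zero (by rw [D.card]; norm_num)

theorem a5 (x : T) : α (α (α (α (α x)))) = x := by
  have h := congrArg (fun β : MulAut T => β x) D.pow5
  exact h

theorem zsq {z : T} (hz : z ∈ Subgroup.center T) : z * z = 1 := by
  have := D.klein
  have h1 : (⟨z, hz⟩ : ↥(Subgroup.center T)) ^ 2 = 1 := by
    rw [← IsKleinFour.exponent_two (G := ↥(Subgroup.center T))]
    exact Monoid.pow_exponent_eq_one _
  have h2 := congrArg Subtype.val h1
  rw [← pow_two]
  exact h2

theorem zinv {z : T} (hz : z ∈ Subgroup.center T) : z⁻¹ = z :=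
  inv_eq_of_mul_eq_one_right (D.zsq hz)

omit D in
theorem center_inv {z : T} (hz : z ∈ Subgroup.center T) : α z ∈ Subgroup.center T := by
  rw [Subgroup.mem_center_iff] at hz ⊢
  intro g
  have h := congrArg α (hz (α.symm g))
  rw [map_mul, map_mul, MulEquiv.apply_symm_apply] at h
  exact h

theorem card_center : Nat.card (Subgroup.center T) = 4 := by
  have := D.klein
  exact IsKleinFour.card_four

theorem center_le_fix : Subgroup.center T ≤ fixS α := by
  haveI := D.fin
  have h1 := card_modEq_fix α D.pow5 (Subgroup.center T) (fun x hx => center_inv hx)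
  rw [D.card_center] at h1
  have h2 : Nat.card ↥(Subgroup.center T ⊓ fixS α) ∣ 4 := by
    rw [← D.card_center]
    exact Subgroup.card_dvd_of_le inf_le_left
  have h3 : Nat.card ↥(Subgroup.center T ⊓ fixS α) ≤ 4 := Nat.le_of_dvd (by norm_num) h2
  have h4 : Nat.card ↥(Subgroup.center T ⊓ fixS α) = 4 := by
    unfold Nat.ModEq at h1
    omega
  have h5 : Subgroup.center T ⊓ fixS α = Subgroup.center T :=
    Subgroup.eq_of_le_of_card_ge inf_le_left (by rw [h4, D.card_center])
  rw [← h5]
  exact inf_le_right

theorem center_fixed {z : T} (hz : z ∈ Subgroup.center T) : α z = z := D.center_le_fix hz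

theorem isPGroup : IsPGroup 2 T := IsPGroup.of_card (n := 6) (by rw [D.card]; norm_num)

theorem commutator_lt_top : commutator T < ⊤ := by
  haveI := D.fin
  haveI : Fact (Nat.Prime 2) := ⟨Nat.prime_two⟩
  haveI : Group.IsNilpotent T := D.isPGroup.isNilpotent
  haveI : Nontrivial T := by
    rw [← Finite.one_lt_card_iff_nontrivial, D.card]
    norm_num
  exact Group.IsSolvable.commutator_lt_top_of_nontrivial T

theorem fix_eq_center : fixS α = Subgroup.center T := by
  haveI := D.fin
  have h1 := card_modEq_fix α D.pow5 ⊤ (fun x _ => Subgroup.mem_top _)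
  rw [top_inf_eq, Subgroup.card_top, D.card] at h1
  have h2 : Nat.card ↥(fixS α) ∣ 64 := by
    rw [← D.card]
    exact Subgroup.card_subgroup_dvd_card _
  have h3 : Nat.card ↥(fixS α) ≡ 4 [MOD 5] := by
    unfold Nat.ModEq at h1 ⊢
    omega
  rcases dvd64_mod5 h2 h3 with h4 | h4
  · exact (Subgroup.eq_of_le_of_card_ge D.center_le_fix (by rw [h4, D.card_center])).symm
  · exfalso
    have h5 : fixS α = ⊤ := Subgroup.eq_top_of_card_eq _ (by rw [h4, D.card])
    have hfix : ∀ x : T, α x = x := fun x => by
      have : x ∈ fixS α := by rw [h5]; exact Subgroup.mem_top _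
      exact this
    have h6 : commutator T = ⊤ := by
      apply D.gen (commutator T) inferInstance
      · intro x hx
        rw [hfix]
        exact hx
      · intro x y
        rw [commutator_def]
        exact Subgroup.commutator_mem_commutator (Subgroup.mem_top x) (Subgroup.mem_top y)
      · intro x
        rw [hfix, inv_mul_cancel]
        exact one_mem _
    exact absurd h6 (ne_of_lt D.commutator_lt_top)

/-- `α` acts fixed-point-freely on `T / Z(T)` -/
theorem fpf {x : T} (hx : x⁻¹ * α x ∈ Subgroup.center T) : x ∈ Subgroup.center T := by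
  set z := x⁻¹ * α x with hz
  have hαx : α x = x * z := by rw [hz]; group
  have hαz : α z = z := D.center_fixed hx
  have hpow : ∀ k : ℕ, (α ^ k) x = x * z ^ k := by
    intro k
    induction k with
    | zero => simp
    | succ k ih =>
      rw [pow_succ', MulAut.mul_apply, ih, map_mul, map_pow, hαz, hαx, pow_succ']
      group
  have h5 := hpow 5
  rw [D.pow5, MulAut.one_apply] at h5
  have hz5 : z ^ 5 = 1 := by
    have := mul_left_cancel (a := x) (b := 1) (c := z ^ 5) (by rw [mul_one]; exact h5)
    exact this.symm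
  have hz2 : z * z = 1 := D.zsq hx
  have hz1 : z = 1 := by
    have e : z ^ 5 = (z * z) * (z * z) * z := by
      rw [show (5 : ℕ) = 2 + 2 + 1 from rfl, pow_add, pow_add, pow_one, pow_two]
    rw [e, hz2, one_mul, one_mul] at hz5
    exact hz5
  rw [hz1, mul_one] at hαx
  rw [← D.fix_eq_center]
  exact hαx

theorem norm_mem (x : T) :
    x * α x * α (α x) * α (α (α x)) * α (α (α (α x))) ∈ commutator T := by
  let o : T →* Abelianization T := Abelianization.of
  let ν : T →* Abelianization T := o * o.comp (α : T →* T) * o.comp ((α * α : MulAut T) : T →* T) *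
    o.comp ((α * α * α : MulAut T) : T →* T) * o.comp ((α * α * α * α : MulAut T) : T →* T)
  have hν : ∀ y : T, ν y = o y * o (α y) * o (α (α y)) * o (α (α (α y))) *
      o (α (α (α (α y)))) := fun y => rfl
  have hνα : ∀ y : T, ν (α y) = ν y := by
    intro y
    rw [hν, hν, D.a5 y, mul_comm]
    simp only [mul_assoc]
  have hN : ν.ker = ⊤ := by
    apply D.gen ν.ker (MonoidHom.normal_ker ν)
    · intro y hy
      rw [MonoidHom.mem_ker] at hy ⊢
      rw [hνα, hy]
    · intro y w
      rw [MonoidHom.mem_ker, map_commutatorElement]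
      exact commutatorElement_eq_one_iff_commute.mpr (Commute.all _ _)
    · intro y
      rw [MonoidHom.mem_ker, map_mul, map_inv, hνα, inv_mul_cancel]
  have h1 : ν x = 1 := by
    have : x ∈ ν.ker := by rw [hN]; exact Subgroup.mem_top _
    exact this
  rw [hν, ← map_mul, ← map_mul, ← map_mul, ← map_mul] at h1
  rw [← Abelianization.ker_of]
  exact h1

theorem center_le_commutator : Subgroup.center T ≤ commutator T := by
  intro z hz
  have h := D.norm_mem z
  simp only [D.center_fixed hz] at h
  have e : z * z * z * z * z = z := by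
    rw [D.zsq hz, one_mul, D.zsq hz, one_mul]
  rw [e] at h
  exact h

omit D in
theorem commutator_inv {x : T} (hx : x ∈ commutator T) : α x ∈ commutator T := by
  rw [commutator_eq_closure] at hx ⊢
  induction hx using Subgroup.closure_induction with
  | mem y hy =>
    obtain ⟨a, b, rfl⟩ := hy
    rw [map_commutatorElement]
    exact Subgroup.subset_closure ⟨_, _, rfl⟩
  | one => rw [map_one]; exact one_mem _
  | mul a b _ _ ha hb => rw [map_mul]; exact mul_mem ha hb
  | inv a _ ha => rw [map_inv]; exact inv_mem ha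

theorem commutator_eq_center : commutator T = Subgroup.center T := by
  haveI := D.fin
  have h1 := card_modEq_fix α D.pow5 (commutator T) (fun x hx => commutator_inv hx)
  have h2 : commutator T ⊓ fixS α = Subgroup.center T := by
    rw [D.fix_eq_center]
    exact inf_eq_right.mpr D.center_le_commutator
  rw [h2, D.card_center] at h1
  have h3 : Nat.card ↥(commutator T) ∣ 64 := by
    rw [← D.card]
    exact Subgroup.card_subgroup_dvd_card _
  rcases dvd64_mod5 h3 h1 with h4 | h4
  · exact (Subgroup.eq_of_le_of_card_ge D.center_le_commutator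
      (by rw [h4, D.card_center])).symm
  · exfalso
    have h5 : commutator T = ⊤ := Subgroup.eq_top_of_card_eq _ (by rw [h4, D.card])
    exact absurd h5 (ne_of_lt D.commutator_lt_top)

theorem comm_mem_center (x y : T) : ⁅x, y⁆ ∈ Subgroup.center T := by
  rw [← D.commutator_eq_center, commutator_def]
  exact Subgroup.commutator_mem_commutator (Subgroup.mem_top x) (Subgroup.mem_top y)

theorem cc : CommCentral T := fun x y z =>
  (Subgroup.mem_center_iff.mp (D.comm_mem_center x y) z).symm

theorem comm_symm (x y : T) : ⁅x, y⁆ = ⁅y, x⁆ := by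
  rw [← commutatorElement_inv, D.zinv (D.comm_mem_center y x)]

theorem sq_mul (x y : T) : (x * y) * (x * y) = ⁅y, x⁆ * (x * x) * (y * y) := by
  have e : (x * y) * (x * y) = x * ⁅y, x⁆ * x⁻¹ * (x * x) * (y * y) := by
    simp only [commutatorElement_def]; group
  rw [e, ← D.cc y x x, mul_inv_cancel_right]

/-- the subgroup of elements with central square -/
def omegaS : Subgroup T where
  carrier := {x | x * x ∈ Subgroup.center T}
  mul_mem' := by
    intro a b ha hb
    simp only [Set.mem_setOf_eq] at *
    rw [D.sq_mul]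
    exact mul_mem (mul_mem (D.comm_mem_center _ _) ha) hb
  one_mem' := by
    simp only [Set.mem_setOf_eq, mul_one]
    exact one_mem _
  inv_mem' := by
    intro a ha
    simp only [Set.mem_setOf_eq] at *
    have e : a⁻¹ * a⁻¹ = (a * a)⁻¹ := by group
    rw [e]
    exact inv_mem ha

theorem sq_mem_center (x : T) : x * x ∈ Subgroup.center T := by
  haveI := D.fin
  have hle : Subgroup.center T ≤ D.omegaS := by
    intro z hz
    show z * z ∈ Subgroup.center T
    exact mul_mem hz hz
  have h1 := card_modEq_fix α D.pow5 D.omegaS (fun x hx => by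
    show α x * α x ∈ Subgroup.center T
    rw [← map_mul]
    exact center_inv hx)
  have h2 : D.omegaS ⊓ fixS α = Subgroup.center T := by
    rw [D.fix_eq_center]
    exact inf_eq_right.mpr hle
  rw [h2, D.card_center] at h1
  have h3 : Nat.card ↥D.omegaS ∣ 64 := by
    rw [← D.card]
    exact Subgroup.card_subgroup_dvd_card _
  rcases dvd64_mod5 h3 h1 with h4 | h4
  · exfalso
    have h5 : D.omegaS = Subgroup.center T :=
      (Subgroup.eq_of_le_of_card_ge hle (by rw [h4, D.card_center])).symm
    -- an element of order two in the quotient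
    have hq : Nat.card (T ⧸ Subgroup.center T) = 16 := by
      have := Subgroup.card_eq_card_quotient_mul_card_subgroup (Subgroup.center T)
      rw [D.card, D.card_center] at this
      omega
    haveI : Fact (Nat.Prime 2) := ⟨Nat.prime_two⟩
    haveI : Finite (T ⧸ Subgroup.center T) :=
      Nat.finite_of_card_ne_zero (by rw [hq]; norm_num)
    obtain ⟨y, hy⟩ := exists_prime_orderOf_dvd_card' (G := T ⧸ Subgroup.center T) 2
      (by rw [hq]; norm_num)
    obtain ⟨x, rfl⟩ := QuotientGroup.mk_surjective y
    have hx2 : ((x * x : T) : T ⧸ Subgroup.center T) = 1 := by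
      have := pow_orderOf_eq_one (x : T ⧸ Subgroup.center T)
      rw [hy, pow_two] at this
      exact this
    have hx2' : x * x ∈ Subgroup.center T := (QuotientGroup.eq_one_iff _).mp hx2
    have hxΩ : x ∈ D.omegaS := hx2'
    rw [h5] at hxΩ
    have hx1 : (x : T ⧸ Subgroup.center T) = 1 := (QuotientGroup.eq_one_iff _).mpr hxΩ
    rw [hx1, orderOf_one] at hy
    norm_num at hy
  · have h5 : D.omegaS = ⊤ := Subgroup.eq_top_of_card_eq _ (by rw [h4, D.card])
    have : x ∈ D.omegaS := by rw [h5]; exact Subgroup.mem_top _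
    exact this

end Hyp

end Cfsg.Agent.Lib.Helper4.Cq
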