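import Mathlib
import Cfsg.Agent.Lib.Helper4.Cq3

set_option autoImplicit false
set_option linter.deprecated false
set_option linter.style.haveILetI false

/-! # S1903: normal forms in a group with the relations of the model -/

namespace Cfsg.Agent.Lib.Helper4.Cq

open scoped commutatorElement
open Cfsg.Agent.Lib.Helper1 (CommCentral)
open Cfsg.Agent.Lib.Helper7.R33 (pw pw_zero pw_one zmod2_cases pw_central comm_pw_left swap_comm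
  z2_11)

variable {T : Type*} [Group T]

/-- the relations of the model -/
structure Rel (x0 x1 x2 x3 b1 b2 : T) : Prop where
  cc : CommCentral T
  b1c : ∀ g : T, b1 * g = g * b1
  b2c : ∀ g : T, b2 * g = g * b2
  b1sq : b1 * b1 = 1
  b2sq : b2 * b2 = 1
  s0 : x0 * x0 = b1 * b2
  s1 : x1 * x1 = b1 * b2
  s2 : x2 * x2 = b1 * b2
  s3 : x3 * x3 = b1 * b2
  c10 : ⁅x1, x0⁆ = b1
  c21 : ⁅x2, x1⁆ = b1
  c32 : ⁅x3, x2⁆ = b1
  c20 : ⁅x2, x0⁆ = b2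
  c31 : ⁅x3, x1⁆ = b2
  c30 : ⁅x3, x0⁆ = b2

/-- central part of the normal form -/
def Zc (b1 b2 : T) (g1 g2 : ZMod 2) : T := pw b1 g1 * pw b2 g2

/-- the normal form map -/
def phi (x0 x1 x2 x3 b1 b2 : T) (m : T64) : T :=
  pw x0 m.e0 * pw x1 m.e1 * pw x2 m.e2 * pw x3 m.e3 * Zc b1 b2 m.f1 m.f2

theorem pw_mul_gen (p q : T) (hp : p * p = q) (a : ZMod 2) :
    pw p a * p = pw p (a + 1) * pw q a := by
  rcases zmod2_cases a with rfl | rfl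
  · rw [pw_zero, pw_zero, zero_add, pw_one, one_mul, mul_one]
  · rw [pw_one, pw_one, z2_11, pw_zero, one_mul, hp]

namespace Rel

variable {x0 x1 x2 x3 b1 b2 : T} (R : Rel x0 x1 x2 x3 b1 b2)
include R

theorem Zc_central (g1 g2 : ZMod 2) (g : T) : Zc b1 b2 g1 g2 * g = g * Zc b1 b2 g1 g2 := by
  unfold Zc
  rw [mul_assoc, pw_central R.b2c g2 g, ← mul_assoc, pw_central R.b1c g1 g, mul_assoc]

theorem pwb1_mul (a a' : ZMod 2) : pw b1 a * pw b1 a' = pw b1 (a + a') := by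
  rcases zmod2_cases a with rfl | rfl <;> rcases zmod2_cases a' with rfl | rfl <;>
    simp only [pw_zero, pw_one, add_zero, zero_add, mul_one, one_mul, z2_11, R.b1sq]

theorem pwb2_mul (a a' : ZMod 2) : pw b2 a * pw b2 a' = pw b2 (a + a') := by
  rcases zmod2_cases a with rfl | rfl <;> rcases zmod2_cases a' with rfl | rfl <;>
    simp only [pw_zero, pw_one, add_zero, zero_add, mul_one, one_mul, z2_11, R.b2sq]

theorem Zc_mul (g1 g2 h1 h2 : ZMod 2) :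
    Zc b1 b2 g1 g2 * Zc b1 b2 h1 h2 = Zc b1 b2 (g1 + h1) (g2 + h2) := by
  unfold Zc
  calc pw b1 g1 * pw b2 g2 * (pw b1 h1 * pw b2 h2)
      = pw b1 g1 * (pw b2 g2 * pw b1 h1) * pw b2 h2 := by simp only [mul_assoc]
    _ = pw b1 g1 * (pw b1 h1 * pw b2 g2) * pw b2 h2 := by rw [pw_central R.b2c g2 (pw b1 h1)]
    _ = (pw b1 g1 * pw b1 h1) * (pw b2 g2 * pw b2 h2) := by simp only [mul_assoc]
    _ = pw b1 (g1 + h1) * pw b2 (g2 + h2) := by rw [R.pwb1_mul, R.pwb2_mul]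

omit R in
theorem pwb1_eq (a : ZMod 2) : pw b1 a = Zc b1 b2 a 0 := by
  unfold Zc; rw [pw_zero, mul_one]

omit R in
theorem pwb2_eq (a : ZMod 2) : pw b2 a = Zc b1 b2 0 a := by
  unfold Zc; rw [pw_zero, one_mul]

omit R in
theorem pwb12_eq (a : ZMod 2) : pw (b1 * b2) a = Zc b1 b2 a a := by
  unfold Zc
  rcases zmod2_cases a with rfl | rfl
  · rw [pw_zero, pw_zero, pw_zero, one_mul]
  · rw [pw_one, pw_one, pw_one]

omit R in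
theorem one_eq_Zc : (1 : T) = Zc b1 b2 0 0 := by
  unfold Zc; rw [pw_zero, pw_zero, one_mul]

theorem step3 (a0 a1 a2 a3 : ZMod 2) :
    pw x0 a0 * pw x1 a1 * pw x2 a2 * pw x3 a3 * x3 =
      pw x0 a0 * pw x1 a1 * pw x2 a2 * pw x3 (a3 + 1) * Zc b1 b2 a3 a3 := by
  rw [mul_assoc _ (pw x3 a3) x3, pw_mul_gen x3 (b1 * b2) R.s3, pwb12_eq, ← mul_assoc]

theorem step2 (a0 a1 a2 a3 : ZMod 2) :
    pw x0 a0 * pw x1 a1 * pw x2 a2 * pw x3 a3 * x2 =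
      pw x0 a0 * pw x1 a1 * pw x2 (a2 + 1) * pw x3 a3 * Zc b1 b2 (a2 + a3) a2 := by
  have hS : pw x3 a3 * x2 = x2 * pw x3 a3 * ⁅pw x3 a3, x2⁆ := swap_comm R.cc _ _
  have hC : ⁅pw x3 a3, x2⁆ = Zc b1 b2 a3 0 := by
    rw [comm_pw_left, R.c32, pwb1_eq]
  have hA : pw x2 a2 * x2 = pw x2 (a2 + 1) * Zc b1 b2 a2 a2 := by
    rw [pw_mul_gen x2 (b1 * b2) R.s2, pwb12_eq]
  calc pw x0 a0 * pw x1 a1 * pw x2 a2 * pw x3 a3 * x2
      = pw x0 a0 * pw x1 a1 * pw x2 a2 * (pw x3 a3 * x2) := by simp only [mul_assoc]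
    _ = pw x0 a0 * pw x1 a1 * pw x2 a2 * (x2 * pw x3 a3 * Zc b1 b2 a3 0) := by rw [hS, hC]
    _ = pw x0 a0 * pw x1 a1 * (pw x2 a2 * x2) * pw x3 a3 * Zc b1 b2 a3 0 := by
      simp only [mul_assoc]
    _ = pw x0 a0 * pw x1 a1 * (pw x2 (a2 + 1) * Zc b1 b2 a2 a2) * pw x3 a3 * Zc b1 b2 a3 0 := by
      rw [hA]
    _ = pw x0 a0 * pw x1 a1 * pw x2 (a2 + 1) * (Zc b1 b2 a2 a2 * pw x3 a3) * Zc b1 b2 a3 0 := by
      simp only [mul_assoc]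
    _ = pw x0 a0 * pw x1 a1 * pw x2 (a2 + 1) * (pw x3 a3 * Zc b1 b2 a2 a2) * Zc b1 b2 a3 0 := by
      rw [R.Zc_central]
    _ = pw x0 a0 * pw x1 a1 * pw x2 (a2 + 1) * pw x3 a3 * (Zc b1 b2 a2 a2 * Zc b1 b2 a3 0) := by
      simp only [mul_assoc]
    _ = pw x0 a0 * pw x1 a1 * pw x2 (a2 + 1) * pw x3 a3 * Zc b1 b2 (a2 + a3) a2 := by
      rw [R.Zc_mul, add_zero]

theorem step1 (a0 a1 a2 a3 : ZMod 2) :
    pw x0 a0 * pw x1 a1 * pw x2 a2 * pw x3 a3 * x1 =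
      pw x0 a0 * pw x1 (a1 + 1) * pw x2 a2 * pw x3 a3 * Zc b1 b2 (a1 + a2) (a1 + a3) := by
  have hS : pw x2 a2 * pw x3 a3 * x1 = x1 * (pw x2 a2 * pw x3 a3) * ⁅pw x2 a2 * pw x3 a3, x1⁆ :=
    swap_comm R.cc _ _
  have hC : ⁅pw x2 a2 * pw x3 a3, x1⁆ = Zc b1 b2 a2 a3 := by
    rw [R.cc.comm_mul_left, comm_pw_left, comm_pw_left, R.c21, R.c31]
    rfl
  have hA : pw x1 a1 * x1 = pw x1 (a1 + 1) * Zc b1 b2 a1 a1 := by
    rw [pw_mul_gen x1 (b1 * b2) R.s1, pwb12_eq]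
  calc pw x0 a0 * pw x1 a1 * pw x2 a2 * pw x3 a3 * x1
      = pw x0 a0 * pw x1 a1 * (pw x2 a2 * pw x3 a3 * x1) := by simp only [mul_assoc]
    _ = pw x0 a0 * pw x1 a1 * (x1 * (pw x2 a2 * pw x3 a3) * Zc b1 b2 a2 a3) := by rw [hS, hC]
    _ = pw x0 a0 * (pw x1 a1 * x1) * (pw x2 a2 * pw x3 a3) * Zc b1 b2 a2 a3 := by
      simp only [mul_assoc]
    _ = pw x0 a0 * (pw x1 (a1 + 1) * Zc b1 b2 a1 a1) * (pw x2 a2 * pw x3 a3) *
          Zc b1 b2 a2 a3 := by rw [hA]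
    _ = pw x0 a0 * pw x1 (a1 + 1) * (Zc b1 b2 a1 a1 * (pw x2 a2 * pw x3 a3)) *
          Zc b1 b2 a2 a3 := by simp only [mul_assoc]
    _ = pw x0 a0 * pw x1 (a1 + 1) * ((pw x2 a2 * pw x3 a3) * Zc b1 b2 a1 a1) *
          Zc b1 b2 a2 a3 := by rw [R.Zc_central]
    _ = pw x0 a0 * pw x1 (a1 + 1) * pw x2 a2 * pw x3 a3 *
          (Zc b1 b2 a1 a1 * Zc b1 b2 a2 a3) := by simp only [mul_assoc]
    _ = pw x0 a0 * pw x1 (a1 + 1) * pw x2 a2 * pw x3 a3 * Zc b1 b2 (a1 + a2) (a1 + a3) := by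
      rw [R.Zc_mul]

theorem step0 (a0 a1 a2 a3 : ZMod 2) :
    pw x0 a0 * pw x1 a1 * pw x2 a2 * pw x3 a3 * x0 =
      pw x0 (a0 + 1) * pw x1 a1 * pw x2 a2 * pw x3 a3 *
        Zc b1 b2 (a0 + a1) (a0 + (a2 + a3)) := by
  have hS : pw x1 a1 * pw x2 a2 * pw x3 a3 * x0 =
      x0 * (pw x1 a1 * pw x2 a2 * pw x3 a3) * ⁅pw x1 a1 * pw x2 a2 * pw x3 a3, x0⁆ :=
    swap_comm R.cc _ _
  have hC : ⁅pw x1 a1 * pw x2 a2 * pw x3 a3, x0⁆ = Zc b1 b2 a1 (a2 + a3) := by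
    rw [R.cc.comm_mul_left, R.cc.comm_mul_left, comm_pw_left, comm_pw_left, comm_pw_left,
      R.c10, R.c20, R.c30]
    unfold Zc
    rw [mul_assoc, R.pwb2_mul]
  have hA : pw x0 a0 * x0 = pw x0 (a0 + 1) * Zc b1 b2 a0 a0 := by
    rw [pw_mul_gen x0 (b1 * b2) R.s0, pwb12_eq]
  calc pw x0 a0 * pw x1 a1 * pw x2 a2 * pw x3 a3 * x0
      = pw x0 a0 * (pw x1 a1 * pw x2 a2 * pw x3 a3 * x0) := by simp only [mul_assoc]
    _ = pw x0 a0 * (x0 * (pw x1 a1 * pw x2 a2 * pw x3 a3) * Zc b1 b2 a1 (a2 + a3)) := by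
      rw [hS, hC]
    _ = (pw x0 a0 * x0) * (pw x1 a1 * pw x2 a2 * pw x3 a3) * Zc b1 b2 a1 (a2 + a3) := by
      simp only [mul_assoc]
    _ = (pw x0 (a0 + 1) * Zc b1 b2 a0 a0) * (pw x1 a1 * pw x2 a2 * pw x3 a3) *
          Zc b1 b2 a1 (a2 + a3) := by rw [hA]
    _ = pw x0 (a0 + 1) * (Zc b1 b2 a0 a0 * (pw x1 a1 * pw x2 a2 * pw x3 a3)) *
          Zc b1 b2 a1 (a2 + a3) := by simp only [mul_assoc]
    _ = pw x0 (a0 + 1) * ((pw x1 a1 * pw x2 a2 * pw x3 a3) * Zc b1 b2 a0 a0) *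
          Zc b1 b2 a1 (a2 + a3) := by rw [R.Zc_central]
    _ = pw x0 (a0 + 1) * pw x1 a1 * pw x2 a2 * pw x3 a3 *
          (Zc b1 b2 a0 a0 * Zc b1 b2 a1 (a2 + a3)) := by simp only [mul_assoc]
    _ = pw x0 (a0 + 1) * pw x1 a1 * pw x2 a2 * pw x3 a3 *
          Zc b1 b2 (a0 + a1) (a0 + (a2 + a3)) := by rw [R.Zc_mul]

/-- moving a right factor through the central part -/
theorem through (W W' u : T) (g1 g2 c1 c2 : ZMod 2) (h : W * u = W' * Zc b1 b2 c1 c2) :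
    W * Zc b1 b2 g1 g2 * u = W' * Zc b1 b2 (g1 + c1) (g2 + c2) := by
  calc W * Zc b1 b2 g1 g2 * u = W * (Zc b1 b2 g1 g2 * u) := by rw [mul_assoc]
    _ = W * (u * Zc b1 b2 g1 g2) := by rw [R.Zc_central]
    _ = (W * u) * Zc b1 b2 g1 g2 := by rw [mul_assoc]
    _ = W' * (Zc b1 b2 c1 c2 * Zc b1 b2 g1 g2) := by rw [h, mul_assoc]
    _ = W' * Zc b1 b2 (g1 + c1) (g2 + c2) := by rw [R.Zc_mul, add_comm c1, add_comm c2]

theorem phi_mul_X0 (m : T64) :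
    phi x0 x1 x2 x3 b1 b2 (m * T64.X0) = phi x0 x1 x2 x3 b1 b2 m * x0 := by
  have e : m * T64.X0 = ⟨m.e0 + 1, m.e1, m.e2, m.e3, m.f1 + (m.e0 + m.e1),
      m.f2 + (m.e0 + (m.e2 + m.e3))⟩ := by
    ext <;> simp [T64.X0] <;> ring
  rw [e]
  exact (R.through _ _ x0 m.f1 m.f2 _ _ (R.step0 m.e0 m.e1 m.e2 m.e3)).symm

theorem phi_mul_X1 (m : T64) :
    phi x0 x1 x2 x3 b1 b2 (m * T64.X1) = phi x0 x1 x2 x3 b1 b2 m * x1 := by
  have e : m * T64.X1 = ⟨m.e0, m.e1 + 1, m.e2, m.e3, m.f1 + (m.e1 + m.e2),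
      m.f2 + (m.e1 + m.e3)⟩ := by
    ext <;> simp [T64.X1] <;> ring
  rw [e]
  exact (R.through _ _ x1 m.f1 m.f2 _ _ (R.step1 m.e0 m.e1 m.e2 m.e3)).symm

theorem phi_mul_X2 (m : T64) :
    phi x0 x1 x2 x3 b1 b2 (m * T64.X2) = phi x0 x1 x2 x3 b1 b2 m * x2 := by
  have e : m * T64.X2 = ⟨m.e0, m.e1, m.e2 + 1, m.e3, m.f1 + (m.e2 + m.e3),
      m.f2 + m.e2⟩ := by
    ext <;> simp [T64.X2] <;> ring
  rw [e]
  exact (R.through _ _ x2 m.f1 m.f2 _ _ (R.step2 m.e0 m.e1 m.e2 m.e3)).symm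

theorem phi_mul_X3 (m : T64) :
    phi x0 x1 x2 x3 b1 b2 (m * T64.X3) = phi x0 x1 x2 x3 b1 b2 m * x3 := by
  have e : m * T64.X3 = ⟨m.e0, m.e1, m.e2, m.e3 + 1, m.f1 + m.e3, m.f2 + m.e3⟩ := by
    ext <;> simp [T64.X3]
  rw [e]
  exact (R.through _ _ x3 m.f1 m.f2 _ _ (R.step3 m.e0 m.e1 m.e2 m.e3)).symm

theorem phi_mul_B1 (m : T64) :
    phi x0 x1 x2 x3 b1 b2 (m * T64.B1) = phi x0 x1 x2 x3 b1 b2 m * b1 := by
  have e : m * T64.B1 = ⟨m.e0, m.e1, m.e2, m.e3, m.f1 + 1, m.f2 + 0⟩ := by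
    ext <;> simp [T64.B1]
  rw [e]
  exact (R.through _ _ b1 m.f1 m.f2 1 0 (by unfold Zc; rw [pw_one, pw_zero, mul_one])).symm

theorem phi_mul_B2 (m : T64) :
    phi x0 x1 x2 x3 b1 b2 (m * T64.B2) = phi x0 x1 x2 x3 b1 b2 m * b2 := by
  have e : m * T64.B2 = ⟨m.e0, m.e1, m.e2, m.e3, m.f1 + 0, m.f2 + 1⟩ := by
    ext <;> simp [T64.B2]
  rw [e]
  exact (R.through _ _ b2 m.f1 m.f2 0 1 (by unfold Zc; rw [pw_one, pw_zero, one_mul])).symm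

omit R in
theorem pw_step {X : T64} {x : T} (f : T64 → T) (h : ∀ m, f (m * X) = f m * x) (m : T64)
    (e : ZMod 2) : f (m * pw X e) = f m * pw x e := by
  rcases zmod2_cases e with rfl | rfl
  · rw [pw_zero, pw_zero, mul_one, mul_one]
  · rw [pw_one, pw_one, h]

omit R in
theorem phi_one : phi x0 x1 x2 x3 b1 b2 1 = 1 := by
  unfold phi Zc
  simp only [T64.one_e0, T64.one_e1, T64.one_e2, T64.one_e3, T64.one_f1, T64.one_f2, pw_zero,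
    mul_one]

theorem phi_mul (m m' : T64) :
    phi x0 x1 x2 x3 b1 b2 (m * m') = phi x0 x1 x2 x3 b1 b2 m * phi x0 x1 x2 x3 b1 b2 m' := by
  have h0 := pw_step (phi x0 x1 x2 x3 b1 b2) R.phi_mul_X0
  have h1 := pw_step (phi x0 x1 x2 x3 b1 b2) R.phi_mul_X1
  have h2 := pw_step (phi x0 x1 x2 x3 b1 b2) R.phi_mul_X2
  have h3 := pw_step (phi x0 x1 x2 x3 b1 b2) R.phi_mul_X3
  have h4 := pw_step (phi x0 x1 x2 x3 b1 b2) R.phi_mul_B1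
  have h5 := pw_step (phi x0 x1 x2 x3 b1 b2) R.phi_mul_B2
  have key : ∀ n : T64, phi x0 x1 x2 x3 b1 b2 (n * m') = phi x0 x1 x2 x3 b1 b2 n *
      (pw x0 m'.e0 * pw x1 m'.e1 * pw x2 m'.e2 * pw x3 m'.e3 * pw b1 m'.f1 * pw b2 m'.f2) := by
    intro n
    conv_lhs => rw [T64.nf m']
    simp only [← mul_assoc]
    rw [h5, h4, h3, h2, h1, h0]
  rw [key m]
  congr 1
  unfold phi Zc
  simp only [mul_assoc]

/-- the normal form map as a homomorphism -/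
def phiHom : T64 →* T where
  toFun := phi x0 x1 x2 x3 b1 b2
  map_one' := phi_one
  map_mul' := R.phi_mul

theorem phiHom_apply (m : T64) : R.phiHom m = phi x0 x1 x2 x3 b1 b2 m := rfl

end Rel

end Cfsg.Agent.Lib.Helper4.Cq
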