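import Mathlib
import Cfsg.Agent.Lib.Helper4.Cq4

set_option autoImplicit false
set_option linter.deprecated false
set_option linter.style.haveILetI false

/-! # S1903: the equivariant isomorphism with the model -/

namespace Cfsg.Agent.Lib.Helper4.Cq

open scoped commutatorElement
open Cfsg.Agent.Lib.Helper1 (CommCentral)
open Cfsg.Agent.Lib.Helper7.R33 (pw pw_zero pw_one zmod2_cases)

variable {T : Type*} [Group T] {α : MulAut T}

theorem map_pw {T' : Type*} [Group T'] (f : T →* T') (u : T) (a : ZMod 2) :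
    f (pw u a) = pw (f u) a := by
  rcases zmod2_cases a with rfl | rfl
  · rw [pw_zero, pw_zero, map_one]
  · rw [pw_one, pw_one]

namespace Hyp

variable (D : Hyp α)
include D

theorem shift (a b : T) : ⁅α a, α b⁆ = ⁅a, b⁆ := by
  rw [← map_commutatorElement, D.center_fixed (D.comm_mem_center a b)]

theorem exists_not_center : ∃ x : T, x ∉ Subgroup.center T := by
  by_contra h
  push Not at h
  have h1 : Subgroup.center T = ⊤ := (Subgroup.eq_top_iff' _).mpr h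
  have h2 := D.card_center
  rw [h1, Subgroup.card_top, D.card] at h2
  norm_num at h2

theorem exists_norm_one : ∃ x : T, x ∉ Subgroup.center T ∧
    x * α x * α (α x) * α (α (α x)) * α (α (α (α x))) = 1 := by
  obtain ⟨x, hx⟩ := D.exists_not_center
  obtain ⟨n, hn⟩ : ∃ n : T, n = x * α x * α (α x) * α (α (α x)) * α (α (α (α x))) := ⟨_, rfl⟩
  have hnZ : n ∈ Subgroup.center T := by
    rw [hn, ← D.commutator_eq_center]
    exact D.norm_mem x
  have hnc : ∀ g : T, n * g = g * n := fun g => (Subgroup.mem_center_iff.mp hnZ g).symm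
  have hαn : α n = n := D.center_fixed hnZ
  have hnn : n * n = 1 := D.zsq hnZ
  refine ⟨x * n, ?_, ?_⟩
  · intro h
    apply hx
    have := mul_mem h (inv_mem hnZ)
    rwa [mul_inv_cancel_right] at this
  · have pair : ∀ A y w : T, A * (y * n) * (w * n) = A * y * w := by
      intro A y w
      calc A * (y * n) * (w * n) = A * y * (n * w) * n := by simp only [mul_assoc]
        _ = A * y * (w * n) * n := by rw [hnc]
        _ = A * y * w * (n * n) := by simp only [mul_assoc]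
        _ = A * y * w := by rw [hnn, mul_one]
    have pair' : ∀ y w : T, y * n * (w * n) = y * w := by
      intro y w
      have := pair 1 y w
      rwa [one_mul, one_mul] at this
    simp only [map_mul, hαn]
    rw [pair' x (α x), pair (x * α x) (α (α x)) (α (α (α x))), ← mul_assoc, ← hn, hnn]

end Hyp

/-- the normalised generators -/
structure Gen (α : MulAut T) (x0 x1 x2 x3 x4 : T) : Prop where
  hyp : Hyp α
  h1 : α x0 = x1
  h2 : α x1 = x2
  h3 : α x2 = x3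
  h4 : α x3 = x4
  h0 : α x4 = x0
  nz : x0 ∉ Subgroup.center T
  prod : x0 * x1 * x2 * x3 * x4 = 1

theorem Hyp.exists_gen (D : Hyp α) : ∃ x0 x1 x2 x3 x4 : T, Gen α x0 x1 x2 x3 x4 := by
  obtain ⟨x, hx, hN⟩ := D.exists_norm_one
  exact ⟨x, α x, α (α x), α (α (α x)), α (α (α (α x))),
    ⟨D, rfl, rfl, rfl, rfl, D.a5 x, hx, hN⟩⟩

theorem zalg (b1 b2 q : T) (hb1 : b1 * b1 = 1) (hb2 : b2 * b2 = 1) (hq : q * q = 1) :
    b2 * b2 * b1 * (b2 * b1 * (b1 * q * q) * q) * q = b1 * b2 := by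
  rw [hb2, one_mul, mul_assoc b1 q q, hq, mul_one, mul_assoc b2 b1 b1, hb1, mul_one,
    ← mul_assoc b1, mul_assoc (b1 * b2), hq, mul_one]

namespace Gen

variable {x0 x1 x2 x3 x4 : T} (G : Gen α x0 x1 x2 x3 x4)
include G

theorem c21 : ⁅x2, x1⁆ = ⁅x1, x0⁆ := by
  calc ⁅x2, x1⁆ = ⁅α x1, α x0⁆ := by rw [G.h2, G.h1]
    _ = ⁅x1, x0⁆ := G.hyp.shift _ _

theorem c32 : ⁅x3, x2⁆ = ⁅x1, x0⁆ := by
  calc ⁅x3, x2⁆ = ⁅α x2, α x1⁆ := by rw [G.h3, G.h2]
    _ = ⁅x2, x1⁆ := G.hyp.shift _ _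
    _ = ⁅x1, x0⁆ := G.c21

theorem c43 : ⁅x4, x3⁆ = ⁅x1, x0⁆ := by
  calc ⁅x4, x3⁆ = ⁅α x3, α x2⁆ := by rw [G.h4, G.h3]
    _ = ⁅x3, x2⁆ := G.hyp.shift _ _
    _ = ⁅x1, x0⁆ := G.c32

theorem c31 : ⁅x3, x1⁆ = ⁅x2, x0⁆ := by
  calc ⁅x3, x1⁆ = ⁅α x2, α x0⁆ := by rw [G.h3, G.h1]
    _ = ⁅x2, x0⁆ := G.hyp.shift _ _

theorem c42 : ⁅x4, x2⁆ = ⁅x2, x0⁆ := by
  calc ⁅x4, x2⁆ = ⁅α x3, α x1⁆ := by rw [G.h4, G.h2]
    _ = ⁅x3, x1⁆ := G.hyp.shift _ _
    _ = ⁅x2, x0⁆ := G.c31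

theorem c30 : ⁅x3, x0⁆ = ⁅x2, x0⁆ := by
  calc ⁅x3, x0⁆ = ⁅x0, x3⁆ := G.hyp.comm_symm _ _
    _ = ⁅α x4, α x2⁆ := by rw [G.h0, G.h3]
    _ = ⁅x4, x2⁆ := G.hyp.shift _ _
    _ = ⁅x2, x0⁆ := G.c42

theorem qZ : x0 * x0 ∈ Subgroup.center T := G.hyp.sq_mem_center x0

theorem s1 : x1 * x1 = x0 * x0 := by
  rw [← G.h1, ← map_mul, G.hyp.center_fixed G.qZ]

theorem s2 : x2 * x2 = x0 * x0 := by
  rw [← G.h2, ← map_mul, G.s1, G.hyp.center_fixed G.qZ]

theorem s3 : x3 * x3 = x0 * x0 := by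
  rw [← G.h3, ← map_mul, G.s2, G.hyp.center_fixed G.qZ]

theorem s4 : x4 * x4 = x0 * x0 := by
  rw [← G.h4, ← map_mul, G.s3, G.hyp.center_fixed G.qZ]

theorem x4_eq : x4 = (x0 * x1 * x2 * x3)⁻¹ := eq_inv_of_mul_eq_one_right G.prod

theorem q_eq : x0 * x0 = ⁅x1, x0⁆ * ⁅x2, x0⁆ := by
  have D := G.hyp
  have hw : (x0 * x1 * x2 * x3) * (x0 * x1 * x2 * x3) = ⁅x1, x0⁆ * ⁅x2, x0⁆ := by
    rw [D.sq_mul (x0 * x1 * x2) x3, D.sq_mul (x0 * x1) x2, D.sq_mul x0 x1,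
      D.cc.comm_mul_right, D.cc.comm_mul_right, D.cc.comm_mul_right, G.c30, G.c31, G.c32, G.c21,
      G.s1, G.s2, G.s3]
    exact zalg _ _ _ (D.zsq (D.comm_mem_center _ _)) (D.zsq (D.comm_mem_center _ _))
      (D.zsq G.qZ)
  have h4 := G.s4
  rw [G.x4_eq] at h4
  have e : (x0 * x1 * x2 * x3)⁻¹ * (x0 * x1 * x2 * x3)⁻¹ =
      ((x0 * x1 * x2 * x3) * (x0 * x1 * x2 * x3))⁻¹ := by group
  rw [e, hw, D.zinv (mul_mem (D.comm_mem_center _ _) (D.comm_mem_center _ _))] at h4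
  exact h4.symm

theorem rel : Rel x0 x1 x2 x3 ⁅x1, x0⁆ ⁅x2, x0⁆ where
  cc := G.hyp.cc
  b1c g := (Subgroup.mem_center_iff.mp (G.hyp.comm_mem_center x1 x0) g).symm
  b2c g := (Subgroup.mem_center_iff.mp (G.hyp.comm_mem_center x2 x0) g).symm
  b1sq := G.hyp.zsq (G.hyp.comm_mem_center _ _)
  b2sq := G.hyp.zsq (G.hyp.comm_mem_center _ _)
  s0 := G.q_eq
  s1 := G.s1.trans G.q_eq
  s2 := G.s2.trans G.q_eq
  s3 := G.s3.trans G.q_eq
  c10 := rfl
  c21 := G.c21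
  c32 := G.c32
  c20 := rfl
  c31 := G.c31
  c30 := G.c30

/-- the homomorphism from the model -/
def hom : T64 →* T := G.rel.phiHom

theorem hom_apply (m : T64) : G.hom m = pw x0 m.e0 * pw x1 m.e1 * pw x2 m.e2 * pw x3 m.e3 *
    (pw ⁅x1, x0⁆ m.f1 * pw ⁅x2, x0⁆ m.f2) := rfl

theorem hom_X0 : G.hom T64.X0 = x0 := by
  rw [hom_apply]; simp [T64.X0, pw_zero, pw_one]

theorem hom_X1 : G.hom T64.X1 = x1 := by
  rw [hom_apply]; simp [T64.X1, pw_zero, pw_one]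

theorem hom_X2 : G.hom T64.X2 = x2 := by
  rw [hom_apply]; simp [T64.X2, pw_zero, pw_one]

theorem hom_X3 : G.hom T64.X3 = x3 := by
  rw [hom_apply]; simp [T64.X3, pw_zero, pw_one]

theorem hom_B1 : G.hom T64.B1 = ⁅x1, x0⁆ := by
  rw [hom_apply]; simp [T64.B1, pw_zero, pw_one]

theorem hom_B2 : G.hom T64.B2 = ⁅x2, x0⁆ := by
  rw [hom_apply]; simp [T64.B2, pw_zero, pw_one]

theorem hom_X4 : G.hom T64.X4 = x4 := by
  rw [T64.X4_eq, map_inv, map_mul, map_mul, map_mul, G.hom_X0, G.hom_X1, G.hom_X2, G.hom_X3,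
    ← G.x4_eq]

/-- equivariance -/
theorem hom_sig (m : T64) : G.hom (T64.sig m) = α (G.hom m) := by
  have D := G.hyp
  have hb1 : α ⁅x1, x0⁆ = ⁅x1, x0⁆ := D.center_fixed (D.comm_mem_center _ _)
  have hb2 : α ⁅x2, x0⁆ = ⁅x2, x0⁆ := D.center_fixed (D.comm_mem_center _ _)
  have e1 : G.hom (T64.sig m) = pw x1 m.e0 * pw x2 m.e1 * pw x3 m.e2 * pw x4 m.e3 *
      pw ⁅x1, x0⁆ m.f1 * pw ⁅x2, x0⁆ m.f2 := by
    unfold T64.sig
    simp only [map_mul, map_pw, G.hom_X1, G.hom_X2, G.hom_X3, G.hom_X4, G.hom_B1, G.hom_B2]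
  have e2 : α (G.hom m) = pw x1 m.e0 * pw x2 m.e1 * pw x3 m.e2 * pw x4 m.e3 *
      (pw ⁅x1, x0⁆ m.f1 * pw ⁅x2, x0⁆ m.f2) := by
    rw [hom_apply]
    have hα : ∀ (u : T) (a : ZMod 2), α (pw u a) = pw (α u) a := fun u a =>
      map_pw (α : T →* T) u a
    simp only [map_mul, hα, G.h1, G.h2, G.h3, G.h4, hb1, hb2]
  rw [e1, e2]
  simp only [mul_assoc]

theorem hom_surjective : Function.Surjective G.hom := by
  have D := G.hyp
  haveI := D.fin
  -- the range is invariant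
  have hRinv : ∀ y ∈ G.hom.range, α y ∈ G.hom.range := by
    rintro y ⟨m, rfl⟩
    exact ⟨T64.sig m, G.hom_sig m⟩
  let S : Subgroup T := G.hom.range ⊔ Subgroup.center T
  have hSmem : ∀ y : T, y ∈ S ↔ ∃ r ∈ G.hom.range, ∃ z ∈ Subgroup.center T, r * z = y := by
    intro y
    show y ∈ ((G.hom.range ⊔ Subgroup.center T : Subgroup T) : Set T) ↔ _
    rw [Subgroup.mul_normal]
    exact Set.mem_mul
  have hSinv : ∀ y ∈ S, α y ∈ S := by
    intro y hy
    obtain ⟨r, hr, z, hz, rfl⟩ := (hSmem y).mp hy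
    rw [map_mul]
    exact (hSmem _).mpr ⟨α r, hRinv r hr, α z, Hyp.center_inv hz, rfl⟩
  have hZS : Subgroup.center T ≤ S := le_sup_right
  have h1 := card_modEq_fix α D.pow5 S hSinv
  have h2 : S ⊓ fixS α = Subgroup.center T := by
    rw [D.fix_eq_center]
    exact inf_eq_right.mpr hZS
  rw [h2, D.card_center] at h1
  have h3 : Nat.card ↥S ∣ 64 := by
    rw [← D.card]
    exact Subgroup.card_subgroup_dvd_card _
  have hStop : S = ⊤ := by
    rcases dvd64_mod5 h3 h1 with h4 | h4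
    · exfalso
      have h5 : S = Subgroup.center T :=
        (Subgroup.eq_of_le_of_card_ge hZS (by rw [h4, D.card_center])).symm
      apply G.nz
      rw [← h5]
      exact (le_sup_left : G.hom.range ≤ S) ⟨T64.X0, G.hom_X0⟩
    · exact Subgroup.eq_top_of_card_eq _ (by rw [h4, D.card])
  -- all commutators lie in the range
  have hcomm : ∀ a b : T, ⁅a, b⁆ ∈ G.hom.range := by
    intro a b
    have ha : a ∈ S := by rw [hStop]; exact Subgroup.mem_top _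
    have hb : b ∈ S := by rw [hStop]; exact Subgroup.mem_top _
    obtain ⟨r, hr, z, hz, rfl⟩ := (hSmem a).mp ha
    obtain ⟨r', hr', z', hz', rfl⟩ := (hSmem b).mp hb
    have hz1 : ∀ w : T, ⁅z, w⁆ = 1 := fun w =>
      commutatorElement_eq_one_iff_mul_comm.mpr (Subgroup.mem_center_iff.mp hz w).symm
    have hz2 : ∀ w : T, ⁅w, z'⁆ = 1 := fun w =>
      commutatorElement_eq_one_iff_mul_comm.mpr (Subgroup.mem_center_iff.mp hz' w)
    rw [D.cc.comm_mul_left, D.cc.comm_mul_right, D.cc.comm_mul_right, hz1, hz1, hz2, mul_one,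
      mul_one, mul_one]
    rw [commutatorElement_def]
    exact mul_mem (mul_mem (mul_mem hr hr') (inv_mem hr)) (inv_mem hr')
  have hZR : Subgroup.center T ≤ G.hom.range := by
    rw [← D.commutator_eq_center, commutator_def, Subgroup.commutator_le]
    intro a _ b _
    exact hcomm a b
  have hR : G.hom.range = ⊤ := by
    rw [← hStop]
    exact (sup_eq_left.mpr hZR).symm
  exact MonoidHom.range_eq_top.mp hR

end Gen

/-- the equivariant isomorphism with the model -/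
theorem Hyp.exists_equiv (D : Hyp α) :
    ∃ φ : T64 ≃* T, ∀ m : T64, φ (T64.sig m) = α (φ m) := by
  obtain ⟨x0, x1, x2, x3, x4, G⟩ := D.exists_gen
  have hbij : Function.Bijective G.hom :=
    (Nat.bijective_iff_surjective_and_card G.hom).mpr
      ⟨G.hom_surjective, by rw [T64.card_eq, D.card]⟩
  exact ⟨MulEquiv.ofBijective G.hom hbij, fun m => G.hom_sig m⟩

end Cfsg.Agent.Lib.Helper4.Cq
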