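import Mathlib
import Cfsg.Agent.Lib.Helper4.Cq5

set_option autoImplicit false
set_option linter.deprecated false
set_option linter.style.haveILetI false

/-! # S1903: a group of order 320 with derived subgroup of order 64 and Klein four centre
is the model -/

namespace Cfsg.Agent.Lib.Helper4.Cq

open scoped commutatorElement

variable {G : Type*} [Group G] [Finite G]

/-- the hypotheses hold for the derived subgroup and conjugation by an element of order five -/
theorem hyp_of_group (hG : Nat.card G = 320) (hD : Nat.card (commutator G) = 64)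
    (hZ : IsKleinFour (Subgroup.center (commutator G))) (g : G) (hg : orderOf g = 5) :
    Hyp (MulAut.conjNormal g : MulAut ↥(commutator G)) := by
  have hsup : commutator G ⊔ Subgroup.zpowers g = ⊤ := by
    have hc : (commutator G).IsComplement' (Subgroup.zpowers g) :=
      Subgroup.isComplement'_of_coprime (by rw [hD, Nat.card_zpowers, hg, hG])
        (by rw [hD, Nat.card_zpowers, hg]; norm_num)
    exact hc.sup_eq_top
  refine ⟨hD, ?_, hZ, ?_⟩
  · rw [← map_pow, ← hg, pow_orderOf_eq_one, map_one]
  · intro N hN hNα hNc hNx
    -- the image of `N` in `G`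
    let M : Subgroup G := N.map (commutator G).subtype
    have hM : ∀ y : G, y ∈ M ↔ ∃ n ∈ N, (n : G) = y := fun y => Subgroup.mem_map
    have hMle : M ≤ commutator G := by
      intro y hy
      obtain ⟨n, _, rfl⟩ := (hM y).mp hy
      exact n.2
    have hMnorm : M.Normal := by
      rw [← Subgroup.normalizer_eq_top_iff, eq_top_iff, ← hsup, sup_le_iff]
      constructor
      · intro t ht
        apply Subgroup.mem_normalizer_fintype
        intro y hy
        obtain ⟨n, hn, rfl⟩ := (hM y).mp hy
        exact (hM _).mpr ⟨⟨t, ht⟩ * n * ⟨t, ht⟩⁻¹, hN.conj_mem n hn ⟨t, ht⟩, rfl⟩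
      · rw [Subgroup.zpowers_le]
        apply Subgroup.mem_normalizer_fintype
        intro y hy
        obtain ⟨n, hn, rfl⟩ := (hM y).mp hy
        exact (hM _).mpr ⟨MulAut.conjNormal g n, hNα n hn, MulAut.conjNormal_apply g n⟩
    -- the quotient is commutative
    have hclos : Subgroup.closure ((commutator G : Set G) ∪ {g}) = ⊤ := by
      rw [Subgroup.closure_union, Subgroup.closure_eq, ← Subgroup.zpowers_eq_closure, hsup]
    have hcomm : ∀ a b : G, Commute (a : G ⧸ M) (b : G ⧸ M) := by
      intro a b
      have ha : a ∈ Subgroup.closure ((commutator G : Set G) ∪ {g}) := by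
        rw [hclos]; exact Subgroup.mem_top _
      have hb : b ∈ Subgroup.closure ((commutator G : Set G) ∪ {g}) := by
        rw [hclos]; exact Subgroup.mem_top _
      induction ha, hb using Subgroup.closure_induction₂ with
      | mem x y hx hy =>
        -- generators commute modulo `M`
        have key : ⁅x, y⁆ ∈ M := by
          rcases hx with hx | hx <;> rcases hy with hy | hy
          · exact (hM _).mpr ⟨⁅⟨x, hx⟩, ⟨y, hy⟩⁆, hNc _ _, rfl⟩
          · rw [Set.mem_singleton_iff] at hy
            subst hy
            -- `⁅x, g⁆ = x * (g x⁻¹ g⁻¹)`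
            have h1 := hNx (⟨x, hx⟩⁻¹ : ↥(commutator G))
            rw [inv_inv] at h1
            refine (hM _).mpr ⟨_, h1, ?_⟩
            rw [Subgroup.coe_mul, MulAut.conjNormal_apply, commutatorElement_def]
            simp only [Subgroup.coe_inv, mul_assoc]
          · rw [Set.mem_singleton_iff] at hx
            subst hx
            have h1 := hN.conj_mem _ (hNx (⟨y, hy⟩ : ↥(commutator G))) ⟨y, hy⟩
            refine (hM _).mpr ⟨_, h1, ?_⟩
            rw [Subgroup.coe_mul, Subgroup.coe_mul, Subgroup.coe_mul, MulAut.conjNormal_apply,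
              commutatorElement_def]
            simp only [Subgroup.coe_inv]
            group
          · rw [Set.mem_singleton_iff] at hx hy
            subst hx
            subst hy
            rw [commutatorElement_self]
            exact one_mem _
        have h2 : ((⁅x, y⁆ : G) : G ⧸ M) = 1 := (QuotientGroup.eq_one_iff _).mpr key
        rw [commutatorElement_def] at h2
        have h3 : (x : G ⧸ M) * y * (x : G ⧸ M)⁻¹ * (y : G ⧸ M)⁻¹ = 1 := h2
        show (x : G ⧸ M) * y = y * x
        have h4 := congrArg (fun q => q * (y : G ⧸ M) * (x : G ⧸ M)) h3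
        simp only [inv_mul_cancel_right, one_mul] at h4
        exact h4
      | one_left x hx => exact Commute.one_left _
      | one_right x hx => exact Commute.one_right _
      | mul_left x y z hx hy hz h1 h2 => exact Commute.mul_left h1 h2
      | mul_right y z x hy hz hx h1 h2 => exact Commute.mul_right h1 h2
      | inv_left x y hx hy h => exact Commute.inv_left h
      | inv_right x y hx hy h => exact Commute.inv_right h
    have hle : commutator G ≤ M := by
      rw [← Subgroup.Normal.quotient_commutative_iff_commutator_le]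
      refine ⟨⟨fun a b => ?_⟩⟩
      obtain ⟨a, rfl⟩ := QuotientGroup.mk_surjective a
      obtain ⟨b, rfl⟩ := QuotientGroup.mk_surjective b
      exact (hcomm a b).eq
    rw [eq_top_iff]
    intro t _
    obtain ⟨n, hn, hnt⟩ := (hM _).mp (hle t.2)
    have : n = t := Subtype.ext hnt
    rw [← this]
    exact hn

/-- the structure theorem: the group is the model -/
theorem model_iso (hG : Nat.card G = 320) (hD : Nat.card (commutator G) = 64)
    (hZ : IsKleinFour (Subgroup.center (commutator G))) : Nonempty (G320 ≃* G) := by
  haveI : Fact (Nat.Prime 5) := ⟨by norm_num⟩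
  obtain ⟨g, hg⟩ := exists_prime_orderOf_dvd_card' (G := G) 5 (by rw [hG]; norm_num)
  have D := hyp_of_group hG hD hZ g hg
  obtain ⟨φ, hφ⟩ := D.exists_equiv
  have hsup : commutator G ⊔ Subgroup.zpowers g = ⊤ := by
    have hc : (commutator G).IsComplement' (Subgroup.zpowers g) :=
      Subgroup.isComplement'_of_coprime (by rw [hD, Nat.card_zpowers, hg, hG])
        (by rw [hD, Nat.card_zpowers, hg]; norm_num)
    exact hc.sup_eq_top
  have hg5 : g ^ 5 = 1 := by rw [← hg, pow_orderOf_eq_one]
  let f : T64 →* G := (commutator G).subtype.comp φ.toMonoidHom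
  have hc : ∀ m : T64, f (T64.sig m) = g * f m * g⁻¹ := by
    intro m
    show ((φ (T64.sig m) : ↥(commutator G)) : G) = g * ((φ m : ↥(commutator G)) : G) * g⁻¹
    rw [hφ, MulAut.conjNormal_apply]
  let Ψ : G320 →* G := liftHom f g hg5 hc
  have hsurj : Function.Surjective Ψ := by
    rw [← MonoidHom.range_eq_top, eq_top_iff, ← hsup, sup_le_iff]
    constructor
    · intro t ht
      refine ⟨SemidirectProduct.inl (φ.symm ⟨t, ht⟩), ?_⟩
      show liftHom f g hg5 hc _ = t
      rw [liftHom_inl]
      show ((φ (φ.symm ⟨t, ht⟩) : ↥(commutator G)) : G) = t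
      rw [MulEquiv.apply_symm_apply]
    · rw [Subgroup.zpowers_le]
      exact ⟨SemidirectProduct.inr (Multiplicative.ofAdd 1), liftHom_inr_gen f g hg5 hc⟩
  haveI : Finite G320 := Nat.finite_of_card_ne_zero (by rw [card_G320]; norm_num)
  have hbij : Function.Bijective Ψ :=
    (Nat.bijective_iff_surjective_and_card Ψ).mpr ⟨hsurj, by rw [card_G320, hG]⟩
  exact ⟨MulEquiv.ofBijective Ψ hbij⟩

end Cfsg.Agent.Lib.Helper4.Cq
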