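import Mathlib
import Cfsg.Agent.Lib.Helper4.Cq2
import Cfsg.Agent.Lib.Helper7.R33f

set_option autoImplicit false
set_option maxRecDepth 100000

/-! # S1903: the model inside `SU₃(4)` -/

namespace Cfsg.Agent.Lib.Helper4.Cq

open Cfsg.Agent.Lib.Helper3.PG Matrix
open Cfsg.Agent.Lib.Helper7.R33 (b2 gM gM_mul gM_zero gM_det Pm Pi Pi_Pm Pm_Pi hF16)

/-- first coordinate -/
def aT (m : T64) : K16 :=
  b2 m.e0 * K16.k 1 + b2 m.e1 * K16.k 8 + b2 m.e2 * K16.k 12 + b2 m.e3 * K16.k 10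

/-- second coordinate -/
def cT (m : T64) : K16 :=
  (b2 m.e0 + b2 m.e1 + b2 m.e2 + b2 m.e3) * K16.k 2 +
    b2 m.e0 * b2 m.e1 * K16.k 15 + b2 m.e0 * b2 m.e2 * K16.k 10 + b2 m.e0 * b2 m.e3 * K16.k 12 +
    b2 m.e1 * b2 m.e2 * K16.k 15 + b2 m.e1 * b2 m.e3 * K16.k 10 + b2 m.e2 * b2 m.e3 * K16.k 15 +
    b2 m.f1 * K16.k 7 + b2 m.f2 * K16.k 6

theorem aT_mul : ∀ m m' : T64, aT (m * m') = aT m + aT m' := by decide +kernel

theorem cT_mul : ∀ m m' : T64, cT (m * m') = cT m + cT m' + aT m * (aT m') ^ 4 := by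
  decide +kernel

theorem aT_one : aT 1 = 0 := by decide +kernel

theorem cT_one : cT 1 = 0 := by decide +kernel

theorem acT_inj : ∀ m : T64, aT m = 0 → cT m = 0 → m = 1 := by decide +kernel

/-- the embedding on matrices -/
def embT (m : T64) : Matrix (Fin 3) (Fin 3) K16 := Pm * gM (aT m) (cT m) * Pi

theorem embT_mul (m m' : T64) : embT (m * m') = embT m * embT m' := by
  unfold embT
  rw [aT_mul, cT_mul, ← gM_mul]
  calc Pm * (gM (aT m) (cT m) * gM (aT m') (cT m')) * Pi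
      = Pm * gM (aT m) (cT m) * 1 * (gM (aT m') (cT m') * Pi) := by
        simp only [Matrix.mul_assoc, Matrix.mul_one]
    _ = Pm * gM (aT m) (cT m) * (Pi * Pm) * (gM (aT m') (cT m') * Pi) := by rw [Pi_Pm]
    _ = Pm * gM (aT m) (cT m) * Pi * (Pm * gM (aT m') (cT m') * Pi) := by
        simp only [Matrix.mul_assoc]

theorem embT_one : embT 1 = 1 := by
  unfold embT
  rw [aT_one, cT_one, gM_zero, Matrix.mul_one, Pm_Pi]

theorem embT_det (m : T64) : (embT m).det = 1 := by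
  unfold embT
  rw [Matrix.det_mul, Matrix.det_mul, gM_det, mul_one, ← Matrix.det_mul, Pm_Pi, Matrix.det_one]

theorem embT_unitary : ∀ m : T64, (embT m)ᵀ * (embT m).map (· ^ 4) = 1 := by decide +kernel

/-- the diagonal element of order five, before the change of basis -/
def d0 : Matrix (Fin 3) (Fin 3) K16 :=
  !![K16.k 12, K16.k 0, K16.k 0; K16.k 0, K16.k 8, K16.k 0; K16.k 0, K16.k 0, K16.k 12]

/-- the element of order five -/
def dM : Matrix (Fin 3) (Fin 3) K16 := Pm * d0 * Pi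

theorem dM_pow : dM * dM * dM * dM * dM = 1 := by decide +kernel

theorem dM_unitary : dMᵀ * dM.map (· ^ 4) = 1 := by decide +kernel

theorem d0_det : d0.det = 1 := by
  rw [Matrix.det_fin_three]
  decide +kernel

theorem dM_det : dM.det = 1 := by
  unfold dM
  rw [Matrix.det_mul, Matrix.det_mul, d0_det, mul_one, ← Matrix.det_mul, Pm_Pi, Matrix.det_one]

theorem embT_sig : ∀ m : T64, embT (T64.sig m) * dM = dM * embT m := by decide +kernel

theorem inj320 : ∀ (m : T64) (c : ZMod 5), embT m * dM ^ c.val = 1 → m = 1 ∧ c = 0 := by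
  decide +kernel

/-- into `SL₃` -/
def embTSL : T64 →* SpecialLinearGroup (Fin 3) K16 where
  toFun m := ⟨embT m, embT_det m⟩
  map_one' := Subtype.ext embT_one
  map_mul' m m' := Subtype.ext (embT_mul m m')

/-- into `SU₃` -/
def embTSU : T64 →* ↥(Cfsg.SU 3 K16 4) :=
  embTSL.codRestrict (Cfsg.SU 3 K16 4)
    (fun m => (Cfsg.Agent.Lib.Helper5.HermCenter.mem_SU_iff hF16 _).mpr (embT_unitary m))

theorem embTSU_coe (m : T64) :
    (((embTSU m : ↥(Cfsg.SU 3 K16 4)) : SpecialLinearGroup (Fin 3) K16) :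
      Matrix (Fin 3) (Fin 3) K16) = embT m := rfl

/-- the element of order five in `SU₃` -/
def dSU : ↥(Cfsg.SU 3 K16 4) :=
  ⟨⟨dM, dM_det⟩, (Cfsg.Agent.Lib.Helper5.HermCenter.mem_SU_iff hF16 _).mpr dM_unitary⟩

theorem dSU_coe : ((dSU : SpecialLinearGroup (Fin 3) K16) : Matrix (Fin 3) (Fin 3) K16) = dM := rfl

/-- matrices of elements of `SU₃` -/
def matOf (γ : ↥(Cfsg.SU 3 K16 4)) : Matrix (Fin 3) (Fin 3) K16 :=
  ((γ : SpecialLinearGroup (Fin 3) K16) : Matrix (Fin 3) (Fin 3) K16)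

theorem matOf_mul (γ δ : ↥(Cfsg.SU 3 K16 4)) : matOf (γ * δ) = matOf γ * matOf δ := rfl

theorem matOf_one : matOf 1 = 1 := rfl

theorem matOf_injective : Function.Injective matOf := by
  intro γ δ h
  apply Subtype.ext
  apply Subtype.ext
  exact h

theorem matOf_pow (γ : ↥(Cfsg.SU 3 K16 4)) (k : ℕ) : matOf (γ ^ k) = matOf γ ^ k := by
  induction k with
  | zero => rfl
  | succ k ih => rw [pow_succ, pow_succ, matOf_mul, ih]

theorem dSU_pow : dSU ^ 5 = 1 := by
  apply matOf_injective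
  rw [matOf_pow, matOf_one]
  have : matOf dSU = dM := rfl
  rw [this]
  have e : dM ^ 5 = dM * dM * dM * dM * dM := by
    simp only [pow_succ, pow_zero, one_mul]
  rw [e, dM_pow]

theorem embTSU_sig (m : T64) : embTSU (T64.sig m) = dSU * embTSU m * dSU⁻¹ := by
  rw [eq_mul_inv_iff_mul_eq]
  apply matOf_injective
  rw [matOf_mul, matOf_mul]
  exact embT_sig m

/-- the model in `SU₃(4)` -/
def emb320 : G320 →* ↥(Cfsg.SU 3 K16 4) := liftHom embTSU dSU dSU_pow embTSU_sig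

theorem emb320_injective : Function.Injective emb320 := by
  rw [injective_iff_map_eq_one]
  intro x hx
  have h1 : matOf (emb320 x) = 1 := by rw [hx]; rfl
  have h2 : emb320 x = embTSU x.left * dSU ^ (Multiplicative.toAdd x.right).val :=
    liftHom_apply _ _ _ _ x
  rw [h2, matOf_mul, matOf_pow] at h1
  obtain ⟨h3, h4⟩ := inj320 x.left (Multiplicative.toAdd x.right) h1
  apply SemidirectProduct.ext
  · rw [h3]; rfl
  · exact h4

end Cfsg.Agent.Lib.Helper4.Cq
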