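import Mathlib
import Cfsg.Agent.Lib.Helper4.Cq7

set_option autoImplicit false
set_option maxRecDepth 100000

/-! # S1903: the centralizer of the central involution has order at most 320 -/

namespace Cfsg.Agent.Lib.Helper4.Cq

open Cfsg.Agent.Lib.Helper3.PG Matrix
open Cfsg.Agent.Lib.Helper7.R33 (gM Pm Pi Pi_Pm Pm_Pi hF16 frob4_add)

/-- Frobenius squared as a ring homomorphism -/
def fr4 : K16 →+* K16 where
  toFun x := x ^ 4
  map_one' := one_pow 4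
  map_mul' x y := mul_pow x y 4
  map_zero' := zero_pow (by norm_num)
  map_add' := frob4_add

/-- the Gram matrix of the hermitian form in the new basis -/
def Jm : Matrix (Fin 3) (Fin 3) K16 := !![0, 0, 1; 0, 1, 0; 1, 0, 0]

theorem J_eq : Pmᵀ * Pm.map fr4 = Jm := by decide +kernel

/-- the central involution, as a matrix -/
def tM : Matrix (Fin 3) (Fin 3) K16 := embT T64.B1

theorem tM_eq : tM = Pm * gM 0 (K16.k 7) * Pi := by
  have h1 : aT T64.B1 = 0 := by decide +kernel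
  have h2 : cT T64.B1 = K16.k 7 := by decide +kernel
  unfold tM embT
  rw [h1, h2]

theorem k7_ne : K16.k 7 ≠ 0 := by decide +kernel

theorem fa : ∀ p r : K16, p * p ^ 4 = 1 → p * r * p = 1 → r = p ^ 3 := by decide +kernel

theorem fb : ∀ p x w : K16, p * p ^ 4 = 1 → x * p ^ 4 + p ^ 3 * w ^ 4 = 0 →
    w = (x * p) ^ 4 ∧ w * w ^ 4 = x ^ 5 := by decide +kernel

/-- the parameter set -/
def Pset : Finset (K16 × K16 × K16) :=
  Finset.univ.filter (fun v => v.1 ^ 5 = 1 ∧ v.2.2 * v.1 ^ 4 + v.2.1 ^ 5 + v.1 * v.2.2 ^ 4 = 0)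

theorem Pset_card : Pset.card = 320 := by decide +kernel

theorem analysis (A : Matrix (Fin 3) (Fin 3) K16) (hdet : A.det = 1)
    (hU : Aᵀ * A.map (· ^ 4) = 1) (hc : tM * A = A * tM) :
    (Pi * A * Pm) 1 0 = 0 ∧ (Pi * A * Pm) 2 0 = 0 ∧ (Pi * A * Pm) 2 1 = 0 ∧
    (Pi * A * Pm) 2 2 = (Pi * A * Pm) 0 0 ∧ (Pi * A * Pm) 1 1 = (Pi * A * Pm) 0 0 ^ 3 ∧
    (Pi * A * Pm) 1 2 = ((Pi * A * Pm) 0 1 * (Pi * A * Pm) 0 0) ^ 4 ∧
    (Pi * A * Pm) 0 0 ^ 5 = 1 ∧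
    (Pi * A * Pm) 0 2 * (Pi * A * Pm) 0 0 ^ 4 + (Pi * A * Pm) 0 1 ^ 5 +
      (Pi * A * Pm) 0 0 * (Pi * A * Pm) 0 2 ^ 4 = 0 := by
  obtain ⟨h, hh⟩ : ∃ h, h = Pi * A * Pm := ⟨_, rfl⟩
  rw [← hh]
  have hPh : Pm * h = A * Pm := by
    rw [hh, ← Matrix.mul_assoc, ← Matrix.mul_assoc, Pm_Pi, Matrix.one_mul]
  -- commutation with the transvection
  have hN : h * gM 0 (K16.k 7) = gM 0 (K16.k 7) * h := by
    calc h * gM 0 (K16.k 7) = Pi * A * Pm * gM 0 (K16.k 7) * (Pi * Pm) := by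
          rw [Pi_Pm, Matrix.mul_one, hh]
      _ = Pi * (A * (Pm * gM 0 (K16.k 7) * Pi)) * Pm := by simp only [Matrix.mul_assoc]
      _ = Pi * ((Pm * gM 0 (K16.k 7) * Pi) * A) * Pm := by rw [← tM_eq, hc]
      _ = (Pi * Pm) * gM 0 (K16.k 7) * (Pi * A * Pm) := by simp only [Matrix.mul_assoc]
      _ = gM 0 (K16.k 7) * h := by rw [Pi_Pm, Matrix.one_mul, hh]
  have key : ∀ i j, (h * gM 0 (K16.k 7)) i j = (gM 0 (K16.k 7) * h) i j := fun i j => by rw [hN]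
  have e10 : h 1 0 = 0 := by
    have e := key 1 2
    simp [Matrix.mul_apply, Fin.sum_univ_three, gM, k7_ne] at e
    exact e
  have e20 : h 2 0 = 0 := by
    have e := key 2 2
    simp [Matrix.mul_apply, Fin.sum_univ_three, gM, k7_ne] at e
    exact e
  have e21 : h 2 1 = 0 := by
    have e := key 0 1
    simp [Matrix.mul_apply, Fin.sum_univ_three, gM, k7_ne] at e
    exact e
  have e22 : h 2 2 = h 0 0 := by
    have e := key 0 2
    simp [Matrix.mul_apply, Fin.sum_univ_three, gM] at e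
    have e' : K16.k 7 * (h 0 0 - h 2 2) = 0 := by linear_combination e
    rcases mul_eq_zero.mp e' with e'' | e''
    · exact absurd e'' k7_ne
    · exact (sub_eq_zero.mp e'').symm
  have hUf : Aᵀ * A.map fr4 = 1 := hU
  have hJ : hᵀ * Jm * h.map fr4 = Jm := by
    calc hᵀ * Jm * h.map fr4 = hᵀ * (Pmᵀ * Pm.map fr4) * h.map fr4 := by rw [J_eq]
      _ = (Pm * h)ᵀ * (Pm * h).map fr4 := by
        rw [Matrix.transpose_mul, Matrix.map_mul]; simp only [Matrix.mul_assoc]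
      _ = (A * Pm)ᵀ * (A * Pm).map fr4 := by rw [hPh]
      _ = Pmᵀ * (Aᵀ * A.map fr4) * Pm.map fr4 := by
        rw [Matrix.transpose_mul, Matrix.map_mul]; simp only [Matrix.mul_assoc]
      _ = Jm := by rw [hUf, Matrix.mul_one, J_eq]
  have keyJ : ∀ i j, (hᵀ * Jm * h.map fr4) i j = Jm i j := fun i j => by rw [hJ]
  have u02 := keyJ 0 2
  have u11 := keyJ 1 1
  have u12 := keyJ 1 2
  have u22 := keyJ 2 2
  simp [Matrix.mul_apply, Fin.sum_univ_three, Jm, e10, e20, e21, e22, fr4] at u02 u11 u12 u22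
  have hdh : h.det = 1 := by
    rw [hh, Matrix.det_mul, Matrix.det_mul, hdet, mul_one, ← Matrix.det_mul, Pi_Pm, Matrix.det_one]
  rw [Matrix.det_fin_three] at hdh
  simp [e10, e20, e21, e22] at hdh
  have h11 : h 1 1 = h 0 0 ^ 3 := fa _ _ u02 hdh
  have u12' : h 0 1 * h 0 0 ^ 4 + h 0 0 ^ 3 * h 1 2 ^ 4 = 0 := by
    rw [h11] at u12
    rw [add_comm]
    exact u12
  obtain ⟨h12, hw5⟩ := fb _ _ _ u02 u12'
  refine ⟨e10, e20, e21, e22, h11, h12, ?_, ?_⟩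
  · rw [pow_succ']
    exact u02
  · rw [hw5] at u22
    rw [← u22]
    ring

/-- the matrix is determined by three parameters -/
theorem analysis_eq (A : Matrix (Fin 3) (Fin 3) K16) (hdet : A.det = 1)
    (hU : Aᵀ * A.map (· ^ 4) = 1) (hc : tM * A = A * tM) :
    A = Pm * !![(Pi * A * Pm) 0 0, (Pi * A * Pm) 0 1, (Pi * A * Pm) 0 2;
      0, (Pi * A * Pm) 0 0 ^ 3, ((Pi * A * Pm) 0 1 * (Pi * A * Pm) 0 0) ^ 4;
      0, 0, (Pi * A * Pm) 0 0] * Pi := by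
  obtain ⟨e10, e20, e21, e22, e11, e12, -, -⟩ := analysis A hdet hU hc
  have h1 : !![(Pi * A * Pm) 0 0, (Pi * A * Pm) 0 1, (Pi * A * Pm) 0 2;
      0, (Pi * A * Pm) 0 0 ^ 3, ((Pi * A * Pm) 0 1 * (Pi * A * Pm) 0 0) ^ 4;
      0, 0, (Pi * A * Pm) 0 0] = Pi * A * Pm := by
    ext i j
    fin_cases i <;> fin_cases j
    · rfl
    · rfl
    · rfl
    · exact e10.symm
    · exact e11.symm
    · exact e12.symm
    · exact e20.symm
    · exact e21.symm
    · exact e22.symm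
  rw [h1]
  calc A = (Pm * Pi) * A * (Pm * Pi) := by rw [Pm_Pi, Matrix.one_mul, Matrix.mul_one]
    _ = Pm * (Pi * A * Pm) * Pi := by simp only [Matrix.mul_assoc]

/-- the centralizer of the central involution has order at most 320 -/
theorem card_centralizer_le (t : ↥(Cfsg.SU 3 K16 4)) (ht : matOf t = tM) :
    Nat.card ↥(Subgroup.centralizer ({t} : Set ↥(Cfsg.SU 3 K16 4))) ≤ 320 := by
  have hfacts : ∀ γ : ↥(Subgroup.centralizer ({t} : Set ↥(Cfsg.SU 3 K16 4))),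
      (matOf γ.1).det = 1 ∧ (matOf γ.1)ᵀ * (matOf γ.1).map (· ^ 4) = 1 ∧
        tM * matOf γ.1 = matOf γ.1 * tM := by
    intro γ
    refine ⟨γ.1.1.2, (Cfsg.Agent.Lib.Helper5.HermCenter.mem_SU_iff hF16 _).mp γ.1.2, ?_⟩
    have h1 := Subgroup.mem_centralizer_iff.mp γ.2 t (Set.mem_singleton t)
    rw [← ht, ← matOf_mul, ← matOf_mul, h1]
  let F : ↥(Subgroup.centralizer ({t} : Set ↥(Cfsg.SU 3 K16 4))) → {v // v ∈ Pset} := fun γ =>
    ⟨((Pi * matOf γ.1 * Pm) 0 0, (Pi * matOf γ.1 * Pm) 0 1, (Pi * matOf γ.1 * Pm) 0 2), by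
      obtain ⟨hd, hu, hc⟩ := hfacts γ
      obtain ⟨-, -, -, -, -, -, h5, h6⟩ := analysis _ hd hu hc
      unfold Pset
      rw [Finset.mem_filter]
      exact ⟨Finset.mem_univ _, h5, h6⟩⟩
  have hF : Function.Injective F := by
    intro γ γ' hγ
    have h0 : ((Pi * matOf γ.1 * Pm) 0 0, (Pi * matOf γ.1 * Pm) 0 1, (Pi * matOf γ.1 * Pm) 0 2) =
        ((Pi * matOf γ'.1 * Pm) 0 0, (Pi * matOf γ'.1 * Pm) 0 1, (Pi * matOf γ'.1 * Pm) 0 2) :=
      congrArg Subtype.val hγ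
    have h00 : (Pi * matOf γ.1 * Pm) 0 0 = (Pi * matOf γ'.1 * Pm) 0 0 := congrArg Prod.fst h0
    have h01 : (Pi * matOf γ.1 * Pm) 0 1 = (Pi * matOf γ'.1 * Pm) 0 1 :=
      congrArg (fun v => v.2.1) h0
    have h02 : (Pi * matOf γ.1 * Pm) 0 2 = (Pi * matOf γ'.1 * Pm) 0 2 :=
      congrArg (fun v => v.2.2) h0
    obtain ⟨hd, hu, hc⟩ := hfacts γ
    obtain ⟨hd', hu', hc'⟩ := hfacts γ'
    have e1 := analysis_eq _ hd hu hc
    have e2 := analysis_eq _ hd' hu' hc'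
    rw [h00, h01, h02] at e1
    apply Subtype.ext
    apply matOf_injective
    rw [e1]
    exact e2.symm
  have h1 := Nat.card_le_card_of_injective F hF
  rw [Nat.card_eq_fintype_card (α := {v // v ∈ Pset}), Fintype.card_coe, Pset_card] at h1
  exact h1

end Cfsg.Agent.Lib.Helper4.Cq
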