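import Mathlib
import Cfsg.Agent.Lib.Helper7.R33g
import Cfsg.Agent.Lib.Helper3.PG2
import Cfsg.Agent.Lib.Helper5.HermCenter

set_option autoImplicit false

/-! # Transfer of `PSU₃(4)` between fields of order 16 and its Sylow 2-subgroups (for S1237) -/

namespace Cfsg.Agent.Lib.Helper4.Tw

open Cfsg.Agent.Lib.Helper5.HermCenter (IsU)

section transfer

variable {F K : Type*} [Field F] [Fintype F] [Field K] [Fintype K]

omit [Fintype F] [Fintype K] in
theorem isU_map {n q : ℕ} (f : F →+* K) (M : Matrix (Fin n) (Fin n) F) (h : IsU q M) :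
    IsU q (M.map f) := by
  unfold IsU at *
  have h1 : (M.map f).map (· ^ q) = (M.map (· ^ q)).map f := by
    ext i j
    simp [Matrix.map_apply, map_pow]
  rw [h1, ← Matrix.transpose_map, ← Matrix.map_mul, h, Matrix.map_one f (map_zero f) (map_one f)]

theorem map_mem_SU16 (hF : Fintype.card F = 4 ^ 2) (hK : Fintype.card K = 4 ^ 2) (f : F →+* K)
    {g : Matrix.SpecialLinearGroup (Fin 3) F} (hg : g ∈ Cfsg.SU 3 F 4) :
    Matrix.SpecialLinearGroup.map f g ∈ Cfsg.SU 3 K 4 := by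
  rw [Cfsg.Agent.Lib.Helper5.HermCenter.mem_SU_iff hK]
  rw [Cfsg.Agent.Lib.Helper5.HermCenter.mem_SU_iff hF] at hg
  exact isU_map f (g : Matrix (Fin 3) (Fin 3) F) hg

/-- A field isomorphism induces an isomorphism of the groups `SU₃(4)`. -/
noncomputable def suEquiv16 (hF : Fintype.card F = 4 ^ 2) (hK : Fintype.card K = 4 ^ 2)
    (e : F ≃+* K) : ↥(Cfsg.SU 3 F 4) ≃* ↥(Cfsg.SU 3 K 4) where
  toFun g := ⟨Matrix.SpecialLinearGroup.map e.toRingHom g.1, map_mem_SU16 hF hK _ g.2⟩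
  invFun g := ⟨Matrix.SpecialLinearGroup.map e.symm.toRingHom g.1, map_mem_SU16 hK hF _ g.2⟩
  left_inv g := by
    apply Subtype.ext
    apply Subtype.ext
    ext i j
    simp
  right_inv g := by
    apply Subtype.ext
    apply Subtype.ext
    ext i j
    simp
  map_mul' a b := by
    apply Subtype.ext
    simp [map_mul]

/-- A field isomorphism induces an isomorphism of the groups `PSU₃(4)`. -/
noncomputable def psuEquiv16 (hF : Fintype.card F = 16) (hK : Fintype.card K = 16)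
    (e : F ≃+* K) : Cfsg.PSU 3 F 4 ≃* Cfsg.PSU 3 K 4 :=
  QuotientGroup.congr _ _ (suEquiv16 (by rw [hF]; norm_num) (by rw [hK]; norm_num) e) (by
    rw [Cfsg.Agent.Lib.Helper3.PG.center_eq_bot hF, Cfsg.Agent.Lib.Helper3.PG.center_eq_bot hK,
      Subgroup.map_bot])

theorem card_PSU16 (hF : Fintype.card F = 16) : Nat.card (Cfsg.PSU 3 F 4) = 62400 := by
  have h1 := Subgroup.card_eq_card_quotient_mul_card_subgroup
    (Subgroup.center ↥(Cfsg.SU 3 F 4))
  have h2 : Nat.card (Subgroup.center ↥(Cfsg.SU 3 F 4)) = 1 := by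
    rw [Cfsg.Agent.Lib.Helper3.PG.center_eq_bot hF, Subgroup.card_bot]
  rw [Cfsg.Agent.Lib.Helper3.PG.card_SU hF, h2, mul_one] at h1
  exact h1.symm

end transfer

section sylow

/-- Sylow subgroups of isomorphic groups are isomorphic -/
theorem sylow_iso_of_equiv {G G' : Type*} [Group G] [Group G'] [Finite G] (p : ℕ)
    [Fact p.Prime] (ψ : G ≃* G') (S : Sylow p G') (P : Sylow p G) :
    Nonempty (↥(S : Subgroup G') ≃* ↥(P : Subgroup G)) := by
  have hle : (S : Subgroup G') ≤ (ψ.toMonoidHom).range := by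
    intro x _
    exact ⟨ψ.symm x, by simp⟩
  let Q : Sylow p G := S.comapOfInjective ψ.toMonoidHom ψ.injective hle
  have hQ : (Q : Subgroup G) = (S : Subgroup G').comap ψ.toMonoidHom :=
    Sylow.coe_comapOfInjective _ _ _ _
  have e1 : ↥(Q : Subgroup G) ≃* ↥((Q : Subgroup G).map ψ.toMonoidHom) :=
    ψ.subgroupMap (Q : Subgroup G)
  have hmap : (Q : Subgroup G).map ψ.toMonoidHom = (S : Subgroup G') := by
    rw [hQ]
    exact Subgroup.map_comap_eq_self_of_surjective ψ.surjective _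
  exact ⟨((e1.trans (MulEquiv.subgroupCongr hmap)).symm).trans (Sylow.equiv Q P)⟩

open Cfsg.Agent.Lib.Helper7.R33 Cfsg.Agent.Lib.Helper3.PG in
/-- every Sylow 2-subgroup of `PSU₃(4)` over any field of order 16 is isomorphic to the model -/
theorem sylow_M64 {F : Type*} [Field F] [Fintype F] (hF : Fintype.card F = 16)
    (P : Sylow 2 (Cfsg.PSU 3 F 4)) :
    Nonempty (M64 ≃* ↥(P : Subgroup (Cfsg.PSU 3 F 4))) := by
  have : Fact (Nat.Prime 2) := ⟨Nat.prime_two⟩
  have hfin : Finite (Cfsg.PSU 3 F 4) :=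
    Nat.finite_of_card_ne_zero (by rw [card_PSU16 hF]; norm_num)
  obtain ⟨S, ⟨e'⟩⟩ := exists_sylow_M64
  let e : F ≃+* K16 := FiniteField.ringEquivOfCardEq (hF.trans K16.card.symm)
  obtain ⟨e2⟩ := sylow_iso_of_equiv 2 (psuEquiv16 hF K16.card e) S P
  exact ⟨e'.trans e2⟩

end sylow

end Cfsg.Agent.Lib.Helper4.Tw
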