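import Mathlib
import Cfsg.Agent.Lib.Helper4.Cq8
import Cfsg.Agent.Lib.Helper4.Tw12

set_option autoImplicit false
set_option maxRecDepth 100000

/-! # S1903: the model is an involution centralizer of `PSU₃(4)` -/

namespace Cfsg.Agent.Lib.Helper4.Cq

open Cfsg.Agent.Lib.Helper3.PG Matrix

theorem B1_central : ∀ m : T64, m * T64.B1 = T64.B1 * m := by decide +kernel

theorem sig_B1 : T64.sig T64.B1 = T64.B1 := by decide +kernel

theorem B1_sq : T64.B1 * T64.B1 = 1 := by decide +kernel

theorem B1_ne : T64.B1 ≠ 1 := by decide +kernel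

theorem sigAut_pow_B1 (k : ℕ) : (T64.sigAut ^ k) T64.B1 = T64.B1 := by
  induction k with
  | zero => rfl
  | succ k ih => rw [pow_succ, MulAut.mul_apply, T64.sigAut_apply, sig_B1, ih]

/-- the central involution of the model -/
def zB : G320 := SemidirectProduct.inl T64.B1

theorem zB_central (x : G320) : x * zB = zB * x := by
  apply SemidirectProduct.ext
  · rw [SemidirectProduct.mul_left, SemidirectProduct.mul_left]
    show x.left * (c5hom T64.sigAut T64.sigAut_pow_five x.right) T64.B1 =
      T64.B1 * (c5hom T64.sigAut T64.sigAut_pow_five 1) x.left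
    rw [map_one, MulAut.one_apply, c5hom_apply, sigAut_pow_B1, B1_central]
  · rw [SemidirectProduct.mul_right, SemidirectProduct.mul_right]
    show x.right * 1 = 1 * x.right
    rw [mul_one, one_mul]

theorem orderOf_zB : orderOf zB = 2 := by
  haveI : Fact (Nat.Prime 2) := ⟨Nat.prime_two⟩
  apply orderOf_eq_prime
  · rw [pow_two]
    show SemidirectProduct.inl T64.B1 * SemidirectProduct.inl T64.B1 = 1
    rw [← map_mul, B1_sq, map_one]
  · intro h
    exact B1_ne (SemidirectProduct.inl_injective (h.trans (map_one _).symm))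

/-- the central involution in `SU₃(4)` -/
def t0 : ↥(Cfsg.SU 3 K16 4) := emb320 zB

theorem matOf_t0 : matOf t0 = tM := by
  unfold t0 zB emb320
  rw [liftHom_inl]
  rfl

theorem orderOf_t0 : orderOf t0 = 2 := by
  unfold t0
  rw [orderOf_injective emb320 emb320_injective, orderOf_zB]

/-- the model is the centralizer of the central involution -/
theorem model_centralizer :
    Nonempty (G320 ≃* ↥(Subgroup.centralizer ({t0} : Set ↥(Cfsg.SU 3 K16 4)))) := by
  have hmem : ∀ x : G320, emb320 x ∈ Subgroup.centralizer ({t0} : Set ↥(Cfsg.SU 3 K16 4)) := by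
    intro x
    rw [Subgroup.mem_centralizer_iff]
    intro y hy
    rw [Set.mem_singleton_iff] at hy
    subst hy
    unfold t0
    rw [← map_mul, ← map_mul, zB_central]
  let f : G320 →* ↥(Subgroup.centralizer ({t0} : Set ↥(Cfsg.SU 3 K16 4))) :=
    emb320.codRestrict _ hmem
  have hinj : Function.Injective f := by
    intro x y hxy
    apply emb320_injective
    exact congrArg Subtype.val hxy
  haveI : Finite ↥(Cfsg.SU 3 K16 4) :=
    Nat.finite_of_card_ne_zero (by rw [card_SU K16.card]; norm_num)
  have hbij : Function.Bijective f :=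
    hinj.bijective_of_nat_card_le (by
      rw [card_G320]
      exact card_centralizer_le t0 matOf_t0)
  exact ⟨MulEquiv.ofBijective f hbij⟩

/-- centralizers correspond under isomorphisms -/
def centEquiv {A B : Type*} [Group A] [Group B] (e : A ≃* B) (t : A) :
    ↥(Subgroup.centralizer ({t} : Set A)) ≃* ↥(Subgroup.centralizer ({e t} : Set B)) where
  toFun x := ⟨e x.1, by
    have hx := Subgroup.mem_centralizer_iff.mp x.2 t (Set.mem_singleton t)
    rw [Subgroup.mem_centralizer_iff]
    intro y hy
    rw [Set.mem_singleton_iff] at hy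
    subst hy
    rw [← map_mul, ← map_mul, hx]⟩
  invFun y := ⟨e.symm y.1, by
    have hy := Subgroup.mem_centralizer_iff.mp y.2 (e t) (Set.mem_singleton _)
    rw [Subgroup.mem_centralizer_iff]
    intro z hz
    rw [Set.mem_singleton_iff] at hz
    subst hz
    apply e.injective
    rw [map_mul, map_mul, MulEquiv.apply_symm_apply, hy]⟩
  left_inv x := Subtype.ext (e.symm_apply_apply x.1)
  right_inv y := Subtype.ext (e.apply_symm_apply y.1)
  map_mul' x y := Subtype.ext (map_mul e x.1 y.1)

/-- `SU₃(4) ≃ PSU₃(4)` since the centre is trivial -/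
noncomputable def suToPsu : ↥(Cfsg.SU 3 K16 4) ≃* Cfsg.PSU 3 K16 4 :=
  MulEquiv.ofBijective (QuotientGroup.mk' (Subgroup.center ↥(Cfsg.SU 3 K16 4))) (by
    constructor
    · rw [injective_iff_map_eq_one]
      intro x hx
      have h1 : x ∈ Subgroup.center ↥(Cfsg.SU 3 K16 4) := (QuotientGroup.eq_one_iff _).mp hx
      rw [center_eq_bot K16.card, Subgroup.mem_bot] at h1
      exact h1
    · exact QuotientGroup.mk'_surjective _)

/-- the model is an involution centralizer in `PSU₃(4)` over any field of order 16 -/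
theorem exists_involution {F : Type*} [Field F] [Fintype F] (hF : Fintype.card F = 16) :
    ∃ t : Cfsg.PSU 3 F 4, orderOf t = 2 ∧
      Nonempty (G320 ≃* ↥(Subgroup.centralizer ({t} : Set (Cfsg.PSU 3 F 4)))) := by
  let e : F ≃+* K16 := FiniteField.ringEquivOfCardEq (hF.trans K16.card.symm)
  let Θ : ↥(Cfsg.SU 3 K16 4) ≃* Cfsg.PSU 3 F 4 :=
    suToPsu.trans (Cfsg.Agent.Lib.Helper4.Tw.psuEquiv16 hF K16.card e).symm
  obtain ⟨ε⟩ := model_centralizer
  refine ⟨Θ t0, ?_, ⟨ε.trans (centEquiv Θ t0)⟩⟩
  rw [MulEquiv.orderOf_eq, orderOf_t0]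

end Cfsg.Agent.Lib.Helper4.Cq
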