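import Mathlib
import Cfsg.Agent.Lib.Helper2.Cr5Defs
import Cfsg.Agent.S3488

set_option autoImplicit false
set_option linter.unusedVariables false
set_option linter.unusedSectionVars false
set_option linter.style.longLine false
set_option linter.deprecated false

/-!
# S3600 piece R8e: elements of order `3` of `SL2(F4)` act fixed-point-freely on `F4^2`
-/

open Cfsg.Agent.Lib.Helper8.C5 Cfsg.Agent.Lib.Helper2.Cr5

namespace Cfsg.Agent.Lib.Helper4.Cr5

universe u v

/-- Scalar core of R8e: in characteristic `2`, a `2 × 2` matrix of determinant `1` with cube `1`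
which is not the identity has trace `1`. -/
theorem r8e_trace {F : Type*} [Field F] (h2 : (2 : F) = 0) (a b c d : F)
    (hdet : a * d - b * c = 1)
    (e00 : a * a * a + b * c * a + (a * b + b * d) * c = 1)
    (e01 : a * a * b + b * c * b + (a * b + b * d) * d = 0)
    (e10 : (c * a + d * c) * a + (c * b + d * d) * c = 0)
    (e11 : (c * a + d * c) * b + (c * b + d * d) * d = 1)
    (hne : ¬ (a = 1 ∧ b = 0 ∧ c = 0 ∧ d = 1)) : a + d + 1 = 0 := by
  by_contra hs
  apply hne
  have hb : (a + d + 1) ^ 2 * b = 0 := by
    linear_combination e01 + b * hdet + (b + a * b + d * b) * h2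
  have hc : (a + d + 1) ^ 2 * c = 0 := by
    linear_combination e10 + c * hdet + (c + a * c + d * c) * h2
  have ha : (a + d + 1) ^ 2 * a = a + d + 1 := by
    linear_combination e00 + (2 * a + d) * hdet + (a * a + a * d + a) * h2
  have hd : (a + d + 1) ^ 2 * d = a + d + 1 := by
    linear_combination e11 + (2 * d + a) * hdet + (d * d + a * d + d) * h2
  have hs2 : (a + d + 1) ^ 2 ≠ 0 := pow_ne_zero 2 hs
  have hb0 : b = 0 := by
    rcases mul_eq_zero.mp hb with h | h
    · exact absurd h hs2
    · exact h
  have hc0 : c = 0 := by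
    rcases mul_eq_zero.mp hc with h | h
    · exact absurd h hs2
    · exact h
  have ha1 : (a + d + 1) * a = 1 := by
    have h : (a + d + 1) * ((a + d + 1) * a - 1) = 0 := by linear_combination ha
    rcases mul_eq_zero.mp h with h | h
    · exact absurd h hs
    · linear_combination h
  have hd1 : (a + d + 1) * d = 1 := by
    have h : (a + d + 1) * ((a + d + 1) * d - 1) = 0 := by linear_combination hd
    rcases mul_eq_zero.mp h with h | h
    · exact absurd h hs
    · linear_combination h
  have had : a = d := by
    have h : (a + d + 1) * (a - d) = 0 := by linear_combination ha1 - hd1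
    rcases mul_eq_zero.mp h with h | h
    · exact absurd h hs
    · linear_combination h
  have haa : (a - 1) * (a - 1) = 0 := by
    have h1 : a * d = 1 := by rw [hb0] at hdet; linear_combination hdet
    rw [← had] at h1
    linear_combination h1 + (1 - a) * h2
  have ha1' : a = 1 := by
    rcases mul_eq_zero.mp haa with h | h <;> linear_combination h
  exact ⟨ha1', hb0, hc0, by rw [← had]; exact ha1'⟩

/-- PIECE R8e (verbatim). -/
theorem fpf_SL2 (F : Type) [Field F] [Fintype F] (hF : Fintype.card F = 4)
    (A : Matrix.SpecialLinearGroup (Fin 2) F) (hA3 : A ^ 3 = 1) (hA1 : A ≠ 1)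
    (v : Fin 2 → F) (hv : (A : Matrix (Fin 2) (Fin 2) F).mulVec v = v) : v = 0 := by
  have h2 : (2 : F) = 0 := Cfsg.Agent.S3488.two_eq_zero hF
  obtain ⟨M, hM⟩ := A
  have hdet : M 0 0 * M 1 1 - M 0 1 * M 1 0 = 1 := by
    rw [← Matrix.det_fin_two]; exact hM
  have hMeq : M = !![M 0 0, M 0 1; M 1 0, M 1 1] := by
    ext i j
    fin_cases i <;> fin_cases j <;> rfl
  have h3 : M ^ 3 = 1 := by
    have h := congrArg Subtype.val hA3
    exact h
  have hne : M ≠ 1 := by
    intro h
    apply hA1
    apply Subtype.ext
    exact h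
  have hv' : M.mulVec v = v := hv
  generalize M 0 0 = a at hdet hMeq
  generalize M 0 1 = b at hdet hMeq
  generalize M 1 0 = c at hdet hMeq
  generalize M 1 1 = d at hdet hMeq
  subst hMeq
  have hcube : (!![a, b; c, d] : Matrix (Fin 2) (Fin 2) F) ^ 3 =
      !![(a * a + b * c) * a + (a * b + b * d) * c, (a * a + b * c) * b + (a * b + b * d) * d;
         (c * a + d * c) * a + (c * b + d * d) * c, (c * a + d * c) * b + (c * b + d * d) * d] := by
    rw [pow_succ, pow_two, Matrix.mul_fin_two, Matrix.mul_fin_two]
  rw [hcube] at h3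
  have e00 : a * a * a + b * c * a + (a * b + b * d) * c = 1 := by
    have h := congrFun (congrFun h3 0) 0
    simp at h
    linear_combination h
  have e01 : a * a * b + b * c * b + (a * b + b * d) * d = 0 := by
    have h := congrFun (congrFun h3 0) 1
    simp at h
    linear_combination h
  have e10 : (c * a + d * c) * a + (c * b + d * d) * c = 0 := by
    have h := congrFun (congrFun h3 1) 0
    simpa using h
  have e11 : (c * a + d * c) * b + (c * b + d * d) * d = 1 := by
    have h := congrFun (congrFun h3 1) 1
    simpa using h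
  have hne' : ¬ (a = 1 ∧ b = 0 ∧ c = 0 ∧ d = 1) := by
    rintro ⟨rfl, rfl, rfl, rfl⟩
    apply hne
    exact Matrix.one_fin_two.symm
  have ht := r8e_trace h2 a b c d hdet e00 e01 e10 e11 hne'
  have v0 : a * v 0 + b * v 1 = v 0 := by
    have h := congrFun hv' 0
    simpa [Matrix.mulVec, dotProduct, Fin.sum_univ_two] using h
  have v1 : c * v 0 + d * v 1 = v 1 := by
    have h := congrFun hv' 1
    simpa [Matrix.mulVec, dotProduct, Fin.sum_univ_two] using h
  -- (2 - t) x = 0 with t = a + d = -1
  have x0 : v 0 = 0 := by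
    linear_combination (d - 1) * v0 - b * v1 - (v 0) * hdet + (v 0) * ht - (v 0) * h2
  have x1 : v 1 = 0 := by
    linear_combination (-c) * v0 + (a - 1) * v1 - (v 1) * hdet + (v 1) * ht - (v 1) * h2
  funext i
  fin_cases i
  · exact x0
  · exact x1

end Cfsg.Agent.Lib.Helper4.Cr5
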