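import Mathlib

/-!
# Cyclic Sylow `p`-subgroup and abelian `p'`-subgroups: general lemmas
-/

set_option autoImplicit false

namespace Cfsg.Agent.Lib.Helper4.Cyc

open Subgroup

variable {G : Type*} [Group G]

/-- Every element of a finite group is the product of a `p`-element and a `p'`-element, both
powers of it. -/
theorem exists_parts [Finite G] {p : ℕ} (hp : p.Prime) (x : G) :
    ∃ a ∈ zpowers x, ∃ b ∈ zpowers x, x = a * b ∧
      (∃ k : ℕ, a ^ p ^ k = 1) ∧ (orderOf b).Coprime p := by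
  set n := orderOf x with hn
  have hn0 : n ≠ 0 := (orderOf_pos x).ne'
  have hcop : Nat.Coprime (ordCompl[p] n) (ordProj[p] n) :=
    (Nat.Coprime.pow_right _ (Nat.coprime_ordCompl hp hn0).symm)
  obtain ⟨u, v, huv⟩ := (Nat.isCoprime_iff_coprime.mpr hcop)
  have hprod : ((ordProj[p] n : ℕ) : ℤ) * ((ordCompl[p] n : ℕ) : ℤ) = (n : ℤ) := by
    rw [← Nat.cast_mul, Nat.ordProj_mul_ordCompl_eq_self]
  have key : ∀ e : ℤ, x ^ (e * (n : ℤ)) = 1 := by
    intro e
    rw [mul_comm, zpow_mul, zpow_natCast, pow_orderOf_eq_one, one_zpow]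
  refine ⟨(x ^ (ordCompl[p] n)) ^ u, ?_, (x ^ (ordProj[p] n)) ^ v, ?_, ?_, ?_, ?_⟩
  · exact zpow_mem (pow_mem (mem_zpowers x) _) _
  · exact zpow_mem (pow_mem (mem_zpowers x) _) _
  · rw [← zpow_natCast, ← zpow_natCast, ← zpow_mul, ← zpow_mul, ← zpow_add,
      mul_comm _ u, mul_comm _ v, huv, zpow_one]
  · refine ⟨n.factorization p, ?_⟩
    rw [← zpow_natCast, ← zpow_natCast, ← zpow_mul, ← zpow_mul]
    have e : ((ordCompl[p] n : ℕ) : ℤ) * (u * ((p ^ n.factorization p : ℕ) : ℤ)) = u * (n : ℤ) := by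
      rw [← hprod]; ring
    rw [e]; exact key u
  · have h1 : ((x ^ (ordProj[p] n)) ^ v) ^ (ordCompl[p] n) = 1 := by
      rw [← zpow_natCast, ← zpow_natCast, ← zpow_mul, ← zpow_mul]
      have e : ((ordProj[p] n : ℕ) : ℤ) * (v * ((ordCompl[p] n : ℕ) : ℤ)) = v * (n : ℤ) := by
        rw [← hprod]; ring
      rw [e]; exact key v
    exact (Nat.Coprime.coprime_dvd_right (orderOf_dvd_of_pow_eq_one h1)
      (Nat.coprime_ordCompl hp hn0)).symm

/-- `(a b)^n ∈ A b^n` when `b` normalizes `A`. -/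
theorem mul_pow_mem {A : Subgroup G} {a b : G} (ha : a ∈ A)
    (hb : b ∈ normalizer (A : Set G)) (n : ℕ) : ∃ a' ∈ A, (a * b) ^ n = a' * b ^ n := by
  induction n with
  | zero => exact ⟨1, A.one_mem, by simp⟩
  | succ n ih =>
    obtain ⟨a', ha', h⟩ := ih
    have hbn : b ^ n ∈ normalizer (A : Set G) := pow_mem hb n
    refine ⟨a' * (b ^ n * a * (b ^ n)⁻¹), A.mul_mem ha' ((mem_normalizer_iff.mp hbn a).mp ha), ?_⟩
    rw [pow_succ, h, pow_succ]
    group

/-- The product set `A B` as a subgroup, when `B` normalizes `A`. -/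
def mulSub (A B : Subgroup G) (hB : B ≤ normalizer (A : Set G)) : Subgroup G where
  carrier := {g | ∃ a ∈ A, ∃ b ∈ B, g = a * b}
  one_mem' := ⟨1, A.one_mem, 1, B.one_mem, by simp⟩
  mul_mem' := by
    rintro _ _ ⟨a, ha, b, hb, rfl⟩ ⟨a', ha', b', hb', rfl⟩
    refine ⟨a * (b * a' * b⁻¹), A.mul_mem ha ((mem_normalizer_iff.mp (hB hb) a').mp ha'),
      b * b', B.mul_mem hb hb', by group⟩
  inv_mem' := by
    rintro _ ⟨a, ha, b, hb, rfl⟩
    refine ⟨b⁻¹ * a⁻¹ * b⁻¹⁻¹, ?_, b⁻¹, B.inv_mem hb, by group⟩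
    exact (mem_normalizer_iff.mp (hB (B.inv_mem hb)) a⁻¹).mp (A.inv_mem ha)

theorem mem_mulSub {A B : Subgroup G} {hB : B ≤ normalizer (A : Set G)} {g : G} :
    g ∈ mulSub A B hB ↔ ∃ a ∈ A, ∃ b ∈ B, g = a * b := Iff.rfl

theorem left_le_mulSub {A B : Subgroup G} (hB : B ≤ normalizer (A : Set G)) :
    A ≤ mulSub A B hB := fun a ha => ⟨a, ha, 1, B.one_mem, by simp⟩

theorem right_le_mulSub {A B : Subgroup G} (hB : B ≤ normalizer (A : Set G)) :
    B ≤ mulSub A B hB := fun b hb => ⟨1, A.one_mem, b, hb, by simp⟩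

/-- A subgroup all of whose elements have order prime to `p` has order prime to `p`. -/
theorem not_dvd_card_of_forall [Finite G] {p : ℕ} [Fact p.Prime] {H : Subgroup G}
    (h : ∀ x ∈ H, (orderOf x).Coprime p) : ¬ p ∣ Nat.card H := by
  intro hd
  obtain ⟨g, hg⟩ := exists_prime_orderOf_dvd_card' p hd
  have h1 := h g.1 g.2
  rw [Subgroup.orderOf_coe, hg] at h1
  exact (Nat.Prime.one_lt Fact.out).ne' ((Nat.coprime_self p).mp h1)

theorem coprime_orderOf_of_not_dvd_card [Finite G] {p : ℕ} [Fact p.Prime] {H : Subgroup G}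
    (h : ¬ p ∣ Nat.card H) {x : G} (hx : x ∈ H) : (orderOf x).Coprime p := by
  have hp : p.Prime := Fact.out
  rw [Nat.coprime_comm, hp.coprime_iff_not_dvd]
  intro hd
  apply h
  have := orderOf_dvd_natCard (⟨x, hx⟩ : H)
  rw [← Subgroup.orderOf_coe] at this
  exact hd.trans this

/-- A product of two `p'`-subgroups, one normalizing the other, is a `p'`-group. -/
theorem not_dvd_card_mulSub [Finite G] {p : ℕ} [Fact p.Prime] {A B : Subgroup G}
    (hB : B ≤ normalizer (A : Set G)) (hA : ¬ p ∣ Nat.card A) (hB' : ¬ p ∣ Nat.card B) :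
    ¬ p ∣ Nat.card (mulSub A B hB) := by
  have hp : p.Prime := Fact.out
  apply not_dvd_card_of_forall
  rintro _ ⟨a, ha, b, hb, rfl⟩
  obtain ⟨a', ha', h⟩ := mul_pow_mem ha (hB hb) (Nat.card B)
  have hb1 : b ^ Nat.card B = 1 := by
    have := pow_card_eq_one' (G := B) (x := ⟨b, hb⟩)
    exact congrArg Subtype.val this
  rw [hb1, mul_one] at h
  have ha1 : a' ^ Nat.card A = 1 := by
    have := pow_card_eq_one' (G := A) (x := ⟨a', ha'⟩)
    exact congrArg Subtype.val this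
  have h2 : (a * b) ^ (Nat.card B * Nat.card A) = 1 := by rw [pow_mul, h, ha1]
  have h3 := orderOf_dvd_of_pow_eq_one h2
  have h4 : (Nat.card B * Nat.card A).Coprime p := by
    apply Nat.Coprime.mul_left
    · rw [Nat.coprime_comm, hp.coprime_iff_not_dvd]; exact hB'
    · rw [Nat.coprime_comm, hp.coprime_iff_not_dvd]; exact hA
  exact Nat.Coprime.coprime_dvd_left h3 h4

/-- An element that is both a `p`-element and a `p'`-element is trivial. -/
theorem eq_one_of_pelem_of_coprime {p : ℕ} {x : G} (h1 : ∃ k : ℕ, x ^ p ^ k = 1)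
    (h2 : (orderOf x).Coprime p) : x = 1 := by
  obtain ⟨k, hk⟩ := h1
  have h3 := orderOf_dvd_of_pow_eq_one hk
  have h4 : (orderOf x).Coprime (p ^ k) := h2.pow_right k
  have := Nat.eq_one_of_dvd_coprimes h4 dvd_rfl h3
  exact orderOf_eq_one_iff.mp this

theorem pelem_of_mem_pgroup {p : ℕ} {P : Subgroup G} (hP : IsPGroup p P) {x : G} (hx : x ∈ P) :
    ∃ k : ℕ, x ^ p ^ k = 1 := by
  obtain ⟨k, hk⟩ := hP ⟨x, hx⟩
  exact ⟨k, congrArg Subtype.val hk⟩

/-- A `p`-element normalizing a Sylow `p`-subgroup lies in it. -/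
theorem mem_sylow_of_normalizes [Finite G] {p : ℕ} [Fact p.Prime] (P : Sylow p G) {x : G}
    (hx : x ∈ normalizer ((P : Subgroup G) : Set G)) (hxp : ∃ k : ℕ, x ^ p ^ k = 1) :
    x ∈ (P : Subgroup G) := by
  have hp : p.Prime := Fact.out
  obtain ⟨k, hk⟩ := hxp
  have h1 : IsPGroup p (zpowers x) := by
    obtain ⟨k', -, hk'⟩ := (Nat.dvd_prime_pow hp).1 (orderOf_dvd_of_pow_eq_one hk)
    exact IsPGroup.of_card (n := k') (by rw [Nat.card_zpowers, hk'])
  have h2 := h1.inf_normalizer_sylow P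
  have h3 : x ∈ zpowers x ⊓ normalizer (P : Set G) := ⟨mem_zpowers x, hx⟩
  rw [h2] at h3
  exact h3.2

/-- Every `p`-element lies in some Sylow `p`-subgroup. -/
theorem exists_sylow_mem [Finite G] {p : ℕ} [Fact p.Prime] {x : G} (hxp : ∃ k : ℕ, x ^ p ^ k = 1) :
    ∃ P : Sylow p G, x ∈ (P : Subgroup G) := by
  have hp : p.Prime := Fact.out
  obtain ⟨k, hk⟩ := hxp
  have h1 : IsPGroup p (zpowers x) := by
    obtain ⟨k', -, hk'⟩ := (Nat.dvd_prime_pow hp).1 (orderOf_dvd_of_pow_eq_one hk)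
    exact IsPGroup.of_card (n := k') (by rw [Nat.card_zpowers, hk'])
  obtain ⟨P, hP⟩ := h1.exists_le_sylow
  exact ⟨P, hP (mem_zpowers x)⟩

end Cfsg.Agent.Lib.Helper4.Cyc
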