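import Mathlib
import Cfsg.Agent.Lib.Helper4.Cyc1

/-!
# Cyclic `p`-groups, coprime automorphisms, transfer lemmas
-/

set_option autoImplicit false

namespace Cfsg.Agent.Lib.Helper4.Cyc

open Subgroup

variable {G : Type*} [Group G]

theorem comm_of_cyclic {P : Subgroup G} (hc : IsCyclic P) {a b : G} (ha : a ∈ P) (hb : b ∈ P) :
    a * b = b * a := by
  haveI := hc
  have := (IsCyclic.isMulCommutative (α := P)).is_comm.comm ⟨a, ha⟩ ⟨b, hb⟩
  exact congrArg Subtype.val this

/-- In a cyclic `p`-group, an element of order dividing `p` lies in every nontrivial cyclic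
subgroup. -/
theorem mem_zpowers_of_pow_eq_one [Finite G] {p : ℕ} [Fact p.Prime] {P : Subgroup G}
    (hc : IsCyclic P) (hP : IsPGroup p P) {x z : G} (hx : x ∈ P) (hx1 : x ≠ 1) (hz : z ∈ P)
    (hzp : z ^ p = 1) : z ∈ zpowers x := by
  classical
  have hp : p.Prime := Fact.out
  haveI := hc
  haveI : Fintype P := Fintype.ofFinite P
  -- an element of order p in zpowers x
  have hxz : IsPGroup p (zpowers x) := hP.to_le (by rw [zpowers_le]; exact hx)
  have hcard : p ∣ Nat.card (zpowers x) := by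
    obtain ⟨k, hk⟩ := hxz.exists_card_eq
    rw [hk]
    rcases Nat.eq_zero_or_pos k with h0 | h0
    · exfalso
      rw [h0, pow_zero, Nat.card_zpowers, orderOf_eq_one_iff] at hk
      exact hx1 hk
    · exact dvd_pow_self p h0.ne'
  obtain ⟨w, hw⟩ := exists_prime_orderOf_dvd_card' p hcard
  have hwP : (w : G) ∈ P := by
    have : zpowers x ≤ P := by rw [zpowers_le]; exact hx
    exact this w.2
  set w' : P := ⟨(w : G), hwP⟩ with hw'
  have how : orderOf w' = p := by
    rw [← hw, ← Subgroup.orderOf_coe w', ← Subgroup.orderOf_coe w]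
  set T : Finset P := Finset.univ.filter (fun a : P => a ^ p = 1) with hT
  have hTle : T.card ≤ p := IsCyclic.card_pow_eq_one_le hp.pos
  set W : Finset P := (Finset.range p).image (fun i => w' ^ i) with hW
  have hWcard : W.card = p := by
    rw [hW, Finset.card_image_of_injOn, Finset.card_range]
    intro i hi j hj hij
    simp only [Finset.coe_range, Set.mem_Iio] at hi hj
    exact pow_injOn_Iio_orderOf (by rw [how]; exact hi) (by rw [how]; exact hj) hij
  have hWT : W ⊆ T := by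
    intro a ha
    rw [hW, Finset.mem_image] at ha
    obtain ⟨i, -, rfl⟩ := ha
    rw [hT, Finset.mem_filter]
    refine ⟨Finset.mem_univ _, ?_⟩
    rw [← pow_mul, mul_comm, pow_mul, ← how, pow_orderOf_eq_one, one_pow]
  have hWeq : W = T := Finset.eq_of_subset_of_card_le hWT (by rw [hWcard]; exact hTle)
  have hzT : (⟨z, hz⟩ : P) ∈ T := by
    rw [hT, Finset.mem_filter]
    exact ⟨Finset.mem_univ _, Subtype.ext hzp⟩
  rw [← hWeq, hW, Finset.mem_image] at hzT
  obtain ⟨i, -, hi⟩ := hzT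
  have hzw : z = (w : G) ^ i := by
    have := congrArg Subtype.val hi
    simpa [hw'] using this.symm
  rw [hzw]
  exact pow_mem w.2 i

/-- In a nontrivial cyclic subgroup of a `p`-group there is an element of order `p`. -/
theorem exists_orderOf_eq_prime_zpowers [Finite G] {p : ℕ} [Fact p.Prime] {x : G}
    (hxp : ∃ k : ℕ, x ^ p ^ k = 1) (hx1 : x ≠ 1) : ∃ z ∈ zpowers x, orderOf z = p := by
  have hp : p.Prime := Fact.out
  obtain ⟨k, hk⟩ := hxp
  obtain ⟨k', -, hk'⟩ := (Nat.dvd_prime_pow hp).1 (orderOf_dvd_of_pow_eq_one hk)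
  have hcard : p ∣ Nat.card (zpowers x) := by
    rw [Nat.card_zpowers, hk']
    rcases Nat.eq_zero_or_pos k' with h0 | h0
    · exfalso
      rw [h0, pow_zero, orderOf_eq_one_iff] at hk'
      exact hx1 hk'
    · exact dvd_pow_self p h0.ne'
  obtain ⟨w, hw⟩ := exists_prime_orderOf_dvd_card' p hcard
  exact ⟨w, w.2, by rw [← hw, Subgroup.orderOf_coe]⟩

/-- Iterated conjugation: if `y x y⁻¹ = x z` with `y z y⁻¹ = z`, then `y^k x y^-k = x z^k`. -/
theorem conj_pow_eq {x y z : G} (h1 : y * x * y⁻¹ = x * z) (h2 : y * z * y⁻¹ = z) (k : ℕ) :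
    y ^ k * x * (y ^ k)⁻¹ = x * z ^ k := by
  induction k with
  | zero => simp
  | succ k ih =>
    have hz : ∀ m : ℕ, y * z ^ m * y⁻¹ = z ^ m := by
      intro m
      have : y * z ^ m * y⁻¹ = (y * z * y⁻¹) ^ m := by
        rw [conj_pow]
      rw [this, h2]
    calc y ^ (k + 1) * x * (y ^ (k + 1))⁻¹ = y * (y ^ k * x * (y ^ k)⁻¹) * y⁻¹ := by
          rw [pow_succ']; group
      _ = y * (x * z ^ k) * y⁻¹ := by rw [ih]
      _ = (y * x * y⁻¹) * (y * z ^ k * y⁻¹) := by group
      _ = x * z * z ^ k := by rw [h1, hz]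
      _ = x * z ^ (k + 1) := by rw [pow_succ', mul_assoc]

/-- A `p'`-element normalizing a cyclic `p`-group and centralizing a nontrivial element of it
centralizes it. -/
theorem centralizes_of_cyclic [Finite G] {p : ℕ} [Fact p.Prime] {P : Subgroup G}
    (hc : IsCyclic P) (hP : IsPGroup p P) {y : G} (hy : y ∈ normalizer (P : Set G))
    (hyo : (orderOf y).Coprime p) {x₀ : G} (hx₀ : x₀ ∈ P) (hx₀1 : x₀ ≠ 1)
    (hcomm : y * x₀ = x₀ * y) : ∀ x ∈ P, y * x = x * y := by
  have hp : p.Prime := Fact.out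
  intro x hx
  by_contra hne
  -- c = x⁻¹ (y x y⁻¹)
  have hyx : y * x * y⁻¹ ∈ P := (mem_normalizer_iff.mp hy x).mp hx
  set c := x⁻¹ * (y * x * y⁻¹) with hcdef
  have hcP : c ∈ P := P.mul_mem (P.inv_mem hx) hyx
  have hc1 : c ≠ 1 := by
    intro h
    apply hne
    have : y * x * y⁻¹ = x := by
      have := congrArg (fun t => x * t) h
      simpa [hcdef, mul_assoc] using this
    calc y * x = y * x * y⁻¹ * y := by group
      _ = x * y := by rw [this]
  obtain ⟨z, hzx, hzo⟩ := exists_orderOf_eq_prime_zpowers (pelem_of_mem_pgroup hP hx₀) hx₀1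
  have hzP : z ∈ P := by
    have : zpowers x₀ ≤ P := by rw [zpowers_le]; exact hx₀
    exact this hzx
  have hzp : z ^ p = 1 := by rw [← hzo, pow_orderOf_eq_one]
  have hzc := mem_zpowers_of_pow_eq_one hc hP hcP hc1 hzP hzp
  -- y commutes with z
  have hyz : y * z * y⁻¹ = z := by
    obtain ⟨m, rfl⟩ := mem_zpowers_iff.mp hzx
    have : y * x₀ ^ m * y⁻¹ = (y * x₀ * y⁻¹) ^ m := by rw [conj_zpow]
    rw [this, hcomm, mul_inv_cancel_right]
  -- z = c^m = (x^m)⁻¹ (y x^m y⁻¹)
  obtain ⟨m, hm⟩ := mem_zpowers_iff.mp hzc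
  set x₁ := x ^ m with hx₁
  have hx₁P : x₁ ∈ P := P.zpow_mem hx m
  have hz1 : y * x₁ * y⁻¹ = x₁ * z := by
    have h1 : c ^ m = (x⁻¹) ^ m * (y * x * y⁻¹) ^ m := by
      rw [hcdef]
      exact Commute.mul_zpow (comm_of_cyclic hc (P.inv_mem hx) hyx) m
    rw [← hm, h1, hx₁, ← conj_zpow, inv_zpow, mul_inv_cancel_left]
  have key := conj_pow_eq hz1 hyz (orderOf y)
  rw [pow_orderOf_eq_one, inv_one, mul_one, one_mul] at key
  have hzk : z ^ orderOf y = 1 := by
    have := congrArg (fun t => x₁⁻¹ * t) key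
    simpa using this.symm
  have hd := orderOf_dvd_of_pow_eq_one hzk
  rw [hzo] at hd
  exact (Nat.Prime.coprime_iff_not_dvd hp).mp hyo.symm hd

end Cfsg.Agent.Lib.Helper4.Cyc
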