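import Mathlib
import Cfsg.Prelude.Def_Transfer
import Cfsg.Agent.Lib.Helper1.NormalPComplement
import Cfsg.Agent.Lib.Helper4.Cyc2

/-!
# Transfer lemma, Schur–Zassenhaus complement of a Sylow normalizer, internal conclusions
-/

set_option autoImplicit false

namespace Cfsg.Agent.Lib.Helper4.Cyc

open Subgroup
open scoped Pointwise

universe u

variable {G : Type u} [Group G]

/-- Transfer lemma: in a perfect finite group, an element of an abelian Sylow subgroup that is
central in its normalizer is trivial. -/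
theorem eq_one_of_central_in_normalizer [Finite G] {r : ℕ} [Fact r.Prime] (R : Sylow r G)
    (hRab : ∀ a ∈ (R : Subgroup G), ∀ b ∈ (R : Subgroup G), a * b = b * a)
    (hperf : commutator G = ⊤) {z : G} (hz : z ∈ (R : Subgroup G))
    (hzc : ∀ n ∈ normalizer ((R : Subgroup G) : Set G), n * z = z * n) : z = 1 := by
  have hr : r.Prime := Fact.out
  letI : CommGroup (R : Subgroup G) :=
    { (inferInstance : Group (R : Subgroup G)) with
      mul_comm := fun a b => Subtype.ext (hRab a.1 a.2 b.1 b.2) }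
  haveI : IsMulCommutative (R : Subgroup G) := ⟨⟨fun a b => Subtype.ext (hRab a.1 a.2 b.1 b.2)⟩⟩
  have key : ∀ (k : ℕ) (g₀ : G), g₀⁻¹ * z ^ k * g₀ ∈ (R : Subgroup G) →
      g₀⁻¹ * z ^ k * g₀ = z ^ k := by
    intro k g₀ hk
    obtain ⟨n, hn, hn'⟩ := R.conj_eq_normalizer_conj_of_mem (z ^ k) g₀ (pow_mem hz k) hk
    rw [hn']
    have h1 : n * z ^ k = z ^ k * n := by
      have : Commute n z := hzc n hn
      exact (this.pow_right k)
    calc n⁻¹ * z ^ k * n = n⁻¹ * (z ^ k * n) := by group
      _ = n⁻¹ * (n * z ^ k) := by rw [h1]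
      _ = z ^ k := by group
  have h1 := MonoidHom.transfer_eq_pow (H := (R : Subgroup G))
    (MonoidHom.id (R : Subgroup G)) z key
  have h2 : MonoidHom.transfer (MonoidHom.id (R : Subgroup G)) z = 1 := by
    have hker : commutator G ≤ (MonoidHom.transfer (MonoidHom.id (R : Subgroup G))).ker :=
      Abelianization.commutator_subset_ker _
    rw [hperf] at hker
    exact hker (mem_top z)
  rw [h2] at h1
  have h3 : z ^ (R : Subgroup G).index = 1 := by
    have := congrArg Subtype.val h1
    simpa using this.symm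
  have h4 := orderOf_dvd_of_pow_eq_one h3
  obtain ⟨k, hk⟩ := pelem_of_mem_pgroup R.2 hz
  have h5 := orderOf_dvd_of_pow_eq_one hk
  have h6 : (r ^ k).Coprime (R : Subgroup G).index := by
    apply Nat.Coprime.pow_left
    rw [hr.coprime_iff_not_dvd]
    exact R.not_dvd_index
  have := Nat.eq_one_of_dvd_coprimes h6 h5 h4
  exact orderOf_eq_one_iff.mp this

/-- Data of a complement `Q` to a Sylow subgroup `P` in its normalizer. -/
structure ComplPkg {p : ℕ} [Fact p.Prime] (P : Sylow p G) (Q : Subgroup G) : Prop where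
  le : Q ≤ normalizer ((P : Subgroup G) : Set G)
  cop : ¬ p ∣ Nat.card Q
  prod : ∀ n ∈ normalizer ((P : Subgroup G) : Set G), ∃ x ∈ (P : Subgroup G), ∃ q ∈ Q, n = x * q
  card : Nat.card (P : Subgroup G) * Nat.card Q = Nat.card (normalizer ((P : Subgroup G) : Set G))

theorem exists_complPkg [Finite G] {p : ℕ} [Fact p.Prime] (P : Sylow p G) :
    ∃ Q : Subgroup G, ComplPkg P Q := by
  have hp : p.Prime := Fact.out
  set N := normalizer ((P : Subgroup G) : Set G) with hN
  have hPN : (P : Subgroup G) ≤ N := le_normalizer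
  set P' : Subgroup N := (P : Subgroup G).subgroupOf N with hP'
  haveI : P'.Normal := normal_in_normalizer
  have hcardP' : Nat.card P' = Nat.card (P : Subgroup G) :=
    Nat.card_congr (subgroupOfEquivOfLe hPN).toEquiv
  have hidx : ¬ p ∣ P'.index := by
    intro hd
    apply P.not_dvd_index
    have h1 : P'.index = (P : Subgroup G).relIndex N := rfl
    rw [h1] at hd
    exact hd.trans (relIndex_dvd_index_of_le hPN)
  have hcop : Nat.Coprime (Nat.card P') P'.index := by
    rw [hcardP']
    obtain ⟨k, hk⟩ := P.2.exists_card_eq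
    rw [hk]
    apply Nat.Coprime.pow_left
    rw [hp.coprime_iff_not_dvd]
    exact hidx
  obtain ⟨H, hH⟩ := exists_right_complement'_of_coprime hcop
  refine ⟨H.map N.subtype, ?_, ?_, ?_, ?_⟩
  · exact map_subtype_le H
  · have h1 : Nat.card (H.map N.subtype) = Nat.card H :=
      Nat.card_congr (H.equivMapOfInjective N.subtype N.subtype_injective).toEquiv.symm
    rw [h1, ← hH.symm.index_eq_card]
    exact hidx
  · intro n hn
    have h1 : (⟨n, hn⟩ : N) ∈ ((P' : Set N) * (H : Set N)) := by
      have := hH.mul_eq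
      rw [this]; trivial
    obtain ⟨a, ha, b, hb, hab⟩ := Set.mem_mul.mp h1
    refine ⟨a.1, ?_, b.1, ?_, ?_⟩
    · exact mem_subgroupOf.mp ha
    · exact mem_map.mpr ⟨b, hb, rfl⟩
    · have := congrArg Subtype.val hab
      simpa using this.symm
  · have h1 : Nat.card (H.map N.subtype) = Nat.card H :=
      Nat.card_congr (H.equivMapOfInjective N.subtype N.subtype_injective).toEquiv.symm
    rw [h1, ← hcardP']
    exact hH.card_mul_card

/-- The internal form of "normal `p`-complement or normal Sylow `p`-subgroup" for a subgroup. -/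
def ConS (p : ℕ) (X : Subgroup G) : Prop :=
  (∃ K T : Subgroup G, K ≤ X ∧ T ≤ X ∧ X ≤ normalizer (K : Set G) ∧ IsPGroup p T ∧
      (∀ x ∈ X, x ∈ K ↔ (orderOf x).Coprime p) ∧ Nat.card K * Nat.card T = Nat.card X) ∨
  (∃ T : Subgroup G, T ≤ X ∧ X ≤ normalizer (T : Set G) ∧ IsPGroup p T ∧
      ∀ x ∈ X, (∃ k : ℕ, x ^ p ^ k = 1) → x ∈ T)

/-- The typed conclusion. -/
def Con (p : ℕ) (G : Type u) [Group G] : Prop :=
  Cfsg.HasNormalPComplement p G ∨ ∃ P : Sylow p G, (P : Subgroup G).Normal

theorem le_normalizer_map_of_normal {X : Subgroup G} (N : Subgroup X) [hN : N.Normal] :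
    X ≤ normalizer ((N.map X.subtype : Subgroup G) : Set G) := by
  have fwd : ∀ g ∈ X, ∀ h ∈ N.map X.subtype, g * h * g⁻¹ ∈ N.map X.subtype := by
    intro g hg h hh
    obtain ⟨n, hn, rfl⟩ := mem_map.mp hh
    refine mem_map.mpr ⟨⟨g, hg⟩ * n * ⟨g, hg⟩⁻¹, hN.conj_mem n hn ⟨g, hg⟩, ?_⟩
    simp
  intro g hg
  rw [mem_normalizer_iff]
  intro h
  constructor
  · exact fwd g hg h
  · intro hh
    have := fwd g⁻¹ (X.inv_mem hg) _ hh
    have e : g⁻¹ * (g * h * g⁻¹) * g⁻¹⁻¹ = h := by group
    rwa [e] at this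

theorem conS_of_con [Finite G] {p : ℕ} [Fact p.Prime] (X : Subgroup G) (h : Con p X) :
    ConS p X := by
  rcases h with ⟨S, N, hNn, hcomp⟩ | ⟨S, hS⟩
  · left
    haveI := hNn
    refine ⟨N.map X.subtype, (S : Subgroup X).map X.subtype, map_subtype_le N,
      map_subtype_le _, le_normalizer_map_of_normal N, S.2.map _, ?_, ?_⟩
    · intro x hx
      have h1 := Cfsg.Agent.Lib.Helper1.mem_normal_complement_iff S N hcomp ⟨x, hx⟩
      rw [← Subgroup.orderOf_coe] at h1
      rw [← h1]
      constructor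
      · intro hxK
        obtain ⟨n, hn, hnx⟩ := mem_map.mp hxK
        have : n = ⟨x, hx⟩ := Subtype.ext hnx
        rwa [← this]
      · intro hxN
        exact mem_map.mpr ⟨⟨x, hx⟩, hxN, rfl⟩
    · have h1 : Nat.card (N.map X.subtype) = Nat.card N :=
        Nat.card_congr (N.equivMapOfInjective X.subtype X.subtype_injective).toEquiv.symm
      have h2 : Nat.card ((S : Subgroup X).map X.subtype) = Nat.card (S : Subgroup X) :=
        Nat.card_congr ((S : Subgroup X).equivMapOfInjective X.subtype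
          X.subtype_injective).toEquiv.symm
      rw [h1, h2]
      exact hcomp.card_mul_card
  · right
    haveI := hS
    refine ⟨(S : Subgroup X).map X.subtype, map_subtype_le _,
      le_normalizer_map_of_normal (S : Subgroup X), S.2.map _, ?_⟩
    intro x hx hxp
    obtain ⟨S', hS'⟩ := exists_sylow_mem (G := X) (p := p) (x := ⟨x, hx⟩) (by
      obtain ⟨k, hk⟩ := hxp
      exact ⟨k, Subtype.ext (by simpa using hk)⟩)
    obtain ⟨g, hg⟩ := MulAction.exists_smul_eq X S S'
    have : S' = S := by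
      rw [← hg]
      exact Sylow.smul_eq_of_normal
    rw [this] at hS'
    exact mem_map.mpr ⟨⟨x, hx⟩, hS', rfl⟩

end Cfsg.Agent.Lib.Helper4.Cyc
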