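import Mathlib
import Cfsg.Agent.Lib.Helper4.Cyc3

/-!
# The simple case: basic structure
-/

set_option autoImplicit false

namespace Cfsg.Agent.Lib.Helper4.Cyc

open Subgroup

universe u

variable {G : Type u} [Group G] [Finite G] {p : ℕ} [Fact p.Prime]

/-- The minimal-counterexample context: `G` is non-abelian simple, Sylow `p`-subgroups are cyclic,
`p'`-subgroups are abelian, proper subgroups satisfy the conclusion. -/
structure Ctx (G : Type u) [Group G] [Finite G] (p : ℕ) [Fact p.Prime] : Prop where
  simple : IsSimpleGroup G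
  nonab : ∃ a b : G, a * b ≠ b * a
  cyc : ∀ P : Sylow p G, IsCyclic (P : Subgroup G)
  ab : ∀ H : Subgroup G, ¬ p ∣ Nat.card H → ∀ a ∈ H, ∀ b ∈ H, a * b = b * a
  con : ∀ X : Subgroup G, X ≠ ⊤ → ConS p X

namespace Ctx

variable (c : Ctx G p)
include c

theorem normal_eq (H : Subgroup G) (hH : H.Normal) : H = ⊥ ∨ H = ⊤ := by
  haveI := c.simple
  exact hH.eq_bot_or_eq_top

theorem perfect : commutator G = ⊤ := by
  rcases c.normal_eq (commutator G) inferInstance with h | h
  · exfalso
    obtain ⟨a, b, hab⟩ := c.nonab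
    apply hab
    have h1 : a * b * a⁻¹ * b⁻¹ ∈ commutator G := by
      rw [_root_.commutator_def]
      have := Subgroup.commutator_mem_commutator (H₁ := (⊤ : Subgroup G)) (H₂ := (⊤ : Subgroup G))
        (mem_top a) (mem_top b)
      rwa [commutatorElement_def] at this
    rw [h, mem_bot] at h1
    calc a * b = (a * b * a⁻¹ * b⁻¹) * b * a := by group
      _ = b * a := by rw [h1, one_mul]
  · exact h

theorem center_eq_bot : center G = ⊥ := by
  rcases c.normal_eq (center G) inferInstance with h | h
  · exact h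
  · exfalso
    obtain ⟨a, b, hab⟩ := c.nonab
    apply hab
    have : b ∈ center G := by rw [h]; exact mem_top b
    exact (mem_center_iff.mp this a)

theorem p_dvd : p ∣ Nat.card G := by
  by_contra h
  obtain ⟨a, b, hab⟩ := c.nonab
  apply hab
  have h1 : ¬ p ∣ Nat.card (⊤ : Subgroup G) := by rwa [card_top]
  exact c.ab ⊤ h1 a (mem_top a) b (mem_top b)

theorem not_top_abelian (h : ∀ a b : G, a * b = b * a) : False := by
  obtain ⟨a, b, hab⟩ := c.nonab
  exact hab (h a b)

/-- Burnside's transfer theorem in the simple group `G`. -/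
theorem burnside {r : ℕ} [Fact r.Prime] (R : Sylow r G) (hr : r ∣ Nat.card G)
    (h : normalizer ((R : Subgroup G) : Set G) ≤ centralizer ((R : Subgroup G) : Set G)) :
    False := by
  have hcomp := MonoidHom.ker_transferSylow_isComplement' R h
  have hcard := hcomp.card_mul_card
  rcases c.normal_eq _ (MonoidHom.transferSylow R h).normal_ker with hb | ht
  · rw [hb, card_bot, one_mul] at hcard
    have hR : (R : Subgroup G) = ⊤ := (R : Subgroup G).eq_top_of_card_eq hcard
    apply c.not_top_abelian
    intro a b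
    have ha : a ∈ normalizer ((R : Subgroup G) : Set G) := by
      have hn : (R : Subgroup G).Normal := by rw [hR]; infer_instance
      rw [normalizer_eq_top_iff.mpr hn]; exact mem_top a
    have hb' : b ∈ (R : Subgroup G) := by rw [hR]; exact mem_top b
    have := mem_centralizer_iff.mp (h ha) b hb'
    exact this.symm
  · rw [ht, card_top] at hcard
    have h1 : Nat.card (R : Subgroup G) = 1 := by
      have hpos : 0 < Nat.card G := Nat.card_pos
      exact Nat.eq_of_mul_eq_mul_left hpos (hcard.trans (mul_one _).symm)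
    have h2 : (R : Subgroup G) ≠ ⊥ := R.ne_bot_of_dvd_card hr
    exact h2 (card_eq_one.mp h1)

theorem sylow_ne_bot (P : Sylow p G) : (P : Subgroup G) ≠ ⊥ := P.ne_bot_of_dvd_card c.p_dvd

theorem sylow_comm (P : Sylow p G) {a b : G} (ha : a ∈ (P : Subgroup G))
    (hb : b ∈ (P : Subgroup G)) : a * b = b * a := comm_of_cyclic (c.cyc P) ha hb

theorem sylow_ne_top (P : Sylow p G) : (P : Subgroup G) ≠ ⊤ := by
  intro h
  apply c.not_top_abelian
  intro a b
  exact c.sylow_comm P (by rw [h]; exact mem_top a) (by rw [h]; exact mem_top b)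

theorem normalizer_ne_top (P : Sylow p G) : normalizer ((P : Subgroup G) : Set G) ≠ ⊤ := by
  intro h
  have : (P : Subgroup G).Normal := normalizer_eq_top_iff.mp h
  rcases c.normal_eq _ this with h1 | h1
  · exact c.sylow_ne_bot P h1
  · exact c.sylow_ne_top P h1

/-- A proper subgroup containing the normalizer of a Sylow `p`-subgroup equals it. -/
theorem max_norm (P : Sylow p G) (X : Subgroup G)
    (hX : normalizer ((P : Subgroup G) : Set G) ≤ X) (hX' : X ≠ ⊤) :
    X ≤ normalizer ((P : Subgroup G) : Set G) := by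
  have hp : p.Prime := Fact.out
  have hPX : (P : Subgroup G) ≤ X := le_normalizer.trans hX
  rcases c.con X hX' with ⟨K, T, hKX, hTX, hXK, hT, hel, hcard⟩ | ⟨T, hTX, hXT, hT, hel⟩
  · exfalso
    apply c.burnside P c.p_dvd
    intro n hn
    rw [mem_centralizer_iff]
    intro x hx
    obtain ⟨a, ha, b, hb, hab, hap, hbo⟩ := exists_parts hp n
    have hzn : zpowers n ≤ normalizer ((P : Subgroup G) : Set G) := by
      rw [zpowers_le]; exact hn
    have haP : a ∈ (P : Subgroup G) := mem_sylow_of_normalizes P (hzn ha) hap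
    have hbK : b ∈ K := (hel b (hX (hzn hb))).mpr hbo
    have hbx : b * x = x * b := by
      have h1 : b * x * b⁻¹ * x⁻¹ ∈ (P : Subgroup G) :=
        (P : Subgroup G).mul_mem ((mem_normalizer_iff.mp (hzn hb) x).mp hx)
          ((P : Subgroup G).inv_mem hx)
      have h2 : b * x * b⁻¹ * x⁻¹ ∈ K := by
        have h3 : x * b⁻¹ * x⁻¹ ∈ K := (mem_normalizer_iff.mp (hXK (hPX hx)) b⁻¹).mp (K.inv_mem hbK)
        have := K.mul_mem hbK h3
        have e : b * (x * b⁻¹ * x⁻¹) = b * x * b⁻¹ * x⁻¹ := by group
        rwa [e] at this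
      have h4 := (hel _ (hKX h2)).mp h2
      have h5 := eq_one_of_pelem_of_coprime (pelem_of_mem_pgroup P.2 h1) h4
      calc b * x = (b * x * b⁻¹ * x⁻¹) * x * b := by group
        _ = x * b := by rw [h5, one_mul]
    have hax : a * x = x * a := c.sylow_comm P haP hx
    rw [hab]
    calc x * (a * b) = (x * a) * b := by group
      _ = (a * x) * b := by rw [hax]
      _ = a * (x * b) := by group
      _ = a * (b * x) := by rw [hbx]
      _ = a * b * x := by group
  · have hPT : (P : Subgroup G) ≤ T := fun x hx => hel x (hPX hx) (pelem_of_mem_pgroup P.2 hx)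
    have hTP : T = (P : Subgroup G) := P.3 hT hPT
    rw [← hTP]
    exact hXT

/-- The normalizer of the subgroup of order `p` of `P` is the normalizer of `P`. -/
theorem normalizer_zpowers (P : Sylow p G) {z : G} (hz : z ∈ (P : Subgroup G))
    (hzo : orderOf z = p) :
    normalizer ((zpowers z : Subgroup G) : Set G) = normalizer ((P : Subgroup G) : Set G) := by
  have hp : p.Prime := Fact.out
  have hz1 : z ≠ 1 := by
    intro h
    rw [h, orderOf_one] at hzo
    exact hp.one_lt.ne hzo
  have fwd : ∀ n ∈ normalizer ((P : Subgroup G) : Set G), ∀ h ∈ zpowers z,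
      n * h * n⁻¹ ∈ zpowers z := by
    intro n hn h hh
    obtain ⟨m, rfl⟩ := mem_zpowers_iff.mp hh
    have h1 : n * z ^ m * n⁻¹ = (n * z * n⁻¹) ^ m := by rw [conj_zpow]
    rw [h1]
    apply zpow_mem
    have h2 : n * z * n⁻¹ ∈ (P : Subgroup G) := (mem_normalizer_iff.mp hn z).mp hz
    have h3 : (n * z * n⁻¹) ^ p = 1 := by
      rw [conj_pow, ← hzo, pow_orderOf_eq_one]; group
    exact mem_zpowers_of_pow_eq_one (c.cyc P) P.2 hz hz1 h2 h3
  apply le_antisymm
  · apply c.max_norm P
    · intro n hn
      rw [mem_normalizer_iff]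
      intro h
      constructor
      · exact fwd n hn h
      · intro hh
        have := fwd n⁻¹ (inv_mem hn) _ hh
        have e : n⁻¹ * (n * h * n⁻¹) * n⁻¹⁻¹ = h := by group
        rwa [e] at this
    · intro h
      have hn : (zpowers z).Normal := normalizer_eq_top_iff.mp h
      rcases c.normal_eq _ hn with h1 | h1
      · rw [zpowers_eq_bot] at h1
        exact hz1 h1
      · apply c.not_top_abelian
        intro a b
        have ha : a ∈ zpowers z := by rw [h1]; exact mem_top a
        have hb : b ∈ zpowers z := by rw [h1]; exact mem_top b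
        obtain ⟨i, rfl⟩ := mem_zpowers_iff.mp ha
        obtain ⟨j, rfl⟩ := mem_zpowers_iff.mp hb
        exact (Commute.refl z).zpow_zpow i j
  · intro n hn
    rw [mem_normalizer_iff]
    intro h
    constructor
    · exact fwd n hn h
    · intro hh
      have := fwd n⁻¹ (inv_mem hn) _ hh
      have e : n⁻¹ * (n * h * n⁻¹) * n⁻¹⁻¹ = h := by group
      rwa [e] at this

omit c in
theorem exists_order_p (P : Sylow p G) {x : G} (hx : x ∈ (P : Subgroup G)) (hx1 : x ≠ 1) :
    ∃ z ∈ zpowers x, z ∈ (P : Subgroup G) ∧ orderOf z = p := by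
  obtain ⟨z, hz, hzo⟩ := exists_orderOf_eq_prime_zpowers (pelem_of_mem_pgroup P.2 hx) hx1
  have : zpowers x ≤ (P : Subgroup G) := by rw [zpowers_le]; exact hx
  exact ⟨z, hz, this hz, hzo⟩

/-- The centralizer of a nontrivial element of `P` lies in the normalizer of `P`. -/
theorem cent_le_norm (P : Sylow p G) {x : G} (hx : x ∈ (P : Subgroup G)) (hx1 : x ≠ 1) {g : G}
    (hg : g * x = x * g) : g ∈ normalizer ((P : Subgroup G) : Set G) := by
  obtain ⟨z, hzx, hzP, hzo⟩ := exists_order_p P hx hx1
  rw [← c.normalizer_zpowers P hzP hzo]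
  have hgz : ∀ h ∈ zpowers z, g * h * g⁻¹ = h := by
    intro h hh
    obtain ⟨i, rfl⟩ := mem_zpowers_iff.mp hzx
    obtain ⟨j, rfl⟩ := mem_zpowers_iff.mp hh
    have h1 : Commute g x := hg
    have h2 : Commute g ((x ^ i) ^ j) := (h1.zpow_right i).zpow_right j
    rw [h2.eq, mul_inv_cancel_right]
  rw [mem_normalizer_iff]
  intro h
  constructor
  · intro hh
    rw [hgz h hh]; exact hh
  · intro hh
    have h2 := hgz _ hh
    have h3 : g * h * g⁻¹ = h := by
      have e : g * (g * h * g⁻¹) * g⁻¹ = g * (g * h * g⁻¹ * g⁻¹) := by group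
      have e2 : g * h * g⁻¹ = g * (h * g⁻¹) := by group
      rw [e, e2] at h2
      have h4 := mul_left_cancel h2
      have e3 : g * (h * g⁻¹) * g⁻¹ = (g * h * g⁻¹) * g⁻¹ := by group
      rw [e3] at h4
      exact mul_right_cancel h4
    rw [← h3]; exact hh

/-- Sylow `p`-subgroups are T.I. -/
theorem ti (P P' : Sylow p G) {x : G} (hx : x ∈ (P : Subgroup G)) (hx' : x ∈ (P' : Subgroup G))
    (hx1 : x ≠ 1) : P = P' := by
  obtain ⟨z, hzx, hzP, hzo⟩ := exists_order_p P hx hx1
  have hzP' : z ∈ (P' : Subgroup G) := by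
    have : zpowers x ≤ (P' : Subgroup G) := by rw [zpowers_le]; exact hx'
    exact this hzx
  have h1 := c.normalizer_zpowers P hzP hzo
  have h2 := c.normalizer_zpowers P' hzP' hzo
  have h3 : (P' : Subgroup G) ≤ (P : Subgroup G) := by
    intro y hy
    apply mem_sylow_of_normalizes P _ (pelem_of_mem_pgroup P'.2 hy)
    rw [← h1, h2]
    exact le_normalizer hy
  have h4 : (P : Subgroup G) = (P' : Subgroup G) := P'.3 P.2 h3
  exact Sylow.ext h4

/-- The centralizer of a nontrivial element of `P` centralizes `P`. -/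
theorem cent_eq (P : Sylow p G) {x : G} (hx : x ∈ (P : Subgroup G)) (hx1 : x ≠ 1) {g : G}
    (hg : g * x = x * g) : ∀ y ∈ (P : Subgroup G), g * y = y * g := by
  have hp : p.Prime := Fact.out
  intro y hy
  have hgN := c.cent_le_norm P hx hx1 hg
  obtain ⟨a, ha, b, hb, hab, hap, hbo⟩ := exists_parts hp g
  have hzg : zpowers g ≤ normalizer ((P : Subgroup G) : Set G) := by
    rw [zpowers_le]; exact hgN
  have haP : a ∈ (P : Subgroup G) := mem_sylow_of_normalizes P (hzg ha) hap
  have hbx : b * x = x * b := by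
    obtain ⟨j, rfl⟩ := mem_zpowers_iff.mp hb
    have h1 : Commute g x := hg
    exact (h1.zpow_left j).eq
  have hby := centralizes_of_cyclic (c.cyc P) P.2 (hzg hb) hbo hx hx1 hbx y hy
  have hay := c.sylow_comm P haP hy
  rw [hab]
  calc a * b * y = a * (b * y) := by group
    _ = a * (y * b) := by rw [hby]
    _ = (a * y) * b := by group
    _ = (y * a) * b := by rw [hay]
    _ = y * (a * b) := by group

end Ctx

end Cfsg.Agent.Lib.Helper4.Cyc
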