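import Mathlib
import Cfsg.Agent.Lib.Helper4.Cyc4

/-!
# The simple case: the complement `Q`, the `p'`-elements of `C_G(P)`, normalizers of other Sylows
-/

set_option autoImplicit false

namespace Cfsg.Agent.Lib.Helper4.Cyc

open Subgroup

universe u

variable {G : Type u} [Group G] [Finite G] {p : ℕ} [Fact p.Prime]

omit [Finite G] [Fact p.Prime] in
/-- Conjugates in a Sylow subgroup, in terms of the action on Sylow subgroups. -/
theorem conj_mem_smul_sylow (P : Sylow p G) {x : G} (hx : x ∈ (P : Subgroup G)) (g : G) :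
    g * x * g⁻¹ ∈ ((g • P : Sylow p G) : Subgroup G) := by
  rw [Sylow.smul_def, Sylow.pointwise_smul_def]
  exact Subgroup.smul_mem_pointwise_smul x (MulAut.conj g) (P : Subgroup G) hx

omit [Finite G] [Fact p.Prime] in
theorem mem_smul_sylow_iff (P : Sylow p G) (g y : G) :
    y ∈ ((g • P : Sylow p G) : Subgroup G) ↔ g⁻¹ * y * g ∈ (P : Subgroup G) := by
  rw [Sylow.smul_def, Sylow.pointwise_smul_def, Subgroup.mem_pointwise_smul_iff_inv_smul_mem]
  simp [MulAut.smul_def]

namespace Ctx

variable (c : Ctx G p)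
include c

theorem mem_normalizer_of_conj_mem (P : Sylow p G) {x g : G} (hx : x ∈ (P : Subgroup G))
    (hx1 : x ≠ 1) (h : g * x * g⁻¹ ∈ (P : Subgroup G)) :
    g ∈ normalizer ((P : Subgroup G) : Set G) := by
  have h1 := conj_mem_smul_sylow P hx g
  have h2 : g * x * g⁻¹ ≠ 1 := by
    intro h3
    apply hx1
    have : x = g⁻¹ * (g * x * g⁻¹) * g := by group
    rw [this, h3]; group
  have h3 := c.ti (g • P) P h1 h h2
  exact Sylow.smul_eq_iff_mem_normalizer.mp h3

theorem compl_comm {P : Sylow p G} {Q : Subgroup G} (hQ : ComplPkg P Q) {a b : G}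
    (ha : a ∈ Q) (hb : b ∈ Q) : a * b = b * a := c.ab Q hQ.cop a ha b hb

omit c [Finite G] [Fact p.Prime] in
theorem cent_mem_normalizer (P : Sylow p G) {g : G}
    (hg : ∀ y ∈ (P : Subgroup G), g * y = y * g) :
    g ∈ normalizer ((P : Subgroup G) : Set G) := by
  rw [mem_normalizer_iff]
  intro h
  constructor
  · intro hh
    rw [hg h hh, mul_inv_cancel_right]; exact hh
  · intro hh
    have h1 := hg _ hh
    have h2 : g * h * g⁻¹ = h := by
      have e : g * (g * h * g⁻¹) = g * (g * h * g⁻¹) * g⁻¹ * g := by group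
      have h3 : g * (g * h * g⁻¹) * g⁻¹ = g * h * g⁻¹ := by
        rw [h1]; group
      have h4 : g * (g * h * g⁻¹ * g⁻¹) = g * (h * g⁻¹) := by
        have e1 : g * (g * h * g⁻¹ * g⁻¹) = g * (g * h * g⁻¹) * g⁻¹ := by group
        have e2 : g * (h * g⁻¹) = g * h * g⁻¹ := by group
        rw [e1, e2, h3]
      have h5 := mul_left_cancel h4
      have e3 : g * h * g⁻¹ * g⁻¹ = (g * h * g⁻¹) * g⁻¹ := rfl
      exact mul_right_cancel h5
    rw [← h2]; exact hh

omit c in
/-- A `p'`-element centralizing `P` lies in every complement `Q`. -/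
theorem pprime_cent_mem {P : Sylow p G} {Q : Subgroup G} (hQ : ComplPkg P Q) {g : G}
    (hg : ∀ y ∈ (P : Subgroup G), g * y = y * g) (hgo : (orderOf g).Coprime p) : g ∈ Q := by
  have hgN := cent_mem_normalizer P hg
  obtain ⟨x, hx, q, hq, hgxq⟩ := hQ.prod g hgN
  have hxg : x * g = g * x := (hg x hx).symm
  have hxq : Commute x q := by
    have h1 : q = x⁻¹ * g := by rw [hgxq]; group
    rw [h1]
    have : Commute x g := hxg
    exact (Commute.refl x).inv_right.mul_right this
  set m := orderOf g with hm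
  have h1 : x ^ m * q ^ m = 1 := by
    rw [← hxq.mul_pow, ← hgxq, hm, pow_orderOf_eq_one]
  have h2 : x ^ m = (q ^ m)⁻¹ := eq_inv_of_mul_eq_one_left h1
  have h3 : x ^ m ∈ Q := by rw [h2]; exact Q.inv_mem (Q.pow_mem hq m)
  have h4 : x ^ m = 1 :=
    eq_one_of_pelem_of_coprime (pelem_of_mem_pgroup P.2 ((P : Subgroup G).pow_mem hx m))
      (coprime_orderOf_of_not_dvd_card hQ.cop h3)
  have h5 : orderOf x ∣ m := orderOf_dvd_of_pow_eq_one h4
  obtain ⟨k, hk⟩ := pelem_of_mem_pgroup P.2 hx
  have h6 : orderOf x ∣ p ^ k := orderOf_dvd_of_pow_eq_one hk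
  have h7 : orderOf x = 1 := Nat.eq_one_of_dvd_coprimes (hgo.pow_right k) h5 h6
  have h8 : x = 1 := orderOf_eq_one_iff.mp h7
  rw [hgxq, h8, one_mul]; exact hq

/-- Not all of `Q` centralizes `P`. -/
theorem exists_not_cent {P : Sylow p G} {Q : Subgroup G} (hQ : ComplPkg P Q) :
    ∃ q ∈ Q, ∃ y ∈ (P : Subgroup G), q * y ≠ y * q := by
  by_contra hcon
  push Not at hcon
  apply c.burnside P c.p_dvd
  intro n hn
  rw [mem_centralizer_iff]
  intro y hy
  obtain ⟨x, hx, q, hq, rfl⟩ := hQ.prod n hn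
  have h1 := hcon q hq y hy
  have h2 := c.sylow_comm P hx hy
  calc y * (x * q) = (y * x) * q := by group
    _ = (x * y) * q := by rw [h2]
    _ = x * (y * q) := by group
    _ = x * (q * y) := by rw [h1]
    _ = x * q * y := by group

/-- `p` is odd. -/
theorem p_ne_two : p ≠ 2 := by
  intro hp2
  obtain ⟨P⟩ : Nonempty (Sylow p G) := inferInstance
  obtain ⟨Q, hQ⟩ := exists_complPkg P
  obtain ⟨q, hq, y, hy, hqy⟩ := c.exists_not_cent hQ
  apply hqy
  have hP1 := c.sylow_ne_bot P
  obtain ⟨x, hx, hx1⟩ : ∃ x ∈ (P : Subgroup G), x ≠ 1 := by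
    by_contra hcon
    push Not at hcon
    apply hP1
    rw [eq_bot_iff]
    intro x hx
    rw [mem_bot]; exact hcon x hx
  obtain ⟨z, hzx, hzP, hzo⟩ := exists_order_p P hx hx1
  have hz1 : z ≠ 1 := by
    intro h; rw [h, orderOf_one] at hzo
    exact (Fact.out : p.Prime).one_lt.ne hzo
  have hqN : q ∈ normalizer ((zpowers z : Subgroup G) : Set G) := by
    rw [c.normalizer_zpowers P hzP hzo]; exact hQ.le hq
  have h1 : q * z * q⁻¹ ∈ zpowers z := (mem_normalizer_iff.mp hqN z).mp (mem_zpowers z)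
  obtain ⟨i, hi⟩ := mem_zpowers_iff.mp h1
  have h2 : z ^ (i % 2) = z ^ i := by
    have := zpow_mod_orderOf z i
    rw [hzo, hp2] at this
    exact_mod_cast this
  have h3 : q * z * q⁻¹ ≠ 1 := by
    intro h4
    apply hz1
    have : z = q⁻¹ * (q * z * q⁻¹) * q := by group
    rw [this, h4]; group
  have h4 : q * z * q⁻¹ = z := by
    rcases Int.emod_two_eq_zero_or_one i with h5 | h5
    · exfalso; apply h3
      rw [← hi, ← h2, h5, zpow_zero]
    · rw [← hi, ← h2, h5, zpow_one]
  have h5 : q * z = z * q := by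
    calc q * z = (q * z * q⁻¹) * q := by group
      _ = z * q := by rw [h4]
  exact centralizes_of_cyclic (c.cyc P) P.2 (hQ.le hq)
    (coprime_orderOf_of_not_dvd_card hQ.cop hq) hzP hz1 h5 y hy

/-- The centralizer of a nontrivial `p'`-element centralizing `P` is `N_G(P)`. -/
theorem cent_pprime_le (P : Sylow p G) {z : G} (hz : ∀ y ∈ (P : Subgroup G), z * y = y * z)
    (hzo : (orderOf z).Coprime p) (hz1 : z ≠ 1) {g : G} (hg : g * z = z * g) :
    g ∈ normalizer ((P : Subgroup G) : Set G) := by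
  obtain ⟨Q, hQ⟩ := exists_complPkg P
  have hzQ := pprime_cent_mem hQ hz hzo
  apply c.max_norm P (centralizer {z})
  · intro n hn
    rw [mem_centralizer_iff]
    intro y hy
    rw [Set.mem_singleton_iff] at hy
    subst hy
    obtain ⟨x, hx, q, hq, rfl⟩ := hQ.prod n hn
    have h1 := hz x hx
    have h2 := c.compl_comm hQ hzQ hq
    calc y * (x * q) = (y * x) * q := by group
      _ = (x * y) * q := by rw [h1]
      _ = x * (y * q) := by group
      _ = x * (q * y) := by rw [h2]
      _ = x * q * y := by group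
  · intro htop
    apply hz1
    have : z ∈ center G := by
      rw [mem_center_iff]
      intro g'
      have h1 : g' ∈ centralizer ({z} : Set G) := by rw [htop]; exact mem_top g'
      exact (mem_centralizer_iff.mp h1 z rfl).symm
    rw [c.center_eq_bot, mem_bot] at this
    exact this
  · rw [mem_centralizer_iff]
    intro y hy
    rw [Set.mem_singleton_iff] at hy
    subst hy
    exact hg.symm

end Ctx

end Cfsg.Agent.Lib.Helper4.Cyc
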