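import Mathlib
import Cfsg.Agent.Lib.Helper4.Cyc5

/-!
# The simple case: normalizers of Sylow `r`-subgroups, `r ≠ p`
-/

set_option autoImplicit false

namespace Cfsg.Agent.Lib.Helper4.Cyc

open Subgroup

universe u

variable {G : Type u} [Group G] [Finite G] {p : ℕ} [Fact p.Prime]

namespace Ctx

variable (c : Ctx G p)
include c

/-- Structure of the normalizer of a Sylow `r`-subgroup, `r ≠ p`. -/
theorem sylow_normalizer_npc {r : ℕ} [Fact r.Prime] (hrp : r ≠ p) (hr : r ∣ Nat.card G)
    (R : Sylow r G) :
    ∃ K T : Subgroup G, K ≤ normalizer ((R : Subgroup G) : Set G) ∧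
      T ≤ normalizer ((R : Subgroup G) : Set G) ∧
      normalizer ((R : Subgroup G) : Set G) ≤ normalizer (K : Set G) ∧ IsPGroup p T ∧
      (∀ x ∈ normalizer ((R : Subgroup G) : Set G), x ∈ K ↔ (orderOf x).Coprime p) ∧
      Nat.card K * Nat.card T = Nat.card (normalizer ((R : Subgroup G) : Set G)) ∧
      T ≠ ⊥ ∧ (R : Subgroup G) ≤ K ∧ ¬ p ∣ Nat.card K := by
  have hp : p.Prime := Fact.out
  have hr' : r.Prime := Fact.out
  set X := normalizer ((R : Subgroup G) : Set G) with hX
  have hRcop : ¬ p ∣ Nat.card (R : Subgroup G) := by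
    obtain ⟨k, hk⟩ := R.2.exists_card_eq
    rw [hk]
    intro h
    have := hp.dvd_of_dvd_pow h
    exact hrp ((Nat.prime_dvd_prime_iff_eq hp hr').mp this).symm
  have hRbot : (R : Subgroup G) ≠ ⊥ := R.ne_bot_of_dvd_card hr
  have hXne : X ≠ ⊤ := by
    intro h
    have hn : (R : Subgroup G).Normal := normalizer_eq_top_iff.mp h
    rcases c.normal_eq _ hn with h1 | h1
    · exact hRbot h1
    · apply c.not_top_abelian
      intro a b
      exact c.ab (R : Subgroup G) hRcop a (by rw [h1]; exact mem_top a) b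
        (by rw [h1]; exact mem_top b)
  have hfalse : ¬ p ∣ Nat.card X → False := by
    intro h
    apply c.burnside R hr
    intro n hn
    rw [mem_centralizer_iff]
    intro y hy
    exact c.ab X h y (le_normalizer hy) n hn
  rcases c.con X hXne with ⟨K, T, hKX, hTX, hXK, hT, hel, hcard⟩ | ⟨T, hTX, hXT, hT, hel⟩
  · by_cases hTbot : T = ⊥
    · exfalso
      apply hfalse
      have h1 : Nat.card T = 1 := by rw [hTbot, card_bot]
      rw [h1, mul_one] at hcard
      have h2 : K = X := Subgroup.eq_of_le_of_card_ge hKX hcard.symm.le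
      apply not_dvd_card_of_forall
      intro x hx
      have hxK : x ∈ K := by rw [h2]; exact hx
      exact (hel x hx).mp hxK
    · refine ⟨K, T, hKX, hTX, hXK, hT, hel, hcard, hTbot, ?_, ?_⟩
      · intro x hx
        exact (hel x (le_normalizer hx)).mpr (coprime_orderOf_of_not_dvd_card hRcop hx)
      · exact not_dvd_card_of_forall (fun x hx => (hel x (hKX hx)).mp hx)
  · exfalso
    by_cases hTbot : T = ⊥
    · apply hfalse
      apply not_dvd_card_of_forall
      intro x hx
      obtain ⟨a, ha, b, hb, hab, hap, hbo⟩ := exists_parts hp x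
      have hzx : zpowers x ≤ X := by rw [zpowers_le]; exact hx
      have haT : a ∈ T := hel a (hzx ha) hap
      rw [hTbot, mem_bot] at haT
      rw [hab, haT, one_mul]; exact hbo
    · obtain ⟨⟨x, hxT⟩, hx1'⟩ := (Subgroup.ne_bot_iff_exists_ne_one).mp hTbot
      have hx1 : x ≠ 1 := by
        intro h; apply hx1'; exact Subtype.ext h
      have hxp := pelem_of_mem_pgroup hT hxT
      obtain ⟨P', hxP'⟩ := exists_sylow_mem (p := p) hxp
      obtain ⟨Q', hQ'⟩ := exists_complPkg P'
      have hRx : ∀ g ∈ (R : Subgroup G), g * x = x * g := by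
        intro g hg
        have hgX : g ∈ X := le_normalizer hg
        have h1 : g * x * g⁻¹ * x⁻¹ ∈ T :=
          T.mul_mem ((mem_normalizer_iff.mp (hXT hgX) x).mp hxT) (T.inv_mem hxT)
        have h2 : g * x * g⁻¹ * x⁻¹ ∈ (R : Subgroup G) := by
          have h3 : x * g⁻¹ * x⁻¹ ∈ (R : Subgroup G) :=
            (mem_normalizer_iff.mp (hTX hxT) g⁻¹).mp ((R : Subgroup G).inv_mem hg)
          have := (R : Subgroup G).mul_mem hg h3
          have e : g * (x * g⁻¹ * x⁻¹) = g * x * g⁻¹ * x⁻¹ := by group
          rwa [e] at this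
        have h4 := eq_one_of_pelem_of_coprime (pelem_of_mem_pgroup hT h1)
          (coprime_orderOf_of_not_dvd_card hRcop h2)
        calc g * x = (g * x * g⁻¹ * x⁻¹) * x * g := by group
          _ = x * g := by rw [h4, one_mul]
      have hRcent : ∀ g ∈ (R : Subgroup G), ∀ y ∈ (P' : Subgroup G), g * y = y * g :=
        fun g hg => c.cent_eq P' hxP' hx1 (hRx g hg)
      have hRQ : (R : Subgroup G) ≤ Q' := fun g hg =>
        pprime_cent_mem hQ' (hRcent g hg) (coprime_orderOf_of_not_dvd_card hRcop hg)
      have hTP' : T ≤ (P' : Subgroup G) := by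
        obtain ⟨P'', hP''⟩ := hT.exists_le_sylow
        have := c.ti P'' P' (hP'' hxT) hxP' hx1
        rw [← this]; exact hP''
      apply c.burnside R hr
      intro n hn
      have hnN : n ∈ normalizer ((P' : Subgroup G) : Set G) := by
        apply c.mem_normalizer_of_conj_mem P' hxP' hx1
        exact hTP' ((mem_normalizer_iff.mp (hXT hn) x).mp hxT)
      obtain ⟨y, hy, q, hq, rfl⟩ := hQ'.prod n hnN
      rw [mem_centralizer_iff]
      intro g hg
      have h1 := hRcent g hg y hy
      have h2 := c.compl_comm hQ' (hRQ hg) hq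
      calc g * (y * q) = (g * y) * q := by group
        _ = (y * g) * q := by rw [h1]
        _ = y * (g * q) := by group
        _ = y * (q * g) := by rw [h2]
        _ = y * q * g := by group

end Ctx

end Cfsg.Agent.Lib.Helper4.Cyc
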