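import Mathlib
import Cfsg.Agent.Lib.Helper4.Cyc6

/-!
# The simple case with `C_G(P) = P`: `G` is a CA-group
-/

set_option autoImplicit false

namespace Cfsg.Agent.Lib.Helper4.Cyc

open Subgroup

universe u

variable {G : Type u} [Group G] [Finite G] {p : ℕ} [Fact p.Prime]

/-- No nontrivial `p'`-element centralizes a Sylow `p`-subgroup. -/
def ZTriv (G : Type u) [Group G] (p : ℕ) [Fact p.Prime] : Prop :=
  ∀ P : Sylow p G, ∀ g : G, (∀ y ∈ (P : Subgroup G), g * y = y * g) → (orderOf g).Coprime p →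
    g = 1

namespace Ctx

variable (c : Ctx G p) (hz : ZTriv G p)
include c hz

omit c in
/-- `C_G(P) = P`. -/
theorem cent_mem (P : Sylow p G) {g : G} (hg : ∀ y ∈ (P : Subgroup G), g * y = y * g) :
    g ∈ (P : Subgroup G) := by
  have hp : p.Prime := Fact.out
  obtain ⟨a, ha, b, hb, hab, hap, hbo⟩ := exists_parts hp g
  have hb1 : b = 1 := by
    apply hz P b _ hbo
    intro y hy
    obtain ⟨j, rfl⟩ := mem_zpowers_iff.mp hb
    have h1 : Commute g y := hg y hy
    exact (h1.zpow_left j).eq
  have hgN := cent_mem_normalizer P hg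
  have hzg : zpowers g ≤ normalizer ((P : Subgroup G) : Set G) := by
    rw [zpowers_le]; exact hgN
  have haP := mem_sylow_of_normalizes P (hzg ha) hap
  rw [hab, hb1, mul_one]; exact haP

/-- A nontrivial `p'`-element commutes with no nontrivial `p`-element. -/
theorem pelem_eq_one_of_comm {g x : G} (hg1 : g ≠ 1) (hgo : (orderOf g).Coprime p)
    (hxp : ∃ k : ℕ, x ^ p ^ k = 1) (hgx : g * x = x * g) : x = 1 := by
  by_contra hx1
  obtain ⟨P', hxP'⟩ := exists_sylow_mem (p := p) hxp
  exact hg1 (hz P' g (c.cent_eq P' hxP' hx1 hgx) hgo)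

/-- The centralizer of a nontrivial `p'`-element is a `p'`-group. -/
theorem not_dvd_card_centralizer {g : G} (hg1 : g ≠ 1) (hgo : (orderOf g).Coprime p) :
    ¬ p ∣ Nat.card (centralizer ({g} : Set G)) := by
  have hp : p.Prime := Fact.out
  apply not_dvd_card_of_forall
  intro h hh
  obtain ⟨a, ha, b, hb, hab, hap, hbo⟩ := exists_parts hp h
  have hga : g * a = a * g := by
    obtain ⟨j, rfl⟩ := mem_zpowers_iff.mp ha
    have h1 : Commute g h := (mem_centralizer_iff.mp hh g rfl)
    exact (h1.zpow_right j).eq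
  have ha1 := c.pelem_eq_one_of_comm hz hg1 hgo hap hga
  rw [hab, ha1, one_mul]; exact hbo

/-- `G` is a CA-group. -/
theorem ca (x : G) (hx1 : x ≠ 1) : ∀ a ∈ centralizer ({x} : Set G),
    ∀ b ∈ centralizer ({x} : Set G), a * b = b * a := by
  have hp : p.Prime := Fact.out
  obtain ⟨a₀, ha₀, b₀, hb₀, hab, hap, hbo⟩ := exists_parts hp x
  by_cases ha1 : a₀ = 1
  · have hxo : (orderOf x).Coprime p := by rw [hab, ha1, one_mul]; exact hbo
    exact c.ab _ (c.not_dvd_card_centralizer hz hx1 hxo)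
  · obtain ⟨P', haP'⟩ := exists_sylow_mem (p := p) hap
    have key : ∀ a ∈ centralizer ({x} : Set G), a ∈ (P' : Subgroup G) := by
      intro a ha
      apply cent_mem hz P'
      apply c.cent_eq P' haP' ha1
      obtain ⟨j, rfl⟩ := mem_zpowers_iff.mp ha₀
      have h1 : Commute a x := (mem_centralizer_iff.mp ha x rfl).symm
      exact (h1.zpow_right j).eq
    intro a ha b hb
    exact c.sylow_comm P' (key a ha) (key b hb)

end Ctx

end Cfsg.Agent.Lib.Helper4.Cyc
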