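import Mathlib
import Cfsg.Agent.Lib.Helper4.Cyc2

/-!
# Counting tools: conjugation actions on invariant subsets, involutions
-/

set_option autoImplicit false

namespace Cfsg.Agent.Lib.Helper4.Cyc

open Subgroup

universe u

variable {G : Type u} [Group G]

/-- Conjugation action of a subgroup on an invariant subset. -/
@[instance_reducible]
def conjAction (H : Subgroup G) (S : G → Prop)
    (hS : ∀ h ∈ H, ∀ x, S x → S (h * x * h⁻¹)) : MulAction H {x : G // S x} where
  smul h x := ⟨h.1 * x.1 * h.1⁻¹, hS h.1 h.2 x.1 x.2⟩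
  one_smul x := by
    apply Subtype.ext
    show ((1 : H) : G) * x.1 * ((1 : H) : G)⁻¹ = x.1
    simp
  mul_smul a b x := by
    apply Subtype.ext
    show ((a * b : H) : G) * x.1 * ((a * b : H) : G)⁻¹ = a.1 * (b.1 * x.1 * b.1⁻¹) * a.1⁻¹
    simp [mul_assoc]

theorem p_dvd_card_of_no_fixed [Finite G] {p : ℕ} [Fact p.Prime] (H : Subgroup G)
    (hH : IsPGroup p H) (S : G → Prop) (hS : ∀ h ∈ H, ∀ x, S x → S (h * x * h⁻¹))
    (hfix : ∀ x, S x → ∃ h ∈ H, h * x * h⁻¹ ≠ x) : p ∣ Nat.card {x : G // S x} := by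
  letI := conjAction H S hS
  have h1 := hH.card_modEq_card_fixedPoints {x : G // S x}
  have hempty : IsEmpty (MulAction.fixedPoints H {x : G // S x}) := by
    refine ⟨fun ⟨x, hx⟩ => ?_⟩
    obtain ⟨h, hh, hne⟩ := hfix x.1 x.2
    apply hne
    have h2 := hx ⟨h, hh⟩
    exact congrArg Subtype.val h2
  have h3 : Nat.card (MulAction.fixedPoints H {x : G // S x}) = 0 := Nat.card_of_isEmpty
  rw [h3] at h1
  exact (Nat.modEq_zero_iff_dvd).mp h1

omit [Group G] in
theorem card_split [Finite G] (A B : G → Prop) :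
    Nat.card {x : G // A x} =
      Nat.card {x : G // A x ∧ B x} + Nat.card {x : G // A x ∧ ¬ B x} := by
  classical
  haveI : Fintype G := Fintype.ofFinite G
  rw [Nat.card_eq_fintype_card, Nat.card_eq_fintype_card, Nat.card_eq_fintype_card,
    Fintype.card_subtype, Fintype.card_subtype, Fintype.card_subtype]
  rw [← Finset.filter_filter, ← Finset.filter_filter]
  exact (Finset.card_filter_add_card_filter_not (s := Finset.univ.filter A) B).symm

omit [Group G] in
theorem card_congr_prop (A B : G → Prop) (h : ∀ x, A x ↔ B x) :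
    Nat.card {x : G // A x} = Nat.card {x : G // B x} :=
  Nat.card_congr (Equiv.subtypeEquivRight h)

/-- Involutions. -/
def IsInv (u : G) : Prop := u ≠ 1 ∧ u * u = 1

namespace IsInv

variable {u : G}

theorem inv_eq (hu : IsInv u) : u⁻¹ = u := inv_eq_of_mul_eq_one_right hu.2

theorem orderOf_eq (hu : IsInv u) : orderOf u = 2 :=
  orderOf_eq_prime (by rw [pow_two]; exact hu.2) hu.1

theorem conj (hu : IsInv u) (g : G) : IsInv (g * u * g⁻¹) := by
  refine ⟨?_, ?_⟩
  · intro h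
    apply hu.1
    have : u = g⁻¹ * (g * u * g⁻¹) * g := by group
    rw [this, h]; group
  · have : g * u * g⁻¹ * (g * u * g⁻¹) = g * (u * u) * g⁻¹ := by group
    rw [this, hu.2]; group

theorem coprime (hu : IsInv u) {p : ℕ} [Fact p.Prime] (hp2 : p ≠ 2) : (orderOf u).Coprime p := by
  rw [hu.orderOf_eq]
  exact (Nat.coprime_primes Nat.prime_two Fact.out).mpr hp2.symm

theorem mul_inv_eq (hu : IsInv u) (x : G) : u * x * u⁻¹ = u * x * u := by rw [hu.inv_eq]

end IsInv

theorem exists_isInv [Finite G] (h2 : 2 ∣ Nat.card G) : ∃ u : G, IsInv u := by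
  obtain ⟨u, hu⟩ := exists_prime_orderOf_dvd_card' 2 h2
  refine ⟨u, ?_, ?_⟩
  · intro h; rw [h, orderOf_one] at hu; omega
  · rw [← pow_two, ← hu, pow_orderOf_eq_one]

/-- An element inverting `b` normalizes `⟨b⟩`. -/
theorem mem_normalizer_zpowers_of_inverts {w b : G} (h : w * b * w⁻¹ = b⁻¹) :
    w ∈ normalizer ((zpowers b : Subgroup G) : Set G) := by
  have fwd : ∀ w : G, w * b * w⁻¹ = b⁻¹ → ∀ h ∈ zpowers b, w * h * w⁻¹ ∈ zpowers b := by
    intro w hw h hh
    obtain ⟨i, rfl⟩ := mem_zpowers_iff.mp hh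
    have h1 : w * b ^ i * w⁻¹ = (w * b * w⁻¹) ^ i := by rw [conj_zpow]
    rw [h1, hw]
    exact zpow_mem (inv_mem (mem_zpowers b)) i
  have hinv : w⁻¹ * b * w⁻¹⁻¹ = b⁻¹ := by
    have h1 : b = w⁻¹ * b⁻¹ * w := by rw [← h]; group
    have h2 : b⁻¹ = (w⁻¹ * b⁻¹ * w)⁻¹ := by rw [← h1]
    rw [h2]; group
  rw [mem_normalizer_iff]
  intro x
  constructor
  · exact fwd w h x
  · intro hx
    have := fwd w⁻¹ hinv _ hx
    have e : w⁻¹ * (w * x * w⁻¹) * w⁻¹⁻¹ = x := by group
    rwa [e] at this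

end Cfsg.Agent.Lib.Helper4.Cyc
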