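import Mathlib
import Cfsg.Agent.Lib.Helper4.Cyc7
import Cfsg.Agent.Lib.Helper4.Cyc8

/-!
# The simple case with `C_G(P) = P`: the even order case (involution counting)
-/

set_option autoImplicit false

namespace Cfsg.Agent.Lib.Helper4.Cyc

open Subgroup

universe u

variable {G : Type u} [Group G] [Finite G] {p : ℕ} [Fact p.Prime]

omit [Finite G] [Fact p.Prime] in
theorem IsInv.conj_mul_left {u v : G} (hu : IsInv u) (hv : IsInv v) :
    u * (u * v) * u⁻¹ = (u * v)⁻¹ := by
  rw [hu.inv_eq, mul_inv_rev, hu.inv_eq, hv.inv_eq]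
  have h1 : u * (u * v) * u = (u * u) * v * u := by group
  rw [h1, hu.2, one_mul]

omit [Finite G] [Fact p.Prime] in
theorem IsInv.conj_mul_right {u v : G} (hu : IsInv u) (hv : IsInv v) :
    v * (u * v) * v⁻¹ = (u * v)⁻¹ := by
  rw [hv.inv_eq, mul_inv_rev, hu.inv_eq, hv.inv_eq]
  have h1 : v * (u * v) * v = v * u * (v * v) := by group
  rw [h1, hv.2, mul_one]

namespace Ctx

variable (c : Ctx G p) (hz : ZTriv G p)
include c hz

/-- An involution normalizing a Sylow `p`-subgroup inverts it. -/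
theorem inv_inverts {u : G} (hu : IsInv u) (P' : Sylow p G)
    (huN : u ∈ normalizer ((P' : Subgroup G) : Set G)) :
    ∀ x ∈ (P' : Subgroup G), u * x * u⁻¹ = x⁻¹ := by
  have hp2 := c.p_ne_two
  intro x hx
  have hx' : u * x * u⁻¹ ∈ (P' : Subgroup G) := (mem_normalizer_iff.mp huN x).mp hx
  have hyP : x * (u * x * u⁻¹) ∈ (P' : Subgroup G) := mul_mem hx hx'
  have hcomm : x * (u * x * u⁻¹) = (u * x * u⁻¹) * x := c.sylow_comm P' hx hx'
  have huy : u * (x * (u * x * u⁻¹)) = (x * (u * x * u⁻¹)) * u := by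
    have h1 : u * (x * (u * x * u⁻¹)) * u⁻¹ = (u * x * u⁻¹) * ((u * u) * x * (u * u)⁻¹) := by
      group
    rw [hu.2] at h1
    have h2 : u * (x * (u * x * u⁻¹)) * u⁻¹ = x * (u * x * u⁻¹) := by
      rw [h1, hcomm]; group
    calc u * (x * (u * x * u⁻¹)) = (u * (x * (u * x * u⁻¹)) * u⁻¹) * u := by group
      _ = (x * (u * x * u⁻¹)) * u := by rw [h2]
  by_contra hne
  have hy1 : x * (u * x * u⁻¹) ≠ 1 := by
    intro h
    apply hne
    exact eq_inv_of_mul_eq_one_right h
  have := hz P' u (c.cent_eq P' hyP hy1 huy) (hu.coprime hp2)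
  exact hu.1 this

/-- The product of two non-commuting involutions is a nontrivial `p`-element. -/
theorem pelem_of_noncomm {u v : G} (hu : IsInv u) (hv : IsInv v) (huv : u * v ≠ v * u) :
    (∃ k : ℕ, (u * v) ^ p ^ k = 1) ∧ u * v ≠ 1 := by
  have hp : p.Prime := Fact.out
  have hp2 := c.p_ne_two
  have hd1 : u * v ≠ 1 := by
    intro h
    apply huv
    have : v = u⁻¹ := eq_inv_of_mul_eq_one_right h
    rw [this, hu.inv_eq]
  refine ⟨?_, hd1⟩
  have hud := hu.conj_mul_left hv
  have hvd := hu.conj_mul_right hv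
  obtain ⟨a, ha, b, hb, hab, hap, hbo⟩ := exists_parts hp (u * v)
  obtain ⟨j, hj⟩ := mem_zpowers_iff.mp hb
  have hub : u * b * u⁻¹ = b⁻¹ := by
    rw [← hj, ← conj_zpow, hud, inv_zpow]
  have hvb : v * b * v⁻¹ = b⁻¹ := by
    rw [← hj, ← conj_zpow, hvd, inv_zpow]
  have hB : zpowers u ≤ normalizer ((zpowers b : Subgroup G) : Set G) := by
    rw [zpowers_le]; exact mem_normalizer_zpowers_of_inverts hub
  have hcb : ¬ p ∣ Nat.card (zpowers b) := by
    rw [Nat.card_zpowers]
    intro h
    have h1 := Nat.dvd_gcd h dvd_rfl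
    have h2 : Nat.gcd (orderOf b) p = 1 := hbo
    rw [h2] at h1
    exact hp.one_lt.ne' (Nat.dvd_one.mp h1)
  have hcu : ¬ p ∣ Nat.card (zpowers u) := by
    rw [Nat.card_zpowers, hu.orderOf_eq]
    intro h
    exact hp2 ((Nat.prime_dvd_prime_iff_eq hp Nat.prime_two).mp h)
  have hcard := not_dvd_card_mulSub hB hcb hcu
  have hubc : u * b = b * u :=
    c.ab _ hcard u (right_le_mulSub hB (mem_zpowers u)) b (left_le_mulSub hB (mem_zpowers b))
  have hbb : b⁻¹ = b := by
    rw [← hub]
    calc u * b * u⁻¹ = b * u * u⁻¹ := by rw [hubc]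
      _ = b := by group
  by_cases hb1 : b = 1
  · rw [hab, hb1, mul_one]; exact hap
  · exfalso
    apply huv
    have hvbc : v * b = b * v := by
      calc v * b = (v * b * v⁻¹) * v := by group
        _ = b⁻¹ * v := by rw [hvb]
        _ = b * v := by rw [hbb]
    apply c.ca hz b hb1 u _ v _
    · rw [mem_centralizer_iff]
      intro y hy
      rw [Set.mem_singleton_iff] at hy
      subst hy
      exact hubc.symm
    · rw [mem_centralizer_iff]
      intro y hy
      rw [Set.mem_singleton_iff] at hy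
      subst hy
      exact hvbc.symm

theorem exists_sylow_of_noncomm {u v : G} (hu : IsInv u) (hv : IsInv v) (huv : u * v ≠ v * u) :
    ∃ P' : Sylow p G, u * v ∈ (P' : Subgroup G) ∧
      u ∈ normalizer ((P' : Subgroup G) : Set G) ∧ v ∈ normalizer ((P' : Subgroup G) : Set G) := by
  obtain ⟨hdp, hd1⟩ := c.pelem_of_noncomm hz hu hv huv
  obtain ⟨P', hd⟩ := exists_sylow_mem (p := p) hdp
  refine ⟨P', hd, ?_, ?_⟩
  · apply c.mem_normalizer_of_conj_mem P' hd hd1
    rw [hu.conj_mul_left hv]; exact inv_mem hd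
  · apply c.mem_normalizer_of_conj_mem P' hd hd1
    rw [hu.conj_mul_right hv]; exact inv_mem hd

omit hz in
/-- An involution fails to commute with one of its conjugates. -/
theorem exists_noncomm_conj {u : G} (hu : IsInv u) :
    ∃ g : G, u * (g * u * g⁻¹) ≠ (g * u * g⁻¹) * u := by
  by_contra hcon
  push Not at hcon
  have h1 : normalClosure ({u} : Set G) ≤ centralizer ({u} : Set G) := by
    rw [normalClosure, closure_le]
    intro a ha
    rw [Group.mem_conjugatesOfSet_iff] at ha
    obtain ⟨a', ha', hconj⟩ := ha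
    rw [Set.mem_singleton_iff] at ha'
    subst ha'
    obtain ⟨g, hg⟩ := isConj_iff.mp hconj
    rw [SetLike.mem_coe, mem_centralizer_iff]
    intro y hy
    rw [Set.mem_singleton_iff] at hy
    subst hy
    rw [← hg]; exact hcon g
  have h2 : normalClosure ({u} : Set G) = ⊤ := by
    rcases c.normal_eq _ normalClosure_normal with h | h
    · exfalso
      have : u ∈ normalClosure ({u} : Set G) := subset_normalClosure (Set.mem_singleton u)
      rw [h, mem_bot] at this
      exact hu.1 this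
    · exact h
  have h3 : u ∈ center G := by
    rw [mem_center_iff]
    intro g
    have : g ∈ centralizer ({u} : Set G) := h1 (by rw [h2]; exact mem_top g)
    exact (mem_centralizer_iff.mp this u rfl).symm
  rw [c.center_eq_bot, mem_bot] at h3
  exact hu.1 h3

/-- Two involutions in `N_G(P')` are conjugate under `P'`. -/
theorem inv_conj_in_normalizer {u v : G} (hu : IsInv u) (hv : IsInv v) (P' : Sylow p G)
    (huN : u ∈ normalizer ((P' : Subgroup G) : Set G))
    (hvN : v ∈ normalizer ((P' : Subgroup G) : Set G)) :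
    ∃ y ∈ (P' : Subgroup G), y * u * y⁻¹ = v := by
  have hp : p.Prime := Fact.out
  have hp2 := c.p_ne_two
  have hiu := c.inv_inverts hz hu P' huN
  have hiv := c.inv_inverts hz hv P' hvN
  have hwc : ∀ x ∈ (P' : Subgroup G), (v * u) * x = x * (v * u) := by
    intro x hx
    have h1 : (v * u) * x * (v * u)⁻¹ = v * (u * x * u⁻¹) * v⁻¹ := by group
    rw [hiu x hx] at h1
    have h2 := hiv x⁻¹ (inv_mem hx)
    rw [h2, inv_inv] at h1
    calc (v * u) * x = ((v * u) * x * (v * u)⁻¹) * (v * u) := by group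
      _ = x * (v * u) := by rw [h1]
  have hwP : v * u ∈ (P' : Subgroup G) := cent_mem hz P' hwc
  obtain ⟨k, hk⟩ := pelem_of_mem_pgroup P'.2 hwP
  have hdvd : orderOf (v * u) ∣ p ^ k := orderOf_dvd_of_pow_eq_one hk
  obtain ⟨i, hi, hio⟩ := (Nat.dvd_prime_pow hp).mp hdvd
  have hodd : Odd (orderOf (v * u)) := by rw [hio]; exact (hp.odd_of_ne_two hp2).pow
  obtain ⟨j, hj⟩ := hodd
  have hyP : (v * u) ^ (j + 1) ∈ (P' : Subgroup G) := pow_mem hwP _
  refine ⟨(v * u) ^ (j + 1), hyP, ?_⟩
  have hyy : (v * u) ^ (j + 1) * (v * u) ^ (j + 1) = v * u := by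
    rw [← pow_add]
    have : j + 1 + (j + 1) = orderOf (v * u) + 1 := by omega
    rw [this, pow_succ, pow_orderOf_eq_one, one_mul]
  have h3 : u * ((v * u) ^ (j + 1))⁻¹ * u⁻¹ = (v * u) ^ (j + 1) := by
    have := hiu ((v * u) ^ (j + 1))⁻¹ (inv_mem hyP)
    rw [inv_inv] at this
    exact this
  calc (v * u) ^ (j + 1) * u * ((v * u) ^ (j + 1))⁻¹
      = (v * u) ^ (j + 1) * (u * ((v * u) ^ (j + 1))⁻¹ * u⁻¹) * u := by group
    _ = (v * u) ^ (j + 1) * (v * u) ^ (j + 1) * u := by rw [h3]
    _ = v * u * u := by rw [hyy]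
    _ = v * (u * u) := by group
    _ = v := by rw [hu.2, mul_one]

/-- The number of involutions is divisible by `p`. -/
theorem p_dvd_card_inv (P : Sylow p G) : p ∣ Nat.card {v : G // IsInv v} := by
  apply p_dvd_card_of_no_fixed (P : Subgroup G) P.2 IsInv (fun h _ x hx => hx.conj h)
  intro x hx
  by_contra hcon
  push Not at hcon
  apply hx.1
  apply hz P x _ (hx.coprime c.p_ne_two)
  intro y hy
  have := hcon y hy
  calc x * y = (y * x * y⁻¹) * y := by rw [this]
    _ = y * x := by group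

end Ctx

end Cfsg.Agent.Lib.Helper4.Cyc
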