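import Mathlib
import Cfsg.Agent.Lib.Helper4.Cyc9

/-!
# The simple case with `C_G(P) = P`: the even order case, counting
-/

set_option autoImplicit false

namespace Cfsg.Agent.Lib.Helper4.Cyc

open Subgroup

universe u

variable {G : Type u} [Group G] [Finite G] {p : ℕ} [Fact p.Prime]

namespace Ctx

variable (c : Ctx G p) (hz : ZTriv G p)
include c hz

/-- The number of involutions commuting with a given involution is divisible by `p`. -/
theorem p_dvd_card_comm_inv (h2 : 2 ∣ Nat.card G) {u : G} (hu : IsInv u) :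
    p ∣ Nat.card {v : G // IsInv v ∧ v * u = u * v} := by
  have hp2 := c.p_ne_two
  obtain ⟨S₂, huS⟩ := exists_sylow_mem (p := 2) (x := u)
    ⟨1, by rw [pow_one, pow_two]; exact hu.2⟩
  obtain ⟨K, T, hKX, hTX, hXK, hT, hel, hcard, hTbot, hSK, hKcop⟩ :=
    c.sylow_normalizer_npc (r := 2) (Ne.symm hp2) h2 S₂
  have hS2cop : ¬ p ∣ Nat.card (S₂ : Subgroup G) :=
    fun h => hKcop (h.trans (Subgroup.card_dvd_of_le hSK))
  have hS2ab := c.ab (S₂ : Subgroup G) hS2cop
  have hCab := c.ca hz u hu.1
  have key : ∀ v, (IsInv v ∧ v * u = u * v) ↔ (IsInv v ∧ v ∈ (S₂ : Subgroup G)) := by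
    intro v
    constructor
    · rintro ⟨hv, hvu⟩
      refine ⟨hv, ?_⟩
      have hvC : v ∈ centralizer ({u} : Set G) := by
        rw [mem_centralizer_iff]
        intro y hy
        rw [Set.mem_singleton_iff] at hy
        subst hy
        exact hvu.symm
      have hSC : ∀ s ∈ (S₂ : Subgroup G), s ∈ centralizer ({u} : Set G) := by
        intro s hs
        rw [mem_centralizer_iff]
        intro y hy
        rw [Set.mem_singleton_iff] at hy
        subst hy
        exact hS2ab y huS s hs
      have hvs : ∀ s ∈ (S₂ : Subgroup G), v * s = s * v := fun s hs => hCab v hvC s (hSC s hs)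
      have hB : zpowers v ≤ normalizer ((S₂ : Subgroup G) : Set G) := by
        rw [zpowers_le]; exact cent_mem_normalizer S₂ hvs
      have hM : IsPGroup 2 (mulSub (S₂ : Subgroup G) (zpowers v) hB) := by
        rintro ⟨g, hg⟩
        obtain ⟨s, hs, t, ht, rfl⟩ := mem_mulSub.mp hg
        obtain ⟨k, hk⟩ := pelem_of_mem_pgroup S₂.2 hs
        obtain ⟨i, rfl⟩ := mem_zpowers_iff.mp ht
        refine ⟨k + 1, Subtype.ext ?_⟩
        have hcomm : Commute s (v ^ i) := by
          have : Commute v s := hvs s hs
          exact (this.zpow_left i).symm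
        have h1 : (v ^ i) ^ 2 = 1 := by
          rw [← zpow_natCast, ← zpow_mul, mul_comm, zpow_mul, zpow_natCast, pow_two, hv.2,
            one_zpow]
        show (s * v ^ i) ^ 2 ^ (k + 1) = 1
        rw [hcomm.mul_pow, pow_succ, pow_mul, hk, one_pow, one_mul, mul_comm, pow_mul, h1,
          one_pow]
      have hMS := S₂.3 hM (left_le_mulSub hB)
      rw [← hMS]
      exact right_le_mulSub hB (mem_zpowers v)
    · rintro ⟨hv, hvS⟩
      exact ⟨hv, hS2ab v hvS u huS⟩
  rw [card_congr_prop _ _ key]
  obtain ⟨⟨x, hxT⟩, hx1'⟩ := (Subgroup.ne_bot_iff_exists_ne_one).mp hTbot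
  have hx1 : x ≠ 1 := by
    intro h; apply hx1'; exact Subtype.ext h
  apply p_dvd_card_of_no_fixed T hT (fun v => IsInv v ∧ v ∈ (S₂ : Subgroup G))
  · rintro h hh v ⟨hv, hvS⟩
    exact ⟨hv.conj h, (mem_normalizer_iff.mp (hTX hh) v).mp hvS⟩
  · rintro v ⟨hv, hvS⟩
    refine ⟨x, hxT, ?_⟩
    intro hfix
    apply hx1
    apply c.pelem_eq_one_of_comm hz hv.1 (hv.coprime hp2) (pelem_of_mem_pgroup hT hxT)
    calc v * x = (x * v * x⁻¹) * x := by rw [hfix]
      _ = x * v := by group

/-- The involutions not commuting with `u` correspond to the nontrivial elements of the Sylow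
`p`-subgroups normalized by `u`. -/
theorem card_noncomm (P : Sylow p G) {u : G} (hu : IsInv u) :
    Nat.card {v : G // IsInv v ∧ ¬ (v * u = u * v)} =
      Nat.card {P' : Sylow p G // u ∈ normalizer ((P' : Subgroup G) : Set G)} *
        (Nat.card (P : Subgroup G) - 1) := by
  classical
  have hp2 := c.p_ne_two
  haveI : Fintype G := Fintype.ofFinite G
  haveI : Fintype (Sylow p G) := Fintype.ofFinite _
  rw [Nat.card_eq_fintype_card, Nat.card_eq_fintype_card, Fintype.card_subtype,
    Fintype.card_subtype]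
  set Sy : Finset (Sylow p G) :=
    Finset.univ.filter (fun P' : Sylow p G => u ∈ normalizer ((P' : Subgroup G) : Set G)) with hSy
  set t : Sylow p G → Finset G :=
    fun P' => Finset.univ.filter (fun x : G => x ∈ (P' : Subgroup G) ∧ x ≠ 1) with ht
  have hodd1 : ∀ d : G, (∃ k : ℕ, d ^ p ^ k = 1) → d * d = 1 → d = 1 := by
    intro d hdp hdd
    by_contra hd1
    have hdi : IsInv d := ⟨hd1, hdd⟩
    exact hd1 (eq_one_of_pelem_of_coprime hdp (hdi.coprime hp2))
  have step1 : (Finset.univ.filter (fun v : G => IsInv v ∧ ¬ (v * u = u * v))).card =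
      (Sy.biUnion t).card := by
    apply Finset.card_bij (fun v _ => u * v)
    · intro v hv
      rw [Finset.mem_filter] at hv
      obtain ⟨-, hvi, hvu⟩ := hv
      have hne : u * v ≠ v * u := fun h => hvu h.symm
      obtain ⟨P', hd, huN, -⟩ := c.exists_sylow_of_noncomm hz hu hvi hne
      rw [Finset.mem_biUnion]
      refine ⟨P', ?_, ?_⟩
      · rw [hSy, Finset.mem_filter]; exact ⟨Finset.mem_univ _, huN⟩
      · rw [ht, Finset.mem_filter]
        exact ⟨Finset.mem_univ _, hd, (c.pelem_of_noncomm hz hu hvi hne).2⟩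
    · intro v _ v' _ h
      exact mul_left_cancel h
    · intro d hd
      rw [Finset.mem_biUnion] at hd
      obtain ⟨P', hP', hdt⟩ := hd
      rw [hSy, Finset.mem_filter] at hP'
      rw [ht, Finset.mem_filter] at hdt
      obtain ⟨-, hdP, hd1⟩ := hdt
      have hinv := c.inv_inverts hz hu P' hP'.2 d hdP
      have hdp := pelem_of_mem_pgroup P'.2 hdP
      have huud : u * (u * d) = d := by
        calc u * (u * d) = (u * u) * d := by group
          _ = d := by rw [hu.2, one_mul]
      have hudu : u * d * u = d⁻¹ := by rw [hu.inv_eq] at hinv; exact hinv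
      refine ⟨u * d, ?_, huud⟩
      rw [Finset.mem_filter]
      refine ⟨Finset.mem_univ _, ⟨?_, ?_⟩, ?_⟩
      · intro h
        have hdu : d = u := by
          have : d = u⁻¹ := eq_inv_of_mul_eq_one_right h
          rw [this, hu.inv_eq]
        apply hd1
        apply hodd1 d hdp
        rw [hdu]; exact hu.2
      · calc u * d * (u * d) = (u * d * u) * d := by group
          _ = 1 := by rw [hudu]; group
      · intro h
        rw [huud, hudu] at h
        apply hd1
        apply hodd1 d hdp
        calc d * d = d * d⁻¹⁻¹ := by rw [inv_inv]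
          _ = d * (d⁻¹)⁻¹ := rfl
          _ = 1 := by rw [h]; group
  have step2 : (Sy.biUnion t).card = ∑ P' ∈ Sy, (t P').card := by
    apply Finset.card_biUnion
    intro P' _ P'' _ hne
    show Disjoint (t P') (t P'')
    rw [Finset.disjoint_left]
    intro x hx hx'
    rw [ht, Finset.mem_filter] at hx hx'
    exact hne (c.ti P' P'' hx.2.1 hx'.2.1 hx.2.2)
  have step3 : ∀ P' ∈ Sy, (t P').card = Nat.card (P : Subgroup G) - 1 := by
    intro P' _
    have h1 : t P' = (Finset.univ.filter (fun x : G => x ∈ (P' : Subgroup G))).erase 1 := by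
      ext x
      rw [ht, Finset.mem_filter, Finset.mem_erase, Finset.mem_filter]
      tauto
    have h2 : (Finset.univ.filter (fun x : G => x ∈ (P' : Subgroup G))).card =
        Nat.card (P' : Subgroup G) := by
      rw [Nat.card_eq_fintype_card, ← Fintype.card_subtype]
    rw [h1, Finset.card_erase_of_mem, h2, Sylow.card_eq_multiplicity, Sylow.card_eq_multiplicity]
    rw [Finset.mem_filter]
    exact ⟨Finset.mem_univ _, one_mem _⟩
  rw [step1, step2, Finset.sum_congr rfl step3, Finset.sum_const, smul_eq_mul]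

end Ctx

end Cfsg.Agent.Lib.Helper4.Cyc
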