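import Mathlib
import Cfsg.Agent.Lib.Helper4.Cyc10

/-!
# The simple case with `C_G(P) = P`: the even order case is impossible
-/

set_option autoImplicit false

namespace Cfsg.Agent.Lib.Helper4.Cyc

open Subgroup

universe u

variable {G : Type u} [Group G] [Finite G] {p : ℕ} [Fact p.Prime]

namespace Ctx

variable (c : Ctx G p) (hz : ZTriv G p)
include c hz

/-- The Sylow `p`-subgroups normalized by `u` form one orbit under `C_G(u)`. -/
theorem card_sylows_dvd {u : G} (hu : IsInv u) (P₁ : Sylow p G)
    (h1 : u ∈ normalizer ((P₁ : Subgroup G) : Set G)) :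
    Nat.card {P' : Sylow p G // u ∈ normalizer ((P' : Subgroup G) : Set G)} ∣
      Nat.card (centralizer ({u} : Set G)) := by
  have horb : MulAction.orbit (centralizer ({u} : Set G)) P₁ =
      {P' : Sylow p G | u ∈ normalizer ((P' : Subgroup G) : Set G)} := by
    ext P'
    rw [MulAction.mem_orbit_iff, Set.mem_ofPred_eq]
    constructor
    · rintro ⟨⟨g, hg⟩, rfl⟩
      have hgu : u * g = g * u := mem_centralizer_iff.mp hg u rfl
      apply Sylow.smul_eq_iff_mem_normalizer.mp
      show u • (g • P₁) = g • P₁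
      rw [← mul_smul, hgu, mul_smul, Sylow.smul_eq_iff_mem_normalizer.mpr h1]
    · intro hP'
      obtain ⟨h, hh⟩ := MulAction.exists_smul_eq G P₁ P'
      have hu' : IsInv (h * u * h⁻¹) := hu.conj h
      have hu'N : h * u * h⁻¹ ∈ normalizer ((P' : Subgroup G) : Set G) := by
        apply Sylow.smul_eq_iff_mem_normalizer.mp
        rw [← hh, ← mul_smul]
        have e : h * u * h⁻¹ * h = h * u := by group
        rw [e, mul_smul, Sylow.smul_eq_iff_mem_normalizer.mpr h1]
      obtain ⟨y, hy, hyu⟩ := c.inv_conj_in_normalizer hz hu' hu P' hu'N hP'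
      have hgC : y * h ∈ centralizer ({u} : Set G) := by
        rw [mem_centralizer_iff]
        intro a ha
        rw [Set.mem_singleton_iff] at ha
        subst ha
        have e : (y * h) * a * (y * h)⁻¹ = y * (h * a * h⁻¹) * y⁻¹ := by group
        have h2 : (y * h) * a * (y * h)⁻¹ = a := by rw [e, hyu]
        calc a * (y * h) = ((y * h) * a * (y * h)⁻¹) * (y * h) := by rw [h2]
          _ = y * h * a := by group
      refine ⟨⟨y * h, hgC⟩, ?_⟩
      show (y * h) • P₁ = P'
      rw [mul_smul, hh]
      exact Sylow.smul_eq_iff_mem_normalizer.mpr (le_normalizer hy)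
  have h2 := MulAction.index_stabilizer (centralizer ({u} : Set G)) P₁
  rw [horb] at h2
  have h3 : Nat.card {P' : Sylow p G // u ∈ normalizer ((P' : Subgroup G) : Set G)} =
      {P' : Sylow p G | u ∈ normalizer ((P' : Subgroup G) : Set G)}.ncard :=
    Nat.card_coe_set_eq _
  rw [h3, ← h2]
  exact Subgroup.index_dvd_card _

/-- The even order case is impossible. -/
theorem not_even (h2 : 2 ∣ Nat.card G) : False := by
  have hp : p.Prime := Fact.out
  obtain ⟨P⟩ : Nonempty (Sylow p G) := inferInstance
  obtain ⟨u, hu⟩ := exists_isInv h2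
  obtain ⟨g, hg⟩ := c.exists_noncomm_conj hu
  obtain ⟨P₁, hd, huN, hvN⟩ := c.exists_sylow_of_noncomm hz hu (hu.conj g) hg
  have ha := c.p_dvd_card_inv hz P
  have hb := c.p_dvd_card_comm_inv hz h2 hu
  have hsplit := card_split (G := G) IsInv (fun v => v * u = u * v)
  have hc := c.card_noncomm hz P hu
  have hd' := c.card_sylows_dvd hz hu P₁ huN
  have hcop := c.not_dvd_card_centralizer hz hu.1 (hu.coprime c.p_ne_two)
  rw [hc] at hsplit
  rw [hsplit] at ha
  have h3 := (Nat.dvd_add_right hb).mp ha
  have hn : p ∣ Nat.card (P : Subgroup G) := P.dvd_card_of_dvd_card c.p_dvd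
  have hn1 : ¬ p ∣ Nat.card (P : Subgroup G) - 1 := by
    intro h
    have hpos : 0 < Nat.card (P : Subgroup G) := Nat.card_pos
    have h4 := Nat.dvd_sub hn h
    have e : Nat.card (P : Subgroup G) - (Nat.card (P : Subgroup G) - 1) = 1 := by omega
    rw [e] at h4
    exact hp.one_lt.ne' (Nat.dvd_one.mp h4)
  have h4 := (hp.dvd_mul.mp h3).resolve_right hn1
  exact hcop (h4.trans hd')

end Ctx

end Cfsg.Agent.Lib.Helper4.Cyc
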