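import Mathlib
import Cfsg.Agent.Lib.Helper4.Cyc7

/-!
# The simple case with `C_G(P) ≠ P`: a `p`-element normalizing `Q` outside `N_G(P)`
-/

set_option autoImplicit false

namespace Cfsg.Agent.Lib.Helper4.Cyc

open Subgroup

universe u

variable {G : Type u} [Group G] [Finite G] {p : ℕ} [Fact p.Prime]

omit [Finite G] [Fact p.Prime] in
theorem orderOf_conj_eq (g x : G) : orderOf (g * x * g⁻¹) = orderOf x := by
  have := orderOf_injective (MulAut.conj g).toMonoidHom (MulAut.conj g).injective x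
  simpa using this

/-- The `r`-elements of a commutative subgroup. -/
def rPart (Q : Subgroup G) (hQ : ∀ a ∈ Q, ∀ b ∈ Q, a * b = b * a) (r : ℕ) : Subgroup G where
  carrier := {q | q ∈ Q ∧ ∃ k : ℕ, q ^ r ^ k = 1}
  one_mem' := ⟨Q.one_mem, 0, by simp⟩
  mul_mem' := by
    rintro a b ⟨ha, k, hk⟩ ⟨hb, l, hl⟩
    refine ⟨Q.mul_mem ha hb, k + l, ?_⟩
    have hc : Commute a b := hQ a ha b hb
    rw [hc.mul_pow, pow_add, pow_mul, hk, one_pow, one_mul, mul_comm (r ^ k), pow_mul, hl,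
      one_pow]
  inv_mem' := by
    rintro a ⟨ha, k, hk⟩
    exact ⟨Q.inv_mem ha, k, by rw [inv_pow, hk, inv_one]⟩

omit [Finite G] [Fact p.Prime] in
theorem isPGroup_rPart (Q : Subgroup G) (hQ : ∀ a ∈ Q, ∀ b ∈ Q, a * b = b * a) (r : ℕ) :
    IsPGroup r (rPart Q hQ r) := by
  rintro ⟨g, hg⟩
  obtain ⟨k, hk⟩ := hg.2
  exact ⟨k, Subtype.ext (by simpa using hk)⟩

/-- Every Sylow `p`-subgroup is centralized by a nontrivial `p'`-element. -/
theorem exists_cent_all (hz : ¬ ZTriv G p) (P' : Sylow p G) :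
    ∃ z : G, z ≠ 1 ∧ (orderOf z).Coprime p ∧ ∀ y ∈ (P' : Subgroup G), z * y = y * z := by
  unfold ZTriv at hz
  push Not at hz
  obtain ⟨P, z, hzc, hzo, hz1⟩ := hz
  obtain ⟨g, hg⟩ := MulAction.exists_smul_eq G P P'
  refine ⟨g * z * g⁻¹, ?_, ?_, ?_⟩
  · intro h
    apply hz1
    have : z = g⁻¹ * (g * z * g⁻¹) * g := by group
    rw [this, h]; group
  · rw [orderOf_conj_eq]; exact hzo
  · intro y hy
    rw [← hg, mem_smul_sylow_iff] at hy
    have h1 := hzc _ hy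
    calc g * z * g⁻¹ * y = g * (z * (g⁻¹ * y * g)) * g⁻¹ := by group
      _ = g * ((g⁻¹ * y * g) * z) * g⁻¹ := by rw [h1]
      _ = y * (g * z * g⁻¹) := by group

namespace Ctx

variable (c : Ctx G p)
include c

/-- If a nontrivial `p'`-element centralizes `P`, some `p`-element outside `N_G(P)` normalizes the
complement `Q`. -/
theorem exists_pelem_normalizing {P : Sylow p G} {Q : Subgroup G} (hQ : ComplPkg P Q) {z₁ : G}
    (hz₁1 : z₁ ≠ 1) (hz₁o : (orderOf z₁).Coprime p)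
    (hz₁c : ∀ y ∈ (P : Subgroup G), z₁ * y = y * z₁) :
    ∃ y : G, (∃ k : ℕ, y ^ p ^ k = 1) ∧ y ∈ normalizer (Q : Set G) ∧
      y ∉ normalizer ((P : Subgroup G) : Set G) := by
  have hp : p.Prime := Fact.out
  have hQab : ∀ a ∈ Q, ∀ b ∈ Q, a * b = b * a := fun a ha b hb => c.compl_comm hQ ha hb
  -- an element of prime order `r`
  have ho1 : orderOf z₁ ≠ 1 := fun h => hz₁1 (orderOf_eq_one_iff.mp h)
  obtain ⟨r, hr, hrd⟩ := Nat.exists_prime_and_dvd ho1
  haveI : Fact r.Prime := ⟨hr⟩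
  have hrp : r ≠ p := by
    intro h
    rw [h] at hrd
    have h1 := Nat.dvd_gcd hrd dvd_rfl
    have h2 : Nat.gcd (orderOf z₁) p = 1 := hz₁o
    rw [h2] at h1
    exact hp.one_lt.ne' (Nat.dvd_one.mp h1)
  set z := z₁ ^ (orderOf z₁ / r) with hzdef
  have hzo : orderOf z = r := orderOf_pow_orderOf_div (orderOf_pos z₁).ne' hrd
  have hz1 : z ≠ 1 := by
    intro h; rw [h, orderOf_one] at hzo; exact hr.one_lt.ne hzo
  have hzc : ∀ y ∈ (P : Subgroup G), z * y = y * z := by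
    intro y hy
    have h1 : Commute z₁ y := hz₁c y hy
    exact (h1.pow_left _).eq
  have hzcop : (orderOf z).Coprime p := by
    rw [hzo]; exact (Nat.coprime_primes hr hp).mpr hrp
  have hzQ : z ∈ Q := pprime_cent_mem hQ hzc hzcop
  have hzr : ∃ k : ℕ, z ^ r ^ k = 1 := ⟨1, by rw [pow_one, ← hzo, pow_orderOf_eq_one]⟩
  -- the Sylow `r`-subgroup
  obtain ⟨R, hR⟩ := (isPGroup_rPart Q hQab r).exists_le_sylow
  have hzR : z ∈ (R : Subgroup G) := hR ⟨hzQ, hzr⟩
  have hRcop : ¬ p ∣ Nat.card (R : Subgroup G) := by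
    obtain ⟨k, hk⟩ := R.2.exists_card_eq
    rw [hk]
    intro h
    have := hp.dvd_of_dvd_pow h
    exact hrp ((Nat.prime_dvd_prime_iff_eq hp hr).mp this).symm
  have hRab := c.ab (R : Subgroup G) hRcop
  have hRN : (R : Subgroup G) ≤ normalizer ((P : Subgroup G) : Set G) := by
    intro g hg
    exact c.cent_pprime_le P hzc hzcop hz1 (hRab g hg z hzR)
  have hRQ : (R : Subgroup G) ≤ Q := by
    intro g hg
    obtain ⟨x, hx, q, hq, hgxq⟩ := hQ.prod g (hRN hg)
    obtain ⟨k, hk⟩ := pelem_of_mem_pgroup R.2 hg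
    obtain ⟨x', hx', hpow⟩ := mul_pow_mem hx (hQ.le hq) (r ^ k)
    rw [← hgxq, hk] at hpow
    have h1 : q ^ r ^ k = x'⁻¹ := by
      have : x'⁻¹ * 1 = x'⁻¹ * (x' * q ^ r ^ k) := by rw [hpow]
      rw [mul_one, ← mul_assoc, inv_mul_cancel, one_mul] at this
      exact this.symm
    have h2 : q ^ r ^ k = 1 := by
      apply eq_one_of_pelem_of_coprime (p := p)
      · rw [h1]; exact pelem_of_mem_pgroup P.2 (inv_mem hx')
      · exact coprime_orderOf_of_not_dvd_card hQ.cop (Q.pow_mem hq _)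
    have hqR : q ∈ (R : Subgroup G) := hR ⟨hq, k, h2⟩
    have hxR : x ∈ (R : Subgroup G) := by
      have : x = g * q⁻¹ := by rw [hgxq]; group
      rw [this]; exact mul_mem hg (inv_mem hqR)
    have hx1 : x = 1 := eq_one_of_pelem_of_coprime (pelem_of_mem_pgroup P.2 hx)
      (coprime_orderOf_of_not_dvd_card hRcop hxR)
    rw [hgxq, hx1, one_mul]; exact hq
  -- the normalizer of `R`
  have hrG : r ∣ Nat.card G := by rw [← hzo]; exact orderOf_dvd_natCard z
  obtain ⟨K, T, hKX, hTX, hXK, hT, hel, hcard, hTbot, hRK, hKcop⟩ :=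
    c.sylow_normalizer_npc hrp hrG R
  have hQK : Q ≤ K := by
    intro q hq
    have hqX : q ∈ normalizer ((R : Subgroup G) : Set G) :=
      cent_mem_normalizer R (fun s hs => hQab q hq s (hRQ hs))
    exact (hel q hqX).mpr (coprime_orderOf_of_not_dvd_card hQ.cop hq)
  have hKab := c.ab K hKcop
  have hKN : K ≤ normalizer ((P : Subgroup G) : Set G) := by
    intro k hk
    exact c.cent_pprime_le P hzc hzcop hz1 (hKab k hk z (hQK hzQ))
  have hKQ : Q = K := by
    apply Subgroup.eq_of_le_of_card_ge hQK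
    have h1 : Nat.card K ∣ Nat.card (normalizer ((P : Subgroup G) : Set G)) :=
      Subgroup.card_dvd_of_le hKN
    rw [← hQ.card] at h1
    have h2 : (Nat.card K).Coprime (Nat.card (P : Subgroup G)) := by
      obtain ⟨k, hk⟩ := P.2.exists_card_eq
      rw [hk]
      apply Nat.Coprime.pow_right
      rw [Nat.coprime_comm, hp.coprime_iff_not_dvd]
      exact hKcop
    exact Nat.le_of_dvd Nat.card_pos (h2.dvd_of_dvd_mul_left h1)
  obtain ⟨⟨y, hyT⟩, hy1'⟩ := (Subgroup.ne_bot_iff_exists_ne_one).mp hTbot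
  have hy1 : y ≠ 1 := by
    intro h; apply hy1'; exact Subtype.ext h
  have hyp := pelem_of_mem_pgroup hT hyT
  have hyQ : y ∈ normalizer (Q : Set G) := by
    rw [hKQ]; exact hXK (hTX hyT)
  refine ⟨y, hyp, hyQ, ?_⟩
  intro hyN
  have hyP : y ∈ (P : Subgroup G) := mem_sylow_of_normalizes P hyN hyp
  obtain ⟨q, hq, x, hx, hqx⟩ := c.exists_not_cent hQ
  apply hqx
  apply c.cent_eq P hyP hy1 _ x hx
  have h1 : q * y * q⁻¹ * y⁻¹ ∈ (P : Subgroup G) :=
    mul_mem ((mem_normalizer_iff.mp (hQ.le hq) y).mp hyP) (inv_mem hyP)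
  have h2 : q * y * q⁻¹ * y⁻¹ ∈ Q := by
    have h3 : y * q⁻¹ * y⁻¹ ∈ Q := (mem_normalizer_iff.mp hyQ q⁻¹).mp (Q.inv_mem hq)
    have := Q.mul_mem hq h3
    have e : q * (y * q⁻¹ * y⁻¹) = q * y * q⁻¹ * y⁻¹ := by group
    rwa [e] at this
  have h4 := eq_one_of_pelem_of_coprime (pelem_of_mem_pgroup P.2 h1)
    (coprime_orderOf_of_not_dvd_card hQ.cop h2)
  calc q * y = (q * y * q⁻¹ * y⁻¹) * y * q := by group
    _ = y * q := by rw [h4, one_mul]

end Ctx

end Cfsg.Agent.Lib.Helper4.Cyc
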