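import Mathlib

/-!
# Numerics: a family of pairwise disjoint copies of the kernel of a map to a cyclic group
-/

set_option autoImplicit false

namespace Cfsg.Agent.Lib.Helper4.Cyc

/-- A fibre counting bound for a homomorphism. -/
theorem card_le_of_hom {Q A : Type*} [Group Q] [Group A] [DecidableEq Q] [DecidableEq A]
    (ψ : Q →* A) (s : Finset Q) (T : Finset A) (hs : ∀ x ∈ s, ψ x ∈ T) (K : Finset Q)
    (hK : ∀ x ∈ s, ∀ y ∈ s, ψ x = ψ y → x⁻¹ * y ∈ K) : s.card ≤ K.card * T.card := by
  apply Finset.card_le_mul_card_image_of_maps_to hs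
  intro b _
  by_cases hne : (s.filter (fun a => ψ a = b)).Nonempty
  · obtain ⟨x₀, hx₀⟩ := hne
    rw [Finset.mem_filter] at hx₀
    apply Finset.card_le_card_of_injOn (fun x => x₀⁻¹ * x)
    · intro x hx
      rw [Finset.mem_coe, Finset.mem_filter] at hx
      exact hK x₀ hx₀.1 x hx.1 (hx₀.2.trans hx.2.symm)
    · intro x _ y _ h
      exact mul_left_cancel h
  · rw [Finset.not_nonempty_iff_eq_empty] at hne
    rw [hne, Finset.card_empty]
    exact Nat.zero_le _

theorem numerics {Q A ι : Type*} [Group Q] [Finite Q] [Group A] [Finite A] [IsCyclic A]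
    [Finite ι] {p : ℕ} (hp : p.Prime) (hp2 : p ≠ 2) (hcomm : ∀ a b : Q, a * b = b * a)
    (hA : Nat.card A = p - 1) (ψ : Q →* A) (B : ι → Subgroup Q) (i₀ : ι)
    (hι : p ≤ Nat.card ι) (hB0 : B i₀ = ψ.ker)
    (hBcard : ∀ i, Nat.card (B i) = Nat.card ψ.ker)
    (hBdisj : ∀ i j, i ≠ j → ∀ x, x ∈ B i → x ∈ B j → x = 1)
    (hf : 2 ≤ Nat.card ψ.ker) (hcyc : IsCyclic ψ.ker) :
    p = 3 ∧ Nat.card Q = 4 ∧ Nat.card ψ.ker = 2 ∧ Nat.card ι = 3 ∧ ∀ x : Q, ∃ i, x ∈ B i := by
  classical
  haveI : Fintype Q := Fintype.ofFinite Q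
  haveI : Fintype A := Fintype.ofFinite A
  haveI : Fintype ι := Fintype.ofFinite ι
  have hp3 : 3 ≤ p := by
    have := hp.two_le
    omega
  set f := Nat.card ψ.ker with hfdef
  -- the kernel as a finset
  set Kf : Finset Q := Finset.univ.filter (fun x => x ∈ ψ.ker) with hKf
  have hKfcard : Kf.card = f := by
    rw [hfdef, Nat.card_eq_fintype_card, ← Fintype.card_subtype]
  have hBfcard : ∀ i, (Finset.univ.filter (fun x => x ∈ B i)).card = f := by
    intro i
    rw [← hBcard i, Nat.card_eq_fintype_card, ← Fintype.card_subtype]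
  -- step 1 : f ∣ p - 1
  have hι2 : 2 ≤ Fintype.card ι := by
    rw [← Nat.card_eq_fintype_card]; omega
  obtain ⟨i₁, hi₁⟩ : ∃ i₁ : ι, i₁ ≠ i₀ := by
    haveI : Nontrivial ι := Fintype.one_lt_card_iff_nontrivial.mp (by omega)
    exact exists_ne i₀
  have hinj : Function.Injective (ψ.comp (B i₁).subtype) := by
    rw [injective_iff_map_eq_one]
    intro x hx
    have h1 : x.1 ∈ ψ.ker := by
      rw [MonoidHom.mem_ker]; exact hx
    rw [← hB0] at h1
    exact Subtype.ext (hBdisj i₁ i₀ hi₁ x.1 x.2 h1)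
  have hfdvd : f ∣ p - 1 := by
    have := Subgroup.card_dvd_of_injective _ hinj
    rwa [hBcard i₁, hA] at this
  have hfle : f ≤ p - 1 := Nat.le_of_dvd (by omega) hfdvd
  -- step 2 : the union
  set U : Finset Q := Finset.univ.filter (fun x => ∃ i, x ∈ B i) with hU
  set t : ι → Finset Q := fun i => Finset.univ.filter (fun x => x ∈ B i ∧ x ≠ 1) with ht
  have htcard : ∀ i, (t i).card = f - 1 := by
    intro i
    have h1 : t i = (Finset.univ.filter (fun x => x ∈ B i)).erase 1 := by
      ext x
      rw [ht, Finset.mem_filter, Finset.mem_erase, Finset.mem_filter]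
      tauto
    rw [h1, Finset.card_erase_of_mem, hBfcard i]
    rw [Finset.mem_filter]
    exact ⟨Finset.mem_univ _, one_mem _⟩
  have hUeq : U = insert 1 ((Finset.univ : Finset ι).biUnion t) := by
    ext x
    rw [hU, Finset.mem_filter, Finset.mem_insert, Finset.mem_biUnion]
    constructor
    · rintro ⟨-, i, hi⟩
      by_cases hx1 : x = 1
      · exact Or.inl hx1
      · right
        refine ⟨i, Finset.mem_univ _, ?_⟩
        rw [ht, Finset.mem_filter]
        exact ⟨Finset.mem_univ _, hi, hx1⟩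
    · rintro (h | ⟨i, -, hi⟩)
      · exact ⟨Finset.mem_univ _, i₀, by rw [h]; exact one_mem _⟩
      · rw [ht, Finset.mem_filter] at hi
        exact ⟨Finset.mem_univ _, i, hi.2.1⟩
  have hUcard : U.card = 1 + Fintype.card ι * (f - 1) := by
    rw [hUeq, Finset.card_insert_of_notMem, Finset.card_biUnion, Finset.sum_congr rfl
      (fun i _ => htcard i), Finset.sum_const, smul_eq_mul, Finset.card_univ, add_comm]
    · intro i _ j _ hij
      show Disjoint (t i) (t j)
      rw [Finset.disjoint_left]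
      intro x hx hx'
      rw [ht, Finset.mem_filter] at hx hx'
      exact hx.2.2 (hBdisj i j hij x hx.2.1 hx'.2.1)
    · rw [Finset.mem_biUnion]
      rintro ⟨i, -, hi⟩
      rw [ht, Finset.mem_filter] at hi
      exact hi.2.2 rfl
  have hfpos : 0 < f := by omega
  have hUpow : ∀ x ∈ U, ψ x ∈ Finset.univ.filter (fun a : A => a ^ f = 1) := by
    intro x hx
    rw [hU, Finset.mem_filter] at hx
    obtain ⟨-, i, hi⟩ := hx
    rw [Finset.mem_filter]
    refine ⟨Finset.mem_univ _, ?_⟩
    have h1 : (⟨x, hi⟩ : B i) ^ Nat.card (B i) = 1 := pow_card_eq_one'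
    have h2 : x ^ f = 1 := by
      have := congrArg Subtype.val h1
      rw [hBcard i] at this
      simpa using this
    rw [← map_pow, h2, map_one]
  have hUle : U.card ≤ f * f := by
    have h1 := card_le_of_hom ψ U _ hUpow Kf (by
      intro x _ y _ hxy
      rw [hKf, Finset.mem_filter]
      refine ⟨Finset.mem_univ _, ?_⟩
      rw [MonoidHom.mem_ker, map_mul, map_inv, hxy, inv_mul_cancel])
    rw [hKfcard] at h1
    exact h1.trans (Nat.mul_le_mul_left f (IsCyclic.card_pow_eq_one_le hfpos))
  have hιp : p ≤ Fintype.card ι := by rw [← Nat.card_eq_fintype_card]; exact hι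
  have hfeq : f = p - 1 := by
    by_contra hne
    have h1 : f + 2 ≤ p := by omega
    rw [hUcard] at hUle
    have h2 : (f + 2) * (f - 1) ≤ Fintype.card ι * (f - 1) :=
      Nat.mul_le_mul_right _ (h1.trans hιp)
    obtain ⟨g, hg⟩ : ∃ g, f = g + 2 := ⟨f - 2, by omega⟩
    have h3 : f - 1 = g + 1 := by omega
    rw [h3] at h2 hUle
    rw [hg] at h2 hUle
    nlinarith
  -- step 3 : involutions
  have hfeven : 2 ∣ f := by
    rw [hfeq]
    have := hp.odd_of_ne_two hp2
    obtain ⟨m, hm⟩ := this
    exact ⟨m, by omega⟩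
  set V₂ : Finset Q := Finset.univ.filter (fun x => x * x = 1) with hV₂
  have hinvB : ∀ i, ∃ x, x ∈ B i ∧ x ≠ 1 ∧ x * x = 1 := by
    intro i
    have h1 : 2 ∣ Nat.card (B i) := by rw [hBcard i]; exact hfeven
    obtain ⟨x, hx⟩ := exists_prime_orderOf_dvd_card' (G := B i) 2 h1
    refine ⟨x.1, x.2, ?_, ?_⟩
    · intro h
      have : x = 1 := Subtype.ext h
      rw [this, orderOf_one] at hx
      omega
    · have h2 : x ^ 2 = 1 := by rw [← hx, pow_orderOf_eq_one]
      have := congrArg Subtype.val h2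
      rw [pow_two] at this
      simpa using this
  choose inv hinv using hinvB
  have hV₂ge : Fintype.card ι + 1 ≤ V₂.card := by
    have h1 : (insert 1 ((Finset.univ : Finset ι).image inv)) ⊆ V₂ := by
      intro x hx
      rw [Finset.mem_insert, Finset.mem_image] at hx
      rw [hV₂, Finset.mem_filter]
      refine ⟨Finset.mem_univ _, ?_⟩
      rcases hx with h | ⟨i, -, rfl⟩
      · rw [h, one_mul]
      · exact (hinv i).2.2
    have h2 : (insert 1 ((Finset.univ : Finset ι).image inv)).card = Fintype.card ι + 1 := by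
      rw [Finset.card_insert_of_notMem, Finset.card_image_of_injective, Finset.card_univ]
      · intro i j hij
        by_contra hne
        exact (hinv i).2.1 (hBdisj i j hne _ (hinv i).1 (hij ▸ (hinv j).1))
      · rw [Finset.mem_image]
        rintro ⟨i, -, hi⟩
        exact (hinv i).2.1 hi
    rw [← h2]
    exact Finset.card_le_card h1
  have hV₂le : V₂.card ≤ 2 * 2 := by
    have hmap : ∀ x ∈ V₂, ψ x ∈ Finset.univ.filter (fun a : A => a ^ 2 = 1) := by
      intro x hx
      rw [hV₂, Finset.mem_filter] at hx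
      rw [Finset.mem_filter]
      refine ⟨Finset.mem_univ _, ?_⟩
      rw [← map_pow, pow_two, hx.2, map_one]
    set K₂ : Finset Q := Finset.univ.filter (fun x => x ∈ ψ.ker ∧ x * x = 1) with hK₂
    have h1 := card_le_of_hom ψ V₂ _ hmap K₂ (by
      intro x hx y hy hxy
      rw [hV₂, Finset.mem_filter] at hx hy
      rw [hK₂, Finset.mem_filter]
      refine ⟨Finset.mem_univ _, ?_, ?_⟩
      · rw [MonoidHom.mem_ker, map_mul, map_inv, hxy, inv_mul_cancel]
      · have h3 : x⁻¹ = x := inv_eq_of_mul_eq_one_right hx.2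
        rw [h3]
        calc x * y * (x * y) = x * (y * x) * y := by group
          _ = x * (x * y) * y := by rw [hcomm y x]
          _ = (x * x) * (y * y) := by group
          _ = 1 := by rw [hx.2, hy.2, one_mul])
    have hK₂le : K₂.card ≤ 2 := by
      haveI := hcyc
      have h3 := IsCyclic.card_pow_eq_one_le (α := ψ.ker) (n := 2) (by norm_num)
      have h4 : K₂.card ≤ (Finset.univ.filter (fun a : ψ.ker => a ^ 2 = 1)).card := by
        apply Finset.card_le_card_of_injOn (fun x => if h : x ∈ ψ.ker then ⟨x, h⟩ else 1)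
        · intro x hx
          rw [Finset.mem_coe, hK₂, Finset.mem_filter] at hx
          rw [Finset.mem_coe, Finset.mem_filter]
          refine ⟨Finset.mem_univ _, ?_⟩
          show (if h : x ∈ ψ.ker then (⟨x, h⟩ : ψ.ker) else 1) ^ 2 = 1
          rw [dif_pos hx.2.1]
          apply Subtype.ext
          rw [pow_two]
          exact hx.2.2
        · intro x hx y hy hxy
          rw [Finset.mem_coe, hK₂, Finset.mem_filter] at hx hy
          have hxy' : (if h : x ∈ ψ.ker then (⟨x, h⟩ : ψ.ker) else 1) =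
              (if h : y ∈ ψ.ker then (⟨y, h⟩ : ψ.ker) else 1) := hxy
          rw [dif_pos hx.2.1, dif_pos hy.2.1] at hxy'
          exact congrArg Subtype.val hxy'
      exact h4.trans h3
    have hA₂le : (Finset.univ.filter (fun a : A => a ^ 2 = 1)).card ≤ 2 :=
      IsCyclic.card_pow_eq_one_le (by norm_num)
    calc V₂.card ≤ K₂.card * (Finset.univ.filter (fun a : A => a ^ 2 = 1)).card := h1
      _ ≤ 2 * 2 := Nat.mul_le_mul hK₂le hA₂le
  have hp_eq : p = 3 := by omega
  have hf2 : f = 2 := by rw [hfeq, hp_eq]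
  have hι3 : Fintype.card ι = 3 := by omega
  -- step 4
  have hQle : Fintype.card Q ≤ 4 := by
    have h1 := card_le_of_hom ψ Finset.univ Finset.univ (fun x _ => Finset.mem_univ _) Kf (by
      intro x _ y _ hxy
      rw [hKf, Finset.mem_filter]
      refine ⟨Finset.mem_univ _, ?_⟩
      rw [MonoidHom.mem_ker, map_mul, map_inv, hxy, inv_mul_cancel])
    rw [hKfcard, Finset.card_univ, Finset.card_univ, ← Nat.card_eq_fintype_card (α := A), hA,
      hf2, hp_eq] at h1
    exact h1
  have hU4 : U.card = 4 := by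
    rw [hUcard, hι3, hf2]
  have hUuniv : U = Finset.univ := by
    apply Finset.eq_univ_of_card
    have := Finset.card_le_univ U
    omega
  refine ⟨hp_eq, ?_, hf2, ?_, ?_⟩
  · rw [Nat.card_eq_fintype_card]
    have := Finset.card_le_univ U
    omega
  · rw [Nat.card_eq_fintype_card]; exact hι3
  · intro x
    have : x ∈ U := by rw [hUuniv]; exact Finset.mem_univ x
    rw [hU, Finset.mem_filter] at this
    exact this.2

end Cfsg.Agent.Lib.Helper4.Cyc
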