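import Mathlib
import Cfsg.Agent.Lib.Helper4.Cyc12
import Cfsg.Agent.Lib.Helper4.CycN

/-!
# The simple case with `C_G(P) ≠ P`: numerics, `p = 3` and `|Q| = 4`
-/

set_option autoImplicit false

namespace Cfsg.Agent.Lib.Helper4.Cyc

open Subgroup

universe u

variable {G : Type u} [Group G] [Finite G] {p : ℕ} [Fact p.Prime]

omit [Finite G] in
theorem mulAut_zpowers {z₀ : G} (hzo : orderOf z₀ = p) :
    IsCyclic (MulAut (zpowers z₀)) ∧ Nat.card (MulAut (zpowers z₀)) = p - 1 := by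
  have hp : p.Prime := Fact.out
  have hcard : Nat.card (zpowers z₀) = p := by rw [Nat.card_zpowers, hzo]
  haveI : Finite (zpowers z₀) := Nat.finite_of_card_ne_zero (by rw [hcard]; exact hp.ne_zero)
  constructor
  · haveI : Fact (Nat.card (zpowers z₀)).Prime := ⟨by rw [hcard]; exact hp⟩
    have e := IsCyclic.mulAutMulEquiv (zpowers z₀)
    haveI : IsCyclic (ZMod (Nat.card (zpowers z₀)))ˣ := inferInstance
    exact isCyclic_of_surjective e.symm e.symm.surjective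
  · rw [IsCyclic.card_mulAut, hcard, Nat.totient_prime hp]

/-- The conjugate of `Q₀` by `g`, inside `Q`. -/
def conjIn (Q Q₀ : Subgroup G) (g : G) : Subgroup Q :=
  Q₀.comap ((MulAut.conj g⁻¹).toMonoidHom.comp Q.subtype)

omit [Finite G] [Fact p.Prime] in
theorem mem_conjIn {Q Q₀ : Subgroup G} {g : G} {x : Q} :
    x ∈ conjIn Q Q₀ g ↔ g⁻¹ * x.1 * g ∈ Q₀ := by
  unfold conjIn
  rw [mem_comap]
  simp

omit [Finite G] [Fact p.Prime] in
theorem card_conjIn {Q Q₀ : Subgroup G} (h0 : Q₀ ≤ Q) {g : G} (hg : g ∈ normalizer (Q : Set G)) :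
    Nat.card (conjIn Q Q₀ g) = Nat.card Q₀ := by
  have hgQ : ∀ c ∈ Q₀, g * c * g⁻¹ ∈ Q := fun c hc => (mem_normalizer_iff.mp hg c).mp (h0 hc)
  symm
  apply Nat.card_congr
  refine
    { toFun := fun c => ⟨⟨g * c.1 * g⁻¹, hgQ c.1 c.2⟩, ?_⟩
      invFun := fun x => ⟨g⁻¹ * x.1.1 * g, mem_conjIn.mp x.2⟩
      left_inv := ?_
      right_inv := ?_ }
  · rw [mem_conjIn]
    have e : g⁻¹ * (g * c.1 * g⁻¹) * g = c.1 := by group
    show g⁻¹ * (g * c.1 * g⁻¹) * g ∈ Q₀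
    rw [e]; exact c.2
  · intro c
    apply Subtype.ext
    show g⁻¹ * (g * c.1 * g⁻¹) * g = c.1
    group
  · intro x
    apply Subtype.ext
    apply Subtype.ext
    show g * (g⁻¹ * x.1.1 * g) * g⁻¹ = x.1.1
    group

namespace Ctx

variable (c : Ctx G p)
include c

/-- Distinct conjugates of `Q₀` under `⟨y⟩` meet trivially. -/
theorem conj_cent_false {P : Sylow p G} {y : G} (hyp : ∃ k : ℕ, y ^ p ^ k = 1)
    (hyP : y ∉ normalizer ((P : Subgroup G) : Set G)) {h : G} (hh : h ∈ zpowers y) (hh1 : h ≠ 1)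
    {c₂ : G} (hc₂1 : c₂ ≠ 1) (hc₂o : (orderOf c₂).Coprime p)
    (hc₂ : ∀ u ∈ (P : Subgroup G), c₂ * u = u * c₂)
    (hc₁ : ∀ u ∈ (P : Subgroup G), (h * c₂ * h⁻¹) * u = u * (h * c₂ * h⁻¹)) : False := by
  have hc₁1 : h * c₂ * h⁻¹ ≠ 1 := by
    intro h1
    apply hc₂1
    have : c₂ = h⁻¹ * (h * c₂ * h⁻¹) * h := by group
    rw [this, h1]; group
  have hc₁o : (orderOf (h * c₂ * h⁻¹)).Coprime p := by rw [orderOf_conj_eq]; exact hc₂o
  obtain ⟨u, hu, hu1⟩ : ∃ u ∈ (P : Subgroup G), u ≠ 1 := by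
    by_contra hcon
    push Not at hcon
    apply c.sylow_ne_bot P
    rw [eq_bot_iff]
    intro x hx
    rw [mem_bot]; exact hcon x hx
  have h1 : h * u * h⁻¹ ∈ normalizer ((P : Subgroup G) : Set G) := by
    apply c.cent_pprime_le P hc₁ hc₁o hc₁1
    have h2 := hc₂ u hu
    calc h * u * h⁻¹ * (h * c₂ * h⁻¹) = h * (u * c₂) * h⁻¹ := by group
      _ = h * (c₂ * u) * h⁻¹ := by rw [h2]
      _ = h * c₂ * h⁻¹ * (h * u * h⁻¹) := by group
  have h2 : h * u * h⁻¹ ∈ (P : Subgroup G) := by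
    apply mem_sylow_of_normalizes P h1
    obtain ⟨k, hk⟩ := pelem_of_mem_pgroup P.2 hu
    exact ⟨k, by rw [conj_pow, hk]; group⟩
  have hhN := c.mem_normalizer_of_conj_mem P hu hu1 h2
  have hhp : ∃ k : ℕ, h ^ p ^ k = 1 := by
    obtain ⟨k, hk⟩ := hyp
    obtain ⟨i, rfl⟩ := mem_zpowers_iff.mp hh
    exact ⟨k, by rw [← zpow_natCast, ← zpow_mul, mul_comm, zpow_mul, zpow_natCast, hk, one_zpow]⟩
  have hhP := mem_sylow_of_normalizes P hhN hhp
  apply hyP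
  apply c.cent_le_norm P hhP hh1
  obtain ⟨i, rfl⟩ := mem_zpowers_iff.mp hh
  exact ((Commute.refl y).zpow_right i).eq

end Ctx

end Cfsg.Agent.Lib.Helper4.Cyc
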