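import Mathlib
import Cfsg.Agent.Lib.Helper4.Cyc13

/-!
# The simple case with `C_G(P) ≠ P`: applying the numerics
-/

set_option autoImplicit false

namespace Cfsg.Agent.Lib.Helper4.Cyc

open Subgroup

universe u

variable {G : Type u} [Group G] [Finite G] {p : ℕ} [Fact p.Prime]

namespace Ctx

variable (c : Ctx G p)
include c

set_option maxHeartbeats 800000 in
theorem numerics_apply {P : Sylow p G} {Q : Subgroup G} (hQ : ComplPkg P Q) {z₁ : G}
    (hz₁1 : z₁ ≠ 1) (hz₁o : (orderOf z₁).Coprime p)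
    (hz₁c : ∀ y ∈ (P : Subgroup G), z₁ * y = y * z₁)
    {y : G} (hyp : ∃ k : ℕ, y ^ p ^ k = 1) (hyQ : y ∈ normalizer (Q : Set G))
    (hyP : y ∉ normalizer ((P : Subgroup G) : Set G)) :
    p = 3 ∧ Nat.card Q = 4 ∧
      Nat.card (Q ⊓ centralizer ((P : Subgroup G) : Set G) : Subgroup G) = 2 ∧
      orderOf y = 3 ∧
      ∀ q ∈ Q, ∃ g ∈ zpowers y, g⁻¹ * q * g ∈ Q ⊓ centralizer ((P : Subgroup G) : Set G) := by
  have hp : p.Prime := Fact.out
  have hp2 := c.p_ne_two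
  set Q₀ : Subgroup G := Q ⊓ centralizer ((P : Subgroup G) : Set G) with hQ₀
  have hQ₀le : Q₀ ≤ Q := inf_le_left
  have hQ₀mem : ∀ x, x ∈ Q₀ ↔ x ∈ Q ∧ ∀ u ∈ (P : Subgroup G), x * u = u * x := by
    intro x
    rw [hQ₀, mem_inf, mem_centralizer_iff]
    constructor
    · rintro ⟨h1, h2⟩; exact ⟨h1, fun u hu => (h2 u hu).symm⟩
    · rintro ⟨h1, h2⟩; exact ⟨h1, fun u hu => (h2 u hu).symm⟩
  obtain ⟨x₀, hx₀, hx₀1⟩ : ∃ u ∈ (P : Subgroup G), u ≠ 1 := by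
    by_contra hcon
    push Not at hcon
    apply c.sylow_ne_bot P
    rw [eq_bot_iff]
    intro x hx
    rw [mem_bot]; exact hcon x hx
  obtain ⟨z₀, hz₀x, hz₀P, hz₀o⟩ := exists_order_p P hx₀ hx₀1
  have hz₀1 : z₀ ≠ 1 := by
    intro h; rw [h, orderOf_one] at hz₀o; exact hp.one_lt.ne hz₀o
  have hNH := c.normalizer_zpowers P hz₀P hz₀o
  have hQH : Q ≤ normalizer ((zpowers z₀ : Subgroup G) : Set G) := by rw [hNH]; exact hQ.le
  obtain ⟨hAcyc, hAcard⟩ := mulAut_zpowers (p := p) hz₀o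
  haveI := hAcyc
  set ψ : Q →* MulAut (zpowers z₀) :=
    (zpowers z₀).normalizerMonoidHom.comp (Subgroup.inclusion hQH) with hψ
  have hker : ∀ q : Q, q ∈ ψ.ker ↔ q.1 ∈ Q₀ := by
    intro q
    rw [MonoidHom.mem_ker, hψ, MonoidHom.comp_apply, ← MonoidHom.mem_ker, normalizerMonoidHom_ker,
      mem_subgroupOf, hQ₀mem]
    show q.1 ∈ centralizer ((zpowers z₀ : Subgroup G) : Set G) ↔ _
    rw [mem_centralizer_iff]
    constructor
    · intro h
      refine ⟨q.2, ?_⟩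
      have h1 : q.1 * z₀ = z₀ * q.1 := (h z₀ (mem_zpowers z₀)).symm
      exact centralizes_of_cyclic (c.cyc P) P.2 (hQ.le q.2)
        (coprime_orderOf_of_not_dvd_card hQ.cop q.2) hz₀P hz₀1 h1
    · rintro ⟨-, h⟩ u hu
      have : zpowers z₀ ≤ (P : Subgroup G) := by rw [zpowers_le]; exact hz₀P
      exact (h u (this hu)).symm
  have hyN : zpowers y ≤ normalizer (Q : Set G) := by rw [zpowers_le]; exact hyQ
  set B : zpowers y → Subgroup Q := fun g => conjIn Q Q₀ g.1 with hB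
  have hBmem : ∀ (g : zpowers y) (x : Q), x ∈ B g ↔ g.1⁻¹ * x.1 * g.1 ∈ Q₀ :=
    fun g x => mem_conjIn
  have hB1 : B 1 = ψ.ker := by
    ext q
    rw [hker, hBmem]
    simp
  have hkercard : Nat.card ψ.ker = Nat.card Q₀ := by
    rw [← hB1]; exact card_conjIn hQ₀le (hyN (1 : zpowers y).2)
  have hBcard : ∀ g, Nat.card (B g) = Nat.card ψ.ker := fun g => by
    rw [hkercard]; exact card_conjIn hQ₀le (hyN g.2)
  have hBdisj : ∀ g g' : zpowers y, g ≠ g' → ∀ x, x ∈ B g → x ∈ B g' → x = 1 := by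
    intro g g' hne x hx hx'
    by_contra hx1
    rw [hBmem, hQ₀mem] at hx hx'
    apply c.conj_cent_false hyp hyP (h := g.1⁻¹ * g'.1) (c₂ := g'.1⁻¹ * x.1 * g'.1)
      (mul_mem (inv_mem g.2) g'.2)
    · intro h
      apply hne
      apply Subtype.ext
      have : g'.1 = g.1 * (g.1⁻¹ * g'.1) := by group
      rw [this, h, mul_one]
    · intro h
      apply hx1
      apply Subtype.ext
      have : x.1 = g'.1 * (g'.1⁻¹ * x.1 * g'.1) * g'.1⁻¹ := by group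
      rw [this, h]; simp
    · exact coprime_orderOf_of_not_dvd_card hQ.cop hx'.1
    · exact hx'.2
    · have e : (g.1⁻¹ * g'.1) * (g'.1⁻¹ * x.1 * g'.1) * (g.1⁻¹ * g'.1)⁻¹ = g.1⁻¹ * x.1 * g.1 := by
        group
      rw [e]; exact hx.2
  have hf : 2 ≤ Nat.card ψ.ker := by
    rw [hkercard]
    have hz₁Q₀ : z₁ ∈ Q₀ := (hQ₀mem z₁).mpr ⟨pprime_cent_mem hQ hz₁c hz₁o, hz₁c⟩
    have : Q₀ ≠ ⊥ := fun h => hz₁1 (by rw [h, mem_bot] at hz₁Q₀; exact hz₁Q₀)
    exact (Subgroup.one_lt_card_iff_ne_bot Q₀).mpr this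
  have hy1 : y ≠ 1 := by
    intro h; apply hyP; rw [h]; exact one_mem _
  have hcyc : IsCyclic ψ.ker := by
    set gy : zpowers y := ⟨y, mem_zpowers y⟩ with hgy
    have hgy1 : gy ≠ 1 := fun h => hy1 (congrArg Subtype.val h)
    have hinj : Function.Injective (ψ.comp (B gy).subtype) := by
      rw [injective_iff_map_eq_one]
      intro x hx
      have h1 : x.1 ∈ ψ.ker := hx
      rw [← hB1] at h1
      exact Subtype.ext (hBdisj gy 1 hgy1 x.1 x.2 h1)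
    haveI : IsCyclic (B gy) := isCyclic_of_injective _ hinj
    have hxmem : ∀ x : B gy, y⁻¹ * x.1.1 * y ∈ Q₀ := fun x => (hBmem gy x.1).mp x.2
    let f : B gy →* ψ.ker :=
      { toFun := fun x => ⟨⟨y⁻¹ * x.1.1 * y, hQ₀le (hxmem x)⟩, (hker _).mpr (hxmem x)⟩
        map_one' := by
          apply Subtype.ext
          apply Subtype.ext
          show y⁻¹ * 1 * y = 1
          group
        map_mul' := by
          intro a b
          apply Subtype.ext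
          apply Subtype.ext
          show y⁻¹ * (a.1.1 * b.1.1) * y = (y⁻¹ * a.1.1 * y) * (y⁻¹ * b.1.1 * y)
          group }
    apply isCyclic_of_surjective f
    intro k
    have hk : k.1.1 ∈ Q₀ := (hker k.1).mp k.2
    have hkQ : y * k.1.1 * y⁻¹ ∈ Q := (mem_normalizer_iff.mp hyQ _).mp k.1.2
    have hkB : (⟨y * k.1.1 * y⁻¹, hkQ⟩ : Q) ∈ B gy := by
      rw [hBmem]
      show y⁻¹ * (y * k.1.1 * y⁻¹) * y ∈ Q₀
      have e : y⁻¹ * (y * k.1.1 * y⁻¹) * y = k.1.1 := by group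
      rw [e]; exact hk
    refine ⟨⟨⟨y * k.1.1 * y⁻¹, hkQ⟩, hkB⟩, ?_⟩
    apply Subtype.ext
    apply Subtype.ext
    show y⁻¹ * (y * k.1.1 * y⁻¹) * y = k.1.1
    group
  have hι : p ≤ Nat.card (zpowers y) := by
    rw [Nat.card_zpowers]
    obtain ⟨k, hk⟩ := hyp
    obtain ⟨j, hj, hjo⟩ := (Nat.dvd_prime_pow hp).mp (orderOf_dvd_of_pow_eq_one hk)
    rw [hjo]
    have hj0 : j ≠ 0 := by
      intro h; rw [h, pow_zero] at hjo; exact hy1 (orderOf_eq_one_iff.mp hjo)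
    calc p = p ^ 1 := (pow_one p).symm
      _ ≤ p ^ j := Nat.pow_le_pow_right hp.pos (Nat.one_le_iff_ne_zero.mpr hj0)
  have hcommQ : ∀ a b : Q, a * b = b * a := fun a b => Subtype.ext (c.compl_comm hQ a.2 b.2)
  obtain ⟨h3, h4, h2, hι3, hall⟩ :=
    numerics hp hp2 hcommQ hAcard ψ B 1 hι hB1 hBcard hBdisj hf hcyc
  refine ⟨h3, h4, ?_, ?_, ?_⟩
  · rw [← hkercard]; exact h2
  · rw [← Nat.card_zpowers]; exact hι3
  · intro q hq
    obtain ⟨g, hg⟩ := hall ⟨q, hq⟩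
    exact ⟨g.1, g.2, (hBmem g ⟨q, hq⟩).mp hg⟩

end Ctx

end Cfsg.Agent.Lib.Helper4.Cyc
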