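import Mathlib
import Cfsg.Agent.Lib.Helper4.Cyc14
import Cfsg.Agent.Lib.Helper4.Cyc8

/-!
# The simple case with `C_G(P) ≠ P`: the residual configuration
-/

set_option autoImplicit false

namespace Cfsg.Agent.Lib.Helper4.Cyc

open Subgroup

universe u

variable {G : Type u} [Group G] [Finite G] {p : ℕ} [Fact p.Prime]

namespace Ctx

variable (c : Ctx G p) (hz : ¬ ZTriv G p)
include c hz

theorem residual (P : Sylow p G) :
    ∃ (Q : Subgroup G) (y : G), ComplPkg P Q ∧ p = 3 ∧ Nat.card Q = 4 ∧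
      Nat.card (Q ⊓ centralizer ((P : Subgroup G) : Set G) : Subgroup G) = 2 ∧ orderOf y = 3 ∧
      y ∈ normalizer (Q : Set G) ∧ y ∉ normalizer ((P : Subgroup G) : Set G) ∧
      (∃ k : ℕ, y ^ p ^ k = 1) ∧
      ∀ q ∈ Q, ∃ g ∈ zpowers y, g⁻¹ * q * g ∈ Q ⊓ centralizer ((P : Subgroup G) : Set G) := by
  obtain ⟨z₁, hz₁1, hz₁o, hz₁c⟩ := exists_cent_all hz P
  obtain ⟨Q, hQ⟩ := exists_complPkg P
  obtain ⟨y, hyp, hyQ, hyP⟩ := c.exists_pelem_normalizing hQ hz₁1 hz₁o hz₁c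
  obtain ⟨h3, h4, h2, hy3, hall⟩ := c.numerics_apply hQ hz₁1 hz₁o hz₁c hyp hyQ hyP
  exact ⟨Q, y, hQ, h3, h4, h2, hy3, hyQ, hyP, hyp, hall⟩

theorem p_eq_three : p = 3 := by
  obtain ⟨P⟩ : Nonempty (Sylow p G) := inferInstance
  obtain ⟨Q, y, hQ, h3, -⟩ := c.residual hz P
  exact h3

/-- Each Sylow `p`-subgroup is centralized by exactly one involution. -/
theorem exists_unique_inv_cent (P : Sylow p G) :
    ∃ t, IsInv t ∧ (∀ u ∈ (P : Subgroup G), t * u = u * t) ∧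
      ∀ t', IsInv t' → (∀ u ∈ (P : Subgroup G), t' * u = u * t') → t' = t := by
  have hp2 := c.p_ne_two
  obtain ⟨Q, y, hQ, h3, h4, h2, -⟩ := c.residual hz P
  obtain ⟨t, ht1, htuniq⟩ :=
    (Nat.card_eq_two_iff' (1 : (Q ⊓ centralizer ((P : Subgroup G) : Set G) : Subgroup G))).mp h2
  have htmem := t.2
  rw [mem_inf, mem_centralizer_iff] at htmem
  refine ⟨t.1, ⟨?_, ?_⟩, fun u hu => (htmem.2 u hu).symm, ?_⟩
  · intro h; exact ht1 (Subtype.ext h)
  · have h5 : t ^ Nat.card (Q ⊓ centralizer ((P : Subgroup G) : Set G) : Subgroup G) = 1 :=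
      pow_card_eq_one'
    rw [h2, pow_two] at h5
    have := congrArg Subtype.val h5
    simpa using this
  · intro t' ht' hc'
    have h5 : t' ∈ Q := pprime_cent_mem hQ hc' (ht'.coprime hp2)
    have h6 : t' ∈ (Q ⊓ centralizer ((P : Subgroup G) : Set G) : Subgroup G) := by
      rw [mem_inf, mem_centralizer_iff]
      exact ⟨h5, fun u hu => (hc' u hu).symm⟩
    have h7 := htuniq ⟨t', h6⟩ (fun h => ht'.1 (congrArg Subtype.val h))
    exact congrArg Subtype.val h7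

/-- Every involution centralizes some Sylow `p`-subgroup. -/
theorem inv_cent_some {a : G} (ha : IsInv a) :
    ∃ P' : Sylow p G, ∀ u ∈ (P' : Subgroup G), a * u = u * a := by
  have hp : p.Prime := Fact.out
  have hp2 := c.p_ne_two
  obtain ⟨P⟩ : Nonempty (Sylow p G) := inferInstance
  obtain ⟨Q, y, hQ, h3, h4, h2, hy3, hyQ, hyP, hyp, hall⟩ := c.residual hz P
  obtain ⟨z₁, hz₁1, hz₁o, hz₁c⟩ := exists_cent_all hz P
  have hz₁Q : z₁ ∈ Q := pprime_cent_mem hQ hz₁c hz₁o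
  have hQ2 : IsPGroup 2 Q := IsPGroup.of_card (n := 2) (by rw [h4]; norm_num)
  obtain ⟨S, hQS⟩ := hQ2.exists_le_sylow
  have hScop : ¬ p ∣ Nat.card (S : Subgroup G) := by
    obtain ⟨k, hk⟩ := S.2.exists_card_eq
    rw [hk]
    intro h
    have := hp.dvd_of_dvd_pow h
    exact hp2 ((Nat.prime_dvd_prime_iff_eq hp Nat.prime_two).mp this)
  have hSab := c.ab (S : Subgroup G) hScop
  have hSN : (S : Subgroup G) ≤ normalizer ((P : Subgroup G) : Set G) := by
    intro s hs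
    exact c.cent_pprime_le P hz₁c hz₁o hz₁1 (hSab s hs z₁ (hQS hz₁Q))
  have hSQ : Q = (S : Subgroup G) := by
    apply Subgroup.eq_of_le_of_card_ge hQS
    have h1 : Nat.card (S : Subgroup G) ∣ Nat.card (normalizer ((P : Subgroup G) : Set G)) :=
      Subgroup.card_dvd_of_le hSN
    rw [← hQ.card] at h1
    have h5 : (Nat.card (S : Subgroup G)).Coprime (Nat.card (P : Subgroup G)) := by
      obtain ⟨k, hk⟩ := P.2.exists_card_eq
      rw [hk]
      apply Nat.Coprime.pow_right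
      rw [Nat.coprime_comm, hp.coprime_iff_not_dvd]
      exact hScop
    exact Nat.le_of_dvd Nat.card_pos (h5.dvd_of_dvd_mul_left h1)
  obtain ⟨S', haS'⟩ := exists_sylow_mem (p := 2) (x := a)
    ⟨1, by rw [pow_one, pow_two]; exact ha.2⟩
  obtain ⟨g, hg⟩ := MulAction.exists_smul_eq G S S'
  rw [← hg, mem_smul_sylow_iff, ← hSQ] at haS'
  obtain ⟨h, hh, hc₀⟩ := hall _ haS'
  rw [mem_inf, mem_centralizer_iff] at hc₀
  refine ⟨(g * h) • P, ?_⟩
  intro u hu
  rw [mem_smul_sylow_iff] at hu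
  have hcw := hc₀.2 _ hu
  have e0 : h⁻¹ * (g⁻¹ * a * g) * h = (g * h)⁻¹ * a * (g * h) := by group
  rw [e0] at hcw
  have e1 : a * u = (g * h) * (((g * h)⁻¹ * a * (g * h)) * ((g * h)⁻¹ * u * (g * h))) *
      (g * h)⁻¹ := by group
  have e2 : u * a = (g * h) * (((g * h)⁻¹ * u * (g * h)) * ((g * h)⁻¹ * a * (g * h))) *
      (g * h)⁻¹ := by group
  rw [e1, e2, hcw]

/-- All involutions are conjugate. -/
theorem inv_all_conj {a b : G} (ha : IsInv a) (hb : IsInv b) : ∃ g : G, g * a * g⁻¹ = b := by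
  obtain ⟨Pa, hPa⟩ := c.inv_cent_some hz ha
  obtain ⟨Pb, hPb⟩ := c.inv_cent_some hz hb
  obtain ⟨g, hg⟩ := MulAction.exists_smul_eq G Pa Pb
  obtain ⟨t, ht, htc, htu⟩ := c.exists_unique_inv_cent hz Pb
  refine ⟨g, ?_⟩
  rw [htu b hb hPb]
  apply htu _ (ha.conj g)
  intro u hu
  rw [← hg, mem_smul_sylow_iff] at hu
  have h1 := hPa _ hu
  calc g * a * g⁻¹ * u = g * (a * (g⁻¹ * u * g)) * g⁻¹ := by group
    _ = g * ((g⁻¹ * u * g) * a) * g⁻¹ := by rw [h1]
    _ = u * (g * a * g⁻¹) := by group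

end Ctx

end Cfsg.Agent.Lib.Helper4.Cyc
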