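import Mathlib
import Cfsg.Agent.Lib.Helper4.Cyc15
import Cfsg.Agent.Lib.Helper4.Cyc9

/-!
# The simple case with `C_G(P) ≠ P`: the commuting graph of involutions
-/

set_option autoImplicit false

namespace Cfsg.Agent.Lib.Helper4.Cyc

open Subgroup

universe u

variable {G : Type u} [Group G] [Finite G] {p : ℕ} [Fact p.Prime]

namespace Ctx

variable (c : Ctx G p) (hz : ¬ ZTriv G p)
include c

/-- An involution normalizing but not centralizing a Sylow `p`-subgroup inverts it. -/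
theorem inv_inverts' {u : G} (hu : IsInv u) (P' : Sylow p G)
    (huN : u ∈ normalizer ((P' : Subgroup G) : Set G))
    (hnc : ¬ ∀ y ∈ (P' : Subgroup G), u * y = y * u) :
    ∀ x ∈ (P' : Subgroup G), u * x * u⁻¹ = x⁻¹ := by
  intro x hx
  have hx' : u * x * u⁻¹ ∈ (P' : Subgroup G) := (mem_normalizer_iff.mp huN x).mp hx
  have hyP : x * (u * x * u⁻¹) ∈ (P' : Subgroup G) := mul_mem hx hx'
  have hcomm : x * (u * x * u⁻¹) = (u * x * u⁻¹) * x := c.sylow_comm P' hx hx'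
  have huy : u * (x * (u * x * u⁻¹)) = (x * (u * x * u⁻¹)) * u := by
    have h1 : u * (x * (u * x * u⁻¹)) * u⁻¹ = (u * x * u⁻¹) * ((u * u) * x * (u * u)⁻¹) := by
      group
    rw [hu.2] at h1
    have h2 : u * (x * (u * x * u⁻¹)) * u⁻¹ = x * (u * x * u⁻¹) := by
      rw [h1, hcomm]; group
    calc u * (x * (u * x * u⁻¹)) = (u * (x * (u * x * u⁻¹)) * u⁻¹) * u := by group
      _ = (x * (u * x * u⁻¹)) * u := by rw [h2]
  by_contra hne
  have hy1 : x * (u * x * u⁻¹) ≠ 1 := by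
    intro h
    apply hne
    exact eq_inv_of_mul_eq_one_right h
  exact hnc (c.cent_eq P' hyP hy1 huy)

include hz

omit hz in
/-- An involution centralizing `P` commutes with `N_G(P)`. -/
theorem inv_cent_central {P : Sylow p G} {t : G} (ht : IsInv t)
    (htc : ∀ u ∈ (P : Subgroup G), t * u = u * t) {n : G}
    (hn : n ∈ normalizer ((P : Subgroup G) : Set G)) : t * n = n * t := by
  obtain ⟨Q, hQ⟩ := exists_complPkg P
  have htQ : t ∈ Q := pprime_cent_mem hQ htc (ht.coprime c.p_ne_two)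
  obtain ⟨x, hx, q, hq, rfl⟩ := hQ.prod n hn
  have h1 := htc x hx
  have h2 := c.compl_comm hQ htQ hq
  calc t * (x * q) = (t * x) * q := by group
    _ = (x * t) * q := by rw [h1]
    _ = x * (t * q) := by group
    _ = x * (q * t) := by rw [h2]
    _ = x * q * t := by group

/-- Some involution has three distinct neighbours in the commuting graph. -/
theorem exists_three_neighbours :
    ∃ a b₁ b₂ b₃ : G, IsInv a ∧ IsInv b₁ ∧ IsInv b₂ ∧ IsInv b₃ ∧ b₁ ≠ a ∧ b₂ ≠ a ∧ b₃ ≠ a ∧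
      b₁ ≠ b₂ ∧ b₁ ≠ b₃ ∧ b₂ ≠ b₃ ∧ b₁ * a = a * b₁ ∧ b₂ * a = a * b₂ ∧ b₃ * a = a * b₃ := by
  have hp2 := c.p_ne_two
  obtain ⟨P⟩ : Nonempty (Sylow p G) := inferInstance
  obtain ⟨Q, y, hQ, h3, h4, h2, hy3, hyQ, hyP, hyp, hall⟩ := c.residual hz P
  obtain ⟨t, ht, htc, htu⟩ := c.exists_unique_inv_cent hz P
  have htQ : t ∈ Q := pprime_cent_mem hQ htc (ht.coprime hp2)
  have hto := ht.coprime hp2
  have hyinvQ : y⁻¹ ∈ normalizer (Q : Set G) := inv_mem hyQ
  have hq₁Q : y * t * y⁻¹ ∈ Q := (mem_normalizer_iff.mp hyQ t).mp htQ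
  have hq₂Q : y⁻¹ * t * y ∈ Q := by
    have := (mem_normalizer_iff.mp hyinvQ t).mp htQ
    rwa [inv_inv] at this
  have hy1 : y ≠ 1 := by
    intro h; apply hyP; rw [h]; exact one_mem _
  have hyinv1 : y⁻¹ ≠ 1 := by
    intro h; apply hy1; rw [← inv_inv y, h, inv_one]
  have hyy1 : y * y ≠ 1 := by
    rw [← pow_two]
    apply pow_ne_one_of_lt_orderOf (by norm_num)
    rw [hy3]; norm_num
  -- q₁ does not centralize `P`
  have hq₁nc : ¬ ∀ u ∈ (P : Subgroup G), (y * t * y⁻¹) * u = u * (y * t * y⁻¹) := by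
    intro h
    exact c.conj_cent_false hyp hyP (mem_zpowers y) hy1 ht.1 hto htc h
  have hq₁t : y * t * y⁻¹ ≠ t := by
    intro h; apply hq₁nc; rw [h]; exact htc
  have hq₂t : y⁻¹ * t * y ≠ t := by
    intro h
    apply c.conj_cent_false hyp hyP (inv_mem (mem_zpowers y)) hyinv1 ht.1 hto htc
    rw [inv_inv, h]; exact htc
  have hq₁q₂ : y * t * y⁻¹ ≠ y⁻¹ * t * y := by
    intro h
    apply c.conj_cent_false hyp hyP (mul_mem (mem_zpowers y) (mem_zpowers y)) hyy1 ht.1 hto htc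
    have e : (y * y) * t * (y * y)⁻¹ = y * (y * t * y⁻¹) * y⁻¹ := by group
    rw [e, h]
    have e2 : y * (y⁻¹ * t * y) * y⁻¹ = t := by group
    rw [e2]; exact htc
  obtain ⟨x, hx, hx1⟩ : ∃ u ∈ (P : Subgroup G), u ≠ 1 := by
    by_contra hcon
    push Not at hcon
    apply c.sylow_ne_bot P
    rw [eq_bot_iff]
    intro x hx
    rw [mem_bot]; exact hcon x hx
  have hi₁ : IsInv (y * t * y⁻¹) := ht.conj y
  have hi₂ : IsInv (y⁻¹ * t * y) := by
    have := ht.conj y⁻¹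
    rwa [inv_inv] at this
  have hi₃ : IsInv (x * (y * t * y⁻¹) * x⁻¹) := hi₁.conj x
  have hc₁ : (y * t * y⁻¹) * t = t * (y * t * y⁻¹) := c.compl_comm hQ hq₁Q htQ
  have hc₂ : (y⁻¹ * t * y) * t = t * (y⁻¹ * t * y) := c.compl_comm hQ hq₂Q htQ
  have htx := htc x hx
  have hc₃ : (x * (y * t * y⁻¹) * x⁻¹) * t = t * (x * (y * t * y⁻¹) * x⁻¹) := by
    have e1 : (x * (y * t * y⁻¹) * x⁻¹) * t = x * (y * t * y⁻¹) * (x⁻¹ * t * x) * x⁻¹ := by group
    have e2 : x⁻¹ * t * x = t := by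
      calc x⁻¹ * t * x = x⁻¹ * (t * x) := by group
        _ = x⁻¹ * (x * t) := by rw [htx]
        _ = t := by group
    rw [e1, e2]
    calc x * (y * t * y⁻¹) * t * x⁻¹ = x * ((y * t * y⁻¹) * t) * x⁻¹ := by group
      _ = x * (t * (y * t * y⁻¹)) * x⁻¹ := by rw [hc₁]
      _ = (x * t) * (y * t * y⁻¹) * x⁻¹ := by group
      _ = (t * x) * (y * t * y⁻¹) * x⁻¹ := by rw [htx]
      _ = t * (x * (y * t * y⁻¹) * x⁻¹) := by group
  refine ⟨t, y * t * y⁻¹, y⁻¹ * t * y, x * (y * t * y⁻¹) * x⁻¹, ht, hi₁, hi₂, hi₃, hq₁t, hq₂t, ?_,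
    hq₁q₂, ?_, ?_, hc₁, hc₂, hc₃⟩
  · intro h
    apply hq₁t
    have : y * t * y⁻¹ = x⁻¹ * (x * (y * t * y⁻¹) * x⁻¹) * x := by group
    rw [this, h]
    calc x⁻¹ * t * x = x⁻¹ * (t * x) := by group
      _ = x⁻¹ * (x * t) := by rw [htx]
      _ = t := by group
  · intro h
    apply hq₁nc
    apply c.cent_eq P hx hx1
    calc (y * t * y⁻¹) * x = (x * (y * t * y⁻¹) * x⁻¹) * x := by rw [← h]
      _ = x * (y * t * y⁻¹) := by group
  · intro h
    apply hq₁q₂
    have hw1 : (y * t * y⁻¹)⁻¹ * x * (y * t * y⁻¹) * x⁻¹ ∈ (P : Subgroup G) := by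
      have h5 : (y * t * y⁻¹)⁻¹ ∈ normalizer ((P : Subgroup G) : Set G) := inv_mem (hQ.le hq₁Q)
      have h6 := (mem_normalizer_iff.mp h5 x).mp hx
      rw [inv_inv] at h6
      exact mul_mem h6 (inv_mem hx)
    have hw2 : (y * t * y⁻¹)⁻¹ * x * (y * t * y⁻¹) * x⁻¹ ∈ Q := by
      have e : (y * t * y⁻¹)⁻¹ * x * (y * t * y⁻¹) * x⁻¹ =
          (y * t * y⁻¹)⁻¹ * (x * (y * t * y⁻¹) * x⁻¹) := by group
      rw [e, ← h]
      exact mul_mem (inv_mem hq₁Q) hq₂Q
    have hw := eq_one_of_pelem_of_coprime (pelem_of_mem_pgroup P.2 hw1)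
      (coprime_orderOf_of_not_dvd_card hQ.cop hw2)
    have e : (y * t * y⁻¹)⁻¹ * x * (y * t * y⁻¹) * x⁻¹ =
        (y * t * y⁻¹)⁻¹ * (x * (y * t * y⁻¹) * x⁻¹) := by group
    rw [e, ← h] at hw
    calc y * t * y⁻¹ = (y * t * y⁻¹) * ((y * t * y⁻¹)⁻¹ * (y⁻¹ * t * y)) := by rw [hw, mul_one]
      _ = y⁻¹ * t * y := by group

/-- Uniqueness of the common neighbour of two commuting involutions. -/
theorem common_comm {a b c' : G} (ha : IsInv a) (hb : IsInv b) (hc' : IsInv c')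
    (hab : a * b = b * a) (hne : a ≠ b) (hca : c' * a = a * c') (hcb : c' * b = b * c')
    (hc'a : c' ≠ a) (hc'b : c' ≠ b) : c' = a * b := by
  have hp2 := c.p_ne_two
  obtain ⟨Pa, hPa⟩ := c.inv_cent_some hz ha
  obtain ⟨t, ht, htc, htu⟩ := c.exists_unique_inv_cent hz Pa
  have hat : a = t := htu a ha hPa
  have hbN : b ∈ normalizer ((Pa : Subgroup G) : Set G) :=
    c.cent_pprime_le Pa hPa (ha.coprime hp2) ha.1 hab.symm
  have hcN : c' ∈ normalizer ((Pa : Subgroup G) : Set G) :=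
    c.cent_pprime_le Pa hPa (ha.coprime hp2) ha.1 hca
  have hbnc : ¬ ∀ y ∈ (Pa : Subgroup G), b * y = y * b := by
    intro h; apply hne; rw [hat]; exact (htu b hb h).symm
  have hcnc : ¬ ∀ y ∈ (Pa : Subgroup G), c' * y = y * c' := by
    intro h; apply hc'a; rw [hat]; exact htu c' hc' h
  have hib := c.inv_inverts' hb Pa hbN hbnc
  have hic := c.inv_inverts' hc' Pa hcN hcnc
  have hw1 : b * c' ≠ 1 := by
    intro h
    apply hc'b
    have : c' = b⁻¹ := eq_inv_of_mul_eq_one_right h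
    rw [this, hb.inv_eq]
  have hw2 : b * c' * (b * c') = 1 := by
    calc b * c' * (b * c') = b * (c' * b) * c' := by group
      _ = b * (b * c') * c' := by rw [hcb]
      _ = (b * b) * (c' * c') := by group
      _ = 1 := by rw [hb.2, hc'.2, one_mul]
  have hwc : ∀ x ∈ (Pa : Subgroup G), (b * c') * x = x * (b * c') := by
    intro x hx
    have h1 : (b * c') * x * (b * c')⁻¹ = b * (c' * x * c'⁻¹) * b⁻¹ := by group
    rw [hic x hx] at h1
    have h2 := hib x⁻¹ (inv_mem hx)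
    rw [h2, inv_inv] at h1
    calc (b * c') * x = ((b * c') * x * (b * c')⁻¹) * (b * c') := by group
      _ = x * (b * c') := by rw [h1]
  have hwt : b * c' = t := htu _ ⟨hw1, hw2⟩ hwc
  rw [hat]
  calc c' = b⁻¹ * (b * c') := by group
    _ = b * t := by rw [hwt, hb.inv_eq]
    _ = t * b := by rw [← hat, hab]

/-- Two non-commuting involutions have exactly one common neighbour. -/
theorem common_noncomm {a b : G} (ha : IsInv a) (hb : IsInv b) (hab : a * b ≠ b * a) :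
    ∃ t, IsInv t ∧ t * a = a * t ∧ t * b = b * t ∧
      ∀ c', IsInv c' → c' * a = a * c' → c' * b = b * c' → c' = t := by
  have hp : p.Prime := Fact.out
  have hp2 := c.p_ne_two
  have hud := ha.conj_mul_left hb
  have hvd := ha.conj_mul_right hb
  obtain ⟨x, hx, e, he, hxe, hxp, heo⟩ := exists_parts hp (a * b)
  obtain ⟨j, hj⟩ := mem_zpowers_iff.mp he
  obtain ⟨i, hi⟩ := mem_zpowers_iff.mp hx
  have hae : a * e * a⁻¹ = e⁻¹ := by
    rw [← hj, ← conj_zpow, hud, inv_zpow]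
  have hax : a * x * a⁻¹ = x⁻¹ := by
    rw [← hi, ← conj_zpow, hud, inv_zpow]
  have hbx : b * x * b⁻¹ = x⁻¹ := by
    rw [← hi, ← conj_zpow, hvd, inv_zpow]
  have hB : zpowers a ≤ normalizer ((zpowers e : Subgroup G) : Set G) := by
    rw [zpowers_le]; exact mem_normalizer_zpowers_of_inverts hae
  have hce : ¬ p ∣ Nat.card (zpowers e) := by
    rw [Nat.card_zpowers]
    intro h
    have h1 := Nat.dvd_gcd h dvd_rfl
    have h2 : Nat.gcd (orderOf e) p = 1 := heo
    rw [h2] at h1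
    exact hp.one_lt.ne' (Nat.dvd_one.mp h1)
  have hca : ¬ p ∣ Nat.card (zpowers a) := by
    rw [Nat.card_zpowers, ha.orderOf_eq]
    intro h
    exact hp2 ((Nat.prime_dvd_prime_iff_eq hp Nat.prime_two).mp h)
  have hcard := not_dvd_card_mulSub hB hce hca
  have haec : a * e = e * a :=
    c.ab _ hcard a (right_le_mulSub hB (mem_zpowers a)) e (left_le_mulSub hB (mem_zpowers e))
  have hee : e⁻¹ = e := by
    rw [← hae]
    calc a * e * a⁻¹ = e * a * a⁻¹ := by rw [haec]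
      _ = e := by group
  have hx1 : x ≠ 1 := by
    intro h
    apply hab
    rw [h, one_mul] at hxe
    have h1 : (a * b)⁻¹ = a * b := by rw [hxe]; exact hee
    rw [mul_inv_rev, ha.inv_eq, hb.inv_eq] at h1
    exact h1.symm
  obtain ⟨P', hxP'⟩ := exists_sylow_mem (p := p) hxp
  have haN : a ∈ normalizer ((P' : Subgroup G) : Set G) := by
    apply c.mem_normalizer_of_conj_mem P' hxP' hx1
    rw [hax]; exact inv_mem hxP'
  have hbN : b ∈ normalizer ((P' : Subgroup G) : Set G) := by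
    apply c.mem_normalizer_of_conj_mem P' hxP' hx1
    rw [hbx]; exact inv_mem hxP'
  obtain ⟨t, ht, htc, htu⟩ := c.exists_unique_inv_cent hz P'
  refine ⟨t, ht, c.inv_cent_central ht htc haN, c.inv_cent_central ht htc hbN, ?_⟩
  intro c' hc' hca' hcb'
  apply htu c' hc'
  apply c.cent_eq P' hxP' hx1
  have h1 : Commute c' (a * b) := by
    have h2 : Commute c' a := hca'
    have h3 : Commute c' b := hcb'
    exact h2.mul_right h3
  rw [← hi]
  exact (h1.zpow_right i).eq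

end Ctx

end Cfsg.Agent.Lib.Helper4.Cyc
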