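import Mathlib

/-!
# A regular friendship graph of degree at least three does not exist
-/

set_option autoImplicit false

namespace Cfsg.Agent.Lib.Helper4.Cyc

open Matrix

/-- There is no regular graph of degree `k ≥ 3` in which any two distinct vertices have exactly
one common neighbour. -/
theorem friendship_regular_false {V : Type*} [Fintype V] [DecidableEq V] [Nonempty V]
    (adj : V → V → Prop) [DecidableRel adj] (hirr : ∀ a, ¬ adj a a)
    (hsymm : ∀ a b, adj a b → adj b a) (k : ℕ) (hk : 3 ≤ k)
    (hdeg : ∀ a, (Finset.univ.filter (fun c => adj a c)).card = k)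
    (hcommon : ∀ a b, a ≠ b → (Finset.univ.filter (fun c => adj a c ∧ adj c b)).card = 1) :
    False := by
  obtain ⟨q, hq, hqk⟩ := Nat.exists_prime_and_dvd (n := k - 1) (by omega)
  haveI : Fact q.Prime := ⟨hq⟩
  have hk1 : (k : ZMod q) = 1 := by
    have h1 : ((k - 1 : ℕ) : ZMod q) = 0 := (ZMod.natCast_eq_zero_iff _ _).mpr hqk
    have h2 : k = (k - 1) + 1 := by omega
    rw [h2, Nat.cast_add, h1, zero_add, Nat.cast_one]
  set A : Matrix V V (ZMod q) := Matrix.of fun a b => if adj a b then 1 else 0 with hA
  set J : Matrix V V (ZMod q) := Matrix.of fun _ _ => 1 with hJ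
  have hAA : A * A = J := by
    ext a b
    rw [Matrix.mul_apply]
    have h1 : ∀ c, A a c * A c b = if (adj a c ∧ adj c b) then (1 : ZMod q) else 0 := by
      intro c
      simp only [hA, Matrix.of_apply]
      by_cases h1 : adj a c <;> by_cases h2 : adj c b <;> simp [h1, h2]
    rw [Finset.sum_congr rfl (fun c _ => h1 c), Finset.sum_boole]
    simp only [hJ, Matrix.of_apply]
    by_cases hab : a = b
    · subst hab
      have h2 : (Finset.univ.filter (fun c => adj a c ∧ adj c a)) =
          (Finset.univ.filter (fun c => adj a c)) := by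
        ext c
        simp only [Finset.mem_filter, Finset.mem_univ, true_and]
        exact ⟨fun h => h.1, fun h => ⟨h, hsymm _ _ h⟩⟩
      rw [h2, hdeg a, hk1]
    · rw [hcommon a b hab, Nat.cast_one]
  have hAJ : A * J = J := by
    ext a b
    rw [Matrix.mul_apply]
    have h1 : ∀ c, A a c * J c b = if adj a c then (1 : ZMod q) else 0 := by
      intro c
      simp only [hA, hJ, Matrix.of_apply, mul_one]
    rw [Finset.sum_congr rfl (fun c _ => h1 c), Finset.sum_boole, hdeg a, hk1]
    simp only [hJ, Matrix.of_apply]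
  have hpow : ∀ n : ℕ, A ^ (n + 2) = J := by
    intro n
    induction n with
    | zero => rw [zero_add, pow_two, hAA]
    | succ n ih => rw [show n + 1 + 2 = (n + 2) + 1 by ring, pow_succ', ih, hAJ]
  have hAq : A ^ q = J := by
    obtain ⟨m, hm⟩ : ∃ m : ℕ, q = m + 2 := ⟨q - 2, by have := hq.two_le; omega⟩
    have h3 : A ^ q = A ^ (m + 2) := congrArg (fun n => A ^ n) hm
    rw [h3, hpow]
  have htrA : Matrix.trace A = 0 := by
    rw [Matrix.trace]
    apply Finset.sum_eq_zero
    intro a _
    simp only [Matrix.diag_apply, hA, Matrix.of_apply, if_neg (hirr a)]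
  have htrJ : Matrix.trace J = (Fintype.card V : ZMod q) := by
    rw [Matrix.trace]
    simp only [Matrix.diag_apply, hJ, Matrix.of_apply, Finset.sum_const, Finset.card_univ,
      nsmul_eq_mul, mul_one]
  have h0 : (Fintype.card V : ZMod q) = 0 := by
    have := ZMod.trace_pow_card A
    rw [hAq, htrJ, htrA, zero_pow hq.ne_zero] at this
    exact this
  have hJJ : J * J = J := by
    calc J * J = (A * A) * J := by rw [hAA]
      _ = A * (A * J) := by rw [Matrix.mul_assoc]
      _ = J := by rw [hAJ, hAJ]
  obtain ⟨a⟩ : Nonempty V := inferInstance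
  have h1 : (J * J) a a = (Fintype.card V : ZMod q) := by
    rw [Matrix.mul_apply]
    simp only [hJ, Matrix.of_apply, mul_one, Finset.sum_const, Finset.card_univ, nsmul_eq_mul]
  rw [hJJ, h0] at h1
  simp only [hJ, Matrix.of_apply] at h1
  exact one_ne_zero h1

end Cfsg.Agent.Lib.Helper4.Cyc
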