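import Mathlib
import Cfsg.Agent.Lib.Helper4.Cyc3

/-!
# The hypotheses pass to subgroups and to quotients by normal `p'`-subgroups
-/

set_option autoImplicit false

namespace Cfsg.Agent.Lib.Helper4.Cyc

open Subgroup

universe u

variable {G : Type u} [Group G]

/-- The hypotheses of the theorem. -/
def Good (p : ℕ) (G : Type u) [Group G] : Prop :=
  (∀ P : Sylow p G, IsCyclic (P : Subgroup G)) ∧
  (∀ H : Subgroup G, ¬ p ∣ Nat.card H → ∀ a ∈ H, ∀ b ∈ H, a * b = b * a)

theorem isCyclic_of_le {H K : Subgroup G} (hK : IsCyclic K) (h : H ≤ K) : IsCyclic H := by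
  haveI := hK
  haveI : IsCyclic (H.subgroupOf K) := inferInstance
  exact isCyclic_of_surjective (subgroupOfEquivOfLe h).toMonoidHom (subgroupOfEquivOfLe h).surjective

theorem Good.subgroup {p : ℕ} (h : Good p G) (X : Subgroup G) : Good p X := by
  constructor
  · intro S
    obtain ⟨P, hP⟩ := (S.2.map X.subtype).exists_le_sylow
    have h1 : IsCyclic ((S : Subgroup X).map X.subtype) := isCyclic_of_le (h.1 P) hP
    haveI := h1
    let e := (S : Subgroup X).equivMapOfInjective X.subtype X.subtype_injective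
    exact isCyclic_of_surjective e.symm.toMonoidHom e.symm.surjective
  · intro H hH a ha b hb
    have h1 : Nat.card (H.map X.subtype) = Nat.card H :=
      Nat.card_congr (H.equivMapOfInjective X.subtype X.subtype_injective).toEquiv.symm
    have h2 := h.2 (H.map X.subtype) (by rw [h1]; exact hH) a.1 (mem_map_of_mem _ ha) b.1
      (mem_map_of_mem _ hb)
    exact Subtype.ext h2

theorem Good.quotient [Finite G] {p : ℕ} [Fact p.Prime] (h : Good p G) (K : Subgroup G)
    [K.Normal] (hK : ¬ p ∣ Nat.card K) : Good p (G ⧸ K) := by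
  have hp : p.Prime := Fact.out
  have hf : Function.Surjective (QuotientGroup.mk' K) := QuotientGroup.mk'_surjective K
  constructor
  · intro S
    obtain ⟨P, hP⟩ := Sylow.mapSurjective_surjective hf p S
    have h1 : (S : Subgroup (G ⧸ K)) = (P : Subgroup G).map (QuotientGroup.mk' K) := by
      rw [← hP]; rfl
    rw [h1]
    haveI := h.1 P
    exact isCyclic_of_surjective ((QuotientGroup.mk' K).subgroupMap (P : Subgroup G))
      ((QuotientGroup.mk' K).subgroupMap_surjective _)
  · intro H hH a ha b hb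
    have hH' : ¬ p ∣ Nat.card (H.comap (QuotientGroup.mk' K)) := by
      apply not_dvd_card_of_forall
      intro x hx
      have hx' : (QuotientGroup.mk' K x) ∈ H := hx
      have hm : (orderOf (QuotientGroup.mk' K x)).Coprime p :=
        coprime_orderOf_of_not_dvd_card hH hx'
      have h1 : x ^ orderOf (QuotientGroup.mk' K x) ∈ K := by
        rw [← QuotientGroup.eq_one_iff]
        show (QuotientGroup.mk' K) (x ^ orderOf (QuotientGroup.mk' K x)) = 1
        rw [map_pow, pow_orderOf_eq_one]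
      have h2 : (x ^ orderOf (QuotientGroup.mk' K x)) ^ Nat.card K = 1 := by
        have h3 : (⟨_, h1⟩ : K) ^ Nat.card K = 1 := pow_card_eq_one'
        have h4 := congrArg Subtype.val h3
        rw [Subgroup.coe_pow, Subgroup.coe_one] at h4
        exact h4
      have h3 : orderOf x ∣ orderOf (QuotientGroup.mk' K x) * Nat.card K :=
        orderOf_dvd_of_pow_eq_one (by rw [pow_mul]; exact h2)
      have hKc : (Nat.card K).Coprime p := by
        rw [Nat.coprime_comm, hp.coprime_iff_not_dvd]; exact hK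
      exact Nat.Coprime.coprime_dvd_left h3 (Nat.Coprime.mul_left hm hKc)
    obtain ⟨a', rfl⟩ := hf a
    obtain ⟨b', rfl⟩ := hf b
    have := h.2 (H.comap (QuotientGroup.mk' K)) hH' a' ha b' hb
    rw [← map_mul, ← map_mul, this]

/-- Lifting the conclusion from `G ⧸ K`. -/
theorem lift_con [Finite G] {p : ℕ} [Fact p.Prime] (hG : Good p G) (K : Subgroup G)
    [K.Normal] (hK : ¬ p ∣ Nat.card K) (P : Sylow p G) (h : Con p (G ⧸ K)) :
    Cfsg.HasNormalPComplement p G ∨
      ∀ g : G, ∀ x ∈ (P : Subgroup G), ∃ x' ∈ (P : Subgroup G), ∃ k ∈ K,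
        g * x * g⁻¹ = x' * k := by
  have hf : Function.Surjective (QuotientGroup.mk' K) := QuotientGroup.mk'_surjective K
  have hPab : ∀ a ∈ (P : Subgroup G), ∀ b ∈ (P : Subgroup G), a * b = b * a :=
    fun a ha b hb => comm_of_cyclic (hG.1 P) ha hb
  have hPK : ∀ x ∈ (P : Subgroup G), x ∈ K → x = 1 := fun x hx hxK =>
    eq_one_of_pelem_of_coprime (pelem_of_mem_pgroup P.2 hx) (coprime_orderOf_of_not_dvd_card hK hxK)
  have hPbar : ((P.mapSurjective hf : Sylow p (G ⧸ K)) : Subgroup (G ⧸ K)) =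
      (P : Subgroup G).map (QuotientGroup.mk' K) := rfl
  rcases h with ⟨S, L, hLn, hcomp⟩ | ⟨S, hS⟩
  · left
    apply Cfsg.Agent.Lib.Helper1.hasNormalPComplement_of_normalizer_le_centralizer P
    intro n hn
    rw [mem_centralizer_iff]
    intro x hx
    have hcomp' := Cfsg.Agent.Lib.Helper1.isComplement'_sylow_of_isComplement'_sylow
      (P.mapSurjective hf) S L hcomp
    haveI := hLn
    obtain ⟨h1, h2, h3⟩ := Cfsg.Agent.Lib.Helper1.normalizer_sylow_splits_of_normal_complement
      (P.mapSurjective hf) L hcomp'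
    have hPC : ((P.mapSurjective hf : Sylow p (G ⧸ K)) : Subgroup (G ⧸ K)) ≤
        centralizer (((P.mapSurjective hf : Sylow p (G ⧸ K)) : Subgroup (G ⧸ K)) : Set (G ⧸ K)) := by
      intro y hy
      rw [mem_centralizer_iff]
      intro w hw
      rw [SetLike.mem_coe, hPbar] at hw
      rw [hPbar] at hy
      obtain ⟨y', hy', rfl⟩ := mem_map.mp hy
      obtain ⟨w', hw', rfl⟩ := mem_map.mp hw
      rw [← map_mul, ← map_mul, hPab w' hw' y' hy']
    have hNC : normalizer (((P.mapSurjective hf : Sylow p (G ⧸ K)) : Subgroup (G ⧸ K)) :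
        Set (G ⧸ K)) ≤
        centralizer (((P.mapSurjective hf : Sylow p (G ⧸ K)) : Subgroup (G ⧸ K)) : Set (G ⧸ K)) := by
      have h3' : L ⊓ normalizer (((P.mapSurjective hf : Sylow p (G ⧸ K)) : Subgroup (G ⧸ K)) :
          Set (G ⧸ K)) ⊔ ((P.mapSurjective hf : Sylow p (G ⧸ K)) : Subgroup (G ⧸ K)) =
          normalizer (((P.mapSurjective hf : Sylow p (G ⧸ K)) : Subgroup (G ⧸ K)) :
          Set (G ⧸ K)) := h3
      rw [← h3']
      exact sup_le h1 hPC
    have hnbar : (QuotientGroup.mk' K) n ∈ normalizer (((P.mapSurjective hf : Sylow p (G ⧸ K)) :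
        Subgroup (G ⧸ K)) : Set (G ⧸ K)) := by
      rw [hPbar]
      exact le_normalizer_map (QuotientGroup.mk' K) (mem_map_of_mem _ hn)
    have hcomm := mem_centralizer_iff.mp (hNC hnbar) ((QuotientGroup.mk' K) x) (by
      rw [SetLike.mem_coe, hPbar]; exact mem_map_of_mem _ hx)
    have hw1 : n * x * n⁻¹ * x⁻¹ ∈ K := by
      rw [← QuotientGroup.eq_one_iff]
      show (QuotientGroup.mk' K) (n * x * n⁻¹ * x⁻¹) = 1
      rw [map_mul, map_mul, map_mul, map_inv, map_inv, ← hcomm]
      group
    have hw2 : n * x * n⁻¹ * x⁻¹ ∈ (P : Subgroup G) :=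
      mul_mem ((mem_normalizer_iff.mp hn x).mp hx) (inv_mem hx)
    have hw := hPK _ hw2 hw1
    calc x * n = (n * x * n⁻¹ * x⁻¹)⁻¹ * (n * x) := by group
      _ = n * x := by rw [hw, inv_one, one_mul]
  · right
    have hSP : S = P.mapSurjective hf := by
      obtain ⟨g, hg⟩ := MulAction.exists_smul_eq (G ⧸ K) S (P.mapSurjective hf)
      rw [← hg]
      haveI := hS
      exact Sylow.smul_eq_of_normal.symm
    rw [hSP, hPbar] at hS
    intro g x hx
    have h1 : (QuotientGroup.mk' K) (g * x * g⁻¹) ∈ (P : Subgroup G).map (QuotientGroup.mk' K) := by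
      rw [map_mul, map_mul, map_inv]
      exact hS.conj_mem _ (mem_map_of_mem _ hx) _
    obtain ⟨x', hx', hxx⟩ := mem_map.mp h1
    have h2 : x'⁻¹ * (g * x * g⁻¹) ∈ K := by
      rw [← QuotientGroup.eq]
      exact hxx
    refine ⟨x', hx', x'⁻¹ * (g * x * g⁻¹), h2, ?_⟩
    group

end Cfsg.Agent.Lib.Helper4.Cyc
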