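import Mathlib
import Cfsg.Agent.Lib.Helper4.Cyc18
import Cfsg.Agent.Lib.Helper4.Cyc12

/-!
# Reduction steps: normal `p'`-subgroups and normal `p`-parts
-/

set_option autoImplicit false

namespace Cfsg.Agent.Lib.Helper4.Cyc

open Subgroup

universe u

variable {G : Type u} [Group G]

theorem normal_pprime_part {p : ℕ} {M K : Subgroup G} [hM : M.Normal] (hKM : K ≤ M)
    (hel : ∀ x ∈ M, x ∈ K ↔ (orderOf x).Coprime p) : K.Normal := by
  constructor
  intro k hk g
  have h1 : g * k * g⁻¹ ∈ M := hM.conj_mem k (hKM hk) g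
  rw [hel _ h1, orderOf_conj_eq]
  exact (hel k (hKM hk)).mp hk

theorem normal_p_part {p : ℕ} {M T : Subgroup G} [hM : M.Normal] (hTM : T ≤ M)
    (hT : IsPGroup p T) (hel : ∀ x ∈ M, (∃ k : ℕ, x ^ p ^ k = 1) → x ∈ T) : T.Normal := by
  constructor
  intro t ht g
  have h1 : g * t * g⁻¹ ∈ M := hM.conj_mem t (hTM ht) g
  apply hel _ h1
  obtain ⟨k, hk⟩ := pelem_of_mem_pgroup hT ht
  exact ⟨k, by rw [conj_pow, hk]; group⟩

theorem isPGroup_of_no_pprime [Finite G] {p : ℕ} [Fact p.Prime] {M : Subgroup G}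
    (h : ∀ x ∈ M, (orderOf x).Coprime p → x = 1) : IsPGroup p M := by
  have hp : p.Prime := Fact.out
  rintro ⟨x, hx⟩
  obtain ⟨a, ha, b, hb, hab, hap, hbo⟩ := exists_parts hp x
  have hzx : zpowers x ≤ M := by rw [zpowers_le]; exact hx
  have hb1 := h b (hzx hb) hbo
  rw [hb1, mul_one] at hab
  obtain ⟨k, hk⟩ := hap
  refine ⟨k, Subtype.ext ?_⟩
  show x ^ p ^ k = 1
  rw [hab]
  exact hk

theorem not_dvd_card_of_no_pelem [Finite G] {p : ℕ} [Fact p.Prime] {M : Subgroup G}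
    (h : ∀ x ∈ M, (∃ k : ℕ, x ^ p ^ k = 1) → x = 1) : ¬ p ∣ Nat.card M := by
  have hp : p.Prime := Fact.out
  apply not_dvd_card_of_forall
  intro x hx
  obtain ⟨a, ha, b, hb, hab, hap, hbo⟩ := exists_parts hp x
  have hzx : zpowers x ≤ M := by rw [zpowers_le]; exact hx
  have ha1 := h a (hzx ha) hap
  rw [hab, ha1, one_mul]; exact hbo

/-- In the absence of normal `p'`-subgroups, a normal subgroup satisfying the conclusion has a
normal Sylow `p`-subgroup which is normal in `G`. -/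
theorem exists_normal_ppart [Finite G] {p : ℕ} [Fact p.Prime]
    (hA : ∀ K : Subgroup G, K.Normal → ¬ p ∣ Nat.card K → K = ⊥) (M : Subgroup G) [hMn : M.Normal]
    (hM : ConS p M) :
    ∃ T : Subgroup G, T.Normal ∧ IsPGroup p T ∧ T ≤ M ∧
      ∀ x ∈ M, (∃ k : ℕ, x ^ p ^ k = 1) → x ∈ T := by
  rcases hM with ⟨K, T, hKX, hTX, hXK, hT, hel, hcard⟩ | ⟨T, hTX, hXT, hT, hel⟩
  · have hKn : K.Normal := normal_pprime_part hKX hel
    have hKcop : ¬ p ∣ Nat.card K := not_dvd_card_of_forall (fun x hx => (hel x (hKX hx)).mp hx)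
    have hKbot := hA K hKn hKcop
    have hMp : IsPGroup p M := by
      apply isPGroup_of_no_pprime
      intro x hx hxo
      have := (hel x hx).mpr hxo
      rw [hKbot, mem_bot] at this
      exact this
    exact ⟨M, hMn, hMp, le_refl _, fun x hx _ => hx⟩
  · exact ⟨T, normal_p_part hTX hT hel, hT, hTX, hel⟩

/-- Step A: a normal `p'`-subgroup with a good quotient. -/
theorem stepA [Finite G] {p : ℕ} [Fact p.Prime] (hG : Good p G) (K : Subgroup G)
    [hKn : K.Normal] (hK : ¬ p ∣ Nat.card K) (h : Con p (G ⧸ K)) : Con p G := by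
  have hp : p.Prime := Fact.out
  obtain ⟨P⟩ : Nonempty (Sylow p G) := inferInstance
  have hPab : ∀ a ∈ (P : Subgroup G), ∀ b ∈ (P : Subgroup G), a * b = b * a :=
    fun a ha b hb => comm_of_cyclic (hG.1 P) ha hb
  have hPK : ∀ x ∈ (P : Subgroup G), x ∈ K → x = 1 := fun x hx hxK =>
    eq_one_of_pelem_of_coprime (pelem_of_mem_pgroup P.2 hx) (coprime_orderOf_of_not_dvd_card hK hxK)
  rcases lift_con hG K hK P h with hnpc | hconj
  · exact Or.inl hnpc
  obtain ⟨H₀, hH₀⟩ := exists_complPkg P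
  by_cases hcent : ∀ h ∈ H₀, ∀ x ∈ (P : Subgroup G), h * x = x * h
  · left
    apply Cfsg.Agent.Lib.Helper1.hasNormalPComplement_of_normalizer_le_centralizer P
    intro n hn
    rw [mem_centralizer_iff]
    intro y hy
    obtain ⟨x, hx, q, hq, rfl⟩ := hH₀.prod n hn
    have h1 := hcent q hq y hy
    have h2 := hPab x hx y hy
    calc y * (x * q) = (y * x) * q := by group
      _ = (x * y) * q := by rw [h2]
      _ = x * (y * q) := by group
      _ = x * (q * y) := by rw [h1]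
      _ = x * q * y := by group
  · push Not at hcent
    obtain ⟨h, hh, x₁, hx₁, hhx₁⟩ := hcent
    right
    have hhN := hH₀.le hh
    have hho := coprime_orderOf_of_not_dvd_card hH₀.cop hh
    have hfree : ∀ x ∈ (P : Subgroup G), h * x = x * h → x = 1 := by
      intro x hx hcomm
      by_contra hx1
      exact hhx₁ (centralizes_of_cyclic (hG.1 P) P.2 hhN hho hx hx1 hcomm x₁ hx₁)
    have hconjP : ∀ x ∈ (P : Subgroup G), h * x * h⁻¹ ∈ (P : Subgroup G) :=
      fun x hx => (mem_normalizer_iff.mp hhN x).mp hx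
    -- the commutator map is surjective on `P`
    have hsurj : ∀ y ∈ (P : Subgroup G), ∃ x ∈ (P : Subgroup G), y = h * x * h⁻¹ * x⁻¹ := by
      let φ : ↥(P : Subgroup G) → ↥(P : Subgroup G) :=
        fun x => ⟨h * x.1 * h⁻¹ * x.1⁻¹, mul_mem (hconjP x.1 x.2) (inv_mem x.2)⟩
      have hinj : Function.Injective φ := by
        intro x x' hxx
        have e : h * x.1 * h⁻¹ * x.1⁻¹ = h * x'.1 * h⁻¹ * x'.1⁻¹ := congrArg Subtype.val hxx
        have h1 : (h * x'.1 * h⁻¹)⁻¹ * (h * x.1 * h⁻¹) = x'.1⁻¹ * x.1 := by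
          calc (h * x'.1 * h⁻¹)⁻¹ * (h * x.1 * h⁻¹)
              = (h * x'.1 * h⁻¹)⁻¹ * (h * x.1 * h⁻¹ * x.1⁻¹) * x.1 := by group
            _ = (h * x'.1 * h⁻¹)⁻¹ * (h * x'.1 * h⁻¹ * x'.1⁻¹) * x.1 := by rw [e]
            _ = x'.1⁻¹ * x.1 := by group
        have h2 : h * (x'.1⁻¹ * x.1) * h⁻¹ = x'.1⁻¹ * x.1 := by
          calc h * (x'.1⁻¹ * x.1) * h⁻¹ = (h * x'.1 * h⁻¹)⁻¹ * (h * x.1 * h⁻¹) := by group
            _ = x'.1⁻¹ * x.1 := h1
        have h3 : h * (x'.1⁻¹ * x.1) = (x'.1⁻¹ * x.1) * h := by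
          calc h * (x'.1⁻¹ * x.1) = (h * (x'.1⁻¹ * x.1) * h⁻¹) * h := by group
            _ = (x'.1⁻¹ * x.1) * h := by rw [h2]
        have h4 := hfree _ (mul_mem (inv_mem x'.2) x.2) h3
        apply Subtype.ext
        calc x.1 = x'.1 * (x'.1⁻¹ * x.1) := by group
          _ = x'.1 := by rw [h4, mul_one]
      have hsur : Function.Surjective φ := Finite.injective_iff_surjective.mp hinj
      intro y hy
      obtain ⟨x, hx⟩ := hsur ⟨y, hy⟩
      exact ⟨x.1, x.2, (congrArg Subtype.val hx).symm⟩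
    -- `K H₀` is abelian
    have hB : H₀ ≤ normalizer (K : Set G) := by
      rw [normalizer_eq_top_iff.mpr hKn]; exact le_top
    have hKH := not_dvd_card_mulSub hB hK hH₀.cop
    have hKh : ∀ k ∈ K, h * k = k * h := fun k hk =>
      hG.2 _ hKH h (right_le_mulSub hB hh) k (left_le_mulSub hB hk)
    have hKP : ∀ k ∈ K, ∀ y ∈ (P : Subgroup G), k * y = y * k := by
      intro k hk y hy
      obtain ⟨x, hx, rfl⟩ := hsurj y hy
      have hk' : x⁻¹ * k * x ∈ K := by
        have := hKn.conj_mem k hk x⁻¹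
        rwa [inv_inv] at this
      have c1 : Commute k h := (hKh k hk).symm
      have c2 : Commute (x⁻¹ * k * x) h⁻¹ := by
        have : Commute (x⁻¹ * k * x) h := (hKh _ hk').symm
        exact this.inv_right
      calc k * (h * x * h⁻¹ * x⁻¹) = (k * h) * x * h⁻¹ * x⁻¹ := by group
        _ = (h * k) * x * h⁻¹ * x⁻¹ := by rw [c1.eq]
        _ = h * x * ((x⁻¹ * k * x) * h⁻¹) * x⁻¹ := by group
        _ = h * x * (h⁻¹ * (x⁻¹ * k * x)) * x⁻¹ := by rw [c2.eq]
        _ = (h * x * h⁻¹ * x⁻¹) * k := by group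
    refine ⟨P, ⟨?_⟩⟩
    intro x hx g
    obtain ⟨x', hx', k, hk, hgx⟩ := hconj g x hx
    obtain ⟨j, hj⟩ := pelem_of_mem_pgroup P.2 hx
    have h1 : (g * x * g⁻¹) ^ p ^ j = 1 := by rw [conj_pow, hj]; group
    have hc : Commute x' k := (hKP k hk x' hx').symm
    rw [hgx, hc.mul_pow] at h1
    have h2 : k ^ p ^ j = (x' ^ p ^ j)⁻¹ := by
      have := eq_inv_of_mul_eq_one_right h1
      exact this
    have h3 : k ^ p ^ j = 1 := by
      apply hPK
      · rw [h2]; exact inv_mem (pow_mem hx' _)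
      · exact pow_mem hk _
    have h4 : k = 1 := eq_one_of_pelem_of_coprime ⟨j, h3⟩ (coprime_orderOf_of_not_dvd_card hK hk)
    rw [hgx, h4, mul_one]; exact hx'

end Cfsg.Agent.Lib.Helper4.Cyc
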