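import Mathlib
import Cfsg.Agent.S0182
import Cfsg.Agent.Lib.Helper4.Cyc11
import Cfsg.Agent.Lib.Helper4.Cyc17
import Cfsg.Agent.Lib.Helper4.Cyc19

/-!
# Cyclic Sylow `p`-subgroup and abelian `p'`-subgroups: normal `p`-complement or normal Sylow
-/

set_option autoImplicit false

namespace Cfsg.Agent.Lib.Helper4.Cyc

open Subgroup

universe u

/-- The minimal configuration is impossible. -/
theorem Ctx.false {G : Type u} [Group G] [Finite G] {p : ℕ} [Fact p.Prime] (c : Ctx G p) :
    False := by
  by_cases hz : ZTriv G p
  · rcases Nat.even_or_odd (Nat.card G) with he | ho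
    · exact c.not_even hz he.two_dvd
    · have hsol := Cfsg.Agent.S0182.result ho (c.ca hz)
      haveI := c.simple
      exact c.not_top_abelian (IsSimpleGroup.comm_iff_isSolvable.mpr hsol)
  · exact c.not_nonZTriv hz

theorem main_aux {p : ℕ} [Fact p.Prime] : ∀ n : ℕ, ∀ (G : Type u) [Group G] [Finite G],
    Nat.card G = n → Good p G → Con p G := by
  intro n
  induction n using Nat.strong_induction_on with
  | _ n ih =>
    intro G _ _ hn hG
    by_contra hcon
    have hp : p.Prime := Fact.out
    obtain ⟨P⟩ : Nonempty (Sylow p G) := inferInstance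
    have hnn : ∀ P' : Sylow p G, ¬ (P' : Subgroup G).Normal := fun P' h => hcon (Or.inr ⟨P', h⟩)
    have hIHsub : ∀ X : Subgroup G, X ≠ ⊤ → ConS p X := by
      intro X hX
      have hlt : Nat.card X < n := by
        rw [← hn]
        exact lt_of_le_of_ne (Subgroup.card_le_card_group X)
          (fun h => hX ((Subgroup.card_eq_iff_eq_top X).mp h))
      exact conS_of_con X (ih _ hlt X rfl (hG.subgroup X))
    have hA : ∀ K : Subgroup G, K.Normal → ¬ p ∣ Nat.card K → K = ⊥ := by
      intro K hKn hK
      by_contra hKbot
      haveI := hKn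
      have hlt : Nat.card (G ⧸ K) < n := by
        rw [← hn, ← Subgroup.index_eq_card, ← Subgroup.card_mul_index K]
        have h1 : 1 < Nat.card K := (Subgroup.one_lt_card_iff_ne_bot K).mpr hKbot
        have h2 : 0 < K.index := Nat.pos_of_ne_zero Subgroup.index_ne_zero_of_finite
        nlinarith
      exact hcon (stepA hG K hK (ih _ hlt (G ⧸ K) rfl (hG.quotient K hK)))
    have hB : ∀ T : Subgroup G, T.Normal → IsPGroup p T → T = ⊥ := by
      intro T hTn hT
      by_contra hTbot
      apply hcon
      obtain ⟨P', hTP'⟩ := hT.exists_le_sylow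
      obtain ⟨⟨t, htT⟩, ht1'⟩ := (Subgroup.ne_bot_iff_exists_ne_one).mp hTbot
      have ht1 : t ≠ 1 := by
        intro h; apply ht1'; exact Subtype.ext h
      obtain ⟨z, hzt, hzo⟩ := exists_orderOf_eq_prime_zpowers (pelem_of_mem_pgroup hT htT) ht1
      have hzT : z ∈ T := (zpowers_le.mpr htT) hzt
      have hzP' : z ∈ (P' : Subgroup G) := hTP' hzT
      have hz1 : z ≠ 1 := by
        intro h; rw [h, orderOf_one] at hzo; exact hp.one_lt.ne hzo
      have hZn : (zpowers z).Normal := by
        constructor
        intro w hw g
        obtain ⟨i, rfl⟩ := mem_zpowers_iff.mp hw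
        have h1 : g * z ^ i * g⁻¹ = (g * z * g⁻¹) ^ i := by rw [conj_zpow]
        rw [h1]
        apply zpow_mem
        have h2 : g * z * g⁻¹ ∈ (P' : Subgroup G) := hTP' (hTn.conj_mem z hzT g)
        have h3 : (g * z * g⁻¹) ^ p = 1 := by
          rw [conj_pow, ← hzo, pow_orderOf_eq_one]; group
        exact mem_zpowers_of_pow_eq_one (hG.1 P') P'.2 hzP' hz1 h2 h3
      haveI := hZn
      have hC₀n : (centralizer ((zpowers z : Subgroup G) : Set G)).Normal :=
        Subgroup.normal_centralizer
      by_cases hC₀ : centralizer ((zpowers z : Subgroup G) : Set G) = ⊤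
      · left
        apply Cfsg.Agent.Lib.Helper1.hasNormalPComplement_of_normalizer_le_centralizer P'
        intro n' hn'
        rw [mem_centralizer_iff]
        intro x hx
        have hzc : ∀ g : G, g * z = z * g := by
          intro g
          have h1 : g ∈ centralizer ((zpowers z : Subgroup G) : Set G) := by
            rw [hC₀]; exact mem_top g
          exact (mem_centralizer_iff.mp h1 z (mem_zpowers z)).symm
        obtain ⟨a, ha, b, hb, hab, hap, hbo⟩ := exists_parts hp n'
        have hzn : zpowers n' ≤ normalizer ((P' : Subgroup G) : Set G) := by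
          rw [zpowers_le]; exact hn'
        have haP := mem_sylow_of_normalizes P' (hzn ha) hap
        have hbx := centralizes_of_cyclic (hG.1 P') P'.2 (hzn hb) hbo hzP' hz1 (hzc b) x hx
        have hax := comm_of_cyclic (hG.1 P') haP hx
        rw [hab]
        calc x * (a * b) = (x * a) * b := by group
          _ = (a * x) * b := by rw [hax]
          _ = a * (x * b) := by group
          _ = a * (b * x) := by rw [hbx]
          _ = a * b * x := by group
      · right
        have hS := hIHsub _ hC₀
        obtain ⟨T', hT'n, hT'p, hT'le, hT'el⟩ := exists_normal_ppart hA _ hS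
        have hP'C : (P' : Subgroup G) ≤ centralizer ((zpowers z : Subgroup G) : Set G) := by
          intro x hx
          rw [mem_centralizer_iff]
          intro w hw
          have hzP : zpowers z ≤ (P' : Subgroup G) := by rw [zpowers_le]; exact hzP'
          exact comm_of_cyclic (hG.1 P') (hzP hw) hx
        have hP'T' : (P' : Subgroup G) ≤ T' :=
          fun x hx => hT'el x (hP'C hx) (pelem_of_mem_pgroup P'.2 hx)
        have hTP : T' = (P' : Subgroup G) := P'.3 hT'p hP'T'
        exact ⟨P', hTP ▸ hT'n⟩
    have hC : ∀ M : Subgroup G, M.Normal → M = ⊥ ∨ M = ⊤ := by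
      intro M hMn
      by_cases hMtop : M = ⊤
      · exact Or.inr hMtop
      · left
        haveI := hMn
        obtain ⟨T, hTn, hTp, hTle, hTel⟩ := exists_normal_ppart hA M (hIHsub M hMtop)
        have hTbot := hB T hTn hTp
        apply hA M hMn
        apply not_dvd_card_of_no_pelem
        intro x hx hxp
        have := hTel x hx hxp
        rw [hTbot, mem_bot] at this
        exact this
    have hnontriv : Nontrivial G := by
      by_contra h
      rw [not_nontrivial_iff_subsingleton] at h
      apply hnn P
      exact ⟨fun x hx g => by rw [Subsingleton.elim (g * x * g⁻¹) x]; exact hx⟩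
    have hnonab : ∃ a b : G, a * b ≠ b * a := by
      by_contra h
      push Not at h
      apply hnn P
      exact ⟨fun x hx g => by rw [h g x, mul_inv_cancel_right]; exact hx⟩
    have hctx : Ctx G p :=
      { simple := { exists_pair_ne := hnontriv.exists_pair_ne, eq_bot_or_eq_top_of_normal := hC }
        nonab := hnonab
        cyc := hG.1
        ab := hG.2
        con := hIHsub }
    exact hctx.false

/-- The theorem, in internal form. -/
theorem main {G : Type u} [Group G] [Finite G] {p : ℕ} [Fact p.Prime] (hG : Good p G) :
    Con p G := main_aux (Nat.card G) G rfl hG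

end Cfsg.Agent.Lib.Helper4.Cyc
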