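import Mathlib
import Cfsg.Agent.Lib.Helper4.Cyc20

/-!
# Final form of the theorem
-/

set_option autoImplicit false

namespace Cfsg.Agent.Lib.Helper4.Cyc

open Subgroup
open scoped Pointwise

universe u

theorem final {G : Type u} [Group G] [Finite G] {p : ℕ} [Fact p.Prime] (P : Sylow p G)
    (hcyc : IsCyclic P) (hab : ∀ H : Subgroup G, ¬ p ∣ Nat.card H → IsMulCommutative H) :
    Cfsg.HasNormalPComplement p G ∨ (P : Subgroup G).Normal := by
  have hgood : Good p G := by
    constructor
    · intro P'
      obtain ⟨g, hg⟩ := MulAction.exists_smul_eq G P P'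
      have h1 : (P' : Subgroup G) = MulAut.conj g • (P : Subgroup G) := by
        rw [← hg, Sylow.smul_def, Sylow.pointwise_smul_def]
      rw [h1]
      haveI : IsCyclic (P : Subgroup G) := hcyc
      exact isCyclic_of_surjective
        (Subgroup.equivSMul (MulAut.conj g) (P : Subgroup G)).toMonoidHom
        (Subgroup.equivSMul (MulAut.conj g) (P : Subgroup G)).surjective
    · intro H hH a ha b hb
      have h1 := hab H hH
      have h2 := h1.is_comm.comm (⟨a, ha⟩ : H) ⟨b, hb⟩
      exact congrArg Subtype.val h2
  rcases main hgood with h | ⟨P', hP'⟩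
  · exact Or.inl h
  · right
    obtain ⟨g, hg⟩ := MulAction.exists_smul_eq G P' P
    haveI := hP'
    have h1 : g • P' = P' := Sylow.smul_eq_of_normal
    rw [h1] at hg
    rw [← hg]
    exact hP'

end Cfsg.Agent.Lib.Helper4.Cyc
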