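import Mathlib
import Cfsg.Agent.Lib.Helper4.Cyc8
import Cfsg.Agent.Lib.Helper4.CycF

/-!
# The commuting graph of involutions cannot be a regular friendship graph of degree `≥ 3`
-/

set_option autoImplicit false

namespace Cfsg.Agent.Lib.Helper4.Cyc

universe u

variable {G : Type u} [Group G] [Finite G]

set_option maxHeartbeats 800000 in
/-- If all involutions are conjugate, some involution commutes with three others, and any two
involutions have exactly one common neighbour in the commuting graph, we have a contradiction. -/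
theorem inv_graph_false (t : G) (ht : IsInv t)
    (hconj : ∀ a : G, IsInv a → ∃ g : G, g * t * g⁻¹ = a)
    (hthree : ∃ b₁ b₂ b₃ : G, IsInv b₁ ∧ IsInv b₂ ∧ IsInv b₃ ∧ b₁ ≠ t ∧ b₂ ≠ t ∧ b₃ ≠ t ∧
      b₁ ≠ b₂ ∧ b₁ ≠ b₃ ∧ b₂ ≠ b₃ ∧ b₁ * t = t * b₁ ∧ b₂ * t = t * b₂ ∧ b₃ * t = t * b₃)
    (hcomm : ∀ a b c' : G, IsInv a → IsInv b → IsInv c' → a * b = b * a → a ≠ b →
      c' * a = a * c' → c' * b = b * c' → c' ≠ a → c' ≠ b → c' = a * b)
    (hnon : ∀ a b : G, IsInv a → IsInv b → a * b ≠ b * a → ∃ t', IsInv t' ∧ t' * a = a * t' ∧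
      t' * b = b * t' ∧ ∀ c', IsInv c' → c' * a = a * c' → c' * b = b * c' → c' = t') : False := by
  classical
  haveI : Fintype G := Fintype.ofFinite G
  haveI : Fintype {a : G // IsInv a} := Fintype.ofFinite _
  obtain ⟨b₁, b₂, b₃, hb₁, hb₂, hb₃, h1, h2, h3, h12, h13, h23, hc1, hc2, hc3⟩ := hthree
  haveI : Nonempty {a : G // IsInv a} := ⟨⟨t, ht⟩⟩
  set adj : {a : G // IsInv a} → {a : G // IsInv a} → Prop :=
    fun a b => a ≠ b ∧ a.1 * b.1 = b.1 * a.1 with hadj
  have hirr : ∀ a, ¬ adj a a := fun a h => h.1 rfl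
  have hsymm : ∀ a b, adj a b → adj b a := fun a b h => ⟨h.1.symm, h.2.symm⟩
  have hdegconj : ∀ (a : {a : G // IsInv a}) (g : G),
      (Finset.univ.filter (fun c => adj a c)).card =
        (Finset.univ.filter (fun c => adj ⟨g * a.1 * g⁻¹, a.2.conj g⟩ c)).card := by
    intro a g
    apply Finset.card_bij (fun c _ => (⟨g * c.1 * g⁻¹, c.2.conj g⟩ : {a : G // IsInv a}))
    · intro c' hc
      rw [Finset.mem_filter] at hc ⊢
      refine ⟨Finset.mem_univ _, ?_, ?_⟩
      · intro h
        apply hc.2.1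
        apply Subtype.ext
        have h5 : g * a.1 * g⁻¹ = g * c'.1 * g⁻¹ := congrArg Subtype.val h
        have h6 := mul_right_cancel h5
        exact mul_left_cancel h6
      · show g * a.1 * g⁻¹ * (g * c'.1 * g⁻¹) = g * c'.1 * g⁻¹ * (g * a.1 * g⁻¹)
        have h5 := hc.2.2
        calc g * a.1 * g⁻¹ * (g * c'.1 * g⁻¹) = g * (a.1 * c'.1) * g⁻¹ := by group
          _ = g * (c'.1 * a.1) * g⁻¹ := by rw [h5]
          _ = g * c'.1 * g⁻¹ * (g * a.1 * g⁻¹) := by group
    · intro c₁ _ c₂ _ h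
      apply Subtype.ext
      have h5 : g * c₁.1 * g⁻¹ = g * c₂.1 * g⁻¹ := congrArg Subtype.val h
      have h6 := mul_right_cancel h5
      exact mul_left_cancel h6
    · intro d hd
      rw [Finset.mem_filter] at hd
      have hdi : IsInv (g⁻¹ * d.1 * g) := by
        have := d.2.conj g⁻¹
        rwa [inv_inv] at this
      refine ⟨⟨g⁻¹ * d.1 * g, hdi⟩, ?_, ?_⟩
      · rw [Finset.mem_filter]
        refine ⟨Finset.mem_univ _, ?_, ?_⟩
        · intro h
          apply hd.2.1
          apply Subtype.ext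
          show g * a.1 * g⁻¹ = d.1
          have h5 : a.1 = g⁻¹ * d.1 * g := congrArg Subtype.val h
          rw [h5]; group
        · show a.1 * (g⁻¹ * d.1 * g) = (g⁻¹ * d.1 * g) * a.1
          have h5 : g * a.1 * g⁻¹ * d.1 = d.1 * (g * a.1 * g⁻¹) := hd.2.2
          calc a.1 * (g⁻¹ * d.1 * g) = g⁻¹ * ((g * a.1 * g⁻¹) * d.1) * g := by group
            _ = g⁻¹ * (d.1 * (g * a.1 * g⁻¹)) * g := by rw [h5]
            _ = (g⁻¹ * d.1 * g) * a.1 := by group
      · apply Subtype.ext
        show g * (g⁻¹ * d.1 * g) * g⁻¹ = d.1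
        group
  have hdeg : ∀ a, (Finset.univ.filter (fun c => adj a c)).card =
      (Finset.univ.filter (fun c => adj ⟨t, ht⟩ c)).card := by
    intro a
    obtain ⟨g, hg⟩ := hconj a.1 a.2
    have h5 := hdegconj ⟨t, ht⟩ g
    have e : (⟨g * t * g⁻¹, ht.conj g⟩ : {a : G // IsInv a}) = a := Subtype.ext hg
    rw [e] at h5
    exact h5.symm
  have hk : 3 ≤ (Finset.univ.filter (fun c => adj ⟨t, ht⟩ c)).card := by
    have hsub : ({⟨b₁, hb₁⟩, ⟨b₂, hb₂⟩, ⟨b₃, hb₃⟩} : Finset {a : G // IsInv a}) ⊆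
        Finset.univ.filter (fun c => adj ⟨t, ht⟩ c) := by
      intro x hx
      rw [Finset.mem_insert, Finset.mem_insert, Finset.mem_singleton] at hx
      rw [Finset.mem_filter]
      refine ⟨Finset.mem_univ _, ?_⟩
      rcases hx with rfl | rfl | rfl
      · exact ⟨fun h => h1 (congrArg Subtype.val h).symm, hc1.symm⟩
      · exact ⟨fun h => h2 (congrArg Subtype.val h).symm, hc2.symm⟩
      · exact ⟨fun h => h3 (congrArg Subtype.val h).symm, hc3.symm⟩
    have hcard : ({⟨b₁, hb₁⟩, ⟨b₂, hb₂⟩, ⟨b₃, hb₃⟩} : Finset {a : G // IsInv a}).card = 3 := by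
      rw [Finset.card_eq_three]
      exact ⟨_, _, _, fun h => h12 (congrArg Subtype.val h), fun h => h13 (congrArg Subtype.val h),
        fun h => h23 (congrArg Subtype.val h), rfl⟩
    rw [← hcard]
    exact Finset.card_le_card hsub
  have hcommon : ∀ a b, a ≠ b →
      (Finset.univ.filter (fun c => adj a c ∧ adj c b)).card = 1 := by
    intro a b hne
    rw [Finset.card_eq_one]
    have hne' : a.1 ≠ b.1 := fun h => hne (Subtype.ext h)
    by_cases hab : a.1 * b.1 = b.1 * a.1
    · have hi : IsInv (a.1 * b.1) := by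
        refine ⟨?_, ?_⟩
        · intro h
          apply hne'
          have : b.1 = a.1⁻¹ := eq_inv_of_mul_eq_one_right h
          rw [this, a.2.inv_eq]
        · calc a.1 * b.1 * (a.1 * b.1) = a.1 * (b.1 * a.1) * b.1 := by group
            _ = a.1 * (a.1 * b.1) * b.1 := by rw [hab]
            _ = (a.1 * a.1) * (b.1 * b.1) := by group
            _ = 1 := by rw [a.2.2, b.2.2, one_mul]
      refine ⟨⟨a.1 * b.1, hi⟩, ?_⟩
      ext c'
      rw [Finset.mem_filter, Finset.mem_singleton]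
      constructor
      · rintro ⟨-, ⟨hac, hcomm1⟩, ⟨hcb, hcomm2⟩⟩
        apply Subtype.ext
        exact hcomm a.1 b.1 c'.1 a.2 b.2 c'.2 hab hne' hcomm1.symm hcomm2
          (fun h => hac (Subtype.ext h.symm)) (fun h => hcb (Subtype.ext h))
      · rintro rfl
        refine ⟨Finset.mem_univ _, ⟨?_, ?_⟩, ⟨?_, ?_⟩⟩
        · intro h
          have h5 : a.1 = a.1 * b.1 := congrArg Subtype.val h
          apply b.2.1
          have h6 : a.1 * 1 = a.1 * b.1 := by rw [mul_one]; exact h5
          exact (mul_left_cancel h6).symm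
        · show a.1 * (a.1 * b.1) = (a.1 * b.1) * a.1
          calc a.1 * (a.1 * b.1) = a.1 * (b.1 * a.1) := by rw [hab]
            _ = (a.1 * b.1) * a.1 := by group
        · intro h
          have h5 : a.1 * b.1 = b.1 := congrArg Subtype.val h
          apply a.2.1
          have h6 : a.1 * b.1 = 1 * b.1 := by rw [one_mul]; exact h5
          exact mul_right_cancel h6
        · show (a.1 * b.1) * b.1 = b.1 * (a.1 * b.1)
          calc (a.1 * b.1) * b.1 = (b.1 * a.1) * b.1 := by rw [hab]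
            _ = b.1 * (a.1 * b.1) := by group
    · obtain ⟨t', ht', hta, htb, htu⟩ := hnon a.1 b.1 a.2 b.2 hab
      refine ⟨⟨t', ht'⟩, ?_⟩
      ext c'
      rw [Finset.mem_filter, Finset.mem_singleton]
      constructor
      · rintro ⟨-, ⟨hac, hcomm1⟩, ⟨hcb, hcomm2⟩⟩
        exact Subtype.ext (htu c'.1 c'.2 hcomm1.symm hcomm2)
      · rintro rfl
        refine ⟨Finset.mem_univ _, ⟨?_, hta.symm⟩, ⟨?_, htb⟩⟩
        · intro h
          apply hab
          have h5 : a.1 = t' := congrArg Subtype.val h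
          rw [h5]; exact htb
        · intro h
          apply hab
          have h5 : t' = b.1 := congrArg Subtype.val h
          rw [← h5]; exact hta.symm
  exact friendship_regular_false adj hirr hsymm _ hk hdeg hcommon

end Cfsg.Agent.Lib.Helper4.Cyc
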