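import Mathlib
import Cfsg.Prelude.Def_SporadicB

/-! Non-split double covers: transport along isomorphisms, and the double cover given by a perfect central
extension of a simple group by a group of order two. -/

namespace Cfsg.Agent.Lib.Helper4.DCoverLib

theorem center_map_equiv {A B : Type*} [Group A] [Group B] (e : A ≃* B) :
    (Subgroup.center A).map e.toMonoidHom = Subgroup.center B := by
  ext b
  constructor
  · rintro ⟨a, ha, rfl⟩
    have ha' : a ∈ Subgroup.center A := ha
    rw [Subgroup.mem_center_iff] at ha' ⊢
    intro y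
    obtain ⟨x, rfl⟩ := e.surjective y
    show e x * e a = e a * e x
    rw [← map_mul, ← map_mul, ha' x]
  · intro hb
    have hsym : e.symm b ∈ Subgroup.center A := by
      rw [Subgroup.mem_center_iff] at hb ⊢
      intro x
      apply e.injective
      rw [map_mul, map_mul, e.apply_symm_apply]
      exact hb (e x)
    exact ⟨e.symm b, hsym, by simp⟩

theorem nonsplit_of_equiv {A B X : Type*} [Group A] [Group B] [Group X] [Finite A] (e : A ≃* B)
    (h : Cfsg.IsNonsplitDoubleCover A X) : Cfsg.IsNonsplitDoubleCover B X := by
  obtain ⟨h1, ⟨i⟩, h3⟩ := h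
  have hc := center_map_equiv e
  refine ⟨?_, ?_, ?_⟩
  · rw [← hc]
    rw [← h1]
    exact (Nat.card_congr (e.subgroupMap (Subgroup.center A)).toEquiv).symm
  · have q : A ⧸ Subgroup.center A ≃* B ⧸ Subgroup.center B :=
      QuotientGroup.congr (Subgroup.center A) (Subgroup.center B) e hc
    exact ⟨q.symm.trans i⟩
  · intro L hL
    have hfB : Finite B := Finite.of_equiv A e.toEquiv
    apply h3 (L.map e.symm.toMonoidHom)
    rw [Subgroup.isComplement'_iff_card_mul_and_disjoint] at hL ⊢
    obtain ⟨c1, c2⟩ := hL
    refine ⟨?_, ?_⟩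
    · have e1 : Nat.card (L.map e.symm.toMonoidHom) = Nat.card L :=
        (Nat.card_congr (e.symm.subgroupMap L).toEquiv).symm
      have e2 : Nat.card (Subgroup.center A) = Nat.card (Subgroup.center B) := by
        rw [← hc]
        exact Nat.card_congr (e.subgroupMap (Subgroup.center A)).toEquiv
      rw [e1, e2, c1]
      exact (Nat.card_congr e.toEquiv).symm
    · rw [Subgroup.disjoint_def] at c2 ⊢
      intro x hx1 hx2
      obtain ⟨y, hy, rfl⟩ := hx2
      have hy1 : y ∈ Subgroup.center B := by
        rw [← hc]
        exact ⟨e.symm y, hx1, by simp⟩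
      have := c2 hy1 hy
      rw [this]
      simp

/-- a simple group whose order is not a prime has trivial centre -/
theorem center_eq_bot_of_simple_card {Q : Type*} [Group Q] (hs : IsSimpleGroup Q)
    (hc : ¬ (Nat.card Q).Prime) : Subgroup.center Q = ⊥ := by
  rcases (inferInstance : (Subgroup.center Q).Normal).eq_bot_or_eq_top with h | h
  · exact h
  · exfalso
    have hcomm : ∀ a b : Q, a * b = b * a := fun a b => by
      have hb : b ∈ Subgroup.center Q := by rw [h]; trivial
      exact (Subgroup.mem_center_iff.1 hb a)
    letI : CommGroup Q := { (inferInstance : Group Q) with mul_comm := hcomm }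
    exact hc (@IsSimpleGroup.prime_card Q _ hs)

/-- a subgroup of index two contains the commutator subgroup -/
theorem commutator_le_of_index_two {G : Type*} [Group G] (L : Subgroup G) (h2 : L.index = 2) :
    commutator G ≤ L := by
  haveI hn : L.Normal := Subgroup.normal_of_index_eq_two h2
  have hcard : Nat.card (G ⧸ L) = 2 := h2
  haveI : Fact (Nat.Prime 2) := ⟨Nat.prime_two⟩
  haveI hcyc : IsCyclic (G ⧸ L) := isCyclic_of_prime_card hcard
  letI : CommGroup (G ⧸ L) := IsCyclic.commGroup
  have := Abelianization.commutator_subset_ker (QuotientGroup.mk' L)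
  rwa [QuotientGroup.ker_mk'] at this

/-- in a finite perfect group a subgroup of order two has no complement -/
theorem no_complement_of_perfect {G : Type*} [Group G] [Finite G] (hperf : commutator G = ⊤)
    (Z L : Subgroup G) (hZ : Nat.card Z = 2) : ¬ Z.IsComplement' L := by
  intro hc
  have hcard := hc.card_mul_card
  have hidx := L.index_mul_card
  rw [hZ] at hcard
  have hLpos : 0 < Nat.card L := Nat.card_pos
  have h2 : L.index = 2 := by
    have : L.index * Nat.card L = 2 * Nat.card L := by rw [hidx, hcard]
    exact Nat.eq_of_mul_eq_mul_right hLpos this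
  have hle := commutator_le_of_index_two L h2
  rw [hperf, top_le_iff] at hle
  rw [hle, Subgroup.index_top] at h2
  omega

/-- a finite perfect central extension of a simple group of non-prime order by a group of order two is a
non-split double cover -/
theorem nonsplit_of_central_ext {G Q X : Type*} [Group G] [Group Q] [Group X] [Finite G] (π : G →* Q)
    (hπ : Function.Surjective π) (hker : π.ker ≤ Subgroup.center G) (hk2 : Nat.card π.ker = 2)
    (hQ : IsSimpleGroup Q) (hQc : ¬ (Nat.card Q).Prime) (hperf : commutator G = ⊤) (e : Q ≃* X) :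
    Cfsg.IsNonsplitDoubleCover G X := by
  have hcen : Subgroup.center G = π.ker := by
    apply le_antisymm _ hker
    intro c hc
    rw [MonoidHom.mem_ker]
    have : π c ∈ Subgroup.center Q := by
      rw [Subgroup.mem_center_iff] at hc ⊢
      intro y
      obtain ⟨x, rfl⟩ := hπ y
      rw [← map_mul, ← map_mul, hc x]
    rw [center_eq_bot_of_simple_card hQ hQc, Subgroup.mem_bot] at this
    exact this
  refine ⟨by rw [hcen]; exact hk2, ⟨?_⟩, ?_⟩
  · exact ((QuotientGroup.quotientMulEquivOfEq hcen).trans
      (QuotientGroup.quotientKerEquivOfSurjective π hπ)).trans e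
  · intro L
    exact no_complement_of_perfect hperf _ L (by rw [hcen]; exact hk2)

/-- transport of a normal subgroup of index two that is a non-split double cover -/
theorem exists_of_equiv {A B X : Type*} [Group A] [Group B] [Group X] [Finite A] (e : A ≃* B)
    (h : ∃ K : Subgroup A, K.Normal ∧ K.index = 2 ∧ Cfsg.IsNonsplitDoubleCover K X) :
    ∃ K : Subgroup B, K.Normal ∧ K.index = 2 ∧ Cfsg.IsNonsplitDoubleCover K X := by
  obtain ⟨K, hn, hi, hc⟩ := h
  refine ⟨K.map e.toMonoidHom, ?_, ?_, ?_⟩
  · exact Subgroup.Normal.map hn e.toMonoidHom e.surjective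
  · rw [← hi]
    exact Subgroup.index_map_equiv K e
  · exact nonsplit_of_equiv (e.subgroupMap K) hc

end Cfsg.Agent.Lib.Helper4.DCoverLib
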