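import Mathlib

set_option autoImplicit false

/-! Counting conjugacy classes of a group `N = T ∪ wT` with `T` abelian, inverted by `w`. -/

namespace Cfsg.Agent.Lib.Helper4.DicCount

variable {G : Type*} [Group G]

/-- the commuting relation on parameters -/
def P (T : Subgroup G) [DecidableEq T] : Bool × T → Bool × T → Bool
  | (false, _), (false, _) => true
  | (false, s), (true, _) => decide (s ^ 2 = 1)
  | (true, _), (false, t) => decide (t ^ 2 = 1)
  | (true, s), (true, t) => decide (s ^ 2 = t ^ 2)

/-- the parametrisation -/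
def par (T : Subgroup G) (w : G) : Bool × T → G
  | (false, y) => (y : G)
  | (true, y) => w * (y : G)

theorem par_injective (T : Subgroup G) (w : G) (hw : w ∉ T) : Function.Injective (par T w) := by
  rintro ⟨i, y⟩ ⟨j, y'⟩ h
  rcases i <;> rcases j <;> simp only [par] at h
  · rw [Subtype.ext h]
  · exfalso
    apply hw
    have : w = (y : G) * (y' : G)⁻¹ := by rw [h]; group
    rw [this]
    exact T.mul_mem y.2 (T.inv_mem y'.2)
  · exfalso
    apply hw
    have : w = (y' : G) * (y : G)⁻¹ := by rw [← h]; group
    rw [this]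
    exact T.mul_mem y'.2 (T.inv_mem y.2)
  · rw [Subtype.ext (mul_left_cancel h)]

theorem commute_par_iff (T : Subgroup G) [DecidableEq T] (w : G)
    (hcomm : ∀ y ∈ T, ∀ y' ∈ T, y * y' = y' * y)
    (hinv : ∀ y ∈ T, w⁻¹ * y * w = y⁻¹) (x y : Bool × T) :
    Commute (par T w x) (par T w y) ↔ P T x y = true := by
  obtain ⟨i, s⟩ := x
  obtain ⟨j, t⟩ := y
  have hst := hcomm s s.2 t t.2
  have hs := hinv s s.2
  have ht := hinv t t.2
  have hs' : (s : G) * w = w * (s : G)⁻¹ := by rw [← hs]; group
  have ht' : (t : G) * w = w * (t : G)⁻¹ := by rw [← ht]; group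
  unfold Commute SemiconjBy
  rcases i <;> rcases j <;> simp only [par, P, decide_eq_true_eq]
  · simp only [iff_true]
    exact hst
  · rw [← mul_assoc, hs', mul_assoc, mul_assoc, mul_right_inj]
    constructor
    · intro h
      apply Subtype.ext
      rw [Subgroup.coe_pow, Subgroup.coe_one, pow_two]
      have h1 : (s : G)⁻¹ = (s : G) := mul_right_cancel (h.trans hst.symm)
      calc (s : G) * (s : G) = (s : G)⁻¹ * (s : G) := by rw [h1]
        _ = 1 := inv_mul_cancel _
    · intro h
      have h1 : (s : G) * (s : G) = 1 := by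
        have := congrArg Subtype.val h
        rwa [Subgroup.coe_pow, Subgroup.coe_one, pow_two] at this
      have h2 : (s : G)⁻¹ = (s : G) := inv_eq_of_mul_eq_one_left h1
      rw [h2, hst]
  · rw [mul_assoc, ← mul_assoc (t : G), ht', mul_assoc, mul_right_inj]
    constructor
    · intro h
      apply Subtype.ext
      rw [Subgroup.coe_pow, Subgroup.coe_one, pow_two]
      have h1 : (t : G) = (t : G)⁻¹ := mul_right_cancel (hst.symm.trans h)
      calc (t : G) * (t : G) = (t : G)⁻¹ * (t : G) := by rw [← h1]
        _ = 1 := inv_mul_cancel _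
    · intro h
      have h1 : (t : G) * (t : G) = 1 := by
        have := congrArg Subtype.val h
        rwa [Subgroup.coe_pow, Subgroup.coe_one, pow_two] at this
      have h2 : (t : G)⁻¹ = (t : G) := inv_eq_of_mul_eq_one_left h1
      rw [h2, hst]
  · rw [mul_assoc, mul_assoc, mul_right_inj, ← mul_assoc, ← mul_assoc, hs', ht', mul_assoc, mul_assoc,
      mul_right_inj]
    constructor
    · intro h
      apply Subtype.ext
      rw [Subgroup.coe_pow, Subgroup.coe_pow, pow_two, pow_two]
      calc (s : G) * (s : G) = (s : G) * (t : G) * ((t : G)⁻¹ * (s : G)) := by group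
        _ = (s : G) * (t : G) * ((s : G)⁻¹ * (t : G)) := by rw [h]
        _ = (t : G) * (s : G) * ((s : G)⁻¹ * (t : G)) := by rw [hst]
        _ = (t : G) * (t : G) := by group
    · intro h
      have h1 : (s : G) * (s : G) = (t : G) * (t : G) := by
        have := congrArg Subtype.val h
        rwa [Subgroup.coe_pow, Subgroup.coe_pow, pow_two, pow_two] at this
      calc (s : G)⁻¹ * (t : G) = (s : G)⁻¹ * ((t : G) * (t : G)) * (t : G)⁻¹ := by group
        _ = (s : G)⁻¹ * ((s : G) * (s : G)) * (t : G)⁻¹ := by rw [h1]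
        _ = (s : G) * (t : G)⁻¹ := by group
        _ = (t : G)⁻¹ * (s : G) := hcomm _ s.2 _ (T.inv_mem t.2)

end Cfsg.Agent.Lib.Helper4.DicCount
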