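import Mathlib
import Cfsg.Agent.Lib.Helper4.DicCount

set_option autoImplicit false

namespace Cfsg.Agent.Lib.Helper4.DicCount

variable {G : Type*} [Group G]

theorem card_sq_eq (T : Subgroup G) [Fintype T] [DecidableEq T]
    (hcomm : ∀ y ∈ T, ∀ y' ∈ T, y * y' = y' * y)
    (hZ : (Finset.univ.filter (fun t : T => t ^ 2 = 1)).card = 2) (s : T) :
    (Finset.univ.filter (fun t : T => s ^ 2 = t ^ 2)).card = 2 := by
  have hc : ∀ a b : T, a * b = b * a := fun a b => Subtype.ext (hcomm a a.2 b b.2)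
  have : Finset.univ.filter (fun t : T => s ^ 2 = t ^ 2)
      = (Finset.univ.filter (fun t : T => t ^ 2 = 1)).image (fun z => z * s) := by
    ext t
    simp only [Finset.mem_filter, Finset.mem_univ, true_and, Finset.mem_image]
    constructor
    · intro h
      refine ⟨t * s⁻¹, ?_, by group⟩
      calc (t * s⁻¹) ^ 2 = (t * s⁻¹) * (t * s⁻¹) := pow_two _
        _ = t * (s⁻¹ * t) * s⁻¹ := by group
        _ = t * (t * s⁻¹) * s⁻¹ := by rw [hc s⁻¹ t]
        _ = (t * t) * (s * s)⁻¹ := by group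
        _ = t ^ 2 * (s ^ 2)⁻¹ := by rw [← pow_two, ← pow_two]
        _ = 1 := by rw [h, mul_inv_cancel]
    · rintro ⟨z, hz, rfl⟩
      calc s ^ 2 = 1 * s ^ 2 := (one_mul _).symm
        _ = z ^ 2 * s ^ 2 := by rw [hz]
        _ = (z * z) * (s * s) := by rw [← pow_two, ← pow_two]
        _ = z * (z * s) * s := by group
        _ = z * (s * z) * s := by rw [hc z s]
        _ = (z * s) * (z * s) := by group
        _ = (z * s) ^ 2 := (pow_two _).symm
  rw [this, Finset.card_image_of_injective _ (mul_left_injective s), hZ]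

theorem card_P (T : Subgroup G) [Fintype T] [DecidableEq T]
    (hcomm : ∀ y ∈ T, ∀ y' ∈ T, y * y' = y' * y)
    (hZ : (Finset.univ.filter (fun t : T => t ^ 2 = 1)).card = 2) :
    Nat.card {p : (Bool × T) × (Bool × T) // P T p.1 p.2 = true} =
      Fintype.card T * (Fintype.card T + 6) := by
  rw [Nat.card_eq_fintype_card, Fintype.card_subtype, Finset.card_filter,
    Fintype.sum_prod_type, Fintype.sum_prod_type]
  simp only [Fintype.sum_prod_type, Fintype.sum_bool, P, decide_eq_true_eq]
  have e1 : ∀ s : T, (∑ t : T, if s ^ 2 = t ^ 2 then 1 else 0) = 2 := by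
    intro s
    rw [← Finset.card_filter]
    exact card_sq_eq T hcomm hZ s
  have e2 : (∑ t : T, if t ^ 2 = 1 then 1 else 0) = 2 := by
    rw [← Finset.card_filter]
    exact hZ
  simp only [e1, e2, if_true, Finset.sum_const, Finset.card_univ, smul_eq_mul, mul_one]
  rw [Finset.sum_add_distrib, ← Finset.mul_sum, e2, Finset.sum_const, Finset.card_univ, smul_eq_mul]
  ring

/-- parametrisation of `N = T ∪ wT` -/
noncomputable def parEquiv (T N : Subgroup G) (w : G) (hw : w ∉ T)
    (hN : ∀ g, g ∈ N ↔ g ∈ T ∨ w⁻¹ * g ∈ T) : Bool × T ≃ N :=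
  Equiv.ofBijective (fun x => ⟨par T w x, by
      obtain ⟨i, y⟩ := x
      rcases i
      · exact (hN _).2 (Or.inl y.2)
      · refine (hN _).2 (Or.inr ?_)
        simp only [par, inv_mul_cancel_left]
        exact y.2⟩) (by
    constructor
    · intro x y h
      exact par_injective T w hw (congrArg Subtype.val h)
    · rintro ⟨g, hg⟩
      rcases (hN g).1 hg with h | h
      · exact ⟨(false, ⟨g, h⟩), rfl⟩
      · refine ⟨(true, ⟨w⁻¹ * g, h⟩), ?_⟩
        apply Subtype.ext
        simp [par])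

theorem parEquiv_coe (T N : Subgroup G) (w : G) (hw : w ∉ T)
    (hN : ∀ g, g ∈ N ↔ g ∈ T ∨ w⁻¹ * g ∈ T) (x : Bool × T) :
    ((parEquiv T N w hw hN x : N) : G) = par T w x := rfl

theorem card_N (T N : Subgroup G) (w : G) (hw : w ∉ T)
    (hN : ∀ g, g ∈ N ↔ g ∈ T ∨ w⁻¹ * g ∈ T) : Nat.card N = 2 * Nat.card T := by
  rw [← Nat.card_congr (parEquiv T N w hw hN), Nat.card_prod, Nat.card_eq_fintype_card,
    Fintype.card_bool]

theorem card_conjClasses (T N : Subgroup G) [Finite T] (w : G) (hw : w ∉ T)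
    (hN : ∀ g, g ∈ N ↔ g ∈ T ∨ w⁻¹ * g ∈ T)
    (hcomm : ∀ y ∈ T, ∀ y' ∈ T, y * y' = y' * y)
    (hinv : ∀ y ∈ T, w⁻¹ * y * w = y⁻¹)
    (hZ : Nat.card {t : T // t ^ 2 = 1} = 2) :
    2 * Nat.card (ConjClasses N) = Nat.card T + 6 := by
  classical
  haveI : Fintype T := Fintype.ofFinite T
  have hZ' : (Finset.univ.filter (fun t : T => t ^ 2 = 1)).card = 2 := by
    have := hZ
    rw [Nat.card_eq_fintype_card, Fintype.card_subtype] at this
    exact this
  have h1 := card_comm_eq_card_conjClasses_mul_card N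
  have h3 : Nat.card { p : N × N // Commute p.1 p.2 } =
      Nat.card {p : (Bool × T) × (Bool × T) // P T p.1 p.2 = true} := by
    symm
    apply Nat.card_congr
    refine Equiv.subtypeEquiv (Equiv.prodCongr (parEquiv T N w hw hN) (parEquiv T N w hw hN)) ?_
    rintro ⟨x, y⟩
    simp only [Equiv.prodCongr_apply, Prod.map_apply]
    rw [← commute_par_iff T w hcomm hinv]
    constructor
    · intro h
      apply Subtype.ext
      exact h
    · intro h
      exact congrArg Subtype.val h
  rw [h3, card_P T hcomm hZ', card_N T N w hw hN, Nat.card_eq_fintype_card (α := T)] at h1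
  have hpos : 0 < Fintype.card T := Fintype.card_pos
  rw [Nat.card_eq_fintype_card (α := T)]
  have h4 : Fintype.card T * (Fintype.card T + 6)
      = Fintype.card T * (2 * Nat.card (ConjClasses N)) := by
    rw [h1]; ring
  exact (Nat.eq_of_mul_eq_mul_left hpos h4).symm

end Cfsg.Agent.Lib.Helper4.DicCount
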