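import Cfsg.Agent.Lib.Helper4.ES2A

/-!
# Extraspecial 2-groups (part B): rank and number of involutions under splitting off a dihedral pair
-/

set_option autoImplicit false

namespace Cfsg.Agent.Lib.Helper4.ES2

variable {G : Type*} [Group G]

theorem relIndex_mul_card {D C : Subgroup G} (h : D ≤ C) :
    D.relIndex C * Nat.card D = Nat.card C := by
  have h1 := Subgroup.card_mul_index (D.subgroupOf C)
  rw [Nat.card_congr (Subgroup.subgroupOfEquivOfLe h).toEquiv] at h1
  rw [Subgroup.relIndex, mul_comm]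
  exact h1

/-- every elementary abelian 2-subgroup of `Q` has order at most `2 ^ k` -/
def RkLE (k : ℕ) (Q : Subgroup G) : Prop :=
  ∀ A : Subgroup G, A ≤ Q → (∀ a ∈ A, ∀ b ∈ A, a * b = b * a) → (∀ a ∈ A, a * a = 1) →
    Nat.card A ≤ 2 ^ k

/-- number of solutions of `x² = 1` in `Q` -/
noncomputable def invCount (Q : Subgroup G) : ℕ := {x : G | x ∈ Q ∧ x * x = 1}.ncard

section adj

variable (A : Subgroup G) (t : G) (ht : t * t = 1) (hc : ∀ a ∈ A, a * t = t * a)

include ht hc in
theorem adj_aux {x : G} (hx : x ∈ A ∨ x * t ∈ A) : x * t = t * x := by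
  rcases hx with hx | hx
  · exact hc x hx
  · have h1 := hc _ hx
    rw [mul_assoc, ht, mul_one] at h1
    -- h1 : x = t * (x * t)
    calc x * t = t * (x * t) * t := by rw [← h1]
      _ = t * x * (t * t) := by group
      _ = t * x := by rw [ht, mul_one]

/-- adjoin a commuting involution `t` to the subgroup `A` -/
def adj : Subgroup G where
  carrier := {g | g ∈ A ∨ g * t ∈ A}
  one_mem' := Or.inl A.one_mem
  mul_mem' := by
    intro g₁ g₂ h1 h2
    have c2 := adj_aux A t ht hc h2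
    rcases h1 with h1 | h1 <;> rcases h2 with h2 | h2
    · exact Or.inl (A.mul_mem h1 h2)
    · right
      rw [mul_assoc]
      exact A.mul_mem h1 h2
    · right
      rw [mul_assoc, c2, ← mul_assoc]
      exact A.mul_mem h1 h2
    · left
      have := A.mul_mem h1 h2
      rwa [mul_assoc, ← mul_assoc t, ← c2, mul_assoc g₂, ht, mul_one] at this
  inv_mem' := by
    intro g h1
    have c1 := adj_aux A t ht hc h1
    rcases h1 with h1 | h1
    · exact Or.inl (A.inv_mem h1)
    · right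
      have h2 := A.inv_mem h1
      have h3 : (g * t)⁻¹ = g⁻¹ * t := by
        rw [c1, mul_inv_rev]
        congr 1
        exact inv_eq_of_mul_eq_one_right ht
      rwa [h3] at h2

theorem mem_adj {g : G} : g ∈ adj A t ht hc ↔ (g ∈ A ∨ g * t ∈ A) := Iff.rfl

theorem le_adj : A ≤ adj A t ht hc := fun _ ha => Or.inl ha

theorem t_mem_adj : t ∈ adj A t ht hc := Or.inr (by rw [ht]; exact A.one_mem)

theorem adj_comm_t {x : G} (hx : x ∈ adj A t ht hc) : x * t = t * x := adj_aux A t ht hc hx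

theorem adj_le {Q : Subgroup G} (hA : A ≤ Q) (htQ : t ∈ Q) : adj A t ht hc ≤ Q := by
  intro g hg
  rcases hg with hg | hg
  · exact hA hg
  · have h1 := Q.mul_mem (hA hg) htQ
    rwa [mul_assoc, ht, mul_one] at h1

theorem adj_comm (hA : ∀ a ∈ A, ∀ b ∈ A, a * b = b * a) :
    ∀ a ∈ adj A t ht hc, ∀ b ∈ adj A t ht hc, a * b = b * a := by
  intro a ha b hb
  have ca := adj_aux A t ht hc ha
  have cb := adj_aux A t ht hc hb
  rcases ha with ha | ha <;> rcases hb with hb | hb
  · exact hA a ha b hb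
  · have h1 := hA a ha _ hb
    -- a * (b * t) = b * t * a
    have h2 : a * b * t = b * a * t := by
      rw [mul_assoc, h1, mul_assoc, mul_assoc, ca]
    exact mul_right_cancel h2
  · have h1 := hA _ ha b hb
    have h2 : a * b * t = b * a * t := by
      rw [mul_assoc, cb, ← mul_assoc, h1, mul_assoc]
    exact mul_right_cancel h2
  · have h1 := hA _ ha _ hb
    -- a t b t = b t a t
    have h2 : a * b * (t * t) = b * a * (t * t) := by
      calc a * b * (t * t) = a * (b * t) * t := by group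
        _ = a * (t * b) * t := by rw [cb]
        _ = (a * t) * (b * t) := by group
        _ = (b * t) * (a * t) := h1
        _ = b * (t * a) * t := by group
        _ = b * (a * t) * t := by rw [ca]
        _ = b * a * (t * t) := by group
    exact mul_right_cancel h2

theorem adj_sq (hA : ∀ a ∈ A, a * a = 1) : ∀ a ∈ adj A t ht hc, a * a = 1 := by
  intro a ha
  have ca := adj_aux A t ht hc ha
  rcases ha with ha | ha
  · exact hA a ha
  · have h1 := hA _ ha
    calc a * a = a * a * (t * t) := by rw [ht, mul_one]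
      _ = a * (a * t) * t := by group
      _ = a * (t * a) * t := by rw [ca]
      _ = (a * t) * (a * t) := by group
      _ = 1 := h1

theorem card_adj (hnt : t ∉ A) : Nat.card ↥(adj A t ht hc) = 2 * Nat.card A := by
  have h2 : A.relIndex (adj A t ht hc) = 2 := by
    rw [Subgroup.relIndex_eq_two_iff]
    refine ⟨t, t_mem_adj A t ht hc, fun b hb => ?_⟩
    rcases hb with hb | hb
    · refine Or.inr ⟨hb, fun h1 => hnt ?_⟩
      have := A.mul_mem (A.inv_mem hb) h1
      rwa [inv_mul_cancel_left] at this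
    · refine Or.inl ⟨hb, fun h1 => hnt ?_⟩
      have := A.mul_mem (A.inv_mem h1) hb
      rwa [inv_mul_cancel_left] at this
  rw [← relIndex_mul_card (le_adj A t ht hc), h2]

end adj

namespace Data

variable {Q : Subgroup G} {z : G}

theorem not_mem_cent2 (h : Data Q z) {u v : G} (huv : cm u v = z) : u ∉ cent2 Q u v := by
  intro h1
  have h2 := (mem_cent2.mp h1).2.2
  rw [← cm_eq_one_iff, huv] at h2
  exact h.z_ne h2

theorem rk_cent2_of_rk [Finite G] (h : Data Q z) {u v : G} (hu : u ∈ Q) (huu : u * u = 1)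
    (huv : cm u v = z) {k : ℕ} (hr : RkLE (k + 1) Q) : RkLE k (cent2 Q u v) := by
  intro A hA hAc hAs
  have hc : ∀ a ∈ A, a * u = u * a := fun a ha => (mem_cent2.mp (hA ha)).2.1
  have h1 := hr (adj A u huu hc) (adj_le A u huu hc (hA.trans cent2_le) hu)
    (adj_comm A u huu hc hAc) (adj_sq A u huu hc hAs)
  rw [card_adj A u huu hc (fun h2 => h.not_mem_cent2 huv (hA h2)), pow_succ] at h1
  omega

theorem rk_of_rk_cent2 [Finite G] (h : Data Q z) {u v : G} (hu : u ∈ Q) (hv : v ∈ Q)
    (huu : u * u = 1) {k : ℕ} (hr : RkLE k (cent2 Q u v)) : RkLE (k + 1) Q := by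
  intro A hA hAc hAs
  set A₁ : Subgroup G := A ⊓ Subgroup.centralizer {u} with hA₁
  have hc : ∀ a ∈ A₁, a * u = u * a := by
    intro a ha
    rw [hA₁, Subgroup.mem_inf, Subgroup.mem_centralizer_singleton_iff] at ha
    exact ha.2
  have hA₁A : A₁ ≤ A := inf_le_left
  set M : Subgroup G := adj A₁ u huu hc with hM
  have hMQ : M ≤ Q := adj_le A₁ u huu hc (hA₁A.trans hA) hu
  have hMc : ∀ a ∈ M, ∀ b ∈ M, a * b = b * a :=
    adj_comm A₁ u huu hc (fun a ha b hb => hAc a (hA₁A ha) b (hA₁A hb))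
  have hMs : ∀ a ∈ M, a * a = 1 := adj_sq A₁ u huu hc (fun a ha => hAs a (hA₁A ha))
  -- B = C_M(v) lies in cent2
  have hB : M ⊓ Subgroup.centralizer {v} ≤ cent2 Q u v := by
    intro b hb
    rw [Subgroup.mem_inf, Subgroup.mem_centralizer_singleton_iff] at hb
    exact mem_cent2.mpr ⟨hMQ hb.1, adj_comm_t A₁ u huu hc hb.1, hb.2⟩
  have h1 := hr (M ⊓ Subgroup.centralizer {v}) hB
    (fun a ha b hb => hMc a ha.1 b hb.1) (fun a ha => hMs a ha.1)
  have h2 := h.card_le_centralizer hMQ hv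
  have h3 : Nat.card A ≤ Nat.card M := by
    by_cases h4 : ∃ a₀ ∈ A, cm a₀ u = z
    · obtain ⟨a₀, ha₀, hc₀⟩ := h4
      have h5 := h.card_centralizer hA hu ha₀ hc₀
      have h6 : u ∉ A₁ := by
        intro h7
        have h8 := hAc a₀ ha₀ u (hA₁A h7)
        rw [← cm_eq_one_iff, hc₀] at h8
        exact h.z_ne h8
      rw [hM, card_adj A₁ u huu hc h6, h5]
    · push Not at h4
      apply Subgroup.card_le_of_le
      intro a ha
      apply le_adj
      rw [hA₁, Subgroup.mem_inf, Subgroup.mem_centralizer_singleton_iff, ← cm_eq_one_iff]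
      refine ⟨ha, ?_⟩
      rcases h.comm_mem a (hA ha) u hu with h5 | h5
      · exact h5
      · exact absurd h5 (h4 a ha)
  rw [pow_succ]
  omega

theorem rk_iff [Finite G] (h : Data Q z) {u v : G} (hu : u ∈ Q) (hv : v ∈ Q)
    (huu : u * u = 1) (huv : cm u v = z) (k : ℕ) : RkLE k (cent2 Q u v) ↔ RkLE (k + 1) Q :=
  ⟨h.rk_of_rk_cent2 hu hv huu, h.rk_cent2_of_rk hu huu huv⟩

theorem not_rk_zero [Finite G] (h : Data Q z) : ¬ RkLE 0 Q := by
  intro hr
  have hc : ∀ a ∈ (⊥ : Subgroup G), a * z = z * a := by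
    intro a ha
    rw [Subgroup.mem_bot.mp ha, one_mul, mul_one]
  have h1 := hr (adj ⊥ z h.z_sq hc) (adj_le ⊥ z h.z_sq hc bot_le h.zQ)
    (adj_comm ⊥ z h.z_sq hc (by
      intro a ha b hb
      rw [Subgroup.mem_bot.mp ha, Subgroup.mem_bot.mp hb]))
    (adj_sq ⊥ z h.z_sq hc (by
      intro a ha
      rw [Subgroup.mem_bot.mp ha, one_mul]))
  rw [card_adj ⊥ z h.z_sq hc (by rw [Subgroup.mem_bot]; exact h.z_ne), Subgroup.card_bot] at h1
  omega

end Data

/-- counting over the two cosets of a subgroup of index two -/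
theorem ncard_coset_split [Finite G] (N M : Subgroup G) (t : G)
    (hN : ∀ q, q ∈ N ↔ (q ∈ M ∨ t⁻¹ * q ∈ M)) (htM : t ∉ M) (P : G → Prop) :
    {q | q ∈ N ∧ P q}.ncard = {m | m ∈ M ∧ P m}.ncard + {m | m ∈ M ∧ P (t * m)}.ncard := by
  have h1 : {q | q ∈ N ∧ P q} = {m | m ∈ M ∧ P m} ∪ (fun m => t * m) '' {m | m ∈ M ∧ P (t * m)} := by
    ext q
    simp only [Set.mem_setOf_eq, Set.mem_union, Set.mem_image]
    constructor
    · rintro ⟨hq, hP⟩
      rcases (hN q).mp hq with h2 | h2
      · exact Or.inl ⟨h2, hP⟩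
      · refine Or.inr ⟨t⁻¹ * q, ⟨h2, ?_⟩, ?_⟩
        · rwa [mul_inv_cancel_left]
        · rw [mul_inv_cancel_left]
    · rintro (⟨h2, hP⟩ | ⟨m, ⟨hm, hP⟩, rfl⟩)
      · exact ⟨(hN q).mpr (Or.inl h2), hP⟩
      · refine ⟨(hN _).mpr (Or.inr ?_), hP⟩
        rwa [inv_mul_cancel_left]
  have h2 : Disjoint {m | m ∈ M ∧ P m} ((fun m => t * m) '' {m | m ∈ M ∧ P (t * m)}) := by
    rw [Set.disjoint_left]
    rintro q ⟨hq, -⟩ ⟨m, ⟨hm, -⟩, rfl⟩
    apply htM
    have := M.mul_mem hq (M.inv_mem hm)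
    rwa [mul_inv_cancel_right] at this
  rw [h1, Set.ncard_union_eq h2 (Set.toFinite _) (Set.toFinite _),
    Set.ncard_image_of_injective _ (mul_right_injective t)]

namespace Data

variable {Q : Subgroup G} {z : G}

theorem invCount_split [Finite G] (h : Data Q z) {u v : G} (hu : u ∈ Q) (hv : v ∈ Q)
    (huu : u * u = 1) (hvv : v * v = 1) (huv : cm u v = z) :
    invCount Q = 2 * invCount (cent2 Q u v) + Nat.card ↥(cent2 Q u v) := by
  have hvu : cm v u = z := by rw [h.cm_symm hv hu]; exact huv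
  have huN : u ∈ Q ⊓ Subgroup.centralizer {u} := by
    rw [Subgroup.mem_inf, Subgroup.mem_centralizer_singleton_iff]
    exact ⟨hu, rfl⟩
  have hvN : v ∉ Q ⊓ Subgroup.centralizer {u} := by
    intro h1
    rw [Subgroup.mem_inf, Subgroup.mem_centralizer_singleton_iff, ← cm_eq_one_iff, hvu] at h1
    exact h.z_ne h1.2
  have e1 := ncard_coset_split Q (Q ⊓ Subgroup.centralizer {u}) v
    (h.mem_iff_coset le_rfl hu hv hvu) hvN (fun q => q * q = 1)
  have e2 := ncard_coset_split (Q ⊓ Subgroup.centralizer {u}) (cent2 Q u v) u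
    (h.mem_iff_coset inf_le_left hv huN huv) (h.not_mem_cent2 huv) (fun q => q * q = 1)
  have e3 := ncard_coset_split (Q ⊓ Subgroup.centralizer {u}) (cent2 Q u v) u
    (h.mem_iff_coset inf_le_left hv huN huv) (h.not_mem_cent2 huv) (fun q => v * q * (v * q) = 1)
  -- the four pieces
  have s1 : {m | m ∈ cent2 Q u v ∧ u * m * (u * m) = 1} = {m | m ∈ cent2 Q u v ∧ m * m = 1} := by
    ext c
    simp only [Set.mem_setOf_eq]
    refine and_congr_right (fun hc => ?_)
    obtain ⟨hcQ, hcu, -⟩ := mem_cent2.mp hc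
    have : u * c * (u * c) = c * c := by
      calc u * c * (u * c) = u * (c * u) * c := by group
        _ = (u * u) * c * c := by rw [hcu]; group
        _ = c * c := by rw [huu, one_mul]
    rw [this]
  have s2 : {m | m ∈ cent2 Q u v ∧ v * m * (v * m) = 1} = {m | m ∈ cent2 Q u v ∧ m * m = 1} := by
    ext c
    simp only [Set.mem_setOf_eq]
    refine and_congr_right (fun hc => ?_)
    obtain ⟨hcQ, -, hcv⟩ := mem_cent2.mp hc
    have : v * c * (v * c) = c * c := by
      calc v * c * (v * c) = v * (c * v) * c := by group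
        _ = (v * v) * c * c := by rw [hcv]; group
        _ = c * c := by rw [hvv, one_mul]
    rw [this]
  have s3 : {m | m ∈ cent2 Q u v ∧ v * (u * m) * (v * (u * m)) = 1} =
      {m | m ∈ cent2 Q u v ∧ m * m = z} := by
    ext c
    simp only [Set.mem_setOf_eq]
    refine and_congr_right (fun hc => ?_)
    obtain ⟨hcQ, hcu, hcv⟩ := mem_cent2.mp hc
    have hcvu : c * (v * u) = (v * u) * c := by
      rw [← mul_assoc, hcv, mul_assoc, hcu, mul_assoc]
    have h5 : (v * u) * (v * u) = z := by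
      rw [h.sq_mul hv hu, hvu, hvv, huu, mul_one, mul_one]
    have : v * (u * c) * (v * (u * c)) = z * (c * c) := by
      calc v * (u * c) * (v * (u * c)) = (v * u) * (c * (v * u)) * c := by group
        _ = ((v * u) * (v * u)) * (c * c) := by rw [hcvu]; group
        _ = z * (c * c) := by rw [h5]
    rw [this]
    rcases h.sq_mem c hcQ with h6 | h6 <;> rw [h6]
    · rw [mul_one]
      exact ⟨fun h7 => absurd h7 h.z_ne, fun h7 => absurd h7.symm h.z_ne⟩
    · rw [h.z_sq]
      exact ⟨fun _ => rfl, fun _ => rfl⟩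
  have s4 : {m | m ∈ cent2 Q u v ∧ m * m = 1}.ncard + {m | m ∈ cent2 Q u v ∧ m * m = z}.ncard =
      Nat.card ↥(cent2 Q u v) := by
    have h7 : ((cent2 Q u v : Subgroup G) : Set G) =
        {m | m ∈ cent2 Q u v ∧ m * m = 1} ∪ {m | m ∈ cent2 Q u v ∧ m * m = z} := by
      ext c
      simp only [Set.mem_union, Set.mem_setOf_eq, SetLike.mem_coe]
      constructor
      · intro hc
        rcases h.sq_mem c (cent2_le hc) with h6 | h6
        · exact Or.inl ⟨hc, h6⟩
        · exact Or.inr ⟨hc, h6⟩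
      · rintro (h6 | h6) <;> exact h6.1
    have h8 : Disjoint {m | m ∈ cent2 Q u v ∧ m * m = 1} {m | m ∈ cent2 Q u v ∧ m * m = z} := by
      rw [Set.disjoint_left]
      rintro c ⟨-, h6⟩ ⟨-, h9⟩
      exact h.z_ne (h9 ▸ h6)
    have h9 : Nat.card ↥(cent2 Q u v) = ((cent2 Q u v : Subgroup G) : Set G).ncard :=
      Nat.card_coe_set_eq _
    rw [h9, h7, Set.ncard_union_eq h8 (Set.toFinite _) (Set.toFinite _)]
  unfold invCount
  rw [e1, e2, e3, s1, s2, s3]
  have s5 : {x | x ∈ cent2 Q u v ∧ x * x = 1}.ncard = {m | m ∈ cent2 Q u v ∧ m * m = 1}.ncard := rfl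
  omega

end Data

end Cfsg.Agent.Lib.Helper4.ES2
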