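import Cfsg.Agent.Lib.Helper4.ES2B

/-!
# Extraspecial 2-groups (part C): extending an isomorphism over a subgroup of index two, and gluing
-/

set_option autoImplicit false

namespace Cfsg.Agent.Lib.Helper4.ES2

section ext

variable {G G' : Type*} [Group G] [Group G']

/-- the data of a subgroup `N = M ∪ tM` with `t ∉ M` -/
structure Ext2 (N M : Subgroup G) (t : G) : Prop where
  mem_iff : ∀ q, q ∈ N ↔ (q ∈ M ∨ t⁻¹ * q ∈ M)
  not_mem : t ∉ M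

namespace Ext2

variable {N M : Subgroup G} {t : G}

theorem le (h : Ext2 N M t) : M ≤ N := fun q hq => (h.mem_iff q).mpr (Or.inl hq)

theorem t_mem (h : Ext2 N M t) : t ∈ N :=
  (h.mem_iff t).mpr (Or.inr (by rw [inv_mul_cancel]; exact M.one_mem))

theorem tmul_mem (h : Ext2 N M t) {m : G} (hm : m ∈ M) : t * m ∈ N :=
  N.mul_mem h.t_mem (h.le hm)

theorem tmul_not_mem (h : Ext2 N M t) {m : G} (hm : m ∈ M) : t * m ∉ M := by
  intro h1
  apply h.not_mem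
  have := M.mul_mem h1 (M.inv_mem hm)
  rwa [mul_inv_cancel_right] at this

theorem sq_mem (h : Ext2 N M t) : t * t ∈ M := by
  rcases (h.mem_iff (t * t)).mp (N.mul_mem h.t_mem h.t_mem) with h1 | h1
  · exact h1
  · rw [inv_mul_cancel_left] at h1
    exact absurd h1 h.not_mem

theorem conj_mem (h : Ext2 N M t) {m : G} (hm : m ∈ M) : t * m * t⁻¹ ∈ M := by
  rcases (h.mem_iff (t * m * t⁻¹)).mp
    (N.mul_mem (N.mul_mem h.t_mem (h.le hm)) (N.inv_mem h.t_mem)) with h1 | h1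
  · exact h1
  · exfalso
    apply h.not_mem
    have h2 : t⁻¹ * (t * m * t⁻¹) = m * t⁻¹ := by group
    rw [h2] at h1
    have := M.mul_mem (M.inv_mem hm) h1
    rw [inv_mul_cancel_left] at this
    simpa using M.inv_mem this

theorem conj_mem' (h : Ext2 N M t) {m : G} (hm : m ∈ M) : t⁻¹ * m * t ∈ M := by
  rcases (h.mem_iff (t⁻¹ * m * t)).mp
    (N.mul_mem (N.mul_mem (N.inv_mem h.t_mem) (h.le hm)) h.t_mem) with h1 | h1
  · exact h1
  · exfalso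
    apply h.not_mem
    have h2 : t⁻¹ * (t⁻¹ * m * t) = (t * t)⁻¹ * (m * t) := by group
    rw [h2] at h1
    have h3 := M.mul_mem h.sq_mem h1
    rw [mul_inv_cancel_left] at h3
    have := M.mul_mem (M.inv_mem hm) h3
    rwa [inv_mul_cancel_left] at this

end Ext2

open Classical in
/-- the extension of `ψ` to `M ∪ tM`, as a function on the whole group -/
noncomputable def extFun (M : Subgroup G) (t : G) (M' : Subgroup G') (t' : G') (ψ : M →* M') (q : G) : G' :=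
  if h : q ∈ M then ((ψ ⟨q, h⟩ : M') : G')
  else if h' : t⁻¹ * q ∈ M then t' * ((ψ ⟨t⁻¹ * q, h'⟩ : M') : G') else 1

theorem extFun_mem {M : Subgroup G} {t : G} {M' : Subgroup G'} {t' : G'} (ψ : M →* M') {m : G}
    (hm : m ∈ M) : extFun M t M' t' ψ m = ψ ⟨m, hm⟩ := by
  unfold extFun
  rw [dif_pos hm]

theorem extFun_tmul {N M : Subgroup G} {t : G} (h : Ext2 N M t) {M' : Subgroup G'} {t' : G'}
    (ψ : M →* M') {m : G} (hm : m ∈ M) : extFun M t M' t' ψ (t * m) = t' * ψ ⟨m, hm⟩ := by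
  unfold extFun
  have h1 : t⁻¹ * (t * m) ∈ M := by rwa [inv_mul_cancel_left]
  rw [dif_neg (h.tmul_not_mem hm), dif_pos h1]
  congr 3
  apply Subtype.ext
  exact inv_mul_cancel_left t m

/-- the extended homomorphism -/
theorem exists_ext_hom {N M : Subgroup G} {t : G} (h : Ext2 N M t)
    {N' M' : Subgroup G'} {t' : G'} (h' : Ext2 N' M' t') (ψ : M →* M')
    (h2 : ((ψ ⟨t * t, h.sq_mem⟩ : M') : G') = t' * t')
    (hc : ∀ (m : G) (hm : m ∈ M), ((ψ ⟨t * m * t⁻¹, h.conj_mem hm⟩ : M') : G') =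
      t' * (ψ ⟨m, hm⟩ : M') * t'⁻¹) :
    ∃ f : N →* N', (∀ (m : G) (hm : m ∈ M), ((f ⟨m, h.le hm⟩ : N') : G') = ψ ⟨m, hm⟩) ∧
      (∀ (m : G) (hm : m ∈ M), ((f ⟨t * m, h.tmul_mem hm⟩ : N') : G') = t' * ψ ⟨m, hm⟩) := by
  -- conjugation by t⁻¹
  have hc' : ∀ (m : G) (hm : m ∈ M), ((ψ ⟨t⁻¹ * m * t, h.conj_mem' hm⟩ : M') : G') =
      t'⁻¹ * (ψ ⟨m, hm⟩ : M') * t' := by
    intro m hm
    have h3 := hc (t⁻¹ * m * t) (h.conj_mem' hm)
    have h4 : (⟨t * (t⁻¹ * m * t) * t⁻¹, h.conj_mem (h.conj_mem' hm)⟩ : M) = ⟨m, hm⟩ := by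
      apply Subtype.ext
      show t * (t⁻¹ * m * t) * t⁻¹ = m
      group
    rw [h4] at h3
    rw [h3]; group
  have hmul : ∀ (a b : G) (ha : a ∈ M) (hb : b ∈ M),
      ((ψ ⟨a * b, M.mul_mem ha hb⟩ : M') : G') = (ψ ⟨a, ha⟩ : M') * (ψ ⟨b, hb⟩ : M') := by
    intro a b ha hb
    have : (⟨a * b, M.mul_mem ha hb⟩ : M) = ⟨a, ha⟩ * ⟨b, hb⟩ := rfl
    rw [this, map_mul, Subgroup.coe_mul]
  set F := extFun M t M' t' ψ with hF
  have hFmul : ∀ q₁ ∈ N, ∀ q₂ ∈ N, F (q₁ * q₂) = F q₁ * F q₂ := by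
    intro q₁ hq₁ q₂ hq₂
    rcases (h.mem_iff q₁).mp hq₁ with h3 | h3 <;> rcases (h.mem_iff q₂).mp hq₂ with h4 | h4
    · rw [hF, extFun_mem ψ (M.mul_mem h3 h4), extFun_mem ψ h3, extFun_mem ψ h4, hmul _ _ h3 h4]
    · -- q₁ ∈ M, q₂ = t m₂
      have e : q₁ * q₂ = t * ((t⁻¹ * q₁ * t) * (t⁻¹ * q₂)) := by group
      have e2 : q₂ = t * (t⁻¹ * q₂) := by group
      rw [e]
      conv_rhs => rw [e2]
      rw [hF, extFun_tmul h ψ (M.mul_mem (h.conj_mem' h3) h4), extFun_mem ψ h3,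
        extFun_tmul h ψ h4, hmul _ _ (h.conj_mem' h3) h4, hc' q₁ h3]
      group
    · -- q₁ = t m₁, q₂ ∈ M
      have e : q₁ * q₂ = t * ((t⁻¹ * q₁) * q₂) := by group
      have e1 : q₁ = t * (t⁻¹ * q₁) := by group
      rw [e]
      conv_rhs => rw [e1]
      rw [hF, extFun_tmul h ψ (M.mul_mem h3 h4), extFun_tmul h ψ h3, extFun_mem ψ h4,
        hmul _ _ h3 h4]
      group
    · -- both in tM
      have e : q₁ * q₂ = (t * t) * ((t⁻¹ * (t⁻¹ * q₁) * t) * (t⁻¹ * q₂)) := by group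
      have e1 : q₁ = t * (t⁻¹ * q₁) := by group
      have e2 : q₂ = t * (t⁻¹ * q₂) := by group
      rw [e]
      conv_rhs => rw [e1, e2]
      rw [hF, extFun_mem ψ (M.mul_mem h.sq_mem (M.mul_mem (h.conj_mem' h3) h4)),
        extFun_tmul h ψ h3, extFun_tmul h ψ h4,
        hmul _ _ h.sq_mem (M.mul_mem (h.conj_mem' h3) h4), hmul _ _ (h.conj_mem' h3) h4, h2,
        hc' _ h3]
      group
  have hFmem : ∀ q ∈ N, F q ∈ N' := by
    intro q hq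
    rcases (h.mem_iff q).mp hq with h3 | h3
    · rw [hF, extFun_mem ψ h3]
      exact h'.le (ψ ⟨q, h3⟩).2
    · have e1 : q = t * (t⁻¹ * q) := by group
      rw [e1, hF, extFun_tmul h ψ h3]
      exact h'.tmul_mem (ψ ⟨_, h3⟩).2
  have hF1 : F 1 = 1 := by
    rw [hF, extFun_mem ψ M.one_mem]
    have : (⟨1, M.one_mem⟩ : M) = 1 := rfl
    rw [this, map_one, Subgroup.coe_one]
  refine ⟨{ toFun := fun q => ⟨F q.1, hFmem q.1 q.2⟩
            map_one' := Subtype.ext hF1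
            map_mul' := fun a b => Subtype.ext (hFmul a.1 a.2 b.1 b.2) }, ?_, ?_⟩
  · intro m hm
    show F m = _
    rw [hF, extFun_mem ψ hm]
  · intro m hm
    show F (t * m) = _
    rw [hF, extFun_tmul h ψ hm]

/-- extending an isomorphism over a subgroup of index two -/
theorem exists_ext_equiv {N M : Subgroup G} {t : G} (h : Ext2 N M t)
    {N' M' : Subgroup G'} {t' : G'} (h' : Ext2 N' M' t') (ψ : M ≃* M')
    (h2 : ((ψ ⟨t * t, h.sq_mem⟩ : M') : G') = t' * t')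
    (hc : ∀ (m : G) (hm : m ∈ M), ((ψ ⟨t * m * t⁻¹, h.conj_mem hm⟩ : M') : G') =
      t' * (ψ ⟨m, hm⟩ : M') * t'⁻¹) :
    ∃ f : N ≃* N', (∀ (m : G) (hm : m ∈ M), ((f ⟨m, h.le hm⟩ : N') : G') = ψ ⟨m, hm⟩) ∧
      (∀ (m : G) (hm : m ∈ M), ((f ⟨t * m, h.tmul_mem hm⟩ : N') : G') = t' * ψ ⟨m, hm⟩) := by
  obtain ⟨f, hf1, hf2⟩ := exists_ext_hom h h' ψ.toMonoidHom h2 hc
  have h2' : ((ψ.symm.toMonoidHom ⟨t' * t', h'.sq_mem⟩ : M) : G) = t * t := by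
    have : (⟨t' * t', h'.sq_mem⟩ : M') = ψ ⟨t * t, h.sq_mem⟩ := Subtype.ext h2.symm
    rw [this]
    show ((ψ.symm (ψ ⟨t * t, h.sq_mem⟩) : M) : G) = t * t
    rw [MulEquiv.symm_apply_apply]
  have hc2 : ∀ (m : G') (hm : m ∈ M'),
      ((ψ.symm.toMonoidHom ⟨t' * m * t'⁻¹, h'.conj_mem hm⟩ : M) : G) =
      t * (ψ.symm.toMonoidHom ⟨m, hm⟩ : M) * t⁻¹ := by
    intro m hm
    have h3 := hc (ψ.symm ⟨m, hm⟩).1 (ψ.symm ⟨m, hm⟩).2
    have h4 : (⟨(ψ.symm ⟨m, hm⟩).1, (ψ.symm ⟨m, hm⟩).2⟩ : M) = ψ.symm ⟨m, hm⟩ := rfl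
    rw [h4, MulEquiv.apply_symm_apply] at h3
    have : (⟨t' * m * t'⁻¹, h'.conj_mem hm⟩ : M') =
        ψ ⟨t * (ψ.symm ⟨m, hm⟩).1 * t⁻¹, h.conj_mem (ψ.symm ⟨m, hm⟩).2⟩ := Subtype.ext h3.symm
    rw [this]
    show ((ψ.symm (ψ _) : M) : G) = _
    rw [MulEquiv.symm_apply_apply]
    rfl
  obtain ⟨g, hg1, hg2⟩ := exists_ext_hom h' h ψ.symm.toMonoidHom h2' hc2
  have hgf : ∀ q : N, g (f q) = q := by
    rintro ⟨q, hq⟩
    apply Subtype.ext
    rcases (h.mem_iff q).mp hq with h3 | h3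
    · have e1 : f ⟨q, hq⟩ = ⟨(ψ ⟨q, h3⟩ : M'), h'.le (ψ ⟨q, h3⟩).2⟩ := Subtype.ext (hf1 q h3)
      rw [e1, hg1 _ (ψ ⟨q, h3⟩).2]
      show ((ψ.symm (ψ ⟨q, h3⟩) : M) : G) = q
      rw [MulEquiv.symm_apply_apply]
    · have e0 : (⟨q, hq⟩ : N) = ⟨t * (t⁻¹ * q), h.tmul_mem h3⟩ := by
        apply Subtype.ext
        show q = t * (t⁻¹ * q)
        group
      have e1 : f ⟨q, hq⟩ = ⟨t' * (ψ ⟨t⁻¹ * q, h3⟩ : M'), h'.tmul_mem (ψ ⟨_, h3⟩).2⟩ := by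
        rw [e0]
        exact Subtype.ext (hf2 _ h3)
      rw [e1, hg2 _ (ψ ⟨_, h3⟩).2]
      show t * ((ψ.symm (ψ ⟨t⁻¹ * q, h3⟩) : M) : G) = q
      rw [MulEquiv.symm_apply_apply]
      show t * (t⁻¹ * q) = q
      group
  have hfg : ∀ q : N', f (g q) = q := by
    rintro ⟨q, hq⟩
    apply Subtype.ext
    rcases (h'.mem_iff q).mp hq with h3 | h3
    · have e1 : g ⟨q, hq⟩ = ⟨(ψ.symm ⟨q, h3⟩ : M), h.le (ψ.symm ⟨q, h3⟩).2⟩ :=
        Subtype.ext (hg1 q h3)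
      rw [e1, hf1 _ (ψ.symm ⟨q, h3⟩).2]
      show ((ψ (ψ.symm ⟨q, h3⟩) : M') : G') = q
      rw [MulEquiv.apply_symm_apply]
    · have e0 : (⟨q, hq⟩ : N') = ⟨t' * (t'⁻¹ * q), h'.tmul_mem h3⟩ := by
        apply Subtype.ext
        show q = t' * (t'⁻¹ * q)
        group
      have e1 : g ⟨q, hq⟩ = ⟨t * (ψ.symm ⟨t'⁻¹ * q, h3⟩ : M), h.tmul_mem (ψ.symm ⟨_, h3⟩).2⟩ := by
        rw [e0]
        exact Subtype.ext (hg2 _ h3)
      rw [e1, hf2 _ (ψ.symm ⟨_, h3⟩).2]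
      show t' * ((ψ (ψ.symm ⟨t'⁻¹ * q, h3⟩) : M') : G') = q
      rw [MulEquiv.apply_symm_apply]
      show t' * (t'⁻¹ * q) = q
      group
  refine ⟨{ toFun := f, invFun := g, left_inv := hgf, right_inv := hfg, map_mul' := f.map_mul }, ?_, ?_⟩
  · intro m hm
    exact hf1 m hm
  · intro m hm
    exact hf2 m hm

end ext

section glue

variable {G G' : Type*} [Group G] [Group G']

namespace Data

variable {Q : Subgroup G} {z : G}

theorem ext2_inner (h : Data Q z) {u v : G} (hu : u ∈ Q) (hv : v ∈ Q) (huv : cm u v = z) :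
    Ext2 (Q ⊓ Subgroup.centralizer {u}) (cent2 Q u v) u := by
  have huN : u ∈ Q ⊓ Subgroup.centralizer {u} := by
    rw [Subgroup.mem_inf, Subgroup.mem_centralizer_singleton_iff]
    exact ⟨hu, rfl⟩
  exact ⟨h.mem_iff_coset inf_le_left hv huN huv, h.not_mem_cent2 huv⟩

theorem ext2_outer (h : Data Q z) {u v : G} (hu : u ∈ Q) (hv : v ∈ Q) (huv : cm u v = z) :
    Ext2 Q (Q ⊓ Subgroup.centralizer {u}) v := by
  have hvu : cm v u = z := by rw [h.cm_symm hv hu]; exact huv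
  refine ⟨h.mem_iff_coset le_rfl hu hv hvu, ?_⟩
  intro h1
  rw [Subgroup.mem_inf, Subgroup.mem_centralizer_singleton_iff, ← cm_eq_one_iff, hvu] at h1
  exact h.z_ne h1.2

theorem sq_eq_z (h : Data Q z) {a : G} (ha : a ∈ Q) (h1 : a * a ≠ 1) : a * a = z := by
  rcases h.sq_mem a ha with h2 | h2
  · exact absurd h2 h1
  · exact h2

end Data

/-- an element given with two membership proofs -/
theorem val_congr {N : Subgroup G} {X : Type*} (f : N → X) {a b : G} (hab : a = b) (ha : a ∈ N)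
    (hb : b ∈ N) : f ⟨a, ha⟩ = f ⟨b, hb⟩ := by
  subst hab; rfl

/-- gluing an isomorphism of the centralizers of two pairs of the same kind -/
theorem glue {Q : Subgroup G} {z : G} (h : Data Q z) {Q' : Subgroup G'} {z' : G'} (h' : Data Q' z')
    {u v : G} (hu : u ∈ Q) (hv : v ∈ Q) (huv : cm u v = z)
    {u' v' : G'} (hu' : u' ∈ Q') (hv' : v' ∈ Q') (huv' : cm u' v' = z')
    (hsu : u * u = 1 ↔ u' * u' = 1) (hsv : v * v = 1 ↔ v' * v' = 1)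
    (ψ : cent2 Q u v ≃* cent2 Q' u' v')
    (hψ : ((ψ ⟨z, h.z_mem_cent2 hu hv⟩ : cent2 Q' u' v') : G') = z') :
    ∃ φ : Q ≃* Q', ((φ ⟨z, h.zQ⟩ : Q') : G') = z' := by
  have hvu : cm v u = z := by rw [h.cm_symm hv hu]; exact huv
  have hvu' : cm v' u' = z' := by rw [h'.cm_symm hv' hu']; exact huv'
  have hψ1 : ∀ (hm : (1 : G) ∈ cent2 Q u v), ((ψ ⟨1, hm⟩ : cent2 Q' u' v') : G') = 1 := by
    intro hm
    have : (⟨1, hm⟩ : cent2 Q u v) = 1 := rfl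
    rw [this, map_one, Subgroup.coe_one]
  have hψmul : ∀ (a b : G) (ha : a ∈ cent2 Q u v) (hb : b ∈ cent2 Q u v),
      ((ψ ⟨a * b, Subgroup.mul_mem _ ha hb⟩ : cent2 Q' u' v') : G') = (ψ ⟨a, ha⟩ : cent2 Q' u' v') *
        (ψ ⟨b, hb⟩ : cent2 Q' u' v') := by
    intro a b ha hb
    have : (⟨a * b, Subgroup.mul_mem _ ha hb⟩ : cent2 Q u v) = ⟨a, ha⟩ * ⟨b, hb⟩ := rfl
    rw [this, map_mul, Subgroup.coe_mul]
  -- squares of elements with matching type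
  have hsq : ∀ (a : G) (a' : G') (ha : a ∈ Q) (ha' : a' ∈ Q') (hs : a * a = 1 ↔ a' * a' = 1)
      (hm : a * a ∈ cent2 Q u v), ((ψ ⟨a * a, hm⟩ : cent2 Q' u' v') : G') = a' * a' := by
    intro a a' ha ha' hs hm
    by_cases h1 : a * a = 1
    · rw [val_congr (fun x => ((ψ x : cent2 Q' u' v') : G')) h1 hm (Subgroup.one_mem _), hψ1,
        hs.mp h1]
    · have h2 := h.sq_eq_z ha h1
      have h3 := h'.sq_eq_z ha' (fun h4 => h1 (hs.mpr h4))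
      rw [val_congr (fun x => ((ψ x : cent2 Q' u' v') : G')) h2 hm (h.z_mem_cent2 hu hv), hψ, h3]
  have E1 := h.ext2_inner hu hv huv
  have E1' := h'.ext2_inner hu' hv' huv'
  obtain ⟨φ₁, hφ1, hφ2⟩ := exists_ext_equiv E1 E1' ψ (hsq u u' hu hu' hsu _) (by
    intro m hm
    obtain ⟨-, hmu, -⟩ := mem_cent2.mp hm
    have e1 : u * m * u⁻¹ = m := by rw [← hmu, mul_inv_cancel_right]
    rw [val_congr (fun x => ((ψ x : cent2 Q' u' v') : G')) e1 _ hm]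
    obtain ⟨-, hmu', -⟩ := mem_cent2.mp (ψ ⟨m, hm⟩).2
    rw [← hmu', mul_inv_cancel_right])
  have E2 := h.ext2_outer hu hv huv
  have E2' := h'.ext2_outer hu' hv' huv'
  have hφz : ∀ (hm : z ∈ Q ⊓ Subgroup.centralizer {u}),
      ((φ₁ ⟨z, hm⟩ : (Q' ⊓ Subgroup.centralizer {u'} : Subgroup G')) : G') = z' := by
    intro hm
    rw [← hψ]
    exact hφ1 z (h.z_mem_cent2 hu hv)
  obtain ⟨φ, hφ3, -⟩ := exists_ext_equiv E2 E2' φ₁ (by
    have hm : v * v ∈ cent2 Q u v := by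
      rcases h.sq_mem v hv with h1 | h1 <;> rw [h1]
      · exact Subgroup.one_mem _
      · exact h.z_mem_cent2 hu hv
    have := hφ1 (v * v) hm
    rw [hsq v v' hv hv' hsv hm] at this
    exact this) (by
    intro m hm
    rcases (E1.mem_iff m).mp hm with h1 | h1
    · -- m ∈ cent2
      obtain ⟨-, -, hmv⟩ := mem_cent2.mp h1
      have e1 : v * m * v⁻¹ = m := by rw [← hmv, mul_inv_cancel_right]
      rw [val_congr (fun x => ((φ₁ x : (Q' ⊓ Subgroup.centralizer {u'} : Subgroup G')) : G')) e1 _ hm]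
      have e2 := hφ1 m h1
      rw [e2]
      obtain ⟨-, -, hmv'⟩ := mem_cent2.mp (ψ ⟨m, h1⟩).2
      rw [← hmv', mul_inv_cancel_right]
    · -- m = u c
      obtain ⟨hcQ, hcu, hcv⟩ := mem_cent2.mp h1
      have hzc : z * (u⁻¹ * m) ∈ cent2 Q u v := Subgroup.mul_mem _ (h.z_mem_cent2 hu hv) h1
      have e1 : v * m * v⁻¹ = u * (z * (u⁻¹ * m)) := by
        have e3 : v * u * v⁻¹ = z * u := by
          rw [← hvu]; unfold cm; group
        have e4 : v * (u⁻¹ * m) * v⁻¹ = u⁻¹ * m := by rw [← hcv, mul_inv_cancel_right]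
        calc v * m * v⁻¹ = (v * u * v⁻¹) * (v * (u⁻¹ * m) * v⁻¹) := by group
          _ = z * u * (u⁻¹ * m) := by rw [e3, e4]
          _ = u * z * (u⁻¹ * m) := by rw [h.z_comm u hu]
          _ = u * (z * (u⁻¹ * m)) := by group
      rw [val_congr (fun x => ((φ₁ x : (Q' ⊓ Subgroup.centralizer {u'} : Subgroup G')) : G')) e1 _
        (E1.tmul_mem hzc), hφ2 _ hzc, hψmul _ _ (h.z_mem_cent2 hu hv) h1, hψ]
      have e5 : m = u * (u⁻¹ * m) := by group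
      rw [val_congr (fun x => ((φ₁ x : (Q' ⊓ Subgroup.centralizer {u'} : Subgroup G')) : G')) e5 hm
        (E1.tmul_mem h1), hφ2 _ h1]
      obtain ⟨hcQ', -, hcv'⟩ := mem_cent2.mp (ψ ⟨u⁻¹ * m, h1⟩).2
      have e3' : v' * u' * v'⁻¹ = z' * u' := by
        rw [← hvu']; unfold cm; group
      have e4' : v' * ((ψ ⟨u⁻¹ * m, h1⟩ : cent2 Q' u' v') : G') * v'⁻¹ =
          ((ψ ⟨u⁻¹ * m, h1⟩ : cent2 Q' u' v') : G') := by rw [← hcv', mul_inv_cancel_right]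
      calc u' * (z' * ((ψ ⟨u⁻¹ * m, h1⟩ : cent2 Q' u' v') : G'))
          = (u' * z') * ((ψ ⟨u⁻¹ * m, h1⟩ : cent2 Q' u' v') : G') := by group
        _ = (z' * u') * ((ψ ⟨u⁻¹ * m, h1⟩ : cent2 Q' u' v') : G') := by rw [h'.z_comm u' hu']
        _ = (v' * u' * v'⁻¹) * (v' * ((ψ ⟨u⁻¹ * m, h1⟩ : cent2 Q' u' v') : G') * v'⁻¹) := by
            rw [e3', e4']
        _ = v' * (u' * ((ψ ⟨u⁻¹ * m, h1⟩ : cent2 Q' u' v') : G')) * v'⁻¹ := by group)
  refine ⟨φ, ?_⟩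
  have hzN : z ∈ Q ⊓ Subgroup.centralizer {u} := E1.le (h.z_mem_cent2 hu hv)
  rw [← hφz hzN]
  exact hφ3 z hzN

end glue

end Cfsg.Agent.Lib.Helper4.ES2
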