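import Cfsg.Agent.Lib.Helper4.ES2F

/-!
# Extraspecial 2-groups (part G): both types occur
-/

set_option autoImplicit false

namespace Cfsg.Agent.Lib.Helper4.ES2

open QuaternionGroup

abbrev Q8 := QuaternionGroup 2

theorem q1 : ∀ d d' : Q8, cm d d' = 1 ∨ cm d d' = a 2 := by unfold cm; decide
theorem q2 : ∀ d : Q8, d * d = 1 ∨ d * d = a 2 := by decide
theorem q3 : ∀ d : Q8, (∀ d' : Q8, cm d' d = 1) → d = 1 ∨ d = a 2 := by unfold cm; decide
theorem q4 : ∀ d : Q8, d * a 2 = a 2 * d := by decide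
theorem q5 : cm (a 1 : Q8) (xa 0) = a 2 := by unfold cm; decide
theorem q6 : ∀ d : Q8, d * d = 1 → d = 1 ∨ d = a 2 := by decide
theorem q7 : (a 2 : Q8) ≠ 1 ∧ (a 2 : Q8) * a 2 = 1 := by decide
theorem m1 : ∀ x : Multiplicative (ZMod 2), x = 1 ∨ x = Multiplicative.ofAdd 1 := by decide
theorem m2 : (Multiplicative.ofAdd 1 : Multiplicative (ZMod 2)) ≠ 1 ∧
    (Multiplicative.ofAdd 1 : Multiplicative (ZMod 2)) * Multiplicative.ofAdd 1 = 1 := by decide

theorem data_Q8 : Data (⊤ : Subgroup Q8) (a 2) := by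
  refine ⟨Subgroup.mem_top _, q7.1, q7.2, fun q _ => q4 q, ?_, fun x _ y _ => q1 x y, fun x _ => q2 x⟩
  intro c _ hc
  apply q3
  intro d'
  exact cm_eq_one_iff.mpr (hc d' (Subgroup.mem_top _))

theorem data_C2 : Data (⊤ : Subgroup (Multiplicative (ZMod 2))) (Multiplicative.ofAdd 1) := by
  refine ⟨Subgroup.mem_top _, m2.1, m2.2, fun q _ => mul_comm _ _, fun c _ _ => m1 c, ?_,
    fun x _ => ?_⟩
  · intro x _ y _
    left
    exact cm_eq_one_iff.mpr (mul_comm _ _)
  · rcases m1 x with rfl | rfl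
    · left; exact one_mul 1
    · left; exact m2.2

/-- plus type of every order -/
theorem chain_plus : ∀ n : ℕ, ∃ (E : Type) (_ : Group E) (_ : Finite E) (z : E),
    Data (⊤ : Subgroup E) z ∧ Nat.card E = 2 ^ (2 * n + 1) ∧ RkLE (n + 1) (⊤ : Subgroup E) ∧
      ¬ RkLE n (⊤ : Subgroup E) ∧ (1 ≤ n → ∃ a b : E, cm a b = z) := by
  intro n
  induction n with
  | zero =>
    have hc : Nat.card (Multiplicative (ZMod 2)) = 2 := by rw [Nat.card_eq_fintype_card]; rfl
    refine ⟨Multiplicative (ZMod 2), inferInstance, inferInstance, _, data_C2, by simpa using hc,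
      Data.rk_of_card (by rw [card_top, hc]; norm_num), data_C2.not_rk_zero, fun h => by omega⟩
  | succ n ih =>
    obtain ⟨C, _, _, zC, hD, hcard, hr1, hr2, -⟩ := ih
    obtain ⟨T, _, _, zT, hDT, hna, hcardT, hrk⟩ := step C zC hD
    refine ⟨T, inferInstance, inferInstance, zT, hDT, ?_, (hrk _).mpr hr1,
      fun h => hr2 ((hrk _).mp h), fun _ => hna⟩
    rw [hcardT, hcard]
    ring

/-- minus type of every order -/
theorem chain_minus : ∀ n : ℕ, 1 ≤ n → ∃ (E : Type) (_ : Group E) (_ : Finite E) (z : E),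
    Data (⊤ : Subgroup E) z ∧ Nat.card E = 2 ^ (2 * n + 1) ∧ RkLE n (⊤ : Subgroup E) ∧
      ¬ RkLE (n - 1) (⊤ : Subgroup E) ∧ ∃ a b : E, cm a b = z := by
  intro n hn
  induction n, hn using Nat.le_induction with
  | base =>
    have hc : Nat.card Q8 = 8 := by rw [Nat.card_eq_fintype_card, QuaternionGroup.card]
    refine ⟨Q8, inferInstance, inferInstance, _, data_Q8, by simpa using hc,
      data_Q8.rk_of_inv (fun q _ hqq => q6 q hqq), data_Q8.not_rk_zero, _, _, q5⟩
  | succ n hn ih =>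
    obtain ⟨C, _, _, zC, hD, hcard, hr1, hr2, -⟩ := ih
    obtain ⟨T, _, _, zT, hDT, hna, hcardT, hrk⟩ := step C zC hD
    refine ⟨T, inferInstance, inferInstance, zT, hDT, ?_, (hrk _).mpr hr1, ?_, hna⟩
    · rw [hcardT, hcard]
      ring
    · intro h
      apply hr2
      have h1 : n + 1 - 1 = (n - 1) + 1 := by omega
      rw [h1] at h
      exact (hrk _).mp h

/-- the supremum of the ranks of elementary abelian subgroups, from the two rank conditions -/
theorem sSup_rank {E : Type*} [Group E] [Finite E] (r : ℕ) (hr : 1 ≤ r)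
    (h1 : RkLE r (⊤ : Subgroup E)) (h2 : ¬ RkLE (r - 1) (⊤ : Subgroup E)) :
    sSup {k : ℕ | ∃ A : Subgroup E, Cfsg.IsElementaryAbelian 2 A ∧ Nat.card A = 2 ^ k} = r := by
  apply IsGreatest.csSup_eq
  constructor
  · unfold RkLE at h2
    push Not at h2
    obtain ⟨A, -, hc, hs, hlt⟩ := h2
    have hp : IsPGroup 2 A := by
      intro x
      refine ⟨1, ?_⟩
      apply Subtype.ext
      rw [pow_one, pow_two, Subgroup.coe_mul, Subgroup.coe_one]
      exact hs x.1 x.2
    haveI : Fact (Nat.Prime 2) := ⟨Nat.prime_two⟩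
    obtain ⟨j, hj⟩ := IsPGroup.iff_card.mp hp
    have h3 := h1 A le_top hc hs
    rw [hj] at h3 hlt
    have h4 : j ≤ r := (Nat.pow_le_pow_iff_right (by norm_num)).mp h3
    have h5 : r - 1 < j := (Nat.pow_lt_pow_iff_right (by norm_num)).mp hlt
    have h6 : j = r := by omega
    refine ⟨A, ⟨⟨⟨fun x y => Subtype.ext (hc x x.2 y y.2)⟩⟩, fun x hx => ?_⟩, by rw [hj, h6]⟩
    rw [pow_two]
    exact hs x hx
  · rintro k ⟨A, ⟨hA, hs⟩, hk⟩
    have h3 := h1 A le_top (fun x hx y hy => congrArg Subtype.val (hA.is_comm.comm ⟨x, hx⟩ ⟨y, hy⟩))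
      (fun x hx => by rw [← pow_two]; exact hs x hx)
    rw [hk] at h3
    exact (Nat.pow_le_pow_iff_right (by norm_num)).mp h3

theorem S5396 (n : ℕ) (hn : 1 ≤ n) : ∀ r ∈ ({n, n + 1} : Set ℕ),
    ∃ (E : Type) (_ : Group E) (_ : Finite E), Cfsg.IsExtraspecial 2 E ∧
      Nat.card E = 2 ^ (2 * n + 1) ∧
      sSup {k : ℕ | ∃ A : Subgroup E, Cfsg.IsElementaryAbelian 2 A ∧ Nat.card A = 2 ^ k} = r := by
  intro r hr
  rcases hr with rfl | hr
  · obtain ⟨E, _, _, z, hD, hcard, hr1, hr2, hna⟩ := chain_minus r hn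
    exact ⟨E, inferInstance, inferInstance, extraspecial_of_data_top hD hna, hcard,
      sSup_rank r hn hr1 hr2⟩
  · rw [Set.mem_singleton_iff] at hr
    subst hr
    obtain ⟨E, _, _, z, hD, hcard, hr1, hr2, hna⟩ := chain_plus n
    exact ⟨E, inferInstance, inferInstance, extraspecial_of_data_top hD (hna hn), hcard,
      sSup_rank (n + 1) (by omega) hr1 (by simpa using hr2)⟩

end Cfsg.Agent.Lib.Helper4.ES2
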