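import Mathlib

/-! Conjugation action on a normal elementary abelian subgroup as a matrix representation. -/

namespace Cfsg.Agent.Lib.Helper4.ElemAbGL

theorem exists_gl_hom_of_end {H : Type*} [Group H] (p e : ℕ) [hp : Fact p.Prime]
    {V : Type*} [AddCommGroup V] [Finite V] [Module (ZMod p) V]
    (hcard : Nat.card V = p ^ e) (ρ₀ : H →* Module.End (ZMod p) V) :
    ∃ φ : H →* GL (Fin e) (ZMod p), ∀ h, φ h = 1 ↔ ρ₀ h = 1 := by
  classical
  haveI : Module.Finite (ZMod p) V := Module.Finite.of_finite
  have hrank : Module.finrank (ZMod p) V = e := by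
    have h1 := Module.natCard_eq_pow_finrank (K := ZMod p) (V := V)
    rw [hcard, Nat.card_zmod] at h1
    exact (Nat.pow_right_injective hp.out.two_le h1).symm
  let b : Module.Basis (Fin e) (ZMod p) V := Module.finBasisOfFinrankEq _ _ hrank
  let ρ : H →* (Module.End (ZMod p) V)ˣ := ρ₀.toHomUnits
  let E : (Module.End (ZMod p) V)ˣ ≃* GL (Fin e) (ZMod p) :=
    Units.mapEquiv (LinearMap.toMatrixAlgEquiv b).toMulEquiv
  refine ⟨E.toMonoidHom.comp ρ, ?_⟩
  intro h
  rw [MonoidHom.comp_apply]
  have h1 : E.toMonoidHom (ρ h) = 1 ↔ ρ h = 1 := by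
    constructor
    · intro hh
      apply E.injective
      rw [map_one]
      exact hh
    · intro hh
      rw [hh, map_one]
  rw [h1]
  constructor
  · intro hh
    have := congrArg Units.val hh
    exact this
  · intro hh
    apply Units.ext
    exact hh

theorem exists_gl_hom_of_addAction {H : Type*} [Group H] (p e : ℕ) [hp : Fact p.Prime]
    {V : Type*} [AddCommGroup V] [Finite V] [Module (ZMod p) V]
    (hcard : Nat.card V = p ^ e) (cj : H → (V →+ V)) (h1 : ∀ v, cj 1 v = v)
    (hmul : ∀ g h v, cj (g * h) v = cj g (cj h v)) :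
    ∃ φ : H →* GL (Fin e) (ZMod p), ∀ h, φ h = 1 ↔ ∀ v, cj h v = v := by
  let ρ₀ : H →* Module.End (ZMod p) V :=
    { toFun := fun h => AddMonoidHom.toZModLinearMap p (cj h)
      map_one' := by
        apply LinearMap.ext
        intro v
        exact h1 v
      map_mul' := by
        intro g h
        apply LinearMap.ext
        intro v
        exact hmul g h v }
  obtain ⟨φ, hφ⟩ := exists_gl_hom_of_end p e hcard ρ₀
  refine ⟨φ, fun h => ?_⟩
  rw [hφ]
  constructor
  · intro hh v
    have := congrArg (fun f : Module.End (ZMod p) V => f v) hh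
    exact this
  · intro hh
    apply LinearMap.ext
    intro v
    exact hh v

theorem exists_gl_hom {H : Type*} [Group H] [Finite H] (N : Subgroup H) [hNn : N.Normal]
    (p e : ℕ) [hp : Fact p.Prime]
    (hcomm : ∀ a ∈ N, ∀ b ∈ N, a * b = b * a) (hexp : ∀ x ∈ N, x ^ p = 1)
    (hcard : Nat.card N = p ^ e)
    (hcent : ∀ c : H, (∀ n ∈ N, c * n = n * c) → c ∈ N) :
    ∃ φ : H →* GL (Fin e) (ZMod p), φ.ker = N := by
  classical
  letI : CommGroup N :=
    { (inferInstance : Group N) with
      mul_comm := fun a b => Subtype.ext (hcomm a.1 a.2 b.1 b.2) }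
  letI : Module (ZMod p) (Additive N) := AddCommGroup.zmodModule (by
    intro x
    change Additive.ofMul (x.toMul ^ p) = 0
    have : x.toMul ^ p = 1 := Subtype.ext (by
      have := hexp x.toMul.1 x.toMul.2
      simpa using this)
    rw [this]
    rfl)
  haveI : Finite (Additive N) := inferInstanceAs (Finite N)
  have hcardV : Nat.card (Additive N) = p ^ e := hcard
  -- conjugation as additive maps
  let cj : H → (Additive N →+ Additive N) := fun h =>
    { toFun := fun v => Additive.ofMul ⟨h * v.toMul.1 * h⁻¹, hNn.conj_mem _ v.toMul.2 h⟩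
      map_zero' := by
        apply congrArg Additive.ofMul
        apply Subtype.ext
        simp
      map_add' := by
        intro v w
        apply congrArg Additive.ofMul
        apply Subtype.ext
        change h * (v.toMul.1 * w.toMul.1) * h⁻¹ = (h * v.toMul.1 * h⁻¹) * (h * w.toMul.1 * h⁻¹)
        group }
  have hcj : ∀ h v, ((cj h v).toMul : H) = h * v.toMul.1 * h⁻¹ := fun h v => rfl
  obtain ⟨φ, hφ⟩ := exists_gl_hom_of_addAction p e hcardV cj
    (by
      intro v
      apply Additive.toMul.injective
      apply Subtype.ext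
      rw [hcj]
      simp)
    (by
      intro g h v
      apply Additive.toMul.injective
      apply Subtype.ext
      rw [hcj, hcj, hcj]
      group)
  refine ⟨φ, ?_⟩
  ext h
  rw [MonoidHom.mem_ker, hφ]
  constructor
  · intro hh
    apply hcent
    intro n hn
    have h3 := congrArg (fun v : Additive N => (v.toMul : H)) (hh (Additive.ofMul ⟨n, hn⟩))
    have h4 : h * n * h⁻¹ = n := h3
    calc h * n = h * n * h⁻¹ * h := by group
      _ = n * h := by rw [h4]
  · intro hh v
    apply Additive.toMul.injective
    apply Subtype.ext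
    rw [hcj]
    have := hcomm h hh v.toMul.1 v.toMul.2
    rw [this]
    simp

end Cfsg.Agent.Lib.Helper4.ElemAbGL
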