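import Mathlib
import Cfsg.Agent.Lib.Lead.UniqueP
import Cfsg.Agent.Lib.Helper2.PGroupNormal
import Cfsg.Agent.Lib.Helper1.GlaubermanRepl3

set_option autoImplicit false

/-!
# Finite `p`-groups in which subgroups of equal order are isomorphic

If any two subgroups of the same order of a finite `p`-group `P` are isomorphic, then `P` is
cyclic, elementary abelian, quaternion of order `8`, or non-abelian of order `p ^ 3` and
exponent `p` (`p` odd).
-/

namespace Cfsg.Agent.Lib.Helper4.EqOrdSyl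

open Cfsg.Agent.Lib.Lead.UniqueP Cfsg.Agent.Lib.Helper2 Cfsg.Agent.Lib.Helper1.GlaubermanRepl

/-- Subgroups of equal order are isomorphic. -/
def Hyp (P : Type*) [Group P] : Prop :=
  ∀ A B : Subgroup P, Nat.card A = Nat.card B → Nonempty (A ≃* B)

theorem Hyp.congr {P Q : Type*} [Group P] [Group Q] (h : Hyp P) (e : P ≃* Q) : Hyp Q := by
  intro A B hAB
  have eA : A.map e.symm.toMonoidHom ≃* A := (e.symm.subgroupMap A).symm
  have eB : B.map e.symm.toMonoidHom ≃* B := (e.symm.subgroupMap B).symm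
  have hc : Nat.card (A.map e.symm.toMonoidHom) = Nat.card (B.map e.symm.toMonoidHom) := by
    rw [Nat.card_congr eA.toEquiv, Nat.card_congr eB.toEquiv, hAB]
  obtain ⟨f⟩ := h _ _ hc
  exact ⟨eA.symm.trans (f.trans eB)⟩

section general

variable {P : Type*} [Group P]

/-- Commuting subgroups with trivial intersection. -/
theorem card_sup_of_commute [Finite P] (A B : Subgroup P)
    (hc : ∀ a ∈ A, ∀ b ∈ B, a * b = b * a) (hd : A ⊓ B = ⊥) :
    Nat.card (A ⊔ B : Subgroup P) = Nat.card A * Nat.card B := by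
  have hn : A ≤ Subgroup.normalizer (B : Set P) := by
    intro a ha
    rw [Subgroup.mem_normalizer_iff]
    intro b
    constructor
    · intro hb
      have : a * b * a⁻¹ = b := by rw [hc a ha b hb, mul_inv_cancel_right]
      rw [this]; exact hb
    · intro hb
      have h1 : a⁻¹ * (a * b * a⁻¹) * a = b := by group
      have h2 : a⁻¹ * (a * b * a⁻¹) * a = a * b * a⁻¹ := by
        have := hc a ha _ hb
        calc a⁻¹ * (a * b * a⁻¹) * a = a⁻¹ * ((a * b * a⁻¹) * a) := by group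
          _ = a⁻¹ * (a * (a * b * a⁻¹)) := by rw [this]
          _ = a * b * a⁻¹ := by group
      rw [← h1, h2]; exact hb
  have := card_sup_mul_card_inf_of_le_normalizer A B hn
  rw [hd, Subgroup.card_bot, mul_one] at this
  exact this

/-- A subgroup of prime order not contained in `E` meets `E` trivially. -/
theorem zpowers_inf_eq_bot {p : ℕ} [hp : Fact p.Prime] (E : Subgroup P) (x : P) (hx : x ^ p = 1)
    (hxE : x ∉ E) : Subgroup.zpowers x ⊓ E = ⊥ := by
  rw [eq_bot_iff]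
  intro g hg
  rw [Subgroup.mem_bot]
  by_contra hg1
  obtain ⟨hgx, hgE⟩ := Subgroup.mem_inf.mp hg
  have hx1 : x ≠ 1 := fun h => hxE (h ▸ one_mem _)
  have ox : orderOf x = p := orderOf_eq_prime hx hx1
  have hgp : g ^ p = 1 := by
    obtain ⟨k, rfl⟩ := Subgroup.mem_zpowers_iff.mp hgx
    rw [← zpow_natCast (x ^ k) p, ← zpow_mul, mul_comm, zpow_mul, zpow_natCast, hx, one_zpow]
  have og : orderOf g = p := orderOf_eq_prime hgp hg1
  have hle : Subgroup.zpowers g ≤ Subgroup.zpowers x := Subgroup.zpowers_le.mpr hgx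
  have heq : Subgroup.zpowers g = Subgroup.zpowers x := by
    have : Finite (Subgroup.zpowers x) :=
      Nat.finite_of_card_ne_zero (by rw [Nat.card_zpowers, ox]; exact hp.out.ne_zero)
    apply Subgroup.eq_of_le_of_card_ge hle
    rw [Nat.card_zpowers, Nat.card_zpowers, ox, og]
  have : x ∈ Subgroup.zpowers g := heq ▸ Subgroup.mem_zpowers x
  exact hxE (Subgroup.zpowers_le.mpr hgE this)

end general

section pgroup

variable {P : Type*} [Group P] [Finite P] {p : ℕ} [hp : Fact p.Prime]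

/-- Under `Hyp`, a subgroup not larger than a commutative subgroup is commutative. -/
theorem comm_of_card_le (hP : IsPGroup p P) (h : Hyp P) (A K : Subgroup P)
    (hA : ∀ a ∈ A, ∀ b ∈ A, a * b = b * a) (hle : Nat.card K ≤ Nat.card A) :
    ∀ a ∈ K, ∀ b ∈ K, a * b = b * a := by
  obtain ⟨j, hj⟩ := IsPGroup.iff_card.mp (hP.to_subgroup K)
  obtain ⟨m, hm⟩ := IsPGroup.iff_card.mp (hP.to_subgroup A)
  have hjm : j ≤ m := by
    rw [hj, hm] at hle
    exact (Nat.pow_le_pow_iff_right hp.out.one_lt).mp hle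
  have hdvd : p ^ j ∣ Nat.card A := by rw [hm]; exact pow_dvd_pow p hjm
  obtain ⟨A', hA'⟩ := Sylow.exists_subgroup_card_pow_prime p hdvd
  have hc : Nat.card K = Nat.card (A'.map A.subtype) := by
    rw [Subgroup.card_map_of_injective A.subtype_injective, hA', hj]
  obtain ⟨e⟩ := h K (A'.map A.subtype) hc
  intro a ha b hb
  have hcomm : ∀ u v : A'.map A.subtype, u * v = v * u := by
    intro u v
    obtain ⟨u', _, hu'⟩ := Subgroup.mem_map.mp u.2
    obtain ⟨v', _, hv'⟩ := Subgroup.mem_map.mp v.2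
    apply Subtype.ext
    rw [Subgroup.coe_mul, Subgroup.coe_mul, ← hu', ← hv']
    exact hA _ u'.2 _ v'.2
  have h1 : e (⟨a, ha⟩ * ⟨b, hb⟩) = e (⟨b, hb⟩ * ⟨a, ha⟩) := by
    rw [map_mul, map_mul, hcomm]
  have h2 := e.injective h1
  exact congrArg Subtype.val h2

/-- An element of order `p ^ 2`. -/
theorem exists_orderOf_sq (hP : IsPGroup p P) (w : P) (hw : w ^ p ≠ 1) :
    ∃ y : P, orderOf y = p ^ 2 := by
  obtain ⟨k, hk⟩ := IsPGroup.iff_orderOf.mp hP w
  have hk2 : 2 ≤ k := by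
    by_contra hlt
    have : k ≤ 1 := by omega
    apply hw
    apply orderOf_dvd_iff_pow_eq_one.mp
    rw [hk]
    calc p ^ k ∣ p ^ 1 := pow_dvd_pow p this
      _ = p := pow_one p
  refine ⟨w ^ (p ^ (k - 2)), ?_⟩
  rw [orderOf_pow_of_dvd (pow_ne_zero _ hp.out.ne_zero) (by rw [hk]; exact pow_dvd_pow p (by omega)),
    hk]
  rw [Nat.pow_div (by omega) hp.out.pos]
  congr 1; omega

/-- In case some element has order `p ^ 2`, every subgroup of order `p ^ 2` has such an element. -/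
theorem exists_orderOf_sq_mem (hP : IsPGroup p P) (h : Hyp P) (w : P) (hw : w ^ p ≠ 1)
    (K : Subgroup P) (hK : Nat.card K = p ^ 2) : ∃ g ∈ K, orderOf g = p ^ 2 := by
  obtain ⟨y, hy⟩ := exists_orderOf_sq hP w hw
  obtain ⟨e⟩ := h (Subgroup.zpowers y) K (by rw [Nat.card_zpowers, hy, hK])
  refine ⟨(e ⟨y, Subgroup.mem_zpowers y⟩ : P), (e _).2, ?_⟩
  rw [Subgroup.orderOf_coe, MulEquiv.orderOf_eq, ← Subgroup.orderOf_coe]
  exact hy

/-- Key step: elements of order `p` lie in the group generated by a central one. -/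
theorem mem_zpowers_central (hP : IsPGroup p P) (h : Hyp P) (w : P) (hw : w ^ p ≠ 1)
    (z : P) (hz : z ∈ Subgroup.center P) (oz : orderOf z = p) (x : P) (hx : x ^ p = 1) :
    x ∈ Subgroup.zpowers z := by
  by_contra hxz
  have hx1 : x ≠ 1 := fun h => hxz (h ▸ one_mem _)
  have ox : orderOf x = p := orderOf_eq_prime hx hx1
  have hzp : z ^ p = 1 := by rw [← oz]; exact pow_orderOf_eq_one z
  have hd : Subgroup.zpowers x ⊓ Subgroup.zpowers z = ⊥ := zpowers_inf_eq_bot _ x hx hxz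
  have hcomm : ∀ a ∈ Subgroup.zpowers x, ∀ b ∈ Subgroup.zpowers z, a * b = b * a := by
    intro a _ b hb
    have : b ∈ Subgroup.center P := (Subgroup.zpowers_le.mpr hz) hb
    exact (Subgroup.mem_center_iff.mp this a)
  have hcard := card_sup_of_commute _ _ hcomm hd
  rw [Nat.card_zpowers, Nat.card_zpowers, ox, oz, ← sq] at hcard
  obtain ⟨g, hg, og⟩ := exists_orderOf_sq_mem hP h w hw _ hcard
  haveI : (Subgroup.zpowers z).Normal := zpowers_normal_of_mem_center hz
  obtain ⟨a, ha, b, hb, rfl⟩ := Subgroup.mem_sup_of_normal_right.mp hg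
  have hap : a ^ p = 1 := by
    obtain ⟨k, rfl⟩ := Subgroup.mem_zpowers_iff.mp ha
    rw [← zpow_natCast (x ^ k) p, ← zpow_mul, mul_comm, zpow_mul, zpow_natCast, hx, one_zpow]
  have hbp : b ^ p = 1 := by
    obtain ⟨k, rfl⟩ := Subgroup.mem_zpowers_iff.mp hb
    rw [← zpow_natCast (z ^ k) p, ← zpow_mul, mul_comm, zpow_mul, zpow_natCast, hzp, one_zpow]
  have habp : (a * b) ^ p = 1 := by
    rw [(show Commute a b from hcomm a ha b hb).mul_pow, hap, hbp, one_mul]
  have : p ^ 2 ∣ p := by rw [← og]; exact orderOf_dvd_of_pow_eq_one habp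
  have h2 : p ^ 2 ≤ p := Nat.le_of_dvd hp.out.pos this
  have h3 : p < p ^ 2 := by
    calc p = p ^ 1 := (pow_one p).symm
      _ < p ^ 2 := Nat.pow_lt_pow_right hp.out.one_lt (by norm_num)
  omega

theorem uop_of_not_exp (hP : IsPGroup p P) (h : Hyp P) (w : P) (hw : w ^ p ≠ 1) : UOP p P := by
  have hnt : (⊤ : Subgroup P) ≠ ⊥ := by
    intro htop
    apply hw
    have : w ∈ (⊥ : Subgroup P) := htop ▸ Subgroup.mem_top w
    rw [Subgroup.mem_bot.mp this, one_pow]
  obtain ⟨z, -, hz, oz⟩ := exists_central_orderOf_eq_prime hP ⊤ hnt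
  intro x y hx hy hx1
  have hxz := mem_zpowers_central hP h w hw z hz oz x hx
  have hyz := mem_zpowers_central hP h w hw z hz oz y hy
  have ox : orderOf x = p := orderOf_eq_prime hx hx1
  have heq : Subgroup.zpowers x = Subgroup.zpowers z := by
    apply Subgroup.eq_of_le_of_card_ge (Subgroup.zpowers_le.mpr hxz)
    rw [Nat.card_zpowers, Nat.card_zpowers, ox, oz]
  rw [heq]; exact hyz

end pgroup

section quaternion

def parityHom (m : ℕ) (hm : 2 ∣ m) : QuaternionGroup m →* Multiplicative (ZMod 2) where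
  toFun g := match g with
    | .a i => Multiplicative.ofAdd (ZMod.castHom (dvd_mul_right 2 m) (ZMod 2) i)
    | .xa i => Multiplicative.ofAdd (ZMod.castHom (dvd_mul_right 2 m) (ZMod 2) i)
  map_one' := by
    show Multiplicative.ofAdd (ZMod.castHom (dvd_mul_right 2 m) (ZMod 2) 0) = 1
    rw [map_zero]; rfl
  map_mul' := by
    have hm0 : ((m : ℕ) : ZMod 2) = 0 := (ZMod.natCast_eq_zero_iff m 2).mpr hm
    rintro (i | i) (j | j)
    · show Multiplicative.ofAdd (ZMod.castHom (dvd_mul_right 2 m) (ZMod 2) (i + j)) = _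
      rw [map_add]; rfl
    · show Multiplicative.ofAdd (ZMod.castHom (dvd_mul_right 2 m) (ZMod 2) (j - i)) =
        Multiplicative.ofAdd (ZMod.castHom (dvd_mul_right 2 m) (ZMod 2) i) *
        Multiplicative.ofAdd (ZMod.castHom (dvd_mul_right 2 m) (ZMod 2) j)
      rw [map_sub, ← ofAdd_add, sub_eq_add_neg, ZMod.neg_eq_self_mod_two, add_comm]
    · show Multiplicative.ofAdd (ZMod.castHom (dvd_mul_right 2 m) (ZMod 2) (i + j)) = _
      rw [map_add]; rfl
    · show Multiplicative.ofAdd (ZMod.castHom (dvd_mul_right 2 m) (ZMod 2) (m + j - i)) =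
        Multiplicative.ofAdd (ZMod.castHom (dvd_mul_right 2 m) (ZMod 2) i) *
        Multiplicative.ofAdd (ZMod.castHom (dvd_mul_right 2 m) (ZMod 2) j)
      rw [map_sub, map_add, map_natCast, hm0, zero_add, ← ofAdd_add, sub_eq_add_neg,
        ZMod.neg_eq_self_mod_two, add_comm]

theorem quat_noncomm (n : ℕ) (hn : 2 ≤ n) :
    (QuaternionGroup.a 2 : QuaternionGroup (2 ^ n)) * QuaternionGroup.xa 0 ≠
      QuaternionGroup.xa 0 * QuaternionGroup.a 2 := by
  intro h
  rw [QuaternionGroup.a_mul_xa, QuaternionGroup.xa_mul_a] at h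
  have h1 : (0 - 2 : ZMod (2 * 2 ^ n)) = 0 + 2 := QuaternionGroup.xa.inj h
  have h2 : ((4 : ℕ) : ZMod (2 * 2 ^ n)) = 0 := by
    have : (4 : ZMod (2 * 2 ^ n)) = (0 + 2) - (0 - 2) := by ring
    rw [← h1, sub_self] at this
    push_cast
    exact this
  rw [ZMod.natCast_eq_zero_iff] at h2
  have h3 : 2 * 2 ^ n ≤ 4 := Nat.le_of_dvd (by norm_num) h2
  have h4 : 2 ^ 2 ≤ 2 ^ n := Nat.pow_le_pow_right (by norm_num) hn
  omega

theorem ofAdd_one_ne : Multiplicative.ofAdd (1 : ZMod 2) ≠ 1 := by decide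

theorem quat_contra (n : ℕ) (hn : 2 ≤ n) (h : Hyp (QuaternionGroup (2 ^ n))) : False := by
  have hm2 : 2 ∣ 2 ^ n := dvd_pow_self 2 (by omega)
  have hcardQ : Nat.card (QuaternionGroup (2 ^ n)) = 2 ^ (n + 2) := by
    rw [Nat.card_eq_fintype_card, QuaternionGroup.card]; ring
  haveI : Fact (Nat.Prime 2) := ⟨Nat.prime_two⟩
  have hQ : IsPGroup 2 (QuaternionGroup (2 ^ n)) := IsPGroup.of_card hcardQ
  obtain ⟨φ, hφ⟩ : ∃ φ, φ = parityHom (2 ^ n) hm2 := ⟨_, rfl⟩
  obtain ⟨K, hK⟩ : ∃ K, K = φ.ker := ⟨_, rfl⟩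
  obtain ⟨A, hAdef⟩ : ∃ A, A = Subgroup.zpowers (QuaternionGroup.a 1 : QuaternionGroup (2 ^ n)) :=
    ⟨_, rfl⟩
  have hA : ∀ a ∈ A, ∀ b ∈ A, a * b = b * a := by
    intro a ha b hb
    rw [hAdef] at ha hb
    obtain ⟨i, rfl⟩ := Subgroup.mem_zpowers_iff.mp ha
    obtain ⟨j, rfl⟩ := Subgroup.mem_zpowers_iff.mp hb
    rw [← zpow_add, ← zpow_add, add_comm]
  have hcardA : Nat.card A = 2 ^ (n + 1) := by
    rw [hAdef, Nat.card_zpowers, QuaternionGroup.orderOf_a_one]; ring
  have ha1 : (QuaternionGroup.a 1 : QuaternionGroup (2 ^ n)) ∉ K := by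
    rw [hK, MonoidHom.mem_ker, hφ]
    show Multiplicative.ofAdd (ZMod.castHom (dvd_mul_right 2 (2 ^ n)) (ZMod 2) 1) ≠ 1
    rw [map_one]
    exact ofAdd_one_ne
  have ha2 : (QuaternionGroup.a 2 : QuaternionGroup (2 ^ n)) ∈ K := by
    rw [hK, MonoidHom.mem_ker, hφ]
    show Multiplicative.ofAdd (ZMod.castHom (dvd_mul_right 2 (2 ^ n)) (ZMod 2) 2) = 1
    rw [map_ofNat]
    rfl
  have hx0 : (QuaternionGroup.xa 0 : QuaternionGroup (2 ^ n)) ∈ K := by
    rw [hK, MonoidHom.mem_ker, hφ]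
    show Multiplicative.ofAdd (ZMod.castHom (dvd_mul_right 2 (2 ^ n)) (ZMod 2) 0) = 1
    rw [map_zero]
    rfl
  have hKlt : K < ⊤ := lt_top_iff_ne_top.mpr (fun htop => ha1 (htop ▸ Subgroup.mem_top _))
  have hcardK : Nat.card K ≤ 2 ^ (n + 1) := by
    obtain ⟨j, hj⟩ := IsPGroup.iff_card.mp (hQ.to_subgroup K)
    have hlt := card_lt_of_lt hKlt
    rw [Subgroup.card_top, hcardQ, hj] at hlt
    have : j < n + 2 := (Nat.pow_lt_pow_iff_right (by norm_num)).mp hlt
    rw [hj]
    exact Nat.pow_le_pow_right (by norm_num) (by omega)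
  have := comm_of_card_le hQ h A K hA (by rw [hcardA]; exact hcardK) _ ha2 _ hx0
  exact quat_noncomm n hn this

end quaternion

section caseA

variable {P : Type*} [Group P] [Finite P] {p : ℕ} [hp : Fact p.Prime]

theorem caseA (hP : IsPGroup p P) (h : Hyp P) (w : P) (hw : w ^ p ≠ 1) :
    IsCyclic P ∨ (p = 2 ∧ Nonempty (P ≃* QuaternionGroup 2)) := by
  have hu := uop_of_not_exp hP h w hw
  rcases cyclic_or_quaternion p hP hu with hc | ⟨hp2, n, ⟨e⟩⟩
  · exact Or.inl hc
  · rcases n with _ | _ | n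
    · left
      have : IsCyclic (QuaternionGroup (2 ^ 0)) := by
        rw [pow_zero]; exact QuaternionGroup.quaternionGroup_one_isCyclic
      exact e.isCyclic.mpr this
    · right
      exact ⟨hp2, ⟨e⟩⟩
    · exfalso
      exact quat_contra (n + 1 + 1) (by omega) (h.congr e)

end caseA

section caseB

variable {P : Type*} [Group P]

theorem comm_of_exp_two (h2 : ∀ x : P, x ^ 2 = 1) (a b : P) : a * b = b * a := by
  have hinv : ∀ x : P, x⁻¹ = x := fun x => by
    rw [inv_eq_iff_mul_eq_one, ← sq]; exact h2 x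
  calc a * b = (a * b)⁻¹ := (hinv _).symm
    _ = b⁻¹ * a⁻¹ := mul_inv_rev a b
    _ = b * a := by rw [hinv, hinv]

theorem conj_mem_sup (a c g : P) (hc : c ∈ Subgroup.center P)
    (hg : g * a * g⁻¹ ∈ Subgroup.zpowers a ⊔ Subgroup.zpowers c) :
    ∀ n ∈ Subgroup.zpowers a ⊔ Subgroup.zpowers c,
      g * n * g⁻¹ ∈ Subgroup.zpowers a ⊔ Subgroup.zpowers c := by
  intro n hn
  haveI : (Subgroup.zpowers c).Normal := zpowers_normal_of_mem_center hc
  obtain ⟨u, hu, v, hv, rfl⟩ := Subgroup.mem_sup_of_normal_right.mp hn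
  have hvc : v ∈ Subgroup.center P := (Subgroup.zpowers_le.mpr hc) hv
  have e1 : g * (u * v) * g⁻¹ = (g * u * g⁻¹) * v := by
    have := Subgroup.mem_center_iff.mp hvc g⁻¹
    calc g * (u * v) * g⁻¹ = g * u * (v * g⁻¹) := by group
      _ = g * u * (g⁻¹ * v) := by rw [this]
      _ = (g * u * g⁻¹) * v := by group
  rw [e1]
  refine mul_mem ?_ (Subgroup.mem_sup_right hv)
  obtain ⟨k, rfl⟩ := Subgroup.mem_zpowers_iff.mp hu
  rw [← conj_zpow]
  exact zpow_mem hg k

variable [Finite P] {p : ℕ} [hp : Fact p.Prime]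

theorem exists_small_nonabelian (hP : IsPGroup p P) (hexp : ∀ x : P, x ^ p = 1)
    (hna : ∃ a b : P, a * b ≠ b * a) :
    ∃ H : Subgroup P, Nat.card H ≤ p ^ 3 ∧ ∃ a ∈ H, ∃ b ∈ H, a * b ≠ b * a := by
  have hppos : 0 < p := hp.out.pos
  -- the quotient by the centre is nontrivial
  haveI : Nontrivial (P ⧸ Subgroup.center P) := by
    by_contra hnt
    rw [not_nontrivial_iff_subsingleton] at hnt
    obtain ⟨a, b, hab⟩ := hna
    apply hab
    have : (a : P ⧸ Subgroup.center P) = 1 := Subsingleton.elim _ _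
    rw [QuotientGroup.eq_one_iff] at this
    exact (Subgroup.mem_center_iff.mp this b).symm
  have hQ : IsPGroup p (P ⧸ Subgroup.center P) := hP.to_quotient _
  haveI : Nontrivial (Subgroup.center (P ⧸ Subgroup.center P)) := hQ.center_nontrivial
  obtain ⟨⟨q, hq⟩, hq1⟩ := exists_ne (1 : Subgroup.center (P ⧸ Subgroup.center P))
  obtain ⟨a, rfl⟩ := QuotientGroup.mk_surjective q
  have haZ : a ∉ Subgroup.center P := by
    intro ha
    apply hq1
    apply Subtype.ext
    exact (QuotientGroup.eq_one_iff a).mpr ha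
  have hcomm : ∀ g : P, a * g * a⁻¹ * g⁻¹ ∈ Subgroup.center P := by
    intro g
    rw [← QuotientGroup.eq_one_iff]
    have := Subgroup.mem_center_iff.mp hq (g : P ⧸ Subgroup.center P)
    simp only [QuotientGroup.mk_mul, QuotientGroup.mk_inv]
    rw [← this]
    group
  obtain ⟨b, hb⟩ : ∃ b : P, b * a ≠ a * b := by
    by_contra hall
    push Not at hall
    exact haZ (Subgroup.mem_center_iff.mpr hall)
  obtain ⟨c, hcdef⟩ : ∃ c, c = a * b * a⁻¹ * b⁻¹ := ⟨_, rfl⟩
  have hc : c ∈ Subgroup.center P := hcdef ▸ hcomm b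
  have hcc := Subgroup.mem_center_iff.mp hc
  obtain ⟨A₀, hA₀⟩ : ∃ A₀, A₀ = Subgroup.zpowers a ⊔ Subgroup.zpowers c := ⟨_, rfl⟩
  have haA : a ∈ A₀ := hA₀ ▸ Subgroup.mem_sup_left (Subgroup.mem_zpowers a)
  have hcA : c ∈ A₀ := hA₀ ▸ Subgroup.mem_sup_right (Subgroup.mem_zpowers c)
  -- conjugates of `a` by `b` and its inverse
  have e1 : b * a * b⁻¹ = c⁻¹ * a := by
    have : c * (b * a * b⁻¹) = a := by rw [hcdef]; group
    calc b * a * b⁻¹ = c⁻¹ * (c * (b * a * b⁻¹)) := by group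
      _ = c⁻¹ * a := by rw [this]
  have e2 : b⁻¹ * a * b⁻¹⁻¹ = c * a := by
    have h1 : b⁻¹ * c * b = c := by
      calc b⁻¹ * c * b = c * b⁻¹ * b := by rw [hcc b⁻¹]
        _ = c := by group
    have h2 : b⁻¹ * c * b = b⁻¹ * a * b * a⁻¹ := by rw [hcdef]; group
    rw [inv_inv, ← h1, h2]; group
  have hbn : b ∈ Subgroup.normalizer (A₀ : Set P) := by
    rw [Subgroup.mem_normalizer_iff]
    intro n
    constructor
    · intro hn
      rw [hA₀] at hn ⊢
      exact conj_mem_sup a c b hc (by rw [e1, ← hA₀]; exact mul_mem (inv_mem hcA) haA) n hn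
    · intro hn
      rw [hA₀] at hn ⊢
      have := conj_mem_sup a c b⁻¹ hc (by rw [e2, ← hA₀]; exact mul_mem hcA haA) _ hn
      have e : b⁻¹ * (b * n * b⁻¹) * b⁻¹⁻¹ = n := by group
      rwa [e] at this
  have hn : Subgroup.zpowers b ≤ Subgroup.normalizer (A₀ : Set P) := Subgroup.zpowers_le.mpr hbn
  have hcardA : Nat.card A₀ ≤ p ^ 2 := by
    have hn' : Subgroup.zpowers a ≤ Subgroup.normalizer (Subgroup.zpowers c : Set P) := by
      haveI : (Subgroup.zpowers c).Normal := zpowers_normal_of_mem_center hc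
      rw [Subgroup.normalizer_eq_top]; exact le_top
    have := card_sup_mul_card_inf_of_le_normalizer _ _ hn'
    rw [← hA₀, Nat.card_zpowers, Nat.card_zpowers] at this
    have h1 : orderOf a ≤ p := orderOf_le_of_pow_eq_one hppos (hexp a)
    have h2 : orderOf c ≤ p := orderOf_le_of_pow_eq_one hppos (hexp c)
    have h3 : 0 < Nat.card (Subgroup.zpowers a ⊓ Subgroup.zpowers c : Subgroup P) := Nat.card_pos
    calc Nat.card A₀ ≤ Nat.card A₀ * Nat.card (Subgroup.zpowers a ⊓ Subgroup.zpowers c : Subgroup P) :=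
          Nat.le_mul_of_pos_right _ h3
      _ = orderOf a * orderOf c := this
      _ ≤ p * p := Nat.mul_le_mul h1 h2
      _ = p ^ 2 := (sq p).symm
  refine ⟨Subgroup.zpowers b ⊔ A₀, ?_, a, Subgroup.mem_sup_right haA, b,
    Subgroup.mem_sup_left (Subgroup.mem_zpowers b), hb.symm⟩
  have := card_sup_mul_card_inf_of_le_normalizer _ _ hn
  rw [Nat.card_zpowers] at this
  have h1 : orderOf b ≤ p := orderOf_le_of_pow_eq_one hppos (hexp b)
  have h3 : 0 < Nat.card (Subgroup.zpowers b ⊓ A₀ : Subgroup P) := Nat.card_pos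
  calc Nat.card (Subgroup.zpowers b ⊔ A₀ : Subgroup P)
      ≤ Nat.card (Subgroup.zpowers b ⊔ A₀ : Subgroup P) *
        Nat.card (Subgroup.zpowers b ⊓ A₀ : Subgroup P) := Nat.le_mul_of_pos_right _ h3
    _ = orderOf b * Nat.card A₀ := this
    _ ≤ p * p ^ 2 := Nat.mul_le_mul h1 hcardA
    _ = p ^ 3 := by ring

theorem exists_abelian_cube (hP : IsPGroup p P) (hexp : ∀ x : P, x ^ p = 1)
    (hcard : p ^ 4 ≤ Nat.card P) :
    ∃ A : Subgroup P, Nat.card A = p ^ 3 ∧ ∀ a ∈ A, ∀ b ∈ A, a * b = b * a := by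
  have hppos : 0 < p := hp.out.pos
  have hdvd : p ^ 2 ∣ Nat.card (⊤ : Subgroup P) := by
    rw [Subgroup.card_top]
    exact (pow_dvd_pow p (by norm_num)).trans (pow_dvd_of_le_of_isPGroup hP hcard)
  obtain ⟨E, -, hEn, hE⟩ := exists_normal_le_card_eq_pow hP ⊤ hdvd
  haveI := hEn
  have hEc : ∀ u ∈ E, ∀ v ∈ E, u * v = v * u := by
    intro u hu v hv
    have := IsPGroup.commutative_of_card_eq_prime_sq hE ⟨u, hu⟩ ⟨v, hv⟩
    exact congrArg Subtype.val this
  have hidx := index_centralizer_dvd_prime hP E hE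
  have hEC : E ≤ Subgroup.centralizer (E : Set P) := by
    intro u hu
    rw [Subgroup.mem_centralizer_iff]
    intro v hv
    exact hEc v hv u hu
  have hcardC : p ^ 3 ≤ Nat.card (Subgroup.centralizer (E : Set P)) := by
    have h1 := Subgroup.card_mul_index (Subgroup.centralizer (E : Set P))
    have h2 : (Subgroup.centralizer (E : Set P)).index ≤ p := Nat.le_of_dvd hppos hidx
    by_contra hlt
    push Not at hlt
    have : Nat.card P < p ^ 3 * p := by
      rw [← h1]
      calc Nat.card (Subgroup.centralizer (E : Set P)) * (Subgroup.centralizer (E : Set P)).index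
          ≤ Nat.card (Subgroup.centralizer (E : Set P)) * p := Nat.mul_le_mul_left _ h2
        _ < p ^ 3 * p := Nat.mul_lt_mul_of_pos_right hlt hppos
    have e : p ^ 3 * p = p ^ 4 := by ring
    omega
  obtain ⟨x, hxC, hxE⟩ : ∃ x ∈ Subgroup.centralizer (E : Set P), x ∉ E := by
    by_contra hall
    push Not at hall
    have hle : Subgroup.centralizer (E : Set P) ≤ E := hall
    have := Subgroup.card_le_of_le hle
    rw [hE] at this
    have : p ^ 2 < p ^ 3 := Nat.pow_lt_pow_right hp.out.one_lt (by norm_num)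
    omega
  have hx1 : x ≠ 1 := fun h => hxE (h ▸ one_mem _)
  have ox : orderOf x = p := orderOf_eq_prime (hexp x) hx1
  have hxc : ∀ u ∈ Subgroup.zpowers x, ∀ v ∈ E, u * v = v * u := by
    intro u hu v hv
    have : u ∈ Subgroup.centralizer (E : Set P) := (Subgroup.zpowers_le.mpr hxC) hu
    exact (Subgroup.mem_centralizer_iff.mp this v hv).symm
  have hd := zpowers_inf_eq_bot E x (hexp x) hxE
  refine ⟨Subgroup.zpowers x ⊔ E, ?_, ?_⟩
  · rw [card_sup_of_commute _ _ hxc hd, Nat.card_zpowers, ox, hE]; ring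
  · intro a ha b hb
    obtain ⟨u, hu, v, hv, rfl⟩ := Subgroup.mem_sup_of_normal_right.mp ha
    obtain ⟨u', hu', v', hv', rfl⟩ := Subgroup.mem_sup_of_normal_right.mp hb
    have huu : u * u' = u' * u := by
      obtain ⟨i, rfl⟩ := Subgroup.mem_zpowers_iff.mp hu
      obtain ⟨j, rfl⟩ := Subgroup.mem_zpowers_iff.mp hu'
      rw [← zpow_add, ← zpow_add, add_comm]
    calc u * v * (u' * v') = u * (v * u') * v' := by group
      _ = u * (u' * v) * v' := by rw [hxc u' hu' v hv]
      _ = (u * u') * (v * v') := by group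
      _ = (u' * u) * (v' * v) := by rw [huu, hEc v hv v' hv']
      _ = u' * (u * v') * v := by group
      _ = u' * (v' * u) * v := by rw [hxc u hu v' hv']
      _ = u' * v' * (u * v) := by group

theorem caseB (hP : IsPGroup p P) (h : Hyp P) (hexp : ∀ x : P, x ^ p = 1)
    (hna : ∃ a b : P, a * b ≠ b * a) : p ≠ 2 ∧ Nat.card P = p ^ 3 := by
  constructor
  · rintro rfl
    obtain ⟨a, b, hab⟩ := hna
    exact hab (comm_of_exp_two hexp a b)
  · obtain ⟨n, hn⟩ := IsPGroup.iff_card.mp hP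
    obtain ⟨H, hH, a, ha, b, hb, hab⟩ := exists_small_nonabelian hP hexp hna
    have hn4 : n < 4 := by
      by_contra hge
      have : p ^ 4 ≤ Nat.card P := by
        rw [hn]; exact Nat.pow_le_pow_right hp.out.pos (by omega)
      obtain ⟨A, hA, hAc⟩ := exists_abelian_cube hP hexp this
      exact hab (comm_of_card_le hP h A H hAc (by rw [hA]; exact hH) a ha b hb)
    have hn3 : 3 ≤ n := by
      by_contra hlt
      obtain ⟨a, b, hab⟩ := hna
      apply hab
      have hn' : n = 0 ∨ n = 1 ∨ n = 2 := by omega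
      rcases hn' with rfl | rfl | rfl
      · rw [pow_zero] at hn
        have : Subsingleton P := (Nat.card_eq_one_iff_unique.mp hn).1
        exact Subsingleton.elim _ _
      · rw [pow_one] at hn
        haveI := isCyclic_of_prime_card hn
        exact comm_of_isCyclic a b
      · exact IsPGroup.commutative_of_card_eq_prime_sq hn a b
    have : n = 3 := by omega
    rw [hn, this]

end caseB

section main

variable {P : Type*} [Group P] [Finite P] {p : ℕ} [hp : Fact p.Prime]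

theorem main (hP : IsPGroup p P) (h : Hyp P) :
    IsCyclic P ∨ ((∀ a b : P, a * b = b * a) ∧ ∀ a : P, a ^ p = 1) ∨
      (p = 2 ∧ Nonempty (P ≃* QuaternionGroup 2)) ∨
      (p ≠ 2 ∧ (∃ a b : P, a * b ≠ b * a) ∧ Nat.card P = p ^ 3 ∧ Monoid.exponent P = p) := by
  by_cases hexp : ∀ x : P, x ^ p = 1
  · by_cases hc : ∀ a b : P, a * b = b * a
    · exact Or.inr (Or.inl ⟨hc, hexp⟩)
    · push Not at hc
      obtain ⟨hp2, hcard⟩ := caseB hP h hexp hc
      refine Or.inr (Or.inr (Or.inr ⟨hp2, hc, hcard, ?_⟩))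
      haveI : Nontrivial P := by
        obtain ⟨a, b, hab⟩ := hc
        exact ⟨⟨a * b, b * a, hab⟩⟩
      rw [Monoid.exponent_eq_prime_iff hp.out]
      intro g hg
      exact orderOf_eq_prime (hexp g) hg
  · push Not at hexp
    obtain ⟨w, hw⟩ := hexp
    rcases caseA hP h w hw with hc | hq
    · exact Or.inl hc
    · exact Or.inr (Or.inr (Or.inl hq))

end main

end Cfsg.Agent.Lib.Helper4.EqOrdSyl

namespace Cfsg.Agent.Lib.Helper4.EqOrdSyl

theorem hyp_of_conj {G : Type*} [Group G] {p : ℕ} (P : Subgroup G) (hPp : IsPGroup p P)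
    (hC : ∀ H K : Subgroup G, IsPGroup p H → IsPGroup p K → Nat.card H = Nat.card K →
      ∃ g : G, K = H.map (MulAut.conj g).toMonoidHom) : Hyp P := by
  intro A B hAB
  have hA : IsPGroup p (A.map P.subtype) := (hPp.to_subgroup A).map _
  have hB : IsPGroup p (B.map P.subtype) := (hPp.to_subgroup B).map _
  have hc : Nat.card (A.map P.subtype) = Nat.card (B.map P.subtype) := by
    rw [Subgroup.card_map_of_injective P.subtype_injective,
      Subgroup.card_map_of_injective P.subtype_injective, hAB]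
  obtain ⟨g, hg⟩ := hC _ _ hA hB hc
  have e1 : A ≃* A.map P.subtype := A.equivMapOfInjective P.subtype P.subtype_injective
  have e2 : B ≃* B.map P.subtype := B.equivMapOfInjective P.subtype P.subtype_injective
  have e3 : A.map P.subtype ≃* (A.map P.subtype).map (MulAut.conj g).toMonoidHom :=
    (MulAut.conj g).subgroupMap _
  exact ⟨e1.trans (e3.trans ((MulEquiv.subgroupCongr hg.symm).trans e2.symm))⟩

theorem sylow_types {G : Type*} [Group G] [Finite G]
    {p : ℕ} [Fact p.Prime] (hC : ∀ H K : Subgroup G, IsPGroup p H → IsPGroup p K →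
      Nat.card H = Nat.card K → ∃ g : G, K = H.map (MulAut.conj g).toMonoidHom) (P : Sylow p G) :
    IsCyclic P ∨ (IsMulCommutative (P : Subgroup G) ∧ ∀ a ∈ (P : Subgroup G), a ^ p = 1) ∨
      (p = 2 ∧ Nonempty ((P : Subgroup G) ≃* QuaternionGroup 2)) ∨
      (p ≠ 2 ∧ ¬ IsMulCommutative P ∧ Nat.card P = p ^ 3 ∧ Monoid.exponent P = p) := by
  have hPp : IsPGroup p (P : Subgroup G) := P.isPGroup'
  have h := hyp_of_conj (P : Subgroup G) hPp hC
  rcases main hPp h with h1 | ⟨h2, h3⟩ | h4 | ⟨h5, h6, h7, h8⟩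
  · exact Or.inl h1
  · refine Or.inr (Or.inl ⟨⟨⟨h2⟩⟩, fun a ha => ?_⟩)
    have := congrArg Subtype.val (h3 ⟨a, ha⟩)
    simpa using this
  · exact Or.inr (Or.inr (Or.inl h4))
  · refine Or.inr (Or.inr (Or.inr ⟨h5, ?_, h7, h8⟩))
    intro hc
    obtain ⟨a, b, hab⟩ := h6
    exact hab (hc.is_comm.comm a b)

end Cfsg.Agent.Lib.Helper4.EqOrdSyl
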