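import Cfsg.Agent.Lib.Helper4.HP3
import Cfsg.Agent.Lib.Helper1.Reg3
import Cfsg.Agent.Lib.Helper1.MaxClassNormal1
import Cfsg.Agent.Lib.Helper1.FrattiniP
import Cfsg.Agent.Lib.Helper2.PGroupNormal
import Cfsg.Agent.Lib.Lead.UniqueP

/-! Minimal non-`p`-exponent-closed `p`-groups. -/
set_option autoImplicit false
universe u
open scoped commutatorElement

namespace Cfsg.Agent.Lib.Helper4.ExpClosed

/-- the elements of order dividing `p` form a subgroup. -/
def EC (p : ℕ) (X : Type*) [Group X] : Prop := ∃ H : Subgroup X, (H : Set X) = {g : X | g ^ p = 1}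

theorem ec_of_mul {X : Type*} [Group X] {p : ℕ}
    (h : ∀ x y : X, x ^ p = 1 → y ^ p = 1 → (x * y) ^ p = 1) : EC p X :=
  ⟨{ carrier := {g | g ^ p = 1}
     mul_mem' := fun {a b} ha hb => h a b ha hb
     one_mem' := one_pow _
     inv_mem' := fun {a} ha => by
      show a⁻¹ ^ p = 1
      rw [inv_pow, show a ^ p = 1 from ha, inv_one] }, rfl⟩

theorem exists_bad {X : Type*} [Group X] {p : ℕ} (hnc : ¬ EC p X) :
    ∃ x y : X, x ^ p = 1 ∧ y ^ p = 1 ∧ (x * y) ^ p ≠ 1 := by
  by_contra h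
  push Not at h
  exact hnc (ec_of_mul h)

variable {G : Type u} [Group G]

theorem gen_two {p : ℕ} (hsub : ∀ K : Subgroup G, K ≠ ⊤ → EC p K) {x y : G} (hx : x ^ p = 1)
    (hy : y ^ p = 1) (hxy : (x * y) ^ p ≠ 1) : Subgroup.closure ({x, y} : Set G) = ⊤ := by
  by_contra hK
  obtain ⟨H, hH⟩ := hsub _ hK
  have hxK : x ∈ Subgroup.closure ({x, y} : Set G) := Subgroup.subset_closure (by simp)
  have hyK : y ∈ Subgroup.closure ({x, y} : Set G) := Subgroup.subset_closure (by simp)
  have hx' : (⟨x, hxK⟩ : Subgroup.closure ({x, y} : Set G)) ∈ H := by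
    rw [← SetLike.mem_coe, hH]
    exact Subtype.ext (by simpa using hx)
  have hy' : (⟨y, hyK⟩ : Subgroup.closure ({x, y} : Set G)) ∈ H := by
    rw [← SetLike.mem_coe, hH]
    exact Subtype.ext (by simpa using hy)
  have := H.mul_mem hx' hy'
  rw [← SetLike.mem_coe, hH] at this
  exact hxy (by simpa using congrArg Subtype.val this)

theorem pow_mem_zpowers {p : ℕ}
    (hquo : ∀ (N : Subgroup G) [N.Normal], N ≠ ⊥ → EC p (G ⧸ N)) {x y : G} (hx : x ^ p = 1)
    (hy : y ^ p = 1) (hgen : Subgroup.closure ({x, y} : Set G) = ⊤) {z : G}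
    (hz : z ∈ Subgroup.center G) (hz1 : z ≠ 1) (g : G) : g ^ p ∈ Subgroup.zpowers z := by
  haveI : (Subgroup.zpowers z).Normal := Cfsg.Agent.Lib.Helper2.zpowers_normal_of_mem_center hz
  have hne : Subgroup.zpowers z ≠ ⊥ := by
    intro h
    have : z ∈ (⊥ : Subgroup G) := h ▸ Subgroup.mem_zpowers z
    exact hz1 (Subgroup.mem_bot.mp this)
  obtain ⟨H, hH⟩ := hquo _ hne
  have hxH : (QuotientGroup.mk' (Subgroup.zpowers z)) x ∈ H := by
    rw [← SetLike.mem_coe, hH]
    show _ ^ p = 1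
    rw [← map_pow, hx, map_one]
  have hyH : (QuotientGroup.mk' (Subgroup.zpowers z)) y ∈ H := by
    rw [← SetLike.mem_coe, hH]
    show _ ^ p = 1
    rw [← map_pow, hy, map_one]
  have hle : (Subgroup.closure ({x, y} : Set G)).map (QuotientGroup.mk' (Subgroup.zpowers z)) ≤ H := by
    rw [MonoidHom.map_closure, Subgroup.closure_le]
    rintro _ ⟨w, hw, rfl⟩
    rcases hw with rfl | rfl
    · exact hxH
    · exact hyH
  have hg : (QuotientGroup.mk' (Subgroup.zpowers z)) g ∈ H :=
    hle (Subgroup.mem_map_of_mem _ (hgen ▸ Subgroup.mem_top g))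
  rw [← SetLike.mem_coe, hH] at hg
  have hg' : (QuotientGroup.mk' (Subgroup.zpowers z)) g ^ p = 1 := hg
  rw [← map_pow] at hg'
  exact (QuotientGroup.eq_one_iff _).mp hg'

theorem index_commutator_ge [Finite G] {p : ℕ} [hp : Fact p.Prime] (hG : IsPGroup p G)
    (hnab : (⊤ : Subgroup G).lowerCentralSeries 1 ≠ ⊥) : p ^ 2 ∣ (commutator G).index := by
  obtain ⟨k, hk⟩ := hG.index (commutator G)
  rw [hk]
  apply pow_dvd_pow
  by_contra hlt
  have hk1 : k ≤ 1 := by omega
  have hdvd : Nat.card (G ⧸ commutator G) ∣ p := by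
    rw [← Subgroup.index_eq_card, hk]
    calc p ^ k ∣ p ^ 1 := pow_dvd_pow p hk1
      _ = p := pow_one p
  haveI : IsCyclic (G ⧸ commutator G) := isCyclic_of_card_dvd_prime hdvd
  obtain ⟨q, hq⟩ := IsCyclic.exists_generator (α := G ⧸ commutator G)
  obtain ⟨g, rfl⟩ := QuotientGroup.mk_surjective q
  have hgen : Subgroup.zpowers (g : G ⧸ commutator G) = ⊤ := by
    rw [eq_top_iff]; intro a _; exact hq a
  have hsup : Subgroup.zpowers g ⊔ commutator G = ⊤ := by
    have h1 : (Subgroup.zpowers g).map (QuotientGroup.mk' (commutator G)) = ⊤ := by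
      rw [MonoidHom.map_zpowers]; exact hgen
    have h2 := congrArg (Subgroup.comap (QuotientGroup.mk' (commutator G))) h1
    rw [QuotientGroup.comap_map_mk', Subgroup.comap_top, sup_comm] at h2
    exact h2
  have hfr : Subgroup.zpowers g ⊔ frattini G = ⊤ := by
    rw [eq_top_iff, ← hsup]
    exact sup_le_sup le_rfl (Cfsg.Agent.Lib.Helper1.commutator_le_frattini_of_isPGroup p hG)
  have htop : Subgroup.zpowers g = ⊤ := frattini_nongenerating hfr
  apply hnab
  rw [Subgroup.top_lowerCentralSeries_one, commutator_def, eq_bot_iff, Subgroup.commutator_le]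
  intro a _ b _
  have ha : a ∈ Subgroup.zpowers g := htop ▸ Subgroup.mem_top a
  have hb : b ∈ Subgroup.zpowers g := htop ▸ Subgroup.mem_top b
  obtain ⟨i, rfl⟩ := Subgroup.mem_zpowers_iff.mp ha
  obtain ⟨j, rfl⟩ := Subgroup.mem_zpowers_iff.mp hb
  rw [Subgroup.mem_bot, commutatorElement_eq_one_iff_mul_comm, ← zpow_add, ← zpow_add, add_comm]

open scoped IsMulCommutative in
theorem main [Finite G] {p : ℕ} [hp : Fact p.Prime] (hG : IsPGroup p G) (hnc : ¬ EC p G)
    (hsub : ∀ K : Subgroup G, K ≠ ⊤ → EC p K)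
    (hquo : ∀ (N : Subgroup G) [N.Normal], N ≠ ⊥ → EC p (G ⧸ N)) :
    (∃ x y : G, Subgroup.closure ({x, y} : Set G) = ⊤) ∧
      (⊤ : Subgroup G).lowerCentralSeries (p - 1) ≠ ⊥ ∧
      Monoid.exponent G = p ^ 2 ∧ IsCyclic ↥(Subgroup.center G) ∧ p ^ (p + 1) ≤ Nat.card G := by
  obtain ⟨x, y, hx, hy, hxy⟩ := exists_bad hnc
  have hgen := gen_two hsub hx hy hxy
  have hcl : (⊤ : Subgroup G).lowerCentralSeries (p - 1) ≠ ⊥ := by
    intro hcl
    have hreg := Cfsg.Agent.Lib.Helper4.HP.regular_of_class_lt hG hcl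
    apply hnc
    apply ec_of_mul
    intro a b ha hb
    have := Cfsg.Agent.Lib.Helper3.regular_pow_mul_eq_one hreg a b 1 (by rw [pow_one]; exact ha)
      (by rw [pow_one]; exact hb)
    rwa [pow_one] at this
  have hnotp : ¬ ∀ g : G, g ^ p = 1 := by
    intro h
    exact hnc (ec_of_mul (fun a b _ _ => h (a * b)))
  have htopne : (⊤ : Subgroup G) ≠ ⊥ := by
    intro h
    apply hnotp
    intro g
    have : g ∈ (⊥ : Subgroup G) := h ▸ Subgroup.mem_top g
    rw [Subgroup.mem_bot.mp this, one_pow]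
  obtain ⟨z, -, hzc, hzo⟩ := Cfsg.Agent.Lib.Helper2.exists_central_orderOf_eq_prime hG ⊤ htopne
  have hz1 : z ≠ 1 := by
    intro h; rw [h, orderOf_one] at hzo; exact hp.out.one_lt.ne hzo
  have hzp : z ^ p = 1 := by rw [← hzo]; exact pow_orderOf_eq_one z
  have hkey := pow_mem_zpowers hquo hx hy hgen hzc hz1
  have hp2 : ∀ g : G, g ^ (p ^ 2) = 1 := by
    intro g
    obtain ⟨k, hk⟩ := Subgroup.mem_zpowers_iff.mp (hkey g)
    rw [pow_two, pow_mul, ← hk, ← zpow_natCast, ← zpow_mul, mul_comm, zpow_mul, zpow_natCast, hzp,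
      one_zpow]
  have hexp : Monoid.exponent G = p ^ 2 := by
    have hdvd : Monoid.exponent G ∣ p ^ 2 := Monoid.exponent_dvd_of_forall_pow_eq_one hp2
    obtain ⟨j, hj, hje⟩ := (Nat.dvd_prime_pow hp.out).mp hdvd
    rcases Nat.lt_or_ge j 2 with h | h
    · exfalso
      apply hnotp
      intro g
      have h1 : Monoid.exponent G ∣ p := by
        rw [hje]
        calc p ^ j ∣ p ^ 1 := pow_dvd_pow p (by omega)
          _ = p := pow_one p
      obtain ⟨t, ht⟩ := h1
      rw [ht, pow_mul, Monoid.pow_exponent_eq_one, one_pow]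
    · have : j = 2 := by omega
      rw [hje, this]
  have hcyc : IsCyclic ↥(Subgroup.center G) := by
    refine Cfsg.Agent.Lib.Lead.UniqueP.isCyclic_of_comm (A := Subgroup.center G) p
      (hG.to_subgroup _) ?_
    intro a b ha hb ha1
    by_contra hb'
    have ha' : (a : G) ^ p = 1 := by rw [← Subgroup.coe_pow, ha]; rfl
    have hb'' : (b : G) ^ p = 1 := by rw [← Subgroup.coe_pow, hb]; rfl
    have ha1' : (a : G) ≠ 1 := fun e => ha1 (Subtype.ext e)
    have hb1' : (b : G) ≠ 1 := by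
      intro e
      apply hb'
      have : b = 1 := Subtype.ext e
      rw [this]; exact one_mem _
    have hka := pow_mem_zpowers hquo hx hy hgen a.2 ha1'
    have hkb := pow_mem_zpowers hquo hx hy hgen b.2 hb1'
    have hob : orderOf (b : G) = p := orderOf_eq_prime hb'' hb1'
    have hinf : Subgroup.zpowers (a : G) ⊓ Subgroup.zpowers (b : G) = ⊥ := by
      have h1 : Nat.card (Subgroup.zpowers (a : G) ⊓ Subgroup.zpowers (b : G) : Subgroup G) ∣ p := by
        have := Subgroup.card_dvd_of_le (inf_le_right :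
          Subgroup.zpowers (a : G) ⊓ Subgroup.zpowers (b : G) ≤ Subgroup.zpowers (b : G))
        rwa [Nat.card_zpowers, hob] at this
      rcases (Nat.dvd_prime hp.out).mp h1 with h2 | h2
      · exact Subgroup.card_eq_one.mp h2
      · exfalso
        have h3 : Subgroup.zpowers (a : G) ⊓ Subgroup.zpowers (b : G) = Subgroup.zpowers (b : G) :=
          Subgroup.eq_of_le_of_card_ge inf_le_right (by rw [h2, Nat.card_zpowers, hob])
        have h4 : (b : G) ∈ Subgroup.zpowers (a : G) := by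
          have : (b : G) ∈ Subgroup.zpowers (a : G) ⊓ Subgroup.zpowers (b : G) := by
            rw [h3]; exact Subgroup.mem_zpowers _
          exact this.1
        apply hb'
        obtain ⟨k, hk⟩ := Subgroup.mem_zpowers_iff.mp h4
        rw [Subgroup.mem_zpowers_iff]
        exact ⟨k, Subtype.ext (by rw [Subgroup.coe_zpow, hk])⟩
    apply hnotp
    intro g
    have : g ^ p ∈ Subgroup.zpowers (a : G) ⊓ Subgroup.zpowers (b : G) := ⟨hka g, hkb g⟩
    rw [hinf] at this
    exact Subgroup.mem_bot.mp this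
  refine ⟨⟨x, y, hgen⟩, hcl, hexp, hcyc, ?_⟩
  -- order
  haveI : Group.IsNilpotent G := hG.isNilpotent
  have hc : p ≤ Group.nilpotencyClass G := by
    by_contra h
    apply hcl
    rw [Subgroup.lowerCentralSeries_eq_bot_iff_nilpotencyClass_le]
    omega
  have hp2' := hp.out.two_le
  have h1 := Cfsg.Agent.Lib.Helper1.card_lowerCentralSeries_ge hG (Group.nilpotencyClass G) rfl
    (Group.nilpotencyClass G - 2) (by omega)
  rw [show Group.nilpotencyClass G - 1 - (Group.nilpotencyClass G - 2) = 1 by omega,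
    show Group.nilpotencyClass G - 2 + 1 = Group.nilpotencyClass G - 1 by omega] at h1
  have hnab : (⊤ : Subgroup G).lowerCentralSeries 1 ≠ ⊥ := by
    intro h
    apply hcl
    rw [eq_bot_iff, ← h]
    exact Subgroup.lowerCentralSeries_antitone _ (by omega)
  have h2 := index_commutator_ge hG hnab
  rw [Subgroup.top_lowerCentralSeries_one] at h1
  have h3 : p ^ (Group.nilpotencyClass G - 1) * p ^ 2 ∣ Nat.card G := by
    rw [← Subgroup.card_mul_index (commutator G)]
    exact Nat.mul_dvd_mul h1 h2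
  rw [← pow_add] at h3
  have h4 : p ^ (p + 1) ∣ Nat.card G :=
    dvd_trans (pow_dvd_pow p (by omega)) h3
  exact Nat.le_of_dvd Nat.card_pos h4

end Cfsg.Agent.Lib.Helper4.ExpClosed
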