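import Mathlib

/-! Manning's theorem on extremely primitive groups. -/

namespace Cfsg.Agent.Lib.Helper4.Manning

open MulAction

variable {G : Type*} [Group G] [Finite G] {Ω : Type*} [Fintype Ω] [MulAction G Ω]

/-- Kernel of the action of a point stabilizer on one of its orbits. -/
def orbKer (α ω : Ω) : Subgroup (stabilizer G α) :=
  (MulAction.toPermHom (stabilizer G α) (orbit (stabilizer G α) ω)).ker

instance (α ω : Ω) : (orbKer (G := G) α ω).Normal := by
  unfold orbKer
  infer_instance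

theorem mem_orbKer {α ω : Ω} (k : stabilizer G α) :
    k ∈ orbKer α ω ↔ ∀ x ∈ orbit (stabilizer G α) ω, k • x = x := by
  unfold orbKer
  rw [MonoidHom.mem_ker, Equiv.Perm.ext_iff]
  constructor
  · intro h x hx
    have := h ⟨x, hx⟩
    exact congrArg Subtype.val this
  · intro h x
    apply Subtype.ext
    exact h x.1 x.2

/-- Setwise stabilizer, by hand. -/
def setStab (T : Set Ω) : Subgroup G where
  carrier := {g | ∀ x, g • x ∈ T ↔ x ∈ T}
  one_mem' := by simp
  mul_mem' := by
    intro a b ha hb x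
    rw [mul_smul, ha, hb]
  inv_mem' := by
    intro a ha x
    rw [← ha (a⁻¹ • x)]
    simp

theorem stab_le_setStab (α : Ω) (T : Set Ω)
    (hT : ∀ g ∈ stabilizer G α, ∀ x ∈ T, g • x ∈ T) : stabilizer G α ≤ setStab T := by
  intro g hg x
  constructor
  · intro h
    have := hT g⁻¹ (inv_mem hg) _ h
    simpa using this
  · exact hT g hg x

/-- In a primitive nonregular faithful group, a stabilizer is not contained in another. -/
theorem not_stab_le [FaithfulSMul G Ω] (hprim : IsPreprimitive G Ω)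
    (hH : ∀ α : Ω, stabilizer G α ≠ ⊥) (α γ : Ω) (hne : α ≠ γ) :
    ¬ stabilizer G γ ≤ stabilizer G α := by
  intro hle
  haveI : Nontrivial Ω := ⟨⟨α, γ, hne⟩⟩
  have hco : IsCoatom (stabilizer G α) :=
    IsPreprimitive.isCoatom_stabilizer_of_isPreprimitive G α
  obtain ⟨g, hg⟩ := exists_smul_eq G α γ
  have hconj : ∀ h ∈ stabilizer G α, g * h * g⁻¹ ∈ stabilizer G α := by
    intro h hh
    apply hle
    rw [mem_stabilizer_iff, ← hg, mul_smul, mul_smul, inv_smul_smul, mem_stabilizer_iff.mp hh]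
  have hpow : ∀ k : ℕ, ∀ h ∈ stabilizer G α, g ^ k * h * (g ^ k)⁻¹ ∈ stabilizer G α := by
    intro k
    induction k with
    | zero => intro h hh; simpa using hh
    | succ k ih =>
      intro h hh
      have := hconj _ (ih h hh)
      rw [pow_succ']
      convert this using 1
      group
  have hinv : ∀ h ∈ stabilizer G α, g⁻¹ * h * g ∈ stabilizer G α := by
    intro h hh
    have hpos : 0 < orderOf g := orderOf_pos g
    have h1 := hpow (orderOf g - 1) h hh
    have h2 : g ^ (orderOf g - 1) = g⁻¹ := by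
      rw [eq_inv_iff_mul_eq_one, ← pow_succ, Nat.sub_add_cancel hpos, pow_orderOf_eq_one]
    rw [h2, inv_inv] at h1
    exact h1
  have hgN : g ∈ Subgroup.normalizer (stabilizer G α : Set G) := by
    rw [Subgroup.mem_normalizer_iff]
    intro h
    constructor
    · exact hconj h
    · intro hh
      have := hinv _ hh
      convert this using 1
      group
  have hgα : g ∉ stabilizer G α := by
    intro hmem
    rw [mem_stabilizer_iff, hg] at hmem
    exact hne hmem.symm
  have hNtop : Subgroup.normalizer (stabilizer G α : Set G) = ⊤ := by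
    rcases hco.le_iff.mp (Subgroup.le_normalizer (H := stabilizer G α)) with h | h
    · exact h
    · rw [h] at hgN
      exact absurd hgN hgα
  have hnormal : ∀ y : G, ∀ h ∈ stabilizer G α, y⁻¹ * h * y ∈ stabilizer G α := by
    intro y h hh
    have hy : y⁻¹ ∈ Subgroup.normalizer (stabilizer G α : Set G) := by
      rw [hNtop]; trivial
    have := (Subgroup.mem_normalizer_iff.mp hy h).mp hh
    simpa using this
  apply hH α
  rw [eq_bot_iff]
  intro h hh
  rw [Subgroup.mem_bot]
  apply FaithfulSMul.eq_of_smul_eq_smul (α := Ω)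
  intro x
  obtain ⟨y, rfl⟩ := exists_smul_eq G α x
  have := hnormal y h hh
  rw [mem_stabilizer_iff, mul_smul, mul_smul] at this
  rw [one_smul]
  have h2 := congrArg (fun z => y • z) this
  simpa using h2

/-- A nonempty set invariant under two distinct point stabilizers is everything. -/
theorem eq_univ_of_invariant [FaithfulSMul G Ω] (hprim : IsPreprimitive G Ω)
    (hH : ∀ α : Ω, stabilizer G α ≠ ⊥) (α γ : Ω) (hne : α ≠ γ) (T : Set Ω)
    (hTne : T.Nonempty)
    (hα : ∀ g ∈ stabilizer G α, ∀ x ∈ T, g • x ∈ T)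
    (hγ : ∀ g ∈ stabilizer G γ, ∀ x ∈ T, g • x ∈ T) : T = Set.univ := by
  haveI : Nontrivial Ω := ⟨⟨α, γ, hne⟩⟩
  have hco : IsCoatom (stabilizer G α) :=
    IsPreprimitive.isCoatom_stabilizer_of_isPreprimitive G α
  rcases hco.le_iff.mp (stab_le_setStab α T hα) with h | h
  · obtain ⟨t, ht⟩ := hTne
    rw [Set.eq_univ_iff_forall]
    intro y
    obtain ⟨g, rfl⟩ := exists_smul_eq G t y
    have hg : g ∈ setStab T := by rw [h]; trivial
    exact (hg t).mpr ht
  · exfalso
    have := stab_le_setStab γ T hγ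
    rw [h] at this
    exact not_stab_le hprim hH α γ hne this

section main

variable [FaithfulSMul G Ω] (hprim : IsPreprimitive G Ω)
  (hH : ∀ α : Ω, stabilizer G α ≠ ⊥)
  (hep : ∀ (α : Ω) (ω : Ω), IsPreprimitive (stabilizer G α) (orbit (stabilizer G α) ω))

include hep in
/-- The kernel is transitive on any orbit where it acts nontrivially. -/
theorem ker_trans (α δ σ : Ω) (k₀ : stabilizer G α) (hk₀ : k₀ ∈ orbKer α δ)
    (y₀ : Ω) (hy₀ : y₀ ∈ orbit (stabilizer G α) σ) (hmove : k₀ • y₀ ≠ y₀)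
    (x y : Ω) (hx : x ∈ orbit (stabilizer G α) σ) (hy : y ∈ orbit (stabilizer G α) σ) :
    ∃ k ∈ orbKer (G := G) α δ, k • x = y := by
  haveI := hep α σ
  have hfp : fixedPoints (orbKer (G := G) α δ) (orbit (stabilizer G α) σ) ≠ Set.univ := by
    intro h
    have h1 : (⟨y₀, hy₀⟩ : orbit (stabilizer G α) σ) ∈
        fixedPoints (orbKer (G := G) α δ) (orbit (stabilizer G α) σ) := by
      rw [h]; trivial
    have h2 := h1 ⟨k₀, hk₀⟩
    apply hmove
    exact congrArg Subtype.val h2
  haveI := IsQuasiPreprimitive.isPretransitive_of_normal (G := stabilizer G α)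
    (X := orbit (stabilizer G α) σ) (N := orbKer α δ) hfp
  obtain ⟨k, hk⟩ := exists_smul_eq (orbKer (G := G) α δ)
    (⟨x, hx⟩ : orbit (stabilizer G α) σ) ⟨y, hy⟩
  exact ⟨k.1, k.2, congrArg Subtype.val hk⟩

include hprim hH hep in
theorem card_lt_one (α δ σ : Ω) (hδ : δ ≠ α) (k₀ : stabilizer G α) (hk₀ : k₀ ∈ orbKer α δ)
    (y₀ : Ω) (hy₀ : y₀ ∈ orbit (stabilizer G α) σ) (hmove : k₀ • y₀ ≠ y₀)
    (β : Ω) (hβ : β ∈ orbit (stabilizer G α) δ) :
    Nat.card (orbit (stabilizer G α) σ) < Nat.card (orbit (stabilizer G β) σ) := by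
  have hβα : α ≠ β := by
    rintro rfl
    obtain ⟨g, hg⟩ := hβ
    apply hδ
    have h1 : (g : G) • δ = α := hg
    have h2 : (g : G) • α = α := g.2
    exact smul_left_cancel _ (h1.trans h2.symm)
  have hsub : orbit (stabilizer G α) σ ⊆ orbit (stabilizer G β) σ := by
    intro x hx
    obtain ⟨k, hk, hkx⟩ := ker_trans hep α δ σ k₀ hk₀ y₀ hy₀ hmove σ x
      (mem_orbit_self σ) hx
    have hkβ : (k : G) ∈ stabilizer G β := by
      rw [mem_stabilizer_iff]
      exact (mem_orbKer k).mp hk β hβ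
    exact ⟨⟨k, hkβ⟩, hkx⟩
  by_contra hlt
  push Not at hlt
  have heq : orbit (stabilizer G α) σ = orbit (stabilizer G β) σ := by
    apply Set.eq_of_subset_of_ncard_le hsub _ (Set.toFinite _)
    rw [← Nat.card_coe_set_eq, ← Nat.card_coe_set_eq]
    exact hlt
  have huniv := eq_univ_of_invariant hprim hH α β hβα (orbit (stabilizer G α) σ)
    ⟨σ, mem_orbit_self σ⟩
    (by
      rintro g hg x ⟨h, rfl⟩
      exact ⟨⟨g, hg⟩ * h, by simp [mul_smul]⟩)
    (by
      rw [heq]
      rintro g hg x ⟨h, rfl⟩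
      exact ⟨⟨g, hg⟩ * h, by simp [mul_smul]⟩)
  have hα : α ∈ orbit (stabilizer G α) σ := by rw [huniv]; trivial
  -- then the orbit is {α}
  obtain ⟨g, hg⟩ := hα
  have hσ : σ = α := by
    have h1 : (g : G) • σ = α := hg
    have h2 : (g : G) • α = α := g.2
    exact smul_left_cancel _ (h1.trans h2.symm)
  subst hσ
  obtain ⟨g', hg'⟩ := hy₀
  have : y₀ = σ := by
    rw [← hg']
    exact g'.2
  apply hmove
  rw [this]
  exact k₀.2

include hprim hH hep in
theorem card_lt_two (α δ σ : Ω) (hδ : δ ≠ α) (k₀ : stabilizer G α) (hk₀ : k₀ ∈ orbKer α δ)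
    (y₀ : Ω) (hy₀ : y₀ ∈ orbit (stabilizer G α) σ) (hmove : k₀ • y₀ ≠ y₀) :
    Nat.card (orbit (stabilizer G α) δ) < Nat.card (orbit (stabilizer G σ) δ) := by
  have hσα : α ≠ σ := by
    rintro rfl
    obtain ⟨g', hg'⟩ := hy₀
    have : y₀ = α := by
      rw [← hg']
      exact g'.2
    apply hmove
    rw [this]
    exact k₀.2
  have hsub : orbit (stabilizer G α) δ ⊆ orbit (stabilizer G σ) δ := by
    rintro β' ⟨g, rfl⟩
    obtain ⟨k, hk, hkx⟩ := ker_trans hep α δ σ k₀ hk₀ y₀ hy₀ hmove (g • σ) σ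
      ⟨g, rfl⟩ (mem_orbit_self σ)
    have hkβ : k • (g • δ) = g • δ := (mem_orbKer k).mp hk (g • δ) ⟨g, rfl⟩
    refine ⟨⟨(k : G) * (g : G), ?_⟩, ?_⟩
    · rw [mem_stabilizer_iff, mul_smul]
      exact hkx
    · change ((k : G) * (g : G)) • δ = g • δ
      rw [mul_smul]
      exact hkβ
  by_contra hlt
  push Not at hlt
  have heq : orbit (stabilizer G α) δ = orbit (stabilizer G σ) δ := by
    apply Set.eq_of_subset_of_ncard_le hsub _ (Set.toFinite _)
    rw [← Nat.card_coe_set_eq, ← Nat.card_coe_set_eq]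
    exact hlt
  have huniv := eq_univ_of_invariant hprim hH α σ hσα (orbit (stabilizer G α) δ)
    ⟨δ, mem_orbit_self δ⟩
    (by
      rintro g hg x ⟨h, rfl⟩
      exact ⟨⟨g, hg⟩ * h, by simp [mul_smul]⟩)
    (by
      rw [heq]
      rintro g hg x ⟨h, rfl⟩
      exact ⟨⟨g, hg⟩ * h, by simp [mul_smul]⟩)
  have hα : α ∈ orbit (stabilizer G α) δ := by rw [huniv]; trivial
  obtain ⟨g, hg⟩ := hα
  apply hδ
  have h1 : (g : G) • δ = α := hg
  have h2 : (g : G) • α = α := g.2
  exact smul_left_cancel _ (h1.trans h2.symm)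

omit [Finite G] [FaithfulSMul G Ω] in
theorem card_orbit_smul (g : G) (a w : Ω) :
    Nat.card (orbit (stabilizer G (g • a)) (g • w)) = Nat.card (orbit (stabilizer G a) w) := by
  symm
  refine Nat.card_congr (Equiv.ofBijective
    (fun x : orbit (stabilizer G a) w => (⟨g • x.1, ?_⟩ : orbit (stabilizer G (g • a)) (g • w))) ⟨?_, ?_⟩)
  · obtain ⟨h, hh⟩ := x.2
    refine ⟨⟨g * h * g⁻¹, ?_⟩, ?_⟩
    · rw [mem_stabilizer_iff, mul_smul, mul_smul, inv_smul_smul]
      congr 1
      exact h.2
    · change (g * (h : G) * g⁻¹) • g • w = g • x.1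
      rw [mul_smul, mul_smul, inv_smul_smul]
      congr 1
  · intro x y hxy
    apply Subtype.ext
    have := congrArg Subtype.val hxy
    exact smul_left_cancel g this
  · rintro ⟨y, h, hh⟩
    refine ⟨⟨g⁻¹ • y, ?_⟩, ?_⟩
    · refine ⟨⟨g⁻¹ * h * g, ?_⟩, ?_⟩
      · rw [mem_stabilizer_iff, mul_smul, mul_smul]
        have := h.2
        rw [mem_stabilizer_iff] at this
        rw [this, inv_smul_smul]
      · change (g⁻¹ * (h : G) * g) • w = g⁻¹ • y
        rw [mul_smul, mul_smul]
        congr 1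
    · apply Subtype.ext
      simp

include hprim hH hep in
theorem main (α ω : Ω) (hω : ω ≠ α) (h : stabilizer G α)
    (hfix : ∀ x ∈ orbit (stabilizer G α) ω, h • x = x) : h = 1 := by
  by_contra hne
  have hker : h ∈ orbKer α ω := (mem_orbKer h).mpr hfix
  -- h moves some point
  have hmove : ∃ x : Ω, h • x ≠ x := by
    by_contra hall
    push Not at hall
    apply hne
    apply Subtype.ext
    apply FaithfulSMul.eq_of_smul_eq_smul (α := Ω)
    intro x
    rw [Subgroup.coe_one, one_smul]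
    exact hall x
  obtain ⟨x, hx⟩ := hmove
  -- the maximal suborbit size
  haveI : Nonempty (Ω × Ω) := ⟨(α, ω)⟩
  obtain ⟨⟨a₀, w₀⟩, hmax⟩ := Finite.exists_max
    (fun p : Ω × Ω => Nat.card (orbit (stabilizer G p.1) p.2))
  obtain ⟨g, hg⟩ := exists_smul_eq G a₀ α
  have hcard : Nat.card (orbit (stabilizer G α) (g • w₀))
      = Nat.card (orbit (stabilizer G a₀) w₀) := by
    rw [← hg]
    exact card_orbit_smul g a₀ w₀
  have hle : ∀ a w : Ω, Nat.card (orbit (stabilizer G a) w)
      ≤ Nat.card (orbit (stabilizer G α) (g • w₀)) := by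
    intro a w
    rw [hcard]
    exact hmax (a, w)
  -- step 1: h acts trivially on the largest orbit
  have hfix2 : ∀ y ∈ orbit (stabilizer G α) (g • w₀), h • y = y := by
    intro y hy
    by_contra hmv
    have := card_lt_one hprim hH hep α ω (g • w₀) hω h hker y hy hmv ω (mem_orbit_self ω)
    have h2 := hle ω (g • w₀)
    omega
  have hker2 : h ∈ orbKer α (g • w₀) := (mem_orbKer h).mpr hfix2
  -- step 2: the largest orbit is not {α}
  have hne2 : g • w₀ ≠ α := by
    intro heq
    have := card_lt_one hprim hH hep α ω x hω h hker x (mem_orbit_self x) hx ω (mem_orbit_self ω)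
    have h2 := hle ω x
    have h3 : Nat.card (orbit (stabilizer G α) (g • w₀)) = 1 := by
      rw [heq]
      have : orbit (stabilizer G α) α = {α} := by
        ext z
        constructor
        · rintro ⟨k, rfl⟩
          exact k.2
        · rintro rfl
          exact mem_orbit_self _
      rw [this]
      simp
    haveI : Nonempty (orbit (stabilizer G α) x) := ⟨⟨x, mem_orbit_self x⟩⟩
    have h4 : 0 < Nat.card (orbit (stabilizer G α) x) := Nat.card_pos
    omega
  -- step 3
  have := card_lt_two hprim hH hep α (g • w₀) x hne2 h hker2 x (mem_orbit_self x) hx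
  have h2 := hle x (g • w₀)
  omega

end main

end Cfsg.Agent.Lib.Helper4.Manning
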