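import Mathlib

/-! Normal nilpotent subgroups of a finite primitive faithful group. -/

namespace Cfsg.Agent.Lib.Helper4.PrimNormal

open MulAction

variable {H : Type*} [Group H] {Δ : Type*} [MulAction H Δ] [FaithfulSMul H Δ]

/-- A nontrivial normal subgroup of a primitive faithful group is transitive. -/
theorem trans_of_normal (hprim : IsPreprimitive H Δ) (N : Subgroup H) [N.Normal] (hN : N ≠ ⊥)
    (x y : Δ) : ∃ n ∈ N, n • x = y := by
  have hfp : fixedPoints N Δ ≠ Set.univ := by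
    intro h
    apply hN
    rw [eq_bot_iff]
    intro n hn
    rw [Subgroup.mem_bot]
    apply FaithfulSMul.eq_of_smul_eq_smul (α := Δ)
    intro z
    have hz : z ∈ fixedPoints N Δ := by rw [h]; trivial
    rw [one_smul]
    exact hz ⟨n, hn⟩
  haveI := IsQuasiPreprimitive.isPretransitive_of_normal (G := H) (X := Δ) (N := N) hfp
  obtain ⟨n, hn⟩ := exists_smul_eq N x y
  exact ⟨n.1, n.2, hn⟩

/-- An abelian nontrivial normal subgroup is regular. -/
theorem regular_of_abelian (hprim : IsPreprimitive H Δ) (N : Subgroup H) [N.Normal] (hN : N ≠ ⊥)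
    (hcomm : ∀ a ∈ N, ∀ b ∈ N, a * b = b * a) (n : H) (hn : n ∈ N) (δ : Δ) (hfix : n • δ = δ) :
    n = 1 := by
  apply FaithfulSMul.eq_of_smul_eq_smul (α := Δ)
  intro x
  obtain ⟨m, hm, rfl⟩ := trans_of_normal hprim N hN δ x
  rw [one_smul, ← mul_smul, hcomm n hn m hm, mul_smul, hfix]

/-- An abelian nontrivial normal subgroup is self-centralizing. -/
theorem cent_le_of_abelian (hprim : IsPreprimitive H Δ) (N : Subgroup H) [N.Normal] (hN : N ≠ ⊥)
    (hcomm : ∀ a ∈ N, ∀ b ∈ N, a * b = b * a)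
    (δ : Δ) (c : H) (hc : ∀ n ∈ N, c * n = n * c) : c ∈ N := by
  obtain ⟨m, hm, hmδ⟩ := trans_of_normal hprim N hN δ (c • δ)
  have hfixδ : (m⁻¹ * c) • δ = δ := by
    rw [mul_smul, ← hmδ, inv_smul_smul]
  have h1 : m⁻¹ * c = 1 := by
    apply FaithfulSMul.eq_of_smul_eq_smul (α := Δ)
    intro x
    obtain ⟨n, hn, rfl⟩ := trans_of_normal hprim N hN δ x
    have hcm : (m⁻¹ * c) * n = n * (m⁻¹ * c) := by
      rw [mul_assoc, hc n hn, ← mul_assoc, hcomm m⁻¹ (inv_mem hm) n hn, mul_assoc]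
    rw [one_smul, ← mul_smul, hcm, mul_smul, hfixδ]
  have h2 : c = m := by
    rw [inv_mul_eq_one] at h1
    exact h1.symm
  rw [h2]
  exact hm

/-- Two nontrivial abelian normal subgroups coincide. -/
theorem le_of_abelian (hprim : IsPreprimitive H Δ) (N₁ N₂ : Subgroup H) [N₁.Normal] [N₂.Normal]
    (h1 : N₁ ≠ ⊥) (h2 : N₂ ≠ ⊥)
    (hc1 : ∀ a ∈ N₁, ∀ b ∈ N₁, a * b = b * a) (hc2 : ∀ a ∈ N₂, ∀ b ∈ N₂, a * b = b * a)
    (δ : Δ) : N₁ ≤ N₂ := by
  by_cases hI : N₁ ⊓ N₂ = ⊥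
  · -- then they commute, so N₁ ≤ C(N₂) ≤ N₂
    intro a ha
    apply cent_le_of_abelian hprim N₂ h2 hc2 δ a
    intro n hn
    have hmem : a * n * a⁻¹ * n⁻¹ ∈ N₁ ⊓ N₂ := by
      refine ⟨?_, ?_⟩
      · have : n * a⁻¹ * n⁻¹ ∈ N₁ := Subgroup.Normal.conj_mem inferInstance _ (inv_mem ha) n
        have h3 := N₁.mul_mem ha this
        have h4 : a * (n * a⁻¹ * n⁻¹) = a * n * a⁻¹ * n⁻¹ := by group
        rw [h4] at h3
        exact h3
      · have : a * n * a⁻¹ ∈ N₂ := Subgroup.Normal.conj_mem inferInstance _ hn a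
        exact N₂.mul_mem this (inv_mem hn)
    rw [hI, Subgroup.mem_bot] at hmem
    have : a * n = n * a := by
      have h4 : a * n * a⁻¹ * n⁻¹ * (n * a) = n * a := by rw [hmem, one_mul]
      rw [← h4]
      group
    exact this
  · intro a ha
    obtain ⟨m, hm, hmδ⟩ := trans_of_normal hprim (N₁ ⊓ N₂) hI δ (a • δ)
    have hfix : (m⁻¹ * a) • δ = δ := by
      rw [mul_smul, ← hmδ, inv_smul_smul]
    have := regular_of_abelian hprim N₁ h1 hc1 (m⁻¹ * a) (N₁.mul_mem (inv_mem hm.1) ha) δ hfix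
    rw [inv_mul_eq_one] at this
    rw [← this]
    exact hm.2

theorem eq_of_abelian (hprim : IsPreprimitive H Δ) (N₁ N₂ : Subgroup H) [N₁.Normal] [N₂.Normal]
    (h1 : N₁ ≠ ⊥) (h2 : N₂ ≠ ⊥)
    (hc1 : ∀ a ∈ N₁, ∀ b ∈ N₁, a * b = b * a) (hc2 : ∀ a ∈ N₂, ∀ b ∈ N₂, a * b = b * a)
    (δ : Δ) : N₁ = N₂ :=
  le_antisymm (le_of_abelian hprim N₁ N₂ h1 h2 hc1 hc2 δ)
    (le_of_abelian hprim N₂ N₁ h2 h1 hc2 hc1 δ)

/-- A nontrivial normal nilpotent subgroup is abelian. -/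
theorem abelian_of_nilpotent (hprim : IsPreprimitive H Δ) (N : Subgroup H) [hNn : N.Normal]
    (hN : N ≠ ⊥) [Group.IsNilpotent N] (δ : Δ) : ∀ a ∈ N, ∀ b ∈ N, a * b = b * a := by
  -- the centre of N, as a subgroup of H
  let A : Subgroup H := (Subgroup.center N).map N.subtype
  have hAmem : ∀ x, x ∈ A ↔ ∃ hx : x ∈ N, ∀ y : N, y * ⟨x, hx⟩ = ⟨x, hx⟩ * y := by
    intro x
    constructor
    · rintro ⟨⟨z, hz⟩, hzc, rfl⟩
      exact ⟨hz, fun y => (Subgroup.mem_center_iff.mp hzc y)⟩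
    · rintro ⟨hx, hc⟩
      exact ⟨⟨x, hx⟩, Subgroup.mem_center_iff.mpr hc, rfl⟩
  haveI hAnormal : A.Normal := by
    constructor
    intro x hx g
    obtain ⟨hxN, hc⟩ := (hAmem x).mp hx
    rw [hAmem]
    refine ⟨hNn.conj_mem x hxN g, ?_⟩
    intro y
    have hy' : g⁻¹ * y.1 * g ∈ N := by
      have := hNn.conj_mem y.1 y.2 g⁻¹
      simpa using this
    have := hc ⟨g⁻¹ * y.1 * g, hy'⟩
    have h2 := congrArg Subtype.val this
    simp only [Subgroup.coe_mul] at h2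
    apply Subtype.ext
    simp only [Subgroup.coe_mul]
    calc y.1 * (g * x * g⁻¹) = g * ((g⁻¹ * y.1 * g) * x) * g⁻¹ := by group
      _ = g * (x * (g⁻¹ * y.1 * g)) * g⁻¹ := by rw [h2]
      _ = g * x * g⁻¹ * y.1 := by group
  haveI : Nontrivial N := by
    rw [Subgroup.nontrivial_iff_ne_bot]
    exact hN
  have hAne : A ≠ ⊥ := by
    intro h
    have hcb := Group.IsNilpotent.center_ne_bot (G := N)
    apply hcb
    rw [eq_bot_iff]
    intro z hz
    have : (z : H) ∈ A := ⟨z, hz, rfl⟩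
    rw [h, Subgroup.mem_bot] at this
    rw [Subgroup.mem_bot]
    exact Subtype.ext this
  have hAcomm : ∀ a ∈ A, ∀ b ∈ A, a * b = b * a := by
    intro a ha b hb
    obtain ⟨haN, hc⟩ := (hAmem a).mp ha
    obtain ⟨hbN, _⟩ := (hAmem b).mp hb
    have := hc ⟨b, hbN⟩
    exact (congrArg Subtype.val this).symm
  have hNA : N ≤ A := by
    intro n hn
    apply cent_le_of_abelian hprim A hAne hAcomm δ n
    intro a ha
    obtain ⟨haN, hc⟩ := (hAmem a).mp ha
    have := hc ⟨n, hn⟩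
    exact congrArg Subtype.val this
  intro a ha b hb
  exact hAcomm a (hNA ha) b (hNA hb)

/-- A nontrivial abelian normal subgroup has prime exponent. -/
theorem exists_prime_exponent [Finite H] (hprim : IsPreprimitive H Δ) (N : Subgroup H) [hNn : N.Normal]
    (hN : N ≠ ⊥) (hcomm : ∀ a ∈ N, ∀ b ∈ N, a * b = b * a) (δ : Δ) :
    ∃ p : ℕ, p.Prime ∧ ∀ x ∈ N, x ^ p = 1 := by
  have hcard : Nat.card N ≠ 1 := by
    intro h
    apply hN
    exact Subgroup.card_eq_one.mp h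
  obtain ⟨p, hp, hpd⟩ := Nat.exists_prime_and_dvd hcard
  haveI : Fact p.Prime := ⟨hp⟩
  obtain ⟨⟨z, hzN⟩, hz⟩ := exists_prime_orderOf_dvd_card' (G := N) p hpd
  refine ⟨p, hp, ?_⟩
  let P : Subgroup H :=
    { carrier := {x | x ∈ N ∧ x ^ p = 1}
      one_mem' := ⟨N.one_mem, one_pow _⟩
      mul_mem' := by
        rintro a b ⟨ha, hap⟩ ⟨hb, hbp⟩
        refine ⟨N.mul_mem ha hb, ?_⟩
        rw [(show Commute a b from hcomm a ha b hb).mul_pow, hap, hbp, one_mul]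
      inv_mem' := by
        rintro a ⟨ha, hap⟩
        exact ⟨N.inv_mem ha, by rw [inv_pow, hap, inv_one]⟩ }
  have hPmem : ∀ x, x ∈ P ↔ x ∈ N ∧ x ^ p = 1 := fun x => Iff.rfl
  haveI : P.Normal := by
    constructor
    intro x hx g
    obtain ⟨hxN, hxp⟩ := (hPmem x).mp hx
    rw [hPmem]
    refine ⟨hNn.conj_mem x hxN g, ?_⟩
    rw [conj_pow, hxp, mul_one, mul_inv_cancel]
  have hzP : z ∈ P := by
    rw [hPmem]
    refine ⟨hzN, ?_⟩
    have h1 : (⟨z, hzN⟩ : N) ^ p = 1 := by rw [← hz]; exact pow_orderOf_eq_one _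
    exact congrArg Subtype.val h1
  have hz1 : z ≠ 1 := by
    intro h
    have : (⟨z, hzN⟩ : N) = 1 := Subtype.ext h
    rw [this, orderOf_one] at hz
    exact hp.one_lt.ne hz
  have hPne : P ≠ ⊥ := by
    intro h
    rw [h, Subgroup.mem_bot] at hzP
    exact hz1 hzP
  have hPcomm : ∀ a ∈ P, ∀ b ∈ P, a * b = b * a :=
    fun a ha b hb => hcomm a ha.1 b hb.1
  have := le_of_abelian hprim N P hN hPne hcomm hPcomm δ
  intro x hx
  exact (this hx).2

/-- A regular group has as many elements as points. -/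
theorem card_eq_of_regular (hprim : IsPreprimitive H Δ) (N : Subgroup H) [N.Normal] (hN : N ≠ ⊥)
    (hcomm : ∀ a ∈ N, ∀ b ∈ N, a * b = b * a) (δ : Δ) : Nat.card N = Nat.card Δ := by
  refine Nat.card_congr (Equiv.ofBijective (fun n : N => (n : H) • δ) ⟨?_, ?_⟩)
  · intro a b hab
    have hab' : (a : H) • δ = (b : H) • δ := hab
    have hfix : ((b : H)⁻¹ * a) • δ = δ := by
      rw [mul_smul, hab', inv_smul_smul]
    have := regular_of_abelian hprim N hN hcomm _ (N.mul_mem (inv_mem b.2) a.2) δ hfix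
    rw [inv_mul_eq_one] at this
    exact Subtype.ext this.symm
  · intro y
    obtain ⟨n, hn, hny⟩ := trans_of_normal hprim N hN δ y
    exact ⟨⟨n, hn⟩, hny⟩

end Cfsg.Agent.Lib.Helper4.PrimNormal
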