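import Mathlib
import Cfsg.Prelude.Def_Solvable
import Cfsg.Agent.Lib.Helper4.Manning
import Cfsg.Agent.Lib.Helper4.PrimNormal
import Cfsg.Agent.Lib.Helper4.ElemAbGL

/-! Point stabilizers of extremely primitive groups. -/

namespace Cfsg.Agent.Lib.Helper4.ExtPrim

open MulAction Cfsg.Agent.Lib.Helper4.Manning Cfsg.Agent.Lib.Helper4.PrimNormal

theorem prime_card_of_isCoatom_bot {H : Type*} [Group H] [Finite H]
    (h : IsCoatom (⊥ : Subgroup H)) : (Nat.card H).Prime := by
  have hne : Nat.card H ≠ 1 := by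
    intro h1
    have : (⊥ : Subgroup H) = ⊤ := by
      have := (Subgroup.card_eq_one (H := (⊤ : Subgroup H))).mp (by rw [Subgroup.card_top]; exact h1)
      exact this.symm
    exact h.1 this
  obtain ⟨p, hp, hpd⟩ := Nat.exists_prime_and_dvd hne
  haveI : Fact p.Prime := ⟨hp⟩
  obtain ⟨y, hy⟩ := exists_prime_orderOf_dvd_card' (G := H) p hpd
  have hy1 : y ≠ 1 := by
    rintro rfl
    rw [orderOf_one] at hy
    exact hp.one_lt.ne hy
  have hz : Subgroup.zpowers y = ⊤ := by
    apply h.2
    rw [bot_lt_iff_ne_bot]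
    intro hb
    apply hy1
    have : y ∈ Subgroup.zpowers y := Subgroup.mem_zpowers y
    rw [hb, Subgroup.mem_bot] at this
    exact this
  have : Nat.card H = p := by
    rw [← Subgroup.card_top, ← hz, Nat.card_zpowers, hy]
  rw [this]
  exact hp

variable {G : Type*} [Group G] [Finite G] {Ω : Type*} [Fintype Ω] [MulAction G Ω]
  [FaithfulSMul G Ω]

omit [Finite G] [Fintype Ω] [FaithfulSMul G Ω] in
theorem stab_ne_bot (htr : IsPretransitive G Ω) (α : Ω) (h : stabilizer G α ≠ ⊥) (a : Ω) :
    stabilizer G a ≠ ⊥ := by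
  obtain ⟨g, rfl⟩ := exists_smul_eq G α a
  intro hb
  apply h
  rw [eq_bot_iff]
  intro x hx
  have : g * x * g⁻¹ ∈ stabilizer G (g • α) := by
    rw [mem_stabilizer_iff, mul_smul, mul_smul, inv_smul_smul, mem_stabilizer_iff.mp hx]
  rw [hb, Subgroup.mem_bot] at this
  rw [Subgroup.mem_bot]
  have h2 : x = g⁻¹ * (g * x * g⁻¹) * g := by group
  rw [h2, this]
  group

theorem faithful_orbit (hprim : IsPreprimitive G Ω) (hH : ∀ α : Ω, stabilizer G α ≠ ⊥)
    (hep : ∀ (α : Ω) (ω : Ω), IsPreprimitive (stabilizer G α) (orbit (stabilizer G α) ω))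
    (α ω : Ω) (hω : ω ≠ α) : FaithfulSMul (stabilizer G α) (orbit (stabilizer G α) ω) := by
  constructor
  intro h₁ h₂ hh
  have := Manning.main hprim hH hep α ω hω (h₂⁻¹ * h₁) (by
    intro x hx
    have := congrArg Subtype.val (hh ⟨x, hx⟩)
    have h3 : h₁ • x = h₂ • x := this
    rw [mul_smul, h3, inv_smul_smul])
  rw [inv_mul_eq_one] at this
  exact this.symm

theorem main (hprim : IsPreprimitive G Ω)
    (hep : ∀ (α : Ω) (ω : Ω), IsPreprimitive (stabilizer G α) (orbit (stabilizer G α) ω))
    (α : Ω) (hH1 : stabilizer G α ≠ ⊥) (hHp : ¬ (Nat.card (stabilizer G α)).Prime) :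
    Subgroup.center (stabilizer G α) = ⊥ ∧
    IsMulCommutative (Cfsg.fittingSubgroup (stabilizer G α)) ∧
    ∃ p e : ℕ, p.Prime ∧ Nat.card (Cfsg.fittingSubgroup (stabilizer G α)) = p ^ e ∧
      (∀ x ∈ Cfsg.fittingSubgroup (stabilizer G α), x ^ p = 1) ∧
      (Cfsg.fittingSubgroup (stabilizer G α) ≠ ⊥ →
        p ^ e ∣ Fintype.card Ω - 1 ∧
        ∃ φ : stabilizer G α →* GL (Fin e) (ZMod p),
          φ.ker = Cfsg.fittingSubgroup (stabilizer G α)) := by
  classical
  have hH : ∀ a : Ω, stabilizer G a ≠ ⊥ := stab_ne_bot hprim.toIsPretransitive α hH1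
  -- a point other than α
  obtain ⟨ω, hω⟩ : ∃ ω : Ω, ω ≠ α := by
    by_contra hall
    push Not at hall
    apply hH1
    rw [eq_bot_iff]
    intro x _
    rw [Subgroup.mem_bot]
    apply FaithfulSMul.eq_of_smul_eq_smul (α := Ω)
    intro z
    rw [hall z, hall (x • α), one_smul]
  have hfaith : ∀ ω' : Ω, ω' ≠ α → FaithfulSMul (stabilizer G α) (orbit (stabilizer G α) ω') :=
    fun ω' h' => faithful_orbit hprim hH hep α ω' h'
  have hpr : ∀ ω' : Ω, IsPreprimitive (stabilizer G α) (orbit (stabilizer G α) ω') := hep α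
  let pt : ∀ ω' : Ω, orbit (stabilizer G α) ω' := fun ω' => ⟨ω', mem_orbit_self ω'⟩
  refine ⟨?_, ?_⟩
  · -- the centre is trivial
    by_contra hZ
    haveI := hfaith ω hω
    have hZcomm : ∀ a ∈ Subgroup.center (stabilizer G α),
        ∀ b ∈ Subgroup.center (stabilizer G α), a * b = b * a := by
      intro a ha b _
      exact (Subgroup.mem_center_iff.mp ha b).symm
    have htop : Subgroup.center (stabilizer G α) = ⊤ := by
      rw [eq_top_iff]
      intro c _
      apply cent_le_of_abelian (hpr ω) _ hZ hZcomm (pt ω) c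
      intro n hn
      exact Subgroup.mem_center_iff.mp hn c
    have hcard := card_eq_of_regular (hpr ω) _ hZ hZcomm (pt ω)
    rw [htop, Subgroup.card_top] at hcard
    have hstab : stabilizer (stabilizer G α) (pt ω) = ⊥ := by
      rw [eq_bot_iff]
      intro n hn
      rw [Subgroup.mem_bot]
      exact regular_of_abelian (hpr ω) _ hZ hZcomm n (by rw [htop]; trivial) (pt ω)
        (mem_stabilizer_iff.mp hn)
    haveI : Nontrivial (orbit (stabilizer G α) ω) := by
      rw [← Finite.one_lt_card_iff_nontrivial, ← hcard]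
      rw [Finite.one_lt_card_iff_nontrivial, Subgroup.nontrivial_iff_ne_bot]
      exact hH1
    haveI := hpr ω
    have hco := IsPreprimitive.isCoatom_stabilizer_of_isPreprimitive (stabilizer G α) (pt ω)
    rw [hstab] at hco
    exact hHp (prime_card_of_isCoatom_bot hco)
  · -- the Fitting subgroup
    by_cases hall : ∀ N : Subgroup (stabilizer G α), N.Normal ∧ Group.IsNilpotent N → N = ⊥
    · have hF : Cfsg.fittingSubgroup (stabilizer G α) = ⊥ := by
        unfold Cfsg.fittingSubgroup
        rw [sSup_eq_bot]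
        exact fun N hN => hall N hN
      rw [hF]
      refine ⟨inferInstance, 2, 0, Nat.prime_two, by simp, ?_, ?_⟩
      · intro x hx
        rw [Subgroup.mem_bot] at hx
        rw [hx, one_pow]
      · intro h
        exact absurd rfl h
    · push Not at hall
      obtain ⟨N₀, ⟨hN₀n, hN₀nil⟩, hN₀⟩ := hall
      haveI := hN₀n
      haveI := hN₀nil
      have hcomm0 : ∀ a ∈ N₀, ∀ b ∈ N₀, a * b = b * a := by
        haveI := hfaith ω hω
        exact abelian_of_nilpotent (hpr ω) N₀ hN₀ (pt ω)
      have hF : Cfsg.fittingSubgroup (stabilizer G α) = N₀ := by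
        unfold Cfsg.fittingSubgroup
        apply le_antisymm
        · apply sSup_le
          rintro N ⟨hNn, hNnil⟩
          by_cases hNb : N = ⊥
          · rw [hNb]; exact bot_le
          · haveI := hNn
            haveI := hNnil
            haveI := hfaith ω hω
            have hc := abelian_of_nilpotent (hpr ω) N hNb (pt ω)
            exact le_of_abelian (hpr ω) N N₀ hNb hN₀ hc hcomm0 (pt ω)
        · exact le_sSup ⟨hN₀n, hN₀nil⟩
      rw [hF]
      obtain ⟨p, hp, hexp⟩ : ∃ p : ℕ, p.Prime ∧ ∀ x ∈ N₀, x ^ p = 1 := by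
        haveI := hfaith ω hω
        exact exists_prime_exponent (hpr ω) N₀ hN₀ hcomm0 (pt ω)
      haveI : Fact p.Prime := ⟨hp⟩
      have hpg : IsPGroup p N₀ := by
        intro x
        refine ⟨1, ?_⟩
        rw [pow_one]
        exact Subtype.ext (hexp x.1 x.2)
      obtain ⟨e, he⟩ := IsPGroup.iff_card.mp hpg
      refine ⟨⟨⟨fun a b => Subtype.ext (hcomm0 a.1 a.2 b.1 b.2)⟩⟩, p, e, hp, he, hexp, ?_⟩
      intro _
      have hcent : ∀ c : stabilizer G α, (∀ n ∈ N₀, c * n = n * c) → c ∈ N₀ := by
        intro c hc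
        haveI := hfaith ω hω
        exact cent_le_of_abelian (hpr ω) N₀ hN₀ hcomm0 (pt ω) c hc
      refine ⟨?_, ElemAbGL.exists_gl_hom N₀ p e hcomm0 hexp he hcent⟩
      -- the divisibility
      have horb : ∀ ω' : Ω, ω' ≠ α → Nat.card (orbit (stabilizer G α) ω') = p ^ e := by
        intro ω' h'
        haveI := hfaith ω' h'
        rw [← he]
        exact (card_eq_of_regular (hpr ω') N₀ hN₀ hcomm0 (pt ω')).symm
      have h1 : Fintype.card Ω - 1 = (Finset.univ.erase α).card := by
        rw [Finset.card_erase_of_mem (Finset.mem_univ α), Finset.card_univ]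
      rw [h1, Finset.card_eq_sum_card_image (fun x => orbit (stabilizer G α) x)]
      apply Finset.dvd_sum
      intro O hO
      obtain ⟨y, hy, rfl⟩ := Finset.mem_image.mp hO
      have hyα : y ≠ α := (Finset.mem_erase.mp hy).1
      have hset : (Finset.univ.erase α).filter
          (fun x => orbit (stabilizer G α) x = orbit (stabilizer G α) y)
          = (orbit (stabilizer G α) y).toFinset := by
        ext x
        simp only [Finset.mem_filter, Finset.mem_erase, Finset.mem_univ, and_true,
          Set.mem_toFinset]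
        constructor
        · rintro ⟨_, hx⟩
          rw [← hx]
          exact mem_orbit_self x
        · intro hx
          refine ⟨?_, orbit_eq_iff.mpr hx⟩
          rintro rfl
          obtain ⟨g, hg⟩ := hx
          apply hyα
          have h1 : (g : G) • y = x := hg
          have h2 : (g : G) • x = x := g.2
          exact smul_left_cancel _ (h1.trans h2.symm)
      rw [hset, Set.toFinset_card, ← Nat.card_eq_fintype_card, horb y hyα]

end Cfsg.Agent.Lib.Helper4.ExtPrim
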