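import Mathlib
import Cfsg.Prelude.Def_Spor_J2

/-!
Generic lemmas for extremely primitive actions: two-point stabilisers as intersections of conjugate
point stabilisers, maximality of stabilisers transported along conjugation and along isomorphisms.
-/

set_option autoImplicit false
set_option linter.unusedSectionVars false
set_option linter.unusedVariables false

namespace Cfsg.Agent.Lib.Helper4.ExtPrim

open MulAction

/-- the statement: a maximal subgroup isomorphic to `J₂` all of whose two-point stabilisers are maximal in it -/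
def Phi (G : Type*) [Group G] : Prop :=
  ∃ H : Subgroup G, IsCoatom H ∧ Cfsg.Spor.IsoJ2 H ∧
    ∀ x : G, x ∉ H → IsCoatom ((H ⊓ H.map (MulAut.conj x).toMonoidHom).subgroupOf H)

/-- the intersection of a subgroup with a point stabiliser is the point stabiliser in the subgroup -/
theorem inf_stabilizer_subgroupOf {G : Type*} [Group G] {X : Type*} [MulAction G X] (K : Subgroup G) (b : X) :
    (K ⊓ stabilizer G b).subgroupOf K = stabilizer ↥K b := by
  ext ⟨k, hk⟩
  rw [Subgroup.mem_subgroupOf, mem_stabilizer_iff]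
  show k ∈ K ⊓ stabilizer G b ↔ k • b = b
  rw [Subgroup.mem_inf, mem_stabilizer_iff]
  exact ⟨fun h => h.2, fun h => ⟨hk, h⟩⟩

/-- the intersection of a subgroup with a conjugate is a point stabiliser on the cosets -/
theorem inf_conj_subgroupOf {G : Type*} [Group G] (K : Subgroup G) (x : G) :
    (K ⊓ K.map (MulAut.conj x).toMonoidHom).subgroupOf K =
      stabilizer ↥K (x • ((1 : G) : G ⧸ K)) := by
  have h : K.map (MulAut.conj x).toMonoidHom = stabilizer G (x • ((1 : G) : G ⧸ K)) := by
    rw [stabilizer_smul_eq_stabilizer_map_conj, stabilizer_quotient]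
  rw [h]
  exact inf_stabilizer_subgroupOf K _

/-- maximality of a point stabiliser moves along the orbit -/
theorem isCoatom_stabilizer_smul {K : Type*} [Group K] {X : Type*} [MulAction K X] (k : K) (b : X)
    (h : IsCoatom (stabilizer K b)) : IsCoatom (stabilizer K (k • b)) := by
  rw [stabilizer_smul_eq_stabilizer_map_conj]
  exact ((MulAut.conj k).mapSubgroup.isCoatom_iff (a := stabilizer K b)).2 h

/-- a maximal subgroup of the right index inside a point stabiliser is the point stabiliser -/
theorem isCoatom_stabilizer_of_iso {J K : Type*} [Group J] [Group K] [Finite K] (ι : J ≃* K)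
    {X : Type*} [MulAction K X] (b : X) (S : Subgroup J) (hS : IsCoatom S)
    (hfix : ∀ s ∈ S, ι s • b = b) (n : ℕ) (hn : n ≠ 0) (hidx : S.index = n)
    (horb : (orbit K b).ncard = n) : IsCoatom (stabilizer K b) := by
  have hle : S.map ι.toMonoidHom ≤ stabilizer K b := by
    rintro _ ⟨s, hs, rfl⟩
    rw [mem_stabilizer_iff]
    exact hfix s hs
  have h1 : (S.map ι.toMonoidHom).index = n := by
    rw [← hidx]
    exact Subgroup.index_map_equiv S ι
  have h2 : (stabilizer K b).index = n := by
    rw [index_stabilizer, horb]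
  have h3 := Subgroup.relIndex_mul_index hle
  rw [h1, h2] at h3
  have h4 : (S.map ι.toMonoidHom).relIndex (stabilizer K b) = 1 := by
    have : (S.map ι.toMonoidHom).relIndex (stabilizer K b) * n = 1 * n := by rw [h3, one_mul]
    exact Nat.eq_of_mul_eq_mul_right (Nat.pos_of_ne_zero hn) this
  have h5 : stabilizer K b ≤ S.map ι.toMonoidHom := Subgroup.relIndex_eq_one.1 h4
  have h6 : stabilizer K b = S.map ι.toMonoidHom := le_antisymm h5 hle
  rw [h6]
  exact (ι.mapSubgroup.isCoatom_iff (a := S)).2 hS

/-- transport of subgroups of a subgroup along an isomorphism -/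
theorem isCoatom_subgroupOf_map {G G' : Type*} [Group G] [Group G'] (e : G ≃* G') (D H : Subgroup G)
    (h : IsCoatom (D.subgroupOf H)) :
    IsCoatom ((D.map e.toMonoidHom).subgroupOf (H.map e.toMonoidHom)) := by
  let eH : ↥H ≃* ↥(H.map e.toMonoidHom) := e.subgroupMap H
  have key : Subgroup.map eH.toMonoidHom (D.subgroupOf H) =
      (D.map e.toMonoidHom).subgroupOf (H.map e.toMonoidHom) := by
    ext y
    constructor
    · rintro ⟨z, hzD, hzy⟩
      have hzD' : (z : G) ∈ D := hzD
      have h1 : e (z : G) = (y : G') := congrArg Subtype.val hzy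
      show (y : G') ∈ D.map e.toMonoidHom
      exact ⟨z, hzD', h1⟩
    · intro hyD
      have hyD' : (y : G') ∈ D.map e.toMonoidHom := hyD
      obtain ⟨z, hzD, hzy⟩ := hyD'
      obtain ⟨w, hw, hwy⟩ := y.2
      have hzw : z = w := e.injective (hzy.trans hwy.symm)
      subst hzw
      exact ⟨⟨z, hw⟩, hzD, Subtype.ext hzy⟩
  rw [← key]
  exact (eH.mapSubgroup.isCoatom_iff (a := D.subgroupOf H)).2 h

/-- the statement is invariant under isomorphism -/
theorem Phi_of_equiv {G G' : Type*} [Group G] [Group G'] (e : G ≃* G') (h : Phi G) : Phi G' := by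
  obtain ⟨H, hco, ⟨iso⟩, hall⟩ := h
  refine ⟨H.map e.toMonoidHom, ?_, ⟨(e.subgroupMap H).symm.trans iso⟩, ?_⟩
  · exact (e.mapSubgroup.isCoatom_iff (a := H)).2 hco
  · intro x' hx'
    have hx : e.symm x' ∉ H := by
      intro hmem
      apply hx'
      exact ⟨e.symm x', hmem, e.apply_symm_apply x'⟩
    have h1 := isCoatom_subgroupOf_map e _ H (hall (e.symm x') hx)
    have h2 : (H ⊓ H.map (MulAut.conj (e.symm x')).toMonoidHom).map e.toMonoidHom =
        H.map e.toMonoidHom ⊓ (H.map e.toMonoidHom).map (MulAut.conj x').toMonoidHom := by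
      ext y
      constructor
      · rintro ⟨z, ⟨hz1, ⟨w, hw, hwz⟩⟩, rfl⟩
        refine ⟨⟨z, hz1, rfl⟩, ⟨e w, ⟨w, hw, rfl⟩, ?_⟩⟩
        have hwz' : e.symm x' * w * (e.symm x')⁻¹ = z := hwz
        show x' * e w * x'⁻¹ = e z
        rw [← hwz', map_mul, map_mul, map_inv, e.apply_symm_apply]
      · rintro ⟨⟨z, hz, rfl⟩, ⟨_, ⟨w, hw, rfl⟩, hwz⟩⟩
        have hwz' : x' * e w * x'⁻¹ = e z := hwz
        refine ⟨z, ⟨hz, ⟨w, hw, ?_⟩⟩, rfl⟩
        show e.symm x' * w * (e.symm x')⁻¹ = z
        apply e.injective
        rw [map_mul, map_mul, map_inv, e.apply_symm_apply]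
        exact hwz'
    rw [h2] at h1
    exact h1

end Cfsg.Agent.Lib.Helper4.ExtPrim
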