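import Mathlib
import Cfsg.Agent.Lib.Helper1.F4Cent.Defs
import Cfsg.Agent.Lib.Helper4.F4CentCC

set_option autoImplicit false
set_option maxHeartbeats 4000000

/-!
# Farm F4CENT (S2179), unit CC in the shape of the stubs (`prodL`, `chevF4`)
-/

namespace Cfsg.Agent.Lib.Helper4.F4Cent

open Cfsg Cfsg.Lie Cfsg.Agent.Lib.Helper5.ChevSym Cfsg.Agent.Lib.Helper5.ChevStruct
  Cfsg.Agent.Lib.Helper5.F4T Cfsg.Agent.Lib.Helper1.F4Cent

variable {F : Type*} [Field F]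

/-- `prodL` as a product of a mapped list -/
theorem h4_prodL_eq (D : ChevalleyDatum) (hD : D ∈ Seven) (L : List ℕ) (t : ℕ → F) :
    prodL D hD L t = (L.map fun s => xGL D hD s (t s)).prod := by
  unfold prodL wordGL
  rw [List.map_map]
  rfl

/-- unique factorisation along a commuting list of positive roots (generic) -/
theorem h4_prodL_unique (D : ChevalleyDatum) (hD : D ∈ Seven) (T : List ℕ) (hnd : T.Nodup)
    (hpos : ∀ s ∈ T, D.IsPosRoot s)
    (hcomm : ∀ a ∈ T, ∀ b ∈ T, ∀ s u : F, Commute (xGL D hD a s) (xGL D hD b u))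
    (t t' : ℕ → F) (e : prodL D hD T t = prodL D hD T t') :
    ∀ s ∈ T, t s = t' s := by
  intro s hs
  rw [h4_prodL_eq, h4_prodL_eq] at e
  have := h4_coeff D hD T T hnd hnd hpos hpos hcomm hcomm t t' e s (hpos s hs)
  simpa [hs] using this

variable [CharP F 2]

/-- Unit CC (stub shape): the cell constraint -/
theorem CC_cell (T : List ℕ) (hnd : T.Nodup) (hpos : ∀ s ∈ T, chevF4.IsPosRoot s)
    (hcomm : ∀ a ∈ T, ∀ b ∈ T, ∀ s u : F,
      Commute (xGL chevF4 hF4 a s) (xGL chevF4 hF4 b u))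
    (wd : List ℕ) (hwd : Wd chevF4 wd) (t t' : ℕ → F)
    (e : wGL chevF4 hF4 wd * prodL chevF4 hF4 T t * (wGL chevF4 hF4 wd)⁻¹
      = prodL chevF4 hF4 T t') :
    (∀ s ∈ T, t s ≠ 0 → wAct chevF4 wd s ∈ T) ∧
    (∀ s ∈ T, t' s ≠ 0 → ∃ r ∈ T, wAct chevF4 wd r = s) := by
  rw [h4_prodL_eq, h4_prodL_eq] at e
  obtain ⟨h1, h2⟩ := cell_constraint chevF4 hF4 T hnd hpos hcomm wd hwd t t' e
  refine ⟨fun s hs hts => (h1 s hs hts).1, fun s hs hts => ?_⟩
  obtain ⟨r, hr, hrs, -⟩ := h2 s hs hts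
  exact ⟨r, hr, hrs⟩

omit [CharP F 2] in
/-- Unit CC, second part (stub shape): unique factorisation for commuting positive roots -/
theorem CC_unique (T : List ℕ) (hnd : T.Nodup) (hpos : ∀ s ∈ T, chevF4.IsPosRoot s)
    (hcomm : ∀ a ∈ T, ∀ b ∈ T, ∀ s u : F,
      Commute (xGL chevF4 hF4 a s) (xGL chevF4 hF4 b u))
    (t t' : ℕ → F) (e : prodL chevF4 hF4 T t = prodL chevF4 hF4 T t') :
    ∀ s ∈ T, t s = t' s :=
  h4_prodL_unique chevF4 hF4 T hnd hpos hcomm t t' e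

end Cfsg.Agent.Lib.Helper4.F4Cent
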