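import Mathlib
import Cfsg.Prelude.Def_SporCoxeter

/-! The Frobenius group of order 55 presented on `x` of order 11 and `y` of order 5 (generated). -/

namespace Cfsg.Agent.Lib.Helper4

namespace F55

/-- the generators -/
inductive Gen
  | x
  | y
  deriving DecidableEq

abbrev x : FreeGroup Gen := FreeGroup.of Gen.x
abbrev y : FreeGroup Gen := FreeGroup.of Gen.y

/-- no Coxeter graph -/
def edges : List (Gen × ℕ × Gen) := []

/-- the relators -/
def extra : List (FreeGroup Gen) := [
  x ^ 11,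
  y ^ 5,
  y⁻¹ * x * y * x⁻¹ * x⁻¹ * x⁻¹ * x⁻¹ * x⁻¹ ]

end F55

end Cfsg.Agent.Lib.Helper4
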