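import Mathlib
import Cfsg.Prelude.Def_Local
import Cfsg.Agent.Lib.Helper1.PSolvExt
import Cfsg.Agent.Lib.Helper3.PSolvable

/-! Farm FG19 (S4411), unit PSolv: if `Λ / C_Λ(H)` is `p`-solvable and every `p`-element of
`C_Λ(H)` lies in the normal `p`-subgroup `H`, then `Λ` is `p`-solvable.

Proof: `Z = H ⊓ C` is a normal `p`-subgroup; `C / Z` has no element of order `p`, so it is a
`p'`-group; and `(Λ / Z) / (C / Z) ≃ Λ / C`. -/

set_option autoImplicit false
set_option linter.unusedVariables false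
universe u

namespace Cfsg.Agent.Lib.Helper4.FG19

open Cfsg

variable {p : ℕ} [Fact p.Prime]

theorem isPSolvable_of_centralizer {Λ : Type u} [Group Λ] [Finite Λ] (H : Subgroup Λ) [H.Normal]
    (hH : IsPGroup p H) (Cn : Subgroup Λ) [Cn.Normal]
    (hCn : Cn = Subgroup.centralizer (H : Set Λ)) (hsol : IsPSolvable p (Λ ⧸ Cn))
    (hel : ∀ x ∈ Cn, (∃ k : ℕ, orderOf x = p ^ k) → x ∈ H) : IsPSolvable p Λ := by
  have hp : p.Prime := Fact.out
  -- the normal `p`-subgroup `Z`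
  let Z : Subgroup Λ := H ⊓ Cn
  have hZn : Z.Normal := inferInstance
  have hZp : IsPGroup p Z := hH.to_le inf_le_left
  have hZcard : ∃ m : ℕ, Nat.card Z = p ^ m := IsPGroup.iff_card.mp hZp
  have hZC : Z ≤ Cn := inf_le_right
  -- the image of `Cn` in `Λ ⧸ Z`
  let M : Subgroup (Λ ⧸ Z) := Cn.map (QuotientGroup.mk' Z)
  have hMn : M.Normal :=
    Subgroup.Normal.map inferInstance (QuotientGroup.mk' Z) (QuotientGroup.mk'_surjective Z)
  -- `M` is a `p'`-group
  have hMcop : (Nat.card M).Coprime p := by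
    rw [Nat.coprime_comm, Nat.Prime.coprime_iff_not_dvd hp]
    intro hdvd
    obtain ⟨y, hy⟩ := exists_prime_orderOf_dvd_card' p hdvd
    obtain ⟨x, hxC, hxy⟩ := y.2
    have hyp : (y : Λ ⧸ Z) ^ p = 1 := by
      have h1 : y ^ p = 1 := by rw [← hy]; exact pow_orderOf_eq_one y
      have h2 := congrArg (Subtype.val) h1
      simpa using h2
    have hxpZ : x ^ p ∈ Z := by
      rw [← QuotientGroup.eq_one_iff]
      have : ((x ^ p : Λ) : Λ ⧸ Z) = (QuotientGroup.mk' Z x) ^ p := rfl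
      rw [this, hxy]
      exact hyp
    obtain ⟨k, hk⟩ := hZp ⟨x ^ p, hxpZ⟩
    have hk' : (x ^ p) ^ (p ^ k) = 1 := by
      have := congrArg (Subtype.val) hk
      simpa using this
    have hxord : orderOf x ∣ p ^ (k + 1) := by
      apply orderOf_dvd_of_pow_eq_one
      rw [pow_succ', pow_mul]
      exact hk'
    obtain ⟨j, -, hj⟩ := (Nat.dvd_prime_pow hp).mp hxord
    have hxH : x ∈ H := hel x hxC ⟨j, hj⟩
    have hxZ : x ∈ Z := ⟨hxH, hxC⟩
    have hy1 : (y : Λ ⧸ Z) = 1 := by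
      rw [← hxy]
      exact (QuotientGroup.eq_one_iff x).mpr hxZ
    have hy1' : y = 1 := Subtype.ext hy1
    rw [hy1', orderOf_one] at hy
    exact hp.one_lt.ne hy
  -- transport `p`-solvability of `Λ ⧸ Cn` to `(Λ ⧸ Z) ⧸ M`
  let e : (Λ ⧸ Z) ⧸ M ≃* Λ ⧸ Cn := QuotientGroup.quotientQuotientEquivQuotient Z Cn hZC
  have hsol2 : IsPSolvable p ((Λ ⧸ Z) ⧸ M) := by
    refine Cfsg.Agent.Lib.Helper1.PSolvExt.isPSolvable_of_ker p e.toMonoidHom e.surjective hsol ?_
    have : e.toMonoidHom.ker = ⊥ := (MonoidHom.ker_eq_bot_iff _).mpr e.injective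
    rw [this]
    exact IsPGroup.of_bot
  have hsol1 : IsPSolvable p (Λ ⧸ Z) :=
    Cfsg.Agent.Lib.Helper3.isPSolvable_of_quotient p M (Or.inr hMcop) hsol2
  exact Cfsg.Agent.Lib.Helper3.isPSolvable_of_quotient p Z (Or.inl hZcard) hsol1

end Cfsg.Agent.Lib.Helper4.FG19
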