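import Mathlib
import Cfsg.Agent.Lib.Helper7.FPF0
import Cfsg.Agent.Lib.Helper7.FL4
import Cfsg.Agent.Lib.Helper4.Suz22

set_option autoImplicit false
set_option linter.unusedVariables false
set_option linter.unusedSectionVars false
set_option linter.style.longLine false
set_option maxHeartbeats 1000000

/-! # S2863 farm (owner helper7), unit U-SZ, part 1: in `Sz(q)`, `q ≥ 8`, every element of odd prime order is
inverted by an involution, and an involution normalising a conjugate of `Z0` lies in it. -/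

namespace Cfsg.Agent.Lib.Helper4.FPFSz

open Cfsg Matrix Cfsg.Agent.Lib.Helper4.Suz Cfsg.Agent.Lib.Helper7.FL

variable {F : Type*} [Field F] [Fintype F] {m : ℕ}

/-- an involution normalising an `A`-type subgroup inverts it -/
theorem IsA.inverted (hF : Fintype.card F = 2 ^ (2 * m + 1)) (hm : 1 ≤ m)
    {A : Subgroup (Cfsg.Sz F m)} (hA : IsA A) (t : Cfsg.Sz F m) (ht2 : t * t = 1) (ht1 : t ≠ 1)
    (htN : t ∈ Subgroup.normalizer (A : Set (Cfsg.Sz F m))) (a : Cfsg.Sz F m) (ha : a ∈ A) :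
    t * a * t⁻¹ = a⁻¹ := by
  have htinv : t⁻¹ = t := inv_eq_of_mul_eq_one_left ht2
  have hb : t * a * t⁻¹ ∈ A := (Subgroup.mem_normalizer_iff.mp htN a).mp ha
  have hab : a * (t * a * t⁻¹) ∈ A := A.mul_mem ha hb
  by_contra hne
  have hab1 : a * (t * a * t⁻¹) ≠ 1 := by
    intro h
    apply hne
    exact (eq_inv_of_mul_eq_one_right h)
  -- `t` centralises `a * a^t`
  have h1 : t * (a * (t * a * t⁻¹)) * t⁻¹ = a * (t * a * t⁻¹) := by
    have h2 : t * (a * (t * a * t⁻¹)) * t⁻¹ = (t * a * t⁻¹) * ((t * t) * a * (t * t)⁻¹) := by group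
    rw [h2, ht2]
    have h3 : (1 : Cfsg.Sz F m) * a * 1⁻¹ = a := by group
    rw [h3]
    exact hA.comm hF hb ha
  have htC : t ∈ Subgroup.centralizer ({a * (t * a * t⁻¹)} : Set (Cfsg.Sz F m)) := by
    rw [mem_centralizer_singleton]
    symm
    calc t * (a * (t * a * t⁻¹)) = (t * (a * (t * a * t⁻¹)) * t⁻¹) * t := by group
      _ = a * (t * a * t⁻¹) * t := by rw [h1]
  rw [hA.centralizer_eq hF hm hab hab1] at htC
  -- but `A` has odd order
  have ho : orderOf t = 2 := orderOf_eq_prime (by rw [sq]; exact ht2) ht1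
  have hd := hA.orderOf_dvd hF hm htC
  rw [ho] at hd
  exact odd_NN m hd

/-- elements of odd prime order are inverted by an involution -/
theorem exists_inverting (hF : Fintype.card F = 2 ^ (2 * m + 1)) (hm : 1 ≤ m)
    (y : Cfsg.Sz F m) {ρ : ℕ} (hρ : ρ.Prime) (hρ2 : ρ ≠ 2) (hy : orderOf y = ρ) :
    ∃ t : Cfsg.Sz F m, t * t = 1 ∧ t * y * t⁻¹ = y⁻¹ := by
  classical
  haveI : Fact ρ.Prime := ⟨hρ⟩
  have hy1 : y ≠ 1 := by
    intro h; rw [h, orderOf_one] at hy; exact hρ.one_lt.ne hy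
  have hdvd : ρ ∣ Nat.card (Cfsg.Sz F m) := by rw [← hy]; exact orderOf_dvd_natCard y
  rw [card_Sz' hF hm] at hdvd
  rcases (Nat.Prime.dvd_mul hρ).mp hdvd with h | h
  · rcases (Nat.Prime.dvd_mul hρ).mp h with h | h
    · exfalso
      have h1 := hρ.dvd_of_dvd_pow h
      have h2 := hρ.dvd_of_dvd_pow h1
      exact hρ2 ((Nat.prime_dvd_prime_iff_eq hρ Nat.prime_two).mp h2)
    · -- `ρ ∣ q² + 1`
      have hfix : ∀ P : Cfsg.suzukiOvoid F m, y • P ≠ P :=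
        no_fix_of_orderOf_dvd hF hm y hy1 (by rw [hy]; exact h)
      obtain ⟨A₁, A₂, hA₁, hA₂, -, -, hN1, hN2, hXY⟩ := exists_two_classes hF hm
      have hyX : y ∈ XSet F m := ⟨hy1, hfix⟩
      have key : ∀ A : Subgroup (Cfsg.Sz F m), IsA A →
          Nat.card (Subgroup.normalizer (A : Set (Cfsg.Sz F m))) = 4 * Nat.card A → y ∈ YSet A →
          ∃ t : Cfsg.Sz F m, t * t = 1 ∧ t * y * t⁻¹ = y⁻¹ := by
        intro A hA hN hyA
        obtain ⟨-, g, a, ha, hya⟩ := hyA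
        haveI : Fact (Nat.Prime 2) := ⟨Nat.prime_two⟩
        have h2 : 2 ∣ Nat.card (Subgroup.normalizer (A : Set (Cfsg.Sz F m))) := by
          rw [hN]; exact Dvd.intro (2 * Nat.card A) (by ring)
        obtain ⟨t₀, ht₀⟩ := exists_prime_orderOf_dvd_card' 2 h2
        have ho : orderOf (t₀ : Cfsg.Sz F m) = 2 := by rw [Subgroup.orderOf_coe]; exact ht₀
        have ht2 : (t₀ : Cfsg.Sz F m) * t₀ = 1 := by
          have := pow_orderOf_eq_one (t₀ : Cfsg.Sz F m)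
          rwa [ho, sq] at this
        have ht1 : (t₀ : Cfsg.Sz F m) ≠ 1 := by
          intro h; rw [h, orderOf_one] at ho; omega
        have hinv := IsA.inverted hF hm hA t₀ ht2 ht1 t₀.2 a ha
        refine ⟨g * t₀ * g⁻¹, ?_, ?_⟩
        · calc g * t₀ * g⁻¹ * (g * t₀ * g⁻¹) = g * ((t₀ : Cfsg.Sz F m) * t₀) * g⁻¹ := by group
            _ = 1 := by rw [ht2]; group
        · rw [hya]
          calc g * t₀ * g⁻¹ * (g * a * g⁻¹) * (g * t₀ * g⁻¹)⁻¹
              = g * ((t₀ : Cfsg.Sz F m) * a * (t₀ : Cfsg.Sz F m)⁻¹) * g⁻¹ := by group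
            _ = g * a⁻¹ * g⁻¹ := by rw [hinv]
            _ = (g * a * g⁻¹)⁻¹ := by group
      rcases hXY hyX with hy1' | hy2'
      · exact key A₁ hA₁ hN1 hy1'
      · exact key A₂ hA₂ hN2 hy2'
  · -- `ρ ∣ q - 1`
    obtain ⟨c, z, hz, hyc⟩ := dvd_sub_conj hF hm hρ2 h y hy
    refine ⟨c * wZ hF * c⁻¹, ?_, ?_⟩
    · calc c * wZ hF * c⁻¹ * (c * wZ hF * c⁻¹) = c * (wZ hF * wZ hF) * c⁻¹ := by group
        _ = 1 := by rw [wZ_mul_wZ]; group
    · rw [hyc]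
      calc c * wZ hF * c⁻¹ * (c * hZ hF z * c⁻¹) * (c * wZ hF * c⁻¹)⁻¹
          = c * (wZ hF * hZ hF z * (wZ hF)⁻¹) * c⁻¹ := by group
        _ = c * (hZ hF z)⁻¹ * c⁻¹ := by rw [wZ_inv, wZ_hZ_wZ, hZ_inv]
        _ = (c * hZ hF z * c⁻¹)⁻¹ := by group

/-- elements of `Z0` are involutions -/
theorem Z0_sq (hF : Fintype.card F = 2 ^ (2 * m + 1)) {g : Cfsg.Sz F m} (hg : g ∈ Z0 hF) : g * g = 1 := by
  obtain ⟨b, rfl⟩ := hg
  rw [uZ_mul, th_zero, zero_mul, add_zero, add_zero, add_self' (two_eq_zero hF), uZ_zero]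

theorem Z0_le_USub (hF : Fintype.card F = 2 ^ (2 * m + 1)) : Z0 hF ≤ USub hF := by
  rintro _ ⟨b, rfl⟩
  exact (mem_USub_iff hF _).mpr ⟨0, b, rfl⟩

/-- an involution normalising `Z0` lies in `Z0` -/
theorem mem_Z0_of_normalizer (hF : Fintype.card F = 2 ^ (2 * m + 1)) (hm : 1 ≤ m)
    (s : Cfsg.Sz F m) (hs2 : s * s = 1)
    (hsN : s ∈ Subgroup.normalizer ((Z0 hF : Subgroup (Cfsg.Sz F m)) : Set (Cfsg.Sz F m))) :
    s ∈ Z0 hF := by
  haveI : Fact (Nat.Prime 2) := ⟨Nat.prime_two⟩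
  have hZp : IsPGroup 2 (Z0 hF) := (USylow hF hm).isPGroup'.to_le (Z0_le_USub hF)
  have hsp : IsPGroup 2 (Subgroup.zpowers s) := by
    intro g
    refine ⟨1, ?_⟩
    apply Subtype.ext
    obtain ⟨j, hj⟩ := Subgroup.mem_zpowers_iff.mp g.2
    rw [pow_one, Subgroup.coe_pow, ← hj, Subgroup.coe_one, ← zpow_natCast, ← _root_.zpow_mul, mul_comm,
      _root_.zpow_mul, zpow_natCast, sq, hs2, _root_.one_zpow]
  have hle : Subgroup.zpowers s ≤ Subgroup.normalizer ((Z0 hF : Subgroup (Cfsg.Sz F m)) : Set (Cfsg.Sz F m)) := by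
    rw [Subgroup.zpowers_le]; exact hsN
  have hHp : IsPGroup 2 (Subgroup.zpowers s ⊔ Z0 hF : Subgroup (Cfsg.Sz F m)) :=
    IsPGroup.to_sup_of_normal_right' hsp hZp hle
  obtain ⟨Q, hQ⟩ := hHp.exists_le_sylow
  have hg1 : uZ hF (0 : F) 1 ≠ 1 := uZ_zero_ne_one hF one_ne_zero
  have hgQ : uZ hF (0 : F) 1 ∈ (Q : Subgroup (Cfsg.Sz F m)) :=
    hQ (Subgroup.mem_sup_right ⟨1, rfl⟩)
  have hgU : uZ hF (0 : F) 1 ∈ ((USylow hF hm : Sylow 2 (Cfsg.Sz F m)) : Subgroup (Cfsg.Sz F m)) :=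
    Z0_le_USub hF ⟨1, rfl⟩
  have hQU := sylow_two_eq_of_common hF hm Q (USylow hF hm) _ hg1 hgQ hgU
  have hsU : s ∈ USub hF := by
    have : s ∈ (Q : Subgroup (Cfsg.Sz F m)) := hQ (Subgroup.mem_sup_left (Subgroup.mem_zpowers s))
    rw [hQU] at this
    exact this
  exact invol_mem_Z0 hF hsU (by rw [sq]; exact hs2)

/-- an involution normalising a conjugate of `Z0` lies in it -/
theorem mem_conj_Z0_of_normalizer (hF : Fintype.card F = 2 ^ (2 * m + 1)) (hm : 1 ≤ m)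
    (b s : Cfsg.Sz F m) (hs2 : s * s = 1)
    (hsN : s ∈ Subgroup.normalizer
      (((Z0 hF).map (MulAut.conj b).toMonoidHom : Subgroup (Cfsg.Sz F m)) : Set (Cfsg.Sz F m))) :
    s ∈ (Z0 hF).map (MulAut.conj b).toMonoidHom := by
  rw [mem_normalizer_map_equiv] at hsN
  have h1 : (MulAut.conj b).symm s = b⁻¹ * s * b := by
    rw [MulAut.conj_symm_apply]
  rw [h1] at hsN
  have h2 : (b⁻¹ * s * b) * (b⁻¹ * s * b) = 1 := by
    calc (b⁻¹ * s * b) * (b⁻¹ * s * b) = b⁻¹ * (s * s) * b := by group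
      _ = 1 := by rw [hs2]; group
  have h3 := mem_Z0_of_normalizer hF hm _ h2 hsN
  refine ⟨b⁻¹ * s * b, h3, ?_⟩
  show b * (b⁻¹ * s * b) * b⁻¹ = s
  group

end Cfsg.Agent.Lib.Helper4.FPFSz
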