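import Mathlib
import Cfsg.Agent.Lib.Helper4.FPFSz1

set_option autoImplicit false
set_option linter.unusedVariables false
set_option linter.unusedSectionVars false
set_option linter.style.longLine false
set_option maxHeartbeats 1000000

/-! # S2863 farm (owner helper7), unit U-SZ: `xprop_sz` -/

namespace Cfsg.Agent.Lib.Helper4.FPFSz

open Cfsg Matrix Cfsg.Agent.Lib.Helper4.Suz Cfsg.Agent.Lib.Helper7.FL Cfsg.Agent.Lib.Helper7.FPF

variable {F : Type*} [Field F] [Fintype F] {m : ℕ}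

theorem conj_mem_map (hF : Fintype.card F = 2 ^ (2 * m + 1)) (b : Cfsg.Sz F m) (c : F) :
    b * uZ hF 0 c * b⁻¹ ∈ (Z0 hF).map (MulAut.conj b).toMonoidHom :=
  ⟨uZ hF 0 c, ⟨c, rfl⟩, rfl⟩

theorem sq_of_mem_map (hF : Fintype.card F = 2 ^ (2 * m + 1)) (b : Cfsg.Sz F m) {g : Cfsg.Sz F m}
    (hg : g ∈ (Z0 hF).map (MulAut.conj b).toMonoidHom) : g * g = 1 := by
  obtain ⟨z, hz, rfl⟩ := hg
  show (b * z * b⁻¹) * (b * z * b⁻¹) = 1
  calc (b * z * b⁻¹) * (b * z * b⁻¹) = b * (z * z) * b⁻¹ := by group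
    _ = 1 := by rw [Z0_sq hF hz]; group

/-- the property for the standard subgroup `Z0` -/
theorem xprop_Z0 (hF : Fintype.card F = 2 ^ (2 * m + 1)) (hm : 1 ≤ m) : XProp 2 (Z0 hF) := by
  intro x hx
  have hpos : orderOf x ≠ 0 := (orderOf_pos x).ne'
  obtain ⟨k, r, hr, hkr⟩ := Nat.exists_eq_two_pow_mul_odd hpos
  have hr1 : r ≠ 1 := by
    rintro rfl
    exact hx ⟨k, by rw [hkr, mul_one]⟩
  obtain ⟨ρ, hρ, hρr⟩ := Nat.exists_prime_and_dvd hr1
  have hρ2 : ρ ≠ 2 := by
    rintro rfl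
    exact (Nat.not_even_iff_odd.mpr hr) (even_iff_two_dvd.mpr hρr)
  have hρx : ρ ∣ orderOf x := hρr.trans (Dvd.intro_left _ hkr.symm)
  have hy : orderOf (x ^ (orderOf x / ρ)) = ρ := orderOf_pow_orderOf_div hpos hρx
  set y := x ^ (orderOf x / ρ) with hydef
  obtain ⟨t, ht2, hty⟩ := exists_inverting hF hm y hρ hρ2 hy
  have hy1 : y ≠ 1 := by
    intro h; rw [h, orderOf_one] at hy; exact hρ.one_lt.ne hy
  have hyy : y * y ≠ 1 := by
    intro h
    have h1 : orderOf y ∣ 2 := orderOf_dvd_of_pow_eq_one (by rw [sq]; exact h)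
    rw [hy] at h1
    exact hρ2 ((Nat.prime_dvd_prime_iff_eq hρ Nat.prime_two).mp h1)
  have htinv : t⁻¹ = t := inv_eq_of_mul_eq_one_left ht2
  have ht1 : t ≠ 1 := by
    rintro rfl
    apply hyy
    have h1 : y = y⁻¹ := by simpa using hty
    calc y * y = y * y⁻¹ := by rw [← h1]
      _ = 1 := mul_inv_cancel y
  have hot : orderOf t = 2 := orderOf_eq_prime (by rw [sq]; exact ht2) ht1
  have hs2 : (y * t) * (y * t) = 1 := by
    calc (y * t) * (y * t) = y * (t * y * t⁻¹) * (t * t) := by group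
      _ = 1 := by rw [hty, ht2]; group
  have hs1 : y * t ≠ 1 := by
    intro h
    have h1 : y = t⁻¹ := eq_inv_of_mul_eq_one_left h
    rw [htinv] at h1
    rw [h1, hot] at hy
    exact hρ2 hy.symm
  have hos : orderOf (y * t) = 2 := orderOf_eq_prime (by rw [sq]; exact hs2) hs1
  obtain ⟨a, b1, hb1, hta⟩ := involution_conj hF hm (y * t) hos
  obtain ⟨b, b2, hb2, htb⟩ := involution_conj hF hm t hot
  have hprod : y = (y * t) * t := by
    calc y = y * (t * t) := by rw [ht2, mul_one]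
      _ = (y * t) * t := by group
  refine ⟨orderOf x / ρ, 1, Subgroup.one_mem _, Or.inl rfl, a, b, uZ hF 0 b1, uZ hF 0 b2,
    ⟨b1, rfl⟩, ⟨b2, rfl⟩, ?_, ?_, ?_⟩
  · rw [mul_one, ← hta, ← htb]
    exact hprod
  · intro hmem
    rw [← hta] at hmem
    have h1 := mem_conj_Z0_of_normalizer hF hm b (y * t) hs2 hmem
    have h2 : t ∈ (Z0 hF).map (MulAut.conj b).toMonoidHom := by
      rw [htb]; exact conj_mem_map hF b b2
    have h3 : y ∈ (Z0 hF).map (MulAut.conj b).toMonoidHom := by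
      rw [hprod]; exact Subgroup.mul_mem _ h1 h2
    exact hyy (sq_of_mem_map hF b h3)
  · intro hmem
    rw [← htb] at hmem
    have h1 := mem_conj_Z0_of_normalizer hF hm a t ht2 hmem
    have h2 : y * t ∈ (Z0 hF).map (MulAut.conj a).toMonoidHom := by
      rw [hta]; exact conj_mem_map hF a b1
    have h3 : y ∈ (Z0 hF).map (MulAut.conj a).toMonoidHom := by
      rw [hprod]; exact Subgroup.mul_mem _ h2 h1
    exact hyy (sq_of_mem_map hF a h3)

/-- the property in the model `Cfsg.Sz F m` -/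
theorem xprop_szModel (hF : Fintype.card F = 2 ^ (2 * m + 1)) (hm : 1 ≤ m)
    (Y : Subgroup (Cfsg.Sz F m)) (hY : IsElementaryAbelian 2 Y)
    (hcard : Nat.card Y = Fintype.card F) : XProp 2 Y := by
  obtain ⟨P, hYP⟩ := (elAb_isPGroup hY).exists_le_sylow
  obtain ⟨c, hc⟩ := sylow_eq_map hF hm P
  have hYle : Y ≤ (Z0 hF).map (MulAut.conj c).toMonoidHom := by
    intro y hy
    have hyP := hYP hy
    rw [hc] at hyP
    obtain ⟨u, hu, rfl⟩ := hyP
    refine ⟨u, invol_mem_Z0 hF hu ?_, rfl⟩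
    have h2 := hY.2 _ hy
    rw [← map_pow] at h2
    have : (MulAut.conj c).toMonoidHom (u ^ 2) = (MulAut.conj c).toMonoidHom 1 := by
      rw [h2, map_one]
    exact (MulAut.conj c).injective this
  have hYeq : Y = (Z0 hF).map (MulAut.conj c).toMonoidHom := by
    apply Subgroup.eq_of_le_of_card_ge hYle
    rw [Subgroup.card_map_of_injective (MulAut.conj c).injective, hcard]
    exact card_Z0_le hF
  rw [hYeq]
  exact (xprop_Z0 hF hm).map_equiv (MulAut.conj c)

end Cfsg.Agent.Lib.Helper4.FPFSz
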