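import Mathlib
import Cfsg.Agent.Lib.Helper4.FPFSz2

set_option autoImplicit false
set_option linter.unusedVariables false
set_option linter.style.longLine false

/-! # S2863 farm (owner helper7), unit U-SZ: `xprop_sz` verbatim -/

namespace Cfsg.Agent.Lib.Helper4.FPFSz

open Cfsg Cfsg.Agent.Lib.Helper4.Suz Cfsg.Agent.Lib.Helper7.FL Cfsg.Agent.Lib.Helper7.FPF

theorem xprop_sz {F : Type} [Field F] [Fintype F] {m : ℕ} (hF : Fintype.card F = 2 ^ (2 * m + 1)) (hm : 1 ≤ m)
    (Y : Subgroup (Cfsg.Lie.Sz F (2 ^ (m + 1)))) (hY : Cfsg.IsElementaryAbelian 2 Y)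
    (hcard : Nat.card Y = Fintype.card F) : Cfsg.Agent.Lib.Helper7.FPF.XProp 2 Y := by
  have h1 : XProp 2 (Y.map (szEquiv hF hm).symm.toMonoidHom) := by
    apply xprop_szModel hF hm
    · exact elAb_map hY _
    · rw [Subgroup.card_map_of_injective (szEquiv hF hm).symm.injective, hcard]
  have h2 := h1.map_equiv (szEquiv hF hm)
  rw [Subgroup.map_map] at h2
  have : (szEquiv hF hm).toMonoidHom.comp (szEquiv hF hm).symm.toMonoidHom = MonoidHom.id _ := by
    ext x; simp
  rwa [this, Subgroup.map_id] at h2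

end Cfsg.Agent.Lib.Helper4.FPFSz
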