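import Mathlib
import Cfsg.Prelude.Def_SporCoxeter

/-! The Fischer group Fi22 presented on the generators of the Y332 presentation and further generators `p`, `q`, `r` (given as words) that, with `b`, satisfy the relations of the generators of the orthogonal group O7(3) (generated). -/

namespace Cfsg.Agent.Lib.Helper4

namespace Fi22y

/-- the generators -/
inductive Gen
  | a
  | b
  | c
  | d
  | e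
  | f
  | g
  | h
  | i
  | p
  | q
  | r
  deriving DecidableEq

/-- the generators and their inverses by codes -/
def ofCode : ℕ → FreeGroup Gen
  | 0 => FreeGroup.of Gen.a
  | 1 => (FreeGroup.of Gen.a)⁻¹
  | 2 => FreeGroup.of Gen.b
  | 3 => (FreeGroup.of Gen.b)⁻¹
  | 4 => FreeGroup.of Gen.c
  | 5 => (FreeGroup.of Gen.c)⁻¹
  | 6 => FreeGroup.of Gen.d
  | 7 => (FreeGroup.of Gen.d)⁻¹
  | 8 => FreeGroup.of Gen.e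
  | 9 => (FreeGroup.of Gen.e)⁻¹
  | 10 => FreeGroup.of Gen.f
  | 11 => (FreeGroup.of Gen.f)⁻¹
  | 12 => FreeGroup.of Gen.g
  | 13 => (FreeGroup.of Gen.g)⁻¹
  | 14 => FreeGroup.of Gen.h
  | 15 => (FreeGroup.of Gen.h)⁻¹
  | 16 => FreeGroup.of Gen.i
  | 17 => (FreeGroup.of Gen.i)⁻¹
  | 18 => FreeGroup.of Gen.p
  | 19 => (FreeGroup.of Gen.p)⁻¹
  | 20 => FreeGroup.of Gen.q
  | 21 => (FreeGroup.of Gen.q)⁻¹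
  | 22 => FreeGroup.of Gen.r
  | 23 => (FreeGroup.of Gen.r)⁻¹
  | _ => 1

/-- the relators as lists of codes -/
def extraW : List (List ℕ) := [
  [0, 0],
  [0, 2, 0, 2, 0, 2],
  [0, 4, 0, 4],
  [0, 6, 0, 6],
  [0, 8, 0, 8],
  [0, 14, 0, 14],
  [0, 10, 0, 10],
  [0, 12, 0, 12],
  [0, 16, 0, 16],
  [2, 2],
  [2, 4, 2, 4, 2, 4],
  [2, 6, 2, 6],
  [2, 8, 2, 8],
  [2, 14, 2, 14],
  [2, 10, 2, 10],
  [2, 12, 2, 12],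
  [2, 16, 2, 16],
  [4, 4],
  [4, 6, 4, 6, 4, 6],
  [4, 8, 4, 8],
  [4, 14, 4, 14],
  [4, 10, 4, 10],
  [4, 12, 4, 12],
  [4, 16, 4, 16],
  [6, 6],
  [6, 8, 6, 8, 6, 8],
  [6, 14, 6, 14, 6, 14],
  [6, 10, 6, 10],
  [6, 12, 6, 12],
  [6, 16, 6, 16],
  [8, 8],
  [8, 14, 8, 14],
  [8, 10, 8, 10, 8, 10],
  [8, 12, 8, 12],
  [8, 16, 8, 16],
  [14, 14],
  [14, 10, 14, 10],
  [14, 12, 14, 12],
  [14, 16, 14, 16, 14, 16],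
  [10, 10],
  [10, 12, 10, 12, 10, 12],
  [10, 16, 10, 16],
  [12, 12],
  [12, 16, 12, 16],
  [16, 16],
  (List.replicate 10 [6, 4, 2, 6, 8, 10, 6, 14, 16]).flatten,
  (List.replicate 9 [0, 2, 4, 6, 8, 10, 14]).flatten,
  (List.replicate 9 [2, 4, 6, 8, 10, 12, 14]).flatten,
  [19, 8, 6, 14, 16, 14, 8, 10, 6, 8, 4, 6, 14, 12, 10, 8, 6, 4, 2, 4, 6, 8, 10, 12, 14, 6, 4, 8, 6, 10, 8, 14, 16, 14, 6, 8, 6, 8, 4, 6, 14, 16, 10, 8, 6, 14, 12, 10, 8, 6, 2, 4, 2, 4, 2, 6, 8, 10, 12, 14, 6, 8, 10, 16, 14, 6, 4, 8, 6, 2, 4, 6, 14, 16, 8, 6, 14, 12, 10, 8, 6, 2, 4, 2, 4, 2, 6, 8, 10, 12, 14, 6, 8, 16, 14, 6, 4, 2, 16, 14, 6, 2, 4, 2, 4, 2, 6, 14, 16, 10, 8, 4, 6, 14, 16, 8, 4, 6, 14, 10, 8, 6, 4, 2, 4, 6, 8, 10, 14, 6, 4, 8, 16, 14, 6, 4, 8, 10, 12, 10, 8, 4, 6, 2, 4, 2, 4, 2, 6, 4, 8, 10, 12],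
  [21, 10, 6, 8, 4, 6, 14, 16, 6, 8, 4, 6, 14, 12, 10, 8, 6, 4, 2, 4, 6, 8, 10, 12, 14, 6, 4, 8, 6, 16, 14, 6, 4, 8, 6, 10, 8, 6, 14, 16, 8, 4, 6, 14, 12, 10, 8, 6, 4, 2, 4, 6, 8, 10, 12, 14, 6, 4, 8, 16, 14, 6, 8, 14, 6, 8, 4, 6, 14, 10, 8, 6, 4, 2, 4, 6, 8, 10, 14, 6, 4, 8, 6, 14, 16, 4, 6, 14, 10, 8, 6, 4, 2, 4, 6, 8, 10, 14, 6, 4, 16, 14, 12, 10, 8, 6, 2, 4, 2, 4, 2, 6, 8, 10, 12, 14],
  [23, 14, 12, 10, 6, 8, 4, 6, 14, 16, 10, 8, 4, 6, 14, 12, 10, 8, 6, 4, 2, 4, 6, 8, 10, 12, 14, 6, 4, 8, 10, 16, 14, 6, 4, 8, 6, 10, 12, 14, 16, 14, 8, 10, 6, 8, 4, 6, 14, 12, 10, 8, 6, 4, 2, 4, 6, 8, 10, 12, 14, 6, 4, 8, 6, 10, 8, 14, 16, 14, 6, 4, 2, 4, 6, 14, 8, 6, 4, 2, 4, 6, 8, 14, 16, 8, 4, 6, 14, 12, 10, 8, 6, 4, 2, 4, 6, 8, 10, 12, 14, 6, 4, 8, 16, 14, 2, 4, 2, 4, 2],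
  (List.replicate 7 [18]).flatten,
  [18, 18, 20, 19, 20, 18, 21, 18, 20, 19, 20],
  (List.replicate 3 [18, 18, 18, 20]).flatten,
  [18, 18, 20, 20, 18, 18, 21, 21, 18, 18, 21, 21],
  (List.replicate 3 [22]).flatten,
  [18, 18, 22, 19, 19, 21, 22, 20],
  (List.replicate 3 [18, 20, 22]).flatten,
  [18, 20, 20, 19, 22, 18, 21, 21, 19, 22],
  [18, 22, 19, 22, 19, 20, 22, 21, 18, 23],
  [18, 18, 21, 18, 22, 19, 20, 19, 19, 20, 18, 23, 19, 21],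
  [18, 2, 19, 2, 18, 2, 19, 2],
  [20, 2, 21, 2, 20, 2, 21, 2],
  [18, 18, 20, 18, 2, 19, 21, 19, 19, 2],
  [18, 21, 23, 20, 2, 21, 22, 20, 19, 2],
  [18, 21, 22, 22, 20, 2, 21, 22, 20, 19, 2],
  [18, 18, 18, 22, 19, 19, 2, 21, 22, 20, 19, 2],
  [18, 18, 20, 18, 2, 19, 20, 20, 20, 19, 19, 2],
  [18, 20, 2, 20, 19, 23, 18, 20, 2, 20, 19, 23],
  [18, 20, 2, 21, 19, 22, 18, 21, 2, 20, 19, 23],
  [18, 20, 2, 21, 19, 22, 18, 21, 2, 20, 19, 22, 22],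
  [18, 18, 22, 19, 20, 19, 2, 18, 21, 19, 21, 22, 20, 2],
  [18, 20, 20, 18, 23, 18, 2, 19, 22, 19, 20, 20, 19, 2],
  [18, 20, 19, 23, 18, 2, 19, 22, 18, 21, 19, 21, 2, 20],
  [18, 18, 21, 18, 2, 19, 20, 19, 19, 22, 21, 2, 20, 23],
  [18, 18, 20, 20, 2, 20, 20, 19, 19, 22, 20, 2, 21, 23],
  [18, 22, 20, 2, 21, 23, 19, 20, 23, 19, 2, 18, 22, 21],
  [18, 21, 21, 18, 23, 2, 22, 19, 20, 20, 19, 23, 2, 22],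
  [18, 18, 21, 18, 22, 19, 2, 20, 19, 19, 20, 18, 23, 2, 19, 21],
  [18, 18, 21, 18, 20, 18, 21, 2, 22, 2, 22, 2, 21, 18, 20, 22, 19, 22] ]

/-- no Coxeter graph -/
def edges : List (Gen × ℕ × Gen) := []

/-- the relators -/
def extra : List (FreeGroup Gen) := extraW.map fun L => (L.map ofCode).prod

end Fi22y

end Cfsg.Agent.Lib.Helper4
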