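import Cfsg.Agent.Lib.Helper4.TCD_Fi23a_Acc
import Cfsg.Agent.Lib.Helper4.TCD_Fi23Z_D0

namespace Cfsg.Agent.Lib.Helper4.TCD.Fi23Z

open Cfsg.Agent.Lib.Helper4.TC Cfsg.Agent.Lib.Helper4.TCD.Fi23a

set_option maxRecDepth 100000
set_option Elab.async false

noncomputable def ztab_s_0_2 (c : Nat) : Nat := @Bool.rec (fun _ => Nat) (ztab_0) (ztab_1) (Nat.ble 1 c)
noncomputable def ztab_s_2_4 (c : Nat) : Nat := @Bool.rec (fun _ => Nat) (ztab_2) (ztab_3) (Nat.ble 3 c)
noncomputable def ztab_s_0_4 (c : Nat) : Nat := @Bool.rec (fun _ => Nat) (ztab_s_0_2 c) (ztab_s_2_4 c) (Nat.ble 2 c)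
noncomputable def ztab_s_4_6 (c : Nat) : Nat := @Bool.rec (fun _ => Nat) (ztab_4) (ztab_5) (Nat.ble 5 c)
noncomputable def ztab_s_6_8 (c : Nat) : Nat := @Bool.rec (fun _ => Nat) (ztab_6) (ztab_7) (Nat.ble 7 c)
noncomputable def ztab_s_4_8 (c : Nat) : Nat := @Bool.rec (fun _ => Nat) (ztab_s_4_6 c) (ztab_s_6_8 c) (Nat.ble 6 c)
noncomputable def ztab_s_0_8 (c : Nat) : Nat := @Bool.rec (fun _ => Nat) (ztab_s_0_4 c) (ztab_s_4_8 c) (Nat.ble 4 c)
noncomputable def ztab (i : Nat) : Nat := rdw 15 32767 (ztab_s_0_8 (Nat.shiftRight i 12)) (Nat.land i 4095)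
def zw : List Nat := (List.replicate 9 [1, 2, 3, 4, 5, 6, 8]).flatten
noncomputable def actZ (i : Nat) : Nat := col1 (col2 (col3 (col4 (col5 (col6 (col8 (col1 (col2 (col3 (col4 (col5 (col6 (col8 (col1 (col2 (col3 (col4 (col5 (col6 (col8 (col1 (col2 (col3 (col4 (col5 (col6 (col8 (col1 (col2 (col3 (col4 (col5 (col6 (col8 (col1 (col2 (col3 (col4 (col5 (col6 (col8 (col1 (col2 (col3 (col4 (col5 (col6 (col8 (col1 (col2 (col3 (col4 (col5 (col6 (col8 (col1 (col2 (col3 (col4 (col5 (col6 (col8 (i)))))))))))))))))))))))))))))))))))))))))))))))))))))))))))))))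
theorem actZ_eq (i : Nat) : actZ i = Tab.act T D zw i := rfl

theorem c_z_0 : allRange (fun i => Nat.beq (ztab i) (actZ i)) 0 909 = true := by decide +kernel
theorem c_z_1 : allRange (fun i => Nat.beq (ztab i) (actZ i)) 909 909 = true := by decide +kernel
theorem c_z_2 : allRange (fun i => Nat.beq (ztab i) (actZ i)) 1818 909 = true := by decide +kernel
theorem c_z_3 : allRange (fun i => Nat.beq (ztab i) (actZ i)) 2727 909 = true := by decide +kernel
theorem c_z_4 : allRange (fun i => Nat.beq (ztab i) (actZ i)) 3636 909 = true := by decide +kernel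
theorem c_z_5 : allRange (fun i => Nat.beq (ztab i) (actZ i)) 4545 909 = true := by decide +kernel
theorem c_z_6 : allRange (fun i => Nat.beq (ztab i) (actZ i)) 5454 909 = true := by decide +kernel
theorem c_z_7 : allRange (fun i => Nat.beq (ztab i) (actZ i)) 6363 909 = true := by decide +kernel
theorem c_z_8 : allRange (fun i => Nat.beq (ztab i) (actZ i)) 7272 909 = true := by decide +kernel
theorem c_z_9 : allRange (fun i => Nat.beq (ztab i) (actZ i)) 8181 909 = true := by decide +kernel
theorem c_z_10 : allRange (fun i => Nat.beq (ztab i) (actZ i)) 9090 909 = true := by decide +kernel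
theorem c_z_11 : allRange (fun i => Nat.beq (ztab i) (actZ i)) 9999 909 = true := by decide +kernel
theorem c_z_12 : allRange (fun i => Nat.beq (ztab i) (actZ i)) 10908 909 = true := by decide +kernel
theorem c_z_13 : allRange (fun i => Nat.beq (ztab i) (actZ i)) 11817 909 = true := by decide +kernel
theorem c_z_14 : allRange (fun i => Nat.beq (ztab i) (actZ i)) 12726 909 = true := by decide +kernel
theorem c_z_15 : allRange (fun i => Nat.beq (ztab i) (actZ i)) 13635 909 = true := by decide +kernel
theorem c_z_16 : allRange (fun i => Nat.beq (ztab i) (actZ i)) 14544 909 = true := by decide +kernel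
theorem c_z_17 : allRange (fun i => Nat.beq (ztab i) (actZ i)) 15453 909 = true := by decide +kernel
theorem c_z_18 : allRange (fun i => Nat.beq (ztab i) (actZ i)) 16362 909 = true := by decide +kernel
theorem c_z_19 : allRange (fun i => Nat.beq (ztab i) (actZ i)) 17271 909 = true := by decide +kernel
theorem c_z_20 : allRange (fun i => Nat.beq (ztab i) (actZ i)) 18180 909 = true := by decide +kernel
theorem c_z_21 : allRange (fun i => Nat.beq (ztab i) (actZ i)) 19089 909 = true := by decide +kernel
theorem c_z_22 : allRange (fun i => Nat.beq (ztab i) (actZ i)) 19998 909 = true := by decide +kernel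
theorem c_z_23 : allRange (fun i => Nat.beq (ztab i) (actZ i)) 20907 909 = true := by decide +kernel
theorem c_z_24 : allRange (fun i => Nat.beq (ztab i) (actZ i)) 21816 909 = true := by decide +kernel
theorem c_z_25 : allRange (fun i => Nat.beq (ztab i) (actZ i)) 22725 909 = true := by decide +kernel
theorem c_z_26 : allRange (fun i => Nat.beq (ztab i) (actZ i)) 23634 909 = true := by decide +kernel
theorem c_z_27 : allRange (fun i => Nat.beq (ztab i) (actZ i)) 24543 909 = true := by decide +kernel
theorem c_z_28 : allRange (fun i => Nat.beq (ztab i) (actZ i)) 25452 909 = true := by decide +kernel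
theorem c_z_29 : allRange (fun i => Nat.beq (ztab i) (actZ i)) 26361 909 = true := by decide +kernel
theorem c_z_30 : allRange (fun i => Nat.beq (ztab i) (actZ i)) 27270 909 = true := by decide +kernel
theorem c_z_31 : allRange (fun i => Nat.beq (ztab i) (actZ i)) 28179 909 = true := by decide +kernel
theorem c_z_32 : allRange (fun i => Nat.beq (ztab i) (actZ i)) 29088 909 = true := by decide +kernel
theorem c_z_33 : allRange (fun i => Nat.beq (ztab i) (actZ i)) 29997 909 = true := by decide +kernel
theorem c_z_34 : allRange (fun i => Nat.beq (ztab i) (actZ i)) 30906 765 = true := by decide +kernel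
theorem h_z : ∀ i, i < 31671 → ztab i = Tab.act T D zw i := by
  intro i hi
  rw [← actZ_eq]
  exact beq_eq ((range_glue (range_of_allRange c_z_0) (range_glue (range_of_allRange c_z_1) (range_glue (range_of_allRange c_z_2) (range_glue (range_of_allRange c_z_3) (range_glue (range_of_allRange c_z_4) (range_glue (range_of_allRange c_z_5) (range_glue (range_of_allRange c_z_6) (range_glue (range_of_allRange c_z_7) (range_glue (range_of_allRange c_z_8) (range_glue (range_of_allRange c_z_9) (range_glue (range_of_allRange c_z_10) (range_glue (range_of_allRange c_z_11) (range_glue (range_of_allRange c_z_12) (range_glue (range_of_allRange c_z_13) (range_glue (range_of_allRange c_z_14) (range_glue (range_of_allRange c_z_15) (range_glue (range_of_allRange c_z_16) (range_glue (range_of_allRange c_z_17) (range_glue (range_of_allRange c_z_18) (range_glue (range_of_allRange c_z_19) (range_glue (range_of_allRange c_z_20) (range_glue (range_of_allRange c_z_21) (range_glue (range_of_allRange c_z_22) (range_glue (range_of_allRange c_z_23) (range_glue (range_of_allRange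 c_z_24) (range_glue (range_of_allRange c_z_25) (range_glue (range_of_allRange c_z_26) (range_glue (range_of_allRange c_z_27) (range_glue (range_of_allRange c_z_28) (range_glue (range_of_allRange c_z_29) (range_glue (range_of_allRange c_z_30) (range_glue (range_of_allRange c_z_31) (range_glue (range_of_allRange c_z_32) (range_glue (range_of_allRange c_z_33) (range_of_allRange c_z_34))))))))))))))))))))))))))))))))))) i (Nat.zero_le _) hi)
theorem c_c0_0 : allRange (fun i => Nat.beq (ztab (col0 i)) (col0 (ztab i))) 0 10000 = true := by decide +kernel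
theorem c_c0_1 : allRange (fun i => Nat.beq (ztab (col0 i)) (col0 (ztab i))) 10000 10000 = true := by decide +kernel
theorem c_c0_2 : allRange (fun i => Nat.beq (ztab (col0 i)) (col0 (ztab i))) 20000 10000 = true := by decide +kernel
theorem c_c0_3 : allRange (fun i => Nat.beq (ztab (col0 i)) (col0 (ztab i))) 30000 1671 = true := by decide +kernel
theorem h_c0 : ∀ i, i < 31671 → ztab (col0 i) = col0 (ztab i) :=
  fun i hi => beq_eq ((range_glue (range_of_allRange c_c0_0) (range_glue (range_of_allRange c_c0_1) (range_glue (range_of_allRange c_c0_2) (range_of_allRange c_c0_3)))) i (Nat.zero_le _) hi)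
theorem c_c1_0 : allRange (fun i => Nat.beq (ztab (col1 i)) (col1 (ztab i))) 0 10000 = true := by decide +kernel
theorem c_c1_1 : allRange (fun i => Nat.beq (ztab (col1 i)) (col1 (ztab i))) 10000 10000 = true := by decide +kernel
theorem c_c1_2 : allRange (fun i => Nat.beq (ztab (col1 i)) (col1 (ztab i))) 20000 10000 = true := by decide +kernel
theorem c_c1_3 : allRange (fun i => Nat.beq (ztab (col1 i)) (col1 (ztab i))) 30000 1671 = true := by decide +kernel
theorem h_c1 : ∀ i, i < 31671 → ztab (col1 i) = col1 (ztab i) :=
  fun i hi => beq_eq ((range_glue (range_of_allRange c_c1_0) (range_glue (range_of_allRange c_c1_1) (range_glue (range_of_allRange c_c1_2) (range_of_allRange c_c1_3)))) i (Nat.zero_le _) hi)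
theorem c_c2_0 : allRange (fun i => Nat.beq (ztab (col2 i)) (col2 (ztab i))) 0 10000 = true := by decide +kernel
theorem c_c2_1 : allRange (fun i => Nat.beq (ztab (col2 i)) (col2 (ztab i))) 10000 10000 = true := by decide +kernel
theorem c_c2_2 : allRange (fun i => Nat.beq (ztab (col2 i)) (col2 (ztab i))) 20000 10000 = true := by decide +kernel
theorem c_c2_3 : allRange (fun i => Nat.beq (ztab (col2 i)) (col2 (ztab i))) 30000 1671 = true := by decide +kernel
theorem h_c2 : ∀ i, i < 31671 → ztab (col2 i) = col2 (ztab i) :=
  fun i hi => beq_eq ((range_glue (range_of_allRange c_c2_0) (range_glue (range_of_allRange c_c2_1) (range_glue (range_of_allRange c_c2_2) (range_of_allRange c_c2_3)))) i (Nat.zero_le _) hi)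
theorem c_c3_0 : allRange (fun i => Nat.beq (ztab (col3 i)) (col3 (ztab i))) 0 10000 = true := by decide +kernel
theorem c_c3_1 : allRange (fun i => Nat.beq (ztab (col3 i)) (col3 (ztab i))) 10000 10000 = true := by decide +kernel
theorem c_c3_2 : allRange (fun i => Nat.beq (ztab (col3 i)) (col3 (ztab i))) 20000 10000 = true := by decide +kernel
theorem c_c3_3 : allRange (fun i => Nat.beq (ztab (col3 i)) (col3 (ztab i))) 30000 1671 = true := by decide +kernel
theorem h_c3 : ∀ i, i < 31671 → ztab (col3 i) = col3 (ztab i) :=
  fun i hi => beq_eq ((range_glue (range_of_allRange c_c3_0) (range_glue (range_of_allRange c_c3_1) (range_glue (range_of_allRange c_c3_2) (range_of_allRange c_c3_3)))) i (Nat.zero_le _) hi)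
theorem c_c4_0 : allRange (fun i => Nat.beq (ztab (col4 i)) (col4 (ztab i))) 0 10000 = true := by decide +kernel
theorem c_c4_1 : allRange (fun i => Nat.beq (ztab (col4 i)) (col4 (ztab i))) 10000 10000 = true := by decide +kernel
theorem c_c4_2 : allRange (fun i => Nat.beq (ztab (col4 i)) (col4 (ztab i))) 20000 10000 = true := by decide +kernel
theorem c_c4_3 : allRange (fun i => Nat.beq (ztab (col4 i)) (col4 (ztab i))) 30000 1671 = true := by decide +kernel
theorem h_c4 : ∀ i, i < 31671 → ztab (col4 i) = col4 (ztab i) :=
  fun i hi => beq_eq ((range_glue (range_of_allRange c_c4_0) (range_glue (range_of_allRange c_c4_1) (range_glue (range_of_allRange c_c4_2) (range_of_allRange c_c4_3)))) i (Nat.zero_le _) hi)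
theorem c_c5_0 : allRange (fun i => Nat.beq (ztab (col5 i)) (col5 (ztab i))) 0 10000 = true := by decide +kernel
theorem c_c5_1 : allRange (fun i => Nat.beq (ztab (col5 i)) (col5 (ztab i))) 10000 10000 = true := by decide +kernel
theorem c_c5_2 : allRange (fun i => Nat.beq (ztab (col5 i)) (col5 (ztab i))) 20000 10000 = true := by decide +kernel
theorem c_c5_3 : allRange (fun i => Nat.beq (ztab (col5 i)) (col5 (ztab i))) 30000 1671 = true := by decide +kernel
theorem h_c5 : ∀ i, i < 31671 → ztab (col5 i) = col5 (ztab i) :=
  fun i hi => beq_eq ((range_glue (range_of_allRange c_c5_0) (range_glue (range_of_allRange c_c5_1) (range_glue (range_of_allRange c_c5_2) (range_of_allRange c_c5_3)))) i (Nat.zero_le _) hi)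
theorem c_c6_0 : allRange (fun i => Nat.beq (ztab (col6 i)) (col6 (ztab i))) 0 10000 = true := by decide +kernel
theorem c_c6_1 : allRange (fun i => Nat.beq (ztab (col6 i)) (col6 (ztab i))) 10000 10000 = true := by decide +kernel
theorem c_c6_2 : allRange (fun i => Nat.beq (ztab (col6 i)) (col6 (ztab i))) 20000 10000 = true := by decide +kernel
theorem c_c6_3 : allRange (fun i => Nat.beq (ztab (col6 i)) (col6 (ztab i))) 30000 1671 = true := by decide +kernel
theorem h_c6 : ∀ i, i < 31671 → ztab (col6 i) = col6 (ztab i) :=
  fun i hi => beq_eq ((range_glue (range_of_allRange c_c6_0) (range_glue (range_of_allRange c_c6_1) (range_glue (range_of_allRange c_c6_2) (range_of_allRange c_c6_3)))) i (Nat.zero_le _) hi)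
theorem c_c8_0 : allRange (fun i => Nat.beq (ztab (col8 i)) (col8 (ztab i))) 0 10000 = true := by decide +kernel
theorem c_c8_1 : allRange (fun i => Nat.beq (ztab (col8 i)) (col8 (ztab i))) 10000 10000 = true := by decide +kernel
theorem c_c8_2 : allRange (fun i => Nat.beq (ztab (col8 i)) (col8 (ztab i))) 20000 10000 = true := by decide +kernel
theorem c_c8_3 : allRange (fun i => Nat.beq (ztab (col8 i)) (col8 (ztab i))) 30000 1671 = true := by decide +kernel
theorem h_c8 : ∀ i, i < 31671 → ztab (col8 i) = col8 (ztab i) :=
  fun i hi => beq_eq ((range_glue (range_of_allRange c_c8_0) (range_glue (range_of_allRange c_c8_1) (range_glue (range_of_allRange c_c8_2) (range_of_allRange c_c8_3)))) i (Nat.zero_le _) hi)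
theorem c_c9_0 : allRange (fun i => Nat.beq (ztab (col9 i)) (col9 (ztab i))) 0 10000 = true := by decide +kernel
theorem c_c9_1 : allRange (fun i => Nat.beq (ztab (col9 i)) (col9 (ztab i))) 10000 10000 = true := by decide +kernel
theorem c_c9_2 : allRange (fun i => Nat.beq (ztab (col9 i)) (col9 (ztab i))) 20000 10000 = true := by decide +kernel
theorem c_c9_3 : allRange (fun i => Nat.beq (ztab (col9 i)) (col9 (ztab i))) 30000 1671 = true := by decide +kernel
theorem h_c9 : ∀ i, i < 31671 → ztab (col9 i) = col9 (ztab i) :=
  fun i hi => beq_eq ((range_glue (range_of_allRange c_c9_0) (range_glue (range_of_allRange c_c9_1) (range_glue (range_of_allRange c_c9_2) (range_of_allRange c_c9_3)))) i (Nat.zero_le _) hi)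
theorem h_nc : col0 (col1 1) ≠ col1 (col0 1) := by decide +kernel

end Cfsg.Agent.Lib.Helper4.TCD.Fi23Z
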