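import Cfsg.Agent.Lib.Helper4.TCD_Fi23L_Acc

namespace Cfsg.Agent.Lib.Helper4.TCD.Fi23L

open Cfsg.Agent.Lib.Helper4.TC Cfsg.Agent.Lib.Helper4.TCD.Fi23a

set_option maxRecDepth 100000
set_option Elab.async false

theorem c_p14_1 : allRange chk14 7500 7500 = true := by decide +kernel
theorem c_p14_2 : allRange chk14 15000 7500 = true := by decide +kernel
theorem c_p14_3 : allRange chk14 22500 7500 = true := by decide +kernel
theorem c_p14_4 : allRange chk14 30000 1671 = true := by decide +kernel
theorem c_p15_0 : allRange chk15 0 6000 = true := by decide +kernel
theorem c_p15_1 : allRange chk15 6000 6000 = true := by decide +kernel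
theorem c_p15_2 : allRange chk15 12000 6000 = true := by decide +kernel
theorem c_p15_3 : allRange chk15 18000 6000 = true := by decide +kernel
theorem c_p15_4 : allRange chk15 24000 6000 = true := by decide +kernel
theorem c_p15_5 : allRange chk15 30000 1671 = true := by decide +kernel
theorem c_p16_0 : allRange chk16 0 10000 = true := by decide +kernel
theorem c_p16_1 : allRange chk16 10000 10000 = true := by decide +kernel
theorem c_p16_2 : allRange chk16 20000 10000 = true := by decide +kernel
theorem c_p16_3 : allRange chk16 30000 1671 = true := by decide +kernel
theorem c_p17_0 : allRange chk17 0 5000 = true := by decide +kernel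
theorem c_p17_1 : allRange chk17 5000 5000 = true := by decide +kernel
theorem c_p17_2 : allRange chk17 10000 5000 = true := by decide +kernel
theorem c_p17_3 : allRange chk17 15000 5000 = true := by decide +kernel
theorem c_p17_4 : allRange chk17 20000 5000 = true := by decide +kernel
theorem c_p17_5 : allRange chk17 25000 5000 = true := by decide +kernel
theorem c_p17_6 : allRange chk17 30000 1671 = true := by decide +kernel
theorem c_p18_0 : allRange chk18 0 923 = true := by decide +kernel
theorem c_p18_1 : allRange chk18 923 923 = true := by decide +kernel
theorem c_p18_2 : allRange chk18 1846 923 = true := by decide +kernel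
theorem c_p18_3 : allRange chk18 2769 923 = true := by decide +kernel
theorem c_p18_4 : allRange chk18 3692 923 = true := by decide +kernel
theorem c_p18_5 : allRange chk18 4615 923 = true := by decide +kernel
theorem c_p18_6 : allRange chk18 5538 923 = true := by decide +kernel
theorem c_p18_7 : allRange chk18 6461 923 = true := by decide +kernel
theorem c_p18_8 : allRange chk18 7384 923 = true := by decide +kernel
theorem c_p18_9 : allRange chk18 8307 923 = true := by decide +kernel
theorem c_p18_10 : allRange chk18 9230 923 = true := by decide +kernel
theorem c_p18_11 : allRange chk18 10153 923 = true := by decide +kernel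
theorem c_p18_12 : allRange chk18 11076 923 = true := by decide +kernel
theorem c_p18_13 : allRange chk18 11999 923 = true := by decide +kernel
theorem c_p18_14 : allRange chk18 12922 923 = true := by decide +kernel
theorem c_p18_15 : allRange chk18 13845 923 = true := by decide +kernel
theorem c_p18_16 : allRange chk18 14768 923 = true := by decide +kernel
theorem c_p18_17 : allRange chk18 15691 923 = true := by decide +kernel
theorem c_p18_18 : allRange chk18 16614 923 = true := by decide +kernel
theorem c_p18_19 : allRange chk18 17537 923 = true := by decide +kernel
theorem c_p18_20 : allRange chk18 18460 923 = true := by decide +kernel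
theorem c_p18_21 : allRange chk18 19383 923 = true := by decide +kernel
theorem c_p18_22 : allRange chk18 20306 923 = true := by decide +kernel
theorem c_p18_23 : allRange chk18 21229 923 = true := by decide +kernel
theorem c_p18_24 : allRange chk18 22152 923 = true := by decide +kernel
theorem c_p18_25 : allRange chk18 23075 923 = true := by decide +kernel
theorem c_p18_26 : allRange chk18 23998 923 = true := by decide +kernel
theorem c_p18_27 : allRange chk18 24921 923 = true := by decide +kernel
theorem c_p18_28 : allRange chk18 25844 923 = true := by decide +kernel
theorem c_p18_29 : allRange chk18 26767 923 = true := by decide +kernel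
theorem c_p18_30 : allRange chk18 27690 923 = true := by decide +kernel
theorem c_p18_31 : allRange chk18 28613 923 = true := by decide +kernel

end Cfsg.Agent.Lib.Helper4.TCD.Fi23L
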