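import Cfsg.Agent.Lib.Helper4.TCD_Fi23L_Acc

namespace Cfsg.Agent.Lib.Helper4.TCD.Fi23L

open Cfsg.Agent.Lib.Helper4.TC Cfsg.Agent.Lib.Helper4.TCD.Fi23a

set_option maxRecDepth 100000
set_option Elab.async false

theorem c_p18_32 : allRange chk18 29536 923 = true := by decide +kernel
theorem c_p18_33 : allRange chk18 30459 923 = true := by decide +kernel
theorem c_p18_34 : allRange chk18 31382 289 = true := by decide +kernel
theorem c_p19_0 : allRange chk19 0 3157 = true := by decide +kernel
theorem c_p19_1 : allRange chk19 3157 3157 = true := by decide +kernel
theorem c_p19_2 : allRange chk19 6314 3157 = true := by decide +kernel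
theorem c_p19_3 : allRange chk19 9471 3157 = true := by decide +kernel
theorem c_p19_4 : allRange chk19 12628 3157 = true := by decide +kernel
theorem c_p19_5 : allRange chk19 15785 3157 = true := by decide +kernel
theorem c_p19_6 : allRange chk19 18942 3157 = true := by decide +kernel
theorem c_p19_7 : allRange chk19 22099 3157 = true := by decide +kernel
theorem c_p19_8 : allRange chk19 25256 3157 = true := by decide +kernel
theorem c_p19_9 : allRange chk19 28413 3157 = true := by decide +kernel
theorem c_p19_10 : allRange chk19 31570 101 = true := by decide +kernel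
theorem c_p20_0 : allRange chk20 0 1395 = true := by decide +kernel
theorem c_p20_1 : allRange chk20 1395 1395 = true := by decide +kernel
theorem c_p20_2 : allRange chk20 2790 1395 = true := by decide +kernel
theorem c_p20_3 : allRange chk20 4185 1395 = true := by decide +kernel
theorem c_p20_4 : allRange chk20 5580 1395 = true := by decide +kernel
theorem c_p20_5 : allRange chk20 6975 1395 = true := by decide +kernel
theorem c_p20_6 : allRange chk20 8370 1395 = true := by decide +kernel
theorem c_p20_7 : allRange chk20 9765 1395 = true := by decide +kernel
theorem c_p20_8 : allRange chk20 11160 1395 = true := by decide +kernel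
theorem c_p20_9 : allRange chk20 12555 1395 = true := by decide +kernel
theorem c_p20_10 : allRange chk20 13950 1395 = true := by decide +kernel
theorem c_p20_11 : allRange chk20 15345 1395 = true := by decide +kernel
theorem c_p20_12 : allRange chk20 16740 1395 = true := by decide +kernel
theorem c_p20_13 : allRange chk20 18135 1395 = true := by decide +kernel
theorem c_p20_14 : allRange chk20 19530 1395 = true := by decide +kernel
theorem c_p20_15 : allRange chk20 20925 1395 = true := by decide +kernel
theorem c_p20_16 : allRange chk20 22320 1395 = true := by decide +kernel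
theorem c_p20_17 : allRange chk20 23715 1395 = true := by decide +kernel
theorem c_p20_18 : allRange chk20 25110 1395 = true := by decide +kernel
theorem c_p20_19 : allRange chk20 26505 1395 = true := by decide +kernel
theorem c_p20_20 : allRange chk20 27900 1395 = true := by decide +kernel
theorem c_p20_21 : allRange chk20 29295 1395 = true := by decide +kernel
theorem c_p20_22 : allRange chk20 30690 981 = true := by decide +kernel
theorem c_p21_0 : allRange chk21 0 15000 = true := by decide +kernel
theorem c_p21_1 : allRange chk21 15000 15000 = true := by decide +kernel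
theorem c_p21_2 : allRange chk21 30000 1671 = true := by decide +kernel
theorem c_nd0_0 : allRange (S.nodeOK 0) 0 5000 = true := by decide +kernel
theorem c_nd0_1 : allRange (S.nodeOK 0) 5000 5000 = true := by decide +kernel
theorem c_nd0_2 : allRange (S.nodeOK 0) 10000 5000 = true := by decide +kernel
theorem c_nd0_3 : allRange (S.nodeOK 0) 15000 5000 = true := by decide +kernel
theorem c_nd0_4 : allRange (S.nodeOK 0) 20000 5000 = true := by decide +kernel
theorem c_nd0_5 : allRange (S.nodeOK 0) 25000 5000 = true := by decide +kernel
theorem c_nd0_6 : allRange (S.nodeOK 0) 30000 1671 = true := by decide +kernel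
theorem c_nd1_0 : allRange (S.nodeOK 1) 0 3510 = true := by decide +kernel
theorem c_nd2_0 : allRange (S.nodeOK 2) 0 5000 = true := by decide +kernel
theorem c_nd2_1 : allRange (S.nodeOK 2) 5000 5000 = true := by decide +kernel
theorem c_nd2_2 : allRange (S.nodeOK 2) 10000 5000 = true := by decide +kernel
theorem c_nd2_3 : allRange (S.nodeOK 2) 15000 5000 = true := by decide +kernel
theorem c_nd2_4 : allRange (S.nodeOK 2) 20000 5000 = true := by decide +kernel
theorem c_nd2_5 : allRange (S.nodeOK 2) 25000 344 = true := by decide +kernel
theorem c_nd3_0 : allRange (S.nodeOK 3) 0 288 = true := by decide +kernel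
theorem c_nd4_0 : allRange (S.nodeOK 4) 0 210 = true := by decide +kernel
theorem c_nd5_0 : allRange (S.nodeOK 5) 0 2 = true := by decide +kernel
theorem c_nd6_0 : allRange (S.nodeOK 6) 0 3 = true := by decide +kernel
theorem c_nd7_0 : allRange (S.nodeOK 7) 0 2 = true := by decide +kernel
theorem c_nd8_0 : allRange (S.nodeOK 8) 0 2 = true := by decide +kernel

end Cfsg.Agent.Lib.Helper4.TCD.Fi23L
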