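import Cfsg.Agent.Lib.Helper4.TCD_Fi23L_C0
import Cfsg.Agent.Lib.Helper4.TCD_Fi23L_C1
import Cfsg.Agent.Lib.Helper4.TCD_Fi23L_C2
import Cfsg.Agent.Lib.Helper4.TC13

namespace Cfsg.Agent.Lib.Helper4.TCD.Fi23L

open Cfsg.Agent.Lib.Helper4.TC Cfsg.Agent.Lib.Helper4.TCD.Fi23a

theorem h_p10 : ∀ p, 0 ≤ p → p < 31671 → chk10 p = true :=
  (range_glue (range_of_allRange c_p10_0) (range_glue (range_of_allRange c_p10_1) (range_glue (range_of_allRange c_p10_2) (range_glue (range_of_allRange c_p10_3) (range_glue (range_of_allRange c_p10_4) (range_glue (range_of_allRange c_p10_5) (range_glue (range_of_allRange c_p10_6) (range_glue (range_of_allRange c_p10_7) (range_glue (range_of_allRange c_p10_8) (range_glue (range_of_allRange c_p10_9) (range_glue (range_of_allRange c_p10_10) (range_glue (range_of_allRange c_p10_11) (range_glue (range_of_allRange c_p10_12) (range_glue (range_of_allRange c_p10_13) (range_glue (range_of_allRange c_p10_14) (range_glue (range_of_allRange c_p10_15) (range_glue (range_of_allRange c_p10_16) (range_glue (range_of_allRange c_p10_17) (range_glue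 (range_of_allRange c_p10_18) (range_glue (range_of_allRange c_p10_19) (range_glue (range_of_allRange c_p10_20) (range_glue (range_of_allRange c_p10_21) (range_glue (range_of_allRange c_p10_22) (range_glue (range_of_allRange c_p10_23) (range_glue (range_of_allRange c_p10_24) (range_glue (range_of_allRange c_p10_25) (range_glue (range_of_allRange c_p10_26) (range_glue (range_of_allRange c_p10_27) (range_of_allRange c_p10_28)))))))))))))))))))))))))))))
theorem h_p11 : ∀ p, 0 ≤ p → p < 31671 → chk11 p = true :=
  (range_glue (range_of_allRange c_p11_0) (range_glue (range_of_allRange c_p11_1) (range_glue (range_of_allRange c_p11_2) (range_glue (range_of_allRange c_p11_3) (range_glue (range_of_allRange c_p11_4) (range_glue (range_of_allRange c_p11_5) (range_glue (range_of_allRange c_p11_6) (range_glue (range_of_allRange c_p11_7) (range_glue (range_of_allRange c_p11_8) (range_glue (range_of_allRange c_p11_9) (range_glue (range_of_allRange c_p11_10) (range_glue (range_of_allRange c_p11_11) (range_of_allRange c_p11_12)))))))))))))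
theorem h_p12 : ∀ p, 0 ≤ p → p < 31671 → chk12 p = true :=
  (range_glue (range_of_allRange c_p12_0) (range_glue (range_of_allRange c_p12_1) (range_glue (range_of_allRange c_p12_2) (range_glue (range_of_allRange c_p12_3) (range_glue (range_of_allRange c_p12_4) (range_of_allRange c_p12_5))))))
theorem h_p13 : ∀ p, 0 ≤ p → p < 31671 → chk13 p = true :=
  (range_glue (range_of_allRange c_p13_0) (range_glue (range_of_allRange c_p13_1) (range_of_allRange c_p13_2)))
theorem h_p14 : ∀ p, 0 ≤ p → p < 31671 → chk14 p = true :=
  (range_glue (range_of_allRange c_p14_0) (range_glue (range_of_allRange c_p14_1) (range_glue (range_of_allRange c_p14_2) (range_glue (range_of_allRange c_p14_3) (range_of_allRange c_p14_4)))))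
theorem h_p15 : ∀ p, 0 ≤ p → p < 31671 → chk15 p = true :=
  (range_glue (range_of_allRange c_p15_0) (range_glue (range_of_allRange c_p15_1) (range_glue (range_of_allRange c_p15_2) (range_glue (range_of_allRange c_p15_3) (range_glue (range_of_allRange c_p15_4) (range_of_allRange c_p15_5))))))
theorem h_p16 : ∀ p, 0 ≤ p → p < 31671 → chk16 p = true :=
  (range_glue (range_of_allRange c_p16_0) (range_glue (range_of_allRange c_p16_1) (range_glue (range_of_allRange c_p16_2) (range_of_allRange c_p16_3))))
theorem h_p17 : ∀ p, 0 ≤ p → p < 31671 → chk17 p = true :=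
  (range_glue (range_of_allRange c_p17_0) (range_glue (range_of_allRange c_p17_1) (range_glue (range_of_allRange c_p17_2) (range_glue (range_of_allRange c_p17_3) (range_glue (range_of_allRange c_p17_4) (range_glue (range_of_allRange c_p17_5) (range_of_allRange c_p17_6)))))))
theorem h_p18 : ∀ p, 0 ≤ p → p < 31671 → chk18 p = true :=
  (range_glue (range_of_allRange c_p18_0) (range_glue (range_of_allRange c_p18_1) (range_glue (range_of_allRange c_p18_2) (range_glue (range_of_allRange c_p18_3) (range_glue (range_of_allRange c_p18_4) (range_glue (range_of_allRange c_p18_5) (range_glue (range_of_allRange c_p18_6) (range_glue (range_of_allRange c_p18_7) (range_glue (range_of_allRange c_p18_8) (range_glue (range_of_allRange c_p18_9) (range_glue (range_of_allRange c_p18_10) (range_glue (range_of_allRange c_p18_11) (range_glue (range_of_allRange c_p18_12) (range_glue (range_of_allRange c_p18_13) (range_glue (range_of_allRange c_p18_14) (range_glue (range_of_allRange c_p18_15) (range_glue (range_of_allRange c_p18_16) (range_glue (range_of_allRange c_p18_17) (range_glue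 (range_of_allRange c_p18_18) (range_glue (range_of_allRange c_p18_19) (range_glue (range_of_allRange c_p18_20) (range_glue (range_of_allRange c_p18_21) (range_glue (range_of_allRange c_p18_22) (range_glue (range_of_allRange c_p18_23) (range_glue (range_of_allRange c_p18_24) (range_glue (range_of_allRange c_p18_25) (range_glue (range_of_allRange c_p18_26) (range_glue (range_of_allRange c_p18_27) (range_glue (range_of_allRange c_p18_28) (range_glue (range_of_allRange c_p18_29) (range_glue (range_of_allRange c_p18_30) (range_glue (range_of_allRange c_p18_31) (range_glue (range_of_allRange c_p18_32) (range_glue (range_of_allRange c_p18_33) (range_of_allRange c_p18_34)))))))))))))))))))))))))))))))))))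
theorem h_p19 : ∀ p, 0 ≤ p → p < 31671 → chk19 p = true :=
  (range_glue (range_of_allRange c_p19_0) (range_glue (range_of_allRange c_p19_1) (range_glue (range_of_allRange c_p19_2) (range_glue (range_of_allRange c_p19_3) (range_glue (range_of_allRange c_p19_4) (range_glue (range_of_allRange c_p19_5) (range_glue (range_of_allRange c_p19_6) (range_glue (range_of_allRange c_p19_7) (range_glue (range_of_allRange c_p19_8) (range_glue (range_of_allRange c_p19_9) (range_of_allRange c_p19_10)))))))))))
theorem h_p20 : ∀ p, 0 ≤ p → p < 31671 → chk20 p = true :=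
  (range_glue (range_of_allRange c_p20_0) (range_glue (range_of_allRange c_p20_1) (range_glue (range_of_allRange c_p20_2) (range_glue (range_of_allRange c_p20_3) (range_glue (range_of_allRange c_p20_4) (range_glue (range_of_allRange c_p20_5) (range_glue (range_of_allRange c_p20_6) (range_glue (range_of_allRange c_p20_7) (range_glue (range_of_allRange c_p20_8) (range_glue (range_of_allRange c_p20_9) (range_glue (range_of_allRange c_p20_10) (range_glue (range_of_allRange c_p20_11) (range_glue (range_of_allRange c_p20_12) (range_glue (range_of_allRange c_p20_13) (range_glue (range_of_allRange c_p20_14) (range_glue (range_of_allRange c_p20_15) (range_glue (range_of_allRange c_p20_16) (range_glue (range_of_allRange c_p20_17) (range_glue (range_of_allRange c_p20_18) (range_glue (range_of_allRange c_p20_19) (range_glue (range_of_allRange c_p20_20) (range_glue (range_of_allRange c_p20_21) (range_of_allRange c_p20_22)))))))))))))))))))))))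
theorem h_p21 : ∀ p, 0 ≤ p → p < 31671 → chk21 p = true :=
  (range_glue (range_of_allRange c_p21_0) (range_glue (range_of_allRange c_p21_1) (range_of_allRange c_p21_2)))
theorem h_nd0 : ∀ idx, 0 ≤ idx → idx < 31671 → S.nodeOK 0 idx = true :=
  (range_glue (range_of_allRange c_nd0_0) (range_glue (range_of_allRange c_nd0_1) (range_glue (range_of_allRange c_nd0_2) (range_glue (range_of_allRange c_nd0_3) (range_glue (range_of_allRange c_nd0_4) (range_glue (range_of_allRange c_nd0_5) (range_of_allRange c_nd0_6)))))))
theorem h_nd1 : ∀ idx, 0 ≤ idx → idx < 3510 → S.nodeOK 1 idx = true :=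
  (range_of_allRange c_nd1_0)
theorem h_nd2 : ∀ idx, 0 ≤ idx → idx < 25344 → S.nodeOK 2 idx = true :=
  (range_glue (range_of_allRange c_nd2_0) (range_glue (range_of_allRange c_nd2_1) (range_glue (range_of_allRange c_nd2_2) (range_glue (range_of_allRange c_nd2_3) (range_glue (range_of_allRange c_nd2_4) (range_of_allRange c_nd2_5))))))
theorem h_nd3 : ∀ idx, 0 ≤ idx → idx < 288 → S.nodeOK 3 idx = true :=
  (range_of_allRange c_nd3_0)
theorem h_nd4 : ∀ idx, 0 ≤ idx → idx < 210 → S.nodeOK 4 idx = true :=
  (range_of_allRange c_nd4_0)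
theorem h_nd5 : ∀ idx, 0 ≤ idx → idx < 2 → S.nodeOK 5 idx = true :=
  (range_of_allRange c_nd5_0)
theorem h_nd6 : ∀ idx, 0 ≤ idx → idx < 3 → S.nodeOK 6 idx = true :=
  (range_of_allRange c_nd6_0)
theorem h_nd7 : ∀ idx, 0 ≤ idx → idx < 2 → S.nodeOK 7 idx = true :=
  (range_of_allRange c_nd7_0)
theorem h_nd8 : ∀ idx, 0 ≤ idx → idx < 2 → S.nodeOK 8 idx = true :=
  (range_of_allRange c_nd8_0)

theorem ok : S.OK where
  hkm := by decide
  hperm := by
    intro i p h1 h2 hp
    have h1 : 10 ≤ i := h1
    have h2 : i < 22 := h2
    have hp : p < 31671 := hp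
    interval_cases i
    · rw [← chk10_eq]; exact h_p10 p (Nat.zero_le _) hp
    · rw [← chk11_eq]; exact h_p11 p (Nat.zero_le _) hp
    · rw [← chk12_eq]; exact h_p12 p (Nat.zero_le _) hp
    · rw [← chk13_eq]; exact h_p13 p (Nat.zero_le _) hp
    · rw [← chk14_eq]; exact h_p14 p (Nat.zero_le _) hp
    · rw [← chk15_eq]; exact h_p15 p (Nat.zero_le _) hp
    · rw [← chk16_eq]; exact h_p16 p (Nat.zero_le _) hp
    · rw [← chk17_eq]; exact h_p17 p (Nat.zero_le _) hp
    · rw [← chk18_eq]; exact h_p18 p (Nat.zero_le _) hp
    · rw [← chk19_eq]; exact h_p19 p (Nat.zero_le _) hp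
    · rw [← chk20_eq]; exact h_p20 p (Nat.zero_le _) hp
    · rw [← chk21_eq]; exact h_p21 p (Nat.zero_le _) hp
  hwords := fun i h1 h2 => range_of_allRange c_words i h1 h2
  hfix := fun i t hi ht => range_of_allGrid c_fix i (Nat.zero_le _) (by have h : i < 22 := hi; omega) t ht
  hroot := fun j hj => ble_succ (allBelow_eq_true.1 c_root j hj)
  hnode := by
    intro j idx hj hidx
    have hj : j < 9 := hj
    interval_cases j
    · rw [c_n0] at hidx; exact h_nd0 idx (Nat.zero_le _) hidx
    · rw [c_n1] at hidx; exact h_nd1 idx (Nat.zero_le _) hidx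
    · rw [c_n2] at hidx; exact h_nd2 idx (Nat.zero_le _) hidx
    · rw [c_n3] at hidx; exact h_nd3 idx (Nat.zero_le _) hidx
    · rw [c_n4] at hidx; exact h_nd4 idx (Nat.zero_le _) hidx
    · rw [c_n5] at hidx; exact h_nd5 idx (Nat.zero_le _) hidx
    · rw [c_n6] at hidx; exact h_nd6 idx (Nat.zero_le _) hidx
    · rw [c_n7] at hidx; exact h_nd7 idx (Nat.zero_le _) hidx
    · rw [c_n8] at hidx; exact h_nd8 idx (Nat.zero_le _) hidx

theorem htab0 : ∀ i, i < S.k → ∀ p, p < S.N → S.tab i p = T.tbl p (D.inv i) := by
  intro i hi p _
  have hi : i < 10 := hi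
  interval_cases i <;> rfl

theorem prod_eq : S.prodFrom S.r 0 = 4089470473293004800 := by decide +kernel

end Cfsg.Agent.Lib.Helper4.TCD.Fi23L
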