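import Cfsg.Agent.Lib.Helper4.TCD_Fi23a_Acc
import Cfsg.Agent.Lib.Helper4.TC13

namespace Cfsg.Agent.Lib.Helper4.TCD.Fi23Q

open Cfsg.Agent.Lib.Helper4.TC Cfsg.Agent.Lib.Helper4.TCD.Fi23a

set_option maxRecDepth 100000
set_option Elab.async false

def xw : List Nat := [3, 1, 5, 0, 6, 2, 7, 4, 8]

noncomputable def actX (i : Nat) : Nat := col3 (col1 (col5 (col0 (col6 (col2 (col7 (col4 (col8 (col3 (col1 (col5 (col0 (col6 (col2 (col7 (col4 (col8 (col3 (col1 (col5 (col0 (col6 (col2 (col7 (col4 (col8 (col3 (col1 (col5 (col0 (col6 (col2 (col7 (col4 (col8 (col3 (col1 (col5 (col0 (col6 (col2 (col7 (col4 (col8 (col3 (col1 (col5 (col0 (col6 (col2 (col7 (col4 (col8 (col3 (col1 (col5 (col0 (col6 (col2 (col7 (col4 (col8 (col3 (col1 (col5 (col0 (col6 (col2 (col7 (col4 (col8 (col3 (col1 (col5 (col0 (col6 (col2 (col7 (col4 (col8 (col3 (col1 (col5 (col0 (col6 (col2 (col7 (col4 (col8 (col3 (col1 (col5 (col0 (col6 (col2 (col7 (col4 (col8 (col3 (col1 (col5 (col0 (col6 (col2 (col7 (col4 (col8 (col3 (col1 (col5 (col0 (col6 (col2 (col7 (col4 (col8 (col3 (col1 (col5 (col0 (col6 (col2 (col7 (col4 (col8 (col3 (col1 (col5 (col0 (col6 (col2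 (col7 (col4 (col8 (col3 (col1 (col5 (col0 (col6 (col2 (col7 (col4 (col8 (col3 (col1 (col5 (col0 (col6 (col2 (col7 (col4 (col8 (i)))))))))))))))))))))))))))))))))))))))))))))))))))))))))))))))))))))))))))))))))))))))))))))))))))))))))))))))))))))))))))))))))))))))))))))))))))))))))
theorem actX_eq (i : Nat) : actX i = Tab.act T D (List.replicate 17 xw).flatten i := rfl
theorem c_xq_0 : allRange (fun i => Nat.beq (actX i) i) 0 387 = true := by decide +kernel
theorem c_xq_1 : allRange (fun i => Nat.beq (actX i) i) 387 387 = true := by decide +kernel
theorem c_xq_2 : allRange (fun i => Nat.beq (actX i) i) 774 387 = true := by decide +kernel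
theorem c_xq_3 : allRange (fun i => Nat.beq (actX i) i) 1161 387 = true := by decide +kernel
theorem c_xq_4 : allRange (fun i => Nat.beq (actX i) i) 1548 387 = true := by decide +kernel
theorem c_xq_5 : allRange (fun i => Nat.beq (actX i) i) 1935 387 = true := by decide +kernel
theorem c_xq_6 : allRange (fun i => Nat.beq (actX i) i) 2322 387 = true := by decide +kernel
theorem c_xq_7 : allRange (fun i => Nat.beq (actX i) i) 2709 387 = true := by decide +kernel
theorem c_xq_8 : allRange (fun i => Nat.beq (actX i) i) 3096 387 = true := by decide +kernel
theorem c_xq_9 : allRange (fun i => Nat.beq (actX i) i) 3483 387 = true := by decide +kernel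
theorem c_xq_10 : allRange (fun i => Nat.beq (actX i) i) 3870 387 = true := by decide +kernel
theorem c_xq_11 : allRange (fun i => Nat.beq (actX i) i) 4257 387 = true := by decide +kernel
theorem c_xq_12 : allRange (fun i => Nat.beq (actX i) i) 4644 387 = true := by decide +kernel
theorem c_xq_13 : allRange (fun i => Nat.beq (actX i) i) 5031 387 = true := by decide +kernel
theorem c_xq_14 : allRange (fun i => Nat.beq (actX i) i) 5418 387 = true := by decide +kernel
theorem c_xq_15 : allRange (fun i => Nat.beq (actX i) i) 5805 387 = true := by decide +kernel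
theorem c_xq_16 : allRange (fun i => Nat.beq (actX i) i) 6192 387 = true := by decide +kernel
theorem c_xq_17 : allRange (fun i => Nat.beq (actX i) i) 6579 387 = true := by decide +kernel
theorem c_xq_18 : allRange (fun i => Nat.beq (actX i) i) 6966 387 = true := by decide +kernel
theorem c_xq_19 : allRange (fun i => Nat.beq (actX i) i) 7353 387 = true := by decide +kernel
theorem c_xq_20 : allRange (fun i => Nat.beq (actX i) i) 7740 387 = true := by decide +kernel
theorem c_xq_21 : allRange (fun i => Nat.beq (actX i) i) 8127 387 = true := by decide +kernel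
theorem c_xq_22 : allRange (fun i => Nat.beq (actX i) i) 8514 387 = true := by decide +kernel
theorem c_xq_23 : allRange (fun i => Nat.beq (actX i) i) 8901 387 = true := by decide +kernel
theorem c_xq_24 : allRange (fun i => Nat.beq (actX i) i) 9288 387 = true := by decide +kernel
theorem c_xq_25 : allRange (fun i => Nat.beq (actX i) i) 9675 387 = true := by decide +kernel
theorem c_xq_26 : allRange (fun i => Nat.beq (actX i) i) 10062 387 = true := by decide +kernel
theorem c_xq_27 : allRange (fun i => Nat.beq (actX i) i) 10449 387 = true := by decide +kernel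
theorem c_xq_28 : allRange (fun i => Nat.beq (actX i) i) 10836 387 = true := by decide +kernel
theorem c_xq_29 : allRange (fun i => Nat.beq (actX i) i) 11223 387 = true := by decide +kernel
theorem c_xq_30 : allRange (fun i => Nat.beq (actX i) i) 11610 387 = true := by decide +kernel
theorem c_xq_31 : allRange (fun i => Nat.beq (actX i) i) 11997 387 = true := by decide +kernel
theorem c_xq_32 : allRange (fun i => Nat.beq (actX i) i) 12384 387 = true := by decide +kernel
theorem c_xq_33 : allRange (fun i => Nat.beq (actX i) i) 12771 387 = true := by decide +kernel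
theorem c_xq_34 : allRange (fun i => Nat.beq (actX i) i) 13158 387 = true := by decide +kernel
theorem c_xq_35 : allRange (fun i => Nat.beq (actX i) i) 13545 387 = true := by decide +kernel
theorem c_xq_36 : allRange (fun i => Nat.beq (actX i) i) 13932 387 = true := by decide +kernel
theorem c_xq_37 : allRange (fun i => Nat.beq (actX i) i) 14319 387 = true := by decide +kernel
theorem c_xq_38 : allRange (fun i => Nat.beq (actX i) i) 14706 387 = true := by decide +kernel
theorem c_xq_39 : allRange (fun i => Nat.beq (actX i) i) 15093 387 = true := by decide +kernel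
theorem c_xq_40 : allRange (fun i => Nat.beq (actX i) i) 15480 387 = true := by decide +kernel
theorem c_xq_41 : allRange (fun i => Nat.beq (actX i) i) 15867 387 = true := by decide +kernel
theorem c_xq_42 : allRange (fun i => Nat.beq (actX i) i) 16254 387 = true := by decide +kernel
theorem c_xq_43 : allRange (fun i => Nat.beq (actX i) i) 16641 387 = true := by decide +kernel
theorem c_xq_44 : allRange (fun i => Nat.beq (actX i) i) 17028 387 = true := by decide +kernel
theorem c_xq_45 : allRange (fun i => Nat.beq (actX i) i) 17415 387 = true := by decide +kernel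
theorem c_xq_46 : allRange (fun i => Nat.beq (actX i) i) 17802 387 = true := by decide +kernel
theorem c_xq_47 : allRange (fun i => Nat.beq (actX i) i) 18189 387 = true := by decide +kernel
theorem c_xq_48 : allRange (fun i => Nat.beq (actX i) i) 18576 387 = true := by decide +kernel
theorem c_xq_49 : allRange (fun i => Nat.beq (actX i) i) 18963 387 = true := by decide +kernel
theorem c_xq_50 : allRange (fun i => Nat.beq (actX i) i) 19350 387 = true := by decide +kernel
theorem c_xq_51 : allRange (fun i => Nat.beq (actX i) i) 19737 387 = true := by decide +kernel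
theorem c_xq_52 : allRange (fun i => Nat.beq (actX i) i) 20124 387 = true := by decide +kernel
theorem c_xq_53 : allRange (fun i => Nat.beq (actX i) i) 20511 387 = true := by decide +kernel
theorem c_xq_54 : allRange (fun i => Nat.beq (actX i) i) 20898 387 = true := by decide +kernel
theorem c_xq_55 : allRange (fun i => Nat.beq (actX i) i) 21285 387 = true := by decide +kernel
theorem c_xq_56 : allRange (fun i => Nat.beq (actX i) i) 21672 387 = true := by decide +kernel
theorem c_xq_57 : allRange (fun i => Nat.beq (actX i) i) 22059 387 = true := by decide +kernel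
theorem c_xq_58 : allRange (fun i => Nat.beq (actX i) i) 22446 387 = true := by decide +kernel
theorem c_xq_59 : allRange (fun i => Nat.beq (actX i) i) 22833 387 = true := by decide +kernel
theorem c_xq_60 : allRange (fun i => Nat.beq (actX i) i) 23220 387 = true := by decide +kernel
theorem c_xq_61 : allRange (fun i => Nat.beq (actX i) i) 23607 387 = true := by decide +kernel
theorem c_xq_62 : allRange (fun i => Nat.beq (actX i) i) 23994 387 = true := by decide +kernel
theorem c_xq_63 : allRange (fun i => Nat.beq (actX i) i) 24381 387 = true := by decide +kernel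
theorem c_xq_64 : allRange (fun i => Nat.beq (actX i) i) 24768 387 = true := by decide +kernel
theorem c_xq_65 : allRange (fun i => Nat.beq (actX i) i) 25155 387 = true := by decide +kernel
theorem c_xq_66 : allRange (fun i => Nat.beq (actX i) i) 25542 387 = true := by decide +kernel
theorem c_xq_67 : allRange (fun i => Nat.beq (actX i) i) 25929 387 = true := by decide +kernel
theorem c_xq_68 : allRange (fun i => Nat.beq (actX i) i) 26316 387 = true := by decide +kernel
theorem c_xq_69 : allRange (fun i => Nat.beq (actX i) i) 26703 387 = true := by decide +kernel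
theorem c_xq_70 : allRange (fun i => Nat.beq (actX i) i) 27090 387 = true := by decide +kernel
theorem c_xq_71 : allRange (fun i => Nat.beq (actX i) i) 27477 387 = true := by decide +kernel
theorem c_xq_72 : allRange (fun i => Nat.beq (actX i) i) 27864 387 = true := by decide +kernel
theorem c_xq_73 : allRange (fun i => Nat.beq (actX i) i) 28251 387 = true := by decide +kernel
theorem c_xq_74 : allRange (fun i => Nat.beq (actX i) i) 28638 387 = true := by decide +kernel
theorem c_xq_75 : allRange (fun i => Nat.beq (actX i) i) 29025 387 = true := by decide +kernel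
theorem c_xq_76 : allRange (fun i => Nat.beq (actX i) i) 29412 387 = true := by decide +kernel
theorem c_xq_77 : allRange (fun i => Nat.beq (actX i) i) 29799 387 = true := by decide +kernel
theorem c_xq_78 : allRange (fun i => Nat.beq (actX i) i) 30186 387 = true := by decide +kernel
theorem c_xq_79 : allRange (fun i => Nat.beq (actX i) i) 30573 387 = true := by decide +kernel
theorem c_xq_80 : allRange (fun i => Nat.beq (actX i) i) 30960 387 = true := by decide +kernel
theorem c_xq_81 : allRange (fun i => Nat.beq (actX i) i) 31347 324 = true := by decide +kernel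
theorem h_xq_p0 : ∀ i, 0 ≤ i → i < 15480 → Nat.beq (actX i) i = true :=
  (range_glue (range_of_allRange c_xq_0) (range_glue (range_of_allRange c_xq_1) (range_glue (range_of_allRange c_xq_2) (range_glue (range_of_allRange c_xq_3) (range_glue (range_of_allRange c_xq_4) (range_glue (range_of_allRange c_xq_5) (range_glue (range_of_allRange c_xq_6) (range_glue (range_of_allRange c_xq_7) (range_glue (range_of_allRange c_xq_8) (range_glue (range_of_allRange c_xq_9) (range_glue (range_of_allRange c_xq_10) (range_glue (range_of_allRange c_xq_11) (range_glue (range_of_allRange c_xq_12) (range_glue (range_of_allRange c_xq_13) (range_glue (range_of_allRange c_xq_14) (range_glue (range_of_allRange c_xq_15) (range_glue (range_of_allRange c_xq_16) (range_glue (range_of_allRange c_xq_17) (range_glue (range_of_allRange c_xq_18) (range_glue (range_of_allRange c_xq_19) (range_glue (range_of_allRange c_xq_20) (range_glue (range_of_allRange c_xq_21) (range_glue (range_of_allRange c_xq_22) (range_glue (range_of_allRange c_xq_23) (range_glue (range_of_allRange c_xq_24) (range_glue (range_of_allRange c_xq_25) (range_glue (range_of_allRange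 c_xq_26) (range_glue (range_of_allRange c_xq_27) (range_glue (range_of_allRange c_xq_28) (range_glue (range_of_allRange c_xq_29) (range_glue (range_of_allRange c_xq_30) (range_glue (range_of_allRange c_xq_31) (range_glue (range_of_allRange c_xq_32) (range_glue (range_of_allRange c_xq_33) (range_glue (range_of_allRange c_xq_34) (range_glue (range_of_allRange c_xq_35) (range_glue (range_of_allRange c_xq_36) (range_glue (range_of_allRange c_xq_37) (range_glue (range_of_allRange c_xq_38) (range_of_allRange c_xq_39))))))))))))))))))))))))))))))))))))))))
theorem h_xq_p1 : ∀ i, 15480 ≤ i → i < 30960 → Nat.beq (actX i) i = true :=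
  (range_glue (range_of_allRange c_xq_40) (range_glue (range_of_allRange c_xq_41) (range_glue (range_of_allRange c_xq_42) (range_glue (range_of_allRange c_xq_43) (range_glue (range_of_allRange c_xq_44) (range_glue (range_of_allRange c_xq_45) (range_glue (range_of_allRange c_xq_46) (range_glue (range_of_allRange c_xq_47) (range_glue (range_of_allRange c_xq_48) (range_glue (range_of_allRange c_xq_49) (range_glue (range_of_allRange c_xq_50) (range_glue (range_of_allRange c_xq_51) (range_glue (range_of_allRange c_xq_52) (range_glue (range_of_allRange c_xq_53) (range_glue (range_of_allRange c_xq_54) (range_glue (range_of_allRange c_xq_55) (range_glue (range_of_allRange c_xq_56) (range_glue (range_of_allRange c_xq_57) (range_glue (range_of_allRange c_xq_58) (range_glue (range_of_allRange c_xq_59) (range_glue (range_of_allRange c_xq_60) (range_glue (range_of_allRange c_xq_61) (range_glue (range_of_allRange c_xq_62) (range_glue (range_of_allRange c_xq_63) (range_glue (range_of_allRange c_xq_64) (range_glue (range_of_allRange c_xq_65) (range_glue (range_of_allRange c_xq_66) (range_glue (range_of_allRange c_xq_67) (range_glue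 (range_of_allRange c_xq_68) (range_glue (range_of_allRange c_xq_69) (range_glue (range_of_allRange c_xq_70) (range_glue (range_of_allRange c_xq_71) (range_glue (range_of_allRange c_xq_72) (range_glue (range_of_allRange c_xq_73) (range_glue (range_of_allRange c_xq_74) (range_glue (range_of_allRange c_xq_75) (range_glue (range_of_allRange c_xq_76) (range_glue (range_of_allRange c_xq_77) (range_glue (range_of_allRange c_xq_78) (range_of_allRange c_xq_79))))))))))))))))))))))))))))))))))))))))
theorem h_xq_p2 : ∀ i, 30960 ≤ i → i < 31671 → Nat.beq (actX i) i = true :=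
  (range_glue (range_of_allRange c_xq_80) (range_of_allRange c_xq_81))
theorem h_xq : ∀ i, i < T.N → Tab.relActOK T D (List.replicate 17 xw).flatten i = true := by
  intro i hi
  rw [Tab.relActOK, ← actX_eq]
  exact (range_glue h_xq_p0 (range_glue h_xq_p1 h_xq_p2)) i (Nat.zero_le _) hi

end Cfsg.Agent.Lib.Helper4.TCD.Fi23Q
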