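import Cfsg.Agent.Lib.Helper4.TCD_Fi23a_Acc

namespace Cfsg.Agent.Lib.Helper4.TCD.Fi23a

open Cfsg.Agent.Lib.Helper4.TC

set_option maxRecDepth 100000
set_option Elab.async false

theorem c_fin_20 : allGrid (T.finOK D) 24000 1200 10 = true := by decide +kernel
theorem c_fin_21 : allGrid (T.finOK D) 25200 1200 10 = true := by decide +kernel
theorem c_fin_22 : allGrid (T.finOK D) 26400 1200 10 = true := by decide +kernel
theorem c_fin_23 : allGrid (T.finOK D) 27600 1200 10 = true := by decide +kernel
theorem c_fin_24 : allGrid (T.finOK D) 28800 1200 10 = true := by decide +kernel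
theorem c_fin_25 : allGrid (T.finOK D) 30000 1200 10 = true := by decide +kernel
theorem c_fin_26 : allGrid (T.finOK D) 31200 471 10 = true := by decide +kernel
theorem c_perm_0 : allGrid (T.permOK1 D) 0 3000 10 = true := by decide +kernel
theorem c_perm_1 : allGrid (T.permOK1 D) 3000 3000 10 = true := by decide +kernel
theorem c_perm_2 : allGrid (T.permOK1 D) 6000 3000 10 = true := by decide +kernel
theorem c_perm_3 : allGrid (T.permOK1 D) 9000 3000 10 = true := by decide +kernel
theorem c_perm_4 : allGrid (T.permOK1 D) 12000 3000 10 = true := by decide +kernel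
theorem c_perm_5 : allGrid (T.permOK1 D) 15000 3000 10 = true := by decide +kernel
theorem c_perm_6 : allGrid (T.permOK1 D) 18000 3000 10 = true := by decide +kernel
theorem c_perm_7 : allGrid (T.permOK1 D) 21000 3000 10 = true := by decide +kernel
theorem c_perm_8 : allGrid (T.permOK1 D) 24000 3000 10 = true := by decide +kernel
theorem c_perm_9 : allGrid (T.permOK1 D) 27000 3000 10 = true := by decide +kernel
theorem c_perm_10 : allGrid (T.permOK1 D) 30000 1671 10 = true := by decide +kernel
theorem c_act0_0 : allRange (fun i => Nat.beq (actR0 i) i) 0 30000 = true := by decide +kernel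
theorem c_act0_1 : allRange (fun i => Nat.beq (actR0 i) i) 30000 1671 = true := by decide +kernel
theorem c_act1_0 : allRange (fun i => Nat.beq (actR1 i) i) 0 10000 = true := by decide +kernel
theorem c_act1_1 : allRange (fun i => Nat.beq (actR1 i) i) 10000 10000 = true := by decide +kernel
theorem c_act1_2 : allRange (fun i => Nat.beq (actR1 i) i) 20000 10000 = true := by decide +kernel
theorem c_act1_3 : allRange (fun i => Nat.beq (actR1 i) i) 30000 1671 = true := by decide +kernel
theorem c_act2_0 : allRange (fun i => Nat.beq (actR2 i) i) 0 15000 = true := by decide +kernel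
theorem c_act2_1 : allRange (fun i => Nat.beq (actR2 i) i) 15000 15000 = true := by decide +kernel
theorem c_act2_2 : allRange (fun i => Nat.beq (actR2 i) i) 30000 1671 = true := by decide +kernel
theorem c_act3_0 : allRange (fun i => Nat.beq (actR3 i) i) 0 15000 = true := by decide +kernel
theorem c_act3_1 : allRange (fun i => Nat.beq (actR3 i) i) 15000 15000 = true := by decide +kernel
theorem c_act3_2 : allRange (fun i => Nat.beq (actR3 i) i) 30000 1671 = true := by decide +kernel
theorem c_act4_0 : allRange (fun i => Nat.beq (actR4 i) i) 0 15000 = true := by decide +kernel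
theorem c_act4_1 : allRange (fun i => Nat.beq (actR4 i) i) 15000 15000 = true := by decide +kernel
theorem c_act4_2 : allRange (fun i => Nat.beq (actR4 i) i) 30000 1671 = true := by decide +kernel
theorem c_act5_0 : allRange (fun i => Nat.beq (actR5 i) i) 0 15000 = true := by decide +kernel
theorem c_act5_1 : allRange (fun i => Nat.beq (actR5 i) i) 15000 15000 = true := by decide +kernel
theorem c_act5_2 : allRange (fun i => Nat.beq (actR5 i) i) 30000 1671 = true := by decide +kernel
theorem c_act6_0 : allRange (fun i => Nat.beq (actR6 i) i) 0 15000 = true := by decide +kernel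
theorem c_act6_1 : allRange (fun i => Nat.beq (actR6 i) i) 15000 15000 = true := by decide +kernel
theorem c_act6_2 : allRange (fun i => Nat.beq (actR6 i) i) 30000 1671 = true := by decide +kernel
theorem c_act7_0 : allRange (fun i => Nat.beq (actR7 i) i) 0 15000 = true := by decide +kernel
theorem c_act7_1 : allRange (fun i => Nat.beq (actR7 i) i) 15000 15000 = true := by decide +kernel
theorem c_act7_2 : allRange (fun i => Nat.beq (actR7 i) i) 30000 1671 = true := by decide +kernel
theorem c_act8_0 : allRange (fun i => Nat.beq (actR8 i) i) 0 15000 = true := by decide +kernel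
theorem c_act8_1 : allRange (fun i => Nat.beq (actR8 i) i) 15000 15000 = true := by decide +kernel
theorem c_act8_2 : allRange (fun i => Nat.beq (actR8 i) i) 30000 1671 = true := by decide +kernel
theorem c_act9_0 : allRange (fun i => Nat.beq (actR9 i) i) 0 15000 = true := by decide +kernel
theorem c_act9_1 : allRange (fun i => Nat.beq (actR9 i) i) 15000 15000 = true := by decide +kernel
theorem c_act9_2 : allRange (fun i => Nat.beq (actR9 i) i) 30000 1671 = true := by decide +kernel
theorem c_act10_0 : allRange (fun i => Nat.beq (actR10 i) i) 0 30000 = true := by decide +kernel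
theorem c_act10_1 : allRange (fun i => Nat.beq (actR10 i) i) 30000 1671 = true := by decide +kernel
theorem c_act11_0 : allRange (fun i => Nat.beq (actR11 i) i) 0 10000 = true := by decide +kernel
theorem c_act11_1 : allRange (fun i => Nat.beq (actR11 i) i) 10000 10000 = true := by decide +kernel
theorem c_act11_2 : allRange (fun i => Nat.beq (actR11 i) i) 20000 10000 = true := by decide +kernel
theorem c_act11_3 : allRange (fun i => Nat.beq (actR11 i) i) 30000 1671 = true := by decide +kernel
theorem c_act12_0 : allRange (fun i => Nat.beq (actR12 i) i) 0 15000 = true := by decide +kernel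
theorem c_act12_1 : allRange (fun i => Nat.beq (actR12 i) i) 15000 15000 = true := by decide +kernel
theorem c_act12_2 : allRange (fun i => Nat.beq (actR12 i) i) 30000 1671 = true := by decide +kernel
theorem c_act13_0 : allRange (fun i => Nat.beq (actR13 i) i) 0 15000 = true := by decide +kernel
theorem c_act13_1 : allRange (fun i => Nat.beq (actR13 i) i) 15000 15000 = true := by decide +kernel
theorem c_act13_2 : allRange (fun i => Nat.beq (actR13 i) i) 30000 1671 = true := by decide +kernel
theorem c_act14_0 : allRange (fun i => Nat.beq (actR14 i) i) 0 15000 = true := by decide +kernel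
theorem c_act14_1 : allRange (fun i => Nat.beq (actR14 i) i) 15000 15000 = true := by decide +kernel
theorem c_act14_2 : allRange (fun i => Nat.beq (actR14 i) i) 30000 1671 = true := by decide +kernel
theorem c_act15_0 : allRange (fun i => Nat.beq (actR15 i) i) 0 15000 = true := by decide +kernel

end Cfsg.Agent.Lib.Helper4.TCD.Fi23a
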