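import Cfsg.Agent.Lib.Helper4.TCD_Fi23a_Acc

namespace Cfsg.Agent.Lib.Helper4.TCD.Fi23a

open Cfsg.Agent.Lib.Helper4.TC

set_option maxRecDepth 100000
set_option Elab.async false

theorem c_act15_1 : allRange (fun i => Nat.beq (actR15 i) i) 15000 15000 = true := by decide +kernel
theorem c_act15_2 : allRange (fun i => Nat.beq (actR15 i) i) 30000 1671 = true := by decide +kernel
theorem c_act16_0 : allRange (fun i => Nat.beq (actR16 i) i) 0 15000 = true := by decide +kernel
theorem c_act16_1 : allRange (fun i => Nat.beq (actR16 i) i) 15000 15000 = true := by decide +kernel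
theorem c_act16_2 : allRange (fun i => Nat.beq (actR16 i) i) 30000 1671 = true := by decide +kernel
theorem c_act17_0 : allRange (fun i => Nat.beq (actR17 i) i) 0 15000 = true := by decide +kernel
theorem c_act17_1 : allRange (fun i => Nat.beq (actR17 i) i) 15000 15000 = true := by decide +kernel
theorem c_act17_2 : allRange (fun i => Nat.beq (actR17 i) i) 30000 1671 = true := by decide +kernel
theorem c_act18_0 : allRange (fun i => Nat.beq (actR18 i) i) 0 15000 = true := by decide +kernel
theorem c_act18_1 : allRange (fun i => Nat.beq (actR18 i) i) 15000 15000 = true := by decide +kernel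
theorem c_act18_2 : allRange (fun i => Nat.beq (actR18 i) i) 30000 1671 = true := by decide +kernel
theorem c_act19_0 : allRange (fun i => Nat.beq (actR19 i) i) 0 30000 = true := by decide +kernel
theorem c_act19_1 : allRange (fun i => Nat.beq (actR19 i) i) 30000 1671 = true := by decide +kernel
theorem c_act20_0 : allRange (fun i => Nat.beq (actR20 i) i) 0 10000 = true := by decide +kernel
theorem c_act20_1 : allRange (fun i => Nat.beq (actR20 i) i) 10000 10000 = true := by decide +kernel
theorem c_act20_2 : allRange (fun i => Nat.beq (actR20 i) i) 20000 10000 = true := by decide +kernel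
theorem c_act20_3 : allRange (fun i => Nat.beq (actR20 i) i) 30000 1671 = true := by decide +kernel
theorem c_act21_0 : allRange (fun i => Nat.beq (actR21 i) i) 0 15000 = true := by decide +kernel
theorem c_act21_1 : allRange (fun i => Nat.beq (actR21 i) i) 15000 15000 = true := by decide +kernel
theorem c_act21_2 : allRange (fun i => Nat.beq (actR21 i) i) 30000 1671 = true := by decide +kernel
theorem c_act22_0 : allRange (fun i => Nat.beq (actR22 i) i) 0 15000 = true := by decide +kernel
theorem c_act22_1 : allRange (fun i => Nat.beq (actR22 i) i) 15000 15000 = true := by decide +kernel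
theorem c_act22_2 : allRange (fun i => Nat.beq (actR22 i) i) 30000 1671 = true := by decide +kernel
theorem c_act23_0 : allRange (fun i => Nat.beq (actR23 i) i) 0 15000 = true := by decide +kernel
theorem c_act23_1 : allRange (fun i => Nat.beq (actR23 i) i) 15000 15000 = true := by decide +kernel
theorem c_act23_2 : allRange (fun i => Nat.beq (actR23 i) i) 30000 1671 = true := by decide +kernel
theorem c_act24_0 : allRange (fun i => Nat.beq (actR24 i) i) 0 15000 = true := by decide +kernel
theorem c_act24_1 : allRange (fun i => Nat.beq (actR24 i) i) 15000 15000 = true := by decide +kernel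
theorem c_act24_2 : allRange (fun i => Nat.beq (actR24 i) i) 30000 1671 = true := by decide +kernel
theorem c_act25_0 : allRange (fun i => Nat.beq (actR25 i) i) 0 15000 = true := by decide +kernel
theorem c_act25_1 : allRange (fun i => Nat.beq (actR25 i) i) 15000 15000 = true := by decide +kernel
theorem c_act25_2 : allRange (fun i => Nat.beq (actR25 i) i) 30000 1671 = true := by decide +kernel
theorem c_act26_0 : allRange (fun i => Nat.beq (actR26 i) i) 0 15000 = true := by decide +kernel
theorem c_act26_1 : allRange (fun i => Nat.beq (actR26 i) i) 15000 15000 = true := by decide +kernel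
theorem c_act26_2 : allRange (fun i => Nat.beq (actR26 i) i) 30000 1671 = true := by decide +kernel
theorem c_act27_0 : allRange (fun i => Nat.beq (actR27 i) i) 0 30000 = true := by decide +kernel
theorem c_act27_1 : allRange (fun i => Nat.beq (actR27 i) i) 30000 1671 = true := by decide +kernel
theorem c_act28_0 : allRange (fun i => Nat.beq (actR28 i) i) 0 10000 = true := by decide +kernel
theorem c_act28_1 : allRange (fun i => Nat.beq (actR28 i) i) 10000 10000 = true := by decide +kernel
theorem c_act28_2 : allRange (fun i => Nat.beq (actR28 i) i) 20000 10000 = true := by decide +kernel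
theorem c_act28_3 : allRange (fun i => Nat.beq (actR28 i) i) 30000 1671 = true := by decide +kernel
theorem c_act29_0 : allRange (fun i => Nat.beq (actR29 i) i) 0 10000 = true := by decide +kernel
theorem c_act29_1 : allRange (fun i => Nat.beq (actR29 i) i) 10000 10000 = true := by decide +kernel
theorem c_act29_2 : allRange (fun i => Nat.beq (actR29 i) i) 20000 10000 = true := by decide +kernel
theorem c_act29_3 : allRange (fun i => Nat.beq (actR29 i) i) 30000 1671 = true := by decide +kernel
theorem c_act30_0 : allRange (fun i => Nat.beq (actR30 i) i) 0 15000 = true := by decide +kernel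
theorem c_act30_1 : allRange (fun i => Nat.beq (actR30 i) i) 15000 15000 = true := by decide +kernel
theorem c_act30_2 : allRange (fun i => Nat.beq (actR30 i) i) 30000 1671 = true := by decide +kernel
theorem c_act31_0 : allRange (fun i => Nat.beq (actR31 i) i) 0 15000 = true := by decide +kernel
theorem c_act31_1 : allRange (fun i => Nat.beq (actR31 i) i) 15000 15000 = true := by decide +kernel
theorem c_act31_2 : allRange (fun i => Nat.beq (actR31 i) i) 30000 1671 = true := by decide +kernel
theorem c_act32_0 : allRange (fun i => Nat.beq (actR32 i) i) 0 15000 = true := by decide +kernel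
theorem c_act32_1 : allRange (fun i => Nat.beq (actR32 i) i) 15000 15000 = true := by decide +kernel
theorem c_act32_2 : allRange (fun i => Nat.beq (actR32 i) i) 30000 1671 = true := by decide +kernel
theorem c_act33_0 : allRange (fun i => Nat.beq (actR33 i) i) 0 15000 = true := by decide +kernel
theorem c_act33_1 : allRange (fun i => Nat.beq (actR33 i) i) 15000 15000 = true := by decide +kernel
theorem c_act33_2 : allRange (fun i => Nat.beq (actR33 i) i) 30000 1671 = true := by decide +kernel
theorem c_act34_0 : allRange (fun i => Nat.beq (actR34 i) i) 0 30000 = true := by decide +kernel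
theorem c_act34_1 : allRange (fun i => Nat.beq (actR34 i) i) 30000 1671 = true := by decide +kernel
theorem c_act35_0 : allRange (fun i => Nat.beq (actR35 i) i) 0 15000 = true := by decide +kernel
theorem c_act35_1 : allRange (fun i => Nat.beq (actR35 i) i) 15000 15000 = true := by decide +kernel
theorem c_act35_2 : allRange (fun i => Nat.beq (actR35 i) i) 30000 1671 = true := by decide +kernel
theorem c_act36_0 : allRange (fun i => Nat.beq (actR36 i) i) 0 10000 = true := by decide +kernel
theorem c_act36_1 : allRange (fun i => Nat.beq (actR36 i) i) 10000 10000 = true := by decide +kernel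
theorem c_act36_2 : allRange (fun i => Nat.beq (actR36 i) i) 20000 10000 = true := by decide +kernel
theorem c_act36_3 : allRange (fun i => Nat.beq (actR36 i) i) 30000 1671 = true := by decide +kernel
theorem c_act37_0 : allRange (fun i => Nat.beq (actR37 i) i) 0 15000 = true := by decide +kernel
theorem c_act37_1 : allRange (fun i => Nat.beq (actR37 i) i) 15000 15000 = true := by decide +kernel
theorem c_act37_2 : allRange (fun i => Nat.beq (actR37 i) i) 30000 1671 = true := by decide +kernel
theorem c_act38_0 : allRange (fun i => Nat.beq (actR38 i) i) 0 15000 = true := by decide +kernel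

end Cfsg.Agent.Lib.Helper4.TCD.Fi23a
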