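import Cfsg.Agent.Lib.Helper4.TCD_Fi23a_Acc

namespace Cfsg.Agent.Lib.Helper4.TCD.Fi23a

open Cfsg.Agent.Lib.Helper4.TC

set_option maxRecDepth 100000
set_option Elab.async false

theorem c_act38_1 : allRange (fun i => Nat.beq (actR38 i) i) 15000 15000 = true := by decide +kernel
theorem c_act38_2 : allRange (fun i => Nat.beq (actR38 i) i) 30000 1671 = true := by decide +kernel
theorem c_act39_0 : allRange (fun i => Nat.beq (actR39 i) i) 0 15000 = true := by decide +kernel
theorem c_act39_1 : allRange (fun i => Nat.beq (actR39 i) i) 15000 15000 = true := by decide +kernel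
theorem c_act39_2 : allRange (fun i => Nat.beq (actR39 i) i) 30000 1671 = true := by decide +kernel
theorem c_act40_0 : allRange (fun i => Nat.beq (actR40 i) i) 0 30000 = true := by decide +kernel
theorem c_act40_1 : allRange (fun i => Nat.beq (actR40 i) i) 30000 1671 = true := by decide +kernel
theorem c_act41_0 : allRange (fun i => Nat.beq (actR41 i) i) 0 15000 = true := by decide +kernel
theorem c_act41_1 : allRange (fun i => Nat.beq (actR41 i) i) 15000 15000 = true := by decide +kernel
theorem c_act41_2 : allRange (fun i => Nat.beq (actR41 i) i) 30000 1671 = true := by decide +kernel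
theorem c_act42_0 : allRange (fun i => Nat.beq (actR42 i) i) 0 15000 = true := by decide +kernel
theorem c_act42_1 : allRange (fun i => Nat.beq (actR42 i) i) 15000 15000 = true := by decide +kernel
theorem c_act42_2 : allRange (fun i => Nat.beq (actR42 i) i) 30000 1671 = true := by decide +kernel
theorem c_act43_0 : allRange (fun i => Nat.beq (actR43 i) i) 0 15000 = true := by decide +kernel
theorem c_act43_1 : allRange (fun i => Nat.beq (actR43 i) i) 15000 15000 = true := by decide +kernel
theorem c_act43_2 : allRange (fun i => Nat.beq (actR43 i) i) 30000 1671 = true := by decide +kernel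
theorem c_act44_0 : allRange (fun i => Nat.beq (actR44 i) i) 0 10000 = true := by decide +kernel
theorem c_act44_1 : allRange (fun i => Nat.beq (actR44 i) i) 10000 10000 = true := by decide +kernel
theorem c_act44_2 : allRange (fun i => Nat.beq (actR44 i) i) 20000 10000 = true := by decide +kernel
theorem c_act44_3 : allRange (fun i => Nat.beq (actR44 i) i) 30000 1671 = true := by decide +kernel
theorem c_act45_0 : allRange (fun i => Nat.beq (actR45 i) i) 0 30000 = true := by decide +kernel
theorem c_act45_1 : allRange (fun i => Nat.beq (actR45 i) i) 30000 1671 = true := by decide +kernel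
theorem c_act46_0 : allRange (fun i => Nat.beq (actR46 i) i) 0 10000 = true := by decide +kernel
theorem c_act46_1 : allRange (fun i => Nat.beq (actR46 i) i) 10000 10000 = true := by decide +kernel
theorem c_act46_2 : allRange (fun i => Nat.beq (actR46 i) i) 20000 10000 = true := by decide +kernel
theorem c_act46_3 : allRange (fun i => Nat.beq (actR46 i) i) 30000 1671 = true := by decide +kernel
theorem c_act47_0 : allRange (fun i => Nat.beq (actR47 i) i) 0 15000 = true := by decide +kernel
theorem c_act47_1 : allRange (fun i => Nat.beq (actR47 i) i) 15000 15000 = true := by decide +kernel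
theorem c_act47_2 : allRange (fun i => Nat.beq (actR47 i) i) 30000 1671 = true := by decide +kernel
theorem c_act48_0 : allRange (fun i => Nat.beq (actR48 i) i) 0 15000 = true := by decide +kernel
theorem c_act48_1 : allRange (fun i => Nat.beq (actR48 i) i) 15000 15000 = true := by decide +kernel
theorem c_act48_2 : allRange (fun i => Nat.beq (actR48 i) i) 30000 1671 = true := by decide +kernel
theorem c_act49_0 : allRange (fun i => Nat.beq (actR49 i) i) 0 30000 = true := by decide +kernel
theorem c_act49_1 : allRange (fun i => Nat.beq (actR49 i) i) 30000 1671 = true := by decide +kernel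
theorem c_act50_0 : allRange (fun i => Nat.beq (actR50 i) i) 0 10000 = true := by decide +kernel
theorem c_act50_1 : allRange (fun i => Nat.beq (actR50 i) i) 10000 10000 = true := by decide +kernel
theorem c_act50_2 : allRange (fun i => Nat.beq (actR50 i) i) 20000 10000 = true := by decide +kernel
theorem c_act50_3 : allRange (fun i => Nat.beq (actR50 i) i) 30000 1671 = true := by decide +kernel
theorem c_act51_0 : allRange (fun i => Nat.beq (actR51 i) i) 0 15000 = true := by decide +kernel
theorem c_act51_1 : allRange (fun i => Nat.beq (actR51 i) i) 15000 15000 = true := by decide +kernel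
theorem c_act51_2 : allRange (fun i => Nat.beq (actR51 i) i) 30000 1671 = true := by decide +kernel
theorem c_act52_0 : allRange (fun i => Nat.beq (actR52 i) i) 0 30000 = true := by decide +kernel
theorem c_act52_1 : allRange (fun i => Nat.beq (actR52 i) i) 30000 1671 = true := by decide +kernel
theorem c_act53_0 : allRange (fun i => Nat.beq (actR53 i) i) 0 15000 = true := by decide +kernel
theorem c_act53_1 : allRange (fun i => Nat.beq (actR53 i) i) 15000 15000 = true := by decide +kernel
theorem c_act53_2 : allRange (fun i => Nat.beq (actR53 i) i) 30000 1671 = true := by decide +kernel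
theorem c_act54_0 : allRange (fun i => Nat.beq (actR54 i) i) 0 30000 = true := by decide +kernel
theorem c_act54_1 : allRange (fun i => Nat.beq (actR54 i) i) 30000 1671 = true := by decide +kernel
theorem c_act55_0 : allRange (fun i => Nat.beq (actR55 i) i) 0 666 = true := by decide +kernel
theorem c_act55_1 : allRange (fun i => Nat.beq (actR55 i) i) 666 666 = true := by decide +kernel
theorem c_act55_2 : allRange (fun i => Nat.beq (actR55 i) i) 1332 666 = true := by decide +kernel
theorem c_act55_3 : allRange (fun i => Nat.beq (actR55 i) i) 1998 666 = true := by decide +kernel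
theorem c_act55_4 : allRange (fun i => Nat.beq (actR55 i) i) 2664 666 = true := by decide +kernel
theorem c_act55_5 : allRange (fun i => Nat.beq (actR55 i) i) 3330 666 = true := by decide +kernel
theorem c_act55_6 : allRange (fun i => Nat.beq (actR55 i) i) 3996 666 = true := by decide +kernel
theorem c_act55_7 : allRange (fun i => Nat.beq (actR55 i) i) 4662 666 = true := by decide +kernel
theorem c_act55_8 : allRange (fun i => Nat.beq (actR55 i) i) 5328 666 = true := by decide +kernel
theorem c_act55_9 : allRange (fun i => Nat.beq (actR55 i) i) 5994 666 = true := by decide +kernel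
theorem c_act55_10 : allRange (fun i => Nat.beq (actR55 i) i) 6660 666 = true := by decide +kernel
theorem c_act55_11 : allRange (fun i => Nat.beq (actR55 i) i) 7326 666 = true := by decide +kernel
theorem c_act55_12 : allRange (fun i => Nat.beq (actR55 i) i) 7992 666 = true := by decide +kernel
theorem c_act55_13 : allRange (fun i => Nat.beq (actR55 i) i) 8658 666 = true := by decide +kernel
theorem c_act55_14 : allRange (fun i => Nat.beq (actR55 i) i) 9324 666 = true := by decide +kernel
theorem c_act55_15 : allRange (fun i => Nat.beq (actR55 i) i) 9990 666 = true := by decide +kernel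
theorem c_act55_16 : allRange (fun i => Nat.beq (actR55 i) i) 10656 666 = true := by decide +kernel

end Cfsg.Agent.Lib.Helper4.TCD.Fi23a
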