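import Cfsg.Agent.Lib.Helper4.TCD_Fi23a_Acc

namespace Cfsg.Agent.Lib.Helper4.TCD.Fi23a

open Cfsg.Agent.Lib.Helper4.TC

set_option maxRecDepth 100000
set_option Elab.async false

theorem c_act55_17 : allRange (fun i => Nat.beq (actR55 i) i) 11322 666 = true := by decide +kernel
theorem c_act55_18 : allRange (fun i => Nat.beq (actR55 i) i) 11988 666 = true := by decide +kernel
theorem c_act55_19 : allRange (fun i => Nat.beq (actR55 i) i) 12654 666 = true := by decide +kernel
theorem c_act55_20 : allRange (fun i => Nat.beq (actR55 i) i) 13320 666 = true := by decide +kernel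
theorem c_act55_21 : allRange (fun i => Nat.beq (actR55 i) i) 13986 666 = true := by decide +kernel
theorem c_act55_22 : allRange (fun i => Nat.beq (actR55 i) i) 14652 666 = true := by decide +kernel
theorem c_act55_23 : allRange (fun i => Nat.beq (actR55 i) i) 15318 666 = true := by decide +kernel
theorem c_act55_24 : allRange (fun i => Nat.beq (actR55 i) i) 15984 666 = true := by decide +kernel
theorem c_act55_25 : allRange (fun i => Nat.beq (actR55 i) i) 16650 666 = true := by decide +kernel
theorem c_act55_26 : allRange (fun i => Nat.beq (actR55 i) i) 17316 666 = true := by decide +kernel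
theorem c_act55_27 : allRange (fun i => Nat.beq (actR55 i) i) 17982 666 = true := by decide +kernel
theorem c_act55_28 : allRange (fun i => Nat.beq (actR55 i) i) 18648 666 = true := by decide +kernel
theorem c_act55_29 : allRange (fun i => Nat.beq (actR55 i) i) 19314 666 = true := by decide +kernel
theorem c_act55_30 : allRange (fun i => Nat.beq (actR55 i) i) 19980 666 = true := by decide +kernel
theorem c_act55_31 : allRange (fun i => Nat.beq (actR55 i) i) 20646 666 = true := by decide +kernel
theorem c_act55_32 : allRange (fun i => Nat.beq (actR55 i) i) 21312 666 = true := by decide +kernel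
theorem c_act55_33 : allRange (fun i => Nat.beq (actR55 i) i) 21978 666 = true := by decide +kernel
theorem c_act55_34 : allRange (fun i => Nat.beq (actR55 i) i) 22644 666 = true := by decide +kernel
theorem c_act55_35 : allRange (fun i => Nat.beq (actR55 i) i) 23310 666 = true := by decide +kernel
theorem c_act55_36 : allRange (fun i => Nat.beq (actR55 i) i) 23976 666 = true := by decide +kernel
theorem c_act55_37 : allRange (fun i => Nat.beq (actR55 i) i) 24642 666 = true := by decide +kernel
theorem c_act55_38 : allRange (fun i => Nat.beq (actR55 i) i) 25308 666 = true := by decide +kernel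
theorem c_act55_39 : allRange (fun i => Nat.beq (actR55 i) i) 25974 666 = true := by decide +kernel
theorem c_act55_40 : allRange (fun i => Nat.beq (actR55 i) i) 26640 666 = true := by decide +kernel
theorem c_act55_41 : allRange (fun i => Nat.beq (actR55 i) i) 27306 666 = true := by decide +kernel
theorem c_act55_42 : allRange (fun i => Nat.beq (actR55 i) i) 27972 666 = true := by decide +kernel
theorem c_act55_43 : allRange (fun i => Nat.beq (actR55 i) i) 28638 666 = true := by decide +kernel
theorem c_act55_44 : allRange (fun i => Nat.beq (actR55 i) i) 29304 666 = true := by decide +kernel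
theorem c_act55_45 : allRange (fun i => Nat.beq (actR55 i) i) 29970 666 = true := by decide +kernel
theorem c_act55_46 : allRange (fun i => Nat.beq (actR55 i) i) 30636 666 = true := by decide +kernel
theorem c_act55_47 : allRange (fun i => Nat.beq (actR55 i) i) 31302 369 = true := by decide +kernel
theorem c_act56_0 : allRange (fun i => Nat.beq (actR56 i) i) 0 952 = true := by decide +kernel
theorem c_act56_1 : allRange (fun i => Nat.beq (actR56 i) i) 952 952 = true := by decide +kernel
theorem c_act56_2 : allRange (fun i => Nat.beq (actR56 i) i) 1904 952 = true := by decide +kernel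
theorem c_act56_3 : allRange (fun i => Nat.beq (actR56 i) i) 2856 952 = true := by decide +kernel
theorem c_act56_4 : allRange (fun i => Nat.beq (actR56 i) i) 3808 952 = true := by decide +kernel
theorem c_act56_5 : allRange (fun i => Nat.beq (actR56 i) i) 4760 952 = true := by decide +kernel
theorem c_act56_6 : allRange (fun i => Nat.beq (actR56 i) i) 5712 952 = true := by decide +kernel
theorem c_act56_7 : allRange (fun i => Nat.beq (actR56 i) i) 6664 952 = true := by decide +kernel
theorem c_act56_8 : allRange (fun i => Nat.beq (actR56 i) i) 7616 952 = true := by decide +kernel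
theorem c_act56_9 : allRange (fun i => Nat.beq (actR56 i) i) 8568 952 = true := by decide +kernel
theorem c_act56_10 : allRange (fun i => Nat.beq (actR56 i) i) 9520 952 = true := by decide +kernel
theorem c_act56_11 : allRange (fun i => Nat.beq (actR56 i) i) 10472 952 = true := by decide +kernel
theorem c_act56_12 : allRange (fun i => Nat.beq (actR56 i) i) 11424 952 = true := by decide +kernel
theorem c_act56_13 : allRange (fun i => Nat.beq (actR56 i) i) 12376 952 = true := by decide +kernel
theorem c_act56_14 : allRange (fun i => Nat.beq (actR56 i) i) 13328 952 = true := by decide +kernel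
theorem c_act56_15 : allRange (fun i => Nat.beq (actR56 i) i) 14280 952 = true := by decide +kernel
theorem c_act56_16 : allRange (fun i => Nat.beq (actR56 i) i) 15232 952 = true := by decide +kernel
theorem c_act56_17 : allRange (fun i => Nat.beq (actR56 i) i) 16184 952 = true := by decide +kernel
theorem c_act56_18 : allRange (fun i => Nat.beq (actR56 i) i) 17136 952 = true := by decide +kernel

end Cfsg.Agent.Lib.Helper4.TCD.Fi23a
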