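import Cfsg.Agent.Lib.Helper4.TCD_Fi23a_Acc

namespace Cfsg.Agent.Lib.Helper4.TCD.Fi23a

open Cfsg.Agent.Lib.Helper4.TC

set_option maxRecDepth 100000
set_option Elab.async false

theorem c_act56_19 : allRange (fun i => Nat.beq (actR56 i) i) 18088 952 = true := by decide +kernel
theorem c_act56_20 : allRange (fun i => Nat.beq (actR56 i) i) 19040 952 = true := by decide +kernel
theorem c_act56_21 : allRange (fun i => Nat.beq (actR56 i) i) 19992 952 = true := by decide +kernel
theorem c_act56_22 : allRange (fun i => Nat.beq (actR56 i) i) 20944 952 = true := by decide +kernel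
theorem c_act56_23 : allRange (fun i => Nat.beq (actR56 i) i) 21896 952 = true := by decide +kernel
theorem c_act56_24 : allRange (fun i => Nat.beq (actR56 i) i) 22848 952 = true := by decide +kernel
theorem c_act56_25 : allRange (fun i => Nat.beq (actR56 i) i) 23800 952 = true := by decide +kernel
theorem c_act56_26 : allRange (fun i => Nat.beq (actR56 i) i) 24752 952 = true := by decide +kernel
theorem c_act56_27 : allRange (fun i => Nat.beq (actR56 i) i) 25704 952 = true := by decide +kernel
theorem c_act56_28 : allRange (fun i => Nat.beq (actR56 i) i) 26656 952 = true := by decide +kernel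
theorem c_act56_29 : allRange (fun i => Nat.beq (actR56 i) i) 27608 952 = true := by decide +kernel
theorem c_act56_30 : allRange (fun i => Nat.beq (actR56 i) i) 28560 952 = true := by decide +kernel
theorem c_act56_31 : allRange (fun i => Nat.beq (actR56 i) i) 29512 952 = true := by decide +kernel
theorem c_act56_32 : allRange (fun i => Nat.beq (actR56 i) i) 30464 952 = true := by decide +kernel
theorem c_act56_33 : allRange (fun i => Nat.beq (actR56 i) i) 31416 255 = true := by decide +kernel
theorem c_oinv0_0 : allRange (Tab.orbInvOK T D subs 1 3511) 1 3333 = true := by decide +kernel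
theorem c_oinv0_1 : allRange (Tab.orbInvOK T D subs 1 3511) 3334 177 = true := by decide +kernel
theorem c_otree0_0 : allRange (Tab.orbTreeOK T D subs oparTab olabTab 1) 2 3509 = true := by decide +kernel
theorem c_oinv1_0 : allRange (Tab.orbInvOK T D subs 3511 31671) 3511 3333 = true := by decide +kernel
theorem c_oinv1_1 : allRange (Tab.orbInvOK T D subs 3511 31671) 6844 3333 = true := by decide +kernel
theorem c_oinv1_2 : allRange (Tab.orbInvOK T D subs 3511 31671) 10177 3333 = true := by decide +kernel
theorem c_oinv1_3 : allRange (Tab.orbInvOK T D subs 3511 31671) 13510 3333 = true := by decide +kernel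
theorem c_oinv1_4 : allRange (Tab.orbInvOK T D subs 3511 31671) 16843 3333 = true := by decide +kernel
theorem c_oinv1_5 : allRange (Tab.orbInvOK T D subs 3511 31671) 20176 3333 = true := by decide +kernel
theorem c_oinv1_6 : allRange (Tab.orbInvOK T D subs 3511 31671) 23509 3333 = true := by decide +kernel
theorem c_oinv1_7 : allRange (Tab.orbInvOK T D subs 3511 31671) 26842 3333 = true := by decide +kernel
theorem c_oinv1_8 : allRange (Tab.orbInvOK T D subs 3511 31671) 30175 1496 = true := by decide +kernel
theorem c_otree1_0 : allRange (Tab.orbTreeOK T D subs oparTab olabTab 3511) 3512 20000 = true := by decide +kernel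
theorem c_otree1_1 : allRange (Tab.orbTreeOK T D subs oparTab olabTab 3511) 23512 8159 = true := by decide +kernel

end Cfsg.Agent.Lib.Helper4.TCD.Fi23a
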