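import Mathlib
import Cfsg.Prelude.Def_SporadicB
import Cfsg.Agent.S1696
import Cfsg.Agent.S1697
import Cfsg.Agent.Lib.Helper4.TCD_Fi23Z_Fin
import Cfsg.Agent.Lib.Helper4.TCP_Fi22

/-!
In the presented Fischer group Fi₂₃ the subgroup generated by `a, …, i` is a non-split double cover of the
presented Fi₂₂.
-/

namespace Cfsg.Agent.Lib.Helper4.Fi23Cover

open Cfsg.Agent.Lib.Helper4.TC Cfsg.Agent.Lib.Helper4.TCD Cfsg.Agent.Lib.Helper4.TC.Log

/-- the ambient group -/
abbrev G : Type := PFi23.P.Grp

/-- the subgroup generated by `a, …, i` -/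
noncomputable def K : Subgroup G := Inst.subG PFi23.P Fi23a.subs

/-- the letters of `a, …, i` -/
def gL : List ℕ := [0, 1, 2, 3, 4, 5, 6, 8, 9]

theorem K_eq : K = letG PFi23.P gL := Fi23a.inst.subG_eq_letG _ (by decide)

theorem gR_mem (l : ℕ) (hl : l ∈ gL) : PFi23.P.gR l ∈ K := by
  rw [K_eq]
  exact Subgroup.subset_closure ⟨l, hl, rfl⟩

theorem word_mem (u : List ℕ) (hu : ∀ x ∈ u, x ∈ gL) : wordP PFi23.P.gR u ∈ K :=
  Sgs.wordP_mem_closure _ _ _ fun e he => gR_mem e (hu e he)

/-- the central element -/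
noncomputable def z : G := wordP PFi23.P.gR Fi23Z.zw

theorem zw_mem : ∀ x ∈ Fi23Z.zw, x ∈ gL := by decide

theorem z_mem : z ∈ K := word_mem _ zw_mem

/-- the faithful permutation representation -/
noncomputable def φ : G →* Equiv.Perm (Fin Fi23a.T.N) := Fi23a.inst.phi

theorem φ_inj : Function.Injective φ := Cfsg.Agent.S1697.order_aux.2.1

theorem φ_word (u : List ℕ) (hu : ∀ x ∈ u, x < 10) (p : Fin Fi23a.T.N) :
    (φ (wordP PFi23.P.gR u) p).1 = Tab.act Fi23a.T Fi23a.D u p.1 := by
  have hu' : ∀ x ∈ u, x < Fi23a.D.k := hu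
  have hword : wordP (Inst.gE PFi23.P Fi23a.subs) u = wordP PFi23.P.gR u :=
    Fi23a.inst.gE_word _ hu
  rw [← hword]
  exact Fi23a.inst.hC.phi_word Fi23a.inst.phi Fi23a.inst.hphi u hu' p

theorem φ_z (p : Fin Fi23a.T.N) : (φ z p).1 = Fi23Z.ztab p.1 := by
  rw [z, φ_word _ (by decide) p]
  exact (Fi23Z.h_z p.1 p.2).symm

theorem φ_gen (l : ℕ) (hl : l < 10) (p : Fin Fi23a.T.N) :
    (φ (PFi23.P.gR l) p).1 = Fi23a.T.tbl p.1 l := by
  have := φ_word [l] (by simpa using hl) p
  rw [wordP_cons, wordP_nil, mul_one] at this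
  rw [this]
  have hl' : l < 10 := hl
  interval_cases l <;> rfl

theorem z_comm_aux (l : ℕ) (hl10 : l < 10)
    (h : ∀ i, i < 31671 → Fi23Z.ztab (Fi23a.T.tbl i l) = Fi23a.T.tbl (Fi23Z.ztab i) l) :
    z * PFi23.P.gR l = PFi23.P.gR l * z := by
  apply φ_inj
  rw [map_mul, map_mul]
  ext p
  rw [Equiv.Perm.mul_apply, Equiv.Perm.mul_apply, φ_z, φ_gen l hl10, φ_gen l hl10, φ_z]
  exact h p.1 p.2

/-- `z` commutes with the generators -/
theorem z_comm (l : ℕ) (hl : l ∈ gL) : z * PFi23.P.gR l = PFi23.P.gR l * z := by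
  simp only [gL, List.mem_cons, List.not_mem_nil, or_false] at hl
  rcases hl with rfl | rfl | rfl | rfl | rfl | rfl | rfl | rfl | rfl
  · exact z_comm_aux 0 (by decide) Fi23Z.h_c0
  · exact z_comm_aux 1 (by decide) Fi23Z.h_c1
  · exact z_comm_aux 2 (by decide) Fi23Z.h_c2
  · exact z_comm_aux 3 (by decide) Fi23Z.h_c3
  · exact z_comm_aux 4 (by decide) Fi23Z.h_c4
  · exact z_comm_aux 5 (by decide) Fi23Z.h_c5
  · exact z_comm_aux 6 (by decide) Fi23Z.h_c6
  · exact z_comm_aux 8 (by decide) Fi23Z.h_c8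
  · exact z_comm_aux 9 (by decide) Fi23Z.h_c9

theorem z_comm_K (y : G) (hy : y ∈ K) : z * y = y * z := by
  have hle : K ≤ Subgroup.centralizer {z} := by
    rw [K_eq, letG, Subgroup.closure_le]
    rintro _ ⟨l, hl, rfl⟩
    rw [SetLike.mem_coe, Subgroup.mem_centralizer_iff]
    intro w hw
    rw [Set.mem_singleton_iff] at hw
    rw [hw]
    exact z_comm l hl
  have := hle hy
  rw [Subgroup.mem_centralizer_iff] at this
  exact this z rfl

open scoped Classical in
/-- the generators inside the subgroup -/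
noncomputable def gK (l : ℕ) : K := if h : PFi23.P.gR l ∈ K then ⟨PFi23.P.gR l, h⟩ else 1

theorem gK_coe (l : ℕ) (hl : l ∈ gL) : ((gK l : K) : G) = PFi23.P.gR l := by
  rw [gK, dif_pos (gR_mem l hl)]

theorem wordK_coe (u : List ℕ) (hu : ∀ x ∈ u, x ∈ gL) : ((wordP gK u : K) : G) = wordP PFi23.P.gR u := by
  induction u with
  | nil => rfl
  | cons x u ih =>
    rw [wordP_cons, wordP_cons, Subgroup.coe_mul, gK_coe x (hu x List.mem_cons_self),
      ih fun y hy => hu y (List.mem_cons_of_mem _ hy)]

/-- the subgroup is generated by the generators -/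
theorem gK_closure : Subgroup.closure {s : K | ∃ l ∈ gL, s = gK l} = ⊤ := by
  rw [eq_top_iff]
  have key : ∀ y : G, y ∈ Subgroup.closure {s : G | ∃ x ∈ gL, s = PFi23.P.gR x} →
      ∀ hy : y ∈ K, (⟨y, hy⟩ : K) ∈ Subgroup.closure {s : K | ∃ l ∈ gL, s = gK l} := by
    intro y hy'
    induction hy' using Subgroup.closure_induction with
    | mem x hx =>
      intro hy
      obtain ⟨l, hl, rfl⟩ := hx
      apply Subgroup.subset_closure
      exact ⟨l, hl, Subtype.ext (gK_coe l hl).symm⟩
    | one => intro _; exact one_mem _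
    | mul a b ha hb iha ihb =>
      intro hy
      have ha' : a ∈ K := by rw [K_eq, letG]; exact ha
      have hb' : b ∈ K := by rw [K_eq, letG]; exact hb
      have : (⟨a * b, hy⟩ : K) = ⟨a, ha'⟩ * ⟨b, hb'⟩ := rfl
      rw [this]
      exact mul_mem (iha ha') (ihb hb')
    | inv a ha iha =>
      intro hy
      have ha' : a ∈ K := by rw [K_eq, letG]; exact ha
      have : (⟨a⁻¹, hy⟩ : K) = (⟨a, ha'⟩ : K)⁻¹ := rfl
      rw [this]
      exact inv_mem (iha ha')
  rintro ⟨y, hy⟩ _
  have hy' := hy
  rw [K_eq, letG] at hy'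
  exact key y hy' hy

/-- the central element inside the subgroup -/
noncomputable def zK : K := ⟨z, z_mem⟩

theorem zK_center : zK ∈ Subgroup.center K := by
  rw [Subgroup.mem_center_iff]
  intro y
  apply Subtype.ext
  show (y : G) * z = z * (y : G)
  exact (z_comm_K y.1 y.2).symm

theorem zK_eq : zK = wordP gK Fi23Z.zw := by
  apply Subtype.ext
  rw [wordK_coe _ zw_mem]
  rfl

/-! ### The orders -/

theorem card_G : Nat.card G = 4089470473293004800 := Cfsg.Agent.S1697.order_aux.2.2

theorem card_K : Nat.card K = 129123503308800 := by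
  have h1 := (K : Subgroup G).index_mul_card
  have h2 : (K : Subgroup G).index = 31671 := Fi23a.index_eq
  rw [h2, card_G] at h1
  omega

instance : Finite G := Cfsg.Agent.S1697.order_aux.1

/-! ### The homomorphism from Fi₂₂ -/

/-- the letters of Fi₂₂ as letters of Fi₂₃ -/
def mu : ℕ → ℕ
  | 7 => 8
  | 8 => 9
  | l => l

abbrev Q : Type := K ⧸ Subgroup.center K

/-- the images of the generators of Fi₂₂ -/
noncomputable def f (x : Cfsg.Spor.Fi22.Gen) : Q := QuotientGroup.mk (gK (mu (PFi22.enc x)))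

theorem mu_mem (l : ℕ) (hl : l < 9) : mu l ∈ gL := by
  interval_cases l <;> decide

theorem lift_dec (l : ℕ) (hl : l < 9) :
    FreeGroup.lift f (PFi22.P.dec l) = QuotientGroup.mk (gK (mu l)) := by
  interval_cases l <;>
  · show FreeGroup.lift f (FreeGroup.of _) = _
    rw [FreeGroup.lift_apply_of]
    rfl

theorem word_lift (L : List ℕ) (hL : ∀ x ∈ L, x < 9) :
    wordP (fun l => FreeGroup.lift f (PFi22.P.dec l)) L =
      (QuotientGroup.mk (wordP gK (L.map mu)) : Q) := by
  induction L with
  | nil => rfl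
  | cons x L ih =>
    rw [wordP_cons, List.map_cons, wordP_cons, QuotientGroup.mk_mul, ih fun y hy => hL y (List.mem_cons_of_mem _ hy),
      lift_dec x (hL x List.mem_cons_self)]

theorem real_cases : ∀ L ∈ PFi22.P.real, L.map mu ∈ PFi23.P.real ∨ L.map mu = Fi23Z.zw := by
  decide +kernel

theorem rels_hold : ∀ r ∈ PFi22.P.rels, FreeGroup.lift f r = 1 := by
  rw [PFi22.valid.rels_iff Q f]
  intro L hL
  have hlt : ∀ x ∈ L, x < 9 := PFi22.valid.real_lt L hL
  rw [word_lift L hlt]
  have hmem : ∀ x ∈ L.map mu, x ∈ gL := by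
    intro x hx
    obtain ⟨y, hy, rfl⟩ := List.mem_map.1 hx
    exact mu_mem y (hlt y hy)
  rcases real_cases L hL with h | h
  · have h1 : wordP gK (L.map mu) = 1 := by
      apply Subtype.ext
      rw [wordK_coe _ hmem]
      exact (PFi23.valid.real_sound _ h).2
    rw [h1]
    rfl
  · rw [h, ← zK_eq]
    exact (QuotientGroup.eq_one_iff _).2 zK_center

/-- the homomorphism from the presented Fi₂₂ -/
noncomputable def psi : PFi22.P.Grp →* Q := PresentedGroup.toGroup rels_hold

theorem psi_of (x : Cfsg.Spor.Fi22.Gen) : psi (PresentedGroup.of x) = f x :=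
  PresentedGroup.toGroup.of rels_hold

theorem psi_surj : Function.Surjective psi := by
  rw [← MonoidHom.range_eq_top, eq_top_iff]
  have hgen : ∀ l ∈ gL, (QuotientGroup.mk (gK l) : Q) ∈ psi.range := by
    intro l hl
    simp only [gL, List.mem_cons, List.not_mem_nil, or_false] at hl
    rcases hl with rfl | rfl | rfl | rfl | rfl | rfl | rfl | rfl | rfl
    · exact ⟨PresentedGroup.of .a, psi_of _⟩
    · exact ⟨PresentedGroup.of .b, psi_of _⟩
    · exact ⟨PresentedGroup.of .c, psi_of _⟩
    · exact ⟨PresentedGroup.of .d, psi_of _⟩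
    · exact ⟨PresentedGroup.of .e, psi_of _⟩
    · exact ⟨PresentedGroup.of .f, psi_of _⟩
    · exact ⟨PresentedGroup.of .g, psi_of _⟩
    · exact ⟨PresentedGroup.of .h, psi_of _⟩
    · exact ⟨PresentedGroup.of .i, psi_of _⟩
  have key : ∀ y : K, y ∈ Subgroup.closure {s : K | ∃ l ∈ gL, s = gK l} →
      (QuotientGroup.mk y : Q) ∈ psi.range := by
    intro y hy
    induction hy using Subgroup.closure_induction with
    | mem x hx =>
      obtain ⟨l, hl, rfl⟩ := hx
      exact hgen l hl
    | one => exact one_mem _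
    | mul a b _ _ iha ihb =>
      rw [QuotientGroup.mk_mul]
      exact mul_mem iha ihb
    | inv a _ iha =>
      rw [QuotientGroup.mk_inv]
      exact inv_mem iha
  intro q _
  induction q using QuotientGroup.induction_on with
  | H y => exact key y (by rw [gK_closure]; trivial)

/-- the generators `a`, `b` do not commute -/
theorem not_comm : gK 0 * gK 1 ≠ gK 1 * gK 0 := by
  intro h
  have h1 := congrArg (fun y : K => (y : G)) h
  simp only [Subgroup.coe_mul] at h1
  rw [gK_coe 0 (by decide), gK_coe 1 (by decide)] at h1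
  have h2 := congrArg (fun y => ((φ y) ⟨1, by decide⟩).1) h1
  simp only [map_mul, Equiv.Perm.mul_apply] at h2
  rw [φ_gen 0 (by decide), φ_gen 1 (by decide), φ_gen 1 (by decide), φ_gen 0 (by decide)] at h2
  exact Fi23Z.h_nc h2

theorem fi22_simple : IsSimpleGroup PFi22.P.Grp := Cfsg.Agent.S1696.result.1

theorem fi22_card : Nat.card PFi22.P.Grp = 64561751654400 := Cfsg.Agent.S1696.result.2

theorem psi_inj : Function.Injective psi := by
  rw [← MonoidHom.ker_eq_bot_iff]
  have hs := fi22_simple
  rcases hs.eq_bot_or_eq_top_of_normal psi.ker inferInstance with h | h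
  · exact h
  · exfalso
    -- then the quotient is trivial, so the subgroup is commutative
    have htriv : ∀ q : Q, q = 1 := by
      intro q
      obtain ⟨x, rfl⟩ := psi_surj q
      have : x ∈ psi.ker := by rw [h]; trivial
      exact this
    have hcen : ∀ y : K, y ∈ Subgroup.center K := by
      intro y
      exact (QuotientGroup.eq_one_iff y).1 (htriv _)
    have := hcen (gK 1)
    rw [Subgroup.mem_center_iff] at this
    exact not_comm (this (gK 0))

/-- the isomorphism -/
noncomputable def iso : Q ≃* PFi22.P.Grp := (MulEquiv.ofBijective psi ⟨psi_inj, psi_surj⟩).symm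

theorem card_center : Nat.card (Subgroup.center K) = 2 := by
  have h1 := Subgroup.card_eq_card_quotient_mul_card_subgroup (Subgroup.center K)
  have h2 : Nat.card Q = 64561751654400 := by
    rw [Nat.card_congr iso.toEquiv]
    exact fi22_card
  rw [card_K, h2] at h1
  omega

/-! ### No complement -/

theorem gK_sq (l : ℕ) (hl : l ∈ gL) : gK l * gK l = 1 := by
  apply Subtype.ext
  rw [Subgroup.coe_mul, gK_coe l hl]
  have hl10 : l ≤ PFi23.P.k := by
    simp only [gL, List.mem_cons, List.not_mem_nil, or_false] at hl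
    show l ≤ 10
    omega
  have := (PFi23.valid.invR_sound l hl10).2
  have hinv : PFi23.P.invR l = l := rfl
  rw [hinv] at this
  show PFi23.P.gR l * PFi23.P.gR l = 1
  nth_rewrite 1 [this]
  exact inv_mul_cancel _

theorem braid (l l' : ℕ) (hl : l ∈ gL) (hl' : l' ∈ gL) (hr : [l, l', l, l', l, l'] ∈ PFi23.P.real) :
    gK l' = (gK l * gK l') * gK l * (gK l * gK l')⁻¹ := by
  have h3 : wordP gK [l, l', l, l', l, l'] = 1 := by
    apply Subtype.ext
    rw [wordK_coe _ (by
      intro x hx
      simp only [List.mem_cons, List.not_mem_nil, or_false] at hx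
      rcases hx with rfl | rfl | rfl | rfl | rfl | rfl <;> assumption)]
    exact (PFi23.valid.real_sound _ hr).2
  simp only [wordP_cons, wordP_nil, mul_one] at h3
  have ha := gK_sq l hl
  have hb := gK_sq l' hl'
  have ea : (gK l)⁻¹ = gK l := inv_eq_of_mul_eq_one_right ha
  have eb : (gK l')⁻¹ = gK l' := inv_eq_of_mul_eq_one_right hb
  rw [mul_inv_rev, ea, eb]
  -- x y x y x y = 1  →  y = x y x y x
  have : gK l' = gK l * gK l' * gK l * gK l' * gK l := by
    have h4 : gK l * gK l' * gK l * gK l' * gK l * gK l' = 1 := by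
      simpa [mul_assoc] using h3
    calc gK l' = (gK l * gK l' * gK l * gK l' * gK l * gK l') * gK l' := by rw [h4, one_mul]
      _ = gK l * gK l' * gK l * gK l' * gK l * (gK l' * gK l') := by simp only [mul_assoc]
      _ = gK l * gK l' * gK l * gK l' * gK l := by rw [hb, mul_one]
  simpa [mul_assoc] using this

theorem no_complement (L : Subgroup K) : ¬ (Subgroup.center K).IsComplement' L := by
  intro hc
  have hcard := hc.card_mul_card
  rw [card_center, card_K] at hcard
  have hL : Nat.card L = 64561751654400 := by omega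
  have hidx : L.index = 2 := by
    have := L.index_mul_card
    rw [hL, card_K] at this
    omega
  haveI hn : L.Normal := Subgroup.normal_of_index_eq_two hidx
  -- adjacent generators have the same membership
  have hadj : ∀ l l', l ∈ gL → l' ∈ gL → [l, l', l, l', l, l'] ∈ PFi23.P.real → (gK l' ∈ L ↔ gK l ∈ L) := by
    intro l l' hl hl' hr
    rw [braid l l' hl hl' hr]
    constructor
    · intro h
      have := hn.conj_mem _ h (gK l * gK l')⁻¹
      simpa [mul_assoc] using this
    · intro h
      exact hn.conj_mem _ h _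
  have h01 := hadj 0 1 (by decide) (by decide) (by decide +kernel)
  have h12 := hadj 1 2 (by decide) (by decide) (by decide +kernel)
  have h23 := hadj 2 3 (by decide) (by decide) (by decide +kernel)
  have h34 := hadj 3 4 (by decide) (by decide) (by decide +kernel)
  have h45 := hadj 4 5 (by decide) (by decide) (by decide +kernel)
  have h56 := hadj 5 6 (by decide) (by decide) (by decide +kernel)
  have h38 := hadj 3 8 (by decide) (by decide) (by decide +kernel)
  have h89 := hadj 8 9 (by decide) (by decide) (by decide +kernel)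
  -- the relator (abcdefh)^9
  have hrel : wordP gK (List.replicate 9 [0, 1, 2, 3, 4, 5, 8]).flatten = 1 := by
    apply Subtype.ext
    rw [wordK_coe _ (by decide)]
    exact (PFi23.valid.real_sound _ (by decide +kernel)).2
  rw [wordP_replicate_flatten] at hrel
  simp only [wordP_cons, wordP_nil, mul_one] at hrel
  have hall : gK 0 ∈ L := by
    by_contra h0
    have n1 : gK 1 ∉ L := fun h => h0 (h01.1 h)
    have n2 : gK 2 ∉ L := fun h => n1 (h12.1 h)
    have n3 : gK 3 ∉ L := fun h => n2 (h23.1 h)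
    have n4 : gK 4 ∉ L := fun h => n3 (h34.1 h)
    have n5 : gK 5 ∉ L := fun h => n4 (h45.1 h)
    have n8 : gK 8 ∉ L := fun h => n3 (h38.1 h)
    have m := fun a b => Subgroup.mul_mem_iff_of_index_two hidx (a := a) (b := b)
    have u2 : gK 5 * gK 8 ∈ L := (m _ _).2 ⟨fun h => absurd h n5, fun h => absurd h n8⟩
    have u3 : gK 4 * (gK 5 * gK 8) ∉ L := fun h => n4 (((m _ _).1 h).2 u2)
    have u4 : gK 3 * (gK 4 * (gK 5 * gK 8)) ∈ L := (m _ _).2 ⟨fun h => absurd h n3, fun h => absurd h u3⟩
    have u5 : gK 2 * (gK 3 * (gK 4 * (gK 5 * gK 8))) ∉ L := fun h => n2 (((m _ _).1 h).2 u4)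
    have u6 : gK 1 * (gK 2 * (gK 3 * (gK 4 * (gK 5 * gK 8)))) ∈ L :=
      (m _ _).2 ⟨fun h => absurd h n1, fun h => absurd h u5⟩
    have u7 : gK 0 * (gK 1 * (gK 2 * (gK 3 * (gK 4 * (gK 5 * gK 8))))) ∉ L :=
      fun h => h0 (((m _ _).1 h).2 u6)
    set u := gK 0 * (gK 1 * (gK 2 * (gK 3 * (gK 4 * (gK 5 * gK 8))))) with hu
    have usq : u * u ∈ L := (m _ _).2 ⟨fun h => absurd h u7, fun h => absurd h u7⟩
    have u8 : u ^ 8 ∈ L := by
      have : u ^ 8 = (u * u) * (u * u) * ((u * u) * (u * u)) := by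
        simp only [pow_succ, pow_zero, one_mul, mul_assoc]
      rw [this]
      exact mul_mem (mul_mem usq usq) (mul_mem usq usq)
    have u9 : u ^ 9 ∉ L := by
      rw [pow_succ]
      intro h
      exact u7 (((m _ _).1 h).1 u8)
    apply u9
    rw [hrel]
    exact one_mem _
  have hgens : ∀ l ∈ gL, gK l ∈ L := by
    have g1 := h01.2 hall
    have g2 := h12.2 g1
    have g3 := h23.2 g2
    have g4 := h34.2 g3
    have g5 := h45.2 g4
    have g6 := h56.2 g5
    have g8 := h38.2 g3
    have g9 := h89.2 g8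
    intro l hl
    simp only [gL, List.mem_cons, List.not_mem_nil, or_false] at hl
    rcases hl with rfl | rfl | rfl | rfl | rfl | rfl | rfl | rfl | rfl <;> assumption
  have htop : L = ⊤ := by
    rw [eq_top_iff, ← gK_closure, Subgroup.closure_le]
    rintro _ ⟨l, hl, rfl⟩
    exact hgens l hl
  rw [htop, Subgroup.index_top] at hidx
  omega

/-- The subgroup generated by `a, …, i` is a non-split double cover of the presented Fi₂₂. -/
theorem main : Cfsg.IsNonsplitDoubleCover K PFi22.P.Grp :=
  ⟨card_center, ⟨iso⟩, no_complement⟩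

end Cfsg.Agent.Lib.Helper4.Fi23Cover
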