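import Cfsg.Agent.Lib.Helper4.TCD_Fi23Z_Fin

namespace Cfsg.Agent.Lib.Helper4.TCD.Fi23T

open Cfsg.Agent.Lib.Helper4.TC Cfsg.Agent.Lib.Helper4.TCD.Fi23a Cfsg.Agent.Lib.Helper4.TCD.Fi23Z

set_option maxRecDepth 100000
set_option Elab.async false

def g1 : List Nat := [7, 6, 5, 4, 3, 8, 2, 3, 4, 5, 6, 7]
def g2 : List Nat := [7]
noncomputable def actG1 (i : Nat) : Nat := col7 (col6 (col5 (col4 (col3 (col8 (col2 (col3 (col4 (col5 (col6 (col7 (i))))))))))))
noncomputable def actG1r (i : Nat) : Nat := col7 (col6 (col5 (col4 (col3 (col2 (col8 (col3 (col4 (col5 (col6 (col7 (i))))))))))))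
theorem actG1_eq (i : Nat) : actG1 i = Tab.act T D g1 i := rfl
theorem actG1r_eq (i : Nat) : actG1r i = Tab.act T D g1.reverse i := rfl
noncomputable def ze1 (i : Nat) : Nat := ztab (actG1 (ztab (actG1r i)))
noncomputable def ze2 (i : Nat) : Nat := ztab (col7 (ztab (col7 i)))
theorem c_zz_0 : allRange (fun i => Nat.beq (ztab (ztab i)) i) 0 20000 = true := by decide +kernel
theorem c_zz_1 : allRange (fun i => Nat.beq (ztab (ztab i)) i) 20000 11671 = true := by decide +kernel
theorem h_zz : ∀ i, i < 31671 → ztab (ztab i) = i :=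
  fun i hi => beq_eq ((range_glue (range_of_allRange c_zz_0) (range_of_allRange c_zz_1)) i (Nat.zero_le _) hi)
theorem c_e1_0 : allRange (fun i => Nat.beq (ze1 (ze1 i)) i) 0 1071 = true := by decide +kernel
theorem c_e1_1 : allRange (fun i => Nat.beq (ze1 (ze1 i)) i) 1071 1071 = true := by decide +kernel
theorem c_e1_2 : allRange (fun i => Nat.beq (ze1 (ze1 i)) i) 2142 1071 = true := by decide +kernel
theorem c_e1_3 : allRange (fun i => Nat.beq (ze1 (ze1 i)) i) 3213 1071 = true := by decide +kernel
theorem c_e1_4 : allRange (fun i => Nat.beq (ze1 (ze1 i)) i) 4284 1071 = true := by decide +kernel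
theorem c_e1_5 : allRange (fun i => Nat.beq (ze1 (ze1 i)) i) 5355 1071 = true := by decide +kernel
theorem c_e1_6 : allRange (fun i => Nat.beq (ze1 (ze1 i)) i) 6426 1071 = true := by decide +kernel
theorem c_e1_7 : allRange (fun i => Nat.beq (ze1 (ze1 i)) i) 7497 1071 = true := by decide +kernel
theorem c_e1_8 : allRange (fun i => Nat.beq (ze1 (ze1 i)) i) 8568 1071 = true := by decide +kernel
theorem c_e1_9 : allRange (fun i => Nat.beq (ze1 (ze1 i)) i) 9639 1071 = true := by decide +kernel
theorem c_e1_10 : allRange (fun i => Nat.beq (ze1 (ze1 i)) i) 10710 1071 = true := by decide +kernel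
theorem c_e1_11 : allRange (fun i => Nat.beq (ze1 (ze1 i)) i) 11781 1071 = true := by decide +kernel
theorem c_e1_12 : allRange (fun i => Nat.beq (ze1 (ze1 i)) i) 12852 1071 = true := by decide +kernel
theorem c_e1_13 : allRange (fun i => Nat.beq (ze1 (ze1 i)) i) 13923 1071 = true := by decide +kernel
theorem c_e1_14 : allRange (fun i => Nat.beq (ze1 (ze1 i)) i) 14994 1071 = true := by decide +kernel
theorem c_e1_15 : allRange (fun i => Nat.beq (ze1 (ze1 i)) i) 16065 1071 = true := by decide +kernel
theorem c_e1_16 : allRange (fun i => Nat.beq (ze1 (ze1 i)) i) 17136 1071 = true := by decide +kernel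
theorem c_e1_17 : allRange (fun i => Nat.beq (ze1 (ze1 i)) i) 18207 1071 = true := by decide +kernel
theorem c_e1_18 : allRange (fun i => Nat.beq (ze1 (ze1 i)) i) 19278 1071 = true := by decide +kernel
theorem c_e1_19 : allRange (fun i => Nat.beq (ze1 (ze1 i)) i) 20349 1071 = true := by decide +kernel
theorem c_e1_20 : allRange (fun i => Nat.beq (ze1 (ze1 i)) i) 21420 1071 = true := by decide +kernel
theorem c_e1_21 : allRange (fun i => Nat.beq (ze1 (ze1 i)) i) 22491 1071 = true := by decide +kernel
theorem c_e1_22 : allRange (fun i => Nat.beq (ze1 (ze1 i)) i) 23562 1071 = true := by decide +kernel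
theorem c_e1_23 : allRange (fun i => Nat.beq (ze1 (ze1 i)) i) 24633 1071 = true := by decide +kernel
theorem c_e1_24 : allRange (fun i => Nat.beq (ze1 (ze1 i)) i) 25704 1071 = true := by decide +kernel
theorem c_e1_25 : allRange (fun i => Nat.beq (ze1 (ze1 i)) i) 26775 1071 = true := by decide +kernel
theorem c_e1_26 : allRange (fun i => Nat.beq (ze1 (ze1 i)) i) 27846 1071 = true := by decide +kernel
theorem c_e1_27 : allRange (fun i => Nat.beq (ze1 (ze1 i)) i) 28917 1071 = true := by decide +kernel
theorem c_e1_28 : allRange (fun i => Nat.beq (ze1 (ze1 i)) i) 29988 1071 = true := by decide +kernel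
theorem c_e1_29 : allRange (fun i => Nat.beq (ze1 (ze1 i)) i) 31059 612 = true := by decide +kernel
theorem h_e1 : ∀ i, i < 31671 → ze1 (ze1 i) = i :=
  fun i hi => beq_eq ((range_glue (range_of_allRange c_e1_0) (range_glue (range_of_allRange c_e1_1) (range_glue (range_of_allRange c_e1_2) (range_glue (range_of_allRange c_e1_3) (range_glue (range_of_allRange c_e1_4) (range_glue (range_of_allRange c_e1_5) (range_glue (range_of_allRange c_e1_6) (range_glue (range_of_allRange c_e1_7) (range_glue (range_of_allRange c_e1_8) (range_glue (range_of_allRange c_e1_9) (range_glue (range_of_allRange c_e1_10) (range_glue (range_of_allRange c_e1_11) (range_glue (range_of_allRange c_e1_12) (range_glue (range_of_allRange c_e1_13) (range_glue (range_of_allRange c_e1_14) (range_glue (range_of_allRange c_e1_15) (range_glue (range_of_allRange c_e1_16) (range_glue (range_of_allRange c_e1_17) (range_glue (range_of_allRange c_e1_18) (range_glue (range_of_allRange c_e1_19) (range_glue (range_of_allRange c_e1_20) (range_glue (range_of_allRange c_e1_21)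 (range_glue (range_of_allRange c_e1_22) (range_glue (range_of_allRange c_e1_23) (range_glue (range_of_allRange c_e1_24) (range_glue (range_of_allRange c_e1_25) (range_glue (range_of_allRange c_e1_26) (range_glue (range_of_allRange c_e1_27) (range_glue (range_of_allRange c_e1_28) (range_of_allRange c_e1_29)))))))))))))))))))))))))))))) i (Nat.zero_le _) hi)
theorem c_e2_0 : allRange (fun i => Nat.beq (ze2 (ze2 (ze2 i))) i) 0 4285 = true := by decide +kernel
theorem c_e2_1 : allRange (fun i => Nat.beq (ze2 (ze2 (ze2 i))) i) 4285 4285 = true := by decide +kernel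
theorem c_e2_2 : allRange (fun i => Nat.beq (ze2 (ze2 (ze2 i))) i) 8570 4285 = true := by decide +kernel
theorem c_e2_3 : allRange (fun i => Nat.beq (ze2 (ze2 (ze2 i))) i) 12855 4285 = true := by decide +kernel
theorem c_e2_4 : allRange (fun i => Nat.beq (ze2 (ze2 (ze2 i))) i) 17140 4285 = true := by decide +kernel
theorem c_e2_5 : allRange (fun i => Nat.beq (ze2 (ze2 (ze2 i))) i) 21425 4285 = true := by decide +kernel
theorem c_e2_6 : allRange (fun i => Nat.beq (ze2 (ze2 (ze2 i))) i) 25710 4285 = true := by decide +kernel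
theorem c_e2_7 : allRange (fun i => Nat.beq (ze2 (ze2 (ze2 i))) i) 29995 1676 = true := by decide +kernel
theorem h_e2 : ∀ i, i < 31671 → ze2 (ze2 (ze2 i)) = i :=
  fun i hi => beq_eq ((range_glue (range_of_allRange c_e2_0) (range_glue (range_of_allRange c_e2_1) (range_glue (range_of_allRange c_e2_2) (range_glue (range_of_allRange c_e2_3) (range_glue (range_of_allRange c_e2_4) (range_glue (range_of_allRange c_e2_5) (range_glue (range_of_allRange c_e2_6) (range_of_allRange c_e2_7)))))))) i (Nat.zero_le _) hi)
theorem h_mv : ztab 3511 ≠ 3511 := by decide +kernel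
theorem h_g1 : Tab.act T D g1 0 = 1 := by decide +kernel
theorem h_g2 : Tab.act T D g2 0 = 3511 := by decide +kernel

end Cfsg.Agent.Lib.Helper4.TCD.Fi23T
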