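import Mathlib
import Cfsg.Agent.Lib.Helper4.Fi23Cover
import Cfsg.Agent.Lib.Helper4.TCD_Fi23T_Fin

/-!
The presented Fischer group Fi₂₃ as a 3-transposition group: the class of the central involution `z` of
the subgroup `K = ⟨a, …, i⟩` has 31671 elements, any two of which have a product of order at most 3, and
the centraliser of each is a non-split double cover of the presented Fi₂₂.
-/

namespace Cfsg.Agent.Lib.Helper4.Fi23Trans

open Cfsg.Agent.Lib.Helper4.TC Cfsg.Agent.Lib.Helper4.TCD Cfsg.Agent.Lib.Helper4.TC.Log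
open Cfsg.Agent.Lib.Helper4.Fi23Cover

/-! ### Transport of double covers along isomorphisms -/

theorem center_map_equiv {A B : Type*} [Group A] [Group B] (e : A ≃* B) :
    (Subgroup.center A).map e.toMonoidHom = Subgroup.center B := by
  ext b
  constructor
  · rintro ⟨a, ha, rfl⟩
    have ha' : a ∈ Subgroup.center A := ha
    rw [Subgroup.mem_center_iff] at ha' ⊢
    intro y
    obtain ⟨x, rfl⟩ := e.surjective y
    show e x * e a = e a * e x
    rw [← map_mul, ← map_mul, ha' x]
  · intro hb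
    have hsym : e.symm b ∈ Subgroup.center A := by
      rw [Subgroup.mem_center_iff] at hb ⊢
      intro x
      apply e.injective
      rw [map_mul, map_mul, e.apply_symm_apply]
      exact hb (e x)
    exact ⟨e.symm b, hsym, by simp⟩

theorem nonsplit_of_equiv {A B X : Type*} [Group A] [Group B] [Group X] [Finite A] (e : A ≃* B)
    (h : Cfsg.IsNonsplitDoubleCover A X) : Cfsg.IsNonsplitDoubleCover B X := by
  obtain ⟨h1, ⟨i⟩, h3⟩ := h
  have hc := center_map_equiv e
  refine ⟨?_, ?_, ?_⟩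
  · rw [← hc]
    rw [← h1]
    exact (Nat.card_congr (e.subgroupMap (Subgroup.center A)).toEquiv).symm
  · have q : A ⧸ Subgroup.center A ≃* B ⧸ Subgroup.center B :=
      QuotientGroup.congr (Subgroup.center A) (Subgroup.center B) e hc
    exact ⟨q.symm.trans i⟩
  · intro L hL
    have hfB : Finite B := Finite.of_equiv A e.toEquiv
    apply h3 (L.map e.symm.toMonoidHom)
    rw [Subgroup.isComplement'_iff_card_mul_and_disjoint] at hL ⊢
    obtain ⟨c1, c2⟩ := hL
    refine ⟨?_, ?_⟩
    · have e1 : Nat.card (L.map e.symm.toMonoidHom) = Nat.card L :=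
        (Nat.card_congr (e.symm.subgroupMap L).toEquiv).symm
      have e2 : Nat.card (Subgroup.center A) = Nat.card (Subgroup.center B) := by
        rw [← hc]
        exact Nat.card_congr (e.subgroupMap (Subgroup.center A)).toEquiv
      rw [e1, e2, c1]
      exact (Nat.card_congr e.toEquiv).symm
    · rw [Subgroup.disjoint_def] at c2 ⊢
      intro x hx1 hx2
      obtain ⟨y, hy, rfl⟩ := hx2
      have hy1 : y ∈ Subgroup.center B := by
        rw [← hc]
        exact ⟨e.symm y, hx1, by simp⟩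
      have := c2 hy1 hy
      rw [this]
      simp

/-! ### Primitivity and the centraliser of `z` -/

theorem prim : MulAction.IsPreprimitive G (G ⧸ K) := by
  apply preprimitive_of_intervals K Fi23a.inst.equiv [1, 3510, 28160] Fi23a.inst.hC.hN (by decide) _ _
    (by decide)
  · intro h hh
    rw [Fi23a.inst.smul_equiv, Fi23a.inst.hfix h hh]
  · refine ⟨?_, ?_, ?_, trivial⟩
    · intro j j' _ h2 _ h4
      have e1 : j = j' := Fin.ext (by omega)
      exact ⟨1, one_mem _, by rw [one_smul, e1]⟩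
    · intro j j' h1 h2 h3 h4
      exact Fi23a.inst.trans_of_orbit_eq 1 3511 (by decide) (by decide)
        (Fi23a.inst.orbit_eq Fi23a.oparTab Fi23a.olabTab 1 3511 (by decide) (by decide) Fi23a.orb_inv_0
          Fi23a.orb_tree_0) j j' (by omega) (by omega) (by omega) (by omega)
    · intro j j' h1 h2 h3 h4
      exact Fi23a.inst.trans_of_orbit_eq 3511 31671 (by decide) (by decide)
        (Fi23a.inst.orbit_eq Fi23a.oparTab Fi23a.olabTab 3511 31671 (by decide) (by decide) Fi23a.orb_inv_1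
          Fi23a.orb_tree_1) j j' (by omega) (by omega) (by omega) (by omega)

theorem K_index : (K : Subgroup G).index = 31671 := Fi23a.index_eq

theorem K_coatom : IsCoatom K := by
  haveI := prim
  haveI : Nontrivial (G ⧸ K) := by
    rw [← Finite.one_lt_card_iff_nontrivial]
    have : Nat.card (G ⧸ K) = 31671 := K_index
    omega
  have h := MulAction.IsPreprimitive.isCoatom_stabilizer_of_isPreprimitive (G := G) (X := G ⧸ K)
    ((1 : G) : G ⧸ K)
  rwa [MulAction.stabilizer_quotient] at h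

theorem g23_simple : IsSimpleGroup G := Cfsg.Agent.S1697.result.1

theorem z_ne_one : z ≠ 1 := by
  intro h
  have h1 := φ_z ⟨3511, by decide⟩
  rw [h, map_one] at h1
  exact Fi23T.h_mv h1.symm

theorem z_sq : z * z = 1 := by
  apply φ_inj
  rw [map_mul, map_one]
  ext p
  rw [Equiv.Perm.mul_apply, φ_z, φ_z]
  exact Fi23T.h_zz p.1 p.2

theorem z_inv : z⁻¹ = z := inv_eq_of_mul_eq_one_right z_sq

theorem orderOf_z : orderOf z = 2 := orderOf_eq_prime (by rw [pow_two]; exact z_sq) z_ne_one

theorem not_comm_G : PFi23.P.gR 0 * PFi23.P.gR 1 ≠ PFi23.P.gR 1 * PFi23.P.gR 0 := by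
  intro h
  apply not_comm
  apply Subtype.ext
  rw [Subgroup.coe_mul, Subgroup.coe_mul, gK_coe 0 (by decide), gK_coe 1 (by decide)]
  exact h

theorem centralizer_z : Subgroup.centralizer {z} = K := by
  have hle : K ≤ Subgroup.centralizer {z} := by
    intro y hy
    rw [Subgroup.mem_centralizer_iff]
    intro w hw
    rw [Set.mem_singleton_iff] at hw
    rw [hw]
    exact z_comm_K y hy
  rcases eq_or_lt_of_le hle with h | h
  · exact h.symm
  · exfalso
    have htop := K_coatom.2 _ h
    -- then `z` is central in a simple non-commutative group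
    have hz : z ∈ Subgroup.center G := by
      rw [Subgroup.mem_center_iff]
      intro y
      have : y ∈ Subgroup.centralizer {z} := by rw [htop]; trivial
      rw [Subgroup.mem_centralizer_iff] at this
      exact (this z rfl).symm
    have hs := g23_simple
    rcases hs.eq_bot_or_eq_top_of_normal (Subgroup.center G) inferInstance with hc | hc
    · rw [hc, Subgroup.mem_bot] at hz
      exact z_ne_one hz
    · have : PFi23.P.gR 1 ∈ Subgroup.center G := by rw [hc]; trivial
      rw [Subgroup.mem_center_iff] at this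
      exact not_comm_G (this (PFi23.P.gR 0))

/-! ### The three suborbit representatives -/

theorem gR_inv (l : ℕ) (hl : l < 10) : (PFi23.P.gR l)⁻¹ = PFi23.P.gR l := by
  have := (PFi23.valid.invR_sound l (show l ≤ PFi23.P.k from le_of_lt hl)).2
  have hinv : PFi23.P.invR l = l := rfl
  rw [hinv] at this
  exact this.symm

theorem word_inv (u : List ℕ) (hu : ∀ x ∈ u, x < 10) :
    (wordP PFi23.P.gR u)⁻¹ = wordP PFi23.P.gR u.reverse := by
  induction u with
  | nil => simp
  | cons x u ih =>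
    rw [wordP_cons, mul_inv_rev, ih fun y hy => hu y (List.mem_cons_of_mem _ hy),
      gR_inv x (hu x List.mem_cons_self), List.reverse_cons, wordP_append, wordP_cons, wordP_nil, mul_one]

noncomputable def G1 : G := wordP PFi23.P.gR Fi23T.g1
noncomputable def G2 : G := wordP PFi23.P.gR Fi23T.g2
noncomputable def e1 : G := G1 * z * G1⁻¹
noncomputable def e2 : G := G2 * z * G2⁻¹

theorem φ_ze1 (p : Fin Fi23a.T.N) : (φ (z * e1) p).1 = Fi23T.ze1 p.1 := by
  rw [e1, G1, word_inv _ (by decide), map_mul, map_mul, map_mul, Equiv.Perm.mul_apply, Equiv.Perm.mul_apply,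
    Equiv.Perm.mul_apply, φ_z, φ_word _ (by decide), φ_z, φ_word _ (by decide)]
  rfl

theorem φ_ze2 (p : Fin Fi23a.T.N) : (φ (z * e2) p).1 = Fi23T.ze2 p.1 := by
  rw [e2, G2, word_inv _ (by decide), map_mul, map_mul, map_mul, Equiv.Perm.mul_apply, Equiv.Perm.mul_apply,
    Equiv.Perm.mul_apply, φ_z, φ_word _ (by decide), φ_z, φ_word _ (by decide)]
  rfl

theorem ze1_sq : (z * e1) ^ 2 = 1 := by
  apply φ_inj
  rw [map_pow, map_one, pow_two]
  ext p
  rw [Equiv.Perm.mul_apply, φ_ze1, φ_ze1]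
  exact Fi23T.h_e1 p.1 p.2

theorem ze2_cube : (z * e2) ^ 3 = 1 := by
  apply φ_inj
  rw [map_pow, map_one, pow_succ, pow_two]
  ext p
  rw [Equiv.Perm.mul_apply, Equiv.Perm.mul_apply, φ_ze2, φ_ze2, φ_ze2]
  exact Fi23T.h_e2 p.1 p.2

/-- the coset of `g` corresponds to the image of the base point -/
theorem mk_eq_equiv (g : G) :
    (QuotientGroup.mk g : G ⧸ K) = Fi23a.inst.equiv (φ g ⟨0, Fi23a.inst.hC.hN⟩) := by
  have h0 : Fi23a.inst.equiv ⟨0, Fi23a.inst.hC.hN⟩ = (QuotientGroup.mk (1 : G) : G ⧸ K) := by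
    show cosetEquiv _ _ _ _ _ _ _ _ = _
    rw [cosetEquiv_apply, Tab.repG]
    have : Fi23a.T.nameOf 0 = 0 := Fi23a.inst.hC.hname0
    rw [this, Log.V_zero, inv_one]
    rfl
  have := Fi23a.inst.smul_equiv g ⟨0, Fi23a.inst.hC.hN⟩
  rw [h0] at this
  show _ = Fi23a.inst.equiv (Fi23a.inst.phi g ⟨0, Fi23a.inst.hC.hN⟩)
  rw [← this]
  show _ = (QuotientGroup.mk (g * 1) : G ⧸ K)
  rw [mul_one]

/-- every conjugate of `z` is conjugate under `K` to `z`, `e1` or `e2` -/
theorem conj_cases (g : G) : ∃ k ∈ K, k * (g * z * g⁻¹) * k⁻¹ = z ∨ k * (g * z * g⁻¹) * k⁻¹ = e1 ∨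
    k * (g * z * g⁻¹) * k⁻¹ = e2 := by
  -- a general step: if `k g` and `g'` lie in the same coset, then `k` conjugates `g z g⁻¹` to `g' z g'⁻¹`
  have step : ∀ (k g' : G), k ∈ K → (QuotientGroup.mk (k * g) : G ⧸ K) = QuotientGroup.mk g' →
      k * (g * z * g⁻¹) * k⁻¹ = g' * z * g'⁻¹ := by
    intro k g' _ h
    have hk' : (k * g)⁻¹ * g' ∈ K := QuotientGroup.eq.1 h
    set k' := (k * g)⁻¹ * g' with hk'def
    have hg' : g' = k * g * k' := by rw [hk'def]; group
    have hc := z_comm_K k' hk'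
    rw [hg']
    have : k * g * k' * z * (k * g * k')⁻¹ = k * g * (k' * z * k'⁻¹) * g⁻¹ * k⁻¹ := by group
    rw [this]
    have : k' * z * k'⁻¹ = z := by rw [← hc, mul_inv_cancel_right]
    rw [this]
    group
  set j := φ g ⟨0, Fi23a.inst.hC.hN⟩ with hj
  have hjN : j.1 < 31671 := j.2
  have hmk : ∀ k : G, (QuotientGroup.mk (k * g) : G ⧸ K) = k • Fi23a.inst.equiv j := by
    intro k
    rw [hj, ← mk_eq_equiv]
    rfl
  rcases Nat.lt_or_ge j.1 1 with h0 | h0
  · -- the trivial coset
    refine ⟨1, one_mem _, Or.inl ?_⟩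
    have hj0 : j = ⟨0, Fi23a.inst.hC.hN⟩ := Fin.ext (show j.1 = 0 by omega)
    have := step 1 1 (one_mem _) (by
      rw [hmk 1, one_smul, hj0]
      have := mk_eq_equiv 1
      rw [map_one] at this
      exact this.symm)
    rw [this]
    group
  rcases Nat.lt_or_ge j.1 3511 with h1 | h1
  · -- the first suborbit
    have hj1 : (φ G1 ⟨0, Fi23a.inst.hC.hN⟩).1 = 1 := by
      rw [G1, φ_word _ (by decide)]
      exact Fi23T.h_g1
    obtain ⟨k, hk, hke⟩ := Fi23a.inst.trans_of_orbit_eq 1 3511 (by decide) (by decide)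
      (Fi23a.inst.orbit_eq Fi23a.oparTab Fi23a.olabTab 1 3511 (by decide) (by decide) Fi23a.orb_inv_0
        Fi23a.orb_tree_0) j (φ G1 ⟨0, Fi23a.inst.hC.hN⟩) h0 h1 (by omega) (by omega)
    refine ⟨k, hk, Or.inr (Or.inl ?_)⟩
    rw [e1]
    apply step k G1 hk
    rw [hmk k, hke, ← mk_eq_equiv]
  · -- the second suborbit
    have hj2 : (φ G2 ⟨0, Fi23a.inst.hC.hN⟩).1 = 3511 := by
      rw [G2, φ_word _ (by decide)]
      exact Fi23T.h_g2
    obtain ⟨k, hk, hke⟩ := Fi23a.inst.trans_of_orbit_eq 3511 31671 (by decide) (by decide)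
      (Fi23a.inst.orbit_eq Fi23a.oparTab Fi23a.olabTab 3511 31671 (by decide) (by decide) Fi23a.orb_inv_1
        Fi23a.orb_tree_1) j (φ G2 ⟨0, Fi23a.inst.hC.hN⟩) h1 hjN (by omega) (by omega)
    refine ⟨k, hk, Or.inr (Or.inr ?_)⟩
    rw [e2]
    apply step k G2 hk
    rw [hmk k, hke, ← mk_eq_equiv]

/-- products of `z` with its conjugates -/
theorem z_conj_pow (g : G) : (z * (g * z * g⁻¹)) ^ 2 = 1 ∨ (z * (g * z * g⁻¹)) ^ 3 = 1 := by
  obtain ⟨k, hk, hcase⟩ := conj_cases g
  have hkz : k * z * k⁻¹ = z := by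
    have := z_comm_K k hk
    rw [← this, mul_inv_cancel_right]
  -- `k (z * y) k⁻¹ = z * (k y k⁻¹)`
  have hconj : ∀ y : G, k * (z * y) * k⁻¹ = z * (k * y * k⁻¹) := by
    intro y
    calc k * (z * y) * k⁻¹ = (k * z * k⁻¹) * (k * y * k⁻¹) := by group
      _ = z * (k * y * k⁻¹) := by rw [hkz]
  have hpow : ∀ n : ℕ, (z * (k * (g * z * g⁻¹) * k⁻¹)) ^ n = 1 → (z * (g * z * g⁻¹)) ^ n = 1 := by
    intro n hn
    rw [← hconj, conj_pow] at hn
    have : (z * (g * z * g⁻¹)) ^ n = k⁻¹ * (k * (z * (g * z * g⁻¹)) ^ n * k⁻¹) * k := by group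
    rw [this, hn]
    group
  rcases hcase with h | h | h
  · left
    apply hpow
    rw [h, z_sq, one_pow]
  · left
    apply hpow
    rw [h]
    exact ze1_sq
  · right
    apply hpow
    rw [h]
    exact ze2_cube

/-- the class of 3-transpositions -/
def Dz : Set G := conjugatesOf z

theorem mem_Dz (d : G) : d ∈ Dz ↔ ∃ c : G, c * z * c⁻¹ = d := by
  show IsConj z d ↔ _
  exact isConj_iff

theorem three_transposition_set : Cfsg.IsThreeTranspositionSet Dz := by
  refine ⟨?_, ?_⟩
  · intro d hd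
    obtain ⟨c, rfl⟩ := (mem_Dz d).1 hd
    have : c * z * c⁻¹ = MulAut.conj c z := rfl
    rw [this, MulEquiv.orderOf_eq]
    exact orderOf_z
  · intro d hd e he
    obtain ⟨c, rfl⟩ := (mem_Dz d).1 hd
    obtain ⟨c', rfl⟩ := (mem_Dz e).1 he
    have key : c * z * c⁻¹ * (c' * z * c'⁻¹) = c * (z * ((c⁻¹ * c') * z * (c⁻¹ * c')⁻¹)) * c⁻¹ := by group
    rw [key, conj_pow, conj_pow]
    rcases z_conj_pow (c⁻¹ * c') with h | h
    · left; rw [h]; group
    · right; rw [h]; group

theorem closure_Dz : Subgroup.closure Dz = ⊤ := by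
  have hn : (Subgroup.closure Dz).Normal := by
    have : Subgroup.closure Dz = Subgroup.normalClosure {z} := by
      rw [Subgroup.normalClosure]
      congr 1
      ext d
      rw [Group.mem_conjugatesOfSet_iff]
      constructor
      · intro hd
        exact ⟨z, rfl, hd⟩
      · rintro ⟨a, ha, hd⟩
        rw [Set.mem_singleton_iff] at ha
        rw [ha] at hd
        exact hd
    rw [this]
    exact Subgroup.normalClosure_normal
  have hs := g23_simple
  rcases hs.eq_bot_or_eq_top_of_normal _ hn with h | h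
  · exfalso
    have : z ∈ Subgroup.closure Dz := Subgroup.subset_closure mem_conjugatesOf_self
    rw [h, Subgroup.mem_bot] at this
    exact z_ne_one this
  · exact h

theorem three_transposition_class : Cfsg.IsThreeTranspositionClass Dz :=
  ⟨three_transposition_set, ⟨z, mem_conjugatesOf_self, rfl⟩, closure_Dz⟩

/-! ### The size of the class -/

theorem card_Dz : Nat.card Dz = 31671 := by
  have hwd : ∀ a b : G, (QuotientGroup.leftRel K) a b → a * z * a⁻¹ = b * z * b⁻¹ := by
    intro a b hab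
    have hk : a⁻¹ * b ∈ K := QuotientGroup.leftRel_apply.1 hab
    have hc := z_comm_K _ hk
    have : b = a * (a⁻¹ * b) := by group
    rw [this]
    have : a * (a⁻¹ * b) * z * (a * (a⁻¹ * b))⁻¹ = a * ((a⁻¹ * b) * z * (a⁻¹ * b)⁻¹) * a⁻¹ := by group
    rw [this, ← hc, mul_inv_cancel_right]
  let F : G ⧸ K → Dz := fun q => Quotient.liftOn' q (fun a => (⟨a * z * a⁻¹, (mem_Dz _).2 ⟨a, rfl⟩⟩ : Dz))
    (fun a b hab => Subtype.ext (hwd a b hab))
  have hF : Function.Bijective F := by
    constructor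
    · intro q q' h
      induction q using QuotientGroup.induction_on with
      | H a =>
        induction q' using QuotientGroup.induction_on with
        | H b =>
          have h1 : a * z * a⁻¹ = b * z * b⁻¹ := congrArg Subtype.val h
          apply QuotientGroup.eq.2
          rw [← centralizer_z, Subgroup.mem_centralizer_iff]
          intro w hw
          rw [Set.mem_singleton_iff] at hw
          rw [hw]
          have : z = a⁻¹ * (b * z * b⁻¹) * a := by rw [← h1]; group
          calc z * (a⁻¹ * b) = a⁻¹ * (b * z * b⁻¹) * a * (a⁻¹ * b) := by rw [← this]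
            _ = a⁻¹ * b * z := by group
    · rintro ⟨d, hd⟩
      obtain ⟨c, rfl⟩ := (mem_Dz d).1 hd
      exact ⟨QuotientGroup.mk c, rfl⟩
  rw [← Nat.card_congr (Equiv.ofBijective F hF)]
  exact K_index

/-! ### The centralisers -/

/-- the centraliser of a conjugate of `z` is isomorphic to `K` -/
noncomputable def centEquiv (c : G) : K ≃* Subgroup.centralizer ({c * z * c⁻¹} : Set G) where
  toFun k := ⟨c * k.1 * c⁻¹, by
    rw [Subgroup.mem_centralizer_iff]
    intro w hw
    rw [Set.mem_singleton_iff] at hw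
    rw [hw]
    have hc := z_comm_K k.1 k.2
    calc c * z * c⁻¹ * (c * k.1 * c⁻¹) = c * (z * k.1) * c⁻¹ := by group
      _ = c * (k.1 * z) * c⁻¹ := by rw [hc]
      _ = c * k.1 * c⁻¹ * (c * z * c⁻¹) := by group⟩
  invFun y := ⟨c⁻¹ * y.1 * c, by
    rw [← centralizer_z, Subgroup.mem_centralizer_iff]
    intro w hw
    rw [Set.mem_singleton_iff] at hw
    rw [hw]
    have hy := y.2
    rw [Subgroup.mem_centralizer_iff] at hy
    have h1 := hy (c * z * c⁻¹) rfl
    calc z * (c⁻¹ * y.1 * c) = c⁻¹ * (c * z * c⁻¹ * y.1) * c := by group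
      _ = c⁻¹ * (y.1 * (c * z * c⁻¹)) * c := by rw [h1]
      _ = c⁻¹ * y.1 * c * z := by group⟩
  left_inv k := by
    apply Subtype.ext
    show c⁻¹ * (c * k.1 * c⁻¹) * c = k.1
    group
  right_inv y := by
    apply Subtype.ext
    show c * (c⁻¹ * y.1 * c) * c⁻¹ = y.1
    group
  map_mul' k k' := by
    apply Subtype.ext
    show c * (k.1 * k'.1) * c⁻¹ = c * k.1 * c⁻¹ * (c * k'.1 * c⁻¹)
    group

theorem centralizer_cover (d : G) (hd : d ∈ Dz) :
    Cfsg.IsNonsplitDoubleCover (Subgroup.centralizer ({d} : Set G)) PFi22.P.Grp := by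
  obtain ⟨c, rfl⟩ := (mem_Dz d).1 hd
  exact nonsplit_of_equiv (centEquiv c) Fi23Cover.main

end Cfsg.Agent.Lib.Helper4.Fi23Trans
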