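import Cfsg.Agent.Lib.Helper4.TCD_Fi24QL_Acc

namespace Cfsg.Agent.Lib.Helper4.TCD.Fi24QL

open Cfsg.Agent.Lib.Helper4.TC Cfsg.Agent.Lib.Helper4.TCD.Fi24Qa

set_option maxRecDepth 100000
set_option Elab.async false

theorem c_p16_1 : allRange chk16 10000 10000 = true := by decide +kernel
theorem c_p16_2 : allRange chk16 20000 8431 = true := by decide +kernel
theorem c_p17_0 : allRange chk17 0 3157 = true := by decide +kernel
theorem c_p17_1 : allRange chk17 3157 3157 = true := by decide +kernel
theorem c_p17_2 : allRange chk17 6314 3157 = true := by decide +kernel
theorem c_p17_3 : allRange chk17 9471 3157 = true := by decide +kernel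
theorem c_p17_4 : allRange chk17 12628 3157 = true := by decide +kernel
theorem c_p17_5 : allRange chk17 15785 3157 = true := by decide +kernel
theorem c_p17_6 : allRange chk17 18942 3157 = true := by decide +kernel
theorem c_p17_7 : allRange chk17 22099 3157 = true := by decide +kernel
theorem c_p17_8 : allRange chk17 25256 3157 = true := by decide +kernel
theorem c_p17_9 : allRange chk17 28413 18 = true := by decide +kernel
theorem c_p18_0 : allRange chk18 0 2727 = true := by decide +kernel
theorem c_p18_1 : allRange chk18 2727 2727 = true := by decide +kernel
theorem c_p18_2 : allRange chk18 5454 2727 = true := by decide +kernel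
theorem c_p18_3 : allRange chk18 8181 2727 = true := by decide +kernel
theorem c_p18_4 : allRange chk18 10908 2727 = true := by decide +kernel
theorem c_p18_5 : allRange chk18 13635 2727 = true := by decide +kernel
theorem c_p18_6 : allRange chk18 16362 2727 = true := by decide +kernel
theorem c_p18_7 : allRange chk18 19089 2727 = true := by decide +kernel
theorem c_p18_8 : allRange chk18 21816 2727 = true := by decide +kernel
theorem c_p18_9 : allRange chk18 24543 2727 = true := by decide +kernel
theorem c_p18_10 : allRange chk18 27270 1161 = true := by decide +kernel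
theorem c_p19_0 : allRange chk19 0 2857 = true := by decide +kernel
theorem c_p19_1 : allRange chk19 2857 2857 = true := by decide +kernel
theorem c_p19_2 : allRange chk19 5714 2857 = true := by decide +kernel
theorem c_p19_3 : allRange chk19 8571 2857 = true := by decide +kernel
theorem c_p19_4 : allRange chk19 11428 2857 = true := by decide +kernel
theorem c_p19_5 : allRange chk19 14285 2857 = true := by decide +kernel
theorem c_p19_6 : allRange chk19 17142 2857 = true := by decide +kernel
theorem c_p19_7 : allRange chk19 19999 2857 = true := by decide +kernel
theorem c_p19_8 : allRange chk19 22856 2857 = true := by decide +kernel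
theorem c_p19_9 : allRange chk19 25713 2718 = true := by decide +kernel
theorem c_nd0_0 : allRange (S.nodeOK 0) 0 5000 = true := by decide +kernel
theorem c_nd0_1 : allRange (S.nodeOK 0) 5000 5000 = true := by decide +kernel
theorem c_nd0_2 : allRange (S.nodeOK 0) 10000 5000 = true := by decide +kernel
theorem c_nd0_3 : allRange (S.nodeOK 0) 15000 5000 = true := by decide +kernel
theorem c_nd0_4 : allRange (S.nodeOK 0) 20000 5000 = true := by decide +kernel
theorem c_nd0_5 : allRange (S.nodeOK 0) 25000 3431 = true := by decide +kernel
theorem c_nd1_0 : allRange (S.nodeOK 1) 0 960 = true := by decide +kernel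
theorem c_nd2_0 : allRange (S.nodeOK 2) 0 84 = true := by decide +kernel
theorem c_nd3_0 : allRange (S.nodeOK 3) 0 180 = true := by decide +kernel
theorem c_nd4_0 : allRange (S.nodeOK 4) 0 2 = true := by decide +kernel
theorem c_nd5_0 : allRange (S.nodeOK 5) 0 3 = true := by decide +kernel
theorem c_nd6_0 : allRange (S.nodeOK 6) 0 2 = true := by decide +kernel
theorem c_nd7_0 : allRange (S.nodeOK 7) 0 2 = true := by decide +kernel

end Cfsg.Agent.Lib.Helper4.TCD.Fi24QL
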