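import Cfsg.Agent.Lib.Helper4.TCD_Fi24Qa_Acc

namespace Cfsg.Agent.Lib.Helper4.TCD.Fi24Qa

open Cfsg.Agent.Lib.Helper4.TC

set_option maxRecDepth 100000
set_option Elab.async false

theorem c_act21_0 : allRange (fun i => Nat.beq (actR21 i) i) 0 15000 = true := by decide +kernel
theorem c_act21_1 : allRange (fun i => Nat.beq (actR21 i) i) 15000 13431 = true := by decide +kernel
theorem c_act22_0 : allRange (fun i => Nat.beq (actR22 i) i) 0 15000 = true := by decide +kernel
theorem c_act22_1 : allRange (fun i => Nat.beq (actR22 i) i) 15000 13431 = true := by decide +kernel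
theorem c_act23_0 : allRange (fun i => Nat.beq (actR23 i) i) 0 15000 = true := by decide +kernel
theorem c_act23_1 : allRange (fun i => Nat.beq (actR23 i) i) 15000 13431 = true := by decide +kernel
theorem c_act24_0 : allRange (fun i => Nat.beq (actR24 i) i) 0 15000 = true := by decide +kernel
theorem c_act24_1 : allRange (fun i => Nat.beq (actR24 i) i) 15000 13431 = true := by decide +kernel
theorem c_act25_0 : allRange (fun i => Nat.beq (actR25 i) i) 0 15000 = true := by decide +kernel
theorem c_act25_1 : allRange (fun i => Nat.beq (actR25 i) i) 15000 13431 = true := by decide +kernel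
theorem c_act26_0 : allRange (fun i => Nat.beq (actR26 i) i) 0 15000 = true := by decide +kernel
theorem c_act26_1 : allRange (fun i => Nat.beq (actR26 i) i) 15000 13431 = true := by decide +kernel
theorem c_act27_0 : allRange (fun i => Nat.beq (actR27 i) i) 0 28431 = true := by decide +kernel
theorem c_act28_0 : allRange (fun i => Nat.beq (actR28 i) i) 0 10000 = true := by decide +kernel
theorem c_act28_1 : allRange (fun i => Nat.beq (actR28 i) i) 10000 10000 = true := by decide +kernel
theorem c_act28_2 : allRange (fun i => Nat.beq (actR28 i) i) 20000 8431 = true := by decide +kernel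
theorem c_act29_0 : allRange (fun i => Nat.beq (actR29 i) i) 0 15000 = true := by decide +kernel
theorem c_act29_1 : allRange (fun i => Nat.beq (actR29 i) i) 15000 13431 = true := by decide +kernel
theorem c_act30_0 : allRange (fun i => Nat.beq (actR30 i) i) 0 15000 = true := by decide +kernel
theorem c_act30_1 : allRange (fun i => Nat.beq (actR30 i) i) 15000 13431 = true := by decide +kernel
theorem c_act31_0 : allRange (fun i => Nat.beq (actR31 i) i) 0 15000 = true := by decide +kernel
theorem c_act31_1 : allRange (fun i => Nat.beq (actR31 i) i) 15000 13431 = true := by decide +kernel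
theorem c_act32_0 : allRange (fun i => Nat.beq (actR32 i) i) 0 15000 = true := by decide +kernel
theorem c_act32_1 : allRange (fun i => Nat.beq (actR32 i) i) 15000 13431 = true := by decide +kernel
theorem c_act33_0 : allRange (fun i => Nat.beq (actR33 i) i) 0 15000 = true := by decide +kernel
theorem c_act33_1 : allRange (fun i => Nat.beq (actR33 i) i) 15000 13431 = true := by decide +kernel
theorem c_act34_0 : allRange (fun i => Nat.beq (actR34 i) i) 0 28431 = true := by decide +kernel
theorem c_act35_0 : allRange (fun i => Nat.beq (actR35 i) i) 0 10000 = true := by decide +kernel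
theorem c_act35_1 : allRange (fun i => Nat.beq (actR35 i) i) 10000 10000 = true := by decide +kernel
theorem c_act35_2 : allRange (fun i => Nat.beq (actR35 i) i) 20000 8431 = true := by decide +kernel
theorem c_act36_0 : allRange (fun i => Nat.beq (actR36 i) i) 0 15000 = true := by decide +kernel
theorem c_act36_1 : allRange (fun i => Nat.beq (actR36 i) i) 15000 13431 = true := by decide +kernel
theorem c_act37_0 : allRange (fun i => Nat.beq (actR37 i) i) 0 15000 = true := by decide +kernel
theorem c_act37_1 : allRange (fun i => Nat.beq (actR37 i) i) 15000 13431 = true := by decide +kernel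
theorem c_act38_0 : allRange (fun i => Nat.beq (actR38 i) i) 0 15000 = true := by decide +kernel
theorem c_act38_1 : allRange (fun i => Nat.beq (actR38 i) i) 15000 13431 = true := by decide +kernel
theorem c_act39_0 : allRange (fun i => Nat.beq (actR39 i) i) 0 15000 = true := by decide +kernel
theorem c_act39_1 : allRange (fun i => Nat.beq (actR39 i) i) 15000 13431 = true := by decide +kernel
theorem c_act40_0 : allRange (fun i => Nat.beq (actR40 i) i) 0 28431 = true := by decide +kernel
theorem c_act41_0 : allRange (fun i => Nat.beq (actR41 i) i) 0 10000 = true := by decide +kernel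
theorem c_act41_1 : allRange (fun i => Nat.beq (actR41 i) i) 10000 10000 = true := by decide +kernel
theorem c_act41_2 : allRange (fun i => Nat.beq (actR41 i) i) 20000 8431 = true := by decide +kernel
theorem c_act42_0 : allRange (fun i => Nat.beq (actR42 i) i) 0 10000 = true := by decide +kernel
theorem c_act42_1 : allRange (fun i => Nat.beq (actR42 i) i) 10000 10000 = true := by decide +kernel
theorem c_act42_2 : allRange (fun i => Nat.beq (actR42 i) i) 20000 8431 = true := by decide +kernel
theorem c_act43_0 : allRange (fun i => Nat.beq (actR43 i) i) 0 15000 = true := by decide +kernel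
theorem c_act43_1 : allRange (fun i => Nat.beq (actR43 i) i) 15000 13431 = true := by decide +kernel
theorem c_act44_0 : allRange (fun i => Nat.beq (actR44 i) i) 0 15000 = true := by decide +kernel
theorem c_act44_1 : allRange (fun i => Nat.beq (actR44 i) i) 15000 13431 = true := by decide +kernel
theorem c_act45_0 : allRange (fun i => Nat.beq (actR45 i) i) 0 28431 = true := by decide +kernel
theorem c_act46_0 : allRange (fun i => Nat.beq (actR46 i) i) 0 15000 = true := by decide +kernel
theorem c_act46_1 : allRange (fun i => Nat.beq (actR46 i) i) 15000 13431 = true := by decide +kernel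

end Cfsg.Agent.Lib.Helper4.TCD.Fi24Qa
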