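import Cfsg.Agent.Lib.Helper4.TCD_Fi24Qa_Acc

namespace Cfsg.Agent.Lib.Helper4.TCD.Fi24Qa

open Cfsg.Agent.Lib.Helper4.TC

set_option maxRecDepth 100000
set_option Elab.async false

theorem c_act47_0 : allRange (fun i => Nat.beq (actR47 i) i) 0 10000 = true := by decide +kernel
theorem c_act47_1 : allRange (fun i => Nat.beq (actR47 i) i) 10000 10000 = true := by decide +kernel
theorem c_act47_2 : allRange (fun i => Nat.beq (actR47 i) i) 20000 8431 = true := by decide +kernel
theorem c_act48_0 : allRange (fun i => Nat.beq (actR48 i) i) 0 15000 = true := by decide +kernel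
theorem c_act48_1 : allRange (fun i => Nat.beq (actR48 i) i) 15000 13431 = true := by decide +kernel
theorem c_act49_0 : allRange (fun i => Nat.beq (actR49 i) i) 0 28431 = true := by decide +kernel
theorem c_act50_0 : allRange (fun i => Nat.beq (actR50 i) i) 0 15000 = true := by decide +kernel
theorem c_act50_1 : allRange (fun i => Nat.beq (actR50 i) i) 15000 13431 = true := by decide +kernel
theorem c_act51_0 : allRange (fun i => Nat.beq (actR51 i) i) 0 10000 = true := by decide +kernel
theorem c_act51_1 : allRange (fun i => Nat.beq (actR51 i) i) 10000 10000 = true := by decide +kernel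
theorem c_act51_2 : allRange (fun i => Nat.beq (actR51 i) i) 20000 8431 = true := by decide +kernel
theorem c_act52_0 : allRange (fun i => Nat.beq (actR52 i) i) 0 28431 = true := by decide +kernel
theorem c_act53_0 : allRange (fun i => Nat.beq (actR53 i) i) 0 15000 = true := by decide +kernel
theorem c_act53_1 : allRange (fun i => Nat.beq (actR53 i) i) 15000 13431 = true := by decide +kernel
theorem c_act54_0 : allRange (fun i => Nat.beq (actR54 i) i) 0 28431 = true := by decide +kernel
theorem c_act55_0 : allRange (fun i => Nat.beq (actR55 i) i) 0 937 = true := by decide +kernel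
theorem c_act55_1 : allRange (fun i => Nat.beq (actR55 i) i) 937 937 = true := by decide +kernel
theorem c_act55_2 : allRange (fun i => Nat.beq (actR55 i) i) 1874 937 = true := by decide +kernel
theorem c_act55_3 : allRange (fun i => Nat.beq (actR55 i) i) 2811 937 = true := by decide +kernel
theorem c_act55_4 : allRange (fun i => Nat.beq (actR55 i) i) 3748 937 = true := by decide +kernel
theorem c_act55_5 : allRange (fun i => Nat.beq (actR55 i) i) 4685 937 = true := by decide +kernel
theorem c_act55_6 : allRange (fun i => Nat.beq (actR55 i) i) 5622 937 = true := by decide +kernel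
theorem c_act55_7 : allRange (fun i => Nat.beq (actR55 i) i) 6559 937 = true := by decide +kernel
theorem c_act55_8 : allRange (fun i => Nat.beq (actR55 i) i) 7496 937 = true := by decide +kernel
theorem c_act55_9 : allRange (fun i => Nat.beq (actR55 i) i) 8433 937 = true := by decide +kernel
theorem c_act55_10 : allRange (fun i => Nat.beq (actR55 i) i) 9370 937 = true := by decide +kernel
theorem c_act55_11 : allRange (fun i => Nat.beq (actR55 i) i) 10307 937 = true := by decide +kernel
theorem c_act55_12 : allRange (fun i => Nat.beq (actR55 i) i) 11244 937 = true := by decide +kernel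
theorem c_act55_13 : allRange (fun i => Nat.beq (actR55 i) i) 12181 937 = true := by decide +kernel
theorem c_act55_14 : allRange (fun i => Nat.beq (actR55 i) i) 13118 937 = true := by decide +kernel
theorem c_act55_15 : allRange (fun i => Nat.beq (actR55 i) i) 14055 937 = true := by decide +kernel
theorem c_act55_16 : allRange (fun i => Nat.beq (actR55 i) i) 14992 937 = true := by decide +kernel
theorem c_act55_17 : allRange (fun i => Nat.beq (actR55 i) i) 15929 937 = true := by decide +kernel
theorem c_act55_18 : allRange (fun i => Nat.beq (actR55 i) i) 16866 937 = true := by decide +kernel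
theorem c_act55_19 : allRange (fun i => Nat.beq (actR55 i) i) 17803 937 = true := by decide +kernel
theorem c_act55_20 : allRange (fun i => Nat.beq (actR55 i) i) 18740 937 = true := by decide +kernel
theorem c_act55_21 : allRange (fun i => Nat.beq (actR55 i) i) 19677 937 = true := by decide +kernel
theorem c_act55_22 : allRange (fun i => Nat.beq (actR55 i) i) 20614 937 = true := by decide +kernel
theorem c_act55_23 : allRange (fun i => Nat.beq (actR55 i) i) 21551 937 = true := by decide +kernel
theorem c_act55_24 : allRange (fun i => Nat.beq (actR55 i) i) 22488 937 = true := by decide +kernel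
theorem c_act55_25 : allRange (fun i => Nat.beq (actR55 i) i) 23425 937 = true := by decide +kernel
theorem c_act55_26 : allRange (fun i => Nat.beq (actR55 i) i) 24362 937 = true := by decide +kernel
theorem c_act55_27 : allRange (fun i => Nat.beq (actR55 i) i) 25299 937 = true := by decide +kernel
theorem c_act55_28 : allRange (fun i => Nat.beq (actR55 i) i) 26236 937 = true := by decide +kernel
theorem c_act55_29 : allRange (fun i => Nat.beq (actR55 i) i) 27173 937 = true := by decide +kernel
theorem c_act55_30 : allRange (fun i => Nat.beq (actR55 i) i) 28110 321 = true := by decide +kernel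

end Cfsg.Agent.Lib.Helper4.TCD.Fi24Qa
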