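import Cfsg.Agent.Lib.Helper4.TCD_Fi24Qa_Acc
import Cfsg.Agent.Lib.Helper4.TC13

namespace Cfsg.Agent.Lib.Helper4.TCD.Fi24QspQ

open Cfsg.Agent.Lib.Helper4.TC Cfsg.Agent.Lib.Helper4.TCD.Fi24Qa

set_option maxRecDepth 100000
set_option Elab.async false

def xw : List Nat := [5, 4, 3, 5, 6, 7, 5, 8, 9]

noncomputable def actX (i : Nat) : Nat := col5 (col4 (col3 (col5 (col6 (col7 (col5 (col8 (col9 (col5 (col4 (col3 (col5 (col6 (col7 (col5 (col8 (col9 (col5 (col4 (col3 (col5 (col6 (col7 (col5 (col8 (col9 (col5 (col4 (col3 (col5 (col6 (col7 (col5 (col8 (col9 (col5 (col4 (col3 (col5 (col6 (col7 (col5 (col8 (col9 (col5 (col4 (col3 (col5 (col6 (col7 (col5 (col8 (col9 (col5 (col4 (col3 (col5 (col6 (col7 (col5 (col8 (col9 (col5 (col4 (col3 (col5 (col6 (col7 (col5 (col8 (col9 (col5 (col4 (col3 (col5 (col6 (col7 (col5 (col8 (col9 (col5 (col4 (col3 (col5 (col6 (col7 (col5 (col8 (col9 (i))))))))))))))))))))))))))))))))))))))))))))))))))))))))))))))))))))))))))))))))))))))))))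
theorem actX_eq (i : Nat) : actX i = Tab.act T D (List.replicate 10 xw).flatten i := rfl
theorem c_xq_0 : allRange (fun i => Nat.beq (actX i) i) 0 652 = true := by decide +kernel
theorem c_xq_1 : allRange (fun i => Nat.beq (actX i) i) 652 652 = true := by decide +kernel
theorem c_xq_2 : allRange (fun i => Nat.beq (actX i) i) 1304 652 = true := by decide +kernel
theorem c_xq_3 : allRange (fun i => Nat.beq (actX i) i) 1956 652 = true := by decide +kernel
theorem c_xq_4 : allRange (fun i => Nat.beq (actX i) i) 2608 652 = true := by decide +kernel
theorem c_xq_5 : allRange (fun i => Nat.beq (actX i) i) 3260 652 = true := by decide +kernel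
theorem c_xq_6 : allRange (fun i => Nat.beq (actX i) i) 3912 652 = true := by decide +kernel
theorem c_xq_7 : allRange (fun i => Nat.beq (actX i) i) 4564 652 = true := by decide +kernel
theorem c_xq_8 : allRange (fun i => Nat.beq (actX i) i) 5216 652 = true := by decide +kernel
theorem c_xq_9 : allRange (fun i => Nat.beq (actX i) i) 5868 652 = true := by decide +kernel
theorem c_xq_10 : allRange (fun i => Nat.beq (actX i) i) 6520 652 = true := by decide +kernel
theorem c_xq_11 : allRange (fun i => Nat.beq (actX i) i) 7172 652 = true := by decide +kernel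
theorem c_xq_12 : allRange (fun i => Nat.beq (actX i) i) 7824 652 = true := by decide +kernel
theorem c_xq_13 : allRange (fun i => Nat.beq (actX i) i) 8476 652 = true := by decide +kernel
theorem c_xq_14 : allRange (fun i => Nat.beq (actX i) i) 9128 652 = true := by decide +kernel
theorem c_xq_15 : allRange (fun i => Nat.beq (actX i) i) 9780 652 = true := by decide +kernel
theorem c_xq_16 : allRange (fun i => Nat.beq (actX i) i) 10432 652 = true := by decide +kernel
theorem c_xq_17 : allRange (fun i => Nat.beq (actX i) i) 11084 652 = true := by decide +kernel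
theorem c_xq_18 : allRange (fun i => Nat.beq (actX i) i) 11736 652 = true := by decide +kernel
theorem c_xq_19 : allRange (fun i => Nat.beq (actX i) i) 12388 652 = true := by decide +kernel
theorem c_xq_20 : allRange (fun i => Nat.beq (actX i) i) 13040 652 = true := by decide +kernel
theorem c_xq_21 : allRange (fun i => Nat.beq (actX i) i) 13692 652 = true := by decide +kernel
theorem c_xq_22 : allRange (fun i => Nat.beq (actX i) i) 14344 652 = true := by decide +kernel
theorem c_xq_23 : allRange (fun i => Nat.beq (actX i) i) 14996 652 = true := by decide +kernel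
theorem c_xq_24 : allRange (fun i => Nat.beq (actX i) i) 15648 652 = true := by decide +kernel
theorem c_xq_25 : allRange (fun i => Nat.beq (actX i) i) 16300 652 = true := by decide +kernel
theorem c_xq_26 : allRange (fun i => Nat.beq (actX i) i) 16952 652 = true := by decide +kernel
theorem c_xq_27 : allRange (fun i => Nat.beq (actX i) i) 17604 652 = true := by decide +kernel
theorem c_xq_28 : allRange (fun i => Nat.beq (actX i) i) 18256 652 = true := by decide +kernel
theorem c_xq_29 : allRange (fun i => Nat.beq (actX i) i) 18908 652 = true := by decide +kernel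
theorem c_xq_30 : allRange (fun i => Nat.beq (actX i) i) 19560 652 = true := by decide +kernel
theorem c_xq_31 : allRange (fun i => Nat.beq (actX i) i) 20212 652 = true := by decide +kernel
theorem c_xq_32 : allRange (fun i => Nat.beq (actX i) i) 20864 652 = true := by decide +kernel
theorem c_xq_33 : allRange (fun i => Nat.beq (actX i) i) 21516 652 = true := by decide +kernel
theorem c_xq_34 : allRange (fun i => Nat.beq (actX i) i) 22168 652 = true := by decide +kernel
theorem c_xq_35 : allRange (fun i => Nat.beq (actX i) i) 22820 652 = true := by decide +kernel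
theorem c_xq_36 : allRange (fun i => Nat.beq (actX i) i) 23472 652 = true := by decide +kernel
theorem c_xq_37 : allRange (fun i => Nat.beq (actX i) i) 24124 652 = true := by decide +kernel
theorem c_xq_38 : allRange (fun i => Nat.beq (actX i) i) 24776 652 = true := by decide +kernel
theorem c_xq_39 : allRange (fun i => Nat.beq (actX i) i) 25428 652 = true := by decide +kernel
theorem c_xq_40 : allRange (fun i => Nat.beq (actX i) i) 26080 652 = true := by decide +kernel
theorem c_xq_41 : allRange (fun i => Nat.beq (actX i) i) 26732 652 = true := by decide +kernel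
theorem c_xq_42 : allRange (fun i => Nat.beq (actX i) i) 27384 652 = true := by decide +kernel
theorem c_xq_43 : allRange (fun i => Nat.beq (actX i) i) 28036 395 = true := by decide +kernel
theorem h_xq_p0 : ∀ i, 0 ≤ i → i < 26080 → Nat.beq (actX i) i = true :=
  (range_glue (range_of_allRange c_xq_0) (range_glue (range_of_allRange c_xq_1) (range_glue (range_of_allRange c_xq_2) (range_glue (range_of_allRange c_xq_3) (range_glue (range_of_allRange c_xq_4) (range_glue (range_of_allRange c_xq_5) (range_glue (range_of_allRange c_xq_6) (range_glue (range_of_allRange c_xq_7) (range_glue (range_of_allRange c_xq_8) (range_glue (range_of_allRange c_xq_9) (range_glue (range_of_allRange c_xq_10) (range_glue (range_of_allRange c_xq_11) (range_glue (range_of_allRange c_xq_12) (range_glue (range_of_allRange c_xq_13) (range_glue (range_of_allRange c_xq_14) (range_glue (range_of_allRange c_xq_15) (range_glue (range_of_allRange c_xq_16) (range_glue (range_of_allRange c_xq_17) (range_glue (range_of_allRange c_xq_18) (range_glue (range_of_allRange c_xq_19) (range_glue (range_of_allRange c_xq_20) (range_glue (range_of_allRange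 c_xq_21) (range_glue (range_of_allRange c_xq_22) (range_glue (range_of_allRange c_xq_23) (range_glue (range_of_allRange c_xq_24) (range_glue (range_of_allRange c_xq_25) (range_glue (range_of_allRange c_xq_26) (range_glue (range_of_allRange c_xq_27) (range_glue (range_of_allRange c_xq_28) (range_glue (range_of_allRange c_xq_29) (range_glue (range_of_allRange c_xq_30) (range_glue (range_of_allRange c_xq_31) (range_glue (range_of_allRange c_xq_32) (range_glue (range_of_allRange c_xq_33) (range_glue (range_of_allRange c_xq_34) (range_glue (range_of_allRange c_xq_35) (range_glue (range_of_allRange c_xq_36) (range_glue (range_of_allRange c_xq_37) (range_glue (range_of_allRange c_xq_38) (range_of_allRange c_xq_39))))))))))))))))))))))))))))))))))))))))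
theorem h_xq_p1 : ∀ i, 26080 ≤ i → i < 28431 → Nat.beq (actX i) i = true :=
  (range_glue (range_of_allRange c_xq_40) (range_glue (range_of_allRange c_xq_41) (range_glue (range_of_allRange c_xq_42) (range_of_allRange c_xq_43))))
theorem h_xq : ∀ i, i < T.N → Tab.relActOK T D (List.replicate 10 xw).flatten i = true := by
  intro i hi
  rw [Tab.relActOK, ← actX_eq]
  exact (range_glue h_xq_p0 h_xq_p1) i (Nat.zero_le _) hi

end Cfsg.Agent.Lib.Helper4.TCD.Fi24QspQ
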