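import Mathlib
import Cfsg.Agent.Lib.Helper4.TCD_Fi24Qa_Fin
import Cfsg.Agent.Lib.Helper4.TCD_Fi24QU1_Fin
import Cfsg.Agent.Lib.Helper4.TCD_Fi24QU2_Fin
import Cfsg.Agent.Lib.Helper4.TCD_Fi24QU3_Fin
import Cfsg.Agent.Lib.Helper4.TCD_Fi24QU4_Fin
import Cfsg.Agent.Lib.Helper4.TCD_Fi24QL_Fin
import Cfsg.Agent.Lib.Helper4.TCD_Fi24QspQ
import Cfsg.Agent.Lib.Helper4.TC13
import Cfsg.Agent.Lib.Helper4.TC16

/-! The auxiliary presented group `Fi24Q` (the Y₅₂₂ diagram with `l = (abcdefh)^9`): its order is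
9904359628800, the action on the 28431 cosets of `⟨l, k, a, b, c, d, e, f, h⟩` is faithful, and the
spider relation `(d c b d e f d h i)^10 = 1` holds in it. -/

namespace Cfsg.Agent.Lib.Helper4.Fi24QMain

open Cfsg.Agent.Lib.Helper4.TC Cfsg.Agent.Lib.Helper4.TCD Cfsg.Agent.Lib.Helper4.TC.Log

/-- the order and the faithful permutation representation -/
theorem order_aux : Finite PFi24Q.P.Grp ∧ Function.Injective Fi24Qa.inst.phi ∧
    Nat.card PFi24Q.P.Grp = 9904359628800 := by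
  have e0 : letG PFi24Q.P [] = ⊥ := letG_nil _
  have f0 : Finite (letG PFi24Q.P []) := by rw [e0]; infer_instance
  have c0 : Nat.card (letG PFi24Q.P []) = 1 := by rw [e0]; exact Subgroup.card_bot
  obtain ⟨f4, c4⟩ := Fi24QU4.card_le f0
  obtain ⟨f3, c3⟩ := Fi24QU3.card_le f4
  obtain ⟨f2, c2⟩ := Fi24QU2.card_le f3
  obtain ⟨f1, c1⟩ := Fi24QU1.card_le f2
  have hs : Inst.subG PFi24Q.P Fi24Qa.subs = letG PFi24Q.P [0, 1, 2, 3, 4, 5, 6, 7, 8] :=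
    Fi24Qa.inst.subG_eq_letG _ (by decide)
  have fs : Finite (Inst.subG PFi24Q.P Fi24Qa.subs) := by rw [hs]; exact f1
  have cs : Nat.card (Inst.subG PFi24Q.P Fi24Qa.subs) ≤ 120 * (28 * (27 * (3840 * 1))) := by
    rw [hs]
    calc Nat.card (letG PFi24Q.P [0, 1, 2, 3, 4, 5, 6, 7, 8])
        ≤ 120 * Nat.card (letG PFi24Q.P [0, 2, 3, 4, 5, 6, 7, 8]) := c1
      _ ≤ 120 * (28 * Nat.card (letG PFi24Q.P [0, 3, 4, 5, 6, 7, 8])) := Nat.mul_le_mul_left _ c2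
      _ ≤ 120 * (28 * (27 * Nat.card (letG PFi24Q.P [0, 4, 5, 6, 7, 8]))) :=
          Nat.mul_le_mul_left _ (Nat.mul_le_mul_left _ c3)
      _ ≤ 120 * (28 * (27 * (3840 * Nat.card (letG PFi24Q.P [])))) :=
          Nat.mul_le_mul_left _ (Nat.mul_le_mul_left _ (Nat.mul_le_mul_left _ c4))
      _ = 120 * (28 * (27 * (3840 * 1))) := by rw [c0]
  obtain ⟨fG, cG⟩ := Fi24Qa.inst.card_le _ fs cs
  have hub : Nat.card PFi24Q.P.Grp ≤ 9904359628800 := le_trans cG (by decide)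
  obtain ⟨hinj, hcard⟩ := Fi24Qa.inst.card_eq Fi24QL.S rfl rfl Fi24QL.htab0 Fi24QL.ok 9904359628800
    (by decide) Fi24QL.prod_eq fG hub
  exact ⟨fG, hinj, hcard⟩

/-- the spider relation -/
theorem spider : (wordP PFi24Q.P.gR [5, 4, 3, 5, 6, 7, 5, 8, 9]) ^ 10 = 1 := by
  obtain ⟨_, hinj, _⟩ := order_aux
  have e : Fi24QspQ.xw = [5, 4, 3, 5, 6, 7, 5, 8, 9] := rfl
  rw [← e]
  exact Fi24Qa.inst.pow_eq_one hinj Fi24QspQ.xw (by decide) 10 Fi24QspQ.h_xq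

end Cfsg.Agent.Lib.Helper4.Fi24QMain
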