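import Cfsg.Agent.Lib.Helper4.TCD_Fi24a_Acc

namespace Cfsg.Agent.Lib.Helper4.TCD.Fi24a

open Cfsg.Agent.Lib.Helper4.TC

set_option maxRecDepth 100000
set_option Elab.async false

theorem c_rel_21 : allRange D.relOK 422123 3548 = true := by decide +kernel
theorem c_rel_22 : allRange D.relOK 425671 3537 = true := by decide +kernel
theorem c_rel_23 : allRange D.relOK 429208 3574 = true := by decide +kernel
theorem c_rel_24 : allRange D.relOK 432782 3563 = true := by decide +kernel
theorem c_rel_25 : allRange D.relOK 436345 3542 = true := by decide +kernel
theorem c_rel_26 : allRange D.relOK 439887 3563 = true := by decide +kernel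
theorem c_rel_27 : allRange D.relOK 443450 3540 = true := by decide +kernel
theorem c_rel_28 : allRange D.relOK 446990 3542 = true := by decide +kernel
theorem c_rel_29 : allRange D.relOK 450532 3554 = true := by decide +kernel
theorem c_rel_30 : allRange D.relOK 454086 3568 = true := by decide +kernel
theorem c_rel_31 : allRange D.relOK 457654 3557 = true := by decide +kernel
theorem c_rel_32 : allRange D.relOK 461211 3551 = true := by decide +kernel
theorem c_rel_33 : allRange D.relOK 464762 3556 = true := by decide +kernel
theorem c_rel_34 : allRange D.relOK 468318 3550 = true := by decide +kernel
theorem c_rel_35 : allRange D.relOK 471868 3546 = true := by decide +kernel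
theorem c_rel_36 : allRange D.relOK 475414 3552 = true := by decide +kernel
theorem c_rel_37 : allRange D.relOK 478966 3548 = true := by decide +kernel
theorem c_rel_38 : allRange D.relOK 482514 3567 = true := by decide +kernel
theorem c_rel_39 : allRange D.relOK 486081 3566 = true := by decide +kernel
theorem c_rel_40 : allRange D.relOK 489647 3540 = true := by decide +kernel
theorem c_rel_41 : allRange D.relOK 493187 3563 = true := by decide +kernel
theorem c_rel_42 : allRange D.relOK 496750 3553 = true := by decide +kernel
theorem c_rel_43 : allRange D.relOK 500303 3558 = true := by decide +kernel
theorem c_rel_44 : allRange D.relOK 503861 3545 = true := by decide +kernel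
theorem c_rel_45 : allRange D.relOK 507406 3556 = true := by decide +kernel
theorem c_rel_46 : allRange D.relOK 510962 3559 = true := by decide +kernel
theorem c_rel_47 : allRange D.relOK 514521 3549 = true := by decide +kernel
theorem c_rel_48 : allRange D.relOK 518070 3557 = true := by decide +kernel
theorem c_rel_49 : allRange D.relOK 521627 3571 = true := by decide +kernel
theorem c_rel_50 : allRange D.relOK 525198 3538 = true := by decide +kernel
theorem c_rel_51 : allRange D.relOK 528736 3547 = true := by decide +kernel
theorem c_rel_52 : allRange D.relOK 532283 3567 = true := by decide +kernel
theorem c_rel_53 : allRange D.relOK 535850 3574 = true := by decide +kernel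
theorem c_rel_54 : allRange D.relOK 539424 3548 = true := by decide +kernel
theorem c_rel_55 : allRange D.relOK 542972 3574 = true := by decide +kernel
theorem c_rel_56 : allRange D.relOK 546546 3537 = true := by decide +kernel
theorem c_rel_57 : allRange D.relOK 550083 3562 = true := by decide +kernel
theorem c_rel_58 : allRange D.relOK 553645 3561 = true := by decide +kernel
theorem c_rel_59 : allRange D.relOK 557206 3574 = true := by decide +kernel
theorem c_rel_60 : allRange D.relOK 560780 3544 = true := by decide +kernel
theorem c_rel_61 : allRange D.relOK 564324 3535 = true := by decide +kernel
theorem c_rel_62 : allRange D.relOK 567859 3574 = true := by decide +kernel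
theorem c_rel_63 : allRange D.relOK 571433 3572 = true := by decide +kernel
theorem c_rel_64 : allRange D.relOK 575005 3551 = true := by decide +kernel
theorem c_rel_65 : allRange D.relOK 578556 3539 = true := by decide +kernel
theorem c_rel_66 : allRange D.relOK 582095 3576 = true := by decide +kernel
theorem c_rel_67 : allRange D.relOK 585671 3572 = true := by decide +kernel
theorem c_rel_68 : allRange D.relOK 589243 3568 = true := by decide +kernel
theorem c_rel_69 : allRange D.relOK 592811 3537 = true := by decide +kernel
theorem c_rel_70 : allRange D.relOK 596348 3595 = true := by decide +kernel
theorem c_rel_71 : allRange D.relOK 599943 3547 = true := by decide +kernel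
theorem c_rel_72 : allRange D.relOK 603490 3561 = true := by decide +kernel
theorem c_rel_73 : allRange D.relOK 607051 3572 = true := by decide +kernel
theorem c_rel_74 : allRange D.relOK 610623 3567 = true := by decide +kernel
theorem c_rel_75 : allRange D.relOK 614190 3574 = true := by decide +kernel
theorem c_rel_76 : allRange D.relOK 617764 3534 = true := by decide +kernel
theorem c_rel_77 : allRange D.relOK 621298 3552 = true := by decide +kernel
theorem c_rel_78 : allRange D.relOK 624850 3551 = true := by decide +kernel
theorem c_rel_79 : allRange D.relOK 628401 3571 = true := by decide +kernel
theorem c_rel_80 : allRange D.relOK 631972 3563 = true := by decide +kernel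
theorem c_rel_81 : allRange D.relOK 635535 3535 = true := by decide +kernel
theorem c_rel_82 : allRange D.relOK 639070 3550 = true := by decide +kernel
theorem c_rel_83 : allRange D.relOK 642620 3565 = true := by decide +kernel
theorem c_rel_84 : allRange D.relOK 646185 3576 = true := by decide +kernel
theorem c_rel_85 : allRange D.relOK 649761 3573 = true := by decide +kernel
theorem c_rel_86 : allRange D.relOK 653334 3577 = true := by decide +kernel
theorem c_rel_87 : allRange D.relOK 656911 3535 = true := by decide +kernel
theorem c_rel_88 : allRange D.relOK 660446 3544 = true := by decide +kernel
theorem c_rel_89 : allRange D.relOK 663990 3553 = true := by decide +kernel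
theorem c_rel_90 : allRange D.relOK 667543 3564 = true := by decide +kernel
theorem c_rel_91 : allRange D.relOK 671107 3569 = true := by decide +kernel
theorem c_rel_92 : allRange D.relOK 674676 3576 = true := by decide +kernel
theorem c_rel_93 : allRange D.relOK 678252 3571 = true := by decide +kernel
theorem c_rel_94 : allRange D.relOK 681823 3572 = true := by decide +kernel
theorem c_rel_95 : allRange D.relOK 685395 3531 = true := by decide +kernel
theorem c_rel_96 : allRange D.relOK 688926 3518 = true := by decide +kernel
theorem c_rel_97 : allRange D.relOK 692444 3544 = true := by decide +kernel
theorem c_rel_98 : allRange D.relOK 695988 3557 = true := by decide +kernel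
theorem c_rel_99 : allRange D.relOK 699545 3584 = true := by decide +kernel
theorem c_rel_100 : allRange D.relOK 703129 3559 = true := by decide +kernel
theorem c_rel_101 : allRange D.relOK 706688 3508 = true := by decide +kernel
theorem c_rel_102 : allRange D.relOK 710196 3557 = true := by decide +kernel
theorem c_rel_103 : allRange D.relOK 713753 3545 = true := by decide +kernel
theorem c_rel_104 : allRange D.relOK 717298 3564 = true := by decide +kernel
theorem c_rel_105 : allRange D.relOK 720862 3582 = true := by decide +kernel
theorem c_rel_106 : allRange D.relOK 724444 3579 = true := by decide +kernel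
theorem c_rel_107 : allRange D.relOK 728023 3559 = true := by decide +kernel
theorem c_rel_108 : allRange D.relOK 731582 3538 = true := by decide +kernel
theorem c_rel_109 : allRange D.relOK 735120 3538 = true := by decide +kernel
theorem c_rel_110 : allRange D.relOK 738658 3522 = true := by decide +kernel
theorem c_rel_111 : allRange D.relOK 742180 3560 = true := by decide +kernel
theorem c_rel_112 : allRange D.relOK 745740 3569 = true := by decide +kernel
theorem c_rel_113 : allRange D.relOK 749309 3560 = true := by decide +kernel
theorem c_rel_114 : allRange D.relOK 752869 3582 = true := by decide +kernel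
theorem c_rel_115 : allRange D.relOK 756451 3576 = true := by decide +kernel
theorem c_rel_116 : allRange D.relOK 760027 3571 = true := by decide +kernel
theorem c_rel_117 : allRange D.relOK 763598 3553 = true := by decide +kernel
theorem c_rel_118 : allRange D.relOK 767151 3529 = true := by decide +kernel
theorem c_rel_119 : allRange D.relOK 770680 3553 = true := by decide +kernel

end Cfsg.Agent.Lib.Helper4.TCD.Fi24a
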