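import Cfsg.Agent.Lib.Helper4.TCD_Fi24a_Acc

namespace Cfsg.Agent.Lib.Helper4.TCD.Fi24a

open Cfsg.Agent.Lib.Helper4.TC

set_option maxRecDepth 100000
set_option Elab.async false

theorem c_fin_195 : allGrid (T.finOK D) 195000 1000 12 = true := by decide +kernel
theorem c_fin_196 : allGrid (T.finOK D) 196000 1000 12 = true := by decide +kernel
theorem c_fin_197 : allGrid (T.finOK D) 197000 1000 12 = true := by decide +kernel
theorem c_fin_198 : allGrid (T.finOK D) 198000 1000 12 = true := by decide +kernel
theorem c_fin_199 : allGrid (T.finOK D) 199000 1000 12 = true := by decide +kernel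
theorem c_fin_200 : allGrid (T.finOK D) 200000 1000 12 = true := by decide +kernel
theorem c_fin_201 : allGrid (T.finOK D) 201000 1000 12 = true := by decide +kernel
theorem c_fin_202 : allGrid (T.finOK D) 202000 1000 12 = true := by decide +kernel
theorem c_fin_203 : allGrid (T.finOK D) 203000 1000 12 = true := by decide +kernel
theorem c_fin_204 : allGrid (T.finOK D) 204000 1000 12 = true := by decide +kernel
theorem c_fin_205 : allGrid (T.finOK D) 205000 1000 12 = true := by decide +kernel
theorem c_fin_206 : allGrid (T.finOK D) 206000 1000 12 = true := by decide +kernel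
theorem c_fin_207 : allGrid (T.finOK D) 207000 1000 12 = true := by decide +kernel
theorem c_fin_208 : allGrid (T.finOK D) 208000 1000 12 = true := by decide +kernel
theorem c_fin_209 : allGrid (T.finOK D) 209000 1000 12 = true := by decide +kernel
theorem c_fin_210 : allGrid (T.finOK D) 210000 1000 12 = true := by decide +kernel
theorem c_fin_211 : allGrid (T.finOK D) 211000 1000 12 = true := by decide +kernel
theorem c_fin_212 : allGrid (T.finOK D) 212000 1000 12 = true := by decide +kernel
theorem c_fin_213 : allGrid (T.finOK D) 213000 1000 12 = true := by decide +kernel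
theorem c_fin_214 : allGrid (T.finOK D) 214000 1000 12 = true := by decide +kernel
theorem c_fin_215 : allGrid (T.finOK D) 215000 1000 12 = true := by decide +kernel
theorem c_fin_216 : allGrid (T.finOK D) 216000 1000 12 = true := by decide +kernel
theorem c_fin_217 : allGrid (T.finOK D) 217000 1000 12 = true := by decide +kernel
theorem c_fin_218 : allGrid (T.finOK D) 218000 1000 12 = true := by decide +kernel
theorem c_fin_219 : allGrid (T.finOK D) 219000 1000 12 = true := by decide +kernel
theorem c_fin_220 : allGrid (T.finOK D) 220000 1000 12 = true := by decide +kernel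
theorem c_fin_221 : allGrid (T.finOK D) 221000 1000 12 = true := by decide +kernel
theorem c_fin_222 : allGrid (T.finOK D) 222000 1000 12 = true := by decide +kernel
theorem c_fin_223 : allGrid (T.finOK D) 223000 1000 12 = true := by decide +kernel
theorem c_fin_224 : allGrid (T.finOK D) 224000 1000 12 = true := by decide +kernel
theorem c_fin_225 : allGrid (T.finOK D) 225000 1000 12 = true := by decide +kernel
theorem c_fin_226 : allGrid (T.finOK D) 226000 1000 12 = true := by decide +kernel
theorem c_fin_227 : allGrid (T.finOK D) 227000 1000 12 = true := by decide +kernel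
theorem c_fin_228 : allGrid (T.finOK D) 228000 1000 12 = true := by decide +kernel
theorem c_fin_229 : allGrid (T.finOK D) 229000 1000 12 = true := by decide +kernel
theorem c_fin_230 : allGrid (T.finOK D) 230000 1000 12 = true := by decide +kernel
theorem c_fin_231 : allGrid (T.finOK D) 231000 1000 12 = true := by decide +kernel
theorem c_fin_232 : allGrid (T.finOK D) 232000 1000 12 = true := by decide +kernel
theorem c_fin_233 : allGrid (T.finOK D) 233000 1000 12 = true := by decide +kernel
theorem c_fin_234 : allGrid (T.finOK D) 234000 1000 12 = true := by decide +kernel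
theorem c_fin_235 : allGrid (T.finOK D) 235000 1000 12 = true := by decide +kernel
theorem c_fin_236 : allGrid (T.finOK D) 236000 1000 12 = true := by decide +kernel
theorem c_fin_237 : allGrid (T.finOK D) 237000 1000 12 = true := by decide +kernel
theorem c_fin_238 : allGrid (T.finOK D) 238000 1000 12 = true := by decide +kernel
theorem c_fin_239 : allGrid (T.finOK D) 239000 1000 12 = true := by decide +kernel
theorem c_fin_240 : allGrid (T.finOK D) 240000 1000 12 = true := by decide +kernel
theorem c_fin_241 : allGrid (T.finOK D) 241000 1000 12 = true := by decide +kernel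
theorem c_fin_242 : allGrid (T.finOK D) 242000 1000 12 = true := by decide +kernel
theorem c_fin_243 : allGrid (T.finOK D) 243000 1000 12 = true := by decide +kernel
theorem c_fin_244 : allGrid (T.finOK D) 244000 1000 12 = true := by decide +kernel

end Cfsg.Agent.Lib.Helper4.TCD.Fi24a
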