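import Cfsg.Agent.Lib.Helper4.TCD_Fi24a_Acc

namespace Cfsg.Agent.Lib.Helper4.TCD.Fi24a

open Cfsg.Agent.Lib.Helper4.TC

set_option maxRecDepth 100000
set_option Elab.async false

theorem c_fin_245 : allGrid (T.finOK D) 245000 1000 12 = true := by decide +kernel
theorem c_fin_246 : allGrid (T.finOK D) 246000 1000 12 = true := by decide +kernel
theorem c_fin_247 : allGrid (T.finOK D) 247000 1000 12 = true := by decide +kernel
theorem c_fin_248 : allGrid (T.finOK D) 248000 1000 12 = true := by decide +kernel
theorem c_fin_249 : allGrid (T.finOK D) 249000 1000 12 = true := by decide +kernel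
theorem c_fin_250 : allGrid (T.finOK D) 250000 1000 12 = true := by decide +kernel
theorem c_fin_251 : allGrid (T.finOK D) 251000 1000 12 = true := by decide +kernel
theorem c_fin_252 : allGrid (T.finOK D) 252000 1000 12 = true := by decide +kernel
theorem c_fin_253 : allGrid (T.finOK D) 253000 1000 12 = true := by decide +kernel
theorem c_fin_254 : allGrid (T.finOK D) 254000 1000 12 = true := by decide +kernel
theorem c_fin_255 : allGrid (T.finOK D) 255000 1000 12 = true := by decide +kernel
theorem c_fin_256 : allGrid (T.finOK D) 256000 1000 12 = true := by decide +kernel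
theorem c_fin_257 : allGrid (T.finOK D) 257000 1000 12 = true := by decide +kernel
theorem c_fin_258 : allGrid (T.finOK D) 258000 1000 12 = true := by decide +kernel
theorem c_fin_259 : allGrid (T.finOK D) 259000 1000 12 = true := by decide +kernel
theorem c_fin_260 : allGrid (T.finOK D) 260000 1000 12 = true := by decide +kernel
theorem c_fin_261 : allGrid (T.finOK D) 261000 1000 12 = true := by decide +kernel
theorem c_fin_262 : allGrid (T.finOK D) 262000 1000 12 = true := by decide +kernel
theorem c_fin_263 : allGrid (T.finOK D) 263000 1000 12 = true := by decide +kernel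
theorem c_fin_264 : allGrid (T.finOK D) 264000 1000 12 = true := by decide +kernel
theorem c_fin_265 : allGrid (T.finOK D) 265000 1000 12 = true := by decide +kernel
theorem c_fin_266 : allGrid (T.finOK D) 266000 1000 12 = true := by decide +kernel
theorem c_fin_267 : allGrid (T.finOK D) 267000 1000 12 = true := by decide +kernel
theorem c_fin_268 : allGrid (T.finOK D) 268000 1000 12 = true := by decide +kernel
theorem c_fin_269 : allGrid (T.finOK D) 269000 1000 12 = true := by decide +kernel
theorem c_fin_270 : allGrid (T.finOK D) 270000 1000 12 = true := by decide +kernel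
theorem c_fin_271 : allGrid (T.finOK D) 271000 1000 12 = true := by decide +kernel
theorem c_fin_272 : allGrid (T.finOK D) 272000 1000 12 = true := by decide +kernel
theorem c_fin_273 : allGrid (T.finOK D) 273000 1000 12 = true := by decide +kernel
theorem c_fin_274 : allGrid (T.finOK D) 274000 1000 12 = true := by decide +kernel
theorem c_fin_275 : allGrid (T.finOK D) 275000 1000 12 = true := by decide +kernel
theorem c_fin_276 : allGrid (T.finOK D) 276000 1000 12 = true := by decide +kernel
theorem c_fin_277 : allGrid (T.finOK D) 277000 1000 12 = true := by decide +kernel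
theorem c_fin_278 : allGrid (T.finOK D) 278000 1000 12 = true := by decide +kernel
theorem c_fin_279 : allGrid (T.finOK D) 279000 1000 12 = true := by decide +kernel
theorem c_fin_280 : allGrid (T.finOK D) 280000 1000 12 = true := by decide +kernel
theorem c_fin_281 : allGrid (T.finOK D) 281000 1000 12 = true := by decide +kernel
theorem c_fin_282 : allGrid (T.finOK D) 282000 1000 12 = true := by decide +kernel
theorem c_fin_283 : allGrid (T.finOK D) 283000 1000 12 = true := by decide +kernel
theorem c_fin_284 : allGrid (T.finOK D) 284000 1000 12 = true := by decide +kernel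
theorem c_fin_285 : allGrid (T.finOK D) 285000 1000 12 = true := by decide +kernel
theorem c_fin_286 : allGrid (T.finOK D) 286000 1000 12 = true := by decide +kernel
theorem c_fin_287 : allGrid (T.finOK D) 287000 1000 12 = true := by decide +kernel
theorem c_fin_288 : allGrid (T.finOK D) 288000 1000 12 = true := by decide +kernel
theorem c_fin_289 : allGrid (T.finOK D) 289000 1000 12 = true := by decide +kernel
theorem c_fin_290 : allGrid (T.finOK D) 290000 1000 12 = true := by decide +kernel
theorem c_fin_291 : allGrid (T.finOK D) 291000 1000 12 = true := by decide +kernel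
theorem c_fin_292 : allGrid (T.finOK D) 292000 1000 12 = true := by decide +kernel
theorem c_fin_293 : allGrid (T.finOK D) 293000 1000 12 = true := by decide +kernel
theorem c_fin_294 : allGrid (T.finOK D) 294000 1000 12 = true := by decide +kernel

end Cfsg.Agent.Lib.Helper4.TCD.Fi24a
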