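import Cfsg.Agent.Lib.Helper4.TCD_Fi24a_Acc

namespace Cfsg.Agent.Lib.Helper4.TCD.Fi24a

open Cfsg.Agent.Lib.Helper4.TC

set_option maxRecDepth 100000
set_option Elab.async false

theorem c_fin_295 : allGrid (T.finOK D) 295000 1000 12 = true := by decide +kernel
theorem c_fin_296 : allGrid (T.finOK D) 296000 1000 12 = true := by decide +kernel
theorem c_fin_297 : allGrid (T.finOK D) 297000 1000 12 = true := by decide +kernel
theorem c_fin_298 : allGrid (T.finOK D) 298000 1000 12 = true := by decide +kernel
theorem c_fin_299 : allGrid (T.finOK D) 299000 1000 12 = true := by decide +kernel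
theorem c_fin_300 : allGrid (T.finOK D) 300000 1000 12 = true := by decide +kernel
theorem c_fin_301 : allGrid (T.finOK D) 301000 1000 12 = true := by decide +kernel
theorem c_fin_302 : allGrid (T.finOK D) 302000 1000 12 = true := by decide +kernel
theorem c_fin_303 : allGrid (T.finOK D) 303000 1000 12 = true := by decide +kernel
theorem c_fin_304 : allGrid (T.finOK D) 304000 1000 12 = true := by decide +kernel
theorem c_fin_305 : allGrid (T.finOK D) 305000 1000 12 = true := by decide +kernel
theorem c_fin_306 : allGrid (T.finOK D) 306000 936 12 = true := by decide +kernel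
theorem c_perm_0 : allGrid (T.permOK1 D) 0 2500 12 = true := by decide +kernel
theorem c_perm_1 : allGrid (T.permOK1 D) 2500 2500 12 = true := by decide +kernel
theorem c_perm_2 : allGrid (T.permOK1 D) 5000 2500 12 = true := by decide +kernel
theorem c_perm_3 : allGrid (T.permOK1 D) 7500 2500 12 = true := by decide +kernel
theorem c_perm_4 : allGrid (T.permOK1 D) 10000 2500 12 = true := by decide +kernel
theorem c_perm_5 : allGrid (T.permOK1 D) 12500 2500 12 = true := by decide +kernel
theorem c_perm_6 : allGrid (T.permOK1 D) 15000 2500 12 = true := by decide +kernel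
theorem c_perm_7 : allGrid (T.permOK1 D) 17500 2500 12 = true := by decide +kernel
theorem c_perm_8 : allGrid (T.permOK1 D) 20000 2500 12 = true := by decide +kernel
theorem c_perm_9 : allGrid (T.permOK1 D) 22500 2500 12 = true := by decide +kernel
theorem c_perm_10 : allGrid (T.permOK1 D) 25000 2500 12 = true := by decide +kernel
theorem c_perm_11 : allGrid (T.permOK1 D) 27500 2500 12 = true := by decide +kernel
theorem c_perm_12 : allGrid (T.permOK1 D) 30000 2500 12 = true := by decide +kernel
theorem c_perm_13 : allGrid (T.permOK1 D) 32500 2500 12 = true := by decide +kernel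
theorem c_perm_14 : allGrid (T.permOK1 D) 35000 2500 12 = true := by decide +kernel
theorem c_perm_15 : allGrid (T.permOK1 D) 37500 2500 12 = true := by decide +kernel
theorem c_perm_16 : allGrid (T.permOK1 D) 40000 2500 12 = true := by decide +kernel
theorem c_perm_17 : allGrid (T.permOK1 D) 42500 2500 12 = true := by decide +kernel
theorem c_perm_18 : allGrid (T.permOK1 D) 45000 2500 12 = true := by decide +kernel
theorem c_perm_19 : allGrid (T.permOK1 D) 47500 2500 12 = true := by decide +kernel
theorem c_perm_20 : allGrid (T.permOK1 D) 50000 2500 12 = true := by decide +kernel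
theorem c_perm_21 : allGrid (T.permOK1 D) 52500 2500 12 = true := by decide +kernel
theorem c_perm_22 : allGrid (T.permOK1 D) 55000 2500 12 = true := by decide +kernel
theorem c_perm_23 : allGrid (T.permOK1 D) 57500 2500 12 = true := by decide +kernel
theorem c_perm_24 : allGrid (T.permOK1 D) 60000 2500 12 = true := by decide +kernel
theorem c_perm_25 : allGrid (T.permOK1 D) 62500 2500 12 = true := by decide +kernel
theorem c_perm_26 : allGrid (T.permOK1 D) 65000 2500 12 = true := by decide +kernel
theorem c_perm_27 : allGrid (T.permOK1 D) 67500 2500 12 = true := by decide +kernel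
theorem c_perm_28 : allGrid (T.permOK1 D) 70000 2500 12 = true := by decide +kernel
theorem c_perm_29 : allGrid (T.permOK1 D) 72500 2500 12 = true := by decide +kernel
theorem c_perm_30 : allGrid (T.permOK1 D) 75000 2500 12 = true := by decide +kernel
theorem c_perm_31 : allGrid (T.permOK1 D) 77500 2500 12 = true := by decide +kernel
theorem c_perm_32 : allGrid (T.permOK1 D) 80000 2500 12 = true := by decide +kernel
theorem c_perm_33 : allGrid (T.permOK1 D) 82500 2500 12 = true := by decide +kernel
theorem c_perm_34 : allGrid (T.permOK1 D) 85000 2500 12 = true := by decide +kernel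
theorem c_perm_35 : allGrid (T.permOK1 D) 87500 2500 12 = true := by decide +kernel
theorem c_perm_36 : allGrid (T.permOK1 D) 90000 2500 12 = true := by decide +kernel
theorem c_perm_37 : allGrid (T.permOK1 D) 92500 2500 12 = true := by decide +kernel

end Cfsg.Agent.Lib.Helper4.TCD.Fi24a
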