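import Cfsg.Agent.Lib.Helper4.TCD_Fi24a_Acc

namespace Cfsg.Agent.Lib.Helper4.TCD.Fi24a

open Cfsg.Agent.Lib.Helper4.TC

set_option maxRecDepth 100000
set_option Elab.async false

theorem c_perm_38 : allGrid (T.permOK1 D) 95000 2500 12 = true := by decide +kernel
theorem c_perm_39 : allGrid (T.permOK1 D) 97500 2500 12 = true := by decide +kernel
theorem c_perm_40 : allGrid (T.permOK1 D) 100000 2500 12 = true := by decide +kernel
theorem c_perm_41 : allGrid (T.permOK1 D) 102500 2500 12 = true := by decide +kernel
theorem c_perm_42 : allGrid (T.permOK1 D) 105000 2500 12 = true := by decide +kernel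
theorem c_perm_43 : allGrid (T.permOK1 D) 107500 2500 12 = true := by decide +kernel
theorem c_perm_44 : allGrid (T.permOK1 D) 110000 2500 12 = true := by decide +kernel
theorem c_perm_45 : allGrid (T.permOK1 D) 112500 2500 12 = true := by decide +kernel
theorem c_perm_46 : allGrid (T.permOK1 D) 115000 2500 12 = true := by decide +kernel
theorem c_perm_47 : allGrid (T.permOK1 D) 117500 2500 12 = true := by decide +kernel
theorem c_perm_48 : allGrid (T.permOK1 D) 120000 2500 12 = true := by decide +kernel
theorem c_perm_49 : allGrid (T.permOK1 D) 122500 2500 12 = true := by decide +kernel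
theorem c_perm_50 : allGrid (T.permOK1 D) 125000 2500 12 = true := by decide +kernel
theorem c_perm_51 : allGrid (T.permOK1 D) 127500 2500 12 = true := by decide +kernel
theorem c_perm_52 : allGrid (T.permOK1 D) 130000 2500 12 = true := by decide +kernel
theorem c_perm_53 : allGrid (T.permOK1 D) 132500 2500 12 = true := by decide +kernel
theorem c_perm_54 : allGrid (T.permOK1 D) 135000 2500 12 = true := by decide +kernel
theorem c_perm_55 : allGrid (T.permOK1 D) 137500 2500 12 = true := by decide +kernel
theorem c_perm_56 : allGrid (T.permOK1 D) 140000 2500 12 = true := by decide +kernel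
theorem c_perm_57 : allGrid (T.permOK1 D) 142500 2500 12 = true := by decide +kernel
theorem c_perm_58 : allGrid (T.permOK1 D) 145000 2500 12 = true := by decide +kernel
theorem c_perm_59 : allGrid (T.permOK1 D) 147500 2500 12 = true := by decide +kernel
theorem c_perm_60 : allGrid (T.permOK1 D) 150000 2500 12 = true := by decide +kernel
theorem c_perm_61 : allGrid (T.permOK1 D) 152500 2500 12 = true := by decide +kernel
theorem c_perm_62 : allGrid (T.permOK1 D) 155000 2500 12 = true := by decide +kernel
theorem c_perm_63 : allGrid (T.permOK1 D) 157500 2500 12 = true := by decide +kernel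
theorem c_perm_64 : allGrid (T.permOK1 D) 160000 2500 12 = true := by decide +kernel
theorem c_perm_65 : allGrid (T.permOK1 D) 162500 2500 12 = true := by decide +kernel
theorem c_perm_66 : allGrid (T.permOK1 D) 165000 2500 12 = true := by decide +kernel
theorem c_perm_67 : allGrid (T.permOK1 D) 167500 2500 12 = true := by decide +kernel
theorem c_perm_68 : allGrid (T.permOK1 D) 170000 2500 12 = true := by decide +kernel
theorem c_perm_69 : allGrid (T.permOK1 D) 172500 2500 12 = true := by decide +kernel
theorem c_perm_70 : allGrid (T.permOK1 D) 175000 2500 12 = true := by decide +kernel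
theorem c_perm_71 : allGrid (T.permOK1 D) 177500 2500 12 = true := by decide +kernel
theorem c_perm_72 : allGrid (T.permOK1 D) 180000 2500 12 = true := by decide +kernel
theorem c_perm_73 : allGrid (T.permOK1 D) 182500 2500 12 = true := by decide +kernel
theorem c_perm_74 : allGrid (T.permOK1 D) 185000 2500 12 = true := by decide +kernel
theorem c_perm_75 : allGrid (T.permOK1 D) 187500 2500 12 = true := by decide +kernel
theorem c_perm_76 : allGrid (T.permOK1 D) 190000 2500 12 = true := by decide +kernel
theorem c_perm_77 : allGrid (T.permOK1 D) 192500 2500 12 = true := by decide +kernel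
theorem c_perm_78 : allGrid (T.permOK1 D) 195000 2500 12 = true := by decide +kernel
theorem c_perm_79 : allGrid (T.permOK1 D) 197500 2500 12 = true := by decide +kernel
theorem c_perm_80 : allGrid (T.permOK1 D) 200000 2500 12 = true := by decide +kernel
theorem c_perm_81 : allGrid (T.permOK1 D) 202500 2500 12 = true := by decide +kernel
theorem c_perm_82 : allGrid (T.permOK1 D) 205000 2500 12 = true := by decide +kernel
theorem c_perm_83 : allGrid (T.permOK1 D) 207500 2500 12 = true := by decide +kernel
theorem c_perm_84 : allGrid (T.permOK1 D) 210000 2500 12 = true := by decide +kernel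
theorem c_perm_85 : allGrid (T.permOK1 D) 212500 2500 12 = true := by decide +kernel
theorem c_perm_86 : allGrid (T.permOK1 D) 215000 2500 12 = true := by decide +kernel
theorem c_perm_87 : allGrid (T.permOK1 D) 217500 2500 12 = true := by decide +kernel

end Cfsg.Agent.Lib.Helper4.TCD.Fi24a
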