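import Cfsg.Agent.Lib.Helper4.TCD_Fi24a_Acc

namespace Cfsg.Agent.Lib.Helper4.TCD.Fi24a

open Cfsg.Agent.Lib.Helper4.TC

set_option maxRecDepth 100000
set_option Elab.async false

theorem c_act3_2 : allRange (fun i => Nat.beq (actR3 i) i) 30000 15000 = true := by decide +kernel
theorem c_act3_3 : allRange (fun i => Nat.beq (actR3 i) i) 45000 15000 = true := by decide +kernel
theorem c_act3_4 : allRange (fun i => Nat.beq (actR3 i) i) 60000 15000 = true := by decide +kernel
theorem c_act3_5 : allRange (fun i => Nat.beq (actR3 i) i) 75000 15000 = true := by decide +kernel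
theorem c_act3_6 : allRange (fun i => Nat.beq (actR3 i) i) 90000 15000 = true := by decide +kernel
theorem c_act3_7 : allRange (fun i => Nat.beq (actR3 i) i) 105000 15000 = true := by decide +kernel
theorem c_act3_8 : allRange (fun i => Nat.beq (actR3 i) i) 120000 15000 = true := by decide +kernel
theorem c_act3_9 : allRange (fun i => Nat.beq (actR3 i) i) 135000 15000 = true := by decide +kernel
theorem c_act3_10 : allRange (fun i => Nat.beq (actR3 i) i) 150000 15000 = true := by decide +kernel
theorem c_act3_11 : allRange (fun i => Nat.beq (actR3 i) i) 165000 15000 = true := by decide +kernel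
theorem c_act3_12 : allRange (fun i => Nat.beq (actR3 i) i) 180000 15000 = true := by decide +kernel
theorem c_act3_13 : allRange (fun i => Nat.beq (actR3 i) i) 195000 15000 = true := by decide +kernel
theorem c_act3_14 : allRange (fun i => Nat.beq (actR3 i) i) 210000 15000 = true := by decide +kernel
theorem c_act3_15 : allRange (fun i => Nat.beq (actR3 i) i) 225000 15000 = true := by decide +kernel
theorem c_act3_16 : allRange (fun i => Nat.beq (actR3 i) i) 240000 15000 = true := by decide +kernel
theorem c_act3_17 : allRange (fun i => Nat.beq (actR3 i) i) 255000 15000 = true := by decide +kernel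
theorem c_act3_18 : allRange (fun i => Nat.beq (actR3 i) i) 270000 15000 = true := by decide +kernel
theorem c_act3_19 : allRange (fun i => Nat.beq (actR3 i) i) 285000 15000 = true := by decide +kernel
theorem c_act3_20 : allRange (fun i => Nat.beq (actR3 i) i) 300000 6936 = true := by decide +kernel
theorem c_act4_0 : allRange (fun i => Nat.beq (actR4 i) i) 0 15000 = true := by decide +kernel
theorem c_act4_1 : allRange (fun i => Nat.beq (actR4 i) i) 15000 15000 = true := by decide +kernel
theorem c_act4_2 : allRange (fun i => Nat.beq (actR4 i) i) 30000 15000 = true := by decide +kernel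
theorem c_act4_3 : allRange (fun i => Nat.beq (actR4 i) i) 45000 15000 = true := by decide +kernel
theorem c_act4_4 : allRange (fun i => Nat.beq (actR4 i) i) 60000 15000 = true := by decide +kernel
theorem c_act4_5 : allRange (fun i => Nat.beq (actR4 i) i) 75000 15000 = true := by decide +kernel
theorem c_act4_6 : allRange (fun i => Nat.beq (actR4 i) i) 90000 15000 = true := by decide +kernel
theorem c_act4_7 : allRange (fun i => Nat.beq (actR4 i) i) 105000 15000 = true := by decide +kernel
theorem c_act4_8 : allRange (fun i => Nat.beq (actR4 i) i) 120000 15000 = true := by decide +kernel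
theorem c_act4_9 : allRange (fun i => Nat.beq (actR4 i) i) 135000 15000 = true := by decide +kernel
theorem c_act4_10 : allRange (fun i => Nat.beq (actR4 i) i) 150000 15000 = true := by decide +kernel
theorem c_act4_11 : allRange (fun i => Nat.beq (actR4 i) i) 165000 15000 = true := by decide +kernel
theorem c_act4_12 : allRange (fun i => Nat.beq (actR4 i) i) 180000 15000 = true := by decide +kernel
theorem c_act4_13 : allRange (fun i => Nat.beq (actR4 i) i) 195000 15000 = true := by decide +kernel
theorem c_act4_14 : allRange (fun i => Nat.beq (actR4 i) i) 210000 15000 = true := by decide +kernel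
theorem c_act4_15 : allRange (fun i => Nat.beq (actR4 i) i) 225000 15000 = true := by decide +kernel
theorem c_act4_16 : allRange (fun i => Nat.beq (actR4 i) i) 240000 15000 = true := by decide +kernel
theorem c_act4_17 : allRange (fun i => Nat.beq (actR4 i) i) 255000 15000 = true := by decide +kernel
theorem c_act4_18 : allRange (fun i => Nat.beq (actR4 i) i) 270000 15000 = true := by decide +kernel
theorem c_act4_19 : allRange (fun i => Nat.beq (actR4 i) i) 285000 15000 = true := by decide +kernel
theorem c_act4_20 : allRange (fun i => Nat.beq (actR4 i) i) 300000 6936 = true := by decide +kernel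
theorem c_act5_0 : allRange (fun i => Nat.beq (actR5 i) i) 0 15000 = true := by decide +kernel
theorem c_act5_1 : allRange (fun i => Nat.beq (actR5 i) i) 15000 15000 = true := by decide +kernel
theorem c_act5_2 : allRange (fun i => Nat.beq (actR5 i) i) 30000 15000 = true := by decide +kernel
theorem c_act5_3 : allRange (fun i => Nat.beq (actR5 i) i) 45000 15000 = true := by decide +kernel
theorem c_act5_4 : allRange (fun i => Nat.beq (actR5 i) i) 60000 15000 = true := by decide +kernel
theorem c_act5_5 : allRange (fun i => Nat.beq (actR5 i) i) 75000 15000 = true := by decide +kernel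
theorem c_act5_6 : allRange (fun i => Nat.beq (actR5 i) i) 90000 15000 = true := by decide +kernel
theorem c_act5_7 : allRange (fun i => Nat.beq (actR5 i) i) 105000 15000 = true := by decide +kernel
theorem c_act5_8 : allRange (fun i => Nat.beq (actR5 i) i) 120000 15000 = true := by decide +kernel
theorem c_act5_9 : allRange (fun i => Nat.beq (actR5 i) i) 135000 15000 = true := by decide +kernel
theorem c_act5_10 : allRange (fun i => Nat.beq (actR5 i) i) 150000 15000 = true := by decide +kernel

end Cfsg.Agent.Lib.Helper4.TCD.Fi24a
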