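import Cfsg.Agent.Lib.Helper4.TCD_Fi24a_Acc

namespace Cfsg.Agent.Lib.Helper4.TCD.Fi24a

open Cfsg.Agent.Lib.Helper4.TC

set_option maxRecDepth 100000
set_option Elab.async false

theorem c_act5_11 : allRange (fun i => Nat.beq (actR5 i) i) 165000 15000 = true := by decide +kernel
theorem c_act5_12 : allRange (fun i => Nat.beq (actR5 i) i) 180000 15000 = true := by decide +kernel
theorem c_act5_13 : allRange (fun i => Nat.beq (actR5 i) i) 195000 15000 = true := by decide +kernel
theorem c_act5_14 : allRange (fun i => Nat.beq (actR5 i) i) 210000 15000 = true := by decide +kernel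
theorem c_act5_15 : allRange (fun i => Nat.beq (actR5 i) i) 225000 15000 = true := by decide +kernel
theorem c_act5_16 : allRange (fun i => Nat.beq (actR5 i) i) 240000 15000 = true := by decide +kernel
theorem c_act5_17 : allRange (fun i => Nat.beq (actR5 i) i) 255000 15000 = true := by decide +kernel
theorem c_act5_18 : allRange (fun i => Nat.beq (actR5 i) i) 270000 15000 = true := by decide +kernel
theorem c_act5_19 : allRange (fun i => Nat.beq (actR5 i) i) 285000 15000 = true := by decide +kernel
theorem c_act5_20 : allRange (fun i => Nat.beq (actR5 i) i) 300000 6936 = true := by decide +kernel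
theorem c_act6_0 : allRange (fun i => Nat.beq (actR6 i) i) 0 15000 = true := by decide +kernel
theorem c_act6_1 : allRange (fun i => Nat.beq (actR6 i) i) 15000 15000 = true := by decide +kernel
theorem c_act6_2 : allRange (fun i => Nat.beq (actR6 i) i) 30000 15000 = true := by decide +kernel
theorem c_act6_3 : allRange (fun i => Nat.beq (actR6 i) i) 45000 15000 = true := by decide +kernel
theorem c_act6_4 : allRange (fun i => Nat.beq (actR6 i) i) 60000 15000 = true := by decide +kernel
theorem c_act6_5 : allRange (fun i => Nat.beq (actR6 i) i) 75000 15000 = true := by decide +kernel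
theorem c_act6_6 : allRange (fun i => Nat.beq (actR6 i) i) 90000 15000 = true := by decide +kernel
theorem c_act6_7 : allRange (fun i => Nat.beq (actR6 i) i) 105000 15000 = true := by decide +kernel
theorem c_act6_8 : allRange (fun i => Nat.beq (actR6 i) i) 120000 15000 = true := by decide +kernel
theorem c_act6_9 : allRange (fun i => Nat.beq (actR6 i) i) 135000 15000 = true := by decide +kernel
theorem c_act6_10 : allRange (fun i => Nat.beq (actR6 i) i) 150000 15000 = true := by decide +kernel
theorem c_act6_11 : allRange (fun i => Nat.beq (actR6 i) i) 165000 15000 = true := by decide +kernel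
theorem c_act6_12 : allRange (fun i => Nat.beq (actR6 i) i) 180000 15000 = true := by decide +kernel
theorem c_act6_13 : allRange (fun i => Nat.beq (actR6 i) i) 195000 15000 = true := by decide +kernel
theorem c_act6_14 : allRange (fun i => Nat.beq (actR6 i) i) 210000 15000 = true := by decide +kernel
theorem c_act6_15 : allRange (fun i => Nat.beq (actR6 i) i) 225000 15000 = true := by decide +kernel
theorem c_act6_16 : allRange (fun i => Nat.beq (actR6 i) i) 240000 15000 = true := by decide +kernel
theorem c_act6_17 : allRange (fun i => Nat.beq (actR6 i) i) 255000 15000 = true := by decide +kernel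
theorem c_act6_18 : allRange (fun i => Nat.beq (actR6 i) i) 270000 15000 = true := by decide +kernel
theorem c_act6_19 : allRange (fun i => Nat.beq (actR6 i) i) 285000 15000 = true := by decide +kernel
theorem c_act6_20 : allRange (fun i => Nat.beq (actR6 i) i) 300000 6936 = true := by decide +kernel
theorem c_act7_0 : allRange (fun i => Nat.beq (actR7 i) i) 0 15000 = true := by decide +kernel
theorem c_act7_1 : allRange (fun i => Nat.beq (actR7 i) i) 15000 15000 = true := by decide +kernel
theorem c_act7_2 : allRange (fun i => Nat.beq (actR7 i) i) 30000 15000 = true := by decide +kernel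
theorem c_act7_3 : allRange (fun i => Nat.beq (actR7 i) i) 45000 15000 = true := by decide +kernel
theorem c_act7_4 : allRange (fun i => Nat.beq (actR7 i) i) 60000 15000 = true := by decide +kernel
theorem c_act7_5 : allRange (fun i => Nat.beq (actR7 i) i) 75000 15000 = true := by decide +kernel
theorem c_act7_6 : allRange (fun i => Nat.beq (actR7 i) i) 90000 15000 = true := by decide +kernel
theorem c_act7_7 : allRange (fun i => Nat.beq (actR7 i) i) 105000 15000 = true := by decide +kernel
theorem c_act7_8 : allRange (fun i => Nat.beq (actR7 i) i) 120000 15000 = true := by decide +kernel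
theorem c_act7_9 : allRange (fun i => Nat.beq (actR7 i) i) 135000 15000 = true := by decide +kernel
theorem c_act7_10 : allRange (fun i => Nat.beq (actR7 i) i) 150000 15000 = true := by decide +kernel
theorem c_act7_11 : allRange (fun i => Nat.beq (actR7 i) i) 165000 15000 = true := by decide +kernel
theorem c_act7_12 : allRange (fun i => Nat.beq (actR7 i) i) 180000 15000 = true := by decide +kernel
theorem c_act7_13 : allRange (fun i => Nat.beq (actR7 i) i) 195000 15000 = true := by decide +kernel
theorem c_act7_14 : allRange (fun i => Nat.beq (actR7 i) i) 210000 15000 = true := by decide +kernel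
theorem c_act7_15 : allRange (fun i => Nat.beq (actR7 i) i) 225000 15000 = true := by decide +kernel
theorem c_act7_16 : allRange (fun i => Nat.beq (actR7 i) i) 240000 15000 = true := by decide +kernel
theorem c_act7_17 : allRange (fun i => Nat.beq (actR7 i) i) 255000 15000 = true := by decide +kernel
theorem c_act7_18 : allRange (fun i => Nat.beq (actR7 i) i) 270000 15000 = true := by decide +kernel
theorem c_act7_19 : allRange (fun i => Nat.beq (actR7 i) i) 285000 15000 = true := by decide +kernel

end Cfsg.Agent.Lib.Helper4.TCD.Fi24a
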