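import Cfsg.Agent.Lib.Helper4.TCD_Fi24a_Acc

namespace Cfsg.Agent.Lib.Helper4.TCD.Fi24a

open Cfsg.Agent.Lib.Helper4.TC

set_option maxRecDepth 100000
set_option Elab.async false

theorem c_act7_20 : allRange (fun i => Nat.beq (actR7 i) i) 300000 6936 = true := by decide +kernel
theorem c_act8_0 : allRange (fun i => Nat.beq (actR8 i) i) 0 15000 = true := by decide +kernel
theorem c_act8_1 : allRange (fun i => Nat.beq (actR8 i) i) 15000 15000 = true := by decide +kernel
theorem c_act8_2 : allRange (fun i => Nat.beq (actR8 i) i) 30000 15000 = true := by decide +kernel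
theorem c_act8_3 : allRange (fun i => Nat.beq (actR8 i) i) 45000 15000 = true := by decide +kernel
theorem c_act8_4 : allRange (fun i => Nat.beq (actR8 i) i) 60000 15000 = true := by decide +kernel
theorem c_act8_5 : allRange (fun i => Nat.beq (actR8 i) i) 75000 15000 = true := by decide +kernel
theorem c_act8_6 : allRange (fun i => Nat.beq (actR8 i) i) 90000 15000 = true := by decide +kernel
theorem c_act8_7 : allRange (fun i => Nat.beq (actR8 i) i) 105000 15000 = true := by decide +kernel
theorem c_act8_8 : allRange (fun i => Nat.beq (actR8 i) i) 120000 15000 = true := by decide +kernel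
theorem c_act8_9 : allRange (fun i => Nat.beq (actR8 i) i) 135000 15000 = true := by decide +kernel
theorem c_act8_10 : allRange (fun i => Nat.beq (actR8 i) i) 150000 15000 = true := by decide +kernel
theorem c_act8_11 : allRange (fun i => Nat.beq (actR8 i) i) 165000 15000 = true := by decide +kernel
theorem c_act8_12 : allRange (fun i => Nat.beq (actR8 i) i) 180000 15000 = true := by decide +kernel
theorem c_act8_13 : allRange (fun i => Nat.beq (actR8 i) i) 195000 15000 = true := by decide +kernel
theorem c_act8_14 : allRange (fun i => Nat.beq (actR8 i) i) 210000 15000 = true := by decide +kernel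
theorem c_act8_15 : allRange (fun i => Nat.beq (actR8 i) i) 225000 15000 = true := by decide +kernel
theorem c_act8_16 : allRange (fun i => Nat.beq (actR8 i) i) 240000 15000 = true := by decide +kernel
theorem c_act8_17 : allRange (fun i => Nat.beq (actR8 i) i) 255000 15000 = true := by decide +kernel
theorem c_act8_18 : allRange (fun i => Nat.beq (actR8 i) i) 270000 15000 = true := by decide +kernel
theorem c_act8_19 : allRange (fun i => Nat.beq (actR8 i) i) 285000 15000 = true := by decide +kernel
theorem c_act8_20 : allRange (fun i => Nat.beq (actR8 i) i) 300000 6936 = true := by decide +kernel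
theorem c_act9_0 : allRange (fun i => Nat.beq (actR9 i) i) 0 15000 = true := by decide +kernel
theorem c_act9_1 : allRange (fun i => Nat.beq (actR9 i) i) 15000 15000 = true := by decide +kernel
theorem c_act9_2 : allRange (fun i => Nat.beq (actR9 i) i) 30000 15000 = true := by decide +kernel
theorem c_act9_3 : allRange (fun i => Nat.beq (actR9 i) i) 45000 15000 = true := by decide +kernel
theorem c_act9_4 : allRange (fun i => Nat.beq (actR9 i) i) 60000 15000 = true := by decide +kernel
theorem c_act9_5 : allRange (fun i => Nat.beq (actR9 i) i) 75000 15000 = true := by decide +kernel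
theorem c_act9_6 : allRange (fun i => Nat.beq (actR9 i) i) 90000 15000 = true := by decide +kernel
theorem c_act9_7 : allRange (fun i => Nat.beq (actR9 i) i) 105000 15000 = true := by decide +kernel
theorem c_act9_8 : allRange (fun i => Nat.beq (actR9 i) i) 120000 15000 = true := by decide +kernel
theorem c_act9_9 : allRange (fun i => Nat.beq (actR9 i) i) 135000 15000 = true := by decide +kernel
theorem c_act9_10 : allRange (fun i => Nat.beq (actR9 i) i) 150000 15000 = true := by decide +kernel
theorem c_act9_11 : allRange (fun i => Nat.beq (actR9 i) i) 165000 15000 = true := by decide +kernel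
theorem c_act9_12 : allRange (fun i => Nat.beq (actR9 i) i) 180000 15000 = true := by decide +kernel
theorem c_act9_13 : allRange (fun i => Nat.beq (actR9 i) i) 195000 15000 = true := by decide +kernel
theorem c_act9_14 : allRange (fun i => Nat.beq (actR9 i) i) 210000 15000 = true := by decide +kernel
theorem c_act9_15 : allRange (fun i => Nat.beq (actR9 i) i) 225000 15000 = true := by decide +kernel
theorem c_act9_16 : allRange (fun i => Nat.beq (actR9 i) i) 240000 15000 = true := by decide +kernel
theorem c_act9_17 : allRange (fun i => Nat.beq (actR9 i) i) 255000 15000 = true := by decide +kernel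
theorem c_act9_18 : allRange (fun i => Nat.beq (actR9 i) i) 270000 15000 = true := by decide +kernel
theorem c_act9_19 : allRange (fun i => Nat.beq (actR9 i) i) 285000 15000 = true := by decide +kernel
theorem c_act9_20 : allRange (fun i => Nat.beq (actR9 i) i) 300000 6936 = true := by decide +kernel
theorem c_act10_0 : allRange (fun i => Nat.beq (actR10 i) i) 0 15000 = true := by decide +kernel
theorem c_act10_1 : allRange (fun i => Nat.beq (actR10 i) i) 15000 15000 = true := by decide +kernel
theorem c_act10_2 : allRange (fun i => Nat.beq (actR10 i) i) 30000 15000 = true := by decide +kernel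
theorem c_act10_3 : allRange (fun i => Nat.beq (actR10 i) i) 45000 15000 = true := by decide +kernel
theorem c_act10_4 : allRange (fun i => Nat.beq (actR10 i) i) 60000 15000 = true := by decide +kernel
theorem c_act10_5 : allRange (fun i => Nat.beq (actR10 i) i) 75000 15000 = true := by decide +kernel
theorem c_act10_6 : allRange (fun i => Nat.beq (actR10 i) i) 90000 15000 = true := by decide +kernel
theorem c_act10_7 : allRange (fun i => Nat.beq (actR10 i) i) 105000 15000 = true := by decide +kernel

end Cfsg.Agent.Lib.Helper4.TCD.Fi24a
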