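import Cfsg.Agent.Lib.Helper4.TCD_Fi24a_Acc

namespace Cfsg.Agent.Lib.Helper4.TCD.Fi24a

open Cfsg.Agent.Lib.Helper4.TC

set_option maxRecDepth 100000
set_option Elab.async false

theorem c_act10_8 : allRange (fun i => Nat.beq (actR10 i) i) 120000 15000 = true := by decide +kernel
theorem c_act10_9 : allRange (fun i => Nat.beq (actR10 i) i) 135000 15000 = true := by decide +kernel
theorem c_act10_10 : allRange (fun i => Nat.beq (actR10 i) i) 150000 15000 = true := by decide +kernel
theorem c_act10_11 : allRange (fun i => Nat.beq (actR10 i) i) 165000 15000 = true := by decide +kernel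
theorem c_act10_12 : allRange (fun i => Nat.beq (actR10 i) i) 180000 15000 = true := by decide +kernel
theorem c_act10_13 : allRange (fun i => Nat.beq (actR10 i) i) 195000 15000 = true := by decide +kernel
theorem c_act10_14 : allRange (fun i => Nat.beq (actR10 i) i) 210000 15000 = true := by decide +kernel
theorem c_act10_15 : allRange (fun i => Nat.beq (actR10 i) i) 225000 15000 = true := by decide +kernel
theorem c_act10_16 : allRange (fun i => Nat.beq (actR10 i) i) 240000 15000 = true := by decide +kernel
theorem c_act10_17 : allRange (fun i => Nat.beq (actR10 i) i) 255000 15000 = true := by decide +kernel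
theorem c_act10_18 : allRange (fun i => Nat.beq (actR10 i) i) 270000 15000 = true := by decide +kernel
theorem c_act10_19 : allRange (fun i => Nat.beq (actR10 i) i) 285000 15000 = true := by decide +kernel
theorem c_act10_20 : allRange (fun i => Nat.beq (actR10 i) i) 300000 6936 = true := by decide +kernel
theorem c_act11_0 : allRange (fun i => Nat.beq (actR11 i) i) 0 15000 = true := by decide +kernel
theorem c_act11_1 : allRange (fun i => Nat.beq (actR11 i) i) 15000 15000 = true := by decide +kernel
theorem c_act11_2 : allRange (fun i => Nat.beq (actR11 i) i) 30000 15000 = true := by decide +kernel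
theorem c_act11_3 : allRange (fun i => Nat.beq (actR11 i) i) 45000 15000 = true := by decide +kernel
theorem c_act11_4 : allRange (fun i => Nat.beq (actR11 i) i) 60000 15000 = true := by decide +kernel
theorem c_act11_5 : allRange (fun i => Nat.beq (actR11 i) i) 75000 15000 = true := by decide +kernel
theorem c_act11_6 : allRange (fun i => Nat.beq (actR11 i) i) 90000 15000 = true := by decide +kernel
theorem c_act11_7 : allRange (fun i => Nat.beq (actR11 i) i) 105000 15000 = true := by decide +kernel
theorem c_act11_8 : allRange (fun i => Nat.beq (actR11 i) i) 120000 15000 = true := by decide +kernel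
theorem c_act11_9 : allRange (fun i => Nat.beq (actR11 i) i) 135000 15000 = true := by decide +kernel
theorem c_act11_10 : allRange (fun i => Nat.beq (actR11 i) i) 150000 15000 = true := by decide +kernel
theorem c_act11_11 : allRange (fun i => Nat.beq (actR11 i) i) 165000 15000 = true := by decide +kernel
theorem c_act11_12 : allRange (fun i => Nat.beq (actR11 i) i) 180000 15000 = true := by decide +kernel
theorem c_act11_13 : allRange (fun i => Nat.beq (actR11 i) i) 195000 15000 = true := by decide +kernel
theorem c_act11_14 : allRange (fun i => Nat.beq (actR11 i) i) 210000 15000 = true := by decide +kernel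
theorem c_act11_15 : allRange (fun i => Nat.beq (actR11 i) i) 225000 15000 = true := by decide +kernel
theorem c_act11_16 : allRange (fun i => Nat.beq (actR11 i) i) 240000 15000 = true := by decide +kernel
theorem c_act11_17 : allRange (fun i => Nat.beq (actR11 i) i) 255000 15000 = true := by decide +kernel
theorem c_act11_18 : allRange (fun i => Nat.beq (actR11 i) i) 270000 15000 = true := by decide +kernel
theorem c_act11_19 : allRange (fun i => Nat.beq (actR11 i) i) 285000 15000 = true := by decide +kernel
theorem c_act11_20 : allRange (fun i => Nat.beq (actR11 i) i) 300000 6936 = true := by decide +kernel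
theorem c_act12_0 : allRange (fun i => Nat.beq (actR12 i) i) 0 30000 = true := by decide +kernel
theorem c_act12_1 : allRange (fun i => Nat.beq (actR12 i) i) 30000 30000 = true := by decide +kernel
theorem c_act12_2 : allRange (fun i => Nat.beq (actR12 i) i) 60000 30000 = true := by decide +kernel
theorem c_act12_3 : allRange (fun i => Nat.beq (actR12 i) i) 90000 30000 = true := by decide +kernel
theorem c_act12_4 : allRange (fun i => Nat.beq (actR12 i) i) 120000 30000 = true := by decide +kernel
theorem c_act12_5 : allRange (fun i => Nat.beq (actR12 i) i) 150000 30000 = true := by decide +kernel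
theorem c_act12_6 : allRange (fun i => Nat.beq (actR12 i) i) 180000 30000 = true := by decide +kernel
theorem c_act12_7 : allRange (fun i => Nat.beq (actR12 i) i) 210000 30000 = true := by decide +kernel
theorem c_act12_8 : allRange (fun i => Nat.beq (actR12 i) i) 240000 30000 = true := by decide +kernel
theorem c_act12_9 : allRange (fun i => Nat.beq (actR12 i) i) 270000 30000 = true := by decide +kernel
theorem c_act12_10 : allRange (fun i => Nat.beq (actR12 i) i) 300000 6936 = true := by decide +kernel
theorem c_act13_0 : allRange (fun i => Nat.beq (actR13 i) i) 0 10000 = true := by decide +kernel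
theorem c_act13_1 : allRange (fun i => Nat.beq (actR13 i) i) 10000 10000 = true := by decide +kernel
theorem c_act13_2 : allRange (fun i => Nat.beq (actR13 i) i) 20000 10000 = true := by decide +kernel
theorem c_act13_3 : allRange (fun i => Nat.beq (actR13 i) i) 30000 10000 = true := by decide +kernel
theorem c_act13_4 : allRange (fun i => Nat.beq (actR13 i) i) 40000 10000 = true := by decide +kernel
theorem c_act13_5 : allRange (fun i => Nat.beq (actR13 i) i) 50000 10000 = true := by decide +kernel

end Cfsg.Agent.Lib.Helper4.TCD.Fi24a
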