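import Cfsg.Agent.Lib.Helper4.TCD_Fi24a_Acc

namespace Cfsg.Agent.Lib.Helper4.TCD.Fi24a

open Cfsg.Agent.Lib.Helper4.TC

set_option maxRecDepth 100000
set_option Elab.async false

theorem c_rel_120 : allRange D.relOK 774233 3510 = true := by decide +kernel
theorem c_rel_121 : allRange D.relOK 777743 3526 = true := by decide +kernel
theorem c_rel_122 : allRange D.relOK 781269 3575 = true := by decide +kernel
theorem c_rel_123 : allRange D.relOK 784844 3586 = true := by decide +kernel
theorem c_rel_124 : allRange D.relOK 788430 3446 = true := by decide +kernel
theorem c_rel_125 : allRange D.relOK 791876 3547 = true := by decide +kernel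
theorem c_rel_126 : allRange D.relOK 795423 3515 = true := by decide +kernel
theorem c_rel_127 : allRange D.relOK 798938 3476 = true := by decide +kernel
theorem c_rel_128 : allRange D.relOK 802414 3524 = true := by decide +kernel
theorem c_rel_129 : allRange D.relOK 805938 3527 = true := by decide +kernel
theorem c_rel_130 : allRange D.relOK 809465 3616 = true := by decide +kernel
theorem c_rel_131 : allRange D.relOK 813081 3625 = true := by decide +kernel
theorem c_rel_132 : allRange D.relOK 816706 3649 = true := by decide +kernel
theorem c_rel_133 : allRange D.relOK 820355 3548 = true := by decide +kernel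
theorem c_rel_134 : allRange D.relOK 823903 3259 = true := by decide +kernel
theorem c_rel_135 : allRange D.relOK 827162 3509 = true := by decide +kernel
theorem c_rel_136 : allRange D.relOK 830671 3363 = true := by decide +kernel
theorem c_rel_137 : allRange D.relOK 834034 3513 = true := by decide +kernel
theorem c_rel_138 : allRange D.relOK 837547 3428 = true := by decide +kernel
theorem c_rel_139 : allRange D.relOK 840975 3465 = true := by decide +kernel
theorem c_rel_140 : allRange D.relOK 844440 3547 = true := by decide +kernel
theorem c_rel_141 : allRange D.relOK 847987 3453 = true := by decide +kernel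
theorem c_rel_142 : allRange D.relOK 851440 3417 = true := by decide +kernel
theorem c_rel_143 : allRange D.relOK 854857 3317 = true := by decide +kernel
theorem c_rel_144 : allRange D.relOK 858174 3501 = true := by decide +kernel
theorem c_rel_145 : allRange D.relOK 861675 3523 = true := by decide +kernel
theorem c_rel_146 : allRange D.relOK 865198 3399 = true := by decide +kernel
theorem c_rel_147 : allRange D.relOK 868597 3539 = true := by decide +kernel
theorem c_rel_148 : allRange D.relOK 872136 3459 = true := by decide +kernel
theorem c_rel_149 : allRange D.relOK 875595 3426 = true := by decide +kernel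
theorem c_rel_150 : allRange D.relOK 879021 3535 = true := by decide +kernel
theorem c_rel_151 : allRange D.relOK 882556 3537 = true := by decide +kernel
theorem c_rel_152 : allRange D.relOK 886093 3515 = true := by decide +kernel
theorem c_rel_153 : allRange D.relOK 889608 3493 = true := by decide +kernel
theorem c_rel_154 : allRange D.relOK 893101 3392 = true := by decide +kernel
theorem c_rel_155 : allRange D.relOK 896493 3390 = true := by decide +kernel
theorem c_rel_156 : allRange D.relOK 899883 3451 = true := by decide +kernel
theorem c_rel_157 : allRange D.relOK 903334 3473 = true := by decide +kernel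
theorem c_rel_158 : allRange D.relOK 906807 3539 = true := by decide +kernel
theorem c_rel_159 : allRange D.relOK 910346 3515 = true := by decide +kernel
theorem c_rel_160 : allRange D.relOK 913861 3558 = true := by decide +kernel
theorem c_rel_161 : allRange D.relOK 917419 3510 = true := by decide +kernel
theorem c_rel_162 : allRange D.relOK 920929 3523 = true := by decide +kernel
theorem c_rel_163 : allRange D.relOK 924452 3543 = true := by decide +kernel
theorem c_rel_164 : allRange D.relOK 927995 3526 = true := by decide +kernel
theorem c_rel_165 : allRange D.relOK 931521 3549 = true := by decide +kernel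
theorem c_rel_166 : allRange D.relOK 935070 3540 = true := by decide +kernel
theorem c_rel_167 : allRange D.relOK 938610 3563 = true := by decide +kernel
theorem c_rel_168 : allRange D.relOK 942173 3508 = true := by decide +kernel
theorem c_rel_169 : allRange D.relOK 945681 3495 = true := by decide +kernel
theorem c_rel_170 : allRange D.relOK 949176 3512 = true := by decide +kernel
theorem c_rel_171 : allRange D.relOK 952688 3550 = true := by decide +kernel
theorem c_rel_172 : allRange D.relOK 956238 3537 = true := by decide +kernel
theorem c_rel_173 : allRange D.relOK 959775 3529 = true := by decide +kernel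
theorem c_rel_174 : allRange D.relOK 963304 3570 = true := by decide +kernel
theorem c_rel_175 : allRange D.relOK 966874 3538 = true := by decide +kernel
theorem c_rel_176 : allRange D.relOK 970412 3556 = true := by decide +kernel
theorem c_rel_177 : allRange D.relOK 973968 3544 = true := by decide +kernel
theorem c_rel_178 : allRange D.relOK 977512 3587 = true := by decide +kernel
theorem c_rel_179 : allRange D.relOK 981099 3568 = true := by decide +kernel
theorem c_rel_180 : allRange D.relOK 984667 3563 = true := by decide +kernel
theorem c_rel_181 : allRange D.relOK 988230 3479 = true := by decide +kernel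
theorem c_rel_182 : allRange D.relOK 991709 3524 = true := by decide +kernel
theorem c_rel_183 : allRange D.relOK 995233 3506 = true := by decide +kernel
theorem c_rel_184 : allRange D.relOK 998739 3546 = true := by decide +kernel
theorem c_rel_185 : allRange D.relOK 1002285 3558 = true := by decide +kernel
theorem c_rel_186 : allRange D.relOK 1005843 3486 = true := by decide +kernel
theorem c_rel_187 : allRange D.relOK 1009329 3542 = true := by decide +kernel
theorem c_rel_188 : allRange D.relOK 1012871 3521 = true := by decide +kernel
theorem c_rel_189 : allRange D.relOK 1016392 3513 = true := by decide +kernel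
theorem c_rel_190 : allRange D.relOK 1019905 3515 = true := by decide +kernel
theorem c_rel_191 : allRange D.relOK 1023420 3531 = true := by decide +kernel
theorem c_rel_192 : allRange D.relOK 1026951 3538 = true := by decide +kernel
theorem c_rel_193 : allRange D.relOK 1030489 3558 = true := by decide +kernel
theorem c_rel_194 : allRange D.relOK 1034047 3575 = true := by decide +kernel
theorem c_rel_195 : allRange D.relOK 1037622 3587 = true := by decide +kernel
theorem c_rel_196 : allRange D.relOK 1041209 3530 = true := by decide +kernel
theorem c_rel_197 : allRange D.relOK 1044739 3565 = true := by decide +kernel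
theorem c_rel_198 : allRange D.relOK 1048304 3472 = true := by decide +kernel
theorem c_rel_199 : allRange D.relOK 1051776 3573 = true := by decide +kernel
theorem c_rel_200 : allRange D.relOK 1055349 3528 = true := by decide +kernel
theorem c_rel_201 : allRange D.relOK 1058877 3529 = true := by decide +kernel
theorem c_rel_202 : allRange D.relOK 1062406 3537 = true := by decide +kernel
theorem c_rel_203 : allRange D.relOK 1065943 3568 = true := by decide +kernel
theorem c_rel_204 : allRange D.relOK 1069511 3559 = true := by decide +kernel
theorem c_rel_205 : allRange D.relOK 1073070 3558 = true := by decide +kernel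
theorem c_rel_206 : allRange D.relOK 1076628 3558 = true := by decide +kernel
theorem c_rel_207 : allRange D.relOK 1080186 3578 = true := by decide +kernel
theorem c_rel_208 : allRange D.relOK 1083764 3587 = true := by decide +kernel
theorem c_rel_209 : allRange D.relOK 1087351 3569 = true := by decide +kernel
theorem c_rel_210 : allRange D.relOK 1090920 3566 = true := by decide +kernel
theorem c_rel_211 : allRange D.relOK 1094486 3499 = true := by decide +kernel
theorem c_rel_212 : allRange D.relOK 1097985 3449 = true := by decide +kernel
theorem c_rel_213 : allRange D.relOK 1101434 3548 = true := by decide +kernel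
theorem c_rel_214 : allRange D.relOK 1104982 3554 = true := by decide +kernel
theorem c_rel_215 : allRange D.relOK 1108536 3487 = true := by decide +kernel
theorem c_rel_216 : allRange D.relOK 1112023 3561 = true := by decide +kernel
theorem c_rel_217 : allRange D.relOK 1115584 3510 = true := by decide +kernel
theorem c_rel_218 : allRange D.relOK 1119094 3566 = true := by decide +kernel

end Cfsg.Agent.Lib.Helper4.TCD.Fi24a
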