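import Cfsg.Agent.Lib.Helper4.TCD_Fi24a_Acc

namespace Cfsg.Agent.Lib.Helper4.TCD.Fi24a

open Cfsg.Agent.Lib.Helper4.TC

set_option maxRecDepth 100000
set_option Elab.async false

theorem c_act15_4 : allRange (fun i => Nat.beq (actR15 i) i) 60000 15000 = true := by decide +kernel
theorem c_act15_5 : allRange (fun i => Nat.beq (actR15 i) i) 75000 15000 = true := by decide +kernel
theorem c_act15_6 : allRange (fun i => Nat.beq (actR15 i) i) 90000 15000 = true := by decide +kernel
theorem c_act15_7 : allRange (fun i => Nat.beq (actR15 i) i) 105000 15000 = true := by decide +kernel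
theorem c_act15_8 : allRange (fun i => Nat.beq (actR15 i) i) 120000 15000 = true := by decide +kernel
theorem c_act15_9 : allRange (fun i => Nat.beq (actR15 i) i) 135000 15000 = true := by decide +kernel
theorem c_act15_10 : allRange (fun i => Nat.beq (actR15 i) i) 150000 15000 = true := by decide +kernel
theorem c_act15_11 : allRange (fun i => Nat.beq (actR15 i) i) 165000 15000 = true := by decide +kernel
theorem c_act15_12 : allRange (fun i => Nat.beq (actR15 i) i) 180000 15000 = true := by decide +kernel
theorem c_act15_13 : allRange (fun i => Nat.beq (actR15 i) i) 195000 15000 = true := by decide +kernel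
theorem c_act15_14 : allRange (fun i => Nat.beq (actR15 i) i) 210000 15000 = true := by decide +kernel
theorem c_act15_15 : allRange (fun i => Nat.beq (actR15 i) i) 225000 15000 = true := by decide +kernel
theorem c_act15_16 : allRange (fun i => Nat.beq (actR15 i) i) 240000 15000 = true := by decide +kernel
theorem c_act15_17 : allRange (fun i => Nat.beq (actR15 i) i) 255000 15000 = true := by decide +kernel
theorem c_act15_18 : allRange (fun i => Nat.beq (actR15 i) i) 270000 15000 = true := by decide +kernel
theorem c_act15_19 : allRange (fun i => Nat.beq (actR15 i) i) 285000 15000 = true := by decide +kernel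
theorem c_act15_20 : allRange (fun i => Nat.beq (actR15 i) i) 300000 6936 = true := by decide +kernel
theorem c_act16_0 : allRange (fun i => Nat.beq (actR16 i) i) 0 15000 = true := by decide +kernel
theorem c_act16_1 : allRange (fun i => Nat.beq (actR16 i) i) 15000 15000 = true := by decide +kernel
theorem c_act16_2 : allRange (fun i => Nat.beq (actR16 i) i) 30000 15000 = true := by decide +kernel
theorem c_act16_3 : allRange (fun i => Nat.beq (actR16 i) i) 45000 15000 = true := by decide +kernel
theorem c_act16_4 : allRange (fun i => Nat.beq (actR16 i) i) 60000 15000 = true := by decide +kernel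
theorem c_act16_5 : allRange (fun i => Nat.beq (actR16 i) i) 75000 15000 = true := by decide +kernel
theorem c_act16_6 : allRange (fun i => Nat.beq (actR16 i) i) 90000 15000 = true := by decide +kernel
theorem c_act16_7 : allRange (fun i => Nat.beq (actR16 i) i) 105000 15000 = true := by decide +kernel
theorem c_act16_8 : allRange (fun i => Nat.beq (actR16 i) i) 120000 15000 = true := by decide +kernel
theorem c_act16_9 : allRange (fun i => Nat.beq (actR16 i) i) 135000 15000 = true := by decide +kernel
theorem c_act16_10 : allRange (fun i => Nat.beq (actR16 i) i) 150000 15000 = true := by decide +kernel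
theorem c_act16_11 : allRange (fun i => Nat.beq (actR16 i) i) 165000 15000 = true := by decide +kernel
theorem c_act16_12 : allRange (fun i => Nat.beq (actR16 i) i) 180000 15000 = true := by decide +kernel
theorem c_act16_13 : allRange (fun i => Nat.beq (actR16 i) i) 195000 15000 = true := by decide +kernel
theorem c_act16_14 : allRange (fun i => Nat.beq (actR16 i) i) 210000 15000 = true := by decide +kernel
theorem c_act16_15 : allRange (fun i => Nat.beq (actR16 i) i) 225000 15000 = true := by decide +kernel
theorem c_act16_16 : allRange (fun i => Nat.beq (actR16 i) i) 240000 15000 = true := by decide +kernel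
theorem c_act16_17 : allRange (fun i => Nat.beq (actR16 i) i) 255000 15000 = true := by decide +kernel
theorem c_act16_18 : allRange (fun i => Nat.beq (actR16 i) i) 270000 15000 = true := by decide +kernel
theorem c_act16_19 : allRange (fun i => Nat.beq (actR16 i) i) 285000 15000 = true := by decide +kernel
theorem c_act16_20 : allRange (fun i => Nat.beq (actR16 i) i) 300000 6936 = true := by decide +kernel
theorem c_act17_0 : allRange (fun i => Nat.beq (actR17 i) i) 0 15000 = true := by decide +kernel
theorem c_act17_1 : allRange (fun i => Nat.beq (actR17 i) i) 15000 15000 = true := by decide +kernel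
theorem c_act17_2 : allRange (fun i => Nat.beq (actR17 i) i) 30000 15000 = true := by decide +kernel
theorem c_act17_3 : allRange (fun i => Nat.beq (actR17 i) i) 45000 15000 = true := by decide +kernel
theorem c_act17_4 : allRange (fun i => Nat.beq (actR17 i) i) 60000 15000 = true := by decide +kernel
theorem c_act17_5 : allRange (fun i => Nat.beq (actR17 i) i) 75000 15000 = true := by decide +kernel
theorem c_act17_6 : allRange (fun i => Nat.beq (actR17 i) i) 90000 15000 = true := by decide +kernel
theorem c_act17_7 : allRange (fun i => Nat.beq (actR17 i) i) 105000 15000 = true := by decide +kernel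
theorem c_act17_8 : allRange (fun i => Nat.beq (actR17 i) i) 120000 15000 = true := by decide +kernel
theorem c_act17_9 : allRange (fun i => Nat.beq (actR17 i) i) 135000 15000 = true := by decide +kernel
theorem c_act17_10 : allRange (fun i => Nat.beq (actR17 i) i) 150000 15000 = true := by decide +kernel
theorem c_act17_11 : allRange (fun i => Nat.beq (actR17 i) i) 165000 15000 = true := by decide +kernel
theorem c_act17_12 : allRange (fun i => Nat.beq (actR17 i) i) 180000 15000 = true := by decide +kernel

end Cfsg.Agent.Lib.Helper4.TCD.Fi24a
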