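import Cfsg.Agent.Lib.Helper4.TCD_Fi24a_Acc

namespace Cfsg.Agent.Lib.Helper4.TCD.Fi24a

open Cfsg.Agent.Lib.Helper4.TC

set_option maxRecDepth 100000
set_option Elab.async false

theorem c_act17_13 : allRange (fun i => Nat.beq (actR17 i) i) 195000 15000 = true := by decide +kernel
theorem c_act17_14 : allRange (fun i => Nat.beq (actR17 i) i) 210000 15000 = true := by decide +kernel
theorem c_act17_15 : allRange (fun i => Nat.beq (actR17 i) i) 225000 15000 = true := by decide +kernel
theorem c_act17_16 : allRange (fun i => Nat.beq (actR17 i) i) 240000 15000 = true := by decide +kernel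
theorem c_act17_17 : allRange (fun i => Nat.beq (actR17 i) i) 255000 15000 = true := by decide +kernel
theorem c_act17_18 : allRange (fun i => Nat.beq (actR17 i) i) 270000 15000 = true := by decide +kernel
theorem c_act17_19 : allRange (fun i => Nat.beq (actR17 i) i) 285000 15000 = true := by decide +kernel
theorem c_act17_20 : allRange (fun i => Nat.beq (actR17 i) i) 300000 6936 = true := by decide +kernel
theorem c_act18_0 : allRange (fun i => Nat.beq (actR18 i) i) 0 15000 = true := by decide +kernel
theorem c_act18_1 : allRange (fun i => Nat.beq (actR18 i) i) 15000 15000 = true := by decide +kernel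
theorem c_act18_2 : allRange (fun i => Nat.beq (actR18 i) i) 30000 15000 = true := by decide +kernel
theorem c_act18_3 : allRange (fun i => Nat.beq (actR18 i) i) 45000 15000 = true := by decide +kernel
theorem c_act18_4 : allRange (fun i => Nat.beq (actR18 i) i) 60000 15000 = true := by decide +kernel
theorem c_act18_5 : allRange (fun i => Nat.beq (actR18 i) i) 75000 15000 = true := by decide +kernel
theorem c_act18_6 : allRange (fun i => Nat.beq (actR18 i) i) 90000 15000 = true := by decide +kernel
theorem c_act18_7 : allRange (fun i => Nat.beq (actR18 i) i) 105000 15000 = true := by decide +kernel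
theorem c_act18_8 : allRange (fun i => Nat.beq (actR18 i) i) 120000 15000 = true := by decide +kernel
theorem c_act18_9 : allRange (fun i => Nat.beq (actR18 i) i) 135000 15000 = true := by decide +kernel
theorem c_act18_10 : allRange (fun i => Nat.beq (actR18 i) i) 150000 15000 = true := by decide +kernel
theorem c_act18_11 : allRange (fun i => Nat.beq (actR18 i) i) 165000 15000 = true := by decide +kernel
theorem c_act18_12 : allRange (fun i => Nat.beq (actR18 i) i) 180000 15000 = true := by decide +kernel
theorem c_act18_13 : allRange (fun i => Nat.beq (actR18 i) i) 195000 15000 = true := by decide +kernel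
theorem c_act18_14 : allRange (fun i => Nat.beq (actR18 i) i) 210000 15000 = true := by decide +kernel
theorem c_act18_15 : allRange (fun i => Nat.beq (actR18 i) i) 225000 15000 = true := by decide +kernel
theorem c_act18_16 : allRange (fun i => Nat.beq (actR18 i) i) 240000 15000 = true := by decide +kernel
theorem c_act18_17 : allRange (fun i => Nat.beq (actR18 i) i) 255000 15000 = true := by decide +kernel
theorem c_act18_18 : allRange (fun i => Nat.beq (actR18 i) i) 270000 15000 = true := by decide +kernel
theorem c_act18_19 : allRange (fun i => Nat.beq (actR18 i) i) 285000 15000 = true := by decide +kernel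
theorem c_act18_20 : allRange (fun i => Nat.beq (actR18 i) i) 300000 6936 = true := by decide +kernel
theorem c_act19_0 : allRange (fun i => Nat.beq (actR19 i) i) 0 15000 = true := by decide +kernel
theorem c_act19_1 : allRange (fun i => Nat.beq (actR19 i) i) 15000 15000 = true := by decide +kernel
theorem c_act19_2 : allRange (fun i => Nat.beq (actR19 i) i) 30000 15000 = true := by decide +kernel
theorem c_act19_3 : allRange (fun i => Nat.beq (actR19 i) i) 45000 15000 = true := by decide +kernel
theorem c_act19_4 : allRange (fun i => Nat.beq (actR19 i) i) 60000 15000 = true := by decide +kernel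
theorem c_act19_5 : allRange (fun i => Nat.beq (actR19 i) i) 75000 15000 = true := by decide +kernel
theorem c_act19_6 : allRange (fun i => Nat.beq (actR19 i) i) 90000 15000 = true := by decide +kernel
theorem c_act19_7 : allRange (fun i => Nat.beq (actR19 i) i) 105000 15000 = true := by decide +kernel
theorem c_act19_8 : allRange (fun i => Nat.beq (actR19 i) i) 120000 15000 = true := by decide +kernel
theorem c_act19_9 : allRange (fun i => Nat.beq (actR19 i) i) 135000 15000 = true := by decide +kernel
theorem c_act19_10 : allRange (fun i => Nat.beq (actR19 i) i) 150000 15000 = true := by decide +kernel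
theorem c_act19_11 : allRange (fun i => Nat.beq (actR19 i) i) 165000 15000 = true := by decide +kernel
theorem c_act19_12 : allRange (fun i => Nat.beq (actR19 i) i) 180000 15000 = true := by decide +kernel
theorem c_act19_13 : allRange (fun i => Nat.beq (actR19 i) i) 195000 15000 = true := by decide +kernel
theorem c_act19_14 : allRange (fun i => Nat.beq (actR19 i) i) 210000 15000 = true := by decide +kernel
theorem c_act19_15 : allRange (fun i => Nat.beq (actR19 i) i) 225000 15000 = true := by decide +kernel
theorem c_act19_16 : allRange (fun i => Nat.beq (actR19 i) i) 240000 15000 = true := by decide +kernel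
theorem c_act19_17 : allRange (fun i => Nat.beq (actR19 i) i) 255000 15000 = true := by decide +kernel
theorem c_act19_18 : allRange (fun i => Nat.beq (actR19 i) i) 270000 15000 = true := by decide +kernel
theorem c_act19_19 : allRange (fun i => Nat.beq (actR19 i) i) 285000 15000 = true := by decide +kernel
theorem c_act19_20 : allRange (fun i => Nat.beq (actR19 i) i) 300000 6936 = true := by decide +kernel
theorem c_act20_0 : allRange (fun i => Nat.beq (actR20 i) i) 0 15000 = true := by decide +kernel

end Cfsg.Agent.Lib.Helper4.TCD.Fi24a
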