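import Cfsg.Agent.Lib.Helper4.TCD_Fi24a_Acc

namespace Cfsg.Agent.Lib.Helper4.TCD.Fi24a

open Cfsg.Agent.Lib.Helper4.TC

set_option maxRecDepth 100000
set_option Elab.async false

theorem c_act20_1 : allRange (fun i => Nat.beq (actR20 i) i) 15000 15000 = true := by decide +kernel
theorem c_act20_2 : allRange (fun i => Nat.beq (actR20 i) i) 30000 15000 = true := by decide +kernel
theorem c_act20_3 : allRange (fun i => Nat.beq (actR20 i) i) 45000 15000 = true := by decide +kernel
theorem c_act20_4 : allRange (fun i => Nat.beq (actR20 i) i) 60000 15000 = true := by decide +kernel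
theorem c_act20_5 : allRange (fun i => Nat.beq (actR20 i) i) 75000 15000 = true := by decide +kernel
theorem c_act20_6 : allRange (fun i => Nat.beq (actR20 i) i) 90000 15000 = true := by decide +kernel
theorem c_act20_7 : allRange (fun i => Nat.beq (actR20 i) i) 105000 15000 = true := by decide +kernel
theorem c_act20_8 : allRange (fun i => Nat.beq (actR20 i) i) 120000 15000 = true := by decide +kernel
theorem c_act20_9 : allRange (fun i => Nat.beq (actR20 i) i) 135000 15000 = true := by decide +kernel
theorem c_act20_10 : allRange (fun i => Nat.beq (actR20 i) i) 150000 15000 = true := by decide +kernel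
theorem c_act20_11 : allRange (fun i => Nat.beq (actR20 i) i) 165000 15000 = true := by decide +kernel
theorem c_act20_12 : allRange (fun i => Nat.beq (actR20 i) i) 180000 15000 = true := by decide +kernel
theorem c_act20_13 : allRange (fun i => Nat.beq (actR20 i) i) 195000 15000 = true := by decide +kernel
theorem c_act20_14 : allRange (fun i => Nat.beq (actR20 i) i) 210000 15000 = true := by decide +kernel
theorem c_act20_15 : allRange (fun i => Nat.beq (actR20 i) i) 225000 15000 = true := by decide +kernel
theorem c_act20_16 : allRange (fun i => Nat.beq (actR20 i) i) 240000 15000 = true := by decide +kernel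
theorem c_act20_17 : allRange (fun i => Nat.beq (actR20 i) i) 255000 15000 = true := by decide +kernel
theorem c_act20_18 : allRange (fun i => Nat.beq (actR20 i) i) 270000 15000 = true := by decide +kernel
theorem c_act20_19 : allRange (fun i => Nat.beq (actR20 i) i) 285000 15000 = true := by decide +kernel
theorem c_act20_20 : allRange (fun i => Nat.beq (actR20 i) i) 300000 6936 = true := by decide +kernel
theorem c_act21_0 : allRange (fun i => Nat.beq (actR21 i) i) 0 15000 = true := by decide +kernel
theorem c_act21_1 : allRange (fun i => Nat.beq (actR21 i) i) 15000 15000 = true := by decide +kernel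
theorem c_act21_2 : allRange (fun i => Nat.beq (actR21 i) i) 30000 15000 = true := by decide +kernel
theorem c_act21_3 : allRange (fun i => Nat.beq (actR21 i) i) 45000 15000 = true := by decide +kernel
theorem c_act21_4 : allRange (fun i => Nat.beq (actR21 i) i) 60000 15000 = true := by decide +kernel
theorem c_act21_5 : allRange (fun i => Nat.beq (actR21 i) i) 75000 15000 = true := by decide +kernel
theorem c_act21_6 : allRange (fun i => Nat.beq (actR21 i) i) 90000 15000 = true := by decide +kernel
theorem c_act21_7 : allRange (fun i => Nat.beq (actR21 i) i) 105000 15000 = true := by decide +kernel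
theorem c_act21_8 : allRange (fun i => Nat.beq (actR21 i) i) 120000 15000 = true := by decide +kernel
theorem c_act21_9 : allRange (fun i => Nat.beq (actR21 i) i) 135000 15000 = true := by decide +kernel
theorem c_act21_10 : allRange (fun i => Nat.beq (actR21 i) i) 150000 15000 = true := by decide +kernel
theorem c_act21_11 : allRange (fun i => Nat.beq (actR21 i) i) 165000 15000 = true := by decide +kernel
theorem c_act21_12 : allRange (fun i => Nat.beq (actR21 i) i) 180000 15000 = true := by decide +kernel
theorem c_act21_13 : allRange (fun i => Nat.beq (actR21 i) i) 195000 15000 = true := by decide +kernel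
theorem c_act21_14 : allRange (fun i => Nat.beq (actR21 i) i) 210000 15000 = true := by decide +kernel
theorem c_act21_15 : allRange (fun i => Nat.beq (actR21 i) i) 225000 15000 = true := by decide +kernel
theorem c_act21_16 : allRange (fun i => Nat.beq (actR21 i) i) 240000 15000 = true := by decide +kernel
theorem c_act21_17 : allRange (fun i => Nat.beq (actR21 i) i) 255000 15000 = true := by decide +kernel
theorem c_act21_18 : allRange (fun i => Nat.beq (actR21 i) i) 270000 15000 = true := by decide +kernel
theorem c_act21_19 : allRange (fun i => Nat.beq (actR21 i) i) 285000 15000 = true := by decide +kernel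
theorem c_act21_20 : allRange (fun i => Nat.beq (actR21 i) i) 300000 6936 = true := by decide +kernel
theorem c_act22_0 : allRange (fun i => Nat.beq (actR22 i) i) 0 15000 = true := by decide +kernel
theorem c_act22_1 : allRange (fun i => Nat.beq (actR22 i) i) 15000 15000 = true := by decide +kernel
theorem c_act22_2 : allRange (fun i => Nat.beq (actR22 i) i) 30000 15000 = true := by decide +kernel
theorem c_act22_3 : allRange (fun i => Nat.beq (actR22 i) i) 45000 15000 = true := by decide +kernel
theorem c_act22_4 : allRange (fun i => Nat.beq (actR22 i) i) 60000 15000 = true := by decide +kernel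
theorem c_act22_5 : allRange (fun i => Nat.beq (actR22 i) i) 75000 15000 = true := by decide +kernel
theorem c_act22_6 : allRange (fun i => Nat.beq (actR22 i) i) 90000 15000 = true := by decide +kernel
theorem c_act22_7 : allRange (fun i => Nat.beq (actR22 i) i) 105000 15000 = true := by decide +kernel
theorem c_act22_8 : allRange (fun i => Nat.beq (actR22 i) i) 120000 15000 = true := by decide +kernel
theorem c_act22_9 : allRange (fun i => Nat.beq (actR22 i) i) 135000 15000 = true := by decide +kernel

end Cfsg.Agent.Lib.Helper4.TCD.Fi24a
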