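import Cfsg.Agent.Lib.Helper4.TCD_Fi24a_Acc

namespace Cfsg.Agent.Lib.Helper4.TCD.Fi24a

open Cfsg.Agent.Lib.Helper4.TC

set_option maxRecDepth 100000
set_option Elab.async false

theorem c_act22_10 : allRange (fun i => Nat.beq (actR22 i) i) 150000 15000 = true := by decide +kernel
theorem c_act22_11 : allRange (fun i => Nat.beq (actR22 i) i) 165000 15000 = true := by decide +kernel
theorem c_act22_12 : allRange (fun i => Nat.beq (actR22 i) i) 180000 15000 = true := by decide +kernel
theorem c_act22_13 : allRange (fun i => Nat.beq (actR22 i) i) 195000 15000 = true := by decide +kernel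
theorem c_act22_14 : allRange (fun i => Nat.beq (actR22 i) i) 210000 15000 = true := by decide +kernel
theorem c_act22_15 : allRange (fun i => Nat.beq (actR22 i) i) 225000 15000 = true := by decide +kernel
theorem c_act22_16 : allRange (fun i => Nat.beq (actR22 i) i) 240000 15000 = true := by decide +kernel
theorem c_act22_17 : allRange (fun i => Nat.beq (actR22 i) i) 255000 15000 = true := by decide +kernel
theorem c_act22_18 : allRange (fun i => Nat.beq (actR22 i) i) 270000 15000 = true := by decide +kernel
theorem c_act22_19 : allRange (fun i => Nat.beq (actR22 i) i) 285000 15000 = true := by decide +kernel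
theorem c_act22_20 : allRange (fun i => Nat.beq (actR22 i) i) 300000 6936 = true := by decide +kernel
theorem c_act23_0 : allRange (fun i => Nat.beq (actR23 i) i) 0 30000 = true := by decide +kernel
theorem c_act23_1 : allRange (fun i => Nat.beq (actR23 i) i) 30000 30000 = true := by decide +kernel
theorem c_act23_2 : allRange (fun i => Nat.beq (actR23 i) i) 60000 30000 = true := by decide +kernel
theorem c_act23_3 : allRange (fun i => Nat.beq (actR23 i) i) 90000 30000 = true := by decide +kernel
theorem c_act23_4 : allRange (fun i => Nat.beq (actR23 i) i) 120000 30000 = true := by decide +kernel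
theorem c_act23_5 : allRange (fun i => Nat.beq (actR23 i) i) 150000 30000 = true := by decide +kernel
theorem c_act23_6 : allRange (fun i => Nat.beq (actR23 i) i) 180000 30000 = true := by decide +kernel
theorem c_act23_7 : allRange (fun i => Nat.beq (actR23 i) i) 210000 30000 = true := by decide +kernel
theorem c_act23_8 : allRange (fun i => Nat.beq (actR23 i) i) 240000 30000 = true := by decide +kernel
theorem c_act23_9 : allRange (fun i => Nat.beq (actR23 i) i) 270000 30000 = true := by decide +kernel
theorem c_act23_10 : allRange (fun i => Nat.beq (actR23 i) i) 300000 6936 = true := by decide +kernel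
theorem c_act24_0 : allRange (fun i => Nat.beq (actR24 i) i) 0 10000 = true := by decide +kernel
theorem c_act24_1 : allRange (fun i => Nat.beq (actR24 i) i) 10000 10000 = true := by decide +kernel
theorem c_act24_2 : allRange (fun i => Nat.beq (actR24 i) i) 20000 10000 = true := by decide +kernel
theorem c_act24_3 : allRange (fun i => Nat.beq (actR24 i) i) 30000 10000 = true := by decide +kernel
theorem c_act24_4 : allRange (fun i => Nat.beq (actR24 i) i) 40000 10000 = true := by decide +kernel
theorem c_act24_5 : allRange (fun i => Nat.beq (actR24 i) i) 50000 10000 = true := by decide +kernel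
theorem c_act24_6 : allRange (fun i => Nat.beq (actR24 i) i) 60000 10000 = true := by decide +kernel
theorem c_act24_7 : allRange (fun i => Nat.beq (actR24 i) i) 70000 10000 = true := by decide +kernel
theorem c_act24_8 : allRange (fun i => Nat.beq (actR24 i) i) 80000 10000 = true := by decide +kernel
theorem c_act24_9 : allRange (fun i => Nat.beq (actR24 i) i) 90000 10000 = true := by decide +kernel
theorem c_act24_10 : allRange (fun i => Nat.beq (actR24 i) i) 100000 10000 = true := by decide +kernel
theorem c_act24_11 : allRange (fun i => Nat.beq (actR24 i) i) 110000 10000 = true := by decide +kernel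
theorem c_act24_12 : allRange (fun i => Nat.beq (actR24 i) i) 120000 10000 = true := by decide +kernel
theorem c_act24_13 : allRange (fun i => Nat.beq (actR24 i) i) 130000 10000 = true := by decide +kernel
theorem c_act24_14 : allRange (fun i => Nat.beq (actR24 i) i) 140000 10000 = true := by decide +kernel
theorem c_act24_15 : allRange (fun i => Nat.beq (actR24 i) i) 150000 10000 = true := by decide +kernel
theorem c_act24_16 : allRange (fun i => Nat.beq (actR24 i) i) 160000 10000 = true := by decide +kernel
theorem c_act24_17 : allRange (fun i => Nat.beq (actR24 i) i) 170000 10000 = true := by decide +kernel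
theorem c_act24_18 : allRange (fun i => Nat.beq (actR24 i) i) 180000 10000 = true := by decide +kernel
theorem c_act24_19 : allRange (fun i => Nat.beq (actR24 i) i) 190000 10000 = true := by decide +kernel
theorem c_act24_20 : allRange (fun i => Nat.beq (actR24 i) i) 200000 10000 = true := by decide +kernel
theorem c_act24_21 : allRange (fun i => Nat.beq (actR24 i) i) 210000 10000 = true := by decide +kernel
theorem c_act24_22 : allRange (fun i => Nat.beq (actR24 i) i) 220000 10000 = true := by decide +kernel
theorem c_act24_23 : allRange (fun i => Nat.beq (actR24 i) i) 230000 10000 = true := by decide +kernel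
theorem c_act24_24 : allRange (fun i => Nat.beq (actR24 i) i) 240000 10000 = true := by decide +kernel
theorem c_act24_25 : allRange (fun i => Nat.beq (actR24 i) i) 250000 10000 = true := by decide +kernel
theorem c_act24_26 : allRange (fun i => Nat.beq (actR24 i) i) 260000 10000 = true := by decide +kernel
theorem c_act24_27 : allRange (fun i => Nat.beq (actR24 i) i) 270000 10000 = true := by decide +kernel
theorem c_act24_28 : allRange (fun i => Nat.beq (actR24 i) i) 280000 10000 = true := by decide +kernel

end Cfsg.Agent.Lib.Helper4.TCD.Fi24a
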