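import Cfsg.Agent.Lib.Helper4.TCD_Fi24a_Acc

namespace Cfsg.Agent.Lib.Helper4.TCD.Fi24a

open Cfsg.Agent.Lib.Helper4.TC

set_option maxRecDepth 100000
set_option Elab.async false

theorem c_act24_29 : allRange (fun i => Nat.beq (actR24 i) i) 290000 10000 = true := by decide +kernel
theorem c_act24_30 : allRange (fun i => Nat.beq (actR24 i) i) 300000 6936 = true := by decide +kernel
theorem c_act25_0 : allRange (fun i => Nat.beq (actR25 i) i) 0 15000 = true := by decide +kernel
theorem c_act25_1 : allRange (fun i => Nat.beq (actR25 i) i) 15000 15000 = true := by decide +kernel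
theorem c_act25_2 : allRange (fun i => Nat.beq (actR25 i) i) 30000 15000 = true := by decide +kernel
theorem c_act25_3 : allRange (fun i => Nat.beq (actR25 i) i) 45000 15000 = true := by decide +kernel
theorem c_act25_4 : allRange (fun i => Nat.beq (actR25 i) i) 60000 15000 = true := by decide +kernel
theorem c_act25_5 : allRange (fun i => Nat.beq (actR25 i) i) 75000 15000 = true := by decide +kernel
theorem c_act25_6 : allRange (fun i => Nat.beq (actR25 i) i) 90000 15000 = true := by decide +kernel
theorem c_act25_7 : allRange (fun i => Nat.beq (actR25 i) i) 105000 15000 = true := by decide +kernel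
theorem c_act25_8 : allRange (fun i => Nat.beq (actR25 i) i) 120000 15000 = true := by decide +kernel
theorem c_act25_9 : allRange (fun i => Nat.beq (actR25 i) i) 135000 15000 = true := by decide +kernel
theorem c_act25_10 : allRange (fun i => Nat.beq (actR25 i) i) 150000 15000 = true := by decide +kernel
theorem c_act25_11 : allRange (fun i => Nat.beq (actR25 i) i) 165000 15000 = true := by decide +kernel
theorem c_act25_12 : allRange (fun i => Nat.beq (actR25 i) i) 180000 15000 = true := by decide +kernel
theorem c_act25_13 : allRange (fun i => Nat.beq (actR25 i) i) 195000 15000 = true := by decide +kernel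
theorem c_act25_14 : allRange (fun i => Nat.beq (actR25 i) i) 210000 15000 = true := by decide +kernel
theorem c_act25_15 : allRange (fun i => Nat.beq (actR25 i) i) 225000 15000 = true := by decide +kernel
theorem c_act25_16 : allRange (fun i => Nat.beq (actR25 i) i) 240000 15000 = true := by decide +kernel
theorem c_act25_17 : allRange (fun i => Nat.beq (actR25 i) i) 255000 15000 = true := by decide +kernel
theorem c_act25_18 : allRange (fun i => Nat.beq (actR25 i) i) 270000 15000 = true := by decide +kernel
theorem c_act25_19 : allRange (fun i => Nat.beq (actR25 i) i) 285000 15000 = true := by decide +kernel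
theorem c_act25_20 : allRange (fun i => Nat.beq (actR25 i) i) 300000 6936 = true := by decide +kernel
theorem c_act26_0 : allRange (fun i => Nat.beq (actR26 i) i) 0 15000 = true := by decide +kernel
theorem c_act26_1 : allRange (fun i => Nat.beq (actR26 i) i) 15000 15000 = true := by decide +kernel
theorem c_act26_2 : allRange (fun i => Nat.beq (actR26 i) i) 30000 15000 = true := by decide +kernel
theorem c_act26_3 : allRange (fun i => Nat.beq (actR26 i) i) 45000 15000 = true := by decide +kernel
theorem c_act26_4 : allRange (fun i => Nat.beq (actR26 i) i) 60000 15000 = true := by decide +kernel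
theorem c_act26_5 : allRange (fun i => Nat.beq (actR26 i) i) 75000 15000 = true := by decide +kernel
theorem c_act26_6 : allRange (fun i => Nat.beq (actR26 i) i) 90000 15000 = true := by decide +kernel
theorem c_act26_7 : allRange (fun i => Nat.beq (actR26 i) i) 105000 15000 = true := by decide +kernel
theorem c_act26_8 : allRange (fun i => Nat.beq (actR26 i) i) 120000 15000 = true := by decide +kernel
theorem c_act26_9 : allRange (fun i => Nat.beq (actR26 i) i) 135000 15000 = true := by decide +kernel
theorem c_act26_10 : allRange (fun i => Nat.beq (actR26 i) i) 150000 15000 = true := by decide +kernel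
theorem c_act26_11 : allRange (fun i => Nat.beq (actR26 i) i) 165000 15000 = true := by decide +kernel
theorem c_act26_12 : allRange (fun i => Nat.beq (actR26 i) i) 180000 15000 = true := by decide +kernel
theorem c_act26_13 : allRange (fun i => Nat.beq (actR26 i) i) 195000 15000 = true := by decide +kernel
theorem c_act26_14 : allRange (fun i => Nat.beq (actR26 i) i) 210000 15000 = true := by decide +kernel
theorem c_act26_15 : allRange (fun i => Nat.beq (actR26 i) i) 225000 15000 = true := by decide +kernel
theorem c_act26_16 : allRange (fun i => Nat.beq (actR26 i) i) 240000 15000 = true := by decide +kernel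
theorem c_act26_17 : allRange (fun i => Nat.beq (actR26 i) i) 255000 15000 = true := by decide +kernel
theorem c_act26_18 : allRange (fun i => Nat.beq (actR26 i) i) 270000 15000 = true := by decide +kernel
theorem c_act26_19 : allRange (fun i => Nat.beq (actR26 i) i) 285000 15000 = true := by decide +kernel
theorem c_act26_20 : allRange (fun i => Nat.beq (actR26 i) i) 300000 6936 = true := by decide +kernel
theorem c_act27_0 : allRange (fun i => Nat.beq (actR27 i) i) 0 15000 = true := by decide +kernel
theorem c_act27_1 : allRange (fun i => Nat.beq (actR27 i) i) 15000 15000 = true := by decide +kernel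
theorem c_act27_2 : allRange (fun i => Nat.beq (actR27 i) i) 30000 15000 = true := by decide +kernel
theorem c_act27_3 : allRange (fun i => Nat.beq (actR27 i) i) 45000 15000 = true := by decide +kernel
theorem c_act27_4 : allRange (fun i => Nat.beq (actR27 i) i) 60000 15000 = true := by decide +kernel
theorem c_act27_5 : allRange (fun i => Nat.beq (actR27 i) i) 75000 15000 = true := by decide +kernel
theorem c_act27_6 : allRange (fun i => Nat.beq (actR27 i) i) 90000 15000 = true := by decide +kernel

end Cfsg.Agent.Lib.Helper4.TCD.Fi24a
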