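import Cfsg.Agent.Lib.Helper4.TCD_Fi24a_Acc

namespace Cfsg.Agent.Lib.Helper4.TCD.Fi24a

open Cfsg.Agent.Lib.Helper4.TC

set_option maxRecDepth 100000
set_option Elab.async false

theorem c_act27_7 : allRange (fun i => Nat.beq (actR27 i) i) 105000 15000 = true := by decide +kernel
theorem c_act27_8 : allRange (fun i => Nat.beq (actR27 i) i) 120000 15000 = true := by decide +kernel
theorem c_act27_9 : allRange (fun i => Nat.beq (actR27 i) i) 135000 15000 = true := by decide +kernel
theorem c_act27_10 : allRange (fun i => Nat.beq (actR27 i) i) 150000 15000 = true := by decide +kernel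
theorem c_act27_11 : allRange (fun i => Nat.beq (actR27 i) i) 165000 15000 = true := by decide +kernel
theorem c_act27_12 : allRange (fun i => Nat.beq (actR27 i) i) 180000 15000 = true := by decide +kernel
theorem c_act27_13 : allRange (fun i => Nat.beq (actR27 i) i) 195000 15000 = true := by decide +kernel
theorem c_act27_14 : allRange (fun i => Nat.beq (actR27 i) i) 210000 15000 = true := by decide +kernel
theorem c_act27_15 : allRange (fun i => Nat.beq (actR27 i) i) 225000 15000 = true := by decide +kernel
theorem c_act27_16 : allRange (fun i => Nat.beq (actR27 i) i) 240000 15000 = true := by decide +kernel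
theorem c_act27_17 : allRange (fun i => Nat.beq (actR27 i) i) 255000 15000 = true := by decide +kernel
theorem c_act27_18 : allRange (fun i => Nat.beq (actR27 i) i) 270000 15000 = true := by decide +kernel
theorem c_act27_19 : allRange (fun i => Nat.beq (actR27 i) i) 285000 15000 = true := by decide +kernel
theorem c_act27_20 : allRange (fun i => Nat.beq (actR27 i) i) 300000 6936 = true := by decide +kernel
theorem c_act28_0 : allRange (fun i => Nat.beq (actR28 i) i) 0 15000 = true := by decide +kernel
theorem c_act28_1 : allRange (fun i => Nat.beq (actR28 i) i) 15000 15000 = true := by decide +kernel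
theorem c_act28_2 : allRange (fun i => Nat.beq (actR28 i) i) 30000 15000 = true := by decide +kernel
theorem c_act28_3 : allRange (fun i => Nat.beq (actR28 i) i) 45000 15000 = true := by decide +kernel
theorem c_act28_4 : allRange (fun i => Nat.beq (actR28 i) i) 60000 15000 = true := by decide +kernel
theorem c_act28_5 : allRange (fun i => Nat.beq (actR28 i) i) 75000 15000 = true := by decide +kernel
theorem c_act28_6 : allRange (fun i => Nat.beq (actR28 i) i) 90000 15000 = true := by decide +kernel
theorem c_act28_7 : allRange (fun i => Nat.beq (actR28 i) i) 105000 15000 = true := by decide +kernel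
theorem c_act28_8 : allRange (fun i => Nat.beq (actR28 i) i) 120000 15000 = true := by decide +kernel
theorem c_act28_9 : allRange (fun i => Nat.beq (actR28 i) i) 135000 15000 = true := by decide +kernel
theorem c_act28_10 : allRange (fun i => Nat.beq (actR28 i) i) 150000 15000 = true := by decide +kernel
theorem c_act28_11 : allRange (fun i => Nat.beq (actR28 i) i) 165000 15000 = true := by decide +kernel
theorem c_act28_12 : allRange (fun i => Nat.beq (actR28 i) i) 180000 15000 = true := by decide +kernel
theorem c_act28_13 : allRange (fun i => Nat.beq (actR28 i) i) 195000 15000 = true := by decide +kernel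
theorem c_act28_14 : allRange (fun i => Nat.beq (actR28 i) i) 210000 15000 = true := by decide +kernel
theorem c_act28_15 : allRange (fun i => Nat.beq (actR28 i) i) 225000 15000 = true := by decide +kernel
theorem c_act28_16 : allRange (fun i => Nat.beq (actR28 i) i) 240000 15000 = true := by decide +kernel
theorem c_act28_17 : allRange (fun i => Nat.beq (actR28 i) i) 255000 15000 = true := by decide +kernel
theorem c_act28_18 : allRange (fun i => Nat.beq (actR28 i) i) 270000 15000 = true := by decide +kernel
theorem c_act28_19 : allRange (fun i => Nat.beq (actR28 i) i) 285000 15000 = true := by decide +kernel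
theorem c_act28_20 : allRange (fun i => Nat.beq (actR28 i) i) 300000 6936 = true := by decide +kernel
theorem c_act29_0 : allRange (fun i => Nat.beq (actR29 i) i) 0 15000 = true := by decide +kernel
theorem c_act29_1 : allRange (fun i => Nat.beq (actR29 i) i) 15000 15000 = true := by decide +kernel
theorem c_act29_2 : allRange (fun i => Nat.beq (actR29 i) i) 30000 15000 = true := by decide +kernel
theorem c_act29_3 : allRange (fun i => Nat.beq (actR29 i) i) 45000 15000 = true := by decide +kernel
theorem c_act29_4 : allRange (fun i => Nat.beq (actR29 i) i) 60000 15000 = true := by decide +kernel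
theorem c_act29_5 : allRange (fun i => Nat.beq (actR29 i) i) 75000 15000 = true := by decide +kernel
theorem c_act29_6 : allRange (fun i => Nat.beq (actR29 i) i) 90000 15000 = true := by decide +kernel
theorem c_act29_7 : allRange (fun i => Nat.beq (actR29 i) i) 105000 15000 = true := by decide +kernel
theorem c_act29_8 : allRange (fun i => Nat.beq (actR29 i) i) 120000 15000 = true := by decide +kernel
theorem c_act29_9 : allRange (fun i => Nat.beq (actR29 i) i) 135000 15000 = true := by decide +kernel
theorem c_act29_10 : allRange (fun i => Nat.beq (actR29 i) i) 150000 15000 = true := by decide +kernel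
theorem c_act29_11 : allRange (fun i => Nat.beq (actR29 i) i) 165000 15000 = true := by decide +kernel
theorem c_act29_12 : allRange (fun i => Nat.beq (actR29 i) i) 180000 15000 = true := by decide +kernel
theorem c_act29_13 : allRange (fun i => Nat.beq (actR29 i) i) 195000 15000 = true := by decide +kernel
theorem c_act29_14 : allRange (fun i => Nat.beq (actR29 i) i) 210000 15000 = true := by decide +kernel
theorem c_act29_15 : allRange (fun i => Nat.beq (actR29 i) i) 225000 15000 = true := by decide +kernel

end Cfsg.Agent.Lib.Helper4.TCD.Fi24a
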