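import Cfsg.Agent.Lib.Helper4.TCD_Fi24a_Acc

namespace Cfsg.Agent.Lib.Helper4.TCD.Fi24a

open Cfsg.Agent.Lib.Helper4.TC

set_option maxRecDepth 100000
set_option Elab.async false

theorem c_act29_16 : allRange (fun i => Nat.beq (actR29 i) i) 240000 15000 = true := by decide +kernel
theorem c_act29_17 : allRange (fun i => Nat.beq (actR29 i) i) 255000 15000 = true := by decide +kernel
theorem c_act29_18 : allRange (fun i => Nat.beq (actR29 i) i) 270000 15000 = true := by decide +kernel
theorem c_act29_19 : allRange (fun i => Nat.beq (actR29 i) i) 285000 15000 = true := by decide +kernel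
theorem c_act29_20 : allRange (fun i => Nat.beq (actR29 i) i) 300000 6936 = true := by decide +kernel
theorem c_act30_0 : allRange (fun i => Nat.beq (actR30 i) i) 0 15000 = true := by decide +kernel
theorem c_act30_1 : allRange (fun i => Nat.beq (actR30 i) i) 15000 15000 = true := by decide +kernel
theorem c_act30_2 : allRange (fun i => Nat.beq (actR30 i) i) 30000 15000 = true := by decide +kernel
theorem c_act30_3 : allRange (fun i => Nat.beq (actR30 i) i) 45000 15000 = true := by decide +kernel
theorem c_act30_4 : allRange (fun i => Nat.beq (actR30 i) i) 60000 15000 = true := by decide +kernel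
theorem c_act30_5 : allRange (fun i => Nat.beq (actR30 i) i) 75000 15000 = true := by decide +kernel
theorem c_act30_6 : allRange (fun i => Nat.beq (actR30 i) i) 90000 15000 = true := by decide +kernel
theorem c_act30_7 : allRange (fun i => Nat.beq (actR30 i) i) 105000 15000 = true := by decide +kernel
theorem c_act30_8 : allRange (fun i => Nat.beq (actR30 i) i) 120000 15000 = true := by decide +kernel
theorem c_act30_9 : allRange (fun i => Nat.beq (actR30 i) i) 135000 15000 = true := by decide +kernel
theorem c_act30_10 : allRange (fun i => Nat.beq (actR30 i) i) 150000 15000 = true := by decide +kernel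
theorem c_act30_11 : allRange (fun i => Nat.beq (actR30 i) i) 165000 15000 = true := by decide +kernel
theorem c_act30_12 : allRange (fun i => Nat.beq (actR30 i) i) 180000 15000 = true := by decide +kernel
theorem c_act30_13 : allRange (fun i => Nat.beq (actR30 i) i) 195000 15000 = true := by decide +kernel
theorem c_act30_14 : allRange (fun i => Nat.beq (actR30 i) i) 210000 15000 = true := by decide +kernel
theorem c_act30_15 : allRange (fun i => Nat.beq (actR30 i) i) 225000 15000 = true := by decide +kernel
theorem c_act30_16 : allRange (fun i => Nat.beq (actR30 i) i) 240000 15000 = true := by decide +kernel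
theorem c_act30_17 : allRange (fun i => Nat.beq (actR30 i) i) 255000 15000 = true := by decide +kernel
theorem c_act30_18 : allRange (fun i => Nat.beq (actR30 i) i) 270000 15000 = true := by decide +kernel
theorem c_act30_19 : allRange (fun i => Nat.beq (actR30 i) i) 285000 15000 = true := by decide +kernel
theorem c_act30_20 : allRange (fun i => Nat.beq (actR30 i) i) 300000 6936 = true := by decide +kernel
theorem c_act31_0 : allRange (fun i => Nat.beq (actR31 i) i) 0 15000 = true := by decide +kernel
theorem c_act31_1 : allRange (fun i => Nat.beq (actR31 i) i) 15000 15000 = true := by decide +kernel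
theorem c_act31_2 : allRange (fun i => Nat.beq (actR31 i) i) 30000 15000 = true := by decide +kernel
theorem c_act31_3 : allRange (fun i => Nat.beq (actR31 i) i) 45000 15000 = true := by decide +kernel
theorem c_act31_4 : allRange (fun i => Nat.beq (actR31 i) i) 60000 15000 = true := by decide +kernel
theorem c_act31_5 : allRange (fun i => Nat.beq (actR31 i) i) 75000 15000 = true := by decide +kernel
theorem c_act31_6 : allRange (fun i => Nat.beq (actR31 i) i) 90000 15000 = true := by decide +kernel
theorem c_act31_7 : allRange (fun i => Nat.beq (actR31 i) i) 105000 15000 = true := by decide +kernel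
theorem c_act31_8 : allRange (fun i => Nat.beq (actR31 i) i) 120000 15000 = true := by decide +kernel
theorem c_act31_9 : allRange (fun i => Nat.beq (actR31 i) i) 135000 15000 = true := by decide +kernel
theorem c_act31_10 : allRange (fun i => Nat.beq (actR31 i) i) 150000 15000 = true := by decide +kernel
theorem c_act31_11 : allRange (fun i => Nat.beq (actR31 i) i) 165000 15000 = true := by decide +kernel
theorem c_act31_12 : allRange (fun i => Nat.beq (actR31 i) i) 180000 15000 = true := by decide +kernel
theorem c_act31_13 : allRange (fun i => Nat.beq (actR31 i) i) 195000 15000 = true := by decide +kernel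
theorem c_act31_14 : allRange (fun i => Nat.beq (actR31 i) i) 210000 15000 = true := by decide +kernel
theorem c_act31_15 : allRange (fun i => Nat.beq (actR31 i) i) 225000 15000 = true := by decide +kernel
theorem c_act31_16 : allRange (fun i => Nat.beq (actR31 i) i) 240000 15000 = true := by decide +kernel
theorem c_act31_17 : allRange (fun i => Nat.beq (actR31 i) i) 255000 15000 = true := by decide +kernel
theorem c_act31_18 : allRange (fun i => Nat.beq (actR31 i) i) 270000 15000 = true := by decide +kernel
theorem c_act31_19 : allRange (fun i => Nat.beq (actR31 i) i) 285000 15000 = true := by decide +kernel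
theorem c_act31_20 : allRange (fun i => Nat.beq (actR31 i) i) 300000 6936 = true := by decide +kernel
theorem c_act32_0 : allRange (fun i => Nat.beq (actR32 i) i) 0 15000 = true := by decide +kernel
theorem c_act32_1 : allRange (fun i => Nat.beq (actR32 i) i) 15000 15000 = true := by decide +kernel
theorem c_act32_2 : allRange (fun i => Nat.beq (actR32 i) i) 30000 15000 = true := by decide +kernel
theorem c_act32_3 : allRange (fun i => Nat.beq (actR32 i) i) 45000 15000 = true := by decide +kernel

end Cfsg.Agent.Lib.Helper4.TCD.Fi24a
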