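import Cfsg.Agent.Lib.Helper4.TCD_Fi24a_Acc

namespace Cfsg.Agent.Lib.Helper4.TCD.Fi24a

open Cfsg.Agent.Lib.Helper4.TC

set_option maxRecDepth 100000
set_option Elab.async false

theorem c_act34_23 : allRange (fun i => Nat.beq (actR34 i) i) 230000 10000 = true := by decide +kernel
theorem c_act34_24 : allRange (fun i => Nat.beq (actR34 i) i) 240000 10000 = true := by decide +kernel
theorem c_act34_25 : allRange (fun i => Nat.beq (actR34 i) i) 250000 10000 = true := by decide +kernel
theorem c_act34_26 : allRange (fun i => Nat.beq (actR34 i) i) 260000 10000 = true := by decide +kernel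
theorem c_act34_27 : allRange (fun i => Nat.beq (actR34 i) i) 270000 10000 = true := by decide +kernel
theorem c_act34_28 : allRange (fun i => Nat.beq (actR34 i) i) 280000 10000 = true := by decide +kernel
theorem c_act34_29 : allRange (fun i => Nat.beq (actR34 i) i) 290000 10000 = true := by decide +kernel
theorem c_act34_30 : allRange (fun i => Nat.beq (actR34 i) i) 300000 6936 = true := by decide +kernel
theorem c_act35_0 : allRange (fun i => Nat.beq (actR35 i) i) 0 15000 = true := by decide +kernel
theorem c_act35_1 : allRange (fun i => Nat.beq (actR35 i) i) 15000 15000 = true := by decide +kernel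
theorem c_act35_2 : allRange (fun i => Nat.beq (actR35 i) i) 30000 15000 = true := by decide +kernel
theorem c_act35_3 : allRange (fun i => Nat.beq (actR35 i) i) 45000 15000 = true := by decide +kernel
theorem c_act35_4 : allRange (fun i => Nat.beq (actR35 i) i) 60000 15000 = true := by decide +kernel
theorem c_act35_5 : allRange (fun i => Nat.beq (actR35 i) i) 75000 15000 = true := by decide +kernel
theorem c_act35_6 : allRange (fun i => Nat.beq (actR35 i) i) 90000 15000 = true := by decide +kernel
theorem c_act35_7 : allRange (fun i => Nat.beq (actR35 i) i) 105000 15000 = true := by decide +kernel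
theorem c_act35_8 : allRange (fun i => Nat.beq (actR35 i) i) 120000 15000 = true := by decide +kernel
theorem c_act35_9 : allRange (fun i => Nat.beq (actR35 i) i) 135000 15000 = true := by decide +kernel
theorem c_act35_10 : allRange (fun i => Nat.beq (actR35 i) i) 150000 15000 = true := by decide +kernel
theorem c_act35_11 : allRange (fun i => Nat.beq (actR35 i) i) 165000 15000 = true := by decide +kernel
theorem c_act35_12 : allRange (fun i => Nat.beq (actR35 i) i) 180000 15000 = true := by decide +kernel
theorem c_act35_13 : allRange (fun i => Nat.beq (actR35 i) i) 195000 15000 = true := by decide +kernel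
theorem c_act35_14 : allRange (fun i => Nat.beq (actR35 i) i) 210000 15000 = true := by decide +kernel
theorem c_act35_15 : allRange (fun i => Nat.beq (actR35 i) i) 225000 15000 = true := by decide +kernel
theorem c_act35_16 : allRange (fun i => Nat.beq (actR35 i) i) 240000 15000 = true := by decide +kernel
theorem c_act35_17 : allRange (fun i => Nat.beq (actR35 i) i) 255000 15000 = true := by decide +kernel
theorem c_act35_18 : allRange (fun i => Nat.beq (actR35 i) i) 270000 15000 = true := by decide +kernel
theorem c_act35_19 : allRange (fun i => Nat.beq (actR35 i) i) 285000 15000 = true := by decide +kernel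
theorem c_act35_20 : allRange (fun i => Nat.beq (actR35 i) i) 300000 6936 = true := by decide +kernel
theorem c_act36_0 : allRange (fun i => Nat.beq (actR36 i) i) 0 15000 = true := by decide +kernel
theorem c_act36_1 : allRange (fun i => Nat.beq (actR36 i) i) 15000 15000 = true := by decide +kernel
theorem c_act36_2 : allRange (fun i => Nat.beq (actR36 i) i) 30000 15000 = true := by decide +kernel
theorem c_act36_3 : allRange (fun i => Nat.beq (actR36 i) i) 45000 15000 = true := by decide +kernel
theorem c_act36_4 : allRange (fun i => Nat.beq (actR36 i) i) 60000 15000 = true := by decide +kernel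
theorem c_act36_5 : allRange (fun i => Nat.beq (actR36 i) i) 75000 15000 = true := by decide +kernel
theorem c_act36_6 : allRange (fun i => Nat.beq (actR36 i) i) 90000 15000 = true := by decide +kernel
theorem c_act36_7 : allRange (fun i => Nat.beq (actR36 i) i) 105000 15000 = true := by decide +kernel
theorem c_act36_8 : allRange (fun i => Nat.beq (actR36 i) i) 120000 15000 = true := by decide +kernel
theorem c_act36_9 : allRange (fun i => Nat.beq (actR36 i) i) 135000 15000 = true := by decide +kernel
theorem c_act36_10 : allRange (fun i => Nat.beq (actR36 i) i) 150000 15000 = true := by decide +kernel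
theorem c_act36_11 : allRange (fun i => Nat.beq (actR36 i) i) 165000 15000 = true := by decide +kernel
theorem c_act36_12 : allRange (fun i => Nat.beq (actR36 i) i) 180000 15000 = true := by decide +kernel
theorem c_act36_13 : allRange (fun i => Nat.beq (actR36 i) i) 195000 15000 = true := by decide +kernel
theorem c_act36_14 : allRange (fun i => Nat.beq (actR36 i) i) 210000 15000 = true := by decide +kernel
theorem c_act36_15 : allRange (fun i => Nat.beq (actR36 i) i) 225000 15000 = true := by decide +kernel
theorem c_act36_16 : allRange (fun i => Nat.beq (actR36 i) i) 240000 15000 = true := by decide +kernel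
theorem c_act36_17 : allRange (fun i => Nat.beq (actR36 i) i) 255000 15000 = true := by decide +kernel
theorem c_act36_18 : allRange (fun i => Nat.beq (actR36 i) i) 270000 15000 = true := by decide +kernel
theorem c_act36_19 : allRange (fun i => Nat.beq (actR36 i) i) 285000 15000 = true := by decide +kernel
theorem c_act36_20 : allRange (fun i => Nat.beq (actR36 i) i) 300000 6936 = true := by decide +kernel
theorem c_act37_0 : allRange (fun i => Nat.beq (actR37 i) i) 0 15000 = true := by decide +kernel

end Cfsg.Agent.Lib.Helper4.TCD.Fi24a
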