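import Cfsg.Agent.Lib.Helper4.TCD_Fi24a_Acc

namespace Cfsg.Agent.Lib.Helper4.TCD.Fi24a

open Cfsg.Agent.Lib.Helper4.TC

set_option maxRecDepth 100000
set_option Elab.async false

theorem c_rel_219 : allRange D.relOK 1122660 3482 = true := by decide +kernel
theorem c_rel_220 : allRange D.relOK 1126142 3449 = true := by decide +kernel
theorem c_rel_221 : allRange D.relOK 1129591 3571 = true := by decide +kernel
theorem c_rel_222 : allRange D.relOK 1133162 3562 = true := by decide +kernel
theorem c_rel_223 : allRange D.relOK 1136724 3583 = true := by decide +kernel
theorem c_rel_224 : allRange D.relOK 1140307 3578 = true := by decide +kernel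
theorem c_rel_225 : allRange D.relOK 1143885 3562 = true := by decide +kernel
theorem c_rel_226 : allRange D.relOK 1147447 3595 = true := by decide +kernel
theorem c_rel_227 : allRange D.relOK 1151042 3556 = true := by decide +kernel
theorem c_rel_228 : allRange D.relOK 1154598 3576 = true := by decide +kernel
theorem c_rel_229 : allRange D.relOK 1158174 3488 = true := by decide +kernel
theorem c_rel_230 : allRange D.relOK 1161662 3564 = true := by decide +kernel
theorem c_rel_231 : allRange D.relOK 1165226 3545 = true := by decide +kernel
theorem c_rel_232 : allRange D.relOK 1168771 3526 = true := by decide +kernel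
theorem c_rel_233 : allRange D.relOK 1172297 3554 = true := by decide +kernel
theorem c_rel_234 : allRange D.relOK 1175851 3544 = true := by decide +kernel
theorem c_rel_235 : allRange D.relOK 1179395 3556 = true := by decide +kernel
theorem c_rel_236 : allRange D.relOK 1182951 3576 = true := by decide +kernel
theorem c_rel_237 : allRange D.relOK 1186527 3576 = true := by decide +kernel
theorem c_rel_238 : allRange D.relOK 1190103 3573 = true := by decide +kernel
theorem c_rel_239 : allRange D.relOK 1193676 3592 = true := by decide +kernel
theorem c_rel_240 : allRange D.relOK 1197268 3589 = true := by decide +kernel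
theorem c_rel_241 : allRange D.relOK 1200857 3581 = true := by decide +kernel
theorem c_rel_242 : allRange D.relOK 1204438 3550 = true := by decide +kernel
theorem c_rel_243 : allRange D.relOK 1207988 3498 = true := by decide +kernel
theorem c_rel_244 : allRange D.relOK 1211486 3538 = true := by decide +kernel
theorem c_rel_245 : allRange D.relOK 1215024 3531 = true := by decide +kernel
theorem c_rel_246 : allRange D.relOK 1218555 3545 = true := by decide +kernel
theorem c_rel_247 : allRange D.relOK 1222100 3562 = true := by decide +kernel
theorem c_rel_248 : allRange D.relOK 1225662 3460 = true := by decide +kernel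
theorem c_rel_249 : allRange D.relOK 1229122 3547 = true := by decide +kernel
theorem c_rel_250 : allRange D.relOK 1232669 3550 = true := by decide +kernel
theorem c_rel_251 : allRange D.relOK 1236219 3512 = true := by decide +kernel
theorem c_rel_252 : allRange D.relOK 1239731 3526 = true := by decide +kernel
theorem c_rel_253 : allRange D.relOK 1243257 3558 = true := by decide +kernel
theorem c_rel_254 : allRange D.relOK 1246815 3570 = true := by decide +kernel
theorem c_rel_255 : allRange D.relOK 1250385 3576 = true := by decide +kernel
theorem c_rel_256 : allRange D.relOK 1253961 3591 = true := by decide +kernel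
theorem c_rel_257 : allRange D.relOK 1257552 3568 = true := by decide +kernel
theorem c_rel_258 : allRange D.relOK 1261120 3565 = true := by decide +kernel
theorem c_rel_259 : allRange D.relOK 1264685 3595 = true := by decide +kernel
theorem c_rel_260 : allRange D.relOK 1268280 3586 = true := by decide +kernel
theorem c_rel_261 : allRange D.relOK 1271866 3554 = true := by decide +kernel
theorem c_rel_262 : allRange D.relOK 1275420 3552 = true := by decide +kernel
theorem c_rel_263 : allRange D.relOK 1278972 3551 = true := by decide +kernel
theorem c_rel_264 : allRange D.relOK 1282523 3533 = true := by decide +kernel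
theorem c_rel_265 : allRange D.relOK 1286056 3578 = true := by decide +kernel
theorem c_rel_266 : allRange D.relOK 1289634 3556 = true := by decide +kernel
theorem c_rel_267 : allRange D.relOK 1293190 3464 = true := by decide +kernel
theorem c_rel_268 : allRange D.relOK 1296654 3563 = true := by decide +kernel
theorem c_rel_269 : allRange D.relOK 1300217 3567 = true := by decide +kernel
theorem c_rel_270 : allRange D.relOK 1303784 3576 = true := by decide +kernel
theorem c_rel_271 : allRange D.relOK 1307360 3560 = true := by decide +kernel
theorem c_rel_272 : allRange D.relOK 1310920 3551 = true := by decide +kernel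
theorem c_rel_273 : allRange D.relOK 1314471 3577 = true := by decide +kernel
theorem c_rel_274 : allRange D.relOK 1318048 3526 = true := by decide +kernel
theorem c_rel_275 : allRange D.relOK 1321574 3569 = true := by decide +kernel
theorem c_rel_276 : allRange D.relOK 1325143 3514 = true := by decide +kernel
theorem c_rel_277 : allRange D.relOK 1328657 3495 = true := by decide +kernel
theorem c_rel_278 : allRange D.relOK 1332152 3559 = true := by decide +kernel
theorem c_rel_279 : allRange D.relOK 1335711 3512 = true := by decide +kernel
theorem c_rel_280 : allRange D.relOK 1339223 3524 = true := by decide +kernel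
theorem c_rel_281 : allRange D.relOK 1342747 3541 = true := by decide +kernel
theorem c_rel_282 : allRange D.relOK 1346288 3550 = true := by decide +kernel
theorem c_rel_283 : allRange D.relOK 1349838 3548 = true := by decide +kernel
theorem c_rel_284 : allRange D.relOK 1353386 3538 = true := by decide +kernel
theorem c_rel_285 : allRange D.relOK 1356924 3547 = true := by decide +kernel
theorem c_rel_286 : allRange D.relOK 1360471 3566 = true := by decide +kernel
theorem c_rel_287 : allRange D.relOK 1364037 3555 = true := by decide +kernel
theorem c_rel_288 : allRange D.relOK 1367592 3565 = true := by decide +kernel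
theorem c_rel_289 : allRange D.relOK 1371157 3543 = true := by decide +kernel
theorem c_rel_290 : allRange D.relOK 1374700 3544 = true := by decide +kernel
theorem c_rel_291 : allRange D.relOK 1378244 3532 = true := by decide +kernel
theorem c_rel_292 : allRange D.relOK 1381776 3550 = true := by decide +kernel
theorem c_rel_293 : allRange D.relOK 1385326 3549 = true := by decide +kernel
theorem c_rel_294 : allRange D.relOK 1388875 3573 = true := by decide +kernel
theorem c_rel_295 : allRange D.relOK 1392448 3587 = true := by decide +kernel
theorem c_rel_296 : allRange D.relOK 1396035 3513 = true := by decide +kernel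
theorem c_rel_297 : allRange D.relOK 1399548 3525 = true := by decide +kernel
theorem c_rel_298 : allRange D.relOK 1403073 3513 = true := by decide +kernel
theorem c_rel_299 : allRange D.relOK 1406586 3521 = true := by decide +kernel
theorem c_rel_300 : allRange D.relOK 1410107 3553 = true := by decide +kernel
theorem c_rel_301 : allRange D.relOK 1413660 3530 = true := by decide +kernel
theorem c_rel_302 : allRange D.relOK 1417190 3538 = true := by decide +kernel
theorem c_rel_303 : allRange D.relOK 1420728 3549 = true := by decide +kernel
theorem c_rel_304 : allRange D.relOK 1424277 3562 = true := by decide +kernel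
theorem c_rel_305 : allRange D.relOK 1427839 3530 = true := by decide +kernel
theorem c_rel_306 : allRange D.relOK 1431369 3544 = true := by decide +kernel
theorem c_rel_307 : allRange D.relOK 1434913 3548 = true := by decide +kernel
theorem c_rel_308 : allRange D.relOK 1438461 3564 = true := by decide +kernel
theorem c_rel_309 : allRange D.relOK 1442025 3529 = true := by decide +kernel
theorem c_rel_310 : allRange D.relOK 1445554 3466 = true := by decide +kernel
theorem c_rel_311 : allRange D.relOK 1449020 3532 = true := by decide +kernel
theorem c_rel_312 : allRange D.relOK 1452552 3507 = true := by decide +kernel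
theorem c_rel_313 : allRange D.relOK 1456059 3461 = true := by decide +kernel
theorem c_rel_314 : allRange D.relOK 1459520 3574 = true := by decide +kernel
theorem c_rel_315 : allRange D.relOK 1463094 3561 = true := by decide +kernel
theorem c_rel_316 : allRange D.relOK 1466655 3542 = true := by decide +kernel
theorem c_rel_317 : allRange D.relOK 1470197 3554 = true := by decide +kernel

end Cfsg.Agent.Lib.Helper4.TCD.Fi24a
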