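import Cfsg.Agent.Lib.Helper4.TCD_Fi24a_Acc

namespace Cfsg.Agent.Lib.Helper4.TCD.Fi24a

open Cfsg.Agent.Lib.Helper4.TC

set_option maxRecDepth 100000
set_option Elab.async false

theorem c_act37_1 : allRange (fun i => Nat.beq (actR37 i) i) 15000 15000 = true := by decide +kernel
theorem c_act37_2 : allRange (fun i => Nat.beq (actR37 i) i) 30000 15000 = true := by decide +kernel
theorem c_act37_3 : allRange (fun i => Nat.beq (actR37 i) i) 45000 15000 = true := by decide +kernel
theorem c_act37_4 : allRange (fun i => Nat.beq (actR37 i) i) 60000 15000 = true := by decide +kernel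
theorem c_act37_5 : allRange (fun i => Nat.beq (actR37 i) i) 75000 15000 = true := by decide +kernel
theorem c_act37_6 : allRange (fun i => Nat.beq (actR37 i) i) 90000 15000 = true := by decide +kernel
theorem c_act37_7 : allRange (fun i => Nat.beq (actR37 i) i) 105000 15000 = true := by decide +kernel
theorem c_act37_8 : allRange (fun i => Nat.beq (actR37 i) i) 120000 15000 = true := by decide +kernel
theorem c_act37_9 : allRange (fun i => Nat.beq (actR37 i) i) 135000 15000 = true := by decide +kernel
theorem c_act37_10 : allRange (fun i => Nat.beq (actR37 i) i) 150000 15000 = true := by decide +kernel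
theorem c_act37_11 : allRange (fun i => Nat.beq (actR37 i) i) 165000 15000 = true := by decide +kernel
theorem c_act37_12 : allRange (fun i => Nat.beq (actR37 i) i) 180000 15000 = true := by decide +kernel
theorem c_act37_13 : allRange (fun i => Nat.beq (actR37 i) i) 195000 15000 = true := by decide +kernel
theorem c_act37_14 : allRange (fun i => Nat.beq (actR37 i) i) 210000 15000 = true := by decide +kernel
theorem c_act37_15 : allRange (fun i => Nat.beq (actR37 i) i) 225000 15000 = true := by decide +kernel
theorem c_act37_16 : allRange (fun i => Nat.beq (actR37 i) i) 240000 15000 = true := by decide +kernel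
theorem c_act37_17 : allRange (fun i => Nat.beq (actR37 i) i) 255000 15000 = true := by decide +kernel
theorem c_act37_18 : allRange (fun i => Nat.beq (actR37 i) i) 270000 15000 = true := by decide +kernel
theorem c_act37_19 : allRange (fun i => Nat.beq (actR37 i) i) 285000 15000 = true := by decide +kernel
theorem c_act37_20 : allRange (fun i => Nat.beq (actR37 i) i) 300000 6936 = true := by decide +kernel
theorem c_act38_0 : allRange (fun i => Nat.beq (actR38 i) i) 0 15000 = true := by decide +kernel
theorem c_act38_1 : allRange (fun i => Nat.beq (actR38 i) i) 15000 15000 = true := by decide +kernel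
theorem c_act38_2 : allRange (fun i => Nat.beq (actR38 i) i) 30000 15000 = true := by decide +kernel
theorem c_act38_3 : allRange (fun i => Nat.beq (actR38 i) i) 45000 15000 = true := by decide +kernel
theorem c_act38_4 : allRange (fun i => Nat.beq (actR38 i) i) 60000 15000 = true := by decide +kernel
theorem c_act38_5 : allRange (fun i => Nat.beq (actR38 i) i) 75000 15000 = true := by decide +kernel
theorem c_act38_6 : allRange (fun i => Nat.beq (actR38 i) i) 90000 15000 = true := by decide +kernel
theorem c_act38_7 : allRange (fun i => Nat.beq (actR38 i) i) 105000 15000 = true := by decide +kernel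
theorem c_act38_8 : allRange (fun i => Nat.beq (actR38 i) i) 120000 15000 = true := by decide +kernel
theorem c_act38_9 : allRange (fun i => Nat.beq (actR38 i) i) 135000 15000 = true := by decide +kernel
theorem c_act38_10 : allRange (fun i => Nat.beq (actR38 i) i) 150000 15000 = true := by decide +kernel
theorem c_act38_11 : allRange (fun i => Nat.beq (actR38 i) i) 165000 15000 = true := by decide +kernel
theorem c_act38_12 : allRange (fun i => Nat.beq (actR38 i) i) 180000 15000 = true := by decide +kernel
theorem c_act38_13 : allRange (fun i => Nat.beq (actR38 i) i) 195000 15000 = true := by decide +kernel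
theorem c_act38_14 : allRange (fun i => Nat.beq (actR38 i) i) 210000 15000 = true := by decide +kernel
theorem c_act38_15 : allRange (fun i => Nat.beq (actR38 i) i) 225000 15000 = true := by decide +kernel
theorem c_act38_16 : allRange (fun i => Nat.beq (actR38 i) i) 240000 15000 = true := by decide +kernel
theorem c_act38_17 : allRange (fun i => Nat.beq (actR38 i) i) 255000 15000 = true := by decide +kernel
theorem c_act38_18 : allRange (fun i => Nat.beq (actR38 i) i) 270000 15000 = true := by decide +kernel
theorem c_act38_19 : allRange (fun i => Nat.beq (actR38 i) i) 285000 15000 = true := by decide +kernel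
theorem c_act38_20 : allRange (fun i => Nat.beq (actR38 i) i) 300000 6936 = true := by decide +kernel
theorem c_act39_0 : allRange (fun i => Nat.beq (actR39 i) i) 0 15000 = true := by decide +kernel
theorem c_act39_1 : allRange (fun i => Nat.beq (actR39 i) i) 15000 15000 = true := by decide +kernel
theorem c_act39_2 : allRange (fun i => Nat.beq (actR39 i) i) 30000 15000 = true := by decide +kernel
theorem c_act39_3 : allRange (fun i => Nat.beq (actR39 i) i) 45000 15000 = true := by decide +kernel
theorem c_act39_4 : allRange (fun i => Nat.beq (actR39 i) i) 60000 15000 = true := by decide +kernel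
theorem c_act39_5 : allRange (fun i => Nat.beq (actR39 i) i) 75000 15000 = true := by decide +kernel
theorem c_act39_6 : allRange (fun i => Nat.beq (actR39 i) i) 90000 15000 = true := by decide +kernel
theorem c_act39_7 : allRange (fun i => Nat.beq (actR39 i) i) 105000 15000 = true := by decide +kernel
theorem c_act39_8 : allRange (fun i => Nat.beq (actR39 i) i) 120000 15000 = true := by decide +kernel
theorem c_act39_9 : allRange (fun i => Nat.beq (actR39 i) i) 135000 15000 = true := by decide +kernel

end Cfsg.Agent.Lib.Helper4.TCD.Fi24a
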