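import Cfsg.Agent.Lib.Helper4.TCD_Fi24a_Acc

namespace Cfsg.Agent.Lib.Helper4.TCD.Fi24a

open Cfsg.Agent.Lib.Helper4.TC

set_option maxRecDepth 100000
set_option Elab.async false

theorem c_act39_10 : allRange (fun i => Nat.beq (actR39 i) i) 150000 15000 = true := by decide +kernel
theorem c_act39_11 : allRange (fun i => Nat.beq (actR39 i) i) 165000 15000 = true := by decide +kernel
theorem c_act39_12 : allRange (fun i => Nat.beq (actR39 i) i) 180000 15000 = true := by decide +kernel
theorem c_act39_13 : allRange (fun i => Nat.beq (actR39 i) i) 195000 15000 = true := by decide +kernel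
theorem c_act39_14 : allRange (fun i => Nat.beq (actR39 i) i) 210000 15000 = true := by decide +kernel
theorem c_act39_15 : allRange (fun i => Nat.beq (actR39 i) i) 225000 15000 = true := by decide +kernel
theorem c_act39_16 : allRange (fun i => Nat.beq (actR39 i) i) 240000 15000 = true := by decide +kernel
theorem c_act39_17 : allRange (fun i => Nat.beq (actR39 i) i) 255000 15000 = true := by decide +kernel
theorem c_act39_18 : allRange (fun i => Nat.beq (actR39 i) i) 270000 15000 = true := by decide +kernel
theorem c_act39_19 : allRange (fun i => Nat.beq (actR39 i) i) 285000 15000 = true := by decide +kernel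
theorem c_act39_20 : allRange (fun i => Nat.beq (actR39 i) i) 300000 6936 = true := by decide +kernel
theorem c_act40_0 : allRange (fun i => Nat.beq (actR40 i) i) 0 15000 = true := by decide +kernel
theorem c_act40_1 : allRange (fun i => Nat.beq (actR40 i) i) 15000 15000 = true := by decide +kernel
theorem c_act40_2 : allRange (fun i => Nat.beq (actR40 i) i) 30000 15000 = true := by decide +kernel
theorem c_act40_3 : allRange (fun i => Nat.beq (actR40 i) i) 45000 15000 = true := by decide +kernel
theorem c_act40_4 : allRange (fun i => Nat.beq (actR40 i) i) 60000 15000 = true := by decide +kernel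
theorem c_act40_5 : allRange (fun i => Nat.beq (actR40 i) i) 75000 15000 = true := by decide +kernel
theorem c_act40_6 : allRange (fun i => Nat.beq (actR40 i) i) 90000 15000 = true := by decide +kernel
theorem c_act40_7 : allRange (fun i => Nat.beq (actR40 i) i) 105000 15000 = true := by decide +kernel
theorem c_act40_8 : allRange (fun i => Nat.beq (actR40 i) i) 120000 15000 = true := by decide +kernel
theorem c_act40_9 : allRange (fun i => Nat.beq (actR40 i) i) 135000 15000 = true := by decide +kernel
theorem c_act40_10 : allRange (fun i => Nat.beq (actR40 i) i) 150000 15000 = true := by decide +kernel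
theorem c_act40_11 : allRange (fun i => Nat.beq (actR40 i) i) 165000 15000 = true := by decide +kernel
theorem c_act40_12 : allRange (fun i => Nat.beq (actR40 i) i) 180000 15000 = true := by decide +kernel
theorem c_act40_13 : allRange (fun i => Nat.beq (actR40 i) i) 195000 15000 = true := by decide +kernel
theorem c_act40_14 : allRange (fun i => Nat.beq (actR40 i) i) 210000 15000 = true := by decide +kernel
theorem c_act40_15 : allRange (fun i => Nat.beq (actR40 i) i) 225000 15000 = true := by decide +kernel
theorem c_act40_16 : allRange (fun i => Nat.beq (actR40 i) i) 240000 15000 = true := by decide +kernel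
theorem c_act40_17 : allRange (fun i => Nat.beq (actR40 i) i) 255000 15000 = true := by decide +kernel
theorem c_act40_18 : allRange (fun i => Nat.beq (actR40 i) i) 270000 15000 = true := by decide +kernel
theorem c_act40_19 : allRange (fun i => Nat.beq (actR40 i) i) 285000 15000 = true := by decide +kernel
theorem c_act40_20 : allRange (fun i => Nat.beq (actR40 i) i) 300000 6936 = true := by decide +kernel
theorem c_act41_0 : allRange (fun i => Nat.beq (actR41 i) i) 0 15000 = true := by decide +kernel
theorem c_act41_1 : allRange (fun i => Nat.beq (actR41 i) i) 15000 15000 = true := by decide +kernel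
theorem c_act41_2 : allRange (fun i => Nat.beq (actR41 i) i) 30000 15000 = true := by decide +kernel
theorem c_act41_3 : allRange (fun i => Nat.beq (actR41 i) i) 45000 15000 = true := by decide +kernel
theorem c_act41_4 : allRange (fun i => Nat.beq (actR41 i) i) 60000 15000 = true := by decide +kernel
theorem c_act41_5 : allRange (fun i => Nat.beq (actR41 i) i) 75000 15000 = true := by decide +kernel
theorem c_act41_6 : allRange (fun i => Nat.beq (actR41 i) i) 90000 15000 = true := by decide +kernel
theorem c_act41_7 : allRange (fun i => Nat.beq (actR41 i) i) 105000 15000 = true := by decide +kernel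
theorem c_act41_8 : allRange (fun i => Nat.beq (actR41 i) i) 120000 15000 = true := by decide +kernel
theorem c_act41_9 : allRange (fun i => Nat.beq (actR41 i) i) 135000 15000 = true := by decide +kernel
theorem c_act41_10 : allRange (fun i => Nat.beq (actR41 i) i) 150000 15000 = true := by decide +kernel
theorem c_act41_11 : allRange (fun i => Nat.beq (actR41 i) i) 165000 15000 = true := by decide +kernel
theorem c_act41_12 : allRange (fun i => Nat.beq (actR41 i) i) 180000 15000 = true := by decide +kernel
theorem c_act41_13 : allRange (fun i => Nat.beq (actR41 i) i) 195000 15000 = true := by decide +kernel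
theorem c_act41_14 : allRange (fun i => Nat.beq (actR41 i) i) 210000 15000 = true := by decide +kernel
theorem c_act41_15 : allRange (fun i => Nat.beq (actR41 i) i) 225000 15000 = true := by decide +kernel
theorem c_act41_16 : allRange (fun i => Nat.beq (actR41 i) i) 240000 15000 = true := by decide +kernel
theorem c_act41_17 : allRange (fun i => Nat.beq (actR41 i) i) 255000 15000 = true := by decide +kernel
theorem c_act41_18 : allRange (fun i => Nat.beq (actR41 i) i) 270000 15000 = true := by decide +kernel

end Cfsg.Agent.Lib.Helper4.TCD.Fi24a
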