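import Cfsg.Agent.Lib.Helper4.TCD_Fi24a_Acc

namespace Cfsg.Agent.Lib.Helper4.TCD.Fi24a

open Cfsg.Agent.Lib.Helper4.TC

set_option maxRecDepth 100000
set_option Elab.async false

theorem c_act41_19 : allRange (fun i => Nat.beq (actR41 i) i) 285000 15000 = true := by decide +kernel
theorem c_act41_20 : allRange (fun i => Nat.beq (actR41 i) i) 300000 6936 = true := by decide +kernel
theorem c_act42_0 : allRange (fun i => Nat.beq (actR42 i) i) 0 30000 = true := by decide +kernel
theorem c_act42_1 : allRange (fun i => Nat.beq (actR42 i) i) 30000 30000 = true := by decide +kernel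
theorem c_act42_2 : allRange (fun i => Nat.beq (actR42 i) i) 60000 30000 = true := by decide +kernel
theorem c_act42_3 : allRange (fun i => Nat.beq (actR42 i) i) 90000 30000 = true := by decide +kernel
theorem c_act42_4 : allRange (fun i => Nat.beq (actR42 i) i) 120000 30000 = true := by decide +kernel
theorem c_act42_5 : allRange (fun i => Nat.beq (actR42 i) i) 150000 30000 = true := by decide +kernel
theorem c_act42_6 : allRange (fun i => Nat.beq (actR42 i) i) 180000 30000 = true := by decide +kernel
theorem c_act42_7 : allRange (fun i => Nat.beq (actR42 i) i) 210000 30000 = true := by decide +kernel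
theorem c_act42_8 : allRange (fun i => Nat.beq (actR42 i) i) 240000 30000 = true := by decide +kernel
theorem c_act42_9 : allRange (fun i => Nat.beq (actR42 i) i) 270000 30000 = true := by decide +kernel
theorem c_act42_10 : allRange (fun i => Nat.beq (actR42 i) i) 300000 6936 = true := by decide +kernel
theorem c_act43_0 : allRange (fun i => Nat.beq (actR43 i) i) 0 10000 = true := by decide +kernel
theorem c_act43_1 : allRange (fun i => Nat.beq (actR43 i) i) 10000 10000 = true := by decide +kernel
theorem c_act43_2 : allRange (fun i => Nat.beq (actR43 i) i) 20000 10000 = true := by decide +kernel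
theorem c_act43_3 : allRange (fun i => Nat.beq (actR43 i) i) 30000 10000 = true := by decide +kernel
theorem c_act43_4 : allRange (fun i => Nat.beq (actR43 i) i) 40000 10000 = true := by decide +kernel
theorem c_act43_5 : allRange (fun i => Nat.beq (actR43 i) i) 50000 10000 = true := by decide +kernel
theorem c_act43_6 : allRange (fun i => Nat.beq (actR43 i) i) 60000 10000 = true := by decide +kernel
theorem c_act43_7 : allRange (fun i => Nat.beq (actR43 i) i) 70000 10000 = true := by decide +kernel
theorem c_act43_8 : allRange (fun i => Nat.beq (actR43 i) i) 80000 10000 = true := by decide +kernel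
theorem c_act43_9 : allRange (fun i => Nat.beq (actR43 i) i) 90000 10000 = true := by decide +kernel
theorem c_act43_10 : allRange (fun i => Nat.beq (actR43 i) i) 100000 10000 = true := by decide +kernel
theorem c_act43_11 : allRange (fun i => Nat.beq (actR43 i) i) 110000 10000 = true := by decide +kernel
theorem c_act43_12 : allRange (fun i => Nat.beq (actR43 i) i) 120000 10000 = true := by decide +kernel
theorem c_act43_13 : allRange (fun i => Nat.beq (actR43 i) i) 130000 10000 = true := by decide +kernel
theorem c_act43_14 : allRange (fun i => Nat.beq (actR43 i) i) 140000 10000 = true := by decide +kernel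
theorem c_act43_15 : allRange (fun i => Nat.beq (actR43 i) i) 150000 10000 = true := by decide +kernel
theorem c_act43_16 : allRange (fun i => Nat.beq (actR43 i) i) 160000 10000 = true := by decide +kernel
theorem c_act43_17 : allRange (fun i => Nat.beq (actR43 i) i) 170000 10000 = true := by decide +kernel
theorem c_act43_18 : allRange (fun i => Nat.beq (actR43 i) i) 180000 10000 = true := by decide +kernel
theorem c_act43_19 : allRange (fun i => Nat.beq (actR43 i) i) 190000 10000 = true := by decide +kernel
theorem c_act43_20 : allRange (fun i => Nat.beq (actR43 i) i) 200000 10000 = true := by decide +kernel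
theorem c_act43_21 : allRange (fun i => Nat.beq (actR43 i) i) 210000 10000 = true := by decide +kernel
theorem c_act43_22 : allRange (fun i => Nat.beq (actR43 i) i) 220000 10000 = true := by decide +kernel
theorem c_act43_23 : allRange (fun i => Nat.beq (actR43 i) i) 230000 10000 = true := by decide +kernel
theorem c_act43_24 : allRange (fun i => Nat.beq (actR43 i) i) 240000 10000 = true := by decide +kernel
theorem c_act43_25 : allRange (fun i => Nat.beq (actR43 i) i) 250000 10000 = true := by decide +kernel
theorem c_act43_26 : allRange (fun i => Nat.beq (actR43 i) i) 260000 10000 = true := by decide +kernel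
theorem c_act43_27 : allRange (fun i => Nat.beq (actR43 i) i) 270000 10000 = true := by decide +kernel
theorem c_act43_28 : allRange (fun i => Nat.beq (actR43 i) i) 280000 10000 = true := by decide +kernel
theorem c_act43_29 : allRange (fun i => Nat.beq (actR43 i) i) 290000 10000 = true := by decide +kernel
theorem c_act43_30 : allRange (fun i => Nat.beq (actR43 i) i) 300000 6936 = true := by decide +kernel
theorem c_act44_0 : allRange (fun i => Nat.beq (actR44 i) i) 0 15000 = true := by decide +kernel
theorem c_act44_1 : allRange (fun i => Nat.beq (actR44 i) i) 15000 15000 = true := by decide +kernel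
theorem c_act44_2 : allRange (fun i => Nat.beq (actR44 i) i) 30000 15000 = true := by decide +kernel
theorem c_act44_3 : allRange (fun i => Nat.beq (actR44 i) i) 45000 15000 = true := by decide +kernel
theorem c_act44_4 : allRange (fun i => Nat.beq (actR44 i) i) 60000 15000 = true := by decide +kernel
theorem c_act44_5 : allRange (fun i => Nat.beq (actR44 i) i) 75000 15000 = true := by decide +kernel
theorem c_act44_6 : allRange (fun i => Nat.beq (actR44 i) i) 90000 15000 = true := by decide +kernel

end Cfsg.Agent.Lib.Helper4.TCD.Fi24a
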