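import Cfsg.Agent.Lib.Helper4.TCD_Fi24a_Acc

namespace Cfsg.Agent.Lib.Helper4.TCD.Fi24a

open Cfsg.Agent.Lib.Helper4.TC

set_option maxRecDepth 100000
set_option Elab.async false

theorem c_act44_7 : allRange (fun i => Nat.beq (actR44 i) i) 105000 15000 = true := by decide +kernel
theorem c_act44_8 : allRange (fun i => Nat.beq (actR44 i) i) 120000 15000 = true := by decide +kernel
theorem c_act44_9 : allRange (fun i => Nat.beq (actR44 i) i) 135000 15000 = true := by decide +kernel
theorem c_act44_10 : allRange (fun i => Nat.beq (actR44 i) i) 150000 15000 = true := by decide +kernel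
theorem c_act44_11 : allRange (fun i => Nat.beq (actR44 i) i) 165000 15000 = true := by decide +kernel
theorem c_act44_12 : allRange (fun i => Nat.beq (actR44 i) i) 180000 15000 = true := by decide +kernel
theorem c_act44_13 : allRange (fun i => Nat.beq (actR44 i) i) 195000 15000 = true := by decide +kernel
theorem c_act44_14 : allRange (fun i => Nat.beq (actR44 i) i) 210000 15000 = true := by decide +kernel
theorem c_act44_15 : allRange (fun i => Nat.beq (actR44 i) i) 225000 15000 = true := by decide +kernel
theorem c_act44_16 : allRange (fun i => Nat.beq (actR44 i) i) 240000 15000 = true := by decide +kernel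
theorem c_act44_17 : allRange (fun i => Nat.beq (actR44 i) i) 255000 15000 = true := by decide +kernel
theorem c_act44_18 : allRange (fun i => Nat.beq (actR44 i) i) 270000 15000 = true := by decide +kernel
theorem c_act44_19 : allRange (fun i => Nat.beq (actR44 i) i) 285000 15000 = true := by decide +kernel
theorem c_act44_20 : allRange (fun i => Nat.beq (actR44 i) i) 300000 6936 = true := by decide +kernel
theorem c_act45_0 : allRange (fun i => Nat.beq (actR45 i) i) 0 15000 = true := by decide +kernel
theorem c_act45_1 : allRange (fun i => Nat.beq (actR45 i) i) 15000 15000 = true := by decide +kernel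
theorem c_act45_2 : allRange (fun i => Nat.beq (actR45 i) i) 30000 15000 = true := by decide +kernel
theorem c_act45_3 : allRange (fun i => Nat.beq (actR45 i) i) 45000 15000 = true := by decide +kernel
theorem c_act45_4 : allRange (fun i => Nat.beq (actR45 i) i) 60000 15000 = true := by decide +kernel
theorem c_act45_5 : allRange (fun i => Nat.beq (actR45 i) i) 75000 15000 = true := by decide +kernel
theorem c_act45_6 : allRange (fun i => Nat.beq (actR45 i) i) 90000 15000 = true := by decide +kernel
theorem c_act45_7 : allRange (fun i => Nat.beq (actR45 i) i) 105000 15000 = true := by decide +kernel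
theorem c_act45_8 : allRange (fun i => Nat.beq (actR45 i) i) 120000 15000 = true := by decide +kernel
theorem c_act45_9 : allRange (fun i => Nat.beq (actR45 i) i) 135000 15000 = true := by decide +kernel
theorem c_act45_10 : allRange (fun i => Nat.beq (actR45 i) i) 150000 15000 = true := by decide +kernel
theorem c_act45_11 : allRange (fun i => Nat.beq (actR45 i) i) 165000 15000 = true := by decide +kernel
theorem c_act45_12 : allRange (fun i => Nat.beq (actR45 i) i) 180000 15000 = true := by decide +kernel
theorem c_act45_13 : allRange (fun i => Nat.beq (actR45 i) i) 195000 15000 = true := by decide +kernel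
theorem c_act45_14 : allRange (fun i => Nat.beq (actR45 i) i) 210000 15000 = true := by decide +kernel
theorem c_act45_15 : allRange (fun i => Nat.beq (actR45 i) i) 225000 15000 = true := by decide +kernel
theorem c_act45_16 : allRange (fun i => Nat.beq (actR45 i) i) 240000 15000 = true := by decide +kernel
theorem c_act45_17 : allRange (fun i => Nat.beq (actR45 i) i) 255000 15000 = true := by decide +kernel
theorem c_act45_18 : allRange (fun i => Nat.beq (actR45 i) i) 270000 15000 = true := by decide +kernel
theorem c_act45_19 : allRange (fun i => Nat.beq (actR45 i) i) 285000 15000 = true := by decide +kernel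
theorem c_act45_20 : allRange (fun i => Nat.beq (actR45 i) i) 300000 6936 = true := by decide +kernel
theorem c_act46_0 : allRange (fun i => Nat.beq (actR46 i) i) 0 15000 = true := by decide +kernel
theorem c_act46_1 : allRange (fun i => Nat.beq (actR46 i) i) 15000 15000 = true := by decide +kernel
theorem c_act46_2 : allRange (fun i => Nat.beq (actR46 i) i) 30000 15000 = true := by decide +kernel
theorem c_act46_3 : allRange (fun i => Nat.beq (actR46 i) i) 45000 15000 = true := by decide +kernel
theorem c_act46_4 : allRange (fun i => Nat.beq (actR46 i) i) 60000 15000 = true := by decide +kernel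
theorem c_act46_5 : allRange (fun i => Nat.beq (actR46 i) i) 75000 15000 = true := by decide +kernel
theorem c_act46_6 : allRange (fun i => Nat.beq (actR46 i) i) 90000 15000 = true := by decide +kernel
theorem c_act46_7 : allRange (fun i => Nat.beq (actR46 i) i) 105000 15000 = true := by decide +kernel
theorem c_act46_8 : allRange (fun i => Nat.beq (actR46 i) i) 120000 15000 = true := by decide +kernel
theorem c_act46_9 : allRange (fun i => Nat.beq (actR46 i) i) 135000 15000 = true := by decide +kernel
theorem c_act46_10 : allRange (fun i => Nat.beq (actR46 i) i) 150000 15000 = true := by decide +kernel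
theorem c_act46_11 : allRange (fun i => Nat.beq (actR46 i) i) 165000 15000 = true := by decide +kernel
theorem c_act46_12 : allRange (fun i => Nat.beq (actR46 i) i) 180000 15000 = true := by decide +kernel
theorem c_act46_13 : allRange (fun i => Nat.beq (actR46 i) i) 195000 15000 = true := by decide +kernel
theorem c_act46_14 : allRange (fun i => Nat.beq (actR46 i) i) 210000 15000 = true := by decide +kernel
theorem c_act46_15 : allRange (fun i => Nat.beq (actR46 i) i) 225000 15000 = true := by decide +kernel

end Cfsg.Agent.Lib.Helper4.TCD.Fi24a
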