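import Cfsg.Agent.Lib.Helper4.TCD_Fi24a_Acc

namespace Cfsg.Agent.Lib.Helper4.TCD.Fi24a

open Cfsg.Agent.Lib.Helper4.TC

set_option maxRecDepth 100000
set_option Elab.async false

theorem c_act46_16 : allRange (fun i => Nat.beq (actR46 i) i) 240000 15000 = true := by decide +kernel
theorem c_act46_17 : allRange (fun i => Nat.beq (actR46 i) i) 255000 15000 = true := by decide +kernel
theorem c_act46_18 : allRange (fun i => Nat.beq (actR46 i) i) 270000 15000 = true := by decide +kernel
theorem c_act46_19 : allRange (fun i => Nat.beq (actR46 i) i) 285000 15000 = true := by decide +kernel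
theorem c_act46_20 : allRange (fun i => Nat.beq (actR46 i) i) 300000 6936 = true := by decide +kernel
theorem c_act47_0 : allRange (fun i => Nat.beq (actR47 i) i) 0 15000 = true := by decide +kernel
theorem c_act47_1 : allRange (fun i => Nat.beq (actR47 i) i) 15000 15000 = true := by decide +kernel
theorem c_act47_2 : allRange (fun i => Nat.beq (actR47 i) i) 30000 15000 = true := by decide +kernel
theorem c_act47_3 : allRange (fun i => Nat.beq (actR47 i) i) 45000 15000 = true := by decide +kernel
theorem c_act47_4 : allRange (fun i => Nat.beq (actR47 i) i) 60000 15000 = true := by decide +kernel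
theorem c_act47_5 : allRange (fun i => Nat.beq (actR47 i) i) 75000 15000 = true := by decide +kernel
theorem c_act47_6 : allRange (fun i => Nat.beq (actR47 i) i) 90000 15000 = true := by decide +kernel
theorem c_act47_7 : allRange (fun i => Nat.beq (actR47 i) i) 105000 15000 = true := by decide +kernel
theorem c_act47_8 : allRange (fun i => Nat.beq (actR47 i) i) 120000 15000 = true := by decide +kernel
theorem c_act47_9 : allRange (fun i => Nat.beq (actR47 i) i) 135000 15000 = true := by decide +kernel
theorem c_act47_10 : allRange (fun i => Nat.beq (actR47 i) i) 150000 15000 = true := by decide +kernel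
theorem c_act47_11 : allRange (fun i => Nat.beq (actR47 i) i) 165000 15000 = true := by decide +kernel
theorem c_act47_12 : allRange (fun i => Nat.beq (actR47 i) i) 180000 15000 = true := by decide +kernel
theorem c_act47_13 : allRange (fun i => Nat.beq (actR47 i) i) 195000 15000 = true := by decide +kernel
theorem c_act47_14 : allRange (fun i => Nat.beq (actR47 i) i) 210000 15000 = true := by decide +kernel
theorem c_act47_15 : allRange (fun i => Nat.beq (actR47 i) i) 225000 15000 = true := by decide +kernel
theorem c_act47_16 : allRange (fun i => Nat.beq (actR47 i) i) 240000 15000 = true := by decide +kernel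
theorem c_act47_17 : allRange (fun i => Nat.beq (actR47 i) i) 255000 15000 = true := by decide +kernel
theorem c_act47_18 : allRange (fun i => Nat.beq (actR47 i) i) 270000 15000 = true := by decide +kernel
theorem c_act47_19 : allRange (fun i => Nat.beq (actR47 i) i) 285000 15000 = true := by decide +kernel
theorem c_act47_20 : allRange (fun i => Nat.beq (actR47 i) i) 300000 6936 = true := by decide +kernel
theorem c_act48_0 : allRange (fun i => Nat.beq (actR48 i) i) 0 15000 = true := by decide +kernel
theorem c_act48_1 : allRange (fun i => Nat.beq (actR48 i) i) 15000 15000 = true := by decide +kernel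
theorem c_act48_2 : allRange (fun i => Nat.beq (actR48 i) i) 30000 15000 = true := by decide +kernel
theorem c_act48_3 : allRange (fun i => Nat.beq (actR48 i) i) 45000 15000 = true := by decide +kernel
theorem c_act48_4 : allRange (fun i => Nat.beq (actR48 i) i) 60000 15000 = true := by decide +kernel
theorem c_act48_5 : allRange (fun i => Nat.beq (actR48 i) i) 75000 15000 = true := by decide +kernel
theorem c_act48_6 : allRange (fun i => Nat.beq (actR48 i) i) 90000 15000 = true := by decide +kernel
theorem c_act48_7 : allRange (fun i => Nat.beq (actR48 i) i) 105000 15000 = true := by decide +kernel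
theorem c_act48_8 : allRange (fun i => Nat.beq (actR48 i) i) 120000 15000 = true := by decide +kernel
theorem c_act48_9 : allRange (fun i => Nat.beq (actR48 i) i) 135000 15000 = true := by decide +kernel
theorem c_act48_10 : allRange (fun i => Nat.beq (actR48 i) i) 150000 15000 = true := by decide +kernel
theorem c_act48_11 : allRange (fun i => Nat.beq (actR48 i) i) 165000 15000 = true := by decide +kernel
theorem c_act48_12 : allRange (fun i => Nat.beq (actR48 i) i) 180000 15000 = true := by decide +kernel
theorem c_act48_13 : allRange (fun i => Nat.beq (actR48 i) i) 195000 15000 = true := by decide +kernel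
theorem c_act48_14 : allRange (fun i => Nat.beq (actR48 i) i) 210000 15000 = true := by decide +kernel
theorem c_act48_15 : allRange (fun i => Nat.beq (actR48 i) i) 225000 15000 = true := by decide +kernel
theorem c_act48_16 : allRange (fun i => Nat.beq (actR48 i) i) 240000 15000 = true := by decide +kernel
theorem c_act48_17 : allRange (fun i => Nat.beq (actR48 i) i) 255000 15000 = true := by decide +kernel
theorem c_act48_18 : allRange (fun i => Nat.beq (actR48 i) i) 270000 15000 = true := by decide +kernel
theorem c_act48_19 : allRange (fun i => Nat.beq (actR48 i) i) 285000 15000 = true := by decide +kernel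
theorem c_act48_20 : allRange (fun i => Nat.beq (actR48 i) i) 300000 6936 = true := by decide +kernel
theorem c_act49_0 : allRange (fun i => Nat.beq (actR49 i) i) 0 15000 = true := by decide +kernel
theorem c_act49_1 : allRange (fun i => Nat.beq (actR49 i) i) 15000 15000 = true := by decide +kernel
theorem c_act49_2 : allRange (fun i => Nat.beq (actR49 i) i) 30000 15000 = true := by decide +kernel
theorem c_act49_3 : allRange (fun i => Nat.beq (actR49 i) i) 45000 15000 = true := by decide +kernel

end Cfsg.Agent.Lib.Helper4.TCD.Fi24a
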