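import Cfsg.Agent.Lib.Helper4.TCD_Fi24a_Acc

namespace Cfsg.Agent.Lib.Helper4.TCD.Fi24a

open Cfsg.Agent.Lib.Helper4.TC

set_option maxRecDepth 100000
set_option Elab.async false

theorem c_act49_4 : allRange (fun i => Nat.beq (actR49 i) i) 60000 15000 = true := by decide +kernel
theorem c_act49_5 : allRange (fun i => Nat.beq (actR49 i) i) 75000 15000 = true := by decide +kernel
theorem c_act49_6 : allRange (fun i => Nat.beq (actR49 i) i) 90000 15000 = true := by decide +kernel
theorem c_act49_7 : allRange (fun i => Nat.beq (actR49 i) i) 105000 15000 = true := by decide +kernel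
theorem c_act49_8 : allRange (fun i => Nat.beq (actR49 i) i) 120000 15000 = true := by decide +kernel
theorem c_act49_9 : allRange (fun i => Nat.beq (actR49 i) i) 135000 15000 = true := by decide +kernel
theorem c_act49_10 : allRange (fun i => Nat.beq (actR49 i) i) 150000 15000 = true := by decide +kernel
theorem c_act49_11 : allRange (fun i => Nat.beq (actR49 i) i) 165000 15000 = true := by decide +kernel
theorem c_act49_12 : allRange (fun i => Nat.beq (actR49 i) i) 180000 15000 = true := by decide +kernel
theorem c_act49_13 : allRange (fun i => Nat.beq (actR49 i) i) 195000 15000 = true := by decide +kernel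
theorem c_act49_14 : allRange (fun i => Nat.beq (actR49 i) i) 210000 15000 = true := by decide +kernel
theorem c_act49_15 : allRange (fun i => Nat.beq (actR49 i) i) 225000 15000 = true := by decide +kernel
theorem c_act49_16 : allRange (fun i => Nat.beq (actR49 i) i) 240000 15000 = true := by decide +kernel
theorem c_act49_17 : allRange (fun i => Nat.beq (actR49 i) i) 255000 15000 = true := by decide +kernel
theorem c_act49_18 : allRange (fun i => Nat.beq (actR49 i) i) 270000 15000 = true := by decide +kernel
theorem c_act49_19 : allRange (fun i => Nat.beq (actR49 i) i) 285000 15000 = true := by decide +kernel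
theorem c_act49_20 : allRange (fun i => Nat.beq (actR49 i) i) 300000 6936 = true := by decide +kernel
theorem c_act50_0 : allRange (fun i => Nat.beq (actR50 i) i) 0 30000 = true := by decide +kernel
theorem c_act50_1 : allRange (fun i => Nat.beq (actR50 i) i) 30000 30000 = true := by decide +kernel
theorem c_act50_2 : allRange (fun i => Nat.beq (actR50 i) i) 60000 30000 = true := by decide +kernel
theorem c_act50_3 : allRange (fun i => Nat.beq (actR50 i) i) 90000 30000 = true := by decide +kernel
theorem c_act50_4 : allRange (fun i => Nat.beq (actR50 i) i) 120000 30000 = true := by decide +kernel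
theorem c_act50_5 : allRange (fun i => Nat.beq (actR50 i) i) 150000 30000 = true := by decide +kernel
theorem c_act50_6 : allRange (fun i => Nat.beq (actR50 i) i) 180000 30000 = true := by decide +kernel
theorem c_act50_7 : allRange (fun i => Nat.beq (actR50 i) i) 210000 30000 = true := by decide +kernel
theorem c_act50_8 : allRange (fun i => Nat.beq (actR50 i) i) 240000 30000 = true := by decide +kernel
theorem c_act50_9 : allRange (fun i => Nat.beq (actR50 i) i) 270000 30000 = true := by decide +kernel
theorem c_act50_10 : allRange (fun i => Nat.beq (actR50 i) i) 300000 6936 = true := by decide +kernel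
theorem c_act51_0 : allRange (fun i => Nat.beq (actR51 i) i) 0 10000 = true := by decide +kernel
theorem c_act51_1 : allRange (fun i => Nat.beq (actR51 i) i) 10000 10000 = true := by decide +kernel
theorem c_act51_2 : allRange (fun i => Nat.beq (actR51 i) i) 20000 10000 = true := by decide +kernel
theorem c_act51_3 : allRange (fun i => Nat.beq (actR51 i) i) 30000 10000 = true := by decide +kernel
theorem c_act51_4 : allRange (fun i => Nat.beq (actR51 i) i) 40000 10000 = true := by decide +kernel
theorem c_act51_5 : allRange (fun i => Nat.beq (actR51 i) i) 50000 10000 = true := by decide +kernel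
theorem c_act51_6 : allRange (fun i => Nat.beq (actR51 i) i) 60000 10000 = true := by decide +kernel
theorem c_act51_7 : allRange (fun i => Nat.beq (actR51 i) i) 70000 10000 = true := by decide +kernel
theorem c_act51_8 : allRange (fun i => Nat.beq (actR51 i) i) 80000 10000 = true := by decide +kernel
theorem c_act51_9 : allRange (fun i => Nat.beq (actR51 i) i) 90000 10000 = true := by decide +kernel
theorem c_act51_10 : allRange (fun i => Nat.beq (actR51 i) i) 100000 10000 = true := by decide +kernel
theorem c_act51_11 : allRange (fun i => Nat.beq (actR51 i) i) 110000 10000 = true := by decide +kernel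
theorem c_act51_12 : allRange (fun i => Nat.beq (actR51 i) i) 120000 10000 = true := by decide +kernel
theorem c_act51_13 : allRange (fun i => Nat.beq (actR51 i) i) 130000 10000 = true := by decide +kernel
theorem c_act51_14 : allRange (fun i => Nat.beq (actR51 i) i) 140000 10000 = true := by decide +kernel
theorem c_act51_15 : allRange (fun i => Nat.beq (actR51 i) i) 150000 10000 = true := by decide +kernel
theorem c_act51_16 : allRange (fun i => Nat.beq (actR51 i) i) 160000 10000 = true := by decide +kernel
theorem c_act51_17 : allRange (fun i => Nat.beq (actR51 i) i) 170000 10000 = true := by decide +kernel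
theorem c_act51_18 : allRange (fun i => Nat.beq (actR51 i) i) 180000 10000 = true := by decide +kernel
theorem c_act51_19 : allRange (fun i => Nat.beq (actR51 i) i) 190000 10000 = true := by decide +kernel
theorem c_act51_20 : allRange (fun i => Nat.beq (actR51 i) i) 200000 10000 = true := by decide +kernel
theorem c_act51_21 : allRange (fun i => Nat.beq (actR51 i) i) 210000 10000 = true := by decide +kernel
theorem c_act51_22 : allRange (fun i => Nat.beq (actR51 i) i) 220000 10000 = true := by decide +kernel

end Cfsg.Agent.Lib.Helper4.TCD.Fi24a
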