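import Cfsg.Agent.Lib.Helper4.TCD_Fi24a_Acc

namespace Cfsg.Agent.Lib.Helper4.TCD.Fi24a

open Cfsg.Agent.Lib.Helper4.TC

set_option maxRecDepth 100000
set_option Elab.async false

theorem c_act53_11 : allRange (fun i => Nat.beq (actR53 i) i) 165000 15000 = true := by decide +kernel
theorem c_act53_12 : allRange (fun i => Nat.beq (actR53 i) i) 180000 15000 = true := by decide +kernel
theorem c_act53_13 : allRange (fun i => Nat.beq (actR53 i) i) 195000 15000 = true := by decide +kernel
theorem c_act53_14 : allRange (fun i => Nat.beq (actR53 i) i) 210000 15000 = true := by decide +kernel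
theorem c_act53_15 : allRange (fun i => Nat.beq (actR53 i) i) 225000 15000 = true := by decide +kernel
theorem c_act53_16 : allRange (fun i => Nat.beq (actR53 i) i) 240000 15000 = true := by decide +kernel
theorem c_act53_17 : allRange (fun i => Nat.beq (actR53 i) i) 255000 15000 = true := by decide +kernel
theorem c_act53_18 : allRange (fun i => Nat.beq (actR53 i) i) 270000 15000 = true := by decide +kernel
theorem c_act53_19 : allRange (fun i => Nat.beq (actR53 i) i) 285000 15000 = true := by decide +kernel
theorem c_act53_20 : allRange (fun i => Nat.beq (actR53 i) i) 300000 6936 = true := by decide +kernel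
theorem c_act54_0 : allRange (fun i => Nat.beq (actR54 i) i) 0 15000 = true := by decide +kernel
theorem c_act54_1 : allRange (fun i => Nat.beq (actR54 i) i) 15000 15000 = true := by decide +kernel
theorem c_act54_2 : allRange (fun i => Nat.beq (actR54 i) i) 30000 15000 = true := by decide +kernel
theorem c_act54_3 : allRange (fun i => Nat.beq (actR54 i) i) 45000 15000 = true := by decide +kernel
theorem c_act54_4 : allRange (fun i => Nat.beq (actR54 i) i) 60000 15000 = true := by decide +kernel
theorem c_act54_5 : allRange (fun i => Nat.beq (actR54 i) i) 75000 15000 = true := by decide +kernel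
theorem c_act54_6 : allRange (fun i => Nat.beq (actR54 i) i) 90000 15000 = true := by decide +kernel
theorem c_act54_7 : allRange (fun i => Nat.beq (actR54 i) i) 105000 15000 = true := by decide +kernel
theorem c_act54_8 : allRange (fun i => Nat.beq (actR54 i) i) 120000 15000 = true := by decide +kernel
theorem c_act54_9 : allRange (fun i => Nat.beq (actR54 i) i) 135000 15000 = true := by decide +kernel
theorem c_act54_10 : allRange (fun i => Nat.beq (actR54 i) i) 150000 15000 = true := by decide +kernel
theorem c_act54_11 : allRange (fun i => Nat.beq (actR54 i) i) 165000 15000 = true := by decide +kernel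
theorem c_act54_12 : allRange (fun i => Nat.beq (actR54 i) i) 180000 15000 = true := by decide +kernel
theorem c_act54_13 : allRange (fun i => Nat.beq (actR54 i) i) 195000 15000 = true := by decide +kernel
theorem c_act54_14 : allRange (fun i => Nat.beq (actR54 i) i) 210000 15000 = true := by decide +kernel
theorem c_act54_15 : allRange (fun i => Nat.beq (actR54 i) i) 225000 15000 = true := by decide +kernel
theorem c_act54_16 : allRange (fun i => Nat.beq (actR54 i) i) 240000 15000 = true := by decide +kernel
theorem c_act54_17 : allRange (fun i => Nat.beq (actR54 i) i) 255000 15000 = true := by decide +kernel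
theorem c_act54_18 : allRange (fun i => Nat.beq (actR54 i) i) 270000 15000 = true := by decide +kernel
theorem c_act54_19 : allRange (fun i => Nat.beq (actR54 i) i) 285000 15000 = true := by decide +kernel
theorem c_act54_20 : allRange (fun i => Nat.beq (actR54 i) i) 300000 6936 = true := by decide +kernel
theorem c_act55_0 : allRange (fun i => Nat.beq (actR55 i) i) 0 15000 = true := by decide +kernel
theorem c_act55_1 : allRange (fun i => Nat.beq (actR55 i) i) 15000 15000 = true := by decide +kernel
theorem c_act55_2 : allRange (fun i => Nat.beq (actR55 i) i) 30000 15000 = true := by decide +kernel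
theorem c_act55_3 : allRange (fun i => Nat.beq (actR55 i) i) 45000 15000 = true := by decide +kernel
theorem c_act55_4 : allRange (fun i => Nat.beq (actR55 i) i) 60000 15000 = true := by decide +kernel
theorem c_act55_5 : allRange (fun i => Nat.beq (actR55 i) i) 75000 15000 = true := by decide +kernel
theorem c_act55_6 : allRange (fun i => Nat.beq (actR55 i) i) 90000 15000 = true := by decide +kernel
theorem c_act55_7 : allRange (fun i => Nat.beq (actR55 i) i) 105000 15000 = true := by decide +kernel
theorem c_act55_8 : allRange (fun i => Nat.beq (actR55 i) i) 120000 15000 = true := by decide +kernel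
theorem c_act55_9 : allRange (fun i => Nat.beq (actR55 i) i) 135000 15000 = true := by decide +kernel
theorem c_act55_10 : allRange (fun i => Nat.beq (actR55 i) i) 150000 15000 = true := by decide +kernel
theorem c_act55_11 : allRange (fun i => Nat.beq (actR55 i) i) 165000 15000 = true := by decide +kernel
theorem c_act55_12 : allRange (fun i => Nat.beq (actR55 i) i) 180000 15000 = true := by decide +kernel
theorem c_act55_13 : allRange (fun i => Nat.beq (actR55 i) i) 195000 15000 = true := by decide +kernel
theorem c_act55_14 : allRange (fun i => Nat.beq (actR55 i) i) 210000 15000 = true := by decide +kernel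
theorem c_act55_15 : allRange (fun i => Nat.beq (actR55 i) i) 225000 15000 = true := by decide +kernel
theorem c_act55_16 : allRange (fun i => Nat.beq (actR55 i) i) 240000 15000 = true := by decide +kernel
theorem c_act55_17 : allRange (fun i => Nat.beq (actR55 i) i) 255000 15000 = true := by decide +kernel
theorem c_act55_18 : allRange (fun i => Nat.beq (actR55 i) i) 270000 15000 = true := by decide +kernel
theorem c_act55_19 : allRange (fun i => Nat.beq (actR55 i) i) 285000 15000 = true := by decide +kernel

end Cfsg.Agent.Lib.Helper4.TCD.Fi24a
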