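import Cfsg.Agent.Lib.Helper4.TCD_Fi24a_Acc

namespace Cfsg.Agent.Lib.Helper4.TCD.Fi24a

open Cfsg.Agent.Lib.Helper4.TC

set_option maxRecDepth 100000
set_option Elab.async false

theorem c_act55_20 : allRange (fun i => Nat.beq (actR55 i) i) 300000 6936 = true := by decide +kernel
theorem c_act56_0 : allRange (fun i => Nat.beq (actR56 i) i) 0 15000 = true := by decide +kernel
theorem c_act56_1 : allRange (fun i => Nat.beq (actR56 i) i) 15000 15000 = true := by decide +kernel
theorem c_act56_2 : allRange (fun i => Nat.beq (actR56 i) i) 30000 15000 = true := by decide +kernel
theorem c_act56_3 : allRange (fun i => Nat.beq (actR56 i) i) 45000 15000 = true := by decide +kernel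
theorem c_act56_4 : allRange (fun i => Nat.beq (actR56 i) i) 60000 15000 = true := by decide +kernel
theorem c_act56_5 : allRange (fun i => Nat.beq (actR56 i) i) 75000 15000 = true := by decide +kernel
theorem c_act56_6 : allRange (fun i => Nat.beq (actR56 i) i) 90000 15000 = true := by decide +kernel
theorem c_act56_7 : allRange (fun i => Nat.beq (actR56 i) i) 105000 15000 = true := by decide +kernel
theorem c_act56_8 : allRange (fun i => Nat.beq (actR56 i) i) 120000 15000 = true := by decide +kernel
theorem c_act56_9 : allRange (fun i => Nat.beq (actR56 i) i) 135000 15000 = true := by decide +kernel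
theorem c_act56_10 : allRange (fun i => Nat.beq (actR56 i) i) 150000 15000 = true := by decide +kernel
theorem c_act56_11 : allRange (fun i => Nat.beq (actR56 i) i) 165000 15000 = true := by decide +kernel
theorem c_act56_12 : allRange (fun i => Nat.beq (actR56 i) i) 180000 15000 = true := by decide +kernel
theorem c_act56_13 : allRange (fun i => Nat.beq (actR56 i) i) 195000 15000 = true := by decide +kernel
theorem c_act56_14 : allRange (fun i => Nat.beq (actR56 i) i) 210000 15000 = true := by decide +kernel
theorem c_act56_15 : allRange (fun i => Nat.beq (actR56 i) i) 225000 15000 = true := by decide +kernel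
theorem c_act56_16 : allRange (fun i => Nat.beq (actR56 i) i) 240000 15000 = true := by decide +kernel
theorem c_act56_17 : allRange (fun i => Nat.beq (actR56 i) i) 255000 15000 = true := by decide +kernel
theorem c_act56_18 : allRange (fun i => Nat.beq (actR56 i) i) 270000 15000 = true := by decide +kernel
theorem c_act56_19 : allRange (fun i => Nat.beq (actR56 i) i) 285000 15000 = true := by decide +kernel
theorem c_act56_20 : allRange (fun i => Nat.beq (actR56 i) i) 300000 6936 = true := by decide +kernel
theorem c_act57_0 : allRange (fun i => Nat.beq (actR57 i) i) 0 30000 = true := by decide +kernel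
theorem c_act57_1 : allRange (fun i => Nat.beq (actR57 i) i) 30000 30000 = true := by decide +kernel
theorem c_act57_2 : allRange (fun i => Nat.beq (actR57 i) i) 60000 30000 = true := by decide +kernel
theorem c_act57_3 : allRange (fun i => Nat.beq (actR57 i) i) 90000 30000 = true := by decide +kernel
theorem c_act57_4 : allRange (fun i => Nat.beq (actR57 i) i) 120000 30000 = true := by decide +kernel
theorem c_act57_5 : allRange (fun i => Nat.beq (actR57 i) i) 150000 30000 = true := by decide +kernel
theorem c_act57_6 : allRange (fun i => Nat.beq (actR57 i) i) 180000 30000 = true := by decide +kernel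
theorem c_act57_7 : allRange (fun i => Nat.beq (actR57 i) i) 210000 30000 = true := by decide +kernel
theorem c_act57_8 : allRange (fun i => Nat.beq (actR57 i) i) 240000 30000 = true := by decide +kernel
theorem c_act57_9 : allRange (fun i => Nat.beq (actR57 i) i) 270000 30000 = true := by decide +kernel
theorem c_act57_10 : allRange (fun i => Nat.beq (actR57 i) i) 300000 6936 = true := by decide +kernel
theorem c_act58_0 : allRange (fun i => Nat.beq (actR58 i) i) 0 15000 = true := by decide +kernel
theorem c_act58_1 : allRange (fun i => Nat.beq (actR58 i) i) 15000 15000 = true := by decide +kernel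
theorem c_act58_2 : allRange (fun i => Nat.beq (actR58 i) i) 30000 15000 = true := by decide +kernel
theorem c_act58_3 : allRange (fun i => Nat.beq (actR58 i) i) 45000 15000 = true := by decide +kernel
theorem c_act58_4 : allRange (fun i => Nat.beq (actR58 i) i) 60000 15000 = true := by decide +kernel
theorem c_act58_5 : allRange (fun i => Nat.beq (actR58 i) i) 75000 15000 = true := by decide +kernel
theorem c_act58_6 : allRange (fun i => Nat.beq (actR58 i) i) 90000 15000 = true := by decide +kernel
theorem c_act58_7 : allRange (fun i => Nat.beq (actR58 i) i) 105000 15000 = true := by decide +kernel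
theorem c_act58_8 : allRange (fun i => Nat.beq (actR58 i) i) 120000 15000 = true := by decide +kernel
theorem c_act58_9 : allRange (fun i => Nat.beq (actR58 i) i) 135000 15000 = true := by decide +kernel
theorem c_act58_10 : allRange (fun i => Nat.beq (actR58 i) i) 150000 15000 = true := by decide +kernel
theorem c_act58_11 : allRange (fun i => Nat.beq (actR58 i) i) 165000 15000 = true := by decide +kernel
theorem c_act58_12 : allRange (fun i => Nat.beq (actR58 i) i) 180000 15000 = true := by decide +kernel
theorem c_act58_13 : allRange (fun i => Nat.beq (actR58 i) i) 195000 15000 = true := by decide +kernel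
theorem c_act58_14 : allRange (fun i => Nat.beq (actR58 i) i) 210000 15000 = true := by decide +kernel
theorem c_act58_15 : allRange (fun i => Nat.beq (actR58 i) i) 225000 15000 = true := by decide +kernel
theorem c_act58_16 : allRange (fun i => Nat.beq (actR58 i) i) 240000 15000 = true := by decide +kernel
theorem c_act58_17 : allRange (fun i => Nat.beq (actR58 i) i) 255000 15000 = true := by decide +kernel

end Cfsg.Agent.Lib.Helper4.TCD.Fi24a
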