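import Cfsg.Agent.Lib.Helper4.TCD_Fi24a_Acc

namespace Cfsg.Agent.Lib.Helper4.TCD.Fi24a

open Cfsg.Agent.Lib.Helper4.TC

set_option maxRecDepth 100000
set_option Elab.async false

theorem c_act58_18 : allRange (fun i => Nat.beq (actR58 i) i) 270000 15000 = true := by decide +kernel
theorem c_act58_19 : allRange (fun i => Nat.beq (actR58 i) i) 285000 15000 = true := by decide +kernel
theorem c_act58_20 : allRange (fun i => Nat.beq (actR58 i) i) 300000 6936 = true := by decide +kernel
theorem c_act59_0 : allRange (fun i => Nat.beq (actR59 i) i) 0 10000 = true := by decide +kernel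
theorem c_act59_1 : allRange (fun i => Nat.beq (actR59 i) i) 10000 10000 = true := by decide +kernel
theorem c_act59_2 : allRange (fun i => Nat.beq (actR59 i) i) 20000 10000 = true := by decide +kernel
theorem c_act59_3 : allRange (fun i => Nat.beq (actR59 i) i) 30000 10000 = true := by decide +kernel
theorem c_act59_4 : allRange (fun i => Nat.beq (actR59 i) i) 40000 10000 = true := by decide +kernel
theorem c_act59_5 : allRange (fun i => Nat.beq (actR59 i) i) 50000 10000 = true := by decide +kernel
theorem c_act59_6 : allRange (fun i => Nat.beq (actR59 i) i) 60000 10000 = true := by decide +kernel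
theorem c_act59_7 : allRange (fun i => Nat.beq (actR59 i) i) 70000 10000 = true := by decide +kernel
theorem c_act59_8 : allRange (fun i => Nat.beq (actR59 i) i) 80000 10000 = true := by decide +kernel
theorem c_act59_9 : allRange (fun i => Nat.beq (actR59 i) i) 90000 10000 = true := by decide +kernel
theorem c_act59_10 : allRange (fun i => Nat.beq (actR59 i) i) 100000 10000 = true := by decide +kernel
theorem c_act59_11 : allRange (fun i => Nat.beq (actR59 i) i) 110000 10000 = true := by decide +kernel
theorem c_act59_12 : allRange (fun i => Nat.beq (actR59 i) i) 120000 10000 = true := by decide +kernel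
theorem c_act59_13 : allRange (fun i => Nat.beq (actR59 i) i) 130000 10000 = true := by decide +kernel
theorem c_act59_14 : allRange (fun i => Nat.beq (actR59 i) i) 140000 10000 = true := by decide +kernel
theorem c_act59_15 : allRange (fun i => Nat.beq (actR59 i) i) 150000 10000 = true := by decide +kernel
theorem c_act59_16 : allRange (fun i => Nat.beq (actR59 i) i) 160000 10000 = true := by decide +kernel
theorem c_act59_17 : allRange (fun i => Nat.beq (actR59 i) i) 170000 10000 = true := by decide +kernel
theorem c_act59_18 : allRange (fun i => Nat.beq (actR59 i) i) 180000 10000 = true := by decide +kernel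
theorem c_act59_19 : allRange (fun i => Nat.beq (actR59 i) i) 190000 10000 = true := by decide +kernel
theorem c_act59_20 : allRange (fun i => Nat.beq (actR59 i) i) 200000 10000 = true := by decide +kernel
theorem c_act59_21 : allRange (fun i => Nat.beq (actR59 i) i) 210000 10000 = true := by decide +kernel
theorem c_act59_22 : allRange (fun i => Nat.beq (actR59 i) i) 220000 10000 = true := by decide +kernel
theorem c_act59_23 : allRange (fun i => Nat.beq (actR59 i) i) 230000 10000 = true := by decide +kernel
theorem c_act59_24 : allRange (fun i => Nat.beq (actR59 i) i) 240000 10000 = true := by decide +kernel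
theorem c_act59_25 : allRange (fun i => Nat.beq (actR59 i) i) 250000 10000 = true := by decide +kernel
theorem c_act59_26 : allRange (fun i => Nat.beq (actR59 i) i) 260000 10000 = true := by decide +kernel
theorem c_act59_27 : allRange (fun i => Nat.beq (actR59 i) i) 270000 10000 = true := by decide +kernel
theorem c_act59_28 : allRange (fun i => Nat.beq (actR59 i) i) 280000 10000 = true := by decide +kernel
theorem c_act59_29 : allRange (fun i => Nat.beq (actR59 i) i) 290000 10000 = true := by decide +kernel
theorem c_act59_30 : allRange (fun i => Nat.beq (actR59 i) i) 300000 6936 = true := by decide +kernel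
theorem c_act60_0 : allRange (fun i => Nat.beq (actR60 i) i) 0 15000 = true := by decide +kernel
theorem c_act60_1 : allRange (fun i => Nat.beq (actR60 i) i) 15000 15000 = true := by decide +kernel
theorem c_act60_2 : allRange (fun i => Nat.beq (actR60 i) i) 30000 15000 = true := by decide +kernel
theorem c_act60_3 : allRange (fun i => Nat.beq (actR60 i) i) 45000 15000 = true := by decide +kernel
theorem c_act60_4 : allRange (fun i => Nat.beq (actR60 i) i) 60000 15000 = true := by decide +kernel
theorem c_act60_5 : allRange (fun i => Nat.beq (actR60 i) i) 75000 15000 = true := by decide +kernel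
theorem c_act60_6 : allRange (fun i => Nat.beq (actR60 i) i) 90000 15000 = true := by decide +kernel
theorem c_act60_7 : allRange (fun i => Nat.beq (actR60 i) i) 105000 15000 = true := by decide +kernel
theorem c_act60_8 : allRange (fun i => Nat.beq (actR60 i) i) 120000 15000 = true := by decide +kernel
theorem c_act60_9 : allRange (fun i => Nat.beq (actR60 i) i) 135000 15000 = true := by decide +kernel
theorem c_act60_10 : allRange (fun i => Nat.beq (actR60 i) i) 150000 15000 = true := by decide +kernel
theorem c_act60_11 : allRange (fun i => Nat.beq (actR60 i) i) 165000 15000 = true := by decide +kernel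
theorem c_act60_12 : allRange (fun i => Nat.beq (actR60 i) i) 180000 15000 = true := by decide +kernel
theorem c_act60_13 : allRange (fun i => Nat.beq (actR60 i) i) 195000 15000 = true := by decide +kernel
theorem c_act60_14 : allRange (fun i => Nat.beq (actR60 i) i) 210000 15000 = true := by decide +kernel
theorem c_act60_15 : allRange (fun i => Nat.beq (actR60 i) i) 225000 15000 = true := by decide +kernel

end Cfsg.Agent.Lib.Helper4.TCD.Fi24a
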