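import Cfsg.Agent.Lib.Helper4.TCD_Fi24a_Acc

namespace Cfsg.Agent.Lib.Helper4.TCD.Fi24a

open Cfsg.Agent.Lib.Helper4.TC

set_option maxRecDepth 100000
set_option Elab.async false

theorem c_rel_318 : allRange D.relOK 1473751 3536 = true := by decide +kernel
theorem c_rel_319 : allRange D.relOK 1477287 3531 = true := by decide +kernel
theorem c_rel_320 : allRange D.relOK 1480818 3526 = true := by decide +kernel
theorem c_rel_321 : allRange D.relOK 1484344 3539 = true := by decide +kernel
theorem c_rel_322 : allRange D.relOK 1487883 3529 = true := by decide +kernel
theorem c_rel_323 : allRange D.relOK 1491412 3545 = true := by decide +kernel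
theorem c_rel_324 : allRange D.relOK 1494957 3530 = true := by decide +kernel
theorem c_rel_325 : allRange D.relOK 1498487 3550 = true := by decide +kernel
theorem c_rel_326 : allRange D.relOK 1502037 3539 = true := by decide +kernel
theorem c_rel_327 : allRange D.relOK 1505576 3533 = true := by decide +kernel
theorem c_rel_328 : allRange D.relOK 1509109 3564 = true := by decide +kernel
theorem c_rel_329 : allRange D.relOK 1512673 3527 = true := by decide +kernel
theorem c_rel_330 : allRange D.relOK 1516200 3539 = true := by decide +kernel
theorem c_rel_331 : allRange D.relOK 1519739 3555 = true := by decide +kernel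
theorem c_rel_332 : allRange D.relOK 1523294 3585 = true := by decide +kernel
theorem c_rel_333 : allRange D.relOK 1526879 3511 = true := by decide +kernel
theorem c_rel_334 : allRange D.relOK 1530390 3484 = true := by decide +kernel
theorem c_rel_335 : allRange D.relOK 1533874 3480 = true := by decide +kernel
theorem c_rel_336 : allRange D.relOK 1537354 3449 = true := by decide +kernel
theorem c_rel_337 : allRange D.relOK 1540803 3478 = true := by decide +kernel
theorem c_rel_338 : allRange D.relOK 1544281 3547 = true := by decide +kernel
theorem c_rel_339 : allRange D.relOK 1547828 3523 = true := by decide +kernel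
theorem c_rel_340 : allRange D.relOK 1551351 3483 = true := by decide +kernel
theorem c_rel_341 : allRange D.relOK 1554834 3513 = true := by decide +kernel
theorem c_rel_342 : allRange D.relOK 1558347 3519 = true := by decide +kernel
theorem c_rel_343 : allRange D.relOK 1561866 3490 = true := by decide +kernel
theorem c_rel_344 : allRange D.relOK 1565356 3501 = true := by decide +kernel
theorem c_rel_345 : allRange D.relOK 1568857 3500 = true := by decide +kernel
theorem c_rel_346 : allRange D.relOK 1572357 3528 = true := by decide +kernel
theorem c_rel_347 : allRange D.relOK 1575885 3490 = true := by decide +kernel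
theorem c_rel_348 : allRange D.relOK 1579375 3469 = true := by decide +kernel
theorem c_rel_349 : allRange D.relOK 1582844 3454 = true := by decide +kernel
theorem c_rel_350 : allRange D.relOK 1586298 3516 = true := by decide +kernel
theorem c_rel_351 : allRange D.relOK 1589814 3462 = true := by decide +kernel
theorem c_rel_352 : allRange D.relOK 1593276 3536 = true := by decide +kernel
theorem c_rel_353 : allRange D.relOK 1596812 3542 = true := by decide +kernel
theorem c_rel_354 : allRange D.relOK 1600354 3518 = true := by decide +kernel
theorem c_rel_355 : allRange D.relOK 1603872 3537 = true := by decide +kernel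
theorem c_rel_356 : allRange D.relOK 1607409 3537 = true := by decide +kernel
theorem c_rel_357 : allRange D.relOK 1610946 3519 = true := by decide +kernel
theorem c_rel_358 : allRange D.relOK 1614465 3519 = true := by decide +kernel
theorem c_rel_359 : allRange D.relOK 1617984 3516 = true := by decide +kernel
theorem c_rel_360 : allRange D.relOK 1621500 3494 = true := by decide +kernel
theorem c_rel_361 : allRange D.relOK 1624994 3536 = true := by decide +kernel
theorem c_rel_362 : allRange D.relOK 1628530 3526 = true := by decide +kernel
theorem c_rel_363 : allRange D.relOK 1632056 3496 = true := by decide +kernel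
theorem c_rel_364 : allRange D.relOK 1635552 3502 = true := by decide +kernel
theorem c_rel_365 : allRange D.relOK 1639054 3514 = true := by decide +kernel
theorem c_rel_366 : allRange D.relOK 1642568 3500 = true := by decide +kernel
theorem c_rel_367 : allRange D.relOK 1646068 3522 = true := by decide +kernel
theorem c_rel_368 : allRange D.relOK 1649590 3511 = true := by decide +kernel
theorem c_rel_369 : allRange D.relOK 1653101 3500 = true := by decide +kernel
theorem c_rel_370 : allRange D.relOK 1656601 3504 = true := by decide +kernel
theorem c_rel_371 : allRange D.relOK 1660105 3560 = true := by decide +kernel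
theorem c_rel_372 : allRange D.relOK 1663665 3562 = true := by decide +kernel
theorem c_rel_373 : allRange D.relOK 1667227 3495 = true := by decide +kernel
theorem c_rel_374 : allRange D.relOK 1670722 3445 = true := by decide +kernel
theorem c_rel_375 : allRange D.relOK 1674167 3425 = true := by decide +kernel
theorem c_rel_376 : allRange D.relOK 1677592 3454 = true := by decide +kernel
theorem c_rel_377 : allRange D.relOK 1681046 3461 = true := by decide +kernel
theorem c_rel_378 : allRange D.relOK 1684507 3518 = true := by decide +kernel
theorem c_rel_379 : allRange D.relOK 1688025 3477 = true := by decide +kernel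
theorem c_rel_380 : allRange D.relOK 1691502 3487 = true := by decide +kernel
theorem c_rel_381 : allRange D.relOK 1694989 3458 = true := by decide +kernel
theorem c_rel_382 : allRange D.relOK 1698447 3486 = true := by decide +kernel
theorem c_rel_383 : allRange D.relOK 1701933 3461 = true := by decide +kernel
theorem c_rel_384 : allRange D.relOK 1705394 3458 = true := by decide +kernel
theorem c_rel_385 : allRange D.relOK 1708852 3454 = true := by decide +kernel
theorem c_rel_386 : allRange D.relOK 1712306 3523 = true := by decide +kernel
theorem c_rel_387 : allRange D.relOK 1715829 3472 = true := by decide +kernel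
theorem c_rel_388 : allRange D.relOK 1719301 3446 = true := by decide +kernel
theorem c_rel_389 : allRange D.relOK 1722747 3410 = true := by decide +kernel
theorem c_rel_390 : allRange D.relOK 1726157 3470 = true := by decide +kernel
theorem c_rel_391 : allRange D.relOK 1729627 3422 = true := by decide +kernel
theorem c_rel_392 : allRange D.relOK 1733049 3517 = true := by decide +kernel
theorem c_rel_393 : allRange D.relOK 1736566 3529 = true := by decide +kernel
theorem c_rel_394 : allRange D.relOK 1740095 3454 = true := by decide +kernel
theorem c_rel_395 : allRange D.relOK 1743549 3522 = true := by decide +kernel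
theorem c_rel_396 : allRange D.relOK 1747071 3520 = true := by decide +kernel
theorem c_rel_397 : allRange D.relOK 1750591 3499 = true := by decide +kernel
theorem c_rel_398 : allRange D.relOK 1754090 3479 = true := by decide +kernel
theorem c_rel_399 : allRange D.relOK 1757569 3498 = true := by decide +kernel
theorem c_rel_400 : allRange D.relOK 1761067 3476 = true := by decide +kernel
theorem c_rel_401 : allRange D.relOK 1764543 3491 = true := by decide +kernel
theorem c_rel_402 : allRange D.relOK 1768034 3496 = true := by decide +kernel
theorem c_rel_403 : allRange D.relOK 1771530 3504 = true := by decide +kernel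
theorem c_rel_404 : allRange D.relOK 1775034 3470 = true := by decide +kernel
theorem c_rel_405 : allRange D.relOK 1778504 3484 = true := by decide +kernel
theorem c_rel_406 : allRange D.relOK 1781988 3471 = true := by decide +kernel
theorem c_rel_407 : allRange D.relOK 1785459 3430 = true := by decide +kernel
theorem c_rel_408 : allRange D.relOK 1788889 3473 = true := by decide +kernel
theorem c_rel_409 : allRange D.relOK 1792362 3484 = true := by decide +kernel
theorem c_rel_410 : allRange D.relOK 1795846 3475 = true := by decide +kernel
theorem c_rel_411 : allRange D.relOK 1799321 3504 = true := by decide +kernel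
theorem c_rel_412 : allRange D.relOK 1802825 3527 = true := by decide +kernel
theorem c_rel_413 : allRange D.relOK 1806352 3526 = true := by decide +kernel
theorem c_rel_414 : allRange D.relOK 1809878 3474 = true := by decide +kernel
theorem c_rel_415 : allRange D.relOK 1813352 3411 = true := by decide +kernel
theorem c_rel_416 : allRange D.relOK 1816763 3367 = true := by decide +kernel

end Cfsg.Agent.Lib.Helper4.TCD.Fi24a
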