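import Cfsg.Agent.Lib.Helper4.TCD_Fi24a_Acc

namespace Cfsg.Agent.Lib.Helper4.TCD.Fi24a

open Cfsg.Agent.Lib.Helper4.TC

set_option maxRecDepth 100000
set_option Elab.async false

theorem c_act60_16 : allRange (fun i => Nat.beq (actR60 i) i) 240000 15000 = true := by decide +kernel
theorem c_act60_17 : allRange (fun i => Nat.beq (actR60 i) i) 255000 15000 = true := by decide +kernel
theorem c_act60_18 : allRange (fun i => Nat.beq (actR60 i) i) 270000 15000 = true := by decide +kernel
theorem c_act60_19 : allRange (fun i => Nat.beq (actR60 i) i) 285000 15000 = true := by decide +kernel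
theorem c_act60_20 : allRange (fun i => Nat.beq (actR60 i) i) 300000 6936 = true := by decide +kernel
theorem c_act61_0 : allRange (fun i => Nat.beq (actR61 i) i) 0 15000 = true := by decide +kernel
theorem c_act61_1 : allRange (fun i => Nat.beq (actR61 i) i) 15000 15000 = true := by decide +kernel
theorem c_act61_2 : allRange (fun i => Nat.beq (actR61 i) i) 30000 15000 = true := by decide +kernel
theorem c_act61_3 : allRange (fun i => Nat.beq (actR61 i) i) 45000 15000 = true := by decide +kernel
theorem c_act61_4 : allRange (fun i => Nat.beq (actR61 i) i) 60000 15000 = true := by decide +kernel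
theorem c_act61_5 : allRange (fun i => Nat.beq (actR61 i) i) 75000 15000 = true := by decide +kernel
theorem c_act61_6 : allRange (fun i => Nat.beq (actR61 i) i) 90000 15000 = true := by decide +kernel
theorem c_act61_7 : allRange (fun i => Nat.beq (actR61 i) i) 105000 15000 = true := by decide +kernel
theorem c_act61_8 : allRange (fun i => Nat.beq (actR61 i) i) 120000 15000 = true := by decide +kernel
theorem c_act61_9 : allRange (fun i => Nat.beq (actR61 i) i) 135000 15000 = true := by decide +kernel
theorem c_act61_10 : allRange (fun i => Nat.beq (actR61 i) i) 150000 15000 = true := by decide +kernel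
theorem c_act61_11 : allRange (fun i => Nat.beq (actR61 i) i) 165000 15000 = true := by decide +kernel
theorem c_act61_12 : allRange (fun i => Nat.beq (actR61 i) i) 180000 15000 = true := by decide +kernel
theorem c_act61_13 : allRange (fun i => Nat.beq (actR61 i) i) 195000 15000 = true := by decide +kernel
theorem c_act61_14 : allRange (fun i => Nat.beq (actR61 i) i) 210000 15000 = true := by decide +kernel
theorem c_act61_15 : allRange (fun i => Nat.beq (actR61 i) i) 225000 15000 = true := by decide +kernel
theorem c_act61_16 : allRange (fun i => Nat.beq (actR61 i) i) 240000 15000 = true := by decide +kernel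
theorem c_act61_17 : allRange (fun i => Nat.beq (actR61 i) i) 255000 15000 = true := by decide +kernel
theorem c_act61_18 : allRange (fun i => Nat.beq (actR61 i) i) 270000 15000 = true := by decide +kernel
theorem c_act61_19 : allRange (fun i => Nat.beq (actR61 i) i) 285000 15000 = true := by decide +kernel
theorem c_act61_20 : allRange (fun i => Nat.beq (actR61 i) i) 300000 6936 = true := by decide +kernel
theorem c_act62_0 : allRange (fun i => Nat.beq (actR62 i) i) 0 15000 = true := by decide +kernel
theorem c_act62_1 : allRange (fun i => Nat.beq (actR62 i) i) 15000 15000 = true := by decide +kernel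
theorem c_act62_2 : allRange (fun i => Nat.beq (actR62 i) i) 30000 15000 = true := by decide +kernel
theorem c_act62_3 : allRange (fun i => Nat.beq (actR62 i) i) 45000 15000 = true := by decide +kernel
theorem c_act62_4 : allRange (fun i => Nat.beq (actR62 i) i) 60000 15000 = true := by decide +kernel
theorem c_act62_5 : allRange (fun i => Nat.beq (actR62 i) i) 75000 15000 = true := by decide +kernel
theorem c_act62_6 : allRange (fun i => Nat.beq (actR62 i) i) 90000 15000 = true := by decide +kernel
theorem c_act62_7 : allRange (fun i => Nat.beq (actR62 i) i) 105000 15000 = true := by decide +kernel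
theorem c_act62_8 : allRange (fun i => Nat.beq (actR62 i) i) 120000 15000 = true := by decide +kernel
theorem c_act62_9 : allRange (fun i => Nat.beq (actR62 i) i) 135000 15000 = true := by decide +kernel
theorem c_act62_10 : allRange (fun i => Nat.beq (actR62 i) i) 150000 15000 = true := by decide +kernel
theorem c_act62_11 : allRange (fun i => Nat.beq (actR62 i) i) 165000 15000 = true := by decide +kernel
theorem c_act62_12 : allRange (fun i => Nat.beq (actR62 i) i) 180000 15000 = true := by decide +kernel
theorem c_act62_13 : allRange (fun i => Nat.beq (actR62 i) i) 195000 15000 = true := by decide +kernel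
theorem c_act62_14 : allRange (fun i => Nat.beq (actR62 i) i) 210000 15000 = true := by decide +kernel
theorem c_act62_15 : allRange (fun i => Nat.beq (actR62 i) i) 225000 15000 = true := by decide +kernel
theorem c_act62_16 : allRange (fun i => Nat.beq (actR62 i) i) 240000 15000 = true := by decide +kernel
theorem c_act62_17 : allRange (fun i => Nat.beq (actR62 i) i) 255000 15000 = true := by decide +kernel
theorem c_act62_18 : allRange (fun i => Nat.beq (actR62 i) i) 270000 15000 = true := by decide +kernel
theorem c_act62_19 : allRange (fun i => Nat.beq (actR62 i) i) 285000 15000 = true := by decide +kernel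
theorem c_act62_20 : allRange (fun i => Nat.beq (actR62 i) i) 300000 6936 = true := by decide +kernel
theorem c_act63_0 : allRange (fun i => Nat.beq (actR63 i) i) 0 30000 = true := by decide +kernel
theorem c_act63_1 : allRange (fun i => Nat.beq (actR63 i) i) 30000 30000 = true := by decide +kernel
theorem c_act63_2 : allRange (fun i => Nat.beq (actR63 i) i) 60000 30000 = true := by decide +kernel
theorem c_act63_3 : allRange (fun i => Nat.beq (actR63 i) i) 90000 30000 = true := by decide +kernel

end Cfsg.Agent.Lib.Helper4.TCD.Fi24a
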