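import Cfsg.Agent.Lib.Helper4.TCD_Fi24a_Acc

namespace Cfsg.Agent.Lib.Helper4.TCD.Fi24a

open Cfsg.Agent.Lib.Helper4.TC

set_option maxRecDepth 100000
set_option Elab.async false

theorem c_act63_4 : allRange (fun i => Nat.beq (actR63 i) i) 120000 30000 = true := by decide +kernel
theorem c_act63_5 : allRange (fun i => Nat.beq (actR63 i) i) 150000 30000 = true := by decide +kernel
theorem c_act63_6 : allRange (fun i => Nat.beq (actR63 i) i) 180000 30000 = true := by decide +kernel
theorem c_act63_7 : allRange (fun i => Nat.beq (actR63 i) i) 210000 30000 = true := by decide +kernel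
theorem c_act63_8 : allRange (fun i => Nat.beq (actR63 i) i) 240000 30000 = true := by decide +kernel
theorem c_act63_9 : allRange (fun i => Nat.beq (actR63 i) i) 270000 30000 = true := by decide +kernel
theorem c_act63_10 : allRange (fun i => Nat.beq (actR63 i) i) 300000 6936 = true := by decide +kernel
theorem c_act64_0 : allRange (fun i => Nat.beq (actR64 i) i) 0 15000 = true := by decide +kernel
theorem c_act64_1 : allRange (fun i => Nat.beq (actR64 i) i) 15000 15000 = true := by decide +kernel
theorem c_act64_2 : allRange (fun i => Nat.beq (actR64 i) i) 30000 15000 = true := by decide +kernel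
theorem c_act64_3 : allRange (fun i => Nat.beq (actR64 i) i) 45000 15000 = true := by decide +kernel
theorem c_act64_4 : allRange (fun i => Nat.beq (actR64 i) i) 60000 15000 = true := by decide +kernel
theorem c_act64_5 : allRange (fun i => Nat.beq (actR64 i) i) 75000 15000 = true := by decide +kernel
theorem c_act64_6 : allRange (fun i => Nat.beq (actR64 i) i) 90000 15000 = true := by decide +kernel
theorem c_act64_7 : allRange (fun i => Nat.beq (actR64 i) i) 105000 15000 = true := by decide +kernel
theorem c_act64_8 : allRange (fun i => Nat.beq (actR64 i) i) 120000 15000 = true := by decide +kernel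
theorem c_act64_9 : allRange (fun i => Nat.beq (actR64 i) i) 135000 15000 = true := by decide +kernel
theorem c_act64_10 : allRange (fun i => Nat.beq (actR64 i) i) 150000 15000 = true := by decide +kernel
theorem c_act64_11 : allRange (fun i => Nat.beq (actR64 i) i) 165000 15000 = true := by decide +kernel
theorem c_act64_12 : allRange (fun i => Nat.beq (actR64 i) i) 180000 15000 = true := by decide +kernel
theorem c_act64_13 : allRange (fun i => Nat.beq (actR64 i) i) 195000 15000 = true := by decide +kernel
theorem c_act64_14 : allRange (fun i => Nat.beq (actR64 i) i) 210000 15000 = true := by decide +kernel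
theorem c_act64_15 : allRange (fun i => Nat.beq (actR64 i) i) 225000 15000 = true := by decide +kernel
theorem c_act64_16 : allRange (fun i => Nat.beq (actR64 i) i) 240000 15000 = true := by decide +kernel
theorem c_act64_17 : allRange (fun i => Nat.beq (actR64 i) i) 255000 15000 = true := by decide +kernel
theorem c_act64_18 : allRange (fun i => Nat.beq (actR64 i) i) 270000 15000 = true := by decide +kernel
theorem c_act64_19 : allRange (fun i => Nat.beq (actR64 i) i) 285000 15000 = true := by decide +kernel
theorem c_act64_20 : allRange (fun i => Nat.beq (actR64 i) i) 300000 6936 = true := by decide +kernel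
theorem c_act65_0 : allRange (fun i => Nat.beq (actR65 i) i) 0 15000 = true := by decide +kernel
theorem c_act65_1 : allRange (fun i => Nat.beq (actR65 i) i) 15000 15000 = true := by decide +kernel
theorem c_act65_2 : allRange (fun i => Nat.beq (actR65 i) i) 30000 15000 = true := by decide +kernel
theorem c_act65_3 : allRange (fun i => Nat.beq (actR65 i) i) 45000 15000 = true := by decide +kernel
theorem c_act65_4 : allRange (fun i => Nat.beq (actR65 i) i) 60000 15000 = true := by decide +kernel
theorem c_act65_5 : allRange (fun i => Nat.beq (actR65 i) i) 75000 15000 = true := by decide +kernel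
theorem c_act65_6 : allRange (fun i => Nat.beq (actR65 i) i) 90000 15000 = true := by decide +kernel
theorem c_act65_7 : allRange (fun i => Nat.beq (actR65 i) i) 105000 15000 = true := by decide +kernel
theorem c_act65_8 : allRange (fun i => Nat.beq (actR65 i) i) 120000 15000 = true := by decide +kernel
theorem c_act65_9 : allRange (fun i => Nat.beq (actR65 i) i) 135000 15000 = true := by decide +kernel
theorem c_act65_10 : allRange (fun i => Nat.beq (actR65 i) i) 150000 15000 = true := by decide +kernel
theorem c_act65_11 : allRange (fun i => Nat.beq (actR65 i) i) 165000 15000 = true := by decide +kernel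
theorem c_act65_12 : allRange (fun i => Nat.beq (actR65 i) i) 180000 15000 = true := by decide +kernel
theorem c_act65_13 : allRange (fun i => Nat.beq (actR65 i) i) 195000 15000 = true := by decide +kernel
theorem c_act65_14 : allRange (fun i => Nat.beq (actR65 i) i) 210000 15000 = true := by decide +kernel
theorem c_act65_15 : allRange (fun i => Nat.beq (actR65 i) i) 225000 15000 = true := by decide +kernel
theorem c_act65_16 : allRange (fun i => Nat.beq (actR65 i) i) 240000 15000 = true := by decide +kernel
theorem c_act65_17 : allRange (fun i => Nat.beq (actR65 i) i) 255000 15000 = true := by decide +kernel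
theorem c_act65_18 : allRange (fun i => Nat.beq (actR65 i) i) 270000 15000 = true := by decide +kernel
theorem c_act65_19 : allRange (fun i => Nat.beq (actR65 i) i) 285000 15000 = true := by decide +kernel
theorem c_act65_20 : allRange (fun i => Nat.beq (actR65 i) i) 300000 6936 = true := by decide +kernel
theorem c_act66_0 : allRange (fun i => Nat.beq (actR66 i) i) 0 15000 = true := by decide +kernel
theorem c_act66_1 : allRange (fun i => Nat.beq (actR66 i) i) 15000 15000 = true := by decide +kernel

end Cfsg.Agent.Lib.Helper4.TCD.Fi24a
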