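import Cfsg.Agent.Lib.Helper4.TCD_Fi24a_Acc

namespace Cfsg.Agent.Lib.Helper4.TCD.Fi24a

open Cfsg.Agent.Lib.Helper4.TC

set_option maxRecDepth 100000
set_option Elab.async false

theorem c_act68_0 : allRange (fun i => Nat.beq (actR68 i) i) 0 30000 = true := by decide +kernel
theorem c_act68_1 : allRange (fun i => Nat.beq (actR68 i) i) 30000 30000 = true := by decide +kernel
theorem c_act68_2 : allRange (fun i => Nat.beq (actR68 i) i) 60000 30000 = true := by decide +kernel
theorem c_act68_3 : allRange (fun i => Nat.beq (actR68 i) i) 90000 30000 = true := by decide +kernel
theorem c_act68_4 : allRange (fun i => Nat.beq (actR68 i) i) 120000 30000 = true := by decide +kernel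
theorem c_act68_5 : allRange (fun i => Nat.beq (actR68 i) i) 150000 30000 = true := by decide +kernel
theorem c_act68_6 : allRange (fun i => Nat.beq (actR68 i) i) 180000 30000 = true := by decide +kernel
theorem c_act68_7 : allRange (fun i => Nat.beq (actR68 i) i) 210000 30000 = true := by decide +kernel
theorem c_act68_8 : allRange (fun i => Nat.beq (actR68 i) i) 240000 30000 = true := by decide +kernel
theorem c_act68_9 : allRange (fun i => Nat.beq (actR68 i) i) 270000 30000 = true := by decide +kernel
theorem c_act68_10 : allRange (fun i => Nat.beq (actR68 i) i) 300000 6936 = true := by decide +kernel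
theorem c_act69_0 : allRange (fun i => Nat.beq (actR69 i) i) 0 10000 = true := by decide +kernel
theorem c_act69_1 : allRange (fun i => Nat.beq (actR69 i) i) 10000 10000 = true := by decide +kernel
theorem c_act69_2 : allRange (fun i => Nat.beq (actR69 i) i) 20000 10000 = true := by decide +kernel
theorem c_act69_3 : allRange (fun i => Nat.beq (actR69 i) i) 30000 10000 = true := by decide +kernel
theorem c_act69_4 : allRange (fun i => Nat.beq (actR69 i) i) 40000 10000 = true := by decide +kernel
theorem c_act69_5 : allRange (fun i => Nat.beq (actR69 i) i) 50000 10000 = true := by decide +kernel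
theorem c_act69_6 : allRange (fun i => Nat.beq (actR69 i) i) 60000 10000 = true := by decide +kernel
theorem c_act69_7 : allRange (fun i => Nat.beq (actR69 i) i) 70000 10000 = true := by decide +kernel
theorem c_act69_8 : allRange (fun i => Nat.beq (actR69 i) i) 80000 10000 = true := by decide +kernel
theorem c_act69_9 : allRange (fun i => Nat.beq (actR69 i) i) 90000 10000 = true := by decide +kernel
theorem c_act69_10 : allRange (fun i => Nat.beq (actR69 i) i) 100000 10000 = true := by decide +kernel
theorem c_act69_11 : allRange (fun i => Nat.beq (actR69 i) i) 110000 10000 = true := by decide +kernel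
theorem c_act69_12 : allRange (fun i => Nat.beq (actR69 i) i) 120000 10000 = true := by decide +kernel
theorem c_act69_13 : allRange (fun i => Nat.beq (actR69 i) i) 130000 10000 = true := by decide +kernel
theorem c_act69_14 : allRange (fun i => Nat.beq (actR69 i) i) 140000 10000 = true := by decide +kernel
theorem c_act69_15 : allRange (fun i => Nat.beq (actR69 i) i) 150000 10000 = true := by decide +kernel
theorem c_act69_16 : allRange (fun i => Nat.beq (actR69 i) i) 160000 10000 = true := by decide +kernel
theorem c_act69_17 : allRange (fun i => Nat.beq (actR69 i) i) 170000 10000 = true := by decide +kernel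
theorem c_act69_18 : allRange (fun i => Nat.beq (actR69 i) i) 180000 10000 = true := by decide +kernel
theorem c_act69_19 : allRange (fun i => Nat.beq (actR69 i) i) 190000 10000 = true := by decide +kernel
theorem c_act69_20 : allRange (fun i => Nat.beq (actR69 i) i) 200000 10000 = true := by decide +kernel
theorem c_act69_21 : allRange (fun i => Nat.beq (actR69 i) i) 210000 10000 = true := by decide +kernel
theorem c_act69_22 : allRange (fun i => Nat.beq (actR69 i) i) 220000 10000 = true := by decide +kernel
theorem c_act69_23 : allRange (fun i => Nat.beq (actR69 i) i) 230000 10000 = true := by decide +kernel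
theorem c_act69_24 : allRange (fun i => Nat.beq (actR69 i) i) 240000 10000 = true := by decide +kernel
theorem c_act69_25 : allRange (fun i => Nat.beq (actR69 i) i) 250000 10000 = true := by decide +kernel
theorem c_act69_26 : allRange (fun i => Nat.beq (actR69 i) i) 260000 10000 = true := by decide +kernel
theorem c_act69_27 : allRange (fun i => Nat.beq (actR69 i) i) 270000 10000 = true := by decide +kernel
theorem c_act69_28 : allRange (fun i => Nat.beq (actR69 i) i) 280000 10000 = true := by decide +kernel
theorem c_act69_29 : allRange (fun i => Nat.beq (actR69 i) i) 290000 10000 = true := by decide +kernel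
theorem c_act69_30 : allRange (fun i => Nat.beq (actR69 i) i) 300000 6936 = true := by decide +kernel
theorem c_act70_0 : allRange (fun i => Nat.beq (actR70 i) i) 0 15000 = true := by decide +kernel
theorem c_act70_1 : allRange (fun i => Nat.beq (actR70 i) i) 15000 15000 = true := by decide +kernel
theorem c_act70_2 : allRange (fun i => Nat.beq (actR70 i) i) 30000 15000 = true := by decide +kernel
theorem c_act70_3 : allRange (fun i => Nat.beq (actR70 i) i) 45000 15000 = true := by decide +kernel
theorem c_act70_4 : allRange (fun i => Nat.beq (actR70 i) i) 60000 15000 = true := by decide +kernel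
theorem c_act70_5 : allRange (fun i => Nat.beq (actR70 i) i) 75000 15000 = true := by decide +kernel
theorem c_act70_6 : allRange (fun i => Nat.beq (actR70 i) i) 90000 15000 = true := by decide +kernel
theorem c_act70_7 : allRange (fun i => Nat.beq (actR70 i) i) 105000 15000 = true := by decide +kernel
theorem c_act70_8 : allRange (fun i => Nat.beq (actR70 i) i) 120000 15000 = true := by decide +kernel

end Cfsg.Agent.Lib.Helper4.TCD.Fi24a
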