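import Cfsg.Agent.Lib.Helper4.TCD_Fi24a_Acc

namespace Cfsg.Agent.Lib.Helper4.TCD.Fi24a

open Cfsg.Agent.Lib.Helper4.TC

set_option maxRecDepth 100000
set_option Elab.async false

theorem c_act70_9 : allRange (fun i => Nat.beq (actR70 i) i) 135000 15000 = true := by decide +kernel
theorem c_act70_10 : allRange (fun i => Nat.beq (actR70 i) i) 150000 15000 = true := by decide +kernel
theorem c_act70_11 : allRange (fun i => Nat.beq (actR70 i) i) 165000 15000 = true := by decide +kernel
theorem c_act70_12 : allRange (fun i => Nat.beq (actR70 i) i) 180000 15000 = true := by decide +kernel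
theorem c_act70_13 : allRange (fun i => Nat.beq (actR70 i) i) 195000 15000 = true := by decide +kernel
theorem c_act70_14 : allRange (fun i => Nat.beq (actR70 i) i) 210000 15000 = true := by decide +kernel
theorem c_act70_15 : allRange (fun i => Nat.beq (actR70 i) i) 225000 15000 = true := by decide +kernel
theorem c_act70_16 : allRange (fun i => Nat.beq (actR70 i) i) 240000 15000 = true := by decide +kernel
theorem c_act70_17 : allRange (fun i => Nat.beq (actR70 i) i) 255000 15000 = true := by decide +kernel
theorem c_act70_18 : allRange (fun i => Nat.beq (actR70 i) i) 270000 15000 = true := by decide +kernel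
theorem c_act70_19 : allRange (fun i => Nat.beq (actR70 i) i) 285000 15000 = true := by decide +kernel
theorem c_act70_20 : allRange (fun i => Nat.beq (actR70 i) i) 300000 6936 = true := by decide +kernel
theorem c_act71_0 : allRange (fun i => Nat.beq (actR71 i) i) 0 15000 = true := by decide +kernel
theorem c_act71_1 : allRange (fun i => Nat.beq (actR71 i) i) 15000 15000 = true := by decide +kernel
theorem c_act71_2 : allRange (fun i => Nat.beq (actR71 i) i) 30000 15000 = true := by decide +kernel
theorem c_act71_3 : allRange (fun i => Nat.beq (actR71 i) i) 45000 15000 = true := by decide +kernel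
theorem c_act71_4 : allRange (fun i => Nat.beq (actR71 i) i) 60000 15000 = true := by decide +kernel
theorem c_act71_5 : allRange (fun i => Nat.beq (actR71 i) i) 75000 15000 = true := by decide +kernel
theorem c_act71_6 : allRange (fun i => Nat.beq (actR71 i) i) 90000 15000 = true := by decide +kernel
theorem c_act71_7 : allRange (fun i => Nat.beq (actR71 i) i) 105000 15000 = true := by decide +kernel
theorem c_act71_8 : allRange (fun i => Nat.beq (actR71 i) i) 120000 15000 = true := by decide +kernel
theorem c_act71_9 : allRange (fun i => Nat.beq (actR71 i) i) 135000 15000 = true := by decide +kernel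
theorem c_act71_10 : allRange (fun i => Nat.beq (actR71 i) i) 150000 15000 = true := by decide +kernel
theorem c_act71_11 : allRange (fun i => Nat.beq (actR71 i) i) 165000 15000 = true := by decide +kernel
theorem c_act71_12 : allRange (fun i => Nat.beq (actR71 i) i) 180000 15000 = true := by decide +kernel
theorem c_act71_13 : allRange (fun i => Nat.beq (actR71 i) i) 195000 15000 = true := by decide +kernel
theorem c_act71_14 : allRange (fun i => Nat.beq (actR71 i) i) 210000 15000 = true := by decide +kernel
theorem c_act71_15 : allRange (fun i => Nat.beq (actR71 i) i) 225000 15000 = true := by decide +kernel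
theorem c_act71_16 : allRange (fun i => Nat.beq (actR71 i) i) 240000 15000 = true := by decide +kernel
theorem c_act71_17 : allRange (fun i => Nat.beq (actR71 i) i) 255000 15000 = true := by decide +kernel
theorem c_act71_18 : allRange (fun i => Nat.beq (actR71 i) i) 270000 15000 = true := by decide +kernel
theorem c_act71_19 : allRange (fun i => Nat.beq (actR71 i) i) 285000 15000 = true := by decide +kernel
theorem c_act71_20 : allRange (fun i => Nat.beq (actR71 i) i) 300000 6936 = true := by decide +kernel
theorem c_act72_0 : allRange (fun i => Nat.beq (actR72 i) i) 0 30000 = true := by decide +kernel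
theorem c_act72_1 : allRange (fun i => Nat.beq (actR72 i) i) 30000 30000 = true := by decide +kernel
theorem c_act72_2 : allRange (fun i => Nat.beq (actR72 i) i) 60000 30000 = true := by decide +kernel
theorem c_act72_3 : allRange (fun i => Nat.beq (actR72 i) i) 90000 30000 = true := by decide +kernel
theorem c_act72_4 : allRange (fun i => Nat.beq (actR72 i) i) 120000 30000 = true := by decide +kernel
theorem c_act72_5 : allRange (fun i => Nat.beq (actR72 i) i) 150000 30000 = true := by decide +kernel
theorem c_act72_6 : allRange (fun i => Nat.beq (actR72 i) i) 180000 30000 = true := by decide +kernel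
theorem c_act72_7 : allRange (fun i => Nat.beq (actR72 i) i) 210000 30000 = true := by decide +kernel
theorem c_act72_8 : allRange (fun i => Nat.beq (actR72 i) i) 240000 30000 = true := by decide +kernel
theorem c_act72_9 : allRange (fun i => Nat.beq (actR72 i) i) 270000 30000 = true := by decide +kernel
theorem c_act72_10 : allRange (fun i => Nat.beq (actR72 i) i) 300000 6936 = true := by decide +kernel
theorem c_act73_0 : allRange (fun i => Nat.beq (actR73 i) i) 0 10000 = true := by decide +kernel
theorem c_act73_1 : allRange (fun i => Nat.beq (actR73 i) i) 10000 10000 = true := by decide +kernel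
theorem c_act73_2 : allRange (fun i => Nat.beq (actR73 i) i) 20000 10000 = true := by decide +kernel
theorem c_act73_3 : allRange (fun i => Nat.beq (actR73 i) i) 30000 10000 = true := by decide +kernel
theorem c_act73_4 : allRange (fun i => Nat.beq (actR73 i) i) 40000 10000 = true := by decide +kernel
theorem c_act73_5 : allRange (fun i => Nat.beq (actR73 i) i) 50000 10000 = true := by decide +kernel
theorem c_act73_6 : allRange (fun i => Nat.beq (actR73 i) i) 60000 10000 = true := by decide +kernel

end Cfsg.Agent.Lib.Helper4.TCD.Fi24a
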