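import Cfsg.Agent.Lib.Helper4.TCD_Fi24a_Acc

namespace Cfsg.Agent.Lib.Helper4.TCD.Fi24a

open Cfsg.Agent.Lib.Helper4.TC

set_option maxRecDepth 100000
set_option Elab.async false

theorem c_act75_5 : allRange (fun i => Nat.beq (actR75 i) i) 150000 30000 = true := by decide +kernel
theorem c_act75_6 : allRange (fun i => Nat.beq (actR75 i) i) 180000 30000 = true := by decide +kernel
theorem c_act75_7 : allRange (fun i => Nat.beq (actR75 i) i) 210000 30000 = true := by decide +kernel
theorem c_act75_8 : allRange (fun i => Nat.beq (actR75 i) i) 240000 30000 = true := by decide +kernel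
theorem c_act75_9 : allRange (fun i => Nat.beq (actR75 i) i) 270000 30000 = true := by decide +kernel
theorem c_act75_10 : allRange (fun i => Nat.beq (actR75 i) i) 300000 6936 = true := by decide +kernel
theorem c_act76_0 : allRange (fun i => Nat.beq (actR76 i) i) 0 15000 = true := by decide +kernel
theorem c_act76_1 : allRange (fun i => Nat.beq (actR76 i) i) 15000 15000 = true := by decide +kernel
theorem c_act76_2 : allRange (fun i => Nat.beq (actR76 i) i) 30000 15000 = true := by decide +kernel
theorem c_act76_3 : allRange (fun i => Nat.beq (actR76 i) i) 45000 15000 = true := by decide +kernel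
theorem c_act76_4 : allRange (fun i => Nat.beq (actR76 i) i) 60000 15000 = true := by decide +kernel
theorem c_act76_5 : allRange (fun i => Nat.beq (actR76 i) i) 75000 15000 = true := by decide +kernel
theorem c_act76_6 : allRange (fun i => Nat.beq (actR76 i) i) 90000 15000 = true := by decide +kernel
theorem c_act76_7 : allRange (fun i => Nat.beq (actR76 i) i) 105000 15000 = true := by decide +kernel
theorem c_act76_8 : allRange (fun i => Nat.beq (actR76 i) i) 120000 15000 = true := by decide +kernel
theorem c_act76_9 : allRange (fun i => Nat.beq (actR76 i) i) 135000 15000 = true := by decide +kernel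
theorem c_act76_10 : allRange (fun i => Nat.beq (actR76 i) i) 150000 15000 = true := by decide +kernel
theorem c_act76_11 : allRange (fun i => Nat.beq (actR76 i) i) 165000 15000 = true := by decide +kernel
theorem c_act76_12 : allRange (fun i => Nat.beq (actR76 i) i) 180000 15000 = true := by decide +kernel
theorem c_act76_13 : allRange (fun i => Nat.beq (actR76 i) i) 195000 15000 = true := by decide +kernel
theorem c_act76_14 : allRange (fun i => Nat.beq (actR76 i) i) 210000 15000 = true := by decide +kernel
theorem c_act76_15 : allRange (fun i => Nat.beq (actR76 i) i) 225000 15000 = true := by decide +kernel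
theorem c_act76_16 : allRange (fun i => Nat.beq (actR76 i) i) 240000 15000 = true := by decide +kernel
theorem c_act76_17 : allRange (fun i => Nat.beq (actR76 i) i) 255000 15000 = true := by decide +kernel
theorem c_act76_18 : allRange (fun i => Nat.beq (actR76 i) i) 270000 15000 = true := by decide +kernel
theorem c_act76_19 : allRange (fun i => Nat.beq (actR76 i) i) 285000 15000 = true := by decide +kernel
theorem c_act76_20 : allRange (fun i => Nat.beq (actR76 i) i) 300000 6936 = true := by decide +kernel
theorem c_act77_0 : allRange (fun i => Nat.beq (actR77 i) i) 0 30000 = true := by decide +kernel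
theorem c_act77_1 : allRange (fun i => Nat.beq (actR77 i) i) 30000 30000 = true := by decide +kernel
theorem c_act77_2 : allRange (fun i => Nat.beq (actR77 i) i) 60000 30000 = true := by decide +kernel
theorem c_act77_3 : allRange (fun i => Nat.beq (actR77 i) i) 90000 30000 = true := by decide +kernel
theorem c_act77_4 : allRange (fun i => Nat.beq (actR77 i) i) 120000 30000 = true := by decide +kernel
theorem c_act77_5 : allRange (fun i => Nat.beq (actR77 i) i) 150000 30000 = true := by decide +kernel
theorem c_act77_6 : allRange (fun i => Nat.beq (actR77 i) i) 180000 30000 = true := by decide +kernel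
theorem c_act77_7 : allRange (fun i => Nat.beq (actR77 i) i) 210000 30000 = true := by decide +kernel
theorem c_act77_8 : allRange (fun i => Nat.beq (actR77 i) i) 240000 30000 = true := by decide +kernel
theorem c_act77_9 : allRange (fun i => Nat.beq (actR77 i) i) 270000 30000 = true := by decide +kernel
theorem c_act77_10 : allRange (fun i => Nat.beq (actR77 i) i) 300000 6936 = true := by decide +kernel
theorem c_act78_0 : allRange (fun i => Nat.beq (actR78 i) i) 0 937 = true := by decide +kernel
theorem c_act78_1 : allRange (fun i => Nat.beq (actR78 i) i) 937 937 = true := by decide +kernel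
theorem c_act78_2 : allRange (fun i => Nat.beq (actR78 i) i) 1874 937 = true := by decide +kernel
theorem c_act78_3 : allRange (fun i => Nat.beq (actR78 i) i) 2811 937 = true := by decide +kernel
theorem c_act78_4 : allRange (fun i => Nat.beq (actR78 i) i) 3748 937 = true := by decide +kernel
theorem c_act78_5 : allRange (fun i => Nat.beq (actR78 i) i) 4685 937 = true := by decide +kernel
theorem c_act78_6 : allRange (fun i => Nat.beq (actR78 i) i) 5622 937 = true := by decide +kernel
theorem c_act78_7 : allRange (fun i => Nat.beq (actR78 i) i) 6559 937 = true := by decide +kernel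
theorem c_act78_8 : allRange (fun i => Nat.beq (actR78 i) i) 7496 937 = true := by decide +kernel
theorem c_act78_9 : allRange (fun i => Nat.beq (actR78 i) i) 8433 937 = true := by decide +kernel
theorem c_act78_10 : allRange (fun i => Nat.beq (actR78 i) i) 9370 937 = true := by decide +kernel
theorem c_act78_11 : allRange (fun i => Nat.beq (actR78 i) i) 10307 937 = true := by decide +kernel
theorem c_act78_12 : allRange (fun i => Nat.beq (actR78 i) i) 11244 937 = true := by decide +kernel
theorem c_act78_13 : allRange (fun i => Nat.beq (actR78 i) i) 12181 937 = true := by decide +kernel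

end Cfsg.Agent.Lib.Helper4.TCD.Fi24a
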