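import Cfsg.Agent.Lib.Helper4.TCD_Fi24a_Acc

namespace Cfsg.Agent.Lib.Helper4.TCD.Fi24a

open Cfsg.Agent.Lib.Helper4.TC

set_option maxRecDepth 100000
set_option Elab.async false

theorem c_act78_14 : allRange (fun i => Nat.beq (actR78 i) i) 13118 937 = true := by decide +kernel
theorem c_act78_15 : allRange (fun i => Nat.beq (actR78 i) i) 14055 937 = true := by decide +kernel
theorem c_act78_16 : allRange (fun i => Nat.beq (actR78 i) i) 14992 937 = true := by decide +kernel
theorem c_act78_17 : allRange (fun i => Nat.beq (actR78 i) i) 15929 937 = true := by decide +kernel
theorem c_act78_18 : allRange (fun i => Nat.beq (actR78 i) i) 16866 937 = true := by decide +kernel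
theorem c_act78_19 : allRange (fun i => Nat.beq (actR78 i) i) 17803 937 = true := by decide +kernel
theorem c_act78_20 : allRange (fun i => Nat.beq (actR78 i) i) 18740 937 = true := by decide +kernel
theorem c_act78_21 : allRange (fun i => Nat.beq (actR78 i) i) 19677 937 = true := by decide +kernel
theorem c_act78_22 : allRange (fun i => Nat.beq (actR78 i) i) 20614 937 = true := by decide +kernel
theorem c_act78_23 : allRange (fun i => Nat.beq (actR78 i) i) 21551 937 = true := by decide +kernel
theorem c_act78_24 : allRange (fun i => Nat.beq (actR78 i) i) 22488 937 = true := by decide +kernel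
theorem c_act78_25 : allRange (fun i => Nat.beq (actR78 i) i) 23425 937 = true := by decide +kernel
theorem c_act78_26 : allRange (fun i => Nat.beq (actR78 i) i) 24362 937 = true := by decide +kernel
theorem c_act78_27 : allRange (fun i => Nat.beq (actR78 i) i) 25299 937 = true := by decide +kernel
theorem c_act78_28 : allRange (fun i => Nat.beq (actR78 i) i) 26236 937 = true := by decide +kernel
theorem c_act78_29 : allRange (fun i => Nat.beq (actR78 i) i) 27173 937 = true := by decide +kernel
theorem c_act78_30 : allRange (fun i => Nat.beq (actR78 i) i) 28110 937 = true := by decide +kernel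
theorem c_act78_31 : allRange (fun i => Nat.beq (actR78 i) i) 29047 937 = true := by decide +kernel
theorem c_act78_32 : allRange (fun i => Nat.beq (actR78 i) i) 29984 937 = true := by decide +kernel
theorem c_act78_33 : allRange (fun i => Nat.beq (actR78 i) i) 30921 937 = true := by decide +kernel
theorem c_act78_34 : allRange (fun i => Nat.beq (actR78 i) i) 31858 937 = true := by decide +kernel
theorem c_act78_35 : allRange (fun i => Nat.beq (actR78 i) i) 32795 937 = true := by decide +kernel
theorem c_act78_36 : allRange (fun i => Nat.beq (actR78 i) i) 33732 937 = true := by decide +kernel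
theorem c_act78_37 : allRange (fun i => Nat.beq (actR78 i) i) 34669 937 = true := by decide +kernel
theorem c_act78_38 : allRange (fun i => Nat.beq (actR78 i) i) 35606 937 = true := by decide +kernel
theorem c_act78_39 : allRange (fun i => Nat.beq (actR78 i) i) 36543 937 = true := by decide +kernel
theorem c_act78_40 : allRange (fun i => Nat.beq (actR78 i) i) 37480 937 = true := by decide +kernel
theorem c_act78_41 : allRange (fun i => Nat.beq (actR78 i) i) 38417 937 = true := by decide +kernel
theorem c_act78_42 : allRange (fun i => Nat.beq (actR78 i) i) 39354 937 = true := by decide +kernel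
theorem c_act78_43 : allRange (fun i => Nat.beq (actR78 i) i) 40291 937 = true := by decide +kernel
theorem c_act78_44 : allRange (fun i => Nat.beq (actR78 i) i) 41228 937 = true := by decide +kernel
theorem c_act78_45 : allRange (fun i => Nat.beq (actR78 i) i) 42165 937 = true := by decide +kernel
theorem c_act78_46 : allRange (fun i => Nat.beq (actR78 i) i) 43102 937 = true := by decide +kernel
theorem c_act78_47 : allRange (fun i => Nat.beq (actR78 i) i) 44039 937 = true := by decide +kernel
theorem c_act78_48 : allRange (fun i => Nat.beq (actR78 i) i) 44976 937 = true := by decide +kernel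
theorem c_act78_49 : allRange (fun i => Nat.beq (actR78 i) i) 45913 937 = true := by decide +kernel
theorem c_act78_50 : allRange (fun i => Nat.beq (actR78 i) i) 46850 937 = true := by decide +kernel
theorem c_act78_51 : allRange (fun i => Nat.beq (actR78 i) i) 47787 937 = true := by decide +kernel
theorem c_act78_52 : allRange (fun i => Nat.beq (actR78 i) i) 48724 937 = true := by decide +kernel
theorem c_act78_53 : allRange (fun i => Nat.beq (actR78 i) i) 49661 937 = true := by decide +kernel
theorem c_act78_54 : allRange (fun i => Nat.beq (actR78 i) i) 50598 937 = true := by decide +kernel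
theorem c_act78_55 : allRange (fun i => Nat.beq (actR78 i) i) 51535 937 = true := by decide +kernel
theorem c_act78_56 : allRange (fun i => Nat.beq (actR78 i) i) 52472 937 = true := by decide +kernel
theorem c_act78_57 : allRange (fun i => Nat.beq (actR78 i) i) 53409 937 = true := by decide +kernel
theorem c_act78_58 : allRange (fun i => Nat.beq (actR78 i) i) 54346 937 = true := by decide +kernel
theorem c_act78_59 : allRange (fun i => Nat.beq (actR78 i) i) 55283 937 = true := by decide +kernel
theorem c_act78_60 : allRange (fun i => Nat.beq (actR78 i) i) 56220 937 = true := by decide +kernel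
theorem c_act78_61 : allRange (fun i => Nat.beq (actR78 i) i) 57157 937 = true := by decide +kernel
theorem c_act78_62 : allRange (fun i => Nat.beq (actR78 i) i) 58094 937 = true := by decide +kernel
theorem c_act78_63 : allRange (fun i => Nat.beq (actR78 i) i) 59031 937 = true := by decide +kernel

end Cfsg.Agent.Lib.Helper4.TCD.Fi24a
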