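import Cfsg.Agent.Lib.Helper4.TCD_Fi24a_Acc

namespace Cfsg.Agent.Lib.Helper4.TCD.Fi24a

open Cfsg.Agent.Lib.Helper4.TC

set_option maxRecDepth 100000
set_option Elab.async false

theorem c_act78_64 : allRange (fun i => Nat.beq (actR78 i) i) 59968 937 = true := by decide +kernel
theorem c_act78_65 : allRange (fun i => Nat.beq (actR78 i) i) 60905 937 = true := by decide +kernel
theorem c_act78_66 : allRange (fun i => Nat.beq (actR78 i) i) 61842 937 = true := by decide +kernel
theorem c_act78_67 : allRange (fun i => Nat.beq (actR78 i) i) 62779 937 = true := by decide +kernel
theorem c_act78_68 : allRange (fun i => Nat.beq (actR78 i) i) 63716 937 = true := by decide +kernel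
theorem c_act78_69 : allRange (fun i => Nat.beq (actR78 i) i) 64653 937 = true := by decide +kernel
theorem c_act78_70 : allRange (fun i => Nat.beq (actR78 i) i) 65590 937 = true := by decide +kernel
theorem c_act78_71 : allRange (fun i => Nat.beq (actR78 i) i) 66527 937 = true := by decide +kernel
theorem c_act78_72 : allRange (fun i => Nat.beq (actR78 i) i) 67464 937 = true := by decide +kernel
theorem c_act78_73 : allRange (fun i => Nat.beq (actR78 i) i) 68401 937 = true := by decide +kernel
theorem c_act78_74 : allRange (fun i => Nat.beq (actR78 i) i) 69338 937 = true := by decide +kernel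
theorem c_act78_75 : allRange (fun i => Nat.beq (actR78 i) i) 70275 937 = true := by decide +kernel
theorem c_act78_76 : allRange (fun i => Nat.beq (actR78 i) i) 71212 937 = true := by decide +kernel
theorem c_act78_77 : allRange (fun i => Nat.beq (actR78 i) i) 72149 937 = true := by decide +kernel
theorem c_act78_78 : allRange (fun i => Nat.beq (actR78 i) i) 73086 937 = true := by decide +kernel
theorem c_act78_79 : allRange (fun i => Nat.beq (actR78 i) i) 74023 937 = true := by decide +kernel
theorem c_act78_80 : allRange (fun i => Nat.beq (actR78 i) i) 74960 937 = true := by decide +kernel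
theorem c_act78_81 : allRange (fun i => Nat.beq (actR78 i) i) 75897 937 = true := by decide +kernel
theorem c_act78_82 : allRange (fun i => Nat.beq (actR78 i) i) 76834 937 = true := by decide +kernel
theorem c_act78_83 : allRange (fun i => Nat.beq (actR78 i) i) 77771 937 = true := by decide +kernel
theorem c_act78_84 : allRange (fun i => Nat.beq (actR78 i) i) 78708 937 = true := by decide +kernel
theorem c_act78_85 : allRange (fun i => Nat.beq (actR78 i) i) 79645 937 = true := by decide +kernel
theorem c_act78_86 : allRange (fun i => Nat.beq (actR78 i) i) 80582 937 = true := by decide +kernel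
theorem c_act78_87 : allRange (fun i => Nat.beq (actR78 i) i) 81519 937 = true := by decide +kernel
theorem c_act78_88 : allRange (fun i => Nat.beq (actR78 i) i) 82456 937 = true := by decide +kernel
theorem c_act78_89 : allRange (fun i => Nat.beq (actR78 i) i) 83393 937 = true := by decide +kernel
theorem c_act78_90 : allRange (fun i => Nat.beq (actR78 i) i) 84330 937 = true := by decide +kernel
theorem c_act78_91 : allRange (fun i => Nat.beq (actR78 i) i) 85267 937 = true := by decide +kernel
theorem c_act78_92 : allRange (fun i => Nat.beq (actR78 i) i) 86204 937 = true := by decide +kernel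
theorem c_act78_93 : allRange (fun i => Nat.beq (actR78 i) i) 87141 937 = true := by decide +kernel
theorem c_act78_94 : allRange (fun i => Nat.beq (actR78 i) i) 88078 937 = true := by decide +kernel
theorem c_act78_95 : allRange (fun i => Nat.beq (actR78 i) i) 89015 937 = true := by decide +kernel
theorem c_act78_96 : allRange (fun i => Nat.beq (actR78 i) i) 89952 937 = true := by decide +kernel
theorem c_act78_97 : allRange (fun i => Nat.beq (actR78 i) i) 90889 937 = true := by decide +kernel
theorem c_act78_98 : allRange (fun i => Nat.beq (actR78 i) i) 91826 937 = true := by decide +kernel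
theorem c_act78_99 : allRange (fun i => Nat.beq (actR78 i) i) 92763 937 = true := by decide +kernel
theorem c_act78_100 : allRange (fun i => Nat.beq (actR78 i) i) 93700 937 = true := by decide +kernel
theorem c_act78_101 : allRange (fun i => Nat.beq (actR78 i) i) 94637 937 = true := by decide +kernel
theorem c_act78_102 : allRange (fun i => Nat.beq (actR78 i) i) 95574 937 = true := by decide +kernel
theorem c_act78_103 : allRange (fun i => Nat.beq (actR78 i) i) 96511 937 = true := by decide +kernel
theorem c_act78_104 : allRange (fun i => Nat.beq (actR78 i) i) 97448 937 = true := by decide +kernel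
theorem c_act78_105 : allRange (fun i => Nat.beq (actR78 i) i) 98385 937 = true := by decide +kernel
theorem c_act78_106 : allRange (fun i => Nat.beq (actR78 i) i) 99322 937 = true := by decide +kernel
theorem c_act78_107 : allRange (fun i => Nat.beq (actR78 i) i) 100259 937 = true := by decide +kernel
theorem c_act78_108 : allRange (fun i => Nat.beq (actR78 i) i) 101196 937 = true := by decide +kernel
theorem c_act78_109 : allRange (fun i => Nat.beq (actR78 i) i) 102133 937 = true := by decide +kernel
theorem c_act78_110 : allRange (fun i => Nat.beq (actR78 i) i) 103070 937 = true := by decide +kernel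
theorem c_act78_111 : allRange (fun i => Nat.beq (actR78 i) i) 104007 937 = true := by decide +kernel
theorem c_act78_112 : allRange (fun i => Nat.beq (actR78 i) i) 104944 937 = true := by decide +kernel
theorem c_act78_113 : allRange (fun i => Nat.beq (actR78 i) i) 105881 937 = true := by decide +kernel

end Cfsg.Agent.Lib.Helper4.TCD.Fi24a
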