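import Cfsg.Agent.Lib.Helper4.TCD_Fi24a_Acc

namespace Cfsg.Agent.Lib.Helper4.TCD.Fi24a

open Cfsg.Agent.Lib.Helper4.TC

set_option maxRecDepth 100000
set_option Elab.async false

theorem c_act78_114 : allRange (fun i => Nat.beq (actR78 i) i) 106818 937 = true := by decide +kernel
theorem c_act78_115 : allRange (fun i => Nat.beq (actR78 i) i) 107755 937 = true := by decide +kernel
theorem c_act78_116 : allRange (fun i => Nat.beq (actR78 i) i) 108692 937 = true := by decide +kernel
theorem c_act78_117 : allRange (fun i => Nat.beq (actR78 i) i) 109629 937 = true := by decide +kernel
theorem c_act78_118 : allRange (fun i => Nat.beq (actR78 i) i) 110566 937 = true := by decide +kernel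
theorem c_act78_119 : allRange (fun i => Nat.beq (actR78 i) i) 111503 937 = true := by decide +kernel
theorem c_act78_120 : allRange (fun i => Nat.beq (actR78 i) i) 112440 937 = true := by decide +kernel
theorem c_act78_121 : allRange (fun i => Nat.beq (actR78 i) i) 113377 937 = true := by decide +kernel
theorem c_act78_122 : allRange (fun i => Nat.beq (actR78 i) i) 114314 937 = true := by decide +kernel
theorem c_act78_123 : allRange (fun i => Nat.beq (actR78 i) i) 115251 937 = true := by decide +kernel
theorem c_act78_124 : allRange (fun i => Nat.beq (actR78 i) i) 116188 937 = true := by decide +kernel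
theorem c_act78_125 : allRange (fun i => Nat.beq (actR78 i) i) 117125 937 = true := by decide +kernel
theorem c_act78_126 : allRange (fun i => Nat.beq (actR78 i) i) 118062 937 = true := by decide +kernel
theorem c_act78_127 : allRange (fun i => Nat.beq (actR78 i) i) 118999 937 = true := by decide +kernel
theorem c_act78_128 : allRange (fun i => Nat.beq (actR78 i) i) 119936 937 = true := by decide +kernel
theorem c_act78_129 : allRange (fun i => Nat.beq (actR78 i) i) 120873 937 = true := by decide +kernel
theorem c_act78_130 : allRange (fun i => Nat.beq (actR78 i) i) 121810 937 = true := by decide +kernel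
theorem c_act78_131 : allRange (fun i => Nat.beq (actR78 i) i) 122747 937 = true := by decide +kernel
theorem c_act78_132 : allRange (fun i => Nat.beq (actR78 i) i) 123684 937 = true := by decide +kernel
theorem c_act78_133 : allRange (fun i => Nat.beq (actR78 i) i) 124621 937 = true := by decide +kernel
theorem c_act78_134 : allRange (fun i => Nat.beq (actR78 i) i) 125558 937 = true := by decide +kernel
theorem c_act78_135 : allRange (fun i => Nat.beq (actR78 i) i) 126495 937 = true := by decide +kernel
theorem c_act78_136 : allRange (fun i => Nat.beq (actR78 i) i) 127432 937 = true := by decide +kernel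
theorem c_act78_137 : allRange (fun i => Nat.beq (actR78 i) i) 128369 937 = true := by decide +kernel
theorem c_act78_138 : allRange (fun i => Nat.beq (actR78 i) i) 129306 937 = true := by decide +kernel
theorem c_act78_139 : allRange (fun i => Nat.beq (actR78 i) i) 130243 937 = true := by decide +kernel
theorem c_act78_140 : allRange (fun i => Nat.beq (actR78 i) i) 131180 937 = true := by decide +kernel
theorem c_act78_141 : allRange (fun i => Nat.beq (actR78 i) i) 132117 937 = true := by decide +kernel
theorem c_act78_142 : allRange (fun i => Nat.beq (actR78 i) i) 133054 937 = true := by decide +kernel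
theorem c_act78_143 : allRange (fun i => Nat.beq (actR78 i) i) 133991 937 = true := by decide +kernel
theorem c_act78_144 : allRange (fun i => Nat.beq (actR78 i) i) 134928 937 = true := by decide +kernel
theorem c_act78_145 : allRange (fun i => Nat.beq (actR78 i) i) 135865 937 = true := by decide +kernel
theorem c_act78_146 : allRange (fun i => Nat.beq (actR78 i) i) 136802 937 = true := by decide +kernel
theorem c_act78_147 : allRange (fun i => Nat.beq (actR78 i) i) 137739 937 = true := by decide +kernel
theorem c_act78_148 : allRange (fun i => Nat.beq (actR78 i) i) 138676 937 = true := by decide +kernel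
theorem c_act78_149 : allRange (fun i => Nat.beq (actR78 i) i) 139613 937 = true := by decide +kernel
theorem c_act78_150 : allRange (fun i => Nat.beq (actR78 i) i) 140550 937 = true := by decide +kernel
theorem c_act78_151 : allRange (fun i => Nat.beq (actR78 i) i) 141487 937 = true := by decide +kernel
theorem c_act78_152 : allRange (fun i => Nat.beq (actR78 i) i) 142424 937 = true := by decide +kernel
theorem c_act78_153 : allRange (fun i => Nat.beq (actR78 i) i) 143361 937 = true := by decide +kernel
theorem c_act78_154 : allRange (fun i => Nat.beq (actR78 i) i) 144298 937 = true := by decide +kernel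
theorem c_act78_155 : allRange (fun i => Nat.beq (actR78 i) i) 145235 937 = true := by decide +kernel
theorem c_act78_156 : allRange (fun i => Nat.beq (actR78 i) i) 146172 937 = true := by decide +kernel
theorem c_act78_157 : allRange (fun i => Nat.beq (actR78 i) i) 147109 937 = true := by decide +kernel
theorem c_act78_158 : allRange (fun i => Nat.beq (actR78 i) i) 148046 937 = true := by decide +kernel
theorem c_act78_159 : allRange (fun i => Nat.beq (actR78 i) i) 148983 937 = true := by decide +kernel
theorem c_act78_160 : allRange (fun i => Nat.beq (actR78 i) i) 149920 937 = true := by decide +kernel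
theorem c_act78_161 : allRange (fun i => Nat.beq (actR78 i) i) 150857 937 = true := by decide +kernel
theorem c_act78_162 : allRange (fun i => Nat.beq (actR78 i) i) 151794 937 = true := by decide +kernel
theorem c_act78_163 : allRange (fun i => Nat.beq (actR78 i) i) 152731 937 = true := by decide +kernel

end Cfsg.Agent.Lib.Helper4.TCD.Fi24a
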