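import Cfsg.Agent.Lib.Helper4.TCD_Fi24a_Acc

namespace Cfsg.Agent.Lib.Helper4.TCD.Fi24a

open Cfsg.Agent.Lib.Helper4.TC

set_option maxRecDepth 100000
set_option Elab.async false

theorem c_rel_417 : allRange D.relOK 1820130 3459 = true := by decide +kernel
theorem c_rel_418 : allRange D.relOK 1823589 3460 = true := by decide +kernel
theorem c_rel_419 : allRange D.relOK 1827049 3452 = true := by decide +kernel
theorem c_rel_420 : allRange D.relOK 1830501 3436 = true := by decide +kernel
theorem c_rel_421 : allRange D.relOK 1833937 3456 = true := by decide +kernel
theorem c_rel_422 : allRange D.relOK 1837393 3445 = true := by decide +kernel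
theorem c_rel_423 : allRange D.relOK 1840838 3459 = true := by decide +kernel
theorem c_rel_424 : allRange D.relOK 1844297 3339 = true := by decide +kernel
theorem c_rel_425 : allRange D.relOK 1847636 3428 = true := by decide +kernel
theorem c_rel_426 : allRange D.relOK 1851064 3481 = true := by decide +kernel
theorem c_rel_427 : allRange D.relOK 1854545 3427 = true := by decide +kernel
theorem c_rel_428 : allRange D.relOK 1857972 3458 = true := by decide +kernel
theorem c_rel_429 : allRange D.relOK 1861430 3425 = true := by decide +kernel
theorem c_rel_430 : allRange D.relOK 1864855 3399 = true := by decide +kernel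
theorem c_rel_431 : allRange D.relOK 1868254 3497 = true := by decide +kernel
theorem c_rel_432 : allRange D.relOK 1871751 3519 = true := by decide +kernel
theorem c_rel_433 : allRange D.relOK 1875270 3422 = true := by decide +kernel
theorem c_rel_434 : allRange D.relOK 1878692 3473 = true := by decide +kernel
theorem c_rel_435 : allRange D.relOK 1882165 3426 = true := by decide +kernel
theorem c_rel_436 : allRange D.relOK 1885591 3484 = true := by decide +kernel
theorem c_rel_437 : allRange D.relOK 1889075 3433 = true := by decide +kernel
theorem c_rel_438 : allRange D.relOK 1892508 3489 = true := by decide +kernel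
theorem c_rel_439 : allRange D.relOK 1895997 3472 = true := by decide +kernel
theorem c_rel_440 : allRange D.relOK 1899469 3372 = true := by decide +kernel
theorem c_rel_441 : allRange D.relOK 1902841 3490 = true := by decide +kernel
theorem c_rel_442 : allRange D.relOK 1906331 3480 = true := by decide +kernel
theorem c_rel_443 : allRange D.relOK 1909811 3410 = true := by decide +kernel
theorem c_rel_444 : allRange D.relOK 1913221 3465 = true := by decide +kernel
theorem c_rel_445 : allRange D.relOK 1916686 3450 = true := by decide +kernel
theorem c_rel_446 : allRange D.relOK 1920136 3472 = true := by decide +kernel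
theorem c_rel_447 : allRange D.relOK 1923608 3412 = true := by decide +kernel
theorem c_rel_448 : allRange D.relOK 1927020 3480 = true := by decide +kernel
theorem c_rel_449 : allRange D.relOK 1930500 3497 = true := by decide +kernel
theorem c_rel_450 : allRange D.relOK 1933997 3489 = true := by decide +kernel
theorem c_rel_451 : allRange D.relOK 1937486 3450 = true := by decide +kernel
theorem c_rel_452 : allRange D.relOK 1940936 3405 = true := by decide +kernel
theorem c_rel_453 : allRange D.relOK 1944341 3463 = true := by decide +kernel
theorem c_rel_454 : allRange D.relOK 1947804 3352 = true := by decide +kernel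
theorem c_rel_455 : allRange D.relOK 1951156 3255 = true := by decide +kernel
theorem c_rel_456 : allRange D.relOK 1954411 3376 = true := by decide +kernel
theorem c_rel_457 : allRange D.relOK 1957787 3443 = true := by decide +kernel
theorem c_rel_458 : allRange D.relOK 1961230 3463 = true := by decide +kernel
theorem c_rel_459 : allRange D.relOK 1964693 3278 = true := by decide +kernel
theorem c_rel_460 : allRange D.relOK 1967971 3432 = true := by decide +kernel
theorem c_rel_461 : allRange D.relOK 1971403 3459 = true := by decide +kernel
theorem c_rel_462 : allRange D.relOK 1974862 3425 = true := by decide +kernel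
theorem c_rel_463 : allRange D.relOK 1978287 3411 = true := by decide +kernel
theorem c_rel_464 : allRange D.relOK 1981698 3473 = true := by decide +kernel
theorem c_rel_465 : allRange D.relOK 1985171 3484 = true := by decide +kernel
theorem c_rel_466 : allRange D.relOK 1988655 3431 = true := by decide +kernel
theorem c_rel_467 : allRange D.relOK 1992086 3412 = true := by decide +kernel
theorem c_rel_468 : allRange D.relOK 1995498 3303 = true := by decide +kernel
theorem c_rel_469 : allRange D.relOK 1998801 3347 = true := by decide +kernel
theorem c_rel_470 : allRange D.relOK 2002148 3323 = true := by decide +kernel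
theorem c_rel_471 : allRange D.relOK 2005471 3322 = true := by decide +kernel
theorem c_rel_472 : allRange D.relOK 2008793 3364 = true := by decide +kernel
theorem c_rel_473 : allRange D.relOK 2012157 3397 = true := by decide +kernel
theorem c_rel_474 : allRange D.relOK 2015554 3391 = true := by decide +kernel
theorem c_rel_475 : allRange D.relOK 2018945 3242 = true := by decide +kernel
theorem c_rel_476 : allRange D.relOK 2022187 3450 = true := by decide +kernel
theorem c_rel_477 : allRange D.relOK 2025637 3472 = true := by decide +kernel
theorem c_rel_478 : allRange D.relOK 2029109 3472 = true := by decide +kernel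
theorem c_rel_479 : allRange D.relOK 2032581 3437 = true := by decide +kernel
theorem c_rel_480 : allRange D.relOK 2036018 3294 = true := by decide +kernel
theorem c_rel_481 : allRange D.relOK 2039312 3424 = true := by decide +kernel
theorem c_rel_482 : allRange D.relOK 2042736 3332 = true := by decide +kernel
theorem c_rel_483 : allRange D.relOK 2046068 3246 = true := by decide +kernel
theorem c_rel_484 : allRange D.relOK 2049314 3256 = true := by decide +kernel
theorem c_rel_485 : allRange D.relOK 2052570 3448 = true := by decide +kernel
theorem c_rel_486 : allRange D.relOK 2056018 3487 = true := by decide +kernel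
theorem c_rel_487 : allRange D.relOK 2059505 3378 = true := by decide +kernel
theorem c_rel_488 : allRange D.relOK 2062883 3462 = true := by decide +kernel
theorem c_rel_489 : allRange D.relOK 2066345 3227 = true := by decide +kernel
theorem c_rel_490 : allRange D.relOK 2069572 3352 = true := by decide +kernel
theorem c_rel_491 : allRange D.relOK 2072924 3256 = true := by decide +kernel
theorem c_rel_492 : allRange D.relOK 2076180 3280 = true := by decide +kernel
theorem c_rel_493 : allRange D.relOK 2079460 3339 = true := by decide +kernel
theorem c_rel_494 : allRange D.relOK 2082799 3364 = true := by decide +kernel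
theorem c_rel_495 : allRange D.relOK 2086163 3238 = true := by decide +kernel
theorem c_rel_496 : allRange D.relOK 2089401 3467 = true := by decide +kernel
theorem c_rel_497 : allRange D.relOK 2092868 3252 = true := by decide +kernel
theorem c_rel_498 : allRange D.relOK 2096120 3215 = true := by decide +kernel
theorem c_rel_499 : allRange D.relOK 2099335 3295 = true := by decide +kernel
theorem c_rel_500 : allRange D.relOK 2102630 3314 = true := by decide +kernel
theorem c_rel_501 : allRange D.relOK 2105944 3347 = true := by decide +kernel
theorem c_rel_502 : allRange D.relOK 2109291 3423 = true := by decide +kernel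
theorem c_rel_503 : allRange D.relOK 2112714 2888 = true := by decide +kernel
theorem c_rel_504 : allRange D.relOK 2115602 3096 = true := by decide +kernel
theorem c_rel_505 : allRange D.relOK 2118698 2886 = true := by decide +kernel
theorem c_rel_506 : allRange D.relOK 2121584 3243 = true := by decide +kernel
theorem c_rel_507 : allRange D.relOK 2124827 3308 = true := by decide +kernel
theorem c_rel_508 : allRange D.relOK 2128135 3374 = true := by decide +kernel
theorem c_rel_509 : allRange D.relOK 2131509 3067 = true := by decide +kernel
theorem c_rel_510 : allRange D.relOK 2134576 3040 = true := by decide +kernel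
theorem c_rel_511 : allRange D.relOK 2137616 3215 = true := by decide +kernel
theorem c_rel_512 : allRange D.relOK 2140831 2874 = true := by decide +kernel
theorem c_rel_513 : allRange D.relOK 2143705 3003 = true := by decide +kernel
theorem c_rel_514 : allRange D.relOK 2146708 3976 = true := by decide +kernel
theorem c_rel_515 : allRange D.relOK 2150684 4969 = true := by decide +kernel

end Cfsg.Agent.Lib.Helper4.TCD.Fi24a
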