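import Cfsg.Agent.Lib.Helper4.TCD_Fi24a_Acc

namespace Cfsg.Agent.Lib.Helper4.TCD.Fi24a

open Cfsg.Agent.Lib.Helper4.TC

set_option maxRecDepth 100000
set_option Elab.async false

theorem c_act78_164 : allRange (fun i => Nat.beq (actR78 i) i) 153668 937 = true := by decide +kernel
theorem c_act78_165 : allRange (fun i => Nat.beq (actR78 i) i) 154605 937 = true := by decide +kernel
theorem c_act78_166 : allRange (fun i => Nat.beq (actR78 i) i) 155542 937 = true := by decide +kernel
theorem c_act78_167 : allRange (fun i => Nat.beq (actR78 i) i) 156479 937 = true := by decide +kernel
theorem c_act78_168 : allRange (fun i => Nat.beq (actR78 i) i) 157416 937 = true := by decide +kernel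
theorem c_act78_169 : allRange (fun i => Nat.beq (actR78 i) i) 158353 937 = true := by decide +kernel
theorem c_act78_170 : allRange (fun i => Nat.beq (actR78 i) i) 159290 937 = true := by decide +kernel
theorem c_act78_171 : allRange (fun i => Nat.beq (actR78 i) i) 160227 937 = true := by decide +kernel
theorem c_act78_172 : allRange (fun i => Nat.beq (actR78 i) i) 161164 937 = true := by decide +kernel
theorem c_act78_173 : allRange (fun i => Nat.beq (actR78 i) i) 162101 937 = true := by decide +kernel
theorem c_act78_174 : allRange (fun i => Nat.beq (actR78 i) i) 163038 937 = true := by decide +kernel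
theorem c_act78_175 : allRange (fun i => Nat.beq (actR78 i) i) 163975 937 = true := by decide +kernel
theorem c_act78_176 : allRange (fun i => Nat.beq (actR78 i) i) 164912 937 = true := by decide +kernel
theorem c_act78_177 : allRange (fun i => Nat.beq (actR78 i) i) 165849 937 = true := by decide +kernel
theorem c_act78_178 : allRange (fun i => Nat.beq (actR78 i) i) 166786 937 = true := by decide +kernel
theorem c_act78_179 : allRange (fun i => Nat.beq (actR78 i) i) 167723 937 = true := by decide +kernel
theorem c_act78_180 : allRange (fun i => Nat.beq (actR78 i) i) 168660 937 = true := by decide +kernel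
theorem c_act78_181 : allRange (fun i => Nat.beq (actR78 i) i) 169597 937 = true := by decide +kernel
theorem c_act78_182 : allRange (fun i => Nat.beq (actR78 i) i) 170534 937 = true := by decide +kernel
theorem c_act78_183 : allRange (fun i => Nat.beq (actR78 i) i) 171471 937 = true := by decide +kernel
theorem c_act78_184 : allRange (fun i => Nat.beq (actR78 i) i) 172408 937 = true := by decide +kernel
theorem c_act78_185 : allRange (fun i => Nat.beq (actR78 i) i) 173345 937 = true := by decide +kernel
theorem c_act78_186 : allRange (fun i => Nat.beq (actR78 i) i) 174282 937 = true := by decide +kernel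
theorem c_act78_187 : allRange (fun i => Nat.beq (actR78 i) i) 175219 937 = true := by decide +kernel
theorem c_act78_188 : allRange (fun i => Nat.beq (actR78 i) i) 176156 937 = true := by decide +kernel
theorem c_act78_189 : allRange (fun i => Nat.beq (actR78 i) i) 177093 937 = true := by decide +kernel
theorem c_act78_190 : allRange (fun i => Nat.beq (actR78 i) i) 178030 937 = true := by decide +kernel
theorem c_act78_191 : allRange (fun i => Nat.beq (actR78 i) i) 178967 937 = true := by decide +kernel
theorem c_act78_192 : allRange (fun i => Nat.beq (actR78 i) i) 179904 937 = true := by decide +kernel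
theorem c_act78_193 : allRange (fun i => Nat.beq (actR78 i) i) 180841 937 = true := by decide +kernel
theorem c_act78_194 : allRange (fun i => Nat.beq (actR78 i) i) 181778 937 = true := by decide +kernel
theorem c_act78_195 : allRange (fun i => Nat.beq (actR78 i) i) 182715 937 = true := by decide +kernel
theorem c_act78_196 : allRange (fun i => Nat.beq (actR78 i) i) 183652 937 = true := by decide +kernel
theorem c_act78_197 : allRange (fun i => Nat.beq (actR78 i) i) 184589 937 = true := by decide +kernel
theorem c_act78_198 : allRange (fun i => Nat.beq (actR78 i) i) 185526 937 = true := by decide +kernel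
theorem c_act78_199 : allRange (fun i => Nat.beq (actR78 i) i) 186463 937 = true := by decide +kernel
theorem c_act78_200 : allRange (fun i => Nat.beq (actR78 i) i) 187400 937 = true := by decide +kernel
theorem c_act78_201 : allRange (fun i => Nat.beq (actR78 i) i) 188337 937 = true := by decide +kernel
theorem c_act78_202 : allRange (fun i => Nat.beq (actR78 i) i) 189274 937 = true := by decide +kernel
theorem c_act78_203 : allRange (fun i => Nat.beq (actR78 i) i) 190211 937 = true := by decide +kernel
theorem c_act78_204 : allRange (fun i => Nat.beq (actR78 i) i) 191148 937 = true := by decide +kernel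
theorem c_act78_205 : allRange (fun i => Nat.beq (actR78 i) i) 192085 937 = true := by decide +kernel
theorem c_act78_206 : allRange (fun i => Nat.beq (actR78 i) i) 193022 937 = true := by decide +kernel
theorem c_act78_207 : allRange (fun i => Nat.beq (actR78 i) i) 193959 937 = true := by decide +kernel
theorem c_act78_208 : allRange (fun i => Nat.beq (actR78 i) i) 194896 937 = true := by decide +kernel
theorem c_act78_209 : allRange (fun i => Nat.beq (actR78 i) i) 195833 937 = true := by decide +kernel
theorem c_act78_210 : allRange (fun i => Nat.beq (actR78 i) i) 196770 937 = true := by decide +kernel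
theorem c_act78_211 : allRange (fun i => Nat.beq (actR78 i) i) 197707 937 = true := by decide +kernel
theorem c_act78_212 : allRange (fun i => Nat.beq (actR78 i) i) 198644 937 = true := by decide +kernel
theorem c_act78_213 : allRange (fun i => Nat.beq (actR78 i) i) 199581 937 = true := by decide +kernel

end Cfsg.Agent.Lib.Helper4.TCD.Fi24a
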