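import Cfsg.Agent.Lib.Helper4.TCD_Fi24a_Acc

namespace Cfsg.Agent.Lib.Helper4.TCD.Fi24a

open Cfsg.Agent.Lib.Helper4.TC

set_option maxRecDepth 100000
set_option Elab.async false

theorem c_act78_214 : allRange (fun i => Nat.beq (actR78 i) i) 200518 937 = true := by decide +kernel
theorem c_act78_215 : allRange (fun i => Nat.beq (actR78 i) i) 201455 937 = true := by decide +kernel
theorem c_act78_216 : allRange (fun i => Nat.beq (actR78 i) i) 202392 937 = true := by decide +kernel
theorem c_act78_217 : allRange (fun i => Nat.beq (actR78 i) i) 203329 937 = true := by decide +kernel
theorem c_act78_218 : allRange (fun i => Nat.beq (actR78 i) i) 204266 937 = true := by decide +kernel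
theorem c_act78_219 : allRange (fun i => Nat.beq (actR78 i) i) 205203 937 = true := by decide +kernel
theorem c_act78_220 : allRange (fun i => Nat.beq (actR78 i) i) 206140 937 = true := by decide +kernel
theorem c_act78_221 : allRange (fun i => Nat.beq (actR78 i) i) 207077 937 = true := by decide +kernel
theorem c_act78_222 : allRange (fun i => Nat.beq (actR78 i) i) 208014 937 = true := by decide +kernel
theorem c_act78_223 : allRange (fun i => Nat.beq (actR78 i) i) 208951 937 = true := by decide +kernel
theorem c_act78_224 : allRange (fun i => Nat.beq (actR78 i) i) 209888 937 = true := by decide +kernel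
theorem c_act78_225 : allRange (fun i => Nat.beq (actR78 i) i) 210825 937 = true := by decide +kernel
theorem c_act78_226 : allRange (fun i => Nat.beq (actR78 i) i) 211762 937 = true := by decide +kernel
theorem c_act78_227 : allRange (fun i => Nat.beq (actR78 i) i) 212699 937 = true := by decide +kernel
theorem c_act78_228 : allRange (fun i => Nat.beq (actR78 i) i) 213636 937 = true := by decide +kernel
theorem c_act78_229 : allRange (fun i => Nat.beq (actR78 i) i) 214573 937 = true := by decide +kernel
theorem c_act78_230 : allRange (fun i => Nat.beq (actR78 i) i) 215510 937 = true := by decide +kernel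
theorem c_act78_231 : allRange (fun i => Nat.beq (actR78 i) i) 216447 937 = true := by decide +kernel
theorem c_act78_232 : allRange (fun i => Nat.beq (actR78 i) i) 217384 937 = true := by decide +kernel
theorem c_act78_233 : allRange (fun i => Nat.beq (actR78 i) i) 218321 937 = true := by decide +kernel
theorem c_act78_234 : allRange (fun i => Nat.beq (actR78 i) i) 219258 937 = true := by decide +kernel
theorem c_act78_235 : allRange (fun i => Nat.beq (actR78 i) i) 220195 937 = true := by decide +kernel
theorem c_act78_236 : allRange (fun i => Nat.beq (actR78 i) i) 221132 937 = true := by decide +kernel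
theorem c_act78_237 : allRange (fun i => Nat.beq (actR78 i) i) 222069 937 = true := by decide +kernel
theorem c_act78_238 : allRange (fun i => Nat.beq (actR78 i) i) 223006 937 = true := by decide +kernel
theorem c_act78_239 : allRange (fun i => Nat.beq (actR78 i) i) 223943 937 = true := by decide +kernel
theorem c_act78_240 : allRange (fun i => Nat.beq (actR78 i) i) 224880 937 = true := by decide +kernel
theorem c_act78_241 : allRange (fun i => Nat.beq (actR78 i) i) 225817 937 = true := by decide +kernel
theorem c_act78_242 : allRange (fun i => Nat.beq (actR78 i) i) 226754 937 = true := by decide +kernel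
theorem c_act78_243 : allRange (fun i => Nat.beq (actR78 i) i) 227691 937 = true := by decide +kernel
theorem c_act78_244 : allRange (fun i => Nat.beq (actR78 i) i) 228628 937 = true := by decide +kernel
theorem c_act78_245 : allRange (fun i => Nat.beq (actR78 i) i) 229565 937 = true := by decide +kernel
theorem c_act78_246 : allRange (fun i => Nat.beq (actR78 i) i) 230502 937 = true := by decide +kernel
theorem c_act78_247 : allRange (fun i => Nat.beq (actR78 i) i) 231439 937 = true := by decide +kernel
theorem c_act78_248 : allRange (fun i => Nat.beq (actR78 i) i) 232376 937 = true := by decide +kernel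
theorem c_act78_249 : allRange (fun i => Nat.beq (actR78 i) i) 233313 937 = true := by decide +kernel
theorem c_act78_250 : allRange (fun i => Nat.beq (actR78 i) i) 234250 937 = true := by decide +kernel
theorem c_act78_251 : allRange (fun i => Nat.beq (actR78 i) i) 235187 937 = true := by decide +kernel
theorem c_act78_252 : allRange (fun i => Nat.beq (actR78 i) i) 236124 937 = true := by decide +kernel
theorem c_act78_253 : allRange (fun i => Nat.beq (actR78 i) i) 237061 937 = true := by decide +kernel
theorem c_act78_254 : allRange (fun i => Nat.beq (actR78 i) i) 237998 937 = true := by decide +kernel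
theorem c_act78_255 : allRange (fun i => Nat.beq (actR78 i) i) 238935 937 = true := by decide +kernel
theorem c_act78_256 : allRange (fun i => Nat.beq (actR78 i) i) 239872 937 = true := by decide +kernel
theorem c_act78_257 : allRange (fun i => Nat.beq (actR78 i) i) 240809 937 = true := by decide +kernel
theorem c_act78_258 : allRange (fun i => Nat.beq (actR78 i) i) 241746 937 = true := by decide +kernel
theorem c_act78_259 : allRange (fun i => Nat.beq (actR78 i) i) 242683 937 = true := by decide +kernel
theorem c_act78_260 : allRange (fun i => Nat.beq (actR78 i) i) 243620 937 = true := by decide +kernel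
theorem c_act78_261 : allRange (fun i => Nat.beq (actR78 i) i) 244557 937 = true := by decide +kernel
theorem c_act78_262 : allRange (fun i => Nat.beq (actR78 i) i) 245494 937 = true := by decide +kernel
theorem c_act78_263 : allRange (fun i => Nat.beq (actR78 i) i) 246431 937 = true := by decide +kernel

end Cfsg.Agent.Lib.Helper4.TCD.Fi24a
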