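import Cfsg.Agent.Lib.Helper4.TCD_Fi24a_Acc

namespace Cfsg.Agent.Lib.Helper4.TCD.Fi24a

open Cfsg.Agent.Lib.Helper4.TC

set_option maxRecDepth 100000
set_option Elab.async false

theorem c_act78_264 : allRange (fun i => Nat.beq (actR78 i) i) 247368 937 = true := by decide +kernel
theorem c_act78_265 : allRange (fun i => Nat.beq (actR78 i) i) 248305 937 = true := by decide +kernel
theorem c_act78_266 : allRange (fun i => Nat.beq (actR78 i) i) 249242 937 = true := by decide +kernel
theorem c_act78_267 : allRange (fun i => Nat.beq (actR78 i) i) 250179 937 = true := by decide +kernel
theorem c_act78_268 : allRange (fun i => Nat.beq (actR78 i) i) 251116 937 = true := by decide +kernel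
theorem c_act78_269 : allRange (fun i => Nat.beq (actR78 i) i) 252053 937 = true := by decide +kernel
theorem c_act78_270 : allRange (fun i => Nat.beq (actR78 i) i) 252990 937 = true := by decide +kernel
theorem c_act78_271 : allRange (fun i => Nat.beq (actR78 i) i) 253927 937 = true := by decide +kernel
theorem c_act78_272 : allRange (fun i => Nat.beq (actR78 i) i) 254864 937 = true := by decide +kernel
theorem c_act78_273 : allRange (fun i => Nat.beq (actR78 i) i) 255801 937 = true := by decide +kernel
theorem c_act78_274 : allRange (fun i => Nat.beq (actR78 i) i) 256738 937 = true := by decide +kernel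
theorem c_act78_275 : allRange (fun i => Nat.beq (actR78 i) i) 257675 937 = true := by decide +kernel
theorem c_act78_276 : allRange (fun i => Nat.beq (actR78 i) i) 258612 937 = true := by decide +kernel
theorem c_act78_277 : allRange (fun i => Nat.beq (actR78 i) i) 259549 937 = true := by decide +kernel
theorem c_act78_278 : allRange (fun i => Nat.beq (actR78 i) i) 260486 937 = true := by decide +kernel
theorem c_act78_279 : allRange (fun i => Nat.beq (actR78 i) i) 261423 937 = true := by decide +kernel
theorem c_act78_280 : allRange (fun i => Nat.beq (actR78 i) i) 262360 937 = true := by decide +kernel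
theorem c_act78_281 : allRange (fun i => Nat.beq (actR78 i) i) 263297 937 = true := by decide +kernel
theorem c_act78_282 : allRange (fun i => Nat.beq (actR78 i) i) 264234 937 = true := by decide +kernel
theorem c_act78_283 : allRange (fun i => Nat.beq (actR78 i) i) 265171 937 = true := by decide +kernel
theorem c_act78_284 : allRange (fun i => Nat.beq (actR78 i) i) 266108 937 = true := by decide +kernel
theorem c_act78_285 : allRange (fun i => Nat.beq (actR78 i) i) 267045 937 = true := by decide +kernel
theorem c_act78_286 : allRange (fun i => Nat.beq (actR78 i) i) 267982 937 = true := by decide +kernel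
theorem c_act78_287 : allRange (fun i => Nat.beq (actR78 i) i) 268919 937 = true := by decide +kernel
theorem c_act78_288 : allRange (fun i => Nat.beq (actR78 i) i) 269856 937 = true := by decide +kernel
theorem c_act78_289 : allRange (fun i => Nat.beq (actR78 i) i) 270793 937 = true := by decide +kernel
theorem c_act78_290 : allRange (fun i => Nat.beq (actR78 i) i) 271730 937 = true := by decide +kernel
theorem c_act78_291 : allRange (fun i => Nat.beq (actR78 i) i) 272667 937 = true := by decide +kernel
theorem c_act78_292 : allRange (fun i => Nat.beq (actR78 i) i) 273604 937 = true := by decide +kernel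
theorem c_act78_293 : allRange (fun i => Nat.beq (actR78 i) i) 274541 937 = true := by decide +kernel
theorem c_act78_294 : allRange (fun i => Nat.beq (actR78 i) i) 275478 937 = true := by decide +kernel
theorem c_act78_295 : allRange (fun i => Nat.beq (actR78 i) i) 276415 937 = true := by decide +kernel
theorem c_act78_296 : allRange (fun i => Nat.beq (actR78 i) i) 277352 937 = true := by decide +kernel
theorem c_act78_297 : allRange (fun i => Nat.beq (actR78 i) i) 278289 937 = true := by decide +kernel
theorem c_act78_298 : allRange (fun i => Nat.beq (actR78 i) i) 279226 937 = true := by decide +kernel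
theorem c_act78_299 : allRange (fun i => Nat.beq (actR78 i) i) 280163 937 = true := by decide +kernel
theorem c_act78_300 : allRange (fun i => Nat.beq (actR78 i) i) 281100 937 = true := by decide +kernel
theorem c_act78_301 : allRange (fun i => Nat.beq (actR78 i) i) 282037 937 = true := by decide +kernel
theorem c_act78_302 : allRange (fun i => Nat.beq (actR78 i) i) 282974 937 = true := by decide +kernel
theorem c_act78_303 : allRange (fun i => Nat.beq (actR78 i) i) 283911 937 = true := by decide +kernel
theorem c_act78_304 : allRange (fun i => Nat.beq (actR78 i) i) 284848 937 = true := by decide +kernel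
theorem c_act78_305 : allRange (fun i => Nat.beq (actR78 i) i) 285785 937 = true := by decide +kernel
theorem c_act78_306 : allRange (fun i => Nat.beq (actR78 i) i) 286722 937 = true := by decide +kernel
theorem c_act78_307 : allRange (fun i => Nat.beq (actR78 i) i) 287659 937 = true := by decide +kernel
theorem c_act78_308 : allRange (fun i => Nat.beq (actR78 i) i) 288596 937 = true := by decide +kernel
theorem c_act78_309 : allRange (fun i => Nat.beq (actR78 i) i) 289533 937 = true := by decide +kernel
theorem c_act78_310 : allRange (fun i => Nat.beq (actR78 i) i) 290470 937 = true := by decide +kernel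
theorem c_act78_311 : allRange (fun i => Nat.beq (actR78 i) i) 291407 937 = true := by decide +kernel
theorem c_act78_312 : allRange (fun i => Nat.beq (actR78 i) i) 292344 937 = true := by decide +kernel
theorem c_act78_313 : allRange (fun i => Nat.beq (actR78 i) i) 293281 937 = true := by decide +kernel

end Cfsg.Agent.Lib.Helper4.TCD.Fi24a
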