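import Cfsg.Agent.Lib.Helper4.TCD_Fi24a_Acc

namespace Cfsg.Agent.Lib.Helper4.TCD.Fi24a

open Cfsg.Agent.Lib.Helper4.TC

set_option maxRecDepth 100000
set_option Elab.async false

theorem c_act78_314 : allRange (fun i => Nat.beq (actR78 i) i) 294218 937 = true := by decide +kernel
theorem c_act78_315 : allRange (fun i => Nat.beq (actR78 i) i) 295155 937 = true := by decide +kernel
theorem c_act78_316 : allRange (fun i => Nat.beq (actR78 i) i) 296092 937 = true := by decide +kernel
theorem c_act78_317 : allRange (fun i => Nat.beq (actR78 i) i) 297029 937 = true := by decide +kernel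
theorem c_act78_318 : allRange (fun i => Nat.beq (actR78 i) i) 297966 937 = true := by decide +kernel
theorem c_act78_319 : allRange (fun i => Nat.beq (actR78 i) i) 298903 937 = true := by decide +kernel
theorem c_act78_320 : allRange (fun i => Nat.beq (actR78 i) i) 299840 937 = true := by decide +kernel
theorem c_act78_321 : allRange (fun i => Nat.beq (actR78 i) i) 300777 937 = true := by decide +kernel
theorem c_act78_322 : allRange (fun i => Nat.beq (actR78 i) i) 301714 937 = true := by decide +kernel
theorem c_act78_323 : allRange (fun i => Nat.beq (actR78 i) i) 302651 937 = true := by decide +kernel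
theorem c_act78_324 : allRange (fun i => Nat.beq (actR78 i) i) 303588 937 = true := by decide +kernel
theorem c_act78_325 : allRange (fun i => Nat.beq (actR78 i) i) 304525 937 = true := by decide +kernel
theorem c_act78_326 : allRange (fun i => Nat.beq (actR78 i) i) 305462 937 = true := by decide +kernel
theorem c_act78_327 : allRange (fun i => Nat.beq (actR78 i) i) 306399 537 = true := by decide +kernel
theorem c_act79_0 : allRange (fun i => Nat.beq (actR79 i) i) 0 252 = true := by decide +kernel
theorem c_act79_1 : allRange (fun i => Nat.beq (actR79 i) i) 252 252 = true := by decide +kernel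
theorem c_act79_2 : allRange (fun i => Nat.beq (actR79 i) i) 504 252 = true := by decide +kernel
theorem c_act79_3 : allRange (fun i => Nat.beq (actR79 i) i) 756 252 = true := by decide +kernel
theorem c_act79_4 : allRange (fun i => Nat.beq (actR79 i) i) 1008 252 = true := by decide +kernel
theorem c_act79_5 : allRange (fun i => Nat.beq (actR79 i) i) 1260 252 = true := by decide +kernel
theorem c_act79_6 : allRange (fun i => Nat.beq (actR79 i) i) 1512 252 = true := by decide +kernel
theorem c_act79_7 : allRange (fun i => Nat.beq (actR79 i) i) 1764 252 = true := by decide +kernel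
theorem c_act79_8 : allRange (fun i => Nat.beq (actR79 i) i) 2016 252 = true := by decide +kernel
theorem c_act79_9 : allRange (fun i => Nat.beq (actR79 i) i) 2268 252 = true := by decide +kernel
theorem c_act79_10 : allRange (fun i => Nat.beq (actR79 i) i) 2520 252 = true := by decide +kernel
theorem c_act79_11 : allRange (fun i => Nat.beq (actR79 i) i) 2772 252 = true := by decide +kernel
theorem c_act79_12 : allRange (fun i => Nat.beq (actR79 i) i) 3024 252 = true := by decide +kernel
theorem c_act79_13 : allRange (fun i => Nat.beq (actR79 i) i) 3276 252 = true := by decide +kernel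
theorem c_act79_14 : allRange (fun i => Nat.beq (actR79 i) i) 3528 252 = true := by decide +kernel
theorem c_act79_15 : allRange (fun i => Nat.beq (actR79 i) i) 3780 252 = true := by decide +kernel
theorem c_act79_16 : allRange (fun i => Nat.beq (actR79 i) i) 4032 252 = true := by decide +kernel
theorem c_act79_17 : allRange (fun i => Nat.beq (actR79 i) i) 4284 252 = true := by decide +kernel
theorem c_act79_18 : allRange (fun i => Nat.beq (actR79 i) i) 4536 252 = true := by decide +kernel
theorem c_act79_19 : allRange (fun i => Nat.beq (actR79 i) i) 4788 252 = true := by decide +kernel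
theorem c_act79_20 : allRange (fun i => Nat.beq (actR79 i) i) 5040 252 = true := by decide +kernel
theorem c_act79_21 : allRange (fun i => Nat.beq (actR79 i) i) 5292 252 = true := by decide +kernel
theorem c_act79_22 : allRange (fun i => Nat.beq (actR79 i) i) 5544 252 = true := by decide +kernel
theorem c_act79_23 : allRange (fun i => Nat.beq (actR79 i) i) 5796 252 = true := by decide +kernel
theorem c_act79_24 : allRange (fun i => Nat.beq (actR79 i) i) 6048 252 = true := by decide +kernel
theorem c_act79_25 : allRange (fun i => Nat.beq (actR79 i) i) 6300 252 = true := by decide +kernel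
theorem c_act79_26 : allRange (fun i => Nat.beq (actR79 i) i) 6552 252 = true := by decide +kernel
theorem c_act79_27 : allRange (fun i => Nat.beq (actR79 i) i) 6804 252 = true := by decide +kernel
theorem c_act79_28 : allRange (fun i => Nat.beq (actR79 i) i) 7056 252 = true := by decide +kernel
theorem c_act79_29 : allRange (fun i => Nat.beq (actR79 i) i) 7308 252 = true := by decide +kernel
theorem c_act79_30 : allRange (fun i => Nat.beq (actR79 i) i) 7560 252 = true := by decide +kernel
theorem c_act79_31 : allRange (fun i => Nat.beq (actR79 i) i) 7812 252 = true := by decide +kernel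
theorem c_act79_32 : allRange (fun i => Nat.beq (actR79 i) i) 8064 252 = true := by decide +kernel
theorem c_act79_33 : allRange (fun i => Nat.beq (actR79 i) i) 8316 252 = true := by decide +kernel
theorem c_act79_34 : allRange (fun i => Nat.beq (actR79 i) i) 8568 252 = true := by decide +kernel
theorem c_act79_35 : allRange (fun i => Nat.beq (actR79 i) i) 8820 252 = true := by decide +kernel

end Cfsg.Agent.Lib.Helper4.TCD.Fi24a
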