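import Cfsg.Agent.Lib.Helper4.TCD_Fi24a_Acc

namespace Cfsg.Agent.Lib.Helper4.TCD.Fi24a

open Cfsg.Agent.Lib.Helper4.TC

set_option maxRecDepth 100000
set_option Elab.async false

theorem c_act79_36 : allRange (fun i => Nat.beq (actR79 i) i) 9072 252 = true := by decide +kernel
theorem c_act79_37 : allRange (fun i => Nat.beq (actR79 i) i) 9324 252 = true := by decide +kernel
theorem c_act79_38 : allRange (fun i => Nat.beq (actR79 i) i) 9576 252 = true := by decide +kernel
theorem c_act79_39 : allRange (fun i => Nat.beq (actR79 i) i) 9828 252 = true := by decide +kernel
theorem c_act79_40 : allRange (fun i => Nat.beq (actR79 i) i) 10080 252 = true := by decide +kernel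
theorem c_act79_41 : allRange (fun i => Nat.beq (actR79 i) i) 10332 252 = true := by decide +kernel
theorem c_act79_42 : allRange (fun i => Nat.beq (actR79 i) i) 10584 252 = true := by decide +kernel
theorem c_act79_43 : allRange (fun i => Nat.beq (actR79 i) i) 10836 252 = true := by decide +kernel
theorem c_act79_44 : allRange (fun i => Nat.beq (actR79 i) i) 11088 252 = true := by decide +kernel
theorem c_act79_45 : allRange (fun i => Nat.beq (actR79 i) i) 11340 252 = true := by decide +kernel
theorem c_act79_46 : allRange (fun i => Nat.beq (actR79 i) i) 11592 252 = true := by decide +kernel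
theorem c_act79_47 : allRange (fun i => Nat.beq (actR79 i) i) 11844 252 = true := by decide +kernel
theorem c_act79_48 : allRange (fun i => Nat.beq (actR79 i) i) 12096 252 = true := by decide +kernel
theorem c_act79_49 : allRange (fun i => Nat.beq (actR79 i) i) 12348 252 = true := by decide +kernel
theorem c_act79_50 : allRange (fun i => Nat.beq (actR79 i) i) 12600 252 = true := by decide +kernel
theorem c_act79_51 : allRange (fun i => Nat.beq (actR79 i) i) 12852 252 = true := by decide +kernel
theorem c_act79_52 : allRange (fun i => Nat.beq (actR79 i) i) 13104 252 = true := by decide +kernel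
theorem c_act79_53 : allRange (fun i => Nat.beq (actR79 i) i) 13356 252 = true := by decide +kernel
theorem c_act79_54 : allRange (fun i => Nat.beq (actR79 i) i) 13608 252 = true := by decide +kernel
theorem c_act79_55 : allRange (fun i => Nat.beq (actR79 i) i) 13860 252 = true := by decide +kernel
theorem c_act79_56 : allRange (fun i => Nat.beq (actR79 i) i) 14112 252 = true := by decide +kernel
theorem c_act79_57 : allRange (fun i => Nat.beq (actR79 i) i) 14364 252 = true := by decide +kernel
theorem c_act79_58 : allRange (fun i => Nat.beq (actR79 i) i) 14616 252 = true := by decide +kernel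
theorem c_act79_59 : allRange (fun i => Nat.beq (actR79 i) i) 14868 252 = true := by decide +kernel
theorem c_act79_60 : allRange (fun i => Nat.beq (actR79 i) i) 15120 252 = true := by decide +kernel
theorem c_act79_61 : allRange (fun i => Nat.beq (actR79 i) i) 15372 252 = true := by decide +kernel
theorem c_act79_62 : allRange (fun i => Nat.beq (actR79 i) i) 15624 252 = true := by decide +kernel
theorem c_act79_63 : allRange (fun i => Nat.beq (actR79 i) i) 15876 252 = true := by decide +kernel
theorem c_act79_64 : allRange (fun i => Nat.beq (actR79 i) i) 16128 252 = true := by decide +kernel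
theorem c_act79_65 : allRange (fun i => Nat.beq (actR79 i) i) 16380 252 = true := by decide +kernel
theorem c_act79_66 : allRange (fun i => Nat.beq (actR79 i) i) 16632 252 = true := by decide +kernel
theorem c_act79_67 : allRange (fun i => Nat.beq (actR79 i) i) 16884 252 = true := by decide +kernel
theorem c_act79_68 : allRange (fun i => Nat.beq (actR79 i) i) 17136 252 = true := by decide +kernel
theorem c_act79_69 : allRange (fun i => Nat.beq (actR79 i) i) 17388 252 = true := by decide +kernel
theorem c_act79_70 : allRange (fun i => Nat.beq (actR79 i) i) 17640 252 = true := by decide +kernel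
theorem c_act79_71 : allRange (fun i => Nat.beq (actR79 i) i) 17892 252 = true := by decide +kernel
theorem c_act79_72 : allRange (fun i => Nat.beq (actR79 i) i) 18144 252 = true := by decide +kernel
theorem c_act79_73 : allRange (fun i => Nat.beq (actR79 i) i) 18396 252 = true := by decide +kernel
theorem c_act79_74 : allRange (fun i => Nat.beq (actR79 i) i) 18648 252 = true := by decide +kernel
theorem c_act79_75 : allRange (fun i => Nat.beq (actR79 i) i) 18900 252 = true := by decide +kernel
theorem c_act79_76 : allRange (fun i => Nat.beq (actR79 i) i) 19152 252 = true := by decide +kernel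
theorem c_act79_77 : allRange (fun i => Nat.beq (actR79 i) i) 19404 252 = true := by decide +kernel
theorem c_act79_78 : allRange (fun i => Nat.beq (actR79 i) i) 19656 252 = true := by decide +kernel
theorem c_act79_79 : allRange (fun i => Nat.beq (actR79 i) i) 19908 252 = true := by decide +kernel
theorem c_act79_80 : allRange (fun i => Nat.beq (actR79 i) i) 20160 252 = true := by decide +kernel
theorem c_act79_81 : allRange (fun i => Nat.beq (actR79 i) i) 20412 252 = true := by decide +kernel
theorem c_act79_82 : allRange (fun i => Nat.beq (actR79 i) i) 20664 252 = true := by decide +kernel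
theorem c_act79_83 : allRange (fun i => Nat.beq (actR79 i) i) 20916 252 = true := by decide +kernel
theorem c_act79_84 : allRange (fun i => Nat.beq (actR79 i) i) 21168 252 = true := by decide +kernel
theorem c_act79_85 : allRange (fun i => Nat.beq (actR79 i) i) 21420 252 = true := by decide +kernel

end Cfsg.Agent.Lib.Helper4.TCD.Fi24a
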