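import Cfsg.Agent.Lib.Helper4.TCD_Fi24a_Acc

namespace Cfsg.Agent.Lib.Helper4.TCD.Fi24a

open Cfsg.Agent.Lib.Helper4.TC

set_option maxRecDepth 100000
set_option Elab.async false

theorem c_act79_86 : allRange (fun i => Nat.beq (actR79 i) i) 21672 252 = true := by decide +kernel
theorem c_act79_87 : allRange (fun i => Nat.beq (actR79 i) i) 21924 252 = true := by decide +kernel
theorem c_act79_88 : allRange (fun i => Nat.beq (actR79 i) i) 22176 252 = true := by decide +kernel
theorem c_act79_89 : allRange (fun i => Nat.beq (actR79 i) i) 22428 252 = true := by decide +kernel
theorem c_act79_90 : allRange (fun i => Nat.beq (actR79 i) i) 22680 252 = true := by decide +kernel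
theorem c_act79_91 : allRange (fun i => Nat.beq (actR79 i) i) 22932 252 = true := by decide +kernel
theorem c_act79_92 : allRange (fun i => Nat.beq (actR79 i) i) 23184 252 = true := by decide +kernel
theorem c_act79_93 : allRange (fun i => Nat.beq (actR79 i) i) 23436 252 = true := by decide +kernel
theorem c_act79_94 : allRange (fun i => Nat.beq (actR79 i) i) 23688 252 = true := by decide +kernel
theorem c_act79_95 : allRange (fun i => Nat.beq (actR79 i) i) 23940 252 = true := by decide +kernel
theorem c_act79_96 : allRange (fun i => Nat.beq (actR79 i) i) 24192 252 = true := by decide +kernel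
theorem c_act79_97 : allRange (fun i => Nat.beq (actR79 i) i) 24444 252 = true := by decide +kernel
theorem c_act79_98 : allRange (fun i => Nat.beq (actR79 i) i) 24696 252 = true := by decide +kernel
theorem c_act79_99 : allRange (fun i => Nat.beq (actR79 i) i) 24948 252 = true := by decide +kernel
theorem c_act79_100 : allRange (fun i => Nat.beq (actR79 i) i) 25200 252 = true := by decide +kernel
theorem c_act79_101 : allRange (fun i => Nat.beq (actR79 i) i) 25452 252 = true := by decide +kernel
theorem c_act79_102 : allRange (fun i => Nat.beq (actR79 i) i) 25704 252 = true := by decide +kernel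
theorem c_act79_103 : allRange (fun i => Nat.beq (actR79 i) i) 25956 252 = true := by decide +kernel
theorem c_act79_104 : allRange (fun i => Nat.beq (actR79 i) i) 26208 252 = true := by decide +kernel
theorem c_act79_105 : allRange (fun i => Nat.beq (actR79 i) i) 26460 252 = true := by decide +kernel
theorem c_act79_106 : allRange (fun i => Nat.beq (actR79 i) i) 26712 252 = true := by decide +kernel
theorem c_act79_107 : allRange (fun i => Nat.beq (actR79 i) i) 26964 252 = true := by decide +kernel
theorem c_act79_108 : allRange (fun i => Nat.beq (actR79 i) i) 27216 252 = true := by decide +kernel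
theorem c_act79_109 : allRange (fun i => Nat.beq (actR79 i) i) 27468 252 = true := by decide +kernel
theorem c_act79_110 : allRange (fun i => Nat.beq (actR79 i) i) 27720 252 = true := by decide +kernel
theorem c_act79_111 : allRange (fun i => Nat.beq (actR79 i) i) 27972 252 = true := by decide +kernel
theorem c_act79_112 : allRange (fun i => Nat.beq (actR79 i) i) 28224 252 = true := by decide +kernel
theorem c_act79_113 : allRange (fun i => Nat.beq (actR79 i) i) 28476 252 = true := by decide +kernel
theorem c_act79_114 : allRange (fun i => Nat.beq (actR79 i) i) 28728 252 = true := by decide +kernel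
theorem c_act79_115 : allRange (fun i => Nat.beq (actR79 i) i) 28980 252 = true := by decide +kernel
theorem c_act79_116 : allRange (fun i => Nat.beq (actR79 i) i) 29232 252 = true := by decide +kernel
theorem c_act79_117 : allRange (fun i => Nat.beq (actR79 i) i) 29484 252 = true := by decide +kernel
theorem c_act79_118 : allRange (fun i => Nat.beq (actR79 i) i) 29736 252 = true := by decide +kernel
theorem c_act79_119 : allRange (fun i => Nat.beq (actR79 i) i) 29988 252 = true := by decide +kernel
theorem c_act79_120 : allRange (fun i => Nat.beq (actR79 i) i) 30240 252 = true := by decide +kernel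
theorem c_act79_121 : allRange (fun i => Nat.beq (actR79 i) i) 30492 252 = true := by decide +kernel
theorem c_act79_122 : allRange (fun i => Nat.beq (actR79 i) i) 30744 252 = true := by decide +kernel
theorem c_act79_123 : allRange (fun i => Nat.beq (actR79 i) i) 30996 252 = true := by decide +kernel
theorem c_act79_124 : allRange (fun i => Nat.beq (actR79 i) i) 31248 252 = true := by decide +kernel
theorem c_act79_125 : allRange (fun i => Nat.beq (actR79 i) i) 31500 252 = true := by decide +kernel
theorem c_act79_126 : allRange (fun i => Nat.beq (actR79 i) i) 31752 252 = true := by decide +kernel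
theorem c_act79_127 : allRange (fun i => Nat.beq (actR79 i) i) 32004 252 = true := by decide +kernel
theorem c_act79_128 : allRange (fun i => Nat.beq (actR79 i) i) 32256 252 = true := by decide +kernel
theorem c_act79_129 : allRange (fun i => Nat.beq (actR79 i) i) 32508 252 = true := by decide +kernel
theorem c_act79_130 : allRange (fun i => Nat.beq (actR79 i) i) 32760 252 = true := by decide +kernel
theorem c_act79_131 : allRange (fun i => Nat.beq (actR79 i) i) 33012 252 = true := by decide +kernel
theorem c_act79_132 : allRange (fun i => Nat.beq (actR79 i) i) 33264 252 = true := by decide +kernel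
theorem c_act79_133 : allRange (fun i => Nat.beq (actR79 i) i) 33516 252 = true := by decide +kernel
theorem c_act79_134 : allRange (fun i => Nat.beq (actR79 i) i) 33768 252 = true := by decide +kernel
theorem c_act79_135 : allRange (fun i => Nat.beq (actR79 i) i) 34020 252 = true := by decide +kernel

end Cfsg.Agent.Lib.Helper4.TCD.Fi24a
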