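import Cfsg.Agent.Lib.Helper4.TCD_Fi24a_Acc

namespace Cfsg.Agent.Lib.Helper4.TCD.Fi24a

open Cfsg.Agent.Lib.Helper4.TC

set_option maxRecDepth 100000
set_option Elab.async false

theorem c_act79_186 : allRange (fun i => Nat.beq (actR79 i) i) 46872 252 = true := by decide +kernel
theorem c_act79_187 : allRange (fun i => Nat.beq (actR79 i) i) 47124 252 = true := by decide +kernel
theorem c_act79_188 : allRange (fun i => Nat.beq (actR79 i) i) 47376 252 = true := by decide +kernel
theorem c_act79_189 : allRange (fun i => Nat.beq (actR79 i) i) 47628 252 = true := by decide +kernel
theorem c_act79_190 : allRange (fun i => Nat.beq (actR79 i) i) 47880 252 = true := by decide +kernel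
theorem c_act79_191 : allRange (fun i => Nat.beq (actR79 i) i) 48132 252 = true := by decide +kernel
theorem c_act79_192 : allRange (fun i => Nat.beq (actR79 i) i) 48384 252 = true := by decide +kernel
theorem c_act79_193 : allRange (fun i => Nat.beq (actR79 i) i) 48636 252 = true := by decide +kernel
theorem c_act79_194 : allRange (fun i => Nat.beq (actR79 i) i) 48888 252 = true := by decide +kernel
theorem c_act79_195 : allRange (fun i => Nat.beq (actR79 i) i) 49140 252 = true := by decide +kernel
theorem c_act79_196 : allRange (fun i => Nat.beq (actR79 i) i) 49392 252 = true := by decide +kernel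
theorem c_act79_197 : allRange (fun i => Nat.beq (actR79 i) i) 49644 252 = true := by decide +kernel
theorem c_act79_198 : allRange (fun i => Nat.beq (actR79 i) i) 49896 252 = true := by decide +kernel
theorem c_act79_199 : allRange (fun i => Nat.beq (actR79 i) i) 50148 252 = true := by decide +kernel
theorem c_act79_200 : allRange (fun i => Nat.beq (actR79 i) i) 50400 252 = true := by decide +kernel
theorem c_act79_201 : allRange (fun i => Nat.beq (actR79 i) i) 50652 252 = true := by decide +kernel
theorem c_act79_202 : allRange (fun i => Nat.beq (actR79 i) i) 50904 252 = true := by decide +kernel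
theorem c_act79_203 : allRange (fun i => Nat.beq (actR79 i) i) 51156 252 = true := by decide +kernel
theorem c_act79_204 : allRange (fun i => Nat.beq (actR79 i) i) 51408 252 = true := by decide +kernel
theorem c_act79_205 : allRange (fun i => Nat.beq (actR79 i) i) 51660 252 = true := by decide +kernel
theorem c_act79_206 : allRange (fun i => Nat.beq (actR79 i) i) 51912 252 = true := by decide +kernel
theorem c_act79_207 : allRange (fun i => Nat.beq (actR79 i) i) 52164 252 = true := by decide +kernel
theorem c_act79_208 : allRange (fun i => Nat.beq (actR79 i) i) 52416 252 = true := by decide +kernel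
theorem c_act79_209 : allRange (fun i => Nat.beq (actR79 i) i) 52668 252 = true := by decide +kernel
theorem c_act79_210 : allRange (fun i => Nat.beq (actR79 i) i) 52920 252 = true := by decide +kernel
theorem c_act79_211 : allRange (fun i => Nat.beq (actR79 i) i) 53172 252 = true := by decide +kernel
theorem c_act79_212 : allRange (fun i => Nat.beq (actR79 i) i) 53424 252 = true := by decide +kernel
theorem c_act79_213 : allRange (fun i => Nat.beq (actR79 i) i) 53676 252 = true := by decide +kernel
theorem c_act79_214 : allRange (fun i => Nat.beq (actR79 i) i) 53928 252 = true := by decide +kernel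
theorem c_act79_215 : allRange (fun i => Nat.beq (actR79 i) i) 54180 252 = true := by decide +kernel
theorem c_act79_216 : allRange (fun i => Nat.beq (actR79 i) i) 54432 252 = true := by decide +kernel
theorem c_act79_217 : allRange (fun i => Nat.beq (actR79 i) i) 54684 252 = true := by decide +kernel
theorem c_act79_218 : allRange (fun i => Nat.beq (actR79 i) i) 54936 252 = true := by decide +kernel
theorem c_act79_219 : allRange (fun i => Nat.beq (actR79 i) i) 55188 252 = true := by decide +kernel
theorem c_act79_220 : allRange (fun i => Nat.beq (actR79 i) i) 55440 252 = true := by decide +kernel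
theorem c_act79_221 : allRange (fun i => Nat.beq (actR79 i) i) 55692 252 = true := by decide +kernel
theorem c_act79_222 : allRange (fun i => Nat.beq (actR79 i) i) 55944 252 = true := by decide +kernel
theorem c_act79_223 : allRange (fun i => Nat.beq (actR79 i) i) 56196 252 = true := by decide +kernel
theorem c_act79_224 : allRange (fun i => Nat.beq (actR79 i) i) 56448 252 = true := by decide +kernel
theorem c_act79_225 : allRange (fun i => Nat.beq (actR79 i) i) 56700 252 = true := by decide +kernel
theorem c_act79_226 : allRange (fun i => Nat.beq (actR79 i) i) 56952 252 = true := by decide +kernel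
theorem c_act79_227 : allRange (fun i => Nat.beq (actR79 i) i) 57204 252 = true := by decide +kernel
theorem c_act79_228 : allRange (fun i => Nat.beq (actR79 i) i) 57456 252 = true := by decide +kernel
theorem c_act79_229 : allRange (fun i => Nat.beq (actR79 i) i) 57708 252 = true := by decide +kernel
theorem c_act79_230 : allRange (fun i => Nat.beq (actR79 i) i) 57960 252 = true := by decide +kernel
theorem c_act79_231 : allRange (fun i => Nat.beq (actR79 i) i) 58212 252 = true := by decide +kernel
theorem c_act79_232 : allRange (fun i => Nat.beq (actR79 i) i) 58464 252 = true := by decide +kernel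
theorem c_act79_233 : allRange (fun i => Nat.beq (actR79 i) i) 58716 252 = true := by decide +kernel
theorem c_act79_234 : allRange (fun i => Nat.beq (actR79 i) i) 58968 252 = true := by decide +kernel
theorem c_act79_235 : allRange (fun i => Nat.beq (actR79 i) i) 59220 252 = true := by decide +kernel

end Cfsg.Agent.Lib.Helper4.TCD.Fi24a
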