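import Cfsg.Agent.Lib.Helper4.TCD_Fi24a_Acc

namespace Cfsg.Agent.Lib.Helper4.TCD.Fi24a

open Cfsg.Agent.Lib.Helper4.TC

set_option maxRecDepth 100000
set_option Elab.async false

theorem c_act79_236 : allRange (fun i => Nat.beq (actR79 i) i) 59472 252 = true := by decide +kernel
theorem c_act79_237 : allRange (fun i => Nat.beq (actR79 i) i) 59724 252 = true := by decide +kernel
theorem c_act79_238 : allRange (fun i => Nat.beq (actR79 i) i) 59976 252 = true := by decide +kernel
theorem c_act79_239 : allRange (fun i => Nat.beq (actR79 i) i) 60228 252 = true := by decide +kernel
theorem c_act79_240 : allRange (fun i => Nat.beq (actR79 i) i) 60480 252 = true := by decide +kernel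
theorem c_act79_241 : allRange (fun i => Nat.beq (actR79 i) i) 60732 252 = true := by decide +kernel
theorem c_act79_242 : allRange (fun i => Nat.beq (actR79 i) i) 60984 252 = true := by decide +kernel
theorem c_act79_243 : allRange (fun i => Nat.beq (actR79 i) i) 61236 252 = true := by decide +kernel
theorem c_act79_244 : allRange (fun i => Nat.beq (actR79 i) i) 61488 252 = true := by decide +kernel
theorem c_act79_245 : allRange (fun i => Nat.beq (actR79 i) i) 61740 252 = true := by decide +kernel
theorem c_act79_246 : allRange (fun i => Nat.beq (actR79 i) i) 61992 252 = true := by decide +kernel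
theorem c_act79_247 : allRange (fun i => Nat.beq (actR79 i) i) 62244 252 = true := by decide +kernel
theorem c_act79_248 : allRange (fun i => Nat.beq (actR79 i) i) 62496 252 = true := by decide +kernel
theorem c_act79_249 : allRange (fun i => Nat.beq (actR79 i) i) 62748 252 = true := by decide +kernel
theorem c_act79_250 : allRange (fun i => Nat.beq (actR79 i) i) 63000 252 = true := by decide +kernel
theorem c_act79_251 : allRange (fun i => Nat.beq (actR79 i) i) 63252 252 = true := by decide +kernel
theorem c_act79_252 : allRange (fun i => Nat.beq (actR79 i) i) 63504 252 = true := by decide +kernel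
theorem c_act79_253 : allRange (fun i => Nat.beq (actR79 i) i) 63756 252 = true := by decide +kernel
theorem c_act79_254 : allRange (fun i => Nat.beq (actR79 i) i) 64008 252 = true := by decide +kernel
theorem c_act79_255 : allRange (fun i => Nat.beq (actR79 i) i) 64260 252 = true := by decide +kernel
theorem c_act79_256 : allRange (fun i => Nat.beq (actR79 i) i) 64512 252 = true := by decide +kernel
theorem c_act79_257 : allRange (fun i => Nat.beq (actR79 i) i) 64764 252 = true := by decide +kernel
theorem c_act79_258 : allRange (fun i => Nat.beq (actR79 i) i) 65016 252 = true := by decide +kernel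
theorem c_act79_259 : allRange (fun i => Nat.beq (actR79 i) i) 65268 252 = true := by decide +kernel
theorem c_act79_260 : allRange (fun i => Nat.beq (actR79 i) i) 65520 252 = true := by decide +kernel
theorem c_act79_261 : allRange (fun i => Nat.beq (actR79 i) i) 65772 252 = true := by decide +kernel
theorem c_act79_262 : allRange (fun i => Nat.beq (actR79 i) i) 66024 252 = true := by decide +kernel
theorem c_act79_263 : allRange (fun i => Nat.beq (actR79 i) i) 66276 252 = true := by decide +kernel
theorem c_act79_264 : allRange (fun i => Nat.beq (actR79 i) i) 66528 252 = true := by decide +kernel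
theorem c_act79_265 : allRange (fun i => Nat.beq (actR79 i) i) 66780 252 = true := by decide +kernel
theorem c_act79_266 : allRange (fun i => Nat.beq (actR79 i) i) 67032 252 = true := by decide +kernel
theorem c_act79_267 : allRange (fun i => Nat.beq (actR79 i) i) 67284 252 = true := by decide +kernel
theorem c_act79_268 : allRange (fun i => Nat.beq (actR79 i) i) 67536 252 = true := by decide +kernel
theorem c_act79_269 : allRange (fun i => Nat.beq (actR79 i) i) 67788 252 = true := by decide +kernel
theorem c_act79_270 : allRange (fun i => Nat.beq (actR79 i) i) 68040 252 = true := by decide +kernel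
theorem c_act79_271 : allRange (fun i => Nat.beq (actR79 i) i) 68292 252 = true := by decide +kernel
theorem c_act79_272 : allRange (fun i => Nat.beq (actR79 i) i) 68544 252 = true := by decide +kernel
theorem c_act79_273 : allRange (fun i => Nat.beq (actR79 i) i) 68796 252 = true := by decide +kernel
theorem c_act79_274 : allRange (fun i => Nat.beq (actR79 i) i) 69048 252 = true := by decide +kernel
theorem c_act79_275 : allRange (fun i => Nat.beq (actR79 i) i) 69300 252 = true := by decide +kernel
theorem c_act79_276 : allRange (fun i => Nat.beq (actR79 i) i) 69552 252 = true := by decide +kernel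
theorem c_act79_277 : allRange (fun i => Nat.beq (actR79 i) i) 69804 252 = true := by decide +kernel
theorem c_act79_278 : allRange (fun i => Nat.beq (actR79 i) i) 70056 252 = true := by decide +kernel
theorem c_act79_279 : allRange (fun i => Nat.beq (actR79 i) i) 70308 252 = true := by decide +kernel
theorem c_act79_280 : allRange (fun i => Nat.beq (actR79 i) i) 70560 252 = true := by decide +kernel
theorem c_act79_281 : allRange (fun i => Nat.beq (actR79 i) i) 70812 252 = true := by decide +kernel
theorem c_act79_282 : allRange (fun i => Nat.beq (actR79 i) i) 71064 252 = true := by decide +kernel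
theorem c_act79_283 : allRange (fun i => Nat.beq (actR79 i) i) 71316 252 = true := by decide +kernel
theorem c_act79_284 : allRange (fun i => Nat.beq (actR79 i) i) 71568 252 = true := by decide +kernel
theorem c_act79_285 : allRange (fun i => Nat.beq (actR79 i) i) 71820 252 = true := by decide +kernel

end Cfsg.Agent.Lib.Helper4.TCD.Fi24a
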