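import Cfsg.Agent.Lib.Helper4.TCD_Fi24a_Acc

namespace Cfsg.Agent.Lib.Helper4.TCD.Fi24a

open Cfsg.Agent.Lib.Helper4.TC

set_option maxRecDepth 100000
set_option Elab.async false

theorem c_act79_286 : allRange (fun i => Nat.beq (actR79 i) i) 72072 252 = true := by decide +kernel
theorem c_act79_287 : allRange (fun i => Nat.beq (actR79 i) i) 72324 252 = true := by decide +kernel
theorem c_act79_288 : allRange (fun i => Nat.beq (actR79 i) i) 72576 252 = true := by decide +kernel
theorem c_act79_289 : allRange (fun i => Nat.beq (actR79 i) i) 72828 252 = true := by decide +kernel
theorem c_act79_290 : allRange (fun i => Nat.beq (actR79 i) i) 73080 252 = true := by decide +kernel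
theorem c_act79_291 : allRange (fun i => Nat.beq (actR79 i) i) 73332 252 = true := by decide +kernel
theorem c_act79_292 : allRange (fun i => Nat.beq (actR79 i) i) 73584 252 = true := by decide +kernel
theorem c_act79_293 : allRange (fun i => Nat.beq (actR79 i) i) 73836 252 = true := by decide +kernel
theorem c_act79_294 : allRange (fun i => Nat.beq (actR79 i) i) 74088 252 = true := by decide +kernel
theorem c_act79_295 : allRange (fun i => Nat.beq (actR79 i) i) 74340 252 = true := by decide +kernel
theorem c_act79_296 : allRange (fun i => Nat.beq (actR79 i) i) 74592 252 = true := by decide +kernel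
theorem c_act79_297 : allRange (fun i => Nat.beq (actR79 i) i) 74844 252 = true := by decide +kernel
theorem c_act79_298 : allRange (fun i => Nat.beq (actR79 i) i) 75096 252 = true := by decide +kernel
theorem c_act79_299 : allRange (fun i => Nat.beq (actR79 i) i) 75348 252 = true := by decide +kernel
theorem c_act79_300 : allRange (fun i => Nat.beq (actR79 i) i) 75600 252 = true := by decide +kernel
theorem c_act79_301 : allRange (fun i => Nat.beq (actR79 i) i) 75852 252 = true := by decide +kernel
theorem c_act79_302 : allRange (fun i => Nat.beq (actR79 i) i) 76104 252 = true := by decide +kernel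
theorem c_act79_303 : allRange (fun i => Nat.beq (actR79 i) i) 76356 252 = true := by decide +kernel
theorem c_act79_304 : allRange (fun i => Nat.beq (actR79 i) i) 76608 252 = true := by decide +kernel
theorem c_act79_305 : allRange (fun i => Nat.beq (actR79 i) i) 76860 252 = true := by decide +kernel
theorem c_act79_306 : allRange (fun i => Nat.beq (actR79 i) i) 77112 252 = true := by decide +kernel
theorem c_act79_307 : allRange (fun i => Nat.beq (actR79 i) i) 77364 252 = true := by decide +kernel
theorem c_act79_308 : allRange (fun i => Nat.beq (actR79 i) i) 77616 252 = true := by decide +kernel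
theorem c_act79_309 : allRange (fun i => Nat.beq (actR79 i) i) 77868 252 = true := by decide +kernel
theorem c_act79_310 : allRange (fun i => Nat.beq (actR79 i) i) 78120 252 = true := by decide +kernel
theorem c_act79_311 : allRange (fun i => Nat.beq (actR79 i) i) 78372 252 = true := by decide +kernel
theorem c_act79_312 : allRange (fun i => Nat.beq (actR79 i) i) 78624 252 = true := by decide +kernel
theorem c_act79_313 : allRange (fun i => Nat.beq (actR79 i) i) 78876 252 = true := by decide +kernel
theorem c_act79_314 : allRange (fun i => Nat.beq (actR79 i) i) 79128 252 = true := by decide +kernel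
theorem c_act79_315 : allRange (fun i => Nat.beq (actR79 i) i) 79380 252 = true := by decide +kernel
theorem c_act79_316 : allRange (fun i => Nat.beq (actR79 i) i) 79632 252 = true := by decide +kernel
theorem c_act79_317 : allRange (fun i => Nat.beq (actR79 i) i) 79884 252 = true := by decide +kernel
theorem c_act79_318 : allRange (fun i => Nat.beq (actR79 i) i) 80136 252 = true := by decide +kernel
theorem c_act79_319 : allRange (fun i => Nat.beq (actR79 i) i) 80388 252 = true := by decide +kernel
theorem c_act79_320 : allRange (fun i => Nat.beq (actR79 i) i) 80640 252 = true := by decide +kernel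
theorem c_act79_321 : allRange (fun i => Nat.beq (actR79 i) i) 80892 252 = true := by decide +kernel
theorem c_act79_322 : allRange (fun i => Nat.beq (actR79 i) i) 81144 252 = true := by decide +kernel
theorem c_act79_323 : allRange (fun i => Nat.beq (actR79 i) i) 81396 252 = true := by decide +kernel
theorem c_act79_324 : allRange (fun i => Nat.beq (actR79 i) i) 81648 252 = true := by decide +kernel
theorem c_act79_325 : allRange (fun i => Nat.beq (actR79 i) i) 81900 252 = true := by decide +kernel
theorem c_act79_326 : allRange (fun i => Nat.beq (actR79 i) i) 82152 252 = true := by decide +kernel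
theorem c_act79_327 : allRange (fun i => Nat.beq (actR79 i) i) 82404 252 = true := by decide +kernel
theorem c_act79_328 : allRange (fun i => Nat.beq (actR79 i) i) 82656 252 = true := by decide +kernel
theorem c_act79_329 : allRange (fun i => Nat.beq (actR79 i) i) 82908 252 = true := by decide +kernel
theorem c_act79_330 : allRange (fun i => Nat.beq (actR79 i) i) 83160 252 = true := by decide +kernel
theorem c_act79_331 : allRange (fun i => Nat.beq (actR79 i) i) 83412 252 = true := by decide +kernel
theorem c_act79_332 : allRange (fun i => Nat.beq (actR79 i) i) 83664 252 = true := by decide +kernel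
theorem c_act79_333 : allRange (fun i => Nat.beq (actR79 i) i) 83916 252 = true := by decide +kernel
theorem c_act79_334 : allRange (fun i => Nat.beq (actR79 i) i) 84168 252 = true := by decide +kernel
theorem c_act79_335 : allRange (fun i => Nat.beq (actR79 i) i) 84420 252 = true := by decide +kernel

end Cfsg.Agent.Lib.Helper4.TCD.Fi24a
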