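import Cfsg.Agent.Lib.Helper4.TCD_Fi24a_Acc

namespace Cfsg.Agent.Lib.Helper4.TCD.Fi24a

open Cfsg.Agent.Lib.Helper4.TC

set_option maxRecDepth 100000
set_option Elab.async false

theorem c_rel_516 : allRange D.relOK 2155653 4947 = true := by decide +kernel
theorem c_rel_517 : allRange D.relOK 2160600 4936 = true := by decide +kernel
theorem c_rel_518 : allRange D.relOK 2165536 4927 = true := by decide +kernel
theorem c_rel_519 : allRange D.relOK 2170463 4943 = true := by decide +kernel
theorem c_rel_520 : allRange D.relOK 2175406 4938 = true := by decide +kernel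
theorem c_rel_521 : allRange D.relOK 2180344 4944 = true := by decide +kernel
theorem c_rel_522 : allRange D.relOK 2185288 4949 = true := by decide +kernel
theorem c_rel_523 : allRange D.relOK 2190237 4912 = true := by decide +kernel
theorem c_rel_524 : allRange D.relOK 2195149 4899 = true := by decide +kernel
theorem c_rel_525 : allRange D.relOK 2200048 4092 = true := by decide +kernel
theorem c_fin_0 : allGrid (T.finOK D) 0 1000 12 = true := by decide +kernel
theorem c_fin_1 : allGrid (T.finOK D) 1000 1000 12 = true := by decide +kernel
theorem c_fin_2 : allGrid (T.finOK D) 2000 1000 12 = true := by decide +kernel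
theorem c_fin_3 : allGrid (T.finOK D) 3000 1000 12 = true := by decide +kernel
theorem c_fin_4 : allGrid (T.finOK D) 4000 1000 12 = true := by decide +kernel
theorem c_fin_5 : allGrid (T.finOK D) 5000 1000 12 = true := by decide +kernel
theorem c_fin_6 : allGrid (T.finOK D) 6000 1000 12 = true := by decide +kernel
theorem c_fin_7 : allGrid (T.finOK D) 7000 1000 12 = true := by decide +kernel
theorem c_fin_8 : allGrid (T.finOK D) 8000 1000 12 = true := by decide +kernel
theorem c_fin_9 : allGrid (T.finOK D) 9000 1000 12 = true := by decide +kernel
theorem c_fin_10 : allGrid (T.finOK D) 10000 1000 12 = true := by decide +kernel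
theorem c_fin_11 : allGrid (T.finOK D) 11000 1000 12 = true := by decide +kernel
theorem c_fin_12 : allGrid (T.finOK D) 12000 1000 12 = true := by decide +kernel
theorem c_fin_13 : allGrid (T.finOK D) 13000 1000 12 = true := by decide +kernel
theorem c_fin_14 : allGrid (T.finOK D) 14000 1000 12 = true := by decide +kernel
theorem c_fin_15 : allGrid (T.finOK D) 15000 1000 12 = true := by decide +kernel
theorem c_fin_16 : allGrid (T.finOK D) 16000 1000 12 = true := by decide +kernel
theorem c_fin_17 : allGrid (T.finOK D) 17000 1000 12 = true := by decide +kernel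
theorem c_fin_18 : allGrid (T.finOK D) 18000 1000 12 = true := by decide +kernel
theorem c_fin_19 : allGrid (T.finOK D) 19000 1000 12 = true := by decide +kernel
theorem c_fin_20 : allGrid (T.finOK D) 20000 1000 12 = true := by decide +kernel
theorem c_fin_21 : allGrid (T.finOK D) 21000 1000 12 = true := by decide +kernel
theorem c_fin_22 : allGrid (T.finOK D) 22000 1000 12 = true := by decide +kernel
theorem c_fin_23 : allGrid (T.finOK D) 23000 1000 12 = true := by decide +kernel
theorem c_fin_24 : allGrid (T.finOK D) 24000 1000 12 = true := by decide +kernel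
theorem c_fin_25 : allGrid (T.finOK D) 25000 1000 12 = true := by decide +kernel
theorem c_fin_26 : allGrid (T.finOK D) 26000 1000 12 = true := by decide +kernel
theorem c_fin_27 : allGrid (T.finOK D) 27000 1000 12 = true := by decide +kernel
theorem c_fin_28 : allGrid (T.finOK D) 28000 1000 12 = true := by decide +kernel
theorem c_fin_29 : allGrid (T.finOK D) 29000 1000 12 = true := by decide +kernel
theorem c_fin_30 : allGrid (T.finOK D) 30000 1000 12 = true := by decide +kernel
theorem c_fin_31 : allGrid (T.finOK D) 31000 1000 12 = true := by decide +kernel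
theorem c_fin_32 : allGrid (T.finOK D) 32000 1000 12 = true := by decide +kernel
theorem c_fin_33 : allGrid (T.finOK D) 33000 1000 12 = true := by decide +kernel
theorem c_fin_34 : allGrid (T.finOK D) 34000 1000 12 = true := by decide +kernel
theorem c_fin_35 : allGrid (T.finOK D) 35000 1000 12 = true := by decide +kernel
theorem c_fin_36 : allGrid (T.finOK D) 36000 1000 12 = true := by decide +kernel
theorem c_fin_37 : allGrid (T.finOK D) 37000 1000 12 = true := by decide +kernel
theorem c_fin_38 : allGrid (T.finOK D) 38000 1000 12 = true := by decide +kernel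
theorem c_fin_39 : allGrid (T.finOK D) 39000 1000 12 = true := by decide +kernel
theorem c_fin_40 : allGrid (T.finOK D) 40000 1000 12 = true := by decide +kernel
theorem c_fin_41 : allGrid (T.finOK D) 41000 1000 12 = true := by decide +kernel
theorem c_fin_42 : allGrid (T.finOK D) 42000 1000 12 = true := by decide +kernel
theorem c_fin_43 : allGrid (T.finOK D) 43000 1000 12 = true := by decide +kernel
theorem c_fin_44 : allGrid (T.finOK D) 44000 1000 12 = true := by decide +kernel

end Cfsg.Agent.Lib.Helper4.TCD.Fi24a
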