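import Cfsg.Agent.Lib.Helper4.TCD_Fi24a_Acc

namespace Cfsg.Agent.Lib.Helper4.TCD.Fi24a

open Cfsg.Agent.Lib.Helper4.TC

set_option maxRecDepth 100000
set_option Elab.async false

theorem c_act79_336 : allRange (fun i => Nat.beq (actR79 i) i) 84672 252 = true := by decide +kernel
theorem c_act79_337 : allRange (fun i => Nat.beq (actR79 i) i) 84924 252 = true := by decide +kernel
theorem c_act79_338 : allRange (fun i => Nat.beq (actR79 i) i) 85176 252 = true := by decide +kernel
theorem c_act79_339 : allRange (fun i => Nat.beq (actR79 i) i) 85428 252 = true := by decide +kernel
theorem c_act79_340 : allRange (fun i => Nat.beq (actR79 i) i) 85680 252 = true := by decide +kernel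
theorem c_act79_341 : allRange (fun i => Nat.beq (actR79 i) i) 85932 252 = true := by decide +kernel
theorem c_act79_342 : allRange (fun i => Nat.beq (actR79 i) i) 86184 252 = true := by decide +kernel
theorem c_act79_343 : allRange (fun i => Nat.beq (actR79 i) i) 86436 252 = true := by decide +kernel
theorem c_act79_344 : allRange (fun i => Nat.beq (actR79 i) i) 86688 252 = true := by decide +kernel
theorem c_act79_345 : allRange (fun i => Nat.beq (actR79 i) i) 86940 252 = true := by decide +kernel
theorem c_act79_346 : allRange (fun i => Nat.beq (actR79 i) i) 87192 252 = true := by decide +kernel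
theorem c_act79_347 : allRange (fun i => Nat.beq (actR79 i) i) 87444 252 = true := by decide +kernel
theorem c_act79_348 : allRange (fun i => Nat.beq (actR79 i) i) 87696 252 = true := by decide +kernel
theorem c_act79_349 : allRange (fun i => Nat.beq (actR79 i) i) 87948 252 = true := by decide +kernel
theorem c_act79_350 : allRange (fun i => Nat.beq (actR79 i) i) 88200 252 = true := by decide +kernel
theorem c_act79_351 : allRange (fun i => Nat.beq (actR79 i) i) 88452 252 = true := by decide +kernel
theorem c_act79_352 : allRange (fun i => Nat.beq (actR79 i) i) 88704 252 = true := by decide +kernel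
theorem c_act79_353 : allRange (fun i => Nat.beq (actR79 i) i) 88956 252 = true := by decide +kernel
theorem c_act79_354 : allRange (fun i => Nat.beq (actR79 i) i) 89208 252 = true := by decide +kernel
theorem c_act79_355 : allRange (fun i => Nat.beq (actR79 i) i) 89460 252 = true := by decide +kernel
theorem c_act79_356 : allRange (fun i => Nat.beq (actR79 i) i) 89712 252 = true := by decide +kernel
theorem c_act79_357 : allRange (fun i => Nat.beq (actR79 i) i) 89964 252 = true := by decide +kernel
theorem c_act79_358 : allRange (fun i => Nat.beq (actR79 i) i) 90216 252 = true := by decide +kernel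
theorem c_act79_359 : allRange (fun i => Nat.beq (actR79 i) i) 90468 252 = true := by decide +kernel
theorem c_act79_360 : allRange (fun i => Nat.beq (actR79 i) i) 90720 252 = true := by decide +kernel
theorem c_act79_361 : allRange (fun i => Nat.beq (actR79 i) i) 90972 252 = true := by decide +kernel
theorem c_act79_362 : allRange (fun i => Nat.beq (actR79 i) i) 91224 252 = true := by decide +kernel
theorem c_act79_363 : allRange (fun i => Nat.beq (actR79 i) i) 91476 252 = true := by decide +kernel
theorem c_act79_364 : allRange (fun i => Nat.beq (actR79 i) i) 91728 252 = true := by decide +kernel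
theorem c_act79_365 : allRange (fun i => Nat.beq (actR79 i) i) 91980 252 = true := by decide +kernel
theorem c_act79_366 : allRange (fun i => Nat.beq (actR79 i) i) 92232 252 = true := by decide +kernel
theorem c_act79_367 : allRange (fun i => Nat.beq (actR79 i) i) 92484 252 = true := by decide +kernel
theorem c_act79_368 : allRange (fun i => Nat.beq (actR79 i) i) 92736 252 = true := by decide +kernel
theorem c_act79_369 : allRange (fun i => Nat.beq (actR79 i) i) 92988 252 = true := by decide +kernel
theorem c_act79_370 : allRange (fun i => Nat.beq (actR79 i) i) 93240 252 = true := by decide +kernel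
theorem c_act79_371 : allRange (fun i => Nat.beq (actR79 i) i) 93492 252 = true := by decide +kernel
theorem c_act79_372 : allRange (fun i => Nat.beq (actR79 i) i) 93744 252 = true := by decide +kernel
theorem c_act79_373 : allRange (fun i => Nat.beq (actR79 i) i) 93996 252 = true := by decide +kernel
theorem c_act79_374 : allRange (fun i => Nat.beq (actR79 i) i) 94248 252 = true := by decide +kernel
theorem c_act79_375 : allRange (fun i => Nat.beq (actR79 i) i) 94500 252 = true := by decide +kernel
theorem c_act79_376 : allRange (fun i => Nat.beq (actR79 i) i) 94752 252 = true := by decide +kernel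
theorem c_act79_377 : allRange (fun i => Nat.beq (actR79 i) i) 95004 252 = true := by decide +kernel
theorem c_act79_378 : allRange (fun i => Nat.beq (actR79 i) i) 95256 252 = true := by decide +kernel
theorem c_act79_379 : allRange (fun i => Nat.beq (actR79 i) i) 95508 252 = true := by decide +kernel
theorem c_act79_380 : allRange (fun i => Nat.beq (actR79 i) i) 95760 252 = true := by decide +kernel
theorem c_act79_381 : allRange (fun i => Nat.beq (actR79 i) i) 96012 252 = true := by decide +kernel
theorem c_act79_382 : allRange (fun i => Nat.beq (actR79 i) i) 96264 252 = true := by decide +kernel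
theorem c_act79_383 : allRange (fun i => Nat.beq (actR79 i) i) 96516 252 = true := by decide +kernel
theorem c_act79_384 : allRange (fun i => Nat.beq (actR79 i) i) 96768 252 = true := by decide +kernel
theorem c_act79_385 : allRange (fun i => Nat.beq (actR79 i) i) 97020 252 = true := by decide +kernel

end Cfsg.Agent.Lib.Helper4.TCD.Fi24a
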