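import Cfsg.Agent.Lib.Helper4.TCD_Fi24a_Acc

namespace Cfsg.Agent.Lib.Helper4.TCD.Fi24a

open Cfsg.Agent.Lib.Helper4.TC

set_option maxRecDepth 100000
set_option Elab.async false

theorem c_act79_386 : allRange (fun i => Nat.beq (actR79 i) i) 97272 252 = true := by decide +kernel
theorem c_act79_387 : allRange (fun i => Nat.beq (actR79 i) i) 97524 252 = true := by decide +kernel
theorem c_act79_388 : allRange (fun i => Nat.beq (actR79 i) i) 97776 252 = true := by decide +kernel
theorem c_act79_389 : allRange (fun i => Nat.beq (actR79 i) i) 98028 252 = true := by decide +kernel
theorem c_act79_390 : allRange (fun i => Nat.beq (actR79 i) i) 98280 252 = true := by decide +kernel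
theorem c_act79_391 : allRange (fun i => Nat.beq (actR79 i) i) 98532 252 = true := by decide +kernel
theorem c_act79_392 : allRange (fun i => Nat.beq (actR79 i) i) 98784 252 = true := by decide +kernel
theorem c_act79_393 : allRange (fun i => Nat.beq (actR79 i) i) 99036 252 = true := by decide +kernel
theorem c_act79_394 : allRange (fun i => Nat.beq (actR79 i) i) 99288 252 = true := by decide +kernel
theorem c_act79_395 : allRange (fun i => Nat.beq (actR79 i) i) 99540 252 = true := by decide +kernel
theorem c_act79_396 : allRange (fun i => Nat.beq (actR79 i) i) 99792 252 = true := by decide +kernel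
theorem c_act79_397 : allRange (fun i => Nat.beq (actR79 i) i) 100044 252 = true := by decide +kernel
theorem c_act79_398 : allRange (fun i => Nat.beq (actR79 i) i) 100296 252 = true := by decide +kernel
theorem c_act79_399 : allRange (fun i => Nat.beq (actR79 i) i) 100548 252 = true := by decide +kernel
theorem c_act79_400 : allRange (fun i => Nat.beq (actR79 i) i) 100800 252 = true := by decide +kernel
theorem c_act79_401 : allRange (fun i => Nat.beq (actR79 i) i) 101052 252 = true := by decide +kernel
theorem c_act79_402 : allRange (fun i => Nat.beq (actR79 i) i) 101304 252 = true := by decide +kernel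
theorem c_act79_403 : allRange (fun i => Nat.beq (actR79 i) i) 101556 252 = true := by decide +kernel
theorem c_act79_404 : allRange (fun i => Nat.beq (actR79 i) i) 101808 252 = true := by decide +kernel
theorem c_act79_405 : allRange (fun i => Nat.beq (actR79 i) i) 102060 252 = true := by decide +kernel
theorem c_act79_406 : allRange (fun i => Nat.beq (actR79 i) i) 102312 252 = true := by decide +kernel
theorem c_act79_407 : allRange (fun i => Nat.beq (actR79 i) i) 102564 252 = true := by decide +kernel
theorem c_act79_408 : allRange (fun i => Nat.beq (actR79 i) i) 102816 252 = true := by decide +kernel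
theorem c_act79_409 : allRange (fun i => Nat.beq (actR79 i) i) 103068 252 = true := by decide +kernel
theorem c_act79_410 : allRange (fun i => Nat.beq (actR79 i) i) 103320 252 = true := by decide +kernel
theorem c_act79_411 : allRange (fun i => Nat.beq (actR79 i) i) 103572 252 = true := by decide +kernel
theorem c_act79_412 : allRange (fun i => Nat.beq (actR79 i) i) 103824 252 = true := by decide +kernel
theorem c_act79_413 : allRange (fun i => Nat.beq (actR79 i) i) 104076 252 = true := by decide +kernel
theorem c_act79_414 : allRange (fun i => Nat.beq (actR79 i) i) 104328 252 = true := by decide +kernel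
theorem c_act79_415 : allRange (fun i => Nat.beq (actR79 i) i) 104580 252 = true := by decide +kernel
theorem c_act79_416 : allRange (fun i => Nat.beq (actR79 i) i) 104832 252 = true := by decide +kernel
theorem c_act79_417 : allRange (fun i => Nat.beq (actR79 i) i) 105084 252 = true := by decide +kernel
theorem c_act79_418 : allRange (fun i => Nat.beq (actR79 i) i) 105336 252 = true := by decide +kernel
theorem c_act79_419 : allRange (fun i => Nat.beq (actR79 i) i) 105588 252 = true := by decide +kernel
theorem c_act79_420 : allRange (fun i => Nat.beq (actR79 i) i) 105840 252 = true := by decide +kernel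
theorem c_act79_421 : allRange (fun i => Nat.beq (actR79 i) i) 106092 252 = true := by decide +kernel
theorem c_act79_422 : allRange (fun i => Nat.beq (actR79 i) i) 106344 252 = true := by decide +kernel
theorem c_act79_423 : allRange (fun i => Nat.beq (actR79 i) i) 106596 252 = true := by decide +kernel
theorem c_act79_424 : allRange (fun i => Nat.beq (actR79 i) i) 106848 252 = true := by decide +kernel
theorem c_act79_425 : allRange (fun i => Nat.beq (actR79 i) i) 107100 252 = true := by decide +kernel
theorem c_act79_426 : allRange (fun i => Nat.beq (actR79 i) i) 107352 252 = true := by decide +kernel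
theorem c_act79_427 : allRange (fun i => Nat.beq (actR79 i) i) 107604 252 = true := by decide +kernel
theorem c_act79_428 : allRange (fun i => Nat.beq (actR79 i) i) 107856 252 = true := by decide +kernel
theorem c_act79_429 : allRange (fun i => Nat.beq (actR79 i) i) 108108 252 = true := by decide +kernel
theorem c_act79_430 : allRange (fun i => Nat.beq (actR79 i) i) 108360 252 = true := by decide +kernel
theorem c_act79_431 : allRange (fun i => Nat.beq (actR79 i) i) 108612 252 = true := by decide +kernel
theorem c_act79_432 : allRange (fun i => Nat.beq (actR79 i) i) 108864 252 = true := by decide +kernel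
theorem c_act79_433 : allRange (fun i => Nat.beq (actR79 i) i) 109116 252 = true := by decide +kernel
theorem c_act79_434 : allRange (fun i => Nat.beq (actR79 i) i) 109368 252 = true := by decide +kernel
theorem c_act79_435 : allRange (fun i => Nat.beq (actR79 i) i) 109620 252 = true := by decide +kernel

end Cfsg.Agent.Lib.Helper4.TCD.Fi24a
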