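import Cfsg.Agent.Lib.Helper4.TCD_Fi24a_Acc

namespace Cfsg.Agent.Lib.Helper4.TCD.Fi24a

open Cfsg.Agent.Lib.Helper4.TC

set_option maxRecDepth 100000
set_option Elab.async false

theorem c_act79_436 : allRange (fun i => Nat.beq (actR79 i) i) 109872 252 = true := by decide +kernel
theorem c_act79_437 : allRange (fun i => Nat.beq (actR79 i) i) 110124 252 = true := by decide +kernel
theorem c_act79_438 : allRange (fun i => Nat.beq (actR79 i) i) 110376 252 = true := by decide +kernel
theorem c_act79_439 : allRange (fun i => Nat.beq (actR79 i) i) 110628 252 = true := by decide +kernel
theorem c_act79_440 : allRange (fun i => Nat.beq (actR79 i) i) 110880 252 = true := by decide +kernel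
theorem c_act79_441 : allRange (fun i => Nat.beq (actR79 i) i) 111132 252 = true := by decide +kernel
theorem c_act79_442 : allRange (fun i => Nat.beq (actR79 i) i) 111384 252 = true := by decide +kernel
theorem c_act79_443 : allRange (fun i => Nat.beq (actR79 i) i) 111636 252 = true := by decide +kernel
theorem c_act79_444 : allRange (fun i => Nat.beq (actR79 i) i) 111888 252 = true := by decide +kernel
theorem c_act79_445 : allRange (fun i => Nat.beq (actR79 i) i) 112140 252 = true := by decide +kernel
theorem c_act79_446 : allRange (fun i => Nat.beq (actR79 i) i) 112392 252 = true := by decide +kernel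
theorem c_act79_447 : allRange (fun i => Nat.beq (actR79 i) i) 112644 252 = true := by decide +kernel
theorem c_act79_448 : allRange (fun i => Nat.beq (actR79 i) i) 112896 252 = true := by decide +kernel
theorem c_act79_449 : allRange (fun i => Nat.beq (actR79 i) i) 113148 252 = true := by decide +kernel
theorem c_act79_450 : allRange (fun i => Nat.beq (actR79 i) i) 113400 252 = true := by decide +kernel
theorem c_act79_451 : allRange (fun i => Nat.beq (actR79 i) i) 113652 252 = true := by decide +kernel
theorem c_act79_452 : allRange (fun i => Nat.beq (actR79 i) i) 113904 252 = true := by decide +kernel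
theorem c_act79_453 : allRange (fun i => Nat.beq (actR79 i) i) 114156 252 = true := by decide +kernel
theorem c_act79_454 : allRange (fun i => Nat.beq (actR79 i) i) 114408 252 = true := by decide +kernel
theorem c_act79_455 : allRange (fun i => Nat.beq (actR79 i) i) 114660 252 = true := by decide +kernel
theorem c_act79_456 : allRange (fun i => Nat.beq (actR79 i) i) 114912 252 = true := by decide +kernel
theorem c_act79_457 : allRange (fun i => Nat.beq (actR79 i) i) 115164 252 = true := by decide +kernel
theorem c_act79_458 : allRange (fun i => Nat.beq (actR79 i) i) 115416 252 = true := by decide +kernel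
theorem c_act79_459 : allRange (fun i => Nat.beq (actR79 i) i) 115668 252 = true := by decide +kernel
theorem c_act79_460 : allRange (fun i => Nat.beq (actR79 i) i) 115920 252 = true := by decide +kernel
theorem c_act79_461 : allRange (fun i => Nat.beq (actR79 i) i) 116172 252 = true := by decide +kernel
theorem c_act79_462 : allRange (fun i => Nat.beq (actR79 i) i) 116424 252 = true := by decide +kernel
theorem c_act79_463 : allRange (fun i => Nat.beq (actR79 i) i) 116676 252 = true := by decide +kernel
theorem c_act79_464 : allRange (fun i => Nat.beq (actR79 i) i) 116928 252 = true := by decide +kernel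
theorem c_act79_465 : allRange (fun i => Nat.beq (actR79 i) i) 117180 252 = true := by decide +kernel
theorem c_act79_466 : allRange (fun i => Nat.beq (actR79 i) i) 117432 252 = true := by decide +kernel
theorem c_act79_467 : allRange (fun i => Nat.beq (actR79 i) i) 117684 252 = true := by decide +kernel
theorem c_act79_468 : allRange (fun i => Nat.beq (actR79 i) i) 117936 252 = true := by decide +kernel
theorem c_act79_469 : allRange (fun i => Nat.beq (actR79 i) i) 118188 252 = true := by decide +kernel
theorem c_act79_470 : allRange (fun i => Nat.beq (actR79 i) i) 118440 252 = true := by decide +kernel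
theorem c_act79_471 : allRange (fun i => Nat.beq (actR79 i) i) 118692 252 = true := by decide +kernel
theorem c_act79_472 : allRange (fun i => Nat.beq (actR79 i) i) 118944 252 = true := by decide +kernel
theorem c_act79_473 : allRange (fun i => Nat.beq (actR79 i) i) 119196 252 = true := by decide +kernel
theorem c_act79_474 : allRange (fun i => Nat.beq (actR79 i) i) 119448 252 = true := by decide +kernel
theorem c_act79_475 : allRange (fun i => Nat.beq (actR79 i) i) 119700 252 = true := by decide +kernel
theorem c_act79_476 : allRange (fun i => Nat.beq (actR79 i) i) 119952 252 = true := by decide +kernel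
theorem c_act79_477 : allRange (fun i => Nat.beq (actR79 i) i) 120204 252 = true := by decide +kernel
theorem c_act79_478 : allRange (fun i => Nat.beq (actR79 i) i) 120456 252 = true := by decide +kernel
theorem c_act79_479 : allRange (fun i => Nat.beq (actR79 i) i) 120708 252 = true := by decide +kernel
theorem c_act79_480 : allRange (fun i => Nat.beq (actR79 i) i) 120960 252 = true := by decide +kernel
theorem c_act79_481 : allRange (fun i => Nat.beq (actR79 i) i) 121212 252 = true := by decide +kernel
theorem c_act79_482 : allRange (fun i => Nat.beq (actR79 i) i) 121464 252 = true := by decide +kernel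
theorem c_act79_483 : allRange (fun i => Nat.beq (actR79 i) i) 121716 252 = true := by decide +kernel
theorem c_act79_484 : allRange (fun i => Nat.beq (actR79 i) i) 121968 252 = true := by decide +kernel
theorem c_act79_485 : allRange (fun i => Nat.beq (actR79 i) i) 122220 252 = true := by decide +kernel

end Cfsg.Agent.Lib.Helper4.TCD.Fi24a
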