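import Cfsg.Agent.Lib.Helper4.TCD_Fi24a_Acc

namespace Cfsg.Agent.Lib.Helper4.TCD.Fi24a

open Cfsg.Agent.Lib.Helper4.TC

set_option maxRecDepth 100000
set_option Elab.async false

theorem c_act79_486 : allRange (fun i => Nat.beq (actR79 i) i) 122472 252 = true := by decide +kernel
theorem c_act79_487 : allRange (fun i => Nat.beq (actR79 i) i) 122724 252 = true := by decide +kernel
theorem c_act79_488 : allRange (fun i => Nat.beq (actR79 i) i) 122976 252 = true := by decide +kernel
theorem c_act79_489 : allRange (fun i => Nat.beq (actR79 i) i) 123228 252 = true := by decide +kernel
theorem c_act79_490 : allRange (fun i => Nat.beq (actR79 i) i) 123480 252 = true := by decide +kernel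
theorem c_act79_491 : allRange (fun i => Nat.beq (actR79 i) i) 123732 252 = true := by decide +kernel
theorem c_act79_492 : allRange (fun i => Nat.beq (actR79 i) i) 123984 252 = true := by decide +kernel
theorem c_act79_493 : allRange (fun i => Nat.beq (actR79 i) i) 124236 252 = true := by decide +kernel
theorem c_act79_494 : allRange (fun i => Nat.beq (actR79 i) i) 124488 252 = true := by decide +kernel
theorem c_act79_495 : allRange (fun i => Nat.beq (actR79 i) i) 124740 252 = true := by decide +kernel
theorem c_act79_496 : allRange (fun i => Nat.beq (actR79 i) i) 124992 252 = true := by decide +kernel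
theorem c_act79_497 : allRange (fun i => Nat.beq (actR79 i) i) 125244 252 = true := by decide +kernel
theorem c_act79_498 : allRange (fun i => Nat.beq (actR79 i) i) 125496 252 = true := by decide +kernel
theorem c_act79_499 : allRange (fun i => Nat.beq (actR79 i) i) 125748 252 = true := by decide +kernel
theorem c_act79_500 : allRange (fun i => Nat.beq (actR79 i) i) 126000 252 = true := by decide +kernel
theorem c_act79_501 : allRange (fun i => Nat.beq (actR79 i) i) 126252 252 = true := by decide +kernel
theorem c_act79_502 : allRange (fun i => Nat.beq (actR79 i) i) 126504 252 = true := by decide +kernel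
theorem c_act79_503 : allRange (fun i => Nat.beq (actR79 i) i) 126756 252 = true := by decide +kernel
theorem c_act79_504 : allRange (fun i => Nat.beq (actR79 i) i) 127008 252 = true := by decide +kernel
theorem c_act79_505 : allRange (fun i => Nat.beq (actR79 i) i) 127260 252 = true := by decide +kernel
theorem c_act79_506 : allRange (fun i => Nat.beq (actR79 i) i) 127512 252 = true := by decide +kernel
theorem c_act79_507 : allRange (fun i => Nat.beq (actR79 i) i) 127764 252 = true := by decide +kernel
theorem c_act79_508 : allRange (fun i => Nat.beq (actR79 i) i) 128016 252 = true := by decide +kernel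
theorem c_act79_509 : allRange (fun i => Nat.beq (actR79 i) i) 128268 252 = true := by decide +kernel
theorem c_act79_510 : allRange (fun i => Nat.beq (actR79 i) i) 128520 252 = true := by decide +kernel
theorem c_act79_511 : allRange (fun i => Nat.beq (actR79 i) i) 128772 252 = true := by decide +kernel
theorem c_act79_512 : allRange (fun i => Nat.beq (actR79 i) i) 129024 252 = true := by decide +kernel
theorem c_act79_513 : allRange (fun i => Nat.beq (actR79 i) i) 129276 252 = true := by decide +kernel
theorem c_act79_514 : allRange (fun i => Nat.beq (actR79 i) i) 129528 252 = true := by decide +kernel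
theorem c_act79_515 : allRange (fun i => Nat.beq (actR79 i) i) 129780 252 = true := by decide +kernel
theorem c_act79_516 : allRange (fun i => Nat.beq (actR79 i) i) 130032 252 = true := by decide +kernel
theorem c_act79_517 : allRange (fun i => Nat.beq (actR79 i) i) 130284 252 = true := by decide +kernel
theorem c_act79_518 : allRange (fun i => Nat.beq (actR79 i) i) 130536 252 = true := by decide +kernel
theorem c_act79_519 : allRange (fun i => Nat.beq (actR79 i) i) 130788 252 = true := by decide +kernel
theorem c_act79_520 : allRange (fun i => Nat.beq (actR79 i) i) 131040 252 = true := by decide +kernel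
theorem c_act79_521 : allRange (fun i => Nat.beq (actR79 i) i) 131292 252 = true := by decide +kernel
theorem c_act79_522 : allRange (fun i => Nat.beq (actR79 i) i) 131544 252 = true := by decide +kernel
theorem c_act79_523 : allRange (fun i => Nat.beq (actR79 i) i) 131796 252 = true := by decide +kernel
theorem c_act79_524 : allRange (fun i => Nat.beq (actR79 i) i) 132048 252 = true := by decide +kernel
theorem c_act79_525 : allRange (fun i => Nat.beq (actR79 i) i) 132300 252 = true := by decide +kernel
theorem c_act79_526 : allRange (fun i => Nat.beq (actR79 i) i) 132552 252 = true := by decide +kernel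
theorem c_act79_527 : allRange (fun i => Nat.beq (actR79 i) i) 132804 252 = true := by decide +kernel
theorem c_act79_528 : allRange (fun i => Nat.beq (actR79 i) i) 133056 252 = true := by decide +kernel
theorem c_act79_529 : allRange (fun i => Nat.beq (actR79 i) i) 133308 252 = true := by decide +kernel
theorem c_act79_530 : allRange (fun i => Nat.beq (actR79 i) i) 133560 252 = true := by decide +kernel
theorem c_act79_531 : allRange (fun i => Nat.beq (actR79 i) i) 133812 252 = true := by decide +kernel
theorem c_act79_532 : allRange (fun i => Nat.beq (actR79 i) i) 134064 252 = true := by decide +kernel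
theorem c_act79_533 : allRange (fun i => Nat.beq (actR79 i) i) 134316 252 = true := by decide +kernel
theorem c_act79_534 : allRange (fun i => Nat.beq (actR79 i) i) 134568 252 = true := by decide +kernel
theorem c_act79_535 : allRange (fun i => Nat.beq (actR79 i) i) 134820 252 = true := by decide +kernel

end Cfsg.Agent.Lib.Helper4.TCD.Fi24a
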