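import Cfsg.Agent.Lib.Helper4.TCD_Fi24a_Acc

namespace Cfsg.Agent.Lib.Helper4.TCD.Fi24a

open Cfsg.Agent.Lib.Helper4.TC

set_option maxRecDepth 100000
set_option Elab.async false

theorem c_act79_536 : allRange (fun i => Nat.beq (actR79 i) i) 135072 252 = true := by decide +kernel
theorem c_act79_537 : allRange (fun i => Nat.beq (actR79 i) i) 135324 252 = true := by decide +kernel
theorem c_act79_538 : allRange (fun i => Nat.beq (actR79 i) i) 135576 252 = true := by decide +kernel
theorem c_act79_539 : allRange (fun i => Nat.beq (actR79 i) i) 135828 252 = true := by decide +kernel
theorem c_act79_540 : allRange (fun i => Nat.beq (actR79 i) i) 136080 252 = true := by decide +kernel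
theorem c_act79_541 : allRange (fun i => Nat.beq (actR79 i) i) 136332 252 = true := by decide +kernel
theorem c_act79_542 : allRange (fun i => Nat.beq (actR79 i) i) 136584 252 = true := by decide +kernel
theorem c_act79_543 : allRange (fun i => Nat.beq (actR79 i) i) 136836 252 = true := by decide +kernel
theorem c_act79_544 : allRange (fun i => Nat.beq (actR79 i) i) 137088 252 = true := by decide +kernel
theorem c_act79_545 : allRange (fun i => Nat.beq (actR79 i) i) 137340 252 = true := by decide +kernel
theorem c_act79_546 : allRange (fun i => Nat.beq (actR79 i) i) 137592 252 = true := by decide +kernel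
theorem c_act79_547 : allRange (fun i => Nat.beq (actR79 i) i) 137844 252 = true := by decide +kernel
theorem c_act79_548 : allRange (fun i => Nat.beq (actR79 i) i) 138096 252 = true := by decide +kernel
theorem c_act79_549 : allRange (fun i => Nat.beq (actR79 i) i) 138348 252 = true := by decide +kernel
theorem c_act79_550 : allRange (fun i => Nat.beq (actR79 i) i) 138600 252 = true := by decide +kernel
theorem c_act79_551 : allRange (fun i => Nat.beq (actR79 i) i) 138852 252 = true := by decide +kernel
theorem c_act79_552 : allRange (fun i => Nat.beq (actR79 i) i) 139104 252 = true := by decide +kernel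
theorem c_act79_553 : allRange (fun i => Nat.beq (actR79 i) i) 139356 252 = true := by decide +kernel
theorem c_act79_554 : allRange (fun i => Nat.beq (actR79 i) i) 139608 252 = true := by decide +kernel
theorem c_act79_555 : allRange (fun i => Nat.beq (actR79 i) i) 139860 252 = true := by decide +kernel
theorem c_act79_556 : allRange (fun i => Nat.beq (actR79 i) i) 140112 252 = true := by decide +kernel
theorem c_act79_557 : allRange (fun i => Nat.beq (actR79 i) i) 140364 252 = true := by decide +kernel
theorem c_act79_558 : allRange (fun i => Nat.beq (actR79 i) i) 140616 252 = true := by decide +kernel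
theorem c_act79_559 : allRange (fun i => Nat.beq (actR79 i) i) 140868 252 = true := by decide +kernel
theorem c_act79_560 : allRange (fun i => Nat.beq (actR79 i) i) 141120 252 = true := by decide +kernel
theorem c_act79_561 : allRange (fun i => Nat.beq (actR79 i) i) 141372 252 = true := by decide +kernel
theorem c_act79_562 : allRange (fun i => Nat.beq (actR79 i) i) 141624 252 = true := by decide +kernel
theorem c_act79_563 : allRange (fun i => Nat.beq (actR79 i) i) 141876 252 = true := by decide +kernel
theorem c_act79_564 : allRange (fun i => Nat.beq (actR79 i) i) 142128 252 = true := by decide +kernel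
theorem c_act79_565 : allRange (fun i => Nat.beq (actR79 i) i) 142380 252 = true := by decide +kernel
theorem c_act79_566 : allRange (fun i => Nat.beq (actR79 i) i) 142632 252 = true := by decide +kernel
theorem c_act79_567 : allRange (fun i => Nat.beq (actR79 i) i) 142884 252 = true := by decide +kernel
theorem c_act79_568 : allRange (fun i => Nat.beq (actR79 i) i) 143136 252 = true := by decide +kernel
theorem c_act79_569 : allRange (fun i => Nat.beq (actR79 i) i) 143388 252 = true := by decide +kernel
theorem c_act79_570 : allRange (fun i => Nat.beq (actR79 i) i) 143640 252 = true := by decide +kernel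
theorem c_act79_571 : allRange (fun i => Nat.beq (actR79 i) i) 143892 252 = true := by decide +kernel
theorem c_act79_572 : allRange (fun i => Nat.beq (actR79 i) i) 144144 252 = true := by decide +kernel
theorem c_act79_573 : allRange (fun i => Nat.beq (actR79 i) i) 144396 252 = true := by decide +kernel
theorem c_act79_574 : allRange (fun i => Nat.beq (actR79 i) i) 144648 252 = true := by decide +kernel
theorem c_act79_575 : allRange (fun i => Nat.beq (actR79 i) i) 144900 252 = true := by decide +kernel
theorem c_act79_576 : allRange (fun i => Nat.beq (actR79 i) i) 145152 252 = true := by decide +kernel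
theorem c_act79_577 : allRange (fun i => Nat.beq (actR79 i) i) 145404 252 = true := by decide +kernel
theorem c_act79_578 : allRange (fun i => Nat.beq (actR79 i) i) 145656 252 = true := by decide +kernel
theorem c_act79_579 : allRange (fun i => Nat.beq (actR79 i) i) 145908 252 = true := by decide +kernel
theorem c_act79_580 : allRange (fun i => Nat.beq (actR79 i) i) 146160 252 = true := by decide +kernel
theorem c_act79_581 : allRange (fun i => Nat.beq (actR79 i) i) 146412 252 = true := by decide +kernel
theorem c_act79_582 : allRange (fun i => Nat.beq (actR79 i) i) 146664 252 = true := by decide +kernel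
theorem c_act79_583 : allRange (fun i => Nat.beq (actR79 i) i) 146916 252 = true := by decide +kernel
theorem c_act79_584 : allRange (fun i => Nat.beq (actR79 i) i) 147168 252 = true := by decide +kernel
theorem c_act79_585 : allRange (fun i => Nat.beq (actR79 i) i) 147420 252 = true := by decide +kernel

end Cfsg.Agent.Lib.Helper4.TCD.Fi24a
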