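import Cfsg.Agent.Lib.Helper4.TCD_Fi24a_Acc

namespace Cfsg.Agent.Lib.Helper4.TCD.Fi24a

open Cfsg.Agent.Lib.Helper4.TC

set_option maxRecDepth 100000
set_option Elab.async false

theorem c_act79_586 : allRange (fun i => Nat.beq (actR79 i) i) 147672 252 = true := by decide +kernel
theorem c_act79_587 : allRange (fun i => Nat.beq (actR79 i) i) 147924 252 = true := by decide +kernel
theorem c_act79_588 : allRange (fun i => Nat.beq (actR79 i) i) 148176 252 = true := by decide +kernel
theorem c_act79_589 : allRange (fun i => Nat.beq (actR79 i) i) 148428 252 = true := by decide +kernel
theorem c_act79_590 : allRange (fun i => Nat.beq (actR79 i) i) 148680 252 = true := by decide +kernel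
theorem c_act79_591 : allRange (fun i => Nat.beq (actR79 i) i) 148932 252 = true := by decide +kernel
theorem c_act79_592 : allRange (fun i => Nat.beq (actR79 i) i) 149184 252 = true := by decide +kernel
theorem c_act79_593 : allRange (fun i => Nat.beq (actR79 i) i) 149436 252 = true := by decide +kernel
theorem c_act79_594 : allRange (fun i => Nat.beq (actR79 i) i) 149688 252 = true := by decide +kernel
theorem c_act79_595 : allRange (fun i => Nat.beq (actR79 i) i) 149940 252 = true := by decide +kernel
theorem c_act79_596 : allRange (fun i => Nat.beq (actR79 i) i) 150192 252 = true := by decide +kernel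
theorem c_act79_597 : allRange (fun i => Nat.beq (actR79 i) i) 150444 252 = true := by decide +kernel
theorem c_act79_598 : allRange (fun i => Nat.beq (actR79 i) i) 150696 252 = true := by decide +kernel
theorem c_act79_599 : allRange (fun i => Nat.beq (actR79 i) i) 150948 252 = true := by decide +kernel
theorem c_act79_600 : allRange (fun i => Nat.beq (actR79 i) i) 151200 252 = true := by decide +kernel
theorem c_act79_601 : allRange (fun i => Nat.beq (actR79 i) i) 151452 252 = true := by decide +kernel
theorem c_act79_602 : allRange (fun i => Nat.beq (actR79 i) i) 151704 252 = true := by decide +kernel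
theorem c_act79_603 : allRange (fun i => Nat.beq (actR79 i) i) 151956 252 = true := by decide +kernel
theorem c_act79_604 : allRange (fun i => Nat.beq (actR79 i) i) 152208 252 = true := by decide +kernel
theorem c_act79_605 : allRange (fun i => Nat.beq (actR79 i) i) 152460 252 = true := by decide +kernel
theorem c_act79_606 : allRange (fun i => Nat.beq (actR79 i) i) 152712 252 = true := by decide +kernel
theorem c_act79_607 : allRange (fun i => Nat.beq (actR79 i) i) 152964 252 = true := by decide +kernel
theorem c_act79_608 : allRange (fun i => Nat.beq (actR79 i) i) 153216 252 = true := by decide +kernel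
theorem c_act79_609 : allRange (fun i => Nat.beq (actR79 i) i) 153468 252 = true := by decide +kernel
theorem c_act79_610 : allRange (fun i => Nat.beq (actR79 i) i) 153720 252 = true := by decide +kernel
theorem c_act79_611 : allRange (fun i => Nat.beq (actR79 i) i) 153972 252 = true := by decide +kernel
theorem c_act79_612 : allRange (fun i => Nat.beq (actR79 i) i) 154224 252 = true := by decide +kernel
theorem c_act79_613 : allRange (fun i => Nat.beq (actR79 i) i) 154476 252 = true := by decide +kernel
theorem c_act79_614 : allRange (fun i => Nat.beq (actR79 i) i) 154728 252 = true := by decide +kernel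
theorem c_act79_615 : allRange (fun i => Nat.beq (actR79 i) i) 154980 252 = true := by decide +kernel
theorem c_act79_616 : allRange (fun i => Nat.beq (actR79 i) i) 155232 252 = true := by decide +kernel
theorem c_act79_617 : allRange (fun i => Nat.beq (actR79 i) i) 155484 252 = true := by decide +kernel
theorem c_act79_618 : allRange (fun i => Nat.beq (actR79 i) i) 155736 252 = true := by decide +kernel
theorem c_act79_619 : allRange (fun i => Nat.beq (actR79 i) i) 155988 252 = true := by decide +kernel
theorem c_act79_620 : allRange (fun i => Nat.beq (actR79 i) i) 156240 252 = true := by decide +kernel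
theorem c_act79_621 : allRange (fun i => Nat.beq (actR79 i) i) 156492 252 = true := by decide +kernel
theorem c_act79_622 : allRange (fun i => Nat.beq (actR79 i) i) 156744 252 = true := by decide +kernel
theorem c_act79_623 : allRange (fun i => Nat.beq (actR79 i) i) 156996 252 = true := by decide +kernel
theorem c_act79_624 : allRange (fun i => Nat.beq (actR79 i) i) 157248 252 = true := by decide +kernel
theorem c_act79_625 : allRange (fun i => Nat.beq (actR79 i) i) 157500 252 = true := by decide +kernel
theorem c_act79_626 : allRange (fun i => Nat.beq (actR79 i) i) 157752 252 = true := by decide +kernel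
theorem c_act79_627 : allRange (fun i => Nat.beq (actR79 i) i) 158004 252 = true := by decide +kernel
theorem c_act79_628 : allRange (fun i => Nat.beq (actR79 i) i) 158256 252 = true := by decide +kernel
theorem c_act79_629 : allRange (fun i => Nat.beq (actR79 i) i) 158508 252 = true := by decide +kernel
theorem c_act79_630 : allRange (fun i => Nat.beq (actR79 i) i) 158760 252 = true := by decide +kernel
theorem c_act79_631 : allRange (fun i => Nat.beq (actR79 i) i) 159012 252 = true := by decide +kernel
theorem c_act79_632 : allRange (fun i => Nat.beq (actR79 i) i) 159264 252 = true := by decide +kernel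
theorem c_act79_633 : allRange (fun i => Nat.beq (actR79 i) i) 159516 252 = true := by decide +kernel
theorem c_act79_634 : allRange (fun i => Nat.beq (actR79 i) i) 159768 252 = true := by decide +kernel
theorem c_act79_635 : allRange (fun i => Nat.beq (actR79 i) i) 160020 252 = true := by decide +kernel

end Cfsg.Agent.Lib.Helper4.TCD.Fi24a
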