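import Cfsg.Agent.Lib.Helper4.TCD_Fi24a_Acc

namespace Cfsg.Agent.Lib.Helper4.TCD.Fi24a

open Cfsg.Agent.Lib.Helper4.TC

set_option maxRecDepth 100000
set_option Elab.async false

theorem c_act79_636 : allRange (fun i => Nat.beq (actR79 i) i) 160272 252 = true := by decide +kernel
theorem c_act79_637 : allRange (fun i => Nat.beq (actR79 i) i) 160524 252 = true := by decide +kernel
theorem c_act79_638 : allRange (fun i => Nat.beq (actR79 i) i) 160776 252 = true := by decide +kernel
theorem c_act79_639 : allRange (fun i => Nat.beq (actR79 i) i) 161028 252 = true := by decide +kernel
theorem c_act79_640 : allRange (fun i => Nat.beq (actR79 i) i) 161280 252 = true := by decide +kernel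
theorem c_act79_641 : allRange (fun i => Nat.beq (actR79 i) i) 161532 252 = true := by decide +kernel
theorem c_act79_642 : allRange (fun i => Nat.beq (actR79 i) i) 161784 252 = true := by decide +kernel
theorem c_act79_643 : allRange (fun i => Nat.beq (actR79 i) i) 162036 252 = true := by decide +kernel
theorem c_act79_644 : allRange (fun i => Nat.beq (actR79 i) i) 162288 252 = true := by decide +kernel
theorem c_act79_645 : allRange (fun i => Nat.beq (actR79 i) i) 162540 252 = true := by decide +kernel
theorem c_act79_646 : allRange (fun i => Nat.beq (actR79 i) i) 162792 252 = true := by decide +kernel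
theorem c_act79_647 : allRange (fun i => Nat.beq (actR79 i) i) 163044 252 = true := by decide +kernel
theorem c_act79_648 : allRange (fun i => Nat.beq (actR79 i) i) 163296 252 = true := by decide +kernel
theorem c_act79_649 : allRange (fun i => Nat.beq (actR79 i) i) 163548 252 = true := by decide +kernel
theorem c_act79_650 : allRange (fun i => Nat.beq (actR79 i) i) 163800 252 = true := by decide +kernel
theorem c_act79_651 : allRange (fun i => Nat.beq (actR79 i) i) 164052 252 = true := by decide +kernel
theorem c_act79_652 : allRange (fun i => Nat.beq (actR79 i) i) 164304 252 = true := by decide +kernel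
theorem c_act79_653 : allRange (fun i => Nat.beq (actR79 i) i) 164556 252 = true := by decide +kernel
theorem c_act79_654 : allRange (fun i => Nat.beq (actR79 i) i) 164808 252 = true := by decide +kernel
theorem c_act79_655 : allRange (fun i => Nat.beq (actR79 i) i) 165060 252 = true := by decide +kernel
theorem c_act79_656 : allRange (fun i => Nat.beq (actR79 i) i) 165312 252 = true := by decide +kernel
theorem c_act79_657 : allRange (fun i => Nat.beq (actR79 i) i) 165564 252 = true := by decide +kernel
theorem c_act79_658 : allRange (fun i => Nat.beq (actR79 i) i) 165816 252 = true := by decide +kernel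
theorem c_act79_659 : allRange (fun i => Nat.beq (actR79 i) i) 166068 252 = true := by decide +kernel
theorem c_act79_660 : allRange (fun i => Nat.beq (actR79 i) i) 166320 252 = true := by decide +kernel
theorem c_act79_661 : allRange (fun i => Nat.beq (actR79 i) i) 166572 252 = true := by decide +kernel
theorem c_act79_662 : allRange (fun i => Nat.beq (actR79 i) i) 166824 252 = true := by decide +kernel
theorem c_act79_663 : allRange (fun i => Nat.beq (actR79 i) i) 167076 252 = true := by decide +kernel
theorem c_act79_664 : allRange (fun i => Nat.beq (actR79 i) i) 167328 252 = true := by decide +kernel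
theorem c_act79_665 : allRange (fun i => Nat.beq (actR79 i) i) 167580 252 = true := by decide +kernel
theorem c_act79_666 : allRange (fun i => Nat.beq (actR79 i) i) 167832 252 = true := by decide +kernel
theorem c_act79_667 : allRange (fun i => Nat.beq (actR79 i) i) 168084 252 = true := by decide +kernel
theorem c_act79_668 : allRange (fun i => Nat.beq (actR79 i) i) 168336 252 = true := by decide +kernel
theorem c_act79_669 : allRange (fun i => Nat.beq (actR79 i) i) 168588 252 = true := by decide +kernel
theorem c_act79_670 : allRange (fun i => Nat.beq (actR79 i) i) 168840 252 = true := by decide +kernel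
theorem c_act79_671 : allRange (fun i => Nat.beq (actR79 i) i) 169092 252 = true := by decide +kernel
theorem c_act79_672 : allRange (fun i => Nat.beq (actR79 i) i) 169344 252 = true := by decide +kernel
theorem c_act79_673 : allRange (fun i => Nat.beq (actR79 i) i) 169596 252 = true := by decide +kernel
theorem c_act79_674 : allRange (fun i => Nat.beq (actR79 i) i) 169848 252 = true := by decide +kernel
theorem c_act79_675 : allRange (fun i => Nat.beq (actR79 i) i) 170100 252 = true := by decide +kernel
theorem c_act79_676 : allRange (fun i => Nat.beq (actR79 i) i) 170352 252 = true := by decide +kernel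
theorem c_act79_677 : allRange (fun i => Nat.beq (actR79 i) i) 170604 252 = true := by decide +kernel
theorem c_act79_678 : allRange (fun i => Nat.beq (actR79 i) i) 170856 252 = true := by decide +kernel
theorem c_act79_679 : allRange (fun i => Nat.beq (actR79 i) i) 171108 252 = true := by decide +kernel
theorem c_act79_680 : allRange (fun i => Nat.beq (actR79 i) i) 171360 252 = true := by decide +kernel
theorem c_act79_681 : allRange (fun i => Nat.beq (actR79 i) i) 171612 252 = true := by decide +kernel
theorem c_act79_682 : allRange (fun i => Nat.beq (actR79 i) i) 171864 252 = true := by decide +kernel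
theorem c_act79_683 : allRange (fun i => Nat.beq (actR79 i) i) 172116 252 = true := by decide +kernel
theorem c_act79_684 : allRange (fun i => Nat.beq (actR79 i) i) 172368 252 = true := by decide +kernel
theorem c_act79_685 : allRange (fun i => Nat.beq (actR79 i) i) 172620 252 = true := by decide +kernel

end Cfsg.Agent.Lib.Helper4.TCD.Fi24a
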