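import Cfsg.Agent.Lib.Helper4.TCD_Fi24a_Acc

namespace Cfsg.Agent.Lib.Helper4.TCD.Fi24a

open Cfsg.Agent.Lib.Helper4.TC

set_option maxRecDepth 100000
set_option Elab.async false

theorem c_act79_686 : allRange (fun i => Nat.beq (actR79 i) i) 172872 252 = true := by decide +kernel
theorem c_act79_687 : allRange (fun i => Nat.beq (actR79 i) i) 173124 252 = true := by decide +kernel
theorem c_act79_688 : allRange (fun i => Nat.beq (actR79 i) i) 173376 252 = true := by decide +kernel
theorem c_act79_689 : allRange (fun i => Nat.beq (actR79 i) i) 173628 252 = true := by decide +kernel
theorem c_act79_690 : allRange (fun i => Nat.beq (actR79 i) i) 173880 252 = true := by decide +kernel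
theorem c_act79_691 : allRange (fun i => Nat.beq (actR79 i) i) 174132 252 = true := by decide +kernel
theorem c_act79_692 : allRange (fun i => Nat.beq (actR79 i) i) 174384 252 = true := by decide +kernel
theorem c_act79_693 : allRange (fun i => Nat.beq (actR79 i) i) 174636 252 = true := by decide +kernel
theorem c_act79_694 : allRange (fun i => Nat.beq (actR79 i) i) 174888 252 = true := by decide +kernel
theorem c_act79_695 : allRange (fun i => Nat.beq (actR79 i) i) 175140 252 = true := by decide +kernel
theorem c_act79_696 : allRange (fun i => Nat.beq (actR79 i) i) 175392 252 = true := by decide +kernel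
theorem c_act79_697 : allRange (fun i => Nat.beq (actR79 i) i) 175644 252 = true := by decide +kernel
theorem c_act79_698 : allRange (fun i => Nat.beq (actR79 i) i) 175896 252 = true := by decide +kernel
theorem c_act79_699 : allRange (fun i => Nat.beq (actR79 i) i) 176148 252 = true := by decide +kernel
theorem c_act79_700 : allRange (fun i => Nat.beq (actR79 i) i) 176400 252 = true := by decide +kernel
theorem c_act79_701 : allRange (fun i => Nat.beq (actR79 i) i) 176652 252 = true := by decide +kernel
theorem c_act79_702 : allRange (fun i => Nat.beq (actR79 i) i) 176904 252 = true := by decide +kernel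
theorem c_act79_703 : allRange (fun i => Nat.beq (actR79 i) i) 177156 252 = true := by decide +kernel
theorem c_act79_704 : allRange (fun i => Nat.beq (actR79 i) i) 177408 252 = true := by decide +kernel
theorem c_act79_705 : allRange (fun i => Nat.beq (actR79 i) i) 177660 252 = true := by decide +kernel
theorem c_act79_706 : allRange (fun i => Nat.beq (actR79 i) i) 177912 252 = true := by decide +kernel
theorem c_act79_707 : allRange (fun i => Nat.beq (actR79 i) i) 178164 252 = true := by decide +kernel
theorem c_act79_708 : allRange (fun i => Nat.beq (actR79 i) i) 178416 252 = true := by decide +kernel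
theorem c_act79_709 : allRange (fun i => Nat.beq (actR79 i) i) 178668 252 = true := by decide +kernel
theorem c_act79_710 : allRange (fun i => Nat.beq (actR79 i) i) 178920 252 = true := by decide +kernel
theorem c_act79_711 : allRange (fun i => Nat.beq (actR79 i) i) 179172 252 = true := by decide +kernel
theorem c_act79_712 : allRange (fun i => Nat.beq (actR79 i) i) 179424 252 = true := by decide +kernel
theorem c_act79_713 : allRange (fun i => Nat.beq (actR79 i) i) 179676 252 = true := by decide +kernel
theorem c_act79_714 : allRange (fun i => Nat.beq (actR79 i) i) 179928 252 = true := by decide +kernel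
theorem c_act79_715 : allRange (fun i => Nat.beq (actR79 i) i) 180180 252 = true := by decide +kernel
theorem c_act79_716 : allRange (fun i => Nat.beq (actR79 i) i) 180432 252 = true := by decide +kernel
theorem c_act79_717 : allRange (fun i => Nat.beq (actR79 i) i) 180684 252 = true := by decide +kernel
theorem c_act79_718 : allRange (fun i => Nat.beq (actR79 i) i) 180936 252 = true := by decide +kernel
theorem c_act79_719 : allRange (fun i => Nat.beq (actR79 i) i) 181188 252 = true := by decide +kernel
theorem c_act79_720 : allRange (fun i => Nat.beq (actR79 i) i) 181440 252 = true := by decide +kernel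
theorem c_act79_721 : allRange (fun i => Nat.beq (actR79 i) i) 181692 252 = true := by decide +kernel
theorem c_act79_722 : allRange (fun i => Nat.beq (actR79 i) i) 181944 252 = true := by decide +kernel
theorem c_act79_723 : allRange (fun i => Nat.beq (actR79 i) i) 182196 252 = true := by decide +kernel
theorem c_act79_724 : allRange (fun i => Nat.beq (actR79 i) i) 182448 252 = true := by decide +kernel
theorem c_act79_725 : allRange (fun i => Nat.beq (actR79 i) i) 182700 252 = true := by decide +kernel
theorem c_act79_726 : allRange (fun i => Nat.beq (actR79 i) i) 182952 252 = true := by decide +kernel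
theorem c_act79_727 : allRange (fun i => Nat.beq (actR79 i) i) 183204 252 = true := by decide +kernel
theorem c_act79_728 : allRange (fun i => Nat.beq (actR79 i) i) 183456 252 = true := by decide +kernel
theorem c_act79_729 : allRange (fun i => Nat.beq (actR79 i) i) 183708 252 = true := by decide +kernel
theorem c_act79_730 : allRange (fun i => Nat.beq (actR79 i) i) 183960 252 = true := by decide +kernel
theorem c_act79_731 : allRange (fun i => Nat.beq (actR79 i) i) 184212 252 = true := by decide +kernel
theorem c_act79_732 : allRange (fun i => Nat.beq (actR79 i) i) 184464 252 = true := by decide +kernel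
theorem c_act79_733 : allRange (fun i => Nat.beq (actR79 i) i) 184716 252 = true := by decide +kernel
theorem c_act79_734 : allRange (fun i => Nat.beq (actR79 i) i) 184968 252 = true := by decide +kernel
theorem c_act79_735 : allRange (fun i => Nat.beq (actR79 i) i) 185220 252 = true := by decide +kernel

end Cfsg.Agent.Lib.Helper4.TCD.Fi24a
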