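import Cfsg.Agent.Lib.Helper4.TCD_Fi24a_Acc

namespace Cfsg.Agent.Lib.Helper4.TCD.Fi24a

open Cfsg.Agent.Lib.Helper4.TC

set_option maxRecDepth 100000
set_option Elab.async false

theorem c_act79_736 : allRange (fun i => Nat.beq (actR79 i) i) 185472 252 = true := by decide +kernel
theorem c_act79_737 : allRange (fun i => Nat.beq (actR79 i) i) 185724 252 = true := by decide +kernel
theorem c_act79_738 : allRange (fun i => Nat.beq (actR79 i) i) 185976 252 = true := by decide +kernel
theorem c_act79_739 : allRange (fun i => Nat.beq (actR79 i) i) 186228 252 = true := by decide +kernel
theorem c_act79_740 : allRange (fun i => Nat.beq (actR79 i) i) 186480 252 = true := by decide +kernel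
theorem c_act79_741 : allRange (fun i => Nat.beq (actR79 i) i) 186732 252 = true := by decide +kernel
theorem c_act79_742 : allRange (fun i => Nat.beq (actR79 i) i) 186984 252 = true := by decide +kernel
theorem c_act79_743 : allRange (fun i => Nat.beq (actR79 i) i) 187236 252 = true := by decide +kernel
theorem c_act79_744 : allRange (fun i => Nat.beq (actR79 i) i) 187488 252 = true := by decide +kernel
theorem c_act79_745 : allRange (fun i => Nat.beq (actR79 i) i) 187740 252 = true := by decide +kernel
theorem c_act79_746 : allRange (fun i => Nat.beq (actR79 i) i) 187992 252 = true := by decide +kernel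
theorem c_act79_747 : allRange (fun i => Nat.beq (actR79 i) i) 188244 252 = true := by decide +kernel
theorem c_act79_748 : allRange (fun i => Nat.beq (actR79 i) i) 188496 252 = true := by decide +kernel
theorem c_act79_749 : allRange (fun i => Nat.beq (actR79 i) i) 188748 252 = true := by decide +kernel
theorem c_act79_750 : allRange (fun i => Nat.beq (actR79 i) i) 189000 252 = true := by decide +kernel
theorem c_act79_751 : allRange (fun i => Nat.beq (actR79 i) i) 189252 252 = true := by decide +kernel
theorem c_act79_752 : allRange (fun i => Nat.beq (actR79 i) i) 189504 252 = true := by decide +kernel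
theorem c_act79_753 : allRange (fun i => Nat.beq (actR79 i) i) 189756 252 = true := by decide +kernel
theorem c_act79_754 : allRange (fun i => Nat.beq (actR79 i) i) 190008 252 = true := by decide +kernel
theorem c_act79_755 : allRange (fun i => Nat.beq (actR79 i) i) 190260 252 = true := by decide +kernel
theorem c_act79_756 : allRange (fun i => Nat.beq (actR79 i) i) 190512 252 = true := by decide +kernel
theorem c_act79_757 : allRange (fun i => Nat.beq (actR79 i) i) 190764 252 = true := by decide +kernel
theorem c_act79_758 : allRange (fun i => Nat.beq (actR79 i) i) 191016 252 = true := by decide +kernel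
theorem c_act79_759 : allRange (fun i => Nat.beq (actR79 i) i) 191268 252 = true := by decide +kernel
theorem c_act79_760 : allRange (fun i => Nat.beq (actR79 i) i) 191520 252 = true := by decide +kernel
theorem c_act79_761 : allRange (fun i => Nat.beq (actR79 i) i) 191772 252 = true := by decide +kernel
theorem c_act79_762 : allRange (fun i => Nat.beq (actR79 i) i) 192024 252 = true := by decide +kernel
theorem c_act79_763 : allRange (fun i => Nat.beq (actR79 i) i) 192276 252 = true := by decide +kernel
theorem c_act79_764 : allRange (fun i => Nat.beq (actR79 i) i) 192528 252 = true := by decide +kernel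
theorem c_act79_765 : allRange (fun i => Nat.beq (actR79 i) i) 192780 252 = true := by decide +kernel
theorem c_act79_766 : allRange (fun i => Nat.beq (actR79 i) i) 193032 252 = true := by decide +kernel
theorem c_act79_767 : allRange (fun i => Nat.beq (actR79 i) i) 193284 252 = true := by decide +kernel
theorem c_act79_768 : allRange (fun i => Nat.beq (actR79 i) i) 193536 252 = true := by decide +kernel
theorem c_act79_769 : allRange (fun i => Nat.beq (actR79 i) i) 193788 252 = true := by decide +kernel
theorem c_act79_770 : allRange (fun i => Nat.beq (actR79 i) i) 194040 252 = true := by decide +kernel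
theorem c_act79_771 : allRange (fun i => Nat.beq (actR79 i) i) 194292 252 = true := by decide +kernel
theorem c_act79_772 : allRange (fun i => Nat.beq (actR79 i) i) 194544 252 = true := by decide +kernel
theorem c_act79_773 : allRange (fun i => Nat.beq (actR79 i) i) 194796 252 = true := by decide +kernel
theorem c_act79_774 : allRange (fun i => Nat.beq (actR79 i) i) 195048 252 = true := by decide +kernel
theorem c_act79_775 : allRange (fun i => Nat.beq (actR79 i) i) 195300 252 = true := by decide +kernel
theorem c_act79_776 : allRange (fun i => Nat.beq (actR79 i) i) 195552 252 = true := by decide +kernel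
theorem c_act79_777 : allRange (fun i => Nat.beq (actR79 i) i) 195804 252 = true := by decide +kernel
theorem c_act79_778 : allRange (fun i => Nat.beq (actR79 i) i) 196056 252 = true := by decide +kernel
theorem c_act79_779 : allRange (fun i => Nat.beq (actR79 i) i) 196308 252 = true := by decide +kernel
theorem c_act79_780 : allRange (fun i => Nat.beq (actR79 i) i) 196560 252 = true := by decide +kernel
theorem c_act79_781 : allRange (fun i => Nat.beq (actR79 i) i) 196812 252 = true := by decide +kernel
theorem c_act79_782 : allRange (fun i => Nat.beq (actR79 i) i) 197064 252 = true := by decide +kernel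
theorem c_act79_783 : allRange (fun i => Nat.beq (actR79 i) i) 197316 252 = true := by decide +kernel
theorem c_act79_784 : allRange (fun i => Nat.beq (actR79 i) i) 197568 252 = true := by decide +kernel
theorem c_act79_785 : allRange (fun i => Nat.beq (actR79 i) i) 197820 252 = true := by decide +kernel

end Cfsg.Agent.Lib.Helper4.TCD.Fi24a
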