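import Cfsg.Agent.Lib.Helper4.TCD_Fi24a_Acc

namespace Cfsg.Agent.Lib.Helper4.TCD.Fi24a

open Cfsg.Agent.Lib.Helper4.TC

set_option maxRecDepth 100000
set_option Elab.async false

theorem c_act79_786 : allRange (fun i => Nat.beq (actR79 i) i) 198072 252 = true := by decide +kernel
theorem c_act79_787 : allRange (fun i => Nat.beq (actR79 i) i) 198324 252 = true := by decide +kernel
theorem c_act79_788 : allRange (fun i => Nat.beq (actR79 i) i) 198576 252 = true := by decide +kernel
theorem c_act79_789 : allRange (fun i => Nat.beq (actR79 i) i) 198828 252 = true := by decide +kernel
theorem c_act79_790 : allRange (fun i => Nat.beq (actR79 i) i) 199080 252 = true := by decide +kernel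
theorem c_act79_791 : allRange (fun i => Nat.beq (actR79 i) i) 199332 252 = true := by decide +kernel
theorem c_act79_792 : allRange (fun i => Nat.beq (actR79 i) i) 199584 252 = true := by decide +kernel
theorem c_act79_793 : allRange (fun i => Nat.beq (actR79 i) i) 199836 252 = true := by decide +kernel
theorem c_act79_794 : allRange (fun i => Nat.beq (actR79 i) i) 200088 252 = true := by decide +kernel
theorem c_act79_795 : allRange (fun i => Nat.beq (actR79 i) i) 200340 252 = true := by decide +kernel
theorem c_act79_796 : allRange (fun i => Nat.beq (actR79 i) i) 200592 252 = true := by decide +kernel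
theorem c_act79_797 : allRange (fun i => Nat.beq (actR79 i) i) 200844 252 = true := by decide +kernel
theorem c_act79_798 : allRange (fun i => Nat.beq (actR79 i) i) 201096 252 = true := by decide +kernel
theorem c_act79_799 : allRange (fun i => Nat.beq (actR79 i) i) 201348 252 = true := by decide +kernel
theorem c_act79_800 : allRange (fun i => Nat.beq (actR79 i) i) 201600 252 = true := by decide +kernel
theorem c_act79_801 : allRange (fun i => Nat.beq (actR79 i) i) 201852 252 = true := by decide +kernel
theorem c_act79_802 : allRange (fun i => Nat.beq (actR79 i) i) 202104 252 = true := by decide +kernel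
theorem c_act79_803 : allRange (fun i => Nat.beq (actR79 i) i) 202356 252 = true := by decide +kernel
theorem c_act79_804 : allRange (fun i => Nat.beq (actR79 i) i) 202608 252 = true := by decide +kernel
theorem c_act79_805 : allRange (fun i => Nat.beq (actR79 i) i) 202860 252 = true := by decide +kernel
theorem c_act79_806 : allRange (fun i => Nat.beq (actR79 i) i) 203112 252 = true := by decide +kernel
theorem c_act79_807 : allRange (fun i => Nat.beq (actR79 i) i) 203364 252 = true := by decide +kernel
theorem c_act79_808 : allRange (fun i => Nat.beq (actR79 i) i) 203616 252 = true := by decide +kernel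
theorem c_act79_809 : allRange (fun i => Nat.beq (actR79 i) i) 203868 252 = true := by decide +kernel
theorem c_act79_810 : allRange (fun i => Nat.beq (actR79 i) i) 204120 252 = true := by decide +kernel
theorem c_act79_811 : allRange (fun i => Nat.beq (actR79 i) i) 204372 252 = true := by decide +kernel
theorem c_act79_812 : allRange (fun i => Nat.beq (actR79 i) i) 204624 252 = true := by decide +kernel
theorem c_act79_813 : allRange (fun i => Nat.beq (actR79 i) i) 204876 252 = true := by decide +kernel
theorem c_act79_814 : allRange (fun i => Nat.beq (actR79 i) i) 205128 252 = true := by decide +kernel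
theorem c_act79_815 : allRange (fun i => Nat.beq (actR79 i) i) 205380 252 = true := by decide +kernel
theorem c_act79_816 : allRange (fun i => Nat.beq (actR79 i) i) 205632 252 = true := by decide +kernel
theorem c_act79_817 : allRange (fun i => Nat.beq (actR79 i) i) 205884 252 = true := by decide +kernel
theorem c_act79_818 : allRange (fun i => Nat.beq (actR79 i) i) 206136 252 = true := by decide +kernel
theorem c_act79_819 : allRange (fun i => Nat.beq (actR79 i) i) 206388 252 = true := by decide +kernel
theorem c_act79_820 : allRange (fun i => Nat.beq (actR79 i) i) 206640 252 = true := by decide +kernel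
theorem c_act79_821 : allRange (fun i => Nat.beq (actR79 i) i) 206892 252 = true := by decide +kernel
theorem c_act79_822 : allRange (fun i => Nat.beq (actR79 i) i) 207144 252 = true := by decide +kernel
theorem c_act79_823 : allRange (fun i => Nat.beq (actR79 i) i) 207396 252 = true := by decide +kernel
theorem c_act79_824 : allRange (fun i => Nat.beq (actR79 i) i) 207648 252 = true := by decide +kernel
theorem c_act79_825 : allRange (fun i => Nat.beq (actR79 i) i) 207900 252 = true := by decide +kernel
theorem c_act79_826 : allRange (fun i => Nat.beq (actR79 i) i) 208152 252 = true := by decide +kernel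
theorem c_act79_827 : allRange (fun i => Nat.beq (actR79 i) i) 208404 252 = true := by decide +kernel
theorem c_act79_828 : allRange (fun i => Nat.beq (actR79 i) i) 208656 252 = true := by decide +kernel
theorem c_act79_829 : allRange (fun i => Nat.beq (actR79 i) i) 208908 252 = true := by decide +kernel
theorem c_act79_830 : allRange (fun i => Nat.beq (actR79 i) i) 209160 252 = true := by decide +kernel
theorem c_act79_831 : allRange (fun i => Nat.beq (actR79 i) i) 209412 252 = true := by decide +kernel
theorem c_act79_832 : allRange (fun i => Nat.beq (actR79 i) i) 209664 252 = true := by decide +kernel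
theorem c_act79_833 : allRange (fun i => Nat.beq (actR79 i) i) 209916 252 = true := by decide +kernel
theorem c_act79_834 : allRange (fun i => Nat.beq (actR79 i) i) 210168 252 = true := by decide +kernel
theorem c_act79_835 : allRange (fun i => Nat.beq (actR79 i) i) 210420 252 = true := by decide +kernel

end Cfsg.Agent.Lib.Helper4.TCD.Fi24a
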