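import Cfsg.Agent.Lib.Helper4.TCD_Fi24a_Acc

namespace Cfsg.Agent.Lib.Helper4.TCD.Fi24a

open Cfsg.Agent.Lib.Helper4.TC

set_option maxRecDepth 100000
set_option Elab.async false

theorem c_fin_45 : allGrid (T.finOK D) 45000 1000 12 = true := by decide +kernel
theorem c_fin_46 : allGrid (T.finOK D) 46000 1000 12 = true := by decide +kernel
theorem c_fin_47 : allGrid (T.finOK D) 47000 1000 12 = true := by decide +kernel
theorem c_fin_48 : allGrid (T.finOK D) 48000 1000 12 = true := by decide +kernel
theorem c_fin_49 : allGrid (T.finOK D) 49000 1000 12 = true := by decide +kernel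
theorem c_fin_50 : allGrid (T.finOK D) 50000 1000 12 = true := by decide +kernel
theorem c_fin_51 : allGrid (T.finOK D) 51000 1000 12 = true := by decide +kernel
theorem c_fin_52 : allGrid (T.finOK D) 52000 1000 12 = true := by decide +kernel
theorem c_fin_53 : allGrid (T.finOK D) 53000 1000 12 = true := by decide +kernel
theorem c_fin_54 : allGrid (T.finOK D) 54000 1000 12 = true := by decide +kernel
theorem c_fin_55 : allGrid (T.finOK D) 55000 1000 12 = true := by decide +kernel
theorem c_fin_56 : allGrid (T.finOK D) 56000 1000 12 = true := by decide +kernel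
theorem c_fin_57 : allGrid (T.finOK D) 57000 1000 12 = true := by decide +kernel
theorem c_fin_58 : allGrid (T.finOK D) 58000 1000 12 = true := by decide +kernel
theorem c_fin_59 : allGrid (T.finOK D) 59000 1000 12 = true := by decide +kernel
theorem c_fin_60 : allGrid (T.finOK D) 60000 1000 12 = true := by decide +kernel
theorem c_fin_61 : allGrid (T.finOK D) 61000 1000 12 = true := by decide +kernel
theorem c_fin_62 : allGrid (T.finOK D) 62000 1000 12 = true := by decide +kernel
theorem c_fin_63 : allGrid (T.finOK D) 63000 1000 12 = true := by decide +kernel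
theorem c_fin_64 : allGrid (T.finOK D) 64000 1000 12 = true := by decide +kernel
theorem c_fin_65 : allGrid (T.finOK D) 65000 1000 12 = true := by decide +kernel
theorem c_fin_66 : allGrid (T.finOK D) 66000 1000 12 = true := by decide +kernel
theorem c_fin_67 : allGrid (T.finOK D) 67000 1000 12 = true := by decide +kernel
theorem c_fin_68 : allGrid (T.finOK D) 68000 1000 12 = true := by decide +kernel
theorem c_fin_69 : allGrid (T.finOK D) 69000 1000 12 = true := by decide +kernel
theorem c_fin_70 : allGrid (T.finOK D) 70000 1000 12 = true := by decide +kernel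
theorem c_fin_71 : allGrid (T.finOK D) 71000 1000 12 = true := by decide +kernel
theorem c_fin_72 : allGrid (T.finOK D) 72000 1000 12 = true := by decide +kernel
theorem c_fin_73 : allGrid (T.finOK D) 73000 1000 12 = true := by decide +kernel
theorem c_fin_74 : allGrid (T.finOK D) 74000 1000 12 = true := by decide +kernel
theorem c_fin_75 : allGrid (T.finOK D) 75000 1000 12 = true := by decide +kernel
theorem c_fin_76 : allGrid (T.finOK D) 76000 1000 12 = true := by decide +kernel
theorem c_fin_77 : allGrid (T.finOK D) 77000 1000 12 = true := by decide +kernel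
theorem c_fin_78 : allGrid (T.finOK D) 78000 1000 12 = true := by decide +kernel
theorem c_fin_79 : allGrid (T.finOK D) 79000 1000 12 = true := by decide +kernel
theorem c_fin_80 : allGrid (T.finOK D) 80000 1000 12 = true := by decide +kernel
theorem c_fin_81 : allGrid (T.finOK D) 81000 1000 12 = true := by decide +kernel
theorem c_fin_82 : allGrid (T.finOK D) 82000 1000 12 = true := by decide +kernel
theorem c_fin_83 : allGrid (T.finOK D) 83000 1000 12 = true := by decide +kernel
theorem c_fin_84 : allGrid (T.finOK D) 84000 1000 12 = true := by decide +kernel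
theorem c_fin_85 : allGrid (T.finOK D) 85000 1000 12 = true := by decide +kernel
theorem c_fin_86 : allGrid (T.finOK D) 86000 1000 12 = true := by decide +kernel
theorem c_fin_87 : allGrid (T.finOK D) 87000 1000 12 = true := by decide +kernel
theorem c_fin_88 : allGrid (T.finOK D) 88000 1000 12 = true := by decide +kernel
theorem c_fin_89 : allGrid (T.finOK D) 89000 1000 12 = true := by decide +kernel
theorem c_fin_90 : allGrid (T.finOK D) 90000 1000 12 = true := by decide +kernel
theorem c_fin_91 : allGrid (T.finOK D) 91000 1000 12 = true := by decide +kernel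
theorem c_fin_92 : allGrid (T.finOK D) 92000 1000 12 = true := by decide +kernel
theorem c_fin_93 : allGrid (T.finOK D) 93000 1000 12 = true := by decide +kernel
theorem c_fin_94 : allGrid (T.finOK D) 94000 1000 12 = true := by decide +kernel

end Cfsg.Agent.Lib.Helper4.TCD.Fi24a
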