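import Cfsg.Agent.Lib.Helper4.TCD_Fi24a_Acc

namespace Cfsg.Agent.Lib.Helper4.TCD.Fi24a

open Cfsg.Agent.Lib.Helper4.TC

set_option maxRecDepth 100000
set_option Elab.async false

theorem c_act79_886 : allRange (fun i => Nat.beq (actR79 i) i) 223272 252 = true := by decide +kernel
theorem c_act79_887 : allRange (fun i => Nat.beq (actR79 i) i) 223524 252 = true := by decide +kernel
theorem c_act79_888 : allRange (fun i => Nat.beq (actR79 i) i) 223776 252 = true := by decide +kernel
theorem c_act79_889 : allRange (fun i => Nat.beq (actR79 i) i) 224028 252 = true := by decide +kernel
theorem c_act79_890 : allRange (fun i => Nat.beq (actR79 i) i) 224280 252 = true := by decide +kernel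
theorem c_act79_891 : allRange (fun i => Nat.beq (actR79 i) i) 224532 252 = true := by decide +kernel
theorem c_act79_892 : allRange (fun i => Nat.beq (actR79 i) i) 224784 252 = true := by decide +kernel
theorem c_act79_893 : allRange (fun i => Nat.beq (actR79 i) i) 225036 252 = true := by decide +kernel
theorem c_act79_894 : allRange (fun i => Nat.beq (actR79 i) i) 225288 252 = true := by decide +kernel
theorem c_act79_895 : allRange (fun i => Nat.beq (actR79 i) i) 225540 252 = true := by decide +kernel
theorem c_act79_896 : allRange (fun i => Nat.beq (actR79 i) i) 225792 252 = true := by decide +kernel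
theorem c_act79_897 : allRange (fun i => Nat.beq (actR79 i) i) 226044 252 = true := by decide +kernel
theorem c_act79_898 : allRange (fun i => Nat.beq (actR79 i) i) 226296 252 = true := by decide +kernel
theorem c_act79_899 : allRange (fun i => Nat.beq (actR79 i) i) 226548 252 = true := by decide +kernel
theorem c_act79_900 : allRange (fun i => Nat.beq (actR79 i) i) 226800 252 = true := by decide +kernel
theorem c_act79_901 : allRange (fun i => Nat.beq (actR79 i) i) 227052 252 = true := by decide +kernel
theorem c_act79_902 : allRange (fun i => Nat.beq (actR79 i) i) 227304 252 = true := by decide +kernel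
theorem c_act79_903 : allRange (fun i => Nat.beq (actR79 i) i) 227556 252 = true := by decide +kernel
theorem c_act79_904 : allRange (fun i => Nat.beq (actR79 i) i) 227808 252 = true := by decide +kernel
theorem c_act79_905 : allRange (fun i => Nat.beq (actR79 i) i) 228060 252 = true := by decide +kernel
theorem c_act79_906 : allRange (fun i => Nat.beq (actR79 i) i) 228312 252 = true := by decide +kernel
theorem c_act79_907 : allRange (fun i => Nat.beq (actR79 i) i) 228564 252 = true := by decide +kernel
theorem c_act79_908 : allRange (fun i => Nat.beq (actR79 i) i) 228816 252 = true := by decide +kernel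
theorem c_act79_909 : allRange (fun i => Nat.beq (actR79 i) i) 229068 252 = true := by decide +kernel
theorem c_act79_910 : allRange (fun i => Nat.beq (actR79 i) i) 229320 252 = true := by decide +kernel
theorem c_act79_911 : allRange (fun i => Nat.beq (actR79 i) i) 229572 252 = true := by decide +kernel
theorem c_act79_912 : allRange (fun i => Nat.beq (actR79 i) i) 229824 252 = true := by decide +kernel
theorem c_act79_913 : allRange (fun i => Nat.beq (actR79 i) i) 230076 252 = true := by decide +kernel
theorem c_act79_914 : allRange (fun i => Nat.beq (actR79 i) i) 230328 252 = true := by decide +kernel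
theorem c_act79_915 : allRange (fun i => Nat.beq (actR79 i) i) 230580 252 = true := by decide +kernel
theorem c_act79_916 : allRange (fun i => Nat.beq (actR79 i) i) 230832 252 = true := by decide +kernel
theorem c_act79_917 : allRange (fun i => Nat.beq (actR79 i) i) 231084 252 = true := by decide +kernel
theorem c_act79_918 : allRange (fun i => Nat.beq (actR79 i) i) 231336 252 = true := by decide +kernel
theorem c_act79_919 : allRange (fun i => Nat.beq (actR79 i) i) 231588 252 = true := by decide +kernel
theorem c_act79_920 : allRange (fun i => Nat.beq (actR79 i) i) 231840 252 = true := by decide +kernel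
theorem c_act79_921 : allRange (fun i => Nat.beq (actR79 i) i) 232092 252 = true := by decide +kernel
theorem c_act79_922 : allRange (fun i => Nat.beq (actR79 i) i) 232344 252 = true := by decide +kernel
theorem c_act79_923 : allRange (fun i => Nat.beq (actR79 i) i) 232596 252 = true := by decide +kernel
theorem c_act79_924 : allRange (fun i => Nat.beq (actR79 i) i) 232848 252 = true := by decide +kernel
theorem c_act79_925 : allRange (fun i => Nat.beq (actR79 i) i) 233100 252 = true := by decide +kernel
theorem c_act79_926 : allRange (fun i => Nat.beq (actR79 i) i) 233352 252 = true := by decide +kernel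
theorem c_act79_927 : allRange (fun i => Nat.beq (actR79 i) i) 233604 252 = true := by decide +kernel
theorem c_act79_928 : allRange (fun i => Nat.beq (actR79 i) i) 233856 252 = true := by decide +kernel
theorem c_act79_929 : allRange (fun i => Nat.beq (actR79 i) i) 234108 252 = true := by decide +kernel
theorem c_act79_930 : allRange (fun i => Nat.beq (actR79 i) i) 234360 252 = true := by decide +kernel
theorem c_act79_931 : allRange (fun i => Nat.beq (actR79 i) i) 234612 252 = true := by decide +kernel
theorem c_act79_932 : allRange (fun i => Nat.beq (actR79 i) i) 234864 252 = true := by decide +kernel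
theorem c_act79_933 : allRange (fun i => Nat.beq (actR79 i) i) 235116 252 = true := by decide +kernel
theorem c_act79_934 : allRange (fun i => Nat.beq (actR79 i) i) 235368 252 = true := by decide +kernel
theorem c_act79_935 : allRange (fun i => Nat.beq (actR79 i) i) 235620 252 = true := by decide +kernel

end Cfsg.Agent.Lib.Helper4.TCD.Fi24a
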