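import Cfsg.Agent.Lib.Helper4.TCD_Fi24a_Acc

namespace Cfsg.Agent.Lib.Helper4.TCD.Fi24a

open Cfsg.Agent.Lib.Helper4.TC

set_option maxRecDepth 100000
set_option Elab.async false

theorem c_act79_936 : allRange (fun i => Nat.beq (actR79 i) i) 235872 252 = true := by decide +kernel
theorem c_act79_937 : allRange (fun i => Nat.beq (actR79 i) i) 236124 252 = true := by decide +kernel
theorem c_act79_938 : allRange (fun i => Nat.beq (actR79 i) i) 236376 252 = true := by decide +kernel
theorem c_act79_939 : allRange (fun i => Nat.beq (actR79 i) i) 236628 252 = true := by decide +kernel
theorem c_act79_940 : allRange (fun i => Nat.beq (actR79 i) i) 236880 252 = true := by decide +kernel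
theorem c_act79_941 : allRange (fun i => Nat.beq (actR79 i) i) 237132 252 = true := by decide +kernel
theorem c_act79_942 : allRange (fun i => Nat.beq (actR79 i) i) 237384 252 = true := by decide +kernel
theorem c_act79_943 : allRange (fun i => Nat.beq (actR79 i) i) 237636 252 = true := by decide +kernel
theorem c_act79_944 : allRange (fun i => Nat.beq (actR79 i) i) 237888 252 = true := by decide +kernel
theorem c_act79_945 : allRange (fun i => Nat.beq (actR79 i) i) 238140 252 = true := by decide +kernel
theorem c_act79_946 : allRange (fun i => Nat.beq (actR79 i) i) 238392 252 = true := by decide +kernel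
theorem c_act79_947 : allRange (fun i => Nat.beq (actR79 i) i) 238644 252 = true := by decide +kernel
theorem c_act79_948 : allRange (fun i => Nat.beq (actR79 i) i) 238896 252 = true := by decide +kernel
theorem c_act79_949 : allRange (fun i => Nat.beq (actR79 i) i) 239148 252 = true := by decide +kernel
theorem c_act79_950 : allRange (fun i => Nat.beq (actR79 i) i) 239400 252 = true := by decide +kernel
theorem c_act79_951 : allRange (fun i => Nat.beq (actR79 i) i) 239652 252 = true := by decide +kernel
theorem c_act79_952 : allRange (fun i => Nat.beq (actR79 i) i) 239904 252 = true := by decide +kernel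
theorem c_act79_953 : allRange (fun i => Nat.beq (actR79 i) i) 240156 252 = true := by decide +kernel
theorem c_act79_954 : allRange (fun i => Nat.beq (actR79 i) i) 240408 252 = true := by decide +kernel
theorem c_act79_955 : allRange (fun i => Nat.beq (actR79 i) i) 240660 252 = true := by decide +kernel
theorem c_act79_956 : allRange (fun i => Nat.beq (actR79 i) i) 240912 252 = true := by decide +kernel
theorem c_act79_957 : allRange (fun i => Nat.beq (actR79 i) i) 241164 252 = true := by decide +kernel
theorem c_act79_958 : allRange (fun i => Nat.beq (actR79 i) i) 241416 252 = true := by decide +kernel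
theorem c_act79_959 : allRange (fun i => Nat.beq (actR79 i) i) 241668 252 = true := by decide +kernel
theorem c_act79_960 : allRange (fun i => Nat.beq (actR79 i) i) 241920 252 = true := by decide +kernel
theorem c_act79_961 : allRange (fun i => Nat.beq (actR79 i) i) 242172 252 = true := by decide +kernel
theorem c_act79_962 : allRange (fun i => Nat.beq (actR79 i) i) 242424 252 = true := by decide +kernel
theorem c_act79_963 : allRange (fun i => Nat.beq (actR79 i) i) 242676 252 = true := by decide +kernel
theorem c_act79_964 : allRange (fun i => Nat.beq (actR79 i) i) 242928 252 = true := by decide +kernel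
theorem c_act79_965 : allRange (fun i => Nat.beq (actR79 i) i) 243180 252 = true := by decide +kernel
theorem c_act79_966 : allRange (fun i => Nat.beq (actR79 i) i) 243432 252 = true := by decide +kernel
theorem c_act79_967 : allRange (fun i => Nat.beq (actR79 i) i) 243684 252 = true := by decide +kernel
theorem c_act79_968 : allRange (fun i => Nat.beq (actR79 i) i) 243936 252 = true := by decide +kernel
theorem c_act79_969 : allRange (fun i => Nat.beq (actR79 i) i) 244188 252 = true := by decide +kernel
theorem c_act79_970 : allRange (fun i => Nat.beq (actR79 i) i) 244440 252 = true := by decide +kernel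
theorem c_act79_971 : allRange (fun i => Nat.beq (actR79 i) i) 244692 252 = true := by decide +kernel
theorem c_act79_972 : allRange (fun i => Nat.beq (actR79 i) i) 244944 252 = true := by decide +kernel
theorem c_act79_973 : allRange (fun i => Nat.beq (actR79 i) i) 245196 252 = true := by decide +kernel
theorem c_act79_974 : allRange (fun i => Nat.beq (actR79 i) i) 245448 252 = true := by decide +kernel
theorem c_act79_975 : allRange (fun i => Nat.beq (actR79 i) i) 245700 252 = true := by decide +kernel
theorem c_act79_976 : allRange (fun i => Nat.beq (actR79 i) i) 245952 252 = true := by decide +kernel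
theorem c_act79_977 : allRange (fun i => Nat.beq (actR79 i) i) 246204 252 = true := by decide +kernel
theorem c_act79_978 : allRange (fun i => Nat.beq (actR79 i) i) 246456 252 = true := by decide +kernel
theorem c_act79_979 : allRange (fun i => Nat.beq (actR79 i) i) 246708 252 = true := by decide +kernel
theorem c_act79_980 : allRange (fun i => Nat.beq (actR79 i) i) 246960 252 = true := by decide +kernel
theorem c_act79_981 : allRange (fun i => Nat.beq (actR79 i) i) 247212 252 = true := by decide +kernel
theorem c_act79_982 : allRange (fun i => Nat.beq (actR79 i) i) 247464 252 = true := by decide +kernel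
theorem c_act79_983 : allRange (fun i => Nat.beq (actR79 i) i) 247716 252 = true := by decide +kernel
theorem c_act79_984 : allRange (fun i => Nat.beq (actR79 i) i) 247968 252 = true := by decide +kernel
theorem c_act79_985 : allRange (fun i => Nat.beq (actR79 i) i) 248220 252 = true := by decide +kernel

end Cfsg.Agent.Lib.Helper4.TCD.Fi24a
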