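import Cfsg.Agent.Lib.Helper4.TCD_Fi24a_Acc

namespace Cfsg.Agent.Lib.Helper4.TCD.Fi24a

open Cfsg.Agent.Lib.Helper4.TC

set_option maxRecDepth 100000
set_option Elab.async false

theorem c_act79_986 : allRange (fun i => Nat.beq (actR79 i) i) 248472 252 = true := by decide +kernel
theorem c_act79_987 : allRange (fun i => Nat.beq (actR79 i) i) 248724 252 = true := by decide +kernel
theorem c_act79_988 : allRange (fun i => Nat.beq (actR79 i) i) 248976 252 = true := by decide +kernel
theorem c_act79_989 : allRange (fun i => Nat.beq (actR79 i) i) 249228 252 = true := by decide +kernel
theorem c_act79_990 : allRange (fun i => Nat.beq (actR79 i) i) 249480 252 = true := by decide +kernel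
theorem c_act79_991 : allRange (fun i => Nat.beq (actR79 i) i) 249732 252 = true := by decide +kernel
theorem c_act79_992 : allRange (fun i => Nat.beq (actR79 i) i) 249984 252 = true := by decide +kernel
theorem c_act79_993 : allRange (fun i => Nat.beq (actR79 i) i) 250236 252 = true := by decide +kernel
theorem c_act79_994 : allRange (fun i => Nat.beq (actR79 i) i) 250488 252 = true := by decide +kernel
theorem c_act79_995 : allRange (fun i => Nat.beq (actR79 i) i) 250740 252 = true := by decide +kernel
theorem c_act79_996 : allRange (fun i => Nat.beq (actR79 i) i) 250992 252 = true := by decide +kernel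
theorem c_act79_997 : allRange (fun i => Nat.beq (actR79 i) i) 251244 252 = true := by decide +kernel
theorem c_act79_998 : allRange (fun i => Nat.beq (actR79 i) i) 251496 252 = true := by decide +kernel
theorem c_act79_999 : allRange (fun i => Nat.beq (actR79 i) i) 251748 252 = true := by decide +kernel
theorem c_act79_1000 : allRange (fun i => Nat.beq (actR79 i) i) 252000 252 = true := by decide +kernel
theorem c_act79_1001 : allRange (fun i => Nat.beq (actR79 i) i) 252252 252 = true := by decide +kernel
theorem c_act79_1002 : allRange (fun i => Nat.beq (actR79 i) i) 252504 252 = true := by decide +kernel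
theorem c_act79_1003 : allRange (fun i => Nat.beq (actR79 i) i) 252756 252 = true := by decide +kernel
theorem c_act79_1004 : allRange (fun i => Nat.beq (actR79 i) i) 253008 252 = true := by decide +kernel
theorem c_act79_1005 : allRange (fun i => Nat.beq (actR79 i) i) 253260 252 = true := by decide +kernel
theorem c_act79_1006 : allRange (fun i => Nat.beq (actR79 i) i) 253512 252 = true := by decide +kernel
theorem c_act79_1007 : allRange (fun i => Nat.beq (actR79 i) i) 253764 252 = true := by decide +kernel
theorem c_act79_1008 : allRange (fun i => Nat.beq (actR79 i) i) 254016 252 = true := by decide +kernel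
theorem c_act79_1009 : allRange (fun i => Nat.beq (actR79 i) i) 254268 252 = true := by decide +kernel
theorem c_act79_1010 : allRange (fun i => Nat.beq (actR79 i) i) 254520 252 = true := by decide +kernel
theorem c_act79_1011 : allRange (fun i => Nat.beq (actR79 i) i) 254772 252 = true := by decide +kernel
theorem c_act79_1012 : allRange (fun i => Nat.beq (actR79 i) i) 255024 252 = true := by decide +kernel
theorem c_act79_1013 : allRange (fun i => Nat.beq (actR79 i) i) 255276 252 = true := by decide +kernel
theorem c_act79_1014 : allRange (fun i => Nat.beq (actR79 i) i) 255528 252 = true := by decide +kernel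
theorem c_act79_1015 : allRange (fun i => Nat.beq (actR79 i) i) 255780 252 = true := by decide +kernel
theorem c_act79_1016 : allRange (fun i => Nat.beq (actR79 i) i) 256032 252 = true := by decide +kernel
theorem c_act79_1017 : allRange (fun i => Nat.beq (actR79 i) i) 256284 252 = true := by decide +kernel
theorem c_act79_1018 : allRange (fun i => Nat.beq (actR79 i) i) 256536 252 = true := by decide +kernel
theorem c_act79_1019 : allRange (fun i => Nat.beq (actR79 i) i) 256788 252 = true := by decide +kernel
theorem c_act79_1020 : allRange (fun i => Nat.beq (actR79 i) i) 257040 252 = true := by decide +kernel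
theorem c_act79_1021 : allRange (fun i => Nat.beq (actR79 i) i) 257292 252 = true := by decide +kernel
theorem c_act79_1022 : allRange (fun i => Nat.beq (actR79 i) i) 257544 252 = true := by decide +kernel
theorem c_act79_1023 : allRange (fun i => Nat.beq (actR79 i) i) 257796 252 = true := by decide +kernel
theorem c_act79_1024 : allRange (fun i => Nat.beq (actR79 i) i) 258048 252 = true := by decide +kernel
theorem c_act79_1025 : allRange (fun i => Nat.beq (actR79 i) i) 258300 252 = true := by decide +kernel
theorem c_act79_1026 : allRange (fun i => Nat.beq (actR79 i) i) 258552 252 = true := by decide +kernel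
theorem c_act79_1027 : allRange (fun i => Nat.beq (actR79 i) i) 258804 252 = true := by decide +kernel
theorem c_act79_1028 : allRange (fun i => Nat.beq (actR79 i) i) 259056 252 = true := by decide +kernel
theorem c_act79_1029 : allRange (fun i => Nat.beq (actR79 i) i) 259308 252 = true := by decide +kernel
theorem c_act79_1030 : allRange (fun i => Nat.beq (actR79 i) i) 259560 252 = true := by decide +kernel
theorem c_act79_1031 : allRange (fun i => Nat.beq (actR79 i) i) 259812 252 = true := by decide +kernel
theorem c_act79_1032 : allRange (fun i => Nat.beq (actR79 i) i) 260064 252 = true := by decide +kernel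
theorem c_act79_1033 : allRange (fun i => Nat.beq (actR79 i) i) 260316 252 = true := by decide +kernel
theorem c_act79_1034 : allRange (fun i => Nat.beq (actR79 i) i) 260568 252 = true := by decide +kernel
theorem c_act79_1035 : allRange (fun i => Nat.beq (actR79 i) i) 260820 252 = true := by decide +kernel

end Cfsg.Agent.Lib.Helper4.TCD.Fi24a
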