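import Cfsg.Agent.Lib.Helper4.TCD_Fi24a_Acc

namespace Cfsg.Agent.Lib.Helper4.TCD.Fi24a

open Cfsg.Agent.Lib.Helper4.TC

set_option maxRecDepth 100000
set_option Elab.async false

theorem c_act79_1036 : allRange (fun i => Nat.beq (actR79 i) i) 261072 252 = true := by decide +kernel
theorem c_act79_1037 : allRange (fun i => Nat.beq (actR79 i) i) 261324 252 = true := by decide +kernel
theorem c_act79_1038 : allRange (fun i => Nat.beq (actR79 i) i) 261576 252 = true := by decide +kernel
theorem c_act79_1039 : allRange (fun i => Nat.beq (actR79 i) i) 261828 252 = true := by decide +kernel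
theorem c_act79_1040 : allRange (fun i => Nat.beq (actR79 i) i) 262080 252 = true := by decide +kernel
theorem c_act79_1041 : allRange (fun i => Nat.beq (actR79 i) i) 262332 252 = true := by decide +kernel
theorem c_act79_1042 : allRange (fun i => Nat.beq (actR79 i) i) 262584 252 = true := by decide +kernel
theorem c_act79_1043 : allRange (fun i => Nat.beq (actR79 i) i) 262836 252 = true := by decide +kernel
theorem c_act79_1044 : allRange (fun i => Nat.beq (actR79 i) i) 263088 252 = true := by decide +kernel
theorem c_act79_1045 : allRange (fun i => Nat.beq (actR79 i) i) 263340 252 = true := by decide +kernel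
theorem c_act79_1046 : allRange (fun i => Nat.beq (actR79 i) i) 263592 252 = true := by decide +kernel
theorem c_act79_1047 : allRange (fun i => Nat.beq (actR79 i) i) 263844 252 = true := by decide +kernel
theorem c_act79_1048 : allRange (fun i => Nat.beq (actR79 i) i) 264096 252 = true := by decide +kernel
theorem c_act79_1049 : allRange (fun i => Nat.beq (actR79 i) i) 264348 252 = true := by decide +kernel
theorem c_act79_1050 : allRange (fun i => Nat.beq (actR79 i) i) 264600 252 = true := by decide +kernel
theorem c_act79_1051 : allRange (fun i => Nat.beq (actR79 i) i) 264852 252 = true := by decide +kernel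
theorem c_act79_1052 : allRange (fun i => Nat.beq (actR79 i) i) 265104 252 = true := by decide +kernel
theorem c_act79_1053 : allRange (fun i => Nat.beq (actR79 i) i) 265356 252 = true := by decide +kernel
theorem c_act79_1054 : allRange (fun i => Nat.beq (actR79 i) i) 265608 252 = true := by decide +kernel
theorem c_act79_1055 : allRange (fun i => Nat.beq (actR79 i) i) 265860 252 = true := by decide +kernel
theorem c_act79_1056 : allRange (fun i => Nat.beq (actR79 i) i) 266112 252 = true := by decide +kernel
theorem c_act79_1057 : allRange (fun i => Nat.beq (actR79 i) i) 266364 252 = true := by decide +kernel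
theorem c_act79_1058 : allRange (fun i => Nat.beq (actR79 i) i) 266616 252 = true := by decide +kernel
theorem c_act79_1059 : allRange (fun i => Nat.beq (actR79 i) i) 266868 252 = true := by decide +kernel
theorem c_act79_1060 : allRange (fun i => Nat.beq (actR79 i) i) 267120 252 = true := by decide +kernel
theorem c_act79_1061 : allRange (fun i => Nat.beq (actR79 i) i) 267372 252 = true := by decide +kernel
theorem c_act79_1062 : allRange (fun i => Nat.beq (actR79 i) i) 267624 252 = true := by decide +kernel
theorem c_act79_1063 : allRange (fun i => Nat.beq (actR79 i) i) 267876 252 = true := by decide +kernel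
theorem c_act79_1064 : allRange (fun i => Nat.beq (actR79 i) i) 268128 252 = true := by decide +kernel
theorem c_act79_1065 : allRange (fun i => Nat.beq (actR79 i) i) 268380 252 = true := by decide +kernel
theorem c_act79_1066 : allRange (fun i => Nat.beq (actR79 i) i) 268632 252 = true := by decide +kernel
theorem c_act79_1067 : allRange (fun i => Nat.beq (actR79 i) i) 268884 252 = true := by decide +kernel
theorem c_act79_1068 : allRange (fun i => Nat.beq (actR79 i) i) 269136 252 = true := by decide +kernel
theorem c_act79_1069 : allRange (fun i => Nat.beq (actR79 i) i) 269388 252 = true := by decide +kernel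
theorem c_act79_1070 : allRange (fun i => Nat.beq (actR79 i) i) 269640 252 = true := by decide +kernel
theorem c_act79_1071 : allRange (fun i => Nat.beq (actR79 i) i) 269892 252 = true := by decide +kernel
theorem c_act79_1072 : allRange (fun i => Nat.beq (actR79 i) i) 270144 252 = true := by decide +kernel
theorem c_act79_1073 : allRange (fun i => Nat.beq (actR79 i) i) 270396 252 = true := by decide +kernel
theorem c_act79_1074 : allRange (fun i => Nat.beq (actR79 i) i) 270648 252 = true := by decide +kernel
theorem c_act79_1075 : allRange (fun i => Nat.beq (actR79 i) i) 270900 252 = true := by decide +kernel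
theorem c_act79_1076 : allRange (fun i => Nat.beq (actR79 i) i) 271152 252 = true := by decide +kernel
theorem c_act79_1077 : allRange (fun i => Nat.beq (actR79 i) i) 271404 252 = true := by decide +kernel
theorem c_act79_1078 : allRange (fun i => Nat.beq (actR79 i) i) 271656 252 = true := by decide +kernel
theorem c_act79_1079 : allRange (fun i => Nat.beq (actR79 i) i) 271908 252 = true := by decide +kernel
theorem c_act79_1080 : allRange (fun i => Nat.beq (actR79 i) i) 272160 252 = true := by decide +kernel
theorem c_act79_1081 : allRange (fun i => Nat.beq (actR79 i) i) 272412 252 = true := by decide +kernel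
theorem c_act79_1082 : allRange (fun i => Nat.beq (actR79 i) i) 272664 252 = true := by decide +kernel
theorem c_act79_1083 : allRange (fun i => Nat.beq (actR79 i) i) 272916 252 = true := by decide +kernel
theorem c_act79_1084 : allRange (fun i => Nat.beq (actR79 i) i) 273168 252 = true := by decide +kernel
theorem c_act79_1085 : allRange (fun i => Nat.beq (actR79 i) i) 273420 252 = true := by decide +kernel

end Cfsg.Agent.Lib.Helper4.TCD.Fi24a
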