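import Cfsg.Agent.Lib.Helper4.TCD_Fi24a_Acc

namespace Cfsg.Agent.Lib.Helper4.TCD.Fi24a

open Cfsg.Agent.Lib.Helper4.TC

set_option maxRecDepth 100000
set_option Elab.async false

theorem c_act79_1086 : allRange (fun i => Nat.beq (actR79 i) i) 273672 252 = true := by decide +kernel
theorem c_act79_1087 : allRange (fun i => Nat.beq (actR79 i) i) 273924 252 = true := by decide +kernel
theorem c_act79_1088 : allRange (fun i => Nat.beq (actR79 i) i) 274176 252 = true := by decide +kernel
theorem c_act79_1089 : allRange (fun i => Nat.beq (actR79 i) i) 274428 252 = true := by decide +kernel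
theorem c_act79_1090 : allRange (fun i => Nat.beq (actR79 i) i) 274680 252 = true := by decide +kernel
theorem c_act79_1091 : allRange (fun i => Nat.beq (actR79 i) i) 274932 252 = true := by decide +kernel
theorem c_act79_1092 : allRange (fun i => Nat.beq (actR79 i) i) 275184 252 = true := by decide +kernel
theorem c_act79_1093 : allRange (fun i => Nat.beq (actR79 i) i) 275436 252 = true := by decide +kernel
theorem c_act79_1094 : allRange (fun i => Nat.beq (actR79 i) i) 275688 252 = true := by decide +kernel
theorem c_act79_1095 : allRange (fun i => Nat.beq (actR79 i) i) 275940 252 = true := by decide +kernel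
theorem c_act79_1096 : allRange (fun i => Nat.beq (actR79 i) i) 276192 252 = true := by decide +kernel
theorem c_act79_1097 : allRange (fun i => Nat.beq (actR79 i) i) 276444 252 = true := by decide +kernel
theorem c_act79_1098 : allRange (fun i => Nat.beq (actR79 i) i) 276696 252 = true := by decide +kernel
theorem c_act79_1099 : allRange (fun i => Nat.beq (actR79 i) i) 276948 252 = true := by decide +kernel
theorem c_act79_1100 : allRange (fun i => Nat.beq (actR79 i) i) 277200 252 = true := by decide +kernel
theorem c_act79_1101 : allRange (fun i => Nat.beq (actR79 i) i) 277452 252 = true := by decide +kernel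
theorem c_act79_1102 : allRange (fun i => Nat.beq (actR79 i) i) 277704 252 = true := by decide +kernel
theorem c_act79_1103 : allRange (fun i => Nat.beq (actR79 i) i) 277956 252 = true := by decide +kernel
theorem c_act79_1104 : allRange (fun i => Nat.beq (actR79 i) i) 278208 252 = true := by decide +kernel
theorem c_act79_1105 : allRange (fun i => Nat.beq (actR79 i) i) 278460 252 = true := by decide +kernel
theorem c_act79_1106 : allRange (fun i => Nat.beq (actR79 i) i) 278712 252 = true := by decide +kernel
theorem c_act79_1107 : allRange (fun i => Nat.beq (actR79 i) i) 278964 252 = true := by decide +kernel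
theorem c_act79_1108 : allRange (fun i => Nat.beq (actR79 i) i) 279216 252 = true := by decide +kernel
theorem c_act79_1109 : allRange (fun i => Nat.beq (actR79 i) i) 279468 252 = true := by decide +kernel
theorem c_act79_1110 : allRange (fun i => Nat.beq (actR79 i) i) 279720 252 = true := by decide +kernel
theorem c_act79_1111 : allRange (fun i => Nat.beq (actR79 i) i) 279972 252 = true := by decide +kernel
theorem c_act79_1112 : allRange (fun i => Nat.beq (actR79 i) i) 280224 252 = true := by decide +kernel
theorem c_act79_1113 : allRange (fun i => Nat.beq (actR79 i) i) 280476 252 = true := by decide +kernel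
theorem c_act79_1114 : allRange (fun i => Nat.beq (actR79 i) i) 280728 252 = true := by decide +kernel
theorem c_act79_1115 : allRange (fun i => Nat.beq (actR79 i) i) 280980 252 = true := by decide +kernel
theorem c_act79_1116 : allRange (fun i => Nat.beq (actR79 i) i) 281232 252 = true := by decide +kernel
theorem c_act79_1117 : allRange (fun i => Nat.beq (actR79 i) i) 281484 252 = true := by decide +kernel
theorem c_act79_1118 : allRange (fun i => Nat.beq (actR79 i) i) 281736 252 = true := by decide +kernel
theorem c_act79_1119 : allRange (fun i => Nat.beq (actR79 i) i) 281988 252 = true := by decide +kernel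
theorem c_act79_1120 : allRange (fun i => Nat.beq (actR79 i) i) 282240 252 = true := by decide +kernel
theorem c_act79_1121 : allRange (fun i => Nat.beq (actR79 i) i) 282492 252 = true := by decide +kernel
theorem c_act79_1122 : allRange (fun i => Nat.beq (actR79 i) i) 282744 252 = true := by decide +kernel
theorem c_act79_1123 : allRange (fun i => Nat.beq (actR79 i) i) 282996 252 = true := by decide +kernel
theorem c_act79_1124 : allRange (fun i => Nat.beq (actR79 i) i) 283248 252 = true := by decide +kernel
theorem c_act79_1125 : allRange (fun i => Nat.beq (actR79 i) i) 283500 252 = true := by decide +kernel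
theorem c_act79_1126 : allRange (fun i => Nat.beq (actR79 i) i) 283752 252 = true := by decide +kernel
theorem c_act79_1127 : allRange (fun i => Nat.beq (actR79 i) i) 284004 252 = true := by decide +kernel
theorem c_act79_1128 : allRange (fun i => Nat.beq (actR79 i) i) 284256 252 = true := by decide +kernel
theorem c_act79_1129 : allRange (fun i => Nat.beq (actR79 i) i) 284508 252 = true := by decide +kernel
theorem c_act79_1130 : allRange (fun i => Nat.beq (actR79 i) i) 284760 252 = true := by decide +kernel
theorem c_act79_1131 : allRange (fun i => Nat.beq (actR79 i) i) 285012 252 = true := by decide +kernel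
theorem c_act79_1132 : allRange (fun i => Nat.beq (actR79 i) i) 285264 252 = true := by decide +kernel
theorem c_act79_1133 : allRange (fun i => Nat.beq (actR79 i) i) 285516 252 = true := by decide +kernel
theorem c_act79_1134 : allRange (fun i => Nat.beq (actR79 i) i) 285768 252 = true := by decide +kernel
theorem c_act79_1135 : allRange (fun i => Nat.beq (actR79 i) i) 286020 252 = true := by decide +kernel

end Cfsg.Agent.Lib.Helper4.TCD.Fi24a
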