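import Cfsg.Agent.Lib.Helper4.TCD_Fi24a_Acc

namespace Cfsg.Agent.Lib.Helper4.TCD.Fi24a

open Cfsg.Agent.Lib.Helper4.TC

set_option maxRecDepth 100000
set_option Elab.async false

theorem c_act79_1136 : allRange (fun i => Nat.beq (actR79 i) i) 286272 252 = true := by decide +kernel
theorem c_act79_1137 : allRange (fun i => Nat.beq (actR79 i) i) 286524 252 = true := by decide +kernel
theorem c_act79_1138 : allRange (fun i => Nat.beq (actR79 i) i) 286776 252 = true := by decide +kernel
theorem c_act79_1139 : allRange (fun i => Nat.beq (actR79 i) i) 287028 252 = true := by decide +kernel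
theorem c_act79_1140 : allRange (fun i => Nat.beq (actR79 i) i) 287280 252 = true := by decide +kernel
theorem c_act79_1141 : allRange (fun i => Nat.beq (actR79 i) i) 287532 252 = true := by decide +kernel
theorem c_act79_1142 : allRange (fun i => Nat.beq (actR79 i) i) 287784 252 = true := by decide +kernel
theorem c_act79_1143 : allRange (fun i => Nat.beq (actR79 i) i) 288036 252 = true := by decide +kernel
theorem c_act79_1144 : allRange (fun i => Nat.beq (actR79 i) i) 288288 252 = true := by decide +kernel
theorem c_act79_1145 : allRange (fun i => Nat.beq (actR79 i) i) 288540 252 = true := by decide +kernel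
theorem c_act79_1146 : allRange (fun i => Nat.beq (actR79 i) i) 288792 252 = true := by decide +kernel
theorem c_act79_1147 : allRange (fun i => Nat.beq (actR79 i) i) 289044 252 = true := by decide +kernel
theorem c_act79_1148 : allRange (fun i => Nat.beq (actR79 i) i) 289296 252 = true := by decide +kernel
theorem c_act79_1149 : allRange (fun i => Nat.beq (actR79 i) i) 289548 252 = true := by decide +kernel
theorem c_act79_1150 : allRange (fun i => Nat.beq (actR79 i) i) 289800 252 = true := by decide +kernel
theorem c_act79_1151 : allRange (fun i => Nat.beq (actR79 i) i) 290052 252 = true := by decide +kernel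
theorem c_act79_1152 : allRange (fun i => Nat.beq (actR79 i) i) 290304 252 = true := by decide +kernel
theorem c_act79_1153 : allRange (fun i => Nat.beq (actR79 i) i) 290556 252 = true := by decide +kernel
theorem c_act79_1154 : allRange (fun i => Nat.beq (actR79 i) i) 290808 252 = true := by decide +kernel
theorem c_act79_1155 : allRange (fun i => Nat.beq (actR79 i) i) 291060 252 = true := by decide +kernel
theorem c_act79_1156 : allRange (fun i => Nat.beq (actR79 i) i) 291312 252 = true := by decide +kernel
theorem c_act79_1157 : allRange (fun i => Nat.beq (actR79 i) i) 291564 252 = true := by decide +kernel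
theorem c_act79_1158 : allRange (fun i => Nat.beq (actR79 i) i) 291816 252 = true := by decide +kernel
theorem c_act79_1159 : allRange (fun i => Nat.beq (actR79 i) i) 292068 252 = true := by decide +kernel
theorem c_act79_1160 : allRange (fun i => Nat.beq (actR79 i) i) 292320 252 = true := by decide +kernel
theorem c_act79_1161 : allRange (fun i => Nat.beq (actR79 i) i) 292572 252 = true := by decide +kernel
theorem c_act79_1162 : allRange (fun i => Nat.beq (actR79 i) i) 292824 252 = true := by decide +kernel
theorem c_act79_1163 : allRange (fun i => Nat.beq (actR79 i) i) 293076 252 = true := by decide +kernel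
theorem c_act79_1164 : allRange (fun i => Nat.beq (actR79 i) i) 293328 252 = true := by decide +kernel
theorem c_act79_1165 : allRange (fun i => Nat.beq (actR79 i) i) 293580 252 = true := by decide +kernel
theorem c_act79_1166 : allRange (fun i => Nat.beq (actR79 i) i) 293832 252 = true := by decide +kernel
theorem c_act79_1167 : allRange (fun i => Nat.beq (actR79 i) i) 294084 252 = true := by decide +kernel
theorem c_act79_1168 : allRange (fun i => Nat.beq (actR79 i) i) 294336 252 = true := by decide +kernel
theorem c_act79_1169 : allRange (fun i => Nat.beq (actR79 i) i) 294588 252 = true := by decide +kernel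
theorem c_act79_1170 : allRange (fun i => Nat.beq (actR79 i) i) 294840 252 = true := by decide +kernel
theorem c_act79_1171 : allRange (fun i => Nat.beq (actR79 i) i) 295092 252 = true := by decide +kernel
theorem c_act79_1172 : allRange (fun i => Nat.beq (actR79 i) i) 295344 252 = true := by decide +kernel
theorem c_act79_1173 : allRange (fun i => Nat.beq (actR79 i) i) 295596 252 = true := by decide +kernel
theorem c_act79_1174 : allRange (fun i => Nat.beq (actR79 i) i) 295848 252 = true := by decide +kernel
theorem c_act79_1175 : allRange (fun i => Nat.beq (actR79 i) i) 296100 252 = true := by decide +kernel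
theorem c_act79_1176 : allRange (fun i => Nat.beq (actR79 i) i) 296352 252 = true := by decide +kernel
theorem c_act79_1177 : allRange (fun i => Nat.beq (actR79 i) i) 296604 252 = true := by decide +kernel
theorem c_act79_1178 : allRange (fun i => Nat.beq (actR79 i) i) 296856 252 = true := by decide +kernel
theorem c_act79_1179 : allRange (fun i => Nat.beq (actR79 i) i) 297108 252 = true := by decide +kernel
theorem c_act79_1180 : allRange (fun i => Nat.beq (actR79 i) i) 297360 252 = true := by decide +kernel
theorem c_act79_1181 : allRange (fun i => Nat.beq (actR79 i) i) 297612 252 = true := by decide +kernel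
theorem c_act79_1182 : allRange (fun i => Nat.beq (actR79 i) i) 297864 252 = true := by decide +kernel
theorem c_act79_1183 : allRange (fun i => Nat.beq (actR79 i) i) 298116 252 = true := by decide +kernel
theorem c_act79_1184 : allRange (fun i => Nat.beq (actR79 i) i) 298368 252 = true := by decide +kernel
theorem c_act79_1185 : allRange (fun i => Nat.beq (actR79 i) i) 298620 252 = true := by decide +kernel

end Cfsg.Agent.Lib.Helper4.TCD.Fi24a
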