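import Cfsg.Agent.Lib.Helper4.TCD_Fi24a_Acc

namespace Cfsg.Agent.Lib.Helper4.TCD.Fi24a

open Cfsg.Agent.Lib.Helper4.TC

set_option maxRecDepth 100000
set_option Elab.async false

theorem c_act79_1186 : allRange (fun i => Nat.beq (actR79 i) i) 298872 252 = true := by decide +kernel
theorem c_act79_1187 : allRange (fun i => Nat.beq (actR79 i) i) 299124 252 = true := by decide +kernel
theorem c_act79_1188 : allRange (fun i => Nat.beq (actR79 i) i) 299376 252 = true := by decide +kernel
theorem c_act79_1189 : allRange (fun i => Nat.beq (actR79 i) i) 299628 252 = true := by decide +kernel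
theorem c_act79_1190 : allRange (fun i => Nat.beq (actR79 i) i) 299880 252 = true := by decide +kernel
theorem c_act79_1191 : allRange (fun i => Nat.beq (actR79 i) i) 300132 252 = true := by decide +kernel
theorem c_act79_1192 : allRange (fun i => Nat.beq (actR79 i) i) 300384 252 = true := by decide +kernel
theorem c_act79_1193 : allRange (fun i => Nat.beq (actR79 i) i) 300636 252 = true := by decide +kernel
theorem c_act79_1194 : allRange (fun i => Nat.beq (actR79 i) i) 300888 252 = true := by decide +kernel
theorem c_act79_1195 : allRange (fun i => Nat.beq (actR79 i) i) 301140 252 = true := by decide +kernel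
theorem c_act79_1196 : allRange (fun i => Nat.beq (actR79 i) i) 301392 252 = true := by decide +kernel
theorem c_act79_1197 : allRange (fun i => Nat.beq (actR79 i) i) 301644 252 = true := by decide +kernel
theorem c_act79_1198 : allRange (fun i => Nat.beq (actR79 i) i) 301896 252 = true := by decide +kernel
theorem c_act79_1199 : allRange (fun i => Nat.beq (actR79 i) i) 302148 252 = true := by decide +kernel
theorem c_act79_1200 : allRange (fun i => Nat.beq (actR79 i) i) 302400 252 = true := by decide +kernel
theorem c_act79_1201 : allRange (fun i => Nat.beq (actR79 i) i) 302652 252 = true := by decide +kernel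
theorem c_act79_1202 : allRange (fun i => Nat.beq (actR79 i) i) 302904 252 = true := by decide +kernel
theorem c_act79_1203 : allRange (fun i => Nat.beq (actR79 i) i) 303156 252 = true := by decide +kernel
theorem c_act79_1204 : allRange (fun i => Nat.beq (actR79 i) i) 303408 252 = true := by decide +kernel
theorem c_act79_1205 : allRange (fun i => Nat.beq (actR79 i) i) 303660 252 = true := by decide +kernel
theorem c_act79_1206 : allRange (fun i => Nat.beq (actR79 i) i) 303912 252 = true := by decide +kernel
theorem c_act79_1207 : allRange (fun i => Nat.beq (actR79 i) i) 304164 252 = true := by decide +kernel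
theorem c_act79_1208 : allRange (fun i => Nat.beq (actR79 i) i) 304416 252 = true := by decide +kernel
theorem c_act79_1209 : allRange (fun i => Nat.beq (actR79 i) i) 304668 252 = true := by decide +kernel
theorem c_act79_1210 : allRange (fun i => Nat.beq (actR79 i) i) 304920 252 = true := by decide +kernel
theorem c_act79_1211 : allRange (fun i => Nat.beq (actR79 i) i) 305172 252 = true := by decide +kernel
theorem c_act79_1212 : allRange (fun i => Nat.beq (actR79 i) i) 305424 252 = true := by decide +kernel
theorem c_act79_1213 : allRange (fun i => Nat.beq (actR79 i) i) 305676 252 = true := by decide +kernel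
theorem c_act79_1214 : allRange (fun i => Nat.beq (actR79 i) i) 305928 252 = true := by decide +kernel
theorem c_act79_1215 : allRange (fun i => Nat.beq (actR79 i) i) 306180 252 = true := by decide +kernel
theorem c_act79_1216 : allRange (fun i => Nat.beq (actR79 i) i) 306432 252 = true := by decide +kernel
theorem c_act79_1217 : allRange (fun i => Nat.beq (actR79 i) i) 306684 252 = true := by decide +kernel

end Cfsg.Agent.Lib.Helper4.TCD.Fi24a
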