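import Cfsg.Agent.Lib.Helper4.TCD_Fi24a_Acc

namespace Cfsg.Agent.Lib.Helper4.TCD.Fi24a

open Cfsg.Agent.Lib.Helper4.TC

set_option maxRecDepth 100000
set_option Elab.async false

theorem c_fin_95 : allGrid (T.finOK D) 95000 1000 12 = true := by decide +kernel
theorem c_fin_96 : allGrid (T.finOK D) 96000 1000 12 = true := by decide +kernel
theorem c_fin_97 : allGrid (T.finOK D) 97000 1000 12 = true := by decide +kernel
theorem c_fin_98 : allGrid (T.finOK D) 98000 1000 12 = true := by decide +kernel
theorem c_fin_99 : allGrid (T.finOK D) 99000 1000 12 = true := by decide +kernel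
theorem c_fin_100 : allGrid (T.finOK D) 100000 1000 12 = true := by decide +kernel
theorem c_fin_101 : allGrid (T.finOK D) 101000 1000 12 = true := by decide +kernel
theorem c_fin_102 : allGrid (T.finOK D) 102000 1000 12 = true := by decide +kernel
theorem c_fin_103 : allGrid (T.finOK D) 103000 1000 12 = true := by decide +kernel
theorem c_fin_104 : allGrid (T.finOK D) 104000 1000 12 = true := by decide +kernel
theorem c_fin_105 : allGrid (T.finOK D) 105000 1000 12 = true := by decide +kernel
theorem c_fin_106 : allGrid (T.finOK D) 106000 1000 12 = true := by decide +kernel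
theorem c_fin_107 : allGrid (T.finOK D) 107000 1000 12 = true := by decide +kernel
theorem c_fin_108 : allGrid (T.finOK D) 108000 1000 12 = true := by decide +kernel
theorem c_fin_109 : allGrid (T.finOK D) 109000 1000 12 = true := by decide +kernel
theorem c_fin_110 : allGrid (T.finOK D) 110000 1000 12 = true := by decide +kernel
theorem c_fin_111 : allGrid (T.finOK D) 111000 1000 12 = true := by decide +kernel
theorem c_fin_112 : allGrid (T.finOK D) 112000 1000 12 = true := by decide +kernel
theorem c_fin_113 : allGrid (T.finOK D) 113000 1000 12 = true := by decide +kernel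
theorem c_fin_114 : allGrid (T.finOK D) 114000 1000 12 = true := by decide +kernel
theorem c_fin_115 : allGrid (T.finOK D) 115000 1000 12 = true := by decide +kernel
theorem c_fin_116 : allGrid (T.finOK D) 116000 1000 12 = true := by decide +kernel
theorem c_fin_117 : allGrid (T.finOK D) 117000 1000 12 = true := by decide +kernel
theorem c_fin_118 : allGrid (T.finOK D) 118000 1000 12 = true := by decide +kernel
theorem c_fin_119 : allGrid (T.finOK D) 119000 1000 12 = true := by decide +kernel
theorem c_fin_120 : allGrid (T.finOK D) 120000 1000 12 = true := by decide +kernel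
theorem c_fin_121 : allGrid (T.finOK D) 121000 1000 12 = true := by decide +kernel
theorem c_fin_122 : allGrid (T.finOK D) 122000 1000 12 = true := by decide +kernel
theorem c_fin_123 : allGrid (T.finOK D) 123000 1000 12 = true := by decide +kernel
theorem c_fin_124 : allGrid (T.finOK D) 124000 1000 12 = true := by decide +kernel
theorem c_fin_125 : allGrid (T.finOK D) 125000 1000 12 = true := by decide +kernel
theorem c_fin_126 : allGrid (T.finOK D) 126000 1000 12 = true := by decide +kernel
theorem c_fin_127 : allGrid (T.finOK D) 127000 1000 12 = true := by decide +kernel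
theorem c_fin_128 : allGrid (T.finOK D) 128000 1000 12 = true := by decide +kernel
theorem c_fin_129 : allGrid (T.finOK D) 129000 1000 12 = true := by decide +kernel
theorem c_fin_130 : allGrid (T.finOK D) 130000 1000 12 = true := by decide +kernel
theorem c_fin_131 : allGrid (T.finOK D) 131000 1000 12 = true := by decide +kernel
theorem c_fin_132 : allGrid (T.finOK D) 132000 1000 12 = true := by decide +kernel
theorem c_fin_133 : allGrid (T.finOK D) 133000 1000 12 = true := by decide +kernel
theorem c_fin_134 : allGrid (T.finOK D) 134000 1000 12 = true := by decide +kernel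
theorem c_fin_135 : allGrid (T.finOK D) 135000 1000 12 = true := by decide +kernel
theorem c_fin_136 : allGrid (T.finOK D) 136000 1000 12 = true := by decide +kernel
theorem c_fin_137 : allGrid (T.finOK D) 137000 1000 12 = true := by decide +kernel
theorem c_fin_138 : allGrid (T.finOK D) 138000 1000 12 = true := by decide +kernel
theorem c_fin_139 : allGrid (T.finOK D) 139000 1000 12 = true := by decide +kernel
theorem c_fin_140 : allGrid (T.finOK D) 140000 1000 12 = true := by decide +kernel
theorem c_fin_141 : allGrid (T.finOK D) 141000 1000 12 = true := by decide +kernel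
theorem c_fin_142 : allGrid (T.finOK D) 142000 1000 12 = true := by decide +kernel
theorem c_fin_143 : allGrid (T.finOK D) 143000 1000 12 = true := by decide +kernel
theorem c_fin_144 : allGrid (T.finOK D) 144000 1000 12 = true := by decide +kernel

end Cfsg.Agent.Lib.Helper4.TCD.Fi24a
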