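import Cfsg.Agent.Lib.Helper4.TCD_Fi24a_Acc

namespace Cfsg.Agent.Lib.Helper4.TCD.Fi24a

open Cfsg.Agent.Lib.Helper4.TC

set_option maxRecDepth 100000
set_option Elab.async false

theorem c_fin_145 : allGrid (T.finOK D) 145000 1000 12 = true := by decide +kernel
theorem c_fin_146 : allGrid (T.finOK D) 146000 1000 12 = true := by decide +kernel
theorem c_fin_147 : allGrid (T.finOK D) 147000 1000 12 = true := by decide +kernel
theorem c_fin_148 : allGrid (T.finOK D) 148000 1000 12 = true := by decide +kernel
theorem c_fin_149 : allGrid (T.finOK D) 149000 1000 12 = true := by decide +kernel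
theorem c_fin_150 : allGrid (T.finOK D) 150000 1000 12 = true := by decide +kernel
theorem c_fin_151 : allGrid (T.finOK D) 151000 1000 12 = true := by decide +kernel
theorem c_fin_152 : allGrid (T.finOK D) 152000 1000 12 = true := by decide +kernel
theorem c_fin_153 : allGrid (T.finOK D) 153000 1000 12 = true := by decide +kernel
theorem c_fin_154 : allGrid (T.finOK D) 154000 1000 12 = true := by decide +kernel
theorem c_fin_155 : allGrid (T.finOK D) 155000 1000 12 = true := by decide +kernel
theorem c_fin_156 : allGrid (T.finOK D) 156000 1000 12 = true := by decide +kernel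
theorem c_fin_157 : allGrid (T.finOK D) 157000 1000 12 = true := by decide +kernel
theorem c_fin_158 : allGrid (T.finOK D) 158000 1000 12 = true := by decide +kernel
theorem c_fin_159 : allGrid (T.finOK D) 159000 1000 12 = true := by decide +kernel
theorem c_fin_160 : allGrid (T.finOK D) 160000 1000 12 = true := by decide +kernel
theorem c_fin_161 : allGrid (T.finOK D) 161000 1000 12 = true := by decide +kernel
theorem c_fin_162 : allGrid (T.finOK D) 162000 1000 12 = true := by decide +kernel
theorem c_fin_163 : allGrid (T.finOK D) 163000 1000 12 = true := by decide +kernel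
theorem c_fin_164 : allGrid (T.finOK D) 164000 1000 12 = true := by decide +kernel
theorem c_fin_165 : allGrid (T.finOK D) 165000 1000 12 = true := by decide +kernel
theorem c_fin_166 : allGrid (T.finOK D) 166000 1000 12 = true := by decide +kernel
theorem c_fin_167 : allGrid (T.finOK D) 167000 1000 12 = true := by decide +kernel
theorem c_fin_168 : allGrid (T.finOK D) 168000 1000 12 = true := by decide +kernel
theorem c_fin_169 : allGrid (T.finOK D) 169000 1000 12 = true := by decide +kernel
theorem c_fin_170 : allGrid (T.finOK D) 170000 1000 12 = true := by decide +kernel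
theorem c_fin_171 : allGrid (T.finOK D) 171000 1000 12 = true := by decide +kernel
theorem c_fin_172 : allGrid (T.finOK D) 172000 1000 12 = true := by decide +kernel
theorem c_fin_173 : allGrid (T.finOK D) 173000 1000 12 = true := by decide +kernel
theorem c_fin_174 : allGrid (T.finOK D) 174000 1000 12 = true := by decide +kernel
theorem c_fin_175 : allGrid (T.finOK D) 175000 1000 12 = true := by decide +kernel
theorem c_fin_176 : allGrid (T.finOK D) 176000 1000 12 = true := by decide +kernel
theorem c_fin_177 : allGrid (T.finOK D) 177000 1000 12 = true := by decide +kernel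
theorem c_fin_178 : allGrid (T.finOK D) 178000 1000 12 = true := by decide +kernel
theorem c_fin_179 : allGrid (T.finOK D) 179000 1000 12 = true := by decide +kernel
theorem c_fin_180 : allGrid (T.finOK D) 180000 1000 12 = true := by decide +kernel
theorem c_fin_181 : allGrid (T.finOK D) 181000 1000 12 = true := by decide +kernel
theorem c_fin_182 : allGrid (T.finOK D) 182000 1000 12 = true := by decide +kernel
theorem c_fin_183 : allGrid (T.finOK D) 183000 1000 12 = true := by decide +kernel
theorem c_fin_184 : allGrid (T.finOK D) 184000 1000 12 = true := by decide +kernel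
theorem c_fin_185 : allGrid (T.finOK D) 185000 1000 12 = true := by decide +kernel
theorem c_fin_186 : allGrid (T.finOK D) 186000 1000 12 = true := by decide +kernel
theorem c_fin_187 : allGrid (T.finOK D) 187000 1000 12 = true := by decide +kernel
theorem c_fin_188 : allGrid (T.finOK D) 188000 1000 12 = true := by decide +kernel
theorem c_fin_189 : allGrid (T.finOK D) 189000 1000 12 = true := by decide +kernel
theorem c_fin_190 : allGrid (T.finOK D) 190000 1000 12 = true := by decide +kernel
theorem c_fin_191 : allGrid (T.finOK D) 191000 1000 12 = true := by decide +kernel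
theorem c_fin_192 : allGrid (T.finOK D) 192000 1000 12 = true := by decide +kernel
theorem c_fin_193 : allGrid (T.finOK D) 193000 1000 12 = true := by decide +kernel
theorem c_fin_194 : allGrid (T.finOK D) 194000 1000 12 = true := by decide +kernel

end Cfsg.Agent.Lib.Helper4.TCD.Fi24a
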