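import Cfsg.Agent.Lib.Helper4.TCD_Fi24a_C0
import Cfsg.Agent.Lib.Helper4.TCD_Fi24a_C1
import Cfsg.Agent.Lib.Helper4.TCD_Fi24a_C2
import Cfsg.Agent.Lib.Helper4.TCD_Fi24a_C3
import Cfsg.Agent.Lib.Helper4.TCD_Fi24a_C4
import Cfsg.Agent.Lib.Helper4.TCD_Fi24a_C5
import Cfsg.Agent.Lib.Helper4.TCD_Fi24a_C6
import Cfsg.Agent.Lib.Helper4.TCD_Fi24a_C7
import Cfsg.Agent.Lib.Helper4.TCD_Fi24a_C8
import Cfsg.Agent.Lib.Helper4.TCD_Fi24a_C9
import Cfsg.Agent.Lib.Helper4.TCD_Fi24a_C10
import Cfsg.Agent.Lib.Helper4.TCD_Fi24a_C11
import Cfsg.Agent.Lib.Helper4.TCD_Fi24a_C12
import Cfsg.Agent.Lib.Helper4.TCD_Fi24a_C13
import Cfsg.Agent.Lib.Helper4.TCD_Fi24a_C14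
import Cfsg.Agent.Lib.Helper4.TCD_Fi24a_C15
import Cfsg.Agent.Lib.Helper4.TCD_Fi24a_C16
import Cfsg.Agent.Lib.Helper4.TCD_Fi24a_C17
import Cfsg.Agent.Lib.Helper4.TCD_Fi24a_C18
import Cfsg.Agent.Lib.Helper4.TCD_Fi24a_C19
import Cfsg.Agent.Lib.Helper4.TCD_Fi24a_C20
import Cfsg.Agent.Lib.Helper4.TCD_Fi24a_C21
import Cfsg.Agent.Lib.Helper4.TCD_Fi24a_C22
import Cfsg.Agent.Lib.Helper4.TCD_Fi24a_C23
import Cfsg.Agent.Lib.Helper4.TCD_Fi24a_C24
import Cfsg.Agent.Lib.Helper4.TCD_Fi24a_C25
import Cfsg.Agent.Lib.Helper4.TCD_Fi24a_C26
import Cfsg.Agent.Lib.Helper4.TCD_Fi24a_C27
import Cfsg.Agent.Lib.Helper4.TCD_Fi24a_C28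
import Cfsg.Agent.Lib.Helper4.TCD_Fi24a_C29
import Cfsg.Agent.Lib.Helper4.TCD_Fi24a_C30
import Cfsg.Agent.Lib.Helper4.TCD_Fi24a_C31
import Cfsg.Agent.Lib.Helper4.TCD_Fi24a_C32
import Cfsg.Agent.Lib.Helper4.TCD_Fi24a_C33
import Cfsg.Agent.Lib.Helper4.TCD_Fi24a_C34
import Cfsg.Agent.Lib.Helper4.TCD_Fi24a_C35
import Cfsg.Agent.Lib.Helper4.TCD_Fi24a_C36
import Cfsg.Agent.Lib.Helper4.TCD_Fi24a_C37
import Cfsg.Agent.Lib.Helper4.TCD_Fi24a_C38
import Cfsg.Agent.Lib.Helper4.TCD_Fi24a_C39
import Cfsg.Agent.Lib.Helper4.TCD_Fi24a_C40
import Cfsg.Agent.Lib.Helper4.TCD_Fi24a_C41
import Cfsg.Agent.Lib.Helper4.TCD_Fi24a_C42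
import Cfsg.Agent.Lib.Helper4.TCD_Fi24a_C43
import Cfsg.Agent.Lib.Helper4.TCD_Fi24a_C44
import Cfsg.Agent.Lib.Helper4.TCD_Fi24a_C45
import Cfsg.Agent.Lib.Helper4.TCD_Fi24a_C46
import Cfsg.Agent.Lib.Helper4.TCD_Fi24a_C47
import Cfsg.Agent.Lib.Helper4.TCD_Fi24a_C48
import Cfsg.Agent.Lib.Helper4.TCD_Fi24a_C49
import Cfsg.Agent.Lib.Helper4.TCD_Fi24a_C50
import Cfsg.Agent.Lib.Helper4.TCD_Fi24a_C51
import Cfsg.Agent.Lib.Helper4.TCD_Fi24a_C52
import Cfsg.Agent.Lib.Helper4.TCD_Fi24a_C53
import Cfsg.Agent.Lib.Helper4.TCD_Fi24a_C54
import Cfsg.Agent.Lib.Helper4.TCD_Fi24a_C55
import Cfsg.Agent.Lib.Helper4.TCD_Fi24a_C56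
import Cfsg.Agent.Lib.Helper4.TCD_Fi24a_C57
import Cfsg.Agent.Lib.Helper4.TCD_Fi24a_C58
import Cfsg.Agent.Lib.Helper4.TCD_Fi24a_C59
import Cfsg.Agent.Lib.Helper4.TCD_Fi24a_C60
import Cfsg.Agent.Lib.Helper4.TCD_Fi24a_C61
import Cfsg.Agent.Lib.Helper4.TCD_Fi24a_C62
import Cfsg.Agent.Lib.Helper4.TCD_Fi24a_C63
import Cfsg.Agent.Lib.Helper4.TCD_Fi24a_C64
import Cfsg.Agent.Lib.Helper4.TCD_Fi24a_C65
import Cfsg.Agent.Lib.Helper4.TCD_Fi24a_C66
import Cfsg.Agent.Lib.Helper4.TCD_Fi24a_C67
import Cfsg.Agent.Lib.Helper4.TCD_Fi24a_C68
import Cfsg.Agent.Lib.Helper4.TCD_Fi24a_C69
import Cfsg.Agent.Lib.Helper4.TCD_Fi24a_C70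
import Cfsg.Agent.Lib.Helper4.TCD_Fi24a_C71
import Cfsg.Agent.Lib.Helper4.TCD_Fi24a_C72
import Cfsg.Agent.Lib.Helper4.TCD_Fi24a_C73
import Cfsg.Agent.Lib.Helper4.TCD_Fi24a_C74
import Cfsg.Agent.Lib.Helper4.TCD_Fi24a_C75
import Cfsg.Agent.Lib.Helper4.TCD_Fi24a_C76
import Cfsg.Agent.Lib.Helper4.TCD_Fi24a_C77

namespace Cfsg.Agent.Lib.Helper4.TCD.Fi24a

open Cfsg.Agent.Lib.Helper4.TC

theorem h_rel_p0 : ∀ t, 347604 ≤ t → t < 489647 → D.relOK t = true :=
  (range_glue (range_of_allRange c_rel_0) (range_glue (range_of_allRange c_rel_1) (range_glue (range_of_allRange c_rel_2) (range_glue (range_of_allRange c_rel_3) (range_glue (range_of_allRange c_rel_4) (range_glue (range_of_allRange c_rel_5) (range_glue (range_of_allRange c_rel_6) (range_glue (range_of_allRange c_rel_7) (range_glue (range_of_allRange c_rel_8) (range_glue (range_of_allRange c_rel_9) (range_glue (range_of_allRange c_rel_10) (range_glue (range_of_allRange c_rel_11) (range_glue (range_of_allRange c_rel_12) (range_glue (range_of_allRange c_rel_13) (range_glue (range_of_allRange c_rel_14) (range_glue (range_of_allRange c_rel_15) (range_glue (range_of_allRange c_rel_16) (range_glue (range_of_allRange c_rel_17) (range_glue (range_of_allRange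 c_rel_18) (range_glue (range_of_allRange c_rel_19) (range_glue (range_of_allRange c_rel_20) (range_glue (range_of_allRange c_rel_21) (range_glue (range_of_allRange c_rel_22) (range_glue (range_of_allRange c_rel_23) (range_glue (range_of_allRange c_rel_24) (range_glue (range_of_allRange c_rel_25) (range_glue (range_of_allRange c_rel_26) (range_glue (range_of_allRange c_rel_27) (range_glue (range_of_allRange c_rel_28) (range_glue (range_of_allRange c_rel_29) (range_glue (range_of_allRange c_rel_30) (range_glue (range_of_allRange c_rel_31) (range_glue (range_of_allRange c_rel_32) (range_glue (range_of_allRange c_rel_33) (range_glue (range_of_allRange c_rel_34) (range_glue (range_of_allRange c_rel_35) (range_glue (range_of_allRange c_rel_36) (range_glue (range_of_allRange c_rel_37) (range_glue (range_of_allRange c_rel_38) (range_of_allRange c_rel_39))))))))))))))))))))))))))))))))))))))))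
theorem h_rel_p1 : ∀ t, 489647 ≤ t → t < 631972 → D.relOK t = true :=
  (range_glue (range_of_allRange c_rel_40) (range_glue (range_of_allRange c_rel_41) (range_glue (range_of_allRange c_rel_42) (range_glue (range_of_allRange c_rel_43) (range_glue (range_of_allRange c_rel_44) (range_glue (range_of_allRange c_rel_45) (range_glue (range_of_allRange c_rel_46) (range_glue (range_of_allRange c_rel_47) (range_glue (range_of_allRange c_rel_48) (range_glue (range_of_allRange c_rel_49) (range_glue (range_of_allRange c_rel_50) (range_glue (range_of_allRange c_rel_51) (range_glue (range_of_allRange c_rel_52) (range_glue (range_of_allRange c_rel_53) (range_glue (range_of_allRange c_rel_54) (range_glue (range_of_allRange c_rel_55) (range_glue (range_of_allRange c_rel_56) (range_glue (range_of_allRange c_rel_57) (range_glue (range_of_allRange c_rel_58) (range_glue (range_of_allRange c_rel_59) (range_glue (range_of_allRange c_rel_60) (range_glue (range_of_allRange c_rel_61) (range_glue (range_of_allRange c_rel_62) (range_glue (range_of_allRange c_rel_63) (range_glue (range_of_allRange c_rel_64) (range_glue (range_of_allRange c_rel_65) (range_glue (range_of_allRange c_rel_66) (range_glue (range_of_allRange c_rel_67)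 (range_glue (range_of_allRange c_rel_68) (range_glue (range_of_allRange c_rel_69) (range_glue (range_of_allRange c_rel_70) (range_glue (range_of_allRange c_rel_71) (range_glue (range_of_allRange c_rel_72) (range_glue (range_of_allRange c_rel_73) (range_glue (range_of_allRange c_rel_74) (range_glue (range_of_allRange c_rel_75) (range_glue (range_of_allRange c_rel_76) (range_glue (range_of_allRange c_rel_77) (range_glue (range_of_allRange c_rel_78) (range_of_allRange c_rel_79))))))))))))))))))))))))))))))))))))))))
theorem h_rel_p2 : ∀ t, 631972 ≤ t → t < 774233 → D.relOK t = true :=
  (range_glue (range_of_allRange c_rel_80) (range_glue (range_of_allRange c_rel_81) (range_glue (range_of_allRange c_rel_82) (range_glue (range_of_allRange c_rel_83) (range_glue (range_of_allRange c_rel_84) (range_glue (range_of_allRange c_rel_85) (range_glue (range_of_allRange c_rel_86) (range_glue (range_of_allRange c_rel_87) (range_glue (range_of_allRange c_rel_88) (range_glue (range_of_allRange c_rel_89) (range_glue (range_of_allRange c_rel_90) (range_glue (range_of_allRange c_rel_91) (range_glue (range_of_allRange c_rel_92) (range_glue (range_of_allRange c_rel_93) (range_glue (range_of_allRange c_rel_94) (range_glue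 (range_of_allRange c_rel_95) (range_glue (range_of_allRange c_rel_96) (range_glue (range_of_allRange c_rel_97) (range_glue (range_of_allRange c_rel_98) (range_glue (range_of_allRange c_rel_99) (range_glue (range_of_allRange c_rel_100) (range_glue (range_of_allRange c_rel_101) (range_glue (range_of_allRange c_rel_102) (range_glue (range_of_allRange c_rel_103) (range_glue (range_of_allRange c_rel_104) (range_glue (range_of_allRange c_rel_105) (range_glue (range_of_allRange c_rel_106) (range_glue (range_of_allRange c_rel_107) (range_glue (range_of_allRange c_rel_108) (range_glue (range_of_allRange c_rel_109) (range_glue (range_of_allRange c_rel_110) (range_glue (range_of_allRange c_rel_111) (range_glue (range_of_allRange c_rel_112) (range_glue (range_of_allRange c_rel_113) (range_glue (range_of_allRange c_rel_114) (range_glue (range_of_allRange c_rel_115) (range_glue (range_of_allRange c_rel_116) (range_glue (range_of_allRange c_rel_117) (range_glue (range_of_allRange c_rel_118) (range_of_allRange c_rel_119))))))))))))))))))))))))))))))))))))))))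
theorem h_rel_p3 : ∀ t, 774233 ≤ t → t < 913861 → D.relOK t = true :=
  (range_glue (range_of_allRange c_rel_120) (range_glue (range_of_allRange c_rel_121) (range_glue (range_of_allRange c_rel_122) (range_glue (range_of_allRange c_rel_123) (range_glue (range_of_allRange c_rel_124) (range_glue (range_of_allRange c_rel_125) (range_glue (range_of_allRange c_rel_126) (range_glue (range_of_allRange c_rel_127) (range_glue (range_of_allRange c_rel_128) (range_glue (range_of_allRange c_rel_129) (range_glue (range_of_allRange c_rel_130) (range_glue (range_of_allRange c_rel_131) (range_glue (range_of_allRange c_rel_132) (range_glue (range_of_allRange c_rel_133) (range_glue (range_of_allRange c_rel_134) (range_glue (range_of_allRange c_rel_135) (range_glue (range_of_allRange c_rel_136) (range_glue (range_of_allRange c_rel_137) (range_glue (range_of_allRange c_rel_138) (range_glue (range_of_allRange c_rel_139) (range_glue (range_of_allRange c_rel_140) (range_glue (range_of_allRange c_rel_141) (range_glue (range_of_allRange c_rel_142) (range_glue (range_of_allRange c_rel_143) (range_glue (range_of_allRange c_rel_144) (range_glue (range_of_allRange c_rel_145) (range_glue (range_of_allRange c_rel_146) (range_glue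 (range_of_allRange c_rel_147) (range_glue (range_of_allRange c_rel_148) (range_glue (range_of_allRange c_rel_149) (range_glue (range_of_allRange c_rel_150) (range_glue (range_of_allRange c_rel_151) (range_glue (range_of_allRange c_rel_152) (range_glue (range_of_allRange c_rel_153) (range_glue (range_of_allRange c_rel_154) (range_glue (range_of_allRange c_rel_155) (range_glue (range_of_allRange c_rel_156) (range_glue (range_of_allRange c_rel_157) (range_glue (range_of_allRange c_rel_158) (range_of_allRange c_rel_159))))))))))))))))))))))))))))))))))))))))
theorem h_rel_p4 : ∀ t, 913861 ≤ t → t < 1055349 → D.relOK t = true :=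
  (range_glue (range_of_allRange c_rel_160) (range_glue (range_of_allRange c_rel_161) (range_glue (range_of_allRange c_rel_162) (range_glue (range_of_allRange c_rel_163) (range_glue (range_of_allRange c_rel_164) (range_glue (range_of_allRange c_rel_165) (range_glue (range_of_allRange c_rel_166) (range_glue (range_of_allRange c_rel_167) (range_glue (range_of_allRange c_rel_168) (range_glue (range_of_allRange c_rel_169) (range_glue (range_of_allRange c_rel_170) (range_glue (range_of_allRange c_rel_171) (range_glue (range_of_allRange c_rel_172) (range_glue (range_of_allRange c_rel_173) (range_glue (range_of_allRange c_rel_174) (range_glue (range_of_allRange c_rel_175) (range_glue (range_of_allRange c_rel_176) (range_glue (range_of_allRange c_rel_177) (range_glue (range_of_allRange c_rel_178) (range_glue (range_of_allRange c_rel_179) (range_glue (range_of_allRange c_rel_180) (range_glue (range_of_allRange c_rel_181) (range_glue (range_of_allRange c_rel_182) (range_glue (range_of_allRange c_rel_183) (range_glue (range_of_allRange c_rel_184) (range_glue (range_of_allRange c_rel_185) (range_glue (range_of_allRange c_rel_186) (range_glue (range_of_allRange c_rel_187) (range_glue (range_of_allRange c_rel_188)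 (range_glue (range_of_allRange c_rel_189) (range_glue (range_of_allRange c_rel_190) (range_glue (range_of_allRange c_rel_191) (range_glue (range_of_allRange c_rel_192) (range_glue (range_of_allRange c_rel_193) (range_glue (range_of_allRange c_rel_194) (range_glue (range_of_allRange c_rel_195) (range_glue (range_of_allRange c_rel_196) (range_glue (range_of_allRange c_rel_197) (range_glue (range_of_allRange c_rel_198) (range_of_allRange c_rel_199))))))))))))))))))))))))))))))))))))))))
theorem h_rel_p5 : ∀ t, 1055349 ≤ t → t < 1197268 → D.relOK t = true :=
  (range_glue (range_of_allRange c_rel_200) (range_glue (range_of_allRange c_rel_201) (range_glue (range_of_allRange c_rel_202) (range_glue (range_of_allRange c_rel_203) (range_glue (range_of_allRange c_rel_204) (range_glue (range_of_allRange c_rel_205) (range_glue (range_of_allRange c_rel_206) (range_glue (range_of_allRange c_rel_207) (range_glue (range_of_allRange c_rel_208) (range_glue (range_of_allRange c_rel_209) (range_glue (range_of_allRange c_rel_210) (range_glue (range_of_allRange c_rel_211) (range_glue (range_of_allRange c_rel_212) (range_glue (range_of_allRange c_rel_213) (range_glue (range_of_allRange c_rel_214) (range_glue (range_of_allRange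 c_rel_215) (range_glue (range_of_allRange c_rel_216) (range_glue (range_of_allRange c_rel_217) (range_glue (range_of_allRange c_rel_218) (range_glue (range_of_allRange c_rel_219) (range_glue (range_of_allRange c_rel_220) (range_glue (range_of_allRange c_rel_221) (range_glue (range_of_allRange c_rel_222) (range_glue (range_of_allRange c_rel_223) (range_glue (range_of_allRange c_rel_224) (range_glue (range_of_allRange c_rel_225) (range_glue (range_of_allRange c_rel_226) (range_glue (range_of_allRange c_rel_227) (range_glue (range_of_allRange c_rel_228) (range_glue (range_of_allRange c_rel_229) (range_glue (range_of_allRange c_rel_230) (range_glue (range_of_allRange c_rel_231) (range_glue (range_of_allRange c_rel_232) (range_glue (range_of_allRange c_rel_233) (range_glue (range_of_allRange c_rel_234) (range_glue (range_of_allRange c_rel_235) (range_glue (range_of_allRange c_rel_236) (range_glue (range_of_allRange c_rel_237) (range_glue (range_of_allRange c_rel_238) (range_of_allRange c_rel_239))))))))))))))))))))))))))))))))))))))))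
theorem h_rel_p6 : ∀ t, 1197268 ≤ t → t < 1339223 → D.relOK t = true :=
  (range_glue (range_of_allRange c_rel_240) (range_glue (range_of_allRange c_rel_241) (range_glue (range_of_allRange c_rel_242) (range_glue (range_of_allRange c_rel_243) (range_glue (range_of_allRange c_rel_244) (range_glue (range_of_allRange c_rel_245) (range_glue (range_of_allRange c_rel_246) (range_glue (range_of_allRange c_rel_247) (range_glue (range_of_allRange c_rel_248) (range_glue (range_of_allRange c_rel_249) (range_glue (range_of_allRange c_rel_250) (range_glue (range_of_allRange c_rel_251) (range_glue (range_of_allRange c_rel_252) (range_glue (range_of_allRange c_rel_253) (range_glue (range_of_allRange c_rel_254) (range_glue (range_of_allRange c_rel_255) (range_glue (range_of_allRange c_rel_256) (range_glue (range_of_allRange c_rel_257) (range_glue (range_of_allRange c_rel_258) (range_glue (range_of_allRange c_rel_259) (range_glue (range_of_allRange c_rel_260) (range_glue (range_of_allRange c_rel_261) (range_glue (range_of_allRange c_rel_262) (range_glue (range_of_allRange c_rel_263) (range_glue (range_of_allRange c_rel_264) (range_glue (range_of_allRange c_rel_265) (range_glue (range_of_allRange c_rel_266) (range_glue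 (range_of_allRange c_rel_267) (range_glue (range_of_allRange c_rel_268) (range_glue (range_of_allRange c_rel_269) (range_glue (range_of_allRange c_rel_270) (range_glue (range_of_allRange c_rel_271) (range_glue (range_of_allRange c_rel_272) (range_glue (range_of_allRange c_rel_273) (range_glue (range_of_allRange c_rel_274) (range_glue (range_of_allRange c_rel_275) (range_glue (range_of_allRange c_rel_276) (range_glue (range_of_allRange c_rel_277) (range_glue (range_of_allRange c_rel_278) (range_of_allRange c_rel_279))))))))))))))))))))))))))))))))))))))))
theorem h_rel_p7 : ∀ t, 1339223 ≤ t → t < 1480818 → D.relOK t = true :=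
  (range_glue (range_of_allRange c_rel_280) (range_glue (range_of_allRange c_rel_281) (range_glue (range_of_allRange c_rel_282) (range_glue (range_of_allRange c_rel_283) (range_glue (range_of_allRange c_rel_284) (range_glue (range_of_allRange c_rel_285) (range_glue (range_of_allRange c_rel_286) (range_glue (range_of_allRange c_rel_287) (range_glue (range_of_allRange c_rel_288) (range_glue (range_of_allRange c_rel_289) (range_glue (range_of_allRange c_rel_290) (range_glue (range_of_allRange c_rel_291) (range_glue (range_of_allRange c_rel_292) (range_glue (range_of_allRange c_rel_293) (range_glue (range_of_allRange c_rel_294) (range_glue (range_of_allRange c_rel_295) (range_glue (range_of_allRange c_rel_296) (range_glue (range_of_allRange c_rel_297) (range_glue (range_of_allRange c_rel_298) (range_glue (range_of_allRange c_rel_299) (range_glue (range_of_allRange c_rel_300) (range_glue (range_of_allRange c_rel_301) (range_glue (range_of_allRange c_rel_302) (range_glue (range_of_allRange c_rel_303) (range_glue (range_of_allRange c_rel_304) (range_glue (range_of_allRange c_rel_305) (range_glue (range_of_allRange c_rel_306) (range_glue (range_of_allRange c_rel_307) (range_glue (range_of_allRange c_rel_308)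 (range_glue (range_of_allRange c_rel_309) (range_glue (range_of_allRange c_rel_310) (range_glue (range_of_allRange c_rel_311) (range_glue (range_of_allRange c_rel_312) (range_glue (range_of_allRange c_rel_313) (range_glue (range_of_allRange c_rel_314) (range_glue (range_of_allRange c_rel_315) (range_glue (range_of_allRange c_rel_316) (range_glue (range_of_allRange c_rel_317) (range_glue (range_of_allRange c_rel_318) (range_of_allRange c_rel_319))))))))))))))))))))))))))))))))))))))))
theorem h_rel_p8 : ∀ t, 1480818 ≤ t → t < 1621500 → D.relOK t = true :=
  (range_glue (range_of_allRange c_rel_320) (range_glue (range_of_allRange c_rel_321) (range_glue (range_of_allRange c_rel_322) (range_glue (range_of_allRange c_rel_323) (range_glue (range_of_allRange c_rel_324) (range_glue (range_of_allRange c_rel_325) (range_glue (range_of_allRange c_rel_326) (range_glue (range_of_allRange c_rel_327) (range_glue (range_of_allRange c_rel_328) (range_glue (range_of_allRange c_rel_329) (range_glue (range_of_allRange c_rel_330) (range_glue (range_of_allRange c_rel_331) (range_glue (range_of_allRange c_rel_332) (range_glue (range_of_allRange c_rel_333) (range_glue (range_of_allRange c_rel_334) (range_glue (range_of_allRange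 c_rel_335) (range_glue (range_of_allRange c_rel_336) (range_glue (range_of_allRange c_rel_337) (range_glue (range_of_allRange c_rel_338) (range_glue (range_of_allRange c_rel_339) (range_glue (range_of_allRange c_rel_340) (range_glue (range_of_allRange c_rel_341) (range_glue (range_of_allRange c_rel_342) (range_glue (range_of_allRange c_rel_343) (range_glue (range_of_allRange c_rel_344) (range_glue (range_of_allRange c_rel_345) (range_glue (range_of_allRange c_rel_346) (range_glue (range_of_allRange c_rel_347) (range_glue (range_of_allRange c_rel_348) (range_glue (range_of_allRange c_rel_349) (range_glue (range_of_allRange c_rel_350) (range_glue (range_of_allRange c_rel_351) (range_glue (range_of_allRange c_rel_352) (range_glue (range_of_allRange c_rel_353) (range_glue (range_of_allRange c_rel_354) (range_glue (range_of_allRange c_rel_355) (range_glue (range_of_allRange c_rel_356) (range_glue (range_of_allRange c_rel_357) (range_glue (range_of_allRange c_rel_358) (range_of_allRange c_rel_359))))))))))))))))))))))))))))))))))))))))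
theorem h_rel_p9 : ∀ t, 1621500 ≤ t → t < 1761067 → D.relOK t = true :=
  (range_glue (range_of_allRange c_rel_360) (range_glue (range_of_allRange c_rel_361) (range_glue (range_of_allRange c_rel_362) (range_glue (range_of_allRange c_rel_363) (range_glue (range_of_allRange c_rel_364) (range_glue (range_of_allRange c_rel_365) (range_glue (range_of_allRange c_rel_366) (range_glue (range_of_allRange c_rel_367) (range_glue (range_of_allRange c_rel_368) (range_glue (range_of_allRange c_rel_369) (range_glue (range_of_allRange c_rel_370) (range_glue (range_of_allRange c_rel_371) (range_glue (range_of_allRange c_rel_372) (range_glue (range_of_allRange c_rel_373) (range_glue (range_of_allRange c_rel_374) (range_glue (range_of_allRange c_rel_375) (range_glue (range_of_allRange c_rel_376) (range_glue (range_of_allRange c_rel_377) (range_glue (range_of_allRange c_rel_378) (range_glue (range_of_allRange c_rel_379) (range_glue (range_of_allRange c_rel_380) (range_glue (range_of_allRange c_rel_381) (range_glue (range_of_allRange c_rel_382) (range_glue (range_of_allRange c_rel_383) (range_glue (range_of_allRange c_rel_384) (range_glue (range_of_allRange c_rel_385) (range_glue (range_of_allRange c_rel_386) (range_glue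 (range_of_allRange c_rel_387) (range_glue (range_of_allRange c_rel_388) (range_glue (range_of_allRange c_rel_389) (range_glue (range_of_allRange c_rel_390) (range_glue (range_of_allRange c_rel_391) (range_glue (range_of_allRange c_rel_392) (range_glue (range_of_allRange c_rel_393) (range_glue (range_of_allRange c_rel_394) (range_glue (range_of_allRange c_rel_395) (range_glue (range_of_allRange c_rel_396) (range_glue (range_of_allRange c_rel_397) (range_glue (range_of_allRange c_rel_398) (range_of_allRange c_rel_399))))))))))))))))))))))))))))))))))))))))
theorem h_rel_p10 : ∀ t, 1761067 ≤ t → t < 1899469 → D.relOK t = true :=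
  (range_glue (range_of_allRange c_rel_400) (range_glue (range_of_allRange c_rel_401) (range_glue (range_of_allRange c_rel_402) (range_glue (range_of_allRange c_rel_403) (range_glue (range_of_allRange c_rel_404) (range_glue (range_of_allRange c_rel_405) (range_glue (range_of_allRange c_rel_406) (range_glue (range_of_allRange c_rel_407) (range_glue (range_of_allRange c_rel_408) (range_glue (range_of_allRange c_rel_409) (range_glue (range_of_allRange c_rel_410) (range_glue (range_of_allRange c_rel_411) (range_glue (range_of_allRange c_rel_412) (range_glue (range_of_allRange c_rel_413) (range_glue (range_of_allRange c_rel_414) (range_glue (range_of_allRange c_rel_415) (range_glue (range_of_allRange c_rel_416) (range_glue (range_of_allRange c_rel_417) (range_glue (range_of_allRange c_rel_418) (range_glue (range_of_allRange c_rel_419) (range_glue (range_of_allRange c_rel_420) (range_glue (range_of_allRange c_rel_421) (range_glue (range_of_allRange c_rel_422) (range_glue (range_of_allRange c_rel_423) (range_glue (range_of_allRange c_rel_424) (range_glue (range_of_allRange c_rel_425) (range_glue (range_of_allRange c_rel_426) (range_glue (range_of_allRange c_rel_427) (range_glue (range_of_allRange c_rel_428)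 (range_glue (range_of_allRange c_rel_429) (range_glue (range_of_allRange c_rel_430) (range_glue (range_of_allRange c_rel_431) (range_glue (range_of_allRange c_rel_432) (range_glue (range_of_allRange c_rel_433) (range_glue (range_of_allRange c_rel_434) (range_glue (range_of_allRange c_rel_435) (range_glue (range_of_allRange c_rel_436) (range_glue (range_of_allRange c_rel_437) (range_glue (range_of_allRange c_rel_438) (range_of_allRange c_rel_439))))))))))))))))))))))))))))))))))))))))
theorem h_rel_p11 : ∀ t, 1899469 ≤ t → t < 2036018 → D.relOK t = true :=
  (range_glue (range_of_allRange c_rel_440) (range_glue (range_of_allRange c_rel_441) (range_glue (range_of_allRange c_rel_442) (range_glue (range_of_allRange c_rel_443) (range_glue (range_of_allRange c_rel_444) (range_glue (range_of_allRange c_rel_445) (range_glue (range_of_allRange c_rel_446) (range_glue (range_of_allRange c_rel_447) (range_glue (range_of_allRange c_rel_448) (range_glue (range_of_allRange c_rel_449) (range_glue (range_of_allRange c_rel_450) (range_glue (range_of_allRange c_rel_451) (range_glue (range_of_allRange c_rel_452) (range_glue (range_of_allRange c_rel_453) (range_glue (range_of_allRange c_rel_454) (range_glue (range_of_allRange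 c_rel_455) (range_glue (range_of_allRange c_rel_456) (range_glue (range_of_allRange c_rel_457) (range_glue (range_of_allRange c_rel_458) (range_glue (range_of_allRange c_rel_459) (range_glue (range_of_allRange c_rel_460) (range_glue (range_of_allRange c_rel_461) (range_glue (range_of_allRange c_rel_462) (range_glue (range_of_allRange c_rel_463) (range_glue (range_of_allRange c_rel_464) (range_glue (range_of_allRange c_rel_465) (range_glue (range_of_allRange c_rel_466) (range_glue (range_of_allRange c_rel_467) (range_glue (range_of_allRange c_rel_468) (range_glue (range_of_allRange c_rel_469) (range_glue (range_of_allRange c_rel_470) (range_glue (range_of_allRange c_rel_471) (range_glue (range_of_allRange c_rel_472) (range_glue (range_of_allRange c_rel_473) (range_glue (range_of_allRange c_rel_474) (range_glue (range_of_allRange c_rel_475) (range_glue (range_of_allRange c_rel_476) (range_glue (range_of_allRange c_rel_477) (range_glue (range_of_allRange c_rel_478) (range_of_allRange c_rel_479))))))))))))))))))))))))))))))))))))))))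
theorem h_rel_p12 : ∀ t, 2036018 ≤ t → t < 2175406 → D.relOK t = true :=
  (range_glue (range_of_allRange c_rel_480) (range_glue (range_of_allRange c_rel_481) (range_glue (range_of_allRange c_rel_482) (range_glue (range_of_allRange c_rel_483) (range_glue (range_of_allRange c_rel_484) (range_glue (range_of_allRange c_rel_485) (range_glue (range_of_allRange c_rel_486) (range_glue (range_of_allRange c_rel_487) (range_glue (range_of_allRange c_rel_488) (range_glue (range_of_allRange c_rel_489) (range_glue (range_of_allRange c_rel_490) (range_glue (range_of_allRange c_rel_491) (range_glue (range_of_allRange c_rel_492) (range_glue (range_of_allRange c_rel_493) (range_glue (range_of_allRange c_rel_494) (range_glue (range_of_allRange c_rel_495) (range_glue (range_of_allRange c_rel_496) (range_glue (range_of_allRange c_rel_497) (range_glue (range_of_allRange c_rel_498) (range_glue (range_of_allRange c_rel_499) (range_glue (range_of_allRange c_rel_500) (range_glue (range_of_allRange c_rel_501) (range_glue (range_of_allRange c_rel_502) (range_glue (range_of_allRange c_rel_503) (range_glue (range_of_allRange c_rel_504) (range_glue (range_of_allRange c_rel_505) (range_glue (range_of_allRange c_rel_506) (range_glue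 (range_of_allRange c_rel_507) (range_glue (range_of_allRange c_rel_508) (range_glue (range_of_allRange c_rel_509) (range_glue (range_of_allRange c_rel_510) (range_glue (range_of_allRange c_rel_511) (range_glue (range_of_allRange c_rel_512) (range_glue (range_of_allRange c_rel_513) (range_glue (range_of_allRange c_rel_514) (range_glue (range_of_allRange c_rel_515) (range_glue (range_of_allRange c_rel_516) (range_glue (range_of_allRange c_rel_517) (range_glue (range_of_allRange c_rel_518) (range_of_allRange c_rel_519))))))))))))))))))))))))))))))))))))))))
theorem h_rel_p13 : ∀ t, 2175406 ≤ t → t < 2204140 → D.relOK t = true :=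
  (range_glue (range_of_allRange c_rel_520) (range_glue (range_of_allRange c_rel_521) (range_glue (range_of_allRange c_rel_522) (range_glue (range_of_allRange c_rel_523) (range_glue (range_of_allRange c_rel_524) (range_of_allRange c_rel_525))))))
theorem h_rel : ∀ t, 347604 ≤ t → t < 2204140 → D.relOK t = true :=
  (range_glue h_rel_p0 (range_glue h_rel_p1 (range_glue h_rel_p2 (range_glue h_rel_p3 (range_glue h_rel_p4 (range_glue h_rel_p5 (range_glue h_rel_p6 (range_glue h_rel_p7 (range_glue h_rel_p8 (range_glue h_rel_p9 (range_glue h_rel_p10 (range_glue h_rel_p11 (range_glue h_rel_p12 h_rel_p13)))))))))))))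
theorem h_names : ∀ t, 1 ≤ t → t < 347582 → D.nameOK t = true :=
  (range_glue (range_of_allRange c_names_0) (range_glue (range_of_allRange c_names_1) (range_glue (range_of_allRange c_names_2) (range_glue (range_of_allRange c_names_3) (range_glue (range_of_allRange c_names_4) (range_of_allRange c_names_5))))))
theorem h_cls : ∀ t, 1 ≤ t → t < 347582 → T.clsOK D t = true :=
  (range_glue (range_of_allRange c_cls_0) (range_glue (range_of_allRange c_cls_1) (range_glue (range_of_allRange c_cls_2) (range_glue (range_of_allRange c_cls_3) (range_glue (range_of_allRange c_cls_4) (range_glue (range_of_allRange c_cls_5) (range_glue (range_of_allRange c_cls_6) (range_glue (range_of_allRange c_cls_7) (range_glue (range_of_allRange c_cls_8) (range_glue (range_of_allRange c_cls_9) (range_glue (range_of_allRange c_cls_10) (range_glue (range_of_allRange c_cls_11) (range_glue (range_of_allRange c_cls_12) (range_glue (range_of_allRange c_cls_13) (range_glue (range_of_allRange c_cls_14) (range_glue (range_of_allRange c_cls_15) (range_glue (range_of_allRange c_cls_16) (range_glue (range_of_allRange c_cls_17) (range_glue (range_of_allRange c_cls_18) (range_glue (range_of_allRange c_cls_19) (range_glue (range_of_allRange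 c_cls_20) (range_glue (range_of_allRange c_cls_21) (range_glue (range_of_allRange c_cls_22) (range_of_allRange c_cls_23))))))))))))))))))))))))
theorem h_rep : ∀ t, 0 ≤ t → t < 306936 → T.repOK D t = true :=
  (range_glue (range_of_allRange c_rep_0) (range_glue (range_of_allRange c_rep_1) (range_glue (range_of_allRange c_rep_2) (range_glue (range_of_allRange c_rep_3) (range_glue (range_of_allRange c_rep_4) (range_glue (range_of_allRange c_rep_5) (range_glue (range_of_allRange c_rep_6) (range_glue (range_of_allRange c_rep_7) (range_glue (range_of_allRange c_rep_8) (range_glue (range_of_allRange c_rep_9) (range_of_allRange c_rep_10)))))))))))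
theorem h_fin_p0 : ∀ i, 0 ≤ i → i < 40000 → ∀ x, x < 12 → T.finOK D i x = true :=
  (range_glue (range_of_allGrid c_fin_0) (range_glue (range_of_allGrid c_fin_1) (range_glue (range_of_allGrid c_fin_2) (range_glue (range_of_allGrid c_fin_3) (range_glue (range_of_allGrid c_fin_4) (range_glue (range_of_allGrid c_fin_5) (range_glue (range_of_allGrid c_fin_6) (range_glue (range_of_allGrid c_fin_7) (range_glue (range_of_allGrid c_fin_8) (range_glue (range_of_allGrid c_fin_9) (range_glue (range_of_allGrid c_fin_10) (range_glue (range_of_allGrid c_fin_11) (range_glue (range_of_allGrid c_fin_12) (range_glue (range_of_allGrid c_fin_13) (range_glue (range_of_allGrid c_fin_14) (range_glue (range_of_allGrid c_fin_15) (range_glue (range_of_allGrid c_fin_16) (range_glue (range_of_allGrid c_fin_17) (range_glue (range_of_allGrid c_fin_18) (range_glue (range_of_allGrid c_fin_19) (range_glue (range_of_allGrid c_fin_20) (range_glue (range_of_allGrid c_fin_21) (range_glue (range_of_allGrid c_fin_22) (range_glue (range_of_allGrid c_fin_23) (range_glue (range_of_allGrid c_fin_24) (range_glue (range_of_allGrid c_fin_25) (range_glue (range_of_allGrid c_fin_26) (range_glue (range_of_allGrid c_fin_27) (range_glue (range_of_allGrid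 c_fin_28) (range_glue (range_of_allGrid c_fin_29) (range_glue (range_of_allGrid c_fin_30) (range_glue (range_of_allGrid c_fin_31) (range_glue (range_of_allGrid c_fin_32) (range_glue (range_of_allGrid c_fin_33) (range_glue (range_of_allGrid c_fin_34) (range_glue (range_of_allGrid c_fin_35) (range_glue (range_of_allGrid c_fin_36) (range_glue (range_of_allGrid c_fin_37) (range_glue (range_of_allGrid c_fin_38) (range_of_allGrid c_fin_39))))))))))))))))))))))))))))))))))))))))
theorem h_fin_p1 : ∀ i, 40000 ≤ i → i < 80000 → ∀ x, x < 12 → T.finOK D i x = true :=
  (range_glue (range_of_allGrid c_fin_40) (range_glue (range_of_allGrid c_fin_41) (range_glue (range_of_allGrid c_fin_42) (range_glue (range_of_allGrid c_fin_43) (range_glue (range_of_allGrid c_fin_44) (range_glue (range_of_allGrid c_fin_45) (range_glue (range_of_allGrid c_fin_46) (range_glue (range_of_allGrid c_fin_47) (range_glue (range_of_allGrid c_fin_48) (range_glue (range_of_allGrid c_fin_49) (range_glue (range_of_allGrid c_fin_50) (range_glue (range_of_allGrid c_fin_51) (range_glue (range_of_allGrid c_fin_52) (range_glue (range_of_allGrid c_fin_53) (range_glue (range_of_allGrid c_fin_54) (range_glue (range_of_allGrid c_fin_55) (range_glue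 (range_of_allGrid c_fin_56) (range_glue (range_of_allGrid c_fin_57) (range_glue (range_of_allGrid c_fin_58) (range_glue (range_of_allGrid c_fin_59) (range_glue (range_of_allGrid c_fin_60) (range_glue (range_of_allGrid c_fin_61) (range_glue (range_of_allGrid c_fin_62) (range_glue (range_of_allGrid c_fin_63) (range_glue (range_of_allGrid c_fin_64) (range_glue (range_of_allGrid c_fin_65) (range_glue (range_of_allGrid c_fin_66) (range_glue (range_of_allGrid c_fin_67) (range_glue (range_of_allGrid c_fin_68) (range_glue (range_of_allGrid c_fin_69) (range_glue (range_of_allGrid c_fin_70) (range_glue (range_of_allGrid c_fin_71) (range_glue (range_of_allGrid c_fin_72) (range_glue (range_of_allGrid c_fin_73) (range_glue (range_of_allGrid c_fin_74) (range_glue (range_of_allGrid c_fin_75) (range_glue (range_of_allGrid c_fin_76) (range_glue (range_of_allGrid c_fin_77) (range_glue (range_of_allGrid c_fin_78) (range_of_allGrid c_fin_79))))))))))))))))))))))))))))))))))))))))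
theorem h_fin_p2 : ∀ i, 80000 ≤ i → i < 120000 → ∀ x, x < 12 → T.finOK D i x = true :=
  (range_glue (range_of_allGrid c_fin_80) (range_glue (range_of_allGrid c_fin_81) (range_glue (range_of_allGrid c_fin_82) (range_glue (range_of_allGrid c_fin_83) (range_glue (range_of_allGrid c_fin_84) (range_glue (range_of_allGrid c_fin_85) (range_glue (range_of_allGrid c_fin_86) (range_glue (range_of_allGrid c_fin_87) (range_glue (range_of_allGrid c_fin_88) (range_glue (range_of_allGrid c_fin_89) (range_glue (range_of_allGrid c_fin_90) (range_glue (range_of_allGrid c_fin_91) (range_glue (range_of_allGrid c_fin_92) (range_glue (range_of_allGrid c_fin_93) (range_glue (range_of_allGrid c_fin_94) (range_glue (range_of_allGrid c_fin_95) (range_glue (range_of_allGrid c_fin_96) (range_glue (range_of_allGrid c_fin_97) (range_glue (range_of_allGrid c_fin_98) (range_glue (range_of_allGrid c_fin_99) (range_glue (range_of_allGrid c_fin_100) (range_glue (range_of_allGrid c_fin_101) (range_glue (range_of_allGrid c_fin_102) (range_glue (range_of_allGrid c_fin_103) (range_glue (range_of_allGrid c_fin_104) (range_glue (range_of_allGrid c_fin_105) (range_glue (range_of_allGrid c_fin_106) (range_glue (range_of_allGrid c_fin_107)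 (range_glue (range_of_allGrid c_fin_108) (range_glue (range_of_allGrid c_fin_109) (range_glue (range_of_allGrid c_fin_110) (range_glue (range_of_allGrid c_fin_111) (range_glue (range_of_allGrid c_fin_112) (range_glue (range_of_allGrid c_fin_113) (range_glue (range_of_allGrid c_fin_114) (range_glue (range_of_allGrid c_fin_115) (range_glue (range_of_allGrid c_fin_116) (range_glue (range_of_allGrid c_fin_117) (range_glue (range_of_allGrid c_fin_118) (range_of_allGrid c_fin_119))))))))))))))))))))))))))))))))))))))))
theorem h_fin_p3 : ∀ i, 120000 ≤ i → i < 160000 → ∀ x, x < 12 → T.finOK D i x = true :=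
  (range_glue (range_of_allGrid c_fin_120) (range_glue (range_of_allGrid c_fin_121) (range_glue (range_of_allGrid c_fin_122) (range_glue (range_of_allGrid c_fin_123) (range_glue (range_of_allGrid c_fin_124) (range_glue (range_of_allGrid c_fin_125) (range_glue (range_of_allGrid c_fin_126) (range_glue (range_of_allGrid c_fin_127) (range_glue (range_of_allGrid c_fin_128) (range_glue (range_of_allGrid c_fin_129) (range_glue (range_of_allGrid c_fin_130) (range_glue (range_of_allGrid c_fin_131) (range_glue (range_of_allGrid c_fin_132) (range_glue (range_of_allGrid c_fin_133) (range_glue (range_of_allGrid c_fin_134) (range_glue (range_of_allGrid c_fin_135) (range_glue (range_of_allGrid c_fin_136) (range_glue (range_of_allGrid c_fin_137) (range_glue (range_of_allGrid c_fin_138) (range_glue (range_of_allGrid c_fin_139) (range_glue (range_of_allGrid c_fin_140) (range_glue (range_of_allGrid c_fin_141) (range_glue (range_of_allGrid c_fin_142) (range_glue (range_of_allGrid c_fin_143) (range_glue (range_of_allGrid c_fin_144) (range_glue (range_of_allGrid c_fin_145) (range_glue (range_of_allGrid c_fin_146) (range_glue (range_of_allGrid c_fin_147) (range_glue (range_of_allGrid c_fin_148) (range_glue (range_of_allGrid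 c_fin_149) (range_glue (range_of_allGrid c_fin_150) (range_glue (range_of_allGrid c_fin_151) (range_glue (range_of_allGrid c_fin_152) (range_glue (range_of_allGrid c_fin_153) (range_glue (range_of_allGrid c_fin_154) (range_glue (range_of_allGrid c_fin_155) (range_glue (range_of_allGrid c_fin_156) (range_glue (range_of_allGrid c_fin_157) (range_glue (range_of_allGrid c_fin_158) (range_of_allGrid c_fin_159))))))))))))))))))))))))))))))))))))))))
theorem h_fin_p4 : ∀ i, 160000 ≤ i → i < 200000 → ∀ x, x < 12 → T.finOK D i x = true :=
  (range_glue (range_of_allGrid c_fin_160) (range_glue (range_of_allGrid c_fin_161) (range_glue (range_of_allGrid c_fin_162) (range_glue (range_of_allGrid c_fin_163) (range_glue (range_of_allGrid c_fin_164) (range_glue (range_of_allGrid c_fin_165) (range_glue (range_of_allGrid c_fin_166) (range_glue (range_of_allGrid c_fin_167) (range_glue (range_of_allGrid c_fin_168) (range_glue (range_of_allGrid c_fin_169) (range_glue (range_of_allGrid c_fin_170) (range_glue (range_of_allGrid c_fin_171) (range_glue (range_of_allGrid c_fin_172) (range_glue (range_of_allGrid c_fin_173) (range_glue (range_of_allGrid c_fin_174) (range_glue (range_of_allGrid c_fin_175) (range_glue (range_of_allGrid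 c_fin_176) (range_glue (range_of_allGrid c_fin_177) (range_glue (range_of_allGrid c_fin_178) (range_glue (range_of_allGrid c_fin_179) (range_glue (range_of_allGrid c_fin_180) (range_glue (range_of_allGrid c_fin_181) (range_glue (range_of_allGrid c_fin_182) (range_glue (range_of_allGrid c_fin_183) (range_glue (range_of_allGrid c_fin_184) (range_glue (range_of_allGrid c_fin_185) (range_glue (range_of_allGrid c_fin_186) (range_glue (range_of_allGrid c_fin_187) (range_glue (range_of_allGrid c_fin_188) (range_glue (range_of_allGrid c_fin_189) (range_glue (range_of_allGrid c_fin_190) (range_glue (range_of_allGrid c_fin_191) (range_glue (range_of_allGrid c_fin_192) (range_glue (range_of_allGrid c_fin_193) (range_glue (range_of_allGrid c_fin_194) (range_glue (range_of_allGrid c_fin_195) (range_glue (range_of_allGrid c_fin_196) (range_glue (range_of_allGrid c_fin_197) (range_glue (range_of_allGrid c_fin_198) (range_of_allGrid c_fin_199))))))))))))))))))))))))))))))))))))))))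
theorem h_fin_p5 : ∀ i, 200000 ≤ i → i < 240000 → ∀ x, x < 12 → T.finOK D i x = true :=
  (range_glue (range_of_allGrid c_fin_200) (range_glue (range_of_allGrid c_fin_201) (range_glue (range_of_allGrid c_fin_202) (range_glue (range_of_allGrid c_fin_203) (range_glue (range_of_allGrid c_fin_204) (range_glue (range_of_allGrid c_fin_205) (range_glue (range_of_allGrid c_fin_206) (range_glue (range_of_allGrid c_fin_207) (range_glue (range_of_allGrid c_fin_208) (range_glue (range_of_allGrid c_fin_209) (range_glue (range_of_allGrid c_fin_210) (range_glue (range_of_allGrid c_fin_211) (range_glue (range_of_allGrid c_fin_212) (range_glue (range_of_allGrid c_fin_213) (range_glue (range_of_allGrid c_fin_214) (range_glue (range_of_allGrid c_fin_215) (range_glue (range_of_allGrid c_fin_216) (range_glue (range_of_allGrid c_fin_217) (range_glue (range_of_allGrid c_fin_218) (range_glue (range_of_allGrid c_fin_219) (range_glue (range_of_allGrid c_fin_220) (range_glue (range_of_allGrid c_fin_221) (range_glue (range_of_allGrid c_fin_222) (range_glue (range_of_allGrid c_fin_223) (range_glue (range_of_allGrid c_fin_224) (range_glue (range_of_allGrid c_fin_225) (range_glue (range_of_allGrid c_fin_226) (range_glue (range_of_allGrid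 c_fin_227) (range_glue (range_of_allGrid c_fin_228) (range_glue (range_of_allGrid c_fin_229) (range_glue (range_of_allGrid c_fin_230) (range_glue (range_of_allGrid c_fin_231) (range_glue (range_of_allGrid c_fin_232) (range_glue (range_of_allGrid c_fin_233) (range_glue (range_of_allGrid c_fin_234) (range_glue (range_of_allGrid c_fin_235) (range_glue (range_of_allGrid c_fin_236) (range_glue (range_of_allGrid c_fin_237) (range_glue (range_of_allGrid c_fin_238) (range_of_allGrid c_fin_239))))))))))))))))))))))))))))))))))))))))
theorem h_fin_p6 : ∀ i, 240000 ≤ i → i < 280000 → ∀ x, x < 12 → T.finOK D i x = true :=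
  (range_glue (range_of_allGrid c_fin_240) (range_glue (range_of_allGrid c_fin_241) (range_glue (range_of_allGrid c_fin_242) (range_glue (range_of_allGrid c_fin_243) (range_glue (range_of_allGrid c_fin_244) (range_glue (range_of_allGrid c_fin_245) (range_glue (range_of_allGrid c_fin_246) (range_glue (range_of_allGrid c_fin_247) (range_glue (range_of_allGrid c_fin_248) (range_glue (range_of_allGrid c_fin_249) (range_glue (range_of_allGrid c_fin_250) (range_glue (range_of_allGrid c_fin_251) (range_glue (range_of_allGrid c_fin_252) (range_glue (range_of_allGrid c_fin_253) (range_glue (range_of_allGrid c_fin_254) (range_glue (range_of_allGrid c_fin_255) (range_glue (range_of_allGrid c_fin_256) (range_glue (range_of_allGrid c_fin_257) (range_glue (range_of_allGrid c_fin_258) (range_glue (range_of_allGrid c_fin_259) (range_glue (range_of_allGrid c_fin_260) (range_glue (range_of_allGrid c_fin_261) (range_glue (range_of_allGrid c_fin_262) (range_glue (range_of_allGrid c_fin_263) (range_glue (range_of_allGrid c_fin_264) (range_glue (range_of_allGrid c_fin_265) (range_glue (range_of_allGrid c_fin_266) (range_glue (range_of_allGrid c_fin_267) (range_glue (range_of_allGrid c_fin_268) (range_glue (range_of_allGrid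 c_fin_269) (range_glue (range_of_allGrid c_fin_270) (range_glue (range_of_allGrid c_fin_271) (range_glue (range_of_allGrid c_fin_272) (range_glue (range_of_allGrid c_fin_273) (range_glue (range_of_allGrid c_fin_274) (range_glue (range_of_allGrid c_fin_275) (range_glue (range_of_allGrid c_fin_276) (range_glue (range_of_allGrid c_fin_277) (range_glue (range_of_allGrid c_fin_278) (range_of_allGrid c_fin_279))))))))))))))))))))))))))))))))))))))))
theorem h_fin_p7 : ∀ i, 280000 ≤ i → i < 306936 → ∀ x, x < 12 → T.finOK D i x = true :=
  (range_glue (range_of_allGrid c_fin_280) (range_glue (range_of_allGrid c_fin_281) (range_glue (range_of_allGrid c_fin_282) (range_glue (range_of_allGrid c_fin_283) (range_glue (range_of_allGrid c_fin_284) (range_glue (range_of_allGrid c_fin_285) (range_glue (range_of_allGrid c_fin_286) (range_glue (range_of_allGrid c_fin_287) (range_glue (range_of_allGrid c_fin_288) (range_glue (range_of_allGrid c_fin_289) (range_glue (range_of_allGrid c_fin_290) (range_glue (range_of_allGrid c_fin_291) (range_glue (range_of_allGrid c_fin_292) (range_glue (range_of_allGrid c_fin_293) (range_glue (range_of_allGrid c_fin_294) (range_glue (range_of_allGrid c_fin_295) (range_glue (range_of_allGrid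 c_fin_296) (range_glue (range_of_allGrid c_fin_297) (range_glue (range_of_allGrid c_fin_298) (range_glue (range_of_allGrid c_fin_299) (range_glue (range_of_allGrid c_fin_300) (range_glue (range_of_allGrid c_fin_301) (range_glue (range_of_allGrid c_fin_302) (range_glue (range_of_allGrid c_fin_303) (range_glue (range_of_allGrid c_fin_304) (range_glue (range_of_allGrid c_fin_305) (range_of_allGrid c_fin_306)))))))))))))))))))))))))))
theorem h_fin : ∀ i, 0 ≤ i → i < 306936 → ∀ x, x < 12 → T.finOK D i x = true :=
  (range_glue h_fin_p0 (range_glue h_fin_p1 (range_glue h_fin_p2 (range_glue h_fin_p3 (range_glue h_fin_p4 (range_glue h_fin_p5 (range_glue h_fin_p6 h_fin_p7)))))))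
theorem h_perm_p0 : ∀ i, 0 ≤ i → i < 100000 → ∀ x, x < 12 → T.permOK1 D i x = true :=
  (range_glue (range_of_allGrid c_perm_0) (range_glue (range_of_allGrid c_perm_1) (range_glue (range_of_allGrid c_perm_2) (range_glue (range_of_allGrid c_perm_3) (range_glue (range_of_allGrid c_perm_4) (range_glue (range_of_allGrid c_perm_5) (range_glue (range_of_allGrid c_perm_6) (range_glue (range_of_allGrid c_perm_7) (range_glue (range_of_allGrid c_perm_8) (range_glue (range_of_allGrid c_perm_9) (range_glue (range_of_allGrid c_perm_10) (range_glue (range_of_allGrid c_perm_11) (range_glue (range_of_allGrid c_perm_12) (range_glue (range_of_allGrid c_perm_13) (range_glue (range_of_allGrid c_perm_14) (range_glue (range_of_allGrid c_perm_15) (range_glue (range_of_allGrid c_perm_16) (range_glue (range_of_allGrid c_perm_17) (range_glue (range_of_allGrid c_perm_18) (range_glue (range_of_allGrid c_perm_19) (range_glue (range_of_allGrid c_perm_20) (range_glue (range_of_allGrid c_perm_21) (range_glue (range_of_allGrid c_perm_22) (range_glue (range_of_allGrid c_perm_23) (range_glue (range_of_allGrid c_perm_24) (range_glue (range_of_allGrid c_perm_25) (range_glue (range_of_allGrid c_perm_26) (range_glue (range_of_allGrid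 c_perm_27) (range_glue (range_of_allGrid c_perm_28) (range_glue (range_of_allGrid c_perm_29) (range_glue (range_of_allGrid c_perm_30) (range_glue (range_of_allGrid c_perm_31) (range_glue (range_of_allGrid c_perm_32) (range_glue (range_of_allGrid c_perm_33) (range_glue (range_of_allGrid c_perm_34) (range_glue (range_of_allGrid c_perm_35) (range_glue (range_of_allGrid c_perm_36) (range_glue (range_of_allGrid c_perm_37) (range_glue (range_of_allGrid c_perm_38) (range_of_allGrid c_perm_39))))))))))))))))))))))))))))))))))))))))
theorem h_perm_p1 : ∀ i, 100000 ≤ i → i < 200000 → ∀ x, x < 12 → T.permOK1 D i x = true :=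
  (range_glue (range_of_allGrid c_perm_40) (range_glue (range_of_allGrid c_perm_41) (range_glue (range_of_allGrid c_perm_42) (range_glue (range_of_allGrid c_perm_43) (range_glue (range_of_allGrid c_perm_44) (range_glue (range_of_allGrid c_perm_45) (range_glue (range_of_allGrid c_perm_46) (range_glue (range_of_allGrid c_perm_47) (range_glue (range_of_allGrid c_perm_48) (range_glue (range_of_allGrid c_perm_49) (range_glue (range_of_allGrid c_perm_50) (range_glue (range_of_allGrid c_perm_51) (range_glue (range_of_allGrid c_perm_52) (range_glue (range_of_allGrid c_perm_53) (range_glue (range_of_allGrid c_perm_54) (range_glue (range_of_allGrid c_perm_55) (range_glue (range_of_allGrid c_perm_56) (range_glue (range_of_allGrid c_perm_57) (range_glue (range_of_allGrid c_perm_58) (range_glue (range_of_allGrid c_perm_59) (range_glue (range_of_allGrid c_perm_60) (range_glue (range_of_allGrid c_perm_61) (range_glue (range_of_allGrid c_perm_62) (range_glue (range_of_allGrid c_perm_63) (range_glue (range_of_allGrid c_perm_64) (range_glue (range_of_allGrid c_perm_65) (range_glue (range_of_allGrid c_perm_66) (range_glue (range_of_allGrid c_perm_67) (range_glue (range_of_allGrid c_perm_68) (range_glue (range_of_allGrid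 c_perm_69) (range_glue (range_of_allGrid c_perm_70) (range_glue (range_of_allGrid c_perm_71) (range_glue (range_of_allGrid c_perm_72) (range_glue (range_of_allGrid c_perm_73) (range_glue (range_of_allGrid c_perm_74) (range_glue (range_of_allGrid c_perm_75) (range_glue (range_of_allGrid c_perm_76) (range_glue (range_of_allGrid c_perm_77) (range_glue (range_of_allGrid c_perm_78) (range_of_allGrid c_perm_79))))))))))))))))))))))))))))))))))))))))
theorem h_perm_p2 : ∀ i, 200000 ≤ i → i < 300000 → ∀ x, x < 12 → T.permOK1 D i x = true :=
  (range_glue (range_of_allGrid c_perm_80) (range_glue (range_of_allGrid c_perm_81) (range_glue (range_of_allGrid c_perm_82) (range_glue (range_of_allGrid c_perm_83) (range_glue (range_of_allGrid c_perm_84) (range_glue (range_of_allGrid c_perm_85) (range_glue (range_of_allGrid c_perm_86) (range_glue (range_of_allGrid c_perm_87) (range_glue (range_of_allGrid c_perm_88) (range_glue (range_of_allGrid c_perm_89) (range_glue (range_of_allGrid c_perm_90) (range_glue (range_of_allGrid c_perm_91) (range_glue (range_of_allGrid c_perm_92) (range_glue (range_of_allGrid c_perm_93) (range_glue (range_of_allGrid c_perm_94) (range_glue (range_of_allGrid c_perm_95) (range_glue (range_of_allGrid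 c_perm_96) (range_glue (range_of_allGrid c_perm_97) (range_glue (range_of_allGrid c_perm_98) (range_glue (range_of_allGrid c_perm_99) (range_glue (range_of_allGrid c_perm_100) (range_glue (range_of_allGrid c_perm_101) (range_glue (range_of_allGrid c_perm_102) (range_glue (range_of_allGrid c_perm_103) (range_glue (range_of_allGrid c_perm_104) (range_glue (range_of_allGrid c_perm_105) (range_glue (range_of_allGrid c_perm_106) (range_glue (range_of_allGrid c_perm_107) (range_glue (range_of_allGrid c_perm_108) (range_glue (range_of_allGrid c_perm_109) (range_glue (range_of_allGrid c_perm_110) (range_glue (range_of_allGrid c_perm_111) (range_glue (range_of_allGrid c_perm_112) (range_glue (range_of_allGrid c_perm_113) (range_glue (range_of_allGrid c_perm_114) (range_glue (range_of_allGrid c_perm_115) (range_glue (range_of_allGrid c_perm_116) (range_glue (range_of_allGrid c_perm_117) (range_glue (range_of_allGrid c_perm_118) (range_of_allGrid c_perm_119))))))))))))))))))))))))))))))))))))))))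
theorem h_perm_p3 : ∀ i, 300000 ≤ i → i < 306936 → ∀ x, x < 12 → T.permOK1 D i x = true :=
  (range_glue (range_of_allGrid c_perm_120) (range_glue (range_of_allGrid c_perm_121) (range_of_allGrid c_perm_122)))
theorem h_perm : ∀ i, 0 ≤ i → i < 306936 → ∀ x, x < 12 → T.permOK1 D i x = true :=
  (range_glue h_perm_p0 (range_glue h_perm_p1 (range_glue h_perm_p2 h_perm_p3)))
theorem h_act0 : ∀ i, 0 ≤ i → i < 306936 → Nat.beq (actR0 i) i = true :=
  (range_glue (range_of_allRange c_act0_0) (range_glue (range_of_allRange c_act0_1) (range_glue (range_of_allRange c_act0_2) (range_glue (range_of_allRange c_act0_3) (range_glue (range_of_allRange c_act0_4) (range_glue (range_of_allRange c_act0_5) (range_glue (range_of_allRange c_act0_6) (range_glue (range_of_allRange c_act0_7) (range_glue (range_of_allRange c_act0_8) (range_glue (range_of_allRange c_act0_9) (range_of_allRange c_act0_10)))))))))))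
theorem h_act1 : ∀ i, 0 ≤ i → i < 306936 → Nat.beq (actR1 i) i = true :=
  (range_glue (range_of_allRange c_act1_0) (range_glue (range_of_allRange c_act1_1) (range_glue (range_of_allRange c_act1_2) (range_glue (range_of_allRange c_act1_3) (range_glue (range_of_allRange c_act1_4) (range_glue (range_of_allRange c_act1_5) (range_glue (range_of_allRange c_act1_6) (range_glue (range_of_allRange c_act1_7) (range_glue (range_of_allRange c_act1_8) (range_glue (range_of_allRange c_act1_9) (range_glue (range_of_allRange c_act1_10) (range_glue (range_of_allRange c_act1_11) (range_glue (range_of_allRange c_act1_12) (range_glue (range_of_allRange c_act1_13) (range_glue (range_of_allRange c_act1_14) (range_glue (range_of_allRange c_act1_15) (range_glue (range_of_allRange c_act1_16) (range_glue (range_of_allRange c_act1_17) (range_glue (range_of_allRange c_act1_18) (range_glue (range_of_allRange c_act1_19) (range_glue (range_of_allRange c_act1_20) (range_glue (range_of_allRange c_act1_21) (range_glue (range_of_allRange c_act1_22) (range_glue (range_of_allRange c_act1_23) (range_glue (range_of_allRange c_act1_24) (range_glue (range_of_allRange c_act1_25) (range_glue (range_of_allRange c_act1_26) (range_glue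 (range_of_allRange c_act1_27) (range_glue (range_of_allRange c_act1_28) (range_glue (range_of_allRange c_act1_29) (range_of_allRange c_act1_30)))))))))))))))))))))))))))))))
theorem h_act2 : ∀ i, 0 ≤ i → i < 306936 → Nat.beq (actR2 i) i = true :=
  (range_glue (range_of_allRange c_act2_0) (range_glue (range_of_allRange c_act2_1) (range_glue (range_of_allRange c_act2_2) (range_glue (range_of_allRange c_act2_3) (range_glue (range_of_allRange c_act2_4) (range_glue (range_of_allRange c_act2_5) (range_glue (range_of_allRange c_act2_6) (range_glue (range_of_allRange c_act2_7) (range_glue (range_of_allRange c_act2_8) (range_glue (range_of_allRange c_act2_9) (range_glue (range_of_allRange c_act2_10) (range_glue (range_of_allRange c_act2_11) (range_glue (range_of_allRange c_act2_12) (range_glue (range_of_allRange c_act2_13) (range_glue (range_of_allRange c_act2_14) (range_glue (range_of_allRange c_act2_15) (range_glue (range_of_allRange c_act2_16) (range_glue (range_of_allRange c_act2_17) (range_glue (range_of_allRange c_act2_18) (range_glue (range_of_allRange c_act2_19) (range_of_allRange c_act2_20)))))))))))))))))))))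
theorem h_act3 : ∀ i, 0 ≤ i → i < 306936 → Nat.beq (actR3 i) i = true :=
  (range_glue (range_of_allRange c_act3_0) (range_glue (range_of_allRange c_act3_1) (range_glue (range_of_allRange c_act3_2) (range_glue (range_of_allRange c_act3_3) (range_glue (range_of_allRange c_act3_4) (range_glue (range_of_allRange c_act3_5) (range_glue (range_of_allRange c_act3_6) (range_glue (range_of_allRange c_act3_7) (range_glue (range_of_allRange c_act3_8) (range_glue (range_of_allRange c_act3_9) (range_glue (range_of_allRange c_act3_10) (range_glue (range_of_allRange c_act3_11) (range_glue (range_of_allRange c_act3_12) (range_glue (range_of_allRange c_act3_13) (range_glue (range_of_allRange c_act3_14) (range_glue (range_of_allRange c_act3_15) (range_glue (range_of_allRange c_act3_16) (range_glue (range_of_allRange c_act3_17) (range_glue (range_of_allRange c_act3_18) (range_glue (range_of_allRange c_act3_19) (range_of_allRange c_act3_20)))))))))))))))))))))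
theorem h_act4 : ∀ i, 0 ≤ i → i < 306936 → Nat.beq (actR4 i) i = true :=
  (range_glue (range_of_allRange c_act4_0) (range_glue (range_of_allRange c_act4_1) (range_glue (range_of_allRange c_act4_2) (range_glue (range_of_allRange c_act4_3) (range_glue (range_of_allRange c_act4_4) (range_glue (range_of_allRange c_act4_5) (range_glue (range_of_allRange c_act4_6) (range_glue (range_of_allRange c_act4_7) (range_glue (range_of_allRange c_act4_8) (range_glue (range_of_allRange c_act4_9) (range_glue (range_of_allRange c_act4_10) (range_glue (range_of_allRange c_act4_11) (range_glue (range_of_allRange c_act4_12) (range_glue (range_of_allRange c_act4_13) (range_glue (range_of_allRange c_act4_14) (range_glue (range_of_allRange c_act4_15) (range_glue (range_of_allRange c_act4_16) (range_glue (range_of_allRange c_act4_17) (range_glue (range_of_allRange c_act4_18) (range_glue (range_of_allRange c_act4_19) (range_of_allRange c_act4_20)))))))))))))))))))))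
theorem h_act5 : ∀ i, 0 ≤ i → i < 306936 → Nat.beq (actR5 i) i = true :=
  (range_glue (range_of_allRange c_act5_0) (range_glue (range_of_allRange c_act5_1) (range_glue (range_of_allRange c_act5_2) (range_glue (range_of_allRange c_act5_3) (range_glue (range_of_allRange c_act5_4) (range_glue (range_of_allRange c_act5_5) (range_glue (range_of_allRange c_act5_6) (range_glue (range_of_allRange c_act5_7) (range_glue (range_of_allRange c_act5_8) (range_glue (range_of_allRange c_act5_9) (range_glue (range_of_allRange c_act5_10) (range_glue (range_of_allRange c_act5_11) (range_glue (range_of_allRange c_act5_12) (range_glue (range_of_allRange c_act5_13) (range_glue (range_of_allRange c_act5_14) (range_glue (range_of_allRange c_act5_15) (range_glue (range_of_allRange c_act5_16) (range_glue (range_of_allRange c_act5_17) (range_glue (range_of_allRange c_act5_18) (range_glue (range_of_allRange c_act5_19) (range_of_allRange c_act5_20)))))))))))))))))))))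
theorem h_act6 : ∀ i, 0 ≤ i → i < 306936 → Nat.beq (actR6 i) i = true :=
  (range_glue (range_of_allRange c_act6_0) (range_glue (range_of_allRange c_act6_1) (range_glue (range_of_allRange c_act6_2) (range_glue (range_of_allRange c_act6_3) (range_glue (range_of_allRange c_act6_4) (range_glue (range_of_allRange c_act6_5) (range_glue (range_of_allRange c_act6_6) (range_glue (range_of_allRange c_act6_7) (range_glue (range_of_allRange c_act6_8) (range_glue (range_of_allRange c_act6_9) (range_glue (range_of_allRange c_act6_10) (range_glue (range_of_allRange c_act6_11) (range_glue (range_of_allRange c_act6_12) (range_glue (range_of_allRange c_act6_13) (range_glue (range_of_allRange c_act6_14) (range_glue (range_of_allRange c_act6_15) (range_glue (range_of_allRange c_act6_16) (range_glue (range_of_allRange c_act6_17) (range_glue (range_of_allRange c_act6_18) (range_glue (range_of_allRange c_act6_19) (range_of_allRange c_act6_20)))))))))))))))))))))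
theorem h_act7 : ∀ i, 0 ≤ i → i < 306936 → Nat.beq (actR7 i) i = true :=
  (range_glue (range_of_allRange c_act7_0) (range_glue (range_of_allRange c_act7_1) (range_glue (range_of_allRange c_act7_2) (range_glue (range_of_allRange c_act7_3) (range_glue (range_of_allRange c_act7_4) (range_glue (range_of_allRange c_act7_5) (range_glue (range_of_allRange c_act7_6) (range_glue (range_of_allRange c_act7_7) (range_glue (range_of_allRange c_act7_8) (range_glue (range_of_allRange c_act7_9) (range_glue (range_of_allRange c_act7_10) (range_glue (range_of_allRange c_act7_11) (range_glue (range_of_allRange c_act7_12) (range_glue (range_of_allRange c_act7_13) (range_glue (range_of_allRange c_act7_14) (range_glue (range_of_allRange c_act7_15) (range_glue (range_of_allRange c_act7_16) (range_glue (range_of_allRange c_act7_17) (range_glue (range_of_allRange c_act7_18) (range_glue (range_of_allRange c_act7_19) (range_of_allRange c_act7_20)))))))))))))))))))))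
theorem h_act8 : ∀ i, 0 ≤ i → i < 306936 → Nat.beq (actR8 i) i = true :=
  (range_glue (range_of_allRange c_act8_0) (range_glue (range_of_allRange c_act8_1) (range_glue (range_of_allRange c_act8_2) (range_glue (range_of_allRange c_act8_3) (range_glue (range_of_allRange c_act8_4) (range_glue (range_of_allRange c_act8_5) (range_glue (range_of_allRange c_act8_6) (range_glue (range_of_allRange c_act8_7) (range_glue (range_of_allRange c_act8_8) (range_glue (range_of_allRange c_act8_9) (range_glue (range_of_allRange c_act8_10) (range_glue (range_of_allRange c_act8_11) (range_glue (range_of_allRange c_act8_12) (range_glue (range_of_allRange c_act8_13) (range_glue (range_of_allRange c_act8_14) (range_glue (range_of_allRange c_act8_15) (range_glue (range_of_allRange c_act8_16) (range_glue (range_of_allRange c_act8_17) (range_glue (range_of_allRange c_act8_18) (range_glue (range_of_allRange c_act8_19) (range_of_allRange c_act8_20)))))))))))))))))))))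
theorem h_act9 : ∀ i, 0 ≤ i → i < 306936 → Nat.beq (actR9 i) i = true :=
  (range_glue (range_of_allRange c_act9_0) (range_glue (range_of_allRange c_act9_1) (range_glue (range_of_allRange c_act9_2) (range_glue (range_of_allRange c_act9_3) (range_glue (range_of_allRange c_act9_4) (range_glue (range_of_allRange c_act9_5) (range_glue (range_of_allRange c_act9_6) (range_glue (range_of_allRange c_act9_7) (range_glue (range_of_allRange c_act9_8) (range_glue (range_of_allRange c_act9_9) (range_glue (range_of_allRange c_act9_10) (range_glue (range_of_allRange c_act9_11) (range_glue (range_of_allRange c_act9_12) (range_glue (range_of_allRange c_act9_13) (range_glue (range_of_allRange c_act9_14) (range_glue (range_of_allRange c_act9_15) (range_glue (range_of_allRange c_act9_16) (range_glue (range_of_allRange c_act9_17) (range_glue (range_of_allRange c_act9_18) (range_glue (range_of_allRange c_act9_19) (range_of_allRange c_act9_20)))))))))))))))))))))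
theorem h_act10 : ∀ i, 0 ≤ i → i < 306936 → Nat.beq (actR10 i) i = true :=
  (range_glue (range_of_allRange c_act10_0) (range_glue (range_of_allRange c_act10_1) (range_glue (range_of_allRange c_act10_2) (range_glue (range_of_allRange c_act10_3) (range_glue (range_of_allRange c_act10_4) (range_glue (range_of_allRange c_act10_5) (range_glue (range_of_allRange c_act10_6) (range_glue (range_of_allRange c_act10_7) (range_glue (range_of_allRange c_act10_8) (range_glue (range_of_allRange c_act10_9) (range_glue (range_of_allRange c_act10_10) (range_glue (range_of_allRange c_act10_11) (range_glue (range_of_allRange c_act10_12) (range_glue (range_of_allRange c_act10_13) (range_glue (range_of_allRange c_act10_14) (range_glue (range_of_allRange c_act10_15) (range_glue (range_of_allRange c_act10_16) (range_glue (range_of_allRange c_act10_17) (range_glue (range_of_allRange c_act10_18) (range_glue (range_of_allRange c_act10_19) (range_of_allRange c_act10_20)))))))))))))))))))))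
theorem h_act11 : ∀ i, 0 ≤ i → i < 306936 → Nat.beq (actR11 i) i = true :=
  (range_glue (range_of_allRange c_act11_0) (range_glue (range_of_allRange c_act11_1) (range_glue (range_of_allRange c_act11_2) (range_glue (range_of_allRange c_act11_3) (range_glue (range_of_allRange c_act11_4) (range_glue (range_of_allRange c_act11_5) (range_glue (range_of_allRange c_act11_6) (range_glue (range_of_allRange c_act11_7) (range_glue (range_of_allRange c_act11_8) (range_glue (range_of_allRange c_act11_9) (range_glue (range_of_allRange c_act11_10) (range_glue (range_of_allRange c_act11_11) (range_glue (range_of_allRange c_act11_12) (range_glue (range_of_allRange c_act11_13) (range_glue (range_of_allRange c_act11_14) (range_glue (range_of_allRange c_act11_15) (range_glue (range_of_allRange c_act11_16) (range_glue (range_of_allRange c_act11_17) (range_glue (range_of_allRange c_act11_18) (range_glue (range_of_allRange c_act11_19) (range_of_allRange c_act11_20)))))))))))))))))))))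
theorem h_act12 : ∀ i, 0 ≤ i → i < 306936 → Nat.beq (actR12 i) i = true :=
  (range_glue (range_of_allRange c_act12_0) (range_glue (range_of_allRange c_act12_1) (range_glue (range_of_allRange c_act12_2) (range_glue (range_of_allRange c_act12_3) (range_glue (range_of_allRange c_act12_4) (range_glue (range_of_allRange c_act12_5) (range_glue (range_of_allRange c_act12_6) (range_glue (range_of_allRange c_act12_7) (range_glue (range_of_allRange c_act12_8) (range_glue (range_of_allRange c_act12_9) (range_of_allRange c_act12_10)))))))))))
theorem h_act13 : ∀ i, 0 ≤ i → i < 306936 → Nat.beq (actR13 i) i = true :=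
  (range_glue (range_of_allRange c_act13_0) (range_glue (range_of_allRange c_act13_1) (range_glue (range_of_allRange c_act13_2) (range_glue (range_of_allRange c_act13_3) (range_glue (range_of_allRange c_act13_4) (range_glue (range_of_allRange c_act13_5) (range_glue (range_of_allRange c_act13_6) (range_glue (range_of_allRange c_act13_7) (range_glue (range_of_allRange c_act13_8) (range_glue (range_of_allRange c_act13_9) (range_glue (range_of_allRange c_act13_10) (range_glue (range_of_allRange c_act13_11) (range_glue (range_of_allRange c_act13_12) (range_glue (range_of_allRange c_act13_13) (range_glue (range_of_allRange c_act13_14) (range_glue (range_of_allRange c_act13_15) (range_glue (range_of_allRange c_act13_16) (range_glue (range_of_allRange c_act13_17) (range_glue (range_of_allRange c_act13_18) (range_glue (range_of_allRange c_act13_19) (range_glue (range_of_allRange c_act13_20) (range_glue (range_of_allRange c_act13_21) (range_glue (range_of_allRange c_act13_22) (range_glue (range_of_allRange c_act13_23) (range_glue (range_of_allRange c_act13_24) (range_glue (range_of_allRange c_act13_25) (range_glue (range_of_allRange c_act13_26) (range_glue (range_of_allRange c_act13_27) (range_glue (range_of_allRange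 c_act13_28) (range_glue (range_of_allRange c_act13_29) (range_of_allRange c_act13_30)))))))))))))))))))))))))))))))
theorem h_act14 : ∀ i, 0 ≤ i → i < 306936 → Nat.beq (actR14 i) i = true :=
  (range_glue (range_of_allRange c_act14_0) (range_glue (range_of_allRange c_act14_1) (range_glue (range_of_allRange c_act14_2) (range_glue (range_of_allRange c_act14_3) (range_glue (range_of_allRange c_act14_4) (range_glue (range_of_allRange c_act14_5) (range_glue (range_of_allRange c_act14_6) (range_glue (range_of_allRange c_act14_7) (range_glue (range_of_allRange c_act14_8) (range_glue (range_of_allRange c_act14_9) (range_glue (range_of_allRange c_act14_10) (range_glue (range_of_allRange c_act14_11) (range_glue (range_of_allRange c_act14_12) (range_glue (range_of_allRange c_act14_13) (range_glue (range_of_allRange c_act14_14) (range_glue (range_of_allRange c_act14_15) (range_glue (range_of_allRange c_act14_16) (range_glue (range_of_allRange c_act14_17) (range_glue (range_of_allRange c_act14_18) (range_glue (range_of_allRange c_act14_19) (range_of_allRange c_act14_20)))))))))))))))))))))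
theorem h_act15 : ∀ i, 0 ≤ i → i < 306936 → Nat.beq (actR15 i) i = true :=
  (range_glue (range_of_allRange c_act15_0) (range_glue (range_of_allRange c_act15_1) (range_glue (range_of_allRange c_act15_2) (range_glue (range_of_allRange c_act15_3) (range_glue (range_of_allRange c_act15_4) (range_glue (range_of_allRange c_act15_5) (range_glue (range_of_allRange c_act15_6) (range_glue (range_of_allRange c_act15_7) (range_glue (range_of_allRange c_act15_8) (range_glue (range_of_allRange c_act15_9) (range_glue (range_of_allRange c_act15_10) (range_glue (range_of_allRange c_act15_11) (range_glue (range_of_allRange c_act15_12) (range_glue (range_of_allRange c_act15_13) (range_glue (range_of_allRange c_act15_14) (range_glue (range_of_allRange c_act15_15) (range_glue (range_of_allRange c_act15_16) (range_glue (range_of_allRange c_act15_17) (range_glue (range_of_allRange c_act15_18) (range_glue (range_of_allRange c_act15_19) (range_of_allRange c_act15_20)))))))))))))))))))))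
theorem h_act16 : ∀ i, 0 ≤ i → i < 306936 → Nat.beq (actR16 i) i = true :=
  (range_glue (range_of_allRange c_act16_0) (range_glue (range_of_allRange c_act16_1) (range_glue (range_of_allRange c_act16_2) (range_glue (range_of_allRange c_act16_3) (range_glue (range_of_allRange c_act16_4) (range_glue (range_of_allRange c_act16_5) (range_glue (range_of_allRange c_act16_6) (range_glue (range_of_allRange c_act16_7) (range_glue (range_of_allRange c_act16_8) (range_glue (range_of_allRange c_act16_9) (range_glue (range_of_allRange c_act16_10) (range_glue (range_of_allRange c_act16_11) (range_glue (range_of_allRange c_act16_12) (range_glue (range_of_allRange c_act16_13) (range_glue (range_of_allRange c_act16_14) (range_glue (range_of_allRange c_act16_15) (range_glue (range_of_allRange c_act16_16) (range_glue (range_of_allRange c_act16_17) (range_glue (range_of_allRange c_act16_18) (range_glue (range_of_allRange c_act16_19) (range_of_allRange c_act16_20)))))))))))))))))))))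
theorem h_act17 : ∀ i, 0 ≤ i → i < 306936 → Nat.beq (actR17 i) i = true :=
  (range_glue (range_of_allRange c_act17_0) (range_glue (range_of_allRange c_act17_1) (range_glue (range_of_allRange c_act17_2) (range_glue (range_of_allRange c_act17_3) (range_glue (range_of_allRange c_act17_4) (range_glue (range_of_allRange c_act17_5) (range_glue (range_of_allRange c_act17_6) (range_glue (range_of_allRange c_act17_7) (range_glue (range_of_allRange c_act17_8) (range_glue (range_of_allRange c_act17_9) (range_glue (range_of_allRange c_act17_10) (range_glue (range_of_allRange c_act17_11) (range_glue (range_of_allRange c_act17_12) (range_glue (range_of_allRange c_act17_13) (range_glue (range_of_allRange c_act17_14) (range_glue (range_of_allRange c_act17_15) (range_glue (range_of_allRange c_act17_16) (range_glue (range_of_allRange c_act17_17) (range_glue (range_of_allRange c_act17_18) (range_glue (range_of_allRange c_act17_19) (range_of_allRange c_act17_20)))))))))))))))))))))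
theorem h_act18 : ∀ i, 0 ≤ i → i < 306936 → Nat.beq (actR18 i) i = true :=
  (range_glue (range_of_allRange c_act18_0) (range_glue (range_of_allRange c_act18_1) (range_glue (range_of_allRange c_act18_2) (range_glue (range_of_allRange c_act18_3) (range_glue (range_of_allRange c_act18_4) (range_glue (range_of_allRange c_act18_5) (range_glue (range_of_allRange c_act18_6) (range_glue (range_of_allRange c_act18_7) (range_glue (range_of_allRange c_act18_8) (range_glue (range_of_allRange c_act18_9) (range_glue (range_of_allRange c_act18_10) (range_glue (range_of_allRange c_act18_11) (range_glue (range_of_allRange c_act18_12) (range_glue (range_of_allRange c_act18_13) (range_glue (range_of_allRange c_act18_14) (range_glue (range_of_allRange c_act18_15) (range_glue (range_of_allRange c_act18_16) (range_glue (range_of_allRange c_act18_17) (range_glue (range_of_allRange c_act18_18) (range_glue (range_of_allRange c_act18_19) (range_of_allRange c_act18_20)))))))))))))))))))))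
theorem h_act19 : ∀ i, 0 ≤ i → i < 306936 → Nat.beq (actR19 i) i = true :=
  (range_glue (range_of_allRange c_act19_0) (range_glue (range_of_allRange c_act19_1) (range_glue (range_of_allRange c_act19_2) (range_glue (range_of_allRange c_act19_3) (range_glue (range_of_allRange c_act19_4) (range_glue (range_of_allRange c_act19_5) (range_glue (range_of_allRange c_act19_6) (range_glue (range_of_allRange c_act19_7) (range_glue (range_of_allRange c_act19_8) (range_glue (range_of_allRange c_act19_9) (range_glue (range_of_allRange c_act19_10) (range_glue (range_of_allRange c_act19_11) (range_glue (range_of_allRange c_act19_12) (range_glue (range_of_allRange c_act19_13) (range_glue (range_of_allRange c_act19_14) (range_glue (range_of_allRange c_act19_15) (range_glue (range_of_allRange c_act19_16) (range_glue (range_of_allRange c_act19_17) (range_glue (range_of_allRange c_act19_18) (range_glue (range_of_allRange c_act19_19) (range_of_allRange c_act19_20)))))))))))))))))))))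
theorem h_act20 : ∀ i, 0 ≤ i → i < 306936 → Nat.beq (actR20 i) i = true :=
  (range_glue (range_of_allRange c_act20_0) (range_glue (range_of_allRange c_act20_1) (range_glue (range_of_allRange c_act20_2) (range_glue (range_of_allRange c_act20_3) (range_glue (range_of_allRange c_act20_4) (range_glue (range_of_allRange c_act20_5) (range_glue (range_of_allRange c_act20_6) (range_glue (range_of_allRange c_act20_7) (range_glue (range_of_allRange c_act20_8) (range_glue (range_of_allRange c_act20_9) (range_glue (range_of_allRange c_act20_10) (range_glue (range_of_allRange c_act20_11) (range_glue (range_of_allRange c_act20_12) (range_glue (range_of_allRange c_act20_13) (range_glue (range_of_allRange c_act20_14) (range_glue (range_of_allRange c_act20_15) (range_glue (range_of_allRange c_act20_16) (range_glue (range_of_allRange c_act20_17) (range_glue (range_of_allRange c_act20_18) (range_glue (range_of_allRange c_act20_19) (range_of_allRange c_act20_20)))))))))))))))))))))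
theorem h_act21 : ∀ i, 0 ≤ i → i < 306936 → Nat.beq (actR21 i) i = true :=
  (range_glue (range_of_allRange c_act21_0) (range_glue (range_of_allRange c_act21_1) (range_glue (range_of_allRange c_act21_2) (range_glue (range_of_allRange c_act21_3) (range_glue (range_of_allRange c_act21_4) (range_glue (range_of_allRange c_act21_5) (range_glue (range_of_allRange c_act21_6) (range_glue (range_of_allRange c_act21_7) (range_glue (range_of_allRange c_act21_8) (range_glue (range_of_allRange c_act21_9) (range_glue (range_of_allRange c_act21_10) (range_glue (range_of_allRange c_act21_11) (range_glue (range_of_allRange c_act21_12) (range_glue (range_of_allRange c_act21_13) (range_glue (range_of_allRange c_act21_14) (range_glue (range_of_allRange c_act21_15) (range_glue (range_of_allRange c_act21_16) (range_glue (range_of_allRange c_act21_17) (range_glue (range_of_allRange c_act21_18) (range_glue (range_of_allRange c_act21_19) (range_of_allRange c_act21_20)))))))))))))))))))))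
theorem h_act22 : ∀ i, 0 ≤ i → i < 306936 → Nat.beq (actR22 i) i = true :=
  (range_glue (range_of_allRange c_act22_0) (range_glue (range_of_allRange c_act22_1) (range_glue (range_of_allRange c_act22_2) (range_glue (range_of_allRange c_act22_3) (range_glue (range_of_allRange c_act22_4) (range_glue (range_of_allRange c_act22_5) (range_glue (range_of_allRange c_act22_6) (range_glue (range_of_allRange c_act22_7) (range_glue (range_of_allRange c_act22_8) (range_glue (range_of_allRange c_act22_9) (range_glue (range_of_allRange c_act22_10) (range_glue (range_of_allRange c_act22_11) (range_glue (range_of_allRange c_act22_12) (range_glue (range_of_allRange c_act22_13) (range_glue (range_of_allRange c_act22_14) (range_glue (range_of_allRange c_act22_15) (range_glue (range_of_allRange c_act22_16) (range_glue (range_of_allRange c_act22_17) (range_glue (range_of_allRange c_act22_18) (range_glue (range_of_allRange c_act22_19) (range_of_allRange c_act22_20)))))))))))))))))))))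
theorem h_act23 : ∀ i, 0 ≤ i → i < 306936 → Nat.beq (actR23 i) i = true :=
  (range_glue (range_of_allRange c_act23_0) (range_glue (range_of_allRange c_act23_1) (range_glue (range_of_allRange c_act23_2) (range_glue (range_of_allRange c_act23_3) (range_glue (range_of_allRange c_act23_4) (range_glue (range_of_allRange c_act23_5) (range_glue (range_of_allRange c_act23_6) (range_glue (range_of_allRange c_act23_7) (range_glue (range_of_allRange c_act23_8) (range_glue (range_of_allRange c_act23_9) (range_of_allRange c_act23_10)))))))))))
theorem h_act24 : ∀ i, 0 ≤ i → i < 306936 → Nat.beq (actR24 i) i = true :=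
  (range_glue (range_of_allRange c_act24_0) (range_glue (range_of_allRange c_act24_1) (range_glue (range_of_allRange c_act24_2) (range_glue (range_of_allRange c_act24_3) (range_glue (range_of_allRange c_act24_4) (range_glue (range_of_allRange c_act24_5) (range_glue (range_of_allRange c_act24_6) (range_glue (range_of_allRange c_act24_7) (range_glue (range_of_allRange c_act24_8) (range_glue (range_of_allRange c_act24_9) (range_glue (range_of_allRange c_act24_10) (range_glue (range_of_allRange c_act24_11) (range_glue (range_of_allRange c_act24_12) (range_glue (range_of_allRange c_act24_13) (range_glue (range_of_allRange c_act24_14) (range_glue (range_of_allRange c_act24_15) (range_glue (range_of_allRange c_act24_16) (range_glue (range_of_allRange c_act24_17) (range_glue (range_of_allRange c_act24_18) (range_glue (range_of_allRange c_act24_19) (range_glue (range_of_allRange c_act24_20) (range_glue (range_of_allRange c_act24_21) (range_glue (range_of_allRange c_act24_22) (range_glue (range_of_allRange c_act24_23) (range_glue (range_of_allRange c_act24_24) (range_glue (range_of_allRange c_act24_25) (range_glue (range_of_allRange c_act24_26) (range_glue (range_of_allRange c_act24_27) (range_glue (range_of_allRange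 c_act24_28) (range_glue (range_of_allRange c_act24_29) (range_of_allRange c_act24_30)))))))))))))))))))))))))))))))
theorem h_act25 : ∀ i, 0 ≤ i → i < 306936 → Nat.beq (actR25 i) i = true :=
  (range_glue (range_of_allRange c_act25_0) (range_glue (range_of_allRange c_act25_1) (range_glue (range_of_allRange c_act25_2) (range_glue (range_of_allRange c_act25_3) (range_glue (range_of_allRange c_act25_4) (range_glue (range_of_allRange c_act25_5) (range_glue (range_of_allRange c_act25_6) (range_glue (range_of_allRange c_act25_7) (range_glue (range_of_allRange c_act25_8) (range_glue (range_of_allRange c_act25_9) (range_glue (range_of_allRange c_act25_10) (range_glue (range_of_allRange c_act25_11) (range_glue (range_of_allRange c_act25_12) (range_glue (range_of_allRange c_act25_13) (range_glue (range_of_allRange c_act25_14) (range_glue (range_of_allRange c_act25_15) (range_glue (range_of_allRange c_act25_16) (range_glue (range_of_allRange c_act25_17) (range_glue (range_of_allRange c_act25_18) (range_glue (range_of_allRange c_act25_19) (range_of_allRange c_act25_20)))))))))))))))))))))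
theorem h_act26 : ∀ i, 0 ≤ i → i < 306936 → Nat.beq (actR26 i) i = true :=
  (range_glue (range_of_allRange c_act26_0) (range_glue (range_of_allRange c_act26_1) (range_glue (range_of_allRange c_act26_2) (range_glue (range_of_allRange c_act26_3) (range_glue (range_of_allRange c_act26_4) (range_glue (range_of_allRange c_act26_5) (range_glue (range_of_allRange c_act26_6) (range_glue (range_of_allRange c_act26_7) (range_glue (range_of_allRange c_act26_8) (range_glue (range_of_allRange c_act26_9) (range_glue (range_of_allRange c_act26_10) (range_glue (range_of_allRange c_act26_11) (range_glue (range_of_allRange c_act26_12) (range_glue (range_of_allRange c_act26_13) (range_glue (range_of_allRange c_act26_14) (range_glue (range_of_allRange c_act26_15) (range_glue (range_of_allRange c_act26_16) (range_glue (range_of_allRange c_act26_17) (range_glue (range_of_allRange c_act26_18) (range_glue (range_of_allRange c_act26_19) (range_of_allRange c_act26_20)))))))))))))))))))))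
theorem h_act27 : ∀ i, 0 ≤ i → i < 306936 → Nat.beq (actR27 i) i = true :=
  (range_glue (range_of_allRange c_act27_0) (range_glue (range_of_allRange c_act27_1) (range_glue (range_of_allRange c_act27_2) (range_glue (range_of_allRange c_act27_3) (range_glue (range_of_allRange c_act27_4) (range_glue (range_of_allRange c_act27_5) (range_glue (range_of_allRange c_act27_6) (range_glue (range_of_allRange c_act27_7) (range_glue (range_of_allRange c_act27_8) (range_glue (range_of_allRange c_act27_9) (range_glue (range_of_allRange c_act27_10) (range_glue (range_of_allRange c_act27_11) (range_glue (range_of_allRange c_act27_12) (range_glue (range_of_allRange c_act27_13) (range_glue (range_of_allRange c_act27_14) (range_glue (range_of_allRange c_act27_15) (range_glue (range_of_allRange c_act27_16) (range_glue (range_of_allRange c_act27_17) (range_glue (range_of_allRange c_act27_18) (range_glue (range_of_allRange c_act27_19) (range_of_allRange c_act27_20)))))))))))))))))))))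
theorem h_act28 : ∀ i, 0 ≤ i → i < 306936 → Nat.beq (actR28 i) i = true :=
  (range_glue (range_of_allRange c_act28_0) (range_glue (range_of_allRange c_act28_1) (range_glue (range_of_allRange c_act28_2) (range_glue (range_of_allRange c_act28_3) (range_glue (range_of_allRange c_act28_4) (range_glue (range_of_allRange c_act28_5) (range_glue (range_of_allRange c_act28_6) (range_glue (range_of_allRange c_act28_7) (range_glue (range_of_allRange c_act28_8) (range_glue (range_of_allRange c_act28_9) (range_glue (range_of_allRange c_act28_10) (range_glue (range_of_allRange c_act28_11) (range_glue (range_of_allRange c_act28_12) (range_glue (range_of_allRange c_act28_13) (range_glue (range_of_allRange c_act28_14) (range_glue (range_of_allRange c_act28_15) (range_glue (range_of_allRange c_act28_16) (range_glue (range_of_allRange c_act28_17) (range_glue (range_of_allRange c_act28_18) (range_glue (range_of_allRange c_act28_19) (range_of_allRange c_act28_20)))))))))))))))))))))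
theorem h_act29 : ∀ i, 0 ≤ i → i < 306936 → Nat.beq (actR29 i) i = true :=
  (range_glue (range_of_allRange c_act29_0) (range_glue (range_of_allRange c_act29_1) (range_glue (range_of_allRange c_act29_2) (range_glue (range_of_allRange c_act29_3) (range_glue (range_of_allRange c_act29_4) (range_glue (range_of_allRange c_act29_5) (range_glue (range_of_allRange c_act29_6) (range_glue (range_of_allRange c_act29_7) (range_glue (range_of_allRange c_act29_8) (range_glue (range_of_allRange c_act29_9) (range_glue (range_of_allRange c_act29_10) (range_glue (range_of_allRange c_act29_11) (range_glue (range_of_allRange c_act29_12) (range_glue (range_of_allRange c_act29_13) (range_glue (range_of_allRange c_act29_14) (range_glue (range_of_allRange c_act29_15) (range_glue (range_of_allRange c_act29_16) (range_glue (range_of_allRange c_act29_17) (range_glue (range_of_allRange c_act29_18) (range_glue (range_of_allRange c_act29_19) (range_of_allRange c_act29_20)))))))))))))))))))))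
theorem h_act30 : ∀ i, 0 ≤ i → i < 306936 → Nat.beq (actR30 i) i = true :=
  (range_glue (range_of_allRange c_act30_0) (range_glue (range_of_allRange c_act30_1) (range_glue (range_of_allRange c_act30_2) (range_glue (range_of_allRange c_act30_3) (range_glue (range_of_allRange c_act30_4) (range_glue (range_of_allRange c_act30_5) (range_glue (range_of_allRange c_act30_6) (range_glue (range_of_allRange c_act30_7) (range_glue (range_of_allRange c_act30_8) (range_glue (range_of_allRange c_act30_9) (range_glue (range_of_allRange c_act30_10) (range_glue (range_of_allRange c_act30_11) (range_glue (range_of_allRange c_act30_12) (range_glue (range_of_allRange c_act30_13) (range_glue (range_of_allRange c_act30_14) (range_glue (range_of_allRange c_act30_15) (range_glue (range_of_allRange c_act30_16) (range_glue (range_of_allRange c_act30_17) (range_glue (range_of_allRange c_act30_18) (range_glue (range_of_allRange c_act30_19) (range_of_allRange c_act30_20)))))))))))))))))))))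
theorem h_act31 : ∀ i, 0 ≤ i → i < 306936 → Nat.beq (actR31 i) i = true :=
  (range_glue (range_of_allRange c_act31_0) (range_glue (range_of_allRange c_act31_1) (range_glue (range_of_allRange c_act31_2) (range_glue (range_of_allRange c_act31_3) (range_glue (range_of_allRange c_act31_4) (range_glue (range_of_allRange c_act31_5) (range_glue (range_of_allRange c_act31_6) (range_glue (range_of_allRange c_act31_7) (range_glue (range_of_allRange c_act31_8) (range_glue (range_of_allRange c_act31_9) (range_glue (range_of_allRange c_act31_10) (range_glue (range_of_allRange c_act31_11) (range_glue (range_of_allRange c_act31_12) (range_glue (range_of_allRange c_act31_13) (range_glue (range_of_allRange c_act31_14) (range_glue (range_of_allRange c_act31_15) (range_glue (range_of_allRange c_act31_16) (range_glue (range_of_allRange c_act31_17) (range_glue (range_of_allRange c_act31_18) (range_glue (range_of_allRange c_act31_19) (range_of_allRange c_act31_20)))))))))))))))))))))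
theorem h_act32 : ∀ i, 0 ≤ i → i < 306936 → Nat.beq (actR32 i) i = true :=
  (range_glue (range_of_allRange c_act32_0) (range_glue (range_of_allRange c_act32_1) (range_glue (range_of_allRange c_act32_2) (range_glue (range_of_allRange c_act32_3) (range_glue (range_of_allRange c_act32_4) (range_glue (range_of_allRange c_act32_5) (range_glue (range_of_allRange c_act32_6) (range_glue (range_of_allRange c_act32_7) (range_glue (range_of_allRange c_act32_8) (range_glue (range_of_allRange c_act32_9) (range_glue (range_of_allRange c_act32_10) (range_glue (range_of_allRange c_act32_11) (range_glue (range_of_allRange c_act32_12) (range_glue (range_of_allRange c_act32_13) (range_glue (range_of_allRange c_act32_14) (range_glue (range_of_allRange c_act32_15) (range_glue (range_of_allRange c_act32_16) (range_glue (range_of_allRange c_act32_17) (range_glue (range_of_allRange c_act32_18) (range_glue (range_of_allRange c_act32_19) (range_of_allRange c_act32_20)))))))))))))))))))))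
theorem h_act33 : ∀ i, 0 ≤ i → i < 306936 → Nat.beq (actR33 i) i = true :=
  (range_glue (range_of_allRange c_act33_0) (range_glue (range_of_allRange c_act33_1) (range_glue (range_of_allRange c_act33_2) (range_glue (range_of_allRange c_act33_3) (range_glue (range_of_allRange c_act33_4) (range_glue (range_of_allRange c_act33_5) (range_glue (range_of_allRange c_act33_6) (range_glue (range_of_allRange c_act33_7) (range_glue (range_of_allRange c_act33_8) (range_glue (range_of_allRange c_act33_9) (range_of_allRange c_act33_10)))))))))))
theorem h_act34 : ∀ i, 0 ≤ i → i < 306936 → Nat.beq (actR34 i) i = true :=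
  (range_glue (range_of_allRange c_act34_0) (range_glue (range_of_allRange c_act34_1) (range_glue (range_of_allRange c_act34_2) (range_glue (range_of_allRange c_act34_3) (range_glue (range_of_allRange c_act34_4) (range_glue (range_of_allRange c_act34_5) (range_glue (range_of_allRange c_act34_6) (range_glue (range_of_allRange c_act34_7) (range_glue (range_of_allRange c_act34_8) (range_glue (range_of_allRange c_act34_9) (range_glue (range_of_allRange c_act34_10) (range_glue (range_of_allRange c_act34_11) (range_glue (range_of_allRange c_act34_12) (range_glue (range_of_allRange c_act34_13) (range_glue (range_of_allRange c_act34_14) (range_glue (range_of_allRange c_act34_15) (range_glue (range_of_allRange c_act34_16) (range_glue (range_of_allRange c_act34_17) (range_glue (range_of_allRange c_act34_18) (range_glue (range_of_allRange c_act34_19) (range_glue (range_of_allRange c_act34_20) (range_glue (range_of_allRange c_act34_21) (range_glue (range_of_allRange c_act34_22) (range_glue (range_of_allRange c_act34_23) (range_glue (range_of_allRange c_act34_24) (range_glue (range_of_allRange c_act34_25) (range_glue (range_of_allRange c_act34_26) (range_glue (range_of_allRange c_act34_27) (range_glue (range_of_allRange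 c_act34_28) (range_glue (range_of_allRange c_act34_29) (range_of_allRange c_act34_30)))))))))))))))))))))))))))))))
theorem h_act35 : ∀ i, 0 ≤ i → i < 306936 → Nat.beq (actR35 i) i = true :=
  (range_glue (range_of_allRange c_act35_0) (range_glue (range_of_allRange c_act35_1) (range_glue (range_of_allRange c_act35_2) (range_glue (range_of_allRange c_act35_3) (range_glue (range_of_allRange c_act35_4) (range_glue (range_of_allRange c_act35_5) (range_glue (range_of_allRange c_act35_6) (range_glue (range_of_allRange c_act35_7) (range_glue (range_of_allRange c_act35_8) (range_glue (range_of_allRange c_act35_9) (range_glue (range_of_allRange c_act35_10) (range_glue (range_of_allRange c_act35_11) (range_glue (range_of_allRange c_act35_12) (range_glue (range_of_allRange c_act35_13) (range_glue (range_of_allRange c_act35_14) (range_glue (range_of_allRange c_act35_15) (range_glue (range_of_allRange c_act35_16) (range_glue (range_of_allRange c_act35_17) (range_glue (range_of_allRange c_act35_18) (range_glue (range_of_allRange c_act35_19) (range_of_allRange c_act35_20)))))))))))))))))))))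
theorem h_act36 : ∀ i, 0 ≤ i → i < 306936 → Nat.beq (actR36 i) i = true :=
  (range_glue (range_of_allRange c_act36_0) (range_glue (range_of_allRange c_act36_1) (range_glue (range_of_allRange c_act36_2) (range_glue (range_of_allRange c_act36_3) (range_glue (range_of_allRange c_act36_4) (range_glue (range_of_allRange c_act36_5) (range_glue (range_of_allRange c_act36_6) (range_glue (range_of_allRange c_act36_7) (range_glue (range_of_allRange c_act36_8) (range_glue (range_of_allRange c_act36_9) (range_glue (range_of_allRange c_act36_10) (range_glue (range_of_allRange c_act36_11) (range_glue (range_of_allRange c_act36_12) (range_glue (range_of_allRange c_act36_13) (range_glue (range_of_allRange c_act36_14) (range_glue (range_of_allRange c_act36_15) (range_glue (range_of_allRange c_act36_16) (range_glue (range_of_allRange c_act36_17) (range_glue (range_of_allRange c_act36_18) (range_glue (range_of_allRange c_act36_19) (range_of_allRange c_act36_20)))))))))))))))))))))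
theorem h_act37 : ∀ i, 0 ≤ i → i < 306936 → Nat.beq (actR37 i) i = true :=
  (range_glue (range_of_allRange c_act37_0) (range_glue (range_of_allRange c_act37_1) (range_glue (range_of_allRange c_act37_2) (range_glue (range_of_allRange c_act37_3) (range_glue (range_of_allRange c_act37_4) (range_glue (range_of_allRange c_act37_5) (range_glue (range_of_allRange c_act37_6) (range_glue (range_of_allRange c_act37_7) (range_glue (range_of_allRange c_act37_8) (range_glue (range_of_allRange c_act37_9) (range_glue (range_of_allRange c_act37_10) (range_glue (range_of_allRange c_act37_11) (range_glue (range_of_allRange c_act37_12) (range_glue (range_of_allRange c_act37_13) (range_glue (range_of_allRange c_act37_14) (range_glue (range_of_allRange c_act37_15) (range_glue (range_of_allRange c_act37_16) (range_glue (range_of_allRange c_act37_17) (range_glue (range_of_allRange c_act37_18) (range_glue (range_of_allRange c_act37_19) (range_of_allRange c_act37_20)))))))))))))))))))))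
theorem h_act38 : ∀ i, 0 ≤ i → i < 306936 → Nat.beq (actR38 i) i = true :=
  (range_glue (range_of_allRange c_act38_0) (range_glue (range_of_allRange c_act38_1) (range_glue (range_of_allRange c_act38_2) (range_glue (range_of_allRange c_act38_3) (range_glue (range_of_allRange c_act38_4) (range_glue (range_of_allRange c_act38_5) (range_glue (range_of_allRange c_act38_6) (range_glue (range_of_allRange c_act38_7) (range_glue (range_of_allRange c_act38_8) (range_glue (range_of_allRange c_act38_9) (range_glue (range_of_allRange c_act38_10) (range_glue (range_of_allRange c_act38_11) (range_glue (range_of_allRange c_act38_12) (range_glue (range_of_allRange c_act38_13) (range_glue (range_of_allRange c_act38_14) (range_glue (range_of_allRange c_act38_15) (range_glue (range_of_allRange c_act38_16) (range_glue (range_of_allRange c_act38_17) (range_glue (range_of_allRange c_act38_18) (range_glue (range_of_allRange c_act38_19) (range_of_allRange c_act38_20)))))))))))))))))))))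
theorem h_act39 : ∀ i, 0 ≤ i → i < 306936 → Nat.beq (actR39 i) i = true :=
  (range_glue (range_of_allRange c_act39_0) (range_glue (range_of_allRange c_act39_1) (range_glue (range_of_allRange c_act39_2) (range_glue (range_of_allRange c_act39_3) (range_glue (range_of_allRange c_act39_4) (range_glue (range_of_allRange c_act39_5) (range_glue (range_of_allRange c_act39_6) (range_glue (range_of_allRange c_act39_7) (range_glue (range_of_allRange c_act39_8) (range_glue (range_of_allRange c_act39_9) (range_glue (range_of_allRange c_act39_10) (range_glue (range_of_allRange c_act39_11) (range_glue (range_of_allRange c_act39_12) (range_glue (range_of_allRange c_act39_13) (range_glue (range_of_allRange c_act39_14) (range_glue (range_of_allRange c_act39_15) (range_glue (range_of_allRange c_act39_16) (range_glue (range_of_allRange c_act39_17) (range_glue (range_of_allRange c_act39_18) (range_glue (range_of_allRange c_act39_19) (range_of_allRange c_act39_20)))))))))))))))))))))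
theorem h_act40 : ∀ i, 0 ≤ i → i < 306936 → Nat.beq (actR40 i) i = true :=
  (range_glue (range_of_allRange c_act40_0) (range_glue (range_of_allRange c_act40_1) (range_glue (range_of_allRange c_act40_2) (range_glue (range_of_allRange c_act40_3) (range_glue (range_of_allRange c_act40_4) (range_glue (range_of_allRange c_act40_5) (range_glue (range_of_allRange c_act40_6) (range_glue (range_of_allRange c_act40_7) (range_glue (range_of_allRange c_act40_8) (range_glue (range_of_allRange c_act40_9) (range_glue (range_of_allRange c_act40_10) (range_glue (range_of_allRange c_act40_11) (range_glue (range_of_allRange c_act40_12) (range_glue (range_of_allRange c_act40_13) (range_glue (range_of_allRange c_act40_14) (range_glue (range_of_allRange c_act40_15) (range_glue (range_of_allRange c_act40_16) (range_glue (range_of_allRange c_act40_17) (range_glue (range_of_allRange c_act40_18) (range_glue (range_of_allRange c_act40_19) (range_of_allRange c_act40_20)))))))))))))))))))))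
theorem h_act41 : ∀ i, 0 ≤ i → i < 306936 → Nat.beq (actR41 i) i = true :=
  (range_glue (range_of_allRange c_act41_0) (range_glue (range_of_allRange c_act41_1) (range_glue (range_of_allRange c_act41_2) (range_glue (range_of_allRange c_act41_3) (range_glue (range_of_allRange c_act41_4) (range_glue (range_of_allRange c_act41_5) (range_glue (range_of_allRange c_act41_6) (range_glue (range_of_allRange c_act41_7) (range_glue (range_of_allRange c_act41_8) (range_glue (range_of_allRange c_act41_9) (range_glue (range_of_allRange c_act41_10) (range_glue (range_of_allRange c_act41_11) (range_glue (range_of_allRange c_act41_12) (range_glue (range_of_allRange c_act41_13) (range_glue (range_of_allRange c_act41_14) (range_glue (range_of_allRange c_act41_15) (range_glue (range_of_allRange c_act41_16) (range_glue (range_of_allRange c_act41_17) (range_glue (range_of_allRange c_act41_18) (range_glue (range_of_allRange c_act41_19) (range_of_allRange c_act41_20)))))))))))))))))))))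
theorem h_act42 : ∀ i, 0 ≤ i → i < 306936 → Nat.beq (actR42 i) i = true :=
  (range_glue (range_of_allRange c_act42_0) (range_glue (range_of_allRange c_act42_1) (range_glue (range_of_allRange c_act42_2) (range_glue (range_of_allRange c_act42_3) (range_glue (range_of_allRange c_act42_4) (range_glue (range_of_allRange c_act42_5) (range_glue (range_of_allRange c_act42_6) (range_glue (range_of_allRange c_act42_7) (range_glue (range_of_allRange c_act42_8) (range_glue (range_of_allRange c_act42_9) (range_of_allRange c_act42_10)))))))))))
theorem h_act43 : ∀ i, 0 ≤ i → i < 306936 → Nat.beq (actR43 i) i = true :=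
  (range_glue (range_of_allRange c_act43_0) (range_glue (range_of_allRange c_act43_1) (range_glue (range_of_allRange c_act43_2) (range_glue (range_of_allRange c_act43_3) (range_glue (range_of_allRange c_act43_4) (range_glue (range_of_allRange c_act43_5) (range_glue (range_of_allRange c_act43_6) (range_glue (range_of_allRange c_act43_7) (range_glue (range_of_allRange c_act43_8) (range_glue (range_of_allRange c_act43_9) (range_glue (range_of_allRange c_act43_10) (range_glue (range_of_allRange c_act43_11) (range_glue (range_of_allRange c_act43_12) (range_glue (range_of_allRange c_act43_13) (range_glue (range_of_allRange c_act43_14) (range_glue (range_of_allRange c_act43_15) (range_glue (range_of_allRange c_act43_16) (range_glue (range_of_allRange c_act43_17) (range_glue (range_of_allRange c_act43_18) (range_glue (range_of_allRange c_act43_19) (range_glue (range_of_allRange c_act43_20) (range_glue (range_of_allRange c_act43_21) (range_glue (range_of_allRange c_act43_22) (range_glue (range_of_allRange c_act43_23) (range_glue (range_of_allRange c_act43_24) (range_glue (range_of_allRange c_act43_25) (range_glue (range_of_allRange c_act43_26) (range_glue (range_of_allRange c_act43_27) (range_glue (range_of_allRange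 c_act43_28) (range_glue (range_of_allRange c_act43_29) (range_of_allRange c_act43_30)))))))))))))))))))))))))))))))
theorem h_act44 : ∀ i, 0 ≤ i → i < 306936 → Nat.beq (actR44 i) i = true :=
  (range_glue (range_of_allRange c_act44_0) (range_glue (range_of_allRange c_act44_1) (range_glue (range_of_allRange c_act44_2) (range_glue (range_of_allRange c_act44_3) (range_glue (range_of_allRange c_act44_4) (range_glue (range_of_allRange c_act44_5) (range_glue (range_of_allRange c_act44_6) (range_glue (range_of_allRange c_act44_7) (range_glue (range_of_allRange c_act44_8) (range_glue (range_of_allRange c_act44_9) (range_glue (range_of_allRange c_act44_10) (range_glue (range_of_allRange c_act44_11) (range_glue (range_of_allRange c_act44_12) (range_glue (range_of_allRange c_act44_13) (range_glue (range_of_allRange c_act44_14) (range_glue (range_of_allRange c_act44_15) (range_glue (range_of_allRange c_act44_16) (range_glue (range_of_allRange c_act44_17) (range_glue (range_of_allRange c_act44_18) (range_glue (range_of_allRange c_act44_19) (range_of_allRange c_act44_20)))))))))))))))))))))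
theorem h_act45 : ∀ i, 0 ≤ i → i < 306936 → Nat.beq (actR45 i) i = true :=
  (range_glue (range_of_allRange c_act45_0) (range_glue (range_of_allRange c_act45_1) (range_glue (range_of_allRange c_act45_2) (range_glue (range_of_allRange c_act45_3) (range_glue (range_of_allRange c_act45_4) (range_glue (range_of_allRange c_act45_5) (range_glue (range_of_allRange c_act45_6) (range_glue (range_of_allRange c_act45_7) (range_glue (range_of_allRange c_act45_8) (range_glue (range_of_allRange c_act45_9) (range_glue (range_of_allRange c_act45_10) (range_glue (range_of_allRange c_act45_11) (range_glue (range_of_allRange c_act45_12) (range_glue (range_of_allRange c_act45_13) (range_glue (range_of_allRange c_act45_14) (range_glue (range_of_allRange c_act45_15) (range_glue (range_of_allRange c_act45_16) (range_glue (range_of_allRange c_act45_17) (range_glue (range_of_allRange c_act45_18) (range_glue (range_of_allRange c_act45_19) (range_of_allRange c_act45_20)))))))))))))))))))))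
theorem h_act46 : ∀ i, 0 ≤ i → i < 306936 → Nat.beq (actR46 i) i = true :=
  (range_glue (range_of_allRange c_act46_0) (range_glue (range_of_allRange c_act46_1) (range_glue (range_of_allRange c_act46_2) (range_glue (range_of_allRange c_act46_3) (range_glue (range_of_allRange c_act46_4) (range_glue (range_of_allRange c_act46_5) (range_glue (range_of_allRange c_act46_6) (range_glue (range_of_allRange c_act46_7) (range_glue (range_of_allRange c_act46_8) (range_glue (range_of_allRange c_act46_9) (range_glue (range_of_allRange c_act46_10) (range_glue (range_of_allRange c_act46_11) (range_glue (range_of_allRange c_act46_12) (range_glue (range_of_allRange c_act46_13) (range_glue (range_of_allRange c_act46_14) (range_glue (range_of_allRange c_act46_15) (range_glue (range_of_allRange c_act46_16) (range_glue (range_of_allRange c_act46_17) (range_glue (range_of_allRange c_act46_18) (range_glue (range_of_allRange c_act46_19) (range_of_allRange c_act46_20)))))))))))))))))))))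
theorem h_act47 : ∀ i, 0 ≤ i → i < 306936 → Nat.beq (actR47 i) i = true :=
  (range_glue (range_of_allRange c_act47_0) (range_glue (range_of_allRange c_act47_1) (range_glue (range_of_allRange c_act47_2) (range_glue (range_of_allRange c_act47_3) (range_glue (range_of_allRange c_act47_4) (range_glue (range_of_allRange c_act47_5) (range_glue (range_of_allRange c_act47_6) (range_glue (range_of_allRange c_act47_7) (range_glue (range_of_allRange c_act47_8) (range_glue (range_of_allRange c_act47_9) (range_glue (range_of_allRange c_act47_10) (range_glue (range_of_allRange c_act47_11) (range_glue (range_of_allRange c_act47_12) (range_glue (range_of_allRange c_act47_13) (range_glue (range_of_allRange c_act47_14) (range_glue (range_of_allRange c_act47_15) (range_glue (range_of_allRange c_act47_16) (range_glue (range_of_allRange c_act47_17) (range_glue (range_of_allRange c_act47_18) (range_glue (range_of_allRange c_act47_19) (range_of_allRange c_act47_20)))))))))))))))))))))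
theorem h_act48 : ∀ i, 0 ≤ i → i < 306936 → Nat.beq (actR48 i) i = true :=
  (range_glue (range_of_allRange c_act48_0) (range_glue (range_of_allRange c_act48_1) (range_glue (range_of_allRange c_act48_2) (range_glue (range_of_allRange c_act48_3) (range_glue (range_of_allRange c_act48_4) (range_glue (range_of_allRange c_act48_5) (range_glue (range_of_allRange c_act48_6) (range_glue (range_of_allRange c_act48_7) (range_glue (range_of_allRange c_act48_8) (range_glue (range_of_allRange c_act48_9) (range_glue (range_of_allRange c_act48_10) (range_glue (range_of_allRange c_act48_11) (range_glue (range_of_allRange c_act48_12) (range_glue (range_of_allRange c_act48_13) (range_glue (range_of_allRange c_act48_14) (range_glue (range_of_allRange c_act48_15) (range_glue (range_of_allRange c_act48_16) (range_glue (range_of_allRange c_act48_17) (range_glue (range_of_allRange c_act48_18) (range_glue (range_of_allRange c_act48_19) (range_of_allRange c_act48_20)))))))))))))))))))))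
theorem h_act49 : ∀ i, 0 ≤ i → i < 306936 → Nat.beq (actR49 i) i = true :=
  (range_glue (range_of_allRange c_act49_0) (range_glue (range_of_allRange c_act49_1) (range_glue (range_of_allRange c_act49_2) (range_glue (range_of_allRange c_act49_3) (range_glue (range_of_allRange c_act49_4) (range_glue (range_of_allRange c_act49_5) (range_glue (range_of_allRange c_act49_6) (range_glue (range_of_allRange c_act49_7) (range_glue (range_of_allRange c_act49_8) (range_glue (range_of_allRange c_act49_9) (range_glue (range_of_allRange c_act49_10) (range_glue (range_of_allRange c_act49_11) (range_glue (range_of_allRange c_act49_12) (range_glue (range_of_allRange c_act49_13) (range_glue (range_of_allRange c_act49_14) (range_glue (range_of_allRange c_act49_15) (range_glue (range_of_allRange c_act49_16) (range_glue (range_of_allRange c_act49_17) (range_glue (range_of_allRange c_act49_18) (range_glue (range_of_allRange c_act49_19) (range_of_allRange c_act49_20)))))))))))))))))))))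
theorem h_act50 : ∀ i, 0 ≤ i → i < 306936 → Nat.beq (actR50 i) i = true :=
  (range_glue (range_of_allRange c_act50_0) (range_glue (range_of_allRange c_act50_1) (range_glue (range_of_allRange c_act50_2) (range_glue (range_of_allRange c_act50_3) (range_glue (range_of_allRange c_act50_4) (range_glue (range_of_allRange c_act50_5) (range_glue (range_of_allRange c_act50_6) (range_glue (range_of_allRange c_act50_7) (range_glue (range_of_allRange c_act50_8) (range_glue (range_of_allRange c_act50_9) (range_of_allRange c_act50_10)))))))))))
theorem h_act51 : ∀ i, 0 ≤ i → i < 306936 → Nat.beq (actR51 i) i = true :=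
  (range_glue (range_of_allRange c_act51_0) (range_glue (range_of_allRange c_act51_1) (range_glue (range_of_allRange c_act51_2) (range_glue (range_of_allRange c_act51_3) (range_glue (range_of_allRange c_act51_4) (range_glue (range_of_allRange c_act51_5) (range_glue (range_of_allRange c_act51_6) (range_glue (range_of_allRange c_act51_7) (range_glue (range_of_allRange c_act51_8) (range_glue (range_of_allRange c_act51_9) (range_glue (range_of_allRange c_act51_10) (range_glue (range_of_allRange c_act51_11) (range_glue (range_of_allRange c_act51_12) (range_glue (range_of_allRange c_act51_13) (range_glue (range_of_allRange c_act51_14) (range_glue (range_of_allRange c_act51_15) (range_glue (range_of_allRange c_act51_16) (range_glue (range_of_allRange c_act51_17) (range_glue (range_of_allRange c_act51_18) (range_glue (range_of_allRange c_act51_19) (range_glue (range_of_allRange c_act51_20) (range_glue (range_of_allRange c_act51_21) (range_glue (range_of_allRange c_act51_22) (range_glue (range_of_allRange c_act51_23) (range_glue (range_of_allRange c_act51_24) (range_glue (range_of_allRange c_act51_25) (range_glue (range_of_allRange c_act51_26) (range_glue (range_of_allRange c_act51_27) (range_glue (range_of_allRange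 c_act51_28) (range_glue (range_of_allRange c_act51_29) (range_of_allRange c_act51_30)))))))))))))))))))))))))))))))
theorem h_act52 : ∀ i, 0 ≤ i → i < 306936 → Nat.beq (actR52 i) i = true :=
  (range_glue (range_of_allRange c_act52_0) (range_glue (range_of_allRange c_act52_1) (range_glue (range_of_allRange c_act52_2) (range_glue (range_of_allRange c_act52_3) (range_glue (range_of_allRange c_act52_4) (range_glue (range_of_allRange c_act52_5) (range_glue (range_of_allRange c_act52_6) (range_glue (range_of_allRange c_act52_7) (range_glue (range_of_allRange c_act52_8) (range_glue (range_of_allRange c_act52_9) (range_glue (range_of_allRange c_act52_10) (range_glue (range_of_allRange c_act52_11) (range_glue (range_of_allRange c_act52_12) (range_glue (range_of_allRange c_act52_13) (range_glue (range_of_allRange c_act52_14) (range_glue (range_of_allRange c_act52_15) (range_glue (range_of_allRange c_act52_16) (range_glue (range_of_allRange c_act52_17) (range_glue (range_of_allRange c_act52_18) (range_glue (range_of_allRange c_act52_19) (range_glue (range_of_allRange c_act52_20) (range_glue (range_of_allRange c_act52_21) (range_glue (range_of_allRange c_act52_22) (range_glue (range_of_allRange c_act52_23)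 (range_glue (range_of_allRange c_act52_24) (range_glue (range_of_allRange c_act52_25) (range_glue (range_of_allRange c_act52_26) (range_glue (range_of_allRange c_act52_27) (range_glue (range_of_allRange c_act52_28) (range_glue (range_of_allRange c_act52_29) (range_of_allRange c_act52_30)))))))))))))))))))))))))))))))
theorem h_act53 : ∀ i, 0 ≤ i → i < 306936 → Nat.beq (actR53 i) i = true :=
  (range_glue (range_of_allRange c_act53_0) (range_glue (range_of_allRange c_act53_1) (range_glue (range_of_allRange c_act53_2) (range_glue (range_of_allRange c_act53_3) (range_glue (range_of_allRange c_act53_4) (range_glue (range_of_allRange c_act53_5) (range_glue (range_of_allRange c_act53_6) (range_glue (range_of_allRange c_act53_7) (range_glue (range_of_allRange c_act53_8) (range_glue (range_of_allRange c_act53_9) (range_glue (range_of_allRange c_act53_10) (range_glue (range_of_allRange c_act53_11) (range_glue (range_of_allRange c_act53_12) (range_glue (range_of_allRange c_act53_13) (range_glue (range_of_allRange c_act53_14) (range_glue (range_of_allRange c_act53_15) (range_glue (range_of_allRange c_act53_16) (range_glue (range_of_allRange c_act53_17) (range_glue (range_of_allRange c_act53_18) (range_glue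 (range_of_allRange c_act53_19) (range_of_allRange c_act53_20)))))))))))))))))))))
theorem h_act54 : ∀ i, 0 ≤ i → i < 306936 → Nat.beq (actR54 i) i = true :=
  (range_glue (range_of_allRange c_act54_0) (range_glue (range_of_allRange c_act54_1) (range_glue (range_of_allRange c_act54_2) (range_glue (range_of_allRange c_act54_3) (range_glue (range_of_allRange c_act54_4) (range_glue (range_of_allRange c_act54_5) (range_glue (range_of_allRange c_act54_6) (range_glue (range_of_allRange c_act54_7) (range_glue (range_of_allRange c_act54_8) (range_glue (range_of_allRange c_act54_9) (range_glue (range_of_allRange c_act54_10) (range_glue (range_of_allRange c_act54_11) (range_glue (range_of_allRange c_act54_12) (range_glue (range_of_allRange c_act54_13) (range_glue (range_of_allRange c_act54_14) (range_glue (range_of_allRange c_act54_15) (range_glue (range_of_allRange c_act54_16) (range_glue (range_of_allRange c_act54_17) (range_glue (range_of_allRange c_act54_18) (range_glue (range_of_allRange c_act54_19) (range_of_allRange c_act54_20)))))))))))))))))))))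
theorem h_act55 : ∀ i, 0 ≤ i → i < 306936 → Nat.beq (actR55 i) i = true :=
  (range_glue (range_of_allRange c_act55_0) (range_glue (range_of_allRange c_act55_1) (range_glue (range_of_allRange c_act55_2) (range_glue (range_of_allRange c_act55_3) (range_glue (range_of_allRange c_act55_4) (range_glue (range_of_allRange c_act55_5) (range_glue (range_of_allRange c_act55_6) (range_glue (range_of_allRange c_act55_7) (range_glue (range_of_allRange c_act55_8) (range_glue (range_of_allRange c_act55_9) (range_glue (range_of_allRange c_act55_10) (range_glue (range_of_allRange c_act55_11) (range_glue (range_of_allRange c_act55_12) (range_glue (range_of_allRange c_act55_13) (range_glue (range_of_allRange c_act55_14) (range_glue (range_of_allRange c_act55_15) (range_glue (range_of_allRange c_act55_16) (range_glue (range_of_allRange c_act55_17) (range_glue (range_of_allRange c_act55_18) (range_glue (range_of_allRange c_act55_19) (range_of_allRange c_act55_20)))))))))))))))))))))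
theorem h_act56 : ∀ i, 0 ≤ i → i < 306936 → Nat.beq (actR56 i) i = true :=
  (range_glue (range_of_allRange c_act56_0) (range_glue (range_of_allRange c_act56_1) (range_glue (range_of_allRange c_act56_2) (range_glue (range_of_allRange c_act56_3) (range_glue (range_of_allRange c_act56_4) (range_glue (range_of_allRange c_act56_5) (range_glue (range_of_allRange c_act56_6) (range_glue (range_of_allRange c_act56_7) (range_glue (range_of_allRange c_act56_8) (range_glue (range_of_allRange c_act56_9) (range_glue (range_of_allRange c_act56_10) (range_glue (range_of_allRange c_act56_11) (range_glue (range_of_allRange c_act56_12) (range_glue (range_of_allRange c_act56_13) (range_glue (range_of_allRange c_act56_14) (range_glue (range_of_allRange c_act56_15) (range_glue (range_of_allRange c_act56_16) (range_glue (range_of_allRange c_act56_17) (range_glue (range_of_allRange c_act56_18) (range_glue (range_of_allRange c_act56_19) (range_of_allRange c_act56_20)))))))))))))))))))))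
theorem h_act57 : ∀ i, 0 ≤ i → i < 306936 → Nat.beq (actR57 i) i = true :=
  (range_glue (range_of_allRange c_act57_0) (range_glue (range_of_allRange c_act57_1) (range_glue (range_of_allRange c_act57_2) (range_glue (range_of_allRange c_act57_3) (range_glue (range_of_allRange c_act57_4) (range_glue (range_of_allRange c_act57_5) (range_glue (range_of_allRange c_act57_6) (range_glue (range_of_allRange c_act57_7) (range_glue (range_of_allRange c_act57_8) (range_glue (range_of_allRange c_act57_9) (range_of_allRange c_act57_10)))))))))))
theorem h_act58 : ∀ i, 0 ≤ i → i < 306936 → Nat.beq (actR58 i) i = true :=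
  (range_glue (range_of_allRange c_act58_0) (range_glue (range_of_allRange c_act58_1) (range_glue (range_of_allRange c_act58_2) (range_glue (range_of_allRange c_act58_3) (range_glue (range_of_allRange c_act58_4) (range_glue (range_of_allRange c_act58_5) (range_glue (range_of_allRange c_act58_6) (range_glue (range_of_allRange c_act58_7) (range_glue (range_of_allRange c_act58_8) (range_glue (range_of_allRange c_act58_9) (range_glue (range_of_allRange c_act58_10) (range_glue (range_of_allRange c_act58_11) (range_glue (range_of_allRange c_act58_12) (range_glue (range_of_allRange c_act58_13) (range_glue (range_of_allRange c_act58_14) (range_glue (range_of_allRange c_act58_15) (range_glue (range_of_allRange c_act58_16) (range_glue (range_of_allRange c_act58_17) (range_glue (range_of_allRange c_act58_18) (range_glue (range_of_allRange c_act58_19) (range_of_allRange c_act58_20)))))))))))))))))))))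
theorem h_act59 : ∀ i, 0 ≤ i → i < 306936 → Nat.beq (actR59 i) i = true :=
  (range_glue (range_of_allRange c_act59_0) (range_glue (range_of_allRange c_act59_1) (range_glue (range_of_allRange c_act59_2) (range_glue (range_of_allRange c_act59_3) (range_glue (range_of_allRange c_act59_4) (range_glue (range_of_allRange c_act59_5) (range_glue (range_of_allRange c_act59_6) (range_glue (range_of_allRange c_act59_7) (range_glue (range_of_allRange c_act59_8) (range_glue (range_of_allRange c_act59_9) (range_glue (range_of_allRange c_act59_10) (range_glue (range_of_allRange c_act59_11) (range_glue (range_of_allRange c_act59_12) (range_glue (range_of_allRange c_act59_13) (range_glue (range_of_allRange c_act59_14) (range_glue (range_of_allRange c_act59_15) (range_glue (range_of_allRange c_act59_16) (range_glue (range_of_allRange c_act59_17) (range_glue (range_of_allRange c_act59_18) (range_glue (range_of_allRange c_act59_19) (range_glue (range_of_allRange c_act59_20) (range_glue (range_of_allRange c_act59_21) (range_glue (range_of_allRange c_act59_22) (range_glue (range_of_allRange c_act59_23) (range_glue (range_of_allRange c_act59_24) (range_glue (range_of_allRange c_act59_25) (range_glue (range_of_allRange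 c_act59_26) (range_glue (range_of_allRange c_act59_27) (range_glue (range_of_allRange c_act59_28) (range_glue (range_of_allRange c_act59_29) (range_of_allRange c_act59_30)))))))))))))))))))))))))))))))
theorem h_act60 : ∀ i, 0 ≤ i → i < 306936 → Nat.beq (actR60 i) i = true :=
  (range_glue (range_of_allRange c_act60_0) (range_glue (range_of_allRange c_act60_1) (range_glue (range_of_allRange c_act60_2) (range_glue (range_of_allRange c_act60_3) (range_glue (range_of_allRange c_act60_4) (range_glue (range_of_allRange c_act60_5) (range_glue (range_of_allRange c_act60_6) (range_glue (range_of_allRange c_act60_7) (range_glue (range_of_allRange c_act60_8) (range_glue (range_of_allRange c_act60_9) (range_glue (range_of_allRange c_act60_10) (range_glue (range_of_allRange c_act60_11) (range_glue (range_of_allRange c_act60_12) (range_glue (range_of_allRange c_act60_13) (range_glue (range_of_allRange c_act60_14) (range_glue (range_of_allRange c_act60_15) (range_glue (range_of_allRange c_act60_16) (range_glue (range_of_allRange c_act60_17) (range_glue (range_of_allRange c_act60_18) (range_glue (range_of_allRange c_act60_19) (range_of_allRange c_act60_20)))))))))))))))))))))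
theorem h_act61 : ∀ i, 0 ≤ i → i < 306936 → Nat.beq (actR61 i) i = true :=
  (range_glue (range_of_allRange c_act61_0) (range_glue (range_of_allRange c_act61_1) (range_glue (range_of_allRange c_act61_2) (range_glue (range_of_allRange c_act61_3) (range_glue (range_of_allRange c_act61_4) (range_glue (range_of_allRange c_act61_5) (range_glue (range_of_allRange c_act61_6) (range_glue (range_of_allRange c_act61_7) (range_glue (range_of_allRange c_act61_8) (range_glue (range_of_allRange c_act61_9) (range_glue (range_of_allRange c_act61_10) (range_glue (range_of_allRange c_act61_11) (range_glue (range_of_allRange c_act61_12) (range_glue (range_of_allRange c_act61_13) (range_glue (range_of_allRange c_act61_14) (range_glue (range_of_allRange c_act61_15) (range_glue (range_of_allRange c_act61_16) (range_glue (range_of_allRange c_act61_17) (range_glue (range_of_allRange c_act61_18) (range_glue (range_of_allRange c_act61_19) (range_of_allRange c_act61_20)))))))))))))))))))))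
theorem h_act62 : ∀ i, 0 ≤ i → i < 306936 → Nat.beq (actR62 i) i = true :=
  (range_glue (range_of_allRange c_act62_0) (range_glue (range_of_allRange c_act62_1) (range_glue (range_of_allRange c_act62_2) (range_glue (range_of_allRange c_act62_3) (range_glue (range_of_allRange c_act62_4) (range_glue (range_of_allRange c_act62_5) (range_glue (range_of_allRange c_act62_6) (range_glue (range_of_allRange c_act62_7) (range_glue (range_of_allRange c_act62_8) (range_glue (range_of_allRange c_act62_9) (range_glue (range_of_allRange c_act62_10) (range_glue (range_of_allRange c_act62_11) (range_glue (range_of_allRange c_act62_12) (range_glue (range_of_allRange c_act62_13) (range_glue (range_of_allRange c_act62_14) (range_glue (range_of_allRange c_act62_15) (range_glue (range_of_allRange c_act62_16) (range_glue (range_of_allRange c_act62_17) (range_glue (range_of_allRange c_act62_18) (range_glue (range_of_allRange c_act62_19) (range_of_allRange c_act62_20)))))))))))))))))))))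
theorem h_act63 : ∀ i, 0 ≤ i → i < 306936 → Nat.beq (actR63 i) i = true :=
  (range_glue (range_of_allRange c_act63_0) (range_glue (range_of_allRange c_act63_1) (range_glue (range_of_allRange c_act63_2) (range_glue (range_of_allRange c_act63_3) (range_glue (range_of_allRange c_act63_4) (range_glue (range_of_allRange c_act63_5) (range_glue (range_of_allRange c_act63_6) (range_glue (range_of_allRange c_act63_7) (range_glue (range_of_allRange c_act63_8) (range_glue (range_of_allRange c_act63_9) (range_of_allRange c_act63_10)))))))))))
theorem h_act64 : ∀ i, 0 ≤ i → i < 306936 → Nat.beq (actR64 i) i = true :=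
  (range_glue (range_of_allRange c_act64_0) (range_glue (range_of_allRange c_act64_1) (range_glue (range_of_allRange c_act64_2) (range_glue (range_of_allRange c_act64_3) (range_glue (range_of_allRange c_act64_4) (range_glue (range_of_allRange c_act64_5) (range_glue (range_of_allRange c_act64_6) (range_glue (range_of_allRange c_act64_7) (range_glue (range_of_allRange c_act64_8) (range_glue (range_of_allRange c_act64_9) (range_glue (range_of_allRange c_act64_10) (range_glue (range_of_allRange c_act64_11) (range_glue (range_of_allRange c_act64_12) (range_glue (range_of_allRange c_act64_13) (range_glue (range_of_allRange c_act64_14) (range_glue (range_of_allRange c_act64_15) (range_glue (range_of_allRange c_act64_16) (range_glue (range_of_allRange c_act64_17) (range_glue (range_of_allRange c_act64_18) (range_glue (range_of_allRange c_act64_19) (range_of_allRange c_act64_20)))))))))))))))))))))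
theorem h_act65 : ∀ i, 0 ≤ i → i < 306936 → Nat.beq (actR65 i) i = true :=
  (range_glue (range_of_allRange c_act65_0) (range_glue (range_of_allRange c_act65_1) (range_glue (range_of_allRange c_act65_2) (range_glue (range_of_allRange c_act65_3) (range_glue (range_of_allRange c_act65_4) (range_glue (range_of_allRange c_act65_5) (range_glue (range_of_allRange c_act65_6) (range_glue (range_of_allRange c_act65_7) (range_glue (range_of_allRange c_act65_8) (range_glue (range_of_allRange c_act65_9) (range_glue (range_of_allRange c_act65_10) (range_glue (range_of_allRange c_act65_11) (range_glue (range_of_allRange c_act65_12) (range_glue (range_of_allRange c_act65_13) (range_glue (range_of_allRange c_act65_14) (range_glue (range_of_allRange c_act65_15) (range_glue (range_of_allRange c_act65_16) (range_glue (range_of_allRange c_act65_17) (range_glue (range_of_allRange c_act65_18) (range_glue (range_of_allRange c_act65_19) (range_of_allRange c_act65_20)))))))))))))))))))))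
theorem h_act66 : ∀ i, 0 ≤ i → i < 306936 → Nat.beq (actR66 i) i = true :=
  (range_glue (range_of_allRange c_act66_0) (range_glue (range_of_allRange c_act66_1) (range_glue (range_of_allRange c_act66_2) (range_glue (range_of_allRange c_act66_3) (range_glue (range_of_allRange c_act66_4) (range_glue (range_of_allRange c_act66_5) (range_glue (range_of_allRange c_act66_6) (range_glue (range_of_allRange c_act66_7) (range_glue (range_of_allRange c_act66_8) (range_glue (range_of_allRange c_act66_9) (range_glue (range_of_allRange c_act66_10) (range_glue (range_of_allRange c_act66_11) (range_glue (range_of_allRange c_act66_12) (range_glue (range_of_allRange c_act66_13) (range_glue (range_of_allRange c_act66_14) (range_glue (range_of_allRange c_act66_15) (range_glue (range_of_allRange c_act66_16) (range_glue (range_of_allRange c_act66_17) (range_glue (range_of_allRange c_act66_18) (range_glue (range_of_allRange c_act66_19) (range_of_allRange c_act66_20)))))))))))))))))))))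
theorem h_act67 : ∀ i, 0 ≤ i → i < 306936 → Nat.beq (actR67 i) i = true :=
  (range_glue (range_of_allRange c_act67_0) (range_glue (range_of_allRange c_act67_1) (range_glue (range_of_allRange c_act67_2) (range_glue (range_of_allRange c_act67_3) (range_glue (range_of_allRange c_act67_4) (range_glue (range_of_allRange c_act67_5) (range_glue (range_of_allRange c_act67_6) (range_glue (range_of_allRange c_act67_7) (range_glue (range_of_allRange c_act67_8) (range_glue (range_of_allRange c_act67_9) (range_glue (range_of_allRange c_act67_10) (range_glue (range_of_allRange c_act67_11) (range_glue (range_of_allRange c_act67_12) (range_glue (range_of_allRange c_act67_13) (range_glue (range_of_allRange c_act67_14) (range_glue (range_of_allRange c_act67_15) (range_glue (range_of_allRange c_act67_16) (range_glue (range_of_allRange c_act67_17) (range_glue (range_of_allRange c_act67_18) (range_glue (range_of_allRange c_act67_19) (range_glue (range_of_allRange c_act67_20) (range_glue (range_of_allRange c_act67_21) (range_glue (range_of_allRange c_act67_22) (range_glue (range_of_allRange c_act67_23) (range_glue (range_of_allRange c_act67_24) (range_glue (range_of_allRange c_act67_25) (range_glue (range_of_allRange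 c_act67_26) (range_glue (range_of_allRange c_act67_27) (range_glue (range_of_allRange c_act67_28) (range_glue (range_of_allRange c_act67_29) (range_of_allRange c_act67_30)))))))))))))))))))))))))))))))
theorem h_act68 : ∀ i, 0 ≤ i → i < 306936 → Nat.beq (actR68 i) i = true :=
  (range_glue (range_of_allRange c_act68_0) (range_glue (range_of_allRange c_act68_1) (range_glue (range_of_allRange c_act68_2) (range_glue (range_of_allRange c_act68_3) (range_glue (range_of_allRange c_act68_4) (range_glue (range_of_allRange c_act68_5) (range_glue (range_of_allRange c_act68_6) (range_glue (range_of_allRange c_act68_7) (range_glue (range_of_allRange c_act68_8) (range_glue (range_of_allRange c_act68_9) (range_of_allRange c_act68_10)))))))))))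
theorem h_act69 : ∀ i, 0 ≤ i → i < 306936 → Nat.beq (actR69 i) i = true :=
  (range_glue (range_of_allRange c_act69_0) (range_glue (range_of_allRange c_act69_1) (range_glue (range_of_allRange c_act69_2) (range_glue (range_of_allRange c_act69_3) (range_glue (range_of_allRange c_act69_4) (range_glue (range_of_allRange c_act69_5) (range_glue (range_of_allRange c_act69_6) (range_glue (range_of_allRange c_act69_7) (range_glue (range_of_allRange c_act69_8) (range_glue (range_of_allRange c_act69_9) (range_glue (range_of_allRange c_act69_10) (range_glue (range_of_allRange c_act69_11) (range_glue (range_of_allRange c_act69_12) (range_glue (range_of_allRange c_act69_13) (range_glue (range_of_allRange c_act69_14) (range_glue (range_of_allRange c_act69_15) (range_glue (range_of_allRange c_act69_16) (range_glue (range_of_allRange c_act69_17) (range_glue (range_of_allRange c_act69_18) (range_glue (range_of_allRange c_act69_19) (range_glue (range_of_allRange c_act69_20) (range_glue (range_of_allRange c_act69_21) (range_glue (range_of_allRange c_act69_22) (range_glue (range_of_allRange c_act69_23) (range_glue (range_of_allRange c_act69_24) (range_glue (range_of_allRange c_act69_25) (range_glue (range_of_allRange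 c_act69_26) (range_glue (range_of_allRange c_act69_27) (range_glue (range_of_allRange c_act69_28) (range_glue (range_of_allRange c_act69_29) (range_of_allRange c_act69_30)))))))))))))))))))))))))))))))
theorem h_act70 : ∀ i, 0 ≤ i → i < 306936 → Nat.beq (actR70 i) i = true :=
  (range_glue (range_of_allRange c_act70_0) (range_glue (range_of_allRange c_act70_1) (range_glue (range_of_allRange c_act70_2) (range_glue (range_of_allRange c_act70_3) (range_glue (range_of_allRange c_act70_4) (range_glue (range_of_allRange c_act70_5) (range_glue (range_of_allRange c_act70_6) (range_glue (range_of_allRange c_act70_7) (range_glue (range_of_allRange c_act70_8) (range_glue (range_of_allRange c_act70_9) (range_glue (range_of_allRange c_act70_10) (range_glue (range_of_allRange c_act70_11) (range_glue (range_of_allRange c_act70_12) (range_glue (range_of_allRange c_act70_13) (range_glue (range_of_allRange c_act70_14) (range_glue (range_of_allRange c_act70_15) (range_glue (range_of_allRange c_act70_16) (range_glue (range_of_allRange c_act70_17) (range_glue (range_of_allRange c_act70_18) (range_glue (range_of_allRange c_act70_19) (range_of_allRange c_act70_20)))))))))))))))))))))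
theorem h_act71 : ∀ i, 0 ≤ i → i < 306936 → Nat.beq (actR71 i) i = true :=
  (range_glue (range_of_allRange c_act71_0) (range_glue (range_of_allRange c_act71_1) (range_glue (range_of_allRange c_act71_2) (range_glue (range_of_allRange c_act71_3) (range_glue (range_of_allRange c_act71_4) (range_glue (range_of_allRange c_act71_5) (range_glue (range_of_allRange c_act71_6) (range_glue (range_of_allRange c_act71_7) (range_glue (range_of_allRange c_act71_8) (range_glue (range_of_allRange c_act71_9) (range_glue (range_of_allRange c_act71_10) (range_glue (range_of_allRange c_act71_11) (range_glue (range_of_allRange c_act71_12) (range_glue (range_of_allRange c_act71_13) (range_glue (range_of_allRange c_act71_14) (range_glue (range_of_allRange c_act71_15) (range_glue (range_of_allRange c_act71_16) (range_glue (range_of_allRange c_act71_17) (range_glue (range_of_allRange c_act71_18) (range_glue (range_of_allRange c_act71_19) (range_of_allRange c_act71_20)))))))))))))))))))))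
theorem h_act72 : ∀ i, 0 ≤ i → i < 306936 → Nat.beq (actR72 i) i = true :=
  (range_glue (range_of_allRange c_act72_0) (range_glue (range_of_allRange c_act72_1) (range_glue (range_of_allRange c_act72_2) (range_glue (range_of_allRange c_act72_3) (range_glue (range_of_allRange c_act72_4) (range_glue (range_of_allRange c_act72_5) (range_glue (range_of_allRange c_act72_6) (range_glue (range_of_allRange c_act72_7) (range_glue (range_of_allRange c_act72_8) (range_glue (range_of_allRange c_act72_9) (range_of_allRange c_act72_10)))))))))))
theorem h_act73 : ∀ i, 0 ≤ i → i < 306936 → Nat.beq (actR73 i) i = true :=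
  (range_glue (range_of_allRange c_act73_0) (range_glue (range_of_allRange c_act73_1) (range_glue (range_of_allRange c_act73_2) (range_glue (range_of_allRange c_act73_3) (range_glue (range_of_allRange c_act73_4) (range_glue (range_of_allRange c_act73_5) (range_glue (range_of_allRange c_act73_6) (range_glue (range_of_allRange c_act73_7) (range_glue (range_of_allRange c_act73_8) (range_glue (range_of_allRange c_act73_9) (range_glue (range_of_allRange c_act73_10) (range_glue (range_of_allRange c_act73_11) (range_glue (range_of_allRange c_act73_12) (range_glue (range_of_allRange c_act73_13) (range_glue (range_of_allRange c_act73_14) (range_glue (range_of_allRange c_act73_15) (range_glue (range_of_allRange c_act73_16) (range_glue (range_of_allRange c_act73_17) (range_glue (range_of_allRange c_act73_18) (range_glue (range_of_allRange c_act73_19) (range_glue (range_of_allRange c_act73_20) (range_glue (range_of_allRange c_act73_21) (range_glue (range_of_allRange c_act73_22) (range_glue (range_of_allRange c_act73_23) (range_glue (range_of_allRange c_act73_24) (range_glue (range_of_allRange c_act73_25) (range_glue (range_of_allRange c_act73_26) (range_glue (range_of_allRange c_act73_27) (range_glue (range_of_allRange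 c_act73_28) (range_glue (range_of_allRange c_act73_29) (range_of_allRange c_act73_30)))))))))))))))))))))))))))))))
theorem h_act74 : ∀ i, 0 ≤ i → i < 306936 → Nat.beq (actR74 i) i = true :=
  (range_glue (range_of_allRange c_act74_0) (range_glue (range_of_allRange c_act74_1) (range_glue (range_of_allRange c_act74_2) (range_glue (range_of_allRange c_act74_3) (range_glue (range_of_allRange c_act74_4) (range_glue (range_of_allRange c_act74_5) (range_glue (range_of_allRange c_act74_6) (range_glue (range_of_allRange c_act74_7) (range_glue (range_of_allRange c_act74_8) (range_glue (range_of_allRange c_act74_9) (range_glue (range_of_allRange c_act74_10) (range_glue (range_of_allRange c_act74_11) (range_glue (range_of_allRange c_act74_12) (range_glue (range_of_allRange c_act74_13) (range_glue (range_of_allRange c_act74_14) (range_glue (range_of_allRange c_act74_15) (range_glue (range_of_allRange c_act74_16) (range_glue (range_of_allRange c_act74_17) (range_glue (range_of_allRange c_act74_18) (range_glue (range_of_allRange c_act74_19) (range_of_allRange c_act74_20)))))))))))))))))))))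
theorem h_act75 : ∀ i, 0 ≤ i → i < 306936 → Nat.beq (actR75 i) i = true :=
  (range_glue (range_of_allRange c_act75_0) (range_glue (range_of_allRange c_act75_1) (range_glue (range_of_allRange c_act75_2) (range_glue (range_of_allRange c_act75_3) (range_glue (range_of_allRange c_act75_4) (range_glue (range_of_allRange c_act75_5) (range_glue (range_of_allRange c_act75_6) (range_glue (range_of_allRange c_act75_7) (range_glue (range_of_allRange c_act75_8) (range_glue (range_of_allRange c_act75_9) (range_of_allRange c_act75_10)))))))))))
theorem h_act76 : ∀ i, 0 ≤ i → i < 306936 → Nat.beq (actR76 i) i = true :=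
  (range_glue (range_of_allRange c_act76_0) (range_glue (range_of_allRange c_act76_1) (range_glue (range_of_allRange c_act76_2) (range_glue (range_of_allRange c_act76_3) (range_glue (range_of_allRange c_act76_4) (range_glue (range_of_allRange c_act76_5) (range_glue (range_of_allRange c_act76_6) (range_glue (range_of_allRange c_act76_7) (range_glue (range_of_allRange c_act76_8) (range_glue (range_of_allRange c_act76_9) (range_glue (range_of_allRange c_act76_10) (range_glue (range_of_allRange c_act76_11) (range_glue (range_of_allRange c_act76_12) (range_glue (range_of_allRange c_act76_13) (range_glue (range_of_allRange c_act76_14) (range_glue (range_of_allRange c_act76_15) (range_glue (range_of_allRange c_act76_16) (range_glue (range_of_allRange c_act76_17) (range_glue (range_of_allRange c_act76_18) (range_glue (range_of_allRange c_act76_19) (range_of_allRange c_act76_20)))))))))))))))))))))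
theorem h_act77 : ∀ i, 0 ≤ i → i < 306936 → Nat.beq (actR77 i) i = true :=
  (range_glue (range_of_allRange c_act77_0) (range_glue (range_of_allRange c_act77_1) (range_glue (range_of_allRange c_act77_2) (range_glue (range_of_allRange c_act77_3) (range_glue (range_of_allRange c_act77_4) (range_glue (range_of_allRange c_act77_5) (range_glue (range_of_allRange c_act77_6) (range_glue (range_of_allRange c_act77_7) (range_glue (range_of_allRange c_act77_8) (range_glue (range_of_allRange c_act77_9) (range_of_allRange c_act77_10)))))))))))
theorem h_act78_p0 : ∀ i, 0 ≤ i → i < 37480 → Nat.beq (actR78 i) i = true :=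
  (range_glue (range_of_allRange c_act78_0) (range_glue (range_of_allRange c_act78_1) (range_glue (range_of_allRange c_act78_2) (range_glue (range_of_allRange c_act78_3) (range_glue (range_of_allRange c_act78_4) (range_glue (range_of_allRange c_act78_5) (range_glue (range_of_allRange c_act78_6) (range_glue (range_of_allRange c_act78_7) (range_glue (range_of_allRange c_act78_8) (range_glue (range_of_allRange c_act78_9) (range_glue (range_of_allRange c_act78_10) (range_glue (range_of_allRange c_act78_11) (range_glue (range_of_allRange c_act78_12) (range_glue (range_of_allRange c_act78_13) (range_glue (range_of_allRange c_act78_14) (range_glue (range_of_allRange c_act78_15) (range_glue (range_of_allRange c_act78_16) (range_glue (range_of_allRange c_act78_17) (range_glue (range_of_allRange c_act78_18) (range_glue (range_of_allRange c_act78_19) (range_glue (range_of_allRange c_act78_20) (range_glue (range_of_allRange c_act78_21) (range_glue (range_of_allRange c_act78_22) (range_glue (range_of_allRange c_act78_23) (range_glue (range_of_allRange c_act78_24) (range_glue (range_of_allRange c_act78_25) (range_glue (range_of_allRange c_act78_26) (range_glue (range_of_allRange c_act78_27) (range_glue (range_of_allRange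 c_act78_28) (range_glue (range_of_allRange c_act78_29) (range_glue (range_of_allRange c_act78_30) (range_glue (range_of_allRange c_act78_31) (range_glue (range_of_allRange c_act78_32) (range_glue (range_of_allRange c_act78_33) (range_glue (range_of_allRange c_act78_34) (range_glue (range_of_allRange c_act78_35) (range_glue (range_of_allRange c_act78_36) (range_glue (range_of_allRange c_act78_37) (range_glue (range_of_allRange c_act78_38) (range_of_allRange c_act78_39))))))))))))))))))))))))))))))))))))))))
theorem h_act78_p1 : ∀ i, 37480 ≤ i → i < 74960 → Nat.beq (actR78 i) i = true :=
  (range_glue (range_of_allRange c_act78_40) (range_glue (range_of_allRange c_act78_41) (range_glue (range_of_allRange c_act78_42) (range_glue (range_of_allRange c_act78_43) (range_glue (range_of_allRange c_act78_44) (range_glue (range_of_allRange c_act78_45) (range_glue (range_of_allRange c_act78_46) (range_glue (range_of_allRange c_act78_47) (range_glue (range_of_allRange c_act78_48) (range_glue (range_of_allRange c_act78_49) (range_glue (range_of_allRange c_act78_50) (range_glue (range_of_allRange c_act78_51) (range_glue (range_of_allRange c_act78_52) (range_glue (range_of_allRange c_act78_53) (range_glue (range_of_allRange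 c_act78_54) (range_glue (range_of_allRange c_act78_55) (range_glue (range_of_allRange c_act78_56) (range_glue (range_of_allRange c_act78_57) (range_glue (range_of_allRange c_act78_58) (range_glue (range_of_allRange c_act78_59) (range_glue (range_of_allRange c_act78_60) (range_glue (range_of_allRange c_act78_61) (range_glue (range_of_allRange c_act78_62) (range_glue (range_of_allRange c_act78_63) (range_glue (range_of_allRange c_act78_64) (range_glue (range_of_allRange c_act78_65) (range_glue (range_of_allRange c_act78_66) (range_glue (range_of_allRange c_act78_67) (range_glue (range_of_allRange c_act78_68) (range_glue (range_of_allRange c_act78_69) (range_glue (range_of_allRange c_act78_70) (range_glue (range_of_allRange c_act78_71) (range_glue (range_of_allRange c_act78_72) (range_glue (range_of_allRange c_act78_73) (range_glue (range_of_allRange c_act78_74) (range_glue (range_of_allRange c_act78_75) (range_glue (range_of_allRange c_act78_76) (range_glue (range_of_allRange c_act78_77) (range_glue (range_of_allRange c_act78_78) (range_of_allRange c_act78_79))))))))))))))))))))))))))))))))))))))))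
theorem h_act78_p2 : ∀ i, 74960 ≤ i → i < 112440 → Nat.beq (actR78 i) i = true :=
  (range_glue (range_of_allRange c_act78_80) (range_glue (range_of_allRange c_act78_81) (range_glue (range_of_allRange c_act78_82) (range_glue (range_of_allRange c_act78_83) (range_glue (range_of_allRange c_act78_84) (range_glue (range_of_allRange c_act78_85) (range_glue (range_of_allRange c_act78_86) (range_glue (range_of_allRange c_act78_87) (range_glue (range_of_allRange c_act78_88) (range_glue (range_of_allRange c_act78_89) (range_glue (range_of_allRange c_act78_90) (range_glue (range_of_allRange c_act78_91) (range_glue (range_of_allRange c_act78_92) (range_glue (range_of_allRange c_act78_93) (range_glue (range_of_allRange c_act78_94) (range_glue (range_of_allRange c_act78_95) (range_glue (range_of_allRange c_act78_96) (range_glue (range_of_allRange c_act78_97) (range_glue (range_of_allRange c_act78_98) (range_glue (range_of_allRange c_act78_99) (range_glue (range_of_allRange c_act78_100) (range_glue (range_of_allRange c_act78_101) (range_glue (range_of_allRange c_act78_102) (range_glue (range_of_allRange c_act78_103) (range_glue (range_of_allRange c_act78_104) (range_glue (range_of_allRange c_act78_105) (range_glue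 (range_of_allRange c_act78_106) (range_glue (range_of_allRange c_act78_107) (range_glue (range_of_allRange c_act78_108) (range_glue (range_of_allRange c_act78_109) (range_glue (range_of_allRange c_act78_110) (range_glue (range_of_allRange c_act78_111) (range_glue (range_of_allRange c_act78_112) (range_glue (range_of_allRange c_act78_113) (range_glue (range_of_allRange c_act78_114) (range_glue (range_of_allRange c_act78_115) (range_glue (range_of_allRange c_act78_116) (range_glue (range_of_allRange c_act78_117) (range_glue (range_of_allRange c_act78_118) (range_of_allRange c_act78_119))))))))))))))))))))))))))))))))))))))))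
theorem h_act78_p3 : ∀ i, 112440 ≤ i → i < 149920 → Nat.beq (actR78 i) i = true :=
  (range_glue (range_of_allRange c_act78_120) (range_glue (range_of_allRange c_act78_121) (range_glue (range_of_allRange c_act78_122) (range_glue (range_of_allRange c_act78_123) (range_glue (range_of_allRange c_act78_124) (range_glue (range_of_allRange c_act78_125) (range_glue (range_of_allRange c_act78_126) (range_glue (range_of_allRange c_act78_127) (range_glue (range_of_allRange c_act78_128) (range_glue (range_of_allRange c_act78_129) (range_glue (range_of_allRange c_act78_130) (range_glue (range_of_allRange c_act78_131) (range_glue (range_of_allRange c_act78_132) (range_glue (range_of_allRange c_act78_133) (range_glue (range_of_allRange c_act78_134) (range_glue (range_of_allRange c_act78_135) (range_glue (range_of_allRange c_act78_136) (range_glue (range_of_allRange c_act78_137) (range_glue (range_of_allRange c_act78_138) (range_glue (range_of_allRange c_act78_139) (range_glue (range_of_allRange c_act78_140) (range_glue (range_of_allRange c_act78_141) (range_glue (range_of_allRange c_act78_142) (range_glue (range_of_allRange c_act78_143) (range_glue (range_of_allRange c_act78_144) (range_glue (range_of_allRange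 c_act78_145) (range_glue (range_of_allRange c_act78_146) (range_glue (range_of_allRange c_act78_147) (range_glue (range_of_allRange c_act78_148) (range_glue (range_of_allRange c_act78_149) (range_glue (range_of_allRange c_act78_150) (range_glue (range_of_allRange c_act78_151) (range_glue (range_of_allRange c_act78_152) (range_glue (range_of_allRange c_act78_153) (range_glue (range_of_allRange c_act78_154) (range_glue (range_of_allRange c_act78_155) (range_glue (range_of_allRange c_act78_156) (range_glue (range_of_allRange c_act78_157) (range_glue (range_of_allRange c_act78_158) (range_of_allRange c_act78_159))))))))))))))))))))))))))))))))))))))))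
theorem h_act78_p4 : ∀ i, 149920 ≤ i → i < 187400 → Nat.beq (actR78 i) i = true :=
  (range_glue (range_of_allRange c_act78_160) (range_glue (range_of_allRange c_act78_161) (range_glue (range_of_allRange c_act78_162) (range_glue (range_of_allRange c_act78_163) (range_glue (range_of_allRange c_act78_164) (range_glue (range_of_allRange c_act78_165) (range_glue (range_of_allRange c_act78_166) (range_glue (range_of_allRange c_act78_167) (range_glue (range_of_allRange c_act78_168) (range_glue (range_of_allRange c_act78_169) (range_glue (range_of_allRange c_act78_170) (range_glue (range_of_allRange c_act78_171) (range_glue (range_of_allRange c_act78_172) (range_glue (range_of_allRange c_act78_173) (range_glue (range_of_allRange c_act78_174) (range_glue (range_of_allRange c_act78_175) (range_glue (range_of_allRange c_act78_176) (range_glue (range_of_allRange c_act78_177) (range_glue (range_of_allRange c_act78_178) (range_glue (range_of_allRange c_act78_179) (range_glue (range_of_allRange c_act78_180) (range_glue (range_of_allRange c_act78_181) (range_glue (range_of_allRange c_act78_182) (range_glue (range_of_allRange c_act78_183) (range_glue (range_of_allRange c_act78_184) (range_glue (range_of_allRange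 c_act78_185) (range_glue (range_of_allRange c_act78_186) (range_glue (range_of_allRange c_act78_187) (range_glue (range_of_allRange c_act78_188) (range_glue (range_of_allRange c_act78_189) (range_glue (range_of_allRange c_act78_190) (range_glue (range_of_allRange c_act78_191) (range_glue (range_of_allRange c_act78_192) (range_glue (range_of_allRange c_act78_193) (range_glue (range_of_allRange c_act78_194) (range_glue (range_of_allRange c_act78_195) (range_glue (range_of_allRange c_act78_196) (range_glue (range_of_allRange c_act78_197) (range_glue (range_of_allRange c_act78_198) (range_of_allRange c_act78_199))))))))))))))))))))))))))))))))))))))))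
theorem h_act78_p5 : ∀ i, 187400 ≤ i → i < 224880 → Nat.beq (actR78 i) i = true :=
  (range_glue (range_of_allRange c_act78_200) (range_glue (range_of_allRange c_act78_201) (range_glue (range_of_allRange c_act78_202) (range_glue (range_of_allRange c_act78_203) (range_glue (range_of_allRange c_act78_204) (range_glue (range_of_allRange c_act78_205) (range_glue (range_of_allRange c_act78_206) (range_glue (range_of_allRange c_act78_207) (range_glue (range_of_allRange c_act78_208) (range_glue (range_of_allRange c_act78_209) (range_glue (range_of_allRange c_act78_210) (range_glue (range_of_allRange c_act78_211) (range_glue (range_of_allRange c_act78_212) (range_glue (range_of_allRange c_act78_213) (range_glue (range_of_allRange c_act78_214) (range_glue (range_of_allRange c_act78_215) (range_glue (range_of_allRange c_act78_216) (range_glue (range_of_allRange c_act78_217) (range_glue (range_of_allRange c_act78_218) (range_glue (range_of_allRange c_act78_219) (range_glue (range_of_allRange c_act78_220) (range_glue (range_of_allRange c_act78_221) (range_glue (range_of_allRange c_act78_222) (range_glue (range_of_allRange c_act78_223) (range_glue (range_of_allRange c_act78_224) (range_glue (range_of_allRange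 c_act78_225) (range_glue (range_of_allRange c_act78_226) (range_glue (range_of_allRange c_act78_227) (range_glue (range_of_allRange c_act78_228) (range_glue (range_of_allRange c_act78_229) (range_glue (range_of_allRange c_act78_230) (range_glue (range_of_allRange c_act78_231) (range_glue (range_of_allRange c_act78_232) (range_glue (range_of_allRange c_act78_233) (range_glue (range_of_allRange c_act78_234) (range_glue (range_of_allRange c_act78_235) (range_glue (range_of_allRange c_act78_236) (range_glue (range_of_allRange c_act78_237) (range_glue (range_of_allRange c_act78_238) (range_of_allRange c_act78_239))))))))))))))))))))))))))))))))))))))))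
theorem h_act78_p6 : ∀ i, 224880 ≤ i → i < 262360 → Nat.beq (actR78 i) i = true :=
  (range_glue (range_of_allRange c_act78_240) (range_glue (range_of_allRange c_act78_241) (range_glue (range_of_allRange c_act78_242) (range_glue (range_of_allRange c_act78_243) (range_glue (range_of_allRange c_act78_244) (range_glue (range_of_allRange c_act78_245) (range_glue (range_of_allRange c_act78_246) (range_glue (range_of_allRange c_act78_247) (range_glue (range_of_allRange c_act78_248) (range_glue (range_of_allRange c_act78_249) (range_glue (range_of_allRange c_act78_250) (range_glue (range_of_allRange c_act78_251) (range_glue (range_of_allRange c_act78_252) (range_glue (range_of_allRange c_act78_253) (range_glue (range_of_allRange c_act78_254) (range_glue (range_of_allRange c_act78_255) (range_glue (range_of_allRange c_act78_256) (range_glue (range_of_allRange c_act78_257) (range_glue (range_of_allRange c_act78_258) (range_glue (range_of_allRange c_act78_259) (range_glue (range_of_allRange c_act78_260) (range_glue (range_of_allRange c_act78_261) (range_glue (range_of_allRange c_act78_262) (range_glue (range_of_allRange c_act78_263) (range_glue (range_of_allRange c_act78_264) (range_glue (range_of_allRange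 c_act78_265) (range_glue (range_of_allRange c_act78_266) (range_glue (range_of_allRange c_act78_267) (range_glue (range_of_allRange c_act78_268) (range_glue (range_of_allRange c_act78_269) (range_glue (range_of_allRange c_act78_270) (range_glue (range_of_allRange c_act78_271) (range_glue (range_of_allRange c_act78_272) (range_glue (range_of_allRange c_act78_273) (range_glue (range_of_allRange c_act78_274) (range_glue (range_of_allRange c_act78_275) (range_glue (range_of_allRange c_act78_276) (range_glue (range_of_allRange c_act78_277) (range_glue (range_of_allRange c_act78_278) (range_of_allRange c_act78_279))))))))))))))))))))))))))))))))))))))))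
theorem h_act78_p7 : ∀ i, 262360 ≤ i → i < 299840 → Nat.beq (actR78 i) i = true :=
  (range_glue (range_of_allRange c_act78_280) (range_glue (range_of_allRange c_act78_281) (range_glue (range_of_allRange c_act78_282) (range_glue (range_of_allRange c_act78_283) (range_glue (range_of_allRange c_act78_284) (range_glue (range_of_allRange c_act78_285) (range_glue (range_of_allRange c_act78_286) (range_glue (range_of_allRange c_act78_287) (range_glue (range_of_allRange c_act78_288) (range_glue (range_of_allRange c_act78_289) (range_glue (range_of_allRange c_act78_290) (range_glue (range_of_allRange c_act78_291) (range_glue (range_of_allRange c_act78_292) (range_glue (range_of_allRange c_act78_293) (range_glue (range_of_allRange c_act78_294) (range_glue (range_of_allRange c_act78_295) (range_glue (range_of_allRange c_act78_296) (range_glue (range_of_allRange c_act78_297) (range_glue (range_of_allRange c_act78_298) (range_glue (range_of_allRange c_act78_299) (range_glue (range_of_allRange c_act78_300) (range_glue (range_of_allRange c_act78_301) (range_glue (range_of_allRange c_act78_302) (range_glue (range_of_allRange c_act78_303) (range_glue (range_of_allRange c_act78_304) (range_glue (range_of_allRange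 c_act78_305) (range_glue (range_of_allRange c_act78_306) (range_glue (range_of_allRange c_act78_307) (range_glue (range_of_allRange c_act78_308) (range_glue (range_of_allRange c_act78_309) (range_glue (range_of_allRange c_act78_310) (range_glue (range_of_allRange c_act78_311) (range_glue (range_of_allRange c_act78_312) (range_glue (range_of_allRange c_act78_313) (range_glue (range_of_allRange c_act78_314) (range_glue (range_of_allRange c_act78_315) (range_glue (range_of_allRange c_act78_316) (range_glue (range_of_allRange c_act78_317) (range_glue (range_of_allRange c_act78_318) (range_of_allRange c_act78_319))))))))))))))))))))))))))))))))))))))))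
theorem h_act78_p8 : ∀ i, 299840 ≤ i → i < 306936 → Nat.beq (actR78 i) i = true :=
  (range_glue (range_of_allRange c_act78_320) (range_glue (range_of_allRange c_act78_321) (range_glue (range_of_allRange c_act78_322) (range_glue (range_of_allRange c_act78_323) (range_glue (range_of_allRange c_act78_324) (range_glue (range_of_allRange c_act78_325) (range_glue (range_of_allRange c_act78_326) (range_of_allRange c_act78_327))))))))
theorem h_act78 : ∀ i, 0 ≤ i → i < 306936 → Nat.beq (actR78 i) i = true :=
  (range_glue h_act78_p0 (range_glue h_act78_p1 (range_glue h_act78_p2 (range_glue h_act78_p3 (range_glue h_act78_p4 (range_glue h_act78_p5 (range_glue h_act78_p6 (range_glue h_act78_p7 h_act78_p8))))))))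
theorem h_act79_p0 : ∀ i, 0 ≤ i → i < 10080 → Nat.beq (actR79 i) i = true :=
  (range_glue (range_of_allRange c_act79_0) (range_glue (range_of_allRange c_act79_1) (range_glue (range_of_allRange c_act79_2) (range_glue (range_of_allRange c_act79_3) (range_glue (range_of_allRange c_act79_4) (range_glue (range_of_allRange c_act79_5) (range_glue (range_of_allRange c_act79_6) (range_glue (range_of_allRange c_act79_7) (range_glue (range_of_allRange c_act79_8) (range_glue (range_of_allRange c_act79_9) (range_glue (range_of_allRange c_act79_10) (range_glue (range_of_allRange c_act79_11) (range_glue (range_of_allRange c_act79_12) (range_glue (range_of_allRange c_act79_13) (range_glue (range_of_allRange c_act79_14) (range_glue (range_of_allRange c_act79_15) (range_glue (range_of_allRange c_act79_16) (range_glue (range_of_allRange c_act79_17) (range_glue (range_of_allRange c_act79_18) (range_glue (range_of_allRange c_act79_19) (range_glue (range_of_allRange c_act79_20) (range_glue (range_of_allRange c_act79_21) (range_glue (range_of_allRange c_act79_22) (range_glue (range_of_allRange c_act79_23) (range_glue (range_of_allRange c_act79_24) (range_glue (range_of_allRange c_act79_25) (range_glue (range_of_allRange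 c_act79_26) (range_glue (range_of_allRange c_act79_27) (range_glue (range_of_allRange c_act79_28) (range_glue (range_of_allRange c_act79_29) (range_glue (range_of_allRange c_act79_30) (range_glue (range_of_allRange c_act79_31) (range_glue (range_of_allRange c_act79_32) (range_glue (range_of_allRange c_act79_33) (range_glue (range_of_allRange c_act79_34) (range_glue (range_of_allRange c_act79_35) (range_glue (range_of_allRange c_act79_36) (range_glue (range_of_allRange c_act79_37) (range_glue (range_of_allRange c_act79_38) (range_of_allRange c_act79_39))))))))))))))))))))))))))))))))))))))))
theorem h_act79_p1 : ∀ i, 10080 ≤ i → i < 20160 → Nat.beq (actR79 i) i = true :=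
  (range_glue (range_of_allRange c_act79_40) (range_glue (range_of_allRange c_act79_41) (range_glue (range_of_allRange c_act79_42) (range_glue (range_of_allRange c_act79_43) (range_glue (range_of_allRange c_act79_44) (range_glue (range_of_allRange c_act79_45) (range_glue (range_of_allRange c_act79_46) (range_glue (range_of_allRange c_act79_47) (range_glue (range_of_allRange c_act79_48) (range_glue (range_of_allRange c_act79_49) (range_glue (range_of_allRange c_act79_50) (range_glue (range_of_allRange c_act79_51) (range_glue (range_of_allRange c_act79_52) (range_glue (range_of_allRange c_act79_53) (range_glue (range_of_allRange c_act79_54) (range_glue (range_of_allRange c_act79_55) (range_glue (range_of_allRange c_act79_56) (range_glue (range_of_allRange c_act79_57) (range_glue (range_of_allRange c_act79_58) (range_glue (range_of_allRange c_act79_59) (range_glue (range_of_allRange c_act79_60) (range_glue (range_of_allRange c_act79_61) (range_glue (range_of_allRange c_act79_62) (range_glue (range_of_allRange c_act79_63) (range_glue (range_of_allRange c_act79_64) (range_glue (range_of_allRange c_act79_65) (range_glue (range_of_allRange c_act79_66) (range_glue (range_of_allRange c_act79_67) (range_glue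 (range_of_allRange c_act79_68) (range_glue (range_of_allRange c_act79_69) (range_glue (range_of_allRange c_act79_70) (range_glue (range_of_allRange c_act79_71) (range_glue (range_of_allRange c_act79_72) (range_glue (range_of_allRange c_act79_73) (range_glue (range_of_allRange c_act79_74) (range_glue (range_of_allRange c_act79_75) (range_glue (range_of_allRange c_act79_76) (range_glue (range_of_allRange c_act79_77) (range_glue (range_of_allRange c_act79_78) (range_of_allRange c_act79_79))))))))))))))))))))))))))))))))))))))))
theorem h_act79_p2 : ∀ i, 20160 ≤ i → i < 30240 → Nat.beq (actR79 i) i = true :=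
  (range_glue (range_of_allRange c_act79_80) (range_glue (range_of_allRange c_act79_81) (range_glue (range_of_allRange c_act79_82) (range_glue (range_of_allRange c_act79_83) (range_glue (range_of_allRange c_act79_84) (range_glue (range_of_allRange c_act79_85) (range_glue (range_of_allRange c_act79_86) (range_glue (range_of_allRange c_act79_87) (range_glue (range_of_allRange c_act79_88) (range_glue (range_of_allRange c_act79_89) (range_glue (range_of_allRange c_act79_90) (range_glue (range_of_allRange c_act79_91) (range_glue (range_of_allRange c_act79_92) (range_glue (range_of_allRange c_act79_93) (range_glue (range_of_allRange c_act79_94) (range_glue (range_of_allRange c_act79_95) (range_glue (range_of_allRange c_act79_96) (range_glue (range_of_allRange c_act79_97) (range_glue (range_of_allRange c_act79_98) (range_glue (range_of_allRange c_act79_99) (range_glue (range_of_allRange c_act79_100) (range_glue (range_of_allRange c_act79_101) (range_glue (range_of_allRange c_act79_102) (range_glue (range_of_allRange c_act79_103) (range_glue (range_of_allRange c_act79_104) (range_glue (range_of_allRange c_act79_105) (range_glue (range_of_allRange c_act79_106) (range_glue (range_of_allRange c_act79_107)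 (range_glue (range_of_allRange c_act79_108) (range_glue (range_of_allRange c_act79_109) (range_glue (range_of_allRange c_act79_110) (range_glue (range_of_allRange c_act79_111) (range_glue (range_of_allRange c_act79_112) (range_glue (range_of_allRange c_act79_113) (range_glue (range_of_allRange c_act79_114) (range_glue (range_of_allRange c_act79_115) (range_glue (range_of_allRange c_act79_116) (range_glue (range_of_allRange c_act79_117) (range_glue (range_of_allRange c_act79_118) (range_of_allRange c_act79_119))))))))))))))))))))))))))))))))))))))))
theorem h_act79_p3 : ∀ i, 30240 ≤ i → i < 40320 → Nat.beq (actR79 i) i = true :=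
  (range_glue (range_of_allRange c_act79_120) (range_glue (range_of_allRange c_act79_121) (range_glue (range_of_allRange c_act79_122) (range_glue (range_of_allRange c_act79_123) (range_glue (range_of_allRange c_act79_124) (range_glue (range_of_allRange c_act79_125) (range_glue (range_of_allRange c_act79_126) (range_glue (range_of_allRange c_act79_127) (range_glue (range_of_allRange c_act79_128) (range_glue (range_of_allRange c_act79_129) (range_glue (range_of_allRange c_act79_130) (range_glue (range_of_allRange c_act79_131) (range_glue (range_of_allRange c_act79_132) (range_glue (range_of_allRange c_act79_133) (range_glue (range_of_allRange c_act79_134) (range_glue (range_of_allRange c_act79_135) (range_glue (range_of_allRange c_act79_136) (range_glue (range_of_allRange c_act79_137) (range_glue (range_of_allRange c_act79_138) (range_glue (range_of_allRange c_act79_139) (range_glue (range_of_allRange c_act79_140) (range_glue (range_of_allRange c_act79_141) (range_glue (range_of_allRange c_act79_142) (range_glue (range_of_allRange c_act79_143) (range_glue (range_of_allRange c_act79_144) (range_glue (range_of_allRange c_act79_145) (range_glue (range_of_allRange c_act79_146) (range_glue (range_of_allRange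 c_act79_147) (range_glue (range_of_allRange c_act79_148) (range_glue (range_of_allRange c_act79_149) (range_glue (range_of_allRange c_act79_150) (range_glue (range_of_allRange c_act79_151) (range_glue (range_of_allRange c_act79_152) (range_glue (range_of_allRange c_act79_153) (range_glue (range_of_allRange c_act79_154) (range_glue (range_of_allRange c_act79_155) (range_glue (range_of_allRange c_act79_156) (range_glue (range_of_allRange c_act79_157) (range_glue (range_of_allRange c_act79_158) (range_of_allRange c_act79_159))))))))))))))))))))))))))))))))))))))))
theorem h_act79_p4 : ∀ i, 40320 ≤ i → i < 50400 → Nat.beq (actR79 i) i = true :=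
  (range_glue (range_of_allRange c_act79_160) (range_glue (range_of_allRange c_act79_161) (range_glue (range_of_allRange c_act79_162) (range_glue (range_of_allRange c_act79_163) (range_glue (range_of_allRange c_act79_164) (range_glue (range_of_allRange c_act79_165) (range_glue (range_of_allRange c_act79_166) (range_glue (range_of_allRange c_act79_167) (range_glue (range_of_allRange c_act79_168) (range_glue (range_of_allRange c_act79_169) (range_glue (range_of_allRange c_act79_170) (range_glue (range_of_allRange c_act79_171) (range_glue (range_of_allRange c_act79_172) (range_glue (range_of_allRange c_act79_173) (range_glue (range_of_allRange c_act79_174) (range_glue (range_of_allRange c_act79_175) (range_glue (range_of_allRange c_act79_176) (range_glue (range_of_allRange c_act79_177) (range_glue (range_of_allRange c_act79_178) (range_glue (range_of_allRange c_act79_179) (range_glue (range_of_allRange c_act79_180) (range_glue (range_of_allRange c_act79_181) (range_glue (range_of_allRange c_act79_182) (range_glue (range_of_allRange c_act79_183) (range_glue (range_of_allRange c_act79_184) (range_glue (range_of_allRange c_act79_185) (range_glue (range_of_allRange c_act79_186) (range_glue (range_of_allRange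 c_act79_187) (range_glue (range_of_allRange c_act79_188) (range_glue (range_of_allRange c_act79_189) (range_glue (range_of_allRange c_act79_190) (range_glue (range_of_allRange c_act79_191) (range_glue (range_of_allRange c_act79_192) (range_glue (range_of_allRange c_act79_193) (range_glue (range_of_allRange c_act79_194) (range_glue (range_of_allRange c_act79_195) (range_glue (range_of_allRange c_act79_196) (range_glue (range_of_allRange c_act79_197) (range_glue (range_of_allRange c_act79_198) (range_of_allRange c_act79_199))))))))))))))))))))))))))))))))))))))))
theorem h_act79_p5 : ∀ i, 50400 ≤ i → i < 60480 → Nat.beq (actR79 i) i = true :=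
  (range_glue (range_of_allRange c_act79_200) (range_glue (range_of_allRange c_act79_201) (range_glue (range_of_allRange c_act79_202) (range_glue (range_of_allRange c_act79_203) (range_glue (range_of_allRange c_act79_204) (range_glue (range_of_allRange c_act79_205) (range_glue (range_of_allRange c_act79_206) (range_glue (range_of_allRange c_act79_207) (range_glue (range_of_allRange c_act79_208) (range_glue (range_of_allRange c_act79_209) (range_glue (range_of_allRange c_act79_210) (range_glue (range_of_allRange c_act79_211) (range_glue (range_of_allRange c_act79_212) (range_glue (range_of_allRange c_act79_213) (range_glue (range_of_allRange c_act79_214) (range_glue (range_of_allRange c_act79_215) (range_glue (range_of_allRange c_act79_216) (range_glue (range_of_allRange c_act79_217) (range_glue (range_of_allRange c_act79_218) (range_glue (range_of_allRange c_act79_219) (range_glue (range_of_allRange c_act79_220) (range_glue (range_of_allRange c_act79_221) (range_glue (range_of_allRange c_act79_222) (range_glue (range_of_allRange c_act79_223) (range_glue (range_of_allRange c_act79_224) (range_glue (range_of_allRange c_act79_225) (range_glue (range_of_allRange c_act79_226) (range_glue (range_of_allRange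 c_act79_227) (range_glue (range_of_allRange c_act79_228) (range_glue (range_of_allRange c_act79_229) (range_glue (range_of_allRange c_act79_230) (range_glue (range_of_allRange c_act79_231) (range_glue (range_of_allRange c_act79_232) (range_glue (range_of_allRange c_act79_233) (range_glue (range_of_allRange c_act79_234) (range_glue (range_of_allRange c_act79_235) (range_glue (range_of_allRange c_act79_236) (range_glue (range_of_allRange c_act79_237) (range_glue (range_of_allRange c_act79_238) (range_of_allRange c_act79_239))))))))))))))))))))))))))))))))))))))))
theorem h_act79_p6 : ∀ i, 60480 ≤ i → i < 70560 → Nat.beq (actR79 i) i = true :=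
  (range_glue (range_of_allRange c_act79_240) (range_glue (range_of_allRange c_act79_241) (range_glue (range_of_allRange c_act79_242) (range_glue (range_of_allRange c_act79_243) (range_glue (range_of_allRange c_act79_244) (range_glue (range_of_allRange c_act79_245) (range_glue (range_of_allRange c_act79_246) (range_glue (range_of_allRange c_act79_247) (range_glue (range_of_allRange c_act79_248) (range_glue (range_of_allRange c_act79_249) (range_glue (range_of_allRange c_act79_250) (range_glue (range_of_allRange c_act79_251) (range_glue (range_of_allRange c_act79_252) (range_glue (range_of_allRange c_act79_253) (range_glue (range_of_allRange c_act79_254) (range_glue (range_of_allRange c_act79_255) (range_glue (range_of_allRange c_act79_256) (range_glue (range_of_allRange c_act79_257) (range_glue (range_of_allRange c_act79_258) (range_glue (range_of_allRange c_act79_259) (range_glue (range_of_allRange c_act79_260) (range_glue (range_of_allRange c_act79_261) (range_glue (range_of_allRange c_act79_262) (range_glue (range_of_allRange c_act79_263) (range_glue (range_of_allRange c_act79_264) (range_glue (range_of_allRange c_act79_265) (range_glue (range_of_allRange c_act79_266) (range_glue (range_of_allRange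 c_act79_267) (range_glue (range_of_allRange c_act79_268) (range_glue (range_of_allRange c_act79_269) (range_glue (range_of_allRange c_act79_270) (range_glue (range_of_allRange c_act79_271) (range_glue (range_of_allRange c_act79_272) (range_glue (range_of_allRange c_act79_273) (range_glue (range_of_allRange c_act79_274) (range_glue (range_of_allRange c_act79_275) (range_glue (range_of_allRange c_act79_276) (range_glue (range_of_allRange c_act79_277) (range_glue (range_of_allRange c_act79_278) (range_of_allRange c_act79_279))))))))))))))))))))))))))))))))))))))))
theorem h_act79_p7 : ∀ i, 70560 ≤ i → i < 80640 → Nat.beq (actR79 i) i = true :=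
  (range_glue (range_of_allRange c_act79_280) (range_glue (range_of_allRange c_act79_281) (range_glue (range_of_allRange c_act79_282) (range_glue (range_of_allRange c_act79_283) (range_glue (range_of_allRange c_act79_284) (range_glue (range_of_allRange c_act79_285) (range_glue (range_of_allRange c_act79_286) (range_glue (range_of_allRange c_act79_287) (range_glue (range_of_allRange c_act79_288) (range_glue (range_of_allRange c_act79_289) (range_glue (range_of_allRange c_act79_290) (range_glue (range_of_allRange c_act79_291) (range_glue (range_of_allRange c_act79_292) (range_glue (range_of_allRange c_act79_293) (range_glue (range_of_allRange c_act79_294) (range_glue (range_of_allRange c_act79_295) (range_glue (range_of_allRange c_act79_296) (range_glue (range_of_allRange c_act79_297) (range_glue (range_of_allRange c_act79_298) (range_glue (range_of_allRange c_act79_299) (range_glue (range_of_allRange c_act79_300) (range_glue (range_of_allRange c_act79_301) (range_glue (range_of_allRange c_act79_302) (range_glue (range_of_allRange c_act79_303) (range_glue (range_of_allRange c_act79_304) (range_glue (range_of_allRange c_act79_305) (range_glue (range_of_allRange c_act79_306) (range_glue (range_of_allRange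 c_act79_307) (range_glue (range_of_allRange c_act79_308) (range_glue (range_of_allRange c_act79_309) (range_glue (range_of_allRange c_act79_310) (range_glue (range_of_allRange c_act79_311) (range_glue (range_of_allRange c_act79_312) (range_glue (range_of_allRange c_act79_313) (range_glue (range_of_allRange c_act79_314) (range_glue (range_of_allRange c_act79_315) (range_glue (range_of_allRange c_act79_316) (range_glue (range_of_allRange c_act79_317) (range_glue (range_of_allRange c_act79_318) (range_of_allRange c_act79_319))))))))))))))))))))))))))))))))))))))))
theorem h_act79_p8 : ∀ i, 80640 ≤ i → i < 90720 → Nat.beq (actR79 i) i = true :=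
  (range_glue (range_of_allRange c_act79_320) (range_glue (range_of_allRange c_act79_321) (range_glue (range_of_allRange c_act79_322) (range_glue (range_of_allRange c_act79_323) (range_glue (range_of_allRange c_act79_324) (range_glue (range_of_allRange c_act79_325) (range_glue (range_of_allRange c_act79_326) (range_glue (range_of_allRange c_act79_327) (range_glue (range_of_allRange c_act79_328) (range_glue (range_of_allRange c_act79_329) (range_glue (range_of_allRange c_act79_330) (range_glue (range_of_allRange c_act79_331) (range_glue (range_of_allRange c_act79_332) (range_glue (range_of_allRange c_act79_333) (range_glue (range_of_allRange c_act79_334) (range_glue (range_of_allRange c_act79_335) (range_glue (range_of_allRange c_act79_336) (range_glue (range_of_allRange c_act79_337) (range_glue (range_of_allRange c_act79_338) (range_glue (range_of_allRange c_act79_339) (range_glue (range_of_allRange c_act79_340) (range_glue (range_of_allRange c_act79_341) (range_glue (range_of_allRange c_act79_342) (range_glue (range_of_allRange c_act79_343) (range_glue (range_of_allRange c_act79_344) (range_glue (range_of_allRange c_act79_345) (range_glue (range_of_allRange c_act79_346) (range_glue (range_of_allRange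 c_act79_347) (range_glue (range_of_allRange c_act79_348) (range_glue (range_of_allRange c_act79_349) (range_glue (range_of_allRange c_act79_350) (range_glue (range_of_allRange c_act79_351) (range_glue (range_of_allRange c_act79_352) (range_glue (range_of_allRange c_act79_353) (range_glue (range_of_allRange c_act79_354) (range_glue (range_of_allRange c_act79_355) (range_glue (range_of_allRange c_act79_356) (range_glue (range_of_allRange c_act79_357) (range_glue (range_of_allRange c_act79_358) (range_of_allRange c_act79_359))))))))))))))))))))))))))))))))))))))))
theorem h_act79_p9 : ∀ i, 90720 ≤ i → i < 100800 → Nat.beq (actR79 i) i = true :=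
  (range_glue (range_of_allRange c_act79_360) (range_glue (range_of_allRange c_act79_361) (range_glue (range_of_allRange c_act79_362) (range_glue (range_of_allRange c_act79_363) (range_glue (range_of_allRange c_act79_364) (range_glue (range_of_allRange c_act79_365) (range_glue (range_of_allRange c_act79_366) (range_glue (range_of_allRange c_act79_367) (range_glue (range_of_allRange c_act79_368) (range_glue (range_of_allRange c_act79_369) (range_glue (range_of_allRange c_act79_370) (range_glue (range_of_allRange c_act79_371) (range_glue (range_of_allRange c_act79_372) (range_glue (range_of_allRange c_act79_373) (range_glue (range_of_allRange c_act79_374) (range_glue (range_of_allRange c_act79_375) (range_glue (range_of_allRange c_act79_376) (range_glue (range_of_allRange c_act79_377) (range_glue (range_of_allRange c_act79_378) (range_glue (range_of_allRange c_act79_379) (range_glue (range_of_allRange c_act79_380) (range_glue (range_of_allRange c_act79_381) (range_glue (range_of_allRange c_act79_382) (range_glue (range_of_allRange c_act79_383) (range_glue (range_of_allRange c_act79_384) (range_glue (range_of_allRange c_act79_385) (range_glue (range_of_allRange c_act79_386) (range_glue (range_of_allRange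 c_act79_387) (range_glue (range_of_allRange c_act79_388) (range_glue (range_of_allRange c_act79_389) (range_glue (range_of_allRange c_act79_390) (range_glue (range_of_allRange c_act79_391) (range_glue (range_of_allRange c_act79_392) (range_glue (range_of_allRange c_act79_393) (range_glue (range_of_allRange c_act79_394) (range_glue (range_of_allRange c_act79_395) (range_glue (range_of_allRange c_act79_396) (range_glue (range_of_allRange c_act79_397) (range_glue (range_of_allRange c_act79_398) (range_of_allRange c_act79_399))))))))))))))))))))))))))))))))))))))))
theorem h_act79_p10 : ∀ i, 100800 ≤ i → i < 110880 → Nat.beq (actR79 i) i = true :=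
  (range_glue (range_of_allRange c_act79_400) (range_glue (range_of_allRange c_act79_401) (range_glue (range_of_allRange c_act79_402) (range_glue (range_of_allRange c_act79_403) (range_glue (range_of_allRange c_act79_404) (range_glue (range_of_allRange c_act79_405) (range_glue (range_of_allRange c_act79_406) (range_glue (range_of_allRange c_act79_407) (range_glue (range_of_allRange c_act79_408) (range_glue (range_of_allRange c_act79_409) (range_glue (range_of_allRange c_act79_410) (range_glue (range_of_allRange c_act79_411) (range_glue (range_of_allRange c_act79_412) (range_glue (range_of_allRange c_act79_413) (range_glue (range_of_allRange c_act79_414) (range_glue (range_of_allRange c_act79_415) (range_glue (range_of_allRange c_act79_416) (range_glue (range_of_allRange c_act79_417) (range_glue (range_of_allRange c_act79_418) (range_glue (range_of_allRange c_act79_419) (range_glue (range_of_allRange c_act79_420) (range_glue (range_of_allRange c_act79_421) (range_glue (range_of_allRange c_act79_422) (range_glue (range_of_allRange c_act79_423) (range_glue (range_of_allRange c_act79_424) (range_glue (range_of_allRange c_act79_425) (range_glue (range_of_allRange c_act79_426) (range_glue (range_of_allRange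 c_act79_427) (range_glue (range_of_allRange c_act79_428) (range_glue (range_of_allRange c_act79_429) (range_glue (range_of_allRange c_act79_430) (range_glue (range_of_allRange c_act79_431) (range_glue (range_of_allRange c_act79_432) (range_glue (range_of_allRange c_act79_433) (range_glue (range_of_allRange c_act79_434) (range_glue (range_of_allRange c_act79_435) (range_glue (range_of_allRange c_act79_436) (range_glue (range_of_allRange c_act79_437) (range_glue (range_of_allRange c_act79_438) (range_of_allRange c_act79_439))))))))))))))))))))))))))))))))))))))))
theorem h_act79_p11 : ∀ i, 110880 ≤ i → i < 120960 → Nat.beq (actR79 i) i = true :=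
  (range_glue (range_of_allRange c_act79_440) (range_glue (range_of_allRange c_act79_441) (range_glue (range_of_allRange c_act79_442) (range_glue (range_of_allRange c_act79_443) (range_glue (range_of_allRange c_act79_444) (range_glue (range_of_allRange c_act79_445) (range_glue (range_of_allRange c_act79_446) (range_glue (range_of_allRange c_act79_447) (range_glue (range_of_allRange c_act79_448) (range_glue (range_of_allRange c_act79_449) (range_glue (range_of_allRange c_act79_450) (range_glue (range_of_allRange c_act79_451) (range_glue (range_of_allRange c_act79_452) (range_glue (range_of_allRange c_act79_453) (range_glue (range_of_allRange c_act79_454) (range_glue (range_of_allRange c_act79_455) (range_glue (range_of_allRange c_act79_456) (range_glue (range_of_allRange c_act79_457) (range_glue (range_of_allRange c_act79_458) (range_glue (range_of_allRange c_act79_459) (range_glue (range_of_allRange c_act79_460) (range_glue (range_of_allRange c_act79_461) (range_glue (range_of_allRange c_act79_462) (range_glue (range_of_allRange c_act79_463) (range_glue (range_of_allRange c_act79_464) (range_glue (range_of_allRange c_act79_465) (range_glue (range_of_allRange c_act79_466) (range_glue (range_of_allRange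 c_act79_467) (range_glue (range_of_allRange c_act79_468) (range_glue (range_of_allRange c_act79_469) (range_glue (range_of_allRange c_act79_470) (range_glue (range_of_allRange c_act79_471) (range_glue (range_of_allRange c_act79_472) (range_glue (range_of_allRange c_act79_473) (range_glue (range_of_allRange c_act79_474) (range_glue (range_of_allRange c_act79_475) (range_glue (range_of_allRange c_act79_476) (range_glue (range_of_allRange c_act79_477) (range_glue (range_of_allRange c_act79_478) (range_of_allRange c_act79_479))))))))))))))))))))))))))))))))))))))))
theorem h_act79_p12 : ∀ i, 120960 ≤ i → i < 131040 → Nat.beq (actR79 i) i = true :=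
  (range_glue (range_of_allRange c_act79_480) (range_glue (range_of_allRange c_act79_481) (range_glue (range_of_allRange c_act79_482) (range_glue (range_of_allRange c_act79_483) (range_glue (range_of_allRange c_act79_484) (range_glue (range_of_allRange c_act79_485) (range_glue (range_of_allRange c_act79_486) (range_glue (range_of_allRange c_act79_487) (range_glue (range_of_allRange c_act79_488) (range_glue (range_of_allRange c_act79_489) (range_glue (range_of_allRange c_act79_490) (range_glue (range_of_allRange c_act79_491) (range_glue (range_of_allRange c_act79_492) (range_glue (range_of_allRange c_act79_493) (range_glue (range_of_allRange c_act79_494) (range_glue (range_of_allRange c_act79_495) (range_glue (range_of_allRange c_act79_496) (range_glue (range_of_allRange c_act79_497) (range_glue (range_of_allRange c_act79_498) (range_glue (range_of_allRange c_act79_499) (range_glue (range_of_allRange c_act79_500) (range_glue (range_of_allRange c_act79_501) (range_glue (range_of_allRange c_act79_502) (range_glue (range_of_allRange c_act79_503) (range_glue (range_of_allRange c_act79_504) (range_glue (range_of_allRange c_act79_505) (range_glue (range_of_allRange c_act79_506) (range_glue (range_of_allRange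 c_act79_507) (range_glue (range_of_allRange c_act79_508) (range_glue (range_of_allRange c_act79_509) (range_glue (range_of_allRange c_act79_510) (range_glue (range_of_allRange c_act79_511) (range_glue (range_of_allRange c_act79_512) (range_glue (range_of_allRange c_act79_513) (range_glue (range_of_allRange c_act79_514) (range_glue (range_of_allRange c_act79_515) (range_glue (range_of_allRange c_act79_516) (range_glue (range_of_allRange c_act79_517) (range_glue (range_of_allRange c_act79_518) (range_of_allRange c_act79_519))))))))))))))))))))))))))))))))))))))))
theorem h_act79_p13 : ∀ i, 131040 ≤ i → i < 141120 → Nat.beq (actR79 i) i = true :=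
  (range_glue (range_of_allRange c_act79_520) (range_glue (range_of_allRange c_act79_521) (range_glue (range_of_allRange c_act79_522) (range_glue (range_of_allRange c_act79_523) (range_glue (range_of_allRange c_act79_524) (range_glue (range_of_allRange c_act79_525) (range_glue (range_of_allRange c_act79_526) (range_glue (range_of_allRange c_act79_527) (range_glue (range_of_allRange c_act79_528) (range_glue (range_of_allRange c_act79_529) (range_glue (range_of_allRange c_act79_530) (range_glue (range_of_allRange c_act79_531) (range_glue (range_of_allRange c_act79_532) (range_glue (range_of_allRange c_act79_533) (range_glue (range_of_allRange c_act79_534) (range_glue (range_of_allRange c_act79_535) (range_glue (range_of_allRange c_act79_536) (range_glue (range_of_allRange c_act79_537) (range_glue (range_of_allRange c_act79_538) (range_glue (range_of_allRange c_act79_539) (range_glue (range_of_allRange c_act79_540) (range_glue (range_of_allRange c_act79_541) (range_glue (range_of_allRange c_act79_542) (range_glue (range_of_allRange c_act79_543) (range_glue (range_of_allRange c_act79_544) (range_glue (range_of_allRange c_act79_545) (range_glue (range_of_allRange c_act79_546) (range_glue (range_of_allRange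 c_act79_547) (range_glue (range_of_allRange c_act79_548) (range_glue (range_of_allRange c_act79_549) (range_glue (range_of_allRange c_act79_550) (range_glue (range_of_allRange c_act79_551) (range_glue (range_of_allRange c_act79_552) (range_glue (range_of_allRange c_act79_553) (range_glue (range_of_allRange c_act79_554) (range_glue (range_of_allRange c_act79_555) (range_glue (range_of_allRange c_act79_556) (range_glue (range_of_allRange c_act79_557) (range_glue (range_of_allRange c_act79_558) (range_of_allRange c_act79_559))))))))))))))))))))))))))))))))))))))))
theorem h_act79_p14 : ∀ i, 141120 ≤ i → i < 151200 → Nat.beq (actR79 i) i = true :=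
  (range_glue (range_of_allRange c_act79_560) (range_glue (range_of_allRange c_act79_561) (range_glue (range_of_allRange c_act79_562) (range_glue (range_of_allRange c_act79_563) (range_glue (range_of_allRange c_act79_564) (range_glue (range_of_allRange c_act79_565) (range_glue (range_of_allRange c_act79_566) (range_glue (range_of_allRange c_act79_567) (range_glue (range_of_allRange c_act79_568) (range_glue (range_of_allRange c_act79_569) (range_glue (range_of_allRange c_act79_570) (range_glue (range_of_allRange c_act79_571) (range_glue (range_of_allRange c_act79_572) (range_glue (range_of_allRange c_act79_573) (range_glue (range_of_allRange c_act79_574) (range_glue (range_of_allRange c_act79_575) (range_glue (range_of_allRange c_act79_576) (range_glue (range_of_allRange c_act79_577) (range_glue (range_of_allRange c_act79_578) (range_glue (range_of_allRange c_act79_579) (range_glue (range_of_allRange c_act79_580) (range_glue (range_of_allRange c_act79_581) (range_glue (range_of_allRange c_act79_582) (range_glue (range_of_allRange c_act79_583) (range_glue (range_of_allRange c_act79_584) (range_glue (range_of_allRange c_act79_585) (range_glue (range_of_allRange c_act79_586) (range_glue (range_of_allRange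 c_act79_587) (range_glue (range_of_allRange c_act79_588) (range_glue (range_of_allRange c_act79_589) (range_glue (range_of_allRange c_act79_590) (range_glue (range_of_allRange c_act79_591) (range_glue (range_of_allRange c_act79_592) (range_glue (range_of_allRange c_act79_593) (range_glue (range_of_allRange c_act79_594) (range_glue (range_of_allRange c_act79_595) (range_glue (range_of_allRange c_act79_596) (range_glue (range_of_allRange c_act79_597) (range_glue (range_of_allRange c_act79_598) (range_of_allRange c_act79_599))))))))))))))))))))))))))))))))))))))))
theorem h_act79_p15 : ∀ i, 151200 ≤ i → i < 161280 → Nat.beq (actR79 i) i = true :=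
  (range_glue (range_of_allRange c_act79_600) (range_glue (range_of_allRange c_act79_601) (range_glue (range_of_allRange c_act79_602) (range_glue (range_of_allRange c_act79_603) (range_glue (range_of_allRange c_act79_604) (range_glue (range_of_allRange c_act79_605) (range_glue (range_of_allRange c_act79_606) (range_glue (range_of_allRange c_act79_607) (range_glue (range_of_allRange c_act79_608) (range_glue (range_of_allRange c_act79_609) (range_glue (range_of_allRange c_act79_610) (range_glue (range_of_allRange c_act79_611) (range_glue (range_of_allRange c_act79_612) (range_glue (range_of_allRange c_act79_613) (range_glue (range_of_allRange c_act79_614) (range_glue (range_of_allRange c_act79_615) (range_glue (range_of_allRange c_act79_616) (range_glue (range_of_allRange c_act79_617) (range_glue (range_of_allRange c_act79_618) (range_glue (range_of_allRange c_act79_619) (range_glue (range_of_allRange c_act79_620) (range_glue (range_of_allRange c_act79_621) (range_glue (range_of_allRange c_act79_622) (range_glue (range_of_allRange c_act79_623) (range_glue (range_of_allRange c_act79_624) (range_glue (range_of_allRange c_act79_625) (range_glue (range_of_allRange c_act79_626) (range_glue (range_of_allRange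 c_act79_627) (range_glue (range_of_allRange c_act79_628) (range_glue (range_of_allRange c_act79_629) (range_glue (range_of_allRange c_act79_630) (range_glue (range_of_allRange c_act79_631) (range_glue (range_of_allRange c_act79_632) (range_glue (range_of_allRange c_act79_633) (range_glue (range_of_allRange c_act79_634) (range_glue (range_of_allRange c_act79_635) (range_glue (range_of_allRange c_act79_636) (range_glue (range_of_allRange c_act79_637) (range_glue (range_of_allRange c_act79_638) (range_of_allRange c_act79_639))))))))))))))))))))))))))))))))))))))))
theorem h_act79_p16 : ∀ i, 161280 ≤ i → i < 171360 → Nat.beq (actR79 i) i = true :=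
  (range_glue (range_of_allRange c_act79_640) (range_glue (range_of_allRange c_act79_641) (range_glue (range_of_allRange c_act79_642) (range_glue (range_of_allRange c_act79_643) (range_glue (range_of_allRange c_act79_644) (range_glue (range_of_allRange c_act79_645) (range_glue (range_of_allRange c_act79_646) (range_glue (range_of_allRange c_act79_647) (range_glue (range_of_allRange c_act79_648) (range_glue (range_of_allRange c_act79_649) (range_glue (range_of_allRange c_act79_650) (range_glue (range_of_allRange c_act79_651) (range_glue (range_of_allRange c_act79_652) (range_glue (range_of_allRange c_act79_653) (range_glue (range_of_allRange c_act79_654) (range_glue (range_of_allRange c_act79_655) (range_glue (range_of_allRange c_act79_656) (range_glue (range_of_allRange c_act79_657) (range_glue (range_of_allRange c_act79_658) (range_glue (range_of_allRange c_act79_659) (range_glue (range_of_allRange c_act79_660) (range_glue (range_of_allRange c_act79_661) (range_glue (range_of_allRange c_act79_662) (range_glue (range_of_allRange c_act79_663) (range_glue (range_of_allRange c_act79_664) (range_glue (range_of_allRange c_act79_665) (range_glue (range_of_allRange c_act79_666) (range_glue (range_of_allRange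 c_act79_667) (range_glue (range_of_allRange c_act79_668) (range_glue (range_of_allRange c_act79_669) (range_glue (range_of_allRange c_act79_670) (range_glue (range_of_allRange c_act79_671) (range_glue (range_of_allRange c_act79_672) (range_glue (range_of_allRange c_act79_673) (range_glue (range_of_allRange c_act79_674) (range_glue (range_of_allRange c_act79_675) (range_glue (range_of_allRange c_act79_676) (range_glue (range_of_allRange c_act79_677) (range_glue (range_of_allRange c_act79_678) (range_of_allRange c_act79_679))))))))))))))))))))))))))))))))))))))))
theorem h_act79_p17 : ∀ i, 171360 ≤ i → i < 181440 → Nat.beq (actR79 i) i = true :=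
  (range_glue (range_of_allRange c_act79_680) (range_glue (range_of_allRange c_act79_681) (range_glue (range_of_allRange c_act79_682) (range_glue (range_of_allRange c_act79_683) (range_glue (range_of_allRange c_act79_684) (range_glue (range_of_allRange c_act79_685) (range_glue (range_of_allRange c_act79_686) (range_glue (range_of_allRange c_act79_687) (range_glue (range_of_allRange c_act79_688) (range_glue (range_of_allRange c_act79_689) (range_glue (range_of_allRange c_act79_690) (range_glue (range_of_allRange c_act79_691) (range_glue (range_of_allRange c_act79_692) (range_glue (range_of_allRange c_act79_693) (range_glue (range_of_allRange c_act79_694) (range_glue (range_of_allRange c_act79_695) (range_glue (range_of_allRange c_act79_696) (range_glue (range_of_allRange c_act79_697) (range_glue (range_of_allRange c_act79_698) (range_glue (range_of_allRange c_act79_699) (range_glue (range_of_allRange c_act79_700) (range_glue (range_of_allRange c_act79_701) (range_glue (range_of_allRange c_act79_702) (range_glue (range_of_allRange c_act79_703) (range_glue (range_of_allRange c_act79_704) (range_glue (range_of_allRange c_act79_705) (range_glue (range_of_allRange c_act79_706) (range_glue (range_of_allRange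 c_act79_707) (range_glue (range_of_allRange c_act79_708) (range_glue (range_of_allRange c_act79_709) (range_glue (range_of_allRange c_act79_710) (range_glue (range_of_allRange c_act79_711) (range_glue (range_of_allRange c_act79_712) (range_glue (range_of_allRange c_act79_713) (range_glue (range_of_allRange c_act79_714) (range_glue (range_of_allRange c_act79_715) (range_glue (range_of_allRange c_act79_716) (range_glue (range_of_allRange c_act79_717) (range_glue (range_of_allRange c_act79_718) (range_of_allRange c_act79_719))))))))))))))))))))))))))))))))))))))))
theorem h_act79_p18 : ∀ i, 181440 ≤ i → i < 191520 → Nat.beq (actR79 i) i = true :=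
  (range_glue (range_of_allRange c_act79_720) (range_glue (range_of_allRange c_act79_721) (range_glue (range_of_allRange c_act79_722) (range_glue (range_of_allRange c_act79_723) (range_glue (range_of_allRange c_act79_724) (range_glue (range_of_allRange c_act79_725) (range_glue (range_of_allRange c_act79_726) (range_glue (range_of_allRange c_act79_727) (range_glue (range_of_allRange c_act79_728) (range_glue (range_of_allRange c_act79_729) (range_glue (range_of_allRange c_act79_730) (range_glue (range_of_allRange c_act79_731) (range_glue (range_of_allRange c_act79_732) (range_glue (range_of_allRange c_act79_733) (range_glue (range_of_allRange c_act79_734) (range_glue (range_of_allRange c_act79_735) (range_glue (range_of_allRange c_act79_736) (range_glue (range_of_allRange c_act79_737) (range_glue (range_of_allRange c_act79_738) (range_glue (range_of_allRange c_act79_739) (range_glue (range_of_allRange c_act79_740) (range_glue (range_of_allRange c_act79_741) (range_glue (range_of_allRange c_act79_742) (range_glue (range_of_allRange c_act79_743) (range_glue (range_of_allRange c_act79_744) (range_glue (range_of_allRange c_act79_745) (range_glue (range_of_allRange c_act79_746) (range_glue (range_of_allRange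 c_act79_747) (range_glue (range_of_allRange c_act79_748) (range_glue (range_of_allRange c_act79_749) (range_glue (range_of_allRange c_act79_750) (range_glue (range_of_allRange c_act79_751) (range_glue (range_of_allRange c_act79_752) (range_glue (range_of_allRange c_act79_753) (range_glue (range_of_allRange c_act79_754) (range_glue (range_of_allRange c_act79_755) (range_glue (range_of_allRange c_act79_756) (range_glue (range_of_allRange c_act79_757) (range_glue (range_of_allRange c_act79_758) (range_of_allRange c_act79_759))))))))))))))))))))))))))))))))))))))))
theorem h_act79_p19 : ∀ i, 191520 ≤ i → i < 201600 → Nat.beq (actR79 i) i = true :=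
  (range_glue (range_of_allRange c_act79_760) (range_glue (range_of_allRange c_act79_761) (range_glue (range_of_allRange c_act79_762) (range_glue (range_of_allRange c_act79_763) (range_glue (range_of_allRange c_act79_764) (range_glue (range_of_allRange c_act79_765) (range_glue (range_of_allRange c_act79_766) (range_glue (range_of_allRange c_act79_767) (range_glue (range_of_allRange c_act79_768) (range_glue (range_of_allRange c_act79_769) (range_glue (range_of_allRange c_act79_770) (range_glue (range_of_allRange c_act79_771) (range_glue (range_of_allRange c_act79_772) (range_glue (range_of_allRange c_act79_773) (range_glue (range_of_allRange c_act79_774) (range_glue (range_of_allRange c_act79_775) (range_glue (range_of_allRange c_act79_776) (range_glue (range_of_allRange c_act79_777) (range_glue (range_of_allRange c_act79_778) (range_glue (range_of_allRange c_act79_779) (range_glue (range_of_allRange c_act79_780) (range_glue (range_of_allRange c_act79_781) (range_glue (range_of_allRange c_act79_782) (range_glue (range_of_allRange c_act79_783) (range_glue (range_of_allRange c_act79_784) (range_glue (range_of_allRange c_act79_785) (range_glue (range_of_allRange c_act79_786) (range_glue (range_of_allRange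 c_act79_787) (range_glue (range_of_allRange c_act79_788) (range_glue (range_of_allRange c_act79_789) (range_glue (range_of_allRange c_act79_790) (range_glue (range_of_allRange c_act79_791) (range_glue (range_of_allRange c_act79_792) (range_glue (range_of_allRange c_act79_793) (range_glue (range_of_allRange c_act79_794) (range_glue (range_of_allRange c_act79_795) (range_glue (range_of_allRange c_act79_796) (range_glue (range_of_allRange c_act79_797) (range_glue (range_of_allRange c_act79_798) (range_of_allRange c_act79_799))))))))))))))))))))))))))))))))))))))))
theorem h_act79_p20 : ∀ i, 201600 ≤ i → i < 211680 → Nat.beq (actR79 i) i = true :=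
  (range_glue (range_of_allRange c_act79_800) (range_glue (range_of_allRange c_act79_801) (range_glue (range_of_allRange c_act79_802) (range_glue (range_of_allRange c_act79_803) (range_glue (range_of_allRange c_act79_804) (range_glue (range_of_allRange c_act79_805) (range_glue (range_of_allRange c_act79_806) (range_glue (range_of_allRange c_act79_807) (range_glue (range_of_allRange c_act79_808) (range_glue (range_of_allRange c_act79_809) (range_glue (range_of_allRange c_act79_810) (range_glue (range_of_allRange c_act79_811) (range_glue (range_of_allRange c_act79_812) (range_glue (range_of_allRange c_act79_813) (range_glue (range_of_allRange c_act79_814) (range_glue (range_of_allRange c_act79_815) (range_glue (range_of_allRange c_act79_816) (range_glue (range_of_allRange c_act79_817) (range_glue (range_of_allRange c_act79_818) (range_glue (range_of_allRange c_act79_819) (range_glue (range_of_allRange c_act79_820) (range_glue (range_of_allRange c_act79_821) (range_glue (range_of_allRange c_act79_822) (range_glue (range_of_allRange c_act79_823) (range_glue (range_of_allRange c_act79_824) (range_glue (range_of_allRange c_act79_825) (range_glue (range_of_allRange c_act79_826) (range_glue (range_of_allRange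 c_act79_827) (range_glue (range_of_allRange c_act79_828) (range_glue (range_of_allRange c_act79_829) (range_glue (range_of_allRange c_act79_830) (range_glue (range_of_allRange c_act79_831) (range_glue (range_of_allRange c_act79_832) (range_glue (range_of_allRange c_act79_833) (range_glue (range_of_allRange c_act79_834) (range_glue (range_of_allRange c_act79_835) (range_glue (range_of_allRange c_act79_836) (range_glue (range_of_allRange c_act79_837) (range_glue (range_of_allRange c_act79_838) (range_of_allRange c_act79_839))))))))))))))))))))))))))))))))))))))))
theorem h_act79_p21 : ∀ i, 211680 ≤ i → i < 221760 → Nat.beq (actR79 i) i = true :=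
  (range_glue (range_of_allRange c_act79_840) (range_glue (range_of_allRange c_act79_841) (range_glue (range_of_allRange c_act79_842) (range_glue (range_of_allRange c_act79_843) (range_glue (range_of_allRange c_act79_844) (range_glue (range_of_allRange c_act79_845) (range_glue (range_of_allRange c_act79_846) (range_glue (range_of_allRange c_act79_847) (range_glue (range_of_allRange c_act79_848) (range_glue (range_of_allRange c_act79_849) (range_glue (range_of_allRange c_act79_850) (range_glue (range_of_allRange c_act79_851) (range_glue (range_of_allRange c_act79_852) (range_glue (range_of_allRange c_act79_853) (range_glue (range_of_allRange c_act79_854) (range_glue (range_of_allRange c_act79_855) (range_glue (range_of_allRange c_act79_856) (range_glue (range_of_allRange c_act79_857) (range_glue (range_of_allRange c_act79_858) (range_glue (range_of_allRange c_act79_859) (range_glue (range_of_allRange c_act79_860) (range_glue (range_of_allRange c_act79_861) (range_glue (range_of_allRange c_act79_862) (range_glue (range_of_allRange c_act79_863) (range_glue (range_of_allRange c_act79_864) (range_glue (range_of_allRange c_act79_865) (range_glue (range_of_allRange c_act79_866) (range_glue (range_of_allRange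 c_act79_867) (range_glue (range_of_allRange c_act79_868) (range_glue (range_of_allRange c_act79_869) (range_glue (range_of_allRange c_act79_870) (range_glue (range_of_allRange c_act79_871) (range_glue (range_of_allRange c_act79_872) (range_glue (range_of_allRange c_act79_873) (range_glue (range_of_allRange c_act79_874) (range_glue (range_of_allRange c_act79_875) (range_glue (range_of_allRange c_act79_876) (range_glue (range_of_allRange c_act79_877) (range_glue (range_of_allRange c_act79_878) (range_of_allRange c_act79_879))))))))))))))))))))))))))))))))))))))))
theorem h_act79_p22 : ∀ i, 221760 ≤ i → i < 231840 → Nat.beq (actR79 i) i = true :=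
  (range_glue (range_of_allRange c_act79_880) (range_glue (range_of_allRange c_act79_881) (range_glue (range_of_allRange c_act79_882) (range_glue (range_of_allRange c_act79_883) (range_glue (range_of_allRange c_act79_884) (range_glue (range_of_allRange c_act79_885) (range_glue (range_of_allRange c_act79_886) (range_glue (range_of_allRange c_act79_887) (range_glue (range_of_allRange c_act79_888) (range_glue (range_of_allRange c_act79_889) (range_glue (range_of_allRange c_act79_890) (range_glue (range_of_allRange c_act79_891) (range_glue (range_of_allRange c_act79_892) (range_glue (range_of_allRange c_act79_893) (range_glue (range_of_allRange c_act79_894) (range_glue (range_of_allRange c_act79_895) (range_glue (range_of_allRange c_act79_896) (range_glue (range_of_allRange c_act79_897) (range_glue (range_of_allRange c_act79_898) (range_glue (range_of_allRange c_act79_899) (range_glue (range_of_allRange c_act79_900) (range_glue (range_of_allRange c_act79_901) (range_glue (range_of_allRange c_act79_902) (range_glue (range_of_allRange c_act79_903) (range_glue (range_of_allRange c_act79_904) (range_glue (range_of_allRange c_act79_905) (range_glue (range_of_allRange c_act79_906) (range_glue (range_of_allRange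 c_act79_907) (range_glue (range_of_allRange c_act79_908) (range_glue (range_of_allRange c_act79_909) (range_glue (range_of_allRange c_act79_910) (range_glue (range_of_allRange c_act79_911) (range_glue (range_of_allRange c_act79_912) (range_glue (range_of_allRange c_act79_913) (range_glue (range_of_allRange c_act79_914) (range_glue (range_of_allRange c_act79_915) (range_glue (range_of_allRange c_act79_916) (range_glue (range_of_allRange c_act79_917) (range_glue (range_of_allRange c_act79_918) (range_of_allRange c_act79_919))))))))))))))))))))))))))))))))))))))))
theorem h_act79_p23 : ∀ i, 231840 ≤ i → i < 241920 → Nat.beq (actR79 i) i = true :=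
  (range_glue (range_of_allRange c_act79_920) (range_glue (range_of_allRange c_act79_921) (range_glue (range_of_allRange c_act79_922) (range_glue (range_of_allRange c_act79_923) (range_glue (range_of_allRange c_act79_924) (range_glue (range_of_allRange c_act79_925) (range_glue (range_of_allRange c_act79_926) (range_glue (range_of_allRange c_act79_927) (range_glue (range_of_allRange c_act79_928) (range_glue (range_of_allRange c_act79_929) (range_glue (range_of_allRange c_act79_930) (range_glue (range_of_allRange c_act79_931) (range_glue (range_of_allRange c_act79_932) (range_glue (range_of_allRange c_act79_933) (range_glue (range_of_allRange c_act79_934) (range_glue (range_of_allRange c_act79_935) (range_glue (range_of_allRange c_act79_936) (range_glue (range_of_allRange c_act79_937) (range_glue (range_of_allRange c_act79_938) (range_glue (range_of_allRange c_act79_939) (range_glue (range_of_allRange c_act79_940) (range_glue (range_of_allRange c_act79_941) (range_glue (range_of_allRange c_act79_942) (range_glue (range_of_allRange c_act79_943) (range_glue (range_of_allRange c_act79_944) (range_glue (range_of_allRange c_act79_945) (range_glue (range_of_allRange c_act79_946) (range_glue (range_of_allRange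 c_act79_947) (range_glue (range_of_allRange c_act79_948) (range_glue (range_of_allRange c_act79_949) (range_glue (range_of_allRange c_act79_950) (range_glue (range_of_allRange c_act79_951) (range_glue (range_of_allRange c_act79_952) (range_glue (range_of_allRange c_act79_953) (range_glue (range_of_allRange c_act79_954) (range_glue (range_of_allRange c_act79_955) (range_glue (range_of_allRange c_act79_956) (range_glue (range_of_allRange c_act79_957) (range_glue (range_of_allRange c_act79_958) (range_of_allRange c_act79_959))))))))))))))))))))))))))))))))))))))))
theorem h_act79_p24 : ∀ i, 241920 ≤ i → i < 252000 → Nat.beq (actR79 i) i = true :=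
  (range_glue (range_of_allRange c_act79_960) (range_glue (range_of_allRange c_act79_961) (range_glue (range_of_allRange c_act79_962) (range_glue (range_of_allRange c_act79_963) (range_glue (range_of_allRange c_act79_964) (range_glue (range_of_allRange c_act79_965) (range_glue (range_of_allRange c_act79_966) (range_glue (range_of_allRange c_act79_967) (range_glue (range_of_allRange c_act79_968) (range_glue (range_of_allRange c_act79_969) (range_glue (range_of_allRange c_act79_970) (range_glue (range_of_allRange c_act79_971) (range_glue (range_of_allRange c_act79_972) (range_glue (range_of_allRange c_act79_973) (range_glue (range_of_allRange c_act79_974) (range_glue (range_of_allRange c_act79_975) (range_glue (range_of_allRange c_act79_976) (range_glue (range_of_allRange c_act79_977) (range_glue (range_of_allRange c_act79_978) (range_glue (range_of_allRange c_act79_979) (range_glue (range_of_allRange c_act79_980) (range_glue (range_of_allRange c_act79_981) (range_glue (range_of_allRange c_act79_982) (range_glue (range_of_allRange c_act79_983) (range_glue (range_of_allRange c_act79_984) (range_glue (range_of_allRange c_act79_985) (range_glue (range_of_allRange c_act79_986) (range_glue (range_of_allRange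 c_act79_987) (range_glue (range_of_allRange c_act79_988) (range_glue (range_of_allRange c_act79_989) (range_glue (range_of_allRange c_act79_990) (range_glue (range_of_allRange c_act79_991) (range_glue (range_of_allRange c_act79_992) (range_glue (range_of_allRange c_act79_993) (range_glue (range_of_allRange c_act79_994) (range_glue (range_of_allRange c_act79_995) (range_glue (range_of_allRange c_act79_996) (range_glue (range_of_allRange c_act79_997) (range_glue (range_of_allRange c_act79_998) (range_of_allRange c_act79_999))))))))))))))))))))))))))))))))))))))))
theorem h_act79_p25 : ∀ i, 252000 ≤ i → i < 262080 → Nat.beq (actR79 i) i = true :=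
  (range_glue (range_of_allRange c_act79_1000) (range_glue (range_of_allRange c_act79_1001) (range_glue (range_of_allRange c_act79_1002) (range_glue (range_of_allRange c_act79_1003) (range_glue (range_of_allRange c_act79_1004) (range_glue (range_of_allRange c_act79_1005) (range_glue (range_of_allRange c_act79_1006) (range_glue (range_of_allRange c_act79_1007) (range_glue (range_of_allRange c_act79_1008) (range_glue (range_of_allRange c_act79_1009) (range_glue (range_of_allRange c_act79_1010) (range_glue (range_of_allRange c_act79_1011) (range_glue (range_of_allRange c_act79_1012) (range_glue (range_of_allRange c_act79_1013) (range_glue (range_of_allRange c_act79_1014) (range_glue (range_of_allRange c_act79_1015) (range_glue (range_of_allRange c_act79_1016) (range_glue (range_of_allRange c_act79_1017) (range_glue (range_of_allRange c_act79_1018) (range_glue (range_of_allRange c_act79_1019) (range_glue (range_of_allRange c_act79_1020) (range_glue (range_of_allRange c_act79_1021) (range_glue (range_of_allRange c_act79_1022) (range_glue (range_of_allRange c_act79_1023) (range_glue (range_of_allRange c_act79_1024) (range_glue (range_of_allRange c_act79_1025) (range_glue (range_of_allRange c_act79_1026)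 (range_glue (range_of_allRange c_act79_1027) (range_glue (range_of_allRange c_act79_1028) (range_glue (range_of_allRange c_act79_1029) (range_glue (range_of_allRange c_act79_1030) (range_glue (range_of_allRange c_act79_1031) (range_glue (range_of_allRange c_act79_1032) (range_glue (range_of_allRange c_act79_1033) (range_glue (range_of_allRange c_act79_1034) (range_glue (range_of_allRange c_act79_1035) (range_glue (range_of_allRange c_act79_1036) (range_glue (range_of_allRange c_act79_1037) (range_glue (range_of_allRange c_act79_1038) (range_of_allRange c_act79_1039))))))))))))))))))))))))))))))))))))))))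
theorem h_act79_p26 : ∀ i, 262080 ≤ i → i < 272160 → Nat.beq (actR79 i) i = true :=
  (range_glue (range_of_allRange c_act79_1040) (range_glue (range_of_allRange c_act79_1041) (range_glue (range_of_allRange c_act79_1042) (range_glue (range_of_allRange c_act79_1043) (range_glue (range_of_allRange c_act79_1044) (range_glue (range_of_allRange c_act79_1045) (range_glue (range_of_allRange c_act79_1046) (range_glue (range_of_allRange c_act79_1047) (range_glue (range_of_allRange c_act79_1048) (range_glue (range_of_allRange c_act79_1049) (range_glue (range_of_allRange c_act79_1050) (range_glue (range_of_allRange c_act79_1051) (range_glue (range_of_allRange c_act79_1052) (range_glue (range_of_allRange c_act79_1053) (range_glue (range_of_allRange c_act79_1054) (range_glue (range_of_allRange c_act79_1055) (range_glue (range_of_allRange c_act79_1056) (range_glue (range_of_allRange c_act79_1057) (range_glue (range_of_allRange c_act79_1058) (range_glue (range_of_allRange c_act79_1059) (range_glue (range_of_allRange c_act79_1060) (range_glue (range_of_allRange c_act79_1061) (range_glue (range_of_allRange c_act79_1062) (range_glue (range_of_allRange c_act79_1063) (range_glue (range_of_allRange c_act79_1064)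 (range_glue (range_of_allRange c_act79_1065) (range_glue (range_of_allRange c_act79_1066) (range_glue (range_of_allRange c_act79_1067) (range_glue (range_of_allRange c_act79_1068) (range_glue (range_of_allRange c_act79_1069) (range_glue (range_of_allRange c_act79_1070) (range_glue (range_of_allRange c_act79_1071) (range_glue (range_of_allRange c_act79_1072) (range_glue (range_of_allRange c_act79_1073) (range_glue (range_of_allRange c_act79_1074) (range_glue (range_of_allRange c_act79_1075) (range_glue (range_of_allRange c_act79_1076) (range_glue (range_of_allRange c_act79_1077) (range_glue (range_of_allRange c_act79_1078) (range_of_allRange c_act79_1079))))))))))))))))))))))))))))))))))))))))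
theorem h_act79_p27 : ∀ i, 272160 ≤ i → i < 282240 → Nat.beq (actR79 i) i = true :=
  (range_glue (range_of_allRange c_act79_1080) (range_glue (range_of_allRange c_act79_1081) (range_glue (range_of_allRange c_act79_1082) (range_glue (range_of_allRange c_act79_1083) (range_glue (range_of_allRange c_act79_1084) (range_glue (range_of_allRange c_act79_1085) (range_glue (range_of_allRange c_act79_1086) (range_glue (range_of_allRange c_act79_1087) (range_glue (range_of_allRange c_act79_1088) (range_glue (range_of_allRange c_act79_1089) (range_glue (range_of_allRange c_act79_1090) (range_glue (range_of_allRange c_act79_1091) (range_glue (range_of_allRange c_act79_1092) (range_glue (range_of_allRange c_act79_1093) (range_glue (range_of_allRange c_act79_1094) (range_glue (range_of_allRange c_act79_1095) (range_glue (range_of_allRange c_act79_1096) (range_glue (range_of_allRange c_act79_1097) (range_glue (range_of_allRange c_act79_1098) (range_glue (range_of_allRange c_act79_1099) (range_glue (range_of_allRange c_act79_1100) (range_glue (range_of_allRange c_act79_1101) (range_glue (range_of_allRange c_act79_1102) (range_glue (range_of_allRange c_act79_1103) (range_glue (range_of_allRange c_act79_1104)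 (range_glue (range_of_allRange c_act79_1105) (range_glue (range_of_allRange c_act79_1106) (range_glue (range_of_allRange c_act79_1107) (range_glue (range_of_allRange c_act79_1108) (range_glue (range_of_allRange c_act79_1109) (range_glue (range_of_allRange c_act79_1110) (range_glue (range_of_allRange c_act79_1111) (range_glue (range_of_allRange c_act79_1112) (range_glue (range_of_allRange c_act79_1113) (range_glue (range_of_allRange c_act79_1114) (range_glue (range_of_allRange c_act79_1115) (range_glue (range_of_allRange c_act79_1116) (range_glue (range_of_allRange c_act79_1117) (range_glue (range_of_allRange c_act79_1118) (range_of_allRange c_act79_1119))))))))))))))))))))))))))))))))))))))))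
theorem h_act79_p28 : ∀ i, 282240 ≤ i → i < 292320 → Nat.beq (actR79 i) i = true :=
  (range_glue (range_of_allRange c_act79_1120) (range_glue (range_of_allRange c_act79_1121) (range_glue (range_of_allRange c_act79_1122) (range_glue (range_of_allRange c_act79_1123) (range_glue (range_of_allRange c_act79_1124) (range_glue (range_of_allRange c_act79_1125) (range_glue (range_of_allRange c_act79_1126) (range_glue (range_of_allRange c_act79_1127) (range_glue (range_of_allRange c_act79_1128) (range_glue (range_of_allRange c_act79_1129) (range_glue (range_of_allRange c_act79_1130) (range_glue (range_of_allRange c_act79_1131) (range_glue (range_of_allRange c_act79_1132) (range_glue (range_of_allRange c_act79_1133) (range_glue (range_of_allRange c_act79_1134) (range_glue (range_of_allRange c_act79_1135) (range_glue (range_of_allRange c_act79_1136) (range_glue (range_of_allRange c_act79_1137) (range_glue (range_of_allRange c_act79_1138) (range_glue (range_of_allRange c_act79_1139) (range_glue (range_of_allRange c_act79_1140) (range_glue (range_of_allRange c_act79_1141) (range_glue (range_of_allRange c_act79_1142) (range_glue (range_of_allRange c_act79_1143) (range_glue (range_of_allRange c_act79_1144)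 (range_glue (range_of_allRange c_act79_1145) (range_glue (range_of_allRange c_act79_1146) (range_glue (range_of_allRange c_act79_1147) (range_glue (range_of_allRange c_act79_1148) (range_glue (range_of_allRange c_act79_1149) (range_glue (range_of_allRange c_act79_1150) (range_glue (range_of_allRange c_act79_1151) (range_glue (range_of_allRange c_act79_1152) (range_glue (range_of_allRange c_act79_1153) (range_glue (range_of_allRange c_act79_1154) (range_glue (range_of_allRange c_act79_1155) (range_glue (range_of_allRange c_act79_1156) (range_glue (range_of_allRange c_act79_1157) (range_glue (range_of_allRange c_act79_1158) (range_of_allRange c_act79_1159))))))))))))))))))))))))))))))))))))))))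
theorem h_act79_p29 : ∀ i, 292320 ≤ i → i < 302400 → Nat.beq (actR79 i) i = true :=
  (range_glue (range_of_allRange c_act79_1160) (range_glue (range_of_allRange c_act79_1161) (range_glue (range_of_allRange c_act79_1162) (range_glue (range_of_allRange c_act79_1163) (range_glue (range_of_allRange c_act79_1164) (range_glue (range_of_allRange c_act79_1165) (range_glue (range_of_allRange c_act79_1166) (range_glue (range_of_allRange c_act79_1167) (range_glue (range_of_allRange c_act79_1168) (range_glue (range_of_allRange c_act79_1169) (range_glue (range_of_allRange c_act79_1170) (range_glue (range_of_allRange c_act79_1171) (range_glue (range_of_allRange c_act79_1172) (range_glue (range_of_allRange c_act79_1173) (range_glue (range_of_allRange c_act79_1174) (range_glue (range_of_allRange c_act79_1175) (range_glue (range_of_allRange c_act79_1176) (range_glue (range_of_allRange c_act79_1177) (range_glue (range_of_allRange c_act79_1178) (range_glue (range_of_allRange c_act79_1179) (range_glue (range_of_allRange c_act79_1180) (range_glue (range_of_allRange c_act79_1181) (range_glue (range_of_allRange c_act79_1182) (range_glue (range_of_allRange c_act79_1183) (range_glue (range_of_allRange c_act79_1184)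 (range_glue (range_of_allRange c_act79_1185) (range_glue (range_of_allRange c_act79_1186) (range_glue (range_of_allRange c_act79_1187) (range_glue (range_of_allRange c_act79_1188) (range_glue (range_of_allRange c_act79_1189) (range_glue (range_of_allRange c_act79_1190) (range_glue (range_of_allRange c_act79_1191) (range_glue (range_of_allRange c_act79_1192) (range_glue (range_of_allRange c_act79_1193) (range_glue (range_of_allRange c_act79_1194) (range_glue (range_of_allRange c_act79_1195) (range_glue (range_of_allRange c_act79_1196) (range_glue (range_of_allRange c_act79_1197) (range_glue (range_of_allRange c_act79_1198) (range_of_allRange c_act79_1199))))))))))))))))))))))))))))))))))))))))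
theorem h_act79_p30 : ∀ i, 302400 ≤ i → i < 306936 → Nat.beq (actR79 i) i = true :=
  (range_glue (range_of_allRange c_act79_1200) (range_glue (range_of_allRange c_act79_1201) (range_glue (range_of_allRange c_act79_1202) (range_glue (range_of_allRange c_act79_1203) (range_glue (range_of_allRange c_act79_1204) (range_glue (range_of_allRange c_act79_1205) (range_glue (range_of_allRange c_act79_1206) (range_glue (range_of_allRange c_act79_1207) (range_glue (range_of_allRange c_act79_1208) (range_glue (range_of_allRange c_act79_1209) (range_glue (range_of_allRange c_act79_1210) (range_glue (range_of_allRange c_act79_1211) (range_glue (range_of_allRange c_act79_1212) (range_glue (range_of_allRange c_act79_1213) (range_glue (range_of_allRange c_act79_1214) (range_glue (range_of_allRange c_act79_1215) (range_glue (range_of_allRange c_act79_1216) (range_of_allRange c_act79_1217))))))))))))))))))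
theorem h_act79 : ∀ i, 0 ≤ i → i < 306936 → Nat.beq (actR79 i) i = true :=
  (range_glue h_act79_p0 (range_glue h_act79_p1 (range_glue h_act79_p2 (range_glue h_act79_p3 (range_glue h_act79_p4 (range_glue h_act79_p5 (range_glue h_act79_p6 (range_glue h_act79_p7 (range_glue h_act79_p8 (range_glue h_act79_p9 (range_glue h_act79_p10 (range_glue h_act79_p11 (range_glue h_act79_p12 (range_glue h_act79_p13 (range_glue h_act79_p14 (range_glue h_act79_p15 (range_glue h_act79_p16 (range_glue h_act79_p17 (range_glue h_act79_p18 (range_glue h_act79_p19 (range_glue h_act79_p20 (range_glue h_act79_p21 (range_glue h_act79_p22 (range_glue h_act79_p23 (range_glue h_act79_p24 (range_glue h_act79_p25 (range_glue h_act79_p26 (range_glue h_act79_p27 (range_glue h_act79_p28 (range_glue h_act79_p29 h_act79_p30))))))))))))))))))))))))))))))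

theorem checked : T.Checked D where
  hz := c_zero
  hn := fun d h0 hd => h_names d h0 hd
  hb := fun j hj => allBelow_eq_true.1 c_base j hj
  hr := fun t h1 h2 => h_rel t h1 h2
  hfin := fun i x hi hx => h_fin i (Nat.zero_le _) hi x hx
  hperm := fun i x hi hx => h_perm i (Nat.zero_le _) hi x hx
  hlet := fun x hx => allBelow_eq_true.1 c_let x hx
  hcls := fun d h0 hd => h_cls d h0 hd
  hrep := fun i hi => h_rep i (Nat.zero_le _) hi
  hcls0 := c_cls0
  hname0 := c_name0
  hN := by decide
  hM := by decide

theorem h_act : ∀ L ∈ PFi24.P.real, ∀ i, i < T.N → Tab.relActOK T D L i = true := by
  rw [c_real]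
  intro L hL
  simp only [realLit, List.mem_cons, List.not_mem_nil, or_false] at hL
  rcases hL with rfl | rfl | rfl | rfl | rfl | rfl | rfl | rfl | rfl | rfl | rfl | rfl | rfl | rfl | rfl | rfl | rfl | rfl | rfl | rfl | rfl | rfl | rfl | rfl | rfl | rfl | rfl | rfl | rfl | rfl | rfl | rfl | rfl | rfl | rfl | rfl | rfl | rfl | rfl | rfl | rfl | rfl | rfl | rfl | rfl | rfl | rfl | rfl | rfl | rfl | rfl | rfl | rfl | rfl | rfl | rfl | rfl | rfl | rfl | rfl | rfl | rfl | rfl | rfl | rfl | rfl | rfl | rfl | rfl | rfl | rfl | rfl | rfl | rfl | rfl | rfl | rfl | rfl | rfl | rfl
  · intro i hi
    rw [Tab.relActOK, ← actR0_eq]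
    exact h_act0 i (Nat.zero_le _) hi
  · intro i hi
    rw [Tab.relActOK, ← actR1_eq]
    exact h_act1 i (Nat.zero_le _) hi
  · intro i hi
    rw [Tab.relActOK, ← actR2_eq]
    exact h_act2 i (Nat.zero_le _) hi
  · intro i hi
    rw [Tab.relActOK, ← actR3_eq]
    exact h_act3 i (Nat.zero_le _) hi
  · intro i hi
    rw [Tab.relActOK, ← actR4_eq]
    exact h_act4 i (Nat.zero_le _) hi
  · intro i hi
    rw [Tab.relActOK, ← actR5_eq]
    exact h_act5 i (Nat.zero_le _) hi
  · intro i hi
    rw [Tab.relActOK, ← actR6_eq]
    exact h_act6 i (Nat.zero_le _) hi
  · intro i hi
    rw [Tab.relActOK, ← actR7_eq]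
    exact h_act7 i (Nat.zero_le _) hi
  · intro i hi
    rw [Tab.relActOK, ← actR8_eq]
    exact h_act8 i (Nat.zero_le _) hi
  · intro i hi
    rw [Tab.relActOK, ← actR9_eq]
    exact h_act9 i (Nat.zero_le _) hi
  · intro i hi
    rw [Tab.relActOK, ← actR10_eq]
    exact h_act10 i (Nat.zero_le _) hi
  · intro i hi
    rw [Tab.relActOK, ← actR11_eq]
    exact h_act11 i (Nat.zero_le _) hi
  · intro i hi
    rw [Tab.relActOK, ← actR12_eq]
    exact h_act12 i (Nat.zero_le _) hi
  · intro i hi
    rw [Tab.relActOK, ← actR13_eq]
    exact h_act13 i (Nat.zero_le _) hi
  · intro i hi
    rw [Tab.relActOK, ← actR14_eq]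
    exact h_act14 i (Nat.zero_le _) hi
  · intro i hi
    rw [Tab.relActOK, ← actR15_eq]
    exact h_act15 i (Nat.zero_le _) hi
  · intro i hi
    rw [Tab.relActOK, ← actR16_eq]
    exact h_act16 i (Nat.zero_le _) hi
  · intro i hi
    rw [Tab.relActOK, ← actR17_eq]
    exact h_act17 i (Nat.zero_le _) hi
  · intro i hi
    rw [Tab.relActOK, ← actR18_eq]
    exact h_act18 i (Nat.zero_le _) hi
  · intro i hi
    rw [Tab.relActOK, ← actR19_eq]
    exact h_act19 i (Nat.zero_le _) hi
  · intro i hi
    rw [Tab.relActOK, ← actR20_eq]
    exact h_act20 i (Nat.zero_le _) hi
  · intro i hi
    rw [Tab.relActOK, ← actR21_eq]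
    exact h_act21 i (Nat.zero_le _) hi
  · intro i hi
    rw [Tab.relActOK, ← actR22_eq]
    exact h_act22 i (Nat.zero_le _) hi
  · intro i hi
    rw [Tab.relActOK, ← actR23_eq]
    exact h_act23 i (Nat.zero_le _) hi
  · intro i hi
    rw [Tab.relActOK, ← actR24_eq]
    exact h_act24 i (Nat.zero_le _) hi
  · intro i hi
    rw [Tab.relActOK, ← actR25_eq]
    exact h_act25 i (Nat.zero_le _) hi
  · intro i hi
    rw [Tab.relActOK, ← actR26_eq]
    exact h_act26 i (Nat.zero_le _) hi
  · intro i hi
    rw [Tab.relActOK, ← actR27_eq]
    exact h_act27 i (Nat.zero_le _) hi
  · intro i hi
    rw [Tab.relActOK, ← actR28_eq]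
    exact h_act28 i (Nat.zero_le _) hi
  · intro i hi
    rw [Tab.relActOK, ← actR29_eq]
    exact h_act29 i (Nat.zero_le _) hi
  · intro i hi
    rw [Tab.relActOK, ← actR30_eq]
    exact h_act30 i (Nat.zero_le _) hi
  · intro i hi
    rw [Tab.relActOK, ← actR31_eq]
    exact h_act31 i (Nat.zero_le _) hi
  · intro i hi
    rw [Tab.relActOK, ← actR32_eq]
    exact h_act32 i (Nat.zero_le _) hi
  · intro i hi
    rw [Tab.relActOK, ← actR33_eq]
    exact h_act33 i (Nat.zero_le _) hi
  · intro i hi
    rw [Tab.relActOK, ← actR34_eq]
    exact h_act34 i (Nat.zero_le _) hi
  · intro i hi
    rw [Tab.relActOK, ← actR35_eq]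
    exact h_act35 i (Nat.zero_le _) hi
  · intro i hi
    rw [Tab.relActOK, ← actR36_eq]
    exact h_act36 i (Nat.zero_le _) hi
  · intro i hi
    rw [Tab.relActOK, ← actR37_eq]
    exact h_act37 i (Nat.zero_le _) hi
  · intro i hi
    rw [Tab.relActOK, ← actR38_eq]
    exact h_act38 i (Nat.zero_le _) hi
  · intro i hi
    rw [Tab.relActOK, ← actR39_eq]
    exact h_act39 i (Nat.zero_le _) hi
  · intro i hi
    rw [Tab.relActOK, ← actR40_eq]
    exact h_act40 i (Nat.zero_le _) hi
  · intro i hi
    rw [Tab.relActOK, ← actR41_eq]
    exact h_act41 i (Nat.zero_le _) hi
  · intro i hi
    rw [Tab.relActOK, ← actR42_eq]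
    exact h_act42 i (Nat.zero_le _) hi
  · intro i hi
    rw [Tab.relActOK, ← actR43_eq]
    exact h_act43 i (Nat.zero_le _) hi
  · intro i hi
    rw [Tab.relActOK, ← actR44_eq]
    exact h_act44 i (Nat.zero_le _) hi
  · intro i hi
    rw [Tab.relActOK, ← actR45_eq]
    exact h_act45 i (Nat.zero_le _) hi
  · intro i hi
    rw [Tab.relActOK, ← actR46_eq]
    exact h_act46 i (Nat.zero_le _) hi
  · intro i hi
    rw [Tab.relActOK, ← actR47_eq]
    exact h_act47 i (Nat.zero_le _) hi
  · intro i hi
    rw [Tab.relActOK, ← actR48_eq]
    exact h_act48 i (Nat.zero_le _) hi
  · intro i hi
    rw [Tab.relActOK, ← actR49_eq]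
    exact h_act49 i (Nat.zero_le _) hi
  · intro i hi
    rw [Tab.relActOK, ← actR50_eq]
    exact h_act50 i (Nat.zero_le _) hi
  · intro i hi
    rw [Tab.relActOK, ← actR51_eq]
    exact h_act51 i (Nat.zero_le _) hi
  · intro i hi
    rw [Tab.relActOK, ← actR52_eq]
    exact h_act52 i (Nat.zero_le _) hi
  · intro i hi
    rw [Tab.relActOK, ← actR53_eq]
    exact h_act53 i (Nat.zero_le _) hi
  · intro i hi
    rw [Tab.relActOK, ← actR54_eq]
    exact h_act54 i (Nat.zero_le _) hi
  · intro i hi
    rw [Tab.relActOK, ← actR55_eq]
    exact h_act55 i (Nat.zero_le _) hi
  · intro i hi
    rw [Tab.relActOK, ← actR56_eq]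
    exact h_act56 i (Nat.zero_le _) hi
  · intro i hi
    rw [Tab.relActOK, ← actR57_eq]
    exact h_act57 i (Nat.zero_le _) hi
  · intro i hi
    rw [Tab.relActOK, ← actR58_eq]
    exact h_act58 i (Nat.zero_le _) hi
  · intro i hi
    rw [Tab.relActOK, ← actR59_eq]
    exact h_act59 i (Nat.zero_le _) hi
  · intro i hi
    rw [Tab.relActOK, ← actR60_eq]
    exact h_act60 i (Nat.zero_le _) hi
  · intro i hi
    rw [Tab.relActOK, ← actR61_eq]
    exact h_act61 i (Nat.zero_le _) hi
  · intro i hi
    rw [Tab.relActOK, ← actR62_eq]
    exact h_act62 i (Nat.zero_le _) hi
  · intro i hi
    rw [Tab.relActOK, ← actR63_eq]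
    exact h_act63 i (Nat.zero_le _) hi
  · intro i hi
    rw [Tab.relActOK, ← actR64_eq]
    exact h_act64 i (Nat.zero_le _) hi
  · intro i hi
    rw [Tab.relActOK, ← actR65_eq]
    exact h_act65 i (Nat.zero_le _) hi
  · intro i hi
    rw [Tab.relActOK, ← actR66_eq]
    exact h_act66 i (Nat.zero_le _) hi
  · intro i hi
    rw [Tab.relActOK, ← actR67_eq]
    exact h_act67 i (Nat.zero_le _) hi
  · intro i hi
    rw [Tab.relActOK, ← actR68_eq]
    exact h_act68 i (Nat.zero_le _) hi
  · intro i hi
    rw [Tab.relActOK, ← actR69_eq]
    exact h_act69 i (Nat.zero_le _) hi
  · intro i hi
    rw [Tab.relActOK, ← actR70_eq]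
    exact h_act70 i (Nat.zero_le _) hi
  · intro i hi
    rw [Tab.relActOK, ← actR71_eq]
    exact h_act71 i (Nat.zero_le _) hi
  · intro i hi
    rw [Tab.relActOK, ← actR72_eq]
    exact h_act72 i (Nat.zero_le _) hi
  · intro i hi
    rw [Tab.relActOK, ← actR73_eq]
    exact h_act73 i (Nat.zero_le _) hi
  · intro i hi
    rw [Tab.relActOK, ← actR74_eq]
    exact h_act74 i (Nat.zero_le _) hi
  · intro i hi
    rw [Tab.relActOK, ← actR75_eq]
    exact h_act75 i (Nat.zero_le _) hi
  · intro i hi
    rw [Tab.relActOK, ← actR76_eq]
    exact h_act76 i (Nat.zero_le _) hi
  · intro i hi
    rw [Tab.relActOK, ← actR77_eq]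
    exact h_act77 i (Nat.zero_le _) hi
  · intro i hi
    rw [Tab.relActOK, ← actR78_eq]
    exact h_act78 i (Nat.zero_le _) hi
  · intro i hi
    rw [Tab.relActOK, ← actR79_eq]
    exact h_act79 i (Nat.zero_le _) hi

theorem inst : Inst PFi24.P T D subs where
  hP := PFi24.valid
  hk := rfl
  hinv := rfl
  hsubs := by
    intro u hu x hx
    have h1 := List.all_eq_true.1 c_subs u hu
    exact ble_succ (List.all_eq_true.1 h1 x hx)
  htab := c_tab
  hC := checked
  hact := h_act
  hsubfix := fun u hu => beq_eq (List.all_eq_true.1 c_subfix u hu)

theorem index_eq : (Inst.subG PFi24.P subs).index = 306936 := inst.index_eq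


end Cfsg.Agent.Lib.Helper4.TCD.Fi24a
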