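import Mathlib
import Cfsg.Agent.Lib.Helper4.Fi24QMain
import Cfsg.Agent.Lib.Helper4.TCD_Fi24a_Fin
import Cfsg.Agent.Lib.Helper4.TC20
import Cfsg.Agent.S1697

/-!
The presented Fischer group Fi₂₄: the subgroup `H` generated by all generators but `k` has order at most
`2 · |Fi₂₃|`. The spider relation `(d c b d e f d h i)^10 = 1` is transported from the auxiliary group
`Fi24Q`; `l` is central in `H`, and `H / ⟨l⟩` is an image of the presented Fi₂₃.
-/

namespace Cfsg.Agent.Lib.Helper4.Fi24Sub

open Cfsg.Agent.Lib.Helper4.TC Cfsg.Agent.Lib.Helper4.TCD Cfsg.Agent.Lib.Helper4.TC.Log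

/-- the letters of `Fi24Q` as letters of `Fi24` -/
def embQ (l : ℕ) : ℕ := [0, 1, 2, 3, 4, 5, 6, 7, 10, 11].getD l 12

theorem real_subQ : ∀ L ∈ PFi24Q.P.real, L.map embQ ∈ PFi24.P.real := by decide +kernel

theorem embQ_emb : LetterEmb PFi24Q.P PFi24.P embQ where
  hP := PFi24Q.valid
  hQ := PFi24.valid
  hlt := by
    intro l hl
    have hl : l < 10 := hl
    show embQ l < 12
    interval_cases l <;> decide
  hinv := by
    intro l hl
    have hl : l < 10 := hl
    interval_cases l <;> rfl
  hrel := by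
    intro L hL
    exact (PFi24.valid.real_sound _ (real_subQ L hL)).2

/-- the spider relation in the presented `Fi24` -/
theorem spider : (wordP PFi24.P.gR [5, 4, 3, 5, 6, 7, 5, 10, 11]) ^ 10 = 1 := by
  have h := embQ_emb.word_eq_one ((List.replicate 10 [5, 4, 3, 5, 6, 7, 5, 8, 9]).flatten)
    (by decide +kernel) (by rw [wordP_replicate_flatten]; exact Fi24QMain.spider)
  have e : ((List.replicate 10 [5, 4, 3, 5, 6, 7, 5, 8, 9]).flatten).map embQ =
      (List.replicate 10 [5, 4, 3, 5, 6, 7, 5, 10, 11]).flatten := by decide +kernel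
  rw [e, wordP_replicate_flatten] at h
  exact h

/-- the generators are involutions -/
theorem sq (x : ℕ) (hx : x < 12) : PFi24.P.gR x * PFi24.P.gR x = 1 := by
  have h := (PFi24.valid.invR_sound x (le_of_lt hx)).2
  have e : PFi24.P.invR x = x := rfl
  rw [e] at h
  exact mul_eq_one_iff_eq_inv.2 h

/-- the letters of the subgroup -/
def lettersH : List ℕ := [0, 2, 3, 4, 5, 6, 7, 8, 9, 10, 11]

theorem comm_rel : ∀ x ∈ lettersH, x = 0 ∨ [0, x, 0, x] ∈ PFi24.P.real := by decide +kernel

/-- `l` commutes with the letters of the subgroup -/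
theorem comm0 (x : ℕ) (hx : x ∈ lettersH) :
    PFi24.P.gR 0 * PFi24.P.gR x = PFi24.P.gR x * PFi24.P.gR 0 := by
  rcases comm_rel x hx with rfl | hr
  · rfl
  · have h := (PFi24.valid.real_sound _ hr).2
    simp only [wordP_cons, wordP_nil, mul_one] at h
    have hx12 : x < 12 := by
      simp only [lettersH, List.mem_cons, List.not_mem_nil, or_false] at hx
      omega
    have ha : (PFi24.P.gR 0)⁻¹ = PFi24.P.gR 0 := inv_eq_of_mul_eq_one_right (sq 0 (by norm_num))
    have hb : (PFi24.P.gR x)⁻¹ = PFi24.P.gR x := inv_eq_of_mul_eq_one_right (sq x hx12)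
    have h2 : PFi24.P.gR 0 * PFi24.P.gR x = (PFi24.P.gR 0 * PFi24.P.gR x)⁻¹ := by
      apply eq_inv_of_mul_eq_one_left
      rw [← h]
      group
    rw [mul_inv_rev, ha, hb] at h2
    exact h2

/-- the subgroup generated by all generators but `k` -/
def H : Subgroup PFi24.P.Grp := Inst.subG PFi24.P Fi24a.subs

theorem subs_iff : ∀ u, u ∈ Fi24a.subs ↔ ∃ x ∈ lettersH, u = [x] := by
  intro u
  constructor
  · intro hu
    have : ∀ u ∈ Fi24a.subs, ∃ x ∈ lettersH, u = [x] := by decide +kernel
    exact this u hu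
  · rintro ⟨x, hx, rfl⟩
    have : ∀ x ∈ lettersH, [x] ∈ Fi24a.subs := by decide +kernel
    exact this x hx

theorem mem_H (x : ℕ) (hx : x ∈ lettersH) : PFi24.P.gR x ∈ H := by
  apply Subgroup.subset_closure
  exact ⟨[x], (subs_iff _).2 ⟨x, hx, rfl⟩, by simp⟩

/-- `l` is central in `H` -/
theorem central (h : PFi24.P.Grp) (hh : h ∈ H) : PFi24.P.gR 0 * h = h * PFi24.P.gR 0 := by
  induction hh using Subgroup.closure_induction with
  | mem s hs =>
    obtain ⟨u, hu, rfl⟩ := hs
    obtain ⟨x, hx, rfl⟩ := (subs_iff u).1 hu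
    simp only [wordP_cons, wordP_nil, mul_one]
    exact comm0 x hx
  | one => simp
  | mul a b _ _ iha ihb => rw [← mul_assoc, iha, mul_assoc, ihb, mul_assoc]
  | inv a _ iha =>
    have : a⁻¹ * (PFi24.P.gR 0 * a) * a⁻¹ = a⁻¹ * (a * PFi24.P.gR 0) * a⁻¹ := by rw [iha]
    simpa [mul_assoc] using this.symm

/-- `l` as an element of `H` -/
def cH : H := ⟨PFi24.P.gR 0, mem_H 0 (by decide)⟩

theorem cH_sq : cH ^ 2 = 1 := by
  apply Subtype.ext
  rw [pow_two]
  exact sq 0 (by norm_num)

/-- the subgroup generated by `l` -/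
def C : Subgroup H := Subgroup.zpowers cH

instance C_normal : C.Normal := by
  constructor
  intro n hn g
  obtain ⟨m, rfl⟩ := Subgroup.mem_zpowers_iff.1 hn
  have hc : g * cH * g⁻¹ = cH := by
    apply Subtype.ext
    have := central g.1 g.2
    show g.1 * PFi24.P.gR 0 * g.1⁻¹ = PFi24.P.gR 0
    rw [← this]
    group
  have : g * cH ^ m * g⁻¹ = cH ^ m := by
    rw [← conj_zpow, hc]
  rw [this]
  exact Subgroup.zpow_mem_zpowers cH m

theorem card_C : Finite C ∧ Nat.card C ≤ 2 := by
  have hpos : 0 < orderOf cH := by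
    rw [orderOf_pos_iff, isOfFinOrder_iff_pow_eq_one]
    exact ⟨2, by norm_num, cH_sq⟩
  constructor
  · apply Nat.finite_of_card_ne_zero
    show Nat.card (Subgroup.zpowers cH) ≠ 0
    rw [Nat.card_zpowers]
    omega
  · show Nat.card (Subgroup.zpowers cH) ≤ 2
    rw [Nat.card_zpowers]
    exact orderOf_le_of_pow_eq_one (by norm_num) cH_sq

theorem mk_cH : QuotientGroup.mk' C cH = 1 :=
  (QuotientGroup.eq_one_iff (N := C) cH).2 (Subgroup.mem_zpowers cH)

/-- the letters as elements of `H` -/
noncomputable def hl (x : ℕ) : H := by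
  classical
  exact if h : PFi24.P.gR x ∈ H then ⟨PFi24.P.gR x, h⟩ else 1

theorem hl_coe (x : ℕ) (hx : x ∈ lettersH) : ((hl x : H) : PFi24.P.Grp) = PFi24.P.gR x := by
  unfold hl
  rw [dif_pos (mem_H x hx)]

theorem wordP_hl (M : List ℕ) (hM : ∀ x ∈ M, x ∈ lettersH) :
    ((wordP hl M : H) : PFi24.P.Grp) = wordP PFi24.P.gR M := by
  induction M with
  | nil => rfl
  | cons x M ih =>
    rw [wordP_cons, wordP_cons, Subgroup.coe_mul, ih fun y hy => hM y (List.mem_cons_of_mem _ hy),
      hl_coe x (hM x List.mem_cons_self)]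

/-- the images of the letters of `Fi23` in the quotient -/
noncomputable def g23 (x : ℕ) : H ⧸ C := QuotientGroup.mk' C (hl (x + 2))

theorem wordP_g23 (L : List ℕ) : wordP g23 L = QuotientGroup.mk' C (wordP hl (L.map (· + 2))) := by
  induction L with
  | nil => simp
  | cons x L ih => rw [List.map_cons, wordP_cons, wordP_cons, map_mul, ih]; rfl

theorem real_cases : ∀ L ∈ PFi23.P.real, (L.map (· + 2) ∈ PFi24.P.real) ∨
    L = (List.replicate 10 [3, 2, 1, 3, 4, 5, 3, 8, 9]).flatten ∨
    L = (List.replicate 9 [0, 1, 2, 3, 4, 5, 8]).flatten := by decide +kernel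

theorem shift_mem (L : List ℕ) (hL : ∀ x ∈ L, x < 10) : ∀ x ∈ L.map (· + 2), x ∈ lettersH := by
  intro x hx
  obtain ⟨y, hy, rfl⟩ := List.mem_map.1 hx
  have := hL y hy
  have h : ∀ y, y < 10 → y + 2 ∈ lettersH := by decide
  exact h y this

/-- the reversed word of involutions is the inverse -/
theorem wordP_reverse_mul {Γ : Type*} [Group Γ] (g : ℕ → Γ) (M : List ℕ) (hM : ∀ x ∈ M, g x * g x = 1) :
    wordP g M.reverse * wordP g M = 1 := by
  induction M with
  | nil => simp
  | cons x M ih =>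
    rw [List.reverse_cons, wordP_append, wordP_cons, wordP_cons, wordP_nil, mul_one]
    calc wordP g M.reverse * g x * (g x * wordP g M)
        = wordP g M.reverse * (g x * g x) * wordP g M := by group
      _ = 1 := by
        rw [hM x List.mem_cons_self, mul_one]
        exact ih fun y hy => hM y (List.mem_cons_of_mem _ hy)

/-- the relation `l = (a b c d e f h)^9` -/
theorem e7_rel : wordP PFi24.P.gR (List.replicate 9 [2, 3, 4, 5, 6, 7, 10]).flatten = PFi24.P.gR 0 := by
  have hr : ([0] ++ (List.replicate 9 [10, 7, 6, 5, 4, 3, 2]).flatten) ∈ PFi24.P.real := by decide +kernel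
  have h := (PFi24.valid.real_sound _ hr).2
  rw [wordP_append, wordP_replicate_flatten, wordP_cons, wordP_nil, mul_one] at h
  rw [wordP_replicate_flatten]
  have hv : wordP PFi24.P.gR [10, 7, 6, 5, 4, 3, 2] * wordP PFi24.P.gR [2, 3, 4, 5, 6, 7, 10] = 1 := by
    have := wordP_reverse_mul PFi24.P.gR [2, 3, 4, 5, 6, 7, 10] (by
      intro x hx
      apply sq
      simp only [List.mem_cons, List.not_mem_nil, or_false] at hx
      omega)
    exact this
  have hv' : wordP PFi24.P.gR [10, 7, 6, 5, 4, 3, 2] = (wordP PFi24.P.gR [2, 3, 4, 5, 6, 7, 10])⁻¹ :=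
    eq_inv_of_mul_eq_one_left hv
  rw [hv', inv_pow] at h
  exact (mul_inv_eq_one.1 h).symm

theorem hl_sq (x : ℕ) (hx : x ∈ lettersH) : hl x * hl x = 1 := by
  apply Subtype.ext
  rw [Subgroup.coe_mul, hl_coe x hx]
  apply sq
  simp only [lettersH, List.mem_cons, List.not_mem_nil, or_false] at hx
  omega

theorem hrel : ∀ L ∈ PFi23.P.real, wordP g23 L = 1 := by
  intro L hL
  rw [wordP_g23]
  have hLet := shift_mem L (PFi23.valid.real_lt L hL)
  rcases real_cases L hL with h | rfl | rfl
  · have : wordP hl (L.map (· + 2)) = 1 := by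
      apply Subtype.ext
      rw [wordP_hl _ hLet]
      exact (PFi24.valid.real_sound _ h).2
    rw [this, map_one]
  · have : wordP hl ((List.replicate 10 [3, 2, 1, 3, 4, 5, 3, 8, 9]).flatten.map (· + 2)) = 1 := by
      apply Subtype.ext
      rw [wordP_hl _ hLet]
      have e : (List.replicate 10 [3, 2, 1, 3, 4, 5, 3, 8, 9]).flatten.map (· + 2) =
          (List.replicate 10 [5, 4, 3, 5, 6, 7, 5, 10, 11]).flatten := by decide +kernel
      rw [e, wordP_replicate_flatten]
      exact spider
    rw [this, map_one]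
  · have : wordP hl ((List.replicate 9 [0, 1, 2, 3, 4, 5, 8]).flatten.map (· + 2)) = cH := by
      apply Subtype.ext
      rw [wordP_hl _ hLet]
      have e : (List.replicate 9 [0, 1, 2, 3, 4, 5, 8]).flatten.map (· + 2) =
          (List.replicate 9 [2, 3, 4, 5, 6, 7, 10]).flatten := by decide +kernel
      rw [e]
      exact e7_rel
    rw [this]
    exact mk_cH

theorem hinv : ∀ l, l < PFi23.P.k → g23 l * g23 (PFi23.P.invR l) = 1 := by
  intro l hl'
  have hl10 : l < 10 := hl'
  have e : PFi23.P.invR l = l := rfl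
  rw [e]
  unfold g23
  rw [← map_mul, hl_sq _ (by
    have h : ∀ y, y < 10 → y + 2 ∈ lettersH := by decide
    exact h l hl10), map_one]

/-- the order of `H` -/
theorem card_H_le : Finite H ∧ Nat.card H ≤ 2 * 4089470473293004800 := by
  obtain ⟨ψ, hψ⟩ := exists_hom_of_letters PFi23.P PFi23.valid g23 hinv hrel
  obtain ⟨f23, _, c23⟩ := Cfsg.Agent.S1697.order_aux
  -- surjectivity
  have hrange : ∀ (x : PFi24.P.Grp) (hx : x ∈ H), QuotientGroup.mk' C ⟨x, hx⟩ ∈ ψ.range := by
    intro x hx
    induction hx using Subgroup.closure_induction with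
    | mem s hs =>
      obtain ⟨u, hu, rfl⟩ := hs
      obtain ⟨y, hy, rfl⟩ := (subs_iff u).1 hu
      have e : (⟨wordP PFi24.P.gR [y], Subgroup.subset_closure ⟨[y], hu, rfl⟩⟩ : H) = hl y := by
        apply Subtype.ext
        rw [hl_coe y hy]
        simp
      rw [e]
      by_cases h0 : y = 0
      · subst h0
        have : hl 0 = cH := by
          apply Subtype.ext
          rw [hl_coe 0 hy]
          rfl
        rw [this, mk_cH]
        exact Subgroup.one_mem _
      · have h2 : 2 ≤ y ∧ y < 12 := by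
          simp only [lettersH, List.mem_cons, List.not_mem_nil, or_false] at hy
          omega
        have hk : y - 2 < PFi23.P.k := by
          show y - 2 < 10
          omega
        refine ⟨PFi23.P.gR (y - 2), ?_⟩
        rw [hψ _ hk]
        unfold g23
        have : y - 2 + 2 = y := by omega
        rw [this]
    | one => exact Subgroup.one_mem _
    | mul a b ha hb iha ihb =>
      have : (⟨a * b, Subgroup.mul_mem _ ha hb⟩ : H) = ⟨a, ha⟩ * ⟨b, hb⟩ := rfl
      rw [this, map_mul]
      exact Subgroup.mul_mem _ iha ihb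
    | inv a ha iha =>
      have : (⟨a⁻¹, Subgroup.inv_mem _ ha⟩ : H) = (⟨a, ha⟩ : H)⁻¹ := rfl
      rw [this, map_inv]
      exact Subgroup.inv_mem _ iha
  have hsurj : Function.Surjective ψ := by
    intro γ
    obtain ⟨h, rfl⟩ := QuotientGroup.mk'_surjective C γ
    exact hrange h.1 h.2
  have fΓ : Finite (H ⧸ C) := Finite.of_surjective ψ hsurj
  have cΓ : Nat.card (H ⧸ C) ≤ 4089470473293004800 := by
    rw [← c23]
    exact Nat.card_le_card_of_surjective ψ hsurj
  obtain ⟨fC, cC⟩ := card_C
  have hcard : Nat.card H = Nat.card (H ⧸ C) * Nat.card C :=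
    Subgroup.card_eq_card_quotient_mul_card_subgroup C
  have hpos1 : 0 < Nat.card (H ⧸ C) := Nat.card_pos
  have hpos2 : 0 < Nat.card C := Nat.card_pos
  constructor
  · apply Nat.finite_of_card_ne_zero
    rw [hcard]
    positivity
  · rw [hcard]
    calc Nat.card (H ⧸ C) * Nat.card C ≤ 4089470473293004800 * 2 := Nat.mul_le_mul cΓ cC
      _ = 2 * 4089470473293004800 := by norm_num

end Cfsg.Agent.Lib.Helper4.Fi24Sub
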