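import Mathlib

/-!
A normal subgroup `K` of index two in a finite group `G` is simple as soon as every nontrivial normal
subgroup of `G` contains `K` and the order of `K` is not a square. Also: in a faithful primitive action
on the cosets of `H`, an element of prime order `q` not dividing `|H|` lies in every nontrivial normal
subgroup.
-/

namespace Cfsg.Agent.Lib.Helper4.IdxTwo

open MulAction
open scoped Pointwise

/-- In a finite group acting faithfully and primitively on the cosets of `H`, if a prime `q` does not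
divide the order of `H` and `x ^ q = 1`, then `x` lies in every nontrivial normal subgroup. -/
theorem mem_of_primitive {G : Type*} [Group G] [Finite G] (H : Subgroup G)
    (hprim : IsPreprimitive G (G ⧸ H))
    (hfaith : ∀ γ : G, (∀ c : G ⧸ H, γ • c = c) → γ = 1)
    (q : ℕ) (hq : q.Prime) (hqH : ¬ q ∣ Nat.card H)
    (x : G) (hx : x ^ q = 1) (N : Subgroup G) (hN : N.Normal) (hbot : N ≠ ⊥) : x ∈ N := by
  have hfix : fixedPoints N (G ⧸ H) ≠ Set.univ := by
    intro h
    apply hbot
    rw [Subgroup.eq_bot_iff_forall]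
    intro n hn
    apply hfaith n
    intro c
    have : c ∈ fixedPoints N (G ⧸ H) := by rw [h]; trivial
    exact this ⟨n, hn⟩
  have htr : IsPretransitive N (G ⧸ H) := IsQuasiPreprimitive.isPretransitive_of_normal hfix
  have hdvd : H.index ∣ Nat.card N := by
    have h1 : (stabilizer N (((1 : G) : G ⧸ H))).index = Nat.card (G ⧸ H) :=
      MulAction.index_stabilizer_of_transitive N _
    have h2 : Nat.card (G ⧸ H) = H.index := rfl
    rw [← h2, ← h1]
    exact Subgroup.index_dvd_card _
  have hqN : ¬ q ∣ N.index := by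
    intro hcon
    obtain ⟨s, hs⟩ := hdvd
    have e1 : N.index * Nat.card N = Nat.card G := N.index_mul_card
    have e2 : H.index * Nat.card H = Nat.card G := H.index_mul_card
    have hidx : 0 < H.index := Nat.pos_of_ne_zero Subgroup.index_ne_zero_of_finite
    have : N.index * s = Nat.card H := by
      have : H.index * (N.index * s) = H.index * Nat.card H := by
        rw [e2, ← e1, hs]; ring
      exact Nat.eq_of_mul_eq_mul_left hidx this
    exact hqH (this ▸ Dvd.dvd.mul_right hcon s)
  have h1 : ((x : G) : G ⧸ N) ^ q = 1 := by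
    rw [← QuotientGroup.mk_pow, hx]; rfl
  have h2 : ((x : G) : G ⧸ N) ^ N.index = 1 := by
    have : Nat.card (G ⧸ N) = N.index := rfl
    rw [← this]
    exact pow_card_eq_one'
  have hcop : Nat.Coprime q N.index := (Nat.Prime.coprime_iff_not_dvd hq).2 hqN
  have h3 : ((x : G) : G ⧸ N) = 1 := by
    have := pow_gcd_eq_one.2 ⟨h1, h2⟩
    rwa [hcop, pow_one] at this
  exact (QuotientGroup.eq_one_iff x).1 h3

variable {G : Type*} [Group G]

/-- conjugation by `t` on a normal subgroup, as a homomorphism -/
noncomputable def cj (K : Subgroup G) [K.Normal] (t : G) : K →* K :=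
  (MulAut.conjNormal t : MulAut K).toMonoidHom

theorem cj_coe (K : Subgroup G) [K.Normal] (t : G) (s : K) : ((cj K t s : K) : G) = t * s * t⁻¹ :=
  MulAut.conjNormal_apply t s

theorem cj_injective (K : Subgroup G) [K.Normal] (t : G) : Function.Injective (cj K t) :=
  (MulAut.conjNormal t : MulAut K).injective

theorem cj_surjective (K : Subgroup G) [K.Normal] (t : G) : Function.Surjective (cj K t) :=
  (MulAut.conjNormal t : MulAut K).surjective

/-- a normal subgroup of `K` invariant under conjugation by an element outside `K` is normal in `G` -/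
theorem normal_map_subtype (K : Subgroup G) [K.Normal] (hidx : K.index = 2) (t : G) (ht : t ∉ K)
    (S : Subgroup K) (hSn : S.Normal) (hS : S.map (cj K t) = S) : (S.map K.subtype).Normal := by
  constructor
  intro n hn g
  obtain ⟨s, hs, rfl⟩ := Subgroup.mem_map.1 hn
  by_cases hg : g ∈ K
  · refine Subgroup.mem_map.2 ⟨⟨g, hg⟩ * s * ⟨g, hg⟩⁻¹, hSn.conj_mem s hs ⟨g, hg⟩, ?_⟩
    simp
  · have hk : g * t⁻¹ ∈ K := by
      rw [Subgroup.mul_mem_iff_of_index_two hidx, inv_mem_iff]
      exact ⟨fun h => absurd h hg, fun h => absurd h ht⟩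
    have hts : cj K t s ∈ S := by
      rw [← hS]
      exact Subgroup.mem_map_of_mem _ hs
    refine Subgroup.mem_map.2 ⟨⟨g * t⁻¹, hk⟩ * cj K t s * ⟨g * t⁻¹, hk⟩⁻¹, hSn.conj_mem _ hts _, ?_⟩
    simp only [Subgroup.subtype_apply, Subgroup.coe_mul, Subgroup.coe_inv, cj_coe]
    group

/-- conjugating twice by `t` preserves a normal subgroup of `K` -/
theorem map_cj_cj (K : Subgroup G) [K.Normal] (hidx : K.index = 2) (t : G)
    (M : Subgroup K) (hM : M.Normal) : (M.map (cj K t)).map (cj K t) = M := by
  have htt : t * t ∈ K := by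
    rw [Subgroup.mul_mem_iff_of_index_two hidx]
  ext y
  constructor
  · rintro ⟨y1, ⟨m, hm, rfl⟩, rfl⟩
    have e : cj K t (cj K t m) = ⟨t * t, htt⟩ * m * ⟨t * t, htt⟩⁻¹ := by
      apply Subtype.ext
      simp only [cj_coe, Subgroup.coe_mul, Subgroup.coe_inv]
      group
    rw [e]
    exact hM.conj_mem m hm _
  · intro hy
    have hm : (⟨t * t, htt⟩ : K)⁻¹ * y * (⟨t * t, htt⟩ : K)⁻¹⁻¹ ∈ M := hM.conj_mem y hy _
    refine ⟨cj K t ((⟨t * t, htt⟩ : K)⁻¹ * y * (⟨t * t, htt⟩ : K)⁻¹⁻¹), ⟨_, hm, rfl⟩, ?_⟩
    apply Subtype.ext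
    simp only [cj_coe, Subgroup.coe_mul, Subgroup.coe_inv]
    group

/-- A normal subgroup of index two whose order is not a square is simple, if every nontrivial normal
subgroup of the whole group contains it. -/
theorem simple_of_index_two [Finite G] (K : Subgroup G) [hKn : K.Normal] (hidx : K.index = 2)
    (hA : ∀ N : Subgroup G, N.Normal → N ≠ ⊥ → K ≤ N)
    (hsq : ∀ m : ℕ, m * m ≠ Nat.card K) (hnt : K ≠ ⊥) : IsSimpleGroup K := by
  classical
  have hntK : Nontrivial K := (Subgroup.nontrivial_iff_ne_bot K).2 hnt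
  refine { toNontrivial := hntK, eq_bot_or_eq_top_of_normal := ?_ }
  intro M hM
  by_cases hbot : M = ⊥
  · exact Or.inl hbot
  right
  obtain ⟨t, ht⟩ : ∃ t : G, t ∉ K := by
    by_contra hcon
    push Not at hcon
    have : K = ⊤ := eq_top_iff.2 (fun g _ => hcon g)
    rw [this, Subgroup.index_top] at hidx
    omega
  set Mt : Subgroup K := M.map (cj K t) with hMt
  have hMtn : Mt.Normal := hM.map (cj K t) (cj_surjective K t)
  have hMtt : Mt.map (cj K t) = M := map_cj_cj K hidx t M hM
  -- a subgroup of `K` whose image in `G` contains `K` is everything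
  have htop : ∀ S : Subgroup K, K ≤ S.map K.subtype → S = ⊤ := by
    intro S hS
    rw [eq_top_iff]
    intro y _
    obtain ⟨s, hs, hsy⟩ := Subgroup.mem_map.1 (hS y.2)
    have : s = y := Subtype.ext hsy
    rwa [← this]
  have hne : ∀ S : Subgroup K, S ≠ ⊥ → S.map K.subtype ≠ ⊥ := by
    intro S hS hcon
    apply hS
    rw [Subgroup.map_eq_bot_iff_of_injective _ K.subtype_injective] at hcon
    exact hcon
  -- the join
  have hsupinv : (M ⊔ Mt).map (cj K t) = M ⊔ Mt := by
    rw [Subgroup.map_sup, hMtt, ← hMt, sup_comm]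
  have hsupn : ((M ⊔ Mt).map K.subtype).Normal :=
    normal_map_subtype K hidx t ht (M ⊔ Mt) inferInstance hsupinv
  have hsup : M ⊔ Mt = ⊤ := by
    apply htop
    apply hA _ hsupn
    apply hne
    intro hcon
    apply hbot
    rw [eq_bot_iff, ← hcon]
    exact le_sup_left
  -- the meet
  have hinfinv : (M ⊓ Mt).map (cj K t) = M ⊓ Mt := by
    rw [Subgroup.map_inf _ _ _ (cj_injective K t), hMtt, ← hMt, inf_comm]
  have hinfn : ((M ⊓ Mt).map K.subtype).Normal :=
    normal_map_subtype K hidx t ht (M ⊓ Mt) inferInstance hinfinv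
  by_cases hinf : M ⊓ Mt = ⊥
  · exfalso
    have hdisj : Disjoint M Mt := disjoint_iff.2 hinf
    have hmul : (M : Set K) * (Mt : Set K) = Set.univ := by
      rw [← Subgroup.mul_normal M Mt, hsup]
      rfl
    have hcomp := Subgroup.isComplement'_of_disjoint_and_mul_eq_univ hdisj hmul
    have hcard := hcomp.card_mul_card
    have hMtcard : Nat.card Mt = Nat.card M := by
      rw [hMt]
      exact Nat.card_congr (Subgroup.equivMapOfInjective M (cj K t) (cj_injective K t)).toEquiv.symm
    rw [hMtcard] at hcard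
    exact hsq _ hcard
  · have h1 : M ⊓ Mt = ⊤ := by
      apply htop
      exact hA _ hinfn (hne _ hinf)
    rw [eq_top_iff, ← h1]
    exact inf_le_left

end Cfsg.Agent.Lib.Helper4.IdxTwo
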