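import Mathlib
import Cfsg.Agent.Lib.Helper4.IdxTwoSimple
import Cfsg.Agent.Lib.Helper4.TC13
import Cfsg.Agent.Lib.Helper4.TC16

/-!
Verified Todd–Coxeter logs, part 22: simplicity of the commutator subgroup of index two of a presented
group with a faithful primitive coset action.
-/

namespace Cfsg.Agent.Lib.Helper4.TC

open Log Cfsg.Spor MulAction

variable {α : Type} [DecidableEq α]

namespace Inst

variable {P : CoxEnc α} {T : Tab} {D : Log} {subs : List (List ℕ)}

/-- Simplicity of the commutator subgroup of index two of the presented group. -/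
theorem commutator_simple (I : Inst P T D subs) (hinj : Function.Injective I.phi) (hfin : Finite P.Grp)
    (sizes : List ℕ) (hsum : sizes.sum = T.N)
    (horb : OrbCond (subG P subs) I.equiv sizes 0)
    (hdiv : ∀ s ∈ subsetSums sizes, s ∣ T.N → s ≤ 1 ∨ s = T.N)
    (q : ℕ) (hq : q.Prime) (hqH : ¬ q ∣ Nat.card (subG P subs))
    (w : List ℕ) (hw : ∀ x ∈ w, x < P.k)
    (hwq : ∀ i, i < T.N → Tab.relActOK T D (List.replicate q w).flatten i = true)
    (hnc : commutator P.Grp ≤ Subgroup.normalClosure {wordP P.gR w})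
    (hidx : (commutator P.Grp).index = 2)
    (hsq : ∀ m : ℕ, m * m ≠ Nat.card (commutator P.Grp)) :
    IsSimpleGroup (commutator P.Grp) := by
  have hprim : MulAction.IsPreprimitive P.Grp (P.Grp ⧸ subG P subs) := by
    apply preprimitive_of_intervals (subG P subs) I.equiv sizes I.hC.hN hsum _ horb hdiv
    intro h hh
    rw [I.smul_equiv, I.hfix h hh]
  have hfaith : ∀ γ : P.Grp, (∀ c : P.Grp ⧸ subG P subs, γ • c = c) → γ = 1 := by
    intro γ hγ
    apply hinj
    rw [map_one]
    ext i
    have := hγ (I.equiv i)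
    rw [I.smul_equiv] at this
    have := I.equiv.injective this
    rw [this]
    rfl
  have hxq : (wordP P.gR w) ^ q = 1 :=
    I.pow_eq_one hinj w (fun x hx => by rw [I.hk]; exact hw x hx) q hwq
  have hnt : commutator P.Grp ≠ ⊥ := by
    intro hcon
    apply hsq 1
    rw [hcon, Subgroup.card_bot]
  apply IdxTwo.simple_of_index_two (commutator P.Grp) hidx ?_ hsq hnt
  intro N hN hbot
  have hx := IdxTwo.mem_of_primitive (subG P subs) hprim hfaith q hq hqH (wordP P.gR w) hxq N hN hbot
  exact le_trans hnc (Subgroup.normalClosure_le_normal (Set.singleton_subset_iff.2 hx))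

end Inst

end Cfsg.Agent.Lib.Helper4.TC

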