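import Cfsg.Agent.Lib.Helper4.TCD_Fi24L_Acc

namespace Cfsg.Agent.Lib.Helper4.TCD.Fi24L

open Cfsg.Agent.Lib.Helper4.TC Cfsg.Agent.Lib.Helper4.TCD.Fi24a

set_option maxRecDepth 100000
set_option Elab.async false

theorem c_p12_50 : allRange chk12 44750 895 = true := by decide +kernel
theorem c_p12_51 : allRange chk12 45645 895 = true := by decide +kernel
theorem c_p12_52 : allRange chk12 46540 895 = true := by decide +kernel
theorem c_p12_53 : allRange chk12 47435 895 = true := by decide +kernel
theorem c_p12_54 : allRange chk12 48330 895 = true := by decide +kernel
theorem c_p12_55 : allRange chk12 49225 895 = true := by decide +kernel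
theorem c_p12_56 : allRange chk12 50120 895 = true := by decide +kernel
theorem c_p12_57 : allRange chk12 51015 895 = true := by decide +kernel
theorem c_p12_58 : allRange chk12 51910 895 = true := by decide +kernel
theorem c_p12_59 : allRange chk12 52805 895 = true := by decide +kernel
theorem c_p12_60 : allRange chk12 53700 895 = true := by decide +kernel
theorem c_p12_61 : allRange chk12 54595 895 = true := by decide +kernel
theorem c_p12_62 : allRange chk12 55490 895 = true := by decide +kernel
theorem c_p12_63 : allRange chk12 56385 895 = true := by decide +kernel
theorem c_p12_64 : allRange chk12 57280 895 = true := by decide +kernel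
theorem c_p12_65 : allRange chk12 58175 895 = true := by decide +kernel
theorem c_p12_66 : allRange chk12 59070 895 = true := by decide +kernel
theorem c_p12_67 : allRange chk12 59965 895 = true := by decide +kernel
theorem c_p12_68 : allRange chk12 60860 895 = true := by decide +kernel
theorem c_p12_69 : allRange chk12 61755 895 = true := by decide +kernel
theorem c_p12_70 : allRange chk12 62650 895 = true := by decide +kernel
theorem c_p12_71 : allRange chk12 63545 895 = true := by decide +kernel
theorem c_p12_72 : allRange chk12 64440 895 = true := by decide +kernel
theorem c_p12_73 : allRange chk12 65335 895 = true := by decide +kernel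
theorem c_p12_74 : allRange chk12 66230 895 = true := by decide +kernel
theorem c_p12_75 : allRange chk12 67125 895 = true := by decide +kernel
theorem c_p12_76 : allRange chk12 68020 895 = true := by decide +kernel
theorem c_p12_77 : allRange chk12 68915 895 = true := by decide +kernel
theorem c_p12_78 : allRange chk12 69810 895 = true := by decide +kernel
theorem c_p12_79 : allRange chk12 70705 895 = true := by decide +kernel
theorem c_p12_80 : allRange chk12 71600 895 = true := by decide +kernel
theorem c_p12_81 : allRange chk12 72495 895 = true := by decide +kernel
theorem c_p12_82 : allRange chk12 73390 895 = true := by decide +kernel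
theorem c_p12_83 : allRange chk12 74285 895 = true := by decide +kernel
theorem c_p12_84 : allRange chk12 75180 895 = true := by decide +kernel
theorem c_p12_85 : allRange chk12 76075 895 = true := by decide +kernel
theorem c_p12_86 : allRange chk12 76970 895 = true := by decide +kernel
theorem c_p12_87 : allRange chk12 77865 895 = true := by decide +kernel
theorem c_p12_88 : allRange chk12 78760 895 = true := by decide +kernel
theorem c_p12_89 : allRange chk12 79655 895 = true := by decide +kernel
theorem c_p12_90 : allRange chk12 80550 895 = true := by decide +kernel
theorem c_p12_91 : allRange chk12 81445 895 = true := by decide +kernel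
theorem c_p12_92 : allRange chk12 82340 895 = true := by decide +kernel
theorem c_p12_93 : allRange chk12 83235 895 = true := by decide +kernel
theorem c_p12_94 : allRange chk12 84130 895 = true := by decide +kernel
theorem c_p12_95 : allRange chk12 85025 895 = true := by decide +kernel
theorem c_p12_96 : allRange chk12 85920 895 = true := by decide +kernel
theorem c_p12_97 : allRange chk12 86815 895 = true := by decide +kernel
theorem c_p12_98 : allRange chk12 87710 895 = true := by decide +kernel
theorem c_p12_99 : allRange chk12 88605 895 = true := by decide +kernel

end Cfsg.Agent.Lib.Helper4.TCD.Fi24L
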