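import Cfsg.Agent.Lib.Helper4.TCD_Fi24L_Acc

namespace Cfsg.Agent.Lib.Helper4.TCD.Fi24L

open Cfsg.Agent.Lib.Helper4.TC Cfsg.Agent.Lib.Helper4.TCD.Fi24a

set_option maxRecDepth 100000
set_option Elab.async false

theorem c_p14_13 : allRange chk14 20514 1578 = true := by decide +kernel
theorem c_p14_14 : allRange chk14 22092 1578 = true := by decide +kernel
theorem c_p14_15 : allRange chk14 23670 1578 = true := by decide +kernel
theorem c_p14_16 : allRange chk14 25248 1578 = true := by decide +kernel
theorem c_p14_17 : allRange chk14 26826 1578 = true := by decide +kernel
theorem c_p14_18 : allRange chk14 28404 1578 = true := by decide +kernel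
theorem c_p14_19 : allRange chk14 29982 1578 = true := by decide +kernel
theorem c_p14_20 : allRange chk14 31560 1578 = true := by decide +kernel
theorem c_p14_21 : allRange chk14 33138 1578 = true := by decide +kernel
theorem c_p14_22 : allRange chk14 34716 1578 = true := by decide +kernel
theorem c_p14_23 : allRange chk14 36294 1578 = true := by decide +kernel
theorem c_p14_24 : allRange chk14 37872 1578 = true := by decide +kernel
theorem c_p14_25 : allRange chk14 39450 1578 = true := by decide +kernel
theorem c_p14_26 : allRange chk14 41028 1578 = true := by decide +kernel
theorem c_p14_27 : allRange chk14 42606 1578 = true := by decide +kernel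
theorem c_p14_28 : allRange chk14 44184 1578 = true := by decide +kernel
theorem c_p14_29 : allRange chk14 45762 1578 = true := by decide +kernel
theorem c_p14_30 : allRange chk14 47340 1578 = true := by decide +kernel
theorem c_p14_31 : allRange chk14 48918 1578 = true := by decide +kernel
theorem c_p14_32 : allRange chk14 50496 1578 = true := by decide +kernel
theorem c_p14_33 : allRange chk14 52074 1578 = true := by decide +kernel
theorem c_p14_34 : allRange chk14 53652 1578 = true := by decide +kernel
theorem c_p14_35 : allRange chk14 55230 1578 = true := by decide +kernel
theorem c_p14_36 : allRange chk14 56808 1578 = true := by decide +kernel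
theorem c_p14_37 : allRange chk14 58386 1578 = true := by decide +kernel
theorem c_p14_38 : allRange chk14 59964 1578 = true := by decide +kernel
theorem c_p14_39 : allRange chk14 61542 1578 = true := by decide +kernel
theorem c_p14_40 : allRange chk14 63120 1578 = true := by decide +kernel
theorem c_p14_41 : allRange chk14 64698 1578 = true := by decide +kernel
theorem c_p14_42 : allRange chk14 66276 1578 = true := by decide +kernel
theorem c_p14_43 : allRange chk14 67854 1578 = true := by decide +kernel
theorem c_p14_44 : allRange chk14 69432 1578 = true := by decide +kernel
theorem c_p14_45 : allRange chk14 71010 1578 = true := by decide +kernel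
theorem c_p14_46 : allRange chk14 72588 1578 = true := by decide +kernel
theorem c_p14_47 : allRange chk14 74166 1578 = true := by decide +kernel
theorem c_p14_48 : allRange chk14 75744 1578 = true := by decide +kernel
theorem c_p14_49 : allRange chk14 77322 1578 = true := by decide +kernel
theorem c_p14_50 : allRange chk14 78900 1578 = true := by decide +kernel
theorem c_p14_51 : allRange chk14 80478 1578 = true := by decide +kernel
theorem c_p14_52 : allRange chk14 82056 1578 = true := by decide +kernel
theorem c_p14_53 : allRange chk14 83634 1578 = true := by decide +kernel
theorem c_p14_54 : allRange chk14 85212 1578 = true := by decide +kernel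
theorem c_p14_55 : allRange chk14 86790 1578 = true := by decide +kernel
theorem c_p14_56 : allRange chk14 88368 1578 = true := by decide +kernel
theorem c_p14_57 : allRange chk14 89946 1578 = true := by decide +kernel
theorem c_p14_58 : allRange chk14 91524 1578 = true := by decide +kernel
theorem c_p14_59 : allRange chk14 93102 1578 = true := by decide +kernel
theorem c_p14_60 : allRange chk14 94680 1578 = true := by decide +kernel
theorem c_p14_61 : allRange chk14 96258 1578 = true := by decide +kernel
theorem c_p14_62 : allRange chk14 97836 1578 = true := by decide +kernel

end Cfsg.Agent.Lib.Helper4.TCD.Fi24L
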