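import Cfsg.Agent.Lib.Helper4.TCD_Fi24L_Acc

namespace Cfsg.Agent.Lib.Helper4.TCD.Fi24L

open Cfsg.Agent.Lib.Helper4.TC Cfsg.Agent.Lib.Helper4.TCD.Fi24a

set_option maxRecDepth 100000
set_option Elab.async false

theorem c_p14_63 : allRange chk14 99414 1578 = true := by decide +kernel
theorem c_p14_64 : allRange chk14 100992 1578 = true := by decide +kernel
theorem c_p14_65 : allRange chk14 102570 1578 = true := by decide +kernel
theorem c_p14_66 : allRange chk14 104148 1578 = true := by decide +kernel
theorem c_p14_67 : allRange chk14 105726 1578 = true := by decide +kernel
theorem c_p14_68 : allRange chk14 107304 1578 = true := by decide +kernel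
theorem c_p14_69 : allRange chk14 108882 1578 = true := by decide +kernel
theorem c_p14_70 : allRange chk14 110460 1578 = true := by decide +kernel
theorem c_p14_71 : allRange chk14 112038 1578 = true := by decide +kernel
theorem c_p14_72 : allRange chk14 113616 1578 = true := by decide +kernel
theorem c_p14_73 : allRange chk14 115194 1578 = true := by decide +kernel
theorem c_p14_74 : allRange chk14 116772 1578 = true := by decide +kernel
theorem c_p14_75 : allRange chk14 118350 1578 = true := by decide +kernel
theorem c_p14_76 : allRange chk14 119928 1578 = true := by decide +kernel
theorem c_p14_77 : allRange chk14 121506 1578 = true := by decide +kernel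
theorem c_p14_78 : allRange chk14 123084 1578 = true := by decide +kernel
theorem c_p14_79 : allRange chk14 124662 1578 = true := by decide +kernel
theorem c_p14_80 : allRange chk14 126240 1578 = true := by decide +kernel
theorem c_p14_81 : allRange chk14 127818 1578 = true := by decide +kernel
theorem c_p14_82 : allRange chk14 129396 1578 = true := by decide +kernel
theorem c_p14_83 : allRange chk14 130974 1578 = true := by decide +kernel
theorem c_p14_84 : allRange chk14 132552 1578 = true := by decide +kernel
theorem c_p14_85 : allRange chk14 134130 1578 = true := by decide +kernel
theorem c_p14_86 : allRange chk14 135708 1578 = true := by decide +kernel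
theorem c_p14_87 : allRange chk14 137286 1578 = true := by decide +kernel
theorem c_p14_88 : allRange chk14 138864 1578 = true := by decide +kernel
theorem c_p14_89 : allRange chk14 140442 1578 = true := by decide +kernel
theorem c_p14_90 : allRange chk14 142020 1578 = true := by decide +kernel
theorem c_p14_91 : allRange chk14 143598 1578 = true := by decide +kernel
theorem c_p14_92 : allRange chk14 145176 1578 = true := by decide +kernel
theorem c_p14_93 : allRange chk14 146754 1578 = true := by decide +kernel
theorem c_p14_94 : allRange chk14 148332 1578 = true := by decide +kernel
theorem c_p14_95 : allRange chk14 149910 1578 = true := by decide +kernel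
theorem c_p14_96 : allRange chk14 151488 1578 = true := by decide +kernel
theorem c_p14_97 : allRange chk14 153066 1578 = true := by decide +kernel
theorem c_p14_98 : allRange chk14 154644 1578 = true := by decide +kernel
theorem c_p14_99 : allRange chk14 156222 1578 = true := by decide +kernel
theorem c_p14_100 : allRange chk14 157800 1578 = true := by decide +kernel
theorem c_p14_101 : allRange chk14 159378 1578 = true := by decide +kernel
theorem c_p14_102 : allRange chk14 160956 1578 = true := by decide +kernel
theorem c_p14_103 : allRange chk14 162534 1578 = true := by decide +kernel
theorem c_p14_104 : allRange chk14 164112 1578 = true := by decide +kernel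
theorem c_p14_105 : allRange chk14 165690 1578 = true := by decide +kernel
theorem c_p14_106 : allRange chk14 167268 1578 = true := by decide +kernel
theorem c_p14_107 : allRange chk14 168846 1578 = true := by decide +kernel
theorem c_p14_108 : allRange chk14 170424 1578 = true := by decide +kernel
theorem c_p14_109 : allRange chk14 172002 1578 = true := by decide +kernel
theorem c_p14_110 : allRange chk14 173580 1578 = true := by decide +kernel
theorem c_p14_111 : allRange chk14 175158 1578 = true := by decide +kernel
theorem c_p14_112 : allRange chk14 176736 1578 = true := by decide +kernel

end Cfsg.Agent.Lib.Helper4.TCD.Fi24L
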