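import Cfsg.Agent.Lib.Helper4.TCD_Fi24L_Acc

namespace Cfsg.Agent.Lib.Helper4.TCD.Fi24L

open Cfsg.Agent.Lib.Helper4.TC Cfsg.Agent.Lib.Helper4.TCD.Fi24a

set_option maxRecDepth 100000
set_option Elab.async false

theorem c_p14_113 : allRange chk14 178314 1578 = true := by decide +kernel
theorem c_p14_114 : allRange chk14 179892 1578 = true := by decide +kernel
theorem c_p14_115 : allRange chk14 181470 1578 = true := by decide +kernel
theorem c_p14_116 : allRange chk14 183048 1578 = true := by decide +kernel
theorem c_p14_117 : allRange chk14 184626 1578 = true := by decide +kernel
theorem c_p14_118 : allRange chk14 186204 1578 = true := by decide +kernel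
theorem c_p14_119 : allRange chk14 187782 1578 = true := by decide +kernel
theorem c_p14_120 : allRange chk14 189360 1578 = true := by decide +kernel
theorem c_p14_121 : allRange chk14 190938 1578 = true := by decide +kernel
theorem c_p14_122 : allRange chk14 192516 1578 = true := by decide +kernel
theorem c_p14_123 : allRange chk14 194094 1578 = true := by decide +kernel
theorem c_p14_124 : allRange chk14 195672 1578 = true := by decide +kernel
theorem c_p14_125 : allRange chk14 197250 1578 = true := by decide +kernel
theorem c_p14_126 : allRange chk14 198828 1578 = true := by decide +kernel
theorem c_p14_127 : allRange chk14 200406 1578 = true := by decide +kernel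
theorem c_p14_128 : allRange chk14 201984 1578 = true := by decide +kernel
theorem c_p14_129 : allRange chk14 203562 1578 = true := by decide +kernel
theorem c_p14_130 : allRange chk14 205140 1578 = true := by decide +kernel
theorem c_p14_131 : allRange chk14 206718 1578 = true := by decide +kernel
theorem c_p14_132 : allRange chk14 208296 1578 = true := by decide +kernel
theorem c_p14_133 : allRange chk14 209874 1578 = true := by decide +kernel
theorem c_p14_134 : allRange chk14 211452 1578 = true := by decide +kernel
theorem c_p14_135 : allRange chk14 213030 1578 = true := by decide +kernel
theorem c_p14_136 : allRange chk14 214608 1578 = true := by decide +kernel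
theorem c_p14_137 : allRange chk14 216186 1578 = true := by decide +kernel
theorem c_p14_138 : allRange chk14 217764 1578 = true := by decide +kernel
theorem c_p14_139 : allRange chk14 219342 1578 = true := by decide +kernel
theorem c_p14_140 : allRange chk14 220920 1578 = true := by decide +kernel
theorem c_p14_141 : allRange chk14 222498 1578 = true := by decide +kernel
theorem c_p14_142 : allRange chk14 224076 1578 = true := by decide +kernel
theorem c_p14_143 : allRange chk14 225654 1578 = true := by decide +kernel
theorem c_p14_144 : allRange chk14 227232 1578 = true := by decide +kernel
theorem c_p14_145 : allRange chk14 228810 1578 = true := by decide +kernel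
theorem c_p14_146 : allRange chk14 230388 1578 = true := by decide +kernel
theorem c_p14_147 : allRange chk14 231966 1578 = true := by decide +kernel
theorem c_p14_148 : allRange chk14 233544 1578 = true := by decide +kernel
theorem c_p14_149 : allRange chk14 235122 1578 = true := by decide +kernel
theorem c_p14_150 : allRange chk14 236700 1578 = true := by decide +kernel
theorem c_p14_151 : allRange chk14 238278 1578 = true := by decide +kernel
theorem c_p14_152 : allRange chk14 239856 1578 = true := by decide +kernel
theorem c_p14_153 : allRange chk14 241434 1578 = true := by decide +kernel
theorem c_p14_154 : allRange chk14 243012 1578 = true := by decide +kernel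
theorem c_p14_155 : allRange chk14 244590 1578 = true := by decide +kernel
theorem c_p14_156 : allRange chk14 246168 1578 = true := by decide +kernel
theorem c_p14_157 : allRange chk14 247746 1578 = true := by decide +kernel
theorem c_p14_158 : allRange chk14 249324 1578 = true := by decide +kernel
theorem c_p14_159 : allRange chk14 250902 1578 = true := by decide +kernel
theorem c_p14_160 : allRange chk14 252480 1578 = true := by decide +kernel
theorem c_p14_161 : allRange chk14 254058 1578 = true := by decide +kernel
theorem c_p14_162 : allRange chk14 255636 1578 = true := by decide +kernel

end Cfsg.Agent.Lib.Helper4.TCD.Fi24L
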