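import Cfsg.Agent.Lib.Helper4.TCD_Fi24L_Acc

namespace Cfsg.Agent.Lib.Helper4.TCD.Fi24L

open Cfsg.Agent.Lib.Helper4.TC Cfsg.Agent.Lib.Helper4.TCD.Fi24a

set_option maxRecDepth 100000
set_option Elab.async false

theorem c_p15_18 : allRange chk15 270000 15000 = true := by decide +kernel
theorem c_p15_19 : allRange chk15 285000 15000 = true := by decide +kernel
theorem c_p15_20 : allRange chk15 300000 6936 = true := by decide +kernel
theorem c_p16_0 : allRange chk16 0 2222 = true := by decide +kernel
theorem c_p16_1 : allRange chk16 2222 2222 = true := by decide +kernel
theorem c_p16_2 : allRange chk16 4444 2222 = true := by decide +kernel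
theorem c_p16_3 : allRange chk16 6666 2222 = true := by decide +kernel
theorem c_p16_4 : allRange chk16 8888 2222 = true := by decide +kernel
theorem c_p16_5 : allRange chk16 11110 2222 = true := by decide +kernel
theorem c_p16_6 : allRange chk16 13332 2222 = true := by decide +kernel
theorem c_p16_7 : allRange chk16 15554 2222 = true := by decide +kernel
theorem c_p16_8 : allRange chk16 17776 2222 = true := by decide +kernel
theorem c_p16_9 : allRange chk16 19998 2222 = true := by decide +kernel
theorem c_p16_10 : allRange chk16 22220 2222 = true := by decide +kernel
theorem c_p16_11 : allRange chk16 24442 2222 = true := by decide +kernel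
theorem c_p16_12 : allRange chk16 26664 2222 = true := by decide +kernel
theorem c_p16_13 : allRange chk16 28886 2222 = true := by decide +kernel
theorem c_p16_14 : allRange chk16 31108 2222 = true := by decide +kernel
theorem c_p16_15 : allRange chk16 33330 2222 = true := by decide +kernel
theorem c_p16_16 : allRange chk16 35552 2222 = true := by decide +kernel
theorem c_p16_17 : allRange chk16 37774 2222 = true := by decide +kernel
theorem c_p16_18 : allRange chk16 39996 2222 = true := by decide +kernel
theorem c_p16_19 : allRange chk16 42218 2222 = true := by decide +kernel
theorem c_p16_20 : allRange chk16 44440 2222 = true := by decide +kernel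
theorem c_p16_21 : allRange chk16 46662 2222 = true := by decide +kernel
theorem c_p16_22 : allRange chk16 48884 2222 = true := by decide +kernel
theorem c_p16_23 : allRange chk16 51106 2222 = true := by decide +kernel
theorem c_p16_24 : allRange chk16 53328 2222 = true := by decide +kernel
theorem c_p16_25 : allRange chk16 55550 2222 = true := by decide +kernel
theorem c_p16_26 : allRange chk16 57772 2222 = true := by decide +kernel
theorem c_p16_27 : allRange chk16 59994 2222 = true := by decide +kernel
theorem c_p16_28 : allRange chk16 62216 2222 = true := by decide +kernel
theorem c_p16_29 : allRange chk16 64438 2222 = true := by decide +kernel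
theorem c_p16_30 : allRange chk16 66660 2222 = true := by decide +kernel
theorem c_p16_31 : allRange chk16 68882 2222 = true := by decide +kernel
theorem c_p16_32 : allRange chk16 71104 2222 = true := by decide +kernel
theorem c_p16_33 : allRange chk16 73326 2222 = true := by decide +kernel
theorem c_p16_34 : allRange chk16 75548 2222 = true := by decide +kernel
theorem c_p16_35 : allRange chk16 77770 2222 = true := by decide +kernel
theorem c_p16_36 : allRange chk16 79992 2222 = true := by decide +kernel
theorem c_p16_37 : allRange chk16 82214 2222 = true := by decide +kernel
theorem c_p16_38 : allRange chk16 84436 2222 = true := by decide +kernel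
theorem c_p16_39 : allRange chk16 86658 2222 = true := by decide +kernel
theorem c_p16_40 : allRange chk16 88880 2222 = true := by decide +kernel
theorem c_p16_41 : allRange chk16 91102 2222 = true := by decide +kernel
theorem c_p16_42 : allRange chk16 93324 2222 = true := by decide +kernel
theorem c_p16_43 : allRange chk16 95546 2222 = true := by decide +kernel
theorem c_p16_44 : allRange chk16 97768 2222 = true := by decide +kernel
theorem c_p16_45 : allRange chk16 99990 2222 = true := by decide +kernel
theorem c_p16_46 : allRange chk16 102212 2222 = true := by decide +kernel

end Cfsg.Agent.Lib.Helper4.TCD.Fi24L
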