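import Cfsg.Agent.Lib.Helper4.TCD_Fi24L_Acc

namespace Cfsg.Agent.Lib.Helper4.TCD.Fi24L

open Cfsg.Agent.Lib.Helper4.TC Cfsg.Agent.Lib.Helper4.TCD.Fi24a

set_option maxRecDepth 100000
set_option Elab.async false

theorem c_p16_47 : allRange chk16 104434 2222 = true := by decide +kernel
theorem c_p16_48 : allRange chk16 106656 2222 = true := by decide +kernel
theorem c_p16_49 : allRange chk16 108878 2222 = true := by decide +kernel
theorem c_p16_50 : allRange chk16 111100 2222 = true := by decide +kernel
theorem c_p16_51 : allRange chk16 113322 2222 = true := by decide +kernel
theorem c_p16_52 : allRange chk16 115544 2222 = true := by decide +kernel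
theorem c_p16_53 : allRange chk16 117766 2222 = true := by decide +kernel
theorem c_p16_54 : allRange chk16 119988 2222 = true := by decide +kernel
theorem c_p16_55 : allRange chk16 122210 2222 = true := by decide +kernel
theorem c_p16_56 : allRange chk16 124432 2222 = true := by decide +kernel
theorem c_p16_57 : allRange chk16 126654 2222 = true := by decide +kernel
theorem c_p16_58 : allRange chk16 128876 2222 = true := by decide +kernel
theorem c_p16_59 : allRange chk16 131098 2222 = true := by decide +kernel
theorem c_p16_60 : allRange chk16 133320 2222 = true := by decide +kernel
theorem c_p16_61 : allRange chk16 135542 2222 = true := by decide +kernel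
theorem c_p16_62 : allRange chk16 137764 2222 = true := by decide +kernel
theorem c_p16_63 : allRange chk16 139986 2222 = true := by decide +kernel
theorem c_p16_64 : allRange chk16 142208 2222 = true := by decide +kernel
theorem c_p16_65 : allRange chk16 144430 2222 = true := by decide +kernel
theorem c_p16_66 : allRange chk16 146652 2222 = true := by decide +kernel
theorem c_p16_67 : allRange chk16 148874 2222 = true := by decide +kernel
theorem c_p16_68 : allRange chk16 151096 2222 = true := by decide +kernel
theorem c_p16_69 : allRange chk16 153318 2222 = true := by decide +kernel
theorem c_p16_70 : allRange chk16 155540 2222 = true := by decide +kernel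
theorem c_p16_71 : allRange chk16 157762 2222 = true := by decide +kernel
theorem c_p16_72 : allRange chk16 159984 2222 = true := by decide +kernel
theorem c_p16_73 : allRange chk16 162206 2222 = true := by decide +kernel
theorem c_p16_74 : allRange chk16 164428 2222 = true := by decide +kernel
theorem c_p16_75 : allRange chk16 166650 2222 = true := by decide +kernel
theorem c_p16_76 : allRange chk16 168872 2222 = true := by decide +kernel
theorem c_p16_77 : allRange chk16 171094 2222 = true := by decide +kernel
theorem c_p16_78 : allRange chk16 173316 2222 = true := by decide +kernel
theorem c_p16_79 : allRange chk16 175538 2222 = true := by decide +kernel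
theorem c_p16_80 : allRange chk16 177760 2222 = true := by decide +kernel
theorem c_p16_81 : allRange chk16 179982 2222 = true := by decide +kernel
theorem c_p16_82 : allRange chk16 182204 2222 = true := by decide +kernel
theorem c_p16_83 : allRange chk16 184426 2222 = true := by decide +kernel
theorem c_p16_84 : allRange chk16 186648 2222 = true := by decide +kernel
theorem c_p16_85 : allRange chk16 188870 2222 = true := by decide +kernel
theorem c_p16_86 : allRange chk16 191092 2222 = true := by decide +kernel
theorem c_p16_87 : allRange chk16 193314 2222 = true := by decide +kernel
theorem c_p16_88 : allRange chk16 195536 2222 = true := by decide +kernel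
theorem c_p16_89 : allRange chk16 197758 2222 = true := by decide +kernel
theorem c_p16_90 : allRange chk16 199980 2222 = true := by decide +kernel
theorem c_p16_91 : allRange chk16 202202 2222 = true := by decide +kernel
theorem c_p16_92 : allRange chk16 204424 2222 = true := by decide +kernel
theorem c_p16_93 : allRange chk16 206646 2222 = true := by decide +kernel
theorem c_p16_94 : allRange chk16 208868 2222 = true := by decide +kernel
theorem c_p16_95 : allRange chk16 211090 2222 = true := by decide +kernel
theorem c_p16_96 : allRange chk16 213312 2222 = true := by decide +kernel

end Cfsg.Agent.Lib.Helper4.TCD.Fi24L
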