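import Cfsg.Agent.Lib.Helper4.TCD_Fi24L_Acc

namespace Cfsg.Agent.Lib.Helper4.TCD.Fi24L

open Cfsg.Agent.Lib.Helper4.TC Cfsg.Agent.Lib.Helper4.TCD.Fi24a

set_option maxRecDepth 100000
set_option Elab.async false

theorem c_p16_97 : allRange chk16 215534 2222 = true := by decide +kernel
theorem c_p16_98 : allRange chk16 217756 2222 = true := by decide +kernel
theorem c_p16_99 : allRange chk16 219978 2222 = true := by decide +kernel
theorem c_p16_100 : allRange chk16 222200 2222 = true := by decide +kernel
theorem c_p16_101 : allRange chk16 224422 2222 = true := by decide +kernel
theorem c_p16_102 : allRange chk16 226644 2222 = true := by decide +kernel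
theorem c_p16_103 : allRange chk16 228866 2222 = true := by decide +kernel
theorem c_p16_104 : allRange chk16 231088 2222 = true := by decide +kernel
theorem c_p16_105 : allRange chk16 233310 2222 = true := by decide +kernel
theorem c_p16_106 : allRange chk16 235532 2222 = true := by decide +kernel
theorem c_p16_107 : allRange chk16 237754 2222 = true := by decide +kernel
theorem c_p16_108 : allRange chk16 239976 2222 = true := by decide +kernel
theorem c_p16_109 : allRange chk16 242198 2222 = true := by decide +kernel
theorem c_p16_110 : allRange chk16 244420 2222 = true := by decide +kernel
theorem c_p16_111 : allRange chk16 246642 2222 = true := by decide +kernel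
theorem c_p16_112 : allRange chk16 248864 2222 = true := by decide +kernel
theorem c_p16_113 : allRange chk16 251086 2222 = true := by decide +kernel
theorem c_p16_114 : allRange chk16 253308 2222 = true := by decide +kernel
theorem c_p16_115 : allRange chk16 255530 2222 = true := by decide +kernel
theorem c_p16_116 : allRange chk16 257752 2222 = true := by decide +kernel
theorem c_p16_117 : allRange chk16 259974 2222 = true := by decide +kernel
theorem c_p16_118 : allRange chk16 262196 2222 = true := by decide +kernel
theorem c_p16_119 : allRange chk16 264418 2222 = true := by decide +kernel
theorem c_p16_120 : allRange chk16 266640 2222 = true := by decide +kernel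
theorem c_p16_121 : allRange chk16 268862 2222 = true := by decide +kernel
theorem c_p16_122 : allRange chk16 271084 2222 = true := by decide +kernel
theorem c_p16_123 : allRange chk16 273306 2222 = true := by decide +kernel
theorem c_p16_124 : allRange chk16 275528 2222 = true := by decide +kernel
theorem c_p16_125 : allRange chk16 277750 2222 = true := by decide +kernel
theorem c_p16_126 : allRange chk16 279972 2222 = true := by decide +kernel
theorem c_p16_127 : allRange chk16 282194 2222 = true := by decide +kernel
theorem c_p16_128 : allRange chk16 284416 2222 = true := by decide +kernel
theorem c_p16_129 : allRange chk16 286638 2222 = true := by decide +kernel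
theorem c_p16_130 : allRange chk16 288860 2222 = true := by decide +kernel
theorem c_p16_131 : allRange chk16 291082 2222 = true := by decide +kernel
theorem c_p16_132 : allRange chk16 293304 2222 = true := by decide +kernel
theorem c_p16_133 : allRange chk16 295526 2222 = true := by decide +kernel
theorem c_p16_134 : allRange chk16 297748 2222 = true := by decide +kernel
theorem c_p16_135 : allRange chk16 299970 2222 = true := by decide +kernel
theorem c_p16_136 : allRange chk16 302192 2222 = true := by decide +kernel
theorem c_p16_137 : allRange chk16 304414 2222 = true := by decide +kernel
theorem c_p16_138 : allRange chk16 306636 300 = true := by decide +kernel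
theorem c_p17_0 : allRange chk17 0 1818 = true := by decide +kernel
theorem c_p17_1 : allRange chk17 1818 1818 = true := by decide +kernel
theorem c_p17_2 : allRange chk17 3636 1818 = true := by decide +kernel
theorem c_p17_3 : allRange chk17 5454 1818 = true := by decide +kernel
theorem c_p17_4 : allRange chk17 7272 1818 = true := by decide +kernel
theorem c_p17_5 : allRange chk17 9090 1818 = true := by decide +kernel
theorem c_p17_6 : allRange chk17 10908 1818 = true := by decide +kernel
theorem c_p17_7 : allRange chk17 12726 1818 = true := by decide +kernel

end Cfsg.Agent.Lib.Helper4.TCD.Fi24L
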