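import Cfsg.Agent.Lib.Helper4.TCD_Fi24L_Acc

namespace Cfsg.Agent.Lib.Helper4.TCD.Fi24L

open Cfsg.Agent.Lib.Helper4.TC Cfsg.Agent.Lib.Helper4.TCD.Fi24a

set_option maxRecDepth 100000
set_option Elab.async false

theorem c_p17_8 : allRange chk17 14544 1818 = true := by decide +kernel
theorem c_p17_9 : allRange chk17 16362 1818 = true := by decide +kernel
theorem c_p17_10 : allRange chk17 18180 1818 = true := by decide +kernel
theorem c_p17_11 : allRange chk17 19998 1818 = true := by decide +kernel
theorem c_p17_12 : allRange chk17 21816 1818 = true := by decide +kernel
theorem c_p17_13 : allRange chk17 23634 1818 = true := by decide +kernel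
theorem c_p17_14 : allRange chk17 25452 1818 = true := by decide +kernel
theorem c_p17_15 : allRange chk17 27270 1818 = true := by decide +kernel
theorem c_p17_16 : allRange chk17 29088 1818 = true := by decide +kernel
theorem c_p17_17 : allRange chk17 30906 1818 = true := by decide +kernel
theorem c_p17_18 : allRange chk17 32724 1818 = true := by decide +kernel
theorem c_p17_19 : allRange chk17 34542 1818 = true := by decide +kernel
theorem c_p17_20 : allRange chk17 36360 1818 = true := by decide +kernel
theorem c_p17_21 : allRange chk17 38178 1818 = true := by decide +kernel
theorem c_p17_22 : allRange chk17 39996 1818 = true := by decide +kernel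
theorem c_p17_23 : allRange chk17 41814 1818 = true := by decide +kernel
theorem c_p17_24 : allRange chk17 43632 1818 = true := by decide +kernel
theorem c_p17_25 : allRange chk17 45450 1818 = true := by decide +kernel
theorem c_p17_26 : allRange chk17 47268 1818 = true := by decide +kernel
theorem c_p17_27 : allRange chk17 49086 1818 = true := by decide +kernel
theorem c_p17_28 : allRange chk17 50904 1818 = true := by decide +kernel
theorem c_p17_29 : allRange chk17 52722 1818 = true := by decide +kernel
theorem c_p17_30 : allRange chk17 54540 1818 = true := by decide +kernel
theorem c_p17_31 : allRange chk17 56358 1818 = true := by decide +kernel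
theorem c_p17_32 : allRange chk17 58176 1818 = true := by decide +kernel
theorem c_p17_33 : allRange chk17 59994 1818 = true := by decide +kernel
theorem c_p17_34 : allRange chk17 61812 1818 = true := by decide +kernel
theorem c_p17_35 : allRange chk17 63630 1818 = true := by decide +kernel
theorem c_p17_36 : allRange chk17 65448 1818 = true := by decide +kernel
theorem c_p17_37 : allRange chk17 67266 1818 = true := by decide +kernel
theorem c_p17_38 : allRange chk17 69084 1818 = true := by decide +kernel
theorem c_p17_39 : allRange chk17 70902 1818 = true := by decide +kernel
theorem c_p17_40 : allRange chk17 72720 1818 = true := by decide +kernel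
theorem c_p17_41 : allRange chk17 74538 1818 = true := by decide +kernel
theorem c_p17_42 : allRange chk17 76356 1818 = true := by decide +kernel
theorem c_p17_43 : allRange chk17 78174 1818 = true := by decide +kernel
theorem c_p17_44 : allRange chk17 79992 1818 = true := by decide +kernel
theorem c_p17_45 : allRange chk17 81810 1818 = true := by decide +kernel
theorem c_p17_46 : allRange chk17 83628 1818 = true := by decide +kernel
theorem c_p17_47 : allRange chk17 85446 1818 = true := by decide +kernel
theorem c_p17_48 : allRange chk17 87264 1818 = true := by decide +kernel
theorem c_p17_49 : allRange chk17 89082 1818 = true := by decide +kernel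
theorem c_p17_50 : allRange chk17 90900 1818 = true := by decide +kernel
theorem c_p17_51 : allRange chk17 92718 1818 = true := by decide +kernel
theorem c_p17_52 : allRange chk17 94536 1818 = true := by decide +kernel
theorem c_p17_53 : allRange chk17 96354 1818 = true := by decide +kernel
theorem c_p17_54 : allRange chk17 98172 1818 = true := by decide +kernel
theorem c_p17_55 : allRange chk17 99990 1818 = true := by decide +kernel
theorem c_p17_56 : allRange chk17 101808 1818 = true := by decide +kernel
theorem c_p17_57 : allRange chk17 103626 1818 = true := by decide +kernel

end Cfsg.Agent.Lib.Helper4.TCD.Fi24L
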