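import Cfsg.Agent.Lib.Helper4.TCD_Fi24L_Acc

namespace Cfsg.Agent.Lib.Helper4.TCD.Fi24L

open Cfsg.Agent.Lib.Helper4.TC Cfsg.Agent.Lib.Helper4.TCD.Fi24a

set_option maxRecDepth 100000
set_option Elab.async false

theorem c_p17_58 : allRange chk17 105444 1818 = true := by decide +kernel
theorem c_p17_59 : allRange chk17 107262 1818 = true := by decide +kernel
theorem c_p17_60 : allRange chk17 109080 1818 = true := by decide +kernel
theorem c_p17_61 : allRange chk17 110898 1818 = true := by decide +kernel
theorem c_p17_62 : allRange chk17 112716 1818 = true := by decide +kernel
theorem c_p17_63 : allRange chk17 114534 1818 = true := by decide +kernel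
theorem c_p17_64 : allRange chk17 116352 1818 = true := by decide +kernel
theorem c_p17_65 : allRange chk17 118170 1818 = true := by decide +kernel
theorem c_p17_66 : allRange chk17 119988 1818 = true := by decide +kernel
theorem c_p17_67 : allRange chk17 121806 1818 = true := by decide +kernel
theorem c_p17_68 : allRange chk17 123624 1818 = true := by decide +kernel
theorem c_p17_69 : allRange chk17 125442 1818 = true := by decide +kernel
theorem c_p17_70 : allRange chk17 127260 1818 = true := by decide +kernel
theorem c_p17_71 : allRange chk17 129078 1818 = true := by decide +kernel
theorem c_p17_72 : allRange chk17 130896 1818 = true := by decide +kernel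
theorem c_p17_73 : allRange chk17 132714 1818 = true := by decide +kernel
theorem c_p17_74 : allRange chk17 134532 1818 = true := by decide +kernel
theorem c_p17_75 : allRange chk17 136350 1818 = true := by decide +kernel
theorem c_p17_76 : allRange chk17 138168 1818 = true := by decide +kernel
theorem c_p17_77 : allRange chk17 139986 1818 = true := by decide +kernel
theorem c_p17_78 : allRange chk17 141804 1818 = true := by decide +kernel
theorem c_p17_79 : allRange chk17 143622 1818 = true := by decide +kernel
theorem c_p17_80 : allRange chk17 145440 1818 = true := by decide +kernel
theorem c_p17_81 : allRange chk17 147258 1818 = true := by decide +kernel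
theorem c_p17_82 : allRange chk17 149076 1818 = true := by decide +kernel
theorem c_p17_83 : allRange chk17 150894 1818 = true := by decide +kernel
theorem c_p17_84 : allRange chk17 152712 1818 = true := by decide +kernel
theorem c_p17_85 : allRange chk17 154530 1818 = true := by decide +kernel
theorem c_p17_86 : allRange chk17 156348 1818 = true := by decide +kernel
theorem c_p17_87 : allRange chk17 158166 1818 = true := by decide +kernel
theorem c_p17_88 : allRange chk17 159984 1818 = true := by decide +kernel
theorem c_p17_89 : allRange chk17 161802 1818 = true := by decide +kernel
theorem c_p17_90 : allRange chk17 163620 1818 = true := by decide +kernel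
theorem c_p17_91 : allRange chk17 165438 1818 = true := by decide +kernel
theorem c_p17_92 : allRange chk17 167256 1818 = true := by decide +kernel
theorem c_p17_93 : allRange chk17 169074 1818 = true := by decide +kernel
theorem c_p17_94 : allRange chk17 170892 1818 = true := by decide +kernel
theorem c_p17_95 : allRange chk17 172710 1818 = true := by decide +kernel
theorem c_p17_96 : allRange chk17 174528 1818 = true := by decide +kernel
theorem c_p17_97 : allRange chk17 176346 1818 = true := by decide +kernel
theorem c_p17_98 : allRange chk17 178164 1818 = true := by decide +kernel
theorem c_p17_99 : allRange chk17 179982 1818 = true := by decide +kernel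
theorem c_p17_100 : allRange chk17 181800 1818 = true := by decide +kernel
theorem c_p17_101 : allRange chk17 183618 1818 = true := by decide +kernel
theorem c_p17_102 : allRange chk17 185436 1818 = true := by decide +kernel
theorem c_p17_103 : allRange chk17 187254 1818 = true := by decide +kernel
theorem c_p17_104 : allRange chk17 189072 1818 = true := by decide +kernel
theorem c_p17_105 : allRange chk17 190890 1818 = true := by decide +kernel
theorem c_p17_106 : allRange chk17 192708 1818 = true := by decide +kernel
theorem c_p17_107 : allRange chk17 194526 1818 = true := by decide +kernel

end Cfsg.Agent.Lib.Helper4.TCD.Fi24L
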