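import Cfsg.Agent.Lib.Helper4.TCD_Fi24L_Acc

namespace Cfsg.Agent.Lib.Helper4.TCD.Fi24L

open Cfsg.Agent.Lib.Helper4.TC Cfsg.Agent.Lib.Helper4.TCD.Fi24a

set_option maxRecDepth 100000
set_option Elab.async false

theorem c_p17_108 : allRange chk17 196344 1818 = true := by decide +kernel
theorem c_p17_109 : allRange chk17 198162 1818 = true := by decide +kernel
theorem c_p17_110 : allRange chk17 199980 1818 = true := by decide +kernel
theorem c_p17_111 : allRange chk17 201798 1818 = true := by decide +kernel
theorem c_p17_112 : allRange chk17 203616 1818 = true := by decide +kernel
theorem c_p17_113 : allRange chk17 205434 1818 = true := by decide +kernel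
theorem c_p17_114 : allRange chk17 207252 1818 = true := by decide +kernel
theorem c_p17_115 : allRange chk17 209070 1818 = true := by decide +kernel
theorem c_p17_116 : allRange chk17 210888 1818 = true := by decide +kernel
theorem c_p17_117 : allRange chk17 212706 1818 = true := by decide +kernel
theorem c_p17_118 : allRange chk17 214524 1818 = true := by decide +kernel
theorem c_p17_119 : allRange chk17 216342 1818 = true := by decide +kernel
theorem c_p17_120 : allRange chk17 218160 1818 = true := by decide +kernel
theorem c_p17_121 : allRange chk17 219978 1818 = true := by decide +kernel
theorem c_p17_122 : allRange chk17 221796 1818 = true := by decide +kernel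
theorem c_p17_123 : allRange chk17 223614 1818 = true := by decide +kernel
theorem c_p17_124 : allRange chk17 225432 1818 = true := by decide +kernel
theorem c_p17_125 : allRange chk17 227250 1818 = true := by decide +kernel
theorem c_p17_126 : allRange chk17 229068 1818 = true := by decide +kernel
theorem c_p17_127 : allRange chk17 230886 1818 = true := by decide +kernel
theorem c_p17_128 : allRange chk17 232704 1818 = true := by decide +kernel
theorem c_p17_129 : allRange chk17 234522 1818 = true := by decide +kernel
theorem c_p17_130 : allRange chk17 236340 1818 = true := by decide +kernel
theorem c_p17_131 : allRange chk17 238158 1818 = true := by decide +kernel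
theorem c_p17_132 : allRange chk17 239976 1818 = true := by decide +kernel
theorem c_p17_133 : allRange chk17 241794 1818 = true := by decide +kernel
theorem c_p17_134 : allRange chk17 243612 1818 = true := by decide +kernel
theorem c_p17_135 : allRange chk17 245430 1818 = true := by decide +kernel
theorem c_p17_136 : allRange chk17 247248 1818 = true := by decide +kernel
theorem c_p17_137 : allRange chk17 249066 1818 = true := by decide +kernel
theorem c_p17_138 : allRange chk17 250884 1818 = true := by decide +kernel
theorem c_p17_139 : allRange chk17 252702 1818 = true := by decide +kernel
theorem c_p17_140 : allRange chk17 254520 1818 = true := by decide +kernel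
theorem c_p17_141 : allRange chk17 256338 1818 = true := by decide +kernel
theorem c_p17_142 : allRange chk17 258156 1818 = true := by decide +kernel
theorem c_p17_143 : allRange chk17 259974 1818 = true := by decide +kernel
theorem c_p17_144 : allRange chk17 261792 1818 = true := by decide +kernel
theorem c_p17_145 : allRange chk17 263610 1818 = true := by decide +kernel
theorem c_p17_146 : allRange chk17 265428 1818 = true := by decide +kernel
theorem c_p17_147 : allRange chk17 267246 1818 = true := by decide +kernel
theorem c_p17_148 : allRange chk17 269064 1818 = true := by decide +kernel
theorem c_p17_149 : allRange chk17 270882 1818 = true := by decide +kernel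
theorem c_p17_150 : allRange chk17 272700 1818 = true := by decide +kernel
theorem c_p17_151 : allRange chk17 274518 1818 = true := by decide +kernel
theorem c_p17_152 : allRange chk17 276336 1818 = true := by decide +kernel
theorem c_p17_153 : allRange chk17 278154 1818 = true := by decide +kernel
theorem c_p17_154 : allRange chk17 279972 1818 = true := by decide +kernel
theorem c_p17_155 : allRange chk17 281790 1818 = true := by decide +kernel
theorem c_p17_156 : allRange chk17 283608 1818 = true := by decide +kernel
theorem c_p17_157 : allRange chk17 285426 1818 = true := by decide +kernel

end Cfsg.Agent.Lib.Helper4.TCD.Fi24L
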