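import Cfsg.Agent.Lib.Helper4.TCD_Fi24L_Acc

namespace Cfsg.Agent.Lib.Helper4.TCD.Fi24L

open Cfsg.Agent.Lib.Helper4.TC Cfsg.Agent.Lib.Helper4.TCD.Fi24a

set_option maxRecDepth 100000
set_option Elab.async false

theorem c_p12_100 : allRange chk12 89500 895 = true := by decide +kernel
theorem c_p12_101 : allRange chk12 90395 895 = true := by decide +kernel
theorem c_p12_102 : allRange chk12 91290 895 = true := by decide +kernel
theorem c_p12_103 : allRange chk12 92185 895 = true := by decide +kernel
theorem c_p12_104 : allRange chk12 93080 895 = true := by decide +kernel
theorem c_p12_105 : allRange chk12 93975 895 = true := by decide +kernel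
theorem c_p12_106 : allRange chk12 94870 895 = true := by decide +kernel
theorem c_p12_107 : allRange chk12 95765 895 = true := by decide +kernel
theorem c_p12_108 : allRange chk12 96660 895 = true := by decide +kernel
theorem c_p12_109 : allRange chk12 97555 895 = true := by decide +kernel
theorem c_p12_110 : allRange chk12 98450 895 = true := by decide +kernel
theorem c_p12_111 : allRange chk12 99345 895 = true := by decide +kernel
theorem c_p12_112 : allRange chk12 100240 895 = true := by decide +kernel
theorem c_p12_113 : allRange chk12 101135 895 = true := by decide +kernel
theorem c_p12_114 : allRange chk12 102030 895 = true := by decide +kernel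
theorem c_p12_115 : allRange chk12 102925 895 = true := by decide +kernel
theorem c_p12_116 : allRange chk12 103820 895 = true := by decide +kernel
theorem c_p12_117 : allRange chk12 104715 895 = true := by decide +kernel
theorem c_p12_118 : allRange chk12 105610 895 = true := by decide +kernel
theorem c_p12_119 : allRange chk12 106505 895 = true := by decide +kernel
theorem c_p12_120 : allRange chk12 107400 895 = true := by decide +kernel
theorem c_p12_121 : allRange chk12 108295 895 = true := by decide +kernel
theorem c_p12_122 : allRange chk12 109190 895 = true := by decide +kernel
theorem c_p12_123 : allRange chk12 110085 895 = true := by decide +kernel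
theorem c_p12_124 : allRange chk12 110980 895 = true := by decide +kernel
theorem c_p12_125 : allRange chk12 111875 895 = true := by decide +kernel
theorem c_p12_126 : allRange chk12 112770 895 = true := by decide +kernel
theorem c_p12_127 : allRange chk12 113665 895 = true := by decide +kernel
theorem c_p12_128 : allRange chk12 114560 895 = true := by decide +kernel
theorem c_p12_129 : allRange chk12 115455 895 = true := by decide +kernel
theorem c_p12_130 : allRange chk12 116350 895 = true := by decide +kernel
theorem c_p12_131 : allRange chk12 117245 895 = true := by decide +kernel
theorem c_p12_132 : allRange chk12 118140 895 = true := by decide +kernel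
theorem c_p12_133 : allRange chk12 119035 895 = true := by decide +kernel
theorem c_p12_134 : allRange chk12 119930 895 = true := by decide +kernel
theorem c_p12_135 : allRange chk12 120825 895 = true := by decide +kernel
theorem c_p12_136 : allRange chk12 121720 895 = true := by decide +kernel
theorem c_p12_137 : allRange chk12 122615 895 = true := by decide +kernel
theorem c_p12_138 : allRange chk12 123510 895 = true := by decide +kernel
theorem c_p12_139 : allRange chk12 124405 895 = true := by decide +kernel
theorem c_p12_140 : allRange chk12 125300 895 = true := by decide +kernel
theorem c_p12_141 : allRange chk12 126195 895 = true := by decide +kernel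
theorem c_p12_142 : allRange chk12 127090 895 = true := by decide +kernel
theorem c_p12_143 : allRange chk12 127985 895 = true := by decide +kernel
theorem c_p12_144 : allRange chk12 128880 895 = true := by decide +kernel
theorem c_p12_145 : allRange chk12 129775 895 = true := by decide +kernel
theorem c_p12_146 : allRange chk12 130670 895 = true := by decide +kernel
theorem c_p12_147 : allRange chk12 131565 895 = true := by decide +kernel
theorem c_p12_148 : allRange chk12 132460 895 = true := by decide +kernel
theorem c_p12_149 : allRange chk12 133355 895 = true := by decide +kernel

end Cfsg.Agent.Lib.Helper4.TCD.Fi24L
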