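import Cfsg.Agent.Lib.Helper4.TCD_Fi24L_Acc

namespace Cfsg.Agent.Lib.Helper4.TCD.Fi24L

open Cfsg.Agent.Lib.Helper4.TC Cfsg.Agent.Lib.Helper4.TCD.Fi24a

set_option maxRecDepth 100000
set_option Elab.async false

theorem c_p17_158 : allRange chk17 287244 1818 = true := by decide +kernel
theorem c_p17_159 : allRange chk17 289062 1818 = true := by decide +kernel
theorem c_p17_160 : allRange chk17 290880 1818 = true := by decide +kernel
theorem c_p17_161 : allRange chk17 292698 1818 = true := by decide +kernel
theorem c_p17_162 : allRange chk17 294516 1818 = true := by decide +kernel
theorem c_p17_163 : allRange chk17 296334 1818 = true := by decide +kernel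
theorem c_p17_164 : allRange chk17 298152 1818 = true := by decide +kernel
theorem c_p17_165 : allRange chk17 299970 1818 = true := by decide +kernel
theorem c_p17_166 : allRange chk17 301788 1818 = true := by decide +kernel
theorem c_p17_167 : allRange chk17 303606 1818 = true := by decide +kernel
theorem c_p17_168 : allRange chk17 305424 1512 = true := by decide +kernel
theorem c_p18_0 : allRange chk18 0 2400 = true := by decide +kernel
theorem c_p18_1 : allRange chk18 2400 2400 = true := by decide +kernel
theorem c_p18_2 : allRange chk18 4800 2400 = true := by decide +kernel
theorem c_p18_3 : allRange chk18 7200 2400 = true := by decide +kernel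
theorem c_p18_4 : allRange chk18 9600 2400 = true := by decide +kernel
theorem c_p18_5 : allRange chk18 12000 2400 = true := by decide +kernel
theorem c_p18_6 : allRange chk18 14400 2400 = true := by decide +kernel
theorem c_p18_7 : allRange chk18 16800 2400 = true := by decide +kernel
theorem c_p18_8 : allRange chk18 19200 2400 = true := by decide +kernel
theorem c_p18_9 : allRange chk18 21600 2400 = true := by decide +kernel
theorem c_p18_10 : allRange chk18 24000 2400 = true := by decide +kernel
theorem c_p18_11 : allRange chk18 26400 2400 = true := by decide +kernel
theorem c_p18_12 : allRange chk18 28800 2400 = true := by decide +kernel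
theorem c_p18_13 : allRange chk18 31200 2400 = true := by decide +kernel
theorem c_p18_14 : allRange chk18 33600 2400 = true := by decide +kernel
theorem c_p18_15 : allRange chk18 36000 2400 = true := by decide +kernel
theorem c_p18_16 : allRange chk18 38400 2400 = true := by decide +kernel
theorem c_p18_17 : allRange chk18 40800 2400 = true := by decide +kernel
theorem c_p18_18 : allRange chk18 43200 2400 = true := by decide +kernel
theorem c_p18_19 : allRange chk18 45600 2400 = true := by decide +kernel
theorem c_p18_20 : allRange chk18 48000 2400 = true := by decide +kernel
theorem c_p18_21 : allRange chk18 50400 2400 = true := by decide +kernel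
theorem c_p18_22 : allRange chk18 52800 2400 = true := by decide +kernel
theorem c_p18_23 : allRange chk18 55200 2400 = true := by decide +kernel
theorem c_p18_24 : allRange chk18 57600 2400 = true := by decide +kernel
theorem c_p18_25 : allRange chk18 60000 2400 = true := by decide +kernel
theorem c_p18_26 : allRange chk18 62400 2400 = true := by decide +kernel
theorem c_p18_27 : allRange chk18 64800 2400 = true := by decide +kernel
theorem c_p18_28 : allRange chk18 67200 2400 = true := by decide +kernel
theorem c_p18_29 : allRange chk18 69600 2400 = true := by decide +kernel
theorem c_p18_30 : allRange chk18 72000 2400 = true := by decide +kernel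
theorem c_p18_31 : allRange chk18 74400 2400 = true := by decide +kernel
theorem c_p18_32 : allRange chk18 76800 2400 = true := by decide +kernel
theorem c_p18_33 : allRange chk18 79200 2400 = true := by decide +kernel
theorem c_p18_34 : allRange chk18 81600 2400 = true := by decide +kernel
theorem c_p18_35 : allRange chk18 84000 2400 = true := by decide +kernel
theorem c_p18_36 : allRange chk18 86400 2400 = true := by decide +kernel
theorem c_p18_37 : allRange chk18 88800 2400 = true := by decide +kernel
theorem c_p18_38 : allRange chk18 91200 2400 = true := by decide +kernel

end Cfsg.Agent.Lib.Helper4.TCD.Fi24L
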