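import Cfsg.Agent.Lib.Helper4.TCD_Fi24L_Acc

namespace Cfsg.Agent.Lib.Helper4.TCD.Fi24L

open Cfsg.Agent.Lib.Helper4.TC Cfsg.Agent.Lib.Helper4.TCD.Fi24a

set_option maxRecDepth 100000
set_option Elab.async false

theorem c_p18_39 : allRange chk18 93600 2400 = true := by decide +kernel
theorem c_p18_40 : allRange chk18 96000 2400 = true := by decide +kernel
theorem c_p18_41 : allRange chk18 98400 2400 = true := by decide +kernel
theorem c_p18_42 : allRange chk18 100800 2400 = true := by decide +kernel
theorem c_p18_43 : allRange chk18 103200 2400 = true := by decide +kernel
theorem c_p18_44 : allRange chk18 105600 2400 = true := by decide +kernel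
theorem c_p18_45 : allRange chk18 108000 2400 = true := by decide +kernel
theorem c_p18_46 : allRange chk18 110400 2400 = true := by decide +kernel
theorem c_p18_47 : allRange chk18 112800 2400 = true := by decide +kernel
theorem c_p18_48 : allRange chk18 115200 2400 = true := by decide +kernel
theorem c_p18_49 : allRange chk18 117600 2400 = true := by decide +kernel
theorem c_p18_50 : allRange chk18 120000 2400 = true := by decide +kernel
theorem c_p18_51 : allRange chk18 122400 2400 = true := by decide +kernel
theorem c_p18_52 : allRange chk18 124800 2400 = true := by decide +kernel
theorem c_p18_53 : allRange chk18 127200 2400 = true := by decide +kernel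
theorem c_p18_54 : allRange chk18 129600 2400 = true := by decide +kernel
theorem c_p18_55 : allRange chk18 132000 2400 = true := by decide +kernel
theorem c_p18_56 : allRange chk18 134400 2400 = true := by decide +kernel
theorem c_p18_57 : allRange chk18 136800 2400 = true := by decide +kernel
theorem c_p18_58 : allRange chk18 139200 2400 = true := by decide +kernel
theorem c_p18_59 : allRange chk18 141600 2400 = true := by decide +kernel
theorem c_p18_60 : allRange chk18 144000 2400 = true := by decide +kernel
theorem c_p18_61 : allRange chk18 146400 2400 = true := by decide +kernel
theorem c_p18_62 : allRange chk18 148800 2400 = true := by decide +kernel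
theorem c_p18_63 : allRange chk18 151200 2400 = true := by decide +kernel
theorem c_p18_64 : allRange chk18 153600 2400 = true := by decide +kernel
theorem c_p18_65 : allRange chk18 156000 2400 = true := by decide +kernel
theorem c_p18_66 : allRange chk18 158400 2400 = true := by decide +kernel
theorem c_p18_67 : allRange chk18 160800 2400 = true := by decide +kernel
theorem c_p18_68 : allRange chk18 163200 2400 = true := by decide +kernel
theorem c_p18_69 : allRange chk18 165600 2400 = true := by decide +kernel
theorem c_p18_70 : allRange chk18 168000 2400 = true := by decide +kernel
theorem c_p18_71 : allRange chk18 170400 2400 = true := by decide +kernel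
theorem c_p18_72 : allRange chk18 172800 2400 = true := by decide +kernel
theorem c_p18_73 : allRange chk18 175200 2400 = true := by decide +kernel
theorem c_p18_74 : allRange chk18 177600 2400 = true := by decide +kernel
theorem c_p18_75 : allRange chk18 180000 2400 = true := by decide +kernel
theorem c_p18_76 : allRange chk18 182400 2400 = true := by decide +kernel
theorem c_p18_77 : allRange chk18 184800 2400 = true := by decide +kernel
theorem c_p18_78 : allRange chk18 187200 2400 = true := by decide +kernel
theorem c_p18_79 : allRange chk18 189600 2400 = true := by decide +kernel
theorem c_p18_80 : allRange chk18 192000 2400 = true := by decide +kernel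
theorem c_p18_81 : allRange chk18 194400 2400 = true := by decide +kernel
theorem c_p18_82 : allRange chk18 196800 2400 = true := by decide +kernel
theorem c_p18_83 : allRange chk18 199200 2400 = true := by decide +kernel
theorem c_p18_84 : allRange chk18 201600 2400 = true := by decide +kernel
theorem c_p18_85 : allRange chk18 204000 2400 = true := by decide +kernel
theorem c_p18_86 : allRange chk18 206400 2400 = true := by decide +kernel
theorem c_p18_87 : allRange chk18 208800 2400 = true := by decide +kernel
theorem c_p18_88 : allRange chk18 211200 2400 = true := by decide +kernel

end Cfsg.Agent.Lib.Helper4.TCD.Fi24L
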