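import Cfsg.Agent.Lib.Helper4.TCD_Fi24L_Acc

namespace Cfsg.Agent.Lib.Helper4.TCD.Fi24L

open Cfsg.Agent.Lib.Helper4.TC Cfsg.Agent.Lib.Helper4.TCD.Fi24a

set_option maxRecDepth 100000
set_option Elab.async false

theorem c_p18_89 : allRange chk18 213600 2400 = true := by decide +kernel
theorem c_p18_90 : allRange chk18 216000 2400 = true := by decide +kernel
theorem c_p18_91 : allRange chk18 218400 2400 = true := by decide +kernel
theorem c_p18_92 : allRange chk18 220800 2400 = true := by decide +kernel
theorem c_p18_93 : allRange chk18 223200 2400 = true := by decide +kernel
theorem c_p18_94 : allRange chk18 225600 2400 = true := by decide +kernel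
theorem c_p18_95 : allRange chk18 228000 2400 = true := by decide +kernel
theorem c_p18_96 : allRange chk18 230400 2400 = true := by decide +kernel
theorem c_p18_97 : allRange chk18 232800 2400 = true := by decide +kernel
theorem c_p18_98 : allRange chk18 235200 2400 = true := by decide +kernel
theorem c_p18_99 : allRange chk18 237600 2400 = true := by decide +kernel
theorem c_p18_100 : allRange chk18 240000 2400 = true := by decide +kernel
theorem c_p18_101 : allRange chk18 242400 2400 = true := by decide +kernel
theorem c_p18_102 : allRange chk18 244800 2400 = true := by decide +kernel
theorem c_p18_103 : allRange chk18 247200 2400 = true := by decide +kernel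
theorem c_p18_104 : allRange chk18 249600 2400 = true := by decide +kernel
theorem c_p18_105 : allRange chk18 252000 2400 = true := by decide +kernel
theorem c_p18_106 : allRange chk18 254400 2400 = true := by decide +kernel
theorem c_p18_107 : allRange chk18 256800 2400 = true := by decide +kernel
theorem c_p18_108 : allRange chk18 259200 2400 = true := by decide +kernel
theorem c_p18_109 : allRange chk18 261600 2400 = true := by decide +kernel
theorem c_p18_110 : allRange chk18 264000 2400 = true := by decide +kernel
theorem c_p18_111 : allRange chk18 266400 2400 = true := by decide +kernel
theorem c_p18_112 : allRange chk18 268800 2400 = true := by decide +kernel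
theorem c_p18_113 : allRange chk18 271200 2400 = true := by decide +kernel
theorem c_p18_114 : allRange chk18 273600 2400 = true := by decide +kernel
theorem c_p18_115 : allRange chk18 276000 2400 = true := by decide +kernel
theorem c_p18_116 : allRange chk18 278400 2400 = true := by decide +kernel
theorem c_p18_117 : allRange chk18 280800 2400 = true := by decide +kernel
theorem c_p18_118 : allRange chk18 283200 2400 = true := by decide +kernel
theorem c_p18_119 : allRange chk18 285600 2400 = true := by decide +kernel
theorem c_p18_120 : allRange chk18 288000 2400 = true := by decide +kernel
theorem c_p18_121 : allRange chk18 290400 2400 = true := by decide +kernel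
theorem c_p18_122 : allRange chk18 292800 2400 = true := by decide +kernel
theorem c_p18_123 : allRange chk18 295200 2400 = true := by decide +kernel
theorem c_p18_124 : allRange chk18 297600 2400 = true := by decide +kernel
theorem c_p18_125 : allRange chk18 300000 2400 = true := by decide +kernel
theorem c_p18_126 : allRange chk18 302400 2400 = true := by decide +kernel
theorem c_p18_127 : allRange chk18 304800 2136 = true := by decide +kernel
theorem c_p19_0 : allRange chk19 0 2500 = true := by decide +kernel
theorem c_p19_1 : allRange chk19 2500 2500 = true := by decide +kernel
theorem c_p19_2 : allRange chk19 5000 2500 = true := by decide +kernel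
theorem c_p19_3 : allRange chk19 7500 2500 = true := by decide +kernel
theorem c_p19_4 : allRange chk19 10000 2500 = true := by decide +kernel
theorem c_p19_5 : allRange chk19 12500 2500 = true := by decide +kernel
theorem c_p19_6 : allRange chk19 15000 2500 = true := by decide +kernel
theorem c_p19_7 : allRange chk19 17500 2500 = true := by decide +kernel
theorem c_p19_8 : allRange chk19 20000 2500 = true := by decide +kernel
theorem c_p19_9 : allRange chk19 22500 2500 = true := by decide +kernel
theorem c_p19_10 : allRange chk19 25000 2500 = true := by decide +kernel

end Cfsg.Agent.Lib.Helper4.TCD.Fi24L
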