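import Cfsg.Agent.Lib.Helper4.TCD_Fi24L_Acc

namespace Cfsg.Agent.Lib.Helper4.TCD.Fi24L

open Cfsg.Agent.Lib.Helper4.TC Cfsg.Agent.Lib.Helper4.TCD.Fi24a

set_option maxRecDepth 100000
set_option Elab.async false

theorem c_p19_11 : allRange chk19 27500 2500 = true := by decide +kernel
theorem c_p19_12 : allRange chk19 30000 2500 = true := by decide +kernel
theorem c_p19_13 : allRange chk19 32500 2500 = true := by decide +kernel
theorem c_p19_14 : allRange chk19 35000 2500 = true := by decide +kernel
theorem c_p19_15 : allRange chk19 37500 2500 = true := by decide +kernel
theorem c_p19_16 : allRange chk19 40000 2500 = true := by decide +kernel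
theorem c_p19_17 : allRange chk19 42500 2500 = true := by decide +kernel
theorem c_p19_18 : allRange chk19 45000 2500 = true := by decide +kernel
theorem c_p19_19 : allRange chk19 47500 2500 = true := by decide +kernel
theorem c_p19_20 : allRange chk19 50000 2500 = true := by decide +kernel
theorem c_p19_21 : allRange chk19 52500 2500 = true := by decide +kernel
theorem c_p19_22 : allRange chk19 55000 2500 = true := by decide +kernel
theorem c_p19_23 : allRange chk19 57500 2500 = true := by decide +kernel
theorem c_p19_24 : allRange chk19 60000 2500 = true := by decide +kernel
theorem c_p19_25 : allRange chk19 62500 2500 = true := by decide +kernel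
theorem c_p19_26 : allRange chk19 65000 2500 = true := by decide +kernel
theorem c_p19_27 : allRange chk19 67500 2500 = true := by decide +kernel
theorem c_p19_28 : allRange chk19 70000 2500 = true := by decide +kernel
theorem c_p19_29 : allRange chk19 72500 2500 = true := by decide +kernel
theorem c_p19_30 : allRange chk19 75000 2500 = true := by decide +kernel
theorem c_p19_31 : allRange chk19 77500 2500 = true := by decide +kernel
theorem c_p19_32 : allRange chk19 80000 2500 = true := by decide +kernel
theorem c_p19_33 : allRange chk19 82500 2500 = true := by decide +kernel
theorem c_p19_34 : allRange chk19 85000 2500 = true := by decide +kernel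
theorem c_p19_35 : allRange chk19 87500 2500 = true := by decide +kernel
theorem c_p19_36 : allRange chk19 90000 2500 = true := by decide +kernel
theorem c_p19_37 : allRange chk19 92500 2500 = true := by decide +kernel
theorem c_p19_38 : allRange chk19 95000 2500 = true := by decide +kernel
theorem c_p19_39 : allRange chk19 97500 2500 = true := by decide +kernel
theorem c_p19_40 : allRange chk19 100000 2500 = true := by decide +kernel
theorem c_p19_41 : allRange chk19 102500 2500 = true := by decide +kernel
theorem c_p19_42 : allRange chk19 105000 2500 = true := by decide +kernel
theorem c_p19_43 : allRange chk19 107500 2500 = true := by decide +kernel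
theorem c_p19_44 : allRange chk19 110000 2500 = true := by decide +kernel
theorem c_p19_45 : allRange chk19 112500 2500 = true := by decide +kernel
theorem c_p19_46 : allRange chk19 115000 2500 = true := by decide +kernel
theorem c_p19_47 : allRange chk19 117500 2500 = true := by decide +kernel
theorem c_p19_48 : allRange chk19 120000 2500 = true := by decide +kernel
theorem c_p19_49 : allRange chk19 122500 2500 = true := by decide +kernel
theorem c_p19_50 : allRange chk19 125000 2500 = true := by decide +kernel
theorem c_p19_51 : allRange chk19 127500 2500 = true := by decide +kernel
theorem c_p19_52 : allRange chk19 130000 2500 = true := by decide +kernel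
theorem c_p19_53 : allRange chk19 132500 2500 = true := by decide +kernel
theorem c_p19_54 : allRange chk19 135000 2500 = true := by decide +kernel
theorem c_p19_55 : allRange chk19 137500 2500 = true := by decide +kernel
theorem c_p19_56 : allRange chk19 140000 2500 = true := by decide +kernel
theorem c_p19_57 : allRange chk19 142500 2500 = true := by decide +kernel
theorem c_p19_58 : allRange chk19 145000 2500 = true := by decide +kernel
theorem c_p19_59 : allRange chk19 147500 2500 = true := by decide +kernel
theorem c_p19_60 : allRange chk19 150000 2500 = true := by decide +kernel

end Cfsg.Agent.Lib.Helper4.TCD.Fi24L
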