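import Cfsg.Agent.Lib.Helper4.TCD_Fi24L_Acc

namespace Cfsg.Agent.Lib.Helper4.TCD.Fi24L

open Cfsg.Agent.Lib.Helper4.TC Cfsg.Agent.Lib.Helper4.TCD.Fi24a

set_option maxRecDepth 100000
set_option Elab.async false

theorem c_p19_61 : allRange chk19 152500 2500 = true := by decide +kernel
theorem c_p19_62 : allRange chk19 155000 2500 = true := by decide +kernel
theorem c_p19_63 : allRange chk19 157500 2500 = true := by decide +kernel
theorem c_p19_64 : allRange chk19 160000 2500 = true := by decide +kernel
theorem c_p19_65 : allRange chk19 162500 2500 = true := by decide +kernel
theorem c_p19_66 : allRange chk19 165000 2500 = true := by decide +kernel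
theorem c_p19_67 : allRange chk19 167500 2500 = true := by decide +kernel
theorem c_p19_68 : allRange chk19 170000 2500 = true := by decide +kernel
theorem c_p19_69 : allRange chk19 172500 2500 = true := by decide +kernel
theorem c_p19_70 : allRange chk19 175000 2500 = true := by decide +kernel
theorem c_p19_71 : allRange chk19 177500 2500 = true := by decide +kernel
theorem c_p19_72 : allRange chk19 180000 2500 = true := by decide +kernel
theorem c_p19_73 : allRange chk19 182500 2500 = true := by decide +kernel
theorem c_p19_74 : allRange chk19 185000 2500 = true := by decide +kernel
theorem c_p19_75 : allRange chk19 187500 2500 = true := by decide +kernel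
theorem c_p19_76 : allRange chk19 190000 2500 = true := by decide +kernel
theorem c_p19_77 : allRange chk19 192500 2500 = true := by decide +kernel
theorem c_p19_78 : allRange chk19 195000 2500 = true := by decide +kernel
theorem c_p19_79 : allRange chk19 197500 2500 = true := by decide +kernel
theorem c_p19_80 : allRange chk19 200000 2500 = true := by decide +kernel
theorem c_p19_81 : allRange chk19 202500 2500 = true := by decide +kernel
theorem c_p19_82 : allRange chk19 205000 2500 = true := by decide +kernel
theorem c_p19_83 : allRange chk19 207500 2500 = true := by decide +kernel
theorem c_p19_84 : allRange chk19 210000 2500 = true := by decide +kernel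
theorem c_p19_85 : allRange chk19 212500 2500 = true := by decide +kernel
theorem c_p19_86 : allRange chk19 215000 2500 = true := by decide +kernel
theorem c_p19_87 : allRange chk19 217500 2500 = true := by decide +kernel
theorem c_p19_88 : allRange chk19 220000 2500 = true := by decide +kernel
theorem c_p19_89 : allRange chk19 222500 2500 = true := by decide +kernel
theorem c_p19_90 : allRange chk19 225000 2500 = true := by decide +kernel
theorem c_p19_91 : allRange chk19 227500 2500 = true := by decide +kernel
theorem c_p19_92 : allRange chk19 230000 2500 = true := by decide +kernel
theorem c_p19_93 : allRange chk19 232500 2500 = true := by decide +kernel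
theorem c_p19_94 : allRange chk19 235000 2500 = true := by decide +kernel
theorem c_p19_95 : allRange chk19 237500 2500 = true := by decide +kernel
theorem c_p19_96 : allRange chk19 240000 2500 = true := by decide +kernel
theorem c_p19_97 : allRange chk19 242500 2500 = true := by decide +kernel
theorem c_p19_98 : allRange chk19 245000 2500 = true := by decide +kernel
theorem c_p19_99 : allRange chk19 247500 2500 = true := by decide +kernel
theorem c_p19_100 : allRange chk19 250000 2500 = true := by decide +kernel
theorem c_p19_101 : allRange chk19 252500 2500 = true := by decide +kernel
theorem c_p19_102 : allRange chk19 255000 2500 = true := by decide +kernel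
theorem c_p19_103 : allRange chk19 257500 2500 = true := by decide +kernel
theorem c_p19_104 : allRange chk19 260000 2500 = true := by decide +kernel
theorem c_p19_105 : allRange chk19 262500 2500 = true := by decide +kernel
theorem c_p19_106 : allRange chk19 265000 2500 = true := by decide +kernel
theorem c_p19_107 : allRange chk19 267500 2500 = true := by decide +kernel
theorem c_p19_108 : allRange chk19 270000 2500 = true := by decide +kernel
theorem c_p19_109 : allRange chk19 272500 2500 = true := by decide +kernel
theorem c_p19_110 : allRange chk19 275000 2500 = true := by decide +kernel

end Cfsg.Agent.Lib.Helper4.TCD.Fi24L
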