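import Cfsg.Agent.Lib.Helper4.TCD_Fi24L_Acc

namespace Cfsg.Agent.Lib.Helper4.TCD.Fi24L

open Cfsg.Agent.Lib.Helper4.TC Cfsg.Agent.Lib.Helper4.TCD.Fi24a

set_option maxRecDepth 100000
set_option Elab.async false

theorem c_p19_111 : allRange chk19 277500 2500 = true := by decide +kernel
theorem c_p19_112 : allRange chk19 280000 2500 = true := by decide +kernel
theorem c_p19_113 : allRange chk19 282500 2500 = true := by decide +kernel
theorem c_p19_114 : allRange chk19 285000 2500 = true := by decide +kernel
theorem c_p19_115 : allRange chk19 287500 2500 = true := by decide +kernel
theorem c_p19_116 : allRange chk19 290000 2500 = true := by decide +kernel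
theorem c_p19_117 : allRange chk19 292500 2500 = true := by decide +kernel
theorem c_p19_118 : allRange chk19 295000 2500 = true := by decide +kernel
theorem c_p19_119 : allRange chk19 297500 2500 = true := by decide +kernel
theorem c_p19_120 : allRange chk19 300000 2500 = true := by decide +kernel
theorem c_p19_121 : allRange chk19 302500 2500 = true := by decide +kernel
theorem c_p19_122 : allRange chk19 305000 1936 = true := by decide +kernel
theorem c_p20_0 : allRange chk20 0 1538 = true := by decide +kernel
theorem c_p20_1 : allRange chk20 1538 1538 = true := by decide +kernel
theorem c_p20_2 : allRange chk20 3076 1538 = true := by decide +kernel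
theorem c_p20_3 : allRange chk20 4614 1538 = true := by decide +kernel
theorem c_p20_4 : allRange chk20 6152 1538 = true := by decide +kernel
theorem c_p20_5 : allRange chk20 7690 1538 = true := by decide +kernel
theorem c_p20_6 : allRange chk20 9228 1538 = true := by decide +kernel
theorem c_p20_7 : allRange chk20 10766 1538 = true := by decide +kernel
theorem c_p20_8 : allRange chk20 12304 1538 = true := by decide +kernel
theorem c_p20_9 : allRange chk20 13842 1538 = true := by decide +kernel
theorem c_p20_10 : allRange chk20 15380 1538 = true := by decide +kernel
theorem c_p20_11 : allRange chk20 16918 1538 = true := by decide +kernel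
theorem c_p20_12 : allRange chk20 18456 1538 = true := by decide +kernel
theorem c_p20_13 : allRange chk20 19994 1538 = true := by decide +kernel
theorem c_p20_14 : allRange chk20 21532 1538 = true := by decide +kernel
theorem c_p20_15 : allRange chk20 23070 1538 = true := by decide +kernel
theorem c_p20_16 : allRange chk20 24608 1538 = true := by decide +kernel
theorem c_p20_17 : allRange chk20 26146 1538 = true := by decide +kernel
theorem c_p20_18 : allRange chk20 27684 1538 = true := by decide +kernel
theorem c_p20_19 : allRange chk20 29222 1538 = true := by decide +kernel
theorem c_p20_20 : allRange chk20 30760 1538 = true := by decide +kernel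
theorem c_p20_21 : allRange chk20 32298 1538 = true := by decide +kernel
theorem c_p20_22 : allRange chk20 33836 1538 = true := by decide +kernel
theorem c_p20_23 : allRange chk20 35374 1538 = true := by decide +kernel
theorem c_p20_24 : allRange chk20 36912 1538 = true := by decide +kernel
theorem c_p20_25 : allRange chk20 38450 1538 = true := by decide +kernel
theorem c_p20_26 : allRange chk20 39988 1538 = true := by decide +kernel
theorem c_p20_27 : allRange chk20 41526 1538 = true := by decide +kernel
theorem c_p20_28 : allRange chk20 43064 1538 = true := by decide +kernel
theorem c_p20_29 : allRange chk20 44602 1538 = true := by decide +kernel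
theorem c_p20_30 : allRange chk20 46140 1538 = true := by decide +kernel
theorem c_p20_31 : allRange chk20 47678 1538 = true := by decide +kernel
theorem c_p20_32 : allRange chk20 49216 1538 = true := by decide +kernel
theorem c_p20_33 : allRange chk20 50754 1538 = true := by decide +kernel
theorem c_p20_34 : allRange chk20 52292 1538 = true := by decide +kernel
theorem c_p20_35 : allRange chk20 53830 1538 = true := by decide +kernel
theorem c_p20_36 : allRange chk20 55368 1538 = true := by decide +kernel
theorem c_p20_37 : allRange chk20 56906 1538 = true := by decide +kernel

end Cfsg.Agent.Lib.Helper4.TCD.Fi24L
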