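import Cfsg.Agent.Lib.Helper4.TCD_Fi24L_Acc

namespace Cfsg.Agent.Lib.Helper4.TCD.Fi24L

open Cfsg.Agent.Lib.Helper4.TC Cfsg.Agent.Lib.Helper4.TCD.Fi24a

set_option maxRecDepth 100000
set_option Elab.async false

theorem c_p20_38 : allRange chk20 58444 1538 = true := by decide +kernel
theorem c_p20_39 : allRange chk20 59982 1538 = true := by decide +kernel
theorem c_p20_40 : allRange chk20 61520 1538 = true := by decide +kernel
theorem c_p20_41 : allRange chk20 63058 1538 = true := by decide +kernel
theorem c_p20_42 : allRange chk20 64596 1538 = true := by decide +kernel
theorem c_p20_43 : allRange chk20 66134 1538 = true := by decide +kernel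
theorem c_p20_44 : allRange chk20 67672 1538 = true := by decide +kernel
theorem c_p20_45 : allRange chk20 69210 1538 = true := by decide +kernel
theorem c_p20_46 : allRange chk20 70748 1538 = true := by decide +kernel
theorem c_p20_47 : allRange chk20 72286 1538 = true := by decide +kernel
theorem c_p20_48 : allRange chk20 73824 1538 = true := by decide +kernel
theorem c_p20_49 : allRange chk20 75362 1538 = true := by decide +kernel
theorem c_p20_50 : allRange chk20 76900 1538 = true := by decide +kernel
theorem c_p20_51 : allRange chk20 78438 1538 = true := by decide +kernel
theorem c_p20_52 : allRange chk20 79976 1538 = true := by decide +kernel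
theorem c_p20_53 : allRange chk20 81514 1538 = true := by decide +kernel
theorem c_p20_54 : allRange chk20 83052 1538 = true := by decide +kernel
theorem c_p20_55 : allRange chk20 84590 1538 = true := by decide +kernel
theorem c_p20_56 : allRange chk20 86128 1538 = true := by decide +kernel
theorem c_p20_57 : allRange chk20 87666 1538 = true := by decide +kernel
theorem c_p20_58 : allRange chk20 89204 1538 = true := by decide +kernel
theorem c_p20_59 : allRange chk20 90742 1538 = true := by decide +kernel
theorem c_p20_60 : allRange chk20 92280 1538 = true := by decide +kernel
theorem c_p20_61 : allRange chk20 93818 1538 = true := by decide +kernel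
theorem c_p20_62 : allRange chk20 95356 1538 = true := by decide +kernel
theorem c_p20_63 : allRange chk20 96894 1538 = true := by decide +kernel
theorem c_p20_64 : allRange chk20 98432 1538 = true := by decide +kernel
theorem c_p20_65 : allRange chk20 99970 1538 = true := by decide +kernel
theorem c_p20_66 : allRange chk20 101508 1538 = true := by decide +kernel
theorem c_p20_67 : allRange chk20 103046 1538 = true := by decide +kernel
theorem c_p20_68 : allRange chk20 104584 1538 = true := by decide +kernel
theorem c_p20_69 : allRange chk20 106122 1538 = true := by decide +kernel
theorem c_p20_70 : allRange chk20 107660 1538 = true := by decide +kernel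
theorem c_p20_71 : allRange chk20 109198 1538 = true := by decide +kernel
theorem c_p20_72 : allRange chk20 110736 1538 = true := by decide +kernel
theorem c_p20_73 : allRange chk20 112274 1538 = true := by decide +kernel
theorem c_p20_74 : allRange chk20 113812 1538 = true := by decide +kernel
theorem c_p20_75 : allRange chk20 115350 1538 = true := by decide +kernel
theorem c_p20_76 : allRange chk20 116888 1538 = true := by decide +kernel
theorem c_p20_77 : allRange chk20 118426 1538 = true := by decide +kernel
theorem c_p20_78 : allRange chk20 119964 1538 = true := by decide +kernel
theorem c_p20_79 : allRange chk20 121502 1538 = true := by decide +kernel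
theorem c_p20_80 : allRange chk20 123040 1538 = true := by decide +kernel
theorem c_p20_81 : allRange chk20 124578 1538 = true := by decide +kernel
theorem c_p20_82 : allRange chk20 126116 1538 = true := by decide +kernel
theorem c_p20_83 : allRange chk20 127654 1538 = true := by decide +kernel
theorem c_p20_84 : allRange chk20 129192 1538 = true := by decide +kernel
theorem c_p20_85 : allRange chk20 130730 1538 = true := by decide +kernel
theorem c_p20_86 : allRange chk20 132268 1538 = true := by decide +kernel
theorem c_p20_87 : allRange chk20 133806 1538 = true := by decide +kernel

end Cfsg.Agent.Lib.Helper4.TCD.Fi24L
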