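import Cfsg.Agent.Lib.Helper4.TCD_Fi24L_Acc

namespace Cfsg.Agent.Lib.Helper4.TCD.Fi24L

open Cfsg.Agent.Lib.Helper4.TC Cfsg.Agent.Lib.Helper4.TCD.Fi24a

set_option maxRecDepth 100000
set_option Elab.async false

theorem c_p20_138 : allRange chk20 212244 1538 = true := by decide +kernel
theorem c_p20_139 : allRange chk20 213782 1538 = true := by decide +kernel
theorem c_p20_140 : allRange chk20 215320 1538 = true := by decide +kernel
theorem c_p20_141 : allRange chk20 216858 1538 = true := by decide +kernel
theorem c_p20_142 : allRange chk20 218396 1538 = true := by decide +kernel
theorem c_p20_143 : allRange chk20 219934 1538 = true := by decide +kernel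
theorem c_p20_144 : allRange chk20 221472 1538 = true := by decide +kernel
theorem c_p20_145 : allRange chk20 223010 1538 = true := by decide +kernel
theorem c_p20_146 : allRange chk20 224548 1538 = true := by decide +kernel
theorem c_p20_147 : allRange chk20 226086 1538 = true := by decide +kernel
theorem c_p20_148 : allRange chk20 227624 1538 = true := by decide +kernel
theorem c_p20_149 : allRange chk20 229162 1538 = true := by decide +kernel
theorem c_p20_150 : allRange chk20 230700 1538 = true := by decide +kernel
theorem c_p20_151 : allRange chk20 232238 1538 = true := by decide +kernel
theorem c_p20_152 : allRange chk20 233776 1538 = true := by decide +kernel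
theorem c_p20_153 : allRange chk20 235314 1538 = true := by decide +kernel
theorem c_p20_154 : allRange chk20 236852 1538 = true := by decide +kernel
theorem c_p20_155 : allRange chk20 238390 1538 = true := by decide +kernel
theorem c_p20_156 : allRange chk20 239928 1538 = true := by decide +kernel
theorem c_p20_157 : allRange chk20 241466 1538 = true := by decide +kernel
theorem c_p20_158 : allRange chk20 243004 1538 = true := by decide +kernel
theorem c_p20_159 : allRange chk20 244542 1538 = true := by decide +kernel
theorem c_p20_160 : allRange chk20 246080 1538 = true := by decide +kernel
theorem c_p20_161 : allRange chk20 247618 1538 = true := by decide +kernel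
theorem c_p20_162 : allRange chk20 249156 1538 = true := by decide +kernel
theorem c_p20_163 : allRange chk20 250694 1538 = true := by decide +kernel
theorem c_p20_164 : allRange chk20 252232 1538 = true := by decide +kernel
theorem c_p20_165 : allRange chk20 253770 1538 = true := by decide +kernel
theorem c_p20_166 : allRange chk20 255308 1538 = true := by decide +kernel
theorem c_p20_167 : allRange chk20 256846 1538 = true := by decide +kernel
theorem c_p20_168 : allRange chk20 258384 1538 = true := by decide +kernel
theorem c_p20_169 : allRange chk20 259922 1538 = true := by decide +kernel
theorem c_p20_170 : allRange chk20 261460 1538 = true := by decide +kernel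
theorem c_p20_171 : allRange chk20 262998 1538 = true := by decide +kernel
theorem c_p20_172 : allRange chk20 264536 1538 = true := by decide +kernel
theorem c_p20_173 : allRange chk20 266074 1538 = true := by decide +kernel
theorem c_p20_174 : allRange chk20 267612 1538 = true := by decide +kernel
theorem c_p20_175 : allRange chk20 269150 1538 = true := by decide +kernel
theorem c_p20_176 : allRange chk20 270688 1538 = true := by decide +kernel
theorem c_p20_177 : allRange chk20 272226 1538 = true := by decide +kernel
theorem c_p20_178 : allRange chk20 273764 1538 = true := by decide +kernel
theorem c_p20_179 : allRange chk20 275302 1538 = true := by decide +kernel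
theorem c_p20_180 : allRange chk20 276840 1538 = true := by decide +kernel
theorem c_p20_181 : allRange chk20 278378 1538 = true := by decide +kernel
theorem c_p20_182 : allRange chk20 279916 1538 = true := by decide +kernel
theorem c_p20_183 : allRange chk20 281454 1538 = true := by decide +kernel
theorem c_p20_184 : allRange chk20 282992 1538 = true := by decide +kernel
theorem c_p20_185 : allRange chk20 284530 1538 = true := by decide +kernel
theorem c_p20_186 : allRange chk20 286068 1538 = true := by decide +kernel
theorem c_p20_187 : allRange chk20 287606 1538 = true := by decide +kernel

end Cfsg.Agent.Lib.Helper4.TCD.Fi24L
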