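import Cfsg.Agent.Lib.Helper4.TCD_Fi24L_Acc

namespace Cfsg.Agent.Lib.Helper4.TCD.Fi24L

open Cfsg.Agent.Lib.Helper4.TC Cfsg.Agent.Lib.Helper4.TCD.Fi24a

set_option maxRecDepth 100000
set_option Elab.async false

theorem c_p20_188 : allRange chk20 289144 1538 = true := by decide +kernel
theorem c_p20_189 : allRange chk20 290682 1538 = true := by decide +kernel
theorem c_p20_190 : allRange chk20 292220 1538 = true := by decide +kernel
theorem c_p20_191 : allRange chk20 293758 1538 = true := by decide +kernel
theorem c_p20_192 : allRange chk20 295296 1538 = true := by decide +kernel
theorem c_p20_193 : allRange chk20 296834 1538 = true := by decide +kernel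
theorem c_p20_194 : allRange chk20 298372 1538 = true := by decide +kernel
theorem c_p20_195 : allRange chk20 299910 1538 = true := by decide +kernel
theorem c_p20_196 : allRange chk20 301448 1538 = true := by decide +kernel
theorem c_p20_197 : allRange chk20 302986 1538 = true := by decide +kernel
theorem c_p20_198 : allRange chk20 304524 1538 = true := by decide +kernel
theorem c_p20_199 : allRange chk20 306062 874 = true := by decide +kernel
theorem c_p21_0 : allRange chk21 0 15000 = true := by decide +kernel
theorem c_p21_1 : allRange chk21 15000 15000 = true := by decide +kernel
theorem c_p21_2 : allRange chk21 30000 15000 = true := by decide +kernel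
theorem c_p21_3 : allRange chk21 45000 15000 = true := by decide +kernel
theorem c_p21_4 : allRange chk21 60000 15000 = true := by decide +kernel
theorem c_p21_5 : allRange chk21 75000 15000 = true := by decide +kernel
theorem c_p21_6 : allRange chk21 90000 15000 = true := by decide +kernel
theorem c_p21_7 : allRange chk21 105000 15000 = true := by decide +kernel
theorem c_p21_8 : allRange chk21 120000 15000 = true := by decide +kernel
theorem c_p21_9 : allRange chk21 135000 15000 = true := by decide +kernel
theorem c_p21_10 : allRange chk21 150000 15000 = true := by decide +kernel
theorem c_p21_11 : allRange chk21 165000 15000 = true := by decide +kernel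
theorem c_p21_12 : allRange chk21 180000 15000 = true := by decide +kernel
theorem c_p21_13 : allRange chk21 195000 15000 = true := by decide +kernel
theorem c_p21_14 : allRange chk21 210000 15000 = true := by decide +kernel
theorem c_p21_15 : allRange chk21 225000 15000 = true := by decide +kernel
theorem c_p21_16 : allRange chk21 240000 15000 = true := by decide +kernel
theorem c_p21_17 : allRange chk21 255000 15000 = true := by decide +kernel
theorem c_p21_18 : allRange chk21 270000 15000 = true := by decide +kernel
theorem c_p21_19 : allRange chk21 285000 15000 = true := by decide +kernel
theorem c_p21_20 : allRange chk21 300000 6936 = true := by decide +kernel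
theorem c_p22_0 : allRange chk22 0 7500 = true := by decide +kernel
theorem c_p22_1 : allRange chk22 7500 7500 = true := by decide +kernel
theorem c_p22_2 : allRange chk22 15000 7500 = true := by decide +kernel
theorem c_p22_3 : allRange chk22 22500 7500 = true := by decide +kernel
theorem c_p22_4 : allRange chk22 30000 7500 = true := by decide +kernel
theorem c_p22_5 : allRange chk22 37500 7500 = true := by decide +kernel
theorem c_p22_6 : allRange chk22 45000 7500 = true := by decide +kernel
theorem c_p22_7 : allRange chk22 52500 7500 = true := by decide +kernel
theorem c_p22_8 : allRange chk22 60000 7500 = true := by decide +kernel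
theorem c_p22_9 : allRange chk22 67500 7500 = true := by decide +kernel
theorem c_p22_10 : allRange chk22 75000 7500 = true := by decide +kernel
theorem c_p22_11 : allRange chk22 82500 7500 = true := by decide +kernel
theorem c_p22_12 : allRange chk22 90000 7500 = true := by decide +kernel
theorem c_p22_13 : allRange chk22 97500 7500 = true := by decide +kernel
theorem c_p22_14 : allRange chk22 105000 7500 = true := by decide +kernel
theorem c_p22_15 : allRange chk22 112500 7500 = true := by decide +kernel
theorem c_p22_16 : allRange chk22 120000 7500 = true := by decide +kernel

end Cfsg.Agent.Lib.Helper4.TCD.Fi24L
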