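import Cfsg.Agent.Lib.Helper4.TCD_Fi24L_Acc

namespace Cfsg.Agent.Lib.Helper4.TCD.Fi24L

open Cfsg.Agent.Lib.Helper4.TC Cfsg.Agent.Lib.Helper4.TCD.Fi24a

set_option maxRecDepth 100000
set_option Elab.async false

theorem c_p12_150 : allRange chk12 134250 895 = true := by decide +kernel
theorem c_p12_151 : allRange chk12 135145 895 = true := by decide +kernel
theorem c_p12_152 : allRange chk12 136040 895 = true := by decide +kernel
theorem c_p12_153 : allRange chk12 136935 895 = true := by decide +kernel
theorem c_p12_154 : allRange chk12 137830 895 = true := by decide +kernel
theorem c_p12_155 : allRange chk12 138725 895 = true := by decide +kernel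
theorem c_p12_156 : allRange chk12 139620 895 = true := by decide +kernel
theorem c_p12_157 : allRange chk12 140515 895 = true := by decide +kernel
theorem c_p12_158 : allRange chk12 141410 895 = true := by decide +kernel
theorem c_p12_159 : allRange chk12 142305 895 = true := by decide +kernel
theorem c_p12_160 : allRange chk12 143200 895 = true := by decide +kernel
theorem c_p12_161 : allRange chk12 144095 895 = true := by decide +kernel
theorem c_p12_162 : allRange chk12 144990 895 = true := by decide +kernel
theorem c_p12_163 : allRange chk12 145885 895 = true := by decide +kernel
theorem c_p12_164 : allRange chk12 146780 895 = true := by decide +kernel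
theorem c_p12_165 : allRange chk12 147675 895 = true := by decide +kernel
theorem c_p12_166 : allRange chk12 148570 895 = true := by decide +kernel
theorem c_p12_167 : allRange chk12 149465 895 = true := by decide +kernel
theorem c_p12_168 : allRange chk12 150360 895 = true := by decide +kernel
theorem c_p12_169 : allRange chk12 151255 895 = true := by decide +kernel
theorem c_p12_170 : allRange chk12 152150 895 = true := by decide +kernel
theorem c_p12_171 : allRange chk12 153045 895 = true := by decide +kernel
theorem c_p12_172 : allRange chk12 153940 895 = true := by decide +kernel
theorem c_p12_173 : allRange chk12 154835 895 = true := by decide +kernel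
theorem c_p12_174 : allRange chk12 155730 895 = true := by decide +kernel
theorem c_p12_175 : allRange chk12 156625 895 = true := by decide +kernel
theorem c_p12_176 : allRange chk12 157520 895 = true := by decide +kernel
theorem c_p12_177 : allRange chk12 158415 895 = true := by decide +kernel
theorem c_p12_178 : allRange chk12 159310 895 = true := by decide +kernel
theorem c_p12_179 : allRange chk12 160205 895 = true := by decide +kernel
theorem c_p12_180 : allRange chk12 161100 895 = true := by decide +kernel
theorem c_p12_181 : allRange chk12 161995 895 = true := by decide +kernel
theorem c_p12_182 : allRange chk12 162890 895 = true := by decide +kernel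
theorem c_p12_183 : allRange chk12 163785 895 = true := by decide +kernel
theorem c_p12_184 : allRange chk12 164680 895 = true := by decide +kernel
theorem c_p12_185 : allRange chk12 165575 895 = true := by decide +kernel
theorem c_p12_186 : allRange chk12 166470 895 = true := by decide +kernel
theorem c_p12_187 : allRange chk12 167365 895 = true := by decide +kernel
theorem c_p12_188 : allRange chk12 168260 895 = true := by decide +kernel
theorem c_p12_189 : allRange chk12 169155 895 = true := by decide +kernel
theorem c_p12_190 : allRange chk12 170050 895 = true := by decide +kernel
theorem c_p12_191 : allRange chk12 170945 895 = true := by decide +kernel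
theorem c_p12_192 : allRange chk12 171840 895 = true := by decide +kernel
theorem c_p12_193 : allRange chk12 172735 895 = true := by decide +kernel
theorem c_p12_194 : allRange chk12 173630 895 = true := by decide +kernel
theorem c_p12_195 : allRange chk12 174525 895 = true := by decide +kernel
theorem c_p12_196 : allRange chk12 175420 895 = true := by decide +kernel
theorem c_p12_197 : allRange chk12 176315 895 = true := by decide +kernel
theorem c_p12_198 : allRange chk12 177210 895 = true := by decide +kernel
theorem c_p12_199 : allRange chk12 178105 895 = true := by decide +kernel

end Cfsg.Agent.Lib.Helper4.TCD.Fi24L
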