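import Cfsg.Agent.Lib.Helper4.TCD_Fi24L_Acc

namespace Cfsg.Agent.Lib.Helper4.TCD.Fi24L

open Cfsg.Agent.Lib.Helper4.TC Cfsg.Agent.Lib.Helper4.TCD.Fi24a

set_option maxRecDepth 100000
set_option Elab.async false

theorem c_p22_17 : allRange chk22 127500 7500 = true := by decide +kernel
theorem c_p22_18 : allRange chk22 135000 7500 = true := by decide +kernel
theorem c_p22_19 : allRange chk22 142500 7500 = true := by decide +kernel
theorem c_p22_20 : allRange chk22 150000 7500 = true := by decide +kernel
theorem c_p22_21 : allRange chk22 157500 7500 = true := by decide +kernel
theorem c_p22_22 : allRange chk22 165000 7500 = true := by decide +kernel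
theorem c_p22_23 : allRange chk22 172500 7500 = true := by decide +kernel
theorem c_p22_24 : allRange chk22 180000 7500 = true := by decide +kernel
theorem c_p22_25 : allRange chk22 187500 7500 = true := by decide +kernel
theorem c_p22_26 : allRange chk22 195000 7500 = true := by decide +kernel
theorem c_p22_27 : allRange chk22 202500 7500 = true := by decide +kernel
theorem c_p22_28 : allRange chk22 210000 7500 = true := by decide +kernel
theorem c_p22_29 : allRange chk22 217500 7500 = true := by decide +kernel
theorem c_p22_30 : allRange chk22 225000 7500 = true := by decide +kernel
theorem c_p22_31 : allRange chk22 232500 7500 = true := by decide +kernel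
theorem c_p22_32 : allRange chk22 240000 7500 = true := by decide +kernel
theorem c_p22_33 : allRange chk22 247500 7500 = true := by decide +kernel
theorem c_p22_34 : allRange chk22 255000 7500 = true := by decide +kernel
theorem c_p22_35 : allRange chk22 262500 7500 = true := by decide +kernel
theorem c_p22_36 : allRange chk22 270000 7500 = true := by decide +kernel
theorem c_p22_37 : allRange chk22 277500 7500 = true := by decide +kernel
theorem c_p22_38 : allRange chk22 285000 7500 = true := by decide +kernel
theorem c_p22_39 : allRange chk22 292500 7500 = true := by decide +kernel
theorem c_p22_40 : allRange chk22 300000 6936 = true := by decide +kernel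
theorem c_p23_0 : allRange chk23 0 7500 = true := by decide +kernel
theorem c_p23_1 : allRange chk23 7500 7500 = true := by decide +kernel
theorem c_p23_2 : allRange chk23 15000 7500 = true := by decide +kernel
theorem c_p23_3 : allRange chk23 22500 7500 = true := by decide +kernel
theorem c_p23_4 : allRange chk23 30000 7500 = true := by decide +kernel
theorem c_p23_5 : allRange chk23 37500 7500 = true := by decide +kernel
theorem c_p23_6 : allRange chk23 45000 7500 = true := by decide +kernel
theorem c_p23_7 : allRange chk23 52500 7500 = true := by decide +kernel
theorem c_p23_8 : allRange chk23 60000 7500 = true := by decide +kernel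
theorem c_p23_9 : allRange chk23 67500 7500 = true := by decide +kernel
theorem c_p23_10 : allRange chk23 75000 7500 = true := by decide +kernel
theorem c_p23_11 : allRange chk23 82500 7500 = true := by decide +kernel
theorem c_p23_12 : allRange chk23 90000 7500 = true := by decide +kernel
theorem c_p23_13 : allRange chk23 97500 7500 = true := by decide +kernel
theorem c_p23_14 : allRange chk23 105000 7500 = true := by decide +kernel
theorem c_p23_15 : allRange chk23 112500 7500 = true := by decide +kernel
theorem c_p23_16 : allRange chk23 120000 7500 = true := by decide +kernel
theorem c_p23_17 : allRange chk23 127500 7500 = true := by decide +kernel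
theorem c_p23_18 : allRange chk23 135000 7500 = true := by decide +kernel
theorem c_p23_19 : allRange chk23 142500 7500 = true := by decide +kernel
theorem c_p23_20 : allRange chk23 150000 7500 = true := by decide +kernel
theorem c_p23_21 : allRange chk23 157500 7500 = true := by decide +kernel
theorem c_p23_22 : allRange chk23 165000 7500 = true := by decide +kernel
theorem c_p23_23 : allRange chk23 172500 7500 = true := by decide +kernel
theorem c_p23_24 : allRange chk23 180000 7500 = true := by decide +kernel
theorem c_p23_25 : allRange chk23 187500 7500 = true := by decide +kernel

end Cfsg.Agent.Lib.Helper4.TCD.Fi24L
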