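import Cfsg.Agent.Lib.Helper4.TCD_Fi24L_Acc

namespace Cfsg.Agent.Lib.Helper4.TCD.Fi24L

open Cfsg.Agent.Lib.Helper4.TC Cfsg.Agent.Lib.Helper4.TCD.Fi24a

set_option maxRecDepth 100000
set_option Elab.async false

theorem c_p23_26 : allRange chk23 195000 7500 = true := by decide +kernel
theorem c_p23_27 : allRange chk23 202500 7500 = true := by decide +kernel
theorem c_p23_28 : allRange chk23 210000 7500 = true := by decide +kernel
theorem c_p23_29 : allRange chk23 217500 7500 = true := by decide +kernel
theorem c_p23_30 : allRange chk23 225000 7500 = true := by decide +kernel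
theorem c_p23_31 : allRange chk23 232500 7500 = true := by decide +kernel
theorem c_p23_32 : allRange chk23 240000 7500 = true := by decide +kernel
theorem c_p23_33 : allRange chk23 247500 7500 = true := by decide +kernel
theorem c_p23_34 : allRange chk23 255000 7500 = true := by decide +kernel
theorem c_p23_35 : allRange chk23 262500 7500 = true := by decide +kernel
theorem c_p23_36 : allRange chk23 270000 7500 = true := by decide +kernel
theorem c_p23_37 : allRange chk23 277500 7500 = true := by decide +kernel
theorem c_p23_38 : allRange chk23 285000 7500 = true := by decide +kernel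
theorem c_p23_39 : allRange chk23 292500 7500 = true := by decide +kernel
theorem c_p23_40 : allRange chk23 300000 6936 = true := by decide +kernel
theorem c_nd0_0 : allRange (S.nodeOK 0) 0 5000 = true := by decide +kernel
theorem c_nd0_1 : allRange (S.nodeOK 0) 5000 5000 = true := by decide +kernel
theorem c_nd0_2 : allRange (S.nodeOK 0) 10000 5000 = true := by decide +kernel
theorem c_nd0_3 : allRange (S.nodeOK 0) 15000 5000 = true := by decide +kernel
theorem c_nd0_4 : allRange (S.nodeOK 0) 20000 5000 = true := by decide +kernel
theorem c_nd0_5 : allRange (S.nodeOK 0) 25000 5000 = true := by decide +kernel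
theorem c_nd0_6 : allRange (S.nodeOK 0) 30000 5000 = true := by decide +kernel
theorem c_nd0_7 : allRange (S.nodeOK 0) 35000 5000 = true := by decide +kernel
theorem c_nd0_8 : allRange (S.nodeOK 0) 40000 5000 = true := by decide +kernel
theorem c_nd0_9 : allRange (S.nodeOK 0) 45000 5000 = true := by decide +kernel
theorem c_nd0_10 : allRange (S.nodeOK 0) 50000 5000 = true := by decide +kernel
theorem c_nd0_11 : allRange (S.nodeOK 0) 55000 5000 = true := by decide +kernel
theorem c_nd0_12 : allRange (S.nodeOK 0) 60000 5000 = true := by decide +kernel
theorem c_nd0_13 : allRange (S.nodeOK 0) 65000 5000 = true := by decide +kernel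
theorem c_nd0_14 : allRange (S.nodeOK 0) 70000 5000 = true := by decide +kernel
theorem c_nd0_15 : allRange (S.nodeOK 0) 75000 5000 = true := by decide +kernel
theorem c_nd0_16 : allRange (S.nodeOK 0) 80000 5000 = true := by decide +kernel
theorem c_nd0_17 : allRange (S.nodeOK 0) 85000 5000 = true := by decide +kernel
theorem c_nd0_18 : allRange (S.nodeOK 0) 90000 5000 = true := by decide +kernel
theorem c_nd0_19 : allRange (S.nodeOK 0) 95000 5000 = true := by decide +kernel
theorem c_nd0_20 : allRange (S.nodeOK 0) 100000 5000 = true := by decide +kernel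
theorem c_nd0_21 : allRange (S.nodeOK 0) 105000 5000 = true := by decide +kernel
theorem c_nd0_22 : allRange (S.nodeOK 0) 110000 5000 = true := by decide +kernel
theorem c_nd0_23 : allRange (S.nodeOK 0) 115000 5000 = true := by decide +kernel
theorem c_nd0_24 : allRange (S.nodeOK 0) 120000 5000 = true := by decide +kernel
theorem c_nd0_25 : allRange (S.nodeOK 0) 125000 5000 = true := by decide +kernel
theorem c_nd0_26 : allRange (S.nodeOK 0) 130000 5000 = true := by decide +kernel
theorem c_nd0_27 : allRange (S.nodeOK 0) 135000 5000 = true := by decide +kernel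
theorem c_nd0_28 : allRange (S.nodeOK 0) 140000 5000 = true := by decide +kernel
theorem c_nd0_29 : allRange (S.nodeOK 0) 145000 5000 = true := by decide +kernel
theorem c_nd0_30 : allRange (S.nodeOK 0) 150000 5000 = true := by decide +kernel
theorem c_nd0_31 : allRange (S.nodeOK 0) 155000 5000 = true := by decide +kernel
theorem c_nd0_32 : allRange (S.nodeOK 0) 160000 5000 = true := by decide +kernel
theorem c_nd0_33 : allRange (S.nodeOK 0) 165000 5000 = true := by decide +kernel
theorem c_nd0_34 : allRange (S.nodeOK 0) 170000 5000 = true := by decide +kernel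

end Cfsg.Agent.Lib.Helper4.TCD.Fi24L
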