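import Cfsg.Agent.Lib.Helper4.TCD_Fi24L_Acc

namespace Cfsg.Agent.Lib.Helper4.TCD.Fi24L

open Cfsg.Agent.Lib.Helper4.TC Cfsg.Agent.Lib.Helper4.TCD.Fi24a

set_option maxRecDepth 100000
set_option Elab.async false

theorem c_nd0_35 : allRange (S.nodeOK 0) 175000 5000 = true := by decide +kernel
theorem c_nd0_36 : allRange (S.nodeOK 0) 180000 5000 = true := by decide +kernel
theorem c_nd0_37 : allRange (S.nodeOK 0) 185000 5000 = true := by decide +kernel
theorem c_nd0_38 : allRange (S.nodeOK 0) 190000 5000 = true := by decide +kernel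
theorem c_nd0_39 : allRange (S.nodeOK 0) 195000 5000 = true := by decide +kernel
theorem c_nd0_40 : allRange (S.nodeOK 0) 200000 5000 = true := by decide +kernel
theorem c_nd0_41 : allRange (S.nodeOK 0) 205000 5000 = true := by decide +kernel
theorem c_nd0_42 : allRange (S.nodeOK 0) 210000 5000 = true := by decide +kernel
theorem c_nd0_43 : allRange (S.nodeOK 0) 215000 5000 = true := by decide +kernel
theorem c_nd0_44 : allRange (S.nodeOK 0) 220000 5000 = true := by decide +kernel
theorem c_nd0_45 : allRange (S.nodeOK 0) 225000 5000 = true := by decide +kernel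
theorem c_nd0_46 : allRange (S.nodeOK 0) 230000 5000 = true := by decide +kernel
theorem c_nd0_47 : allRange (S.nodeOK 0) 235000 5000 = true := by decide +kernel
theorem c_nd0_48 : allRange (S.nodeOK 0) 240000 5000 = true := by decide +kernel
theorem c_nd0_49 : allRange (S.nodeOK 0) 245000 5000 = true := by decide +kernel
theorem c_nd0_50 : allRange (S.nodeOK 0) 250000 5000 = true := by decide +kernel
theorem c_nd0_51 : allRange (S.nodeOK 0) 255000 5000 = true := by decide +kernel
theorem c_nd0_52 : allRange (S.nodeOK 0) 260000 5000 = true := by decide +kernel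
theorem c_nd0_53 : allRange (S.nodeOK 0) 265000 5000 = true := by decide +kernel
theorem c_nd0_54 : allRange (S.nodeOK 0) 270000 5000 = true := by decide +kernel
theorem c_nd0_55 : allRange (S.nodeOK 0) 275000 5000 = true := by decide +kernel
theorem c_nd0_56 : allRange (S.nodeOK 0) 280000 5000 = true := by decide +kernel
theorem c_nd0_57 : allRange (S.nodeOK 0) 285000 5000 = true := by decide +kernel
theorem c_nd0_58 : allRange (S.nodeOK 0) 290000 5000 = true := by decide +kernel
theorem c_nd0_59 : allRange (S.nodeOK 0) 295000 5000 = true := by decide +kernel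
theorem c_nd0_60 : allRange (S.nodeOK 0) 300000 5000 = true := by decide +kernel
theorem c_nd0_61 : allRange (S.nodeOK 0) 305000 1936 = true := by decide +kernel
theorem c_nd1_0 : allRange (S.nodeOK 1) 0 5000 = true := by decide +kernel
theorem c_nd1_1 : allRange (S.nodeOK 1) 5000 5000 = true := by decide +kernel
theorem c_nd1_2 : allRange (S.nodeOK 1) 10000 5000 = true := by decide +kernel
theorem c_nd1_3 : allRange (S.nodeOK 1) 15000 5000 = true := by decide +kernel
theorem c_nd1_4 : allRange (S.nodeOK 1) 20000 5000 = true := by decide +kernel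
theorem c_nd1_5 : allRange (S.nodeOK 1) 25000 5000 = true := by decide +kernel
theorem c_nd1_6 : allRange (S.nodeOK 1) 30000 1671 = true := by decide +kernel
theorem c_nd2_0 : allRange (S.nodeOK 2) 0 3510 = true := by decide +kernel
theorem c_nd3_0 : allRange (S.nodeOK 3) 0 5000 = true := by decide +kernel
theorem c_nd3_1 : allRange (S.nodeOK 3) 5000 5000 = true := by decide +kernel
theorem c_nd3_2 : allRange (S.nodeOK 3) 10000 5000 = true := by decide +kernel
theorem c_nd3_3 : allRange (S.nodeOK 3) 15000 5000 = true := by decide +kernel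
theorem c_nd3_4 : allRange (S.nodeOK 3) 20000 5000 = true := by decide +kernel
theorem c_nd3_5 : allRange (S.nodeOK 3) 25000 344 = true := by decide +kernel
theorem c_nd4_0 : allRange (S.nodeOK 4) 0 672 = true := by decide +kernel
theorem c_nd5_0 : allRange (S.nodeOK 5) 0 20 = true := by decide +kernel
theorem c_nd6_0 : allRange (S.nodeOK 6) 0 3 = true := by decide +kernel
theorem c_nd7_0 : allRange (S.nodeOK 7) 0 3 = true := by decide +kernel
theorem c_nd8_0 : allRange (S.nodeOK 8) 0 2 = true := by decide +kernel
theorem c_nd9_0 : allRange (S.nodeOK 9) 0 3 = true := by decide +kernel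
theorem c_nd10_0 : allRange (S.nodeOK 10) 0 2 = true := by decide +kernel
theorem c_nd11_0 : allRange (S.nodeOK 11) 0 2 = true := by decide +kernel

end Cfsg.Agent.Lib.Helper4.TCD.Fi24L
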