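import Cfsg.Agent.Lib.Helper4.TCD_Fi24L_Acc

namespace Cfsg.Agent.Lib.Helper4.TCD.Fi24L

open Cfsg.Agent.Lib.Helper4.TC Cfsg.Agent.Lib.Helper4.TCD.Fi24a

set_option maxRecDepth 100000
set_option Elab.async false

theorem c_p12_200 : allRange chk12 179000 895 = true := by decide +kernel
theorem c_p12_201 : allRange chk12 179895 895 = true := by decide +kernel
theorem c_p12_202 : allRange chk12 180790 895 = true := by decide +kernel
theorem c_p12_203 : allRange chk12 181685 895 = true := by decide +kernel
theorem c_p12_204 : allRange chk12 182580 895 = true := by decide +kernel
theorem c_p12_205 : allRange chk12 183475 895 = true := by decide +kernel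
theorem c_p12_206 : allRange chk12 184370 895 = true := by decide +kernel
theorem c_p12_207 : allRange chk12 185265 895 = true := by decide +kernel
theorem c_p12_208 : allRange chk12 186160 895 = true := by decide +kernel
theorem c_p12_209 : allRange chk12 187055 895 = true := by decide +kernel
theorem c_p12_210 : allRange chk12 187950 895 = true := by decide +kernel
theorem c_p12_211 : allRange chk12 188845 895 = true := by decide +kernel
theorem c_p12_212 : allRange chk12 189740 895 = true := by decide +kernel
theorem c_p12_213 : allRange chk12 190635 895 = true := by decide +kernel
theorem c_p12_214 : allRange chk12 191530 895 = true := by decide +kernel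
theorem c_p12_215 : allRange chk12 192425 895 = true := by decide +kernel
theorem c_p12_216 : allRange chk12 193320 895 = true := by decide +kernel
theorem c_p12_217 : allRange chk12 194215 895 = true := by decide +kernel
theorem c_p12_218 : allRange chk12 195110 895 = true := by decide +kernel
theorem c_p12_219 : allRange chk12 196005 895 = true := by decide +kernel
theorem c_p12_220 : allRange chk12 196900 895 = true := by decide +kernel
theorem c_p12_221 : allRange chk12 197795 895 = true := by decide +kernel
theorem c_p12_222 : allRange chk12 198690 895 = true := by decide +kernel
theorem c_p12_223 : allRange chk12 199585 895 = true := by decide +kernel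
theorem c_p12_224 : allRange chk12 200480 895 = true := by decide +kernel
theorem c_p12_225 : allRange chk12 201375 895 = true := by decide +kernel
theorem c_p12_226 : allRange chk12 202270 895 = true := by decide +kernel
theorem c_p12_227 : allRange chk12 203165 895 = true := by decide +kernel
theorem c_p12_228 : allRange chk12 204060 895 = true := by decide +kernel
theorem c_p12_229 : allRange chk12 204955 895 = true := by decide +kernel
theorem c_p12_230 : allRange chk12 205850 895 = true := by decide +kernel
theorem c_p12_231 : allRange chk12 206745 895 = true := by decide +kernel
theorem c_p12_232 : allRange chk12 207640 895 = true := by decide +kernel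
theorem c_p12_233 : allRange chk12 208535 895 = true := by decide +kernel
theorem c_p12_234 : allRange chk12 209430 895 = true := by decide +kernel
theorem c_p12_235 : allRange chk12 210325 895 = true := by decide +kernel
theorem c_p12_236 : allRange chk12 211220 895 = true := by decide +kernel
theorem c_p12_237 : allRange chk12 212115 895 = true := by decide +kernel
theorem c_p12_238 : allRange chk12 213010 895 = true := by decide +kernel
theorem c_p12_239 : allRange chk12 213905 895 = true := by decide +kernel
theorem c_p12_240 : allRange chk12 214800 895 = true := by decide +kernel
theorem c_p12_241 : allRange chk12 215695 895 = true := by decide +kernel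
theorem c_p12_242 : allRange chk12 216590 895 = true := by decide +kernel
theorem c_p12_243 : allRange chk12 217485 895 = true := by decide +kernel
theorem c_p12_244 : allRange chk12 218380 895 = true := by decide +kernel
theorem c_p12_245 : allRange chk12 219275 895 = true := by decide +kernel
theorem c_p12_246 : allRange chk12 220170 895 = true := by decide +kernel
theorem c_p12_247 : allRange chk12 221065 895 = true := by decide +kernel
theorem c_p12_248 : allRange chk12 221960 895 = true := by decide +kernel
theorem c_p12_249 : allRange chk12 222855 895 = true := by decide +kernel

end Cfsg.Agent.Lib.Helper4.TCD.Fi24L
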