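import Cfsg.Agent.Lib.Helper4.TCD_Fi24L_Acc

namespace Cfsg.Agent.Lib.Helper4.TCD.Fi24L

open Cfsg.Agent.Lib.Helper4.TC Cfsg.Agent.Lib.Helper4.TCD.Fi24a

set_option maxRecDepth 100000
set_option Elab.async false

theorem c_p12_250 : allRange chk12 223750 895 = true := by decide +kernel
theorem c_p12_251 : allRange chk12 224645 895 = true := by decide +kernel
theorem c_p12_252 : allRange chk12 225540 895 = true := by decide +kernel
theorem c_p12_253 : allRange chk12 226435 895 = true := by decide +kernel
theorem c_p12_254 : allRange chk12 227330 895 = true := by decide +kernel
theorem c_p12_255 : allRange chk12 228225 895 = true := by decide +kernel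
theorem c_p12_256 : allRange chk12 229120 895 = true := by decide +kernel
theorem c_p12_257 : allRange chk12 230015 895 = true := by decide +kernel
theorem c_p12_258 : allRange chk12 230910 895 = true := by decide +kernel
theorem c_p12_259 : allRange chk12 231805 895 = true := by decide +kernel
theorem c_p12_260 : allRange chk12 232700 895 = true := by decide +kernel
theorem c_p12_261 : allRange chk12 233595 895 = true := by decide +kernel
theorem c_p12_262 : allRange chk12 234490 895 = true := by decide +kernel
theorem c_p12_263 : allRange chk12 235385 895 = true := by decide +kernel
theorem c_p12_264 : allRange chk12 236280 895 = true := by decide +kernel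
theorem c_p12_265 : allRange chk12 237175 895 = true := by decide +kernel
theorem c_p12_266 : allRange chk12 238070 895 = true := by decide +kernel
theorem c_p12_267 : allRange chk12 238965 895 = true := by decide +kernel
theorem c_p12_268 : allRange chk12 239860 895 = true := by decide +kernel
theorem c_p12_269 : allRange chk12 240755 895 = true := by decide +kernel
theorem c_p12_270 : allRange chk12 241650 895 = true := by decide +kernel
theorem c_p12_271 : allRange chk12 242545 895 = true := by decide +kernel
theorem c_p12_272 : allRange chk12 243440 895 = true := by decide +kernel
theorem c_p12_273 : allRange chk12 244335 895 = true := by decide +kernel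
theorem c_p12_274 : allRange chk12 245230 895 = true := by decide +kernel
theorem c_p12_275 : allRange chk12 246125 895 = true := by decide +kernel
theorem c_p12_276 : allRange chk12 247020 895 = true := by decide +kernel
theorem c_p12_277 : allRange chk12 247915 895 = true := by decide +kernel
theorem c_p12_278 : allRange chk12 248810 895 = true := by decide +kernel
theorem c_p12_279 : allRange chk12 249705 895 = true := by decide +kernel
theorem c_p12_280 : allRange chk12 250600 895 = true := by decide +kernel
theorem c_p12_281 : allRange chk12 251495 895 = true := by decide +kernel
theorem c_p12_282 : allRange chk12 252390 895 = true := by decide +kernel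
theorem c_p12_283 : allRange chk12 253285 895 = true := by decide +kernel
theorem c_p12_284 : allRange chk12 254180 895 = true := by decide +kernel
theorem c_p12_285 : allRange chk12 255075 895 = true := by decide +kernel
theorem c_p12_286 : allRange chk12 255970 895 = true := by decide +kernel
theorem c_p12_287 : allRange chk12 256865 895 = true := by decide +kernel
theorem c_p12_288 : allRange chk12 257760 895 = true := by decide +kernel
theorem c_p12_289 : allRange chk12 258655 895 = true := by decide +kernel
theorem c_p12_290 : allRange chk12 259550 895 = true := by decide +kernel
theorem c_p12_291 : allRange chk12 260445 895 = true := by decide +kernel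
theorem c_p12_292 : allRange chk12 261340 895 = true := by decide +kernel
theorem c_p12_293 : allRange chk12 262235 895 = true := by decide +kernel
theorem c_p12_294 : allRange chk12 263130 895 = true := by decide +kernel
theorem c_p12_295 : allRange chk12 264025 895 = true := by decide +kernel
theorem c_p12_296 : allRange chk12 264920 895 = true := by decide +kernel
theorem c_p12_297 : allRange chk12 265815 895 = true := by decide +kernel
theorem c_p12_298 : allRange chk12 266710 895 = true := by decide +kernel
theorem c_p12_299 : allRange chk12 267605 895 = true := by decide +kernel

end Cfsg.Agent.Lib.Helper4.TCD.Fi24L
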