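import Cfsg.Agent.Lib.Helper4.TCD_Fi24L_Acc

namespace Cfsg.Agent.Lib.Helper4.TCD.Fi24L

open Cfsg.Agent.Lib.Helper4.TC Cfsg.Agent.Lib.Helper4.TCD.Fi24a

set_option maxRecDepth 100000
set_option Elab.async false

theorem c_p12_300 : allRange chk12 268500 895 = true := by decide +kernel
theorem c_p12_301 : allRange chk12 269395 895 = true := by decide +kernel
theorem c_p12_302 : allRange chk12 270290 895 = true := by decide +kernel
theorem c_p12_303 : allRange chk12 271185 895 = true := by decide +kernel
theorem c_p12_304 : allRange chk12 272080 895 = true := by decide +kernel
theorem c_p12_305 : allRange chk12 272975 895 = true := by decide +kernel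
theorem c_p12_306 : allRange chk12 273870 895 = true := by decide +kernel
theorem c_p12_307 : allRange chk12 274765 895 = true := by decide +kernel
theorem c_p12_308 : allRange chk12 275660 895 = true := by decide +kernel
theorem c_p12_309 : allRange chk12 276555 895 = true := by decide +kernel
theorem c_p12_310 : allRange chk12 277450 895 = true := by decide +kernel
theorem c_p12_311 : allRange chk12 278345 895 = true := by decide +kernel
theorem c_p12_312 : allRange chk12 279240 895 = true := by decide +kernel
theorem c_p12_313 : allRange chk12 280135 895 = true := by decide +kernel
theorem c_p12_314 : allRange chk12 281030 895 = true := by decide +kernel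
theorem c_p12_315 : allRange chk12 281925 895 = true := by decide +kernel
theorem c_p12_316 : allRange chk12 282820 895 = true := by decide +kernel
theorem c_p12_317 : allRange chk12 283715 895 = true := by decide +kernel
theorem c_p12_318 : allRange chk12 284610 895 = true := by decide +kernel
theorem c_p12_319 : allRange chk12 285505 895 = true := by decide +kernel
theorem c_p12_320 : allRange chk12 286400 895 = true := by decide +kernel
theorem c_p12_321 : allRange chk12 287295 895 = true := by decide +kernel
theorem c_p12_322 : allRange chk12 288190 895 = true := by decide +kernel
theorem c_p12_323 : allRange chk12 289085 895 = true := by decide +kernel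
theorem c_p12_324 : allRange chk12 289980 895 = true := by decide +kernel
theorem c_p12_325 : allRange chk12 290875 895 = true := by decide +kernel
theorem c_p12_326 : allRange chk12 291770 895 = true := by decide +kernel
theorem c_p12_327 : allRange chk12 292665 895 = true := by decide +kernel
theorem c_p12_328 : allRange chk12 293560 895 = true := by decide +kernel
theorem c_p12_329 : allRange chk12 294455 895 = true := by decide +kernel
theorem c_p12_330 : allRange chk12 295350 895 = true := by decide +kernel
theorem c_p12_331 : allRange chk12 296245 895 = true := by decide +kernel
theorem c_p12_332 : allRange chk12 297140 895 = true := by decide +kernel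
theorem c_p12_333 : allRange chk12 298035 895 = true := by decide +kernel
theorem c_p12_334 : allRange chk12 298930 895 = true := by decide +kernel
theorem c_p12_335 : allRange chk12 299825 895 = true := by decide +kernel
theorem c_p12_336 : allRange chk12 300720 895 = true := by decide +kernel
theorem c_p12_337 : allRange chk12 301615 895 = true := by decide +kernel
theorem c_p12_338 : allRange chk12 302510 895 = true := by decide +kernel
theorem c_p12_339 : allRange chk12 303405 895 = true := by decide +kernel
theorem c_p12_340 : allRange chk12 304300 895 = true := by decide +kernel
theorem c_p12_341 : allRange chk12 305195 895 = true := by decide +kernel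
theorem c_p12_342 : allRange chk12 306090 846 = true := by decide +kernel
theorem c_p13_0 : allRange chk13 0 2142 = true := by decide +kernel
theorem c_p13_1 : allRange chk13 2142 2142 = true := by decide +kernel
theorem c_p13_2 : allRange chk13 4284 2142 = true := by decide +kernel
theorem c_p13_3 : allRange chk13 6426 2142 = true := by decide +kernel
theorem c_p13_4 : allRange chk13 8568 2142 = true := by decide +kernel
theorem c_p13_5 : allRange chk13 10710 2142 = true := by decide +kernel
theorem c_p13_6 : allRange chk13 12852 2142 = true := by decide +kernel

end Cfsg.Agent.Lib.Helper4.TCD.Fi24L
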