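import Cfsg.Agent.Lib.Helper4.TCD_Fi24L_Acc

namespace Cfsg.Agent.Lib.Helper4.TCD.Fi24L

open Cfsg.Agent.Lib.Helper4.TC Cfsg.Agent.Lib.Helper4.TCD.Fi24a

set_option maxRecDepth 100000
set_option Elab.async false

theorem c_p13_7 : allRange chk13 14994 2142 = true := by decide +kernel
theorem c_p13_8 : allRange chk13 17136 2142 = true := by decide +kernel
theorem c_p13_9 : allRange chk13 19278 2142 = true := by decide +kernel
theorem c_p13_10 : allRange chk13 21420 2142 = true := by decide +kernel
theorem c_p13_11 : allRange chk13 23562 2142 = true := by decide +kernel
theorem c_p13_12 : allRange chk13 25704 2142 = true := by decide +kernel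
theorem c_p13_13 : allRange chk13 27846 2142 = true := by decide +kernel
theorem c_p13_14 : allRange chk13 29988 2142 = true := by decide +kernel
theorem c_p13_15 : allRange chk13 32130 2142 = true := by decide +kernel
theorem c_p13_16 : allRange chk13 34272 2142 = true := by decide +kernel
theorem c_p13_17 : allRange chk13 36414 2142 = true := by decide +kernel
theorem c_p13_18 : allRange chk13 38556 2142 = true := by decide +kernel
theorem c_p13_19 : allRange chk13 40698 2142 = true := by decide +kernel
theorem c_p13_20 : allRange chk13 42840 2142 = true := by decide +kernel
theorem c_p13_21 : allRange chk13 44982 2142 = true := by decide +kernel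
theorem c_p13_22 : allRange chk13 47124 2142 = true := by decide +kernel
theorem c_p13_23 : allRange chk13 49266 2142 = true := by decide +kernel
theorem c_p13_24 : allRange chk13 51408 2142 = true := by decide +kernel
theorem c_p13_25 : allRange chk13 53550 2142 = true := by decide +kernel
theorem c_p13_26 : allRange chk13 55692 2142 = true := by decide +kernel
theorem c_p13_27 : allRange chk13 57834 2142 = true := by decide +kernel
theorem c_p13_28 : allRange chk13 59976 2142 = true := by decide +kernel
theorem c_p13_29 : allRange chk13 62118 2142 = true := by decide +kernel
theorem c_p13_30 : allRange chk13 64260 2142 = true := by decide +kernel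
theorem c_p13_31 : allRange chk13 66402 2142 = true := by decide +kernel
theorem c_p13_32 : allRange chk13 68544 2142 = true := by decide +kernel
theorem c_p13_33 : allRange chk13 70686 2142 = true := by decide +kernel
theorem c_p13_34 : allRange chk13 72828 2142 = true := by decide +kernel
theorem c_p13_35 : allRange chk13 74970 2142 = true := by decide +kernel
theorem c_p13_36 : allRange chk13 77112 2142 = true := by decide +kernel
theorem c_p13_37 : allRange chk13 79254 2142 = true := by decide +kernel
theorem c_p13_38 : allRange chk13 81396 2142 = true := by decide +kernel
theorem c_p13_39 : allRange chk13 83538 2142 = true := by decide +kernel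
theorem c_p13_40 : allRange chk13 85680 2142 = true := by decide +kernel
theorem c_p13_41 : allRange chk13 87822 2142 = true := by decide +kernel
theorem c_p13_42 : allRange chk13 89964 2142 = true := by decide +kernel
theorem c_p13_43 : allRange chk13 92106 2142 = true := by decide +kernel
theorem c_p13_44 : allRange chk13 94248 2142 = true := by decide +kernel
theorem c_p13_45 : allRange chk13 96390 2142 = true := by decide +kernel
theorem c_p13_46 : allRange chk13 98532 2142 = true := by decide +kernel
theorem c_p13_47 : allRange chk13 100674 2142 = true := by decide +kernel
theorem c_p13_48 : allRange chk13 102816 2142 = true := by decide +kernel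
theorem c_p13_49 : allRange chk13 104958 2142 = true := by decide +kernel
theorem c_p13_50 : allRange chk13 107100 2142 = true := by decide +kernel
theorem c_p13_51 : allRange chk13 109242 2142 = true := by decide +kernel
theorem c_p13_52 : allRange chk13 111384 2142 = true := by decide +kernel
theorem c_p13_53 : allRange chk13 113526 2142 = true := by decide +kernel
theorem c_p13_54 : allRange chk13 115668 2142 = true := by decide +kernel
theorem c_p13_55 : allRange chk13 117810 2142 = true := by decide +kernel
theorem c_p13_56 : allRange chk13 119952 2142 = true := by decide +kernel

end Cfsg.Agent.Lib.Helper4.TCD.Fi24L
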