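import Cfsg.Agent.Lib.Helper4.TCD_Fi24L_Acc

namespace Cfsg.Agent.Lib.Helper4.TCD.Fi24L

open Cfsg.Agent.Lib.Helper4.TC Cfsg.Agent.Lib.Helper4.TCD.Fi24a

set_option maxRecDepth 100000
set_option Elab.async false

theorem c_p13_57 : allRange chk13 122094 2142 = true := by decide +kernel
theorem c_p13_58 : allRange chk13 124236 2142 = true := by decide +kernel
theorem c_p13_59 : allRange chk13 126378 2142 = true := by decide +kernel
theorem c_p13_60 : allRange chk13 128520 2142 = true := by decide +kernel
theorem c_p13_61 : allRange chk13 130662 2142 = true := by decide +kernel
theorem c_p13_62 : allRange chk13 132804 2142 = true := by decide +kernel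
theorem c_p13_63 : allRange chk13 134946 2142 = true := by decide +kernel
theorem c_p13_64 : allRange chk13 137088 2142 = true := by decide +kernel
theorem c_p13_65 : allRange chk13 139230 2142 = true := by decide +kernel
theorem c_p13_66 : allRange chk13 141372 2142 = true := by decide +kernel
theorem c_p13_67 : allRange chk13 143514 2142 = true := by decide +kernel
theorem c_p13_68 : allRange chk13 145656 2142 = true := by decide +kernel
theorem c_p13_69 : allRange chk13 147798 2142 = true := by decide +kernel
theorem c_p13_70 : allRange chk13 149940 2142 = true := by decide +kernel
theorem c_p13_71 : allRange chk13 152082 2142 = true := by decide +kernel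
theorem c_p13_72 : allRange chk13 154224 2142 = true := by decide +kernel
theorem c_p13_73 : allRange chk13 156366 2142 = true := by decide +kernel
theorem c_p13_74 : allRange chk13 158508 2142 = true := by decide +kernel
theorem c_p13_75 : allRange chk13 160650 2142 = true := by decide +kernel
theorem c_p13_76 : allRange chk13 162792 2142 = true := by decide +kernel
theorem c_p13_77 : allRange chk13 164934 2142 = true := by decide +kernel
theorem c_p13_78 : allRange chk13 167076 2142 = true := by decide +kernel
theorem c_p13_79 : allRange chk13 169218 2142 = true := by decide +kernel
theorem c_p13_80 : allRange chk13 171360 2142 = true := by decide +kernel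
theorem c_p13_81 : allRange chk13 173502 2142 = true := by decide +kernel
theorem c_p13_82 : allRange chk13 175644 2142 = true := by decide +kernel
theorem c_p13_83 : allRange chk13 177786 2142 = true := by decide +kernel
theorem c_p13_84 : allRange chk13 179928 2142 = true := by decide +kernel
theorem c_p13_85 : allRange chk13 182070 2142 = true := by decide +kernel
theorem c_p13_86 : allRange chk13 184212 2142 = true := by decide +kernel
theorem c_p13_87 : allRange chk13 186354 2142 = true := by decide +kernel
theorem c_p13_88 : allRange chk13 188496 2142 = true := by decide +kernel
theorem c_p13_89 : allRange chk13 190638 2142 = true := by decide +kernel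
theorem c_p13_90 : allRange chk13 192780 2142 = true := by decide +kernel
theorem c_p13_91 : allRange chk13 194922 2142 = true := by decide +kernel
theorem c_p13_92 : allRange chk13 197064 2142 = true := by decide +kernel
theorem c_p13_93 : allRange chk13 199206 2142 = true := by decide +kernel
theorem c_p13_94 : allRange chk13 201348 2142 = true := by decide +kernel
theorem c_p13_95 : allRange chk13 203490 2142 = true := by decide +kernel
theorem c_p13_96 : allRange chk13 205632 2142 = true := by decide +kernel
theorem c_p13_97 : allRange chk13 207774 2142 = true := by decide +kernel
theorem c_p13_98 : allRange chk13 209916 2142 = true := by decide +kernel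
theorem c_p13_99 : allRange chk13 212058 2142 = true := by decide +kernel
theorem c_p13_100 : allRange chk13 214200 2142 = true := by decide +kernel
theorem c_p13_101 : allRange chk13 216342 2142 = true := by decide +kernel
theorem c_p13_102 : allRange chk13 218484 2142 = true := by decide +kernel
theorem c_p13_103 : allRange chk13 220626 2142 = true := by decide +kernel
theorem c_p13_104 : allRange chk13 222768 2142 = true := by decide +kernel
theorem c_p13_105 : allRange chk13 224910 2142 = true := by decide +kernel
theorem c_p13_106 : allRange chk13 227052 2142 = true := by decide +kernel

end Cfsg.Agent.Lib.Helper4.TCD.Fi24L
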