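import Cfsg.Agent.Lib.Helper4.TCD_Fi24L_Acc

namespace Cfsg.Agent.Lib.Helper4.TCD.Fi24L

open Cfsg.Agent.Lib.Helper4.TC Cfsg.Agent.Lib.Helper4.TCD.Fi24a

set_option maxRecDepth 100000
set_option Elab.async false

theorem c_p13_107 : allRange chk13 229194 2142 = true := by decide +kernel
theorem c_p13_108 : allRange chk13 231336 2142 = true := by decide +kernel
theorem c_p13_109 : allRange chk13 233478 2142 = true := by decide +kernel
theorem c_p13_110 : allRange chk13 235620 2142 = true := by decide +kernel
theorem c_p13_111 : allRange chk13 237762 2142 = true := by decide +kernel
theorem c_p13_112 : allRange chk13 239904 2142 = true := by decide +kernel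
theorem c_p13_113 : allRange chk13 242046 2142 = true := by decide +kernel
theorem c_p13_114 : allRange chk13 244188 2142 = true := by decide +kernel
theorem c_p13_115 : allRange chk13 246330 2142 = true := by decide +kernel
theorem c_p13_116 : allRange chk13 248472 2142 = true := by decide +kernel
theorem c_p13_117 : allRange chk13 250614 2142 = true := by decide +kernel
theorem c_p13_118 : allRange chk13 252756 2142 = true := by decide +kernel
theorem c_p13_119 : allRange chk13 254898 2142 = true := by decide +kernel
theorem c_p13_120 : allRange chk13 257040 2142 = true := by decide +kernel
theorem c_p13_121 : allRange chk13 259182 2142 = true := by decide +kernel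
theorem c_p13_122 : allRange chk13 261324 2142 = true := by decide +kernel
theorem c_p13_123 : allRange chk13 263466 2142 = true := by decide +kernel
theorem c_p13_124 : allRange chk13 265608 2142 = true := by decide +kernel
theorem c_p13_125 : allRange chk13 267750 2142 = true := by decide +kernel
theorem c_p13_126 : allRange chk13 269892 2142 = true := by decide +kernel
theorem c_p13_127 : allRange chk13 272034 2142 = true := by decide +kernel
theorem c_p13_128 : allRange chk13 274176 2142 = true := by decide +kernel
theorem c_p13_129 : allRange chk13 276318 2142 = true := by decide +kernel
theorem c_p13_130 : allRange chk13 278460 2142 = true := by decide +kernel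
theorem c_p13_131 : allRange chk13 280602 2142 = true := by decide +kernel
theorem c_p13_132 : allRange chk13 282744 2142 = true := by decide +kernel
theorem c_p13_133 : allRange chk13 284886 2142 = true := by decide +kernel
theorem c_p13_134 : allRange chk13 287028 2142 = true := by decide +kernel
theorem c_p13_135 : allRange chk13 289170 2142 = true := by decide +kernel
theorem c_p13_136 : allRange chk13 291312 2142 = true := by decide +kernel
theorem c_p13_137 : allRange chk13 293454 2142 = true := by decide +kernel
theorem c_p13_138 : allRange chk13 295596 2142 = true := by decide +kernel
theorem c_p13_139 : allRange chk13 297738 2142 = true := by decide +kernel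
theorem c_p13_140 : allRange chk13 299880 2142 = true := by decide +kernel
theorem c_p13_141 : allRange chk13 302022 2142 = true := by decide +kernel
theorem c_p13_142 : allRange chk13 304164 2142 = true := by decide +kernel
theorem c_p13_143 : allRange chk13 306306 630 = true := by decide +kernel
theorem c_p14_0 : allRange chk14 0 1578 = true := by decide +kernel
theorem c_p14_1 : allRange chk14 1578 1578 = true := by decide +kernel
theorem c_p14_2 : allRange chk14 3156 1578 = true := by decide +kernel
theorem c_p14_3 : allRange chk14 4734 1578 = true := by decide +kernel
theorem c_p14_4 : allRange chk14 6312 1578 = true := by decide +kernel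
theorem c_p14_5 : allRange chk14 7890 1578 = true := by decide +kernel
theorem c_p14_6 : allRange chk14 9468 1578 = true := by decide +kernel
theorem c_p14_7 : allRange chk14 11046 1578 = true := by decide +kernel
theorem c_p14_8 : allRange chk14 12624 1578 = true := by decide +kernel
theorem c_p14_9 : allRange chk14 14202 1578 = true := by decide +kernel
theorem c_p14_10 : allRange chk14 15780 1578 = true := by decide +kernel
theorem c_p14_11 : allRange chk14 17358 1578 = true := by decide +kernel
theorem c_p14_12 : allRange chk14 18936 1578 = true := by decide +kernel

end Cfsg.Agent.Lib.Helper4.TCD.Fi24L
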